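import Groth.Statements.S19394
import Mathlib
-- import your own Groth.Agent.* helpers here

set_option autoImplicit false
universe u
open InvQ

namespace Groth.Agent.S19394

open Matrix

section
variable {k : Type u} [Field k] {n : ℕ}

/-- The projector onto an `S`-stable complement of `ker N`. -/
theorem exists_projector (S N : Matrix (Fin n) (Fin n) k)
    (hS : Module.End.IsSemisimple (Matrix.toLin' S)) (hSN : Commute S N) :
    ∃ P : Matrix (Fin n) (Fin n) k, P * P = P ∧ P * S = S * P ∧ N * (1 - P) = 0 ∧
      ∀ M : Matrix (Fin n) (Fin n) k, N * M = 0 → P * M = 0 := by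
  set K : Submodule k (Fin n → k) := LinearMap.ker (Matrix.toLin' N) with hK
  have hKinv : K ∈ Module.End.invtSubmodule (Matrix.toLin' S) := by
    rw [Module.End.mem_invtSubmodule]
    intro v hv
    rw [Submodule.mem_comap, hK, LinearMap.mem_ker] at *
    have : Matrix.toLin' N (Matrix.toLin' S v) = Matrix.toLin' S (Matrix.toLin' N v) := by
      rw [← LinearMap.comp_apply, ← LinearMap.comp_apply, ← Matrix.toLin'_mul, ← Matrix.toLin'_mul,
        hSN.eq]
    rw [this, hv, map_zero]
  obtain ⟨q, hq, hcompl⟩ := (Module.End.isSemisimple_iff.mp hS) K hKinv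
  set Pl : (Fin n → k) →ₗ[k] (Fin n → k) := q.projection K hcompl.symm with hPl
  have hidem : IsIdempotentElem Pl := Submodule.isIdempotentElem_projection hcompl.symm
  have hker : LinearMap.ker Pl = K := Submodule.ker_projection hcompl.symm
  have hrange : LinearMap.range Pl = q := Submodule.range_projection hcompl.symm
  have hcomm : Commute Pl (Matrix.toLin' S) := by
    rw [LinearMap.IsIdempotentElem.commute_iff hidem, hker, hrange]
    exact ⟨hq, hKinv⟩
  refine ⟨LinearMap.toMatrix' Pl, ?_, ?_, ?_, ?_⟩
  · rw [← LinearMap.toMatrix'_mul, hidem.eq]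
  · apply Matrix.toLin'.injective
    rw [Matrix.toLin'_mul, Matrix.toLin'_mul, Matrix.toLin'_toMatrix']
    exact hcomm.eq
  · apply Matrix.toLin'.injective
    rw [Matrix.toLin'_mul, map_sub, Matrix.toLin'_one, Matrix.toLin'_toMatrix', map_zero]
    refine LinearMap.ext fun v => ?_
    rw [LinearMap.comp_apply, LinearMap.zero_apply, LinearMap.sub_apply, LinearMap.id_apply]
    have : v - Pl v ∈ K := Submodule.sub_projection_mem hcompl.symm v
    rwa [hK, LinearMap.mem_ker] at this
  · intro M hM
    apply Matrix.toLin'.injective
    rw [Matrix.toLin'_mul, Matrix.toLin'_toMatrix', map_zero]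
    refine LinearMap.ext fun v => ?_
    rw [LinearMap.comp_apply, LinearMap.zero_apply]
    have h1 : Matrix.toLin' M v ∈ K := by
      rw [hK, LinearMap.mem_ker, ← LinearMap.comp_apply, ← Matrix.toLin'_mul, hM, map_zero,
        LinearMap.zero_apply]
    rw [← hker, LinearMap.mem_ker] at h1
    exact h1

theorem eval_aeval_poly (F : MvPolynomial (Fin n × Fin n) k)
    (C₀ C₁ : Matrix (Fin n) (Fin n) k) (t : k) :
    Polynomial.eval t (MvPolynomial.aeval
      (fun p : Fin n × Fin n => Polynomial.C (C₀ p.1 p.2) + Polynomial.X * Polynomial.C (C₁ p.1 p.2)) F) =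
    MvPolynomial.eval (fun p => (C₀ + t • C₁) p.1 p.2) F := by
  induction F using MvPolynomial.induction_on with
  | C a => simp
  | add p q hp hq => rw [map_add, map_add, Polynomial.eval_add, hp, hq]
  | mul_X p i hp =>
    rw [map_mul, map_mul, Polynomial.eval_mul, hp, MvPolynomial.aeval_X, MvPolynomial.eval_X]
    congr 1
    rw [Polynomial.eval_add, Polynomial.eval_C, Polynomial.eval_mul, Polynomial.eval_X,
      Polynomial.eval_C, Matrix.add_apply, Matrix.smul_apply, smul_eq_mul]

theorem key (S : Matrix (Fin n) (Fin n) k) [Infinite k]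
    (hS : Module.End.IsSemisimple (Matrix.toLin' S)) (F : MvPolynomial (Fin n × Fin n) k) :
    ∀ (r : ℕ) (N : Matrix (Fin n) (Fin n) k), N ^ r = 0 → Commute S N →
      (∀ A : Matrix (Fin n) (Fin n) k, IsUnit A.det →
        MvPolynomial.eval (fun p => (A * (S + N) * A⁻¹) p.1 p.2) F = 0) →
      MvPolynomial.eval (fun p => S p.1 p.2) F = 0 := by
  intro r
  induction r with
  | zero =>
    intro N hN _ hF
    rw [pow_zero] at hN
    have hsub : ∀ M M' : Matrix (Fin n) (Fin n) k, M = M' := by
      intro M M'
      rw [← mul_one M, ← mul_one M', hN, mul_zero, mul_zero]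
    have := hF 1 (by simp)
    rwa [hsub (1 * (S + N) * 1⁻¹) S] at this
  | succ r ih =>
    intro N hN hSN hF
    rcases Nat.eq_zero_or_pos r with rfl | hr
    · rw [zero_add, pow_one] at hN
      have := hF 1 (by simp)
      rwa [hN, add_zero, one_mul, inv_one, mul_one] at this
    obtain ⟨P, hPP, hPS, hNQ, hPM⟩ := exists_projector S N hS hSN
    -- N' = P N P
    have hNjQ : ∀ j : ℕ, 1 ≤ j → N ^ j * (1 - P) = 0 := by
      intro j hj
      obtain ⟨j', rfl⟩ : ∃ j', j = j' + 1 := ⟨j - 1, by omega⟩
      rw [pow_succ, mul_assoc, hNQ, mul_zero]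
    have hpow : ∀ j : ℕ, 1 ≤ j → (P * N * P) ^ j = P * N ^ j * P := by
      intro j hj
      induction j with
      | zero => omega
      | succ j ihj =>
        rcases Nat.eq_zero_or_pos j with rfl | hj'
        · simp
        · rw [pow_succ, ihj hj']
          have h1 : N ^ j * P = N ^ j := by
            have := hNjQ j hj'
            rw [mul_sub, mul_one, sub_eq_zero] at this
            exact this.symm
          calc P * N ^ j * P * (P * N * P) = P * (N ^ j * P) * (P * N * P) := by simp only [mul_assoc]
            _ = P * N ^ j * (P * N * P) := by rw [h1]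
            _ = P * (N ^ j * P) * N * P := by simp only [mul_assoc]
            _ = P * N ^ (j + 1) * P := by rw [h1, pow_succ]; simp only [mul_assoc]
    have hN'r : (P * N * P) ^ r = 0 := by
      rw [hpow r hr]
      have : P * N ^ r = 0 := hPM _ (by rw [← pow_succ', hN])
      rw [this, zero_mul]
    have hSN' : Commute S (P * N * P) := by
      show S * (P * N * P) = P * N * P * S
      calc S * (P * N * P) = (S * P) * N * P := by simp only [mul_assoc]
        _ = P * (S * N) * P := by rw [← hPS]; simp only [mul_assoc]
        _ = P * N * (S * P) := by rw [hSN.eq]; simp only [mul_assoc]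
        _ = P * N * P * S := by rw [← hPS]; simp only [mul_assoc]
    apply ih (P * N * P) hN'r hSN'
    intro A hA
    -- polynomial argument
    set C₀ := A * (S + P * N * P) * A⁻¹ with hC₀
    set C₁ := A * ((1 - P) * N * P) * A⁻¹ with hC₁
    set g : Polynomial k := MvPolynomial.aeval
      (fun p : Fin n × Fin n => Polynomial.C (C₀ p.1 p.2) + Polynomial.X * Polynomial.C (C₁ p.1 p.2)) F
      with hg
    have hroot : ∀ t : k, t ≠ 0 → g.eval t = 0 := by
      intro t ht
      rw [hg, eval_aeval_poly]
      -- the conjugating matrix
      set At := (1 - P) + t⁻¹ • P with hAt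
      set At' := (1 - P) + t • P with hAt'
      have hQP : (1 - P) * P = 0 := by rw [sub_mul, one_mul, hPP, sub_self]
      have hPQ : P * (1 - P) = 0 := by rw [mul_sub, mul_one, hPP, sub_self]
      have hQQ : (1 - P) * (1 - P) = 1 - P := by
        rw [mul_sub, mul_one, hQP, sub_zero]
      have h1 : At * At' = 1 := by
        rw [hAt, hAt', add_mul, mul_add, mul_add, hQQ, Matrix.mul_smul, Matrix.smul_mul,
          Matrix.smul_mul, Matrix.mul_smul, hQP, hPQ, hPP, smul_zero, smul_zero, add_zero, zero_add,
          smul_smul, inv_mul_cancel₀ ht, one_smul, sub_add_cancel]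
      have hAtinv : At⁻¹ = At' := Matrix.inv_eq_right_inv h1
      have hAtdet : IsUnit At.det := by
        have := congrArg Matrix.det h1
        rw [Matrix.det_mul, Matrix.det_one] at this
        exact IsUnit.of_mul_eq_one _ this
      have hdet : IsUnit (A * At).det := by
        rw [Matrix.det_mul]; exact hA.mul hAtdet
      have hconj : At * (S + N) * At' = S + P * N * P + t • ((1 - P) * N * P) := by
        have hSQ : (1 - P) * S = S * (1 - P) := by
          rw [sub_mul, mul_sub, one_mul, mul_one, hPS]
        have e1 : At * S * At' = S := by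
          have : At * S = S * At := by
            rw [hAt, add_mul, mul_add, hSQ, Matrix.smul_mul, Matrix.mul_smul, hPS]
          rw [this, mul_assoc, h1, mul_one]
        have e2 : N * At' = t • (N * P) := by
          rw [hAt', mul_add, hNQ, zero_add, Matrix.mul_smul]
        have e3 : At * N * At' = P * N * P + t • ((1 - P) * N * P) := by
          rw [mul_assoc, e2, hAt, Matrix.mul_smul, add_mul, Matrix.smul_mul, smul_add, smul_smul,
            mul_inv_cancel₀ ht, one_smul, add_comm]
          simp only [mul_assoc]
        have e0 : At * (S + N) * At' = At * S * At' + At * N * At' := by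
          rw [Matrix.mul_add At S N, Matrix.add_mul (At * S) (At * N) At']
        rw [e0, e1, e3, add_assoc]
      have := hF (A * At) hdet
      rw [Matrix.mul_inv_rev, hAtinv] at this
      have hrew : A * At * (S + N) * (At' * A⁻¹) = C₀ + t • C₁ := by
        rw [hC₀, hC₁]
        calc A * At * (S + N) * (At' * A⁻¹) = A * (At * (S + N) * At') * A⁻¹ := by
              simp only [mul_assoc]
          _ = A * (S + P * N * P + t • ((1 - P) * N * P)) * A⁻¹ := by rw [hconj]
          _ = _ := by
              rw [mul_add, add_mul, Matrix.mul_smul, Matrix.smul_mul]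
      rw [hrew] at this
      exact this
    have hg0 : g = 0 := by
      apply Polynomial.eq_zero_of_infinite_isRoot
      have hinf : ({t : k | t ≠ 0} : Set k).Infinite := by
        have : ({t : k | t ≠ 0} : Set k) = Set.univ \ {0} := by
          ext t; simp
        rw [this]
        exact Set.infinite_univ.sdiff (Set.finite_singleton 0)
      exact hinf.mono fun t ht => hroot t ht
    have h0 : g.eval 0 = 0 := by rw [hg0, Polynomial.eval_zero]
    rw [hg, eval_aeval_poly, zero_smul, add_zero] at h0
    exact h0
end

/-- Over an algebraically closed field, the semisimple part of a square matrix B lies in the Zariski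
closure of the orbit of B under conjugation by the general linear group. The semisimple part is
given as S with B = S + N, S semisimple, N nilpotent and SN = NS; membership in the Zariski closure
is spelled out as: every polynomial in the n² matrix entries vanishing at all conjugates A B A⁻¹ (A
invertible) vanishes at S. -/
theorem result (k : Type u) [Field k] [IsAlgClosed k] (n : ℕ)
    (B S N : Matrix (Fin n) (Fin n) k) (hS : Module.End.IsSemisimple (Matrix.toLin' S))
    (hN : IsNilpotent N) (hSN : Commute S N) (hB : B = S + N)
    (F : MvPolynomial (Fin n × Fin n) k)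
    (hF : ∀ A : Matrix (Fin n) (Fin n) k, IsUnit A.det →
      MvPolynomial.eval (fun p => (A * B * A⁻¹) p.1 p.2) F = 0) :
    MvPolynomial.eval (fun p => S p.1 p.2) F = 0 := by
  obtain ⟨r, hr⟩ := hN
  subst hB
  have : Infinite k := IsAlgClosed.instInfinite
  exact key S hS F r N hr hSN hF

end Groth.Agent.S19394
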