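import Groth.Statements.S19395
import Mathlib
import Groth.Agent.S19394
-- import your own Groth.Agent.* helpers here

set_option autoImplicit false
universe u
open InvQ

namespace Groth.Agent.S19395

open Matrix Module

section
variable {k : Type u} [Field k] {n : ℕ}

theorem eval_univ_coeff (Y : Matrix (Fin n) (Fin n) k) (i : ℕ) :
    MvPolynomial.eval (fun p : Fin n × Fin n => Y p.1 p.2)
      ((Matrix.charpoly.univ k (Fin n)).coeff i) = Y.charpoly.coeff i := by
  have := Matrix.charpoly.univ_coeff_eval₂Hom (Fin n) (RingHom.id k)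
    (fun p : Fin n × Fin n => Y p.1 p.2) i
  exact this

theorem charpoly_conj' (A B : Matrix (Fin n) (Fin n) k) (hA : IsUnit A.det) :
    (A * B * A⁻¹).charpoly = B.charpoly := by
  rw [Matrix.charpoly_mul_comm, ← mul_assoc, Matrix.nonsing_inv_mul _ hA, one_mul]

/-- closure condition implies equal charpoly -/
theorem charpoly_eq_of_closure (B C : Matrix (Fin n) (Fin n) k)
    (h : ∀ F : MvPolynomial (Fin n × Fin n) k,
      (∀ A : Matrix (Fin n) (Fin n) k, IsUnit A.det →
        MvPolynomial.eval (fun p => (A * B * A⁻¹) p.1 p.2) F = 0) →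
      MvPolynomial.eval (fun p => C p.1 p.2) F = 0) : C.charpoly = B.charpoly := by
  ext i
  have := h ((Matrix.charpoly.univ k (Fin n)).coeff i - MvPolynomial.C (B.charpoly.coeff i)) ?_
  · rw [map_sub, eval_univ_coeff, MvPolynomial.eval_C, sub_eq_zero] at this
    exact this
  · intro A hA
    rw [map_sub, eval_univ_coeff, MvPolynomial.eval_C, charpoly_conj' A B hA, sub_self]

theorem exists_conj_of_charpoly_eq {V : Type*} [AddCommGroup V] [Module k V] [FiniteDimensional k V]
    [IsAlgClosed k]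
    (f g : Module.End k V) (hf : f.IsSemisimple) (hg : g.IsSemisimple)
    (h : f.charpoly = g.charpoly) :
    ∃ e : V ≃ₗ[k] V, ∀ v, e (f v) = g (e v) := by
  classical
  have hint : ∀ φ : Module.End k V, φ.IsSemisimple →
      DirectSum.IsInternal (fun μ : k => φ.eigenspace μ) := by
    intro φ hφ
    rw [DirectSum.isInternal_submodule_iff_iSupIndep_and_iSup_eq_top]
    refine ⟨φ.eigenspaces_iSupIndep, ?_⟩
    have := φ.iSup_maxGenEigenspace_eq_top
    simpa [hφ.isFinitelySemisimple.maxGenEigenspace_eq_eigenspace] using this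
  have hdim : ∀ μ, Module.finrank k (f.eigenspace μ) = Module.finrank k (g.eigenspace μ) := by
    intro μ
    rw [← hf.isFinitelySemisimple.maxGenEigenspace_eq_eigenspace,
      ← hg.isFinitelySemisimple.maxGenEigenspace_eq_eigenspace,
      LinearMap.finrank_maxGenEigenspace_eq, LinearMap.finrank_maxGenEigenspace_eq, h]
  let bf : ∀ μ, Basis (Fin (finrank k (f.eigenspace μ))) k (f.eigenspace μ) :=
    fun μ => Module.finBasis k _
  let bg : ∀ μ, Basis (Fin (finrank k (f.eigenspace μ))) k (g.eigenspace μ) :=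
    fun μ => (Module.finBasis k _).reindex (finCongr (hdim μ).symm)
  let Bf := (hint f hf).collectedBasis bf
  let Bg := (hint g hg).collectedBasis bg
  let e := Bf.equiv Bg (Equiv.refl _)
  refine ⟨e, ?_⟩
  have hcomp : (e.toLinearMap ∘ₗ f) = g ∘ₗ e.toLinearMap := by
    apply Bf.ext
    rintro ⟨μ, i⟩
    simp only [LinearMap.comp_apply, LinearEquiv.coe_coe]
    have h1 : f (Bf ⟨μ, i⟩) = μ • Bf ⟨μ, i⟩ := by
      rw [DirectSum.IsInternal.collectedBasis_coe]
      exact Module.End.mem_eigenspace_iff.mp (bf μ i).2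
    have h2 : g (Bg ⟨μ, i⟩) = μ • Bg ⟨μ, i⟩ := by
      rw [DirectSum.IsInternal.collectedBasis_coe]
      exact Module.End.mem_eigenspace_iff.mp (bg μ i).2
    have h3 : e (Bf ⟨μ, i⟩) = Bg ⟨μ, i⟩ := by simp [e]
    rw [h1, map_smul, h3, h2]
  intro v
  exact LinearMap.congr_fun hcomp v

/-- the polynomial `F ∘ Ad(A)` -/
noncomputable def conjPoly (A : Matrix (Fin n) (Fin n) k) (F : MvPolynomial (Fin n × Fin n) k) :
    MvPolynomial (Fin n × Fin n) k :=
  MvPolynomial.bind₁ (fun p : Fin n × Fin n =>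
    ∑ a, ∑ b, MvPolynomial.C (A p.1 a * A⁻¹ b p.2) * MvPolynomial.X (a, b)) F

theorem eval_conjPoly (A Y : Matrix (Fin n) (Fin n) k) (F : MvPolynomial (Fin n × Fin n) k) :
    MvPolynomial.eval (fun p => Y p.1 p.2) (conjPoly A F) =
      MvPolynomial.eval (fun p => (A * Y * A⁻¹) p.1 p.2) F := by
  show MvPolynomial.eval₂Hom (RingHom.id k) _ (MvPolynomial.bind₁ _ F) = _
  rw [MvPolynomial.eval₂Hom_bind₁]
  have hfun : (fun i : Fin n × Fin n => MvPolynomial.eval₂Hom (RingHom.id k) (fun p => Y p.1 p.2)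
      (∑ a, ∑ b, MvPolynomial.C (A i.1 a * A⁻¹ b i.2) * MvPolynomial.X (a, b))) =
      fun p => (A * Y * A⁻¹) p.1 p.2 := by
    funext p
    simp only [MvPolynomial.coe_eval₂Hom, MvPolynomial.eval₂_sum, MvPolynomial.eval₂_mul,
      MvPolynomial.eval₂_C, MvPolynomial.eval₂_X, RingHom.id_apply]
    rw [Matrix.mul_apply]
    simp only [Matrix.mul_apply, Finset.sum_mul]
    rw [Finset.sum_comm]
    refine Finset.sum_congr rfl fun a _ => Finset.sum_congr rfl fun b _ => ?_
    ring
  rw [hfun]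
  rfl

theorem exists_conj_matrix [IsAlgClosed k] (S₁ S₂ : Matrix (Fin n) (Fin n) k)
    (h₁ : Module.End.IsSemisimple (Matrix.toLin' S₁)) (h₂ : Module.End.IsSemisimple (Matrix.toLin' S₂))
    (h : S₁.charpoly = S₂.charpoly)
    (hex : ∀ (f g : Module.End k (Fin n → k)), f.IsSemisimple → g.IsSemisimple →
      f.charpoly = g.charpoly → ∃ e : (Fin n → k) ≃ₗ[k] (Fin n → k), ∀ v, e (f v) = g (e v)) :
    ∃ A : Matrix (Fin n) (Fin n) k, IsUnit A.det ∧ A * S₁ * A⁻¹ = S₂ := by
  obtain ⟨e, he⟩ := hex _ _ h₁ h₂ (by rw [Matrix.charpoly_toLin', Matrix.charpoly_toLin', h])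
  have hdet : IsUnit (LinearMap.toMatrix' e.toLinearMap).det := by
    rw [LinearMap.det_toMatrix']
    exact e.isUnit_det'
  refine ⟨LinearMap.toMatrix' e.toLinearMap, hdet, ?_⟩
  have hcomm : LinearMap.toMatrix' e.toLinearMap * S₁ = S₂ * LinearMap.toMatrix' e.toLinearMap := by
    have h1 : e.toLinearMap ∘ₗ Matrix.toLin' S₁ = Matrix.toLin' S₂ ∘ₗ e.toLinearMap := by
      exact LinearMap.ext fun v => he v
    have h2 := congrArg LinearMap.toMatrix' h1
    rwa [LinearMap.toMatrix'_comp, LinearMap.toMatrix'_comp, LinearMap.toMatrix'_toLin',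
      LinearMap.toMatrix'_toLin'] at h2
  rw [hcomm, mul_assoc, Matrix.mul_nonsing_inv _ hdet, mul_one]

end

/-- Over an algebraically closed field, the Zariski closures of the conjugation orbits of two square
matrices B₁, B₂ meet if and only if their semisimple parts lie in one orbit. The semisimple parts
are given as S_i with B_i = S_i + N_i, S_i semisimple, N_i nilpotent, S_i N_i = N_i S_i; a common
point of the two closures is a matrix C at which every polynomial in the matrix entries vanishing on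
the whole orbit of B₁, and every one vanishing on the whole orbit of B₂, vanishes. -/
theorem result (k : Type u) [Field k] [IsAlgClosed k]
    (n : ℕ) (B₁ S₁ N₁ B₂ S₂ N₂ : Matrix (Fin n) (Fin n) k)
    (hS₁ : Module.End.IsSemisimple (Matrix.toLin' S₁)) (hN₁ : IsNilpotent N₁) (hc₁ : Commute S₁ N₁)
    (hB₁ : B₁ = S₁ + N₁)
    (hS₂ : Module.End.IsSemisimple (Matrix.toLin' S₂)) (hN₂ : IsNilpotent N₂) (hc₂ : Commute S₂ N₂)
    (hB₂ : B₂ = S₂ + N₂) :
    (∃ C : Matrix (Fin n) (Fin n) k,
        (∀ F : MvPolynomial (Fin n × Fin n) k,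
          (∀ A : Matrix (Fin n) (Fin n) k, IsUnit A.det →
            MvPolynomial.eval (fun p => (A * B₁ * A⁻¹) p.1 p.2) F = 0) →
          MvPolynomial.eval (fun p => C p.1 p.2) F = 0) ∧
        (∀ F : MvPolynomial (Fin n × Fin n) k,
          (∀ A : Matrix (Fin n) (Fin n) k, IsUnit A.det →
            MvPolynomial.eval (fun p => (A * B₂ * A⁻¹) p.1 p.2) F = 0) →
          MvPolynomial.eval (fun p => C p.1 p.2) F = 0)) ↔
      ∃ A : Matrix (Fin n) (Fin n) k, IsUnit A.det ∧ A * S₁ * A⁻¹ = S₂ := by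
  have hcl₁ := fun F hF => Groth.Agent.S19394.result k n B₁ S₁ N₁ hS₁ hN₁ hc₁ hB₁ F hF
  have hcl₂ := fun F hF => Groth.Agent.S19394.result k n B₂ S₂ N₂ hS₂ hN₂ hc₂ hB₂ F hF
  constructor
  · rintro ⟨C, hC₁, hC₂⟩
    have e1 : C.charpoly = B₁.charpoly := charpoly_eq_of_closure B₁ C hC₁
    have e2 : C.charpoly = B₂.charpoly := charpoly_eq_of_closure B₂ C hC₂
    have e3 : S₁.charpoly = B₁.charpoly := charpoly_eq_of_closure B₁ S₁ hcl₁
    have e4 : S₂.charpoly = B₂.charpoly := charpoly_eq_of_closure B₂ S₂ hcl₂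
    exact exists_conj_matrix S₁ S₂ hS₁ hS₂ (by rw [e3, e4, ← e1, ← e2])
      (fun f g hf hg h => exists_conj_of_charpoly_eq f g hf hg h)
  · rintro ⟨A, hA, hAS⟩
    refine ⟨S₂, ?_, hcl₂⟩
    intro F hF
    rw [← hAS, ← eval_conjPoly]
    apply hcl₁
    intro A' hA'
    rw [eval_conjPoly]
    have hAA' : IsUnit (A * A').det := by rw [Matrix.det_mul]; exact hA.mul hA'
    have := hF (A * A') hAA'
    rw [Matrix.mul_inv_rev] at this
    simpa [mul_assoc] using this
  

end Groth.Agent.S19395
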