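import Groth.Statements.S19399
import Mathlib.Tactic
-- import your own Groth.Agent.* helpers here

set_option autoImplicit false
universe u
open Curves

namespace Groth.Agent.S19399

/-- Over a field of characteristic different from 2 and 3, the invariant j(λ) = 256 (λ² − λ + 1)³ / (λ²
(λ − 1)²) of the cubic Y²Z = X(X − Z)(X − λZ), λ ≠ 0, 1, takes the same value at λ and μ exactly
when μ is one of the six values λ, 1 − λ, 1/λ, (λ − 1)/λ, λ/(λ − 1), 1/(1 − λ) obtained by
reordering the branch points. This is the step, in the proof of the published corollary (over an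
algebraically closed field, j gives a bijection between the isomorphism classes of elliptic curves
and the elements of the field), that identifies the fibres of λ ↦ j(λ) on the complement of {0, 1};
the bijection itself is not stated here. -/
theorem result (k : Type u) [Field k] (h2 : (2 : k) ≠ 0) (h3 : (3 : k) ≠ 0)
    (s t : k) (hs0 : s ≠ 0) (hs1 : s ≠ 1) (ht0 : t ≠ 0) (ht1 : t ≠ 1) :
    256 * (s ^ 2 - s + 1) ^ 3 / (s ^ 2 * (s - 1) ^ 2) = 256 * (t ^ 2 - t + 1) ^ 3 / (t ^ 2 * (t - 1) ^ 2) ↔
      (t = s ∨ t = 1 - s ∨ t = 1 / s ∨ t = (s - 1) / s ∨ t = s / (s - 1) ∨ t = 1 / (1 - s)) := by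
  have h256 : (256 : k) ≠ 0 := by
    have : (256 : k) = 2 ^ 8 := by norm_num
    rw [this]
    exact pow_ne_zero _ h2
  have hs1' : s - 1 ≠ 0 := sub_ne_zero.mpr hs1
  have ht1' : t - 1 ≠ 0 := sub_ne_zero.mpr ht1
  have hs1'' : 1 - s ≠ 0 := sub_ne_zero.mpr (Ne.symm hs1)
  have hs : s ^ 2 * (s - 1) ^ 2 ≠ 0 := mul_ne_zero (pow_ne_zero _ hs0) (pow_ne_zero _ hs1')
  have ht : t ^ 2 * (t - 1) ^ 2 ≠ 0 := mul_ne_zero (pow_ne_zero _ ht0) (pow_ne_zero _ ht1')
  rw [div_eq_div_iff hs ht]
  have hfac : 256 * (s ^ 2 - s + 1) ^ 3 * (t ^ 2 * (t - 1) ^ 2) -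
      256 * (t ^ 2 - t + 1) ^ 3 * (s ^ 2 * (s - 1) ^ 2) =
      256 * ((t - s) * (s + t - 1) * (s * t - 1) * (s * t - s + 1) * (s * t - t + 1) *
        (s + t - s * t)) := by ring
  constructor
  · intro h
    have hF : (t - s) * (s + t - 1) * (s * t - 1) * (s * t - s + 1) * (s * t - t + 1) *
        (s + t - s * t) = 0 := by
      apply mul_left_cancel₀ h256
      rw [← hfac, mul_zero, sub_eq_zero]
      exact h
    rcases mul_eq_zero.mp hF with h5 | h6
    · rcases mul_eq_zero.mp h5 with h4 | h5'
      · rcases mul_eq_zero.mp h4 with h3 | h4'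
        · rcases mul_eq_zero.mp h3 with h2' | h3'
          · rcases mul_eq_zero.mp h2' with h1 | h2''
            · left
              exact sub_eq_zero.mp h1
            · right; left
              linear_combination h2''
          · right; right; left
            rw [eq_div_iff hs0]
            linear_combination h3'
        · right; right; right; left
          rw [eq_div_iff hs0]
          linear_combination h4'
      · right; right; right; right; right
        rw [eq_div_iff hs1'']
        linear_combination -h5'
    · right; right; right; right; left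
      rw [eq_div_iff hs1']
      linear_combination -h6
  · intro h
    rw [← sub_eq_zero, hfac]
    rcases h with h | h | h | h | h | h
    · have : t - s = 0 := sub_eq_zero.mpr h
      rw [this]; ring
    · have : s + t - 1 = 0 := by rw [h]; ring
      rw [this]; ring
    · have : s * t - 1 = 0 := by rw [h]; field_simp; ring
      rw [this]; ring
    · have : s * t - s + 1 = 0 := by rw [h]; field_simp; ring
      rw [this]; ring
    · have : s + t - s * t = 0 := by rw [h]; field_simp; ring
      rw [this]; ring
    · have : s * t - t + 1 = 0 := by rw [h]; field_simp; ring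
      rw [this]; ring

end Groth.Agent.S19399
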