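import Groth.Statements.S19400
import Groth.Agent.Lib.GITOrbit38

set_option autoImplicit false
universe u
open GIT

namespace Groth.Agent.S19400

/-- For a reductive group G (here: every finite-dimensional representation completely reducible, i.e.
linearly reductive; any characteristic) acting on an affine variety X = Spec R over an algebraically
closed field with all orbits of closed points closed, the morphism X → Y = Spec R^G is a geometric
quotient; in particular it is surjective on closed points and its fibre over every closed point of Y
is a single orbit. This row states those two point-set assertions in coaction form: G = Spec A with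
A a finitely generated commutative Hopf algebra whose finite-dimensional comodules are semisimple, R
of finite type with a multiplicative unital coaction, points as k-algebra maps. The published
statement takes X to be a variety (reduced and irreducible); this row does not assume R reduced or a
domain. -/
theorem result (k : Type u) [Field k] [IsAlgClosed k]
    (A : Type u) [CommRing A] [HopfAlgebra k A] [Algebra.FiniteType k A]
    (hG : HopfRep.IsLinearlyReductive k A)
    (R : Type u) [CommRing R] [Algebra k R] [Algebra.FiniteType k R]
    [HopfRep.Comod k A R] [GLin.IsCoactAlg k A R]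
    (hcl : ∀ x : R →ₐ[k] k, GLin.IsClosedOrbit k A x)
    (y : GLin.invariants k A R →ₐ[k] k) :
    (∃ x : R →ₐ[k] k, x.comp (GLin.invariants k A R).val = y) ∧
      ∀ x x' : R →ₐ[k] k, x.comp (GLin.invariants k A R).val = y →
        x'.comp (GLin.invariants k A R).val = y →
          ∃ g : A →ₐ[k] k, x' = GLin.actPt k g x := by
  constructor
  · obtain ⟨x, _, hx⟩ := Groth.Agent.Lib.GITQuot38.exists_point_over hG (GLin.invariants k A R)
      (fun b => Iff.rfl) ⊥ (by
        have : (⊥ : Ideal R).restrictScalars k = (⊥ : Submodule k R) := by
          ext f; simp
        rw [this]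
        exact Groth.Agent.Lib.Comod.isSubcomod_bot) y (by
        intro f hf
        have hf0 : (f : R) = 0 := by simpa using hf
        have : f = 0 := Subtype.ext hf0
        rw [this, map_zero])
    exact ⟨x, AlgHom.ext fun f => hx f⟩
  · intro x x' hx hx'
    have h' : ∀ f ∈ GLin.invariants k A R, x f = x' f := fun f hf => by
      have h1 := AlgHom.congr_fun hx ⟨f, hf⟩
      have h2 := AlgHom.congr_fun hx' ⟨f, hf⟩
      exact h1.trans h2.symm
    obtain ⟨z, hz⟩ := Groth.Agent.Lib.GITQuot38.exists_algHom_ker_ge (k := k) _
      (Groth.Agent.Lib.GITQuot38.ker_orbitHom_sup_ne_top hG x x' h')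
    obtain ⟨g, hg⟩ := Groth.Agent.Lib.GITOrbit38.exists_actPt_eq_of_isClosedOrbit x z (hcl x)
      (le_trans le_sup_left hz)
    obtain ⟨g', hg'⟩ := Groth.Agent.Lib.GITOrbit38.exists_actPt_eq_of_isClosedOrbit x' z (hcl x')
      (le_trans le_sup_right hz)
    refine ⟨(WithConv.toConv g * (WithConv.toConv g')⁻¹).ofConv, ?_⟩
    rw [← Groth.Agent.Lib.GITOrbit38.actPt_actPt, WithConv.ofConv_toConv, ← hg, hg',
      ← WithConv.ofConv_toConv g', Groth.Agent.Lib.GITOrbit38.actPt_actPt, WithConv.toConv_ofConv,
      mul_inv_cancel, Groth.Agent.Lib.GITOrbit38.actPt_one]

end Groth.Agent.S19400
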