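import Groth.Statements.S19402
import Groth.Agent.Lib.H8CHR

set_option autoImplicit false
universe u v w
open scoped Pointwise
open GLin

namespace Groth.Agent.S19402


open Groth.Agent.Lib.H8CHR in
theorem etale_of_stab (k : Type u) [Field k]
    (R : Type v) [CommRing R] [Algebra k R] [Algebra.FiniteType k R]
    (G : Type w) [Group G] [Finite G] [MulSemiringAction G R]
    (B : Type v) [CommRing B] [Algebra k B] [Algebra B R] [IsScalarTower k B R] [FaithfulSMul B R]
    [SMulCommClass G B R] [Algebra.IsInvariant B R G]
    (m : Ideal R) [m.IsPrime] (hstab : MulAction.stabilizer G m = ⊥) :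
    Algebra.IsEtaleAt B m := by
  have hinj : Function.Injective (algebraMap B R) := FaithfulSMul.algebraMap_injective B R
  obtain ⟨b, hbm, hb⟩ := exists_invariant_mem_Ig (B := B) m hstab
  have hint : Algebra.IsIntegral B R := Algebra.IsInvariant.isIntegral B R G
  have hftBR : Algebra.FiniteType B R := Algebra.FiniteType.of_restrictScalars_finiteType k B R
  have hfin : Module.Finite B R := Algebra.IsIntegral.finite
  have hBft : Algebra.FiniteType k B :=
    ⟨fg_of_fg_of_fg k B R Algebra.FiniteType.out Module.Finite.fg_top hinj⟩
  have hBnoeth : IsNoetherianRing B := Algebra.FiniteType.isNoetherianRing k B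
  have hfpBR : Algebra.FinitePresentation B R := Algebra.FinitePresentation.of_finiteType.mp hftBR
  have hfpR' : Algebra.FinitePresentation R (Localization.Away (algebraMap B R b)) :=
    IsLocalization.Away.finitePresentation (algebraMap B R b)
  have hfp : Algebra.FinitePresentation B (Localization.Away (algebraMap B R b)) :=
    Algebra.FinitePresentation.trans B R (Localization.Away (algebraMap B R b))
  have hflat : Module.Flat B (Localization.Away (algebraMap B R b)) :=
    flat_away hinj b hb (Localization.Away (algebraMap B R b))
  have hunr : Algebra.FormallyUnramified B (Localization.Away (algebraMap B R b)) :=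
    formallyUnramified_away hinj b hb (Localization.Away (algebraMap B R b))
  have het : Algebra.Etale B (Localization.Away (algebraMap B R b)) :=
    Algebra.Etale.of_formallyUnramified_of_flat
  have hsub := (Algebra.basicOpen_subset_etaleLocus_iff_etale (R := B) (A := R)
    (f := algebraMap B R b)).mpr het
  exact hsub (show (⟨m, inferInstance⟩ : PrimeSpectrum R) ∈
    (PrimeSpectrum.basicOpen (algebraMap B R b) : Set (PrimeSpectrum R)) from hbm)

theorem stab_of_etale (k : Type u) [Field k] [IsAlgClosed k]
    (R : Type v) [CommRing R] [IsDomain R] [Algebra k R] [Algebra.FiniteType k R]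
    (G : Type w) [Group G] [MulSemiringAction G R] [FaithfulSMul G R] [SMulCommClass G k R]
    (B : Type v) [CommRing B] [Algebra B R]
    [SMulCommClass G B R]
    (m : Ideal R) [m.IsMaximal] (het : Algebra.IsEtaleAt B m) :
    MulAction.stabilizer G m = ⊥ := by
  rw [Subgroup.eq_bot_iff_forall]
  intro g hg
  have hgm : g • m = m := hg
  -- residue field is `k`
  have hres : ∀ r : R, g • r - r ∈ m := by
    intro r
    letI : Field (R ⧸ m) := Ideal.Quotient.field m
    haveI : Module.Finite k (R ⧸ m) := finite_of_finite_type_of_isJacobsonRing k (R ⧸ m)
    haveI : Algebra.IsIntegral k (R ⧸ m) := Algebra.IsIntegral.of_finite k (R ⧸ m)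
    obtain ⟨c, hc⟩ := (IsAlgClosed.algebraMap_bijective_of_isIntegral (k := k) (K := R ⧸ m)).2
      (Ideal.Quotient.mk m r)
    have h1 : r - algebraMap k R c ∈ m := by
      rw [← Ideal.Quotient.eq, ← hc]
      rfl
    have h2 : g • (r - algebraMap k R c) ∈ m := by
      rw [← hgm]
      exact Ideal.smul_mem_pointwise_smul _ _ _ h1
    have h3 : g • r - r = g • (r - algebraMap k R c) - (r - algebraMap k R c) := by
      rw [smul_sub, smul_algebraMap]
      ring
    rw [h3]
    exact m.sub_mem h2 h1
  let Rm := Localization.AtPrime m
  haveI : IsNoetherianRing R := Algebra.FiniteType.isNoetherianRing k R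
  haveI : IsNoetherianRing Rm := IsLocalization.isNoetherianRing m.primeCompl Rm inferInstance
  haveI : Algebra.FormallyEtale B Rm := het
  have hunit : ∀ y : m.primeCompl, IsUnit (((IsScalarTower.toAlgHom B R Rm).comp
      (MulSemiringAction.toAlgHom B R g)) y) := by
    intro y
    change IsUnit (algebraMap R Rm (g • (y : R)))
    refine IsLocalization.map_units Rm (⟨g • (y : R), ?_⟩ : m.primeCompl)
    intro hy
    apply y.2
    have hy' : g • (y : R) ∈ g • m := by
      rw [hgm]
      exact hy
    exact Ideal.smul_mem_pointwise_smul_iff.mp hy'
  let γ : Rm →ₐ[B] Rm := IsLocalization.liftAlgHom (M := m.primeCompl)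
    (f := (IsScalarTower.toAlgHom B R Rm).comp (MulSemiringAction.toAlgHom B R g)) hunit
  have hγ : ∀ r : R, γ (algebraMap R Rm r) = algebraMap R Rm (g • r) := by
    intro r
    exact IsLocalization.lift_eq _ r
  have hγid : γ = AlgHom.id B Rm := by
    refine Algebra.FormallyUnramified.ext_of_iInf (I := IsLocalRing.maximalIdeal Rm)
      (Ideal.iInf_pow_eq_bot_of_isLocalRing _ (IsLocalRing.maximalIdeal.isMaximal Rm).ne_top) ?_
    intro x
    have hrh : (Ideal.Quotient.mk (IsLocalRing.maximalIdeal Rm)).comp γ.toRingHom =
        (Ideal.Quotient.mk (IsLocalRing.maximalIdeal Rm)).comp (RingHom.id Rm) := by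
      refine IsLocalization.ringHom_ext m.primeCompl ?_
      ext r
      simp only [RingHom.comp_apply, RingHom.id_apply]
      change Ideal.Quotient.mk _ (γ (algebraMap R Rm r)) = Ideal.Quotient.mk _ (algebraMap R Rm r)
      rw [hγ, Ideal.Quotient.eq, ← map_sub, IsLocalization.AtPrime.to_map_mem_maximal_iff Rm m]
      exact hres r
    exact congrArg (fun φ => φ x) hrh
  refine eq_of_smul_eq_smul (α := R) fun r => ?_
  rw [one_smul]
  have hinjloc : Function.Injective (algebraMap R Rm) :=
    IsLocalization.injective Rm m.primeCompl_le_nonZeroDivisors
  apply hinjloc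
  rw [← hγ, hγid]
  rfl

/-- Let k be an algebraically closed field of characteristic zero, R a finitely generated commutative
k-algebra which is an integrally closed domain (a normal irreducible affine variety X), and G a
finite group acting faithfully on R by k-algebra automorphisms. Let B be a commutative k-algebra
with an injective algebra map B → R, compatible with the k-structures and G-invariant, whose image
is exactly the subring of G-invariants (so Spec R → Spec B is the quotient morphism X → X/G). Then
for a maximal ideal m of R (a closed point x of X), R is étale over B at m (the local ring R_m is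
formally étale over B) if and only if the stabilizer of m in G is trivial. -/
theorem result (k : Type u) [Field k] [IsAlgClosed k] [CharZero k]
    (R : Type v) [CommRing R] [IsDomain R] [IsIntegrallyClosed R] [Algebra k R] [Algebra.FiniteType k R]
    (G : Type w) [Group G] [Finite G] [MulSemiringAction G R] [FaithfulSMul G R] [SMulCommClass G k R]
    (B : Type v) [CommRing B] [Algebra k B] [Algebra B R] [IsScalarTower k B R] [FaithfulSMul B R]
    [SMulCommClass G B R] [Algebra.IsInvariant B R G]
    (m : Ideal R) [m.IsMaximal] :
    Algebra.IsEtaleAt B m ↔ MulAction.stabilizer G m = ⊥ := by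
  constructor
  · exact stab_of_etale k R G B m
  · exact etale_of_stab k R G B m

end Groth.Agent.S19402
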