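import Groth.Statements.S19409
import Groth.Agent.Lib.OrbitClosed45
import Groth.Agent.Lib.OrbitMeet45
import Groth.Agent.Lib.SepCritH52
import Groth.Agent.Lib.ActionRestrict45

set_option autoImplicit false
universe u
open CategoryTheory MonoidalCategory CartesianMonoidalCategory MonObj AlgebraicGeometry Topology
open NRQuot

namespace Groth.Agent.S19409

variable {k : Type u} [Field k] {G X Y : Over (Spec (CommRingCat.of k))} [GrpObj G]

/-- A rational point is a closed immersion. -/
lemma isClosedImmersion_pt (y : 𝟙_ (Over (Spec (CommRingCat.of k))) ⟶ Y) :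
    IsClosedImmersion y.left := by
  have h : y.left ≫ Y.hom = 𝟙 _ := Over.w y
  exact isClosedImmersion_of_comp_eq_id Y.hom y.left h

/-- Two rational points with the same image are equal. -/
lemma eq_of_range_subset (y y' : 𝟙_ (Over (Spec (CommRingCat.of k))) ⟶ Y)
    (h : Set.range y'.left ⊆ Set.range y.left) : y' = y := by
  haveI := isClosedImmersion_pt y
  haveI : IsReduced (𝟙_ (Over (Spec (CommRingCat.of k)))).left :=
    (inferInstance : IsReduced (Spec (CommRingCat.of k)))
  obtain ⟨w, hw⟩ := Groth.Agent.Lib.SepCritH52.exists_lift_of_isReduced y.left y'.left h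
  have h1 : y.left ≫ Y.hom = 𝟙 _ := Over.w y
  have h2 : y'.left ≫ Y.hom = 𝟙 _ := Over.w y'
  have hw1 : w = 𝟙 _ := by
    have := congrArg (· ≫ Y.hom) hw
    simp only [Category.assoc] at this
    rw [h1, h2, Category.comp_id] at this
    exact this
  ext : 1
  rw [← hw, hw1, Category.id_comp]

/-- The open subscheme as an object over `k`. -/
noncomputable abbrev opn (U : X.left.Opens) : Over (Spec (CommRingCat.of k)) := Over.mk (U.ι ≫ X.hom)

/-- The inclusion. -/
noncomputable abbrev inc (U : X.left.Opens) : opn U ⟶ X := Over.homMk U.ι rfl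

instance (U : X.left.Opens) : Mono (inc U) := by
  haveI : Mono (inc U).left := (inferInstance : Mono U.ι)
  exact Over.mono_of_mono_left _

/-- Restriction of an action to an open subscheme whose underlying set is stable. -/
lemma exists_restrict (a : AlgGrp.Action G X) (U : X.left.Opens)
    (hU : ∀ w : (G ⊗ X).left, (snd G X).left w ∈ U → a.act.left w ∈ U) :
    ∃ b : G ⊗ opn U ⟶ opn U, b ≫ inc U = (G ◁ inc U) ≫ a.act := by
  have hr : Set.range ((G ◁ inc U) ≫ a.act).left ⊆ Set.range U.ι := by
    rintro _ ⟨w, rfl⟩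
    rw [Scheme.Opens.range_ι]
    rw [Over.comp_left, Scheme.Hom.comp_apply]
    apply hU
    rw [← Scheme.Hom.comp_apply, ← Over.comp_left, whiskerLeft_snd, Over.comp_left,
      Scheme.Hom.comp_apply]
    exact ((snd G (opn U)).left w).2
  refine ⟨Over.homMk (IsOpenImmersion.lift U.ι _ hr) ?_, ?_⟩
  · change IsOpenImmersion.lift U.ι _ hr ≫ U.ι ≫ X.hom = _
    rw [IsOpenImmersion.lift_fac_assoc]
    exact Over.w _
  · ext : 1
    exact IsOpenImmersion.lift_fac _ _ _

/-- A rational point lies in its orbit. -/
lemma mem_orbit (a : AlgGrp.Action G X) (x : 𝟙_ (Over (Spec (CommRingCat.of k))) ⟶ X)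
    (t : (𝟙_ (Over (Spec (CommRingCat.of k)))).left) :
    x.left t ∈ Groth.Agent.Lib.OrbitStable45.orbit a x := by
  have e : (1 : 𝟙_ (Over (Spec (CommRingCat.of k))) ⟶ G) ≫ a.orbitMap x = x := by
    rw [Groth.Agent.Lib.GrpAction.comp_orbitMap,
      toUnit_unique (toUnit (𝟙_ (Over (Spec (CommRingCat.of k))))) (𝟙 _), Category.id_comp,
      Groth.Agent.Lib.GrpAction.one_act]
  refine ⟨(1 : 𝟙_ (Over (Spec (CommRingCat.of k))) ⟶ G).left t, ?_⟩
  rw [← Scheme.Hom.comp_apply, ← Over.comp_left, e]


/-- Suppose k is a field that is algebraically closed (its characteristic is arbitrary, since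
characteristic zero plays no role in the argument). Consider an algebraic group G over k, i.e. an
affine group scheme of finite type over k, together with an action of G on a k-scheme X that is
locally of finite type, and assume φ : X → Y is a good quotient (meaning φ is affine and invariant,
on each open of Y the functions are precisely the invariant functions on its preimage, closed
invariant subsets are sent to closed subsets, and taking images commutes with intersecting families
of closed invariant subsets). Given any k-point y of Y, one can find a k-point x of X lying over y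
whose orbit (the image of the orbit morphism G → X) is a closed subset of X; moreover, whenever x'
is a k-point of X over y with closed orbit, x' is obtained from x by acting with some k-point of G.
In other words, each fibre of φ over a k-point contains a unique closed orbit. -/
theorem result
    (k : Type u) [Field k] [IsAlgClosed k]
    (G X Y : Over (Spec (CommRingCat.of k))) [GrpObj G] [IsAffine G.left] [LocallyOfFiniteType G.hom]
    [LocallyOfFiniteType X.hom]
    (a : AlgGrp.Action G X) (φ : X ⟶ Y) (h : NRQuot.IsGoodQuot a φ)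
    (y : 𝟙_ (Over (Spec (CommRingCat.of k))) ⟶ Y) :
    ∃ x : 𝟙_ (Over (Spec (CommRingCat.of k))) ⟶ X, x ≫ φ = y ∧ IsClosed (Set.range (a.orbitMap x).left.base) ∧
      ∀ x' : 𝟙_ (Over (Spec (CommRingCat.of k))) ⟶ X, x' ≫ φ = y → IsClosed (Set.range (a.orbitMap x').left.base) →
        ∃ g : 𝟙_ (Over (Spec (CommRingCat.of k))) ⟶ G, lift g x ≫ a.act = x' := by
  haveI := h.affine
  haveI hyc := isClosedImmersion_pt y
  let t0 : (𝟙_ (Over (Spec (CommRingCat.of k)))).left := IsLocalRing.closedPoint k
  have hsub : Subsingleton (𝟙_ (Over (Spec (CommRingCat.of k)))).left :=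
    (inferInstance : Subsingleton (Spec (CommRingCat.of k)))
  set y0 : Y.left := y.left t0 with hy0def
  have hry : Set.range y.left = {y0} :=
    Set.range_eq_singleton (fun t => by rw [Subsingleton.elim t t0])
  have hy0 : IsClosed ({y0} : Set Y.left) := by
    rw [← hry]; exact y.left.isClosedEmbedding.isClosed_range
  -- surjectivity
  have hsurj : ∃ p : X.left, φ.left p = y0 := by
    have := h.inter PEmpty (fun e => e.elim) (fun e => e.elim) (fun e => e.elim)
    simp only [Set.iInter_of_empty, Set.image_univ] at this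
    have h1 : y0 ∈ Set.range φ.left.base := by rw [this]; trivial
    exact h1
  obtain ⟨p, hp⟩ := hsurj
  obtain ⟨V, hV, hyV, -⟩ := exists_isAffineOpen_mem_and_subset (x := y0) (U := ⊤) trivial
  let U : X.left.Opens := φ.left ⁻¹ᵁ V
  have hUaff : IsAffineOpen U := hV.preimage φ.left
  have hinv : a.act.left ≫ φ.left = (snd G X).left ≫ φ.left := h.inv.left
  have hinv' : ∀ w : (G ⊗ X).left, φ.left (a.act.left w) = φ.left ((snd G X).left w) := by
    intro w
    rw [← Scheme.Hom.comp_apply, hinv, Scheme.Hom.comp_apply]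
  have hUst : ∀ w : (G ⊗ X).left, (snd G X).left w ∈ U → a.act.left w ∈ U := by
    intro w hw
    change φ.left (a.act.left w) ∈ V
    rw [hinv' w]
    exact hw
  obtain ⟨b, hb⟩ := exists_restrict a U hUst
  let aU : AlgGrp.Action G (opn U) := Groth.Agent.Lib.ActionRestrict45.restrict a (inc U) b hb
  haveI : IsAffine (opn U).left := hUaff
  haveI : LocallyOfFiniteType (opn U).hom := (inferInstance : LocallyOfFiniteType (U.ι ≫ X.hom))
  haveI : QuasiCompact (opn U).hom := inferInstance
  haveI : QuasiCompact G.hom := inferInstance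
  -- the fibre
  let F' : Set (opn U).left := (U.ι ≫ φ.left) ⁻¹' {y0}
  have hF'c : IsClosed F' := hy0.preimage (U.ι ≫ φ.left).continuous
  have hF'ne : F'.Nonempty := by
    refine ⟨⟨p, ?_⟩, ?_⟩
    · change φ.left p ∈ V
      rw [hp]; exact hyV
    · change (U.ι ≫ φ.left) _ = y0
      rw [Scheme.Hom.comp_apply]
      exact hp
  have hbφ : b ≫ inc U ≫ φ = snd G (opn U) ≫ inc U ≫ φ := by
    rw [← Category.assoc, hb, Category.assoc, h.inv, whiskerLeft_snd_assoc]
  have hF'st : Groth.Agent.Lib.OrbitStable45.IsStable aU F' := by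
    apply Groth.Agent.Lib.OrbitStable45.isStable_of_forall
    intro w hw
    have h1 : (b ≫ inc U ≫ φ).left w = (snd G (opn U) ≫ inc U ≫ φ).left w := by rw [hbφ]
    change (U.ι ≫ φ.left) (b.left w) = y0
    have h2 : (U.ι ≫ φ.left) ((snd G (opn U)).left w) = y0 := hw
    rw [← h2]
    exact h1
  obtain ⟨xU, hO, hOc⟩ :=
    Groth.Agent.Lib.OrbitClosed45.exists_isClosed_orbit_subset aU hF'c hF'ne hF'st
  let x : 𝟙_ (Over (Spec (CommRingCat.of k))) ⟶ X := xU ≫ inc U
  have horb : aU.orbitMap xU ≫ inc U = a.orbitMap x := by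
    unfold AlgGrp.Action.orbitMap
    rw [Groth.Agent.Lib.ActionRestrict45.restrict_act_comp, Category.assoc]
  have hOeq : Groth.Agent.Lib.OrbitStable45.orbit a x =
      U.ι '' Groth.Agent.Lib.OrbitStable45.orbit aU xU := by
    unfold Groth.Agent.Lib.OrbitStable45.orbit
    rw [← horb, Over.comp_left]
    ext z
    constructor
    · rintro ⟨gg, rfl⟩
      exact ⟨_, ⟨gg, rfl⟩, rfl⟩
    · rintro ⟨_, ⟨gg, rfl⟩, rfl⟩
      exact ⟨gg, rfl⟩
  let F : Set X.left := φ.left ⁻¹' {y0}
  have hFc : IsClosed F := hy0.preimage φ.left.continuous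
  have hFU : F ⊆ U := by
    intro z hz
    change φ.left z ∈ V
    have : φ.left z = y0 := hz
    rw [this]; exact hyV
  have hOF : Groth.Agent.Lib.OrbitStable45.orbit a x ⊆ F := by
    rw [hOeq]
    rintro _ ⟨u, hu, rfl⟩
    have := hO hu
    exact this
  have hclosed : IsClosed (Groth.Agent.Lib.OrbitStable45.orbit a x) := by
    rw [← closure_subset_iff_isClosed]
    intro z hz
    have hzF : z ∈ F := closure_minimal hOF hFc hz
    have hzU : z ∈ U := hFU hzF
    rw [hOeq]
    refine ⟨⟨z, hzU⟩, ?_, rfl⟩
    rw [← hOc.closure_eq, U.ι.isOpenEmbedding.isInducing.closure_eq_preimage_closure_image]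
    change z ∈ closure (U.ι '' _)
    rw [← hOeq]; exact hz
  have hxφ : x ≫ φ = y := by
    apply eq_of_range_subset
    rintro _ ⟨t, rfl⟩
    rw [hry, Over.comp_left, Scheme.Hom.comp_apply]
    exact hOF (mem_orbit a x t)
  refine ⟨x, hxφ, hclosed, ?_⟩
  intro x' hx' hx'c
  have hx'c' : IsClosed (Groth.Agent.Lib.OrbitStable45.orbit a x') := hx'c
  have hst : ∀ z : 𝟙_ (Over (Spec (CommRingCat.of k))) ⟶ X,
      NRQuot.IsInvariantSet a (Groth.Agent.Lib.OrbitStable45.orbit a z) := by
    intro z w hw
    exact (Groth.Agent.Lib.OrbitStable45.isStable_orbit a z).act_mem hw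
  let W : ULift.{u} Bool → Set X.left := fun i =>
    if i.down then Groth.Agent.Lib.OrbitStable45.orbit a x
    else Groth.Agent.Lib.OrbitStable45.orbit a x'
  have hWc : ∀ i, IsClosed (W i) := by
    rintro ⟨i⟩; cases i
    · exact hx'c'
    · exact hclosed
  have hWs : ∀ i, NRQuot.IsInvariantSet a (W i) := by
    rintro ⟨i⟩; cases i
    · exact hst x'
    · exact hst x
  have hint := h.inter (ULift.{u} Bool) W hWc hWs
  have hy0mem : y0 ∈ ⋂ i, φ.left.base '' (W i) := by
    rw [Set.mem_iInter]
    rintro ⟨i⟩; cases i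
    · refine ⟨x'.left t0, mem_orbit a x' t0, ?_⟩
      change φ.left (x'.left t0) = y0
      rw [← Scheme.Hom.comp_apply, ← Over.comp_left, hx']
    · refine ⟨x.left t0, mem_orbit a x t0, ?_⟩
      change φ.left (x.left t0) = y0
      rw [← Scheme.Hom.comp_apply, ← Over.comp_left, hxφ]
  rw [← hint] at hy0mem
  obtain ⟨q, hq, -⟩ := hy0mem
  rw [Set.mem_iInter] at hq
  have hmeet : (Groth.Agent.Lib.OrbitStable45.orbit a x ∩
      Groth.Agent.Lib.OrbitStable45.orbit a x').Nonempty := ⟨q, hq ⟨true⟩, hq ⟨false⟩⟩
  exact Groth.Agent.Lib.OrbitMeet45.exists_translate_of_orbits_meet a x x' hmeet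

end Groth.Agent.S19409
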