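import Groth.Statements.S19414
import Groth.Agent.Lib.H73WeilLef

set_option autoImplicit false
universe u v
open CategoryTheory AlgebraicGeometry
open WeilCoh

namespace Groth.Agent.S19414

theorem neg_one_pow_two_mul {K : Type v} [Field K] (a b : ℤ) :
    (-1 : K) ^ (a.natAbs * (2 * b).natAbs) = 1 := by
  apply Even.neg_one_pow
  apply Even.mul_left
  rw [Int.natAbs_even]
  exact even_two_mul b

theorem neg_one_pow_two_mul' {K : Type v} [Field K] (a b : ℤ) :
    (-1 : K) ^ ((2 * b).natAbs * a.natAbs) = 1 := by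
  rw [mul_comm]
  exact neg_one_pow_two_mul a b


/-- Let H be a Weil cohomology theory with coefficients in a field K of characteristic zero on
nonsingular connected projective varieties over an algebraically closed field k, X such a variety, P
= X × X with its projections p and q, and d : X → P the diagonal (the section of p and of q). For a
closed irreducible subset Z ⊆ X with generic point η and a class α ∈ H^i(X), the cohomological
correspondence given by the class of the diagonal image d(Z) ⊆ P acts on α as cup product with the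
class of Z: q_*(p^*(α) · cl_P(d(Z))) = α · cl_X(Z) in the total cohomology ring of X. The
push-forward q_* (Gysin map, defined through Poincaré duality) is taken on the homogeneous component
of degree i + 2 codim_P(d(Z)) that contains p^*(α) · cl_P(d(Z)). The published statement takes Z to
be a smooth hyperplane section, in which case cup product with cl_X(Z) is the Lefschetz operator L
and the identity says that L is given by an algebraic correspondence; it is stated here for every
closed irreducible Z, which is what the argument establishes. -/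
theorem result (k : Type u) [Field k] [IsAlgClosed k]
    (K : Type v) [Field K] [CharZero K] (T : WeilCoh.Theory k K) (X P : WeilCoh.Var k)
    (p q : P ⟶ X) (hP : WeilCoh.IsProd p q) (d : X ⟶ P) (hdp : d ≫ p = 𝟙 X) (hdq : d ≫ q = 𝟙 X)
    (η : ↥X.obj.left) (i : ℤ) (a : ↥(T.gr X i)) :
    (T.push q (i + 2 * (WeilCoh.codim P.obj.left (WeilCoh.sm d η) : ℤ))
        ⟨T.pull p (a : T.H X) * T.cl P (WeilCoh.sm d η),
          SetLike.mul_mem_graded (T.pull_mem p i a a.2) (T.cl_mem P (WeilCoh.sm d η))⟩ : T.H X) =
      (a : T.H X) * T.cl X η := by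
  letI : X.obj.left.Over (Spec (CommRingCat.of k)) := ⟨X.obj.hom⟩
  haveI : LocallyOfFiniteType (X.obj.left ↘ Spec (CommRingCat.of k)) :=
    Groth.Agent.Lib.H73WeilPt.lft_of_isVar k X
  letI : P.obj.left.Over (Spec (CommRingCat.of k)) := ⟨P.obj.hom⟩
  haveI : LocallyOfFiniteType (P.obj.left ↘ Spec (CommRingCat.of k)) :=
    Groth.Agent.Lib.H73WeilPt.lft_of_isVar k P
  haveI : IrreducibleSpace ↥P.obj.left := P.property.2.2
  haveI : IrreducibleSpace ↥X.obj.left := X.property.2.2
  haveI : (WeilCoh.sm d).IsOver (Spec (CommRingCat.of k)) := ⟨Over.w d.hom⟩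
  have h2 : (WeilCoh.sm d).residueDegree η = 1 :=
    Groth.Agent.Lib.H73WeilLef.residueDegree_of_section (WeilCoh.sm d) (WeilCoh.sm p)
      (by rw [← Groth.Agent.Lib.H73WeilLef.sm_comp, hdp, Groth.Agent.Lib.H73WeilLef.sm_id]) _
  have h3 := Groth.Agent.Lib.H73WeilDim.pdim_map_eq_of_residueDegree_ne_zero k (WeilCoh.sm d) η
    (by rw [h2]; exact one_ne_zero)
  have h4 := Groth.Agent.Lib.H73WeilDim.codim_add_pdim k P.obj.left (WeilCoh.sm d η)
  have h4' := Groth.Agent.Lib.H73WeilDim.codim_add_pdim k X.obj.left η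
  have h5 := Groth.Agent.Lib.WeilCohPush.dim_prod T p q hP
  refine Groth.Agent.Lib.WeilCohPush.eq_of_forall_tr_mul T
    (i + 2 * (WeilCoh.codim X.obj.left η : ℤ)) (2 * (WeilCoh.pdim X.obj.left η : ℤ) - i)
    (by omega) _ _ (Groth.Agent.Lib.WeilCohPush.push_mem T q _ _ _ (by omega))
    (SetLike.mul_mem_graded a.2 (T.cl_mem X η)) fun b hb => ?_
  rw [Groth.Agent.Lib.WeilCohPush.tr_push_mul' T q _ _ b (2 * (WeilCoh.pdim X.obj.left η : ℤ) - i)
    (by omega) hb]
  change T.tr P ((T.pull p (a : T.H X) * T.cl P (WeilCoh.sm d η)) * T.pull q b) = _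
  have hc1 := T.gradedComm P i _ (T.pull p (a : T.H X)) (T.cl P (WeilCoh.sm d η))
    (T.pull_mem p i a a.2) (T.cl_mem P (WeilCoh.sm d η))
  rw [neg_one_pow_two_mul, one_smul] at hc1
  have hc2 := T.gradedComm X _ i (T.cl X η) (a : T.H X) (T.cl_mem X η) a.2
  rw [neg_one_pow_two_mul', one_smul] at hc2
  have hmem : T.pull p (a : T.H X) * T.pull q b ∈ T.gr P (2 * (WeilCoh.pdim X.obj.left η : ℤ)) := by
    have h := SetLike.mul_mem_graded (T.pull_mem p i a a.2)
      (T.pull_mem q (2 * (WeilCoh.pdim X.obj.left η : ℤ) - i) b hb)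
    convert h using 2
    ring
  have h1 := T.cl_push d η _ hmem
  rw [h2, Nat.cast_one, one_mul] at h1
  rw [hc1, mul_assoc, ← h1, map_mul (T.pull d), ← AlgHom.comp_apply, ← AlgHom.comp_apply, ← T.pull_comp,
    ← T.pull_comp, hdp, hdq, T.pull_id, ← hc2, mul_assoc]
  rfl

end Groth.Agent.S19414
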