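import Groth.Statements.S19415
import Groth.Agent.Lib.H73WeilCorr

set_option autoImplicit false
universe u v
open CategoryTheory AlgebraicGeometry
open WeilCoh

namespace Groth.Agent.S19415

theorem neg_one_pow_two_mul {K : Type v} [Field K] (a b : ℤ) :
    (-1 : K) ^ (a.natAbs * (2 * b).natAbs) = 1 := by
  apply Even.neg_one_pow
  apply Even.mul_left
  rw [Int.natAbs_even]
  exact even_two_mul b

/-- iterates of an endomorphism -/
noncomputable def iter {k : Type u} [Field k] {X : WeilCoh.Var k} (F : X ⟶ X) : ℕ → (X ⟶ X)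
  | 0 => 𝟙 X
  | (m + 1) => F ≫ iter F m

theorem pullDeg_iter {k : Type u} [Field k] [IsAlgClosed k] {K : Type v} [Field K] [CharZero K]
    (T : WeilCoh.Theory k K) {X : WeilCoh.Var k} (F : X ⟶ X) (j : ℤ) (m : ℕ) :
    T.pullDeg (iter F m) j = (T.pullDeg F j) ^ m := by
  induction m with
  | zero =>
    apply LinearMap.ext
    intro x
    apply Subtype.ext
    change T.pull (𝟙 X) (x : T.H X) = (x : T.H X)
    rw [T.pull_id]
    rfl
  | succ m ih =>
    rw [pow_succ', ← ih]
    apply LinearMap.ext
    intro x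
    apply Subtype.ext
    change T.pull (F ≫ iter F m) (x : T.H X) = T.pull F (T.pull (iter F m) (x : T.H X))
    rw [T.pull_comp]
    rfl

/-- the transposed graph of `G` acts by `G^*` -/
theorem act_transpose_graph {k : Type u} [Field k] [IsAlgClosed k] {K : Type v} [Field K]
    [CharZero K] (T : WeilCoh.Theory k K) {X P : WeilCoh.Var k} [IrreducibleSpace ↥X.obj.left]
    (p q : P ⟶ X) (hP : WeilCoh.IsProd p q)
    (G : X ⟶ X) (jG : X ⟶ P) (h1 : jG ≫ p = G) (h2 : jG ≫ q = 𝟙 X) (j : ℤ) (b : T.H X)
    (hb : b ∈ T.gr X j) (c : T.H X) (hc : c ∈ T.gr X (2 * (WeilCoh.dim X.obj.left : ℤ) - j)) :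
    T.tr P (T.pull p b * T.cl P (WeilCoh.sm jG (genericPoint ↥X.obj.left)) * T.pull q c) =
      T.tr X (T.pull G b * c) := by
  have hγ := Groth.Agent.Lib.H73WeilLef.cl_section_mem T X P jG q p hP.flip h2
  have hc1 := T.gradedComm P j _ (T.pull p b) _ (T.pull_mem p j b hb) hγ
  rw [neg_one_pow_two_mul, one_smul] at hc1
  have hmem : T.pull p b * T.pull q c ∈ T.gr P (2 * (WeilCoh.dim X.obj.left : ℤ)) := by
    have h := SetLike.mul_mem_graded (T.pull_mem p j b hb) (T.pull_mem q _ c hc)
    convert h using 2
    ring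
  rw [hc1, mul_assoc, Groth.Agent.Lib.H73WeilLef.tr_cl_section T X P jG q h2 _ hmem,
    map_mul (T.pull jG), ← AlgHom.comp_apply, ← AlgHom.comp_apply, ← T.pull_comp, ← T.pull_comp,
    h1, h2, T.pull_id]
  rfl


/-- Let H be a Weil cohomology theory with coefficients in a field K of characteristic zero on
nonsingular connected projective varieties over an algebraically closed field k, X such a variety of
dimension n, P = X × X with its projections p, q, and F : X → X an endomorphism such that the
characteristic polynomials of F^* on the cohomology groups H^i(X), i ∈ ℤ, are pairwise coprime in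
K[T]. Then for every i the i-th Künneth projector of X is given by an algebraic correspondence with
coefficients in K: there is a class u in H^{2n}(P), lying in the K-linear span of the classes of
closed irreducible subsets of P, whose action β ↦ q_*(p^*(β) · u) is the identity on H^i(X) and zero
on H^j(X) for every j ≠ i (push-forward q_* taken on the homogeneous piece of degree j + 2n). The
published statement has rational coefficients, X defined over a finite field and F its Frobenius
endomorphism, the coprimality of the characteristic polynomials being deduced there from the Riemann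
hypothesis over finite fields and from the independence of these polynomials of the cohomology
theory; here that coprimality is the hypothesis and F is any endomorphism. -/
theorem result (k : Type u) [Field k]
    [IsAlgClosed k] (K : Type v) [Field K] [CharZero K] (T : WeilCoh.Theory k K)
    (X P : WeilCoh.Var k) (p q : P ⟶ X) (hP : WeilCoh.IsProd p q) (F : X ⟶ X)
    (hF : ∀ i j : ℤ, i ≠ j → IsCoprime (T.pullDeg F i).charpoly (T.pullDeg F j).charpoly)
    (i : ℤ) :
    ∃ u : ↥(T.gr P (2 * (WeilCoh.dim X.obj.left : ℤ))),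
      (u : T.H P) ∈ Submodule.span K (Set.range (T.cl P)) ∧
        ∀ (j : ℤ) (b : ↥(T.gr X j)),
          (T.push q (j + 2 * (WeilCoh.dim X.obj.left : ℤ))
              ⟨T.pull p (b : T.H X) * (u : T.H P),
                SetLike.mul_mem_graded (T.pull_mem p j b b.2) u.2⟩ : T.H X) =
            if j = i then (b : T.H X) else 0 := by
  classical
  haveI : IrreducibleSpace ↥X.obj.left := X.property.2.2
  -- the polynomial
  let S : Finset ℤ := ((Finset.range (2 * WeilCoh.dim X.obj.left + 1)).image
    (fun n : ℕ => (n : ℤ))).erase i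
  have hcop : IsCoprime (T.pullDeg F i).charpoly (∏ j ∈ S, (T.pullDeg F j).charpoly) :=
    IsCoprime.prod_right fun j hj => hF i j (Finset.ne_of_mem_erase hj).symm
  obtain ⟨a, b', hab⟩ := hcop
  let Q : Polynomial K := b' * ∏ j ∈ S, (T.pullDeg F j).charpoly
  have hQi : Polynomial.aeval (T.pullDeg F i) Q = 1 := by
    have hQ : Q = 1 - a * (T.pullDeg F i).charpoly := by
      rw [← hab]; ring
    rw [hQ, map_sub, map_one, map_mul, LinearMap.aeval_self_charpoly, mul_zero]
    exact sub_zero (1 : Module.End K ↥(T.gr X i))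
  have hQj : ∀ j ∈ S, Polynomial.aeval (T.pullDeg F j) Q = 0 := by
    intro j hj
    have hQ : Q = (b' * ∏ x ∈ S.erase j, (T.pullDeg F x).charpoly) * (T.pullDeg F j).charpoly := by
      change b' * ∏ j ∈ S, (T.pullDeg F j).charpoly = _
      rw [← Finset.mul_prod_erase S _ hj]
      ring
    rw [hQ, map_mul, LinearMap.aeval_self_charpoly, mul_zero]
  -- the transposed graphs of the iterates
  choose jm hjm1 hjm2 using fun m : ℕ =>
    Groth.Agent.Lib.H73WeilCorr.exists_prod_lift p q hP (iter F m) (𝟙 X)
  have hγ : ∀ m, T.cl P (WeilCoh.sm (jm m) (genericPoint ↥X.obj.left)) ∈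
      T.gr P (2 * (WeilCoh.dim X.obj.left : ℤ)) := fun m =>
    Groth.Agent.Lib.H73WeilLef.cl_section_mem T X P (jm m) q p hP.flip (hjm2 m)
  have hu0 : (∑ m ∈ Finset.range (Q.natDegree + 1),
      Q.coeff m • T.cl P (WeilCoh.sm (jm m) (genericPoint ↥X.obj.left))) ∈
      T.gr P (2 * (WeilCoh.dim X.obj.left : ℤ)) :=
    Submodule.sum_mem _ fun m _ => Submodule.smul_mem _ _ (hγ m)
  have hu0' : (∑ m ∈ Finset.range (Q.natDegree + 1),
      Q.coeff m • T.cl P (WeilCoh.sm (jm m) (genericPoint ↥X.obj.left))) ∈
      Submodule.span K (Set.range (T.cl P)) :=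
    Submodule.sum_mem _ fun m _ => Submodule.smul_mem _ _ (Submodule.subset_span ⟨_, rfl⟩)
  refine ⟨⟨_, hu0⟩, hu0', fun j b => ?_⟩
  have hdimP := Groth.Agent.Lib.WeilCohPush.dim_prod T p q hP
  -- the action is `Q(F^*)`
  have hkey : (T.push q (j + 2 * (WeilCoh.dim X.obj.left : ℤ))
      ⟨T.pull p (b : T.H X) * (∑ m ∈ Finset.range (Q.natDegree + 1),
        Q.coeff m • T.cl P (WeilCoh.sm (jm m) (genericPoint ↥X.obj.left))),
        SetLike.mul_mem_graded (T.pull_mem p j b b.2) hu0⟩ : T.H X) =
      ((Polynomial.aeval (T.pullDeg F j) Q) b : T.H X) := by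
    refine Groth.Agent.Lib.WeilCohPush.eq_of_forall_tr_mul T j
      (2 * (WeilCoh.dim X.obj.left : ℤ) - j) (by ring) _ _
      (Groth.Agent.Lib.WeilCohPush.push_mem T q _ _ _ (by omega)) (Subtype.mem _) fun c hc => ?_
    rw [Groth.Agent.Lib.WeilCohPush.tr_push_mul' T q _ _ c
      (2 * (WeilCoh.dim X.obj.left : ℤ) - j) (by omega) hc]
    change T.tr P (T.pull p (b : T.H X) * (∑ m ∈ Finset.range (Q.natDegree + 1),
        Q.coeff m • T.cl P (WeilCoh.sm (jm m) (genericPoint ↥X.obj.left))) * T.pull q c) = _
    rw [Polynomial.aeval_eq_sum_range, LinearMap.sum_apply, Submodule.coe_sum, Finset.mul_sum,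
      Finset.sum_mul, Finset.sum_mul, map_sum, map_sum]
    refine Finset.sum_congr rfl fun m _ => ?_
    rw [mul_smul_comm, smul_mul_assoc, map_smul,
      act_transpose_graph T p q hP (iter F m) (jm m) (hjm1 m) (hjm2 m) j _ b.2 c hc,
      LinearMap.smul_apply, Submodule.coe_smul, smul_mul_assoc, map_smul, ← pullDeg_iter]
    rfl
  rw [hkey]
  by_cases hji : j = i
  · subst hji
    rw [if_pos rfl, hQi]
    rfl
  · rw [if_neg hji]
    by_cases hjr : j < 0 ∨ 2 * (WeilCoh.dim X.obj.left : ℤ) < j
    · have hb0 : b = 0 :=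
        Subtype.ext (Groth.Agent.Lib.H73WeilLef.eq_zero_of_mem_gr T j b b.2 hjr)
      rw [hb0, map_zero]
      rfl
    · push Not at hjr
      have hjS : j ∈ S := by
        refine Finset.mem_erase.mpr ⟨hji, Finset.mem_image.mpr ⟨j.toNat, ?_, ?_⟩⟩
        · rw [Finset.mem_range]; omega
        · omega
      rw [hQj j hjS]
      rfl

end Groth.Agent.S19415
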