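import Groth.Statements.S19422
import Groth.Agent.Lib.IsMu38
import Mathlib.Algebra.MvPolynomial.Eval
import Mathlib.Data.Finsupp.Weight
import Mathlib.RingTheory.MvPolynomial.Homogeneous

set_option autoImplicit false
universe u
open TensorProduct LaurentPolynomial
open GIT

namespace Groth.Agent.S19422

section helpers
set_option linter.unusedSectionVars false
variable {k : Type u} [Field k] {ι : Type u} [Fintype ι]
  [HopfRep.Comod k k[T;T⁻¹] (MvPolynomial ι k)] [GLin.IsCoactAlg k k[T;T⁻¹] (MvPolynomial ι k)]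

theorem coact_pow (F : MvPolynomial ι k) (n : ℕ) :
    HopfRep.Comod.coact (k := k) (A := k[T;T⁻¹]) (F ^ n) =
      (HopfRep.Comod.coact (k := k) (A := k[T;T⁻¹]) F) ^ n := by
  induction n with
  | zero => rw [pow_zero, pow_zero, GLin.IsCoactAlg.coact_one (k := k) (A := k[T;T⁻¹])]
  | succ n ih => rw [pow_succ, pow_succ, GLin.IsCoactAlg.coact_mul, ih]

theorem coact_monomial (r : ι → ℤ)
    (hr : ∀ i : ι, HopfRep.Comod.coact (k := k) (A := k[T;T⁻¹]) (MvPolynomial.X i : MvPolynomial ι k) =
      (MvPolynomial.X i : MvPolynomial ι k) ⊗ₜ[k] (T (r i) : k[T;T⁻¹])) (α : ι →₀ ℕ) :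
    HopfRep.Comod.coact (k := k) (A := k[T;T⁻¹]) (MvPolynomial.monomial α (1 : k)) =
      MvPolynomial.monomial α (1 : k) ⊗ₜ[k] (T (Finsupp.weight r α) : k[T;T⁻¹]) := by
  induction α using Finsupp.induction_linear with
  | zero =>
    have : (MvPolynomial.monomial (0 : ι →₀ ℕ) (1 : k)) = 1 := rfl
    rw [this, GLin.IsCoactAlg.coact_one (k := k) (A := k[T;T⁻¹]), map_zero, T_zero,
      Algebra.TensorProduct.one_def]
  | add f g hf hg =>
    have : MvPolynomial.monomial (f + g) (1 : k) =
        MvPolynomial.monomial f 1 * MvPolynomial.monomial g 1 := by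
      rw [MvPolynomial.monomial_mul, one_mul]
    rw [this, GLin.IsCoactAlg.coact_mul, hf, hg, Algebra.TensorProduct.tmul_mul_tmul, map_add, T_add]
  | single i n =>
    have h1 : MvPolynomial.monomial (Finsupp.single i n) (1 : k) = (MvPolynomial.X i) ^ n := by
      rw [MvPolynomial.X_pow_eq_monomial]
    rw [h1, coact_pow, hr, Algebra.TensorProduct.tmul_pow, T_pow]
    congr 2
    simp [Finsupp.weight_apply]


theorem coact_monomial' (r : ι → ℤ)
    (hr : ∀ i : ι, HopfRep.Comod.coact (k := k) (A := k[T;T⁻¹]) (MvPolynomial.X i : MvPolynomial ι k) =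
      (MvPolynomial.X i : MvPolynomial ι k) ⊗ₜ[k] (T (r i) : k[T;T⁻¹])) (α : ι →₀ ℕ) (c : k) :
    HopfRep.Comod.coact (k := k) (A := k[T;T⁻¹]) (MvPolynomial.monomial α c) =
      MvPolynomial.monomial α c ⊗ₜ[k] (T (Finsupp.weight r α) : k[T;T⁻¹]) := by
  have h1 : MvPolynomial.monomial α c = c • MvPolynomial.monomial α (1 : k) := by
    rw [MvPolynomial.smul_monomial, smul_eq_mul, mul_one]
  rw [h1, map_smul, coact_monomial r hr, TensorProduct.smul_tmul']

/-- weight of monomials in the support of an invariant is zero -/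
theorem weight_eq_zero_of_mem_support (r : ι → ℤ)
    (hr : ∀ i : ι, HopfRep.Comod.coact (k := k) (A := k[T;T⁻¹]) (MvPolynomial.X i : MvPolynomial ι k) =
      (MvPolynomial.X i : MvPolynomial ι k) ⊗ₜ[k] (T (r i) : k[T;T⁻¹]))
    {F : MvPolynomial ι k} (hF : F ∈ GLin.invariants k k[T;T⁻¹] (MvPolynomial ι k))
    {α : ι →₀ ℕ} (hα : α ∈ F.support) : Finsupp.weight r α = 0 := by
  classical
  rw [GLin.mem_invariants_iff] at hF
  -- apply (coeff α ⊗ id)
  let L : MvPolynomial ι k ⊗[k] k[T;T⁻¹] →ₗ[k] k[T;T⁻¹] :=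
    (TensorProduct.lid k k[T;T⁻¹]).toLinearMap ∘ₗ (MvPolynomial.lcoeff k α).rTensor k[T;T⁻¹]
  have hL : ∀ (G : MvPolynomial ι k) (a : k[T;T⁻¹]), L (G ⊗ₜ[k] a) = MvPolynomial.coeff α G • a := by
    intro G a
    simp [L]
  have h1 : L (HopfRep.Comod.coact (k := k) (A := k[T;T⁻¹]) F) =
      MvPolynomial.coeff α F • (T (Finsupp.weight r α) : k[T;T⁻¹]) := by
    conv_lhs => rw [← MvPolynomial.support_sum_monomial_coeff F]
    rw [map_sum, map_sum]
    simp only [coact_monomial' r hr, hL, MvPolynomial.coeff_monomial]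
    rw [Finset.sum_eq_single α]
    · rw [if_pos rfl]
    · intro β _ hβ
      rw [if_neg hβ, zero_smul]
    · intro h; exact absurd hα h
  have h2 : L (F ⊗ₜ[k] (1 : k[T;T⁻¹])) = MvPolynomial.coeff α F • (1 : k[T;T⁻¹]) := hL F 1
  rw [hF, h2] at h1
  have hc : MvPolynomial.coeff α F ≠ 0 := MvPolynomial.mem_support_iff.1 hα
  have h3 : (T (Finsupp.weight r α) : k[T;T⁻¹]) = 1 := by
    have := congrArg (fun z => (MvPolynomial.coeff α F)⁻¹ • z) h1
    simpa [smul_smul, inv_mul_cancel₀ hc] using this.symm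
  by_contra hne
  have h4 := congrArg (fun z : k[T;T⁻¹] => z.coeff 0) h3
  simp only [T, ← LaurentPolynomial.single_zero_one_eq_one, AddMonoidAlgebra.coeff_single,
    Finsupp.single_apply] at h4
  simp [hne] at h4

end helpers


/-- Over an algebraically closed field k, let the multiplicative group, whose coordinate Hopf algebra is
the Laurent polynomial ring, act diagonally on affine ι-space, ι finite: the coaction on the
polynomial ring is multiplicative and sends the coordinate function X_i to X_i ⊗ T^(r_i) for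
integers r_i. Then a vector v is semistable (some invariant homogeneous polynomial of positive
degree does not vanish at v) if and only if there are indices i and j, possibly equal, with v_i ≠ 0,
v_j ≠ 0 and r_i ≤ 0 ≤ r_j, i.e. the origin lies in the convex hull of the weights of v. (Stated for
the ambient projective space on its affine cone; the published statement is for a point of a closed
invariant subvariety, whose semistability is that of the point in the ambient space.) -/
theorem result (k : Type u) [Field k] [IsAlgClosed k]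
    (ι : Type u) [Fintype ι] [HopfRep.Comod k k[T;T⁻¹] (MvPolynomial ι k)] [GLin.IsCoactAlg k k[T;T⁻¹] (MvPolynomial ι k)]
    (r : ι → ℤ)
    (hr : ∀ i : ι, HopfRep.Comod.coact (k := k) (A := k[T;T⁻¹]) (MvPolynomial.X i : MvPolynomial ι k) =
      (MvPolynomial.X i : MvPolynomial ι k) ⊗ₜ[k] (T (r i) : k[T;T⁻¹]))
    (v : ι → k) :
    GLin.IsSemistableVec k k[T;T⁻¹] v ↔ ∃ i j : ι, v i ≠ 0 ∧ v j ≠ 0 ∧ r i ≤ 0 ∧ 0 ≤ r j := by
  classical
  constructor
  · intro hss
    rw [GLin.IsSemistableVec, GLin.IsNullform] at hss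
    simp only [not_forall] at hss
    obtain ⟨F, hF, d, hd, hhom, hne⟩ := hss
    -- some monomial of F does not vanish at v
    have hex : ∃ α ∈ F.support, MvPolynomial.eval v (MvPolynomial.monomial α (MvPolynomial.coeff α F)) ≠ 0 := by
      by_contra hc
      simp only [not_exists, not_and, not_not] at hc
      apply hne
      conv_lhs => rw [← MvPolynomial.support_sum_monomial_coeff F]
      rw [map_sum]
      exact Finset.sum_eq_zero hc
    obtain ⟨α, hα, hαv⟩ := hex
    have hw := weight_eq_zero_of_mem_support r hr hF hα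
    have hdeg : α.degree = d := by
      have := hhom (MvPolynomial.mem_support_iff.1 hα)
      rw [← this, Finsupp.degree_eq_weight_one]
      rfl
    have hvi : ∀ i ∈ α.support, v i ≠ 0 := by
      intro i hi hvi
      apply hαv
      rw [MvPolynomial.eval_monomial, Finsupp.prod]
      have : ∏ j ∈ α.support, v j ^ α j = 0 :=
        Finset.prod_eq_zero hi (by rw [hvi, zero_pow (Finsupp.mem_support_iff.1 hi)])
      rw [this, mul_zero]
    have hα0 : α ≠ 0 := by
      intro h0
      rw [h0] at hdeg
      simp at hdeg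
      omega
    have hsum : ∑ i ∈ α.support, ((α i : ℤ) * r i) = 0 := by
      have := hw
      rw [Finsupp.weight_apply, Finsupp.sum] at this
      simpa [nsmul_eq_mul] using this
    obtain ⟨i₀, hi₀⟩ : ∃ i, i ∈ α.support := by
      by_contra hc
      simp only [not_exists] at hc
      exact hα0 (Finsupp.support_eq_empty.1 (Finset.eq_empty_of_forall_notMem hc))
    have hpos : ∀ i ∈ α.support, (0 : ℤ) < α i := fun i hi => by
      have := Finsupp.mem_support_iff.1 hi
      positivity
    have hi : ∃ i ∈ α.support, r i ≤ 0 := by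
      by_contra hc
      simp only [not_exists, not_and, not_le] at hc
      have : 0 < ∑ i ∈ α.support, ((α i : ℤ) * r i) :=
        Finset.sum_pos (fun i hi => mul_pos (hpos i hi) (hc i hi)) ⟨i₀, hi₀⟩
      omega
    have hj : ∃ j ∈ α.support, 0 ≤ r j := by
      by_contra hc
      simp only [not_exists, not_and, not_le] at hc
      have : ∑ i ∈ α.support, ((α i : ℤ) * r i) < 0 :=
        Finset.sum_neg (fun i hi => mul_neg_of_pos_of_neg (hpos i hi) (hc i hi)) ⟨i₀, hi₀⟩
      omega
    obtain ⟨i, hi, hri⟩ := hi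
    obtain ⟨j, hj, hrj⟩ := hj
    exact ⟨i, j, hvi i hi, hvi j hj, hri, hrj⟩
  · rintro ⟨i, j, hvi, hvj, hri, hrj⟩
    rw [GLin.IsSemistableVec, GLin.IsNullform]
    simp only [not_forall]
    by_cases h0 : r i = 0
    · refine ⟨MvPolynomial.X i, ?_, 1, Nat.one_pos, MvPolynomial.isHomogeneous_X k i, ?_⟩
      · rw [GLin.mem_invariants_iff, hr, h0, T_zero]
      · rw [MvPolynomial.eval_X]; exact hvi
    by_cases h0' : r j = 0
    · refine ⟨MvPolynomial.X j, ?_, 1, Nat.one_pos, MvPolynomial.isHomogeneous_X k j, ?_⟩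
      · rw [GLin.mem_invariants_iff, hr, h0', T_zero]
      · rw [MvPolynomial.eval_X]; exact hvj
    have hri' : r i < 0 := lt_of_le_of_ne hri h0
    have hrj' : 0 < r j := lt_of_le_of_ne hrj (Ne.symm h0')
    set a : ℕ := (r j).toNat with ha
    set b : ℕ := (-r i).toNat with hb
    have haz : (a : ℤ) = r j := Int.toNat_of_nonneg hrj
    have hbz : (b : ℤ) = -r i := Int.toNat_of_nonneg (by omega)
    refine ⟨MvPolynomial.X i ^ a * MvPolynomial.X j ^ b, ?_, a + b, ?_, ?_, ?_⟩
    · rw [GLin.mem_invariants_iff, GLin.IsCoactAlg.coact_mul, coact_pow, coact_pow, hr, hr,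
        Algebra.TensorProduct.tmul_pow, Algebra.TensorProduct.tmul_pow,
        Algebra.TensorProduct.tmul_mul_tmul, T_pow, T_pow, ← T_add]
      have : (a : ℤ) * r i + (b : ℤ) * r j = 0 := by rw [haz, hbz]; ring
      rw [this, T_zero]
    · have : 0 < a := by omega
      omega
    · exact (MvPolynomial.isHomogeneous_X_pow i a).mul (MvPolynomial.isHomogeneous_X_pow j b)
    · rw [map_mul, map_pow, map_pow, MvPolynomial.eval_X, MvPolynomial.eval_X]
      exact mul_ne_zero (pow_ne_zero _ hvi) (pow_ne_zero _ hvj)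

end Groth.Agent.S19422
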