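import Groth.Statements.S19423
import Groth.Agent.Lib.StableInt38
import Groth.Agent.Lib.GLinGrading38
import Groth.Agent.Lib.GITOrbit38

set_option autoImplicit false
universe u
open TensorProduct LaurentPolynomial
open GIT

namespace Groth.Agent.S19423

section helpers
set_option linter.unusedSectionVars false
variable {k : Type u} [Field k] {ι : Type u} [Fintype ι]
  [HopfRep.Comod k k[T;T⁻¹] (MvPolynomial ι k)] [GLin.IsCoactAlg k k[T;T⁻¹] (MvPolynomial ι k)]

theorem orbitHom_X (r : ι → ℤ)
    (hr : ∀ i : ι, HopfRep.Comod.coact (k := k) (A := k[T;T⁻¹]) (MvPolynomial.X i : MvPolynomial ι k) =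
      (MvPolynomial.X i : MvPolynomial ι k) ⊗ₜ[k] (T (r i) : k[T;T⁻¹])) (v : ι → k) (i : ι) :
    GLin.orbitHom k k[T;T⁻¹] (GLin.vecPt k ι v) (MvPolynomial.X i) = v i • (T (r i) : k[T;T⁻¹]) := by
  rw [Groth.Agent.Lib.GLinGrading38.orbitHom_apply, hr i]
  simp [GLin.vecPt]

/-- integrality of the orbit map when weights of both signs occur -/
theorem isIntegral_orbitHom (r : ι → ℤ)
    (hr : ∀ i : ι, HopfRep.Comod.coact (k := k) (A := k[T;T⁻¹]) (MvPolynomial.X i : MvPolynomial ι k) =
      (MvPolynomial.X i : MvPolynomial ι k) ⊗ₜ[k] (T (r i) : k[T;T⁻¹])) (v : ι → k) (i j : ι)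
    (hvi : v i ≠ 0) (hvj : v j ≠ 0) (hri : r i < 0) (hrj : 0 < r j) :
    (GLin.orbitHom k k[T;T⁻¹] (GLin.vecPt k ι v)).toRingHom.IsIntegral := by
  set φ := GLin.orbitHom k k[T;T⁻¹] (GLin.vecPt k ι v) with hφ
  let _ : Algebra (MvPolynomial ι k) k[T;T⁻¹] := φ.toRingHom.toAlgebra
  have halg : ∀ f : MvPolynomial ι k, algebraMap (MvPolynomial ι k) k[T;T⁻¹] f = φ f := fun _ => rfl
  -- powers of `T` in the image
  have hTj : (T (r j) : k[T;T⁻¹]) = algebraMap (MvPolynomial ι k) k[T;T⁻¹]
      (MvPolynomial.C (v j)⁻¹ * MvPolynomial.X j) := by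
    rw [halg, map_mul, hφ, orbitHom_X r hr, ← MvPolynomial.algebraMap_eq, AlgHom.commutes,
      Algebra.algebraMap_eq_smul_one, smul_mul_assoc, one_mul, smul_smul, inv_mul_cancel₀ hvj,
      one_smul]
  have hTi : (T (r i) : k[T;T⁻¹]) = algebraMap (MvPolynomial ι k) k[T;T⁻¹]
      (MvPolynomial.C (v i)⁻¹ * MvPolynomial.X i) := by
    rw [halg, map_mul, hφ, orbitHom_X r hr, ← MvPolynomial.algebraMap_eq, AlgHom.commutes,
      Algebra.algebraMap_eq_smul_one, smul_mul_assoc, one_mul, smul_smul, inv_mul_cancel₀ hvi,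
      one_smul]
  have hT1 : IsIntegral (MvPolynomial ι k) (T 1 : k[T;T⁻¹]) := by
    apply IsIntegral.of_pow (n := (r j).toNat) (by omega)
    rw [T_pow, mul_one, Int.toNat_of_nonneg hrj.le, hTj]
    exact isIntegral_algebraMap
  have hT1' : IsIntegral (MvPolynomial ι k) (T (-1) : k[T;T⁻¹]) := by
    apply IsIntegral.of_pow (n := (-r i).toNat) (by omega)
    rw [T_pow, Int.toNat_of_nonneg (by omega), mul_neg, mul_one, neg_neg, hTi]
    exact isIntegral_algebraMap
  have hC : ∀ a : k, IsIntegral (MvPolynomial ι k) (C a : k[T;T⁻¹]) := by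
    intro a
    have : (C a : k[T;T⁻¹]) = algebraMap (MvPolynomial ι k) k[T;T⁻¹] (MvPolynomial.C a) := by
      rw [halg, ← MvPolynomial.algebraMap_eq, AlgHom.commutes]
      rfl
    rw [this]
    exact isIntegral_algebraMap
  intro p
  show IsIntegral (MvPolynomial ι k) p
  induction p using LaurentPolynomial.induction_on with
  | h_C a => exact hC a
  | h_add hp hq => exact hp.add hq
  | h_C_mul_T n a h =>
    rw [T_add, ← mul_assoc]
    exact h.mul hT1
  | h_C_mul_T_Z n a h =>
    rw [sub_eq_add_neg, T_add, ← mul_assoc]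
    exact h.mul hT1'

/-- a point all of whose non-zero coordinates have weight zero is fixed, so its stabiliser is not
finite -/
theorem not_hasFiniteStab_of_fixed (r : ι → ℤ)
    (hr : ∀ i : ι, HopfRep.Comod.coact (k := k) (A := k[T;T⁻¹]) (MvPolynomial.X i : MvPolynomial ι k) =
      (MvPolynomial.X i : MvPolynomial ι k) ⊗ₜ[k] (T (r i) : k[T;T⁻¹])) (v : ι → k)
    (h0 : ∀ l, v l ≠ 0 → r l = 0) :
    ¬ GLin.HasFiniteStab k k[T;T⁻¹] (GLin.vecPt k ι v) := by
  intro hfin
  have hfix : GLin.orbitHom k k[T;T⁻¹] (GLin.vecPt k ι v) =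
      (Algebra.ofId k k[T;T⁻¹]).comp (GLin.vecPt k ι v) := by
    apply MvPolynomial.algHom_ext
    intro l
    rw [orbitHom_X r hr, AlgHom.comp_apply]
    have : GLin.vecPt k ι v (MvPolynomial.X l) = v l := by simp [GLin.vecPt]
    rw [this, Algebra.ofId_apply, Algebra.algebraMap_eq_smul_one]
    by_cases hv : v l = 0
    · rw [hv, zero_smul, zero_smul]
    · rw [h0 l hv, T_zero]
  have hbot : GLin.stabIdeal k k[T;T⁻¹] (GLin.vecPt k ι v) = ⊥ := by
    rw [eq_bot_iff, GLin.stabIdeal, Ideal.map_le_iff_le_comap]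
    intro f hf
    rw [Ideal.mem_comap, Ideal.mem_bot, hfix, AlgHom.comp_apply, RingHom.mem_ker.1 hf, map_zero]
  have hfin' : Module.Finite k (k[T;T⁻¹] ⧸ GLin.stabIdeal k k[T;T⁻¹] (GLin.vecPt k ι v)) := hfin
  rw [hbot] at hfin'
  let L : Polynomial k →ₗ[k] (k[T;T⁻¹] ⧸ (⊥ : Ideal k[T;T⁻¹])) :=
    (Ideal.Quotient.mkₐ k (⊥ : Ideal k[T;T⁻¹])).toLinearMap ∘ₗ
      (Polynomial.toLaurentAlg (R := k)).toLinearMap
  have hL : Function.Injective L := by
    intro p q hpq
    have h1 : Ideal.Quotient.mk (⊥ : Ideal k[T;T⁻¹]) (Polynomial.toLaurent p) =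
        Ideal.Quotient.mk (⊥ : Ideal k[T;T⁻¹]) (Polynomial.toLaurent q) := hpq
    rw [Ideal.Quotient.eq, Ideal.mem_bot, sub_eq_zero] at h1
    exact Polynomial.toLaurent_injective h1
  have := Module.Finite.of_injective L hL
  exact Polynomial.not_finite this

/-- if the weights of the non-zero coordinates all have the sign `ε`, the weight-zero component
lies in the orbit closure -/
theorem inOrbitClosure_weightZero (r : ι → ℤ)
    (hr : ∀ i : ι, HopfRep.Comod.coact (k := k) (A := k[T;T⁻¹]) (MvPolynomial.X i : MvPolynomial ι k) =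
      (MvPolynomial.X i : MvPolynomial ι k) ⊗ₜ[k] (T (r i) : k[T;T⁻¹])) (v : ι → k)
    (j : Polynomial k →ₐ[k] k[T;T⁻¹]) (hj : Function.Injective j) (ε : ℤ)
    (hjX : j Polynomial.X = T ε) (hε : ε * ε = 1) (hpos : ∀ l, v l ≠ 0 → 0 ≤ ε * r l) :
    GLin.InOrbitClosure k k[T;T⁻¹] (GLin.vecPt k ι v)
      (GLin.vecPt k ι fun l => if r l = 0 then v l else 0) := by
  classical
  let ψ : MvPolynomial ι k →ₐ[k] Polynomial k :=
    MvPolynomial.aeval fun l => Polynomial.C (v l) * Polynomial.X ^ (ε * r l).toNat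
  have hfac : j.comp ψ = GLin.orbitHom k k[T;T⁻¹] (GLin.vecPt k ι v) := by
    apply MvPolynomial.algHom_ext
    intro l
    rw [orbitHom_X r hr, AlgHom.comp_apply]
    simp only [ψ, MvPolynomial.aeval_X]
    rw [map_mul, map_pow, hjX, T_pow, ← Polynomial.algebraMap_eq, AlgHom.commutes,
      Algebra.algebraMap_eq_smul_one, smul_mul_assoc, one_mul]
    by_cases hv : v l = 0
    · rw [hv, zero_smul, zero_smul]
    · have h1 : (((ε * r l).toNat : ℕ) : ℤ) * ε = r l := by
        rw [Int.toNat_of_nonneg (hpos l hv)]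
        calc ε * r l * ε = (ε * ε) * r l := by ring
          _ = r l := by rw [hε, one_mul]
      rw [h1]
  have hz : (Polynomial.aeval (0 : k)).comp ψ =
      GLin.vecPt k ι fun l => if r l = 0 then v l else 0 := by
    apply MvPolynomial.algHom_ext
    intro l
    rw [AlgHom.comp_apply]
    simp only [ψ, MvPolynomial.aeval_X, GLin.vecPt]
    rw [map_mul, map_pow, Polynomial.aeval_X, Polynomial.aeval_C]
    simp only [Algebra.algebraMap_self, RingHom.id_apply]
    by_cases hv : v l = 0
    · simp [hv]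
    · by_cases hrl : r l = 0
      · simp [hrl]
      · have h1 : (ε * r l).toNat ≠ 0 := by
          have h2 := hpos l hv
          have h3 : ε * r l ≠ 0 := by
            intro h0
            apply hrl
            calc r l = (ε * ε) * r l := by rw [hε, one_mul]
              _ = ε * (ε * r l) := by ring
              _ = 0 := by rw [h0, mul_zero]
          omega
        rw [zero_pow h1, mul_zero, if_neg hrl]
  intro f hf
  rw [RingHom.mem_ker] at hf ⊢
  rw [← hfac, AlgHom.comp_apply] at hf
  have h0 : ψ f = 0 := hj (by rw [hf, map_zero])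
  rw [← hz, AlgHom.comp_apply, h0, map_zero]

end helpers


/-- Over an algebraically closed field k, let the multiplicative group, whose coordinate Hopf algebra is
the Laurent polynomial ring, act diagonally on affine ι-space, ι finite: the coaction on the
polynomial ring is multiplicative and sends the coordinate function X_i to X_i ⊗ T^(r_i) for
integers r_i. Then a vector v is stable (the orbit of the point v of affine space is closed and its
stabiliser is a finite group scheme) if and only if there are indices i and j with v_i ≠ 0, v_j ≠ 0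
and r_i < 0 < r_j, i.e. the origin is an interior point of the convex hull of the weights of v.
(Stated for the ambient projective space on its affine cone, where stability means a closed orbit
with finite stabiliser in the cone.) -/
theorem result (k : Type u) [Field k] [IsAlgClosed k]
    (ι : Type u) [Fintype ι] [HopfRep.Comod k k[T;T⁻¹] (MvPolynomial ι k)] [GLin.IsCoactAlg k k[T;T⁻¹] (MvPolynomial ι k)]
    (r : ι → ℤ)
    (hr : ∀ i : ι, HopfRep.Comod.coact (k := k) (A := k[T;T⁻¹]) (MvPolynomial.X i : MvPolynomial ι k) =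
      (MvPolynomial.X i : MvPolynomial ι k) ⊗ₜ[k] (T (r i) : k[T;T⁻¹]))
    (v : ι → k) :
    GLin.IsStableVec k k[T;T⁻¹] v ↔ ∃ i j : ι, v i ≠ 0 ∧ v j ≠ 0 ∧ r i < 0 ∧ 0 < r j := by
  classical
  constructor
  · rintro ⟨hcl, hfin⟩
    by_contra hne
    push Not at hne
    -- all non-zero coordinates have weights of one sign
    have hsign : (∀ l, v l ≠ 0 → 0 ≤ r l) ∨ (∀ l, v l ≠ 0 → r l ≤ 0) := by
      by_contra hcon
      rw [not_or] at hcon
      obtain ⟨h1, h2⟩ := hcon
      push Not at h1 h2
      obtain ⟨i, hvi, hri⟩ := h1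
      obtain ⟨j, hvj, hrj⟩ := h2
      exact absurd hrj (not_lt.2 (hne i j hvi hvj hri))
    have hcl' : GLin.InOrbitClosure k k[T;T⁻¹] (GLin.vecPt k ι v)
        (GLin.vecPt k ι fun l => if r l = 0 then v l else 0) := by
      rcases hsign with h | h
      · refine inOrbitClosure_weightZero r hr v (Polynomial.toLaurentAlg (R := k))
          Polynomial.toLaurent_injective 1 ?_ (by norm_num) ?_
        · rw [Polynomial.toLaurentAlg_apply, Polynomial.toLaurent_X]
        · intro l hl
          rw [one_mul]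
          exact h l hl
      · refine inOrbitClosure_weightZero r hr v
          ((LaurentPolynomial.invert (R := k)).toAlgHom.comp (Polynomial.toLaurentAlg (R := k)))
          ?_ (-1) ?_ (by norm_num) ?_
        · intro p q hpq
          exact Polynomial.toLaurent_injective ((LaurentPolynomial.invert (R := k)).injective hpq)
        · rw [AlgHom.comp_apply, Polynomial.toLaurentAlg_apply, Polynomial.toLaurent_X]
          exact LaurentPolynomial.invert_T 1
        · intro l hl
          have := h l hl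
          omega
    obtain ⟨g, hg⟩ := Groth.Agent.Lib.GITOrbit38.exists_actPt_eq_of_isClosedOrbit _ _ hcl hcl'
    have h0 : ∀ l, v l ≠ 0 → r l = 0 := by
      intro l hl
      by_contra hrl
      have h1 : GLin.vecPt k ι (fun l => if r l = 0 then v l else 0) (MvPolynomial.X l) =
          GLin.actPt k g (GLin.vecPt k ι v) (MvPolynomial.X l) := by rw [hg]
      have h2 : GLin.actPt k g (GLin.vecPt k ι v) (MvPolynomial.X l) = v l * g (T (r l)) := by
        show g (GLin.orbitHom k k[T;T⁻¹] (GLin.vecPt k ι v) (MvPolynomial.X l)) = _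
        rw [orbitHom_X r hr, map_smul, smul_eq_mul]
      have h3 : GLin.vecPt k ι (fun l => if r l = 0 then v l else 0) (MvPolynomial.X l) = 0 := by
        simp [GLin.vecPt, hrl]
      rw [h2, h3] at h1
      have h4 : IsUnit (g (T (r l))) := (LaurentPolynomial.isUnit_T (r l)).map g
      exact (mul_ne_zero hl h4.ne_zero) h1.symm
    exact not_hasFiniteStab_of_fixed r hr v h0 hfin
  · rintro ⟨i, j, hvi, hvj, hri, hrj⟩
    exact Groth.Agent.Lib.StableInt38.isStablePt_of_isIntegral _
      (isIntegral_orbitHom r hr v i j hvi hvj hri hrj)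

end Groth.Agent.S19423
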