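import Groth.Statements.S19424
import Groth.Agent.Lib.OrbitMeet45
import Groth.Agent.Lib.KPointExt45

set_option autoImplicit false
universe u
open CategoryTheory MonoidalCategory CartesianMonoidalCategory MonObj AlgebraicGeometry Topology
open NRQuot

namespace Groth.Agent.S19424

/-- Let k be an algebraically closed field, G an affine group scheme of finite type over k acting on a
k-scheme X locally of finite type, and φ : X → Y a good quotient (affine and invariant, functions on
every open of Y are exactly the invariant functions on its preimage, invariant closed subsets have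
closed images, and images commute with intersections of families of invariant closed subsets). Then
for two k-points x₁, x₂ of X, the closures of their orbits (the images of the orbit morphisms G → X)
have a common point if and only if x₁ and x₂ have the same image in Y. -/
theorem result
    (k : Type u) [Field k] [IsAlgClosed k]
    (G X Y : Over (Spec (CommRingCat.of k))) [GrpObj G] [IsAffine G.left] [LocallyOfFiniteType G.hom]
    [LocallyOfFiniteType X.hom]
    (a : AlgGrp.Action G X) (φ : X ⟶ Y) (h : NRQuot.IsGoodQuot a φ)
    (x₁ x₂ : 𝟙_ (Over (Spec (CommRingCat.of k))) ⟶ X) :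
    (closure (Set.range (a.orbitMap x₁).left.base) ∩ closure (Set.range (a.orbitMap x₂).left.base)).Nonempty ↔
      x₁ ≫ φ = x₂ ≫ φ := by
  classical
  let pt : (𝟙_ (Over (Spec (CommRingCat.of k)))).left := IsLocalRing.closedPoint k
  have hmem : ∀ x : 𝟙_ (Over (Spec (CommRingCat.of k))) ⟶ X,
      x.left pt ∈ Groth.Agent.Lib.OrbitStable45.orbit a x := by
    intro x
    refine ⟨η[G].left pt, ?_⟩
    rw [← Scheme.Hom.comp_apply, ← Over.comp_left, Groth.Agent.Lib.GrpAction.comp_orbitMap,
      toUnit_unique (toUnit (𝟙_ (Over (Spec (CommRingCat.of k))))) (𝟙 _), Category.id_comp]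
    have : (η[G] : 𝟙_ (Over (Spec (CommRingCat.of k))) ⟶ G) = 1 := by
      rw [Hom.one_def, toUnit_unique (toUnit (𝟙_ (Over (Spec (CommRingCat.of k))))) (𝟙 _),
        Category.id_comp]
    rw [this, Groth.Agent.Lib.GrpAction.one_act]
  have hclinv : ∀ x : 𝟙_ (Over (Spec (CommRingCat.of k))) ⟶ X,
      NRQuot.IsInvariantSet a (closure (Groth.Agent.Lib.OrbitStable45.orbit a x)) := by
    intro x p hp
    exact (Groth.Agent.Lib.OrbitStable45.isStable_orbit a x).closure.act_mem hp
  constructor
  · -- orbit closures meet ⇒ same image
    rintro ⟨z, hz1, hz2⟩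
    have hsec : ∀ x : 𝟙_ (Over (Spec (CommRingCat.of k))) ⟶ X,
        (x ≫ φ).left ≫ Y.hom = 𝟙 (Spec (CommRingCat.of k)) := by
      intro x
      rw [Over.w]
      rfl
    have hsub : ∀ x : 𝟙_ (Over (Spec (CommRingCat.of k))) ⟶ X,
        closure (Groth.Agent.Lib.OrbitStable45.orbit a x) ⊆
          φ.left ⁻¹' {(x ≫ φ).left pt} := by
      intro x
      have hcl : IsClosed ({(x ≫ φ).left pt} : Set Y.left) :=
        Groth.Agent.Lib.KPointExt45.isClosed_singleton_of_section (K := k) (x ≫ φ).left Y.hom
          (hsec x)
      refine closure_minimal ?_ (hcl.preimage φ.left.continuous)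
      rintro _ ⟨g0, rfl⟩
      change φ.left ((a.orbitMap x).left g0) = (x ≫ φ).left pt
      rw [← Scheme.Hom.comp_apply, ← Over.comp_left]
      have h1 : a.orbitMap x ≫ φ = toUnit G ≫ x ≫ φ := by
        unfold AlgGrp.Action.orbitMap
        rw [Category.assoc, h.inv, ← Category.assoc, lift_snd, Category.assoc]
      rw [h1, Over.comp_left, Scheme.Hom.comp_apply]
      congr 1
      exact Subsingleton.elim (α := PrimeSpectrum k) _ _
    have e1 : φ.left z = (x₁ ≫ φ).left pt := hsub x₁ hz1
    have e2 : φ.left z = (x₂ ≫ φ).left pt := hsub x₂ hz2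
    apply Over.OverMorphism.ext
    exact Groth.Agent.Lib.KPointExt45.ext_of_apply_closedPoint_eq (K := k) Y.hom (hsec x₁)
      (hsec x₂) (e1.symm.trans e2)
  · -- same image ⇒ orbit closures meet
    intro hφ
    let O : ULift.{u} Bool → Set ↥X.left := fun j =>
      if j.down then closure (Groth.Agent.Lib.OrbitStable45.orbit a x₁)
      else closure (Groth.Agent.Lib.OrbitStable45.orbit a x₂)
    have hOcl : ∀ j, IsClosed (O j) := by
      intro j
      by_cases hj : j.down
      · simp only [O, hj, if_true]; exact isClosed_closure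
      · simp only [O, hj]; exact isClosed_closure
    have hOinv : ∀ j, NRQuot.IsInvariantSet a (O j) := by
      intro j
      by_cases hj : j.down
      · simp only [O, hj, if_true]; exact hclinv x₁
      · simp only [O, hj]; exact hclinv x₂
    have hint := h.inter (ULift.{u} Bool) O hOcl hOinv
    have hy : φ.left (x₁.left pt) ∈ ⋂ j, φ.left.base '' (O j) := by
      rw [Set.mem_iInter]
      intro j
      by_cases hj : j.down
      · simp only [O, hj, if_true]
        exact ⟨x₁.left pt, subset_closure (hmem x₁), rfl⟩
      · simp only [O, hj]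
        refine ⟨x₂.left pt, subset_closure (hmem x₂), ?_⟩
        change (x₂ ≫ φ).left pt = (x₁ ≫ φ).left pt
        rw [hφ]
    rw [← hint] at hy
    obtain ⟨z, hz, -⟩ := hy
    rw [Set.mem_iInter] at hz
    have hz1 : z ∈ closure (Groth.Agent.Lib.OrbitStable45.orbit a x₁) := by
      have := hz ⟨true⟩
      simpa [O] using this
    have hz2 : z ∈ closure (Groth.Agent.Lib.OrbitStable45.orbit a x₂) := by
      have := hz ⟨false⟩
      simpa [O] using this
    exact ⟨z, hz1, hz2⟩

end Groth.Agent.S19424
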