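import Groth.Statements.S19426
import Groth.Agent.Lib.H77StabFibre

set_option autoImplicit false
universe u
open CategoryTheory MonoidalCategory CartesianMonoidalCategory MonObj AlgebraicGeometry Topology
open GIT

namespace Groth.Agent.S19426

/-- Let k be an algebraically closed field, G an affine group scheme of finite type over k acting on a
k-scheme X locally of finite type, and for a point x of X let G_x denote its stabiliser, the group
scheme over the residue field of x obtained as the fibre of (g, t) ↦ (g · x(t), t) over (x, id).
Then for every n the set of points x of X with dim G_x ≥ n is closed: the stabiliser dimension is an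
upper semicontinuous function on X. (Stated at all points of the scheme X; the published statement
is for the closed points of a variety, and also phrases it through the orbit dimension dim G − dim
G_x, which is not restated here.) -/
theorem result
    (k : Type u) [Field k] [IsAlgClosed k]
    (G X : Over (Spec (CommRingCat.of k))) [GrpObj G] [IsAffine G.left] [LocallyOfFiniteType G.hom]
    [LocallyOfFiniteType X.hom]
    (a : AlgGrp.Action G X) (n : WithBot ℕ∞) :
    IsClosed {x : X.left | n ≤ topologicalKrullDim
      (GLinSh.stab a (Over.homMk (X.left.fromSpecResidueField x) rfl :
        Over.mk (X.left.fromSpecResidueField x ≫ X.hom) ⟶ X))} := by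
  classical
  letI : GrpObj (Groth.Agent.Lib.StabRel45.stab a) := Groth.Agent.Lib.StabRel45.stabGrpObj a
  haveI : LocallyOfFiniteType (Groth.Agent.Lib.StabRel45.stab a).hom :=
    Groth.Agent.Lib.StabFibre45.lft_stab a
  -- the stabiliser of `x` is the fibre of the relative stabiliser
  have key : ∀ x : X.left, topologicalKrullDim
      (GLinSh.stab a (Over.homMk (X.left.fromSpecResidueField x) rfl :
        Over.mk (X.left.fromSpecResidueField x ≫ X.hom) ⟶ X)) =
      topologicalKrullDim ((Groth.Agent.Lib.StabRel45.stab a).hom.fiber x) := fun x =>
    Groth.Agent.Lib.H77StabFibre.topologicalKrullDim_stab a _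
  simp only [key]
  have hnat : ∀ m : ℕ, IsClosed {x : X.left | (m : WithBot ℕ∞) ≤
      topologicalKrullDim ((Groth.Agent.Lib.StabRel45.stab a).hom.fiber x)} := fun m =>
    Groth.Agent.Lib.H71GrpDim.isClosed_le_dim_fiber (Groth.Agent.Lib.StabRel45.stab a) m
  induction n using WithBot.recBotCoe with
  | bot => simp
  | coe n =>
    induction n using ENat.recTopCoe with
    | top =>
      have : {x : X.left | (((⊤ : ℕ∞) : WithBot ℕ∞)) ≤
          topologicalKrullDim ((Groth.Agent.Lib.StabRel45.stab a).hom.fiber x)} =
          ⋂ m : ℕ, {x : X.left | (m : WithBot ℕ∞) ≤
            topologicalKrullDim ((Groth.Agent.Lib.StabRel45.stab a).hom.fiber x)} := by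
        ext x
        simp only [Set.mem_ofPred_eq, Set.mem_iInter]
        generalize topologicalKrullDim ((Groth.Agent.Lib.StabRel45.stab a).hom.fiber x) = d
        induction d using WithBot.recBotCoe with
        | bot =>
          constructor
          · intro h; simp at h
          · intro h; have := h 0; simp at this
        | coe d =>
          constructor
          · intro h m
            exact le_trans (WithBot.coe_le_coe.mpr le_top) h
          · intro h
            rw [WithBot.coe_le_coe, top_le_iff, ENat.eq_top_iff_forall_ge]
            intro m
            exact WithBot.coe_le_coe.mp (h m)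
      rw [this]
      exact isClosed_iInter hnat
    | coe m => exact hnat m

end Groth.Agent.S19426
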