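import Groth.Statements.S19427
import Groth.Agent.Lib.MilKGeneral

set_option autoImplicit false
universe u
open MilnorK

namespace Groth.Agent.S19427

/-- For a field F and nonzero b, c with b + c ≠ 0, in the Milnor K-group K_2(F) one has {b, c} + {b + c,
-b/c} = 0, that is {b, c} = -{b + c, -b/c} = {b + c, -c/b}. (The identity as displayed in the source
is {b, c} = {b + c, -b/c}, which differs from this by a sign and fails in general: for b = 3, c = 5
over the rationals the tame symbol at 5 takes the values 3 and 1/3 on the two sides; the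
accompanying derivation from the Steinberg relation b/(b+c) + c/(b+c) = 1 gives exactly the identity
stated here.) -/
theorem result (F : Type u) [Field F] (b c : Fˣ)
    (h : (b : F) + (c : F) ≠ 0) :
    (MilK.symbol ![b, c] : MilK.K F 2) + MilK.symbol ![Units.mk0 ((b : F) + (c : F)) h, -(b / c)] = 0 := by
  open Groth.Agent.Lib.MilKGeneral Groth.Agent.Lib.MilKSymbol MilK in
  set t : Fˣ := Units.mk0 ((b : F) + (c : F)) h with ht
  have hs : IsSteinbergSymbol (fun x y : Fˣ => (symbol ![x, y] : K F 2)) :=
    { mul_left := symbol2_mul_left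
      mul_right := symbol2_mul_right
      steinberg := symbol2_steinberg }
  -- Steinberg relation for b/t + c/t = 1
  have h1 : (symbol ![b / t, c / t] : K F 2) = 0 := by
    apply symbol2_steinberg
    have ht0 : (b : F) + c ≠ 0 := h
    simp only [Units.val_div_eq_div_val, ht, Units.val_mk0]
    field_simp
  have e1 : b / t = b * t⁻¹ := div_eq_mul_inv _ _
  have e2 : c / t = c * t⁻¹ := div_eq_mul_inv _ _
  have e3 : -(b / c) = (-1) * (b * c⁻¹) := by rw [div_eq_mul_inv]; simp
  rw [e1, e2, hs.mul_left, hs.mul_right, hs.mul_right, hs.inv_left, hs.inv_right, hs.inv_right,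
    hs.inv_left] at h1
  rw [e3, hs.mul_right, hs.mul_right, hs.inv_right]
  have h2 := hs.skew b t
  have h3 := hs.self_eq t
  rw [h3] at h1
  rw [h2] at h1
  rw [← h1]
  abel

end Groth.Agent.S19427
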