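import Groth.Statements.S19436
-- import your own Groth.Agent.* helpers here
import Mathlib.RingTheory.Nakayama
import Mathlib.LinearAlgebra.FiniteDimensional.Lemmas

set_option autoImplicit false
universe u
open CAlg

namespace Groth.Agent.S19436

/-- For a Noetherian local commutative algebra R over a field k, with maximal ideal M, and an ideal I of
R whose quotient R/I is finite-dimensional over k of dimension n, the power M^n lies in I. -/
theorem result (k : Type u) [Field k] (R : Type u) [CommRing R]
    [Algebra k R] [IsNoetherianRing R] [IsLocalRing R] (I : Ideal R) [Module.Finite k (R ⧸ I)] (n : ℕ)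
    (hn : Module.finrank k (R ⧸ I) = n) : IsLocalRing.maximalIdeal R ^ n ≤ I := by
  classical
  -- the image of `M ^ j` in `R ⧸ I`, as a `k`-subspace
  let W : ℕ → Submodule k (R ⧸ I) := fun j =>
    ((IsLocalRing.maximalIdeal R ^ j).map (Ideal.Quotient.mk I)).restrictScalars k
  have hW_bot : ∀ j, W j = ⊥ ↔ IsLocalRing.maximalIdeal R ^ j ≤ I := by
    intro j
    constructor
    · intro h x hx
      have h1 : Ideal.Quotient.mk I x ∈ W j := Ideal.mem_map_of_mem _ hx
      rw [h] at h1
      exact Ideal.Quotient.eq_zero_iff_mem.mp ((Submodule.mem_bot k).mp h1)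
    · intro h
      rw [eq_bot_iff]
      intro y hy
      have hy' : y ∈ (IsLocalRing.maximalIdeal R ^ j).map (Ideal.Quotient.mk I) := hy
      rw [Ideal.mem_map_iff_of_surjective _ Ideal.Quotient.mk_surjective] at hy'
      obtain ⟨x, hx, rfl⟩ := hy'
      rw [Submodule.mem_bot]
      exact Ideal.Quotient.eq_zero_iff_mem.mpr (h hx)
  have hW_anti : ∀ j, W (j + 1) ≤ W j := by
    intro j y hy
    exact Ideal.map_mono (Ideal.pow_le_pow_right (Nat.le_succ j)) hy
  have hstrict : ∀ j, W j ≠ ⊥ → W (j + 1) < W j := by
    intro j hj
    refine lt_of_le_of_ne (hW_anti j) ?_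
    intro heq
    apply hj
    rw [hW_bot]
    -- Nakayama
    have hle : IsLocalRing.maximalIdeal R ^ j ≤
        I ⊔ IsLocalRing.maximalIdeal R • (IsLocalRing.maximalIdeal R ^ j) := by
      intro x hx
      have h1 : Ideal.Quotient.mk I x ∈ W j := Ideal.mem_map_of_mem _ hx
      rw [← heq] at h1
      have h1' : Ideal.Quotient.mk I x ∈
          (IsLocalRing.maximalIdeal R ^ (j + 1)).map (Ideal.Quotient.mk I) := h1
      rw [Ideal.mem_map_iff_of_surjective _ Ideal.Quotient.mk_surjective] at h1'
      obtain ⟨y, hy, hxy⟩ := h1'
      have h2 : x - y ∈ I := by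
        rw [← Ideal.Quotient.eq_zero_iff_mem, map_sub, hxy, sub_self]
      have h3 : x = (x - y) + y := by ring
      rw [h3]
      refine Submodule.add_mem_sup h2 ?_
      rw [smul_eq_mul, ← pow_succ']
      exact hy
    exact Submodule.le_of_le_smul_of_le_jacobson_bot
      (IsNoetherian.noetherian (IsLocalRing.maximalIdeal R ^ j))
      (IsLocalRing.maximalIdeal_le_jacobson ⊥) hle
  have hmain : ∀ j, W j = ⊥ ∨ Module.finrank k (W j) + j ≤ n := by
    intro j
    induction j with
    | zero =>
      right
      rw [add_zero, ← hn]
      exact Submodule.finrank_le _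
    | succ j ih =>
      rcases ih with h | h
      · left
        rw [eq_bot_iff, ← h]
        exact hW_anti j
      · by_cases hj : W j = ⊥
        · left
          rw [eq_bot_iff, ← hj]
          exact hW_anti j
        · right
          have := Submodule.finrank_lt_finrank_of_lt (hstrict j hj)
          omega
  rcases hmain n with h | h
  · exact (hW_bot n).mp h
  · have h0 : Module.finrank k (W n) = 0 := by omega
    exact (hW_bot n).mp (Submodule.finrank_eq_zero.mp h0)

end Groth.Agent.S19436
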