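import Groth.Statements.S19437
import Mathlib
import Groth.Agent.Lib.Node97
-- import your own Groth.Agent.* helpers here

set_option autoImplicit false
universe u
open CAlg

namespace Groth.Agent.S19437

open Groth.Agent.Lib.Node97 PowerSeries

section N1
variable {k : Type u} [Field k]

local notation "P2" => MvPowerSeries (Fin 2) k

theorem px_X0_pow (N : ℕ) : px k ((MvPowerSeries.X 0 : P2) ^ N) = PowerSeries.X ^ N := by
  rw [map_pow, px_X0]

theorem py_X1_pow (N : ℕ) : py k ((MvPowerSeries.X 1 : P2) ^ N) = PowerSeries.X ^ N := by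
  rw [map_pow, py_X1]

theorem px_X1_pow {N : ℕ} (hN : 1 ≤ N) : px k ((MvPowerSeries.X 1 : P2) ^ N) = 0 := by
  rw [map_pow, px_X1, zero_pow (by omega)]

theorem py_X0_pow {N : ℕ} (hN : 1 ≤ N) : py k ((MvPowerSeries.X 0 : P2) ^ N) = 0 := by
  rw [map_pow, py_X0, zero_pow (by omega)]

/-- two series with the same projections differ by a multiple of `xy` -/
theorem sub_mem_span (f g : P2) (hx : px k f = px k g) (hy : py k f = py k g) :
    f - g ∈ Ideal.span {(MvPowerSeries.X 0 * MvPowerSeries.X 1 : P2)} := by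
  apply mem_span_of_px_py
  · rw [map_sub, hx, sub_self]
  · rw [map_sub, hy, sub_self]

theorem mem_of_proj_eq (J : Ideal P2) (hxy : (MvPowerSeries.X 0 * MvPowerSeries.X 1 : P2) ∈ J)
    {f g : P2} (hf : f ∈ J) (hx : px k g = px k f) (hy : py k g = py k f) : g ∈ J := by
  have h1 : g - f ∈ J := (Ideal.span_singleton_le_iff_mem (I := J)).mpr hxy (sub_mem_span g f hx hy)
  have : g = (g - f) + f := by ring
  rw [this]
  exact J.add_mem h1 hf

/-- finite colength gives a nonzero polynomial in any element inside `J` -/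
theorem exists_mem_ne_zero (J : Ideal P2) [Module.Finite k (P2 ⧸ J)]
    (ρ : P2 →ₐ[k] PowerSeries k) (t : P2) (ht : ρ t = PowerSeries.X) :
    ∃ f ∈ J, ρ f ≠ 0 := by
  classical
  set n := Module.finrank k (P2 ⧸ J) with hn
  let v : Fin (n + 1) → (P2 ⧸ J) := fun i => Ideal.Quotient.mk J (t ^ (i : ℕ))
  have hnl : ¬ LinearIndependent k v := by
    intro h
    have := h.fintype_card_le_finrank
    rw [Fintype.card_fin] at this
    omega
  rw [Fintype.not_linearIndependent_iff] at hnl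
  obtain ⟨g, hg, i₀, hi₀⟩ := hnl
  refine ⟨∑ i, g i • t ^ (i : ℕ), ?_, ?_⟩
  · rw [← Ideal.Quotient.eq_zero_iff_mem, map_sum, ← hg]
    refine Finset.sum_congr rfl fun i _ => ?_
    rfl
  · intro h0
    rw [map_sum] at h0
    have h1 := congrArg (PowerSeries.coeff (i₀ : ℕ)) h0
    rw [map_sum, map_zero] at h1
    rw [Finset.sum_eq_single i₀] at h1
    · rw [map_smul, map_pow, ht, PowerSeries.coeff_smul, PowerSeries.coeff_X_pow_self, smul_eq_mul,
        mul_one] at h1
      exact hi₀ h1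
    · intro j _ hj
      rw [map_smul, map_pow, ht, PowerSeries.coeff_smul, PowerSeries.coeff_X_pow, if_neg, smul_zero]
      intro h
      exact hj (Fin.ext h.symm)
    · intro h; exact absurd (Finset.mem_univ _) h

theorem px_surjective : Function.Surjective (px k) := fun a => ⟨ix k a, px_ix a⟩
theorem py_surjective : Function.Surjective (py k) := fun a => ⟨iy k a, py_iy a⟩

/-- the image of `J` under a surjection onto `k[[t]]` is `(t^a)` -/
theorem exists_pow (J : Ideal P2) (ρ : P2 →ₐ[k] PowerSeries k) (hρ : Function.Surjective ρ)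
    (hne : ∃ f ∈ J, ρ f ≠ 0) :
    ∃ a : ℕ, (∃ f ∈ J, ρ f = PowerSeries.X ^ a) ∧ ∀ f ∈ J, (PowerSeries.X : PowerSeries k) ^ a ∣ ρ f := by
  have hI : Ideal.map ρ J ≠ ⊥ := by
    obtain ⟨f, hf, hf0⟩ := hne
    intro h
    have : ρ f ∈ Ideal.map ρ J := Ideal.mem_map_of_mem _ hf
    rw [h, Ideal.mem_bot] at this
    exact hf0 this
  obtain ⟨a, ha⟩ := IsDiscreteValuationRing.ideal_eq_span_pow_irreducible hI
    (PowerSeries.X_prime (R := k)).irreducible
  refine ⟨a, ?_, ?_⟩
  · have : (PowerSeries.X : PowerSeries k) ^ a ∈ Ideal.map ρ J := by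
      rw [ha]; exact Ideal.mem_span_singleton_self _
    rw [Ideal.mem_map_iff_of_surjective ρ hρ] at this
    exact this
  · intro f hf
    have : ρ f ∈ Ideal.map ρ J := Ideal.mem_map_of_mem _ hf
    rw [ha, Ideal.mem_span_singleton] at this
    exact this

end N1

section N2
variable {k : Type u} [Field k]


/-- the data extracted from `J` -/
structure Data (J : Ideal (MvPowerSeries (Fin 2) k)) (a b : ℕ) : Prop where
  hxy : (MvPowerSeries.X 0 * MvPowerSeries.X 1 : (MvPowerSeries (Fin 2) k)) ∈ J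
  ha : 1 ≤ a
  hb : 1 ≤ b
  hfa : ∃ f ∈ J, px k f = PowerSeries.X ^ a
  hfb : ∃ f ∈ J, py k f = PowerSeries.X ^ b
  hda : ∀ f ∈ J, (PowerSeries.X : PowerSeries k) ^ a ∣ px k f
  hdb : ∀ f ∈ J, (PowerSeries.X : PowerSeries k) ^ b ∣ py k f

variable {J : Ideal (MvPowerSeries (Fin 2) k)} {a b : ℕ}

theorem Data.x_pow_succ (D : Data J a b) : (MvPowerSeries.X 0 : (MvPowerSeries (Fin 2) k)) ^ (a + 1) ∈ J := by
  obtain ⟨f, hf, hfx⟩ := D.hfa
  have h1 : MvPowerSeries.X 0 * f ∈ J := J.mul_mem_left _ hf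
  apply mem_of_proj_eq J D.hxy h1
  · rw [px_X0_pow, map_mul, px_X0, hfx, pow_succ']
  · rw [py_X0_pow (by omega), map_mul, py_X0, zero_mul]

theorem Data.y_pow_succ (D : Data J a b) : (MvPowerSeries.X 1 : (MvPowerSeries (Fin 2) k)) ^ (b + 1) ∈ J := by
  obtain ⟨f, hf, hfy⟩ := D.hfb
  have h1 : MvPowerSeries.X 1 * f ∈ J := J.mul_mem_left _ hf
  apply mem_of_proj_eq J D.hxy h1
  · rw [px_X1_pow (by omega), map_mul, px_X1, zero_mul]
  · rw [py_X1_pow, map_mul, py_X1, hfy, pow_succ']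

/-- series with both projections of one order higher lie in `J` -/
theorem Data.mem_of_dvd_succ (D : Data J a b) (f : (MvPowerSeries (Fin 2) k))
    (hx : (PowerSeries.X : PowerSeries k) ^ (a + 1) ∣ px k f)
    (hy : (PowerSeries.X : PowerSeries k) ^ (b + 1) ∣ py k f) : f ∈ J := by
  obtain ⟨u, hu⟩ := hx
  obtain ⟨v, hv⟩ := hy
  have hg : MvPowerSeries.X 0 ^ (a + 1) * ix k u + MvPowerSeries.X 1 ^ (b + 1) * iy k v ∈ J :=
    J.add_mem (J.mul_mem_right _ D.x_pow_succ) (J.mul_mem_right _ D.y_pow_succ)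
  apply mem_of_proj_eq J D.hxy hg
  · rw [map_add, map_mul, map_mul, px_X0_pow, px_X1_pow (by omega), px_ix, zero_mul, add_zero, hu]
  · rw [map_add, map_mul, map_mul, py_X0_pow (by omega), py_X1_pow, py_iy, zero_mul, zero_add, hv]

/-- leading coefficients -/
noncomputable def lam (a : ℕ) (f : (MvPowerSeries (Fin 2) k)) : k := PowerSeries.coeff a (px k f)
noncomputable def mu (b : ℕ) (f : (MvPowerSeries (Fin 2) k)) : k := PowerSeries.coeff b (py k f)

theorem dvd_succ_of_coeff {N : ℕ} {p : PowerSeries k} (h : (PowerSeries.X : PowerSeries k) ^ N ∣ p)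
    (hc : PowerSeries.coeff N p = 0) : (PowerSeries.X : PowerSeries k) ^ (N + 1) ∣ p := by
  rw [PowerSeries.X_pow_dvd_iff] at h ⊢
  intro m hm
  rcases Nat.lt_succ_iff_lt_or_eq.mp hm with h1 | h1
  · exact h m h1
  · rw [h1]; exact hc

/-- membership in `J` depends only on the pair of leading coefficients -/
theorem Data.mem_of_same (D : Data J a b) {f g : (MvPowerSeries (Fin 2) k)} (hf : f ∈ J)
    (hgx : (PowerSeries.X : PowerSeries k) ^ a ∣ px k g)
    (hgy : (PowerSeries.X : PowerSeries k) ^ b ∣ py k g)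
    (hl : lam a g = lam a f) (hm : mu b g = mu b f) : g ∈ J := by
  have h1 : g - f ∈ J := by
    apply D.mem_of_dvd_succ
    · apply dvd_succ_of_coeff
      · rw [map_sub]; exact dvd_sub hgx (D.hda f hf)
      · rw [map_sub, map_sub]; exact sub_eq_zero.mpr hl
    · apply dvd_succ_of_coeff
      · rw [map_sub]; exact dvd_sub hgy (D.hdb f hf)
      · rw [map_sub, map_sub]; exact sub_eq_zero.mpr hm
  have : g = (g - f) + f := by ring
  rw [this]
  exact J.add_mem h1 hf

theorem lam_smul (c : k) (f : (MvPowerSeries (Fin 2) k)) : lam a (c • f) = c * lam a f := by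
  unfold lam; rw [map_smul, PowerSeries.coeff_smul, smul_eq_mul]
theorem mu_smul (c : k) (f : (MvPowerSeries (Fin 2) k)) : mu b (c • f) = c * mu b f := by
  unfold mu; rw [map_smul, PowerSeries.coeff_smul, smul_eq_mul]
theorem lam_add (f g : (MvPowerSeries (Fin 2) k)) : lam a (f + g) = lam a f + lam a g := by
  unfold lam; rw [map_add, map_add]
theorem mu_add (f g : (MvPowerSeries (Fin 2) k)) : mu b (f + g) = mu b f + mu b g := by
  unfold mu; rw [map_add, map_add]

theorem smul_mem' (J : Ideal (MvPowerSeries (Fin 2) k)) (c : k) {f : (MvPowerSeries (Fin 2) k)} (hf : f ∈ J) : c • f ∈ J := by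
  rw [Algebra.smul_def]; exact J.mul_mem_left _ hf

theorem lam_x_pow (ha : 1 ≤ a) : lam a ((MvPowerSeries.X 0 : (MvPowerSeries (Fin 2) k)) ^ a) = 1 := by
  unfold lam; rw [px_X0_pow, PowerSeries.coeff_X_pow_self]
theorem mu_x_pow (ha : 1 ≤ a) : mu b ((MvPowerSeries.X 0 : (MvPowerSeries (Fin 2) k)) ^ a) = 0 := by
  unfold mu; rw [py_X0_pow ha, map_zero]
theorem lam_y_pow (hb : 1 ≤ b) : lam a ((MvPowerSeries.X 1 : (MvPowerSeries (Fin 2) k)) ^ b) = 0 := by
  unfold lam; rw [px_X1_pow hb, map_zero]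
theorem mu_y_pow (hb : 1 ≤ b) : mu b ((MvPowerSeries.X 1 : (MvPowerSeries (Fin 2) k)) ^ b) = 1 := by
  unfold mu; rw [py_X1_pow, PowerSeries.coeff_X_pow_self]

end N2

section N3
variable {k : Type u} [Field k]

/-- coefficients below the orders `a`, `b` -/
noncomputable def Phi1 (a b : ℕ) :
    MvPowerSeries (Fin 2) k →ₗ[k] (Fin a → k) × (Fin (b - 1) → k) where
  toFun f := (fun i => PowerSeries.coeff (i : ℕ) (px k f),
    fun j => PowerSeries.coeff ((j : ℕ) + 1) (py k f))
  map_add' f g := by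
    ext i
    · simp only [map_add, Prod.mk_add_mk, Pi.add_apply]
    · simp only [map_add, Prod.mk_add_mk, Pi.add_apply]
  map_smul' c f := by
    ext i
    · simp only [map_smul, RingHom.id_apply, Prod.smul_mk, Pi.smul_apply]
    · simp only [map_smul, RingHom.id_apply, Prod.smul_mk, Pi.smul_apply]

theorem Phi1_fst (a b : ℕ) (f : MvPowerSeries (Fin 2) k) (i : Fin a) :
    (Phi1 a b f).1 i = PowerSeries.coeff (i : ℕ) (px k f) := rfl

theorem Phi1_snd (a b : ℕ) (f : MvPowerSeries (Fin 2) k) (j : Fin (b - 1)) :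
    (Phi1 a b f).2 j = PowerSeries.coeff ((j : ℕ) + 1) (py k f) := rfl

theorem Phi1_eq_zero_iff {a b : ℕ} (ha : 1 ≤ a) (f : MvPowerSeries (Fin 2) k) :
    Phi1 a b f = 0 ↔ (PowerSeries.X : PowerSeries k) ^ a ∣ px k f ∧
      (PowerSeries.X : PowerSeries k) ^ b ∣ py k f := by
  constructor
  · intro h
    have h1 : ∀ i < a, PowerSeries.coeff i (px k f) = 0 := by
      intro i hi
      have := congrFun (congrArg Prod.fst h) ⟨i, hi⟩
      rwa [Phi1_fst] at this
    have h2 : ∀ j, j + 1 < b → PowerSeries.coeff (j + 1) (py k f) = 0 := by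
      intro j hj
      have := congrFun (congrArg Prod.snd h) ⟨j, by omega⟩
      rwa [Phi1_snd] at this
    refine ⟨PowerSeries.X_pow_dvd_iff.mpr h1, PowerSeries.X_pow_dvd_iff.mpr ?_⟩
    intro m hm
    rcases Nat.eq_zero_or_pos m with h0 | h0
    · rw [h0, PowerSeries.coeff_zero_eq_constantCoeff_apply, constantCoeff_py, ← constantCoeff_px,
        ← PowerSeries.coeff_zero_eq_constantCoeff_apply]
      exact h1 0 (by omega)
    · obtain ⟨j, rfl⟩ : ∃ j, m = j + 1 := ⟨m - 1, by omega⟩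
      exact h2 j hm
  · rintro ⟨h1, h2⟩
    rw [PowerSeries.X_pow_dvd_iff] at h1 h2
    ext i
    · rw [Phi1_fst]; exact h1 _ i.2
    · rw [Phi1_snd]; exact h2 _ (by have := i.2; omega)

theorem Phi1_surjective (a b : ℕ) : Function.Surjective (Phi1 (k := k) a b) := by
  rintro ⟨c, d⟩
  set p : PowerSeries k := PowerSeries.mk (fun i => if h : i < a then c ⟨i, h⟩ else 0) with hp
  set r : PowerSeries k := PowerSeries.mk (fun j => if h : j < b - 1 then d ⟨j, h⟩ else 0) with hr
  refine ⟨ix k p + iy k (PowerSeries.X * r), ?_⟩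
  ext i
  · rw [Phi1_fst, map_add, px_ix, px_iy, map_mul, PowerSeries.constantCoeff_X, zero_mul, map_zero,
      add_zero, hp, PowerSeries.coeff_mk, dif_pos i.2]
  · rw [Phi1_snd, map_add, py_ix, py_iy, map_add, PowerSeries.coeff_succ_X_mul, PowerSeries.coeff_C,
      if_neg (Nat.succ_ne_zero _), zero_add, hr, PowerSeries.coeff_mk, dif_pos i.2]

end N3

section N4
variable {k : Type u} [Field k]

theorem px_C (c : k) : px k (MvPowerSeries.C c) = PowerSeries.C c := by
  have := (px k).commutes c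
  rwa [MvPowerSeries.algebraMap_apply, PowerSeries.algebraMap_apply, Algebra.algebraMap_self,
    RingHom.id_apply] at this

theorem py_C (c : k) : py k (MvPowerSeries.C c) = PowerSeries.C c := by
  have := (py k).commutes c
  rwa [MvPowerSeries.algebraMap_apply, PowerSeries.algebraMap_apply, Algebra.algebraMap_self,
    RingHom.id_apply] at this

theorem finrank_quot_of_surj {V : Type*} [AddCommGroup V] [Module k V]
    (J : Ideal (MvPowerSeries (Fin 2) k)) (Φ : MvPowerSeries (Fin 2) k →ₗ[k] V)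
    (hΦ : Function.Surjective Φ) (hker : ∀ f, f ∈ J ↔ Φ f = 0) :
    Module.finrank k (MvPowerSeries (Fin 2) k ⧸ J) = Module.finrank k V := by
  have e1 : (MvPowerSeries (Fin 2) k ⧸ J.restrictScalars k) ≃ₗ[k] MvPowerSeries (Fin 2) k ⧸ J :=
    Submodule.Quotient.restrictScalarsEquiv k J
  have hK : J.restrictScalars k = LinearMap.ker Φ := by
    ext f
    rw [Submodule.restrictScalars_mem, LinearMap.mem_ker]
    exact hker f
  have e2 := Submodule.quotEquivOfEq _ _ hK
  have e3 := Φ.quotKerEquivOfSurjective hΦ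
  exact (e1.symm.trans (e2.trans e3)).finrank_eq

theorem exists_data (J : Ideal (MvPowerSeries (Fin 2) k))
    (hxy : (MvPowerSeries.X 0 * MvPowerSeries.X 1 : MvPowerSeries (Fin 2) k) ∈ J)
    [Module.Finite k (MvPowerSeries (Fin 2) k ⧸ J)] (hJ : J ≠ ⊤) : ∃ a b, Data J a b := by
  obtain ⟨a, hfa, hda⟩ := exists_pow J (px k) px_surjective
    (exists_mem_ne_zero J (px k) (MvPowerSeries.X 0) px_X0)
  obtain ⟨b, hfb, hdb⟩ := exists_pow J (py k) py_surjective
    (exists_mem_ne_zero J (py k) (MvPowerSeries.X 1) py_X1)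
  refine ⟨a, b, hxy, ?_, ?_, hfa, hfb, hda, hdb⟩
  · by_contra h
    have ha0 : a = 0 := by omega
    obtain ⟨f, hf, hfx⟩ := hfa
    rw [ha0, pow_zero] at hfx
    have hc : MvPowerSeries.constantCoeff f = 1 := by
      rw [← constantCoeff_px, hfx, map_one]
    have hu : IsUnit f := by
      rw [MvPowerSeries.isUnit_iff_constantCoeff, hc]; exact isUnit_one
    exact hJ (Ideal.eq_top_of_isUnit_mem J hf hu)
  · by_contra h
    have hb0 : b = 0 := by omega
    obtain ⟨f, hf, hfy⟩ := hfb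
    rw [hb0, pow_zero] at hfy
    have hc : MvPowerSeries.constantCoeff f = 1 := by
      rw [← constantCoeff_py, hfy, map_one]
    have hu : IsUnit f := by
      rw [MvPowerSeries.isUnit_iff_constantCoeff, hc]; exact isUnit_one
    exact hJ (Ideal.eq_top_of_isUnit_mem J hf hu)

variable {J : Ideal (MvPowerSeries (Fin 2) k)} {a b : ℕ}

theorem lam_sub (f g : MvPowerSeries (Fin 2) k) : lam a (f - g) = lam a f - lam a g := by
  unfold lam; rw [map_sub, map_sub]
theorem mu_sub (f g : MvPowerSeries (Fin 2) k) : mu b (f - g) = mu b f - mu b g := by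
  unfold mu; rw [map_sub, map_sub]

/-- Case A: `x^a ∈ J` forces `y^b ∈ J`. -/
theorem Data.y_pow_mem (D : Data J a b)
    (hx : (MvPowerSeries.X 0 : MvPowerSeries (Fin 2) k) ^ a ∈ J) :
    (MvPowerSeries.X 1 : MvPowerSeries (Fin 2) k) ^ b ∈ J := by
  obtain ⟨f, hf, hfy⟩ := D.hfb
  have hmf : mu b f = 1 := by unfold mu; rw [hfy, PowerSeries.coeff_X_pow_self]
  have hg : f - lam a f • MvPowerSeries.X 0 ^ a ∈ J := J.sub_mem hf (smul_mem' J _ hx)
  apply D.mem_of_same hg
  · rw [px_X1_pow D.hb]; exact dvd_zero _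
  · rw [py_X1_pow]
  · rw [lam_y_pow D.hb, lam_sub, lam_smul, lam_x_pow D.ha, mul_one, sub_self]
  · rw [mu_y_pow D.hb, mu_sub, mu_smul, mu_x_pow D.ha, mul_zero, sub_zero, hmf]

theorem Data.eq_span_A (D : Data J a b)
    (hx : (MvPowerSeries.X 0 : MvPowerSeries (Fin 2) k) ^ a ∈ J)
    (hy : (MvPowerSeries.X 1 : MvPowerSeries (Fin 2) k) ^ b ∈ J) :
    J = Ideal.span {MvPowerSeries.X 0 * MvPowerSeries.X 1, MvPowerSeries.X 0 ^ a,
      MvPowerSeries.X 1 ^ b} := by
  apply le_antisymm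
  · intro f hf
    obtain ⟨u, hu⟩ := D.hda f hf
    obtain ⟨v, hv⟩ := D.hdb f hf
    set g : MvPowerSeries (Fin 2) k :=
      MvPowerSeries.X 0 ^ a * ix k u + MvPowerSeries.X 1 ^ b * iy k v with hg
    have h1 : f - g ∈ Ideal.span {(MvPowerSeries.X 0 * MvPowerSeries.X 1 :
        MvPowerSeries (Fin 2) k)} := by
      apply sub_mem_span
      · rw [hg, map_add, map_mul, map_mul, px_X0_pow, px_X1_pow D.hb, px_ix, zero_mul, add_zero, hu]
      · rw [hg, map_add, map_mul, map_mul, py_X0_pow D.ha, py_X1_pow, py_iy, zero_mul, zero_add, hv]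
    have h2 : f - g ∈ Ideal.span {MvPowerSeries.X 0 * MvPowerSeries.X 1, MvPowerSeries.X 0 ^ a,
      MvPowerSeries.X 1 ^ b} := Ideal.span_mono (by simp) h1
    have h3 : g ∈ Ideal.span {MvPowerSeries.X 0 * MvPowerSeries.X 1, MvPowerSeries.X 0 ^ a,
      MvPowerSeries.X 1 ^ b} :=
      add_mem (Ideal.mul_mem_right _ _ (Ideal.subset_span (by simp)))
        (Ideal.mul_mem_right _ _ (Ideal.subset_span (by simp)))
    have : f = (f - g) + g := by ring
    rw [this]; exact add_mem h2 h3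
  · rw [Ideal.span_le]
    intro z hz
    simp only [Set.mem_insert_iff, Set.mem_singleton_iff] at hz
    rcases hz with rfl | rfl | rfl
    exacts [D.hxy, hx, hy]

theorem Data.finrank_A (D : Data J a b)
    (hx : (MvPowerSeries.X 0 : MvPowerSeries (Fin 2) k) ^ a ∈ J)
    (hy : (MvPowerSeries.X 1 : MvPowerSeries (Fin 2) k) ^ b ∈ J) :
    Module.finrank k (MvPowerSeries (Fin 2) k ⧸ J) = a + (b - 1) := by
  rw [finrank_quot_of_surj J (Phi1 a b) (Phi1_surjective a b) ?_]
  · rw [Module.finrank_prod, Module.finrank_fin_fun, Module.finrank_fin_fun]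
  · intro f
    rw [Phi1_eq_zero_iff D.ha]
    constructor
    · intro hf; exact ⟨D.hda f hf, D.hdb f hf⟩
    · rintro ⟨h1, h2⟩
      have hg : lam a f • (MvPowerSeries.X 0 : MvPowerSeries (Fin 2) k) ^ a +
          mu b f • (MvPowerSeries.X 1 : MvPowerSeries (Fin 2) k) ^ b ∈ J :=
        J.add_mem (smul_mem' J _ hx) (smul_mem' J _ hy)
      apply D.mem_of_same hg h1 h2
      · rw [lam_add, lam_smul, lam_smul, lam_x_pow D.ha, lam_y_pow D.hb, mul_one, mul_zero, add_zero]
      · rw [mu_add, mu_smul, mu_smul, mu_x_pow D.ha, mu_y_pow D.hb, mul_zero, mul_one, zero_add]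

end N4

section N5
variable {k : Type u} [Field k]
variable {J : Ideal (MvPowerSeries (Fin 2) k)} {a b : ℕ}

/-- the generator of case B -/
noncomputable def g0 (a b : ℕ) (α : k) : MvPowerSeries (Fin 2) k :=
  MvPowerSeries.X 0 ^ a + MvPowerSeries.C α * MvPowerSeries.X 1 ^ b

theorem px_g0 (hb : 1 ≤ b) (α : k) : px k (g0 a b α) = PowerSeries.X ^ a := by
  unfold g0; rw [map_add, map_mul, px_X0_pow, px_X1_pow hb, mul_zero, add_zero]

theorem py_g0 (ha : 1 ≤ a) (α : k) : py k (g0 a b α) = PowerSeries.C α * PowerSeries.X ^ b := by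
  unfold g0; rw [map_add, map_mul, py_X0_pow ha, py_X1_pow, py_C, zero_add]

theorem lam_g0 (hb : 1 ≤ b) (α : k) : lam a (g0 a b α) = 1 := by
  unfold lam; rw [px_g0 hb, PowerSeries.coeff_X_pow_self]

theorem mu_g0 (ha : 1 ≤ a) (α : k) : mu b (g0 a b α) = α := by
  unfold mu; rw [py_g0 ha, PowerSeries.coeff_C_mul, PowerSeries.coeff_X_pow_self, mul_one]

/-- Case B: `x^a ∉ J`. -/
theorem Data.caseB (D : Data J a b)
    (hx : (MvPowerSeries.X 0 : MvPowerSeries (Fin 2) k) ^ a ∉ J) :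
    ∃ α : k, α ≠ 0 ∧ (∀ f ∈ J, mu b f = α * lam a f) ∧ g0 a b α ∈ J := by
  obtain ⟨f₀, hf₀, hf₀x⟩ := D.hfa
  have hl0 : lam a f₀ = 1 := by unfold lam; rw [hf₀x, PowerSeries.coeff_X_pow_self]
  have key : ∀ f ∈ J, mu b f = mu b f₀ * lam a f := by
    intro f hf
    by_contra hne
    have hhJ : f - lam a f • f₀ ∈ J := J.sub_mem hf (smul_mem' J _ hf₀)
    have hlh : lam a (f - lam a f • f₀) = 0 := by
      rw [lam_sub, lam_smul, hl0, mul_one, sub_self]
    have hmh : mu b (f - lam a f • f₀) ≠ 0 := by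
      rw [mu_sub, mu_smul]
      intro h0
      apply hne
      rw [sub_eq_zero] at h0
      rw [h0, mul_comm]
    have hyJ : (MvPowerSeries.X 1 : MvPowerSeries (Fin 2) k) ^ b ∈ J := by
      apply D.mem_of_same (smul_mem' J (mu b (f - lam a f • f₀))⁻¹ hhJ)
      · rw [px_X1_pow D.hb]; exact dvd_zero _
      · rw [py_X1_pow]
      · rw [lam_y_pow D.hb, lam_smul, hlh, mul_zero]
      · rw [mu_y_pow D.hb, mu_smul, inv_mul_cancel₀ hmh]
    apply hx
    apply D.mem_of_same (J.sub_mem hf₀ (smul_mem' J (mu b f₀) hyJ))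
    · rw [px_X0_pow]
    · rw [py_X0_pow D.ha]; exact dvd_zero _
    · rw [lam_x_pow D.ha, lam_sub, lam_smul, lam_y_pow D.hb, mul_zero, sub_zero, hl0]
    · rw [mu_x_pow D.ha, mu_sub, mu_smul, mu_y_pow D.hb, mul_one, sub_self]
  have hα0 : mu b f₀ ≠ 0 := by
    obtain ⟨g, hg, hgy⟩ := D.hfb
    have hmg : mu b g = 1 := by unfold mu; rw [hgy, PowerSeries.coeff_X_pow_self]
    intro h0
    have := key g hg
    rw [hmg, h0, zero_mul] at this
    exact one_ne_zero this
  refine ⟨mu b f₀, hα0, key, ?_⟩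
  apply D.mem_of_same hf₀
  · rw [px_g0 D.hb]
  · rw [py_g0 D.ha]; exact Dvd.intro_left _ rfl
  · rw [lam_g0 D.hb, hl0]
  · rw [mu_g0 D.ha]

theorem Data.eq_span_B (D : Data J a b) {α : k} (hα : α ≠ 0)
    (key : ∀ f ∈ J, mu b f = α * lam a f) (hg₀ : g0 a b α ∈ J) :
    J = Ideal.span {MvPowerSeries.X 0 * MvPowerSeries.X 1,
      MvPowerSeries.X 0 ^ a + MvPowerSeries.C α * MvPowerSeries.X 1 ^ b} := by
  apply le_antisymm
  · intro f hf
    obtain ⟨u, hu⟩ := D.hda f hf
    obtain ⟨v, hv⟩ := D.hdb f hf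
    have hcv : PowerSeries.constantCoeff v = α * PowerSeries.constantCoeff u := by
      have h1 := key f hf
      unfold lam mu at h1
      rw [hu, hv] at h1
      have e1 := PowerSeries.coeff_X_pow_mul v b 0
      have e2 := PowerSeries.coeff_X_pow_mul u a 0
      rw [zero_add, PowerSeries.coeff_zero_eq_constantCoeff_apply] at e1 e2
      rw [e1, e2] at h1
      exact h1
    set g : MvPowerSeries (Fin 2) k :=
      g0 a b α * (ix k u + MvPowerSeries.C α⁻¹ * iy k v
        - MvPowerSeries.C (PowerSeries.constantCoeff u)) with hg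
    have h1 : f - g ∈ Ideal.span {(MvPowerSeries.X 0 * MvPowerSeries.X 1 :
        MvPowerSeries (Fin 2) k)} := by
      apply sub_mem_span
      · rw [hg, map_mul, px_g0 D.hb, map_sub, map_add, map_mul, px_ix, px_iy, px_C, px_C, hcv,
          ← map_mul, ← mul_assoc, inv_mul_cancel₀ hα, one_mul, add_sub_cancel_right, hu]
      · rw [hg, map_mul, py_g0 D.ha, map_sub, map_add, map_mul, py_ix, py_iy, py_C, py_C,
          add_sub_cancel_left, hv]
        calc PowerSeries.X ^ b * v = (PowerSeries.C (α * α⁻¹)) * (PowerSeries.X ^ b * v) := by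
              rw [mul_inv_cancel₀ hα, map_one, one_mul]
          _ = _ := by rw [map_mul]; ring
    have h2 : f - g ∈ Ideal.span {MvPowerSeries.X 0 * MvPowerSeries.X 1,
      MvPowerSeries.X 0 ^ a + MvPowerSeries.C α * MvPowerSeries.X 1 ^ b} :=
      Ideal.span_mono (by simp) h1
    have h3 : g ∈ Ideal.span {MvPowerSeries.X 0 * MvPowerSeries.X 1,
      MvPowerSeries.X 0 ^ a + MvPowerSeries.C α * MvPowerSeries.X 1 ^ b} :=
      Ideal.mul_mem_right _ _ (Ideal.subset_span (by simp [g0]))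
    have : f = (f - g) + g := by ring
    rw [this]; exact add_mem h2 h3
  · rw [Ideal.span_le]
    intro z hz
    simp only [Set.mem_insert_iff, Set.mem_singleton_iff] at hz
    rcases hz with rfl | rfl
    exacts [D.hxy, hg₀]

/-- the defect functional `mu - α lam` -/
noncomputable def ell (a b : ℕ) (α : k) : MvPowerSeries (Fin 2) k →ₗ[k] k :=
  (PowerSeries.coeff b).comp (py k).toLinearMap
    - α • ((PowerSeries.coeff a).comp (px k).toLinearMap)

theorem ell_apply (α : k) (f : MvPowerSeries (Fin 2) k) :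
    ell a b α f = mu b f - α * lam a f := rfl

theorem Data.finrank_B (D : Data J a b) {α : k}
    (key : ∀ f ∈ J, mu b f = α * lam a f) (hg₀ : g0 a b α ∈ J) :
    Module.finrank k (MvPowerSeries (Fin 2) k ⧸ J) = a + (b - 1) + 1 := by
  have hP : ∀ f, ((Phi1 a b).prod (ell a b α)) f = (Phi1 a b f, ell a b α f) := fun f => rfl
  rw [finrank_quot_of_surj J ((Phi1 a b).prod (ell a b α)) ?_ ?_]
  · rw [Module.finrank_prod, Module.finrank_prod, Module.finrank_fin_fun, Module.finrank_fin_fun,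
      Module.finrank_self]
  · rintro ⟨cd, e⟩
    obtain ⟨f₁, hf₁⟩ := Phi1_surjective (k := k) a b cd
    have hy0 : Phi1 a b ((MvPowerSeries.X 1 : MvPowerSeries (Fin 2) k) ^ b) = 0 := by
      rw [Phi1_eq_zero_iff D.ha, px_X1_pow D.hb, py_X1_pow]
      exact ⟨dvd_zero _, dvd_refl _⟩
    have hy1 : ell a b α ((MvPowerSeries.X 1 : MvPowerSeries (Fin 2) k) ^ b) = 1 := by
      rw [ell_apply, mu_y_pow D.hb, lam_y_pow D.hb, mul_zero, sub_zero]
    refine ⟨f₁ + (e - ell a b α f₁) • (MvPowerSeries.X 1 : MvPowerSeries (Fin 2) k) ^ b, ?_⟩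
    rw [hP, map_add, map_add, map_smul, map_smul, hy0, hy1, smul_zero,
      add_zero, hf₁, smul_eq_mul, mul_one, add_sub_cancel]
  · intro f
    rw [hP, Prod.mk_eq_zero, Phi1_eq_zero_iff D.ha, ell_apply]
    constructor
    · intro hf
      exact ⟨⟨D.hda f hf, D.hdb f hf⟩, by rw [key f hf, sub_self]⟩
    · rintro ⟨⟨h1, h2⟩, h3⟩
      apply D.mem_of_same (smul_mem' J (lam a f) hg₀) h1 h2
      · rw [lam_smul, lam_g0 D.hb, mul_one]
      · rw [mu_smul, mu_g0 D.ha, sub_eq_zero.mp h3, mul_comm]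

end N5

/-- Ideals of colength n of the complete local ring of a node. Let k be a field and J an ideal of the
power series ring k[[x,y]] in two variables x, y which contains xy and whose quotient is
finite-dimensional over k of dimension n ≥ 2. Then there are integers a, b ≥ 1 such that either a +
b = n + 1 and J is generated by xy, x^a, y^b, or a + b = n and J is generated by xy and x^a + α y^b
for some nonzero scalar α. -/
theorem result (k : Type u) [Field k]
    (J : Ideal (MvPowerSeries (Fin 2) k))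
    (hxy : (MvPowerSeries.X 0 * MvPowerSeries.X 1 : MvPowerSeries (Fin 2) k) ∈ J)
    [Module.Finite k (MvPowerSeries (Fin 2) k ⧸ J)] (n : ℕ) (hn : Module.finrank k (MvPowerSeries (Fin 2) k ⧸ J) = n)
    (h2 : 2 ≤ n) :
    ∃ a b : ℕ, 1 ≤ a ∧ 1 ≤ b ∧
      ((a + b = n + 1 ∧
        J = Ideal.span {MvPowerSeries.X 0 * MvPowerSeries.X 1, MvPowerSeries.X 0 ^ a, MvPowerSeries.X 1 ^ b}) ∨
       (a + b = n ∧ ∃ α : k, α ≠ 0 ∧
        J = Ideal.span {MvPowerSeries.X 0 * MvPowerSeries.X 1,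
          MvPowerSeries.X 0 ^ a + MvPowerSeries.C α * MvPowerSeries.X 1 ^ b})) := by
  have hJ : J ≠ ⊤ := by
    rintro rfl
    have : Subsingleton (MvPowerSeries (Fin 2) k ⧸ (⊤ : Ideal (MvPowerSeries (Fin 2) k))) :=
      Ideal.Quotient.subsingleton_iff.mpr rfl
    rw [Module.finrank_zero_of_subsingleton] at hn
    omega
  obtain ⟨a, b, D⟩ := exists_data J hxy hJ
  refine ⟨a, b, D.ha, D.hb, ?_⟩
  have hb := D.hb
  by_cases hx : (MvPowerSeries.X 0 : MvPowerSeries (Fin 2) k) ^ a ∈ J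
  · left
    have hy := D.y_pow_mem hx
    have := D.finrank_A hx hy
    exact ⟨by omega, D.eq_span_A hx hy⟩
  · right
    obtain ⟨α, hα, key, hg₀⟩ := D.caseB hx
    have := D.finrank_B key hg₀
    exact ⟨by omega, α, hα, D.eq_span_B hα key hg₀⟩

end Groth.Agent.S19437
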