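import Groth.Statements.S19438
-- import your own Groth.Agent.* helpers here
import Mathlib.Algebra.Polynomial.Taylor
import Mathlib.RingTheory.Ideal.Cotangent
import Mathlib.RingTheory.Adjoin.Polynomial.Basic

set_option autoImplicit false
universe u
open CAlg

namespace Groth.Agent.S19438

/-- First assertion: let A be a Noetherian local commutative algebra over a field k with maximal ideal
M, residue field k (the map from k to A/M is onto) and embedding dimension dim M/M^2 at least 2, and
let I be a proper ideal with A/I finite-dimensional over k. If A/I is generated as a k-algebra by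
one element, then some element of I does not lie in M^2; that is, the finite closed subscheme
defined by I lies on a smooth hypersurface germ (it is curvilinear). (The published statement is for
the local ring of a smooth surface at a closed point; only a Noetherian local algebra with residue
field k and embedding dimension at least 2 is assumed here, which is what the published argument
uses.) -/
theorem result (k : Type u) [Field k]
    (A : Type u) [CommRing A] [Algebra k A] [IsNoetherianRing A] [IsLocalRing A]
    (hres : Function.Surjective (algebraMap k (IsLocalRing.ResidueField A)))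
    (hemb : 2 ≤ Module.finrank (IsLocalRing.ResidueField A) (IsLocalRing.CotangentSpace A))
    (I : Ideal A) (hI : I ≠ ⊤) [Module.Finite k (A ⧸ I)]
    (f : A ⧸ I) (hf : Algebra.adjoin k {f} = ⊤) :
    ∃ g ∈ I, g ∉ IsLocalRing.maximalIdeal A ^ 2 := by
  classical
  by_contra hcon
  push Not at hcon
  have hIM2 : I ≤ IsLocalRing.maximalIdeal A ^ 2 := hcon
  obtain ⟨a, rfl⟩ := Ideal.Quotient.mk_surjective f
  obtain ⟨c, hc⟩ : ∃ c : k, a - algebraMap k A c ∈ IsLocalRing.maximalIdeal A := by
    obtain ⟨c, hc⟩ := hres (IsLocalRing.residue A a)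
    refine ⟨c, ?_⟩
    rw [← IsLocalRing.residue_eq_zero_iff, map_sub, ← hc]
    rw [IsScalarTower.algebraMap_apply k A (IsLocalRing.ResidueField A)]
    exact sub_self _
  have hM2M : IsLocalRing.maximalIdeal A ^ 2 ≤ IsLocalRing.maximalIdeal A :=
    Ideal.pow_le_self (by norm_num)
  have key : ∀ z ∈ IsLocalRing.maximalIdeal A,
      ∃ b : A, z - b * (a - algebraMap k A c) ∈ IsLocalRing.maximalIdeal A ^ 2 := by
    intro z hz
    have hz' : Ideal.Quotient.mk I z ∈ Algebra.adjoin k {Ideal.Quotient.mk I a} :=
      hf ▸ Algebra.mem_top
    rw [Algebra.adjoin_singleton_eq_range_aeval] at hz'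
    obtain ⟨p, hp⟩ := hz'
    have hp' : Ideal.Quotient.mk I (Polynomial.aeval a p) = Ideal.Quotient.mk I z := by
      rw [← hp]
      exact (Polynomial.aeval_algHom_apply (Ideal.Quotient.mkₐ k I) a p).symm
    have h1 : z - Polynomial.aeval a p ∈ IsLocalRing.maximalIdeal A ^ 2 := by
      apply hIM2
      rw [← Ideal.Quotient.eq_zero_iff_mem, map_sub, hp', sub_self]
    -- expand `p(a)` modulo `M ^ 2`
    have hsq : (Ideal.Quotient.mkₐ k (IsLocalRing.maximalIdeal A ^ 2)
        (a - algebraMap k A c)) ^ 2 = 0 := by
      rw [← map_pow]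
      exact Ideal.Quotient.eq_zero_iff_mem.mpr (Ideal.pow_mem_pow hc 2)
    have h2 : Ideal.Quotient.mkₐ k (IsLocalRing.maximalIdeal A ^ 2) (Polynomial.aeval a p) =
        Ideal.Quotient.mkₐ k (IsLocalRing.maximalIdeal A ^ 2)
          (algebraMap k A (p.eval c) +
            algebraMap k A (p.derivative.eval c) * (a - algebraMap k A c)) := by
      rw [← Polynomial.aeval_algHom_apply]
      have ha : Ideal.Quotient.mkₐ k (IsLocalRing.maximalIdeal A ^ 2) a =
          algebraMap k (A ⧸ IsLocalRing.maximalIdeal A ^ 2) c +
            Ideal.Quotient.mkₐ k (IsLocalRing.maximalIdeal A ^ 2) (a - algebraMap k A c) := by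
        rw [map_sub, AlgHom.commutes]; ring
      rw [ha, Polynomial.aeval_add_of_sq_eq_zero _ _ _ hsq, Polynomial.aeval_algebraMap_apply_eq_algebraMap_eval,
        Polynomial.aeval_algebraMap_apply_eq_algebraMap_eval, map_add, map_mul, AlgHom.commutes, AlgHom.commutes]
    have h3 : Polynomial.aeval a p - (algebraMap k A (p.eval c) +
        algebraMap k A (p.derivative.eval c) * (a - algebraMap k A c)) ∈
        IsLocalRing.maximalIdeal A ^ 2 := by
      rw [← Ideal.Quotient.eq_zero_iff_mem, map_sub]
      exact sub_eq_zero.mpr h2
    have h4 : z - (algebraMap k A (p.eval c) +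
        algebraMap k A (p.derivative.eval c) * (a - algebraMap k A c)) ∈
        IsLocalRing.maximalIdeal A ^ 2 := by
      have := Ideal.add_mem _ h1 h3
      convert this using 1
      ring
    have h5 : algebraMap k A (p.eval c) ∈ IsLocalRing.maximalIdeal A := by
      have h6 : algebraMap k A (p.eval c) = z - algebraMap k A (p.derivative.eval c) *
          (a - algebraMap k A c) - (z - (algebraMap k A (p.eval c) +
          algebraMap k A (p.derivative.eval c) * (a - algebraMap k A c))) := by ring
      rw [h6]
      exact Ideal.sub_mem _ (Ideal.sub_mem _ hz (Ideal.mul_mem_left _ _ hc)) (hM2M h4)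
    have h7 : p.eval c = 0 := by
      by_contra hne
      exact (IsLocalRing.mem_maximalIdeal _).mp h5 ((IsUnit.mk0 _ hne).map (algebraMap k A))
    rw [h7, map_zero, zero_add] at h4
    exact ⟨_, h4⟩
  have hspan : Submodule.span (IsLocalRing.ResidueField A)
      {(IsLocalRing.maximalIdeal A).toCotangent ⟨a - algebraMap k A c, hc⟩} = ⊤ := by
    rw [eq_top_iff]
    intro ξ _
    obtain ⟨⟨z, hz⟩, rfl⟩ := (IsLocalRing.maximalIdeal A).toCotangent_surjective ξ
    obtain ⟨b, hb⟩ := key z hz
    have h8 : (IsLocalRing.maximalIdeal A).toCotangent ⟨z, hz⟩ =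
        b • (IsLocalRing.maximalIdeal A).toCotangent ⟨a - algebraMap k A c, hc⟩ := by
      rw [← map_smul, Ideal.toCotangent_eq]
      simpa using hb
    rw [h8, ← algebraMap_smul (IsLocalRing.ResidueField A) b]
    exact Submodule.smul_mem _ _ (Submodule.mem_span_singleton_self _)
  have hle : Module.finrank (IsLocalRing.ResidueField A) (IsLocalRing.CotangentSpace A) ≤ 1 := by
    rw [← finrank_top (IsLocalRing.ResidueField A) (IsLocalRing.CotangentSpace A), ← hspan]
    exact (finrank_span_le_card _).trans (by simp)
  omega

end Groth.Agent.S19438
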