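import Groth.Statements.S19439
-- import your own Groth.Agent.* helpers here

set_option autoImplicit false
universe u
open CAlg

namespace Groth.Agent.S19439

/-- Affine form: for all n and N there is an integer d, that depends only on n and N, such that for
every algebraically closed field k and every ideal I of the polynomial ring in N variables over k
whose quotient has finite dimension n over k, the polynomials of total degree at most d map onto the
quotient. -/
theorem result (n N : ℕ) :
    ∃ d : ℕ, ∀ (k : Type u) [Field k] [IsAlgClosed k] (I : Ideal (MvPolynomial (Fin N) k))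
      [Module.Finite k (MvPolynomial (Fin N) k ⧸ I)],
      Module.finrank k (MvPolynomial (Fin N) k ⧸ I) = n →
      Submodule.map (Ideal.Quotient.mkₐ k I).toLinearMap (MvPolynomial.restrictTotalDegree (Fin N) k d) = ⊤ := by
  refine ⟨n + 1, ?_⟩
  intro k _ _ I _ hn
  classical
  let V : ℕ → Submodule k (MvPolynomial (Fin N) k ⧸ I) := fun j =>
    Submodule.map (Ideal.Quotient.mkₐ k I).toLinearMap (MvPolynomial.restrictTotalDegree (Fin N) k j)
  have hmemV : ∀ (j : ℕ) (q : MvPolynomial (Fin N) k), q.totalDegree ≤ j →
      Ideal.Quotient.mk I q ∈ V j := by
    intro j q hq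
    exact ⟨q, (MvPolynomial.mem_restrictTotalDegree (Fin N) j q).mpr hq, rfl⟩
  have hVmono : ∀ j, V j ≤ V (j + 1) := by
    intro j
    apply Submodule.map_mono
    intro q hq
    rw [MvPolynomial.mem_restrictTotalDegree] at hq ⊢
    omega
  have hstab : ∀ j, V (j + 1) ≤ V j → V j = ⊤ := by
    intro j hj
    rw [eq_top_iff]
    intro y _
    obtain ⟨p, rfl⟩ := Ideal.Quotient.mk_surjective y
    clear * - hj hmemV
    induction p using MvPolynomial.induction_on with
    | C a =>
      apply hmemV
      rw [MvPolynomial.totalDegree_C]
      exact Nat.zero_le _
    | add p q hp hq =>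
      rw [map_add]
      exact Submodule.add_mem _ hp hq
    | mul_X p i hp =>
      obtain ⟨q, hq, hqp⟩ := hp
      rw [SetLike.mem_coe, MvPolynomial.mem_restrictTotalDegree] at hq
      apply hj
      have : Ideal.Quotient.mk I (p * MvPolynomial.X i) =
          Ideal.Quotient.mk I (q * MvPolynomial.X i) := by
        rw [map_mul, map_mul]
        congr 1
        exact hqp.symm
      rw [this]
      apply hmemV
      calc (q * MvPolynomial.X i).totalDegree ≤ q.totalDegree + (MvPolynomial.X i).totalDegree :=
            MvPolynomial.totalDegree_mul _ _
        _ ≤ j + 1 := by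
            have := MvPolynomial.totalDegree_X (R := k) i
            omega
  have hmain : ∀ j, V j = ⊤ ∨ j ≤ Module.finrank k (V j) := by
    intro j
    induction j with
    | zero => right; exact Nat.zero_le _
    | succ j ih =>
      rcases ih with h | h
      · left
        rw [eq_top_iff, ← h]
        exact hVmono j
      · by_cases hj : V (j + 1) ≤ V j
        · left
          rw [eq_top_iff, ← hstab j hj]
          exact hVmono j
        · right
          have hlt : V j < V (j + 1) := lt_of_le_not_ge (hVmono j) hj
          have := Submodule.finrank_lt_finrank_of_lt hlt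
          omega
  rcases hmain (n + 1) with h | h
  · exact h
  · have := Submodule.finrank_le (V (n + 1))
    omega

end Groth.Agent.S19439
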