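import Groth.Statements.S19440
-- import your own Groth.Agent.* helpers here

set_option autoImplicit false
universe u
open LinAlg

namespace Groth.Agent.S19440

/-- Let U, V be commuting n × n matrices over a field k and e a vector which is cyclic for them (the
vectors U^p V^q e span k^n). An invertible matrix T which commutes with U and V and fixes e is the
identity: the general linear group acts freely by simultaneous conjugation on commuting pairs with a
cyclic vector. -/
theorem result (k : Type u) [Field k] (n : ℕ)
    (U V : Matrix (Fin n) (Fin n) k) (hUV : U * V = V * U) (e : Fin n → k)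
    (he : Submodule.span k (Set.range fun p : ℕ × ℕ => (U ^ p.1 * V ^ p.2).mulVec e) = ⊤)
    (T : Matrix.GeneralLinearGroup (Fin n) k)
    (hTU : (T : Matrix (Fin n) (Fin n) k) * U = U * T) (hTV : (T : Matrix (Fin n) (Fin n) k) * V = V * T)
    (hTe : (T : Matrix (Fin n) (Fin n) k).mulVec e = e) : T = 1 := by
  have hcU : ∀ p : ℕ, (T : Matrix (Fin n) (Fin n) k) * U ^ p = U ^ p * T := by
    intro p
    induction p with
    | zero => simp
    | succ p ih => rw [pow_succ, ← mul_assoc, ih, mul_assoc, hTU, mul_assoc]
  have hcV : ∀ q : ℕ, (T : Matrix (Fin n) (Fin n) k) * V ^ q = V ^ q * T := by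
    intro q
    induction q with
    | zero => simp
    | succ q ih => rw [pow_succ, ← mul_assoc, ih, mul_assoc, hTV, mul_assoc]
  have hfix : ∀ v ∈ Submodule.span k (Set.range fun p : ℕ × ℕ => (U ^ p.1 * V ^ p.2).mulVec e),
      (T : Matrix (Fin n) (Fin n) k).mulVec v = v := by
    intro v hv
    induction hv using Submodule.span_induction with
    | mem x hx =>
      obtain ⟨⟨p, q⟩, rfl⟩ := hx
      simp only
      rw [Matrix.mulVec_mulVec, ← mul_assoc, hcU, mul_assoc, hcV, ← mul_assoc, ← Matrix.mulVec_mulVec,
        hTe]
    | zero => simp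
    | add x y _ _ hx hy => rw [Matrix.mulVec_add, hx, hy]
    | smul a x _ hx => rw [Matrix.mulVec_smul, hx]
  rw [he] at hfix
  apply Matrix.GeneralLinearGroup.ext
  intro i j
  have := congrFun (hfix (Pi.single j 1) Submodule.mem_top) i
  rw [Matrix.mulVec_single_one] at this
  simpa [Matrix.one_apply, Pi.single_apply, eq_comm] using this

end Groth.Agent.S19440
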