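import Groth.Statements.S19443
-- import your own Groth.Agent.* helpers here

set_option autoImplicit false
universe u
open LinAlg

namespace Groth.Agent.S19443

/-- Algebraic form: let G be a finite group with order invertible in the field k, ρ a linear
representation of G on a k-vector space V, and ω a nondegenerate bilinear form on V invariant under
G. Then ω restricted to the fixed subspace V^G is nondegenerate (for a finite group of symplectic
automorphisms, the fixed subspace is a symplectic subspace). -/
theorem result (k : Type u) [Field k]
    (G : Type u) [Group G] [Finite G] (hG : (Nat.card G : k) ≠ 0)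
    (V : Type u) [AddCommGroup V] [Module k V] (ρ : Representation k G V)
    (ω : LinearMap.BilinForm k V) (hω : ω.Nondegenerate)
    (hinv : ∀ (g : G) (v w : V), ω (ρ g v) (ρ g w) = ω v w) :
    (ω.restrict ρ.invariants).Nondegenerate := by
  classical
  have : Fintype G := Fintype.ofFinite G
  have hcard : ((Fintype.card G : ℕ) : k) ≠ 0 := by rwa [Nat.card_eq_fintype_card] at hG
  -- the sum over the group lands in the invariants
  have hsum : ∀ w : V, (∑ g : G, ρ g w) ∈ ρ.invariants := by
    intro w
    rw [Representation.mem_invariants]
    intro h
    rw [map_sum]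
    refine Fintype.sum_equiv (Equiv.mulLeft h) _ _ fun g => ?_
    simp [map_mul]
  constructor
  · intro v hv
    have hvinv := (Representation.mem_invariants ρ v.1).1 v.2
    have h0 : ∀ w : V, ω v.1 w = 0 := by
      intro w
      have h1 := hv ⟨_, hsum w⟩
      have h2 : ω v.1 (∑ g : G, ρ g w) = (Fintype.card G : k) * ω v.1 w := by
        rw [map_sum]
        have : ∀ g : G, ω v.1 (ρ g w) = ω v.1 w := by
          intro g
          conv_lhs => rw [← hvinv g]
          exact hinv g _ _
        simp [this]
      have h3 : ω v.1 (∑ g : G, ρ g w) = 0 := h1
      rw [h2] at h3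
      exact (mul_eq_zero.1 h3).resolve_left hcard
    exact Subtype.ext (hω.1 v.1 h0)
  · intro v hv
    have hvinv := (Representation.mem_invariants ρ v.1).1 v.2
    have h0 : ∀ w : V, ω w v.1 = 0 := by
      intro w
      have h1 := hv ⟨_, hsum w⟩
      have h2 : ω (∑ g : G, ρ g w) v.1 = (Fintype.card G : k) * ω w v.1 := by
        rw [map_sum, LinearMap.sum_apply]
        have : ∀ g : G, ω (ρ g w) v.1 = ω w v.1 := by
          intro g
          conv_lhs => rw [← hvinv g]
          exact hinv g _ _
        simp [this]
      have h3 : ω (∑ g : G, ρ g w) v.1 = 0 := h1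
      rw [h2] at h3
      exact (mul_eq_zero.1 h3).resolve_left hcard
    exact Subtype.ext (hω.2 v.1 h0)

end Groth.Agent.S19443
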