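import Groth.Statements.S19444
import Groth.Prelude.Def_PolLaw2
import Groth.Agent.Lib.SymPolar23
import Mathlib.RingTheory.Norm.Basic

set_option autoImplicit false
universe u
open SymTen

namespace Groth.Agent.S19444

open scoped TensorProduct
open Groth.Agent.Lib.PolLaw23 Groth.Agent.Lib.PolLawExt23 Groth.Agent.Lib.PolLawGen23
  Groth.Agent.Lib.PolLawSpan23 Groth.Agent.Lib.PolLawCoeff23 Groth.Agent.Lib.Polarize23
  Groth.Agent.Lib.PolLawMul23 Groth.Agent.Lib.SymPolar23

section

variable {A : Type u} [CommRing A] {R : Type u} [CommRing R] [Algebra A R] {n : ℕ}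

/-- `u • ψ_N` carries the tensor-power law to `N` when `u * n! = 1`. -/
theorem postcomp_eq (N : PolLaw.MulLaw A R A n) (u : A) (hu : u * (n.factorial : A) = 1) :
    PolLaw.postcomp (u • psi N.law n) (SymTen.tpowLaw A R n).law = N.law := by
  apply ext_of_poly
  intro m
  funext z
  obtain ⟨k, s, b, rfl⟩ := exists_fin_sum_tmul (A := A) z
  rw [postcomp_toFun', Groth.Agent.Lib.NormAlt23.tpowLaw_sum, map_sum]
  simp only [LinearMap.lTensor_tmul, LinearMap.smul_apply, psi_tprod, TensorProduct.tmul_smul]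
  rw [← Finset.smul_sum, key N.law N.homog (MvPolynomial (Fin m) A) s b, ← Nat.cast_smul_eq_nsmul A, smul_smul, hu,
    one_smul]


theorem norm_one_tmul [Module.Free A R] [Module.Finite A R] (r : R) :
    Algebra.norm A ((1 : A) ⊗ₜ[A] r : A ⊗[A] R) = Algebra.norm A r := by
  have h := Algebra.norm_eq_of_algEquiv (Algebra.TensorProduct.lid A R) ((1 : A) ⊗ₜ[A] r)
  rw [← h]
  simp

end

/-- Linearised norm: let A be a commutative ring in which n! is invertible and R a commutative
A-algebra, free of rank n as an A-module. There is a unique A-algebra homomorphism from the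
symmetric tensors TS^n_A(R) to A taking r ⊗ ⋯ ⊗ r to the norm of r for every r in R. (The published
corollary is stated for any free algebra of rank n; the construction printed for it divides by n!,
and n! invertible is assumed here.) -/
theorem result (A : Type u) [CommRing A] (R : Type u) [CommRing R]
    [Algebra A R] [Module.Free A R] [Module.Finite A R] (n : ℕ) (hn : Module.finrank A R = n)
    (hfact : IsUnit ((Nat.factorial n : ℕ) : A)) :
    ∃! φ : SymTen.TS A R n →ₐ[A] A, ∀ r : R, φ (SymTen.tpow A R n r) = Algebra.norm A r := by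
  obtain ⟨u, hu⟩ := hfact.exists_left_inv
  have hpost := Groth.Agent.S19444.postcomp_eq (PolLaw.normLaw A R n hn) u hu
  have hmem : ∀ y : SymTen.TS A R n, (y : ⨂[A] _ : Fin n, R) ∈
      Submodule.span A (Groth.Agent.Lib.PolLawSpan23.coeffSet (SymTen.tpowLaw A R n)) := by
    intro y
    have h1 := Groth.Agent.Lib.SymPolar23.Sym_mem_span_coeffSet A R n y.1
    rw [Groth.Agent.Lib.SymPolar23.Sym_of_mem A R n y.2] at h1
    have h2 := Submodule.smul_mem _ u h1
    rwa [← Nat.cast_smul_eq_nsmul A, smul_smul, hu, one_smul] at h2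
  have hval : ∀ y : SymTen.TS A R n, ∃ w ∈ Submodule.span A (Set.range (SymTen.tpow A R n)),
      w = n.factorial • y := by
    intro y
    obtain ⟨w, hw, hw'⟩ := Groth.Agent.Lib.SymPolar23.Sym_mem_span_tpow A R n y.1
    refine ⟨w, hw, Subtype.ext ?_⟩
    rw [Groth.Agent.Lib.SymPolar23.Sym_of_mem A R n y.2] at hw'
    refine hw'.trans ?_
    simp
  have huniq : ∀ φ φ' : SymTen.TS A R n →ₐ[A] A,
      (∀ r : R, φ (SymTen.tpow A R n r) = φ' (SymTen.tpow A R n r)) → φ = φ' := by
    intro φ φ' h
    ext y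
    obtain ⟨w, hw, hwy⟩ := hval y
    have h1 : φ w = φ' w := by
      have : Set.EqOn φ.toLinearMap φ'.toLinearMap (Submodule.span A (Set.range (SymTen.tpow A R n))) := by
        apply LinearMap.eqOn_span
        rintro _ ⟨r, rfl⟩
        exact h r
      exact this hw
    rw [hwy, map_nsmul, map_nsmul, ← Nat.cast_smul_eq_nsmul A, ← Nat.cast_smul_eq_nsmul A, smul_eq_mul,
      smul_eq_mul] at h1
    have h2 := congrArg (fun a => u * a) h1
    simp only [← mul_assoc, hu, one_mul] at h2
    exact h2
  let f : SymTen.TS A R n →ₐ[A] A := AlgHom.ofLinearMap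
    ((u • Groth.Agent.Lib.Polarize23.psi (PolLaw.normLaw A R n hn).law n) ∘ₗ (SymTen.TS A R n).val.toLinearMap)
    (Groth.Agent.Lib.PolLawMul23.map_one_of_postcomp (SymTen.tpowLaw A R n) (PolLaw.normLaw A R n hn) _ hpost)
    (fun y y' => Groth.Agent.Lib.PolLawMul23.map_mul_of_postcomp (SymTen.tpowLaw A R n)
      (PolLaw.normLaw A R n hn) _ hpost (hmem y) (hmem y'))
  have hf : ∀ r : R, f (SymTen.tpow A R n r) = Algebra.norm A r := by
    intro r
    have h := congrFun (congrArg (fun L => L.toFun' A) hpost) ((1 : A) ⊗ₜ[A] r)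
    beta_reduce at h
    rw [Groth.Agent.Lib.PolLawGen23.postcomp_toFun', SymTen.tpowLaw_tmul, LinearMap.lTensor_tmul,
      PolLaw.normLaw_apply, Groth.Agent.S19444.norm_one_tmul] at h
    have h2 := congrArg (TensorProduct.lid A A) h
    simp only [TensorProduct.lid_tmul, one_pow, smul_eq_mul, mul_one, one_mul] at h2
    exact h2
  refine ⟨f, hf, fun φ hφ => huniq φ f fun r => ?_⟩
  rw [hφ r, hf r]

end Groth.Agent.S19444
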