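import Groth.Statements.S19445
import Groth.Agent.S5779
import Mathlib

set_option autoImplicit false
universe u
open CAlg

namespace Groth.Agent.S19445

set_option linter.unusedSectionVars false

open IsLocalRing

section Reynolds

variable (k : Type u) [Field k] (A : Type u) [CommRing A] [Algebra k A]
  (G : Type u) [Group G] [Fintype G] [MulSemiringAction G A] [SMulCommClass G k A]

/-- the ideal of the fixed locus. -/
def J : Ideal A := Ideal.span {x : A | ∃ (g : G) (a : A), x = g • a - a}

/-- the scalar `1/|G|`. -/
noncomputable def u : A := algebraMap k A ((Fintype.card G : k)⁻¹)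

/-- the averaging operator. -/
noncomputable def rey (a : A) : A := u k A G * ∑ g : G, g • a

variable {A G}

lemma smul_algebraMap (g : G) (c : k) : g • algebraMap k A c = algebraMap k A c := by
  rw [Algebra.algebraMap_eq_smul_one, smul_comm, smul_one]

variable {k}

lemma u_mul_card (hG : (Fintype.card G : k) ≠ 0) : u k A G * (Fintype.card G : A) = 1 := by
  have : (Fintype.card G : A) = algebraMap k A (Fintype.card G : k) := by simp
  rw [u, this, ← map_mul, inv_mul_cancel₀ hG, map_one]

variable (k)

lemma smul_u (g : G) : g • u k A G = u k A G := smul_algebraMap k g _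

lemma rey_add (a b : A) : rey k A G (a + b) = rey k A G a + rey k A G b := by
  simp only [rey, smul_add, Finset.sum_add_distrib, mul_add]

lemma sum_smul_smul (g : G) (a : A) : ∑ h : G, h • g • a = ∑ h : G, h • a := by
  simp only [smul_smul]
  exact Fintype.sum_equiv (Equiv.mulRight g) _ _ (fun h => rfl)

lemma smul_sum_smul (g : G) (a : A) : g • ∑ h : G, h • a = ∑ h : G, h • a := by
  rw [Finset.smul_sum]
  simp only [smul_smul]
  exact Fintype.sum_equiv (Equiv.mulLeft g) _ _ (fun h => rfl)

lemma rey_smul (g : G) (a : A) : rey k A G (g • a) = rey k A G a := by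
  rw [rey, rey, sum_smul_smul]

lemma smul_rey (g : G) (a : A) : g • rey k A G a = rey k A G a := by
  rw [rey, smul_mul', smul_u, smul_sum_smul]

variable {k}

lemma rey_of_inv (hG : (Fintype.card G : k) ≠ 0) (a : A) (ha : ∀ g : G, g • a = a) :
    rey k A G a = a := by
  rw [rey]
  simp only [ha, Finset.sum_const, Finset.card_univ, nsmul_eq_mul]
  rw [← mul_assoc, u_mul_card hG, one_mul]

variable (k)

lemma rey_mul_of_inv (b a : A) (hb : ∀ g : G, g • b = b) :
    rey k A G (b * a) = b * rey k A G a := by
  rw [rey, rey]
  simp only [smul_mul', hb]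
  rw [← Finset.mul_sum]
  ring

variable {k}

lemma sub_rey_mem (hG : (Fintype.card G : k) ≠ 0) (a : A) : a - rey k A G a ∈ J A G := by
  have h1 : a - rey k A G a = - (u k A G * ∑ g : G, (g • a - a)) := by
    rw [Finset.sum_sub_distrib, Finset.sum_const, Finset.card_univ, nsmul_eq_mul, mul_sub,
      ← mul_assoc, u_mul_card hG, one_mul, rey]
    ring
  rw [h1]
  refine neg_mem (Ideal.mul_mem_left _ _ (Ideal.sum_mem _ (fun g _ => ?_)))
  exact Ideal.subset_span ⟨g, a, rfl⟩

lemma rey_sub (a b : A) : rey k A G (a - b) = rey k A G a - rey k A G b := by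
  simp only [rey, smul_sub, Finset.sum_sub_distrib, mul_sub]

lemma rey_sum {ι : Type*} (s : Finset ι) (f : ι → A) :
    rey k A G (∑ i ∈ s, f i) = ∑ i ∈ s, rey k A G (f i) := by
  classical
  induction s using Finset.induction_on with
  | empty => simp [rey]
  | insert a s ha ih => rw [Finset.sum_insert ha, Finset.sum_insert ha, rey_add, ih]

variable (G) in
/-- `G`-stable ideals. -/
def Stable (I : Ideal A) : Prop := ∀ (g : G) (x : A), x ∈ I → g • x ∈ I

lemma stable_J : Stable G (J A G) := by
  intro g x hx
  induction hx using Submodule.span_induction with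
  | mem x hx =>
    obtain ⟨h, a, rfl⟩ := hx
    have : g • (h • a - a) = ((g * h) • a - a) - (g • a - a) := by
      rw [smul_sub, mul_smul]; ring
    rw [this]
    exact sub_mem (Ideal.subset_span ⟨g * h, a, rfl⟩) (Ideal.subset_span ⟨g, a, rfl⟩)
  | zero => rw [smul_zero]; exact zero_mem _
  | add x y _ _ hx hy => rw [smul_add]; exact add_mem hx hy
  | smul r x _ hx =>
    rw [smul_eq_mul, smul_mul']
    exact Ideal.mul_mem_left _ _ hx

lemma stable_mul {I I' : Ideal A} (hI : Stable G I) (hI' : Stable G I') : Stable G (I * I') := by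
  intro g x hx
  induction hx using Submodule.mul_induction_on' with
  | mem_mul_mem a ha b hb =>
    rw [smul_mul']
    exact Ideal.mul_mem_mul (hI g a ha) (hI' g b hb)
  | add x _ y _ hx hy => rw [smul_add]; exact add_mem hx hy

lemma rey_mem_of_stable {I : Ideal A} (hI : Stable G I) {x : A} (hx : x ∈ I) :
    rey k A G x ∈ I :=
  Ideal.mul_mem_left _ _ (Ideal.sum_mem _ (fun g _ => hI g x hx))

lemma stable_maximalIdeal [IsLocalRing A] : Stable G (maximalIdeal A) := by
  intro g x hx
  rw [mem_maximalIdeal, mem_nonunits_iff] at hx ⊢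
  intro h
  apply hx
  have := h.map (MulSemiringAction.toRingEquiv G A g⁻¹)
  simpa using this

end Reynolds

section Main

variable {k : Type u} [Field k] {A : Type u} [CommRing A] [Algebra k A] [IsLocalRing A]
  {G : Type u} [Group G] [Fintype G] [MulSemiringAction G A] [SMulCommClass G k A]

variable (k A G) in
/-- elements of the maximal ideal killed by the averaging operator. -/
def M' : Set A := {m | m ∈ maximalIdeal A ∧ rey k A G m = 0}

lemma M'_subset_J (hG : (Fintype.card G : k) ≠ 0) {m : A} (hm : m ∈ M' k A G) : m ∈ J A G := by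
  have := sub_rey_mem hG (A := A) (G := G) m
  rwa [hm.2, sub_zero] at this

lemma smul_sub_mem_M' (hres : Function.Surjective (algebraMap k (ResidueField A)))
    (g : G) (a : A) : g • a - a ∈ M' k A G := by
  refine ⟨?_, by rw [rey_sub, rey_smul, sub_self]⟩
  obtain ⟨c, hc⟩ := hres (residue A a)
  have hac : a - algebraMap k A c ∈ maximalIdeal A := by
    rw [← residue_eq_zero_iff, map_sub, sub_eq_zero, ← hc]
    rfl
  have h1 : g • a - a = g • (a - algebraMap k A c) - (a - algebraMap k A c) := by
    rw [smul_sub, smul_algebraMap]; ring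
  rw [h1]
  exact sub_mem (stable_maximalIdeal g _ hac) hac

lemma J_eq_span_M' (hres : Function.Surjective (algebraMap k (ResidueField A)))
    (hG : (Fintype.card G : k) ≠ 0) : J A G = Ideal.span (M' k A G) := by
  apply le_antisymm
  · rw [J, Ideal.span_le]
    rintro _ ⟨g, a, rfl⟩
    exact Ideal.subset_span (smul_sub_mem_M' hres g a)
  · rw [Ideal.span_le]
    intro m hm
    exact M'_subset_J hG hm

lemma J_le_maximalIdeal (hres : Function.Surjective (algebraMap k (ResidueField A))) :
    J A G ≤ maximalIdeal A := by
  rw [J, Ideal.span_le]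
  rintro _ ⟨g, a, rfl⟩
  exact (smul_sub_mem_M' (k := k) hres g a).1

/-- the key step: elements of `M²` differ from their average by an element of `M J`. -/
lemma sub_rey_mem_mul (hG : (Fintype.card G : k) ≠ 0) {w : A}
    (hw : w ∈ maximalIdeal A * maximalIdeal A) :
    w - rey k A G w ∈ maximalIdeal A * J A G := by
  have hst : Stable G (maximalIdeal A * J A G) := stable_mul stable_maximalIdeal stable_J
  induction hw using Submodule.mul_induction_on' with
  | mem_mul_mem a ha b hb =>
    set a₀ := rey k A G a with ha₀
    set b₀ := rey k A G b with hb₀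
    have ha₀M : a₀ ∈ maximalIdeal A := rey_mem_of_stable stable_maximalIdeal ha
    set t := a₀ * (b - b₀) + (a - a₀) * b with ht
    have htM : t ∈ maximalIdeal A * J A G := by
      refine add_mem (Ideal.mul_mem_mul ha₀M (sub_rey_mem hG b)) ?_
      rw [mul_comm (a - a₀) b]
      exact Ideal.mul_mem_mul hb (sub_rey_mem hG a)
    have hab : a * b = t + a₀ * b₀ := by rw [ht]; ring
    have hinv : ∀ g : G, g • (a₀ * b₀) = a₀ * b₀ := fun g => by
      rw [smul_mul', smul_rey, smul_rey]
    have h1 : a * b - rey k A G (a * b) = t - rey k A G t := by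
      rw [hab, rey_add, rey_of_inv hG _ hinv]; ring
    rw [h1]
    exact sub_mem htM (rey_mem_of_stable hst htM)
  | add x _ y _ hx hy =>
    have : x + y - rey k A G (x + y) = (x - rey k A G x) + (y - rey k A G y) := by
      rw [rey_add]; ring
    rw [this]
    exact add_mem hx hy

lemma mem_mul_of_mem_sq_of_rey_eq_zero (hG : (Fintype.card G : k) ≠ 0) {w : A}
    (hw : w ∈ maximalIdeal A ^ 2) (h0 : rey k A G w = 0) : w ∈ maximalIdeal A * J A G := by
  rw [pow_two] at hw
  have := sub_rey_mem_mul hG hw
  rwa [h0, sub_zero] at this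

/-- Nakayama: `J` is generated by any family in `M'` spanning `M'` modulo `M²` over `k`. -/
lemma J_eq_span_range [IsNoetherianRing A]
    (hres : Function.Surjective (algebraMap k (ResidueField A)))
    (hG : (Fintype.card G : k) ≠ 0) {r : ℕ} (x : Fin r → A) (hx : ∀ i, x i ∈ M' k A G)
    (hspan : ∀ m ∈ M' k A G, ∃ c : Fin r → k,
      m - ∑ i, algebraMap k A (c i) * x i ∈ maximalIdeal A ^ 2) :
    J A G = Ideal.span (Set.range x) := by
  have hle : Ideal.span (Set.range x) ≤ J A G := by
    rw [Ideal.span_le]
    rintro _ ⟨i, rfl⟩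
    exact M'_subset_J hG (hx i)
  refine le_antisymm ?_ hle
  apply Submodule.le_of_le_smul_of_le_jacobson_bot (I := maximalIdeal A)
    (IsNoetherian.noetherian _)
  · rw [IsLocalRing.jacobson_eq_maximalIdeal ⊥ bot_ne_top]
  · rw [J_eq_span_M' hres hG, Ideal.span_le]
    intro m hm
    obtain ⟨c, hc⟩ := hspan m hm
    have hrey : rey k A G (m - ∑ i, algebraMap k A (c i) * x i) = 0 := by
      rw [rey_sub, hm.2, rey_sum, zero_sub, neg_eq_zero]
      refine Finset.sum_eq_zero (fun i _ => ?_)
      rw [rey_mul_of_inv k _ _ (fun g => smul_algebraMap k g _), (hx i).2, mul_zero]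
    have h1 := mem_mul_of_mem_sq_of_rey_eq_zero hG hc hrey
    have h2 : m = ∑ i, algebraMap k A (c i) * x i + (m - ∑ i, algebraMap k A (c i) * x i) := by
      ring
    rw [h2]
    refine Submodule.add_mem_sup ?_ ?_
    · exact Ideal.sum_mem _ (fun i _ => Ideal.mul_mem_left _ _ (Ideal.subset_span ⟨i, rfl⟩))
    · rw [← J_eq_span_M' hres hG, smul_eq_mul]
      exact h1

end Main

theorem main (k : Type u) [Field k] (A : Type u) [CommRing A]
    [Algebra k A] [IsRegularLocalRing A]
    (hres : Function.Surjective (algebraMap k (IsLocalRing.ResidueField A)))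
    (G : Type u) [Group G] [Finite G] [MulSemiringAction G A] [SMulCommClass G k A]
    (hG : (Nat.card G : k) ≠ 0) :
    IsRegularLocalRing (A ⧸ Ideal.span {x : A | ∃ (g : G) (a : A), x = g • a - a}) := by
  classical
  cases nonempty_fintype G
  rw [Nat.card_eq_fintype_card] at hG
  let ι := {m : maximalIdeal A // (m : A) ∈ M' k A G}
  let v : ι → CotangentSpace A := fun m => (maximalIdeal A).toCotangent m.1
  obtain ⟨κ, a, ha, hspan, hli⟩ := exists_linearIndependent' (ResidueField A) v
  have hfin : Finite κ := hli.finite_of_isNoetherian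
  cases nonempty_fintype κ
  let r := Fintype.card κ
  let e : Fin r ≃ κ := (Fintype.equivFin κ).symm
  let x : Fin r → maximalIdeal A := fun i => (a (e i)).1
  have hxM' : ∀ i, ((x i : maximalIdeal A) : A) ∈ M' k A G := fun i => (a (e i)).2
  have hxli : LinearIndependent (ResidueField A)
      (fun i => (maximalIdeal A).toCotangent (x i)) := by
    have := hli.comp e e.injective
    exact this
  have hrange : Set.range (fun i => (maximalIdeal A).toCotangent (x i)) = Set.range (v ∘ a) := by
    ext y
    constructor
    · rintro ⟨i, rfl⟩; exact ⟨e i, rfl⟩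
    · rintro ⟨j, rfl⟩; exact ⟨e.symm j, by simp [x, v]⟩
  have hsp : ∀ m ∈ M' k A G, ∃ c : Fin r → k,
      m - ∑ i, algebraMap k A (c i) * (x i : A) ∈ maximalIdeal A ^ 2 := by
    intro m hm
    have h1 : (maximalIdeal A).toCotangent ⟨m, hm.1⟩ ∈
        Submodule.span (ResidueField A) (Set.range (fun i => (maximalIdeal A).toCotangent (x i))) := by
      rw [hrange, hspan]
      exact Submodule.subset_span ⟨⟨⟨m, hm.1⟩, hm⟩, rfl⟩
    obtain ⟨c, hc⟩ := (Submodule.mem_span_range_iff_exists_fun _).mp h1
    choose γ hγ using fun i => hres (c i)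
    refine ⟨γ, ?_⟩
    have h2 : (maximalIdeal A).toCotangent
        (⟨m, hm.1⟩ - ∑ i, algebraMap k A (γ i) • x i) = 0 := by
      rw [map_sub, map_sum, ← hc, sub_eq_zero]
      refine Finset.sum_congr rfl (fun i _ => ?_)
      rw [map_smul, ← hγ i]
      rfl
    rw [Ideal.toCotangent_eq_zero] at h2
    convert h2 using 1
    simp [Algebra.smul_def]
  have hJ := J_eq_span_range hres hG (fun i => (x i : A)) hxM' hsp
  have key := ((Groth.Agent.S5779.result A r x).1.mp ⟨inferInstance, hxli⟩).2
  show IsRegularLocalRing (A ⧸ J A G)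
  rw [hJ]
  exact key

/-- Local form: let k be a field and A a regular local k-algebra with maximal ideal M and residue field
k (k maps onto A/M); let a finite group G whose order is invertible in k act on A by k-algebra
automorphisms. Then A/J is a regular local ring, where J is the ideal generated by the elements g·a
− a (J defines the fixed-point subscheme, so the fixed locus of G is smooth at the point). The
accompanying identification of its tangent space with the G-invariants of the tangent space of A is
not restated here. -/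
theorem result (k : Type u) [Field k] (A : Type u) [CommRing A]
    [Algebra k A] [IsRegularLocalRing A]
    (hres : Function.Surjective (algebraMap k (IsLocalRing.ResidueField A)))
    (G : Type u) [Group G] [Finite G] [MulSemiringAction G A] [SMulCommClass G k A]
    (hG : (Nat.card G : k) ≠ 0) :
    IsRegularLocalRing (A ⧸ Ideal.span {x : A | ∃ (g : G) (a : A), x = g • a - a}) := by
  exact main k A hres G hG

end Groth.Agent.S19445
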