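import Groth.Statements.S19448
import Mathlib

set_option autoImplicit false
universe u
open CAlg

namespace Groth.Agent.S19448

/-- Let k be a field, A a Noetherian local k-algebra with maximal ideal M and residue field k, and G a
finite group with |G| ≠ 0 in k acting on A by k-algebra automorphisms. An element of G which acts
trivially on M/M^2 acts trivially on A; in other words the stabilizer acts faithfully on the
cotangent space whenever it acts faithfully on the local ring. -/
theorem result (k : Type u) [Field k] (A : Type u) [CommRing A]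
    [Algebra k A] [IsLocalRing A] [IsNoetherianRing A]
    (hres : Function.Surjective (algebraMap k (IsLocalRing.ResidueField A)))
    (G : Type u) [Group G] [Finite G] [MulSemiringAction G A] [SMulCommClass G k A]
    (hG : (Nat.card G : k) ≠ 0) (g : G)
    (hg : ∀ a ∈ IsLocalRing.maximalIdeal A, g • a - a ∈ IsLocalRing.maximalIdeal A ^ 2) (a : A) :
    g • a = a := by
  classical
  set M := IsLocalRing.maximalIdeal A with hM
  -- the additive operator `δ = g - 1`
  let L : AddMonoid.End A := DistribMulAction.toAddMonoidEnd G A g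
  let D : AddMonoid.End A := L - 1
  have hD : ∀ x : A, D x = g • x - x := fun x => rfl
  -- `δ` kills the image of `k`
  have hDk : ∀ c : k, D (algebraMap k A c) = 0 := by
    intro c
    rw [hD, Algebra.algebraMap_eq_smul_one, smul_comm, smul_one, sub_self]
  -- Leibniz rule
  have hleib : ∀ x y : A, D (x * y) = D x * g • y + x * D y := by
    intro x y
    rw [hD, hD, hD, smul_mul']
    ring
  -- `g` preserves `M`
  have hgM : ∀ x ∈ M, g • x ∈ M := by
    intro x hx
    have h2 : g • x - x ∈ M := Ideal.pow_le_self two_ne_zero (hg x hx)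
    have := M.add_mem h2 hx
    rwa [sub_add_cancel] at this
  -- `δ (M ^ n) ⊆ M ^ (n + 1)`
  have hpow : ∀ n : ℕ, ∀ x ∈ M ^ n, D x ∈ M ^ (n + 1) := by
    intro n
    induction n with
    | zero =>
      intro x _
      obtain ⟨c, hc⟩ := hres (IsLocalRing.residue A x)
      have hxc : x - algebraMap k A c ∈ M := by
        rw [hM, ← IsLocalRing.residue_eq_zero_iff, map_sub, sub_eq_zero, ← hc]
        rfl
      have h1 : D x = D (x - algebraMap k A c) := by
        rw [map_sub, hDk, sub_zero]
      rw [h1, zero_add, pow_one]
      exact Ideal.pow_le_self two_ne_zero (hg _ hxc)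
    | succ n ih =>
      intro x hx
      rcases Nat.eq_zero_or_pos n with rfl | hn
      · rw [zero_add, pow_one] at hx
        exact hg x hx
      · rw [pow_succ] at hx
        refine Submodule.mul_induction_on hx ?_ ?_
        · intro y hy z hz
          rw [hleib]
          refine Ideal.add_mem _ ?_ ?_
          · rw [pow_succ (M) (n + 1)]
            exact Ideal.mul_mem_mul (ih y hy) (hgM z hz)
          · have : M ^ (n + 1 + 1) = M ^ n * M ^ 2 := by rw [← pow_add]
            rw [this]
            exact Ideal.mul_mem_mul hy (hg z hz)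
        · intro y z hy hz
          rw [map_add]
          exact Ideal.add_mem _ hy hz
  -- the order of `g` is invertible in `A`
  set m := orderOf g with hm
  have hmk : ((m : ℕ) : k) ≠ 0 := by
    intro h0
    apply hG
    obtain ⟨d, hd⟩ := orderOf_dvd_natCard g
    rw [hd, Nat.cast_mul, h0, zero_mul]
  have hmA : IsUnit ((m : ℕ) : A) := by
    have : ((m : ℕ) : A) = algebraMap k A (m : k) := by simp
    rw [this]
    exact (IsUnit.mk0 _ hmk).map (algebraMap k A)
  -- operator identities
  have hLm : L ^ m = 1 := by
    change (DistribMulAction.toAddMonoidEnd G A g) ^ m = 1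
    rw [← map_pow, pow_orderOf_eq_one, map_one]
  let N : AddMonoid.End A := ∑ i ∈ Finset.range m, L ^ i
  let Q : AddMonoid.End A := ∑ i ∈ Finset.range m, ∑ l ∈ Finset.range i, L ^ l
  have hDN : D * N = 0 := by
    change (L - 1) * ∑ i ∈ Finset.range m, L ^ i = 0
    rw [mul_geom_sum, hLm, sub_self]
  have hNQ : N = (m : AddMonoid.End A) + D * Q := by
    change ∑ i ∈ Finset.range m, L ^ i = (m : AddMonoid.End A) + (L - 1) * ∑ i ∈ Finset.range m, ∑ l ∈ Finset.range i, L ^ l
    rw [Finset.mul_sum]
    simp_rw [mul_geom_sum]
    rw [Finset.sum_sub_distrib]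
    simp
  have hkey : ∀ x : A, (m : A) * D x = - D (D (Q x)) := by
    intro x
    have h1 : (D * N) x = 0 := by rw [hDN]; rfl
    rw [hNQ, mul_add] at h1
    have h2 : (D * (m : AddMonoid.End A) + D * (D * Q)) x = D ((m : ℕ) • x) + D (D (Q x)) := rfl
    rw [h2, map_nsmul, nsmul_eq_mul] at h1
    exact eq_neg_of_add_eq_zero_left h1
  -- induction: `δ x ∈ M ^ n` for all `n`
  have hall : ∀ n : ℕ, ∀ x : A, D x ∈ M ^ n := by
    intro n
    induction n with
    | zero => intro x; simp
    | succ n ih =>
      intro x
      have h1 : D (D (Q x)) ∈ M ^ (n + 1) := hpow n _ (ih _)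
      have h2 : (m : A) * D x ∈ M ^ (n + 1) := by
        rw [hkey]
        exact (Ideal.neg_mem_iff _).2 h1
      obtain ⟨u, hu⟩ := hmA
      have : D x = (↑u⁻¹ : A) * ((m : A) * D x) := by
        rw [← hu, ← mul_assoc, Units.inv_mul, one_mul]
      rw [this]
      exact Ideal.mul_mem_left _ _ h2
  have hzero : D a = 0 := by
    have hbot : (⨅ n : ℕ, M ^ n) = ⊥ :=
      Ideal.iInf_pow_eq_bot_of_isLocalRing M (IsLocalRing.maximalIdeal.isMaximal A).ne_top
    have : D a ∈ (⨅ n : ℕ, M ^ n) := by
      rw [Ideal.mem_iInf]
      exact fun n => hall n a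
    rwa [hbot, Ideal.mem_bot] at this
  rw [hD, sub_eq_zero] at hzero
  exact hzero

end Groth.Agent.S19448
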