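import Groth.Statements.S19452
import Groth.Agent.Lib.H69DualFlat

set_option autoImplicit false
universe u
attribute [local instance] W4c6puncthilbintro.dualAlgebra
open HilbD

namespace Groth.Agent.S19452

open DualNumber TrivSqZeroExt W4c6puncthilbintro Groth.Agent.Lib.H69DualFlat

section Helpers

variable {A : Type u} [CommRing A] {R : Type u} [CommRing R] [Algebra A R]

theorem dual_smul_def (b : DualNumber A) (x : DualNumber R) : b • x = dualMap A R b * x := rfl

instance : IsScalarTower A (DualNumber A) (DualNumber R) := by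
  constructor
  intro a b x
  rw [dual_smul_def, dual_smul_def, map_smul, smul_mul_assoc]

theorem eps_smul (x : DualNumber R) : (ε : DualNumber A) • x = ε * x := by
  rw [dual_smul_def, dualMap_eps]

theorem mem_liftIdeal_iff (I : Ideal R) (φ : I →ₗ[R] R ⧸ I) (x : DualNumber R) :
    x ∈ liftIdeal I φ ↔ ∃ h : x.fst ∈ I, Ideal.Quotient.mk I x.snd = φ ⟨x.fst, h⟩ := Iff.rfl

theorem eps_mul_eq (x : DualNumber R) : ε * x = inr x.fst := by
  ext <;> simp

theorem fst_dualMap (b : DualNumber A) : (dualMap A R b).fst = algebraMap A R b.fst := by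
  conv_lhs => rw [eq_inl_add_eps_mul b, map_add, map_mul, dualMap_inl, dualMap_inl, dualMap_eps]
  simp [TrivSqZeroExt.algebraMap_eq_inl']

/-- the basic computation: an element whose constant term lies in `I` is congruent to a multiple of `ε`. -/
theorem exists_sub_eps_mul_mem (I : Ideal R) (φ : I →ₗ[R] R ⧸ I) (x : DualNumber R) (hx : x.fst ∈ I) :
    ∃ x' : DualNumber R, x - ε * x' ∈ liftIdeal I φ := by
  obtain ⟨b, hb⟩ := Ideal.Quotient.mk_surjective (φ ⟨x.fst, hx⟩)
  refine ⟨inl (x.snd - b), ?_⟩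
  rw [mem_liftIdeal_iff]
  have h1 : (x - ε * inl (x.snd - b)).fst = x.fst := by simp
  refine ⟨by rw [h1]; exact hx, ?_⟩
  have h2 : (x - ε * inl (x.snd - b)).snd = b := by simp
  rw [h2, hb]
  congr 1
  exact Subtype.ext h1.symm

theorem fst_mem_of_eps_mul_mem (I : Ideal R) (φ : I →ₗ[R] R ⧸ I) (x : DualNumber R)
    (hx : ε * x ∈ liftIdeal I φ) : x.fst ∈ I := by
  rw [eps_mul_eq, mem_liftIdeal_iff] at hx
  obtain ⟨h1, h2⟩ := hx
  have h3 : (⟨(inr x.fst : DualNumber R).fst, h1⟩ : I) = 0 := Subtype.ext (by simp)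
  rw [h3, map_zero] at h2
  simpa using Ideal.Quotient.eq_zero_iff_mem.1 h2

theorem flat_quotient_liftIdeal (I : Ideal R) [Module.Flat A (R ⧸ I)] (φ : I →ₗ[R] R ⧸ I) :
    Module.Flat (DualNumber A) (DualNumber R ⧸ liftIdeal I φ) := by
  set J := liftIdeal I φ with hJ
  have hmk : ∀ x : DualNumber R, (ε : DualNumber A) • (Ideal.Quotient.mk J x) = Ideal.Quotient.mk J (ε * x) := by
    intro x
    have : (ε : DualNumber A) • (Ideal.Quotient.mk J x) = Ideal.Quotient.mk J ((ε : DualNumber A) • x) := rfl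
    rw [this, eps_smul]
  -- the annihilator condition
  have hann : ∀ m : DualNumber R ⧸ J, (ε : DualNumber A) • m = 0 →
      ∃ m' : DualNumber R ⧸ J, m = (ε : DualNumber A) • m' := by
    intro m hm
    obtain ⟨x, rfl⟩ := Ideal.Quotient.mk_surjective m
    rw [hmk, Ideal.Quotient.eq_zero_iff_mem] at hm
    obtain ⟨x', hx'⟩ := exists_sub_eps_mul_mem I φ x (fst_mem_of_eps_mul_mem I φ x hm)
    exact ⟨Ideal.Quotient.mk J x', by rw [hmk]; exact Ideal.Quotient.eq.2 hx'⟩
  -- `M/εM ≅ R/I`
  let f : DualNumber R →ₐ[A] R ⧸ I := (Ideal.Quotient.mkₐ A I).comp (TrivSqZeroExt.fstHom A R R)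
  have hf : ∀ x : DualNumber R, f x = Ideal.Quotient.mk I x.fst := fun x => rfl
  let g : (DualNumber R ⧸ J) →ₐ[A] R ⧸ I := Ideal.Quotient.liftₐ J f (by
    intro x hx
    rw [hf, Ideal.Quotient.eq_zero_iff_mem]
    exact ((mem_liftIdeal_iff I φ x).1 hx).1)
  have hg : ∀ x : DualNumber R, g (Ideal.Quotient.mk J x) = Ideal.Quotient.mk I x.fst := fun x => rfl
  let N : Submodule (DualNumber A) (DualNumber R ⧸ J) := epsIdeal A • ⊤
  have hN : N.restrictScalars A ≤ LinearMap.ker g.toLinearMap := by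
    intro z hz
    rw [Submodule.restrictScalars_mem] at hz
    rw [LinearMap.mem_ker]
    refine Submodule.smul_induction_on hz ?_ ?_
    · intro b hb m _
      obtain ⟨x, rfl⟩ := Ideal.Quotient.mk_surjective m
      have : b • (Ideal.Quotient.mk J x) = Ideal.Quotient.mk J (dualMap A R b * x) := rfl
      rw [this, AlgHom.toLinearMap_apply, hg, fst_mul, fst_dualMap, (mem_epsIdeal_iff b).1 hb, map_zero,
        zero_mul, map_zero]
    · intro x y hx hy
      rw [map_add, hx, hy, add_zero]
  let gbar : ((DualNumber R ⧸ J) ⧸ N.restrictScalars A) →ₗ[A] R ⧸ I :=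
    (N.restrictScalars A).liftQ g.toLinearMap hN
  have hgbar : Function.Bijective gbar := by
    constructor
    · rw [injective_iff_map_eq_zero]
      intro z hz
      obtain ⟨m, rfl⟩ := Submodule.mkQ_surjective _ z
      obtain ⟨x, rfl⟩ := Ideal.Quotient.mk_surjective m
      have h1 : Ideal.Quotient.mk I x.fst = 0 := hz
      rw [Ideal.Quotient.eq_zero_iff_mem] at h1
      obtain ⟨x', hx'⟩ := exists_sub_eps_mul_mem I φ x h1
      have h2 : Ideal.Quotient.mk J x = (ε : DualNumber A) • Ideal.Quotient.mk J x' := by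
        rw [hmk]; exact Ideal.Quotient.eq.2 hx'
      rw [Submodule.mkQ_apply, Submodule.Quotient.mk_eq_zero, Submodule.restrictScalars_mem, h2]
      exact Submodule.smul_mem_smul (Ideal.subset_span rfl) Submodule.mem_top
    · intro r
      obtain ⟨r, rfl⟩ := Ideal.Quotient.mk_surjective r
      exact ⟨Submodule.mkQ _ (Ideal.Quotient.mk J (inl r)), by
        change g (Ideal.Quotient.mk J (inl r)) = _
        rw [hg, fst_inl]⟩
  have : Module.Flat A ((DualNumber R ⧸ J) ⧸ N) :=
    Module.Flat.of_linearEquiv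
      ((Submodule.Quotient.restrictScalarsEquiv A N).symm.trans (LinearEquiv.ofBijective gbar hgbar))
  exact flat_dualNumber_of (A := A) (DualNumber R ⧸ J) hann

/-- the reduction of `J_φ` modulo `ε` is `I` -/
theorem map_fstHom_liftIdeal (I : Ideal R) (φ : I →ₗ[R] R ⧸ I) :
    Ideal.map (TrivSqZeroExt.fstHom A R R) (liftIdeal I φ) = I := by
  apply le_antisymm
  · rw [Ideal.map_le_iff_le_comap]
    intro x hx
    obtain ⟨h, -⟩ := (mem_liftIdeal_iff I φ x).1 hx
    exact h
  · intro a ha
    obtain ⟨b, hb⟩ := Ideal.Quotient.mk_surjective (φ ⟨a, ha⟩)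
    have hx : (inl a + inr b : DualNumber R) ∈ liftIdeal I φ := by
      rw [mem_liftIdeal_iff]
      refine ⟨by simpa using ha, ?_⟩
      simp only [fst_add, fst_inl, fst_inr, add_zero, snd_add, snd_inl, snd_inr, zero_add]
      exact hb
    have := Ideal.mem_map_of_mem (TrivSqZeroExt.fstHom A R R) hx
    simpa using this

/-- `φ ↦ J_φ` is injective -/
theorem liftIdeal_injective (I : Ideal R) : Function.Injective (liftIdeal I) := by
  intro φ ψ h
  ext ⟨a, ha⟩
  obtain ⟨b, hb⟩ := Ideal.Quotient.mk_surjective (φ ⟨a, ha⟩)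
  have hx : (inl a + inr b : DualNumber R) ∈ liftIdeal I φ := by
    rw [mem_liftIdeal_iff]
    refine ⟨by simpa using ha, ?_⟩
    simp only [fst_add, fst_inl, fst_inr, add_zero, snd_add, snd_inl, snd_inr, zero_add]
    exact hb
  rw [h, mem_liftIdeal_iff] at hx
  obtain ⟨h1, h2⟩ := hx
  simp only [fst_add, fst_inl, fst_inr, add_zero, snd_add, snd_inl, snd_inr, zero_add] at h2
  rw [← hb, h2]

/-- consequence of flatness of `R[ε]/J` over `A[ε]` -/
theorem ann_of_flat (J : Ideal (DualNumber R)) [Module.Flat (DualNumber A) (DualNumber R ⧸ J)]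
    (x : DualNumber R) (hx : ε * x ∈ J) : ∃ x' : DualNumber R, x - ε * x' ∈ J := by
  have h0 : (ε : DualNumber A) • (Ideal.Quotient.mk J x) = 0 := by
    have : (ε : DualNumber A) • (Ideal.Quotient.mk J x) = Ideal.Quotient.mk J ((ε : DualNumber A) • x) := rfl
    rw [this, eps_smul, Ideal.Quotient.eq_zero_iff_mem]
    exact hx
  obtain ⟨m', hm'⟩ := exists_eq_eps_smul_of_flat (A := A) (DualNumber R ⧸ J) _ h0
  obtain ⟨x', rfl⟩ := Ideal.Quotient.mk_surjective m'
  refine ⟨x', ?_⟩
  have : (ε : DualNumber A) • (Ideal.Quotient.mk J x') = Ideal.Quotient.mk J ((ε : DualNumber A) • x') := rfl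
  rw [this, eps_smul] at hm'
  exact Ideal.Quotient.eq.1 hm'

theorem exists_eq_liftIdeal (I : Ideal R) (J : Ideal (DualNumber R))
    [Module.Flat (DualNumber A) (DualNumber R ⧸ J)]
    (hJ : Ideal.map (TrivSqZeroExt.fstHom A R R) J = I) :
    ∃ φ : I →ₗ[R] R ⧸ I, J = liftIdeal I φ := by
  have hfst : ∀ x ∈ J, x.fst ∈ I := by
    intro x hx
    rw [← hJ]
    exact Ideal.mem_map_of_mem (TrivSqZeroExt.fstHom A R R) hx
  have hsurj : Function.Surjective (TrivSqZeroExt.fstHom A R R) := fun r => ⟨inl r, by simp⟩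
  have hex : ∀ a : I, ∃ x ∈ J, x.fst = (a : R) := by
    intro a
    have ha : (a : R) ∈ Ideal.map (TrivSqZeroExt.fstHom A R R) J := by rw [hJ]; exact a.2
    obtain ⟨x, hx, hxa⟩ := (Ideal.mem_map_iff_of_surjective _ hsurj).1 ha
    exact ⟨x, hx, by simpa using hxa⟩
  have F1 : ∀ c ∈ I, (inr c : DualNumber R) ∈ J := by
    intro c hc
    obtain ⟨x, hx, hxc⟩ := hex ⟨c, hc⟩
    have := J.mul_mem_left ε hx
    rw [eps_mul_eq, hxc] at this
    exact this
  have F2 : ∀ b : R, (inr b : DualNumber R) ∈ J → b ∈ I := by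
    intro b hb
    have h1 : ε * (inl b : DualNumber R) ∈ J := by
      rw [eps_mul_eq]; simpa using hb
    obtain ⟨x', hx'⟩ := ann_of_flat (A := A) J (inl b) h1
    have := hfst _ hx'
    simpa using this
  choose xx hxJ hxfst using hex
  have key : ∀ (a : I) (x : DualNumber R), x ∈ J → x.fst = (a : R) →
      Ideal.Quotient.mk I (xx a).snd = Ideal.Quotient.mk I x.snd := by
    intro a x hx hxa
    have hd : xx a - x = inr ((xx a).snd - x.snd) := by
      ext
      · simp [hxfst a, hxa]
      · simp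
    have := F2 _ (hd ▸ J.sub_mem (hxJ a) hx)
    exact Ideal.Quotient.eq.2 this
  let φ : I →ₗ[R] R ⧸ I :=
    { toFun := fun a => Ideal.Quotient.mk I (xx a).snd
      map_add' := by
        intro a a'
        rw [key (a + a') (xx a + xx a') (J.add_mem (hxJ a) (hxJ a')) (by simp [hxfst])]
        simp
      map_smul' := by
        intro r a
        rw [key (r • a) (inl r * xx a) (J.mul_mem_left _ (hxJ a)) (by simp [hxfst])]
        simp [Algebra.smul_def] }
  refine ⟨φ, ?_⟩
  ext x
  rw [mem_liftIdeal_iff]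
  constructor
  · intro hx
    refine ⟨hfst x hx, ?_⟩
    exact (key ⟨x.fst, hfst x hx⟩ x hx rfl).symm
  · rintro ⟨h1, h2⟩
    have h3 : x.snd - (xx ⟨x.fst, h1⟩).snd ∈ I := Ideal.Quotient.eq.1 h2
    have hd : x = xx ⟨x.fst, h1⟩ + inr (x.snd - (xx ⟨x.fst, h1⟩).snd) := by
      ext
      · simp [hxfst]
      · simp
    rw [hd]
    exact J.add_mem (hxJ _) (F1 _ h3)

end Helpers


/-- Let A be a commutative ring, R a commutative A-algebra free as an A-module, I an ideal of R with R/I
flat over A, and view the dual numbers R[ε] as an algebra over A[ε] (ε ↦ ε). For φ : I → R/I linear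
over R, let J_φ be the ideal of elements a + bε of R[ε] with a ∈ I and b ≡ φ(a) modulo I. Then each
R[ε]/J_φ is flat over A[ε] and J_φ reduces to I modulo ε; the assignment φ ↦ J_φ is injective; and
every ideal J of R[ε] with R[ε]/J flat over A[ε] which reduces to I modulo ε equals some J_φ. Thus
the first-order liftings of I correspond one-to-one to Hom_R(I, R/I) (the tangent space of the
Hilbert scheme at I). -/
theorem result (A : Type u) [CommRing A] (R : Type u) [CommRing R]
    [Algebra A R] [Module.Free A R] (I : Ideal R) [Module.Flat A (R ⧸ I)] :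
    (∀ φ : I →ₗ[R] R ⧸ I,
        Module.Flat (DualNumber A) (DualNumber R ⧸ W4c6puncthilbintro.liftIdeal I φ) ∧
          Ideal.map (TrivSqZeroExt.fstHom A R R) (W4c6puncthilbintro.liftIdeal I φ) = I) ∧
      Function.Injective (W4c6puncthilbintro.liftIdeal I) ∧
      ∀ J : Ideal (DualNumber R), Module.Flat (DualNumber A) (DualNumber R ⧸ J) →
        Ideal.map (TrivSqZeroExt.fstHom A R R) J = I →
          ∃ φ : I →ₗ[R] R ⧸ I, J = W4c6puncthilbintro.liftIdeal I φ := by
  refine ⟨fun φ => ⟨flat_quotient_liftIdeal I φ, map_fstHom_liftIdeal I φ⟩, liftIdeal_injective I, ?_⟩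
  intro J hflat hJ
  exact exists_eq_liftIdeal I J hJ

end Groth.Agent.S19452
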