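import Groth.Statements.S19453
import Mathlib

set_option autoImplicit false
universe u
open CAlg

namespace Groth.Agent.S19453

/-- Converse direction: let k be a field, A a regular local k-algebra of Krull dimension 2 with maximal
ideal M and residue field k, and I an ideal with A/I of finite dimension n ≥ 1 over k. If some
element of I does not lie in M^2, then A/I is isomorphic as a k-algebra to k[x]/(x^n): a cluster
lying on a smooth curve germ of a smooth surface is curvilinear, with coordinate ring generated by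
one element. -/
theorem result (k : Type u) [Field k]
    (A : Type u) [CommRing A] [Algebra k A] [IsRegularLocalRing A] (hdim : ringKrullDim A = 2)
    (hres : Function.Surjective (algebraMap k (IsLocalRing.ResidueField A)))
    (I : Ideal A) [Module.Finite k (A ⧸ I)] (n : ℕ) (hn : Module.finrank k (A ⧸ I) = n) (h1 : 1 ≤ n)
    (g : A) (hgI : g ∈ I) (hg : g ∉ IsLocalRing.maximalIdeal A ^ 2) :
    Nonempty ((A ⧸ I) ≃ₐ[k] (Polynomial k ⧸ Ideal.span {(Polynomial.X : Polynomial k) ^ n})) := by
  classical
  open Polynomial IsLocalRing in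
  -- Step 0: `A ⧸ I` is nontrivial, `I ≤ M`
  have hnt : Nontrivial (A ⧸ I) := by
    by_contra hcon
    rw [not_nontrivial_iff_subsingleton] at hcon
    have : Module.finrank k (A ⧸ I) = 0 := Module.finrank_zero_of_subsingleton
    omega
  have hItop : I ≠ ⊤ := by
    intro h
    rw [← Ideal.Quotient.subsingleton_iff] at h
    exact not_subsingleton (A ⧸ I) h
  have hIM : I ≤ maximalIdeal A := le_maximalIdeal hItop
  have hgM : g ∈ maximalIdeal A := hIM hgI
  -- Step 1: `M = (g, h)`
  have hfr : Module.finrank (ResidueField A) (CotangentSpace A) = 2 := by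
    have h1 := (IsRegularLocalRing.iff_finrank_cotangentSpace (R := A)).1 inferInstance
    rw [hdim] at h1
    exact_mod_cast h1
  have hg0 : (maximalIdeal A).toCotangent ⟨g, hgM⟩ ≠ 0 := by
    rw [Ne, Ideal.toCotangent_eq_zero]
    exact hg
  obtain ⟨w, hw⟩ := exists_linearIndependent_pair_of_one_lt_finrank
    (R := ResidueField A) (M := CotangentSpace A) (by rw [hfr]; norm_num) hg0
  have hspan : Submodule.span (ResidueField A)
      (Set.range ![(maximalIdeal A).toCotangent ⟨g, hgM⟩, w]) = ⊤ := by
    have : FiniteDimensional (ResidueField A) (CotangentSpace A) :=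
      Module.finite_of_finrank_pos (by rw [hfr]; norm_num)
    exact hw.span_eq_top_of_card_eq_finrank' (by rw [hfr]; simp)
  obtain ⟨⟨h, hhM⟩, rfl⟩ := (maximalIdeal A).toCotangent_surjective w
  have hMgh : maximalIdeal A = Ideal.span {g, h} := by
    have h1 : Submodule.span A ({⟨g, hgM⟩, ⟨h, hhM⟩} : Set (maximalIdeal A)) = ⊤ := by
      rw [← CotangentSpace.span_image_eq_top_iff]
      rw [← hspan]
      congr 1
      ext x
      simp only [Set.image_insert_eq, Set.image_singleton, Set.mem_insert_iff, Set.mem_singleton_iff,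
        Matrix.range_cons, Matrix.range_empty, Set.union_empty, Set.union_singleton]
      exact or_comm
    have h2 := congrArg (Submodule.map (maximalIdeal A).subtype) h1
    rw [Submodule.map_span, Submodule.map_top, Submodule.range_subtype] at h2
    rw [← h2]
    congr 1
    ext x
    simp [Set.image_insert_eq]
  -- Step 2: every element of `C = A ⧸ I` is `a + t c'`
  set t : A ⧸ I := Ideal.Quotient.mk I h with ht
  have hdecomp : ∀ c : A ⧸ I, ∃ (a : k) (c' : A ⧸ I), c = algebraMap k (A ⧸ I) a + t * c' := by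
    intro c
    obtain ⟨x, rfl⟩ := Ideal.Quotient.mk_surjective c
    obtain ⟨a, ha⟩ := hres (residue A x)
    have hxa : x - algebraMap k A a ∈ maximalIdeal A := by
      rw [← residue_eq_zero_iff, map_sub, sub_eq_zero, ← ha]
      rfl
    rw [hMgh, Ideal.mem_span_pair] at hxa
    obtain ⟨u, v, huv⟩ := hxa
    refine ⟨a, Ideal.Quotient.mk I v, ?_⟩
    have : x = algebraMap k A a + (u * g + v * h) := by rw [huv]; ring
    rw [this, map_add, map_add, map_mul, map_mul, Ideal.Quotient.eq_zero_iff_mem.2 hgI, mul_zero,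
      zero_add, ht, mul_comm]
    rfl
  -- Step 3: `t` is nilpotent
  have : IsLocalRing (A ⧸ I) := IsLocalRing.of_surjective' (Ideal.Quotient.mk I) Ideal.Quotient.mk_surjective
  have : IsArtinianRing (A ⧸ I) := IsArtinianRing.of_finite k (A ⧸ I)
  have htnil : IsNilpotent t := by
    have htm : t ∈ maximalIdeal (A ⧸ I) := by
      rw [mem_maximalIdeal, mem_nonunits_iff]
      intro hu
      obtain ⟨y, hy⟩ := hu.exists_right_inv
      obtain ⟨y, rfl⟩ := Ideal.Quotient.mk_surjective y
      rw [ht, ← map_mul, ← map_one (Ideal.Quotient.mk I), Ideal.Quotient.eq] at hy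
      have h1 : h * y - 1 ∈ maximalIdeal A := hIM hy
      have h2 : h * y ∈ maximalIdeal A := Ideal.mul_mem_right _ _ hhM
      have h3 : (1 : A) ∈ maximalIdeal A := by
        have := (maximalIdeal A).sub_mem h2 h1
        simpa using this
      exact (maximalIdeal.isMaximal A).ne_top ((Ideal.eq_top_iff_one _).2 h3)
    obtain ⟨r, hr⟩ := IsArtinianRing.isNilpotent_jacobson_bot (R := A ⧸ I)
    rw [jacobson_eq_maximalIdeal ⊥ bot_ne_top] at hr
    refine ⟨r, ?_⟩
    have := Ideal.pow_mem_pow htm r
    rw [hr] at this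
    simpa using this
  obtain ⟨r, hr⟩ := htnil
  -- Step 4: `k[X] → C`, `X ↦ t`, is surjective
  let φ : Polynomial k →ₐ[k] A ⧸ I := Polynomial.aeval t
  have hφ : ∀ j : ℕ, ∀ c : A ⧸ I, ∃ (p : Polynomial k) (c' : A ⧸ I), c = φ p + t ^ j * c' := by
    intro j
    induction j with
    | zero => intro c; exact ⟨0, c, by simp⟩
    | succ j ih =>
      intro c
      obtain ⟨p, c', hc⟩ := ih c
      obtain ⟨a, c'', hc'⟩ := hdecomp c'
      refine ⟨p + Polynomial.C a * Polynomial.X ^ j, c'', ?_⟩
      rw [hc, hc', map_add, map_mul, map_pow]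
      simp only [φ, Polynomial.aeval_C, Polynomial.aeval_X]
      ring
  have hsurj : Function.Surjective φ := by
    intro c
    obtain ⟨p, c', hc⟩ := hφ r c
    exact ⟨p, by rw [hc, hr, zero_mul, add_zero]⟩
  -- Step 5: the kernel is `(X ^ i)`
  have hker : ∃ i : ℕ, RingHom.ker φ.toRingHom = Ideal.span {(Polynomial.X : Polynomial k) ^ i} := by
    obtain ⟨q, hq⟩ := (IsPrincipalIdealRing.principal (RingHom.ker φ.toRingHom)).principal
    have hXr : (Polynomial.X : Polynomial k) ^ r ∈ RingHom.ker φ.toRingHom := by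
      rw [RingHom.mem_ker]
      change φ (Polynomial.X ^ r) = 0
      rw [map_pow]
      simp only [φ, Polynomial.aeval_X]
      exact hr
    rw [hq] at hXr
    have hdvd : q ∣ Polynomial.X ^ r := Ideal.mem_span_singleton.1 hXr
    obtain ⟨i, -, hi⟩ := (dvd_prime_pow Polynomial.prime_X r).1 hdvd
    refine ⟨i, ?_⟩
    rw [hq]
    exact Ideal.span_singleton_eq_span_singleton.2 hi
  obtain ⟨i, hi⟩ := hker
  -- Step 6: the isomorphism
  let e1 : (Polynomial k ⧸ RingHom.ker φ.toRingHom) ≃ₐ[k] A ⧸ I :=
    Ideal.quotientKerAlgEquivOfSurjective hsurj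
  let e2 : (Polynomial k ⧸ RingHom.ker φ.toRingHom) ≃ₐ[k]
      (Polynomial k ⧸ Ideal.span {(Polynomial.X : Polynomial k) ^ i}) :=
    Ideal.quotientEquivAlgOfEq k hi
  have hin : i = n := by
    have h1 : Module.finrank k (Polynomial k ⧸ Ideal.span {(Polynomial.X : Polynomial k) ^ i}) = i := by
      rw [finrank_quotient_span_eq_natDegree, Polynomial.natDegree_X_pow]
    have h2 := (e1.symm.trans e2).toLinearEquiv.finrank_eq
    rw [hn, h1] at h2
    exact h2.symm
  subst hin
  exact ⟨e1.symm.trans e2⟩

end Groth.Agent.S19453
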