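import Groth.Statements.S5087
import Groth.Agent.Lib.MeroDiv82B
import Groth.Agent.Lib.RegMero82
import Groth.Agent.S5096

set_option autoImplicit false
universe u
open CategoryTheory CategoryTheory.Limits AlgebraicGeometry TopologicalSpace
open Mero

namespace Groth.Agent.S5087

open Mero Groth.Agent.Lib.H90Invertible Groth.Agent.Lib.MeroDiv82 Groth.Agent.Lib.RegMero82
  Groth.Agent.Lib.H78TensorGen Groth.Agent.Lib.QCohStalk Groth.Agent.S5096

variable {X : Scheme.{u}}

/-- the generator `f⁻¹` of `O_X(D)` over an open where `D` is the divisor of the unit `f` -/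
noncomputable def genSec (D : Mero.Divisor X) {U : X.Opens} (f : (Γ(Mero.kmod X, U))ˣ)
    (hf : ∀ y : U, D.1 y.1 = Mero.germOf f y) : Γ(Mero.divMod D, U) :=
  ⟨(f⁻¹ : (Γ(Mero.kmod X, U))ˣ).val.1, (f⁻¹ : (Γ(Mero.kmod X, U))ˣ).val.2, fun z => by
    rw [divCond_iff D f z (hf z), mul_comm, units_apply_mul_inv]
    exact one_mem _⟩

theorem genSec_apply (D : Mero.Divisor X) {U : X.Opens} (f : (Γ(Mero.kmod X, U))ˣ)
    (hf : ∀ y : U, D.1 y.1 = Mero.germOf f y) (y : U) :
    (genSec D f hf).1 y = (f⁻¹ : (Γ(Mero.kmod X, U))ˣ).val.1 y := rfl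

theorem isGen_genSec (D : Mero.Divisor X) {U : X.Opens} (f : (Γ(Mero.kmod X, U))ˣ)
    (hf : ∀ y : U, D.1 y.1 = Mero.germOf f y) : IsGen (Mero.divMod D) U (genSec D f hf) := by
  intro W hWU
  constructor
  · intro a a' haa'
    apply TopCat.Presheaf.section_ext X.sheaf W
    intro z hz
    have h1 := congrArg (fun t : Γ(Mero.divMod D, W) => t.1 ⟨z, hz⟩) haa'
    change X.presheaf.germ W z hz a • (f⁻¹ : (Γ(Mero.kmod X, U))ˣ).val.1 ⟨z, hWU hz⟩ =
      X.presheaf.germ W z hz a' • (f⁻¹ : (Γ(Mero.kmod X, U))ˣ).val.1 ⟨z, hWU hz⟩ at h1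
    rw [Algebra.smul_def, Algebra.smul_def] at h1
    have h2 := congrArg (fun t => t * f.val.1 ⟨z, hWU hz⟩) h1
    simp only [mul_assoc] at h2
    rw [mul_comm _ (f.val.1 ⟨z, hWU hz⟩), units_apply_mul_inv, mul_one, mul_one] at h2
    exact algebraMap_KStalk_injective z h2
  · intro t
    let t' : Γ(Mero.kmod X, W) := ⟨t.1, t.2.1⟩
    let fW : Γ(Mero.kmod X, W) := (Mero.kmod X).presheaf.map (homOfLE hWU).op f.val
    obtain ⟨r, hr⟩ := exists_toK_eq W (t' * fW) (fun z => by
      have h1 := t.2.2 z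
      rw [divCond_iff D f ⟨z.1, hWU z.2⟩ (hf ⟨z.1, hWU z.2⟩)] at h1
      exact h1)
    refine ⟨r, ?_⟩
    apply Subtype.ext
    funext z
    change X.presheaf.germ W z.1 z.2 r • (f⁻¹ : (Γ(Mero.kmod X, U))ˣ).val.1 ⟨z.1, hWU z.2⟩ = t.1 z
    have h1 := congrArg (fun q : Γ(Mero.kmod X, W) => q.1 z) hr
    change (LocalizedModule.mk (X.presheaf.germ W z.1 z.2 r) 1 : KStalk X z.1) =
      t.1 z * f.val.1 ⟨z.1, hWU z.2⟩ at h1
    rw [Algebra.smul_def, algebraMap_eq_mk, h1, mul_assoc, units_apply_mul_inv, mul_one]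

/-- if `f = a / b` at `y` then `a · f⁻¹ = b` -/
theorem algebraMap_mul_inv_apply {U : X.Opens} (f : (Γ(Mero.kmod X, U))ˣ) (y : U)
    (a : X.presheaf.stalk y.1) (b : regStalk X y.1)
    (h : f.val.1 y = LocalizedModule.mk a b) :
    algebraMap (X.presheaf.stalk y.1) (KStalk X y.1) a *
      (f⁻¹ : (Γ(Mero.kmod X, U))ˣ).val.1 y =
        algebraMap (X.presheaf.stalk y.1) (KStalk X y.1) b.1 := by
  have h1 : algebraMap (X.presheaf.stalk y.1) (KStalk X y.1) a =
      algebraMap (X.presheaf.stalk y.1) (KStalk X y.1) b.1 * f.val.1 y := by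
    rw [h, algebraMap_eq_mk, algebraMap_eq_mk]
    refine Eq.trans ?_ LocalizedModule.mk_mul_mk.symm
    rw [mk_eq_mk_iff]
    simp only [one_mul, OneMemClass.coe_one]
  rw [h1, mul_assoc, units_apply_mul_inv, mul_one]

/-- the numerator of a unit of `K_{X,y}` is a nonzerodivisor -/
theorem mem_nonZeroDivisors_of_unit {U : X.Opens} (f : (Γ(Mero.kmod X, U))ˣ) (y : U)
    (a : X.presheaf.stalk y.1) (b : regStalk X y.1)
    (h : f.val.1 y = LocalizedModule.mk a b) : a ∈ nonZeroDivisors (X.presheaf.stalk y.1) := by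
  rw [mem_nonZeroDivisors_iff_right]
  intro t ht
  apply algebraMap_KStalk_injective y.1
  rw [map_zero]
  have h1 := algebraMap_mul_inv_apply f y a b h
  have h2 : algebraMap (X.presheaf.stalk y.1) (KStalk X y.1) t *
      algebraMap (X.presheaf.stalk y.1) (KStalk X y.1) b.1 = 0 := by
    rw [← h1, ← mul_assoc, ← map_mul, ht, map_zero, zero_mul]
  exact (IsLocalization.map_units (KStalk X y.1) b).mul_left_eq_zero.mp h2

/-- an invertible module isomorphic to `O_X(D)` has a regular meromorphic section -/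
theorem hasRegularMero_of_iso (L : X.Modules) (D : Mero.Divisor X) (e : L ≅ Mero.divMod D) :
    Mero.HasRegularMero L := by
  have h0 : ∀ x : X, ∃ (U : X.Opens) (f : (Γ(Mero.kmod X, U))ˣ)
      (_ : ∀ y : U, D.1 y.1 = Mero.germOf f y) (V : X.Opens) (_ : x ∈ V) (hVU : V ≤ U)
      (a : Γ(X, V)) (b : regSub X V), ∀ (y : X) (hy : y ∈ V),
        f.val.1 ⟨y, hVU hy⟩ =
          LocalizedModule.mk (X.presheaf.germ V y hy a) (regGerm ⟨y, hy⟩ b) := by
    intro x
    obtain ⟨U, hxU, f, hf⟩ := D.2 x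
    obtain ⟨V, hxV, i, a, b, h⟩ := f.val.2 ⟨x, hxU⟩
    exact ⟨U, f, hf, V, hxV, i.le, a, b, fun y hy => h ⟨y, hy⟩⟩
  choose U f hf V hxV hVU a b hab using h0
  have hγ0 : ∀ x : X, ∃ γ : Γ(Mero.divMod D, V x), IsGen (Mero.divMod D) (V x) γ ∧
      ∀ (y : X) (hy : y ∈ V x),
        γ.1 ⟨y, hy⟩ = ((f x)⁻¹ : (Γ(Mero.kmod X, U x))ˣ).val.1 ⟨y, hVU x hy⟩ := fun x =>
    ⟨rs (Mero.divMod D) (hVU x) (genSec D (f x) (hf x)),
      (isGen_genSec D (f x) (hf x)).mono (hVU x), fun y hy => rfl⟩
  choose γ hγ hγval using hγ0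
  have hε0 : ∀ x : X, ∃ ε : Γ(L, V x), IsGen L (V x) ε ∧ e.hom.app (V x) ε = γ x := fun x =>
    ⟨e.inv.app (V x) (γ x), (hγ x).of_iso e.symm,
      congrArg (fun ψ => Scheme.Modules.Hom.app ψ (V x) (γ x)) e.inv_hom_id⟩
  choose ε hε hεγ using hε0
  have hT : ∀ (x : X) (O : X.Opens) (hO : O ≤ V x) (y : X) (hy : y ∈ O),
      (e.hom.app O (rs L hO (a x • ε x))).1 ⟨y, hy⟩ =
        LocalizedModule.mk (X.presheaf.germ (V x) y (hO hy) (b x).1) 1 := by
    intro x O hO y hy
    have h1 : e.hom.app O (rs L hO (a x • ε x)) = rs (Mero.divMod D) hO (a x • γ x) := by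
      have h2 := NatTrans.naturality_apply e.hom.mapPresheaf (homOfLE hO).op (a x • ε x)
      have h3 : e.hom.app (V x) (a x • ε x) = a x • γ x := by
        rw [Scheme.Modules.Hom.app_smul, hεγ x]
      exact h2.trans (congrArg (rs (Mero.divMod D) hO) h3)
    rw [h1]
    change X.presheaf.germ (V x) y (hO hy) (a x) • (γ x).1 ⟨y, hO hy⟩ = _
    rw [hγval x y (hO hy), Algebra.smul_def,
      algebraMap_mul_inv_apply (f x) ⟨y, hVU x (hO hy)⟩ _
      (regGerm ⟨y, hO hy⟩ (b x)) (hab x y (hO hy)), algebraMap_eq_mk]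
  have hcompat : ∀ (x x' z : X) (hz : z ∈ V x) (hz' : z ∈ V x'),
      X.presheaf.germ (V x') z hz' (b x').1 • L.presheaf.germ (V x) z hz (a x • ε x) =
        X.presheaf.germ (V x) z hz (b x).1 • L.presheaf.germ (V x') z hz' (a x' • ε x') := by
    intro x x' z hz hz'
    set O : X.Opens := V x ⊓ V x' with hO
    have hσ : X.presheaf.map (homOfLE (inf_le_right : O ≤ V x')).op (b x').1 •
          rs L (inf_le_left : O ≤ V x) (a x • ε x) =
        X.presheaf.map (homOfLE (inf_le_left : O ≤ V x)).op (b x).1 •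
          rs L (inf_le_right : O ≤ V x') (a x' • ε x') := by
      have hinj : Function.Injective (e.hom.app O) :=
        ((ConcreteCategory.isIso_iff_bijective (e.hom.app O)).mp inferInstance).1
      apply hinj
      rw [Scheme.Modules.Hom.app_smul, Scheme.Modules.Hom.app_smul]
      apply Subtype.ext
      funext y
      change X.presheaf.germ O y.1 y.2
            (X.presheaf.map (homOfLE (inf_le_right : O ≤ V x')).op (b x').1) •
          (e.hom.app O (rs L (inf_le_left : O ≤ V x) (a x • ε x))).1 y =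
        X.presheaf.germ O y.1 y.2
            (X.presheaf.map (homOfLE (inf_le_left : O ≤ V x)).op (b x).1) •
          (e.hom.app O (rs L (inf_le_right : O ≤ V x') (a x' • ε x'))).1 y
      rw [hT x O inf_le_left y.1 y.2, hT x' O inf_le_right y.1 y.2,
        TopCat.Presheaf.germ_res_apply, TopCat.Presheaf.germ_res_apply,
        LocalizedModule.smul'_mk, LocalizedModule.smul'_mk, smul_eq_mul, smul_eq_mul, mul_comm]
    have h1 := congrArg (L.presheaf.germ O z ⟨hz, hz'⟩) hσ
    rw [Mero.germ_smul, Mero.germ_smul, germ_res, germ_res, TopCat.Presheaf.germ_res_apply,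
      TopCat.Presheaf.germ_res_apply] at h1
    exact h1
  obtain ⟨s, hs⟩ := exists_merMod_section V hxV (fun x => a x • ε x) b hcompat
  refine ⟨s, isRegularMero_of_local s (fun x =>
    ⟨V x, hxV x, ε x, a x, b x, hε x, ?_, hs x x (hxV x)⟩)⟩
  exact mem_nonZeroDivisors_of_unit (f x) ⟨x, hVU x (hxV x)⟩ _ (regGerm ⟨x, hxV x⟩ (b x))
    (hab x x (hxV x))


/-- For a locally Noetherian scheme X (so that at every point the germs of regular functions are all the
non-zero-divisors of the local ring, and a regular meromorphic section of an invertible module is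
locally a unit of K_X times a generator): an invertible O_X-module L is isomorphic to O_X(D) for
some divisor D on X if and only if L has a regular meromorphic section. (The published statement is
for an arbitrary scheme, with regular meromorphic sections defined through local trivialisations;
this row assumes X locally Noetherian, where that notion agrees with the stalkwise one used here.) -/
theorem result (X : Scheme.{u}) [IsLocallyNoetherian X] (L : X.Modules)
    (hL : PicF.IsInvertible L) :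
    (∃ D : Mero.Divisor X, Nonempty (L ≅ Mero.divMod D)) ↔ Mero.HasRegularMero L := by
  constructor
  · rintro ⟨D, ⟨e⟩⟩
    exact hasRegularMero_of_iso L D e
  · rintro ⟨s, hs⟩
    exact nonempty_iso_divMod hL s hs

end Groth.Agent.S5087
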