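import Groth.Statements.S19455
import Groth.Agent.Lib.H4TensorPair
import Groth.Agent.S5087

set_option autoImplicit false
universe u
open CategoryTheory CategoryTheory.Limits AlgebraicGeometry TopologicalSpace Opposite
open Mero

namespace Groth.Agent.S19455

open Mero Groth.Agent.Lib.H90Invertible Groth.Agent.Lib.H4TensorPair Groth.Agent.S5087
open TensorProduct

variable {X : Scheme.{u}}

/-- the morphism induced by a pairing sends pure tensors to the values of the pairing -/
theorem hom_app_tmul {L L' N : X.Modules} (β : Pairing L L' N) (U : X.Opens) (a : Γ(L, U))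
    (b : Γ(L', U)) : β.hom.app U (SecTwist.tmul L L' U a b) = β.toFun U a b := by
  have h0 : (adj X).homEquiv (show X.PresheafOfModules from CohB1.tensorPre L L') N β.hom =
      β.preHom := Equiv.apply_symm_apply _ _
  have h1 : (adj X).unit.app (show X.PresheafOfModules from CohB1.tensorPre L L') ≫
      (Scheme.Modules.toPresheafOfModules X).map β.hom = β.preHom :=
    ((adj X).homEquiv_unit (f := β.hom)).symm.trans h0
  have h2 := congrArg (fun φ => (φ.app (op U)).hom
    ((show (CohB1.toPMod L).obj (op U) from a) ⊗ₜ (show (CohB1.toPMod L').obj (op U) from b))) h1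
  exact h2

/-- the divisor condition may be checked on one representative -/
theorem divCond_of_rep (D : Mero.Divisor X) (x : X) (t : KStalk X x) (g₀ : (KStalk X x)ˣ)
    (h0 : D.1 x = QuotientGroup.mk g₀)
    (ht : t * g₀ ∈ (algebraMap (X.presheaf.stalk x) (KStalk X x)).range) :
    Mero.DivCond D x t := by
  intro g hg
  rw [h0] at hg
  obtain ⟨w, hw⟩ := QuotientGroup.eq.mp hg
  have h2 := congrArg Units.val hw
  simp only [Units.coe_map, Units.val_mul] at h2
  have h3 : (g : KStalk X x) = g₀ * algebraMap _ _ (w : X.presheaf.stalk x) := by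
    have h5 : algebraMap (X.presheaf.stalk x) (KStalk X x) (w : X.presheaf.stalk x) =
        ((g₀⁻¹ : (KStalk X x)ˣ) : KStalk X x) * (g : KStalk X x) := h2
    rw [h5, ← mul_assoc, Units.mul_inv, one_mul]
  rw [h3, ← mul_assoc]
  exact mul_mem ht ⟨_, rfl⟩

/-- the divisor condition is multiplicative -/
theorem divCond_mul (D E : Mero.Divisor X) (x : X) {t t' : KStalk X x}
    (h : Mero.DivCond D x t) (h' : Mero.DivCond E x t') : Mero.DivCond (D * E) x (t * t') := by
  obtain ⟨g₁, hg₁⟩ := QuotientGroup.mk_surjective (D.1 x)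
  obtain ⟨g₂, hg₂⟩ := QuotientGroup.mk_surjective (E.1 x)
  apply divCond_of_rep (D * E) x (t * t') (g₁ * g₂)
  · rw [Subgroup.coe_mul, Pi.mul_apply, ← hg₁, ← hg₂, QuotientGroup.mk_mul]
  · have h1 := h g₁ hg₁.symm
    have h2 := h' g₂ hg₂.symm
    have h3 : t * t' * ((g₁ * g₂ : (KStalk X x)ˣ) : KStalk X x) =
        (t * g₁) * (t' * g₂) := by
      rw [Units.val_mul]
      ring
    rw [h3]
    exact mul_mem h1 h2

/-- multiplication in `K_X` as a pairing `O_X(D) × O_X(E) → O_X(D · E)` -/
noncomputable def mulPairing (D E : Mero.Divisor X) :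
    Pairing (Mero.divMod D) (Mero.divMod E) (Mero.divMod (D * E)) where
  toFun U t t' := ⟨fun y => t.1 y * t'.1 y, Mero.kLoc_mul X U t.1 t'.1 t.2.1 t'.2.1,
    fun y => divCond_mul D E y.1 (t.2.2 y) (t'.2.2 y)⟩
  add_left U a a' b := Subtype.ext (funext fun y => add_mul _ _ _)
  add_right U a b b' := Subtype.ext (funext fun y => mul_add _ _ _)
  smul_left U r a b := Subtype.ext (funext fun y => smul_mul_assoc _ _ _)
  smul_right U r a b := Subtype.ext (funext fun y => mul_smul_comm _ _ _)
  map h a b := rfl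

/-- restriction of units of `K_X` -/
noncomputable def resUnit {U V : X.Opens} (h : V ≤ U) (f : (Γ(Mero.kmod X, U))ˣ) :
    (Γ(Mero.kmod X, V))ˣ :=
  Units.map ((Mero.kring X).obj.map (homOfLE h).op).hom.toMonoidHom f

theorem germOf_resUnit {U V : X.Opens} (h : V ≤ U) (f : (Γ(Mero.kmod X, U))ˣ) (y : V) :
    Mero.germOf (resUnit h f) y = Mero.germOf f ⟨y.1, h y.2⟩ :=
  congrArg _ (Units.ext rfl)

/-- local generators making the multiplication pairing an isomorphism -/
theorem mulPairing_cov (D E : Mero.Divisor X) (x : X) :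
    ∃ (V : X.Opens) (s : Γ(Mero.divMod D, V)) (s' : Γ(Mero.divMod E, V)), x ∈ V ∧
      IsGen (Mero.divMod D) V s ∧ IsGen (Mero.divMod E) V s' ∧
      IsGen (Mero.divMod (D * E)) V ((mulPairing D E).toFun V s s') := by
  obtain ⟨U₁, hx₁, f₁, hf₁⟩ := D.2 x
  obtain ⟨U₂, hx₂, f₂, hf₂⟩ := E.2 x
  set V : X.Opens := U₁ ⊓ U₂ with hV
  set g₁ : (Γ(Mero.kmod X, V))ˣ := resUnit (inf_le_left : V ≤ U₁) f₁ with hg₁
  set g₂ : (Γ(Mero.kmod X, V))ˣ := resUnit (inf_le_right : V ≤ U₂) f₂ with hg₂
  have hD : ∀ y : V, D.1 y.1 = Mero.germOf g₁ y := fun y =>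
    (hf₁ ⟨y.1, y.2.1⟩).trans (germOf_resUnit (inf_le_left : V ≤ U₁) f₁ y).symm
  have hE : ∀ y : V, E.1 y.1 = Mero.germOf g₂ y := fun y =>
    (hf₂ ⟨y.1, y.2.2⟩).trans (germOf_resUnit (inf_le_right : V ≤ U₂) f₂ y).symm
  have hDE : ∀ y : V, (D * E).1 y.1 = Mero.germOf (g₁ * g₂) y := by
    intro y
    rw [Subgroup.coe_mul, Pi.mul_apply, hD y, hE y, germOf, germOf, germOf,
      ← QuotientGroup.mk_mul, ← map_mul]
  refine ⟨V, genSec D g₁ hD, genSec E g₂ hE, ⟨hx₁, hx₂⟩, isGen_genSec D g₁ hD,
    isGen_genSec E g₂ hE, ?_⟩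
  have h1 : (mulPairing D E).toFun V (genSec D g₁ hD) (genSec E g₂ hE) =
      genSec (D * E) (g₁ * g₂) hDE := by
    apply Subtype.ext
    funext y
    change (g₁⁻¹ : (Γ(Mero.kmod X, V))ˣ).val.1 y * (g₂⁻¹ : (Γ(Mero.kmod X, V))ˣ).val.1 y =
      ((g₁ * g₂)⁻¹ : (Γ(Mero.kmod X, V))ˣ).val.1 y
    rw [mul_inv, Units.val_mul, Mero.kmod_mul_apply]
  rw [h1]
  exact isGen_genSec (D * E) (g₁ * g₂) hDE


/-- Let X be an integral scheme and D, E Cartier divisors on X (global sections of the sheaf of units of
K_X modulo units of O_X, written multiplicatively, so that D · E stands for the sum of the two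
divisors). Then there is a morphism of O_X-modules from the tensor product O_X(D) ⊗ O_X(E) to O_X(D
· E) which sends each section t ⊗ t' over an open subset U to the product t · t' computed in the
sheaf of meromorphic functions K_X, and this morphism is an isomorphism. (The published statement is
for an irreducible normal variety over an algebraically closed field, where a Cartier divisor is a
locally principal Weil divisor and O_X(D) is its sheaf of rational functions φ with div φ + D ≥ 0
locally, a subsheaf of the constant sheaf of rational functions equal to O_U · φ⁻¹ wherever D is the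
divisor of φ; this row states it for the fractional ideals O_X(D) ⊆ K_X of Cartier divisors on an
arbitrary integral scheme.) -/
theorem result (X : Scheme.{u}) [AlgebraicGeometry.IsIntegral X]
    (D E : Mero.Divisor X) :
    ∃ μ : CohB1.tensorMod (Mero.divMod D) (Mero.divMod E) ⟶ Mero.divMod (D * E),
      (∀ (U : X.Opens) (t : Γ(Mero.divMod D, U)) (t' : Γ(Mero.divMod E, U)),
        (Mero.divModι (D * E)).app U (μ.app U (SecTwist.tmul (Mero.divMod D) (Mero.divMod E) U t t')) =
          (Mero.divModι D).app U t * (Mero.divModι E).app U t') ∧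
      IsIso μ := by
  refine ⟨(mulPairing D E).hom, ?_, (mulPairing D E).isIso_hom (mulPairing_cov D E)⟩
  intro U t t'
  rw [hom_app_tmul]
  rfl

end Groth.Agent.S19455
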