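import Groth.Statements.S19456
import Groth.Agent.Lib.ZeroScheme82
import Groth.Agent.Lib.MeroDiv82B
import Groth.Agent.Lib.RegMero82

set_option autoImplicit false
universe u
open CategoryTheory CategoryTheory.Limits AlgebraicGeometry TopologicalSpace Opposite
open Mero

namespace Groth.Agent.S19456

open Mero Groth.Agent.Lib.H90Invertible Groth.Agent.Lib.MeroDiv82 Groth.Agent.Lib.RegMero82
  Groth.Agent.Lib.H78TensorGen Groth.Agent.Lib.QCohStalk Groth.Agent.Lib.H78SecCoord
  Groth.Agent.Lib.ZeroScheme82 Groth.Agent.Lib.H78SecTwist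

variable {X : Scheme.{u}} {L : X.Modules}

/-- trivialising affine neighbourhoods -/
theorem exists_triv_affine (hL : PicF.IsInvertible L) (x : X) :
    ∃ (U : X.affineOpens) (_ : x ∈ U.1) (e : Γ(L, U.1)), IsGen L U.1 e := by
  obtain ⟨V, hxV, E, hE⟩ := (isInvertible_iff_exists_isGen L).mp hL x
  obtain ⟨_, ⟨W, hW, rfl⟩, hxW, hWV⟩ :=
    X.isBasis_affineOpens.exists_subset_of_mem_open hxV V.2
  exact ⟨⟨W, hW⟩, hxW, rs L hWV E, hE.mono hWV⟩

/-- the coordinate of the section on a trivialising open -/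
theorem exists_coord (s : Coh.structureModule X ⟶ L) {U : X.Opens} {e : Γ(L, U)}
    (he : IsGen L U e) : ∃ c : Γ(X, U), sv L s U = c • e := by
  obtain ⟨c, hc⟩ := (he U le_rfl).2 (sv L s U)
  replace hc : c • rs L (le_refl U) e = sv L s U := hc
  rw [rs_self] at hc
  exact ⟨c, hc.symm⟩

theorem sv_eq (s : Coh.structureModule X ⟶ L) (U : X.Opens) :
    sv L s U = rs L le_top (sec s) := val_eq s U

/-- a morphism `O ⟶ L` whose global section vanishes is zero -/
theorem eq_zero_of_sec_eq_zero (s : Coh.structureModule X ⟶ L) (h : sec s = 0) : s = 0 := by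
  rw [← ofSection_sec s]
  ext V a
  have h1 := app_toSec s V a
  rw [ofSection_sec]
  rw [h] at h1
  have h2 : rs L (le_top : V ≤ ⊤) (0 : Γ(L, ⊤)) = 0 :=
    map_zero (L.presheaf.map (homOfLE (le_top : V ≤ ⊤)).op).hom
  rw [h2, smul_zero] at h1
  exact h1

/-- on an integral scheme, the coordinate of a nonzero section of an invertible module on a
nonempty trivialising open is nonzero -/
theorem coord_ne_zero [IsIntegral X] (hL : PicF.IsInvertible L) (s : Coh.structureModule X ⟶ L)
    (hs : s ≠ 0) {W : X.Opens} (hWne : (W : Set X).Nonempty) {e : Γ(L, W)} (he : IsGen L W e)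
    (c : Γ(X, W)) (hc : sv L s W = c • e) : c ≠ 0 := by
  intro hc0
  apply hs
  apply eq_zero_of_sec_eq_zero
  apply Groth.Agent.S8861.eq_zero_of_germ_eq_zero
  intro y hy
  obtain ⟨V, hyV, e', he'⟩ := exists_triv_affine hL y
  obtain ⟨c', hc'⟩ := exists_coord s he'
  have hne : ((V.1 ⊓ W : X.Opens) : Set X).Nonempty := by
    have := (PreirreducibleSpace.isPreirreducible_univ (X := X)) V.1 W V.1.2 W.2
      ⟨y, trivial, hyV⟩ (by obtain ⟨w, hw⟩ := hWne; exact ⟨w, trivial, hw⟩)
    obtain ⟨z, -, hz⟩ := this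
    exact ⟨z, hz⟩
  haveI : Nonempty (V.1 ⊓ W : X.Opens) := hne.to_subtype
  have h1 : X.presheaf.map (homOfLE (inf_le_left : V.1 ⊓ W ≤ V.1)).op c' = 0 := by
    apply (he' (V.1 ⊓ W) inf_le_left).1
    change X.presheaf.map (homOfLE (inf_le_left : V.1 ⊓ W ≤ V.1)).op c' •
      rs L (inf_le_left : V.1 ⊓ W ≤ V.1) e' = (0 : Γ(X, V.1 ⊓ W)) • rs L inf_le_left e'
    rw [zero_smul]
    have h2 := res_smul L (inf_le_left : V.1 ⊓ W ≤ V.1) c' e'
    rw [← hc', res_sv] at h2
    have h3 := res_smul L (inf_le_right : V.1 ⊓ W ≤ W) c e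
    rw [← hc, res_sv, hc0] at h3
    rw [← h2, h3]
    have h4 : resO X (inf_le_right : V.1 ⊓ W ≤ W) (0 : Γ(X, W)) = 0 :=
      map_zero (X.presheaf.map (homOfLE (inf_le_right : V.1 ⊓ W ≤ W)).op).hom
    rw [h4, zero_smul]
  have h5 : c' = 0 := by
    apply map_injective_of_isIntegral X (homOfLE (inf_le_left : V.1 ⊓ W ≤ V.1))
    rw [h1, map_zero]
  have h6 := congrArg (L.presheaf.germ V.1 y hyV) hc'
  rw [h5, zero_smul, map_zero, sv_eq, germ_res] at h6
  exact h6

/-- on an integral scheme nonzero functions are regular -/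
theorem mem_regSub_of_ne_zero [IsIntegral X] {W : X.Opens} (c : Γ(X, W)) (hc : c ≠ 0) :
    c ∈ Mero.regSub X W := by
  intro y
  apply mem_nonZeroDivisors_of_ne_zero
  intro h0
  apply hc
  apply germ_injective_of_isIntegral X y.1 y.2
  rw [h0, map_zero]

/-- the meromorphic section `s / 1` -/
noncomputable def merSec (s : Coh.structureModule X ⟶ L) : Γ(Mero.merMod L, ⊤) :=
  Mero.toMerFun L ⊤ (sec s)

theorem merSec_apply (s : Coh.structureModule X ⟶ L) (x : X) :
    (merSec s).1 ⟨x, Opens.mem_top x⟩ =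
      LocalizedModule.mk (L.presheaf.germ ⊤ x (Opens.mem_top x) (sec s)) 1 := rfl

/-- local form of the meromorphic section `s / 1` -/
theorem merSec_form (s : Coh.structureModule X ⟶ L) {W : X.Opens} {e : Γ(L, W)} (c : Γ(X, W))
    (hc : sv L s W = c • e) (b : Mero.regSub X W) (hb : b.1 = 1) (z : X) (hz : z ∈ W) :
    (merSec s).1 ⟨z, Opens.mem_top z⟩ =
      LocalizedModule.mk (X.presheaf.germ W z hz c • L.presheaf.germ W z hz e)
        (regGerm ⟨z, hz⟩ b) := by
  rw [merSec_apply]
  apply mk_congr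
  · rw [← Mero.germ_smul, ← hc, sv_eq, germ_res]
  · change (1 : X.presheaf.stalk z) = X.presheaf.germ W z hz b.1
    rw [hb, map_one]

/-- the section `s / 1` of an invertible module on an integral scheme is regular -/
theorem isRegularMero_merSec [IsIntegral X] (hL : PicF.IsInvertible L)
    (s : Coh.structureModule X ⟶ L) (hs : s ≠ 0) : Mero.IsRegularMero L (merSec s) := by
  apply isRegularMero_of_local
  intro x
  obtain ⟨U, hxU, e, he⟩ := exists_triv_affine hL x
  obtain ⟨c, hc⟩ := exists_coord s he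
  have hc0 : c ≠ 0 := coord_ne_zero hL s hs ⟨x, hxU⟩ he c hc
  have hcreg := mem_regSub_of_ne_zero c hc0
  refine ⟨U.1, hxU, e, c, 1, he, hcreg ⟨x, hxU⟩, ?_⟩
  rw [merSec_form s c hc 1 rfl x hxU, Mero.germ_smul]

/-- the germ of the divisor of `s / 1` on a trivialising open -/
theorem divisorOf_merSec_apply (hL : PicF.IsInvertible L) (s : Coh.structureModule X ⟶ L)
    (hσ : Mero.IsRegularMero L (merSec s)) {W : X.Opens} {e : Γ(L, W)} (he : IsGen L W e)
    (c : Γ(X, W)) (hc : sv L s W = c • e) (hcreg : c ∈ Mero.regSub X W) (y : W) :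
    (divisorOf hL (merSec s) hσ).1 y.1 =
      QuotientGroup.mk (IsLocalization.map_units (KStalk X y.1) (regGerm y ⟨c, hcreg⟩)).unit := by
  let F : LocalForm L (merSec s) :=
    ⟨W, e, ⟨c, hcreg⟩, 1, he, fun z hz => merSec_form s c hc 1 rfl z hz⟩
  rw [divisorOf_apply hL (merSec s) hσ F y.1 y.2]
  change QuotientGroup.mk (fracUnit y.1 (regGerm ⟨y.1, y.2⟩ ⟨c, hcreg⟩)
    (regGerm ⟨y.1, y.2⟩ 1)) = _
  congr 1
  apply Units.ext
  rw [fracUnit_val, IsUnit.unit_spec, algebraMap_eq_mk]
  apply mk_congr rfl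
  exact map_one (X.presheaf.germ W y.1 y.2).hom


/-- With the preceding paragraph: let X be an integral scheme, L an invertible O_X-module and s a
nonzero global section of L, given as a nonzero morphism O_X → L. Then the zero scheme Z(s) of s is
an effective Cartier divisor: there is a divisor D on X (a global section of the sheaf of units of
K_X modulo units of O_X) which, around every point of X, on some affine open neighbourhood, is the
class of a regular function generating the ideal of Z(s) there; and there is an isomorphism of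
O_X-modules L ≅ O_X(D) which carries s to the element 1 of Γ(X, O_X(D)) ⊆ K(X). (The published
statement is for an irreducible variety over an algebraically closed field; this row states it for
an arbitrary integral scheme.) -/
theorem result (X : Scheme.{u}) [AlgebraicGeometry.IsIntegral X]
    (L : X.Modules) (hL : PicF.IsInvertible L) (s : Coh.structureModule X ⟶ L) (hs : s ≠ 0) :
    ∃ D : Mero.Divisor X, Mero.IsDivOfIdeal D (PicF2.zeroScheme L s) ∧
      ∃ e : L ≅ Mero.divMod D,
        (Mero.divModι D).app ⊤ (e.hom.app ⊤ (SecTwist.val s ⊤)) = 1 := by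
  have hσ := isRegularMero_merSec hL s hs
  refine ⟨divisorOf hL (merSec s) hσ, ?_, ?_⟩
  · intro x
    obtain ⟨U, hxU, e, he⟩ := exists_triv_affine hL x
    obtain ⟨c, hc⟩ := exists_coord s he
    have hc0 : c ≠ 0 := coord_ne_zero hL s hs ⟨x, hxU⟩ he c hc
    have hcreg := mem_regSub_of_ne_zero c hc0
    exact ⟨U, hxU, c, hcreg, ideal_zeroScheme_eq_span L s hL U he c hc,
      fun y => divisorOf_merSec_apply hL s hσ he c hc hcreg y⟩
  · haveI := isIso_phi hL (merSec s) hσ
    refine ⟨asIso (phi hL (merSec s) hσ), ?_⟩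
    apply Subtype.ext
    funext y
    change tau hL (merSec s) hσ y.1 (L.presheaf.germ ⊤ y.1 y.2 (SecTwist.val s ⊤)) = 1
    apply tau_eq_of
    rw [one_smul, merSec_apply, val_eq, rs_self]

end Groth.Agent.S19456
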