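import Groth.Statements.S8864
import Groth.Agent.S12513
import Groth.Agent.Lib.StrictTransform82
import Mathlib.RingTheory.Ideal.AssociatedPrime.Finiteness

set_option autoImplicit false
universe u
open CategoryTheory CategoryTheory.Limits AlgebraicGeometry TopologicalSpace
open SDiv

namespace Groth.Agent.S8864

open Mero Groth.Agent.Lib.StrictTransform82

/-- In a Noetherian ring, an ideal contained in no associated prime of the ring contains a
nonzerodivisor. -/
theorem exists_mem_nonZeroDivisors {A : Type u} [CommRing A] [IsNoetherianRing A] (D : Ideal A)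
    (H : ∀ p ∈ associatedPrimes A A, ∃ f ∈ D, f ∉ p) : ∃ f ∈ D, f ∈ nonZeroDivisors A := by
  classical
  by_contra hcon
  push Not at hcon
  have hsub : (D : Set A) ⊆
      ⋃ p ∈ (((associatedPrimes.finite A A).toFinset : Finset (Ideal A)) : Set (Ideal A)),
        ((id p : Ideal A) : Set A) := by
    intro f hf
    have h1 : f ∈ (nonZeroDivisors A : Set A)ᶜ := hcon f hf
    rw [← biUnion_associatedPrimes_eq_compl_nonZeroDivisors] at h1
    simpa using h1
  obtain ⟨p, hp, hDp⟩ := (Ideal.subset_union_prime (R := A) (f := id) (⊥ : Ideal A) ⊥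
    (fun i hi _ _ => by
      have : i ∈ associatedPrimes A A := by simpa using hi
      exact this.isPrime)).mp hsub
  obtain ⟨f, hf, hfp⟩ := H p (by simpa using hp)
  exact hfp (hDp hf)

/-- local vanishing: near every point of `U`, a power of `h` kills `f`. -/
theorem local_vanish (X : Scheme.{u}) (U : X.Opens) (h : Γ(X, U))
    (f : Γ(Mero.kmod X, U))
    (hf : ∀ (y : X) (hyU : y ∈ U), y ∈ X.basicOpen h → f.1 ⟨y, hyU⟩ = 0) (x : X) (hxU : x ∈ U) :
    ∃ (W : X.Opens) (n : ℕ), x ∈ W ∧ ∀ (y : X) (hyU : y ∈ U), y ∈ W → ∀ m : ℕ, n ≤ m →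
      (Mero.toK X U (h ^ m) * f).1 ⟨y, hyU⟩ = 0 := by
  obtain ⟨V, hxV, i, a, b, hab⟩ := f.2 ⟨x, hxU⟩
  have hVU : V ≤ U := i.le
  obtain ⟨_, ⟨W, hW, rfl⟩, hxW, hWV⟩ :=
    X.isBasis_affineOpens.exists_subset_of_mem_open hxV V.2
  replace hWV : W ≤ V := hWV
  replace hW : IsAffineOpen W := hW
  -- germs of `a` vanish on `V ∩ X_h`
  have hgerm : ∀ (y : X) (hyV : y ∈ V), y ∈ X.basicOpen h → X.presheaf.germ V y hyV a = 0 := by
    intro y hyV hyh
    have h1 := hab ⟨y, hyV⟩
    have h2 : f.1 (i ⟨y, hyV⟩) = 0 := hf y (hVU hyV) hyh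
    dsimp only at h1
    rw [h2] at h1
    have h3 : (LocalizedModule.mk (X.presheaf.germ V y hyV a) (regGerm ⟨y, hyV⟩ b) : KStalk X y) =
        LocalizedModule.mk 0 1 := by
      rw [← h1, LocalizedModule.zero_mk]
    rw [LocalizedModule.mk_eq] at h3
    obtain ⟨u, hu⟩ := h3
    simp only [smul_zero, one_smul] at hu
    have hu' : (u : X.presheaf.stalk y) * X.presheaf.germ V y hyV a = 0 := hu
    have hnzd := regStalk_le_nonZeroDivisors y u.2
    rw [mul_comm] at hu'
    exact (mem_nonZeroDivisors_iff_right.mp hnzd) _ hu'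
  set a' : Γ(X, W) := X.presheaf.map (homOfLE hWV).op a with ha'
  set h' : Γ(X, W) := X.presheaf.map (homOfLE (hWV.trans hVU)).op h with hh'
  have hres : a' |_ (X.basicOpen h') = 0 := by
    apply TopCat.Presheaf.section_ext X.sheaf (X.basicOpen h') _ 0
    intro y hy
    rw [map_zero]
    have hy' : y ∈ W ⊓ X.basicOpen h := by
      rw [← Scheme.basicOpen_res]
      exact hy
    have := hgerm y (hWV hy'.1) hy'.2
    rw [ha']
    erw [TopCat.Presheaf.germ_res_apply, TopCat.Presheaf.germ_res_apply]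
    exact this
  obtain ⟨n, hn⟩ := exists_pow_mul_eq_zero_of_res_basicOpen_eq_zero_of_isAffineOpen X hW a' h' hres
  refine ⟨W, n, hxW, fun y hyU hyW m hm => ?_⟩
  have hyV : y ∈ V := hWV hyW
  have h1 := hab ⟨y, hyV⟩
  dsimp only at h1
  have h2 : f.1 ⟨y, hyU⟩ = LocalizedModule.mk (X.presheaf.germ V y hyV a) (regGerm ⟨y, hyV⟩ b) := h1
  have h4 : (Mero.toK X U (h ^ m) * f).1 ⟨y, hyU⟩ =
      (LocalizedModule.mk (X.presheaf.germ U y hyU (h ^ m)) 1 : KStalk X y) *
        LocalizedModule.mk (X.presheaf.germ V y hyV a) (regGerm ⟨y, hyV⟩ b) := by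
    rw [kmod_mul_apply, toK_apply, h2]
  rw [h4]
  refine LocalizedModule.mk_mul_mk.trans ?_
  have h3 : X.presheaf.germ U y hyU (h ^ m) * X.presheaf.germ V y hyV a = 0 := by
    have e1 : X.presheaf.germ U y hyU (h ^ m) = X.presheaf.germ W y hyW (h' ^ m) := by
      rw [hh', ← map_pow, TopCat.Presheaf.germ_res_apply]
    have e2 : X.presheaf.germ V y hyV a = X.presheaf.germ W y hyW a' := by
      rw [ha', TopCat.Presheaf.germ_res_apply]
    rw [e1, e2, ← map_mul]
    have : h' ^ m * a' = 0 := by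
      obtain ⟨k, rfl⟩ := Nat.exists_eq_add_of_le hm
      rw [pow_add, mul_comm (h' ^ n), mul_assoc, hn, mul_zero]
    rw [this, map_zero]
  rw [h3, LocalizedModule.zero_mk]

/-- A meromorphic function on a quasi-compact open `U` vanishing on `D(h)` is killed by a power of
`h`. -/
theorem exists_pow_mul_eq_zero (X : Scheme.{u}) (U : X.Opens) (hU : IsCompact (U : Set X))
    (h : Γ(X, U)) (f : Γ(Mero.kmod X, U))
    (hf : ∀ (y : X) (hyU : y ∈ U), y ∈ X.basicOpen h → f.1 ⟨y, hyU⟩ = 0) :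
    ∃ n : ℕ, Mero.toK X U (h ^ n) * f = 0 := by
  choose W n hxW hWn using fun x : U => local_vanish X U h f hf x.1 x.2
  obtain ⟨t, ht⟩ := hU.elim_nhds_subcover' (fun x hx => (W ⟨x, hx⟩ : Set X))
    (fun x hx => (W ⟨x, hx⟩).2.mem_nhds (hxW ⟨x, hx⟩))
  refine ⟨t.sup n, ?_⟩
  apply Subtype.ext
  funext y
  have hy : y.1 ∈ ⋃ x ∈ t, (W ⟨x.1, x.2⟩ : Set X) := ht y.2
  simp only [Set.mem_iUnion] at hy
  obtain ⟨x, hxt, hy⟩ := hy
  exact hWn x y.1 y.2 hy _ (Finset.le_sup hxt)

theorem toK_injective (X : Scheme.{u}) (U : X.Opens) : Function.Injective (Mero.toK X U) := by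
  intro a b hab
  apply TopCat.Presheaf.section_ext X.sheaf U
  intro y hy
  have h1 := congrArg (fun g => g.1 ⟨y, hy⟩) hab
  simp only [toK_apply] at h1
  rw [LocalizedModule.mk_eq] at h1
  obtain ⟨u, hu⟩ := h1
  simp only [one_smul] at hu
  have hnzd := regStalk_le_nonZeroDivisors y u.2
  have hu' : (u : X.presheaf.stalk y) * X.presheaf.germ U y hy a =
      (u : X.presheaf.stalk y) * X.presheaf.germ U y hy b := hu
  exact (mul_cancel_left_mem_nonZeroDivisors hnzd).mp hu'

/-- The inverse of a regular section in `K_X(U)`. -/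
noncomputable def invK (X : Scheme.{u}) (U : X.Opens) (s : regSub X U) : Γ(Mero.kmod X, U) :=
  ⟨fun x => LocalizedModule.mk 1 (regGerm x s),
    fun x => ⟨U, x.2, 𝟙 _, 1, s, fun y => mk_congr (map_one _).symm rfl⟩⟩

theorem toK_mul_invK (X : Scheme.{u}) (U : X.Opens) (s : regSub X U) :
    Mero.toK X U s.1 * invK X U s = 1 := by
  apply Subtype.ext
  funext x
  change (LocalizedModule.mk (X.presheaf.germ U x.1 x.2 s.1) 1 : KStalk X x.1) *
    LocalizedModule.mk 1 (regGerm x s) = 1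
  refine LocalizedModule.mk_mul_mk.trans ?_
  exact (mk_congr (mul_one _) (one_mul _)).trans (mk_self_eq_one (regGerm x s))

theorem kmod_sub_apply {X : Scheme.{u}} {U : X.Opens} (f g : Γ(Mero.kmod X, U)) (x : U) :
    (f - g).1 x = f.1 x - g.1 x := rfl

set_option maxHeartbeats 1000000 in


/-- Let X be a locally Noetherian scheme and U an affine open of X. Then K_X(U), viewed as an
O_X(U)-algebra through the canonical map r ↦ r/1, is the total ring of fractions of O_X(U): it is a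
localization of O_X(U) at the monoid of nonzerodivisors. -/
theorem result (X : Scheme.{u}) [IsLocallyNoetherian X] (U : X.affineOpens) :
    @IsLocalization Γ(X, U.1) _ (nonZeroDivisors Γ(X, U.1)) Γ(Mero.kmod X, U.1) _ (Mero.toK X U.1).toAlgebra := by
  classical
  letI : Algebra Γ(X, U.1) Γ(Mero.kmod X, U.1) := (Mero.toK X U.1).toAlgebra
  haveI : IsNoetherianRing Γ(X, U.1) := IsLocallyNoetherian.component_noetherian U
  have hU : IsAffineOpen U.1 := U.2
  have hreg : Mero.regSub X U.1 = nonZeroDivisors Γ(X, U.1) := Groth.Agent.S12513.result X U.1 hU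
  have halg : ∀ r : Γ(X, U.1), algebraMap Γ(X, U.1) Γ(Mero.kmod X, U.1) r = Mero.toK X U.1 r :=
    fun r => rfl
  rw [isLocalization_iff]
  refine ⟨?_, ?_, ?_⟩
  · -- units
    rintro ⟨s, hs⟩
    rw [halg]
    have hs' : s ∈ Mero.regSub X U.1 := by rw [hreg]; exact hs
    exact IsUnit.of_mul_eq_one _ (toK_mul_invK X U.1 ⟨s, hs'⟩)
  · -- surjectivity
    intro ξ
    -- the ideal of denominators
    let D : Ideal Γ(X, U.1) :=
      { carrier := {f | ∃ g, Mero.toK X U.1 f * ξ = Mero.toK X U.1 g}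
        zero_mem' := ⟨0, by rw [map_zero, zero_mul]⟩
        add_mem' := by
          rintro f₁ f₂ ⟨g₁, h₁⟩ ⟨g₂, h₂⟩
          exact ⟨g₁ + g₂, by rw [map_add, add_mul, h₁, h₂, map_add]⟩
        smul_mem' := by
          rintro c f ⟨g, hg⟩
          exact ⟨c * g, by rw [smul_eq_mul, map_mul, mul_assoc, hg, map_mul]⟩ }
    have hD : ∀ f, f ∈ D ↔ ∃ g, Mero.toK X U.1 f * ξ = Mero.toK X U.1 g := fun f => Iff.rfl
    suffices H : ∀ p ∈ associatedPrimes Γ(X, U.1) Γ(X, U.1), ∃ f ∈ D, f ∉ p by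
      obtain ⟨f, hfD, hfn⟩ := exists_mem_nonZeroDivisors D H
      obtain ⟨g, hg⟩ := (hD f).mp hfD
      refine ⟨(g, ⟨f, hfn⟩), ?_⟩
      rw [halg, halg, mul_comm]
      exact hg
    intro p hp
    obtain ⟨hpp, c, hc⟩ := isAssociatedPrime_iff.mp hp
    -- the point of `p`
    obtain ⟨x, hx⟩ : ∃ x : U.1, hU.primeIdealOf x = ⟨p, hpp⟩ := by
      let p' : ↥(Spec Γ(X, U.1)) := (⟨p, hpp⟩ : PrimeSpectrum Γ(X, U.1))
      refine ⟨hU.isoSpec.inv p', ?_⟩
      change hU.isoSpec.hom (hU.isoSpec.inv p') = p'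
      rw [← Scheme.Hom.comp_apply, Iso.inv_hom_id]
      rfl
    have hxp : ∀ r : Γ(X, U.1), (x : X) ∈ X.basicOpen r ↔ r ∉ p := by
      intro r
      rw [mem_basicOpen_iff_notMem_primeIdealOf hU x r, hx]
    obtain ⟨V, hxV, i, a, b, hab⟩ := ξ.2 x
    have hVU : V ≤ U.1 := i.le
    obtain ⟨h, hhV, hxh⟩ := hU.exists_basicOpen_le (V := V) ⟨x.1, hxV⟩ x.2
    have hhp : h ∉ p := (hxp h).mp hxh
    have hDh : IsAffineOpen (X.basicOpen h) := hU.basicOpen h
    haveI hloc : IsLocalization.Away h Γ(X, X.basicOpen h) := hU.isLocalization_basicOpen h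
    set a' : Γ(X, X.basicOpen h) := X.presheaf.map (homOfLE hhV).op a with ha'
    set b' : Γ(X, X.basicOpen h) := X.presheaf.map (homOfLE hhV).op b.1 with hb'
    have hb'reg : b' ∈ nonZeroDivisors Γ(X, X.basicOpen h) := by
      rw [← Groth.Agent.S12513.result X (X.basicOpen h) hDh]
      exact regSub_res (homOfLE hhV) b.2
    obtain ⟨⟨a₀, ⟨_, m, rfl⟩⟩, ha₀⟩ := IsLocalization.surj (Submonoid.powers h) a'
    obtain ⟨⟨b₀, ⟨_, n, rfl⟩⟩, hb₀⟩ := IsLocalization.surj (Submonoid.powers h) b'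
    simp only at ha₀ hb₀
    -- `b₀ ∉ p`
    have hb₀p : b₀ ∉ p := by
      intro hb₀p
      rw [hc, Submodule.mem_colon_singleton, Submodule.mem_bot, smul_eq_mul] at hb₀p
      have h1 : algebraMap Γ(X, U.1) Γ(X, X.basicOpen h) b₀ *
          algebraMap Γ(X, U.1) Γ(X, X.basicOpen h) c = 0 := by
        rw [← map_mul, hb₀p, map_zero]
      have hunit : IsUnit (algebraMap Γ(X, U.1) Γ(X, X.basicOpen h) (h ^ n)) :=
        IsLocalization.map_units Γ(X, X.basicOpen h) (⟨h ^ n, n, rfl⟩ : Submonoid.powers h)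
      have hnzd : algebraMap Γ(X, U.1) Γ(X, X.basicOpen h) b₀ ∈
          nonZeroDivisors Γ(X, X.basicOpen h) := by
        rw [← hb₀]
        exact mul_mem hb'reg hunit.mem_nonZeroDivisors
      have h2 : algebraMap Γ(X, U.1) Γ(X, X.basicOpen h) c = 0 :=
        (mul_left_mem_nonZeroDivisors_eq_zero_iff hnzd).mp h1
      obtain ⟨⟨_, k, rfl⟩, hk⟩ := (IsLocalization.map_eq_zero_iff (Submonoid.powers h)
        Γ(X, X.basicOpen h) c).mp h2
      simp only at hk
      have h3 : h ^ k ∈ p := by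
        rw [hc, Submodule.mem_colon_singleton, Submodule.mem_bot, smul_eq_mul]
        exact hk
      exact hhp (hpp.mem_of_pow_mem k h3)
    -- the key identity on `D(h)`
    have hE : algebraMap Γ(X, U.1) Γ(X, X.basicOpen h) (b₀ * h ^ m) * a' =
        b' * algebraMap Γ(X, U.1) Γ(X, X.basicOpen h) (a₀ * h ^ n) := by
      rw [map_mul, map_mul, ← hb₀, ← ha₀]
      ring
    -- vanishing on `D(h)`
    have hvan : ∀ (y : X) (hyU : y ∈ U.1), y ∈ X.basicOpen h →
        (Mero.toK X U.1 (b₀ * h ^ m) * ξ - Mero.toK X U.1 (a₀ * h ^ n)).1 ⟨y, hyU⟩ = 0 := by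
      intro y hyU hyh
      have hyV : y ∈ V := hhV hyh
      have h1 := hab ⟨y, hyV⟩
      dsimp only at h1
      have h2 : ξ.1 ⟨y, hyU⟩ =
          LocalizedModule.mk (X.presheaf.germ V y hyV a) (regGerm ⟨y, hyV⟩ b) := h1
      rw [kmod_sub_apply, sub_eq_zero, kmod_mul_apply, toK_apply, toK_apply, h2]
      refine LocalizedModule.mk_mul_mk.trans ?_
      rw [LocalizedModule.mk_eq]
      refine ⟨1, ?_⟩
      have e1 : ∀ r : Γ(X, U.1), X.presheaf.germ U.1 y hyU r =
          X.presheaf.germ (X.basicOpen h) y hyh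
            (algebraMap Γ(X, U.1) Γ(X, X.basicOpen h) r) := by
        intro r
        exact (TopCat.Presheaf.germ_res_apply X.presheaf (homOfLE (X.basicOpen_le h)) y hyh r).symm
      have e2 : X.presheaf.germ V y hyV a = X.presheaf.germ (X.basicOpen h) y hyh a' := by
        rw [ha', TopCat.Presheaf.germ_res_apply]
      have e3 : X.presheaf.germ V y hyV b.1 = X.presheaf.germ (X.basicOpen h) y hyh b' := by
        rw [hb', TopCat.Presheaf.germ_res_apply]
      have e4 : X.presheaf.germ (X.basicOpen h) y hyh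
            (algebraMap Γ(X, U.1) Γ(X, X.basicOpen h) (b₀ * h ^ m)) *
            X.presheaf.germ (X.basicOpen h) y hyh a' =
          X.presheaf.germ (X.basicOpen h) y hyh b' *
            X.presheaf.germ (X.basicOpen h) y hyh
              (algebraMap Γ(X, U.1) Γ(X, X.basicOpen h) (a₀ * h ^ n)) := by
        rw [← map_mul, ← map_mul, hE]
      rw [← e1, ← e1, ← e2, ← e3] at e4
      simp only [one_smul, Submonoid.smul_def, smul_eq_mul, Submonoid.coe_mul, Submonoid.coe_one,
        one_mul]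
      exact e4
    obtain ⟨N, hN⟩ := exists_pow_mul_eq_zero X U.1 hU.isCompact h _ hvan
    rw [mul_sub, sub_eq_zero, ← mul_assoc, ← map_mul, ← map_mul] at hN
    refine ⟨h ^ N * (b₀ * h ^ m), (hD _).mpr ⟨_, hN⟩, ?_⟩
    intro hmem
    rcases hpp.mem_or_mem hmem with h1 | h1
    · exact hhp (hpp.mem_of_pow_mem N h1)
    · rcases hpp.mem_or_mem h1 with h2 | h2
      · exact hb₀p h2
      · exact hhp (hpp.mem_of_pow_mem m h2)
  · -- injectivity
    intro a b hab
    rw [halg, halg] at hab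
    exact ⟨1, by rw [toK_injective X U.1 hab]⟩

end Groth.Agent.S8864
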