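import Groth.Statements.S8904
import Groth.Agent.S8864
import Groth.Agent.S8861
import Groth.Agent.S12513
import Groth.Agent.Lib.StrictTransform82
import Groth.Agent.Lib.AssPoints
import Groth.Agent.Lib.StructureModule
import Groth.Agent.Lib.FreeModStalk
import Groth.Agent.Lib.GenericDense68
import Mathlib.Topology.Sober

set_option autoImplicit false
universe u
open CategoryTheory CategoryTheory.Limits AlgebraicGeometry TopologicalSpace
open SDiv

namespace Groth.Agent.S8904

open Mero Groth.Agent.Lib.StrictTransform82 Groth.Agent.Lib.AssPoints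
  Groth.Agent.Lib.StructureModule

section Algebra

variable {A : Type*} [CommRing A]

/-- generization preserves nonzerodivisors -/
theorem map_mem_nonZeroDivisors_of_le (p q : Ideal A) [p.IsPrime] [q.IsPrime] (hqp : q ≤ p)
    (Ap : Type*) [CommRing Ap] [Algebra A Ap] [IsLocalization.AtPrime Ap p]
    (Aq : Type*) [CommRing Aq] [Algebra A Aq] [IsLocalization.AtPrime Aq q] (g : A)
    (hg : algebraMap A Ap g ∈ nonZeroDivisors Ap) : algebraMap A Aq g ∈ nonZeroDivisors Aq := by
  rw [mem_nonZeroDivisors_iff_right]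
  intro β hβ
  obtain ⟨a, t, rfl⟩ := IsLocalization.exists_mk'_eq q.primeCompl β
  have h1 : algebraMap A Aq (a * g) = 0 := by
    have : algebraMap A Aq (a * g) =
        algebraMap A Aq t.1 * (IsLocalization.mk' Aq a t * algebraMap A Aq g) := by
      rw [← mul_assoc, IsLocalization.mk'_spec', map_mul]
    rw [this, hβ, mul_zero]
  obtain ⟨r, hr⟩ := (IsLocalization.map_eq_zero_iff q.primeCompl Aq (a * g)).mp h1
  have h2 : algebraMap A Ap (r.1 * a) * algebraMap A Ap g = 0 := by
    rw [← map_mul, mul_assoc, hr, map_zero]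
  have h3 : algebraMap A Ap (r.1 * a) = 0 := (mem_nonZeroDivisors_iff_right.mp hg) _ h2
  obtain ⟨s, hs⟩ := (IsLocalization.map_eq_zero_iff p.primeCompl Ap (r.1 * a)).mp h3
  rw [IsLocalization.mk'_eq_zero_iff]
  have hsq : s.1 ∈ q.primeCompl := fun hsq => s.2 (hqp hsq)
  refine ⟨⟨s.1 * r.1, q.primeCompl.mul_mem hsq r.2⟩, ?_⟩
  rw [← hs]
  simp only
  ring

theorem exists_mul_pow_mem_of_mem_minimalPrimes {I p : Ideal A}
    (hp : p ∈ I.minimalPrimes) {x : A} (hx : x ∈ p) : ∃ s ∉ p, ∃ n : ℕ, s * x ^ n ∈ I := by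
  haveI : p.IsPrime := hp.1.1
  have h1 := IsLocalization.AtPrime.radical_map_of_mem_minimalPrimes
    (A := Localization.AtPrime p) p I hp
  have h2 : algebraMap A (Localization.AtPrime p) x ∈
      (I.map (algebraMap A (Localization.AtPrime p))).radical := by
    rw [h1]
    exact Ideal.mem_map_of_mem _ hx
  obtain ⟨n, hn⟩ := h2
  rw [IsLocalization.mem_map_algebraMap_iff (M := p.primeCompl)] at hn
  obtain ⟨⟨a, b⟩, hn⟩ := hn
  rw [← map_pow, ← map_mul, IsLocalization.eq_iff_exists p.primeCompl] at hn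
  obtain ⟨t, ht⟩ := hn
  simp only at ht
  refine ⟨t.1 * b.1, p.primeCompl.mul_mem t.2 b.2, n, ?_⟩
  have : t.1 * b.1 * x ^ n = t.1 * a.1 := by
    rw [← ht]; ring
  rw [this]
  exact I.mul_mem_left _ a.2

theorem notMem_of_minimal_ann (p I : Ideal A) (c : A) (hI : ∀ r : A, r ∈ I ↔ r * c = 0)
    (hp : p ∈ I.minimalPrimes) (h : A) (hh : h ∉ p)
    (Ah : Type*) [CommRing Ah] [Algebra A Ah] [IsLocalization.Away h Ah] (b₀ : A)
    (hb₀ : algebraMap A Ah b₀ ∈ nonZeroDivisors Ah) : b₀ ∉ p := by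
  haveI : p.IsPrime := hp.1.1
  intro hb
  obtain ⟨s, hs, n, hsn⟩ := exists_mul_pow_mem_of_mem_minimalPrimes hp hb
  rw [hI] at hsn
  have h1 : algebraMap A Ah (s * c) * algebraMap A Ah b₀ ^ n = 0 := by
    rw [← map_pow, ← map_mul]
    have : s * c * b₀ ^ n = s * b₀ ^ n * c := by ring
    rw [this, hsn, map_zero]
  have h2 : algebraMap A Ah (s * c) = 0 :=
    (mem_nonZeroDivisors_iff_right.mp (pow_mem hb₀ n)) _ h1
  obtain ⟨⟨_, k, rfl⟩, hk⟩ := (IsLocalization.map_eq_zero_iff (Submonoid.powers h) Ah _).mp h2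
  simp only at hk
  have h3 : h ^ k * s ∈ I := by
    rw [hI, mul_assoc]
    exact hk
  have h4 : h ^ k * s ∈ p := hp.1.2 h3
  rcases Ideal.IsPrime.mem_or_mem inferInstance h4 with h5 | h5
  · exact hh (Ideal.IsPrime.mem_of_pow_mem inferInstance k h5)
  · exact hs h5

theorem exists_mem_forall_notMem (D : Ideal A) (S : Set (Ideal A)) (hS : S.Finite)
    (hprime : ∀ p ∈ S, p.IsPrime) (H : ∀ p ∈ S, ∃ f ∈ D, f ∉ p) :
    ∃ f ∈ D, ∀ p ∈ S, f ∉ p := by
  classical
  by_contra hcon
  push Not at hcon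
  have hsub : (D : Set A) ⊆
      ⋃ p ∈ ((hS.toFinset : Finset (Ideal A)) : Set (Ideal A)), ((id p : Ideal A) : Set A) := by
    intro f hf
    obtain ⟨p, hp, hfp⟩ := hcon f hf
    simp only [Set.mem_iUnion]
    exact ⟨p, by simpa using hp, hfp⟩
  obtain ⟨p, hp, hDp⟩ := (Ideal.subset_union_prime (R := A) (f := id) (⊥ : Ideal A) ⊥
    (fun i hi _ _ => hprime i (by simpa using hi))).mp hsub
  obtain ⟨f, hf, hfp⟩ := H p (by simpa using hp)
  exact hfp (hDp hf)

end Algebra


section Geometry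

open Groth.Agent.Lib.FreeModStalk

/-- a function with nonzero germ at `x` has nonzero germ at a weakly associated generization. -/
theorem exists_weakAss_germ_ne_zero (X : Scheme.{u}) {V : X.Opens} (τ : Γ(X, V)) (x : X)
    (hx : x ∈ V) (hτ : X.presheaf.germ V x hx τ ≠ 0) :
    ∃ (y : X) (hy : y ∈ V), y ⤳ x ∧ Curv2.IsWeakAssPoint (Coh.structureModule X) y ∧
      X.presheaf.germ V y hy τ ≠ 0 := by
  haveI := isQuasicoherent_structureModule X
  have h1 : (Coh.structureModule X).presheaf.germ V x hx (toSec V τ) ≠ 0 := by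
    intro h0
    have h2 := germ_unit_eq_smul_one x V hx τ
    change (Coh.structureModule X).presheaf.germ V x hx (toSec V τ) = _ at h2
    rw [h0] at h2
    exact hτ ((smul_one_eq_zero_iff x _).mp h2.symm)
  obtain ⟨y, hy, hyx, hyass, hne⟩ :=
    exists_isWeakAssPoint_of_germ_ne_zero (Coh.structureModule X) (toSec V τ) x hx h1
  refine ⟨y, hy, hyx, hyass, fun h0 => hne ?_⟩
  have h2 := germ_unit_eq_smul_one y V hy τ
  change (Coh.structureModule X).presheaf.germ V y hy (toSec V τ) = _ at h2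
  rw [h2, h0, zero_smul]

/-- a function which is a nonzerodivisor at all weakly associated points is regular. -/
theorem mem_regSub_of_weakAss (X : Scheme.{u}) {W : X.Opens} (g : Γ(X, W))
    (hg : ∀ (z : X) (hz : z ∈ W), Curv2.IsWeakAssPoint (Coh.structureModule X) z →
      X.presheaf.germ W z hz g ∈ nonZeroDivisors (X.presheaf.stalk z)) :
    g ∈ Mero.regSub X W := by
  intro x
  change X.presheaf.germ W x.1 x.2 g ∈ nonZeroDivisors (X.presheaf.stalk x.1)
  rw [mem_nonZeroDivisors_iff_right]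
  intro t ht
  obtain ⟨V₀, hxV₀, τ₀, rfl⟩ := X.presheaf.exists_germ_eq (x := x.1) t
  -- shrink to `V ≤ W`
  set V : X.Opens := V₀ ⊓ W with hV
  have hxV : x.1 ∈ V := ⟨hxV₀, x.2⟩
  set τ : Γ(X, V) := X.presheaf.map (homOfLE (inf_le_left : V ≤ V₀)).op τ₀ with hτ
  set g' : Γ(X, V) := X.presheaf.map (homOfLE (inf_le_right : V ≤ W)).op g with hg'
  have e1 : X.presheaf.germ V₀ x.1 hxV₀ τ₀ = X.presheaf.germ V x.1 hxV τ := by
    rw [hτ, TopCat.Presheaf.germ_res_apply]
  have e2 : X.presheaf.germ W x.1 x.2 g = X.presheaf.germ V x.1 hxV g' := by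
    rw [hg', TopCat.Presheaf.germ_res_apply]
  rw [e1, e2, ← map_mul] at ht
  rw [e1]
  have ht' : X.presheaf.germ V x.1 hxV (τ * g') = X.presheaf.germ V x.1 hxV 0 := by
    rw [ht, map_zero]
  obtain ⟨V', hxV', i₁, i₂, hV'⟩ := TopCat.Presheaf.germ_eq X.presheaf x.1 hxV hxV _ _ ht'
  rw [map_zero] at hV'
  by_contra hne
  have hne' : X.presheaf.germ V' x.1 hxV' (X.presheaf.map i₁.op τ) ≠ 0 := by
    rw [TopCat.Presheaf.germ_res_apply]
    exact hne
  obtain ⟨y, hyV', -, hyass, hy0⟩ := exists_weakAss_germ_ne_zero X _ x.1 hxV' hne'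
  apply hy0
  have hyV : y ∈ V := i₁.le hyV'
  have hyW : y ∈ W := hyV.2
  have h3 := hg y hyW hyass
  apply (mem_nonZeroDivisors_iff_right.mp h3)
  have e3 : X.presheaf.germ W y hyW g = X.presheaf.germ V' y hyV' (X.presheaf.map i₁.op g') := by
    rw [TopCat.Presheaf.germ_res_apply, hg', TopCat.Presheaf.germ_res_apply]
  rw [e3, ← map_mul, ← map_mul, hV', map_zero]

/-- specialization gives inclusion of primes -/
theorem primeIdealOf_le_of_specializes (X : Scheme.{u}) {W : X.Opens} (hW : IsAffineOpen W)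
    (x z : W) (h : z.1 ⤳ x.1) : (hW.primeIdealOf z).asIdeal ≤ (hW.primeIdealOf x).asIdeal := by
  intro a ha
  by_contra hax
  have h1 : (x : X) ∈ X.basicOpen a := (mem_basicOpen_iff_notMem_primeIdealOf hW x a).mpr hax
  have h2 : (z : X) ∈ X.basicOpen a := h.mem_open (X.basicOpen a).2 h1
  exact (mem_basicOpen_iff_notMem_primeIdealOf hW z a).mp h2 ha

/-- nonzerodivisor germs generize -/
theorem germ_mem_nonZeroDivisors_of_specializes (X : Scheme.{u}) {W : X.Opens}
    (hW : IsAffineOpen W) (g : Γ(X, W)) (x z : X) (hx : x ∈ W) (hz : z ∈ W) (h : z ⤳ x)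
    (hg : X.presheaf.germ W x hx g ∈ nonZeroDivisors (X.presheaf.stalk x)) :
    X.presheaf.germ W z hz g ∈ nonZeroDivisors (X.presheaf.stalk z) := by
  obtain ⟨x', rfl⟩ : ∃ x' : W, (x' : X) = x := ⟨⟨x, hx⟩, rfl⟩
  obtain ⟨z', rfl⟩ : ∃ z' : W, (z' : X) = z := ⟨⟨z, hz⟩, rfl⟩
  haveI := hW.isLocalization_stalk x'
  haveI := hW.isLocalization_stalk z'
  exact map_mem_nonZeroDivisors_of_le (hW.primeIdealOf x').asIdeal (hW.primeIdealOf z').asIdeal
    (primeIdealOf_le_of_specializes X hW x' z' h) (X.presheaf.stalk x'.1) (X.presheaf.stalk z'.1) g hg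

/-- finitely many points without proper generizations in an open with finitely many irreducible
components -/
theorem finite_generic_points (X : Scheme.{u}) (U : X.Opens)
    (hfin : (irreducibleComponents ↥(U : Scheme.{u})).Finite) :
    {z : X | z ∈ U ∧ ∀ y : X, y ⤳ z → y = z}.Finite := by
  have h1 : {z' : ↥(U : Scheme.{u}) | ∀ y' : ↥(U : Scheme.{u}), y' ⤳ z' → z' ⤳ y'}.Finite := by
    apply Set.Finite.of_finite_image (f := fun z' => closure {z'})
    · apply hfin.subset
      rintro _ ⟨z', hz', rfl⟩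
      exact Groth.Agent.Lib.GenericDense68.closure_singleton_mem_irreducibleComponents z' hz'
    · intro a _ b _ hab
      exact (inseparable_iff_closure_eq.mpr hab).eq
  have h2 := h1.image (fun z' : ↥(U : Scheme.{u}) => U.ι z')
  apply h2.subset
  rintro z ⟨hzU, hz⟩
  refine ⟨⟨z, hzU⟩, ?_, rfl⟩
  intro y' hy'
  have h3 : U.ι y' ⤳ U.ι ⟨z, hzU⟩ := hy'.map U.ι.continuous
  have h4 : U.ι y' = z := hz _ h3
  have h5 : y' = ⟨z, hzU⟩ := Subtype.ext h4
  rw [h5]


theorem regStalk_eq (X : Scheme.{u})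
    (ha : ∀ x : ↥X, Curv2.IsWeakAssPoint (Coh.structureModule X) x → ∀ y : ↥X, y ⤳ x → y = x)
    (hb : ∀ U : X.Opens, IsCompact (U : Set ↥X) → (irreducibleComponents ↥(U : Scheme.{u})).Finite)
    (x : X) : Mero.regStalk X x = nonZeroDivisors ↑(X.presheaf.stalk x) := by
  apply le_antisymm (Mero.regStalk_le_nonZeroDivisors x)
  intro γ hγ
  obtain ⟨U, hxU, g₀, rfl⟩ := X.presheaf.exists_germ_eq (x := x) γ
  obtain ⟨_, ⟨W, hW, rfl⟩, hxW, hWU⟩ :=
    X.isBasis_affineOpens.exists_subset_of_mem_open hxU U.2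
  replace hWU : W ≤ U := hWU
  replace hW : IsAffineOpen W := hW
  set g : Γ(X, W) := X.presheaf.map (homOfLE hWU).op g₀ with hg
  have hgx : X.presheaf.germ W x hxW g = X.presheaf.germ U x hxU g₀ := by
    rw [hg, TopCat.Presheaf.germ_res_apply]
  rw [← hgx] at hγ ⊢
  have hfin := finite_generic_points X W (hb W hW.isCompact)
  -- bad generic points
  set T : Set X := {z | (z ∈ W ∧ ∀ y : X, y ⤳ z → y = z) ∧ ¬ z ⤳ x} with hT
  have hTfin : T.Finite := hfin.subset (fun z hz => hz.1)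
  set C : Set X := ⋃ z ∈ T, closure {z} with hC
  have hCclosed : IsClosed C := hTfin.isClosed_biUnion (fun z _ => isClosed_closure)
  have hxC : x ∉ C := by
    intro hx
    simp only [hC, Set.mem_iUnion] at hx
    obtain ⟨z, hzT, hxz⟩ := hx
    exact hzT.2 (specializes_iff_mem_closure.mpr hxz)
  let W' : X.Opens := W ⊓ ⟨Cᶜ, hCclosed.isOpen_compl⟩
  have hxW' : x ∈ W' := ⟨hxW, hxC⟩
  have hW'W : W' ≤ W := inf_le_left
  refine ⟨W', hxW', X.presheaf.map (homOfLE hW'W).op g, ?_, ?_⟩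
  · apply mem_regSub_of_weakAss
    intro z hzW' hzass
    have hzW : z ∈ W := hW'W hzW'
    rw [TopCat.Presheaf.germ_res_apply]
    have hzx : z ⤳ x := by
      by_contra hcon
      have hzT : z ∈ T := ⟨⟨hzW, ha z hzass⟩, hcon⟩
      have hzC : z ∉ C := hzW'.2
      apply hzC
      simp only [hC, Set.mem_iUnion]
      exact ⟨z, hzT, subset_closure rfl⟩
    exact germ_mem_nonZeroDivisors_of_specializes X hW g x z hxW hzW hzx hγ
  · rw [TopCat.Presheaf.germ_res_apply]


set_option maxHeartbeats 1000000 in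
theorem isLocalization_affine (X : Scheme.{u})
    (ha : ∀ x : ↥X, Curv2.IsWeakAssPoint (Coh.structureModule X) x → ∀ y : ↥X, y ⤳ x → y = x)
    (hb : ∀ U : X.Opens, IsCompact (U : Set ↥X) → (irreducibleComponents ↥(U : Scheme.{u})).Finite)
    (U : X.affineOpens) :
    @IsLocalization Γ(X, U.1) _ (nonZeroDivisors Γ(X, U.1)) Γ(Mero.kmod X, U.1) _
      (Mero.toK X U.1).toAlgebra := by
  classical
  letI : Algebra Γ(X, U.1) Γ(Mero.kmod X, U.1) := (Mero.toK X U.1).toAlgebra
  have hU : IsAffineOpen U.1 := U.2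
  have hreg : Mero.regSub X U.1 = nonZeroDivisors Γ(X, U.1) := Groth.Agent.S12513.result X U.1 hU
  have halg : ∀ r : Γ(X, U.1), algebraMap Γ(X, U.1) Γ(Mero.kmod X, U.1) r = Mero.toK X U.1 r :=
    fun r => rfl
  rw [isLocalization_iff]
  refine ⟨?_, ?_, ?_⟩
  · -- units
    rintro ⟨s, hs⟩
    rw [halg]
    have hs' : s ∈ Mero.regSub X U.1 := by rw [hreg]; exact hs
    exact IsUnit.of_mul_eq_one _ (Groth.Agent.S8864.toK_mul_invK X U.1 ⟨s, hs'⟩)
  · -- surjectivity
    intro ξ
    -- the ideal of denominators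
    let D : Ideal Γ(X, U.1) :=
      { carrier := {f | ∃ g, Mero.toK X U.1 f * ξ = Mero.toK X U.1 g}
        zero_mem' := ⟨0, by rw [map_zero, zero_mul]⟩
        add_mem' := by
          rintro f₁ f₂ ⟨g₁, h₁⟩ ⟨g₂, h₂⟩
          exact ⟨g₁ + g₂, by rw [map_add, add_mul, h₁, h₂, map_add]⟩
        smul_mem' := by
          rintro c f ⟨g, hg⟩
          exact ⟨c * g, by rw [smul_eq_mul, map_mul, mul_assoc, hg, map_mul]⟩ }
    have hD : ∀ f, f ∈ D ↔ ∃ g, Mero.toK X U.1 f * ξ = Mero.toK X U.1 g := fun f => Iff.rfl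
    -- the finite set of primes of weakly associated points
    set S : Set (Ideal Γ(X, U.1)) := (fun z : U.1 => (hU.primeIdealOf z).asIdeal) ''
      {z : U.1 | Curv2.IsWeakAssPoint (Coh.structureModule X) z.1} with hS
    have hSfin : S.Finite := by
      apply Set.Finite.image
      have h1 := finite_generic_points X U.1 (hb U.1 hU.isCompact)
      have h2 := h1.preimage (f := (Subtype.val : U.1 → X)) Subtype.val_injective.injOn
      apply h2.subset
      intro z hz
      exact ⟨z.2, ha z.1 hz⟩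
    have hSprime : ∀ p ∈ S, p.IsPrime := by
      rintro _ ⟨z, _, rfl⟩
      exact (hU.primeIdealOf z).isPrime
    suffices H : ∀ p ∈ S, ∃ f ∈ D, f ∉ p by
      obtain ⟨f, hfD, hfn⟩ := exists_mem_forall_notMem D S hSfin hSprime H
      have hfnzd : f ∈ nonZeroDivisors Γ(X, U.1) := by
        apply Groth.Agent.S8861.mem_nonZeroDivisors_of_isUnit_germ
        intro y hy hyass
        rw [isUnit_germ_iff hU ⟨y, hy⟩ f]
        exact hfn _ ⟨⟨y, hy⟩, hyass, rfl⟩
      obtain ⟨g, hg⟩ := (hD f).mp hfD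
      refine ⟨(g, ⟨f, hfnzd⟩), ?_⟩
      rw [halg, halg, mul_comm]
      exact hg
    rintro _ ⟨x, hxass, rfl⟩
    set p := (hU.primeIdealOf x).asIdeal with hp
    have hpp : p.IsPrime := (hU.primeIdealOf x).isPrime
    have hxp : ∀ r : Γ(X, U.1), (x : X) ∈ X.basicOpen r ↔ r ∉ p :=
      fun r => mem_basicOpen_iff_notMem_primeIdealOf hU x r
    haveI := isQuasicoherent_structureModule X
    obtain ⟨c, hc⟩ := exists_minimal_of_isWeakAssPoint (Coh.structureModule X) hU x
      (isLocAt_of_isQuasicoherent _ hU x) hxass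
    obtain ⟨V, hxV, i, a, b, hab⟩ := ξ.2 x
    have hVU : V ≤ U.1 := i.le
    obtain ⟨h, hhV, hxh⟩ := hU.exists_basicOpen_le (V := V) ⟨x.1, hxV⟩ x.2
    have hhp : h ∉ p := (hxp h).mp hxh
    have hDh : IsAffineOpen (X.basicOpen h) := hU.basicOpen h
    haveI hloc : IsLocalization.Away h Γ(X, X.basicOpen h) := hU.isLocalization_basicOpen h
    set a' : Γ(X, X.basicOpen h) := X.presheaf.map (homOfLE hhV).op a with ha'
    set b' : Γ(X, X.basicOpen h) := X.presheaf.map (homOfLE hhV).op b.1 with hb'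
    have hb'reg : b' ∈ nonZeroDivisors Γ(X, X.basicOpen h) := by
      rw [← Groth.Agent.S12513.result X (X.basicOpen h) hDh]
      exact regSub_res (homOfLE hhV) b.2
    obtain ⟨⟨a₀, ⟨_, m, rfl⟩⟩, ha₀⟩ := IsLocalization.surj (Submonoid.powers h) a'
    obtain ⟨⟨b₀, ⟨_, n, rfl⟩⟩, hb₀⟩ := IsLocalization.surj (Submonoid.powers h) b'
    simp only at ha₀ hb₀
    -- `b₀ ∉ p`
    have hb₀p : b₀ ∉ p := by
      have hunit : IsUnit (algebraMap Γ(X, U.1) Γ(X, X.basicOpen h) (h ^ n)) :=
        IsLocalization.map_units Γ(X, X.basicOpen h) (⟨h ^ n, n, rfl⟩ : Submonoid.powers h)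
      have hnzd : algebraMap Γ(X, U.1) Γ(X, X.basicOpen h) b₀ ∈
          nonZeroDivisors Γ(X, X.basicOpen h) := by
        rw [← hb₀]
        exact mul_mem hb'reg hunit.mem_nonZeroDivisors
      exact notMem_of_minimal_ann p (ann Γ(X, U.1) c) (show Γ(X, U.1) from c)
        (fun r => by rw [mem_ann]; rfl) hc h hhp Γ(X, X.basicOpen h) b₀ hnzd
    -- the key identity on `D(h)`
    have hE : algebraMap Γ(X, U.1) Γ(X, X.basicOpen h) (b₀ * h ^ m) * a' =
        b' * algebraMap Γ(X, U.1) Γ(X, X.basicOpen h) (a₀ * h ^ n) := by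
      rw [map_mul, map_mul, ← hb₀, ← ha₀]
      ring
    -- vanishing on `D(h)`
    have hvan : ∀ (y : X) (hyU : y ∈ U.1), y ∈ X.basicOpen h →
        (Mero.toK X U.1 (b₀ * h ^ m) * ξ - Mero.toK X U.1 (a₀ * h ^ n)).1 ⟨y, hyU⟩ = 0 := by
      intro y hyU hyh
      have hyV : y ∈ V := hhV hyh
      have h1 := hab ⟨y, hyV⟩
      dsimp only at h1
      have h2 : ξ.1 ⟨y, hyU⟩ =
          LocalizedModule.mk (X.presheaf.germ V y hyV a) (regGerm ⟨y, hyV⟩ b) := h1
      rw [Groth.Agent.S8864.kmod_sub_apply, sub_eq_zero, kmod_mul_apply, toK_apply, toK_apply, h2]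
      refine LocalizedModule.mk_mul_mk.trans ?_
      rw [LocalizedModule.mk_eq]
      refine ⟨1, ?_⟩
      have e1 : ∀ r : Γ(X, U.1), X.presheaf.germ U.1 y hyU r =
          X.presheaf.germ (X.basicOpen h) y hyh
            (algebraMap Γ(X, U.1) Γ(X, X.basicOpen h) r) := by
        intro r
        exact (TopCat.Presheaf.germ_res_apply X.presheaf (homOfLE (X.basicOpen_le h)) y hyh r).symm
      have e2 : X.presheaf.germ V y hyV a = X.presheaf.germ (X.basicOpen h) y hyh a' := by
        rw [ha', TopCat.Presheaf.germ_res_apply]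
      have e3 : X.presheaf.germ V y hyV b.1 = X.presheaf.germ (X.basicOpen h) y hyh b' := by
        rw [hb', TopCat.Presheaf.germ_res_apply]
      have e4 : X.presheaf.germ (X.basicOpen h) y hyh
            (algebraMap Γ(X, U.1) Γ(X, X.basicOpen h) (b₀ * h ^ m)) *
            X.presheaf.germ (X.basicOpen h) y hyh a' =
          X.presheaf.germ (X.basicOpen h) y hyh b' *
            X.presheaf.germ (X.basicOpen h) y hyh
              (algebraMap Γ(X, U.1) Γ(X, X.basicOpen h) (a₀ * h ^ n)) := by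
        rw [← map_mul, ← map_mul, hE]
      rw [← e1, ← e1, ← e2, ← e3] at e4
      simp only [one_smul, Submonoid.smul_def, smul_eq_mul, Submonoid.coe_mul, Submonoid.coe_one,
        one_mul]
      exact e4
    obtain ⟨N, hN⟩ := Groth.Agent.S8864.exists_pow_mul_eq_zero X U.1 hU.isCompact h _ hvan
    rw [mul_sub, sub_eq_zero, ← mul_assoc, ← map_mul, ← map_mul] at hN
    refine ⟨h ^ N * (b₀ * h ^ m), (hD _).mpr ⟨_, hN⟩, ?_⟩
    intro hmem
    rcases hpp.mem_or_mem hmem with h1 | h1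
    · exact hhp (hpp.mem_of_pow_mem N h1)
    · rcases hpp.mem_or_mem h1 with h2 | h2
      · exact hb₀p h2
      · exact hhp (hpp.mem_of_pow_mem m h2)
  · -- injectivity
    intro a b hab
    rw [halg, halg] at hab
    exact ⟨1, by rw [Groth.Agent.S8864.toK_injective X U.1 hab]⟩

end Geometry


/-- Let X be a scheme such that (a) each weakly associated point of X (of O_X) has no proper
generization, i.e. is the generic point of some irreducible component, and (b) every quasi-compact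
open of X has finitely many irreducible components. Then for every point x the monoid S_x of germs
of regular sections is the set of all nonzerodivisors of O_{X,x} (so K_{X,x} is the total ring of
fractions of O_{X,x}), and for every affine open U the ring K_X(U) is the total ring of fractions of
O_X(U). -/
theorem result (X : Scheme.{u})
    (ha : ∀ x : ↥X, Curv2.IsWeakAssPoint (Coh.structureModule X) x → ∀ y : ↥X, y ⤳ x → y = x)
    (hb : ∀ U : X.Opens, IsCompact (U : Set ↥X) → (irreducibleComponents ↥(U : Scheme.{u})).Finite) :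
    (∀ x : ↥X, Mero.regStalk X x = nonZeroDivisors ↑(X.presheaf.stalk x)) ∧
      ∀ U : X.affineOpens,
        @IsLocalization Γ(X, U.1) _ (nonZeroDivisors Γ(X, U.1)) Γ(Mero.kmod X, U.1) _ (Mero.toK X U.1).toAlgebra := by
  exact ⟨regStalk_eq X ha hb, isLocalization_affine X ha hb⟩

end Groth.Agent.S8904
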