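import Groth.Statements.S5086
import Groth.Agent.S8864
import Groth.Agent.S8904
import Groth.Agent.S12513
import Groth.Agent.Lib.StrictTransform82

set_option autoImplicit false
universe u
open CategoryTheory CategoryTheory.Limits AlgebraicGeometry TopologicalSpace
open Mero

namespace Groth.Agent.S5086

open Mero Groth.Agent.Lib.StrictTransform82

theorem eq_zero_of_germ (X : Scheme.{u}) {W : X.Opens} (e : Γ(X, W))
    (h : ∀ (z : X) (hz : z ∈ W), X.presheaf.germ W z hz e = 0) : e = 0 := by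
  apply TopCat.Presheaf.section_ext X.sheaf W e 0
  intro z hz
  exact (h z hz).trans (map_zero (X.presheaf.germ W z hz).hom).symm

/-- gluing local fraction data to a meromorphic function -/
theorem exists_of_local_data (X : Scheme.{u}) (U V : X.Opens) (hVU : V ≤ U)
    (hV : ∀ W : X.Opens, W ≤ U →
      Function.Injective ⇑(X.presheaf.map (homOfLE (inf_le_left : W ⊓ V ≤ W)).op))
    (g : Γ(X, V))
    (hloc : ∀ x : X, x ∈ U → ∃ (W : X.Opens) (_ : x ∈ W) (_ : W ≤ U) (a : Γ(X, W))
      (b : regSub X W),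
      X.presheaf.map (homOfLE (inf_le_left : W ⊓ V ≤ W)).op b.1 *
        X.presheaf.map (homOfLE (inf_le_right : W ⊓ V ≤ V)).op g =
          X.presheaf.map (homOfLE (inf_le_left : W ⊓ V ≤ W)).op a) :
    ∃ s : Γ(Mero.kmod X, U), (Mero.kmod X).presheaf.map (homOfLE hVU).op s = Mero.toK X V g := by
  choose W hxW hWU a b hab using fun x : U => hloc x.1 x.2
  -- germwise form of the local data
  have hab' : ∀ (x : U) (z : X) (hzW : z ∈ W x) (hzV : z ∈ V),
      X.presheaf.germ (W x) z hzW (b x).1 * X.presheaf.germ V z hzV g =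
        X.presheaf.germ (W x) z hzW (a x) := by
    intro x z hzW hzV
    have h1 := congrArg (X.presheaf.germ (W x ⊓ V) z ⟨hzW, hzV⟩) (hab x)
    rw [map_mul, TopCat.Presheaf.germ_res_apply, TopCat.Presheaf.germ_res_apply,
      TopCat.Presheaf.germ_res_apply] at h1
    exact h1
  -- compatibility
  have hcompat : ∀ (x y : U) (z : X) (hzx : z ∈ W x) (hzy : z ∈ W y),
      X.presheaf.germ (W y) z hzy (b y).1 * X.presheaf.germ (W x) z hzx (a x) =
        X.presheaf.germ (W x) z hzx (b x).1 * X.presheaf.germ (W y) z hzy (a y) := by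
    intro x y z hzx hzy
    set W₂ : X.Opens := W x ⊓ W y with hW₂
    have hW₂U : W₂ ≤ U := inf_le_left.trans (hWU x)
    set c : Γ(X, W₂) := X.presheaf.map (homOfLE (inf_le_right : W₂ ≤ W y)).op (b y).1 *
        X.presheaf.map (homOfLE (inf_le_left : W₂ ≤ W x)).op (a x) -
      X.presheaf.map (homOfLE (inf_le_left : W₂ ≤ W x)).op (b x).1 *
        X.presheaf.map (homOfLE (inf_le_right : W₂ ≤ W y)).op (a y) with hc
    have hc0 : c = 0 := by
      apply hV W₂ hW₂U
      rw [map_zero]
      apply eq_zero_of_germ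
      intro w hw
      have hwx : w ∈ W x := hw.1.1
      have hwy : w ∈ W y := hw.1.2
      have hwV : w ∈ V := hw.2
      rw [TopCat.Presheaf.germ_res_apply]
      rw [hc, map_sub, map_mul, map_mul, TopCat.Presheaf.germ_res_apply,
        TopCat.Presheaf.germ_res_apply, TopCat.Presheaf.germ_res_apply,
        TopCat.Presheaf.germ_res_apply, ← hab' x w hwx hwV, ← hab' y w hwy hwV]
      ring
    have h1 := congrArg (X.presheaf.germ W₂ z ⟨hzx, hzy⟩) hc0
    rw [hc, map_sub, map_mul, map_mul, TopCat.Presheaf.germ_res_apply,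
      TopCat.Presheaf.germ_res_apply, TopCat.Presheaf.germ_res_apply,
      TopCat.Presheaf.germ_res_apply, map_zero, sub_eq_zero] at h1
    exact h1
  let sfun : ∀ x : U, KStalk X x.1 := fun x =>
    LocalizedModule.mk (X.presheaf.germ (W x) x.1 (hxW x) (a x)) (regGerm ⟨x.1, hxW x⟩ (b x))
  have hs : ∀ (x y : U) (hy : y.1 ∈ W x), sfun y =
      LocalizedModule.mk (X.presheaf.germ (W x) y.1 hy (a x)) (regGerm ⟨y.1, hy⟩ (b x)) := by
    intro x y hy
    change LocalizedModule.mk _ _ = _
    rw [LocalizedModule.mk_eq]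
    refine ⟨1, ?_⟩
    simp only [one_smul, Submonoid.smul_def, smul_eq_mul]
    exact (hcompat x y y.1 hy (hxW y)).symm
  refine ⟨⟨sfun, fun x => ⟨W x, hxW x, homOfLE (hWU x), a x, b x, fun y => ?_⟩⟩, ?_⟩
  · exact hs x ⟨y.1, hWU x y.2⟩ y.2
  · apply Subtype.ext
    funext y
    change sfun ⟨y.1, hVU y.2⟩ = LocalizedModule.mk (X.presheaf.germ V y.1 y.2 g) 1
    change LocalizedModule.mk _ _ = _
    rw [LocalizedModule.mk_eq]
    refine ⟨1, ?_⟩
    simp only [one_smul, Submonoid.smul_def, smul_eq_mul]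
    exact (hab' ⟨y.1, hVU y.2⟩ y.1 (hxW _) y.2).symm

/-- a function vanishing on the basic open of a regular function vanishes -/
theorem eq_zero_of_vanish_basicOpen_regular (X : Scheme.{u}) {W W' : X.Opens} (hW'W : W' ≤ W)
    (t : Γ(X, W)) (ht : t ∈ regSub X W) (e : Γ(X, W'))
    (he : ∀ (z : X) (hz : z ∈ W'), z ∈ X.basicOpen t → X.presheaf.germ W' z hz e = 0) :
    e = 0 := by
  apply eq_zero_of_germ
  intro y hy
  obtain ⟨_, ⟨W'', hW'', rfl⟩, hyW'', hW''W'⟩ :=
    X.isBasis_affineOpens.exists_subset_of_mem_open hy W'.2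
  replace hW''W' : W'' ≤ W' := hW''W'
  replace hW'' : IsAffineOpen W'' := hW''
  set e'' : Γ(X, W'') := X.presheaf.map (homOfLE hW''W').op e with he''
  set t'' : Γ(X, W'') := X.presheaf.map (homOfLE (hW''W'.trans hW'W)).op t with ht''
  have hres : e'' |_ (X.basicOpen t'') = 0 := by
    apply TopCat.Presheaf.section_ext X.sheaf (X.basicOpen t'') _ 0
    intro z hz
    rw [map_zero]
    have hz' : z ∈ W'' ⊓ X.basicOpen t := by
      rw [← Scheme.basicOpen_res]
      exact hz
    have := he z (hW''W' hz'.1) hz'.2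
    rw [he'']
    erw [TopCat.Presheaf.germ_res_apply, TopCat.Presheaf.germ_res_apply]
    exact this
  obtain ⟨n, hn⟩ := exists_pow_mul_eq_zero_of_res_basicOpen_eq_zero_of_isAffineOpen X hW'' e'' t'' hres
  have h1 := congrArg (X.presheaf.germ W'' y hyW'') hn
  rw [map_mul, map_pow, map_zero, ht'', he'', TopCat.Presheaf.germ_res_apply,
    TopCat.Presheaf.germ_res_apply] at h1
  have h2 : X.presheaf.germ W y (hW'W hy) t ^ n ∈ nonZeroDivisors (X.presheaf.stalk y) :=
    pow_mem (ht ⟨y, hW'W hy⟩) n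
  exact (mul_left_mem_nonZeroDivisors_eq_zero_iff h2).mp h1

/-- local data from a regular function whose basic open lies in `V` -/
theorem local_data_of_regular (X : Scheme.{u}) (V : X.Opens) (g : Γ(X, V)) (W : X.Opens)
    (hW : IsAffineOpen W) (t : Γ(X, W)) (ht : t ∈ regSub X W) (htV : X.basicOpen t ≤ V) :
    ∃ (a : Γ(X, W)) (b : regSub X W),
      X.presheaf.map (homOfLE (inf_le_left : W ⊓ V ≤ W)).op b.1 *
        X.presheaf.map (homOfLE (inf_le_right : W ⊓ V ≤ V)).op g =
          X.presheaf.map (homOfLE (inf_le_left : W ⊓ V ≤ W)).op a := by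
  haveI hloc : IsLocalization.Away t Γ(X, X.basicOpen t) := hW.isLocalization_basicOpen t
  set g' : Γ(X, X.basicOpen t) := X.presheaf.map (homOfLE htV).op g with hg'
  obtain ⟨⟨a, ⟨_, n, rfl⟩⟩, ha⟩ := IsLocalization.surj (Submonoid.powers t) g'
  simp only at ha
  refine ⟨a, ⟨t ^ n, pow_mem ht n⟩, ?_⟩
  rw [← sub_eq_zero]
  apply eq_zero_of_vanish_basicOpen_regular X (inf_le_left : W ⊓ V ≤ W) t ht
  intro z hz hzt
  have h1 := congrArg (X.presheaf.germ (X.basicOpen t) z hzt) ha
  have ef : ∀ r : Γ(X, W), X.presheaf.germ (X.basicOpen t) z hzt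
      (algebraMap Γ(X, W) Γ(X, X.basicOpen t) r) = X.presheaf.germ W z hz.1 r := fun r =>
    TopCat.Presheaf.germ_res_apply X.presheaf (homOfLE (X.basicOpen_le t)) z hzt r
  rw [map_mul, ef, ef, hg', TopCat.Presheaf.germ_res_apply] at h1
  rw [map_sub, map_mul, TopCat.Presheaf.germ_res_apply, TopCat.Presheaf.germ_res_apply,
    TopCat.Presheaf.germ_res_apply, sub_eq_zero, ← h1, mul_comm]


/-- ideal of functions whose basic open lies in `V` -/
def idealOf (X : Scheme.{u}) (W V : X.Opens) : Ideal Γ(X, W) where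
  carrier := {t | X.basicOpen t ≤ V}
  zero_mem' := by
    rw [Set.mem_setOf_eq, Scheme.basicOpen_zero]
    exact bot_le
  add_mem' := by
    intro s t hs ht z hz
    have hzW : z ∈ W := X.basicOpen_le _ hz
    have hu : IsUnit (X.presheaf.germ W z hzW (s + t)) := (X.mem_basicOpen (s + t) z hzW).mp hz
    rw [map_add] at hu
    rcases IsLocalRing.isUnit_or_isUnit_of_isUnit_add hu with h1 | h1
    · exact hs ((X.mem_basicOpen s z hzW).mpr h1)
    · exact ht ((X.mem_basicOpen t z hzW).mpr h1)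
  smul_mem' := by
    intro c t ht
    rw [smul_eq_mul, Set.mem_setOf_eq, Scheme.basicOpen_mul]
    exact inf_le_right.trans ht

theorem mem_idealOf (X : Scheme.{u}) (W V : X.Opens) (t : Γ(X, W)) :
    t ∈ idealOf X W V ↔ X.basicOpen t ≤ V := Iff.rfl

theorem exists_regular_noeth (X : Scheme.{u}) [IsLocallyNoetherian X] (W : X.Opens)
    (hW : IsAffineOpen W) (V : X.Opens)
    (hinj : Function.Injective ⇑(X.presheaf.map (homOfLE (inf_le_left : W ⊓ V ≤ W)).op)) :
    ∃ t : Γ(X, W), t ∈ nonZeroDivisors Γ(X, W) ∧ X.basicOpen t ≤ V := by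
  haveI : IsNoetherianRing Γ(X, W) := IsLocallyNoetherian.component_noetherian ⟨W, hW⟩
  suffices H : ∀ p ∈ associatedPrimes Γ(X, W) Γ(X, W), ∃ f ∈ idealOf X W V, f ∉ p by
    obtain ⟨t, htJ, ht⟩ := Groth.Agent.S8864.exists_mem_nonZeroDivisors (idealOf X W V) H
    exact ⟨t, ht, htJ⟩
  intro p hp
  obtain ⟨hpp, c, hc⟩ := isAssociatedPrime_iff.mp hp
  by_contra hcon
  push Not at hcon
  have hc0 : c = 0 := by
    apply hinj
    rw [map_zero]
    apply eq_zero_of_germ
    intro z hz
    rw [TopCat.Presheaf.germ_res_apply]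
    obtain ⟨f, hfV, hzf⟩ := hW.exists_basicOpen_le (V := W ⊓ V) ⟨z, hz⟩ hz.1
    have hfp : f ∈ p := hcon f (hfV.trans inf_le_right)
    rw [hc, Submodule.mem_colon_singleton, Submodule.mem_bot, smul_eq_mul] at hfp
    have h1 := congrArg (X.presheaf.germ W z hz.1) hfp
    rw [map_mul, map_zero] at h1
    have hu : IsUnit (X.presheaf.germ W z hz.1 f) := (X.mem_basicOpen f z hz.1).mp hzf
    exact hu.mul_right_eq_zero.mp h1
  apply hpp.ne_top
  rw [hc, hc0, eq_top_iff]
  intro r _
  rw [Submodule.mem_colon_singleton, smul_zero]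
  exact Submodule.zero_mem _

theorem exists_regular_reduced (X : Scheme.{u}) [IsReduced X] (W : X.Opens)
    (hW : IsAffineOpen W) (V : X.Opens)
    (hfin : {Z : Set X | Z ∈ irreducibleComponents X ∧ (Z ∩ (W : Set X)).Nonempty}.Finite)
    (hdense : ∀ W' : X.Opens, W' ≤ W → (W' : Set X).Nonempty →
      ((W' ⊓ V : X.Opens) : Set X).Nonempty) :
    ∃ t : Γ(X, W), t ∈ nonZeroDivisors Γ(X, W) ∧ X.basicOpen t ≤ V := by
  classical
  set S : Set (Set X) := {Z | Z ∈ irreducibleComponents X ∧ (Z ∩ (W : Set X)).Nonempty} with hS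
  set T : Set X := {η | η ∈ W ∧ closure {η} ∈ irreducibleComponents X} with hT
  have hTfin : T.Finite := by
    apply Set.Finite.of_finite_image (f := fun η => closure {η})
    · apply hfin.subset
      rintro _ ⟨η, ⟨hηW, hη⟩, rfl⟩
      exact ⟨hη, ⟨η, subset_closure rfl, hηW⟩⟩
    · intro a _ b _ hab
      exact (inseparable_iff_closure_eq.mpr hab).eq
  have hgen : ∀ y ∈ W, ∃ η ∈ T, η ⤳ y := by
    intro y hy
    have hZ := irreducibleComponent_mem_irreducibleComponents y
    obtain ⟨η, hη⟩ := QuasiSober.sober (isIrreducible_irreducibleComponent (x := y))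
      isClosed_irreducibleComponent
    have hηy : η ⤳ y := by
      rw [specializes_iff_mem_closure, hη.def]
      exact mem_irreducibleComponent
    refine ⟨η, ⟨hηy.mem_open W.2 hy, ?_⟩, hηy⟩
    rw [hη.def]
    exact hZ
  have hTV : ∀ η ∈ T, η ∈ V := by
    rintro η ⟨hηW, hη⟩
    set C : Set X := ⋃ Z ∈ S \ {closure {η}}, Z with hC
    have hCclosed : IsClosed C := (hfin.subset Set.diff_subset).isClosed_biUnion
      (fun Z hZ => isClosed_of_mem_irreducibleComponents _ hZ.1.1)
    have hηC : η ∉ C := by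
      intro h
      simp only [hC, Set.mem_iUnion] at h
      obtain ⟨Z, ⟨hZS, hZne⟩, hηZ⟩ := h
      apply hZne
      have hsub : closure {η} ⊆ Z :=
        (isClosed_of_mem_irreducibleComponents _ hZS.1).closure_subset_iff.mpr
          (Set.singleton_subset_iff.mpr hηZ)
      exact Set.Subset.antisymm (hη.2 hZS.1.1 hsub) hsub
    let W' : X.Opens := W ⊓ ⟨Cᶜ, hCclosed.isOpen_compl⟩
    obtain ⟨y, hyW', hyV⟩ := hdense W' inf_le_left ⟨η, hηW, hηC⟩
    obtain ⟨η', hη'T, hη'y⟩ := hgen y hyW'.1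
    have hcl : closure {η'} = closure {η} := by
      by_contra hne
      have hyC : y ∉ C := hyW'.2
      apply hyC
      simp only [hC, Set.mem_iUnion]
      exact ⟨closure {η'}, ⟨⟨hη'T.2, ⟨η', subset_closure rfl, hη'T.1⟩⟩, hne⟩,
        specializes_iff_mem_closure.mp hη'y⟩
    have heq : η' = η := (inseparable_iff_closure_eq.mpr hcl).eq
    subst heq
    exact hη'y.mem_open V.2 hyV
  set S' : Set (Ideal Γ(X, W)) := (fun z : W => (hW.primeIdealOf z).asIdeal) ''
    {z : W | z.1 ∈ T} with hS'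
  have hS'fin : S'.Finite := (hTfin.preimage Subtype.val_injective.injOn).image _
  have hS'prime : ∀ p ∈ S', p.IsPrime := by
    rintro _ ⟨z, _, rfl⟩
    exact (hW.primeIdealOf z).isPrime
  have H : ∀ p ∈ S', ∃ f ∈ idealOf X W V, f ∉ p := by
    rintro _ ⟨z, hz, rfl⟩
    have hzV : z.1 ∈ V := hTV z.1 hz
    obtain ⟨f, hfV, hzf⟩ := hW.exists_basicOpen_le (V := W ⊓ V) ⟨z.1, z.2, hzV⟩ z.2
    exact ⟨f, hfV.trans inf_le_right, (mem_basicOpen_iff_notMem_primeIdealOf hW z f).mp hzf⟩
  obtain ⟨t, htJ, htS⟩ := Groth.Agent.S8904.exists_mem_forall_notMem _ S' hS'fin hS'prime H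
  refine ⟨t, ?_, htJ⟩
  rw [mem_nonZeroDivisors_iff_right]
  intro c hc
  by_contra hne
  have hbo : X.basicOpen c ≠ ⊥ := fun h => hne ((basicOpen_eq_bot_iff c).mp h)
  obtain ⟨y, hy⟩ : ∃ y, y ∈ X.basicOpen c := by
    by_contra hcon
    push Not at hcon
    exact hbo (eq_bot_iff.mpr fun y hy => (hcon y hy).elim)
  have hyW : y ∈ W := X.basicOpen_le c hy
  obtain ⟨η, hηT, hηy⟩ := hgen y hyW
  have h1 : η ∈ X.basicOpen c := hηy.mem_open (X.basicOpen c).2 hy
  have h2 : η ∈ X.basicOpen t :=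
    (mem_basicOpen_iff_notMem_primeIdealOf hW ⟨η, hηT.1⟩ t).mpr (htS _ ⟨⟨η, hηT.1⟩, hηT, rfl⟩)
  have h3 : η ∈ X.basicOpen (c * t) := by
    rw [Scheme.basicOpen_mul]
    exact ⟨h1, h2⟩
  rw [hc, Scheme.basicOpen_zero] at h3
  exact h3


/-- Let X be a scheme which is either locally Noetherian, or reduced with locally finite set of
irreducible components (every point has an open neighbourhood meeting only finitely many irreducible
components). Let U be an open subset, V an open subset of U schematically dense in U (restriction of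
functions from every open W ⊆ U to W ∩ V is injective) and g a function on V. Then there is a
section of the sheaf of meromorphic functions K_X over U whose restriction to V is g/1; with part
(i), meromorphic functions over U are exactly the pseudo-functions on U. -/
theorem result (X : Scheme.{u})
    (hX : IsLocallyNoetherian X ∨ (IsReduced X ∧ ∀ x : ↥X, ∃ W : X.Opens, x ∈ W ∧
      {Z : Set ↥X | Z ∈ irreducibleComponents ↥X ∧ (Z ∩ (W : Set ↥X)).Nonempty}.Finite))
    (U V : X.Opens) (hVU : V ≤ U)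
    (hV : ∀ W : X.Opens, W ≤ U →
      Function.Injective ⇑(X.presheaf.map (homOfLE (inf_le_left : W ⊓ V ≤ W)).op))
    (g : Γ(X, V)) :
    ∃ s : Γ(Mero.kmod X, U), (Mero.kmod X).presheaf.map (homOfLE hVU).op s = Mero.toK X V g := by
  apply exists_of_local_data X U V hVU hV g
  intro x hxU
  rcases hX with hN | ⟨hR, hfin⟩
  · haveI := hN
    obtain ⟨_, ⟨W, hW, rfl⟩, hxW, hWU⟩ :=
      X.isBasis_affineOpens.exists_subset_of_mem_open hxU U.2
    replace hWU : W ≤ U := hWU
    replace hW : IsAffineOpen W := hW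
    obtain ⟨t, htnzd, htV⟩ := exists_regular_noeth X W hW V (hV W hWU)
    have ht : t ∈ regSub X W := by
      rw [Groth.Agent.S12513.result X W hW]
      exact htnzd
    obtain ⟨a, b, hab⟩ := local_data_of_regular X V g W hW t ht htV
    exact ⟨W, hxW, hWU, a, b, hab⟩
  · haveI := hR
    obtain ⟨W₀, hxW₀, hfinW₀⟩ := hfin x
    obtain ⟨_, ⟨W, hW, rfl⟩, hxW, hWsub⟩ :=
      X.isBasis_affineOpens.exists_subset_of_mem_open
        (show x ∈ W₀ ⊓ U from ⟨hxW₀, hxU⟩) (W₀ ⊓ U).2
    replace hW : IsAffineOpen W := hW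
    have hWW₀ : W ≤ W₀ := fun y hy => (hWsub hy).1
    have hWU : W ≤ U := fun y hy => (hWsub hy).2
    have hfinW : {Z : Set X | Z ∈ irreducibleComponents X ∧ (Z ∩ (W : Set X)).Nonempty}.Finite :=
      hfinW₀.subset (fun Z hZ => ⟨hZ.1, hZ.2.mono (Set.inter_subset_inter_right _ hWW₀)⟩)
    have hdense : ∀ W' : X.Opens, W' ≤ W → (W' : Set X).Nonempty →
        ((W' ⊓ V : X.Opens) : Set X).Nonempty := by
      rintro W' hW'W ⟨y, hy⟩
      by_contra hempty
      have h10 : (1 : Γ(X, W')) = 0 := by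
        apply hV W' (hW'W.trans hWU)
        rw [← sub_eq_zero]
        apply eq_zero_of_germ
        intro z hz
        exact (hempty ⟨z, hz⟩).elim
      have h2 := congrArg (X.presheaf.germ W' y hy) h10
      rw [map_one, map_zero] at h2
      exact one_ne_zero h2
    obtain ⟨t, htnzd, htV⟩ := exists_regular_reduced X W hW V hfinW hdense
    have ht : t ∈ regSub X W := by
      rw [Groth.Agent.S12513.result X W hW]
      exact htnzd
    obtain ⟨a, b, hab⟩ := local_data_of_regular X V g W hW t ht htV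
    exact ⟨W, hxW, hWU, a, b, hab⟩

end Groth.Agent.S5086
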