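import Groth.Statements.S19457
import Groth.Agent.S19456
import Groth.Agent.S5086

set_option autoImplicit false
universe u
open CategoryTheory CategoryTheory.Limits AlgebraicGeometry TopologicalSpace Opposite
open PicF2

namespace Groth.Agent.S19457

open Mero Groth.Agent.Lib.H90Invertible Groth.Agent.Lib.MeroDiv82 Groth.Agent.Lib.RegMero82
  Groth.Agent.Lib.H78TensorGen Groth.Agent.Lib.QCohStalk Groth.Agent.Lib.H78SecCoord
  Groth.Agent.Lib.ZeroScheme82 Groth.Agent.Lib.H78SecTwist Groth.Agent.S19456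

variable {X : Scheme.{u}} {L : X.Modules}

/-- a nonzero section of an invertible module on an integral scheme is torsion-free -/
theorem eq_zero_of_smul_sv_eq_zero [IsIntegral X] (hL : PicF.IsInvertible L)
    (s : Coh.structureModule X ⟶ L) (hs : s ≠ 0) {W : X.Opens} (r : Γ(X, W))
    (h : r • sv L s W = 0) : r = 0 := by
  apply Groth.Agent.S5086.eq_zero_of_germ
  intro y hy
  obtain ⟨U, hyU, e, he⟩ := exists_triv_affine hL y
  obtain ⟨c, hc⟩ := exists_coord s he
  have hc0 : c ≠ 0 := coord_ne_zero hL s hs ⟨y, hyU⟩ he c hc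
  have h1 := congrArg (L.presheaf.germ W y hy) h
  rw [Mero.germ_smul, map_zero, sv_eq, germ_res] at h1
  have h2 := congrArg (L.presheaf.germ U.1 y hyU) hc
  rw [Mero.germ_smul, sv_eq, germ_res] at h2
  rw [h2, smul_smul] at h1
  have h3 := smul_germ_gen_eq_zero he y hyU _ h1
  have h4 : X.presheaf.germ U.1 y hyU c ≠ 0 := by
    intro h0
    apply hc0
    apply germ_injective_of_isIntegral X y hyU
    rw [h0, map_zero]
  exact (mul_eq_zero.mp h3).resolve_right h4

/-- scaling a section by a unit does not change the zero ideals -/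
theorem zI_eq_of_smul (s s' : Coh.structureModule X ⟶ L) (U : X.Opens) (ρ : Γ(X, U))
    (hρ : IsUnit ρ) (h : sv L s' U = ρ • sv L s U) : zI L s' U = zI L s U := by
  obtain ⟨u, rfl⟩ := hρ
  ext a
  rw [mem_zI, mem_zI]
  constructor
  · intro ha m
    obtain ⟨b, hb⟩ := ha m
    exact ⟨b * u, by rw [hb, h, smul_smul]⟩
  · intro ha m
    obtain ⟨b, hb⟩ := ha m
    refine ⟨b * ↑u⁻¹, ?_⟩
    rw [hb, h, smul_smul, mul_assoc, Units.inv_mul, mul_one]

/-- local comparison: equal zero schemes give local unit factors -/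
theorem exists_local_unit [IsIntegral X] (hL : PicF.IsInvertible L)
    (s s' : Coh.structureModule X ⟶ L) (hs : s ≠ 0) (hs' : s' ≠ 0)
    (h : PicF2.zeroScheme L s' = PicF2.zeroScheme L s) (x : X) :
    ∃ (U : X.Opens) (_ : x ∈ U) (ρ : Γ(X, U)), IsUnit ρ ∧ sv L s' U = ρ • sv L s U := by
  obtain ⟨U, hxU, e, he⟩ := exists_triv_affine hL x
  obtain ⟨c, hc⟩ := exists_coord s he
  obtain ⟨c', hc'⟩ := exists_coord s' he
  haveI : Nonempty U.1 := ⟨⟨x, hxU⟩⟩
  haveI : IsDomain Γ(X, U.1) := inferInstance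
  have h1 : Ideal.span {c} = Ideal.span {c'} := by
    rw [← ideal_zeroScheme_eq_span L s hL U he c hc, ← ideal_zeroScheme_eq_span L s' hL U he c' hc',
      h]
  obtain ⟨u, hu⟩ := Ideal.span_singleton_eq_span_singleton.mp h1
  refine ⟨U.1, hxU, u, u.isUnit, ?_⟩
  rw [hc', hc, smul_smul, ← hu, mul_comm]


/-- Let X be an integral scheme, L an invertible O_X-module and s, s' two nonzero global sections of L,
given as nonzero morphisms O_X → L. Then the zero schemes Z(s') and Z(s) are equal (as
quasi-coherent ideal sheaves of O_X, that is, as effective Cartier divisors) if and only if s' = h ·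
s for some unit h of the ring of global functions Γ(X, O_X). (The published statement is for an
irreducible variety over an algebraically closed field; this row states it for an arbitrary integral
scheme.) -/
theorem result (X : Scheme.{u}) [AlgebraicGeometry.IsIntegral X]
    (L : X.Modules) (hL : PicF.IsInvertible L) (s s' : Coh.structureModule X ⟶ L) (hs : s ≠ 0) (hs' : s' ≠ 0) :
    PicF2.zeroScheme L s' = PicF2.zeroScheme L s ↔
      ∃ h : Γ(X, ⊤), IsUnit h ∧ (SecTwist.val s' ⊤ : Γ(L, ⊤)) = h • (SecTwist.val s ⊤ : Γ(L, ⊤)) := by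
  constructor
  · intro h
    choose U hxU ρ hρu hρ using exists_local_unit hL s s' hs hs' h
    have hcover : (⊤ : X.Opens) ≤ iSup U := fun y _ => Opens.mem_iSup.2 ⟨y, hxU y⟩
    have hcompat : TopCat.Presheaf.IsCompatible X.presheaf U ρ := by
      intro z z'
      rw [← sub_eq_zero]
      apply eq_zero_of_smul_sv_eq_zero hL s hs
      rw [sub_smul, sub_eq_zero]
      have h1 := congrArg (res L (inf_le_left : U z ⊓ U z' ≤ U z)) (hρ z)
      have h2 := congrArg (res L (inf_le_right : U z ⊓ U z' ≤ U z')) (hρ z')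
      rw [res_smul, res_sv, res_sv] at h1 h2
      exact h1.symm.trans h2
    obtain ⟨g', hg', -⟩ := X.sheaf.existsUnique_gluing' U ⊤ (fun z => homOfLE le_top) hcover ρ
      hcompat
    obtain ⟨g, rfl⟩ : ∃ g : Γ(X, ⊤), g = g' := ⟨g', rfl⟩
    have hg : ∀ z : X, X.presheaf.map (homOfLE (le_top : U z ≤ ⊤)).op g = ρ z := hg'
    refine ⟨g, ?_, ?_⟩
    · apply X.toRingedSpace.isUnit_of_isUnit_germ ⊤ g
      intro y hy
      have h1 : X.presheaf.germ ⊤ y hy g = X.presheaf.germ (U y) y (hxU y) (ρ y) := by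
        rw [← hg y, TopCat.Presheaf.germ_res_apply]
      change IsUnit (X.presheaf.germ ⊤ y hy g)
      rw [h1]
      exact (hρu y).map _
    · apply sec_ext L
      intro y _
      refine ⟨U y, le_top, hxU y, ?_⟩
      have h1 : rs L (le_top : U y ≤ ⊤) (g • (SecTwist.val s ⊤ : Γ(L, ⊤))) =
          X.presheaf.map (homOfLE (le_top : U y ≤ ⊤)).op g • rs L le_top (SecTwist.val s ⊤) :=
        res_smul L le_top g _
      rw [h1, hg y]
      exact ((res_sv L s' (le_top : U y ≤ ⊤)).trans (hρ y)).trans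
        (congrArg (fun t => ρ y • t) (res_sv L s (le_top : U y ≤ ⊤)).symm)
  · rintro ⟨g, hgu, hg⟩
    change Scheme.IdealSheafData.ofIdeals (fun U : X.affineOpens => zI L s' U.1) =
      Scheme.IdealSheafData.ofIdeals (fun U : X.affineOpens => zI L s U.1)
    congr 1
    funext U
    apply zI_eq_of_smul s s' U.1 (X.presheaf.map (homOfLE (le_top : U.1 ≤ ⊤)).op g)
      (hgu.map _)
    have h1 := congrArg (res L (le_top : U.1 ≤ ⊤)) hg
    have h2 : res L (le_top : U.1 ≤ ⊤) (g • (SecTwist.val s ⊤ : Γ(L, ⊤))) =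
        X.presheaf.map (homOfLE (le_top : U.1 ≤ ⊤)).op g • res L le_top (SecTwist.val s ⊤) :=
      res_smul L le_top g _
    replace h1 := h1.trans h2
    exact ((res_sv L s' (le_top : U.1 ≤ ⊤)).symm.trans h1).trans
      (congrArg (fun t => X.presheaf.map (homOfLE (le_top : U.1 ≤ ⊤)).op g • t)
        (res_sv L s (le_top : U.1 ≤ ⊤)))

end Groth.Agent.S19457
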