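import Groth.Statements.S19458
import Groth.Agent.S19455
import Groth.Agent.S19456

set_option autoImplicit false
universe u
open CategoryTheory CategoryTheory.Limits AlgebraicGeometry TopologicalSpace Opposite
open Mero

namespace Groth.Agent.S19458

open Mero Groth.Agent.Lib.H90Invertible Groth.Agent.Lib.MeroDiv82 Groth.Agent.Lib.RegMero82
  Groth.Agent.Lib.H78TensorGen Groth.Agent.Lib.QCohStalk Groth.Agent.Lib.H78SecCoord
  Groth.Agent.Lib.ZeroScheme82 Groth.Agent.Lib.H78SecTwist Groth.Agent.S5087 Groth.Agent.S19455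
  Groth.Agent.S19456

variable {X : Scheme.{u}} {L : X.Modules}

/-- the section `1` of `O_X(D)` for an effective divisor `D` -/
noncomputable def oneSec (D : Mero.Divisor X) (hD : Mero.IsEffective D) (U : X.Opens) :
    Γ(Mero.divMod D, U) :=
  ⟨1, Mero.kLoc_one X U, fun y => by
    obtain ⟨a, ha⟩ := hD y.1
    apply divCond_of_rep D y.1 _ _ ha
    rw [Pi.one_apply, one_mul, IsUnit.unit_spec]
    exact ⟨_, rfl⟩⟩

theorem oneSec_apply (D : Mero.Divisor X) (hD : Mero.IsEffective D) (U : X.Opens) (y : U) :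
    (oneSec D hD U).1 y = 1 := rfl

/-- local description of the section of `L` corresponding to `1 ∈ O_X(D)` -/
theorem exists_local (hL : PicF.IsInvertible L) (D : Mero.Divisor X) (hD : Mero.IsEffective D)
    (e : L ≅ Mero.divMod D) (x : X) :
    ∃ (U : X.affineOpens) (_ : x ∈ U.1) (ε : Γ(L, U.1)) (c : Γ(X, U.1)) (hc : c ∈ Mero.regSub X U.1),
      IsGen L U.1 ε ∧ e.inv.app U.1 (oneSec D hD U.1) = c • ε ∧
      ∀ y : U.1, D.1 y.1 =
        QuotientGroup.mk (IsLocalization.map_units (KStalk X y.1) (regGerm y ⟨c, hc⟩)).unit := by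
  obtain ⟨U₀, hxU₀, f, hf⟩ := D.2 x
  obtain ⟨_, ⟨U, hU, rfl⟩, hxU, hUU₀⟩ :=
    X.isBasis_affineOpens.exists_subset_of_mem_open hxU₀ U₀.2
  replace hUU₀ : U ≤ U₀ := hUU₀
  set g : (Γ(Mero.kmod X, U))ˣ := resUnit hUU₀ f with hg
  have hgD : ∀ y : U, D.1 y.1 = Mero.germOf g y := fun y =>
    (hf ⟨y.1, hUU₀ y.2⟩).trans (germOf_resUnit hUU₀ f y).symm
  have hγ := isGen_genSec D g hgD
  obtain ⟨c, hc⟩ := (hγ U le_rfl).2 (oneSec D hD U)
  replace hc : c • rs (Mero.divMod D) (le_refl U) (genSec D g hgD) = oneSec D hD U := hc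
  rw [rs_self] at hc
  have hval : ∀ y : U, g.val.1 y = LocalizedModule.mk (X.presheaf.germ U y.1 y.2 c) 1 := by
    intro y
    have h1 := congrArg (fun t : Γ(Mero.divMod D, U) => t.1 y) hc
    change X.presheaf.germ U y.1 y.2 c • (g⁻¹ : (Γ(Mero.kmod X, U))ˣ).val.1 y = 1 at h1
    rw [Algebra.smul_def] at h1
    have h2 := congrArg (fun t => t * g.val.1 y) h1
    simp only [mul_assoc, one_mul] at h2
    rw [mul_comm _ (g.val.1 y), Groth.Agent.S5096.units_apply_mul_inv, mul_one, algebraMap_eq_mk] at h2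
    exact h2.symm
  have hcreg : c ∈ Mero.regSub X U := fun y =>
    mem_nonZeroDivisors_of_unit g y _ 1 (hval y)
  refine ⟨⟨U, hU⟩, hxU, e.inv.app U (genSec D g hgD), c, hcreg, hγ.of_iso e.symm, ?_, ?_⟩
  · rw [← hc, Scheme.Modules.Hom.app_smul]
  · intro y
    rw [hgD y, germOf]
    congr 1
    apply Units.ext
    rw [IsUnit.unit_spec, algebraMap_eq_mk]
    exact hval y


/-- Let X be an integral scheme, L an invertible O_X-module and D an effective Cartier divisor on X (a
global section of the sheaf of units of K_X modulo units of O_X whose germ at every point is the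
class of a germ of a regular function) such that O_X(D) is isomorphic to L. Then there is a nonzero
global section s of L, given as a nonzero morphism O_X → L, whose zero scheme Z(s) is D: around
every point of X, on some affine open neighbourhood, the ideal of Z(s) is generated by a regular
function whose classes are the germs of D there. (The published statement is for an irreducible
variety over an algebraically closed field; this row states it for an arbitrary integral scheme.) -/
theorem result (X : Scheme.{u}) [AlgebraicGeometry.IsIntegral X]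
    (L : X.Modules) (hL : PicF.IsInvertible L) (D : Mero.Divisor X) (hD : Mero.IsEffective D)
    (e : L ≅ Mero.divMod D) :
    ∃ s : Coh.structureModule X ⟶ L, s ≠ 0 ∧ Mero.IsDivOfIdeal D (PicF2.zeroScheme L s) := by
  obtain ⟨σ, hσ⟩ : ∃ σ : Γ(L, ⊤), σ = e.inv.app ⊤ (oneSec D hD ⊤) := ⟨_, rfl⟩
  obtain ⟨s, hs⟩ : ∃ s : Coh.structureModule X ⟶ L, s = ofSection σ := ⟨_, rfl⟩
  have hsec : sec s = σ := by rw [hs]; exact sec_ofSection σ
  have hsv : ∀ U : X.Opens, sv L s U = e.inv.app U (oneSec D hD U) := by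
    intro U
    rw [sv_eq, hsec, hσ, ← app_rs]
    rfl
  have key : ∀ x : X, ∃ (U : X.affineOpens) (_ : x ∈ U.1) (ε : Γ(L, U.1)) (c : Γ(X, U.1))
      (hc : c ∈ Mero.regSub X U.1), IsGen L U.1 ε ∧ sv L s U.1 = c • ε ∧
      ∀ y : U.1, D.1 y.1 =
        QuotientGroup.mk (IsLocalization.map_units (KStalk X y.1) (regGerm y ⟨c, hc⟩)).unit := by
    intro x
    obtain ⟨U, hxU, ε, c, hc, hε, h1, h2⟩ := exists_local hL D hD e x
    exact ⟨U, hxU, ε, c, hc, hε, (hsv U.1).trans h1, h2⟩
  refine ⟨s, ?_, ?_⟩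
  · intro h0
    obtain ⟨x⟩ : Nonempty X := inferInstance
    obtain ⟨U, hxU, ε, c, hc, hε, h1, -⟩ := key x
    have h2 : sv L s U.1 = 0 := by
      have h5 : sec s = 0 := by
        rw [h0]
        rfl
      rw [sv_eq, h5]
      exact map_zero (L.presheaf.map (homOfLE (le_top : U.1 ≤ ⊤)).op).hom
    have h3 : c = 0 := by
      apply (hε U.1 le_rfl).1
      change c • rs L (le_refl U.1) ε = (0 : Γ(X, U.1)) • rs L (le_refl U.1) ε
      rw [rs_self, zero_smul, ← h1, h2]
    have h4 := hc ⟨x, hxU⟩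
    rw [h3, map_zero] at h4
    exact zero_notMem_nonZeroDivisors h4
  · intro x
    obtain ⟨U, hxU, ε, c, hc, hε, h1, h2⟩ := key x
    exact ⟨U, hxU, c, hc, ideal_zeroScheme_eq_span L s hL U hε c h1, h2⟩

end Groth.Agent.S19458
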