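import Groth.Statements.S19459
import Groth.Agent.S19456

set_option autoImplicit false
universe u
open CategoryTheory CategoryTheory.Limits AlgebraicGeometry TopologicalSpace Opposite
open Mero

namespace Groth.Agent.S19459

open Mero Groth.Agent.Lib.H90Invertible Groth.Agent.Lib.MeroDiv82
  Groth.Agent.Lib.H78TensorGen Groth.Agent.Lib.QCohStalk Groth.Agent.Lib.H78SecCoord
  Groth.Agent.Lib.ZeroScheme82 Groth.Agent.Lib.H78SecTwist Groth.Agent.S19456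

variable {X : Scheme.{u}}

/-- the ideal of the zero scheme on a smaller affine open where the module is trivial -/
theorem span_coord_eq {L : X.Modules} (hL : PicF.IsInvertible L) (s : Coh.structureModule X ⟶ L)
    (U₁ U : X.affineOpens) (hUU₁ : U.1 ≤ U₁.1) (f : Γ(X, U₁.1))
    (hf : (PicF2.zeroScheme L s).ideal U₁ = Ideal.span {f}) {e : Γ(L, U.1)} (he : IsGen L U.1 e)
    (c : Γ(X, U.1)) (hc : sv L s U.1 = c • e) :
    Ideal.span {c} = Ideal.span {X.presheaf.map (homOfLE hUU₁).op f} := by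
  rw [← ideal_zeroScheme_eq_span L s hL U he c hc,
    ← (PicF2.zeroScheme L s).map_ideal (U := U) (V := U₁) hUU₁, hf, Ideal.map_span,
    Set.image_singleton]
  rfl


/-- Let X be an integral scheme, L₁ and L₂ invertible O_X-modules with nonzero global sections s₁ and s₂
(nonzero morphisms O_X → L₁ and O_X → L₂), and let D₁, D₂ be the effective Cartier divisors of the
zero schemes Z(s₁), Z(s₂): divisors on X (global sections of the sheaf of units of K_X modulo units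
of O_X) which around every point, on some affine open neighbourhood, are the class of a regular
function generating the ideal of the zero scheme. Then the divisor D₁ · D₂ (multiplicative notation
for the sum D₁ + D₂) is in the same sense the effective Cartier divisor of the zero scheme of the
global section s₁ ⊗ s₂ of the tensor product L₁ ⊗ L₂; that is, Z(s₁ ⊗ s₂) = Z(s₁) + Z(s₂). (The
published statement is for an irreducible variety over an algebraically closed field; this row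
states it for an arbitrary integral scheme.) -/
theorem result (X : Scheme.{u}) [AlgebraicGeometry.IsIntegral X]
    (L₁ L₂ : X.Modules) (hL₁ : PicF.IsInvertible L₁) (hL₂ : PicF.IsInvertible L₂)
    (s₁ : Coh.structureModule X ⟶ L₁) (s₂ : Coh.structureModule X ⟶ L₂) (hs₁ : s₁ ≠ 0) (hs₂ : s₂ ≠ 0)
    (D₁ D₂ : Mero.Divisor X) (hD₁ : Mero.IsDivOfIdeal D₁ (PicF2.zeroScheme L₁ s₁))
    (hD₂ : Mero.IsDivOfIdeal D₂ (PicF2.zeroScheme L₂ s₂)) :
    Mero.IsDivOfIdeal (D₁ * D₂) (PicF2.zeroScheme (CohB1.tensorMod L₁ L₂) (SecTwist.tmulHom s₁ s₂)) := by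
  intro x
  obtain ⟨U₁, hxU₁, f₁, hf₁, hI₁, hcl₁⟩ := hD₁ x
  obtain ⟨U₂, hxU₂, f₂, hf₂, hI₂, hcl₂⟩ := hD₂ x
  obtain ⟨V₁, hxV₁, E₁, hE₁⟩ := (isInvertible_iff_exists_isGen L₁).mp hL₁ x
  obtain ⟨V₂, hxV₂, E₂, hE₂⟩ := (isInvertible_iff_exists_isGen L₂).mp hL₂ x
  obtain ⟨_, ⟨U, hU, rfl⟩, hxU, hUsub⟩ :=
    X.isBasis_affineOpens.exists_subset_of_mem_open
      (show x ∈ ((U₁.1 ⊓ U₂.1) ⊓ (V₁ ⊓ V₂) : X.Opens) from ⟨⟨hxU₁, hxU₂⟩, hxV₁, hxV₂⟩)
      ((U₁.1 ⊓ U₂.1) ⊓ (V₁ ⊓ V₂) : X.Opens).2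
  have hUU₁ : U ≤ U₁.1 := fun z hz => (hUsub hz).1.1
  have hUU₂ : U ≤ U₂.1 := fun z hz => (hUsub hz).1.2
  have hUV₁ : U ≤ V₁ := fun z hz => (hUsub hz).2.1
  have hUV₂ : U ≤ V₂ := fun z hz => (hUsub hz).2.2
  have he₁ : IsGen L₁ U (rs L₁ hUV₁ E₁) := hE₁.mono hUV₁
  have he₂ : IsGen L₂ U (rs L₂ hUV₂ E₂) := hE₂.mono hUV₂
  obtain ⟨c₁, hc₁⟩ := exists_coord s₁ he₁
  obtain ⟨c₂, hc₂⟩ := exists_coord s₂ he₂
  set φ₁ : Γ(X, U) := X.presheaf.map (homOfLE hUU₁).op f₁ with hφ₁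
  set φ₂ : Γ(X, U) := X.presheaf.map (homOfLE hUU₂).op f₂ with hφ₂
  have hφ₁reg : φ₁ ∈ Mero.regSub X U := Mero.regSub_res (homOfLE hUU₁) hf₁
  have hφ₂reg : φ₂ ∈ Mero.regSub X U := Mero.regSub_res (homOfLE hUU₂) hf₂
  have hsp₁ : Ideal.span {c₁} = Ideal.span {φ₁} :=
    span_coord_eq hL₁ s₁ U₁ ⟨U, hU⟩ hUU₁ f₁ hI₁ he₁ c₁ hc₁
  have hsp₂ : Ideal.span {c₂} = Ideal.span {φ₂} :=
    span_coord_eq hL₂ s₂ U₂ ⟨U, hU⟩ hUU₂ f₂ hI₂ he₂ c₂ hc₂
  have hgen : IsGen (CohB1.tensorMod L₁ L₂) U (tmul (rs L₁ hUV₁ E₁) (rs L₂ hUV₂ E₂)) :=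
    isGen_tmul he₁ he₂
  have hsv : sv (CohB1.tensorMod L₁ L₂) (SecTwist.tmulHom s₁ s₂) U =
      (c₁ * c₂) • tmul (rs L₁ hUV₁ E₁) (rs L₂ hUV₂ E₂) := by
    have h1 : sv (CohB1.tensorMod L₁ L₂) (SecTwist.tmulHom s₁ s₂) U =
        tmul (sv L₁ s₁ U) (sv L₂ s₂ U) := SecTwist.val_tmulHom s₁ s₂ U
    rw [h1, hc₁, hc₂, smul_tmul, tmul_smul, smul_smul]
  refine ⟨⟨U, hU⟩, hxU, φ₁ * φ₂, Submonoid.mul_mem _ hφ₁reg hφ₂reg, ?_, ?_⟩
  · rw [ideal_zeroScheme_eq_span _ _ (isInvertible_tensorMod hL₁ hL₂) ⟨U, hU⟩ hgen (c₁ * c₂) hsv,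
      ← Ideal.span_singleton_mul_span_singleton, hsp₁, hsp₂,
      Ideal.span_singleton_mul_span_singleton]
  · intro y
    rw [Subgroup.coe_mul, Pi.mul_apply, hcl₁ ⟨y.1, hUU₁ y.2⟩, hcl₂ ⟨y.1, hUU₂ y.2⟩,
      ← QuotientGroup.mk_mul]
    congr 1
    apply Units.ext
    rw [Units.val_mul, IsUnit.unit_spec, IsUnit.unit_spec, IsUnit.unit_spec, ← map_mul]
    congr 1
    change X.presheaf.germ U₁.1 y.1 (hUU₁ y.2) f₁ * X.presheaf.germ U₂.1 y.1 (hUU₂ y.2) f₂ =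
      X.presheaf.germ U y.1 y.2 (φ₁ * φ₂)
    rw [map_mul, hφ₁, hφ₂, TopCat.Presheaf.germ_res_apply, TopCat.Presheaf.germ_res_apply]

end Groth.Agent.S19459
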