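import Groth.Statements.S19460
import Groth.Agent.Lib.H87CotSmoothSch
import Groth.Agent.Lib.H87FirstSeqSmooth2
import Groth.Agent.Lib.H87IrrCompDim
import Groth.Agent.Lib.OmegaDer81J
import Groth.Agent.Lib.H56FibDimGen
import Groth.Agent.Lib.H56FibDimSup
import Groth.Agent.S12422

set_option autoImplicit false
universe u
open CategoryTheory CategoryTheory.Limits AlgebraicGeometry
open Variety

namespace Groth.Agent.S19460

/-- Let k be an algebraically closed field, X and Y smooth irreducible varieties over k (integral,
separated, of finite type and smooth over k) of dimensions dX and dY, and f : X → Y a k-morphism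
which is smooth in the sense that at every closed point x of X the tangent map T_x X → T_{f(x)} Y is
surjective, equivalently the cotangent map m_{f(x)}/m_{f(x)}² → m_x/m_x² of the local rings is
injective. Then f is dominant, dY ≤ dX, and for every closed point y of Y in the image of f the
scheme-theoretic fibre X_y is smooth over the residue field κ(y) (which is k) and each of its
irreducible components has dimension dX − dY. (The published statement is for varieties in the
classical sense, with the fibre carrying its reduced structure, and it also identifies the tangent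
space of the fibre at each point with the kernel of the tangent map; that identification is not part
of this row.) -/
theorem result (k : Type u) [Field k] [IsAlgClosed k]
    {X Y : Scheme.{u}} (qX : X ⟶ Spec (CommRingCat.of k)) (qY : Y ⟶ Spec (CommRingCat.of k))
    [AlgebraicGeometry.IsIntegral X] [IsSeparated qX] [LocallyOfFiniteType qX] [QuasiCompact qX] [Smooth qX]
    [AlgebraicGeometry.IsIntegral Y] [IsSeparated qY] [LocallyOfFiniteType qY] [QuasiCompact qY] [Smooth qY]
    (f : X ⟶ Y) (hf : f ≫ qY = qX) (dX dY : ℕ) (hX : topologicalKrullDim ↥X = dX)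
    (hY : topologicalKrullDim ↥Y = dY)
    (hT : ∀ x : X, IsClosed ({x} : Set ↥X) → Function.Injective (FixPt.cotangentMapAt f x (f.base x) rfl)) :
    DenseRange f.base ∧ dY ≤ dX ∧
      ∀ y : Y, IsClosed ({y} : Set ↥Y) → y ∈ Set.range f.base →
        Smooth (f.fiberToSpecResidueField y) ∧
          ∀ Z ∈ irreducibleComponents ↥(f.fiber y),
            topologicalKrullDim ↥Z = ((dX - dY : ℕ) : WithBot ℕ∞) := by
  subst hf
  haveI : QuasiSeparated qY := inferInstance
  haveI : QuasiSeparated (f ≫ qY) := inferInstance
  haveI : QuasiSeparated f := QuasiSeparated.of_comp f qY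
  have hdXY := Groth.Agent.Lib.OmegaDer81.isUniversal_dOmega f
  have hdY := Groth.Agent.Lib.OmegaDer81.isUniversal_dOmega qY
  have hdX := Groth.Agent.Lib.OmegaDer81.isUniversal_dOmega (f ≫ qY)
  -- ranks of `Ω_{X/k}` and `Ω_{Y/k}`
  have hrX : FlatMod.IsFinLocFreeOfRank dX (Omega.sheaf (f ≫ qY)) := by
    letI : X.Over (Spec (CommRingCat.of k)) := ⟨f ≫ qY⟩
    haveI : LocallyOfFiniteType (X ↘ Spec (CommRingCat.of k)) :=
      (inferInstance : LocallyOfFiniteType (f ≫ qY))
    intro x
    obtain ⟨U, m, hxU, hiso, hm⟩ := Groth.Agent.Lib.H87SmoothRank.exists_free_omega_of_smooth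
      (f ≫ qY) _ (OmegaSh.dOmega (f ≫ qY)) hdX x
    have h1 := Groth.Agent.S12422.fibreDimAt_over_field k X x
    have h2 := Groth.Agent.Lib.H56LocDim.localDim_eq_dim_of_irreducible k X x
    change FlatMor.fibreDimAt (f ≫ qY) x = _ at h1
    rw [h1, h2, hX] at hm
    have hnm : dX = m := by exact_mod_cast hm
    subst hnm
    exact ⟨U, hxU, hiso⟩
  have hrY : FlatMod.IsFinLocFreeOfRank dY (Omega.sheaf qY) := by
    letI : Y.Over (Spec (CommRingCat.of k)) := ⟨qY⟩
    haveI : LocallyOfFiniteType (Y ↘ Spec (CommRingCat.of k)) :=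
      (inferInstance : LocallyOfFiniteType qY)
    intro y
    obtain ⟨U, m, hyU, hiso, hm⟩ := Groth.Agent.Lib.H87SmoothRank.exists_free_omega_of_smooth
      qY _ (OmegaSh.dOmega qY) hdY y
    have h1 := Groth.Agent.S12422.fibreDimAt_over_field k Y y
    have h2 := Groth.Agent.Lib.H56LocDim.localDim_eq_dim_of_irreducible k Y y
    change FlatMor.fibreDimAt qY y = _ at h1
    rw [h1, h2, hY] at hm
    have hnm : dY = m := by exact_mod_cast hm
    subst hnm
    exact ⟨U, hyU, hiso⟩
  -- `f` is smooth
  haveI hsm : Smooth f :=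
    (Groth.Agent.Lib.H87CotSmoothSch.smooth_iff_forall_cotangentMapAt_injective k f qY).mpr hT
  have hfib : ∀ x : X, FlatMor.fibreDimAt f x = ((dX - dY : ℕ) : WithBot ℕ∞) ∧ dY ≤ dX := by
    intro x
    obtain ⟨m, hm, hnm⟩ := Groth.Agent.Lib.H87FirstSeqSmooth.fibreDimAt_add_eq_of_smooth f qY
      (OmegaSh.dOmega qY) (OmegaSh.dOmega (f ≫ qY)) (OmegaSh.dOmega f) hdY hdX hdXY hrY hrX x
    have : dX - dY = m := by omega
    rw [hm, this]
    exact ⟨rfl, by omega⟩
  haveI : Nonempty X := inferInstance
  obtain ⟨x₀⟩ := ‹Nonempty X›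
  refine ⟨?_, (hfib x₀).2, ?_⟩
  · -- dominant
    haveI : LocallyOfFinitePresentation f := inferInstance
    haveI : Flat f := inferInstance
    have hopen : IsOpen (Set.range f.base) := f.isOpenMap.isOpen_range
    exact hopen.dense ⟨f.base x₀, x₀, rfl⟩
  · intro y _ _
    refine ⟨?_, ?_⟩
    · unfold Scheme.Hom.fiberToSpecResidueField
      exact MorphismProperty.pullback_snd (P := @Smooth) f _ inferInstance
    · intro Z hZ
      letI : (f.fiber y).Over (Spec (CommRingCat.of (Y.residueField y))) :=
        ⟨f.fiberToSpecResidueField y⟩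
      haveI : LocallyOfFiniteType (f.fiber y ↘ Spec (CommRingCat.of (Y.residueField y))) := by
        change LocallyOfFiniteType (f.fiberToSpecResidueField y)
        unfold Scheme.Hom.fiberToSpecResidueField
        exact MorphismProperty.pullback_snd (P := @LocallyOfFiniteType) f _ inferInstance
      obtain ⟨η, -, hη⟩ := Groth.Agent.Lib.H87IrrCompDim.exists_mem_dim_eq_localDim
        (Y.residueField y) (f.fiber y) Z hZ
      rw [hη, Groth.Agent.Lib.H56LocDim.localDim_fiber_eq' f y η]
      exact (hfib _).1

end Groth.Agent.S19460
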