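import Groth.Statements.S19461
import Mathlib
import Groth.Agent.Lib.WeaklyEtale

set_option autoImplicit false
universe u
open CAlg

namespace Groth.Agent.S19461

/-- The implication from isomorphic completions to flat and unramified. Let A → B be a local
homomorphism of Noetherian local rings and ψ a ring map from the completion of A at its maximal
ideal to that of B whose composite with A → A^ is A → B → B^. If ψ is bijective, then A → B is flat
and the maximal ideal of A generates the maximal ideal of B. (The published statement is the
implication, for a morphism of algebraic varieties over an algebraically closed field, from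
isomorphic induced maps of completed local rings at every point to flat and unramified; its proof is
this local-ring argument, valid for any Noetherian local rings. The converse implication is a
separate result.) -/
theorem result (A B : Type u) [CommRing A]
    [CommRing B] [IsLocalRing A] [IsLocalRing B] [IsNoetherianRing A] [IsNoetherianRing B]
    [Algebra A B] [IsLocalHom (algebraMap A B)]
    (ψ : AdicCompletion (IsLocalRing.maximalIdeal A) A →+* AdicCompletion (IsLocalRing.maximalIdeal B) B)
    (hψ : ψ.comp (algebraMap A (AdicCompletion (IsLocalRing.maximalIdeal A) A)) =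
      (algebraMap B (AdicCompletion (IsLocalRing.maximalIdeal B) B)).comp (algebraMap A B))
    (hbij : Function.Bijective ψ) :
    Module.Flat A B ∧
      Ideal.map (algebraMap A B) (IsLocalRing.maximalIdeal A) = IsLocalRing.maximalIdeal B := by
  -- notation
  let A' := AdicCompletion (IsLocalRing.maximalIdeal A) A
  let B' := AdicCompletion (IsLocalRing.maximalIdeal B) B
  -- `B → B^` is faithfully flat
  have : Module.FaithfullyFlat B B' := Module.FaithfullyFlat.of_flat_of_isLocalHom
  -- `B^` as an `A`-algebra through `B`
  have hAB' : algebraMap A B' = (algebraMap B B').comp (algebraMap A B) := rfl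
  have : IsScalarTower A B B' := IsScalarTower.of_algebraMap_eq fun _ => rfl
  -- `ψ` is an `A`-linear isomorphism `A^ ≃ B^`
  let e : A' ≃ₗ[A] B' :=
    { (RingEquiv.ofBijective ψ hbij).toAddEquiv with
      map_smul' := by
        intro a x
        show ψ (a • x) = a • ψ x
        rw [Algebra.smul_def, Algebra.smul_def, map_mul]
        congr 1
        exact congrArg (fun φ : A →+* B' => φ a) hψ }
  have : Module.Flat A B' := Module.Flat.of_linearEquiv e.symm
  refine ⟨Groth.Agent.Lib.WeaklyEtale.flat_of_flat_of_faithfullyFlat A B B', ?_⟩
  -- the maximal ideal
  have hmax : (Ideal.map ψ (IsLocalRing.maximalIdeal A')).IsMaximal :=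
    (Ideal.isMaximal_map_iff_of_bijective ψ hbij).2 (IsLocalRing.maximalIdeal.isMaximal A')
  have key : Ideal.map (algebraMap B B') (Ideal.map (algebraMap A B) (IsLocalRing.maximalIdeal A)) =
      Ideal.map (algebraMap B B') (IsLocalRing.maximalIdeal B) := by
    rw [Ideal.map_map, ← hψ, ← Ideal.map_map, ← AdicCompletion.maximalIdeal_eq_map,
      ← AdicCompletion.maximalIdeal_eq_map]
    exact IsLocalRing.eq_maximalIdeal hmax
  calc Ideal.map (algebraMap A B) (IsLocalRing.maximalIdeal A)
      = Ideal.comap (algebraMap B B') (Ideal.map (algebraMap B B')
          (Ideal.map (algebraMap A B) (IsLocalRing.maximalIdeal A))) :=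
        (Ideal.comap_map_eq_self_of_faithfullyFlat (B := B') _).symm
    _ = Ideal.comap (algebraMap B B') (Ideal.map (algebraMap B B') (IsLocalRing.maximalIdeal B)) := by
        rw [key]
    _ = IsLocalRing.maximalIdeal B := Ideal.comap_map_eq_self_of_faithfullyFlat (B := B') _

end Groth.Agent.S19461
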