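import Mathlib
import Groth.Statements.S19462

set_option autoImplicit false
universe u
open GrNak

namespace Groth.Agent.S19462

section Helpers

set_option linter.unusedSectionVars false

open DirectSum

variable {R : Type u} [CommRing R]
    {σ : Type u} [SetLike σ R] [AddSubmonoidClass σ R] (𝒜 : ℤ → σ) [GradedRing 𝒜]
    {M : Type u} [AddCommGroup M] [Module R M]
    {τ : Type u} [SetLike τ M] [AddSubmonoidClass τ M] (ℳ : ℤ → τ) [DirectSum.Decomposition ℳ]
    [SetLike.GradedSMul 𝒜 ℳ]

/-- degree `d` component -/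
noncomputable def pM (d : ℤ) (x : M) : M := (decompose ℳ x d : M)

theorem pM_mem (d : ℤ) (x : M) : pM ℳ d x ∈ ℳ d := (decompose ℳ x d).2

theorem pM_add (d : ℤ) (x y : M) : pM ℳ d (x + y) = pM ℳ d x + pM ℳ d y := by
  simp [pM, decompose_add]

theorem pM_zero (d : ℤ) : pM ℳ d (0 : M) = 0 := by
  simp [pM]

theorem pM_of_mem {e : ℤ} {x : M} (hx : x ∈ ℳ e) (d : ℤ) :
    pM ℳ d x = if d = e then x else 0 := by
  split_ifs with h
  · subst h; exact decompose_of_mem_same ℳ hx
  · exact decompose_of_mem_ne ℳ hx (Ne.symm h)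

theorem smul_mem_add {a : R} {x : M} {i j : ℤ} (ha : a ∈ 𝒜 i) (hx : x ∈ ℳ j) :
    a • x ∈ ℳ (i + j) := by
  have h : a • x ∈ ℳ (i +ᵥ j) := SetLike.GradedSMul.smul_mem ha hx
  simpa [vadd_eq_add] using h

/-- P5 -/
theorem pM_smul_of_mem {a : R} {j : ℤ} (ha : a ∈ 𝒜 j) (x : M) (d : ℤ) :
    pM ℳ d (a • x) = a • pM ℳ (d - j) x := by
  induction x using DirectSum.Decomposition.inductionOn ℳ with
  | zero => simp [pM_zero]
  | @homogeneous e y =>
    rw [pM_of_mem ℳ (smul_mem_add 𝒜 ℳ ha y.2), pM_of_mem ℳ y.2]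
    by_cases h : d = j + e
    · rw [if_pos h, if_pos (by omega)]
    · rw [if_neg h, if_neg (by omega), smul_zero]
  | add x y hx hy =>
    rw [smul_add, pM_add, hx, hy, pM_add, smul_add]

theorem sum_pM (x : M) : ∃ t : Finset ℤ, x = ∑ d ∈ t, pM ℳ d x := by
  classical
  exact ⟨(decompose ℳ x).support, (sum_support_decompose ℳ x).symm⟩

/-- the irrelevant ideal -/
def irr : Ideal R := Ideal.span {a | ∃ i : ℤ, 0 < i ∧ a ∈ 𝒜 i}

/-- bounded below -/
theorem exists_bound [Module.Finite R M] (hneg : ∀ i : ℤ, i < 0 → ∀ x ∈ 𝒜 i, x = 0) :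
    ∃ d₀ : ℤ, ∀ i < d₀, ∀ x ∈ ℳ i, x = 0 := by
  classical
  obtain ⟨F, hF⟩ := (Module.finite_def (R := R) (M := M)).mp inferInstance
  -- lower bound of all degrees occurring
  let D : Finset ℤ := F.biUnion (fun f => (decompose ℳ f).support)
  obtain ⟨d₀, hd₀⟩ : ∃ d₀ : ℤ, ∀ d ∈ D, d₀ ≤ d := by
    obtain ⟨b, hb⟩ := (D : Set ℤ).toFinite.bddBelow
    exact ⟨b, fun d hd => hb hd⟩
  refine ⟨d₀, ?_⟩
  have key : ∀ x : M, ∀ i < d₀, pM ℳ i x = 0 := by
    intro x
    have hx : x ∈ Submodule.span R (F : Set M) := by rw [hF]; trivial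
    induction hx using Submodule.span_induction with
    | mem f hf =>
      intro i hi
      by_contra hne
      have : i ∈ D := by
        rw [Finset.mem_biUnion]
        refine ⟨f, hf, ?_⟩
        rw [DFinsupp.mem_support_iff]
        intro h0
        apply hne
        rw [pM, h0]; rfl
      have := hd₀ i this
      omega
    | zero => intro i _; exact pM_zero ℳ i
    | add x y _ _ hx hy =>
      intro i hi
      rw [pM_add, hx i hi, hy i hi, add_zero]
    | smul a x _ hx =>
      intro i hi
      induction a using DirectSum.Decomposition.inductionOn 𝒜 with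
      | zero => rw [zero_smul, pM_zero]
      | @homogeneous j b =>
        by_cases hj : j < 0
        · rw [hneg j hj b b.2, zero_smul, pM_zero]
        · rw [pM_smul_of_mem 𝒜 ℳ b.2, hx (i - j) (by omega), smul_zero]
      | add a b ha hb => rw [add_smul, pM_add, ha, hb, add_zero]
  intro i hi x hx
  have := key x i hi
  rwa [pM_of_mem ℳ hx, if_pos rfl] at this

/-- graded Nakayama -/
theorem eq_top_of_sup_smul_eq_top [Module.Finite R M]
    (hneg : ∀ i : ℤ, i < 0 → ∀ x ∈ 𝒜 i, x = 0) (N : Submodule R M)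
    (hN : ∀ x ∈ N, ∀ d, pM ℳ d x ∈ N) (hsup : N ⊔ irr 𝒜 • (⊤ : Submodule R M) = ⊤) : N = ⊤ := by
  obtain ⟨d₀, hd₀⟩ := exists_bound 𝒜 ℳ hneg
  have key : ∀ n : ℕ, ∀ d : ℤ, d < d₀ + n → ∀ x ∈ ℳ d, x ∈ N := by
    intro n
    induction n with
    | zero =>
      intro d hd x hx
      rw [hd₀ d (by simpa using hd) x hx]
      exact N.zero_mem
    | succ n ih =>
      intro d hd x hx
      have hsm : ∀ a ∈ irr 𝒜, ∀ w : M, pM ℳ d (a • w) ∈ N := by
        intro a ha
        induction ha using Submodule.span_induction with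
        | mem g hg =>
          obtain ⟨i, hi, hgi⟩ := hg
          intro w
          rw [pM_smul_of_mem 𝒜 ℳ hgi]
          apply N.smul_mem
          apply ih (d - i) _ _ (pM_mem ℳ _ _)
          push_cast at hd
          omega
        | zero => intro w; rw [zero_smul, pM_zero]; exact N.zero_mem
        | add a b _ _ ha hb =>
          intro w
          rw [add_smul, pM_add]
          exact N.add_mem (ha w) (hb w)
        | smul r a _ ha =>
          intro w
          rw [smul_eq_mul, mul_comm, mul_smul]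
          exact ha (r • w)
      have hz : ∀ z ∈ irr 𝒜 • (⊤ : Submodule R M), pM ℳ d z ∈ N := by
        intro z hz
        refine Submodule.smul_induction_on hz (fun a ha w _ => hsm a ha w) ?_
        intro z w hz hw
        rw [pM_add]; exact N.add_mem hz hw
      have hxtop : x ∈ N ⊔ irr 𝒜 • (⊤ : Submodule R M) := by rw [hsup]; trivial
      obtain ⟨y, hy, z, hz', rfl⟩ := Submodule.mem_sup.mp hxtop
      have h1 := pM_of_mem ℳ hx d
      rw [if_pos rfl, pM_add] at h1
      rw [← h1]
      exact N.add_mem (hN y hy d) (hz z hz')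
  rw [eq_top_iff]
  intro x _
  obtain ⟨t, ht⟩ := sum_pM ℳ x
  rw [ht]
  refine N.sum_mem (fun d _ => ?_)
  refine key (d - d₀ + 1).toNat d ?_ _ (pM_mem ℳ d x)
  have : ((d - d₀ + 1).toNat : ℤ) = max (d - d₀ + 1) 0 := Int.toNat_eq_max _
  omega

include 𝒜 in
/-- the span of homogeneous elements is graded -/
theorem pM_mem_span {ι : Type*} (e : ι → M) (he : ∀ i, SetLike.IsHomogeneousElem ℳ (e i))
    (x : M) (hx : x ∈ Submodule.span R (Set.range e)) (d : ℤ) :
    pM ℳ d x ∈ Submodule.span R (Set.range e) := by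
  induction hx using Submodule.span_induction generalizing d with
  | mem y hy =>
    obtain ⟨i, rfl⟩ := hy
    obtain ⟨j, hj⟩ := he i
    rw [pM_of_mem ℳ hj]
    split_ifs
    · exact Submodule.subset_span ⟨i, rfl⟩
    · exact Submodule.zero_mem _
  | zero => rw [pM_zero]; exact Submodule.zero_mem _
  | add x y _ _ hx hy => rw [pM_add]; exact Submodule.add_mem _ (hx d) (hy d)
  | smul a x _ hx =>
    induction a using DirectSum.Decomposition.inductionOn 𝒜 generalizing d with
    | zero => rw [zero_smul, pM_zero]; exact Submodule.zero_mem _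
    | @homogeneous j b =>
      rw [pM_smul_of_mem 𝒜 ℳ b.2]
      exact Submodule.smul_mem _ _ (hx _)
    | add a b ha hb => rw [add_smul, pM_add]; exact Submodule.add_mem _ (ha d) (hb d)

theorem pM_eq_zero_of_mem_irr_pow (hneg : ∀ i : ℤ, i < 0 → ∀ x ∈ 𝒜 i, x = 0) (j : ℕ) :
    ∀ a ∈ irr 𝒜 ^ j, ∀ i : ℤ, i < j → pM 𝒜 i a = 0 := by
  induction j with
  | zero =>
    intro a _ i hi
    exact hneg i (by simpa using hi) _ (pM_mem 𝒜 i a)
  | succ j ih =>
    intro a ha i hi
    rw [pow_succ] at ha
    refine Submodule.mul_induction_on ha ?_ ?_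
    · intro b hb g hg
      induction hg using Submodule.span_induction generalizing b with
      | mem g hg =>
        obtain ⟨l, hl, hgl⟩ := hg
        rw [mul_comm, ← smul_eq_mul, pM_smul_of_mem 𝒜 𝒜 hgl, ih b hb (i - l), smul_zero]
        push_cast at hi
        omega
      | zero => rw [mul_zero, pM_zero]
      | add g g' _ _ hg hg' => rw [mul_add, pM_add, hg b hb, hg' b hb, add_zero]
      | smul r g _ hg =>
        rw [smul_eq_mul, ← mul_assoc]
        exact hg (b * r) (Ideal.mul_mem_right _ _ hb)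
    · intro x y hx hy
      rw [pM_add, hx, hy, add_zero]

theorem iInf_irr_pow (hneg : ∀ i : ℤ, i < 0 → ∀ x ∈ 𝒜 i, x = 0) (a : R)
    (ha : ∀ j : ℕ, a ∈ irr 𝒜 ^ j) : a = 0 := by
  obtain ⟨t, ht⟩ := sum_pM 𝒜 a
  rw [ht]
  apply Finset.sum_eq_zero
  intro d _
  refine pM_eq_zero_of_mem_irr_pow 𝒜 hneg (d.toNat + 1) a (ha _) d ?_
  have : ((d.toNat : ℕ) : ℤ) = max d 0 := Int.toNat_eq_max _
  push_cast
  omega

theorem exists_sub_mem_irr {k : Type u} [Field k] [Algebra k R]
    (hneg : ∀ i : ℤ, i < 0 → ∀ x ∈ 𝒜 i, x = 0)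
    (h0 : ∀ x ∈ 𝒜 0, ∃ c : k, algebraMap k R c = x) (a : R) :
    ∃ c : k, a - algebraMap k R c ∈ irr 𝒜 := by
  induction a using DirectSum.Decomposition.inductionOn 𝒜 with
  | zero => exact ⟨0, by simp⟩
  | @homogeneous i b =>
    rcases lt_trichotomy i 0 with hi | hi | hi
    · refine ⟨0, ?_⟩
      rw [hneg i hi b b.2]; simp
    · subst hi
      obtain ⟨c, hc⟩ := h0 b b.2
      exact ⟨c, by rw [hc, sub_self]; exact Ideal.zero_mem _⟩
    · refine ⟨0, ?_⟩
      rw [map_zero, sub_zero]
      exact Ideal.subset_span ⟨i, hi, b.2⟩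
  | add a b ha hb =>
    obtain ⟨c, hc⟩ := ha
    obtain ⟨c', hc'⟩ := hb
    refine ⟨c + c', ?_⟩
    have : a + b - algebraMap k R (c + c') = (a - algebraMap k R c) + (b - algebraMap k R c') := by
      rw [map_add]; ring
    rw [this]
    exact Ideal.add_mem _ hc hc'

theorem one_notMem_irr [Nontrivial R] (hneg : ∀ i : ℤ, i < 0 → ∀ x ∈ 𝒜 i, x = 0) :
    (1 : R) ∉ irr 𝒜 := by
  intro h
  have h1 := pM_eq_zero_of_mem_irr_pow 𝒜 hneg 1 1 (by rwa [pow_one]) 0 (by norm_num)
  rw [pM_of_mem 𝒜 (SetLike.GradedOne.one_mem : (1 : R) ∈ 𝒜 0), if_pos rfl] at h1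
  exact one_ne_zero h1

theorem irr_isMaximal {k : Type u} [Field k] [Algebra k R] [Nontrivial R]
    (hneg : ∀ i : ℤ, i < 0 → ∀ x ∈ 𝒜 i, x = 0)
    (h0 : ∀ x ∈ 𝒜 0, ∃ c : k, algebraMap k R c = x) : (irr 𝒜).IsMaximal := by
  rw [Ideal.isMaximal_iff]
  refine ⟨one_notMem_irr 𝒜 hneg, ?_⟩
  intro J x hle hx hxJ
  obtain ⟨c, hc⟩ := exists_sub_mem_irr 𝒜 hneg h0 x
  have hc0 : c ≠ 0 := by
    rintro rfl
    rw [map_zero, sub_zero] at hc
    exact hx hc
  have hcJ : algebraMap k R c ∈ J := by
    have : algebraMap k R c = x - (x - algebraMap k R c) := by ring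
    rw [this]
    exact J.sub_mem hxJ (hle hc)
  have : (1 : R) = algebraMap k R c⁻¹ * algebraMap k R c := by
    rw [← map_mul, inv_mul_cancel₀ hc0, map_one]
  rw [this]
  exact J.mul_mem_left _ hcJ

/-- Step 5: abstract independence from projectivity -/
theorem linearIndependent_of_projective {R : Type u} [CommRing R] {M : Type u} [AddCommGroup M]
    [Module R M] [Module.Projective R M] (m : Ideal R) (hm : ∀ a : R, (∀ j : ℕ, a ∈ m ^ j) → a = 0)
    {ι : Type u} (e : ι → M) (hspan : Submodule.span R (Set.range e) = ⊤)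
    (hrel : ∀ c : ι →₀ R, Finsupp.linearCombination R e c ∈ m • (⊤ : Submodule R M) →
      ∀ i, c i ∈ m) : LinearIndependent R e := by
  classical
  set π := Finsupp.linearCombination R e with hπ
  have hsurj : Function.Surjective π := by
    rw [← LinearMap.range_eq_top, hπ, Finsupp.range_linearCombination, hspan]
  obtain ⟨s, hs⟩ := Module.projective_lifting_property π LinearMap.id hsurj
  have hs' : ∀ x, π (s x) = x := fun x => LinearMap.congr_fun hs x
  let q : (ι →₀ R) →ₗ[R] (ι →₀ R) := LinearMap.id - s ∘ₗ π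
  have hq : ∀ f, q f = f - s (π f) := fun f => rfl
  have hπq : ∀ f, π (q f) = 0 := by
    intro f
    rw [hq, map_sub, hs', sub_self]
  have hq1 : ∀ f i, (q f) i ∈ m := by
    intro f i
    apply hrel (q f)
    rw [hπq]
    exact Submodule.zero_mem _
  have hqq : ∀ f, q (q f) = q f := by
    intro f
    rw [hq (q f), hπq, map_zero, sub_zero]
  have hstep : ∀ (I : Ideal R) (g : ι →₀ R), (∀ i, g i ∈ I) → ∀ l, (q g) l ∈ I * m := by
    intro I g hg l
    have hdec : g = ∑ i ∈ g.support, g i • Finsupp.single i (1 : R) := by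
      conv_lhs => rw [← Finsupp.sum_single g, Finsupp.sum]
      apply Finset.sum_congr rfl
      intro i _
      rw [Finsupp.smul_single_one]
    rw [hdec, map_sum, Finsupp.finsetSum_apply]
    refine Ideal.sum_mem _ (fun i _ => ?_)
    rw [map_smul, Finsupp.smul_apply, smul_eq_mul]
    exact Ideal.mul_mem_mul (hg i) (hq1 _ l)
  have hqj : ∀ j : ℕ, ∀ f i, (q f) i ∈ m ^ (j + 1) := by
    intro j
    induction j with
    | zero => intro f i; rw [zero_add, pow_one]; exact hq1 f i
    | succ j ih =>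
      intro f i
      rw [← hqq, pow_succ]
      exact hstep _ (q f) (ih f) i
  have hq0 : ∀ f, q f = 0 := by
    intro f
    ext i
    rw [Finsupp.zero_apply]
    apply hm
    intro j
    cases j with
    | zero => rw [pow_zero, Ideal.one_eq_top]; trivial
    | succ j => exact hqj j f i
  rw [linearIndependent_iff]
  intro l hl
  have := hq0 l
  rw [hq, ← hπ] at *
  rw [hl, map_zero, sub_zero] at this
  exact this

/-- Step 4: choose a family from a generating set `H`, a basis modulo the maximal ideal `m` -/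
theorem exists_family {R : Type u} [CommRing R] {M : Type u} [AddCommGroup M]
    [Module R M] (m : Ideal R) [hmax : m.IsMaximal] (H : Set M)
    (hH : Submodule.span R H = ⊤) :
    ∃ (ι : Type u) (e : ι → M), (∀ i, e i ∈ H) ∧
      Submodule.span R (Set.range e) ⊔ m • (⊤ : Submodule R M) = ⊤ ∧
      ∀ c : ι →₀ R, Finsupp.linearCombination R e c ∈ m • (⊤ : Submodule R M) →
        ∀ i, c i ∈ m := by
  classical
  let _ := Ideal.Quotient.field m
  set P : Submodule R M := m • (⊤ : Submodule R M) with hP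
  set S : Set (M ⧸ P) := P.mkQ '' H with hS
  have hsurjK : Function.Surjective (algebraMap R (R ⧸ m)) := Ideal.Quotient.mk_surjective
  have hSspan : Submodule.span (R ⧸ m) S = ⊤ := by
    have h1 : Submodule.span R S = ⊤ := by
      rw [hS, ← Submodule.map_span, hH, Submodule.map_top, Submodule.range_mkQ]
    have h2 := Submodule.restrictScalars_span R (R ⧸ m) hsurjK S
    rw [h1] at h2
    rw [eq_top_iff]
    intro x _
    have : x ∈ Submodule.restrictScalars R (Submodule.span (R ⧸ m) S) := by rw [h2]; trivial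
    exact this
  obtain ⟨b, hbS, hbspan, hbli⟩ := exists_linearIndependent (R ⧸ m) S
  rw [hSspan] at hbspan
  have hex : ∀ v : b, ∃ x ∈ H, P.mkQ x = (v : M ⧸ P) := fun v => hbS v.2
  choose e he1 he2 using hex
  refine ⟨b, e, he1, ?_, ?_⟩
  · rw [sup_comm, ← Submodule.map_mkQ_eq_top, Submodule.map_span]
    have himg : P.mkQ '' Set.range e = b := by
      ext v
      constructor
      · rintro ⟨x, ⟨w, rfl⟩, rfl⟩
        rw [he2]; exact w.2
      · intro hv
        exact ⟨e ⟨v, hv⟩, ⟨⟨v, hv⟩, rfl⟩, he2 ⟨v, hv⟩⟩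
    rw [himg, ← Submodule.restrictScalars_span R (R ⧸ m) hsurjK b, hbspan]
    rfl
  · intro c hc i
    have h0 : P.mkQ (Finsupp.linearCombination R e c) = 0 := by
      rw [Submodule.mkQ_apply, Submodule.Quotient.mk_eq_zero]; exact hc
    rw [Finsupp.linearCombination_apply, Finsupp.sum, map_sum] at h0
    have h1 : ∑ v ∈ c.support, (Ideal.Quotient.mk m (c v)) • ((v : b) : M ⧸ P) = 0 := by
      rw [← h0]
      apply Finset.sum_congr rfl
      intro v _
      rw [map_smul, he2, ← Ideal.Quotient.algebraMap_eq, algebraMap_smul]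
    have h2 := (linearIndependent_iff'.mp hbli) c.support (fun v => Ideal.Quotient.mk m (c v)) h1
    by_cases hi : i ∈ c.support
    · exact Ideal.Quotient.eq_zero_iff_mem.mp (h2 i hi)
    · rw [Finsupp.notMem_support_iff.mp hi]; exact m.zero_mem

end Helpers

/-- Let k be a field and R a commutative ℤ-graded k-algebra whose pieces of negative degree vanish and
whose degree-zero piece is the image of k, and let M be a finitely generated ℤ-graded R-module,
graded compatibly with R. Then M is a projective R-module if and only if M has an R-basis consisting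
of homogeneous elements, i.e. M is a free graded module. (The published statement takes R a graded
quotient of a polynomial ring k[x_0, …, x_n] with its standard grading; stated here for any
commutative graded k-algebra concentrated in non-negative degrees with degree-zero part k, to which
the same graded-Nakayama argument applies.) -/
theorem result {k : Type u} [Field k] {R : Type u} [CommRing R] [Algebra k R]
    {σ : Type u} [SetLike σ R] [AddSubmonoidClass σ R] (𝒜 : ℤ → σ) [GradedRing 𝒜]
    (hneg : ∀ i : ℤ, i < 0 → ∀ x ∈ 𝒜 i, x = 0)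
    (hk : ∀ c : k, algebraMap k R c ∈ 𝒜 0) (h0 : ∀ x ∈ 𝒜 0, ∃ c : k, algebraMap k R c = x)
    {M : Type u} [AddCommGroup M] [Module R M] [Module.Finite R M]
    {τ : Type u} [SetLike τ M] [AddSubmonoidClass τ M] (ℳ : ℤ → τ) [DirectSum.Decomposition ℳ]
    [SetLike.GradedSMul 𝒜 ℳ] :
    Module.Projective R M ↔
      ∃ (ι : Type u) (b : Module.Basis ι R M), ∀ i : ι, SetLike.IsHomogeneousElem ℳ (b i) := by
  constructor
  · intro hproj
    rcases subsingleton_or_nontrivial R with hR | hR
    · have : Subsingleton M := Module.subsingleton R M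
      exact ⟨PEmpty, Module.Basis.empty M, fun i => i.elim⟩
    · have := irr_isMaximal 𝒜 hneg h0
      have hH : Submodule.span R {x | SetLike.IsHomogeneousElem ℳ x} = ⊤ := by
        rw [eq_top_iff]
        intro x _
        obtain ⟨t, ht⟩ := sum_pM ℳ x
        rw [ht]
        exact Submodule.sum_mem _ (fun d _ => Submodule.subset_span ⟨d, pM_mem ℳ d x⟩)
      obtain ⟨ι, e, he, hsup, hrel⟩ :=
        exists_family (irr 𝒜) {x | SetLike.IsHomogeneousElem ℳ x} hH
      have hspan : Submodule.span R (Set.range e) = ⊤ :=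
        eq_top_of_sup_smul_eq_top 𝒜 ℳ hneg _ (pM_mem_span 𝒜 ℳ e he) hsup
      have hli := linearIndependent_of_projective (irr 𝒜) (iInf_irr_pow 𝒜 hneg) e hspan hrel
      refine ⟨ι, Module.Basis.mk hli hspan.ge, fun i => ?_⟩
      rw [Module.Basis.mk_apply]
      exact he i
  · rintro ⟨ι, b, -⟩
    exact Module.Projective.of_basis b

end Groth.Agent.S19462
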