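import Groth.Statements.S19473
import Mathlib.CategoryTheory.Monoidal.Cartesian.Grp
import Mathlib.CategoryTheory.Monoidal.Cartesian.Over
import Mathlib.CategoryTheory.MorphismProperty.Limits

set_option autoImplicit false
universe u
open CategoryTheory CategoryTheory.Limits MonoidalCategory CartesianMonoidalCategory MonObj GrpObj AlgebraicGeometry
open AlgGrp

namespace Groth.Agent.S19473

section abstract

variable {C : Type*} [Category C] [CartesianMonoidalCategory C] (G : C) [GrpObj G]

/-- The diagonal factors through the unit section and the shear map. -/
lemma diag_eq : lift (𝟙 G) (𝟙 G) = (ρ_ G).inv ≫ (G ◁ η[G]) ≫ lift (fst G G) μ[G] := by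
  apply CartesianMonoidalCategory.hom_ext
  · simp
  · simp

/-- The shear map `(g, h) ↦ (g, g * h)` is an isomorphism. -/
lemma shear_isIso : IsIso (lift (fst G G) μ[G]) := by
  refine ⟨lift (fst G G) (lift (fst G G ≫ ι[G]) (snd G G) ≫ μ[G]), ?_, ?_⟩
  · apply CartesianMonoidalCategory.hom_ext
    · simp
    · have h : (fst G G)⁻¹ * (fst G G * snd G G) = snd G G := inv_mul_cancel_left _ _
      simp only [Category.assoc, lift_snd, comp_lift_assoc, lift_fst_assoc, lift_snd, Category.id_comp]
      simpa [Hom.mul_def, Hom.inv_def] using h
  · apply CartesianMonoidalCategory.hom_ext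
    · simp
    · have h : fst G G * ((fst G G)⁻¹ * snd G G) = snd G G := mul_inv_cancel_left _ _
      simp only [Category.assoc, lift_snd, comp_lift_assoc, lift_fst_assoc, lift_snd, Category.id_comp]
      simpa [Hom.mul_def, Hom.inv_def] using h

end abstract

/-- Let S be a scheme and G an S-group scheme whose structure morphism G → S is locally of finite type.
Then G → S is unramified — formally unramified, since it is locally of finite type — if and only if
the identity section S → G is an open immersion. (The separated and quasi-separated clauses of the
published item are separate results.) -/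
theorem result (S : Scheme.{u})
    (G : Over S) [GrpObj G] [LocallyOfFiniteType G.hom] :
    FormallyUnramified G.hom ↔ IsOpenImmersion η[G].left := by
  constructor
  · intro h
    have hΔ : IsOpenImmersion (pullback.diagonal G.hom) := inferInstance
    have hcomp : η[G].left ≫ G.hom = 𝟙 S := Over.w η[G]
    have hP : (@IsOpenImmersion).HasOfPostcompProperty (@IsOpenImmersion).diagonal :=
      MorphismProperty.hasOfPostcompProperty_iff_le_diagonal.mpr le_rfl
    exact hP.of_postcomp η[G].left G.hom hΔ (by rw [hcomp]; exact (inferInstance : IsOpenImmersion (𝟙 S)))
  · intro h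
    have h1 : IsOpenImmersion (G ◁ η[G]).left := by
      rw [Over.whiskerLeft_left]
      exact MorphismProperty.pullbackMap (P := @IsOpenImmersion)
        (inferInstance : IsOpenImmersion (𝟙 G.left)) h (Category.id_comp _).symm (Over.w η[G]).symm
    have h2 : IsIso (lift (fst G G) μ[G]).left := by
      have := shear_isIso G
      exact inferInstanceAs (IsIso ((Over.forget S).map (lift (fst G G) μ[G])))
    have h3 : pullback.diagonal G.hom = (lift (𝟙 G) (𝟙 G)).left := rfl
    have h4 : IsOpenImmersion (pullback.diagonal G.hom) := by
      rw [h3, diag_eq G, Over.comp_left, Over.comp_left]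
      infer_instance
    infer_instance

end Groth.Agent.S19473
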