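import Groth.Statements.S19465
import Groth.Agent.S19473
import Groth.Agent.Lib.UnramifiedLocusBC

set_option autoImplicit false
universe u
open CategoryTheory CategoryTheory.Limits MonoidalCategory CartesianMonoidalCategory MonObj GrpObj AlgebraicGeometry
open AlgGrp

namespace Groth.Agent.S19465

/-- Let S be a scheme and G an S-group scheme whose structure morphism G → S is locally of finite type.
Then G → S is an isomorphism (G is the trivial group scheme over S) if and only if every fibre G_s →
Spec κ(s), s ∈ S, is an isomorphism. -/
theorem result (S : Scheme.{u}) (G : Over S)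
    [GrpObj G] [LocallyOfFiniteType G.hom] :
    IsIso G.hom ↔ ∀ s : S, IsIso (G.hom.fiberToSpecResidueField s) := by
  constructor
  · intro h s
    have : IsIso G.hom := h
    exact (MorphismProperty.isomorphisms Scheme).pullback_snd _ _ h
  · intro h
    -- fibres are singletons
    have hsub : ∀ s : S, Subsingleton (G.hom.fiber s) := fun s => by
      have := h s
      exact (asIso (G.hom.fiberToSpecResidueField s)).schemeIsoToHomeo.injective.subsingleton
    -- unramified
    have hunr : FormallyUnramified G.hom := by
      apply Groth.Agent.Lib.UnramifiedLocusBC.formallyUnramified_of_forall_stalkMap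
      intro x
      have hpb : IsPullback (G.hom.fiberι (G.hom x)) (G.hom.fiberToSpecResidueField (G.hom x))
          G.hom (S.fromSpecResidueField (G.hom x)) := IsPullback.of_hasPullback _ _
      have h1 := Groth.Agent.Lib.UnramifiedLocusBC.formallyUnramified_stalkMap_iff_of_isPullback
        hpb (G.hom.asFiber x)
      rw [Scheme.Hom.fiberι_asFiber] at h1
      rw [← h1]
      have := h (G.hom x)
      exact FormallyUnramified.stalkMap (G.hom.fiberToSpecResidueField (G.hom x)) _
    have hopen : IsOpenImmersion η[G].left := (Groth.Agent.S19473.result S G).1 hunr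
    have hw : η[G].left ≫ G.hom = 𝟙 S := by
      rw [Over.w η[G]]
      rfl
    have hsurj : Surjective η[G].left := by
      refine ⟨fun x => ⟨G.hom x, ?_⟩⟩
      have h2 : G.hom (η[G].left (G.hom x)) = G.hom x := by
        rw [← Scheme.Hom.comp_apply, hw]
        rfl
      have := hsub (G.hom x)
      have h3 : (⟨η[G].left (G.hom x), h2⟩ : G.hom ⁻¹' {G.hom x}) = ⟨x, rfl⟩ :=
        (G.hom.fiberHomeo (G.hom x)).symm.injective (Subsingleton.elim _ _)
      exact congrArg Subtype.val h3
    have hiso : IsIso η[G].left := (isIso_iff_isOpenImmersion_and_surjective _).2 ⟨hopen, hsurj⟩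
    have : G.hom = inv η[G].left := by
      rw [← cancel_epi η[G].left, hw, IsIso.hom_inv_id]
      rfl
    rw [this]
    infer_instance

end Groth.Agent.S19465
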