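import Groth.Statements.S19474
import Groth.Agent.Lib.RegularFlatLocal
import Groth.Agent.Lib.AdicNoeth
import Groth.Agent.Lib.ComplMap
import Mathlib.RingTheory.AdicCompletion.AsTensorProduct
import Mathlib.RingTheory.AdicCompletion.LocalRing

set_option autoImplicit false
universe u
open CAlg

namespace Groth.Agent.S19474

/-- Let A be a Noetherian local ring and I an ideal of A different from A. Then the I-adic completion of
A has the same Krull dimension as A, and A is a regular local ring if and only if the I-adic
completion of A is a regular local ring (in particular the completion is then local and Noetherian).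
The case where I is the maximal ideal is the classical one; here I is any proper ideal. -/
theorem result (A : Type u) [CommRing A]
    [IsLocalRing A] [IsNoetherianRing A] (I : Ideal A) (hI : I ≠ ⊤) :
    ringKrullDim (AdicCompletion I A) = ringKrullDim A ∧
      (IsRegularLocalRing A ↔ IsRegularLocalRing (AdicCompletion I A)) := by
  have hfg : I.FG := (isNoetherianRing_iff_ideal_fg A).1 inferInstance I
  have hle : I ≤ IsLocalRing.maximalIdeal A := IsLocalRing.le_maximalIdeal hI
  have hN : IsNoetherianRing (AdicCompletion I A) :=
    Groth.Agent.Lib.AdicNoeth.isNoetherianRing_adicCompletion I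
  have hL : IsLocalRing (AdicCompletion I A) :=
    Groth.Agent.Lib.ComplMap.isLocalRing_adicCompletion I hI
  have hmax : ((IsLocalRing.maximalIdeal A).map
      (algebraMap A (AdicCompletion I A))).IsMaximal :=
    AdicCompletion.isMaximal_map_of_le I (IsLocalRing.maximalIdeal A) hle hfg
  have hmap : (IsLocalRing.maximalIdeal A).map (algebraMap A (AdicCompletion I A)) =
      IsLocalRing.maximalIdeal (AdicCompletion I A) := IsLocalRing.eq_maximalIdeal hmax
  have hloc : IsLocalHom (algebraMap A (AdicCompletion I A)) := by
    refine ⟨fun a ha => ?_⟩
    by_contra hna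
    have hmem : a ∈ IsLocalRing.maximalIdeal A := (IsLocalRing.mem_maximalIdeal a).mpr hna
    have h2 : algebraMap A (AdicCompletion I A) a ∈
        (IsLocalRing.maximalIdeal A).map (algebraMap A (AdicCompletion I A)) :=
      Ideal.mem_map_of_mem _ hmem
    exact hmax.ne_top (Ideal.eq_top_of_isUnit_mem _ h2 ha)
  exact ⟨Groth.Agent.Lib.RegularFlatLocal.ringKrullDim_eq hmap,
    (Groth.Agent.Lib.RegularFlatLocal.isRegularLocalRing_iff_of_flat hmap).symm⟩

end Groth.Agent.S19474
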