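import Groth.Statements.S19475
import Mathlib.RingTheory.AdicCompletion.LocalRing
import Mathlib.RingTheory.LocalRing.ResidueField.Basic

set_option autoImplicit false
universe u
open CAlg

namespace Groth.Agent.S19475

set_option linter.unusedSectionVars false

open IsLocalRing TensorProduct

section

variable (A B : Type u) [CommRing A] [CommRing B] [Algebra A B] [IsNoetherianRing A]
  (q : Ideal B) [q.IsPrime]

/-- The local homomorphism `A_p → B_q`. -/
noncomputable def ι0 : Localization.AtPrime (q.under A) →+* Localization.AtPrime q :=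
  Localization.localRingHom (q.under A) q (algebraMap A B) rfl

instance : IsLocalHom (ι0 A B q) :=
  Localization.isLocalHom_localRingHom (q.under A) q (algebraMap A B) rfl

lemma ι0_algebraMap (a : A) :
    ι0 A B q (algebraMap A (Localization.AtPrime (q.under A)) a) =
      algebraMap A (Localization.AtPrime q) a := by
  rw [ι0, Localization.localRingHom_to_map]
  exact (IsScalarTower.algebraMap_apply A B (Localization.AtPrime q) a).symm

omit [IsNoetherianRing A] in
lemma isUnit_algebraMap (s : (q.under A).primeCompl) :
    IsUnit (algebraMap A (Localization.AtPrime q) s) := by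
  rw [IsScalarTower.algebraMap_apply A B]
  exact IsLocalization.map_units (M := q.primeCompl) (Localization.AtPrime q)
    ⟨algebraMap A B s, s.2⟩

/-- Moving an element of `A_p` across the tensor product over `A`. -/
lemma tmul_move (x : Localization.AtPrime (q.under A)) (r : Localization.AtPrime q)
    (y : AdicCompletion (maximalIdeal (Localization.AtPrime (q.under A)))
      (Localization.AtPrime (q.under A))) :
    r ⊗ₜ[A] (algebraMap (Localization.AtPrime (q.under A)) _ x * y) = (ι0 A B q x * r) ⊗ₜ[A] y := by
  obtain ⟨b', s', rfl⟩ := IsLocalization.exists_mk'_eq (q.under A).primeCompl x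
  obtain ⟨u, hu⟩ := isUnit_algebraMap A B q s'
  have hspec : IsLocalization.mk' (Localization.AtPrime (q.under A)) b' s' *
      algebraMap A (Localization.AtPrime (q.under A)) s' =
      algebraMap A (Localization.AtPrime (q.under A)) b' := IsLocalization.mk'_spec _ _ _
  -- write r = s' • r'
  have hr : r = (s' : A) • ((u⁻¹ : (Localization.AtPrime q)ˣ) * r) := by
    rw [Algebra.smul_def, ← hu, ← mul_assoc, Units.mul_inv, one_mul]
  set x := IsLocalization.mk' (Localization.AtPrime (q.under A)) b' s' with hx
  set r' := ((u⁻¹ : (Localization.AtPrime q)ˣ) : Localization.AtPrime q) * r with hr'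
  have h1 : (s' : A) • (algebraMap (Localization.AtPrime (q.under A))
      (AdicCompletion (maximalIdeal (Localization.AtPrime (q.under A)))
      (Localization.AtPrime (q.under A))) x * y) = (b' : A) • y := by
    rw [Algebra.smul_def, Algebra.smul_def, ← mul_assoc]
    congr 1
    rw [IsScalarTower.algebraMap_apply A (Localization.AtPrime (q.under A)),
      IsScalarTower.algebraMap_apply A (Localization.AtPrime (q.under A)) (AdicCompletion _ _) b',
      ← map_mul, mul_comm, hspec]
  have h2 : ι0 A B q x * ((s' : A) • r') = (b' : A) • r' := by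
    have e1 := (ι0_algebraMap A B q (s' : A)).symm
    have e2 := (ι0_algebraMap A B q b').symm
    rw [Algebra.smul_def, Algebra.smul_def, ← mul_assoc, e1, e2, ← map_mul, hspec]
  calc r ⊗ₜ[A] (algebraMap _ _ x * y)
      = ((s' : A) • r') ⊗ₜ[A] (algebraMap _ _ x * y) := by rw [← hr]
    _ = r' ⊗ₜ[A] ((s' : A) • (algebraMap _ _ x * y)) := by rw [TensorProduct.smul_tmul]
    _ = r' ⊗ₜ[A] ((b' : A) • y) := by rw [h1]
    _ = ((b' : A) • r') ⊗ₜ[A] y := by rw [TensorProduct.smul_tmul]
    _ = (ι0 A B q x * ((s' : A) • r')) ⊗ₜ[A] y := by rw [h2]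
    _ = (ι0 A B q x * r) ⊗ₜ[A] y := by rw [← hr]

/-- The ideal in question. -/
noncomputable abbrev J : Ideal (TensorProduct A (Localization.AtPrime q)
    (AdicCompletion (maximalIdeal (Localization.AtPrime (q.under A)))
      (Localization.AtPrime (q.under A)))) :=
  (maximalIdeal (Localization.AtPrime q)).map
    (Algebra.TensorProduct.includeLeftRingHom :
      Localization.AtPrime q →+* TensorProduct A (Localization.AtPrime q)
        (AdicCompletion (maximalIdeal (Localization.AtPrime (q.under A)))
          (Localization.AtPrime (q.under A))))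

lemma tmul_mem_J (r : Localization.AtPrime q) (hr : r ∈ maximalIdeal (Localization.AtPrime q))
    (y : AdicCompletion (maximalIdeal (Localization.AtPrime (q.under A)))
      (Localization.AtPrime (q.under A))) : r ⊗ₜ[A] y ∈ J A B q := by
  have h1 : r ⊗ₜ[A] y = (1 ⊗ₜ[A] y) * (Algebra.TensorProduct.includeLeftRingHom r) := by
    simp [Algebra.TensorProduct.tmul_mul_tmul]
  rw [h1]
  exact Ideal.mul_mem_left _ _ (Ideal.mem_map_of_mem _ hr)

lemma claimC (r : Localization.AtPrime q)
    (v : AdicCompletion (maximalIdeal (Localization.AtPrime (q.under A)))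
      (Localization.AtPrime (q.under A)))
    (hv : v ∈ (maximalIdeal (Localization.AtPrime (q.under A))).map
      (algebraMap (Localization.AtPrime (q.under A)) (AdicCompletion
        (maximalIdeal (Localization.AtPrime (q.under A))) (Localization.AtPrime (q.under A))))) :
    r ⊗ₜ[A] v ∈ J A B q := by
  rw [Ideal.map] at hv
  induction hv using Submodule.span_induction with
  | mem v hv =>
    obtain ⟨m, hm, rfl⟩ := hv
    have h := tmul_move A B q m r 1
    rw [mul_one] at h
    rw [h]
    exact tmul_mem_J A B q _ (Ideal.mul_mem_right _ _ (map_nonunit (ι0 A B q) m hm)) 1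
  | zero => rw [TensorProduct.tmul_zero]; exact Ideal.zero_mem _
  | add v w _ _ hv hw => rw [TensorProduct.tmul_add]; exact Ideal.add_mem _ hv hw
  | smul c v _ hv =>
    have h1 : r ⊗ₜ[A] (c • v) = (1 ⊗ₜ[A] c) * (r ⊗ₜ[A] v) := by
      simp [Algebra.TensorProduct.tmul_mul_tmul]
    rw [h1]
    exact Ideal.mul_mem_left _ _ hv

lemma approx (y : AdicCompletion (maximalIdeal (Localization.AtPrime (q.under A)))
      (Localization.AtPrime (q.under A))) :
    ∃ a : Localization.AtPrime (q.under A), y - algebraMap _ _ a ∈
      (maximalIdeal (Localization.AtPrime (q.under A))).map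
      (algebraMap (Localization.AtPrime (q.under A)) (AdicCompletion
        (maximalIdeal (Localization.AtPrime (q.under A))) (Localization.AtPrime (q.under A)))) := by
  obtain ⟨z, hz⟩ := (AdicCompletion.residueField_map_bijective
    (Localization.AtPrime (q.under A))).surjective (residue _ y)
  obtain ⟨a, rfl⟩ := residue_surjective z
  refine ⟨a, ?_⟩
  rw [ResidueField.map_residue] at hz
  rw [← AdicCompletion.maximalIdeal_eq_map]
  exact (Ideal.Quotient.mk_eq_mk_iff_sub_mem _ _).mp hz.symm

lemma claimD (t : TensorProduct A (Localization.AtPrime q)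
    (AdicCompletion (maximalIdeal (Localization.AtPrime (q.under A)))
      (Localization.AtPrime (q.under A)))) :
    ∃ r : Localization.AtPrime q, t - r ⊗ₜ[A] 1 ∈ J A B q := by
  induction t using TensorProduct.induction_on with
  | zero => exact ⟨0, by simp⟩
  | tmul r y =>
    obtain ⟨a, ha⟩ := approx A B q y
    refine ⟨ι0 A B q a * r, ?_⟩
    have h := tmul_move A B q a r 1
    rw [mul_one] at h
    rw [← h, ← TensorProduct.tmul_sub]
    exact claimC A B q r _ ha
  | add t₁ t₂ h₁ h₂ =>
    obtain ⟨r₁, h₁⟩ := h₁
    obtain ⟨r₂, h₂⟩ := h₂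
    refine ⟨r₁ + r₂, ?_⟩
    have : t₁ + t₂ - (r₁ + r₂) ⊗ₜ[A] 1 = (t₁ - r₁ ⊗ₜ[A] 1) + (t₂ - r₂ ⊗ₜ[A] 1) := by
      rw [TensorProduct.add_tmul]; abel
    rw [this]
    exact Ideal.add_mem _ h₁ h₂
/-- residue field iso -/
noncomputable def eRes : ResidueField (Localization.AtPrime (q.under A)) ≃+*
    ResidueField (AdicCompletion (maximalIdeal (Localization.AtPrime (q.under A)))
      (Localization.AtPrime (q.under A))) :=
  RingEquiv.ofBijective (ResidueField.map (algebraMap _ _))
    (AdicCompletion.residueField_map_bijective (Localization.AtPrime (q.under A)))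

/-- the map Âp → κ(B_q) -/
noncomputable def gHom : AdicCompletion (maximalIdeal (Localization.AtPrime (q.under A)))
      (Localization.AtPrime (q.under A)) →+* ResidueField (Localization.AtPrime q) :=
  (ResidueField.map (ι0 A B q)).comp (((eRes A B q).symm : _ →+* _).comp (residue _))

lemma gHom_algebraMap (a : A) :
    gHom A B q (algebraMap A _ a) = algebraMap A (ResidueField (Localization.AtPrime q)) a := by
  have h1 : (algebraMap A (AdicCompletion (maximalIdeal (Localization.AtPrime (q.under A)))
      (Localization.AtPrime (q.under A))) a) =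
      algebraMap (Localization.AtPrime (q.under A)) _ (algebraMap A _ a) := rfl
  have h2 : (eRes A B q).symm (residue _ (algebraMap (Localization.AtPrime (q.under A))
      (AdicCompletion (maximalIdeal (Localization.AtPrime (q.under A)))
      (Localization.AtPrime (q.under A))) (algebraMap A _ a))) = residue _ (algebraMap A _ a) := by
    rw [RingEquiv.symm_apply_eq]
    simp [eRes, ResidueField.map_residue]
  simp only [gHom, RingHom.comp_apply, RingHom.coe_coe]
  rw [h1, h2, ResidueField.map_residue, ι0_algebraMap]
  rfl

noncomputable def gAlg : AdicCompletion (maximalIdeal (Localization.AtPrime (q.under A)))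
      (Localization.AtPrime (q.under A)) →ₐ[A] ResidueField (Localization.AtPrime q) :=
  { gHom A B q with commutes' := gHom_algebraMap A B q }

noncomputable def φ : TensorProduct A (Localization.AtPrime q)
    (AdicCompletion (maximalIdeal (Localization.AtPrime (q.under A)))
      (Localization.AtPrime (q.under A))) →ₐ[A] ResidueField (Localization.AtPrime q) :=
  Algebra.TensorProduct.lift (IsScalarTower.toAlgHom A (Localization.AtPrime q) _) (gAlg A B q)
    (fun _ _ => Commute.all _ _)

lemma J_le_ker : J A B q ≤ RingHom.ker (φ A B q).toRingHom := by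
  rw [J, Ideal.map_le_iff_le_comap]
  intro x hx
  rw [Ideal.mem_comap, RingHom.mem_ker]
  show φ A B q (x ⊗ₜ 1) = 0
  rw [φ, Algebra.TensorProduct.lift_tmul, map_one, mul_one]
  exact (residue_eq_zero_iff x).mpr hx

lemma one_notMem_J : (1 : TensorProduct A (Localization.AtPrime q)
    (AdicCompletion (maximalIdeal (Localization.AtPrime (q.under A)))
      (Localization.AtPrime (q.under A)))) ∉ J A B q := by
  intro h
  have := J_le_ker A B q h
  rw [RingHom.mem_ker, map_one] at this
  exact one_ne_zero this

theorem main : (J A B q).IsMaximal := by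
  rw [Ideal.isMaximal_iff]
  refine ⟨one_notMem_J A B q, ?_⟩
  intro I x hJI hxJ hxI
  obtain ⟨r, hr⟩ := claimD A B q x
  have hrm : r ∉ maximalIdeal (Localization.AtPrime q) := by
    intro hrm
    apply hxJ
    have : x = (x - r ⊗ₜ[A] 1) + r ⊗ₜ[A] 1 := by abel
    rw [this]
    exact Ideal.add_mem _ hr (tmul_mem_J A B q r hrm 1)
  have hu : IsUnit r := by
    by_contra hu
    exact hrm ((mem_maximalIdeal r).mpr hu)
  obtain ⟨u, rfl⟩ := hu
  have h1 : (1 : TensorProduct A (Localization.AtPrime q)
    (AdicCompletion (maximalIdeal (Localization.AtPrime (q.under A)))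
      (Localization.AtPrime (q.under A)))) =
      ((↑u⁻¹ : Localization.AtPrime q) ⊗ₜ[A] 1) * x -
        ((↑u⁻¹ : Localization.AtPrime q) ⊗ₜ[A] 1) * (x - (u : Localization.AtPrime q) ⊗ₜ[A] 1) := by
    rw [mul_sub, sub_sub_cancel, Algebra.TensorProduct.tmul_mul_tmul, Units.inv_mul, mul_one]
    rfl
  rw [h1]
  exact Ideal.sub_mem _ (Ideal.mul_mem_left _ _ hxI) (Ideal.mul_mem_left _ _ (hJI hr))
end

open IsLocalRing in
/-- Let A be a Noetherian ring, B an A-algebra, q a prime ideal of B and p its preimage in A; let A_p
and B_q be the local rings at p and q and Â_p the completion of A_p at its maximal ideal pA_p. Then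
the ideal generated by qB_q in B_q ⊗ Â_p is maximal. (The tensor product is formed over A; since A_p
is a localization of A it agrees with the tensor product over A_p used in the published statement.) -/
theorem result (A B : Type u) [CommRing A] [CommRing B]
    [Algebra A B] [IsNoetherianRing A] (q : Ideal B) [q.IsPrime] :
    ((maximalIdeal (Localization.AtPrime q)).map
      (Algebra.TensorProduct.includeLeftRingHom :
        Localization.AtPrime q →+* TensorProduct A (Localization.AtPrime q)
          (AdicCompletion (maximalIdeal (Localization.AtPrime (q.under A)))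
            (Localization.AtPrime (q.under A))))).IsMaximal :=
  main A B q

end Groth.Agent.S19475
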