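import Groth.Statements.S19477
import Groth.Agent.Lib.GalAct13Alg2
import Mathlib.RingTheory.Localization.BaseChange
import Mathlib.RingTheory.FiniteType
import Mathlib.RingTheory.Polynomial.Basic
import Mathlib.RingTheory.EssentialFiniteness
import Mathlib.RingTheory.Localization.Submodule

set_option autoImplicit false
universe u
open Variety

namespace Groth.Agent.S19477

open TensorProduct in
/-- `F ⊗[K] L` is Noetherian for `F` the fraction field of a finite type `K`-domain. -/
theorem isNoetherianRing_tensor (K B L : Type u) [Field K]
    [CommRing B] [IsDomain B] [Algebra K B] [Algebra.FiniteType K B] [Field L] [Algebra K L] :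
    IsNoetherianRing (FractionRing B ⊗[K] L) := by
  have h0 : Algebra.EssFiniteType B (FractionRing B) :=
    Algebra.EssFiniteType.of_isLocalization (FractionRing B) (nonZeroDivisors B)
  have h1 : Algebra.EssFiniteType K (FractionRing B) := Algebra.EssFiniteType.comp K B _
  have h2 : Algebra.EssFiniteType L (L ⊗[K] FractionRing B) := inferInstance
  have h3 : IsNoetherianRing (L ⊗[K] FractionRing B) := Algebra.EssFiniteType.isNoetherianRing L _
  exact isNoetherianRing_of_ringEquiv _
    (Algebra.TensorProduct.comm K L (FractionRing B)).toRingEquiv

open TensorProduct in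
theorem tmap_eq_map {K F L : Type u} [Field K] [Field F] [Algebra K F] [Field L] [Algebra K L]
    (γ : L ≃ₐ[K] L) (x : F ⊗[K] L) :
    Groth.Agent.Lib.GalAct13Alg.tmap F L γ x =
      Algebra.TensorProduct.map (AlgHom.id K F) (γ : L →ₐ[K] L) x := by
  induction x using TensorProduct.induction_on with
  | zero => simp
  | tmul a c => simp
  | add x y hx hy => rw [map_add, map_add, hx, hy]

/-- Let K be a field, B an integral K-algebra of finite type with fraction field F, and L a Galois
extension of K with group Γ = Aut_K(L). Then F ⊗_K L has only finitely many prime ideals and Γ,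
acting through the second factor, permutes them transitively: for prime ideals P, Q there is γ ∈ Γ
with Q the preimage of P under id ⊗ γ. (The published statement is the geometric one, that the
points of an algebraic K-scheme X correspond to the Γ-orbits of points of X_L and that these orbits
are finite; it reduces to this algebraic statement by passing to the fibre over a point, and the
algebraic statement is what is proved.) -/
theorem result (K B L : Type u) [Field K]
    [CommRing B] [IsDomain B] [Algebra K B] [Algebra.FiniteType K B] [Field L] [Algebra K L] [IsGalois K L] :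
    Finite (PrimeSpectrum (TensorProduct K (FractionRing B) L)) ∧
      ∀ P Q : PrimeSpectrum (TensorProduct K (FractionRing B) L), ∃ γ : L ≃ₐ[K] L,
        Q.asIdeal = P.asIdeal.comap
          (Algebra.TensorProduct.map (AlgHom.id K (FractionRing B)) (γ : L →ₐ[K] L)) := by
  have hN := isNoetherianRing_tensor K B L
  have hbot : ∀ P : PrimeSpectrum (TensorProduct K (FractionRing B) L),
      P.asIdeal.comap (algebraMap (FractionRing B) (TensorProduct K (FractionRing B) L)) = ⊥ := by
    intro P
    have hp : (P.asIdeal.comap
        (algebraMap (FractionRing B) (TensorProduct K (FractionRing B) L))).IsPrime :=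
      Ideal.comap_isPrime _ _
    exact (Ideal.eq_bot_or_top _).resolve_right hp.ne_top
  constructor
  · have hfin := Groth.Agent.Lib.GalAct13Alg.finite_primes_over (k := K) (FractionRing B) L ⊥
    have : Finite {P : Ideal (TensorProduct K (FractionRing B) L) | P.IsPrime ∧
        P.comap (algebraMap (FractionRing B) (TensorProduct K (FractionRing B) L)) = ⊥} := hfin
    refine Finite.of_injective
      (fun P : PrimeSpectrum (TensorProduct K (FractionRing B) L) =>
        (⟨P.asIdeal, P.isPrime, hbot P⟩ : {P : Ideal (TensorProduct K (FractionRing B) L) |
          P.IsPrime ∧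
          P.comap (algebraMap (FractionRing B) (TensorProduct K (FractionRing B) L)) = ⊥})) ?_
    intro P Q h
    exact PrimeSpectrum.ext (congrArg Subtype.val h)
  · intro P Q
    obtain ⟨γ, hγ⟩ := Groth.Agent.Lib.GalAct13Alg.exists_comap_tmap_eq (k := K) (FractionRing B) L
      P.asIdeal Q.asIdeal ((hbot P).trans (hbot Q).symm)
    refine ⟨γ, ?_⟩
    rw [hγ]
    ext x
    simp only [Ideal.mem_comap]
    rw [← tmap_eq_map]
    rfl

end Groth.Agent.S19477
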