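import Groth.Statements.S19479
import Groth.Agent.Lib.ComodDualAlg

set_option autoImplicit false
universe u v w
open HopfRep

namespace Groth.Agent.S19479

open Groth.Agent.Lib.Comod in
theorem aux {K : Type u} {C : Type v} [Field K]
    [AddCommGroup C] [Module K C] [Coalgebra K C] (V : Type w) [AddCommGroup V] [Module K V]
    [c : HopfRep.Comod K C V] (hss : HopfRep.IsSemisimpleComod K C V) :
    ∃ (ι : Type w) (W : ι → Submodule K V), iSupIndep W ∧ iSup W = ⊤ ∧ ∀ i,
        HopfRep.IsSubcomod (k := K) (A := C) (W i) ∧ W i ≠ ⊥ ∧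
          ∀ W' : Submodule K V, HopfRep.IsSubcomod (k := K) (A := C) W' → W' ≤ W i →
            W' = ⊥ ∨ W' = W i := by
  have : ComplementedLattice (Submodule (DualAlg K C) (AsDualMod c)) := by
    constructor
    intro b
    obtain ⟨W', hW', hcompl⟩ := hss (ofDualSub c b) (isSubcomod_ofDualSub c b)
    refine ⟨toDualSub c W' hW', ?_⟩
    rw [← isCompl_ofDualSub c, ofDualSub_toDualSub]
    exact hcompl
  obtain ⟨s, hind, hsup, hatom⟩ :=
    exists_sSupIndep_of_sSup_atoms_eq_top
      (sSup_atoms_eq_top (α := Submodule (DualAlg K C) (AsDualMod c)))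
  refine ⟨s, fun i => ofDualSub c i.1, ?_, ?_, ?_⟩
  · rw [iSupIndep_ofDualSub c (fun i : s => i.1)]
    exact (sSupIndep_iff s).mp hind
  · rw [← ofDualSub_iSup, ← sSup_eq_iSup', hsup, ofDualSub_top]
  · intro i
    refine ⟨isSubcomod_ofDualSub c i.1, ?_, ?_⟩
    · intro h
      exact (hatom i.2).1 ((ofDualSub_eq_bot_iff c).mp h)
    · intro W' hW' hle
      have hle' : toDualSub c W' hW' ≤ i.1 := by
        rw [← ofDualSub_le_iff c, ofDualSub_toDualSub]
        exact hle
      rcases (hatom i.2).le_iff.mp hle' with h | h
      · left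
        rw [← ofDualSub_toDualSub c W' hW', h, ofDualSub_bot]
      · right
        rw [← ofDualSub_toDualSub c W' hW', h]

open TensorProduct in
/-- Let K be a field, C a K-coalgebra and V a right C-comodule. The following are equivalent: (i) V is
the internal direct sum of a family of simple subcomodules, i.e. there is an independent family of
subcomodules W_i with sum V, each W_i nonzero and having no subcomodules inside it other than 0 and
W_i; (ii) every subcomodule of V has a complementary subcomodule. A subcomodule is a subspace W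
whose coaction lands in the image of W ⊗ C. (The source states this for left comodules; a left
comodule over C is a right comodule over the co-opposite coalgebra, so the statement is the same.) -/
theorem result {K : Type u} {C : Type v} [Field K]
    [AddCommGroup C] [Module K C] [Coalgebra K C] (V : Type w) [AddCommGroup V] [Module K V] [HopfRep.Comod K C V] :
    (∃ (ι : Type w) (W : ι → Submodule K V), iSupIndep W ∧ iSup W = ⊤ ∧ ∀ i,
        HopfRep.IsSubcomod (k := K) (A := C) (W i) ∧ W i ≠ ⊥ ∧
          ∀ W' : Submodule K V, HopfRep.IsSubcomod (k := K) (A := C) W' → W' ≤ W i → W' = ⊥ ∨ W' = W i) ↔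
      HopfRep.IsSemisimpleComod K C V := by
  constructor
  · rintro ⟨ι, W, hind, hsup, hW⟩ U hU
    obtain ⟨J, _, hcompl⟩ := Groth.Agent.Lib.Comod.exists_set_iSupIndep_isCompl_of_simple
      (inferInstance : HopfRep.Comod K C V) W (fun i => (hW i).1)
      (fun i => ⟨(hW i).2.1, (hW i).2.2⟩) hsup U hU
    exact ⟨⨆ j : J, W j, Groth.Agent.Lib.Comod.isSubcomod_iSup (fun j => (hW j).1), hcompl⟩
  · intro hss
    exact aux V hss

end Groth.Agent.S19479
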