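import Groth.Statements.S19485
import Mathlib.RingTheory.PowerSeries.Order
import Mathlib.RingTheory.PowerSeries.Expand
import Mathlib.Algebra.Algebra.Operations

set_option autoImplicit false
universe u
open Crimp

namespace Groth.Agent.S19485

open PowerSeries in
/-- The valuation computation behind the criterion. -/
lemma core {k : Type u} [Field k] (m n : ℕ) (hm : ¬ 3 ∣ m) (g r₁ r₂ u : PowerSeries k)
    (hg : g.order = 0) (hn : 2 * m < n) (h3 : (3 : ℕ) ≠ 0)
    (h : (X ^ m * g) * (X ^ m * g) =
      (expand 3 h3 r₁ * 1 + expand 3 h3 r₂ * (X ^ m * g)) + u * X ^ n) : False := by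
  have hL : ((X ^ m * g) * (X ^ m * g)).order = ((2 * m : ℕ) : ℕ∞) := by
    rw [order_mul, order_mul, order_X_pow, hg]
    push_cast
    ring
  have ha : (expand 3 h3 r₁ * 1).order = 3 • r₁.order := by
    rw [mul_one, order_expand]
  have hb : (expand 3 h3 r₂ * (X ^ m * g)).order = 3 • r₂.order + m := by
    rw [order_mul, order_mul, order_X_pow, hg, order_expand, add_zero]
  have hc : ((n : ℕ) : ℕ∞) ≤ (u * X ^ n).order := by
    rw [order_mul, order_X_pow]
    exact le_add_self
  -- the order of the sum of the first two terms is not `2 * m`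
  have e1 : ∀ a : ℕ, (3 • ((a : ℕ) : ℕ∞)) = ((3 * a : ℕ) : ℕ∞) := fun a => by
    rw [nsmul_eq_mul]; push_cast; rfl
  have e2 : ∀ a : ℕ, (3 • ((a : ℕ) : ℕ∞)) + (m : ℕ∞) = ((3 * a + m : ℕ) : ℕ∞) := fun a => by
    rw [nsmul_eq_mul]; push_cast; rfl
  have hab : (expand 3 h3 r₁ * 1 + expand 3 h3 r₂ * (X ^ m * g)).order ≠ ((2 * m : ℕ) : ℕ∞) := by
    by_cases hr₁ : r₁ = 0
    · by_cases hr₂ : r₂ = 0
      · rw [hr₁, hr₂]
        simp only [map_zero, zero_mul, add_zero, order_zero]
        exact ENat.top_ne_natCast _
      · obtain ⟨b, hb'⟩ := ENat.ne_top_iff_exists.mp (order_eq_top.not.mpr hr₂)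
        rw [hr₁, map_zero, zero_mul, zero_add, hb, ← hb', e2]
        intro hcon
        have : 3 * b + m = 2 * m := by exact_mod_cast hcon
        omega
    · obtain ⟨a, ha'⟩ := ENat.ne_top_iff_exists.mp (order_eq_top.not.mpr hr₁)
      by_cases hr₂ : r₂ = 0
      · rw [hr₂, map_zero, zero_mul, add_zero, ha, ← ha', e1]
        intro hcon
        have : 3 * a = 2 * m := by exact_mod_cast hcon
        omega
      · obtain ⟨b, hb'⟩ := ENat.ne_top_iff_exists.mp (order_eq_top.not.mpr hr₂)
        have hne : (3 * a : ℕ) ≠ 3 * b + m := by omega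
        have hne' : (expand 3 h3 r₁ * 1).order ≠ (expand 3 h3 r₂ * (X ^ m * g)).order := by
          rw [ha, hb, ← ha', ← hb', e1, e2]
          intro hcon
          apply hne
          exact_mod_cast hcon
        rw [order_add_of_order_ne _ _ hne', ha, hb, ← ha', ← hb', e1, e2]
        intro hcon
        rcases min_choice (((3 * a : ℕ) : ℕ∞)) (((3 * b + m : ℕ) : ℕ∞)) with h' | h'
        · rw [h'] at hcon
          have : 3 * a = 2 * m := by exact_mod_cast hcon
          omega
        · rw [h'] at hcon
          have : 3 * b + m = 2 * m := by exact_mod_cast hcon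
          omega
  have hc' : ((2 * m : ℕ) : ℕ∞) < (u * X ^ n).order :=
    lt_of_lt_of_le (by exact_mod_cast hn) hc
  rw [h] at hL
  rcases lt_or_gt_of_ne hab with hlt | hgt
  · have hne : (expand 3 h3 r₁ * 1 + expand 3 h3 r₂ * (X ^ m * g)).order ≠ (u * X ^ n).order :=
      (hlt.trans hc').ne
    rw [order_add_of_order_ne _ _ hne, min_eq_left (hlt.trans hc').le] at hL
    exact hab hL
  · have := min_order_le_order_add (expand 3 h3 r₁ * 1 + expand 3 h3 r₂ * (X ^ m * g)) (u * X ^ n)
    rw [hL] at this
    exact absurd this (not_le.mpr (lt_min hgt hc'))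

/-- The criterion for closedness under multiplication on which the description of the stratum rests.
Over R = k⟦t⟧ with k an algebraically closed field of characteristic zero, let S̃ = k⟦x⟧ regarded as
an R-algebra through t ↦ x ^ 3, that is S̃ = R[x] / (x ^ 3 - t). Let m, n be natural numbers with m
not divisible by 3, and let g be a power series with nonzero constant term. Then the R-submodule of
S̃ spanned by 1 and x ^ m g together with the ideal x ^ n S̃ is closed under multiplication if and
only if n ≤ 2m. (The published proposition goes on to describe the stratum of crimps with these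
invariants as irreducible of dimension ⌊(n - m)/3⌋ with a normal form for g; only the closedness
criterion is stated here.) -/
theorem result {k : Type u} [Field k] [IsAlgClosed k] [CharZero k]
    (m n : ℕ) (hm : ¬ 3 ∣ m) (x g : W4c1hurwitzcpt.RootDisk 3 k)
    (hx : W4c1hurwitzcpt.RootDisk.val x = PowerSeries.X) (hg : PowerSeries.order (W4c1hurwitzcpt.RootDisk.val g) = 0)
    (M : Submodule (PowerSeries k) (W4c1hurwitzcpt.RootDisk 3 k))
    (hM : M = Submodule.span (PowerSeries k) {1, x ^ m * g} ⊔
      (Ideal.span {x ^ n} : Ideal (W4c1hurwitzcpt.RootDisk 3 k)).restrictScalars (PowerSeries k)) :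
    (∀ a ∈ M, ∀ b ∈ M, a * b ∈ M) ↔ n ≤ 2 * m := by
  have h3 : (3 : ℕ) ≠ 0 := by norm_num
  have hI : ∀ z ∈ (Ideal.span {x ^ n} : Ideal (W4c1hurwitzcpt.RootDisk 3 k)), z ∈ M := by
    intro z hz
    rw [hM]
    exact Submodule.mem_sup_right hz
  have hA : ∀ z ∈ ({1, x ^ m * g} : Set (W4c1hurwitzcpt.RootDisk 3 k)), z ∈ M := by
    intro z hz
    rw [hM]
    exact Submodule.mem_sup_left (Submodule.subset_span hz)
  constructor
  · intro hclosed
    by_contra hn
    push Not at hn
    have hy : x ^ m * g ∈ M := hA _ (by simp)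
    have hyy := hclosed _ hy _ hy
    rw [hM, Submodule.mem_sup] at hyy
    obtain ⟨y, hy1, z, hz, hyz⟩ := hyy
    obtain ⟨r₁, r₂, rfl⟩ := Submodule.mem_span_pair.mp hy1
    obtain ⟨u, rfl⟩ := Ideal.mem_span_singleton'.mp hz
    have hxX : (x : PowerSeries k) = PowerSeries.X := hx
    have key := congrArg (W4c1hurwitzcpt.RootDisk.val) hyz
    refine core m n hm (W4c1hurwitzcpt.RootDisk.val g) r₁ r₂ (W4c1hurwitzcpt.RootDisk.val u) hg hn h3 ?_
    rw [← hx]
    exact key.symm
  · intro hn a ha b hb
    have hMspan : M = Submodule.span (PowerSeries k) (({1, x ^ m * g} : Set _) ∪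
        ((Ideal.span {x ^ n} : Ideal (W4c1hurwitzcpt.RootDisk 3 k)) : Set _)) := by
      rw [hM, Submodule.span_union]
      congr 1
      exact (Submodule.span_eq _).symm
    have hle : M * M ≤ M := by
      conv_lhs => rw [hMspan, Submodule.span_mul_span]
      rw [Submodule.span_le]
      rintro _ ⟨p, hp, q, hq, rfl⟩
      show p * q ∈ M
      rcases hp with hp | hp
      · rcases hq with hq | hq
        · rcases hp with rfl | rfl
          · rw [one_mul]
            exact hA _ hq
          · rcases hq with rfl | rfl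
            · rw [mul_one]
              exact hA _ (by simp)
            · apply hI
              rw [Ideal.mem_span_singleton']
              refine ⟨x ^ (2 * m - n) * g * g, ?_⟩
              have : 2 * m = (2 * m - n) + n := by omega
              calc x ^ (2 * m - n) * g * g * x ^ n = x ^ ((2 * m - n) + n) * g * g := by ring
                _ = x ^ (2 * m) * g * g := by rw [← this]
                _ = x ^ m * g * (x ^ m * g) := by ring
        · exact hI _ (Ideal.mul_mem_left _ _ hq)
      · exact hI _ (Ideal.mul_mem_right _ _ hp)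
    exact hle (Submodule.mul_mem_mul ha hb)

end Groth.Agent.S19485
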