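import Groth.Statements.S19486
import Mathlib.RingTheory.PowerSeries.Order
import Mathlib.RingTheory.PowerSeries.Expand
import Mathlib.LinearAlgebra.Prod

set_option autoImplicit false
universe u
open Crimp

namespace Groth.Agent.S19486

open PowerSeries in
/-- The valuation computation behind the statement. -/
lemma core {k : Type u} [Field k] (m n : ℕ) (hm : Odd m) (g r₂ u : PowerSeries k)
    (hg : g.order = 0) (hn : 2 * m < n) (h2 : (2 : ℕ) ≠ 0)
    (h : (X ^ m * g) * (X ^ m * g) = expand 2 h2 r₂ * (X ^ m * g) + u * X ^ n) : False := by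
  have hL : ((X ^ m * g) * (X ^ m * g)).order = ((2 * m : ℕ) : ℕ∞) := by
    rw [order_mul, order_mul, order_X_pow, hg]
    push_cast
    ring
  have hb : (expand 2 h2 r₂ * (X ^ m * g)).order = 2 • r₂.order + m := by
    rw [order_mul, order_mul, order_X_pow, hg, order_expand, add_zero]
  have hc : ((n : ℕ) : ℕ∞) ≤ (u * X ^ n).order := by
    rw [order_mul, order_X_pow]
    exact le_add_self
  have e2 : ∀ a : ℕ, (2 • ((a : ℕ) : ℕ∞)) + (m : ℕ∞) = ((2 * a + m : ℕ) : ℕ∞) := fun a => by
    rw [nsmul_eq_mul]; push_cast; rfl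
  have hab : (expand 2 h2 r₂ * (X ^ m * g)).order ≠ ((2 * m : ℕ) : ℕ∞) := by
    by_cases hr₂ : r₂ = 0
    · rw [hr₂]
      simp only [map_zero, zero_mul, order_zero]
      exact ENat.top_ne_natCast _
    · obtain ⟨b, hb'⟩ := ENat.ne_top_iff_exists.mp (order_eq_top.not.mpr hr₂)
      rw [hb, ← hb', e2]
      intro hcon
      have h' : 2 * b + m = 2 * m := by exact_mod_cast hcon
      obtain ⟨c, rfl⟩ := hm
      omega
  have hc' : ((2 * m : ℕ) : ℕ∞) < (u * X ^ n).order :=
    lt_of_lt_of_le (by exact_mod_cast hn) hc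
  rw [h] at hL
  rcases lt_or_gt_of_ne hab with hlt | hgt
  · have hne : (expand 2 h2 r₂ * (X ^ m * g)).order ≠ (u * X ^ n).order :=
      (hlt.trans hc').ne
    rw [order_add_of_order_ne _ _ hne, min_eq_left (hlt.trans hc').le] at hL
    exact hab hL
  · have := min_order_le_order_add (expand 2 h2 r₂ * (X ^ m * g)) (u * X ^ n)
    rw [hL] at this
    exact absurd this (not_le.mpr (lt_min hgt hc'))

/-- The emptiness of the stratum rests on the following computation. Over R = k⟦t⟧ with k an
algebraically closed field of characteristic zero, let S̃ = S̃₁ × R where S̃₁ = k⟦x⟧ is regarded as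
an R-algebra through t ↦ x ^ 2, that is S̃₁ = R[x] / (x ^ 2 - t), with R embedded diagonally in the
product. Let m be odd, n > 2m, and let g be a power series with nonzero constant term. Then the
R-submodule of S̃ spanned by 1 = (1, 1) and (x ^ m g, 0) together with the ideal x ^ n S̃₁ × 0 is
not closed under multiplication. (The published item concludes that the corresponding stratum of
crimps is empty; only this computation is stated here, with the ideal read as x ^ n S̃₁ × 0.) -/
theorem result {k : Type u} [Field k] [IsAlgClosed k] [CharZero k]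
    (m n : ℕ) (hm : Odd m) (hmn : 2 * m < n) (x g : W4c1hurwitzcpt.RootDisk 2 k)
    (hx : W4c1hurwitzcpt.RootDisk.val x = PowerSeries.X) (hg : PowerSeries.order (W4c1hurwitzcpt.RootDisk.val g) = 0)
    (M : Submodule (PowerSeries k) (W4c1hurwitzcpt.RootDisk 2 k × PowerSeries k))
    (hM : M = Submodule.span (PowerSeries k) {(1 : W4c1hurwitzcpt.RootDisk 2 k × PowerSeries k), (x ^ m * g, 0)} ⊔
      ((Ideal.span {x ^ n} : Ideal (W4c1hurwitzcpt.RootDisk 2 k)).restrictScalars (PowerSeries k)).prod ⊥) :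
    ∃ a ∈ M, ∃ b ∈ M, a * b ∉ M := by
  have h2 : (2 : ℕ) ≠ 0 := by norm_num
  have hy : ((x ^ m * g, 0) : W4c1hurwitzcpt.RootDisk 2 k × PowerSeries k) ∈ M := by
    rw [hM]
    exact Submodule.mem_sup_left (Submodule.subset_span (by simp))
  refine ⟨_, hy, _, hy, ?_⟩
  intro hyy
  rw [hM, Submodule.mem_sup] at hyy
  obtain ⟨y, hy1, z, hz, hyz⟩ := hyy
  obtain ⟨r₁, r₂, rfl⟩ := Submodule.mem_span_pair.mp hy1
  obtain ⟨hz1, hz2⟩ := Submodule.mem_prod.mp hz
  obtain ⟨u, hu⟩ := Ideal.mem_span_singleton'.mp hz1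
  have hz2' : z.2 = 0 := (Submodule.mem_bot _).mp hz2
  have hsnd := congrArg Prod.snd hyz
  have hfst := congrArg Prod.fst hyz
  simp only [Prod.snd_add, Prod.smul_snd, Prod.snd_one, Prod.snd_mul, smul_eq_mul, mul_one,
    mul_zero, add_zero, hz2'] at hsnd
  simp only [Prod.fst_add, Prod.smul_fst, Prod.fst_mul, hsnd, zero_smul, zero_add]
    at hfst
  have key := congrArg (W4c1hurwitzcpt.RootDisk.val) hfst
  refine core m n hm (W4c1hurwitzcpt.RootDisk.val g) r₂ (W4c1hurwitzcpt.RootDisk.val u) hg hmn h2 ?_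
  rw [← hx]
  rw [← hu] at key
  exact key.symm

end Groth.Agent.S19486
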