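import Groth.Statements.S19487
import Mathlib
import Groth.Agent.S14039
-- import your own Groth.Agent.* helpers here

set_option autoImplicit false
open W4c1frobunstiva

namespace Groth.Agent.S19487

open Finset Groth.Agent.S14039

/-- bivariate generating series of one exponent: `Y` marks the small exponents. -/
noncomputable def Hs (p : ℕ) : Polynomial (PowerSeries ℤ) :=
  ∑ e : Fin p, if 1 ≤ (e : ℕ) then
    (if 2 * (e : ℕ) < p then (Polynomial.X : Polynomial (PowerSeries ℤ)) else 1) *
      Polynomial.C ((PowerSeries.X : PowerSeries ℤ) ^ (e : ℕ)) else 0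

theorem coeff_Hs_pow (p n s D : ℕ) :
    PowerSeries.coeff s ((Hs p ^ n).coeff D) =
      (Fintype.card {e : Fin n → Fin p // (∀ i, 1 ≤ (e i : ℕ)) ∧ ∑ i, (e i : ℕ) = s ∧
        (Finset.univ.filter fun i => 2 * (e i : ℕ) < p).card = D} : ℤ) := by
  classical
  have h1 : Hs p ^ n = ∏ _i : Fin n, Hs p := by simp
  rw [h1]
  unfold Hs
  rw [Finset.prod_univ_sum, Fintype.piFinset_univ, Polynomial.finsetSum_coeff, map_sum]
  have h2 : ∀ e : Fin n → Fin p,
      PowerSeries.coeff s ((∏ i : Fin n, if 1 ≤ (e i : ℕ) then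
        (if 2 * (e i : ℕ) < p then (Polynomial.X : Polynomial (PowerSeries ℤ)) else 1) *
          Polynomial.C ((PowerSeries.X : PowerSeries ℤ) ^ (e i : ℕ)) else 0).coeff D) =
      if ((∀ i, 1 ≤ (e i : ℕ)) ∧ ∑ i, (e i : ℕ) = s ∧
        (Finset.univ.filter fun i => 2 * (e i : ℕ) < p).card = D) then (1 : ℤ) else 0 := by
    intro e
    rw [Finset.prod_ite_zero]
    by_cases h : ∀ i, 1 ≤ (e i : ℕ)
    · have h' : ∀ i ∈ (Finset.univ : Finset (Fin n)), 1 ≤ (e i : ℕ) := fun i _ => h i
      rw [if_pos h', Finset.prod_mul_distrib, Finset.prod_ite, Finset.prod_const_one, mul_one,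
        Finset.prod_const, ← map_prod, Finset.prod_pow_eq_pow_sum, Polynomial.coeff_X_pow_mul',
        ]
      generalize (Finset.univ.filter fun i => 2 * (e i : ℕ) < p).card = c
      by_cases hc : c = D
      · subst hc
        rw [if_pos le_rfl, Nat.sub_self, Polynomial.coeff_C_zero, PowerSeries.coeff_X_pow]
        by_cases hs : s = ∑ i, (e i : ℕ)
        · rw [if_pos hs, if_pos ⟨h, hs.symm, rfl⟩]
        · rw [if_neg hs, if_neg (fun hh => hs hh.2.1.symm)]
      · rw [if_neg (show ¬((∀ i, 1 ≤ (e i : ℕ)) ∧ ∑ i, (e i : ℕ) = s ∧ c = D) from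
          fun hh => hc hh.2.2)]
        by_cases hle : c ≤ D
        · rw [if_pos hle, Polynomial.coeff_C_of_ne_zero (by omega), map_zero]
        · rw [if_neg hle, map_zero]
    · have h' : ¬ ∀ i ∈ (Finset.univ : Finset (Fin n)), 1 ≤ (e i : ℕ) :=
        fun hh => h fun i => hh i (Finset.mem_univ i)
      rw [if_neg h', if_neg (fun hh => h hh.1), Polynomial.coeff_zero, map_zero]
  rw [Finset.sum_congr rfl fun e _ => h2 e]
  rw [Finset.sum_boole, Fintype.card_subtype]

theorem Hs_eq (q : ℕ) : Hs (2 * q + 1) =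
    Polynomial.X * Polynomial.C (Gs (q + 1)) +
      Polynomial.C ((PowerSeries.X : PowerSeries ℤ) ^ q * Gs (q + 1)) := by
  unfold Hs Gs
  rw [Fin.sum_univ_eq_sum_range (fun e => if 1 ≤ e then
    (if 2 * e < 2 * q + 1 then (Polynomial.X : Polynomial (PowerSeries ℤ)) else 1) *
      Polynomial.C ((PowerSeries.X : PowerSeries ℤ) ^ e) else 0) (2 * q + 1)]
  rw [Fin.sum_univ_eq_sum_range (fun e => if 1 ≤ e then (PowerSeries.X : PowerSeries ℤ) ^ e else 0) (q + 1)]
  have hsplit : 2 * q + 1 = (q + 1) + q := by ring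
  rw [hsplit, Finset.sum_range_add]
  congr 1
  · rw [map_sum, Finset.mul_sum]
    refine Finset.sum_congr rfl fun e he => ?_
    rw [Finset.mem_range] at he
    by_cases h1 : 1 ≤ e
    · rw [if_pos h1, if_pos h1, if_pos (by omega)]
    · rw [if_neg h1, if_neg h1, map_zero, mul_zero]
  · have h0 : ¬ (1 ≤ 0) := by omega
    rw [Finset.sum_range_succ', if_neg h0, add_zero, Finset.mul_sum, map_sum]
    · refine Finset.sum_congr rfl fun e he => ?_
      rw [Finset.mem_range] at he
      rw [if_pos (by omega), if_neg (by omega), one_mul, if_pos (by omega), ← pow_add]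
      congr 2
      omega

theorem constCoeff_Gs (p : ℕ) : PowerSeries.constantCoeff (Gs p) = 0 := by
  unfold Gs
  rw [map_sum]
  refine Finset.sum_eq_zero fun e _ => ?_
  by_cases h : 1 ≤ (e : ℕ)
  · rw [if_pos h, map_pow, PowerSeries.constantCoeff_X, zero_pow (by omega)]
  · rw [if_neg h, map_zero]

theorem coeff_Hs_pow' (q n D : ℕ) :
    (Hs (2 * q + 1) ^ n).coeff D =
      (n.choose D : PowerSeries ℤ) * (Gs (q + 1) ^ D *
        ((PowerSeries.X : PowerSeries ℤ) ^ ((n - D) * q) * Gs (q + 1) ^ (n - D))) := by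
  rw [Hs_eq, add_pow, Polynomial.finsetSum_coeff]
  have hterm : ∀ m ∈ Finset.range (n + 1),
      ((Polynomial.X * Polynomial.C (Gs (q + 1))) ^ m *
        Polynomial.C ((PowerSeries.X : PowerSeries ℤ) ^ q * Gs (q + 1)) ^ (n - m) *
          (n.choose m : Polynomial (PowerSeries ℤ))).coeff D =
      if m = D then (n.choose D : PowerSeries ℤ) * (Gs (q + 1) ^ D *
        ((PowerSeries.X : PowerSeries ℤ) ^ ((n - D) * q) * Gs (q + 1) ^ (n - D))) else 0 := by
    intro m _
    have : (Polynomial.X * Polynomial.C (Gs (q + 1))) ^ m *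
        Polynomial.C ((PowerSeries.X : PowerSeries ℤ) ^ q * Gs (q + 1)) ^ (n - m) *
          (n.choose m : Polynomial (PowerSeries ℤ)) =
        Polynomial.C ((n.choose m : PowerSeries ℤ) * (Gs (q + 1) ^ m *
        ((PowerSeries.X : PowerSeries ℤ) ^ ((n - m) * q) * Gs (q + 1) ^ (n - m)))) * Polynomial.X ^ m := by
      have hx : ((PowerSeries.X : PowerSeries ℤ) ^ q * Gs (q + 1)) ^ (n - m) =
          (PowerSeries.X : PowerSeries ℤ) ^ ((n - m) * q) * Gs (q + 1) ^ (n - m) := by
        rw [mul_pow, ← pow_mul, mul_comm q (n - m)]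
      rw [← hx]
      simp only [map_mul, map_pow, map_natCast]
      ring
    rw [this, Polynomial.coeff_C_mul_X_pow]
    by_cases h : m = D
    · subst h; simp
    · rw [if_neg (fun hh => h hh.symm), if_neg h]
  rw [Finset.sum_congr rfl hterm, Finset.sum_ite_eq' (Finset.range (n + 1)) D]
  by_cases hD : D ∈ Finset.range (n + 1)
  · rw [if_pos hD]
  · rw [if_neg hD]
    rw [Finset.mem_range] at hD
    rw [Nat.choose_eq_zero_of_lt (by omega), Nat.cast_zero, zero_mul]

/-- The second formula. For p odd and natural numbers n, s, write N_p(n, s) for the number of monomials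
of degree s in n variables in which every variable occurs with a positive exponent strictly less
than p, that is of exponent vectors (e_1, …, e_n) with sum s and 1 ≤ e_i ≤ p − 1, and N_p^D(n, s)
for the number of those in which exactly D variables occur with exponent less than p/2. Then
N_p^D(n, s) = C(n, D) · Σ_j N_{(p+1)/2}(D, j) · N_{(p+1)/2}(n − D, s − j − (n − D)(p − 1)/2), the
sum running over 0 ≤ j ≤ s. (Natural-number subtraction is used in the last argument; when it
truncates and n > D the factor vanishes, as it should. The published setting has p an odd prime;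
only p odd is used. The companion inclusion–exclusion expression for N_p(n, s) itself is a separate
statement.) -/
theorem result (p n s D : ℕ) (hp : Odd p) :
    Fintype.card {e : Fin n → Fin p // (∀ i, 1 ≤ (e i : ℕ)) ∧ ∑ i, (e i : ℕ) = s ∧
        (Finset.univ.filter fun i => 2 * (e i : ℕ) < p).card = D} =
      n.choose D * ∑ j ∈ Finset.range (s + 1),
        Fintype.card {e : Fin D → Fin ((p + 1) / 2) // (∀ i, 1 ≤ (e i : ℕ)) ∧ ∑ i, (e i : ℕ) = j} *
          Fintype.card {e : Fin (n - D) → Fin ((p + 1) / 2) // (∀ i, 1 ≤ (e i : ℕ)) ∧ ∑ i, (e i : ℕ) = (s - j - (n - D) * ((p - 1) / 2))} := by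
  obtain ⟨q, rfl⟩ := hp
  have hA : (2 * q + 1 + 1) / 2 = q + 1 := by omega
  have hB : (2 * q + 1 - 1) / 2 = q := by omega
  rw [hA, hB]
  have key : ((Fintype.card {e : Fin n → Fin (2 * q + 1) // (∀ i, 1 ≤ (e i : ℕ)) ∧ ∑ i, (e i : ℕ) = s ∧
        (Finset.univ.filter fun i => 2 * (e i : ℕ) < 2 * q + 1).card = D} : ℕ) : ℤ) =
      ((n.choose D * ∑ j ∈ Finset.range (s + 1),
        Fintype.card {e : Fin D → Fin (q + 1) // (∀ i, 1 ≤ (e i : ℕ)) ∧ ∑ i, (e i : ℕ) = j} *
          Fintype.card {e : Fin (n - D) → Fin (q + 1) // (∀ i, 1 ≤ (e i : ℕ)) ∧ ∑ i, (e i : ℕ) = (s - j - (n - D) * q)} : ℕ) : ℤ) := by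
    rw [← coeff_Hs_pow, coeff_Hs_pow']
    push_cast
    have hnat : ((n.choose D : ℕ) : PowerSeries ℤ) = PowerSeries.C ((n.choose D : ℕ) : ℤ) := by simp
    rw [hnat, PowerSeries.coeff_C_mul]
    congr 1
    rw [PowerSeries.coeff_mul, Finset.Nat.sum_antidiagonal_eq_sum_range_succ_mk]
    refine Finset.sum_congr rfl fun j hj => ?_
    rw [Finset.mem_range] at hj
    rw [← coeff_Gs_pow, ← coeff_Gs_pow]
    congr 1
    rw [PowerSeries.coeff_X_pow_mul']
    by_cases hle : (n - D) * q ≤ s - j
    · rw [if_pos hle]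
    · rw [if_neg hle]
      have h0 : s - j - (n - D) * q = 0 := by omega
      have hnD : n - D ≠ 0 := by
        intro h; rw [h, zero_mul] at hle; omega
      rw [h0, PowerSeries.coeff_zero_eq_constantCoeff_apply, map_pow, constCoeff_Gs, zero_pow hnD]
  exact_mod_cast key

end Groth.Agent.S19487
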