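import Groth.Statements.S19488
import Mathlib.Algebra.Homology.ShortComplex.Exact
import Mathlib.CategoryTheory.Adjunction.FullyFaithful
import Mathlib.CategoryTheory.Adjunction.Limits

set_option autoImplicit false
universe u
open CategoryTheory CategoryTheory.Limits AlgebraicGeometry
open W4c1frobunstiva

namespace Groth.Agent.S19488

/-- Fix a closed immersion of schemes f : S → T, an O_T-module G, an O_S-module E and an epimorphism ψ :
G → f_*E. Then the morphism ψ′ : f^*G → E that corresponds to ψ under the adjunction between
pullback and pushforward (it is the pullback f^*ψ followed by the counit f^*f_*E → E, an isomorphism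
for a closed immersion) is an epimorphism, and the canonical map f^*(ker ψ) → ker(f^*ψ) is an
epimorphism. (The published statement takes G and E locally free, which these two assertions do not
use.) -/
theorem result
    {S T : Scheme.{u}} (f : S ⟶ T) [IsClosedImmersion f] (G : T.Modules) (E : S.Modules)
    (ψ : G ⟶ (Scheme.Modules.pushforward f).obj E) [Epi ψ] :
    Epi (((Scheme.Modules.pullbackPushforwardAdjunction f).homEquiv G E).symm ψ) ∧
      Epi (kernelComparison ψ (Scheme.Modules.pullback f)) := by
  have hfaith : (Scheme.Modules.pushforward f).Faithful := ⟨fun {M N} φ φ' h => by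
    apply Scheme.Modules.hom_ext
    intro U
    obtain ⟨V, hV⟩ : ∃ V : T.Opens, f ⁻¹ᵁ V = U := by
      obtain ⟨V, hVo, hV⟩ := f.isClosedEmbedding.isInducing.isOpen_iff.mp U.isOpen
      exact ⟨⟨V, hVo⟩, TopologicalSpace.Opens.ext hV⟩
    subst hV
    exact congrArg (fun m => Scheme.Modules.Hom.app m V) h⟩
  constructor
  · rw [Adjunction.homEquiv_counit]
    have h1 : Epi ((Scheme.Modules.pullback f).map ψ) := inferInstance
    have h2 := (Scheme.Modules.pullbackPushforwardAdjunction f).counit_epi_of_R_faithful E
    exact epi_comp _ _
  · have hSc := ShortComplex.kernelSequence_exact ψ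
    have hE : Epi (ShortComplex.kernelSequence ψ).g := inferInstanceAs (Epi ψ)
    have := hSc.map_of_epi_of_preservesCokernel (Scheme.Modules.pullback f) hE inferInstance
    exact this.epi_kernelLift

end Groth.Agent.S19488
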