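import Mathlib
import Groth.Statements.S19489

set_option autoImplicit false
open scoped TensorProduct
open ZeroCyc

namespace Groth.Agent.S19489

section Helpers

variable (p : ℕ) [hp : Fact p.Prime] (A : Type) [CommRing A] [CharP A p]

omit hp in
theorem natCast_eq_zero (S : Type) [CommSemiring S] [Algebra A S] : (p : S) = 0 := by
  rw [← map_natCast (algebraMap A S) p, CharP.cast_eq_zero A p, map_zero]

theorem add_pow_p (S : Type) [CommSemiring S] [Algebra A S] (x y : S) :
    (x + y) ^ p = x ^ p + y ^ p := by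
  obtain ⟨r, hr⟩ := exists_add_pow_prime_eq hp.out x y
  rw [hr, natCast_eq_zero p A S]
  simp

theorem twist_smul (r : A) (a : FrobAlg.Twist p A) :
    (FrobAlg.toTwist p A).symm (r • a) = r ^ p * (FrobAlg.toTwist p A).symm a := by
  rw [Algebra.smul_def, FrobAlg.algebraMap_twist, map_mul, RingEquiv.symm_apply_apply]

/-- the bi-additive map `(s, a) ↦ s ^ p ⊗ a`. -/
noncomputable def biAdd (S : Type) [CommSemiring S] [Algebra A S] :
    S →+ FrobAlg.Twist p A →+ S ⊗[A] A where
  toFun s :=
    { toFun := fun a => (s ^ p) ⊗ₜ[A] ((FrobAlg.toTwist p A).symm a)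
      map_zero' := by rw [map_zero, TensorProduct.tmul_zero]
      map_add' := fun a b => by rw [map_add, TensorProduct.tmul_add] }
  map_zero' := by
    ext a
    change ((0 : S) ^ p) ⊗ₜ[A] ((FrobAlg.toTwist p A).symm a) = 0
    rw [zero_pow hp.out.ne_zero, TensorProduct.zero_tmul]
  map_add' := fun s t => by
    ext a
    change ((s + t) ^ p) ⊗ₜ[A] ((FrobAlg.toTwist p A).symm a) =
      (s ^ p) ⊗ₜ[A] ((FrobAlg.toTwist p A).symm a) + (t ^ p) ⊗ₜ[A] ((FrobAlg.toTwist p A).symm a)
    rw [add_pow_p p A S, TensorProduct.add_tmul]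

theorem biAdd_apply (S : Type) [CommSemiring S] [Algebra A S] (s : S) (a : FrobAlg.Twist p A) :
    biAdd p A S s a = (s ^ p) ⊗ₜ[A] ((FrobAlg.toTwist p A).symm a) := rfl

/-- the member `F_S` of the Frobenius law. -/
noncomputable def lawFun (S : Type) [CommSemiring S] [Algebra A S] :
    S ⊗[A] FrobAlg.Twist p A →+ S ⊗[A] A :=
  TensorProduct.liftAddHom (biAdd p A S) (by
    intro r s a
    rw [biAdd_apply, biAdd_apply, twist_smul, smul_pow, ← smul_eq_mul (r ^ p),
      TensorProduct.smul_tmul])

theorem lawFun_tmul (S : Type) [CommSemiring S] [Algebra A S] (s : S) (a : FrobAlg.Twist p A) :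
    lawFun p A S (s ⊗ₜ[A] a) = (s ^ p) ⊗ₜ[A] ((FrobAlg.toTwist p A).symm a) := rfl

/-- the Frobenius polynomial law. -/
noncomputable def frobLaw : FrobAlg.Twist p A →ₚₗ[A] A where
  toFun' S _ _ := fun x => lawFun p A S x
  isCompat' {S} _ _ {S'} _ _ φ := by
    funext x
    simp only [Function.comp_apply]
    induction x using TensorProduct.induction_on with
    | zero => simp
    | tmul s a =>
      rw [lawFun_tmul, LinearMap.rTensor_tmul, LinearMap.rTensor_tmul, lawFun_tmul]
      simp
    | add x y hx hy => rw [map_add, map_add, hx, hy, map_add, map_add]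

theorem frobLaw_toFun' (S : Type) [CommSemiring S] [Algebra A S] (x : S ⊗[A] FrobAlg.Twist p A) :
    (frobLaw p A).toFun' S x = lawFun p A S x := rfl

noncomputable def frobMulLaw : PolLaw.MulLaw A (FrobAlg.Twist p A) A p where
  law := frobLaw p A
  homog S _ _ s x := by
    rw [frobLaw_toFun', frobLaw_toFun']
    induction x using TensorProduct.induction_on with
    | zero => simp
    | tmul t a =>
      rw [TensorProduct.smul_tmul', lawFun_tmul, lawFun_tmul, smul_eq_mul, mul_pow,
        TensorProduct.smul_tmul', smul_eq_mul]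
    | add x y hx hy => rw [smul_add, map_add, map_add, hx, hy, smul_add]
  mult S _ _ := by
    refine ⟨?_, fun x y => ?_⟩
    · rw [frobLaw_toFun', Algebra.TensorProduct.one_def, lawFun_tmul, one_pow, map_one]
      rfl
    · rw [frobLaw_toFun', frobLaw_toFun', frobLaw_toFun']
      induction x using TensorProduct.induction_on with
      | zero => simp
      | tmul s a =>
        induction y using TensorProduct.induction_on with
        | zero => simp
        | tmul t b =>
          rw [Algebra.TensorProduct.tmul_mul_tmul, lawFun_tmul, lawFun_tmul, lawFun_tmul,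
            Algebra.TensorProduct.tmul_mul_tmul, mul_pow, map_mul]
        | add y z hy hz => rw [mul_add, map_add, map_add, hy, hz, mul_add]
      | add x z hx hz => rw [add_mul, map_add, map_add, hx, hz, add_mul]

theorem ker_eq_bot (F : PolLaw.MulLaw A (FrobAlg.Twist p A) A p)
    (hF : ∀ (S : Type) [CommSemiring S] [Algebra A S] (s : S) (a : FrobAlg.Twist p A),
      F.law.toFun' S (s ⊗ₜ[A] a) = (s ^ p) ⊗ₜ[A] (FrobAlg.toTwist p A).symm a) :
    PolLaw.ker F.law = ⊥ := by
  rw [eq_bot_iff]
  intro b hb
  have h : F.law.toFun' A ((0 : A ⊗[A] FrobAlg.Twist p A) + 1 * ((1 : A) ⊗ₜ[A] b)) =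
      F.law.toFun' A 0 := hb A 0 1
  rw [zero_add, one_mul, hF A 1 b] at h
  have h0 : F.law.toFun' A (0 : A ⊗[A] FrobAlg.Twist p A) = 0 := by
    have : (0 : A ⊗[A] FrobAlg.Twist p A) = (0 : A) ⊗ₜ[A] (0 : FrobAlg.Twist p A) :=
      (TensorProduct.zero_tmul _ _).symm
    rw [this, hF A 0 0, map_zero, TensorProduct.tmul_zero]
  rw [h0, one_pow] at h
  have h2 := congrArg (TensorProduct.lid A A) h
  rw [TensorProduct.lid_tmul, map_zero, one_smul] at h2
  rw [Ideal.mem_bot]
  exact (FrobAlg.toTwist p A).symm.injective (h2.trans (map_zero _).symm)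

theorem linIndep_X :
    LinearIndependent (FractionRing (MvPolynomial ℕ (ZMod p)))
      (fun i : ℕ => (FrobAlg.toTwist p (FractionRing (MvPolynomial ℕ (ZMod p))))
        (algebraMap (MvPolynomial ℕ (ZMod p)) (FractionRing (MvPolynomial ℕ (ZMod p)))
          (MvPolynomial.X i))) := by
  classical
  rw [linearIndependent_iff']
  intro s g hg j hj
  -- translate to the fraction field
  have h1 : ∑ i ∈ s, (g i) ^ p *
      algebraMap (MvPolynomial ℕ (ZMod p)) (FractionRing (MvPolynomial ℕ (ZMod p)))
        (MvPolynomial.X i) = 0 := by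
    have := congrArg (FrobAlg.toTwist p (FractionRing (MvPolynomial ℕ (ZMod p)))).symm hg
    rw [map_sum, map_zero] at this
    rw [← this]
    apply Finset.sum_congr rfl
    intro i _
    rw [twist_smul, RingEquiv.symm_apply_apply]
  obtain ⟨b, hb⟩ := IsLocalization.exist_integer_multiples
    (nonZeroDivisors (MvPolynomial ℕ (ZMod p))) s g
  choose! f hf using hb
  have hb0 : algebraMap (MvPolynomial ℕ (ZMod p)) (FractionRing (MvPolynomial ℕ (ZMod p)))
      (b : MvPolynomial ℕ (ZMod p)) ≠ 0 := by
    intro h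
    have := (IsFractionRing.injective (MvPolynomial ℕ (ZMod p))
      (FractionRing (MvPolynomial ℕ (ZMod p)))) (h.trans (map_zero _).symm)
    exact nonZeroDivisors.coe_ne_zero b this
  have h2 : ∑ i ∈ s, (f i) ^ p * MvPolynomial.X i = (0 : MvPolynomial ℕ (ZMod p)) := by
    apply IsFractionRing.injective (MvPolynomial ℕ (ZMod p))
      (FractionRing (MvPolynomial ℕ (ZMod p)))
    rw [map_sum, map_zero]
    have : ∀ i ∈ s, algebraMap (MvPolynomial ℕ (ZMod p))
        (FractionRing (MvPolynomial ℕ (ZMod p))) ((f i) ^ p * MvPolynomial.X i) =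
        (algebraMap (MvPolynomial ℕ (ZMod p)) (FractionRing (MvPolynomial ℕ (ZMod p)))
          (b : MvPolynomial ℕ (ZMod p))) ^ p * ((g i) ^ p *
          algebraMap (MvPolynomial ℕ (ZMod p)) (FractionRing (MvPolynomial ℕ (ZMod p)))
            (MvPolynomial.X i)) := by
      intro i hi
      rw [map_mul, map_pow, hf i hi, Algebra.smul_def, mul_pow, mul_assoc]
    rw [Finset.sum_congr rfl this, ← Finset.mul_sum, h1, mul_zero]
  have h3 := congrArg (MvPolynomial.pderiv j) h2
  rw [map_sum, map_zero] at h3
  have hterm : ∀ i ∈ s, MvPolynomial.pderiv j ((f i) ^ p * MvPolynomial.X i) =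
      if j = i then (f i) ^ p else 0 := by
    intro i _
    rw [Derivation.leibniz, Derivation.leibniz_pow, MvPolynomial.pderiv_X]
    have hp0 : (p : ℕ) • ((f i) ^ (p - 1) • MvPolynomial.pderiv j (f i)) = 0 := by
      rw [← Nat.cast_smul_eq_nsmul (MvPolynomial ℕ (ZMod p)), CharP.cast_eq_zero, zero_smul]
    rw [hp0, smul_zero, add_zero, Pi.single_apply]
    by_cases h : i = j
    · subst h; simp
    · rw [if_neg h, if_neg (Ne.symm h)]; simp
  rw [Finset.sum_congr rfl hterm, Finset.sum_ite_eq s j, if_pos hj] at h3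
  have hfj : f j = 0 := pow_eq_zero_iff (hp.out.ne_zero) |>.1 h3
  have := hf j hj
  rw [hfj, map_zero, Algebra.smul_def] at this
  exact (mul_eq_zero.1 this.symm).resolve_left hb0

theorem not_finite_twist :
    ¬ Module.Finite (FractionRing (MvPolynomial ℕ (ZMod p)))
      (FrobAlg.Twist p (FractionRing (MvPolynomial ℕ (ZMod p)))) := by
  intro hfin
  have : IsNoetherian (FractionRing (MvPolynomial ℕ (ZMod p)))
      (FrobAlg.Twist p (FractionRing (MvPolynomial ℕ (ZMod p)))) := inferInstance
  have := (linIndep_X p).finite_of_isNoetherian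
  exact _root_.not_finite ℕ

end Helpers

/-- Let p be a prime, k = F_p(t_0, t_1, …) the field of rational functions over F_p in countably many
variables, and K = k^{1/p} = F_p(t_0^{1/p}, t_1^{1/p}, …), modelled here as a copy of k made into a
k-algebra through the Frobenius b ↦ b ^ p (under a ↦ a ^ p the extension k ⊆ k^{1/p} becomes this
algebra). Then a ↦ a ^ p is a multiplicative polynomial law from K to k over k, homogeneous of
degree p: there is such a law sending s ⊗ a to s ^ p ⊗ a ^ p on every test algebra S, where a ^ p is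
read in k. Every such law has zero kernel, so the support of the corresponding family of zero-cycles
of degree p on Spec K over Spec k is all of Spec K; and K is not finite over k. Thus the support of
a family of zero-cycles need not be finite over the base. -/
theorem result (p : ℕ) [Fact p.Prime] :
    (∃ F : PolLaw.MulLaw (FractionRing (MvPolynomial ℕ (ZMod p))) (FrobAlg.Twist p (FractionRing (MvPolynomial ℕ (ZMod p)))) (FractionRing (MvPolynomial ℕ (ZMod p))) p,
      ∀ (S : Type) [CommSemiring S] [Algebra (FractionRing (MvPolynomial ℕ (ZMod p))) S] (s : S) (a : FrobAlg.Twist p (FractionRing (MvPolynomial ℕ (ZMod p)))),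
        F.law.toFun' S (s ⊗ₜ[FractionRing (MvPolynomial ℕ (ZMod p))] a) =
          (s ^ p) ⊗ₜ[FractionRing (MvPolynomial ℕ (ZMod p))] (FrobAlg.toTwist p (FractionRing (MvPolynomial ℕ (ZMod p)))).symm a) ∧
    (∀ F : PolLaw.MulLaw (FractionRing (MvPolynomial ℕ (ZMod p))) (FrobAlg.Twist p (FractionRing (MvPolynomial ℕ (ZMod p)))) (FractionRing (MvPolynomial ℕ (ZMod p))) p,
      (∀ (S : Type) [CommSemiring S] [Algebra (FractionRing (MvPolynomial ℕ (ZMod p))) S] (s : S) (a : FrobAlg.Twist p (FractionRing (MvPolynomial ℕ (ZMod p)))),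
        F.law.toFun' S (s ⊗ₜ[FractionRing (MvPolynomial ℕ (ZMod p))] a) =
          (s ^ p) ⊗ₜ[FractionRing (MvPolynomial ℕ (ZMod p))] (FrobAlg.toTwist p (FractionRing (MvPolynomial ℕ (ZMod p)))).symm a) →
      PolLaw.ker F.law = ⊥) ∧
    ¬ Module.Finite (FractionRing (MvPolynomial ℕ (ZMod p))) (FrobAlg.Twist p (FractionRing (MvPolynomial ℕ (ZMod p)))) := by
  refine ⟨⟨frobMulLaw p _, ?_⟩, ?_, not_finite_twist p⟩
  · intro S _ _ s a
    rfl
  · intro F hF
    exact ker_eq_bot p _ F hF

end Groth.Agent.S19489
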