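import Groth.Statements.S19498
import Groth.Agent.Lib.TopDiffInv21
import Groth.Agent.Lib.InvRank21
import Groth.Agent.Lib.InvPush21
import Groth.Agent.Lib.H0Const13

set_option autoImplicit false
universe u
open CategoryTheory CategoryTheory.Limits AlgebraicGeometry
open Canon

namespace Groth.Agent.S19498

/-- Let S be a locally Noetherian scheme and f : X ⟶ S a locally projective morphism, smooth of relative
dimension n, whose fibres are non-empty and geometrically connected; let ω be an n-th exterior power
of the sheaf of relative differentials of f (the relative canonical sheaf K_{X/S}) and m ≥ 1 an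
integer such that K^{⊗m} is trivial on fibres: for every point s of S the restriction of K^{⊗m} to
the fibre X_s is isomorphic to O_{X_s}. Assume H^1(X_s, O_{X_s}) = 0 for every point s of S. Then
the evaluation map f^* f_* K^{⊗m} ⟶ K^{⊗m}, the counit of the adjunction between pullback and
pushforward of modules, is an isomorphism. (The published statement has f projective and smooth of
possibly varying relative dimension; here f is taken locally projective of constant relative
dimension n.) -/
theorem result
    {X S : Scheme.{u}} [IsLocallyNoetherian S] (f : X ⟶ S)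
    (hproj : RedSub.IsLocallyProjective (Over.mk f))
    (n : ℕ) [SmoothOfRelativeDimension n f] [GeometricallyConnected f]
    (ω : X.Modules) (hω : Canon.IsTopDiff f n ω) (m : ℕ) (hm : 1 ≤ m)
    (htriv : ∀ s : ↥S, Nonempty ((Scheme.Modules.pullback (f.fiberι s)).obj (CohB1.tensorPow ω m) ≅
      Coh.structureModule (f.fiber s)))
    (hH1 : ∀ s : ↥S, Subsingleton (Coh.HH (f.fiber s) (Coh.structureModule (f.fiber s)) 1)) :
    IsIso ((Scheme.Modules.pullbackPushforwardAdjunction f).counit.app (CohB1.tensorPow ω m)) := by
  have hprop : IsProper f := Groth.Agent.Lib.TopDiffInv21.isProper_of_isLocallyProjective f hproj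
  have : Smooth f := SmoothOfRelativeDimension.smooth n f
  have : GeometricallyReduced f := Groth.Agent.Lib.TopDiffInv21.geometricallyReduced_of_smooth f
  have hω' : PicF.IsInvertible ω := Groth.Agent.Lib.TopDiffInv21.isInvertible_of_isTopDiff n f hω
  have hL := Groth.Agent.Lib.H78TensorGen.isInvertible_tensorPow hω' m
  have key : ∀ y : S, ∃ U : S.Opens, y ∈ U ∧
      (∃ s : Γ(CohB1.tensorPow ω m, f ⁻¹ᵁ U),
        Groth.Agent.Lib.H90Invertible.IsGen (CohB1.tensorPow ω m) (f ⁻¹ᵁ U) s) ∧
      ∀ W : S.Opens, W ≤ U → Function.Bijective (f.app W) := fun y => by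
    obtain ⟨U₁, hy₁, hiso⟩ := Groth.Agent.Lib.InvNear21.exists_nhd_trivial f y (hH1 y) _ hL (htriv y)
    obtain ⟨s, hs⟩ := (Groth.Agent.Lib.H90Invertible.nonempty_restrict_ι_iso_iff _ (f ⁻¹ᵁ U₁)).1 hiso
    have h0 : Module.finrank (S.residueField y) Γ(f.fiber y, ⊤) = 1 := by
      have : IsProper (f.fiberToSpecResidueField y) :=
        inferInstanceAs (IsProper (pullback.snd f (S.fromSpecResidueField y)))
      exact Groth.Agent.Lib.H0Const13.finrank_appTop_eq_one (S.residueField y)
        (f.fiberToSpecResidueField y)
    obtain ⟨U₂, hy₂, hU₂⟩ := Groth.Agent.S2393.result f y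
      (Groth.Agent.Lib.InvRank21.bijective_algebraMap_of_finrank f y h0)
    refine ⟨U₁ ⊓ U₂, ⟨hy₁, hy₂⟩, ⟨_, hs.mono (f.preimage_mono inf_le_left)⟩, fun W hW => ?_⟩
    have := hU₂ W (hW.trans inf_le_right)
    exact (ConcreteCategory.isIso_iff_bijective (f.app W)).mp inferInstance
  exact Groth.Agent.Lib.InvPush21.isIso_counit f _ key

end Groth.Agent.S19498
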