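import Groth.Statements.S19502
import Mathlib.Topology.Algebra.InfiniteSum.Real
import Mathlib.Analysis.Normed.Group.InfiniteSum
import Mathlib.Tactic

set_option autoImplicit false
universe u
open W4c3ghconstell

namespace Groth.Agent.S19502

section
variable {ι : Type u} [DecidableEq ι]

theorem summable_ite (f : ι → ℝ) (hf : Summable f) (E : Finset ι) :
    Summable (fun i => if i ∈ E then (0 : ℝ) else f i) := by
  refine Summable.of_norm_bounded (g := fun i => |f i|) (Summable.abs hf) (fun i => ?_)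
  split_ifs <;> simp

theorem tsum_split (f : ι → ℝ) (hf : Summable f) (E : Finset ι) :
    ∑' i, f i = ∑ i ∈ E, f i + ∑' i, if i ∈ E then (0 : ℝ) else f i := by
  have h1 : Summable (fun i => if i ∈ E then f i else (0 : ℝ)) :=
    summable_of_ne_finset_zero (s := E) (fun i hi => by simp [hi])
  have h2 := summable_ite f hf E
  have h3 : (fun i => f i) = fun i => (if i ∈ E then f i else (0 : ℝ)) + (if i ∈ E then (0 : ℝ) else f i) := by
    funext i
    split_ifs <;> simp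
  rw [h3, h1.tsum_add h2]
  congr 1
  rw [tsum_eq_sum (s := E) (fun i hi => by simp [hi])]
  exact Finset.sum_congr rfl (fun i hi => by simp [hi])

theorem S_split (f : ι → ℝ) (hf : Summable f) (D D' : Finset ι) (hDD' : D ⊆ D') :
    (∑' i, if i ∈ D then (0 : ℝ) else f i) =
      (∑' i, if i ∈ D' then (0 : ℝ) else f i) + ∑ τ ∈ D' \ D, f τ := by
  rw [tsum_split _ (summable_ite f hf D) (D' \ D), add_comm]
  congr 1
  · apply tsum_congr
    intro i
    by_cases h1 : i ∈ D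
    · have : i ∈ D' := hDD' h1
      simp [h1, this]
    · by_cases h2 : i ∈ D'
      · simp [h1, h2]
      · simp [h1, h2]
  · apply Finset.sum_congr rfl
    intro i hi
    rw [Finset.mem_sdiff] at hi
    simp [hi.2]

omit [DecidableEq ι] in
theorem sum_expand (T : Finset ι) (F q : ι → ℝ) (a b : ℝ) :
    ∑ τ ∈ T, (F τ + a) * (q τ - b) =
      ∑ τ ∈ T, F τ * q τ - b * ∑ τ ∈ T, F τ + a * ∑ τ ∈ T, q τ - a * b * (T.card : ℝ) := by
  simp only [add_mul, mul_sub, Finset.sum_add_distrib, Finset.sum_sub_distrib, ← Finset.mul_sum,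
    ← Finset.sum_mul, Finset.sum_const, nsmul_eq_mul]
  ring

end


/-- Let ι index the irreducible representations, θ : ι → ℚ a weight which is negative exactly on the
finite set D₋, h h' : ι → ℕ with h' ≤ h pointwise (the isotypic dimensions of an object and of a
sub-object) and Σ_i θ_i h_i summable. For a finite set D of indices put S_D = Σ_{i ∉ D} θ_i h_i, d =
#(D ∖ D₋) and θ̃_D = Σ_{i ∈ D} θ_i h'_i + (S_D / d) · Σ_{i ∈ D ∖ D₋} h'_i / h_i, the modified weight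
attached to the parameters chosen for D (a quotient by zero is read as zero). Then for finite sets
D₋ ⊆ D ⊆ D̃ contained in the locus θ ≠ 0: (first error term) θ̃_{D̃} − θ̃_D = Σ_{τ ∈ D̃ ∖ D} (θ_τ
h_τ + S_{D̃}/d̃) · (h'_τ/h_τ − (1/d) Σ_{σ ∈ D ∖ D₋} h'_σ/h_σ); (second error term) Σ_i θ_i h'_i −
θ̃_D = Σ_{τ ∉ D} θ_τ h_τ · (h'_τ/h_τ − (1/d) Σ_{σ ∈ D ∖ D₋} h'_σ/h_σ). -/
theorem result {ι : Type u} [DecidableEq ι]
    (θ : ι → ℚ) (h h' : ι → ℕ) (hle : ∀ i, h' i ≤ h i) (hfin : {i | θ i < 0}.Finite)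
    (hsum : Summable (fun i => (θ i : ℝ) * (h i : ℝ))) (D D' : Finset ι)
    (hDm : hfin.toFinset ⊆ D) (hDD' : D ⊆ D') (hsupp : ∀ i ∈ D', θ i ≠ 0) :
    (((∑ i ∈ D', (θ i : ℝ) * (h' i : ℝ)) + ((∑' i, if i ∈ D' then (0 : ℝ) else (θ i : ℝ) * (h i : ℝ)) / ((D' \ hfin.toFinset).card : ℝ)) * (∑ σ ∈ D' \ hfin.toFinset, ((h' σ : ℝ) / (h σ : ℝ)))) - ((∑ i ∈ D, (θ i : ℝ) * (h' i : ℝ)) + ((∑' i, if i ∈ D then (0 : ℝ) else (θ i : ℝ) * (h i : ℝ)) / ((D \ hfin.toFinset).card : ℝ)) * (∑ σ ∈ D \ hfin.toFinset, ((h' σ : ℝ) / (h σ : ℝ)))) =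
      ∑ τ ∈ D' \ D, ((θ τ : ℝ) * (h τ : ℝ) + (∑' i, if i ∈ D' then (0 : ℝ) else (θ i : ℝ) * (h i : ℝ)) / ((D' \ hfin.toFinset).card : ℝ)) *
        (((h' τ : ℝ) / (h τ : ℝ)) - (1 / ((D \ hfin.toFinset).card : ℝ)) * (∑ σ ∈ D \ hfin.toFinset, ((h' σ : ℝ) / (h σ : ℝ))))) ∧
    ((∑' i, (θ i : ℝ) * (h' i : ℝ)) - ((∑ i ∈ D, (θ i : ℝ) * (h' i : ℝ)) + ((∑' i, if i ∈ D then (0 : ℝ) else (θ i : ℝ) * (h i : ℝ)) / ((D \ hfin.toFinset).card : ℝ)) * (∑ σ ∈ D \ hfin.toFinset, ((h' σ : ℝ) / (h σ : ℝ)))) =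
      ∑' τ, if τ ∈ D then (0 : ℝ) else (θ τ : ℝ) * (h τ : ℝ) *
        (((h' τ : ℝ) / (h τ : ℝ)) - (1 / ((D \ hfin.toFinset).card : ℝ)) * (∑ σ ∈ D \ hfin.toFinset, ((h' σ : ℝ) / (h σ : ℝ))))) := by
  set Dm := hfin.toFinset with hDmdef
  set F : ι → ℝ := fun i => (θ i : ℝ) * (h i : ℝ) with hF
  set F' : ι → ℝ := fun i => (θ i : ℝ) * (h' i : ℝ) with hF'
  set q : ι → ℝ := fun i => (h' i : ℝ) / (h i : ℝ) with hq
  -- basic facts
  have hFq : ∀ i, F i * q i = F' i := by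
    intro i
    simp only [hF, hF', hq]
    by_cases h0 : h i = 0
    · have : h' i = 0 := Nat.le_zero.mp (h0 ▸ hle i)
      simp [h0, this]
    · have : (h i : ℝ) ≠ 0 := by exact_mod_cast h0
      field_simp
  have hsum' : Summable F' := by
    refine Summable.of_norm_bounded (g := fun i => |F i|) (Summable.abs hsum) (fun i => ?_)
    simp only [hF, hF', Real.norm_eq_abs, abs_mul]
    apply mul_le_mul_of_nonneg_left _ (abs_nonneg _)
    rw [abs_of_nonneg (Nat.cast_nonneg _), abs_of_nonneg (Nat.cast_nonneg _)]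
    exact_mod_cast hle i
  set S' : ℝ := ∑' i, if i ∈ D' then (0 : ℝ) else F i with hS'
  set S : ℝ := ∑' i, if i ∈ D then (0 : ℝ) else F i with hS
  set Q : ℝ := ∑ σ ∈ D \ Dm, q σ with hQ
  set Q' : ℝ := ∑ σ ∈ D' \ Dm, q σ with hQ'
  have hSS' : S = S' + ∑ τ ∈ D' \ D, F τ := S_split F hsum D D' hDD'
  have hunion : D' \ Dm = (D \ Dm) ∪ (D' \ D) := by
    ext i
    simp only [Finset.mem_sdiff, Finset.mem_union]
    constructor
    · rintro ⟨h1, h2⟩
      by_cases h3 : i ∈ D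
      · exact Or.inl ⟨h3, h2⟩
      · exact Or.inr ⟨h1, h3⟩
    · rintro (⟨h1, h2⟩ | ⟨h1, h2⟩)
      · exact ⟨hDD' h1, h2⟩
      · exact ⟨h1, fun h3 => h2 (hDm h3)⟩
  have hdisj : Disjoint (D \ Dm) (D' \ D) := by
    rw [Finset.disjoint_left]
    intro i h1 h2
    exact (Finset.mem_sdiff.mp h2).2 (Finset.mem_sdiff.mp h1).1
  have hQQ' : Q' = Q + ∑ τ ∈ D' \ D, q τ := by
    rw [hQ', hunion, Finset.sum_union hdisj]
  have hcard : ((D' \ Dm).card : ℝ) = ((D \ Dm).card : ℝ) + ((D' \ D).card : ℝ) := by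
    rw [hunion, Finset.card_union_of_disjoint hdisj]
    push_cast; ring
  have hsumD' : ∑ i ∈ D', F' i = ∑ i ∈ D, F' i + ∑ τ ∈ D' \ D, F' τ := by
    rw [← Finset.sum_sdiff hDD', add_comm]
  have hQ0 : ((D \ Dm).card : ℝ) = 0 → Q = 0 := by
    intro h0
    have : (D \ Dm).card = 0 := by exact_mod_cast h0
    rw [Finset.card_eq_zero] at this
    rw [hQ, this, Finset.sum_empty]
  constructor
  · -- first identity
    change (∑ i ∈ D', F' i + S' / ((D' \ Dm).card : ℝ) * Q') - (∑ i ∈ D, F' i + S / ((D \ Dm).card : ℝ) * Q) =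
      ∑ τ ∈ D' \ D, (F τ + S' / ((D' \ Dm).card : ℝ)) * (q τ - 1 / ((D \ Dm).card : ℝ) * Q)
    have hT3 : ∑ τ ∈ D' \ D, F τ * q τ = ∑ τ ∈ D' \ D, F' τ :=
      Finset.sum_congr rfl (fun τ _ => hFq τ)
    rw [sum_expand, hT3, hsumD', hQQ', hSS']
    generalize (∑ τ ∈ D' \ D, F' τ) = T3
    generalize (∑ τ ∈ D' \ D, F τ) = T1
    generalize (∑ τ ∈ D' \ D, q τ) = T2
    generalize (∑ i ∈ D, F' i) = T0
    by_cases hd : ((D \ Dm).card : ℝ) = 0
    · rw [hQ0 hd]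
      simp only [mul_zero, zero_mul, sub_zero, add_zero, zero_add]
      ring
    · have hd' : ((D' \ Dm).card : ℝ) ≠ 0 := by
        rw [hcard]
        have h1 : (0 : ℝ) < ((D \ Dm).card : ℝ) := lt_of_le_of_ne (Nat.cast_nonneg _) (Ne.symm hd)
        have h2 : (0 : ℝ) ≤ ((D' \ D).card : ℝ) := Nat.cast_nonneg _
        linarith
      have hm : ((D' \ D).card : ℝ) = ((D' \ Dm).card : ℝ) - ((D \ Dm).card : ℝ) := by
        rw [hcard]; ring
      rw [hm]
      generalize ((D' \ Dm).card : ℝ) = d' at hd' ⊢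
      generalize ((D \ Dm).card : ℝ) = d at hd ⊢
      generalize Q = Qv
      generalize S' = Sv
      field_simp
      ring
  · -- second identity
    change (∑' i, F' i) - (∑ i ∈ D, F' i + S / ((D \ Dm).card : ℝ) * Q) =
      ∑' τ, if τ ∈ D then (0 : ℝ) else F τ * (q τ - 1 / ((D \ Dm).card : ℝ) * Q)
    have h1 : (fun τ => if τ ∈ D then (0 : ℝ) else F τ * (q τ - 1 / ((D \ Dm).card : ℝ) * Q)) =
        fun τ => (if τ ∈ D then (0 : ℝ) else F' τ) -
          (1 / ((D \ Dm).card : ℝ) * Q) * (if τ ∈ D then (0 : ℝ) else F τ) := by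
      funext τ
      split_ifs
      · simp
      · rw [← hFq τ]; ring
    rw [h1, (summable_ite F' hsum' D).tsum_sub ((summable_ite F hsum D).mul_left _), tsum_mul_left,
      tsum_split F' hsum' D]
    ring

end Groth.Agent.S19502
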