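import Groth.Statements.S19506
import Groth.Agent.S9316
import Groth.Agent.S2453

set_option autoImplicit false
universe u
open CAlg

namespace Groth.Agent.S19506

/-- (i) ⇔ (iii): let k be a field and A a complete local Noetherian k-algebra with residue field k (a
k-algebra map π : A → k with kernel the maximal ideal; A complete for the adic topology of its
maximal ideal). Then A is regular if and only if A satisfies the infinitesimal lifting criterion:
for every Artinian local k-algebra R and every ideal J of R of square zero, every local k-algebra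
homomorphism A → R/J (one carrying non-units to non-units) lifts to a k-algebra homomorphism A → R.
(The test algebras R range over one universe, that of A. The published criterion is worded for
arbitrary k-algebra homomorphisms A → R/J; it is stated here for local ones, the case the argument
establishes and the form in which the text itself restates the criterion afterwards. The published
statement lists a third equivalent condition, A ≅ k[[x_1, …, x_d]].) -/
theorem result (k A : Type u) [Field k]
    [CommRing A] [Algebra k A] [IsLocalRing A] [IsNoetherianRing A]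
    [IsAdicComplete (IsLocalRing.maximalIdeal A) A]
    (π : A →ₐ[k] k) (hπ : RingHom.ker π = IsLocalRing.maximalIdeal A) :
    IsRegularLocalRing A ↔
      ∀ (R : Type u) [CommRing R] [Algebra k R] [IsArtinianRing R] [IsLocalRing R] (J : Ideal R),
        J ^ 2 = ⊥ → ∀ f : A →ₐ[k] R ⧸ J, IsLocalHom (f : A →+* R ⧸ J) →
          ∃ g : A →ₐ[k] R, (Ideal.Quotient.mkₐ k J).comp g = f := by
  classical
  let πbar : IsLocalRing.ResidueField A →ₐ[k] k :=
    Ideal.Quotient.liftₐ (IsLocalRing.maximalIdeal A) π (fun a ha => by rw [← hπ] at ha; exact ha)
  have hπinj : Function.Injective πbar := RingHom.injective πbar.toRingHom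
  have hgrk : Algebra.IsGeometricallyReduced k k := by
    rw [Algebra.isGeometricallyReduced_field_iff]
    exact isReduced_of_injective (Algebra.TensorProduct.rid k k (AlgebraicClosure k))
      (AlgEquiv.injective _)
  have hgr : Algebra.IsGeometricallyReduced k (IsLocalRing.ResidueField A) :=
    Algebra.IsGeometricallyReduced.of_injective πbar hπinj
  have htfae := Groth.Agent.S2453.result (k := k) (A := A)
  have hiff : CAlgX.IsAdicFormallySmooth k A (IsLocalRing.maximalIdeal A) ↔ IsRegularLocalRing A :=
    htfae.out 0 3
  rw [← hiff]
  constructor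
  · intro hfs R _ _ _ _ J hJ f hf
    apply hfs R J hJ f
    obtain ⟨m, hm⟩ : ∃ m, IsLocalRing.maximalIdeal R ^ m = ⊥ := by
      have := IsArtinianRing.isNilpotent_jacobson_bot (R := R)
      rw [IsLocalRing.jacobson_eq_maximalIdeal ⊥ bot_ne_top] at this
      exact this
    have hJtop : J ≠ ⊤ := by
      intro h
      have h1 : (1 : R) ∈ J ^ 2 := by rw [h, Ideal.top_pow]; exact Submodule.mem_top
      rw [hJ, Ideal.mem_bot] at h1
      exact one_ne_zero h1
    have : Nontrivial (R ⧸ J) := Ideal.Quotient.nontrivial_iff.mpr hJtop
    have : IsLocalRing (R ⧸ J) :=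
      IsLocalRing.of_surjective' (Ideal.Quotient.mk J) Ideal.Quotient.mk_surjective
    refine ⟨m, fun x hx => ?_⟩
    have h3 : (IsLocalRing.maximalIdeal A ^ m).map (f : A →+* R ⧸ J) ≤
        IsLocalRing.maximalIdeal (R ⧸ J) ^ m := by
      rw [Ideal.map_pow]
      exact Ideal.pow_right_mono (IsLocalRing.map_maximalIdeal_le (f : A →+* R ⧸ J)) m
    have h4 : IsLocalRing.maximalIdeal (R ⧸ J) ^ m = ⊥ := by
      rw [← IsLocalRing.map_maximalIdeal_of_surjective (Ideal.Quotient.mk J)
        Ideal.Quotient.mk_surjective, ← Ideal.map_pow, hm, Ideal.map_bot]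
    have h5 := h3 (Ideal.mem_map_of_mem _ hx)
    rw [h4] at h5
    simpa using h5
  · intro H
    rw [Groth.Agent.S9316.result]
    intro A' _ _ _ _ _ J hJ2 _ _ ψ hψ _
    exact H A' J hJ2 ψ ⟨fun a ha => hψ.map_nonunit a ha⟩

end Groth.Agent.S19506
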