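import Groth.Statements.S19514
import Mathlib
import Groth.Agent.S19511

set_option autoImplicit false
universe u
open CategoryTheory CategoryTheory.Limits AlgebraicGeometry
open Variety

namespace Groth.Agent.S19514

section Helpers

namespace G1
set_option linter.style.haveILetI false
open CategoryTheory CategoryTheory.Limits AlgebraicGeometry TopologicalSpace Opposite

/-- If `f.app` is an isomorphism on a basis of opens, then on all opens. -/
theorem isIso_app_of_basis {X Y : Scheme.{u}} (f : X ⟶ Y) {ι : Type*} (B : ι → Y.Opens)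
    (hB : Opens.IsBasis (Set.range B)) (h : ∀ i, IsIso (f.app (B i))) (V : Y.Opens) :
    IsIso (f.app V) := by
  let φ : Y.sheaf ⟶ (TopCat.Sheaf.pushforward CommRingCat f.base).obj X.sheaf := ⟨f.c⟩
  have hφ : IsIso φ := TopCat.Sheaf.isIso_iff_isIso_basis (B := B) hB (fun i => h i)
  have h1 : IsIso ((TopCat.Sheaf.forget CommRingCat (Y : TopCat)).map φ) := Functor.map_isIso _ _
  have h2 : IsIso (((TopCat.Sheaf.forget CommRingCat (Y : TopCat)).map φ).app (op V)) :=
    inferInstance
  exact h2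

/-- flat base change of a fibration, on small affine opens. -/
theorem isIso_app_of_isPullback {X Y X' Z : Scheme.{u}} {f : X ⟶ Y} {p : Z ⟶ Y} {g : X' ⟶ X}
    {f' : X' ⟶ Z} (H : IsPullback g f' f p) [Flat p] [QuasiCompact f] [QuasiSeparatedSpace X]
    (U : Y.Opens) (hU : IsAffineOpen U) (hfU : IsIso (f.app U))
    (V : Z.Opens) (hV : IsAffineOpen V) (hVU : V ≤ p ⁻¹ᵁ U) : IsIso (f'.app V) := by
  have hUY : f' ⁻¹ᵁ V = g ⁻¹ᵁ (f ⁻¹ᵁ U) ⊓ f' ⁻¹ᵁ V := by
    refine le_antisymm (le_inf ?_ le_rfl) inf_le_right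
    intro x hx
    change f (g x) ∈ U
    have : f (g x) = p (f' x) := by
      have := congr($(H.w) x)
      simpa using this
    rw [this]
    exact hVU hx
  have hcomp : IsCompact ((f ⁻¹ᵁ U : X.Opens) : Set X) :=
    QuasiCompact.isCompact_preimage (f := f) _ U.isOpen hU.isCompact
  have hqs : IsQuasiSeparated ((f ⁻¹ᵁ U : X.Opens) : Set X) :=
    IsQuasiSeparated.of_quasiSeparatedSpace _
  have hiso := isIso_pushoutSection_of_isQuasiSeparated_of_flat_right H hVU le_rfl hUY hU hV
    hcomp hqs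
  have hinr : IsIso (pushout.inr (f.appLE U (f ⁻¹ᵁ U) le_rfl) (p.appLE U V hVU)) := by
    haveI : IsIso (f.appLE U (f ⁻¹ᵁ U) le_rfl) := by
      rw [← Scheme.Hom.app_eq_appLE]; exact hfU
    infer_instance
  have hcomp' : pushout.inr (f.appLE U (f ⁻¹ᵁ U) le_rfl) (p.appLE U V hVU) ≫
      pushoutSection H hVU le_rfl hUY = f'.appLE V (f' ⁻¹ᵁ V) le_rfl := by
    exact pushout.inr_desc _ _ _
  have h3 : IsIso (f'.appLE V (f' ⁻¹ᵁ V) le_rfl) := by
    rw [← hcomp']
    exact IsIso.comp_isIso' hinr hiso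
  rw [Scheme.Hom.app_eq_appLE]
  exact h3

end G1

namespace G2
set_option linter.style.haveILetI false
open CategoryTheory CategoryTheory.Limits AlgebraicGeometry TopologicalSpace Opposite

/-- integrality of the target of a surjective fibration. -/
theorem isIntegral_of_fibration {X Y : Scheme.{u}} (f : X ⟶ Y) [Surjective f]
    (hfib : ∀ V : Y.Opens, IsIso (f.app V)) [IsIntegral X] : IsIntegral Y := by
  have hne : Nonempty X := inferInstance
  refine { nonempty := ⟨f.base hne.some⟩, component_integral := ?_ }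
  intro V hV
  have hiso := hfib V
  obtain ⟨y, hy⟩ := hV
  obtain ⟨x, rfl⟩ := f.surjective y
  have : Nonempty (f ⁻¹ᵁ V) := ⟨⟨x, hy⟩⟩
  have hdom : IsDomain Γ(X, f ⁻¹ᵁ V) := inferInstance
  exact (asIso (f.app V)).commRingCatIsoToRingEquiv.toMulEquiv.isDomain _

/-- flat base change of a fibration is a fibration. -/
theorem isIso_app_of_isPullback_of_flat {X Y X' Z : Scheme.{u}} {f : X ⟶ Y} {p : Z ⟶ Y}
    {g : X' ⟶ X} {f' : X' ⟶ Z} (H : IsPullback g f' f p) [Flat p] [QuasiCompact f]
    [QuasiSeparatedSpace X] (hfib : ∀ V : Y.Opens, IsIso (f.app V)) (V : Z.Opens) :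
    IsIso (f'.app V) := by
  let ι := {V : Z.affineOpens // ∃ U : Y.affineOpens, V.1 ≤ p ⁻¹ᵁ U.1}
  let B : ι → Z.Opens := fun i => i.1.1
  have hB : Opens.IsBasis (Set.range B) := by
    rw [Opens.isBasis_iff_nbhd]
    intro W z hz
    obtain ⟨_, ⟨U, hU, rfl⟩, hzU, -⟩ :=
      Y.isBasis_affineOpens.exists_subset_of_mem_open (Set.mem_univ (p z)) isOpen_univ
    obtain ⟨_, ⟨V', hV', rfl⟩, hzV', hV'W⟩ :=
      Z.isBasis_affineOpens.exists_subset_of_mem_open
        (show z ∈ ((p ⁻¹ᵁ U ⊓ W : Z.Opens) : Set Z) from ⟨hzU, hz⟩) (p ⁻¹ᵁ U ⊓ W).isOpen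
    refine ⟨V', ⟨⟨⟨V', hV'⟩, ⟨U, hU⟩, fun a ha => (hV'W ha).1⟩, rfl⟩, hzV',
      fun a ha => (hV'W ha).2⟩
  refine G1.isIso_app_of_basis f' B hB (fun i => ?_) V
  obtain ⟨⟨V', hV'⟩, ⟨U, hU⟩, hle⟩ := i
  exact G1.isIso_app_of_isPullback H U hU (hfib U) V' hV' hle

theorem main (k : Type u) [Field k] (X Y : Scheme.{u})
    [X.Over (Spec (CommRingCat.of k))] [Y.Over (Spec (CommRingCat.of k))] [IsProper (X ↘ Spec (CommRingCat.of k))] [IsProper (Y ↘ Spec (CommRingCat.of k))]
    (f : X ⟶ Y) (hf : f ≫ (Y ↘ Spec (CommRingCat.of k)) = X ↘ Spec (CommRingCat.of k)) (hfib : ∀ V : Y.Opens, IsIso (f.app V))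
    [GeometricallyIntegral (X ↘ Spec (CommRingCat.of k))] : GeometricallyIntegral (Y ↘ Spec (CommRingCat.of k)) := by
  haveI hsurj : Surjective f := Groth.Agent.S19511.result k X Y f hf hfib
  have h1 : IsProper (f ≫ (Y ↘ Spec (CommRingCat.of k))) := by rw [hf]; infer_instance
  haveI hfp : IsProper f := IsProper.of_comp f (Y ↘ Spec (CommRingCat.of k))
  haveI : QuasiSeparatedSpace X :=
    quasiSeparatedSpace_of_quasiSeparated (X ↘ Spec (CommRingCat.of k))
  constructor
  intro K _ y Z fst snd h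
  let X' := pullback f fst
  let g : X' ⟶ X := pullback.fst f fst
  let f' : X' ⟶ Z := pullback.snd f fst
  have H : IsPullback g f' f fst := IsPullback.of_hasPullback f fst
  have Hbig : IsPullback g (f' ≫ snd) (X ↘ Spec (CommRingCat.of k)) y := by
    rw [← hf]
    exact H.paste_vert h
  haveI : IsIntegral X' :=
    (GeometricallyIntegral.geometrically_isIntegral (f := X ↘ Spec (CommRingCat.of k)))
      y g (f' ≫ snd) Hbig
  haveI : Flat y := by
    obtain ⟨φ, rfl⟩ := Spec.map_surjective y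
    rw [Flat.SpecMap_iff]
    algebraize [φ.hom]
    change Module.Flat k K
    infer_instance
  haveI : Flat fst := MorphismProperty.of_isPullback h.flip ‹Flat y›
  haveI : Surjective f' := MorphismProperty.of_isPullback H ‹Surjective f›
  have hfib' : ∀ V : Z.Opens, IsIso (f'.app V) :=
    isIso_app_of_isPullback_of_flat H hfib
  exact isIntegral_of_fibration f' hfib'

end G2

end Helpers

/-- Let k be a field and f : X → Y a k-morphism between proper k-schemes which is a fibration, i.e. O_Y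
→ f_*O_X is an isomorphism (Γ(V, O_Y) → Γ(f⁻¹V, O_X) bijective for every open V ⊆ Y). If X is
geometrically integral over k, then so is Y. (The assertion of (iii) for geometric normality is not
stated here.) -/
theorem result (k : Type u) [Field k] (X Y : Scheme.{u})
    [X.Over (Spec (CommRingCat.of k))] [Y.Over (Spec (CommRingCat.of k))] [IsProper (X ↘ Spec (CommRingCat.of k))] [IsProper (Y ↘ Spec (CommRingCat.of k))]
    (f : X ⟶ Y) (hf : f ≫ (Y ↘ Spec (CommRingCat.of k)) = X ↘ Spec (CommRingCat.of k)) (hfib : ∀ V : Y.Opens, IsIso (f.app V))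
    [GeometricallyIntegral (X ↘ Spec (CommRingCat.of k))] : GeometricallyIntegral (Y ↘ Spec (CommRingCat.of k)) := by
  exact G2.main k X Y f hf hfib

end Groth.Agent.S19514
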