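import Groth.Statements.S19515
import Mathlib
import Groth.Agent.Lib.FibrationNormal5
import Groth.Agent.Lib.HenselCouple61
import Groth.Agent.Lib.NormNormal96A
import Groth.Agent.S19511
import Groth.Prelude.Def_ClSub2

set_option autoImplicit false
universe u
open CategoryTheory CategoryTheory.Limits AlgebraicGeometry
open Variety

namespace Groth.Agent.S19515

section Helpers

namespace N1
open CategoryTheory CategoryTheory.Limits AlgebraicGeometry TopologicalSpace Opposite
open Groth.Agent.Lib.FibrationNormal5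

variable {X Y : Scheme.{u}} [IsIntegral X] [IsIntegral Y] (f : X ⟶ Y)

theorem specializes_of_surjective [Surjective f] :
    f.base (genericPoint X) ⤳ genericPoint Y := by
  obtain ⟨x, hx⟩ := f.surjective (genericPoint Y)
  rw [← hx]
  exact ((genericPoint_spec X).specializes (Set.mem_univ x)).map f.continuous

/-- sections over an affine open of `Y` are integrally closed, if `O_Y = f_* O_X` and `X` normal. -/
theorem isIntegrallyClosed_sections_of_isIso_app (hX : Pi1.IsNormalScheme X)
    (h : f.base (genericPoint X) ⤳ genericPoint Y) (hf : ∀ U : Y.Opens, IsIso (f.app U))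
    (V₀ : Y.Opens) (hV₀ : IsAffineOpen V₀) (hηV₀ : genericPoint Y ∈ V₀) :
    IsIntegrallyClosed Γ(Y, V₀) := by
  set ψ := CohIII.stalkToFunctionField f (genericPoint Y) h with hψ
  have hgen : f.base (genericPoint X) = genericPoint Y :=
    Groth.Agent.Lib.SteinNormal5.map_genericPoint_eq f h
  have hξ : genericPoint X ∈ f ⁻¹ᵁ V₀ := by
    change f.base _ ∈ V₀
    rw [hgen]
    exact hηV₀
  haveI : Nonempty V₀ := ⟨⟨_, hηV₀⟩⟩
  haveI : IsFractionRing Γ(Y, V₀) Y.functionField :=
    functionField_isFractionRing_of_isAffineOpen Y V₀ hV₀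
  refine (isIntegrallyClosed_iff Y.functionField).mpr fun {a} ha => ?_
  -- `ψ a` comes from a section on every affine open of `f⁻¹ V₀`
  obtain ⟨s, hs⟩ := exists_germ_eq_of_forall_affine (f ⁻¹ᵁ V₀) hξ (ψ a) (by
    intro V hVle hV
    haveI : Nonempty V.1 := ⟨⟨_, hV⟩⟩
    haveI : IsIntegrallyClosed Γ(X, V.1) :=
      Groth.Agent.Lib.IntegralSection.isIntegrallyClosed_sections (fun x => (hX x).2) V.2
    haveI : IsFractionRing Γ(X, V.1) X.functionField :=
      functionField_isFractionRing_of_isAffineOpen X V.1 V.2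
    have hint : IsIntegral Γ(X, V.1) (ψ a) := by
      obtain ⟨p, hp, hpz⟩ := ha
      refine ⟨p.map (f.appLE V₀ V.1 hVle).hom, hp.map _, ?_⟩
      rw [Polynomial.eval₂_map]
      have hcomp : (algebraMap Γ(X, V.1) X.functionField).comp (f.appLE V₀ V.1 hVle).hom =
          ψ.comp (algebraMap Γ(Y, V₀) Y.functionField) := by
        ext b
        exact (stalkToFunctionField_germ f h V₀ hηV₀ V.1 hVle hV b).symm
      rw [hcomp, ← Polynomial.hom_eval₂, hpz, map_zero]
    obtain ⟨y, hy⟩ := IsIntegrallyClosed.isIntegral_iff.mp hint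
    exact ⟨y, hy⟩)
  haveI := hf V₀
  obtain ⟨b, rfl⟩ := (ConcreteCategory.bijective_of_isIso (f.app V₀)).2 s
  have hb : ψ (Y.presheaf.germ V₀ (genericPoint Y) hηV₀ b) = ψ a := by
    rw [← hs]
    have := stalkToFunctionField_germ f h V₀ hηV₀ (f ⁻¹ᵁ V₀) le_rfl hξ b
    rw [this, ← Scheme.Hom.app_eq_appLE]
  exact ⟨b, ψ.injective hb⟩

theorem main' [Surjective f] (hf : ∀ U : Y.Opens, IsIso (f.app U))
    (hX : Pi1.IsNormalScheme X) : Pi1.IsNormalScheme Y := by
  have h := specializes_of_surjective f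
  intro y
  refine ⟨inferInstance, ?_⟩
  obtain ⟨_, ⟨V₀, hV₀, rfl⟩, hyV₀, -⟩ :=
    Y.isBasis_affineOpens.exists_subset_of_mem_open (Set.mem_univ y) isOpen_univ
  have hηV₀ : genericPoint Y ∈ V₀ :=
    genericPoint_mem_of_nonempty V₀ ⟨y, hyV₀⟩
  haveI : Nonempty V₀ := ⟨⟨_, hηV₀⟩⟩
  haveI := isIntegrallyClosed_sections_of_isIso_app f hX h hf V₀ hV₀ hηV₀
  letI := Y.presheaf.algebra_section_stalk ⟨y, hyV₀⟩
  haveI := hV₀.isLocalization_stalk ⟨y, hyV₀⟩
  exact isIntegrallyClosed_of_isLocalization _ _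
    (hV₀.primeIdealOf ⟨y, hyV₀⟩).asIdeal.primeCompl_le_nonZeroDivisors

theorem main [Surjective f] (hfs : IsIso (ClSub.unitToPush f))
    (hX : Pi1.IsNormalScheme X) : Pi1.IsNormalScheme Y := by
  refine main' f (fun U => ?_) hX
  have h1 : IsIso ((ClSub.unitToPush f).app U) :=
    Scheme.Modules.Hom.isIso_iff_isIso_app.mp hfs U
  rw [ConcreteCategory.isIso_iff_bijective] at h1
  exact (ConcreteCategory.isIso_iff_bijective (f.app U)).mpr h1

end N1

namespace N2
set_option linter.style.haveILetI false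
open CategoryTheory CategoryTheory.Limits AlgebraicGeometry TopologicalSpace Opposite

theorem isReduced_of_normal {X : Scheme.{u}} (hX : Pi1.IsNormalScheme X) : IsReduced X := by
  haveI : ∀ x : X, _root_.IsReduced (X.presheaf.stalk x) := fun x => by
    haveI := (hX x).1
    infer_instance
  exact isReduced_of_isReduced_stalk X

/-- normality passes to open subschemes and back (stalkwise). -/
theorem normal_stalk_iff_of_isOpenImmersion {U X : Scheme.{u}} (j : U ⟶ X) [IsOpenImmersion j]
    (x : U) :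
    (IsDomain (X.presheaf.stalk (j x)) ∧ IsIntegrallyClosed (X.presheaf.stalk (j x))) ↔
      (IsDomain (U.presheaf.stalk x) ∧ IsIntegrallyClosed (U.presheaf.stalk x)) := by
  let e : X.presheaf.stalk (j x) ≃+* U.presheaf.stalk x :=
    (asIso (j.stalkMap x)).commRingCatIsoToRingEquiv
  constructor
  · rintro ⟨h1, h2⟩
    haveI : IsDomain (U.presheaf.stalk x) := e.symm.toMulEquiv.isDomain _
    exact ⟨inferInstance, IsIntegrallyClosed.of_equiv e⟩
  · rintro ⟨h1, h2⟩
    haveI : IsDomain (X.presheaf.stalk (j x)) := e.toMulEquiv.isDomain _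
    exact ⟨inferInstance, IsIntegrallyClosed.of_equiv e.symm⟩

theorem isReduced_of_injective_app {X Y : Scheme.{u}} (f : X ⟶ Y) [IsReduced X]
    (hf : ∀ V : Y.Opens, Function.Injective (f.app V).hom) : IsReduced Y := by
  refine ⟨fun V => ?_⟩
  exact isReduced_of_injective (f.app V).hom (hf V)

theorem normal_of_fibration {X Y : Scheme.{u}} (f : X ⟶ Y) [Surjective f]
    (hfin : LocallyFinite (fun Z : irreducibleComponents X => (Z : Set X)))
    (hfib : ∀ V : Y.Opens, IsIso (f.app V)) (hX : Pi1.IsNormalScheme X) :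
    Pi1.IsNormalScheme Y := by
  haveI : IsReduced X := isReduced_of_normal hX
  haveI : IsReduced Y := isReduced_of_injective_app f
    (fun V => (ConcreteCategory.bijective_of_isIso (f.app V)).1)
  intro y
  obtain ⟨x, rfl⟩ := f.surjective y
  let Z : Set X := irreducibleComponent x
  have hZ : Z ∈ irreducibleComponents X := irreducibleComponent_mem_irreducibleComponents x
  have hZo : IsOpen Z :=
    Groth.Agent.Lib.NormNormal96.isOpen_of_mem_irreducibleComponents hX hfin Z hZ
  have hZc : IsClosed Z := isClosed_irreducibleComponent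
  have hZirr : IsIrreducible Z := isIrreducible_irreducibleComponent
  obtain ⟨e, he, heZ⟩ :=
    Groth.Agent.Lib.HenselCouple61.exists_isIdempotentElem_basicOpen_eq Z ⟨hZc, hZo⟩
  haveI := hfib ⊤
  obtain ⟨e', he'⟩ := (ConcreteCategory.bijective_of_isIso (f.app ⊤)).2 e
  let Y₁ : Y.Opens := Y.basicOpen e'
  have hpre : f ⁻¹ᵁ Y₁ = X.basicOpen e := by
    rw [Scheme.preimage_basicOpen]
    congr 1
  have hpreZ : ((f ⁻¹ᵁ Y₁ : X.Opens) : Set X) = Z := by rw [hpre, heZ]
  have hxZ : x ∈ f ⁻¹ᵁ Y₁ := by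
    change x ∈ ((f ⁻¹ᵁ Y₁ : X.Opens) : Set X)
    rw [hpreZ]
    exact mem_irreducibleComponent
  -- integrality of the pieces
  haveI : IrreducibleSpace (f ⁻¹ᵁ Y₁).toScheme := by
    have : IsIrreducible ((f ⁻¹ᵁ Y₁ : X.Opens) : Set X) := hpreZ ▸ hZirr
    exact Subtype.irreducibleSpace this
  haveI : IsIntegral (f ⁻¹ᵁ Y₁).toScheme := isIntegral_of_irreducibleSpace_of_isReduced _
  haveI : IrreducibleSpace Y₁.toScheme := by
    have h1 : (Y₁ : Set Y) = f '' Z := by
      ext y'
      constructor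
      · intro hy'
        obtain ⟨x', rfl⟩ := f.surjective y'
        refine ⟨x', ?_, rfl⟩
        rw [← hpreZ]
        exact hy'
      · rintro ⟨x', hx', rfl⟩
        rw [← hpreZ] at hx'
        exact hx'
    have : IsIrreducible (Y₁ : Set Y) := h1 ▸ hZirr.image f f.continuous.continuousOn
    exact Subtype.irreducibleSpace this
  haveI : IsIntegral Y₁.toScheme := isIntegral_of_irreducibleSpace_of_isReduced _
  haveI : Surjective (f ∣_ Y₁) := IsZariskiLocalAtTarget.restrict ‹Surjective f› Y₁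
  have hfib' : ∀ V : Y₁.toScheme.Opens, IsIso ((f ∣_ Y₁).app V) := by
    intro V
    have h := morphismRestrict_app f Y₁ V
    have h2 : IsIso (f.app (Y₁.ι ''ᵁ V) ≫
        X.presheaf.map (eqToHom (image_morphismRestrict_preimage f Y₁ V)).op) :=
      IsIso.comp_isIso' (hfib (Y₁.ι ''ᵁ V)) inferInstance
    rw [h]
    exact h2
  have hX₁ : Pi1.IsNormalScheme (f ⁻¹ᵁ Y₁).toScheme := fun x' =>
    (normal_stalk_iff_of_isOpenImmersion (f ⁻¹ᵁ Y₁).ι x').mp (hX _)
  have hY₁ := N1.main' (f ∣_ Y₁) hfib' hX₁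
  exact (normal_stalk_iff_of_isOpenImmersion Y₁.ι ⟨f x, hxZ⟩).mpr (hY₁ ⟨f x, hxZ⟩)

end N2

namespace G1
set_option linter.style.haveILetI false
open CategoryTheory CategoryTheory.Limits AlgebraicGeometry TopologicalSpace Opposite

/-- If `f.app` is an isomorphism on a basis of opens, then on all opens. -/
theorem isIso_app_of_basis {X Y : Scheme.{u}} (f : X ⟶ Y) {ι : Type*} (B : ι → Y.Opens)
    (hB : Opens.IsBasis (Set.range B)) (h : ∀ i, IsIso (f.app (B i))) (V : Y.Opens) :
    IsIso (f.app V) := by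
  let φ : Y.sheaf ⟶ (TopCat.Sheaf.pushforward CommRingCat f.base).obj X.sheaf := ⟨f.c⟩
  have hφ : IsIso φ := TopCat.Sheaf.isIso_iff_isIso_basis (B := B) hB (fun i => h i)
  have h1 : IsIso ((TopCat.Sheaf.forget CommRingCat (Y : TopCat)).map φ) := Functor.map_isIso _ _
  have h2 : IsIso (((TopCat.Sheaf.forget CommRingCat (Y : TopCat)).map φ).app (op V)) :=
    inferInstance
  exact h2

/-- flat base change of a fibration, on small affine opens. -/
theorem isIso_app_of_isPullback {X Y X' Z : Scheme.{u}} {f : X ⟶ Y} {p : Z ⟶ Y} {g : X' ⟶ X}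
    {f' : X' ⟶ Z} (H : IsPullback g f' f p) [Flat p] [QuasiCompact f] [QuasiSeparatedSpace X]
    (U : Y.Opens) (hU : IsAffineOpen U) (hfU : IsIso (f.app U))
    (V : Z.Opens) (hV : IsAffineOpen V) (hVU : V ≤ p ⁻¹ᵁ U) : IsIso (f'.app V) := by
  have hUY : f' ⁻¹ᵁ V = g ⁻¹ᵁ (f ⁻¹ᵁ U) ⊓ f' ⁻¹ᵁ V := by
    refine le_antisymm (le_inf ?_ le_rfl) inf_le_right
    intro x hx
    change f (g x) ∈ U
    have : f (g x) = p (f' x) := by
      have := congr($(H.w) x)
      simpa using this
    rw [this]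
    exact hVU hx
  have hcomp : IsCompact ((f ⁻¹ᵁ U : X.Opens) : Set X) :=
    QuasiCompact.isCompact_preimage (f := f) _ U.isOpen hU.isCompact
  have hqs : IsQuasiSeparated ((f ⁻¹ᵁ U : X.Opens) : Set X) :=
    IsQuasiSeparated.of_quasiSeparatedSpace _
  have hiso := isIso_pushoutSection_of_isQuasiSeparated_of_flat_right H hVU le_rfl hUY hU hV
    hcomp hqs
  have hinr : IsIso (pushout.inr (f.appLE U (f ⁻¹ᵁ U) le_rfl) (p.appLE U V hVU)) := by
    haveI : IsIso (f.appLE U (f ⁻¹ᵁ U) le_rfl) := by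
      rw [← Scheme.Hom.app_eq_appLE]; exact hfU
    infer_instance
  have hcomp' : pushout.inr (f.appLE U (f ⁻¹ᵁ U) le_rfl) (p.appLE U V hVU) ≫
      pushoutSection H hVU le_rfl hUY = f'.appLE V (f' ⁻¹ᵁ V) le_rfl := by
    exact pushout.inr_desc _ _ _
  have h3 : IsIso (f'.appLE V (f' ⁻¹ᵁ V) le_rfl) := by
    rw [← hcomp']
    exact IsIso.comp_isIso' hinr hiso
  rw [Scheme.Hom.app_eq_appLE]
  exact h3

end G1

namespace G2
set_option linter.style.haveILetI false
open CategoryTheory CategoryTheory.Limits AlgebraicGeometry TopologicalSpace Opposite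

/-- integrality of the target of a surjective fibration. -/
theorem isIntegral_of_fibration {X Y : Scheme.{u}} (f : X ⟶ Y) [Surjective f]
    (hfib : ∀ V : Y.Opens, IsIso (f.app V)) [IsIntegral X] : IsIntegral Y := by
  have hne : Nonempty X := inferInstance
  refine { nonempty := ⟨f.base hne.some⟩, component_integral := ?_ }
  intro V hV
  have hiso := hfib V
  obtain ⟨y, hy⟩ := hV
  obtain ⟨x, rfl⟩ := f.surjective y
  have : Nonempty (f ⁻¹ᵁ V) := ⟨⟨x, hy⟩⟩
  have hdom : IsDomain Γ(X, f ⁻¹ᵁ V) := inferInstance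
  exact (asIso (f.app V)).commRingCatIsoToRingEquiv.toMulEquiv.isDomain _

/-- flat base change of a fibration is a fibration. -/
theorem isIso_app_of_isPullback_of_flat {X Y X' Z : Scheme.{u}} {f : X ⟶ Y} {p : Z ⟶ Y}
    {g : X' ⟶ X} {f' : X' ⟶ Z} (H : IsPullback g f' f p) [Flat p] [QuasiCompact f]
    [QuasiSeparatedSpace X] (hfib : ∀ V : Y.Opens, IsIso (f.app V)) (V : Z.Opens) :
    IsIso (f'.app V) := by
  let ι := {V : Z.affineOpens // ∃ U : Y.affineOpens, V.1 ≤ p ⁻¹ᵁ U.1}
  let B : ι → Z.Opens := fun i => i.1.1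
  have hB : Opens.IsBasis (Set.range B) := by
    rw [Opens.isBasis_iff_nbhd]
    intro W z hz
    obtain ⟨_, ⟨U, hU, rfl⟩, hzU, -⟩ :=
      Y.isBasis_affineOpens.exists_subset_of_mem_open (Set.mem_univ (p z)) isOpen_univ
    obtain ⟨_, ⟨V', hV', rfl⟩, hzV', hV'W⟩ :=
      Z.isBasis_affineOpens.exists_subset_of_mem_open
        (show z ∈ ((p ⁻¹ᵁ U ⊓ W : Z.Opens) : Set Z) from ⟨hzU, hz⟩) (p ⁻¹ᵁ U ⊓ W).isOpen
    refine ⟨V', ⟨⟨⟨V', hV'⟩, ⟨U, hU⟩, fun a ha => (hV'W ha).1⟩, rfl⟩, hzV',
      fun a ha => (hV'W ha).2⟩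
  refine G1.isIso_app_of_basis f' B hB (fun i => ?_) V
  obtain ⟨⟨V', hV'⟩, ⟨U, hU⟩, hle⟩ := i
  exact G1.isIso_app_of_isPullback H U hU (hfib U) V' hV' hle

theorem main (k : Type u) [Field k] (X Y : Scheme.{u})
    [X.Over (Spec (CommRingCat.of k))] [Y.Over (Spec (CommRingCat.of k))] [IsProper (X ↘ Spec (CommRingCat.of k))] [IsProper (Y ↘ Spec (CommRingCat.of k))]
    (f : X ⟶ Y) (hf : f ≫ (Y ↘ Spec (CommRingCat.of k)) = X ↘ Spec (CommRingCat.of k)) (hfib : ∀ V : Y.Opens, IsIso (f.app V))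
    [GeometricallyIntegral (X ↘ Spec (CommRingCat.of k))] : GeometricallyIntegral (Y ↘ Spec (CommRingCat.of k)) := by
  haveI hsurj : Surjective f := Groth.Agent.S19511.result k X Y f hf hfib
  have h1 : IsProper (f ≫ (Y ↘ Spec (CommRingCat.of k))) := by rw [hf]; infer_instance
  haveI hfp : IsProper f := IsProper.of_comp f (Y ↘ Spec (CommRingCat.of k))
  haveI : QuasiSeparatedSpace X :=
    quasiSeparatedSpace_of_quasiSeparated (X ↘ Spec (CommRingCat.of k))
  constructor
  intro K _ y Z fst snd h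
  let X' := pullback f fst
  let g : X' ⟶ X := pullback.fst f fst
  let f' : X' ⟶ Z := pullback.snd f fst
  have H : IsPullback g f' f fst := IsPullback.of_hasPullback f fst
  have Hbig : IsPullback g (f' ≫ snd) (X ↘ Spec (CommRingCat.of k)) y := by
    rw [← hf]
    exact H.paste_vert h
  haveI : IsIntegral X' :=
    (GeometricallyIntegral.geometrically_isIntegral (f := X ↘ Spec (CommRingCat.of k)))
      y g (f' ≫ snd) Hbig
  haveI : Flat y := by
    obtain ⟨φ, rfl⟩ := Spec.map_surjective y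
    rw [Flat.SpecMap_iff]
    algebraize [φ.hom]
    change Module.Flat k K
    infer_instance
  haveI : Flat fst := MorphismProperty.of_isPullback h.flip ‹Flat y›
  haveI : Surjective f' := MorphismProperty.of_isPullback H ‹Surjective f›
  have hfib' : ∀ V : Z.Opens, IsIso (f'.app V) :=
    isIso_app_of_isPullback_of_flat H hfib
  exact isIntegral_of_fibration f' hfib'

end G2

namespace G3
set_option linter.style.haveILetI false
open CategoryTheory CategoryTheory.Limits AlgebraicGeometry TopologicalSpace Opposite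

theorem main (k : Type u) [Field k] (X Y : Scheme.{u})
    [X.Over (Spec (CommRingCat.of k))] [Y.Over (Spec (CommRingCat.of k))] [IsProper (X ↘ Spec (CommRingCat.of k))] [IsProper (Y ↘ Spec (CommRingCat.of k))]
    (f : X ⟶ Y) (hf : f ≫ (Y ↘ Spec (CommRingCat.of k)) = X ↘ Spec (CommRingCat.of k)) (hfib : ∀ V : Y.Opens, IsIso (f.app V))
    (K : Type u) [Field K] [Algebra k K]
    (hX : Pi1.IsNormalScheme (pullback (X ↘ Spec (CommRingCat.of k)) (Spec.map (CommRingCat.ofHom (algebraMap k K))))) :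
    Pi1.IsNormalScheme (pullback (Y ↘ Spec (CommRingCat.of k)) (Spec.map (CommRingCat.ofHom (algebraMap k K)))) := by
  haveI hsurj : Surjective f := Groth.Agent.S19511.result k X Y f hf hfib
  have h1 : IsProper (f ≫ (Y ↘ Spec (CommRingCat.of k))) := by rw [hf]; infer_instance
  haveI hfp : IsProper f := IsProper.of_comp f (Y ↘ Spec (CommRingCat.of k))
  haveI : QuasiSeparatedSpace X :=
    quasiSeparatedSpace_of_quasiSeparated (X ↘ Spec (CommRingCat.of k))
  let y : Spec (CommRingCat.of K) ⟶ Spec (CommRingCat.of k) :=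
    Spec.map (CommRingCat.ofHom (algebraMap k K))
  let XK := pullback (X ↘ Spec (CommRingCat.of k)) y
  let YK := pullback (Y ↘ Spec (CommRingCat.of k)) y
  let g : XK ⟶ X := pullback.fst _ _
  let p : YK ⟶ Y := pullback.fst _ _
  let fK : XK ⟶ YK := pullback.lift (g ≫ f) (pullback.snd _ _) (by
    rw [Category.assoc, hf]; exact pullback.condition)
  have hfK1 : fK ≫ p = g ≫ f := pullback.lift_fst _ _ _
  have hfK2 : fK ≫ pullback.snd _ _ = pullback.snd _ _ := pullback.lift_snd _ _ _
  have HY : IsPullback p (pullback.snd _ _) (Y ↘ Spec (CommRingCat.of k)) y :=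
    IsPullback.of_hasPullback _ _
  have HX : IsPullback g (fK ≫ pullback.snd _ _) (f ≫ (Y ↘ Spec (CommRingCat.of k))) y := by
    rw [hfK2, hf]
    exact IsPullback.of_hasPullback _ _
  have H : IsPullback g fK f p := IsPullback.of_bot HX hfK1.symm HY
  haveI : Flat y := by
    rw [Flat.SpecMap_iff]
    change (algebraMap k K).Flat
    rw [RingHom.flat_algebraMap_iff]
    infer_instance
  haveI : Flat p := MorphismProperty.of_isPullback HY.flip ‹Flat y›
  haveI : Surjective fK := MorphismProperty.of_isPullback H ‹Surjective f›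
  have hfibK : ∀ V : YK.Opens, IsIso (fK.app V) :=
    G2.isIso_app_of_isPullback_of_flat H hfib
  -- `XK` is Noetherian
  haveI : IsLocallyNoetherian XK :=
    LocallyOfFiniteType.isLocallyNoetherian (pullback.snd (X ↘ Spec (CommRingCat.of k)) y)
  haveI : CompactSpace XK :=
    QuasiCompact.compactSpace_of_compactSpace (pullback.snd (X ↘ Spec (CommRingCat.of k)) y)
  haveI : IsNoetherian XK := {}
  haveI : NoetherianSpace XK := inferInstance
  have hfinite : (irreducibleComponents XK).Finite :=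
    NoetherianSpace.finite_irreducibleComponents
  have hfin : LocallyFinite (fun Z : irreducibleComponents XK => (Z : Set XK)) := by
    haveI : Finite (irreducibleComponents XK) := hfinite.to_subtype
    exact locallyFinite_of_finite _
  exact N2.normal_of_fibration fK hfin hfibK hX

end G3

end Helpers

/-- Let k be a field and f : X → Y a k-morphism between proper k-schemes which is a fibration, i.e. O_Y
→ f_*O_X is an isomorphism (Γ(V, O_Y) → Γ(f⁻¹V, O_X) bijective for every open V ⊆ Y). If X is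
geometrically normal, i.e. its base change to every algebraic closure of k has all local rings
integrally closed domains, then Y is geometrically normal in the same sense. -/
theorem result (k : Type u) [Field k] (X Y : Scheme.{u})
    [X.Over (Spec (CommRingCat.of k))] [Y.Over (Spec (CommRingCat.of k))] [IsProper (X ↘ Spec (CommRingCat.of k))] [IsProper (Y ↘ Spec (CommRingCat.of k))]
    (f : X ⟶ Y) (hf : f ≫ (Y ↘ Spec (CommRingCat.of k)) = X ↘ Spec (CommRingCat.of k)) (hfib : ∀ V : Y.Opens, IsIso (f.app V))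
    (hX : ∀ (K : Type u) [Field K] [Algebra k K] [IsAlgClosure k K],
      Pi1.IsNormalScheme (pullback (X ↘ Spec (CommRingCat.of k)) (Spec.map (CommRingCat.ofHom (algebraMap k K)))))
    (K : Type u) [Field K] [Algebra k K] [IsAlgClosure k K] :
    Pi1.IsNormalScheme (pullback (Y ↘ Spec (CommRingCat.of k)) (Spec.map (CommRingCat.ofHom (algebraMap k K)))) := by
  exact G3.main k X Y f hf hfib K (hX K)

end Groth.Agent.S19515
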