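import Groth.Statements.S19519
import Groth.Agent.Lib.OrbitClosed45
import Groth.Agent.Lib.LocClosedDim45

set_option autoImplicit false
universe u
open CategoryTheory MonoidalCategory CartesianMonoidalCategory MonObj GrpObj AlgebraicGeometry
open AlgGrp

namespace Groth.Agent.S19519

/-- Let k be an algebraically closed field, G a smooth k-group scheme of finite type acting on a
k-scheme X of finite type, and x a rational point of X. If the orbit of x — the image of the orbit
map G → X, g ↦ g · x, with its subspace topology — has Krull dimension at most that of the orbit of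
every rational point of X, then the orbit of x is closed in X. (The first assertions of the lemma,
local closedness and smoothness of orbits over any field, are not restated here.) -/
theorem result (k : Type u) [Field k] [IsAlgClosed k]
    (G X : Over (Spec (CommRingCat.of k))) [GrpObj G] [Smooth G.hom] [QuasiCompact G.hom]
    [LocallyOfFiniteType X.hom] [QuasiCompact X.hom] (a : AlgGrp.Action G X)
    (x : 𝟙_ (Over (Spec (CommRingCat.of k))) ⟶ X)
    (hmin : ∀ y : 𝟙_ (Over (Spec (CommRingCat.of k))) ⟶ X,
      topologicalKrullDim (Set.range (a.orbitMap x).left.base) ≤ topologicalKrullDim (Set.range (a.orbitMap y).left.base)) :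
    IsClosed (Set.range (a.orbitMap x).left.base) := by
  let _ : X.left.Over (Spec (CommRingCat.of k)) := ⟨X.hom⟩
  have hlft : LocallyOfFiniteType (X.left ↘ Spec (CommRingCat.of k)) :=
    ‹LocallyOfFiniteType X.hom›
  have hX : IsNoetherian X.left := Groth.Agent.Lib.OrbitStable45.isNoetherian_of_finiteType X
  have hG : Nonempty G.left := Groth.Agent.Lib.OrbitClosed45.nonempty_grp
  apply Groth.Agent.Lib.OrbitClosed45.isClosed_orbit_of_boundary_eq_empty
  by_contra hne
  have hBne : (Groth.Agent.Lib.OrbitClosed45.boundary a x).Nonempty :=
    Set.nonempty_iff_ne_empty.mpr hne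
  obtain ⟨y, hy⟩ := Groth.Agent.Lib.OrbitClosed45.exists_rational_point_mem
    (Groth.Agent.Lib.OrbitClosed45.isClosed_boundary a x) hBne
  have hsub : Groth.Agent.Lib.OrbitStable45.orbit a y ⊆
      Groth.Agent.Lib.OrbitClosed45.boundary a x :=
    Groth.Agent.Lib.OrbitStable45.orbit_subset a y
      (Groth.Agent.Lib.OrbitClosed45.isStable_boundary a x) hy
  have h1 : topologicalKrullDim ↥(Groth.Agent.Lib.OrbitStable45.orbit a y) ≤
      topologicalKrullDim ↥(Groth.Agent.Lib.OrbitClosed45.boundary a x) :=
    (Topology.IsEmbedding.inclusion hsub).isInducing.topologicalKrullDim_le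
  have h2 := Groth.Agent.Lib.LocClosedDim45.dim_boundary_lt k X.left
    (Groth.Agent.Lib.OrbitStable45.isLocallyClosed_orbit a x)
    (Groth.Agent.Lib.OrbitStable45.orbit_nonempty a x)
  exact absurd (hmin y) (not_le.mpr (lt_of_le_of_lt h1 h2))

end Groth.Agent.S19519
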