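import Mathlib
import Groth.Statements.S19522

set_option autoImplicit false
universe u
open TensorProduct
open GLin

namespace Groth.Agent.S19522

section Helpers

variable {k : Type u} [Field k] {A : Type u} [CommRing A] [Algebra k A]
  {R : Type u} [CommRing R] [Algebra k R]

/-- the `k`-algebra map `R ⊗ A → R[X] ⊗ A` induced by `C` -/
noncomputable abbrev Cmap (k : Type u) [Field k] (A : Type u) [CommRing A] [Algebra k A]
    (R : Type u) [CommRing R] [Algebra k R] : R ⊗[k] A →ₐ[k] Polynomial R ⊗[k] A :=
  Algebra.TensorProduct.map (Polynomial.CAlgHom : R →ₐ[k] Polynomial R) (AlgHom.id k A)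

/-- coefficient extraction `R[X] ⊗ A → R ⊗ A` -/
noncomputable abbrev Lr (k : Type u) [Field k] (A : Type u) [CommRing A] [Algebra k A]
    (R : Type u) [CommRing R] [Algebra k R] (r : ℕ) : Polynomial R ⊗[k] A →ₗ[k] R ⊗[k] A :=
  LinearMap.rTensor A ((Polynomial.lcoeff R r).restrictScalars k)

theorem Lr_Cmap_mul (r s : ℕ) (c : A) (z : R ⊗[k] A) :
    Lr k A R r (Cmap k A R z * (((Polynomial.X : Polynomial R) ^ s) ⊗ₜ[k] c)) =
      if r = s then z * ((1 : R) ⊗ₜ[k] c) else 0 := by
  induction z using TensorProduct.induction_on with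
  | zero => simp
  | tmul a b =>
    rw [Algebra.TensorProduct.map_tmul, Algebra.TensorProduct.tmul_mul_tmul,
      LinearMap.rTensor_tmul, Algebra.TensorProduct.tmul_mul_tmul]
    simp only [Polynomial.CAlgHom_apply, LinearMap.coe_restrictScalars, Polynomial.lcoeff_apply,
      Polynomial.coeff_C_mul_X_pow, AlgHom.id_apply, mul_one]
    split_ifs <;> simp
  | add x y hx hy =>
    rw [map_add, add_mul, map_add, hx, hy]
    split_ifs <;> simp [add_mul]

end Helpers

/-- Let k be a field, A a commutative k-bialgebra coacting multiplicatively on a commutative k-algebra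
R, and χ ∈ A a group-like element with an inverse χ' (χχ' = 1). Suppose the polynomial ring R[t]
carries a multiplicative coaction which restricts to the given one on constants and sends t to t ⊗
χ'. Then g ∈ R[t] is coinvariant if and only if, for every r, its r-th coefficient has coaction g_r
↦ g_r ⊗ χ^r; that is, the ring of invariants of R[t] is the sum over r ≥ 0 of the weight-χ^r
semi-invariants of R times t^r. (The published statement is phrased for an affine variety with an
action of a linear algebraic group over an algebraically closed field of characteristic zero and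
identifies the invariants of X × A¹ with the graded ring of invariant sections of the powers of the
linearised trivial bundle; this is its coordinate-ring content, valid over any field.) -/
theorem result (k : Type u) [Field k]
    (A : Type u) [CommRing A] [Bialgebra k A]
    (R : Type u) [CommRing R] [Algebra k R] [HopfRep.Comod k A R] [GLin.IsCoactAlg k A R]
    [HopfRep.Comod k A (Polynomial R)] [GLin.IsCoactAlg k A (Polynomial R)]
    (χ χ' : A) (hχ : CoalgebraStruct.comul (R := k) (A := A) χ = χ ⊗ₜ[k] χ)
    (hχε : CoalgebraStruct.counit (R := k) (A := A) χ = 1) (hχχ' : χ * χ' = 1)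
    (hC : ∀ r : R, HopfRep.Comod.coact (k := k) (A := A) (Polynomial.C r) =
      Algebra.TensorProduct.map (Polynomial.CAlgHom : R →ₐ[k] Polynomial R) (AlgHom.id k A)
        (HopfRep.Comod.coact (k := k) (A := A) r))
    (hX : HopfRep.Comod.coact (k := k) (A := A) (Polynomial.X : Polynomial R) = Polynomial.X ⊗ₜ[k] χ')
    (g : Polynomial R) :
    g ∈ GLin.invariants k A (Polynomial R) ↔
      ∀ r : ℕ, g.coeff r ∈ HopfRep.eigenspace k A R (χ ^ r) := by
  -- coaction on monomials
  have hmono : ∀ (a : R) (s : ℕ),
      HopfRep.Comod.coact (k := k) (A := A) (Polynomial.C a * Polynomial.X ^ s) =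
        Cmap k A R (HopfRep.Comod.coact (k := k) (A := A) a) *
          (((Polynomial.X : Polynomial R) ^ s) ⊗ₜ[k] (χ' ^ s)) := by
    intro a s
    have h1 := map_pow (GLin.coactAlgHom k A (Polynomial R)) (Polynomial.X : Polynomial R) s
    rw [GLin.coactAlgHom_apply, GLin.coactAlgHom_apply, hX,
      Algebra.TensorProduct.tmul_pow] at h1
    rw [GLin.IsCoactAlg.coact_mul, hC, h1]
  have hg : HopfRep.Comod.coact (k := k) (A := A) g =
      ∑ s ∈ g.support, Cmap k A R (HopfRep.Comod.coact (k := k) (A := A) (g.coeff s)) *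
          (((Polynomial.X : Polynomial R) ^ s) ⊗ₜ[k] (χ' ^ s)) := by
    conv_lhs => rw [g.as_sum_support_C_mul_X_pow]
    rw [map_sum]
    exact Finset.sum_congr rfl fun s _ => hmono _ s
  have hinv : ∀ r : ℕ, χ' ^ r * χ ^ r = 1 := fun r => by
    rw [← mul_pow, mul_comm, hχχ', one_pow]
  rw [GLin.mem_invariants_iff]
  constructor
  · intro h r
    show HopfRep.Comod.coact (k := k) (A := A) (g.coeff r) = g.coeff r ⊗ₜ[k] (χ ^ r)
    have h2 := congrArg (Lr k A R r) h
    rw [hg, map_sum] at h2
    simp only [Lr_Cmap_mul] at h2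
    rw [Finset.sum_ite_eq] at h2
    rw [LinearMap.rTensor_tmul] at h2
    simp only [LinearMap.coe_restrictScalars, Polynomial.lcoeff_apply] at h2
    have h3 : HopfRep.Comod.coact (k := k) (A := A) (g.coeff r) * ((1 : R) ⊗ₜ[k] (χ' ^ r))
        = g.coeff r ⊗ₜ[k] (1 : A) := by
      by_cases hr : r ∈ g.support
      · rw [if_pos hr] at h2; exact h2
      · rw [if_neg hr] at h2
        rw [Polynomial.notMem_support_iff.mp hr]
        simp
    have h4 := congrArg (· * ((1 : R) ⊗ₜ[k] (χ ^ r))) h3
    simp only [mul_assoc, Algebra.TensorProduct.tmul_mul_tmul, mul_one, one_mul, hinv] at h4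
    rw [← Algebra.TensorProduct.one_def, mul_one] at h4
    exact h4
  · intro h
    have h' : ∀ r, HopfRep.Comod.coact (k := k) (A := A) (g.coeff r) = g.coeff r ⊗ₜ[k] (χ ^ r) := h
    rw [hg]
    conv_rhs => rw [g.as_sum_support_C_mul_X_pow]
    rw [TensorProduct.sum_tmul]
    refine Finset.sum_congr rfl fun s _ => ?_
    rw [h', Algebra.TensorProduct.map_tmul, Algebra.TensorProduct.tmul_mul_tmul, AlgHom.id_apply,
      mul_comm (χ ^ s), hinv]
    rfl

end Groth.Agent.S19522
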