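import Groth.Statements.S19540
import Mathlib.CategoryTheory.Sites.EpiMono
import Mathlib.Algebra.Category.Grp.EpiMono
import Mathlib.Algebra.Category.Grp.Abelian
import Mathlib.Algebra.Homology.ShortComplex.Ab
import Mathlib.CategoryTheory.Sites.Limits

set_option autoImplicit false
open CategoryTheory CategoryTheory.Limits Opposite
universe w v u
open CohSite

namespace Groth.Agent.S19540

/-- Let (C, J) be a site and B a class of objects of C, each weakly contractible (every epimorphism of
sheaves of sets, valued in a fixed universe, is surjective on sections over it), such that every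
object V of C has a covering sieve all of whose arrows factor through some object of B. Then a
three-term complex F ⟶ G ⟶ H of abelian sheaves on (C, J) is exact if and only if for every U in B
the sequence of section groups F(U) ⟶ G(U) ⟶ H(U) is exact. (The published statement is for sheaves
of modules over a sheaf of rings O; this row is the case of the constant sheaf of rings ℤ, i.e.
abelian sheaves, to which exactness questions for O-modules reduce. The universe set-up assumes that
abelian sheafification exists and inverts exactly the locally bijective maps, as on any small site.) -/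
theorem result
    {C : Type u} [Category.{v} C] (J : GrothendieckTopology C) [HasSheafify J AddCommGrpCat.{w}]
    [J.WEqualsLocallyBijective AddCommGrpCat.{w}]
    (B : C → Prop)
    (hB : ∀ U : C, B U → ∀ (P Q : Sheaf J (Type w)) (ψ : P ⟶ Q), Epi ψ → Function.Surjective (ψ.hom.app (op U)))
    (hcov : ∀ V : C, ∃ S : Sieve V, S ∈ J V ∧ ∀ ⦃W : C⦄ (f : W ⟶ V), S.arrows f →
      ∃ (U : C) (g : W ⟶ U) (h : U ⟶ V), B U ∧ g ≫ h = f)
    (S : ShortComplex (Sheaf J AddCommGrpCat.{w})) :
    S.Exact ↔ ∀ U : C, B U →
      (S.map (sheafToPresheaf J AddCommGrpCat.{w} ⋙ (evaluation Cᵒᵖ AddCommGrpCat.{w}).obj (op U))).Exact := by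
  classical
  -- notation
  let E : ∀ U : C, Sheaf J AddCommGrpCat.{w} ⥤ AddCommGrpCat.{w} := fun U =>
    sheafToPresheaf J AddCommGrpCat.{w} ⋙ (evaluation Cᵒᵖ AddCommGrpCat.{w}).obj (op U)
  let ι : kernel S.g ⟶ S.X₂ := kernel.ι S.g
  let ℓ : S.X₁ ⟶ kernel S.g := kernel.lift S.g S.f S.zero
  have hℓ : ℓ ≫ ι = S.f := kernel.lift_ι _ _ _
  -- facts about sections of the kernel
  have hιg : ∀ (U : C) (k : (kernel S.g).obj.obj (op U)),
      S.g.hom.app (op U) (ι.hom.app (op U) k) = 0 := by
    intro U k
    have h : ι ≫ S.g = 0 := kernel.condition S.g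
    have h' := congrArg (fun φ => (E U).map φ) h
    simp only [Functor.map_comp, Functor.map_zero] at h'
    exact ConcreteCategory.congr_hom h' k
  have hιinj : ∀ U : C, Function.Injective (ι.hom.app (op U)) := by
    intro U
    have : Mono ((E U).map ι) := inferInstance
    exact (AddCommGrpCat.mono_iff_injective ((E U).map ι)).1 this
  have hιsurj : ∀ (U : C) (x : S.X₂.obj.obj (op U)), S.g.hom.app (op U) x = 0 →
      ∃ k : (kernel S.g).obj.obj (op U), ι.hom.app (op U) k = x := by
    intro U x hx
    have hlim : IsLimit ((E U).mapCone (KernelFork.ofι ι (kernel.condition S.g))) :=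
      isLimitOfPreserves (E U) (kernelIsKernel S.g)
    have hex : (ShortComplex.mk ((E U).map ι) ((E U).map S.g)
        (by rw [← Functor.map_comp, kernel.condition, Functor.map_zero])).Exact :=
      ShortComplex.exact_of_f_is_kernel _ ((isLimitMapConeForkEquiv' (E U) _).1 hlim)
    exact (ShortComplex.ab_exact_iff _).1 hex x hx
  have hℓf : ∀ (U : C) (x : S.X₁.obj.obj (op U)),
      ι.hom.app (op U) (ℓ.hom.app (op U) x) = S.f.hom.app (op U) x := by
    intro U x
    have h' := congrArg (fun φ => (E U).map φ) hℓ
    simp only [Functor.map_comp] at h'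
    exact ConcreteCategory.congr_hom h' x
  constructor
  · intro hS U hU
    have hepi : Epi ℓ := (ShortComplex.exact_iff_epi_kernel_lift S).1 hS
    have hls : Sheaf.IsLocallySurjective ℓ := (Sheaf.isLocallySurjective_iff_epi' (φ := ℓ)).2 hepi
    have hepi' : Epi ((sheafCompose J (forget AddCommGrpCat.{w})).map ℓ) := inferInstance
    have hsurj : Function.Surjective (ℓ.hom.app (op U)) := by
      intro k
      obtain ⟨x, hx⟩ := hB U hU _ _ _ hepi' k
      exact ⟨x, hx⟩
    rw [ShortComplex.ab_exact_iff]
    intro x hx
    obtain ⟨k, hk⟩ := hιsurj U x hx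
    obtain ⟨y, hy⟩ := hsurj k
    exact ⟨y, by rw [← hk, ← hy]; exact (hℓf U y).symm⟩
  · intro h
    have hls : Sheaf.IsLocallySurjective ℓ := by
      constructor
      intro V k
      obtain ⟨R, hR, hR'⟩ := hcov V
      refine J.superset_covering ?_ hR
      intro W f hf
      obtain ⟨U, g, p, hU, rfl⟩ := hR' f hf
      have hexU := (ShortComplex.ab_exact_iff _).1 (h U hU)
      obtain ⟨x₁, hx₁⟩ := hexU (ι.hom.app (op U) ((kernel S.g).obj.map p.op k)) (hιg U _)
      have hx₁' : ℓ.hom.app (op U) x₁ = (kernel S.g).obj.map p.op k := by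
        apply hιinj U
        rw [hℓf]
        exact hx₁
      refine ⟨S.X₁.obj.map g.op x₁, ?_⟩
      have nat := NatTrans.naturality_apply ℓ.hom g.op x₁
      refine nat.trans ?_
      rw [hx₁', op_comp, Functor.map_comp]
      rfl
    have hepi : Epi ℓ := inferInstance
    exact (ShortComplex.exact_iff_epi_kernel_lift S).2 hepi

end Groth.Agent.S19540
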