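import Groth.Statements.S19547
import Mathlib.RingTheory.Flat.Basic
import Mathlib.RingTheory.Flat.Equalizer
import Mathlib.Tactic

set_option autoImplicit false
universe u
open TensorProduct

namespace Groth.Agent.S19547

section

variable {A B : Type u} [CommRing A] [CommRing B] [Algebra A B]
  {M' : Type u} [AddCommGroup M'] [Module A M'] [Module B M'] [IsScalarTower A B M']

/-- multiplication `B ⊗ M' → M'` -/
noncomputable def mL : B ⊗[A] M' →ₗ[A] M' := TensorProduct.lift (Algebra.lsmul A A M').toLinearMap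

/-- multiplication `M' ⊗ B → M'` -/
noncomputable def mR : M' ⊗[A] B →ₗ[A] M' := mL ∘ₗ (TensorProduct.comm A M' B).toLinearMap

@[simp] lemma mL_tmul (b : B) (u : M') : mL (A := A) (b ⊗ₜ[A] u) = b • u := by
  simp [mL]

@[simp] lemma mR_tmul (b : B) (u : M') : mR (A := A) (u ⊗ₜ[A] b) = b • u := by
  simp [mR]

lemma mL_rTensor (x : B) (t : B ⊗[A] M') :
    mL (LinearMap.rTensor M' (LinearMap.mulLeft A x) t) = x • mL t := by
  induction t using TensorProduct.induction_on with
  | zero => simp
  | tmul b u => simp [mul_smul]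
  | add a b ha hb => simp only [map_add, ha, hb, smul_add]

lemma mL_lTensor (y : B) (t : B ⊗[A] M') :
    mL (LinearMap.lTensor B (Algebra.lsmul A A M' y) t) = y • mL t := by
  induction t using TensorProduct.induction_on with
  | zero => simp
  | tmul b u => simp [smul_smul, mul_comm]
  | add a b ha hb => simp only [map_add, ha, hb, smul_add]

lemma mR_rTensor (x : B) (t : M' ⊗[A] B) :
    mR (LinearMap.rTensor B (Algebra.lsmul A A M' x) t) = x • mR t := by
  induction t using TensorProduct.induction_on with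
  | zero => simp
  | tmul u b => simp [smul_smul, mul_comm]
  | add a b ha hb => simp only [map_add, ha, hb, smul_add]

lemma mR_lTensor (y : B) (t : M' ⊗[A] B) :
    mR (LinearMap.lTensor M' (LinearMap.mulLeft A y) t) = y • mR t := by
  induction t using TensorProduct.induction_on with
  | zero => simp
  | tmul u b => simp [mul_smul]
  | add a b ha hb => simp only [map_add, ha, hb, smul_add]

end

/-- Let A → A' be a faithfully flat homomorphism of commutative rings, M' an A'-module and φ : M' ⊗_A A'
→ A' ⊗_A M' an isomorphism of (A' ⊗_A A')-modules for the diagonal actions (x ⊗ y)(u ⊗ z) = xu ⊗ yz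
and (x ⊗ y)(z ⊗ u) = xz ⊗ yu, satisfying the cocycle condition φ_13 = φ_23 ∘ φ_12 between the three
pullbacks to A' ⊗_A A' ⊗_A A'. Here linearity over A' ⊗_A A' is stated on the generators x ⊗ 1 and 1
⊗ y, and the cocycle condition on pure tensors u ⊗ a ⊗ b: writing φ(u ⊗ a) = Σ a_i ⊗ u_i, it says Σ
a_i ⊗ φ(u_i ⊗ b) = Σ b_j ⊗ a ⊗ u'_j where φ(u ⊗ b) = Σ b_j ⊗ u'_j. Let M = {u ∈ M' : φ(u ⊗ 1) = 1 ⊗
u}, an A-submodule of M'. Then the canonical map λ : A' ⊗_A M → M', x ⊗ u ↦ xu, is an isomorphism. -/
theorem result (A A' : Type u) [CommRing A] [CommRing A']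
    [Algebra A A'] [Module.FaithfullyFlat A A'] (M' : Type u) [AddCommGroup M'] [Module A M']
    [Module A' M'] [IsScalarTower A A' M']
    (φ : M' ⊗[A] A' →ₗ[A] A' ⊗[A] M') (hφ : Function.Bijective φ)
    (h1 : ∀ (x : A') (u : M') (z : A'),
      φ ((x • u) ⊗ₜ[A] z) = LinearMap.rTensor M' (LinearMap.mulLeft A x) (φ (u ⊗ₜ[A] z)))
    (h2 : ∀ (y : A') (u : M') (z : A'),
      φ (u ⊗ₜ[A] (y * z)) = LinearMap.lTensor A' (Algebra.lsmul A A M' y) (φ (u ⊗ₜ[A] z)))
    (hcoc : ∀ (u : M') (a b : A'),
      LinearMap.lTensor A' φ (TensorProduct.assoc A A' M' A' (LinearMap.rTensor A' φ ((u ⊗ₜ[A] a) ⊗ₜ[A] b))) =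
        LinearMap.lTensor A' (TensorProduct.mk A A' M' a) (φ (u ⊗ₜ[A] b)))
    (M : Submodule A M') (hM : ∀ u : M', u ∈ M ↔ φ (u ⊗ₜ[A] (1 : A')) = (1 : A') ⊗ₜ[A] u) :
    Function.Bijective
      ((TensorProduct.lift (Algebra.lsmul A A M').toLinearMap) ∘ₗ (LinearMap.lTensor A' M.subtype)) := by
  classical
  have h1' : ∀ (x : A') (t : M' ⊗[A] A'),
      φ (LinearMap.rTensor A' (Algebra.lsmul A A M' x) t) =
        LinearMap.rTensor M' (LinearMap.mulLeft A x) (φ t) := by
    intro x t
    induction t using TensorProduct.induction_on with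
    | zero => simp
    | tmul u z => simpa using h1 x u z
    | add a b ha hb => simp only [map_add, ha, hb]
  have h2' : ∀ (y : A') (t : M' ⊗[A] A'),
      φ (LinearMap.lTensor M' (LinearMap.mulLeft A y) t) =
        LinearMap.lTensor A' (Algebra.lsmul A A M' y) (φ t) := by
    intro y t
    induction t using TensorProduct.induction_on with
    | zero => simp
    | tmul u z => simpa using h2 y u z
    | add a b ha hb => simp only [map_add, ha, hb]
  let φe : (M' ⊗[A] A') ≃ₗ[A] (A' ⊗[A] M') := LinearEquiv.ofBijective φ hφ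
  have hφe : ∀ t, φe t = φ t := fun t => rfl
  have h1'' : ∀ (x : A') (s : A' ⊗[A] M'),
      φe.symm (LinearMap.rTensor M' (LinearMap.mulLeft A x) s) =
        LinearMap.rTensor A' (Algebra.lsmul A A M' x) (φe.symm s) := by
    intro x s
    apply φe.injective
    rw [φe.apply_symm_apply, hφe, h1', ← hφe, φe.apply_symm_apply]
  have h2'' : ∀ (y : A') (s : A' ⊗[A] M'),
      φe.symm (LinearMap.lTensor A' (Algebra.lsmul A A M' y) s) =
        LinearMap.lTensor M' (LinearMap.mulLeft A y) (φe.symm s) := by
    intro y s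
    apply φe.injective
    rw [φe.apply_symm_apply, hφe, h2', ← hφe, φe.apply_symm_apply]
  let θ : M' →ₗ[A] A' ⊗[A] M' := φ ∘ₗ (TensorProduct.mk A M' A').flip 1
  have hθ : ∀ u, θ u = φ (u ⊗ₜ[A] (1 : A')) := fun u => rfl
  let e : M' →ₗ[A] M' := mL ∘ₗ θ
  have he : ∀ u, e u = mL (φ (u ⊗ₜ[A] (1 : A'))) := fun u => rfl
  have he_smul : ∀ (x : A') (u : M'), e (x • u) = x • e u := by
    intro x u
    rw [he, he, h1, mL_rTensor]
  have hθ2 : ∀ t : A' ⊗[A] M',
      LinearMap.lTensor A' φ (TensorProduct.assoc A A' M' A' (t ⊗ₜ[A] (1 : A'))) =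
        LinearMap.lTensor A' θ t := by
    intro t
    induction t using TensorProduct.induction_on with
    | zero => simp
    | tmul a z => simp [hθ]
    | add a b ha hb => simp only [add_tmul, map_add, ha, hb]
  have hcoc1 : ∀ u, LinearMap.lTensor A' θ (θ u) =
      LinearMap.lTensor A' (TensorProduct.mk A A' M' 1) (θ u) := by
    intro u
    have := hcoc u 1 1
    rw [LinearMap.rTensor_tmul, hθ2] at this
    exact this
  have hee : ∀ u, e (e u) = e u := by
    intro u
    have h : mL (LinearMap.lTensor A' (mL : A' ⊗[A] M' →ₗ[A] M') (LinearMap.lTensor A' θ (θ u))) =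
        mL (LinearMap.lTensor A' (mL : A' ⊗[A] M' →ₗ[A] M')
          (LinearMap.lTensor A' (TensorProduct.mk A A' M' 1) (θ u))) := by
      rw [hcoc1 u]
    have hL : ∀ t : A' ⊗[A] M',
        mL (LinearMap.lTensor A' (mL : A' ⊗[A] M' →ₗ[A] M') (LinearMap.lTensor A' θ t)) = e (mL t) := by
      intro t
      induction t using TensorProduct.induction_on with
      | zero => simp
      | tmul a z =>
        simp only [LinearMap.lTensor_tmul, mL_tmul]
        rw [he_smul]
        rfl
      | add a b ha hb => simp only [map_add, ha, hb]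
    have hR : ∀ t : A' ⊗[A] M',
        mL (LinearMap.lTensor A' (mL : A' ⊗[A] M' →ₗ[A] M')
          (LinearMap.lTensor A' (TensorProduct.mk A A' M' 1) t)) = mL t := by
      intro t
      induction t using TensorProduct.induction_on with
      | zero => simp
      | tmul a z => simp
      | add a b ha hb => simp only [map_add, ha, hb]
    rw [hL, hR] at h
    exact h
  have hinj : Function.Injective e := by
    have key : ∀ t : A' ⊗[A] M',
        mR (φe.symm ((1 : A') ⊗ₜ[A] (mL t : M'))) = mR (φe.symm t) := by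
      intro t
      induction t using TensorProduct.induction_on with
      | zero => simp
      | tmul a z =>
        have e1 : (1 : A') ⊗ₜ[A] (mL (a ⊗ₜ[A] z) : M') =
            LinearMap.lTensor A' (Algebra.lsmul A A M' a) ((1 : A') ⊗ₜ[A] z) := by simp
        have e2 : a ⊗ₜ[A] z = LinearMap.rTensor M' (LinearMap.mulLeft A a) ((1 : A') ⊗ₜ[A] z) := by
          simp
        rw [e1, h2'', mR_lTensor, e2, h1'', mR_rTensor]
      | add a b ha hb => simp only [map_add, tmul_add, ha, hb]
    intro u u' huu
    have k1 : ∀ w : M', mR (φe.symm ((1 : A') ⊗ₜ[A] (e w))) = w := by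
      intro w
      rw [he, key]
      have : φe.symm (φ (w ⊗ₜ[A] (1 : A'))) = w ⊗ₜ[A] (1 : A') := φe.symm_apply_apply _
      rw [this]
      simp
    rw [← k1 u, ← k1 u', huu]
  have heid : ∀ u, e u = u := fun u => hinj (hee u)
  let D : M' →ₗ[A] A' ⊗[A] M' := θ - TensorProduct.mk A A' M' 1
  have hMD : M = LinearMap.ker D := by
    ext u
    rw [hM, LinearMap.mem_ker, LinearMap.sub_apply, sub_eq_zero]
    rfl
  subst hMD
  constructor
  · rw [injective_iff_map_eq_zero]
    intro s hs
    have hflat : Function.Injective (LinearMap.lTensor A' (LinearMap.ker D).subtype) :=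
      Module.Flat.lTensor_preserves_injective_linearMap _ (Submodule.subtype_injective _)
    apply hflat
    rw [map_zero]
    have key : ∀ s : A' ⊗[A] (LinearMap.ker D),
        φ (TensorProduct.comm A A' M' (LinearMap.lTensor A' (LinearMap.ker D).subtype s)) =
          (1 : A') ⊗ₜ[A] (mL (LinearMap.lTensor A' (LinearMap.ker D).subtype s) : M') := by
      intro s
      induction s using TensorProduct.induction_on with
      | zero => simp
      | tmul b u =>
        simp only [LinearMap.lTensor_tmul, Submodule.subtype_apply, TensorProduct.comm_tmul, mL_tmul]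
        have hu : φ ((u : M') ⊗ₜ[A] (1 : A')) = (1 : A') ⊗ₜ[A] (u : M') := by
          have := u.2
          rw [LinearMap.mem_ker, LinearMap.sub_apply, sub_eq_zero] at this
          exact this
        have := h2 b (u : M') 1
        rw [mul_one, hu] at this
        rw [this]
        simp
      | add a b ha hb => simp only [map_add, ha, hb, tmul_add]
    have h0 := key s
    have hs' : mL (LinearMap.lTensor A' (LinearMap.ker D).subtype s) = 0 := hs
    rw [hs', tmul_zero] at h0
    have h3 := hφ.1 (h0.trans (map_zero φ).symm)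
    exact (TensorProduct.comm A A' M').injective (h3.trans (map_zero _).symm)
  · intro v
    have hex := Module.Flat.lTensor_exact A' (LinearMap.exact_subtype_ker_map D)
    have hker : LinearMap.lTensor A' D (θ v) = 0 := by
      rw [LinearMap.lTensor_sub, LinearMap.sub_apply, hcoc1, sub_self]
    obtain ⟨s, hs⟩ := (hex (θ v)).1 hker
    refine ⟨s, ?_⟩
    change mL (LinearMap.lTensor A' (LinearMap.ker D).subtype s) = v
    rw [hs]
    exact heid v

end Groth.Agent.S19547
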