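import Groth.Statements.S19549
import Groth.Agent.Lib.H94Desc1

set_option autoImplicit false
universe u
open SchFin SchFin.Alg

namespace Groth.Agent.S19549


open SchFin in
/-- Let X be a schematic finite space, A a quasi-coherent algebra on X and U an affine up-closed set of
points. Then the value of A at every point of U is étale over the ring of that point (flat,
unramified and of finite presentation) if and only if the ring map from the sections of the rings
over U to the sections of A over U is étale. (The published statement ranges over all affine open
subsets, with the same criterion for an affine open cover, and is phrased for étale cover sheaves,
which are in addition finite at every point; this row states the étale part of the criterion for one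
affine up-closed subset, finiteness at the points of U being equivalent to finiteness of the same
ring map by the companion criterion for finite algebras. It carries explicitly the hypotheses that
the product of the rings of the points of U is faithfully flat over the ring of sections of the
rings over U, and likewise for the algebra; these hold for every affine open subset and every
quasi-coherent algebra by results the published proof uses and recalls without proof.) -/
theorem result (X : RSpace.{u}) (hX : X.IsSchematic) (A : Alg X) (hA : A.IsQcoh)
    (U : Set X.pt) (hU' : IsUpperSet U) (hUa : (X.restrict U).IsAffine)
    (hφ : Module.FaithfullyFlat (X.sectRing U) ((q : ↥U) → X.ring q.1))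
    (hψ : (A.total.sectRing U).subtype.FaithfullyFlat) :
    (∀ q : X.pt, q ∈ U → Algebra.Etale (X.ring q) (A.carrier q)) ↔ (A.sectMap U).Etale := by
  have h := Groth.Agent.Lib.H94Desc.main A U (P := @RingHom.Etale)
    RingHom.Etale.isStableUnderBaseChange
    RingHom.Etale.codescendsAlong_faithfullyFlat
    (fun R A _ _ _ h => RingHom.etale_algebraMap.mpr
      (Groth.Agent.Lib.H94Desc.etale_pi R A fun i => RingHom.etale_algebraMap.mp (h i)))
    hA hUa hφ
  simpa only [RingHom.etale_algebraMap] using h

end Groth.Agent.S19549
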