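import Groth.Statements.S19550
import Mathlib.RingTheory.Spectrum.Prime.Topology

set_option autoImplicit false
universe u
open SchFin SchFin.RSpace

namespace Groth.Agent.S19550

section Helpers

set_option linter.unusedSectionVars false

open SchFin

theorem idem_eq_zero_or_one {R : Type u} [CommRing R] [ConnectedSpace (PrimeSpectrum R)] (e : R)
    (he : IsIdempotentElem e) : e = 0 ∨ e = 1 := by
  have hcl : IsClopen (PrimeSpectrum.basicOpen e : Set (PrimeSpectrum R)) :=
    PrimeSpectrum.isClopen_iff.2 ⟨e, he, rfl⟩
  rcases isClopen_iff.1 hcl with h | h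
  · left
    have h1 : PrimeSpectrum.basicOpen e = ⊥ := TopologicalSpace.Opens.ext h
    rw [PrimeSpectrum.basicOpen_eq_bot_iff] at h1
    obtain ⟨n, hn⟩ := h1
    rcases n with _ | n
    · rw [pow_zero] at hn
      have : Subsingleton R := subsingleton_of_zero_eq_one hn.symm
      exact Subsingleton.elim _ _
    · rw [he.pow_succ_eq] at hn
      exact hn
  · right
    have h1 : (1 - e) = 0 := by
      have hcl' : PrimeSpectrum.basicOpen (1 - e) = ⊥ := by
        apply TopologicalSpace.Opens.ext
        apply Set.eq_empty_of_forall_notMem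
        intro x hx
        have hx1 : x ∈ (PrimeSpectrum.basicOpen e : Set (PrimeSpectrum R)) := by
          rw [h]
          trivial
        have h3 : e * (1 - e) ∈ x.asIdeal := by
          rw [mul_sub, mul_one, he.eq, sub_self]
          exact Ideal.zero_mem _
        rcases x.isPrime.mem_or_mem h3 with h4 | h4
        · exact hx1 h4
        · exact hx h4
      rw [PrimeSpectrum.basicOpen_eq_bot_iff] at hcl'
      obtain ⟨n, hn⟩ := hcl'
      rcases n with _ | n
      · rw [pow_zero] at hn
        have : Subsingleton R := subsingleton_of_zero_eq_one hn.symm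
        exact Subsingleton.elim _ _
      · rw [he.one_sub.pow_succ_eq] at hn
        exact hn
    exact (sub_eq_zero.1 h1).symm

variable {X : RSpace.{u}}

theorem nontrivial_of_pw (hW : X.IsWellConnected) (p : X.pt) : Nontrivial (X.ring p) := by
  have := hW.2 p
  obtain ⟨x⟩ := (inferInstance : Nonempty (PrimeSpectrum (X.ring p)))
  exact x.nontrivial

theorem top_connected (hW : X.IsWellConnected) (p₀ q₀ : X.pt) :
    Relation.EqvGen (fun a b : X.pt => a ≤ b) p₀ q₀ := by
  classical
  have hstep : ∀ {q q' : X.pt}, q ≤ q' →
      (Relation.EqvGen (fun a b : X.pt => a ≤ b) p₀ q ↔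
        Relation.EqvGen (fun a b : X.pt => a ≤ b) p₀ q') := by
    intro q q' h
    constructor
    · intro hq
      exact Relation.EqvGen.trans _ _ _ hq (Relation.EqvGen.rel _ _ h)
    · intro hq
      exact Relation.EqvGen.trans _ _ _ hq (Relation.EqvGen.symm _ _ (Relation.EqvGen.rel _ _ h))
  let s : X.sectRing Set.univ :=
    ⟨fun q => if Relation.EqvGen (fun a b : X.pt => a ≤ b) p₀ q.1 then 1 else 0, by
      intro q q' h
      by_cases hq : Relation.EqvGen (fun a b : X.pt => a ≤ b) p₀ q.1
      · have hq' := (hstep h).1 hq
        simp only [hq, hq', if_true, map_one]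
      · have hq' : ¬ Relation.EqvGen (fun a b : X.pt => a ≤ b) p₀ q'.1 := fun h' =>
          hq ((hstep h).2 h')
        simp only [hq, hq', if_false, map_zero]⟩
  have hs : IsIdempotentElem s := by
    apply Subtype.ext
    funext q
    show (if _ then (1 : X.ring q.1) else 0) * (if _ then 1 else 0) = if _ then 1 else 0
    split_ifs <;> simp
  have : ConnectedSpace (PrimeSpectrum (X.sectRing Set.univ)) := hW.1
  have := nontrivial_of_pw hW p₀
  have := nontrivial_of_pw hW q₀
  rcases idem_eq_zero_or_one s hs with h | h
  · exfalso
    have h1 := congrArg (fun t : X.sectRing Set.univ => t.1 ⟨p₀, trivial⟩) h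
    have h2 : (if Relation.EqvGen (fun a b : X.pt => a ≤ b) p₀ p₀ then (1 : X.ring p₀) else 0) = 0 :=
      h1
    rw [if_pos (Relation.EqvGen.refl _)] at h2
    exact one_ne_zero h2
  · have h1 := congrArg (fun t : X.sectRing Set.univ => t.1 ⟨q₀, trivial⟩) h
    have h2 : (if Relation.EqvGen (fun a b : X.pt => a ≤ b) p₀ q₀ then (1 : X.ring q₀) else 0) = 1 :=
      h1
    by_contra hcon
    rw [if_neg hcon] at h2
    exact zero_ne_one h2


section Main

variable (hW : X.IsWellConnected) (F E : Type) [Finite F] [Finite E]
  (f : ∀ p : X.pt, (F → X.ring p) →ₐ[X.ring p] (E → X.ring p))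

/-- the matrix coefficient -/
noncomputable def cc [DecidableEq F] (p : X.pt) (e : E) (i : F) : X.ring p :=
  f p (Pi.single i 1) e

variable {F E}

theorem cc_mul_of_ne [DecidableEq F] (p : X.pt) (e : E) {i j : F} (hij : i ≠ j) :
    cc F E f p e i * cc F E f p e j = 0 := by
  unfold cc
  have : (Pi.single i 1 : F → X.ring p) * Pi.single j 1 = 0 := by
    funext k
    by_cases hk : k = i
    · subst hk
      simp [hij]
    · simp [hk]
  have h2 := congrFun (congrArg (f p) this) e
  rw [map_mul, map_zero] at h2
  exact h2

theorem cc_idem [DecidableEq F] (p : X.pt) (e : E) (i : F) :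
    IsIdempotentElem (cc F E f p e i) := by
  unfold cc IsIdempotentElem
  have : (Pi.single i 1 : F → X.ring p) * Pi.single i 1 = Pi.single i 1 := by
    rw [← Pi.single_mul, mul_one]
  have h2 := congrFun (congrArg (f p) this) e
  rw [map_mul] at h2
  exact h2

theorem apply_eq_sum [DecidableEq F] [Fintype F] (p : X.pt) (g : F → X.ring p) (e : E) :
    f p g e = ∑ i, g i * cc F E f p e i := by
  unfold cc
  have hg : g = ∑ i, g i • (Pi.single i 1 : F → X.ring p) := by
    funext k
    simp [Finset.sum_apply, Pi.single_apply]
  conv_lhs => rw [hg]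
  rw [map_sum, Finset.sum_apply]
  apply Finset.sum_congr rfl
  intro i _
  rw [map_smul]
  rfl

include hW in
theorem exists_cc_eq_one [DecidableEq F] (p : X.pt) (e : E) : ∃ i, cc F E f p e i = 1 := by
  have := Fintype.ofFinite F
  have := hW.2 p
  have := nontrivial_of_pw hW p
  by_contra hcon
  push Not at hcon
  have h0 : ∀ i, cc F E f p e i = 0 := fun i =>
    (idem_eq_zero_or_one _ (cc_idem f p e i)).resolve_right (hcon i)
  have h1 := apply_eq_sum f p 1 e
  rw [map_one] at h1
  simp only [h0, mul_zero, Finset.sum_const_zero, Pi.one_apply] at h1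
  exact one_ne_zero h1

end Main

theorem main (hW : X.IsWellConnected) (F E : Type) [Finite F] [Finite E]
    (f : ∀ p : X.pt, (F → X.ring p) →ₐ[X.ring p] (E → X.ring p))
    (hf : ∀ (p q : X.pt) (h : p ≤ q) (g : F → X.ring p) (e : E),
      X.res h (f p g e) = f q (fun i => X.res h (g i)) e) :
    ∃ φ : E → F, ∀ (p : X.pt) (g : F → X.ring p) (e : E), f p g e = g (φ e) := by
  classical
  have := Fintype.ofFinite F
  have hne : Nonempty X.pt := by
    by_contra hemp
    rw [not_nonempty_iff] at hemp
    have : ConnectedSpace (PrimeSpectrum (X.sectRing Set.univ)) := hW.1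
    obtain ⟨x⟩ := (inferInstance : Nonempty (PrimeSpectrum (X.sectRing Set.univ)))
    have hnt := x.nontrivial
    have hsub : Subsingleton (X.sectRing Set.univ) :=
      ⟨fun a b => Subtype.ext (funext fun q => (hemp.false q.1).elim)⟩
    exact not_subsingleton _ hsub
  obtain ⟨p₀⟩ := hne
  choose φ hφ using fun p e => exists_cc_eq_one hW f p e
  have key : ∀ p g e, f p g e = g (φ p e) := by
    intro p g e
    rw [apply_eq_sum f p g e, Finset.sum_eq_single (φ p e)]
    · rw [hφ, mul_one]
    · intro i _ hi
      have h0 : cc F E f p e i = 0 := by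
        have := cc_mul_of_ne f p e hi
        rw [hφ, mul_one] at this
        exact this
      rw [h0, mul_zero]
    · intro h
      exact absurd (Finset.mem_univ _) h
  have hres : ∀ p q (h : p ≤ q) e i, X.res h (cc F E f p e i) = cc F E f q e i := by
    intro p q h e i
    unfold cc
    rw [hf p q h]
    have hsingle : (fun j => X.res h ((Pi.single i 1 : F → X.ring p) j)) =
        (Pi.single i 1 : F → X.ring q) := by
      funext j
      by_cases hj : j = i
      · subst hj
        simp
      · simp [hj]
    rw [hsingle]
  have hle : ∀ p q, p ≤ q → φ p = φ q := by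
    intro p q h
    funext e
    by_contra hne
    have h1 : cc F E f q e (φ p e) = 1 := by rw [← hres p q h, hφ, map_one]
    have h2 := cc_mul_of_ne f q e hne
    rw [h1, hφ, mul_one] at h2
    have := nontrivial_of_pw hW q
    exact one_ne_zero h2
  have hall : ∀ p, φ p = φ p₀ := by
    intro p
    have hc := top_connected hW p p₀
    induction hc with
    | rel a b h => exact hle a b h
    | refl a => rfl
    | symm a b _ ih => exact ih.symm
    | trans a b c _ _ ih1 ih2 => exact ih1.trans ih2
  exact ⟨φ p₀, fun p g e => by rw [key, hall]⟩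

end Helpers


open SchFin in
/-- Let X be a well-connected schematic finite space and f : A → B a morphism of quasi-coherent algebras
between trivial étale covers A ≅ O_X^F and B ≅ O_X^E, F and E finite sets. Then f is induced by a
map of finite sets φ : E → F. Here the trivial algebras are written out: f is a family of
O_p-algebra maps (F → O_p) → (E → O_p), one for each point p, compatible with the restriction maps,
and the conclusion says f_p(g) = g ∘ φ for every p and g. (The published statement names a map F →
E; a map of algebras of functions O^F → O^E is composition with a map E → F, which is what this row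
states.) -/
theorem result (X : RSpace.{u})
    (hX : X.IsSchematic) (hW : X.IsWellConnected) (F E : Type) [Finite F] [Finite E]
    (f : ∀ p : X.pt, (F → X.ring p) →ₐ[X.ring p] (E → X.ring p))
    (hf : ∀ (p q : X.pt) (h : p ≤ q) (g : F → X.ring p) (e : E),
      X.res h (f p g e) = f q (fun i => X.res h (g i)) e) :
    ∃ φ : E → F, ∀ (p : X.pt) (g : F → X.ring p) (e : E), f p g e = g (φ e) := by
  exact main hW F E f hf

end Groth.Agent.S19550
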