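import Groth.Statements.S19551
import Groth.Agent.Lib.KronMod88
import Mathlib.LinearAlgebra.Matrix.ToLinearEquiv
import Mathlib.LinearAlgebra.Determinant
import Mathlib.Algebra.Polynomial.Roots
import Mathlib.FieldTheory.IsAlgClosed.Basic

set_option autoImplicit false
universe u v w
open KronMod

namespace Groth.Agent.S19551

open Polynomial

/-- Matrix pencil lemma: if `det (A₀ + c • A₁) = 0` for all `c` in an infinite field, there is a
nonzero polynomial vector `∑ zⁱ xᵢ` killed by `A₀ + z A₁`. -/
theorem pencil_matrix {K : Type u} [Field K] [Infinite K] {k : ℕ}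
    (A₀ A₁ : Matrix (Fin k) (Fin k) K) (hdet : ∀ c : K, (A₀ + c • A₁).det = 0) :
    ∃ x : ℕ → (Fin k → K), (∃ i, x i ≠ 0) ∧ A₀.mulVec (x 0) = 0 ∧
      ∀ i, A₀.mulVec (x (i + 1)) + A₁.mulVec (x i) = 0 := by
  classical
  let M : Matrix (Fin k) (Fin k) K[X] := fun r j => C (A₀ r j) + X * C (A₁ r j)
  have hM : M.det = 0 := by
    apply Polynomial.funext
    intro c
    rw [eval_zero]
    have h1 : (M.det).eval c = ((evalRingHom c).mapMatrix M).det := by
      rw [← RingHom.map_det]
      rfl
    rw [h1]
    have h2 : (evalRingHom c).mapMatrix M = A₀ + c • A₁ := by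
      ext r j
      simp only [RingHom.mapMatrix_apply, Matrix.map_apply, coe_evalRingHom, M, eval_add, eval_C,
        eval_mul, eval_X, Matrix.add_apply, Matrix.smul_apply, smul_eq_mul]
    rw [h2]
    exact hdet c
  obtain ⟨v, hv0, hv⟩ := Matrix.exists_mulVec_eq_zero_iff.mpr hM
  refine ⟨fun i j => (v j).coeff i, ?_, ?_, ?_⟩
  · by_contra hcon
    push Not at hcon
    apply hv0
    funext j
    ext i
    have := congrFun (hcon i) j
    simpa using this
  · funext r
    have h := congrFun hv r
    have h0 := congrArg (fun p : K[X] => p.coeff 0) h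
    simp only [Matrix.mulVec, dotProduct, M, Pi.zero_apply, coeff_zero] at h0
    rw [finsetSum_coeff] at h0
    simp only [Matrix.mulVec, dotProduct, Pi.zero_apply]
    rw [← h0]
    refine Finset.sum_congr rfl (fun j _ => ?_)
    rw [add_mul, coeff_add, coeff_C_mul, mul_assoc, coeff_X_mul_zero, add_zero]
  · intro i
    funext r
    have h := congrFun hv r
    have h0 := congrArg (fun p : K[X] => p.coeff (i + 1)) h
    simp only [Matrix.mulVec, dotProduct, M, Pi.zero_apply, coeff_zero] at h0
    rw [finsetSum_coeff] at h0
    simp only [Matrix.mulVec, dotProduct, Pi.zero_apply, Pi.add_apply]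
    rw [← h0, ← Finset.sum_add_distrib]
    refine Finset.sum_congr rfl (fun j _ => ?_)
    rw [add_mul, coeff_add, coeff_C_mul, mul_assoc, coeff_X_mul, coeff_C_mul]

/-- Abstract destabilising subspace from a polynomial kernel vector of `f₀ + z f₁`. -/
theorem destab {K : Type u} [Field K] {V : Type v} {W : Type w}
    [AddCommGroup V] [Module K V] [FiniteDimensional K V]
    [AddCommGroup W] [Module K W] [FiniteDimensional K W]
    (f₀ f₁ : V →ₗ[K] W) (x : ℕ → V) (hx : ∃ i, x i ≠ 0) (h0 : f₀ (x 0) = 0)
    (hrec : ∀ i, f₀ (x (i + 1)) + f₁ (x i) = 0) :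
    ∃ V' : Submodule K V, V'.map f₁ ≤ V'.map f₀ ∧
      Module.finrank K (V'.map f₀) < Module.finrank K V' := by
  classical
  set C : Submodule K V := Submodule.span K (Set.range x) with hC
  have hxC : ∀ i, x i ∈ C := fun i => Submodule.subset_span ⟨i, rfl⟩
  refine ⟨C, ?_, ?_⟩
  · rw [hC, Submodule.map_span_le]
    rintro _ ⟨i, rfl⟩
    have h1 : f₁ (x i) = -f₀ (x (i + 1)) := by
      have := hrec i
      rw [add_comm] at this
      exact eq_neg_of_add_eq_zero_left this
    rw [h1]
    exact Submodule.neg_mem _ (Submodule.mem_map_of_mem (hxC (i + 1)))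
  · -- the first nonzero coefficient lies in the kernel of `f₀`
    have hm := Nat.find_spec hx
    have hmin : ∀ i < Nat.find hx, x i = 0 := fun i hi => by
      by_contra hne
      exact Nat.find_min hx hi hne
    have hker : f₀ (x (Nat.find hx)) = 0 := by
      rcases Nat.eq_zero_or_eq_succ_pred (Nat.find hx) with h | h
      · rw [h]
        exact h0
      · rw [h]
        have h1 := hrec (Nat.find hx).pred
        have h2 : x (Nat.find hx).pred = 0 := hmin _ (Nat.pred_lt (by
          intro h0'
          rw [h0'] at h
          simp at h))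
        rw [h2, map_zero, add_zero] at h1
        exact h1
    have hrn := LinearMap.finrank_range_add_finrank_ker (f₀.domRestrict C)
    rw [LinearMap.range_domRestrict] at hrn
    have hkpos : 0 < Module.finrank K (LinearMap.ker (f₀.domRestrict C)) := by
      apply Nat.pos_of_ne_zero
      intro h0'
      have hbot : LinearMap.ker (f₀.domRestrict C) = ⊥ := Submodule.finrank_eq_zero.mp h0'
      have hmem : (⟨x (Nat.find hx), hxC _⟩ : C) ∈ LinearMap.ker (f₀.domRestrict C) := by
        rw [LinearMap.mem_ker]
        exact hker
      rw [hbot, Submodule.mem_bot] at hmem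
      exact hm (congrArg Subtype.val hmem)
    omega

/-- Case of two arrows. Over an algebraically closed field K, if a Kronecker module f = (f_0, f_1) with
two arrows between spaces V and W of the same finite dimension k is semistable, then some linear
combination z_0 f_0 + z_1 f_1 of its arrows is a linear isomorphism V → W: for two arrows the
semistable locus of dimension vector (k, k) lies in the open set of modules whose generic
combination is invertible, for every k. (The published statement, over an algebraically closed field
of characteristic zero, also covers the dimension vectors (1, 1) and (2, 2) for any number of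
arrows; this row states the two-arrow case for all k, without the characteristic assumption.) -/
theorem result (K : Type u) [Field K] [IsAlgClosed K]
    (V : Type v) (W : Type w)
    [AddCommGroup V] [Module K V] [FiniteDimensional K V]
    [AddCommGroup W] [Module K W] [FiniteDimensional K W]
    (f : Fin 2 → (V →ₗ[K] W)) (k : ℕ)
    (hV : Module.finrank K V = k) (hW : Module.finrank K W = k)
    (hf : KronMod.IsSemistable f) :
    ∃ z : Fin 2 → K, Function.Bijective ((∑ j, z j • f j : V →ₗ[K] W) : V → W) := by
  classical
  by_contra hcon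
  push Not at hcon
  obtain ⟨hpos, hall⟩ := hf
  have hk : 0 < k := by omega
  let bV : Module.Basis (Fin k) K V := Module.finBasisOfFinrankEq K V hV
  let bW : Module.Basis (Fin k) K W := Module.finBasisOfFinrankEq K W hW
  have hdet : ∀ c : K, (LinearMap.toMatrix bV bW (f 0) + c • LinearMap.toMatrix bV bW (f 1)).det
      = 0 := by
    intro c
    by_contra hne
    have hu : IsUnit (LinearMap.toMatrix bV bW (f 0 + c • f 1)).det := by
      rw [map_add, map_smul]
      exact isUnit_iff_ne_zero.mpr hne
    have hbij : Function.Bijective (f 0 + c • f 1) := (LinearEquiv.ofIsUnitDet hu).bijective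
    apply hcon ![1, c]
    have e : (∑ j, (![1, c] : Fin 2 → K) j • f j) = f 0 + c • f 1 := by
      rw [Fin.sum_univ_two]
      simp
    rw [e]
    exact hbij
  obtain ⟨x, hx, hx0, hxrec⟩ := pencil_matrix _ _ hdet
  -- transport to `V`
  have key : ∀ (g : V →ₗ[K] W) (a : Fin k → K),
      bW.equivFun (g (bV.equivFun.symm a)) = (LinearMap.toMatrix bV bW g).mulVec a := by
    intro g a
    have h1 := LinearMap.toMatrix_mulVec_repr bV bW g (bV.equivFun.symm a)
    have h2 : ⇑(bV.repr (bV.equivFun.symm a)) = a := by
      have := bV.equivFun.apply_symm_apply a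
      rwa [Module.Basis.equivFun_apply] at this
    rw [h2] at h1
    rw [h1, Module.Basis.equivFun_apply]
  let xV : ℕ → V := fun i => bV.equivFun.symm (x i)
  have hxV : ∃ i, xV i ≠ 0 := by
    obtain ⟨i, hi⟩ := hx
    refine ⟨i, fun h => hi ?_⟩
    have := congrArg bV.equivFun h
    rwa [LinearEquiv.apply_symm_apply, map_zero] at this
  have h0 : f 0 (xV 0) = 0 := by
    apply bW.equivFun.injective
    rw [key, hx0, map_zero]
  have hrec : ∀ i, f 0 (xV (i + 1)) + f 1 (xV i) = 0 := by
    intro i
    apply bW.equivFun.injective
    rw [map_add, key, key, hxrec, map_zero]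
  obtain ⟨V', hsub, hlt⟩ := destab (f 0) (f 1) xV hxV h0 hrec
  have h1 := hall V' (V'.map (f 0))
    (by
      intro j
      fin_cases j
      · exact le_rfl
      · exact hsub)
    (fun hh => by
      rw [hh.2, hh.1, finrank_bot, finrank_bot] at hlt
      omega)
    (fun hh => by
      rw [hh.2, hh.1, finrank_top, finrank_top, hV, hW] at hlt
      omega)
  rw [hV, hW] at h1
  have := Nat.le_of_mul_le_mul_left h1 hk
  omega

end Groth.Agent.S19551
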