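import Groth.Statements.S19556
import Mathlib.AlgebraicGeometry.Morphisms.Finite
import Mathlib.AlgebraicGeometry.Morphisms.Proper
import Mathlib.AlgebraicGeometry.Morphisms.Immersion
-- import your own Groth.Agent.* helpers here

set_option autoImplicit false
universe u
open CategoryTheory AlgebraicGeometry
open Mor

namespace Groth.Agent.S19556

/-- Let S be a scheme, p : X → S and q : Y → S schemes over S, and π : X → Y a finite surjective
morphism over S (π ≫ q = p). If X is separated over S then Y is separated over S. (The published
statement is about the quotient map X → X/G of a scheme by an action of a finite group scheme,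
assumed to exist and then finite and surjective; this row keeps of it only a finite surjective
S-morphism π, which is all the argument uses.) -/
theorem result {S X Y : Scheme.{u}} (p : X ⟶ S) (q : Y ⟶ S)
    (π : X ⟶ Y) (hπ : π ≫ q = p) [IsFinite π] [Surjective π] [IsSeparated p] :
    IsSeparated q := by
  subst hπ
  let PP : Limits.pullback (π ≫ q) (π ≫ q) ⟶ Limits.pullback q q :=
    Limits.pullback.map (π ≫ q) (π ≫ q) q q π π (𝟙 S) ((Category.comp_id _).trans rfl)
      ((Category.comp_id _).trans rfl)
  have hPP : IsFinite PP :=
    MorphismProperty.pullbackMap (P := @IsFinite) (inferInstance : IsFinite π)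
      (inferInstance : IsFinite π) rfl rfl
  have hcomm : Limits.pullback.diagonal (π ≫ q) ≫ PP = π ≫ Limits.pullback.diagonal q := by
    apply Limits.pullback.hom_ext
    · rw [Category.assoc, Category.assoc, Limits.pullback.lift_fst, ← Category.assoc,
        Limits.pullback.diagonal_fst, Category.id_comp, Limits.pullback.diagonal_fst, Category.comp_id]
    · rw [Category.assoc, Category.assoc, Limits.pullback.lift_snd, ← Category.assoc,
        Limits.pullback.diagonal_snd, Category.id_comp, Limits.pullback.diagonal_snd, Category.comp_id]
  constructor
  apply IsClosedImmersion.of_isPreimmersion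
  have hrange : Set.range (Limits.pullback.diagonal q) =
      PP '' Set.range (Limits.pullback.diagonal (π ≫ q)) := by
    have h1 : Set.range (π ≫ Limits.pullback.diagonal q) = Set.range (Limits.pullback.diagonal q) := by
      rw [Scheme.Hom.comp_base, TopCat.coe_comp]
      exact (Scheme.Hom.surjective π).range_comp _
    rw [← h1, ← hcomm, Scheme.Hom.comp_base, TopCat.coe_comp, Set.range_comp]
  rw [hrange]
  exact PP.isClosedMap _ (Limits.pullback.diagonal (π ≫ q)).isClosedMap.isClosed_range

end Groth.Agent.S19556
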