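import Mathlib
import Groth.Statements.S19562

set_option autoImplicit false
universe u
open W4c1limliniiii

namespace Groth.Agent.S19562

section Helpers

variable {k : Type*} [Field k] {E : Type*} [AddCommGroup E] [Module k E] [FiniteDimensional k E]

/-- rank-nullity for the restriction of `φ` to `V` -/
theorem finrank_map_add (φ : E →ₗ[k] E) (V : Submodule k E) :
    Module.finrank k ↥(V.map φ) + Module.finrank k ↥(LinearMap.ker φ ⊓ V) = Module.finrank k ↥V := by
  have h := LinearMap.finrank_range_add_finrank_ker (φ.domRestrict V)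
  rw [LinearMap.range_domRestrict, LinearMap.ker_domRestrict] at h
  have h2 : Module.finrank k ↥(Submodule.comap V.subtype (LinearMap.ker φ)) =
      Module.finrank k ↥(LinearMap.ker φ ⊓ V) := by
    have : Submodule.comap V.subtype (LinearMap.ker φ) =
        Submodule.comap V.subtype (LinearMap.ker φ ⊓ V) := by
      ext x
      simp
    rw [this]
    exact (Submodule.comapSubtypeEquivOfLe (inf_le_right : LinearMap.ker φ ⊓ V ≤ V)).finrank_eq
  rw [h2] at h
  exact h

theorem exact_iff (φ ψ : E →ₗ[k] E) (hφψ : φ.comp ψ = 0) (hψφ : ψ.comp φ = 0)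
    (V V' : Submodule k E) (r : ℕ) (hV : Module.finrank k ↥V = r) (hV' : Module.finrank k ↥V' = r)
    (h1 : V.map φ ≤ V') (h2 : V'.map ψ ≤ V) :
    (LinearMap.ker ψ ⊓ V' ≤ V.map φ ∧ LinearMap.ker φ ⊓ V ≤ V'.map ψ) ↔
      Module.finrank k ↥(V.map φ) + Module.finrank k ↥(V'.map ψ) = r := by
  have e1 := finrank_map_add φ V
  have e2 := finrank_map_add ψ V'
  rw [hV] at e1
  rw [hV'] at e2
  have le1 : V.map φ ≤ LinearMap.ker ψ ⊓ V' := by
    refine le_inf ?_ h1
    rintro _ ⟨x, -, rfl⟩
    exact LinearMap.congr_fun hψφ x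
  have le2 : V'.map ψ ≤ LinearMap.ker φ ⊓ V := by
    refine le_inf ?_ h2
    rintro _ ⟨x, -, rfl⟩
    exact LinearMap.congr_fun hφψ x
  constructor
  · rintro ⟨hex, -⟩
    have : V.map φ = LinearMap.ker ψ ⊓ V' := le_antisymm le1 hex
    rw [this]
    omega
  · intro hsum
    constructor
    · have : V.map φ = LinearMap.ker ψ ⊓ V' :=
        Submodule.eq_of_le_of_finrank_eq le1 (by omega)
      rw [this]
    · have : V'.map ψ = LinearMap.ker φ ⊓ V :=
        Submodule.eq_of_le_of_finrank_eq le2 (by omega)
      rw [this]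

open TensorProduct in
theorem finrank_grassmannian (k : Type u) [Field k] (d r : ℕ) (hrd : r < d)
    (N : Module.Grassmannian k (k ⊗[k] (Fin d → k)) (d - r)) :
    Module.finrank k ↥N.toSubmodule = r := by
  have h1 : Module.finrank k ((k ⊗[k] (Fin d → k)) ⧸ N.toSubmodule) = d - r := by
    have := N.rankAtStalk_eq (⊥ : PrimeSpectrum k)
    rw [Module.rankAtStalk_eq_finrank_of_free] at this
    exact this
  have h2 := Submodule.finrank_quotient_add_finrank N.toSubmodule
  have h3 : Module.finrank k (k ⊗[k] (Fin d → k)) = d := by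
    rw [Module.finrank_tensorProduct, Module.finrank_self, one_mul, Module.finrank_fin_fun]
  omega

end Helpers

open TensorProduct in
/-- Let k be a field, 0 < r < d, and f_i, g_i (i < n) linear maps forward and backward between
consecutive ones of n + 1 copies of k^d, forming a linked Grassmannian over Spec k whose scalar s is
zero: every composite f_i ∘ g_i and g_i ∘ f_i vanishes, rank f_i + rank g_i ≥ d, and for consecutive
indices im f_i ∩ ker f_{i+1} = 0 and im g_{i+1} ∩ ker g_i = 0. Let (V_i) be a k-valued point of the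
linked Grassmannian of rank-r sub-bundles (subspaces V_i of k ⊗ k^d with quotient of rank d − r,
with f_i(V_i) ⊆ V_{i+1} and g_i(V_{i+1}) ⊆ V_i). Then (V_i) is exact, meaning ker g_i ∩ V_{i+1} ⊆
f_i(V_i) and ker f_i ∩ V_i ⊆ g_i(V_{i+1}) for all i, if and only if dim f_i(V_i) + dim g_i(V_{i+1})
= r for all i. (The published assertion is for points with values in an arbitrary scheme and also
says that f_i(V_i) and g_i(V_{i+1}) are then sub-bundles; this row is the case of a field, where the
last clause is empty.) -/
theorem result (k : Type u) [Field k]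
    (d r n : ℕ) (hr : 0 < r) (hrd : r < d) (f g : Fin n → ((Fin d → k) →ₗ[k] (Fin d → k)))
    (hI : ∀ i, (f i).comp (g i) = 0 ∧ (g i).comp (f i) = 0)
    (hII : ∀ i, d ≤ Module.finrank k (LinearMap.range (f i)) + Module.finrank k (LinearMap.range (g i)))
    (hIII : ∀ i j : Fin n, i.val + 1 = j.val →
      LinearMap.range (f i) ⊓ LinearMap.ker (f j) = ⊥ ∧
        LinearMap.range (g j) ⊓ LinearMap.ker (g i) = ⊥)
    (V : Fin (n + 1) → Module.Grassmannian k (k ⊗[k] (Fin d → k)) (d - r))
    (hV : V ∈ W4c1limliniiii.LGPoints k d r n f g k) :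
    W4c1limliniiii.IsExact k d r n f g k V ↔
      ∀ i : Fin n,
        Module.finrank k ↥(Submodule.map ((f i).baseChange k) (V i.castSucc).toSubmodule) +
          Module.finrank k ↥(Submodule.map ((g i).baseChange k) (V i.succ).toSubmodule) = r := by
  have key : ∀ i : Fin n,
      ((LinearMap.ker ((g i).baseChange k) ⊓ (V i.succ).toSubmodule ≤
          Submodule.map ((f i).baseChange k) (V i.castSucc).toSubmodule ∧
        LinearMap.ker ((f i).baseChange k) ⊓ (V i.castSucc).toSubmodule ≤
          Submodule.map ((g i).baseChange k) (V i.succ).toSubmodule) ↔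
      Module.finrank k ↥(Submodule.map ((f i).baseChange k) (V i.castSucc).toSubmodule) +
          Module.finrank k ↥(Submodule.map ((g i).baseChange k) (V i.succ).toSubmodule) = r) := by
    intro i
    refine exact_iff ((f i).baseChange k) ((g i).baseChange k) ?_ ?_ _ _ r
      (finrank_grassmannian k d r hrd _) (finrank_grassmannian k d r hrd _) (hV i).1 (hV i).2
    · rw [← LinearMap.baseChange_comp, (hI i).1, LinearMap.baseChange_zero]
    · rw [← LinearMap.baseChange_comp, (hI i).2, LinearMap.baseChange_zero]
  constructor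
  · intro hex i
    exact (key i).mp (hex i)
  · intro hsum i
    exact (key i).mpr (hsum i)

end Groth.Agent.S19562
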