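import Groth.Statements.S19568
import Groth.Agent.Lib.PairEtaleNbhd

set_option autoImplicit false
universe u
open Hensel

namespace Groth.Agent.S19568

/-- Let A be a ring, I an ideal of A and B an A-algebra which is a henselization of the pair (A, I).
Consider étale A-algebras A' for which the induced map A/I → A'/IA' is bijective. Then: (a) every
such A' admits exactly one A-algebra map to B; (b) every element of B is the image of an element of
some such A' under an A-algebra map A' → B; (c) if an A-algebra map A' → B from such an algebra
sends an element s to 0, then there are another such algebra A'' and an A-algebra map A' → A''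
sending s to 0. (All algebras are taken in the universe of A. Together with the filteredness of the
category of these algebras, (a), (b) and (c) express that B, with the maps of (a), is their
colimit.) -/
theorem result (A : Type u) [CommRing A] (I : Ideal A)
    (B : Type u) [CommRing B] [Algebra A B] (hB : Hens2.IsPairHenselization A I B) :
    (∀ (A' : Type u) [CommRing A'] [Algebra A A'] [Algebra.Etale A A'],
        Function.Bijective (Ideal.quotientMap (I.map (algebraMap A A')) (algebraMap A A') Ideal.le_comap_map) →
          Nonempty (Unique (A' →ₐ[A] B))) ∧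
    (∀ x : B, ∃ (A' : Type u) (_ : CommRing A') (_ : Algebra A A') (_ : Algebra.Etale A A'),
        Function.Bijective (Ideal.quotientMap (I.map (algebraMap A A')) (algebraMap A A') Ideal.le_comap_map) ∧
          ∃ (φ : A' →ₐ[A] B) (s : A'), φ s = x) ∧
    (∀ (A' : Type u) [CommRing A'] [Algebra A A'] [Algebra.Etale A A'],
        Function.Bijective (Ideal.quotientMap (I.map (algebraMap A A')) (algebraMap A A') Ideal.le_comap_map) →
          ∀ (φ : A' →ₐ[A] B) (s : A'), φ s = 0 →
            ∃ (A'' : Type u) (_ : CommRing A'') (_ : Algebra A A'') (_ : Algebra.Etale A A''),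
              Function.Bijective (Ideal.quotientMap (I.map (algebraMap A A'')) (algebraMap A A'') Ideal.le_comap_map) ∧
                ∃ ψ : A' →ₐ[A] A'', ψ s = 0) := by
  open Groth.Agent.Lib.PairEtaleNbhd in
  refine ⟨?_, ?_, ?_⟩
  · intro A' _ _ _ h
    have hn : IsNbhd I A' := ⟨inferInstance, h⟩
    obtain ⟨θ, -, hθ⟩ := existsUnique_algHom hB hn
    exact ⟨⟨⟨θ⟩, fun θ' => hθ θ' trivial⟩⟩
  · intro x
    obtain ⟨A', instR, instA, hA', φ, s, hs⟩ := exists_nbhd_of_mem hB x
    exact ⟨A', instR, instA, hA'.etale, hA'.qbij, φ, s, hs⟩
  · intro A' _ _ _ h φ s hs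
    have hn : IsNbhd I A' := ⟨inferInstance, h⟩
    obtain ⟨t, ht, hts⟩ := exists_mul_eq_zero_of_algHom_eq_zero hB hn φ s hs
    have hn' := hn.away t ht
    refine ⟨Localization.Away t, inferInstance, inferInstance, hn'.etale, hn'.qbij,
      IsScalarTower.toAlgHom A A' (Localization.Away t), ?_⟩
    change algebraMap A' (Localization.Away t) s = 0
    have hunit : IsUnit (algebraMap A' (Localization.Away t) t) :=
      IsLocalization.Away.algebraMap_isUnit t
    have h2 : algebraMap A' (Localization.Away t) t * algebraMap A' (Localization.Away t) s = 0 := by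
      rw [← map_mul, hts, map_zero]
    exact (hunit.mul_right_eq_zero).mp h2

end Groth.Agent.S19568
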