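import Groth.Statements.S1957
import Mathlib

set_option autoImplicit false
universe u
open Polynomial
open EtAlg

namespace Groth.Agent.S1957

open Polynomial TensorProduct

theorem exists_away {A U : Type u} [CommRing A] [CommRing U] [Algebra A U]
    [Algebra.FiniteType A U] [Algebra.FormallyUnramified A U]
    (I : Ideal A) (φ : U →ₐ[A] A ⧸ I) (v : A) (hv : IsUnit (Ideal.Quotient.mk I v)) :
    ∃ w : U, IsUnit (algebraMap A (Localization.Away w) v) ∧
      Function.Bijective (Ideal.quotientMap (I.map (algebraMap A (Localization.Away w)))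
        (algebraMap A (Localization.Away w)) Ideal.le_comap_map) ∧
      ∀ x : U, Ideal.Quotient.mk (I.map (algebraMap A (Localization.Away w)))
          (algebraMap U (Localization.Away w) x) =
        Ideal.quotientMap (I.map (algebraMap A (Localization.Away w)))
          (algebraMap A (Localization.Away w)) Ideal.le_comap_map (φ x) := by
  obtain ⟨t, ht₁, ht₂⟩ := (Algebra.FormallyUnramified.iff_exists_tensorProduct (R := A) (S := U)).mp
    inferInstance
  let J : Ideal U := I.map (algebraMap A U)
  let χ : A ⧸ I →ₐ[A] U ⧸ J := Ideal.quotientMapₐ J (Algebra.ofId A U) Ideal.le_comap_map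
  let α : U →ₐ[A] U ⧸ J := χ.comp φ
  let β : U →ₐ[A] U ⧸ J := Ideal.Quotient.mkₐ A J
  let ψ : U ⊗[A] U →ₐ[A] U ⧸ J := Algebra.TensorProduct.productMap α β
  have hφJ : ∀ a ∈ J, φ a = 0 := by
    intro a ha
    induction ha using Submodule.span_induction with
    | mem x hx =>
      obtain ⟨i, hi, rfl⟩ := hx
      rw [AlgHom.commutes]
      exact Ideal.Quotient.eq_zero_iff_mem.mpr hi
    | zero => exact map_zero _
    | add x y _ _ hx hy => rw [map_add, hx, hy, add_zero]
    | smul c x _ hx => rw [smul_eq_mul, map_mul, hx, mul_zero]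
  let σ : U ⧸ J →ₐ[A] A ⧸ I := Ideal.Quotient.liftₐ J φ hφJ
  have hσβ : ∀ x, σ (β x) = φ x := fun x => rfl
  have hσχ : ∀ y, σ (χ y) = y := by
    intro y
    obtain ⟨a, rfl⟩ := Ideal.Quotient.mk_surjective y
    show σ (χ (Ideal.Quotient.mk I a)) = _
    have : χ (Ideal.Quotient.mk I a) = β (algebraMap A U a) := rfl
    rw [this, hσβ, AlgHom.commutes]
    rfl
  have hσα : ∀ x, σ (α x) = φ x := fun x => hσχ (φ x)
  have hσψ : ∀ z, σ (ψ z) = φ (Algebra.TensorProduct.lmul' A z) := by
    intro z
    induction z using TensorProduct.induction_on with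
    | zero => simp
    | tmul a b =>
      simp only [ψ, Algebra.TensorProduct.productMap_apply_tmul, map_mul, hσα, hσβ,
        Algebra.TensorProduct.lmul'_apply_tmul]
    | add x y hx hy => simp only [map_add, hx, hy]
  have hψ : ∀ x : U, (β x - α x) * ψ t = 0 := by
    intro x
    have := congrArg ψ (ht₁ x)
    simpa [ψ, Algebra.TensorProduct.productMap_apply_tmul] using this
  obtain ⟨s, hs⟩ := Ideal.Quotient.mk_surjective (ψ t)
  have hβs : β s = ψ t := hs
  have hφs : φ s = 1 := by
    rw [← hσβ, hβs, hσψ, ht₂, map_one]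
  set w : U := s * algebraMap A U v with hw
  have hwu : IsUnit (algebraMap U (Localization.Away w) w) :=
    IsLocalization.Away.algebraMap_isUnit w
  have hsu : IsUnit (algebraMap U (Localization.Away w) s) := by
    rw [hw, map_mul] at hwu
    exact (IsUnit.mul_iff.mp hwu).1
  have hvu : IsUnit (algebraMap A (Localization.Away w) v) := by
    rw [hw, map_mul] at hwu
    have := (IsUnit.mul_iff.mp hwu).2
    rwa [← IsScalarTower.algebraMap_apply] at this
  have hφw : IsUnit (φ w) := by
    rw [hw, map_mul, hφs, one_mul, AlgHom.commutes]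
    exact hv
  -- key identity
  have hJmap : J.map (algebraMap U (Localization.Away w)) =
      I.map (algebraMap A (Localization.Away w)) := by
    rw [Ideal.map_map, ← IsScalarTower.algebraMap_eq]
  have hstar : ∀ x : U, Ideal.Quotient.mk (I.map (algebraMap A (Localization.Away w)))
          (algebraMap U (Localization.Away w) x) =
        Ideal.quotientMap (I.map (algebraMap A (Localization.Away w)))
          (algebraMap A (Localization.Away w)) Ideal.le_comap_map (φ x) := by
    intro x
    obtain ⟨a, ha⟩ := Ideal.Quotient.mk_surjective (φ x)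
    rw [← ha, Ideal.quotientMap_mk]
    have h1 : (β x - α x) * β s = 0 := by rw [hβs]; exact hψ x
    have h2 : α x = β (algebraMap A U a) := by
      show χ (φ x) = _
      rw [← ha]
      rfl
    rw [h2, ← map_sub, ← map_mul] at h1
    have h3 : (x - algebraMap A U a) * s ∈ J := Ideal.Quotient.eq_zero_iff_mem.mp h1
    have h4 : algebraMap U (Localization.Away w) ((x - algebraMap A U a) * s) ∈
        I.map (algebraMap A (Localization.Away w)) := by
      rw [← hJmap]; exact Ideal.mem_map_of_mem _ h3
    rw [map_mul] at h4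
    have h5 : algebraMap U (Localization.Away w) (x - algebraMap A U a) ∈
        I.map (algebraMap A (Localization.Away w)) := by
      obtain ⟨c, hc⟩ := hsu.exists_right_inv
      have := Ideal.mul_mem_right c _ h4
      rwa [mul_assoc, hc, mul_one] at this
    rw [map_sub, ← IsScalarTower.algebraMap_apply] at h5
    exact Ideal.Quotient.eq.mpr h5
  refine ⟨w, hvu, ⟨?_, ?_⟩, hstar⟩
  · -- injective
    let φ' : Localization.Away w →+* A ⧸ I := IsLocalization.Away.lift w (g := φ.toRingHom) hφw
    have hφ' : ∀ a : A, φ' (algebraMap A (Localization.Away w) a) = Ideal.Quotient.mk I a := by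
      intro a
      rw [IsScalarTower.algebraMap_apply A U (Localization.Away w)]
      have := IsLocalization.Away.lift_eq (S := Localization.Away w) w (g := φ.toRingHom) hφw
        (algebraMap A U a)
      rw [this]
      exact φ.commutes a
    have hker : ∀ y ∈ I.map (algebraMap A (Localization.Away w)), φ' y = 0 := by
      intro y hy
      induction hy using Submodule.span_induction with
      | mem x hx =>
        obtain ⟨i, hi, rfl⟩ := hx
        rw [hφ']
        exact Ideal.Quotient.eq_zero_iff_mem.mpr hi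
      | zero => exact map_zero _
      | add x y _ _ hx hy => rw [map_add, hx, hy, add_zero]
      | smul c x _ hx => rw [smul_eq_mul, map_mul, hx, mul_zero]
    let φbar := Ideal.Quotient.lift _ φ' hker
    intro y₁ y₂ h
    obtain ⟨a₁, rfl⟩ := Ideal.Quotient.mk_surjective y₁
    obtain ⟨a₂, rfl⟩ := Ideal.Quotient.mk_surjective y₂
    have := congrArg φbar h
    rw [Ideal.quotientMap_mk, Ideal.quotientMap_mk] at this
    simpa only [φbar, Ideal.Quotient.lift_mk, hφ'] using this
  · -- surjective
    intro y
    obtain ⟨y', rfl⟩ := Ideal.Quotient.mk_surjective y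
    obtain ⟨n, x, hx⟩ := IsLocalization.Away.surj w y'
    obtain ⟨c, hc⟩ := hφw.exists_right_inv
    refine ⟨φ x * c ^ n, ?_⟩
    rw [map_mul, ← hstar x, ← hx, map_mul, map_pow, hstar w, mul_assoc, ← map_pow, ← map_mul,
      ← mul_pow, hc, one_pow, map_one, mul_one]

theorem homEquiv_fst {R : Type*} [CommRing R] {S : Type*} [CommRing S] [Algebra R S]
    {n : ℕ} (m k : ℕ) (hn : n = m + k) (p : MonicDegreeEq R n)
    (f : UniversalCoprimeFactorizationRing m k hn p →ₐ[R] S) :
    ((UniversalCoprimeFactorizationRing.homEquiv S m k hn p) f).1.1.1 =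
      (UniversalCoprimeFactorizationRing.factor₁ m k hn p).1.map f.toRingHom := by
  simp only [UniversalCoprimeFactorizationRing.factor₁, MonicDegreeEq.map_coe, Polynomial.map_map]
  rfl

theorem homEquiv_snd {R : Type*} [CommRing R] {S : Type*} [CommRing S] [Algebra R S]
    {n : ℕ} (m k : ℕ) (hn : n = m + k) (p : MonicDegreeEq R n)
    (f : UniversalCoprimeFactorizationRing m k hn p →ₐ[R] S) :
    ((UniversalCoprimeFactorizationRing.homEquiv S m k hn p) f).1.2.1 =
      (UniversalCoprimeFactorizationRing.factor₂ m k hn p).1.map f.toRingHom := by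
  simp only [UniversalCoprimeFactorizationRing.factor₂, MonicDegreeEq.map_coe, Polynomial.map_map]
  rfl


theorem final_aux {U A' B Q : Type*} [CommRing U] [CommRing A'] [CommRing B] [CommRing Q]
    (ι : U →+* A') (φ : U →+* B) (q : B →+* Q) (mk' : A' →+* Q)
    (hcomp : mk'.comp ι = q.comp φ) (F₁ F₂ : U[X]) (g₀ h₀ : B[X])
    (k1 : F₁.map φ = g₀) (k2 : F₂.map φ = h₀) (u : Bˣ) (v' : A') (hv' : IsUnit v')
    (hmkv : mk' v' = q u) :
    (C v' * F₁.map ι) * (C (↑hv'.unit⁻¹ : A') * F₂.map ι) = (F₁ * F₂).map ι ∧
    (C v' * F₁.map ι).map mk' = (C (u : B) * g₀).map q ∧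
    (C (↑hv'.unit⁻¹ : A') * F₂.map ι).map mk' = (C (↑u⁻¹ : B) * h₀).map q := by
  have hinv : mk' (↑hv'.unit⁻¹ : A') = q (↑u⁻¹ : B) := by
    have h1 : mk' (↑hv'.unit⁻¹ : A') * q (u : B) = 1 := by
      rw [← hmkv, ← map_mul, hv'.val_inv_mul, map_one]
    have h2 : q (u : B) * q (↑u⁻¹ : B) = 1 := by
      rw [← map_mul]; simp
    calc mk' (↑hv'.unit⁻¹ : A')
        = mk' (↑hv'.unit⁻¹ : A') * (q (u : B) * q (↑u⁻¹ : B)) := by rw [h2, mul_one]
      _ = q (↑u⁻¹ : B) := by rw [← mul_assoc, h1, one_mul]
  refine ⟨?_, ?_, ?_⟩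
  · have : (C v' * C (↑hv'.unit⁻¹ : A') : A'[X]) = 1 := by
      rw [← C_mul, hv'.mul_val_inv, C_1]
    rw [Polynomial.map_mul]
    calc C v' * F₁.map ι * (C (↑hv'.unit⁻¹ : A') * F₂.map ι)
        = (C v' * C (↑hv'.unit⁻¹ : A')) * (F₁.map ι * F₂.map ι) := by ring
      _ = _ := by rw [this, one_mul]
  · rw [Polynomial.map_mul, Polynomial.map_C, Polynomial.map_map, hcomp, ← Polynomial.map_map, k1,
      hmkv, Polynomial.map_mul, Polynomial.map_C]
  · rw [Polynomial.map_mul, Polynomial.map_C, Polynomial.map_map, hcomp, ← Polynomial.map_map, k2,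
      hinv, Polynomial.map_mul, Polynomial.map_C]



/-- Let A be a ring, I an ideal and f a monic polynomial over A. Suppose the image of f in (A/I)[x]
factors as g h where the leading coefficient of g is a unit and g, h generate the unit ideal. Then
there is an etale A-algebra A' such that A/I -> A'/IA' is bijective, together with a factorization f
= g' h' in A'[x] whose reduction modulo IA' is the image of the given one. -/
theorem result (A : Type u) [CommRing A] (I : Ideal A) (f : A[X]) (hf : f.Monic)
    (g h : (A ⧸ I)[X]) (hgh : f.map (Ideal.Quotient.mk I) = g * h) (hlead : IsUnit g.leadingCoeff)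
    (hcop : IsCoprime g h) :
    ∃ (A' : Type u) (_ : CommRing A') (_ : Algebra A A') (_ : Algebra.Etale A A'),
      Function.Bijective (Ideal.quotientMap (I.map (algebraMap A A')) (algebraMap A A') Ideal.le_comap_map) ∧
      ∃ g' h' : A'[X], f.map (algebraMap A A') = g' * h' ∧
        g'.map (Ideal.Quotient.mk (I.map (algebraMap A A'))) =
          g.map (Ideal.quotientMap (I.map (algebraMap A A')) (algebraMap A A') Ideal.le_comap_map) ∧
        h'.map (Ideal.Quotient.mk (I.map (algebraMap A A'))) =
          h.map (Ideal.quotientMap (I.map (algebraMap A A')) (algebraMap A A') Ideal.le_comap_map) := by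
  by_cases htriv : Subsingleton (A ⧸ I)
  · have hI : I = ⊤ := Ideal.Quotient.subsingleton_iff.mp htriv
    have hI' : I.map (algebraMap A A) = ⊤ := by
      rw [hI]; exact Ideal.map_top _
    have hsub : Subsingleton (A ⧸ I.map (algebraMap A A)) := Ideal.Quotient.subsingleton_iff.mpr hI'
    refine ⟨A, inferInstance, inferInstance, inferInstance, ⟨?_, ?_⟩, f, 1, by simp, ?_, ?_⟩
    · intro x y _; exact Subsingleton.elim _ _
    · intro y; exact ⟨0, Subsingleton.elim _ _⟩
    · exact Subsingleton.elim _ _
    · exact Subsingleton.elim _ _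
  · have hnt : Nontrivial (A ⧸ I) := not_subsingleton_iff_nontrivial.mp htriv
    obtain ⟨u, hu⟩ := hlead
    set g₀ : (A ⧸ I)[X] := C (↑u⁻¹ : A ⧸ I) * g with hg₀def
    set h₀ : (A ⧸ I)[X] := C (↑u : A ⧸ I) * h with hh₀def
    have hg₀ : g₀.Monic := monic_C_mul_of_mul_leadingCoeff_eq_one (by rw [← hu]; simp)
    have hprod : g₀ * h₀ = f.map (Ideal.Quotient.mk I) := by
      rw [hgh, hg₀def, hh₀def]
      have : (C (↑u⁻¹ : A ⧸ I) * C (↑u : A ⧸ I) : (A ⧸ I)[X]) = 1 := by
        rw [← C_mul]; simp
      calc C (↑u⁻¹ : A ⧸ I) * g * (C (↑u : A ⧸ I) * h)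
          = (C (↑u⁻¹ : A ⧸ I) * C (↑u : A ⧸ I)) * (g * h) := by ring
        _ = g * h := by rw [this, one_mul]
    have hh₀ : h₀.Monic := hg₀.of_mul_monic_left (by rw [hprod]; exact hf.map _)
    have hgeq : g = C (↑u : A ⧸ I) * g₀ := by
      rw [hg₀def, ← mul_assoc, ← C_mul]; simp
    have hheq : h = C (↑u⁻¹ : A ⧸ I) * h₀ := by
      rw [hh₀def, ← mul_assoc, ← C_mul]; simp
    have hcop₀ : IsCoprime g₀ h₀ := by
      have hu1 : IsUnit (C (↑u⁻¹ : A ⧸ I)) := Polynomial.isUnit_C.mpr (u⁻¹).isUnit
      have hu2 : IsUnit (C (↑u : A ⧸ I)) := Polynomial.isUnit_C.mpr u.isUnit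
      rw [hg₀def, hh₀def]
      exact (isCoprime_mul_unit_left_left hu1 g _).mpr
        ((isCoprime_mul_unit_left_right hu2 g h).mpr hcop)
    have hn : f.natDegree = g₀.natDegree + h₀.natDegree := by
      rw [← hg₀.natDegree_mul hh₀, hprod, hf.natDegree_map]
    let p : MonicDegreeEq A f.natDegree := .mk f hf rfl
    let G : MonicDegreeEq (A ⧸ I) g₀.natDegree := .mk g₀ hg₀ rfl
    let H : MonicDegreeEq (A ⧸ I) h₀.natDegree := .mk h₀ hh₀ rfl
    let U := UniversalCoprimeFactorizationRing g₀.natDegree h₀.natDegree hn p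
    let φ : U →ₐ[A] A ⧸ I :=
      (UniversalCoprimeFactorizationRing.homEquiv (A ⧸ I) g₀.natDegree h₀.natDegree hn p).symm
        ⟨(G, H), hprod, hcop₀⟩
    have key := (UniversalCoprimeFactorizationRing.homEquiv (A ⧸ I) g₀.natDegree h₀.natDegree hn
      p).apply_symm_apply ⟨(G, H), hprod, hcop₀⟩
    have k1 : (UniversalCoprimeFactorizationRing.factor₁ g₀.natDegree h₀.natDegree hn p).1.map
        φ.toRingHom = g₀ := by
      rw [← homEquiv_fst]
      exact congrArg (fun q => q.1.1.1) key
    have k2 : (UniversalCoprimeFactorizationRing.factor₂ g₀.natDegree h₀.natDegree hn p).1.map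
        φ.toRingHom = h₀ := by
      rw [← homEquiv_snd]
      exact congrArg (fun q => q.1.2.1) key
    obtain ⟨v, hv⟩ := Ideal.Quotient.mk_surjective (u : A ⧸ I)
    obtain ⟨w, hvu, hbij, hstar⟩ := exists_away I φ v (hv ▸ u.isUnit)
    refine ⟨Localization.Away w, inferInstance, inferInstance, Algebra.Etale.comp A U _, hbij, ?_⟩
    have hcomp : (Ideal.Quotient.mk (I.map (algebraMap A (Localization.Away w)))).comp
        (algebraMap U (Localization.Away w)) =
        (Ideal.quotientMap (I.map (algebraMap A (Localization.Away w)))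
          (algebraMap A (Localization.Away w)) Ideal.le_comap_map).comp φ.toRingHom :=
      RingHom.ext hstar
    have hmkv : Ideal.Quotient.mk (I.map (algebraMap A (Localization.Away w)))
        (algebraMap A (Localization.Away w) v) =
        Ideal.quotientMap (I.map (algebraMap A (Localization.Away w)))
          (algebraMap A (Localization.Away w)) Ideal.le_comap_map (u : A ⧸ I) := by
      rw [← hv, Ideal.quotientMap_mk]
    obtain ⟨e1, e2, e3⟩ := final_aux (U := U) (A' := Localization.Away w) (B := A ⧸ I)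
      (Q := Localization.Away w ⧸ I.map (algebraMap A (Localization.Away w)))
      (ι := algebraMap U (Localization.Away w)) (φ := φ.toRingHom)
      (q := Ideal.quotientMap (I.map (algebraMap A (Localization.Away w)))
          (algebraMap A (Localization.Away w)) Ideal.le_comap_map)
      (mk' := Ideal.Quotient.mk (I.map (algebraMap A (Localization.Away w)))) hcomp
      (UniversalCoprimeFactorizationRing.factor₁ g₀.natDegree h₀.natDegree hn p).1
      (UniversalCoprimeFactorizationRing.factor₂ g₀.natDegree h₀.natDegree hn p).1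
      g₀ h₀ k1 k2 u (algebraMap A (Localization.Away w) v) hvu hmkv
    refine ⟨C (algebraMap A (Localization.Away w) v) *
        (UniversalCoprimeFactorizationRing.factor₁ g₀.natDegree h₀.natDegree hn p).1.map
          (algebraMap U (Localization.Away w)),
      C (↑hvu.unit⁻¹ : Localization.Away w) *
        (UniversalCoprimeFactorizationRing.factor₂ g₀.natDegree h₀.natDegree hn p).1.map
          (algebraMap U (Localization.Away w)), ?_, ?_, ?_⟩
    · rw [e1, UniversalCoprimeFactorizationRing.factor₁_mul_factor₂, MonicDegreeEq.map_coe,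
        Polynomial.map_map, ← IsScalarTower.algebraMap_eq]
      rfl
    · refine e2.trans ?_
      exact congrArg _ hgeq.symm
    · refine e3.trans ?_
      exact congrArg _ hheq.symm

end Groth.Agent.S1957
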