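import Groth.Statements.S19572
import Groth.Agent.Lib.H77IsogDim
import Groth.Agent.Lib.H71HomLocus
import Groth.Agent.Lib.GrpHomFlat45

set_option autoImplicit false
universe u
open CategoryTheory CategoryTheory.Limits MonoidalCategory CartesianMonoidalCategory MonObj GrpObj AlgebraicGeometry
open AbVar

namespace Groth.Agent.S19572

/-- Let X and Y be abelian varieties over a field k (proper, geometrically integral k-group schemes) and
f : X → Y a homomorphism. If f is surjective and dim X = dim Y (Krull dimensions of the underlying
topological spaces), then f is finite and flat; together with surjectivity, f is an isogeny. -/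
theorem result (k : Type u) [Field k]
    (X Y : Over (Spec (CommRingCat.of k)))
    [GrpObj X] [IsProper X.hom] [GeometricallyIntegral X.hom]
    [GrpObj Y] [IsProper Y.hom] [GeometricallyIntegral Y.hom]
    (f : X ⟶ Y) [IsMonHom f] [Surjective f.left]
    (hdim : topologicalKrullDim X.left = topologicalKrullDim Y.left) :
    IsFinite f.left ∧ Flat f.left := by
  have hXint : IsIntegral X.left := GeometricallyIntegral.isIntegral_of_subsingleton X.hom
  have hYint : IsIntegral Y.left := GeometricallyIntegral.isIntegral_of_subsingleton Y.hom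
  have hflat : Flat f.left := Groth.Agent.Lib.GrpHomFlat45.flat_of_surjective_of_isReduced f
  refine ⟨?_, hflat⟩
  letI : X.left.Over (Spec (CommRingCat.of k)) := ⟨X.hom⟩
  letI : Y.left.Over (Spec (CommRingCat.of k)) := ⟨Y.hom⟩
  have hlX : LocallyOfFiniteType (X.left ↘ (Spec (CommRingCat.of k))) :=
    inferInstanceAs (LocallyOfFiniteType X.hom)
  have hlY : LocallyOfFiniteType (Y.left ↘ (Spec (CommRingCat.of k))) :=
    inferInstanceAs (LocallyOfFiniteType Y.hom)
  have hg : f.left ≫ (Y.left ↘ (Spec (CommRingCat.of k))) = X.left ↘ (Spec (CommRingCat.of k)) :=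
    Over.w f
  have hlft : LocallyOfFiniteType f.left :=
    Groth.Agent.Lib.H30FlatDim.lft_of_over k X.left Y.left f.left hg
  -- the generic point goes to the generic point
  have hgen : f.left (genericPoint X.left) = genericPoint Y.left := by
    have h1 : IsGenericPoint (f.left (genericPoint X.left)) (closure (f.left '' ⊤)) :=
      (genericPoint_spec X.left).image f.left.continuous
    have h2 : closure (f.left '' ⊤) = ⊤ := by
      rw [Set.top_eq_univ, Set.image_univ, (inferInstance : Surjective f.left).surj.range_eq,
        closure_univ]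
      rfl
    rw [h2] at h1
    exact ((genericPoint_spec Y.left).eq h1).symm
  have hqf : f.left.QuasiFiniteAt (genericPoint X.left) :=
    Groth.Agent.Lib.H77IsogDim.quasiFiniteAt_genericPoint_of_dominant k X.left Y.left f.left hg
      hgen hdim
  -- homogeneity
  have hloc := (Groth.Agent.Lib.H71HomLocus.lqf_locus (Spec (CommRingCat.of k)) X Y f).2
  have hξ : genericPoint X.left ∈ {x : X.left | ∃ W : X.left.Opens, x ∈ W ∧
      LocallyQuasiFinite (W.ι ≫ f.left)} :=
    ⟨f.left.quasiFiniteLocus, hqf, inferInstance⟩
  have hall : ∀ x : X.left, f.left.QuasiFiniteAt x := by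
    intro x
    have hx : x ∈ {x : X.left | ∃ W : X.left.Opens, x ∈ W ∧
        LocallyQuasiFinite (W.ι ≫ f.left)} := by
      rw [hloc] at hξ ⊢
      rw [Set.mem_preimage] at hξ ⊢
      rwa [Subsingleton.elim (X.hom.base x) (X.hom.base (genericPoint X.left))]
    obtain ⟨W, hxW, hW⟩ := hx
    have h1 : (W.ι ≫ f.left).QuasiFiniteAt ⟨x, hxW⟩ := (W.ι ≫ f.left).quasiFiniteAt _
    rw [Scheme.Hom.quasiFiniteAt_comp_iff_of_isOpenImmersion] at h1
    exact h1
  have hlqf : LocallyQuasiFinite f.left := by
    rw [← Scheme.Hom.quasiFiniteLocus_eq_top_iff]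
    ext x
    exact ⟨fun _ => trivial, fun _ => hall x⟩
  have hprop : IsProper f.left := by
    have : IsProper (f.left ≫ Y.hom) := by rw [Over.w f]; infer_instance
    exact IsProper.of_comp f.left Y.hom
  exact IsFinite.of_isProper_of_locallyQuasiFinite _

end Groth.Agent.S19572
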