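import Groth.Statements.S19573
import Mathlib
-- import your own Groth.Agent.* helpers here

set_option autoImplicit false
universe u
open LocInt

namespace Groth.Agent.S19573

/-- the coordinates kill the top exterior power of the cokernel -/
theorem coord_smul_wedge {R : Type u} [CommRing R] (n : ℕ) (a : Fin n → R) (i : Fin n)
    (σ : Fin n → Fin n) :
    a i • exteriorPower.ιMulti R n (fun k => (Submodule.mkQ (Submodule.span R {a}))
      (Pi.single (σ k) (1 : R))) = 0 := by
  classical
  set mk := Submodule.mkQ (Submodule.span R {a}) with hmk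
  set eb : Fin n → (Fin n → R) ⧸ Submodule.span R {a} := fun l => mk (Pi.single l (1 : R)) with heb
  set v : Fin n → (Fin n → R) ⧸ Submodule.span R {a} := fun k => eb (σ k) with hv
  by_cases hinj : Function.Injective σ
  · have hsurj : Function.Surjective σ := Finite.injective_iff_surjective.mp hinj
    obtain ⟨k, hk⟩ := hsurj i
    have hsum : ∑ l, a l • eb l = 0 := by
      have : ∑ l, a l • eb l = mk a := by
        simp only [heb, ← map_smul, ← map_sum]
        congr 1
        ext j
        simp [Finset.sum_apply, Pi.single_apply]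
      rw [this, hmk, Submodule.mkQ_apply, Submodule.Quotient.mk_eq_zero]
      exact Submodule.mem_span_singleton_self a
    have h0 : exteriorPower.ιMulti R n (Function.update v k (∑ l, a l • eb l)) = 0 := by
      rw [hsum]; exact AlternatingMap.map_update_zero _ _ _
    rw [AlternatingMap.map_update_sum] at h0
    rw [Finset.sum_eq_single i] at h0
    · rw [AlternatingMap.map_update_smul] at h0
      have : Function.update v k (eb i) = v := by
        rw [← hk]; exact Function.update_eq_self k v
      rwa [this] at h0
    · intro l _ hl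
      rw [AlternatingMap.map_update_smul]
      obtain ⟨k', hk'⟩ := hsurj l
      have hkk' : k ≠ k' := by
        rintro rfl; exact hl (hk'.symm.trans hk)
      have : exteriorPower.ιMulti R n (Function.update v k (eb l)) = 0 := by
        apply AlternatingMap.map_eq_zero_of_eq _ _ _ hkk'
        rw [Function.update_self, Function.update_of_ne (Ne.symm hkk'), hv]
        simp only [hk']
      rw [this, smul_zero]
    · intro h; exact absurd (Finset.mem_univ i) h
  · rw [Function.Injective] at hinj
    push Not at hinj
    obtain ⟨k, k', hσ, hkk'⟩ := hinj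
    have : exteriorPower.ιMulti R n v = 0 := by
      apply AlternatingMap.map_eq_zero_of_eq _ _ _ hkk'
      simp only [hv, hσ]
    show a i • exteriorPower.ιMulti R n v = 0
    rw [this, smul_zero]

theorem span_basis_quot {R : Type u} [CommRing R] (n : ℕ) (a : Fin n → R) :
    Submodule.span R (Set.range fun l : Fin n => (Submodule.mkQ (Submodule.span R {a}))
      (Pi.single l (1 : R))) = ⊤ := by
  classical
  rw [eq_top_iff]
  rintro x -
  obtain ⟨y, rfl⟩ := Submodule.mkQ_surjective _ x
  have : y = ∑ l, y l • (Pi.single l (1 : R) : Fin n → R) := by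
    ext j
    simp [Finset.sum_apply, Pi.single_apply]
  rw [this, map_sum]
  apply Submodule.sum_mem
  intro l _
  rw [map_smul]
  exact Submodule.smul_mem _ _ (Submodule.subset_span ⟨l, rfl⟩)

theorem coord_mem_annihilator {R : Type u} [CommRing R] (n : ℕ) (a : Fin n → R) (i : Fin n) :
    a i ∈ (⋀[R]^n ((Fin n → R) ⧸ Submodule.span R {a})).annihilator := by
  rw [Submodule.mem_annihilator]
  intro x hx
  have htop := exteriorPower.ιMulti_span_of_span R n _ (span_basis_quot n a)
  have hx' : (⟨x, hx⟩ : ⋀[R]^n ((Fin n → R) ⧸ Submodule.span R {a})) ∈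
      (⊤ : Submodule R (⋀[R]^n ((Fin n → R) ⧸ Submodule.span R {a}))) := Submodule.mem_top
  rw [← htop] at hx'
  have key0 : ∀ z : ⋀[R]^n ((Fin n → R) ⧸ Submodule.span R {a}),
      z ∈ Submodule.span R (exteriorPower.ιMulti R n '' {v | Set.range v ⊆
        Set.range fun l : Fin n => (Submodule.mkQ (Submodule.span R {a})) (Pi.single l (1 : R))}) →
      a i • z = 0 := by
    intro z hz
    induction hz using Submodule.span_induction with
    | mem y hy =>
      obtain ⟨v, hv, rfl⟩ := hy
      have hv' : ∀ k, ∃ l, (Submodule.mkQ (Submodule.span R {a})) (Pi.single l (1 : R)) = v k :=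
        fun k => hv ⟨k, rfl⟩
      choose σ hσ using hv'
      have : v = fun k => (Submodule.mkQ (Submodule.span R {a})) (Pi.single (σ k) (1 : R)) := by
        ext k; rw [hσ]
      rw [this]
      exact coord_smul_wedge n a i σ
    | zero => rw [smul_zero]
    | add y z _ _ hy hz => rw [smul_add, hy, hz, add_zero]
    | smul r y _ hy => rw [smul_comm, hy, smul_zero]
  have key := key0 _ hx'
  have := congrArg Subtype.val key
  simpa using this

theorem annihilator_le {R : Type u} [CommRing R] (n : ℕ) (a : Fin n → R) :
    (⋀[R]^n ((Fin n → R) ⧸ Submodule.span R {a})).annihilator ≤ Ideal.span (Set.range a) := by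
  classical
  intro r hr
  set I := Ideal.span (Set.range a) with hI
  -- the reduction map to (R/I)^n
  set π₀ : (Fin n → R) →ₗ[R] (Fin n → R ⧸ I) :=
    LinearMap.pi fun l => (Submodule.mkQ I) ∘ₗ LinearMap.proj l with hπ₀
  have hker : Submodule.span R {a} ≤ LinearMap.ker π₀ := by
    rw [Submodule.span_le, Set.singleton_subset_iff, SetLike.mem_coe, LinearMap.mem_ker]
    ext l
    simp only [hπ₀, LinearMap.pi_apply, LinearMap.comp_apply, LinearMap.proj_apply, Pi.zero_apply,
      Submodule.mkQ_apply]
    rw [Submodule.Quotient.mk_eq_zero]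
    exact Ideal.subset_span ⟨l, rfl⟩
  set π : ((Fin n → R) ⧸ Submodule.span R {a}) →ₗ[R] (Fin n → R ⧸ I) :=
    Submodule.liftQ _ π₀ hker with hπ
  set D₀ : (Fin n → R ⧸ I) [⋀^Fin n]→ₗ[R] (R ⧸ I) :=
    { ((Matrix.detRowAlternating : (Fin n → R ⧸ I) [⋀^Fin n]→ₗ[R ⧸ I] (R ⧸ I)).toMultilinearMap.restrictScalars R) with
      map_eq_zero_of_eq' := fun v i j h hij =>
        (Matrix.detRowAlternating : (Fin n → R ⧸ I) [⋀^Fin n]→ₗ[R ⧸ I] (R ⧸ I)).map_eq_zero_of_eq v h hij }
    with hD₀
  set D : ((Fin n → R) ⧸ Submodule.span R {a}) [⋀^Fin n]→ₗ[R] (R ⧸ I) := D₀.compLinearMap π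
    with hD
  set Λ := exteriorPower.alternatingMapLinearEquiv D with hΛ
  set ω := exteriorPower.ιMulti R n (fun l : Fin n => (Submodule.mkQ (Submodule.span R {a}))
      (Pi.single l (1 : R))) with hω
  have h1 : Λ ω = 1 := by
    rw [hΛ, hω, exteriorPower.alternatingMapLinearEquiv_apply_ιMulti]
    simp only [hD, AlternatingMap.compLinearMap_apply]
    have : (fun l : Fin n => π ((Submodule.mkQ (Submodule.span R {a})) (Pi.single l (1 : R))))
        = (1 : Matrix (Fin n) (Fin n) (R ⧸ I)) := by
      ext l j
      simp only [hπ, Submodule.mkQ_apply, Submodule.liftQ_apply, hπ₀, LinearMap.pi_apply,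
        LinearMap.comp_apply, LinearMap.proj_apply, Matrix.one_apply, Pi.single_apply]
      split_ifs with h1 h2 h2
      · rfl
      · exact absurd h1.symm h2
      · exact absurd h2.symm h1
      · rfl
    show Matrix.detRowAlternating _ = 1
    rw [this]
    exact Matrix.det_one
  have h2 : r • ω = 0 := by
    apply Subtype.ext
    rw [Submodule.mem_annihilator] at hr
    exact hr ω.1 ω.2
  have h3 : r • (1 : R ⧸ I) = 0 := by
    rw [← h1, ← map_smul, h2, map_zero]
  have h4 : (Ideal.Quotient.mk I) r = 0 := by
    have : r • (1 : R ⧸ I) = (Ideal.Quotient.mk I) r := by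
      rw [Algebra.smul_def, mul_one]; rfl
    rwa [this] at h3
  exact Ideal.Quotient.eq_zero_iff_mem.mp h4

theorem partB {R : Type u} [CommRing R] (n : ℕ) (a : Fin n → R) (p : PrimeSpectrum R)
    (hp : ¬ Ideal.span (Set.range a) ≤ p.asIdeal) :
    p ∈ Module.freeLocus R ((Fin n → R) ⧸ Submodule.span R {a}) ∧
      Module.rankAtStalk ((Fin n → R) ⧸ Submodule.span R {a}) p = n - 1 := by
  classical
  have hnt : Nontrivial R := by
    by_contra h
    rw [not_nontrivial_iff_subsingleton] at h
    exact p.isPrime.ne_top (Subsingleton.elim _ _)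
  obtain ⟨i, hai⟩ : ∃ i, a i ∉ p.asIdeal := by
    by_contra hall
    push Not at hall
    apply hp
    rw [Ideal.span_le]
    rintro _ ⟨l, rfl⟩
    exact hall l
  set ψ₀ : (Fin n → R) →ₗ[R] ({l : Fin n // l ≠ i} → R) :=
    LinearMap.pi fun l => a i • LinearMap.proj l.1 - a l.1 • LinearMap.proj i with hψ₀
  have hψ₀a : ∀ (y : Fin n → R) (l : {l : Fin n // l ≠ i}), ψ₀ y l = a i * y l.1 - a l.1 * y i := by
    intro y l; simp [hψ₀]
  have hker : Submodule.span R {a} ≤ LinearMap.ker ψ₀ := by
    rw [Submodule.span_le, Set.singleton_subset_iff, SetLike.mem_coe, LinearMap.mem_ker]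
    funext l
    rw [hψ₀a, Pi.zero_apply]
    ring
  set ψ : ((Fin n → R) ⧸ Submodule.span R {a}) →ₗ[R] ({l : Fin n // l ≠ i} → R) :=
    Submodule.liftQ _ ψ₀ hker with hψ
  set ext₀ : ({l : Fin n // l ≠ i} → R) →ₗ[R] (Fin n → R) :=
    LinearMap.pi fun l => if h : l ≠ i then LinearMap.proj ⟨l, h⟩ else 0 with hext₀
  have hext₀a : ∀ (z : {l : Fin n // l ≠ i} → R) (l : Fin n),
      ext₀ z l = if h : l ≠ i then z ⟨l, h⟩ else 0 := by
    intro z l
    simp only [hext₀, LinearMap.pi_apply]
    split_ifs <;> simp
  set χ : ({l : Fin n // l ≠ i} → R) →ₗ[R] ((Fin n → R) ⧸ Submodule.span R {a}) :=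
    (Submodule.mkQ _) ∘ₗ ext₀ with hχ
  have h1 : ψ ∘ₗ χ = a i • LinearMap.id := by
    apply LinearMap.ext
    intro z
    funext l
    rw [LinearMap.comp_apply, hχ, LinearMap.comp_apply, Submodule.mkQ_apply, hψ,
      Submodule.liftQ_apply, hψ₀a, hext₀a, hext₀a, dif_pos l.2, dif_neg (by simp)]
    simp
  have h2 : χ ∘ₗ ψ = a i • LinearMap.id := by
    apply LinearMap.ext
    intro x
    obtain ⟨y, rfl⟩ := Submodule.mkQ_surjective _ x
    rw [LinearMap.comp_apply, Submodule.mkQ_apply, hψ, Submodule.liftQ_apply, hχ,
      LinearMap.comp_apply, Submodule.mkQ_apply, LinearMap.smul_apply, LinearMap.id_apply,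
      ← Submodule.Quotient.mk_smul, Submodule.Quotient.eq]
    have : ext₀ (ψ₀ y) - a i • y = (-(y i)) • a := by
      funext l
      rw [Pi.sub_apply, Pi.smul_apply, Pi.smul_apply, hext₀a]
      by_cases hl : l = i
      · subst hl; rw [dif_neg (by simp)]; simp only [smul_eq_mul]; ring
      · rw [dif_pos hl, hψ₀a]; simp only [smul_eq_mul]; ring
    rw [this]
    exact Submodule.smul_mem _ _ (Submodule.mem_span_singleton_self a)
  -- localize
  set S := p.asIdeal.primeCompl with hS
  set fM := LocalizedModule.mkLinearMap S ((Fin n → R) ⧸ Submodule.span R {a}) with hfM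
  set fN := LocalizedModule.mkLinearMap S ({l : Fin n // l ≠ i} → R) with hfN
  set Ψ := IsLocalizedModule.map S fM fN ψ with hΨ
  set X := IsLocalizedModule.map S fN fM χ with hX
  have hΨX : Ψ ∘ₗ X = a i • LinearMap.id := by
    rw [hΨ, hX, ← IsLocalizedModule.map_comp', h1, map_smul, IsLocalizedModule.map_id]
  have hXΨ : X ∘ₗ Ψ = a i • LinearMap.id := by
    rw [hΨ, hX, ← IsLocalizedModule.map_comp', h2, map_smul, IsLocalizedModule.map_id]
  have huM : Function.Bijective
      (fun x : LocalizedModule S ((Fin n → R) ⧸ Submodule.span R {a}) => a i • x) := by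
    have := IsLocalizedModule.map_units fM (⟨a i, hai⟩ : S)
    exact (Module.End.isUnit_iff _).mp this
  have huN : Function.Bijective (fun x : LocalizedModule S ({l : Fin n // l ≠ i} → R) => a i • x) := by
    have := IsLocalizedModule.map_units fN (⟨a i, hai⟩ : S)
    exact (Module.End.isUnit_iff _).mp this
  have hbij : Function.Bijective Ψ := by
    constructor
    · intro x y hxy
      have := congrArg X hxy
      have e1 : X (Ψ x) = a i • x := by
        have := LinearMap.congr_fun hXΨ x; simpa using this
      have e2 : X (Ψ y) = a i • y := by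
        have := LinearMap.congr_fun hXΨ y; simpa using this
      rw [e1, e2] at this
      exact huM.1 this
    · intro y
      obtain ⟨y', hy'⟩ := huN.2 y
      refine ⟨X y', ?_⟩
      have := LinearMap.congr_fun hΨX y'
      simp only [LinearMap.comp_apply, LinearMap.smul_apply, LinearMap.id_apply] at this
      rw [this]; exact hy'
  set eR : LocalizedModule S ((Fin n → R) ⧸ Submodule.span R {a}) ≃ₗ[R]
      LocalizedModule S ({l : Fin n // l ≠ i} → R) := LinearEquiv.ofBijective Ψ hbij with heR
  set e := eR.extendScalarsOfIsLocalization S (Localization.AtPrime p.asIdeal) with he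
  have hfreeN : Module.Free (Localization.AtPrime p.asIdeal)
      (LocalizedModule S ({l : Fin n // l ≠ i} → R)) :=
    Module.free_of_isLocalizedModule S fN
  refine ⟨?_, ?_⟩
  · rw [Module.mem_freeLocus]
    exact Module.Free.of_equiv e.symm
  · rw [Module.rankAtStalk, e.finrank_eq,
      Module.finrank_of_isLocalizedModule_of_free (Localization.AtPrime p.asIdeal) S fN,
      Module.finrank_fintype_fun_eq_card]
    rw [Fintype.card_subtype_compl, Fintype.card_fin]
    simp

/-- The first sentence of the lemma together with the description of the closed subscheme Z given in its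
proof, in the local model. Let R be a commutative ring, n ≥ 1, a ∈ R^n, and F = R^n / R·a the
cokernel of R → R^n, 1 ↦ a (the zeroth homology of the two-term complex R → R^n). Then the
annihilator ideal of the top exterior power ⋀^n F is the ideal generated by the coordinates a_1, …,
a_n of a, and at every prime p of R off the closed set V(a_1, …, a_n) the module F is free of rank n
− 1 after localization at p. (The published statement is for a complex on a scheme which is locally
quasi-isomorphic to such a two-term complex L → E with L invertible and E locally free of rank n,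
and says that H^0 restricted to the complement of the closed subscheme cut out by the annihilator of
its n-th exterior power is locally free of rank n − 1; this row is the local model.) -/
theorem result (R : Type u) [CommRing R]
    (n : ℕ) (hn : 1 ≤ n) (a : Fin n → R) :
    (⋀[R]^n ((Fin n → R) ⧸ Submodule.span R {a})).annihilator = Ideal.span (Set.range a) ∧
    ∀ p : PrimeSpectrum R, ¬ Ideal.span (Set.range a) ≤ p.asIdeal →
      p ∈ Module.freeLocus R ((Fin n → R) ⧸ Submodule.span R {a}) ∧
      Module.rankAtStalk ((Fin n → R) ⧸ Submodule.span R {a}) p = n - 1 := by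
  refine ⟨le_antisymm (annihilator_le n a) ?_, fun p hp => partB n a p hp⟩
  rw [Ideal.span_le]
  rintro _ ⟨i, rfl⟩
  exact coord_mem_annihilator n a i

end Groth.Agent.S19573
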