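import Groth.Statements.S19574
import Mathlib.RingTheory.Flat.Tensor
import Mathlib.LinearAlgebra.TensorProduct.Quotient
import Mathlib.Algebra.Homology.ShortComplex.ModuleCat

set_option autoImplicit false
universe u
open CategoryTheory MonoidalCategory
open Lie3Mod

namespace Groth.Agent.S19574

section helpers
open TensorProduct
variable {R : Type u} [CommRing R]

/-- multiplication map `I ⊗ M → M` -/
noncomputable abbrev mu (I : Ideal R) (M : Type*) [AddCommGroup M] [Module R M] : I ⊗[R] M →ₗ[R] M :=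
  TensorProduct.lift ((LinearMap.lsmul R M).comp I.subtype)

theorem mu_nat (I : Ideal R) {M N : Type*} [AddCommGroup M] [Module R M] [AddCommGroup N]
    [Module R N] (h : M →ₗ[R] N) (t : I ⊗[R] M) : h (mu I M t) = mu I N (h.lTensor I t) := by
  induction t with
  | zero => simp
  | tmul x m => simp
  | add a b ha hb => simp [ha, hb]

theorem mu_mem (I : Ideal R) {M : Type*} [AddCommGroup M] [Module R M] (t : I ⊗[R] M) :
    mu I M t ∈ I • (⊤ : Submodule R M) := by
  induction t with
  | zero => simp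
  | tmul x m => simpa using Submodule.smul_mem_smul x.2 (Submodule.mem_top)
  | add a b ha hb => rw [map_add]; exact add_mem ha hb

theorem exists_mu_eq (I : Ideal R) {M : Type*} [AddCommGroup M] [Module R M] (m : M)
    (hm : m ∈ I • (⊤ : Submodule R M)) : ∃ t : I ⊗[R] M, mu I M t = m := by
  refine Submodule.smul_induction_on hm (fun r hr n _ => ⟨(⟨r, hr⟩ : I) ⊗ₜ n, by simp⟩) ?_
  rintro x y ⟨a, rfl⟩ ⟨b, rfl⟩
  exact ⟨a + b, map_add _ _ _⟩

/-- the linear algebra core -/
theorem flat_of_exact {P₂ P₁ M : Type u} [AddCommGroup P₂] [Module R P₂] [AddCommGroup P₁]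
    [Module R P₁] [AddCommGroup M] [Module R M] [Module.Flat R P₁]
    (f : P₂ →ₗ[R] P₁) (g : P₁ →ₗ[R] M) (hfg : Function.Exact f g) (hg : Function.Surjective g)
    (H : ∀ (I : Ideal R) (y : P₂), f y ∈ I • (⊤ : Submodule R P₁) →
      ∃ y' ∈ I • (⊤ : Submodule R P₂), f y' = f y) :
    Module.Flat R M := by
  rw [Module.Flat.iff_lift_lsmul_comp_subtype_injective]
  intro I hI
  rw [injective_iff_map_eq_zero]
  intro t ht
  obtain ⟨s, rfl⟩ := LinearMap.lTensor_surjective I hg t
  have h1 : g (mu I P₁ s) = 0 := by rw [mu_nat]; exact ht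
  obtain ⟨y, hy⟩ := (hfg _).1 h1
  obtain ⟨y', hy'I, hy'⟩ := H I y (hy ▸ mu_mem I s)
  obtain ⟨u, hu⟩ := exists_mu_eq I y' hy'I
  have hinj : Function.Injective (mu I P₁) :=
    (Module.Flat.iff_lift_lsmul_comp_subtype_injective.1 inferInstance) hI
  have hs : s = f.lTensor I u := by
    apply hinj
    rw [← mu_nat, hu, hy', hy]
  rw [hs, ← LinearMap.comp_apply, ← LinearMap.lTensor_comp]
  have : g ∘ₗ f = 0 := LinearMap.ext fun x => hfg.apply_apply_eq_zero x
  rw [this, LinearMap.lTensor_zero, LinearMap.zero_apply]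


variable {R : Type u} [CommRing R]

theorem exact_of_exactAt (K : ChainComplex (ModuleCat.{u} R) ℕ) (n : ℕ) (h : K.ExactAt (n + 1)) :
    Function.Exact (K.d (n + 2) (n + 1)).hom (K.d (n + 1) n).hom := by
  rw [HomologicalComplex.exactAt_iff' K (n + 2) (n + 1) n (by simp) (by simp)] at h
  exact (ShortComplex.ShortExact.moduleCat_exact_iff_function_exact _).1 h

theorem surj_of_exactAt (K : ChainComplex (ModuleCat.{u} R) ℕ) (h : K.ExactAt 0) :
    Function.Surjective (K.d 1 0).hom := by
  rw [HomologicalComplex.exactAt_iff' K 1 0 0 (by simp) (by simp)] at h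
  have h' := (ShortComplex.ShortExact.moduleCat_exact_iff_function_exact _).1 h
  intro x
  have : (K.d 0 0).hom x = 0 := by
    rw [K.shape 0 0 (by simp)]; rfl
  exact (h' x).1 this


variable {R : Type u} [CommRing R]

theorem one_tmul_eq_zero_iff (I : Ideal R) {M : Type*} [AddCommGroup M] [Module R M] (m : M) :
    (1 : R ⧸ I) ⊗ₜ[R] m = 0 ↔ m ∈ I • (⊤ : Submodule R M) := by
  rw [← (TensorProduct.quotTensorEquivQuotSMul M I).map_eq_zero_iff,
    TensorProduct.quotTensorEquivQuotSMul_mk_one_tmul, Submodule.Quotient.mk_eq_zero]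

theorem exists_one_tmul (I : Ideal R) {M : Type*} [AddCommGroup M] [Module R M]
    (w : (R ⧸ I) ⊗[R] M) : ∃ m : M, w = (1 : R ⧸ I) ⊗ₜ[R] m := by
  obtain ⟨m, hm⟩ := Submodule.Quotient.mk_surjective _ (TensorProduct.quotTensorEquivQuotSMul M I w)
  refine ⟨m, ?_⟩
  apply (TensorProduct.quotTensorEquivQuotSMul M I).injective
  rw [TensorProduct.quotTensorEquivQuotSMul_mk_one_tmul, hm]

theorem H_of_exact (I : Ideal R) {P₃ P₂ P₁ : Type*} [AddCommGroup P₃] [Module R P₃]
    [AddCommGroup P₂] [Module R P₂] [AddCommGroup P₁] [Module R P₁]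
    (e : P₃ →ₗ[R] P₂) (f : P₂ →ₗ[R] P₁) (hef : ∀ x, f (e x) = 0)
    (hex : Function.Exact (e.lTensor (R ⧸ I)) (f.lTensor (R ⧸ I)))
    (y : P₂) (hy : f y ∈ I • (⊤ : Submodule R P₁)) :
    ∃ y' ∈ I • (⊤ : Submodule R P₂), f y' = f y := by
  have h1 : f.lTensor (R ⧸ I) ((1 : R ⧸ I) ⊗ₜ[R] y) = 0 := by
    rw [LinearMap.lTensor_tmul]; exact (one_tmul_eq_zero_iff I _).2 hy
  obtain ⟨w, hw⟩ := (hex _).1 h1
  obtain ⟨w0, rfl⟩ := exists_one_tmul I w
  rw [LinearMap.lTensor_tmul] at hw
  refine ⟨y - e w0, ?_, by rw [map_sub, hef, sub_zero]⟩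
  rw [← one_tmul_eq_zero_iff I, TensorProduct.tmul_sub, hw, sub_self]

end helpers


/-- Let R be a commutative ring and d ≥ 1. Let K be a chain complex of R-modules concentrated in degrees
0, …, d + 1, written … → 0 → P_{d+1} → P_d → … → P_1 → M with M = K_0, which is exact (so 0 →
P_{d+1} → … → P_1 → M → 0 is an exact sequence), such that P_1, …, P_d are flat R-modules and such
that for every ideal I of R the complex obtained by applying (R/I) ⊗_R − termwise is again exact.
Then M is a flat R-module. (No flatness is assumed for P_{d+1}. The published lemma adds that for R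
Noetherian it suffices to test prime ideals I; that refinement is not part of this statement.) -/
theorem result (R : Type u) [CommRing R]
    (d : ℕ) (hd : 1 ≤ d) (K : ChainComplex (ModuleCat.{u} R) ℕ)
    (hzero : ∀ i : ℕ, d + 1 < i → Limits.IsZero (K.X i))
    (hflat : ∀ i : ℕ, 1 ≤ i → i ≤ d → Module.Flat R (K.X i))
    (hK : K.Acyclic)
    (hbc : ∀ I : Ideal R,
      (((tensorLeft (ModuleCat.of R (R ⧸ I))).mapHomologicalComplex (ComplexShape.down ℕ)).obj K).Acyclic) :
    Module.Flat R (K.X 0) := by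
  have hfl : Module.Flat R (K.X 1) := hflat 1 le_rfl hd
  refine flat_of_exact (K.d 2 1).hom (K.d 1 0).hom (exact_of_exactAt K 0 (hK 1))
    (surj_of_exactAt K (hK 0)) ?_
  intro I y hy
  have hex := exact_of_exactAt _ 1 (hbc I 2)
  refine H_of_exact I (K.d 3 2).hom (K.d 2 1).hom (fun x => ?_) hex y hy
  have := K.d_comp_d 3 2 1
  exact congrArg (fun φ => φ.hom x) this

end Groth.Agent.S19574
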