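import Groth.Statements.S19575
-- import your own Groth.Agent.* helpers here
import Groth.Agent.Lib.EtaPtLoc
import Groth.Agent.S13829

set_option autoImplicit false
universe u
open EtaPt

namespace Groth.Agent.S19575

/-- Let η be the field-endofunctor datum of the pointwise construction, A a commutative ring with
finitely many minimal prime ideals and φ : A → B a ring map inducing a surjection on prime spectra.
If the canonical map A → (B/A)_η (the corestriction of φ onto the subring of B of elements whose
image in ∏_q F(k(q)) comes from M_η(A)) is bijective, then for every f ∈ A the canonical map A_f →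
(B_f/A_f)_η attached to the localized map A_f → B_{φ(f)} is bijective as well. -/
theorem result (η : EtaPt.FieldEndo.{u}) {A B : Type u} [CommRing A] [CommRing B]
    (hA : (minimalPrimes A).Finite) (φ : A →+* B) (hs : Function.Surjective (PrimeSpectrum.comap φ))
    (h : Function.Bijective (η.qRel φ)) (f : A) :
    Function.Bijective (η.qRel (Localization.awayMap φ f)) := by
  have hcomp : (Localization.awayMap φ f).comp (algebraMap A (Localization.Away f)) =
      (algebraMap B (Localization.Away (φ f))).comp φ := IsLocalization.map_comp _
  have hcomp' : ∀ a, Localization.awayMap φ f (algebraMap A (Localization.Away f) a) =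
      algebraMap B (Localization.Away (φ f)) (φ a) :=
    fun a => congrArg (fun ψ : A →+* Localization.Away (φ f) => ψ a) hcomp
  have hφinj : Function.Injective φ := by
    intro a b hab
    exact h.1 (Subtype.ext hab : η.qRel φ a = η.qRel φ b)
  have hunitB : IsUnit (algebraMap B (Localization.Away (φ f)) (φ f)) :=
    IsLocalization.Away.algebraMap_isUnit (φ f)
  have hunitA : IsUnit (algebraMap A (Localization.Away f) f) :=
    IsLocalization.Away.algebraMap_isUnit f
  constructor
  · rw [injective_iff_map_eq_zero]
    intro z hz
    have hz' : Localization.awayMap φ f z = 0 := congrArg Subtype.val hz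
    obtain ⟨⟨a, ⟨s, n, hn⟩⟩, has⟩ := IsLocalization.surj (Submonoid.powers f) z
    simp only at has
    have h1 : algebraMap B (Localization.Away (φ f)) (φ a) = 0 := by
      rw [← hcomp', ← has, map_mul, hz', zero_mul]
    obtain ⟨⟨c, k, hk⟩, hc⟩ := (IsLocalization.map_eq_zero_iff (Submonoid.powers (φ f))
      (Localization.Away (φ f)) (φ a)).mp h1
    simp only at hc
    have h2 : f ^ k * a = 0 := by
      apply hφinj
      rw [map_mul, map_pow, map_zero]
      have hk' : φ f ^ k = c := hk
      rw [hk']
      exact hc
    have h3 : algebraMap A (Localization.Away f) a = 0 := by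
      have : algebraMap A (Localization.Away f) (f ^ k * a) = 0 := by rw [h2, map_zero]
      rw [map_mul, map_pow] at this
      exact (hunitA.pow k).mul_right_eq_zero.mp this
    have hs : IsUnit (algebraMap A (Localization.Away f) s) := by
      rw [← hn, map_pow]
      exact hunitA.pow n
    rw [h3] at has
    exact hs.mul_left_eq_zero.mp has
  · rintro ⟨y, hy⟩
    obtain ⟨x, hx, n, hn⟩ := (Groth.Agent.S13829.result η hA φ hs f).2 y hy
    obtain ⟨a, ha⟩ := h.2 ⟨x, hx⟩
    have ha' : φ a = x := congrArg Subtype.val ha
    refine ⟨IsLocalization.mk' (Localization.Away f) a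
      (⟨f ^ n, n, rfl⟩ : Submonoid.powers f), Subtype.ext ?_⟩
    change Localization.awayMap φ f _ = y
    apply (hunitB.pow n).mul_left_injective
    simp only
    rw [hn, ← ha', ← hcomp', ← map_pow, ← hcomp', ← map_mul, ← map_pow]
    congr 1
    exact IsLocalization.mk'_spec (Localization.Away f) a (⟨f ^ n, n, rfl⟩ : Submonoid.powers f)

end Groth.Agent.S19575
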