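import Groth.Statements.S19576
-- import your own Groth.Agent.* helpers here
import Groth.Agent.Lib.EtaPtLoc
import Groth.Agent.S13829
import Mathlib.RingTheory.LocalProperties.Exactness

set_option autoImplicit false
universe u
open EtaPt

namespace Groth.Agent.S19576

/-- Let η be the field-endofunctor datum of the pointwise construction, A a commutative ring with
finitely many minimal prime ideals and φ : A → B a ring map inducing a surjection on prime spectra.
If finitely many elements f_1, …, f_n of A generate the unit ideal and, for each i, the canonical
map A_{f_i} → (B_{f_i}/A_{f_i})_η attached to the localized map A_{f_i} → B_{φ(f_i)} is bijective,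
then the canonical map A → (B/A)_η is bijective. -/
theorem result (η : EtaPt.FieldEndo.{u}) {A B : Type u} [CommRing A] [CommRing B]
    (hA : (minimalPrimes A).Finite) (φ : A →+* B) (hs : Function.Surjective (PrimeSpectrum.comap φ))
    (s : Finset A) (hspan : Ideal.span (s : Set A) = ⊤)
    (h : ∀ f ∈ s, Function.Bijective (η.qRel (Localization.awayMap φ f))) :
    Function.Bijective (η.qRel φ) := by
  have hφf_inj : ∀ f ∈ s, Function.Injective (Localization.awayMap φ f) := by
    intro f hf a b hab
    exact (h f hf).1 (Subtype.ext hab :
      η.qRel (Localization.awayMap φ f) a = η.qRel (Localization.awayMap φ f) b)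
  have hφinj : Function.Injective φ := by
    apply injective_of_isLocalization_of_span_eq_top (s := (s : Set A)) hspan
      (fun r => Localization.Away r.val) (fun r => Localization.Away (φ r.val)) φ
    intro r
    exact hφf_inj r.1 r.2
  constructor
  · intro a b hab
    exact hφinj (congrArg Subtype.val hab)
  · rintro ⟨b, hb⟩
    -- the ideal of multipliers
    let I : Ideal A :=
      { carrier := {a | φ a * b ∈ φ.range}
        add_mem' := by
          intro a₁ a₂ h₁ h₂
          change φ (a₁ + a₂) * b ∈ φ.range
          rw [map_add, add_mul]
          exact Subring.add_mem _ h₁ h₂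
        zero_mem' := by
          change φ 0 * b ∈ φ.range
          rw [map_zero, zero_mul]
          exact Subring.zero_mem _
        smul_mem' := by
          intro c a ha
          change φ (c • a) * b ∈ φ.range
          rw [smul_eq_mul, map_mul, mul_assoc]
          exact Subring.mul_mem _ ⟨c, rfl⟩ ha }
    have hrad : ∀ f ∈ s, f ∈ I.radical := by
      intro f hf
      have hcomp : (Localization.awayMap φ f).comp (algebraMap A (Localization.Away f)) =
          (algebraMap B (Localization.Away (φ f))).comp φ := IsLocalization.map_comp _
      have hcomp' : ∀ a, Localization.awayMap φ f (algebraMap A (Localization.Away f) a) =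
          algebraMap B (Localization.Away (φ f)) (φ a) :=
        fun a => congrArg (fun ψ : A →+* Localization.Away (φ f) => ψ a) hcomp
      have hmem : algebraMap B (Localization.Away (φ f)) b ∈
          η.rel (Localization.awayMap φ f) :=
        (Groth.Agent.S13829.result η hA φ hs f).1 ⟨b, hb, rfl⟩
      obtain ⟨z, hz⟩ := (h f hf).2 ⟨_, hmem⟩
      have hz' : Localization.awayMap φ f z = algebraMap B (Localization.Away (φ f)) b :=
        congrArg Subtype.val hz
      obtain ⟨⟨a, ⟨t, n, hn⟩⟩, hat⟩ := IsLocalization.surj (Submonoid.powers f) z
      simp only at hat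
      have hn' : f ^ n = t := hn
      have h1 : algebraMap B (Localization.Away (φ f)) (b * φ f ^ n) =
          algebraMap B (Localization.Away (φ f)) (φ a) := by
        rw [← hcomp', ← hat, map_mul (Localization.awayMap φ f), hz', hcomp', ← hn', map_pow,
          map_mul]
      obtain ⟨⟨c, k, hk⟩, hc⟩ := (IsLocalization.eq_iff_exists (Submonoid.powers (φ f))
        (Localization.Away (φ f))).mp h1
      simp only at hc
      have hk' : φ f ^ k = c := hk
      refine ⟨k + n, ?_⟩
      change φ (f ^ (k + n)) * b ∈ φ.range
      refine ⟨f ^ k * a, ?_⟩
      rw [map_mul, map_pow, map_pow, hk', ← hc, ← hk']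
      ring
    have hI : I = ⊤ := by
      rw [← Ideal.radical_eq_top, eq_top_iff, ← hspan, Ideal.span_le]
      intro f hf
      exact hrad f hf
    have h1 : (1 : A) ∈ I := by
      rw [hI]
      exact Submodule.mem_top
    obtain ⟨a, ha⟩ := h1
    refine ⟨a, Subtype.ext ?_⟩
    change φ a = b
    rw [ha, map_one, one_mul]

end Groth.Agent.S19576
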