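import Groth.Statements.S19577
-- import your own Groth.Agent.* helpers here
import Groth.Agent.Lib.EtaPtDescent
import Groth.Agent.S13802

set_option autoImplicit false
universe u
open EtaPt

namespace Groth.Agent.S19577

/-- Let f : A → B be a homomorphism of commutative rings, each with only finitely many minimal primes.
Then M_η(f) : M_η(A) → M_η(B) is integral exactly when f is integral, and Spec M_η(f) is surjective
exactly when Spec f is. Here η is the field-endofunctor datum of the pointwise construction, M_η(A)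
⊆ ∏_p F(k(p)) the subring attached to A with q_A : A → M_η(A), and M_η(f) : M_η(A) → M_η(B) the ring
map induced by N_η(f), pinned here as the ring map g compatible with N_η(f) under the two subring
inclusions. -/
theorem result (η : EtaPt.FieldEndo.{u}) {A B : Type u} [CommRing A] [CommRing B]
    (hA : (minimalPrimes A).Finite) (hB : (minimalPrimes B).Finite) (f : A →+* B)
    (g : η.M A →+* η.M B) (hg : ∀ x : η.M A, ((g x : η.M B) : η.N B) = η.Nmap f (x : η.N A)) :
    (f.IsIntegral ↔ g.IsIntegral) ∧
      (Function.Surjective (PrimeSpectrum.comap f) ↔ Function.Surjective (PrimeSpectrum.comap g)) := by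
  have hsq : g.comp (η.q A) = (η.q B).comp f := by
    ext a : 1
    apply Subtype.ext
    rw [RingHom.comp_apply, hg]
    exact η.Nmap_t_apply f a
  have hcomap : ∀ Q' : PrimeSpectrum (η.M B),
      PrimeSpectrum.comap f (PrimeSpectrum.comap (η.q B) Q') =
        PrimeSpectrum.comap (η.q A) (PrimeSpectrum.comap g Q') := by
    intro Q'
    apply PrimeSpectrum.ext
    change (Q'.asIdeal.comap (η.q B)).comap f = (Q'.asIdeal.comap g).comap (η.q A)
    rw [Ideal.comap_comap, Ideal.comap_comap, hsq]
  have hqA := Groth.Agent.Lib.EtaPtSpec.comap_q_bijective η hA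
  have hqB := Groth.Agent.Lib.EtaPtSpec.comap_q_bijective η hB
  have hintA := Groth.Agent.S13802.result η A hA
  have hintB := Groth.Agent.S13802.result η B hB
  refine ⟨⟨fun hf => ?_, fun hgi => ?_⟩, ⟨fun hf => ?_, fun hgs => ?_⟩⟩
  · apply RingHom.IsIntegral.tower_top (f := η.q A)
    rw [hsq]
    exact RingHom.IsIntegral.trans _ _ hf hintB
  · have h1 : ((η.q B).comp f).IsIntegral := by
      rw [← hsq]
      exact RingHom.IsIntegral.trans _ _ hintA hgi
    intro b
    obtain ⟨P, hPm, hP⟩ := h1 (η.q B b)
    rw [← Polynomial.hom_eval₂] at hP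
    have h2 : η.t B (Polynomial.eval₂ f b P) = 0 := congrArg Subtype.val hP
    rw [Groth.Agent.Lib.EtaPtDescent.t_eq_zero_iff, mem_nilradical] at h2
    obtain ⟨n, hn⟩ := h2
    refine ⟨P ^ n, hPm.pow n, ?_⟩
    rw [Polynomial.eval₂_pow, hn]
  · intro P'
    obtain ⟨Q, hQ⟩ := hf (PrimeSpectrum.comap (η.q A) P')
    obtain ⟨Q', rfl⟩ := hqB.2 Q
    refine ⟨Q', ?_⟩
    apply hqA.1
    rw [← hcomap, hQ]
  · intro P
    obtain ⟨P', rfl⟩ := hqA.2 P
    obtain ⟨Q', rfl⟩ := hgs P'
    exact ⟨PrimeSpectrum.comap (η.q B) Q', hcomap Q'⟩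

end Groth.Agent.S19577
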