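import Groth.Statements.S19578
-- import your own Groth.Agent.* helpers here
import Groth.Agent.Lib.EtaPtSpec

set_option autoImplicit false
universe u
open EtaPt

namespace Groth.Agent.S19578

/-- Let f : A → B be a homomorphism of commutative rings, each with only finitely many minimal primes,
and suppose the induced map M_η(f) : M_η(A) → M_η(B) is an isomorphism. Then Spec f is a bijection
between the prime ideals of B and of A, and for every prime q of B, with p = f⁻¹(q), there is a ring
map φ : k(q) → F(k(p)) whose composite with the residue field map k(p) → k(q) equals η_{k(p)}. Here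
η is the field-endofunctor datum of the pointwise construction, M_η(A) ⊆ ∏_p F(k(p)) the subring
attached to A with q_A : A → M_η(A), and M_η(f) : M_η(A) → M_η(B) the ring map induced by N_η(f),
pinned here as the ring map g compatible with N_η(f) under the two subring inclusions. -/
theorem result (η : EtaPt.FieldEndo.{u}) {A B : Type u} [CommRing A] [CommRing B]
    (hA : (minimalPrimes A).Finite) (hB : (minimalPrimes B).Finite) (f : A →+* B)
    (g : η.M A →+* η.M B) (hg : ∀ x : η.M A, ((g x : η.M B) : η.N B) = η.Nmap f (x : η.N A))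
    (hbij : Function.Bijective g) :
    Function.Bijective (PrimeSpectrum.comap f) ∧
      ∀ Q : PrimeSpectrum B,
        ∃ φ : Q.asIdeal.ResidueField →+* η.obj (PrimeSpectrum.comap f Q).asIdeal.ResidueField,
          φ.comp (Ideal.ResidueField.map (PrimeSpectrum.comap f Q).asIdeal Q.asIdeal f rfl) =
            η.eta (PrimeSpectrum.comap f Q).asIdeal.ResidueField := by
  have hsq : g.comp (η.q A) = (η.q B).comp f := by
    ext a : 1
    apply Subtype.ext
    rw [RingHom.comp_apply, hg]
    exact η.Nmap_t_apply f a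
  let e : η.M A ≃+* η.M B := RingEquiv.ofBijective g hbij
  have hesymm : ∀ x, e.symm (g x) = x := fun x => e.symm_apply_apply x
  have hcomap : ∀ Q' : PrimeSpectrum (η.M B),
      PrimeSpectrum.comap f (PrimeSpectrum.comap (η.q B) Q') =
        PrimeSpectrum.comap (η.q A) (PrimeSpectrum.comap g Q') := by
    intro Q'
    apply PrimeSpectrum.ext
    change (Q'.asIdeal.comap (η.q B)).comap f = (Q'.asIdeal.comap g).comap (η.q A)
    rw [Ideal.comap_comap, Ideal.comap_comap, hsq]
  have hqA := Groth.Agent.Lib.EtaPtSpec.comap_q_bijective η hA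
  have hqB := Groth.Agent.Lib.EtaPtSpec.comap_q_bijective η hB
  have hginj : Function.Injective (PrimeSpectrum.comap g) :=
    PrimeSpectrum.comap_injective_of_surjective g hbij.2
  have hinj : Function.Injective (PrimeSpectrum.comap f) := by
    intro Q₁ Q₂ h
    obtain ⟨Q₁', rfl⟩ := hqB.2 Q₁
    obtain ⟨Q₂', rfl⟩ := hqB.2 Q₂
    rw [hcomap, hcomap] at h
    rw [hginj (hqA.1 h)]
  refine ⟨⟨hinj, fun P => ?_⟩, fun Q => ?_⟩
  · obtain ⟨P', rfl⟩ := hqA.2 P
    refine ⟨PrimeSpectrum.comap (η.q B) (PrimeSpectrum.comap (e.symm : η.M B →+* η.M A) P'), ?_⟩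
    rw [hcomap]
    congr 1
    apply PrimeSpectrum.ext
    ext x
    change e.symm (g x) ∈ P'.asIdeal ↔ x ∈ P'.asIdeal
    rw [hesymm]
  · let ψ : B →+* η.obj (PrimeSpectrum.comap f Q).asIdeal.ResidueField :=
      (Groth.Agent.Lib.EtaPtSpec.proj η (PrimeSpectrum.comap f Q)).comp
        ((e.symm : η.M B →+* η.M A).comp (η.q B))
    have hψf : ∀ a : A, ψ (f a) =
        η.eta _ (algebraMap A (PrimeSpectrum.comap f Q).asIdeal.ResidueField a) := by
      intro a
      have h1 : η.q B (f a) = g (η.q A a) :=
        (congrArg (fun φ : A →+* η.M B => φ a) hsq).symm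
      change Groth.Agent.Lib.EtaPtSpec.proj η _ (e.symm (η.q B (f a))) = _
      rw [h1, hesymm]
      rfl
    have hQ' : Groth.Agent.Lib.EtaPtStruct.kerPt ψ = Q := by
      apply hinj
      apply PrimeSpectrum.ext
      ext a
      change ψ (f a) = 0 ↔ f a ∈ Q.asIdeal
      rw [hψf, map_eq_zero, Ideal.algebraMap_residueField_eq_zero]
      rfl
    have hQ : ∀ b : B, b ∈ Q.asIdeal ↔ ψ b = 0 := by
      intro b
      have h1 : b ∈ (Groth.Agent.Lib.EtaPtStruct.kerPt ψ).asIdeal ↔ ψ b = 0 := Iff.rfl
      rw [← h1]
      exact (congrArg (fun P : PrimeSpectrum B => b ∈ P.asIdeal) hQ').to_iff.symm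
    refine ⟨Ideal.ResidueField.lift Q.asIdeal ψ (fun b hb => (hQ b).mp hb)
      (fun b hb => by
        change IsUnit (ψ b)
        exact IsUnit.mk0 _ (fun h => hb ((hQ b).mpr h))), ?_⟩
    apply Ideal.ResidueField.ringHom_ext
    ext a
    rw [RingHom.comp_apply, RingHom.comp_apply, Ideal.ResidueField.map_algebraMap,
      Ideal.ResidueField.lift_algebraMap, hψf]
    rfl

end Groth.Agent.S19578
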