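import Groth.Statements.S19586
import Mathlib
import Groth.Agent.Lib.H2ExtPowBC

set_option autoImplicit false
universe u
open KaehlerDifferential
open LocInt

namespace Groth.Agent.S19586

section Helpers

set_option autoImplicit false
set_option linter.style.haveILetI false

namespace P0
open TensorProduct

/-- Vanishing of `1 ⊗ m` does not depend on the field. -/
theorem tmul_eq_zero_iff {B K L M : Type u} [CommRing B] [Field K] [Field L] [Algebra B K]
    [Algebra B L] [AddCommGroup M] [Module B M] (φ : K →ₐ[B] L) (m : M) :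
    (1 : K) ⊗ₜ[B] m = 0 ↔ (1 : L) ⊗ₜ[B] m = 0 := by
  letI : Algebra K L := φ.toRingHom.toAlgebra
  haveI : IsScalarTower B K L := IsScalarTower.of_algebraMap_eq (fun b => (φ.commutes b).symm)
  have hinj : Function.Injective (Algebra.linearMap K L) := (algebraMap K L).injective
  obtain ⟨r, hr⟩ := LinearMap.exists_leftInverse_of_injective (Algebra.linearMap K L)
    (LinearMap.ker_eq_bot.mpr hinj)
  have hr1 : r 1 = 1 := by
    have := LinearMap.congr_fun hr 1
    simpa using this
  let f : K ⊗[B] M →ₗ[B] L ⊗[B] M := LinearMap.rTensor M (φ.toLinearMap)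
  let f' : L ⊗[B] M →ₗ[B] K ⊗[B] M := LinearMap.rTensor M (r.restrictScalars B)
  have h1 : f ((1 : K) ⊗ₜ m) = (1 : L) ⊗ₜ m := by
    simp [f]
  have h2 : f' ((1 : L) ⊗ₜ m) = (1 : K) ⊗ₜ m := by
    simp [f', hr1]
  constructor
  · intro h; rw [← h1, h, map_zero]
  · intro h; rw [← h2, h, map_zero]

end P0

set_option autoImplicit false
set_option linter.style.haveILetI false

namespace P1
open TensorProduct KaehlerDifferential IsLocalRing

/-- Local Jacobian criterion for a hypersurface. -/
theorem local_criterion {A P T K : Type u} [CommRing A] [CommRing P] [CommRing T] [Algebra A P]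
    [Algebra A T] [Algebra P T] [IsScalarTower A P T] [IsLocalRing P] [IsLocalRing T] [Field K]
    [Algebra T K] [Algebra P K] [IsScalarTower P T K] [Algebra.FormallySmooth A P]
    [Module.Finite P Ω[P⁄A]]
    (hsurj : Function.Surjective (algebraMap P T)) (g : P)
    (hker : RingHom.ker (algebraMap P T) = Ideal.span {g})
    (h₃ : maximalIdeal T ≤ RingHom.ker (algebraMap T K)) :
    Algebra.FormallySmooth A T ↔ g = 0 ∨ (1 : K) ⊗ₜ[P] D A P g ≠ 0 := by
  haveI : Module.Free P Ω[P⁄A] := Module.free_of_flat_of_isLocalRing
  have hfg : (RingHom.ker (algebraMap P T)).FG := by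
    rw [hker]; exact ⟨{g}, by simp⟩
  rw [Algebra.FormallySmooth.iff_injective_cotangentComplexBaseChange (R := A) (S := T) P K hsurj
    hfg h₃]
  have hgI : g ∈ RingHom.ker (algebraMap P T) := by
    rw [hker]; exact Ideal.mem_span_singleton_self g
  let gI : RingHom.ker (algebraMap P T) := ⟨g, hgI⟩
  have hc : ∀ a : K, cotangentComplexBaseChange A T P K (a ⊗ₜ gI) = a • ((1 : K) ⊗ₜ[P] D A P g) := by
    intro a
    rw [cotangentComplexBaseChange_tmul, kerToTensor_apply]
  -- every element is `a ⊗ gI`
  have hall : ∀ z : K ⊗[P] RingHom.ker (algebraMap P T), ∃ a : K, z = a ⊗ₜ gI := by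
    intro z
    induction z using TensorProduct.induction_on with
    | zero => exact ⟨0, by rw [zero_tmul]⟩
    | tmul a b =>
      have hb : (b : P) ∈ Ideal.span {g} := by rw [← hker]; exact b.2
      obtain ⟨x, hx⟩ := Ideal.mem_span_singleton'.mp hb
      have hb' : b = x • gI := Subtype.ext (by rw [← hx]; rfl)
      refine ⟨x • a, ?_⟩
      rw [hb', TensorProduct.smul_tmul]
    | add z w hz hw =>
      obtain ⟨a, rfl⟩ := hz
      obtain ⟨a', rfl⟩ := hw
      exact ⟨a + a', by rw [add_tmul]⟩
  constructor
  · intro hinj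
    by_contra hcon
    push Not at hcon
    obtain ⟨hg0, hdg⟩ := hcon
    have h1 : (1 : K) ⊗ₜ[P] gI = 0 := by
      apply hinj
      rw [hc, hdg, smul_zero, map_zero]
    -- transfer to the residue field of `P`
    have hPK : maximalIdeal P ≤ RingHom.ker (algebraMap P K) := by
      intro x hx
      rw [RingHom.mem_ker, IsScalarTower.algebraMap_apply P T K]
      apply h₃
      rw [← map_maximalIdeal_of_surjective (algebraMap P T) hsurj]
      exact Ideal.mem_map_of_mem _ hx
    let φ : ResidueField P →ₐ[P] K := Ideal.Quotient.liftₐ (maximalIdeal P) (Algebra.ofId P K) hPK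
    have h2 : (1 : ResidueField P) ⊗ₜ[P] gI = 0 := (P0.tmul_eq_zero_iff φ gI).mpr h1
    haveI : Module.Finite P (RingHom.ker (algebraMap P T)) := Module.Finite.of_fg hfg
    have h3 : Subsingleton (ResidueField P ⊗[P] RingHom.ker (algebraMap P T)) := by
      refine ⟨fun z w => ?_⟩
      have hz : ∀ z : ResidueField P ⊗[P] RingHom.ker (algebraMap P T), z = 0 := by
        intro z
        induction z using TensorProduct.induction_on with
        | zero => rfl
        | tmul a b =>
          have hb : (b : P) ∈ Ideal.span {g} := by rw [← hker]; exact b.2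
          obtain ⟨x, hx⟩ := Ideal.mem_span_singleton'.mp hb
          have hb' : b = x • gI := Subtype.ext (by rw [← hx]; rfl)
          have : a ⊗ₜ[P] b = (x • a) • ((1 : ResidueField P) ⊗ₜ[P] gI) := by
            rw [hb', TensorProduct.smul_tmul', smul_eq_mul, mul_one, TensorProduct.smul_tmul]
          rw [this, h2, smul_zero]
        | add z w hz hw => rw [hz, hw, add_zero]
      rw [hz z, hz w]
    have h4 : Subsingleton (RingHom.ker (algebraMap P T)) := IsLocalRing.subsingleton_tensorProduct.mp h3
    have h5 : gI = 0 := Subsingleton.elim _ _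
    exact hg0 (congrArg Subtype.val h5)
  · rintro (hg0 | hdg)
    · rw [injective_iff_map_eq_zero]
      intro z _
      obtain ⟨a, rfl⟩ := hall z
      have : gI = 0 := Subtype.ext hg0
      rw [this, tmul_zero]
    · rw [injective_iff_map_eq_zero]
      intro z hz
      obtain ⟨a, rfl⟩ := hall z
      rw [hc] at hz
      rcases smul_eq_zero.mp hz with h | h
      · rw [h, zero_tmul]
      · exact absurd h hdg

end P1

set_option autoImplicit false
set_option linter.style.haveILetI false

namespace P2
open TensorProduct KaehlerDifferential IsLocalRing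

/-- Comparing `1 ⊗ dg` over `B` and over a localization. -/
lemma tmul_D_eq_zero_iff {A B : Type u} [CommRing A] [CommRing B] [Algebra A B] (q : Ideal B)
    [q.IsPrime] (K : Type u) [Field K] [Algebra B K] [Algebra (Localization.AtPrime q) K]
    [IsScalarTower B (Localization.AtPrime q) K] (g : B) :
    (1 : K) ⊗ₜ[Localization.AtPrime q]
        D A (Localization.AtPrime q) (algebraMap B (Localization.AtPrime q) g) = 0 ↔
      (1 : K) ⊗ₜ[B] D A B g = 0 := by
  let e0 : (Localization.AtPrime q) ⊗[B] Ω[B⁄A] ≃ₗ[Localization.AtPrime q]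
      Ω[Localization.AtPrime q⁄A] :=
    (IsLocalizedModule.isBaseChange q.primeCompl (Localization.AtPrime q)
      (KaehlerDifferential.map A A B (Localization.AtPrime q))).equiv
  let e1 : K ⊗[Localization.AtPrime q] ((Localization.AtPrime q) ⊗[B] Ω[B⁄A])
      ≃ₗ[K] K ⊗[Localization.AtPrime q] Ω[Localization.AtPrime q⁄A] :=
    TensorProduct.AlgebraTensorModule.congr (LinearEquiv.refl K K) e0
  let e2 : K ⊗[Localization.AtPrime q] ((Localization.AtPrime q) ⊗[B] Ω[B⁄A])
      ≃ₗ[K] K ⊗[B] Ω[B⁄A] :=
    TensorProduct.AlgebraTensorModule.cancelBaseChange B (Localization.AtPrime q) K K Ω[B⁄A]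
  have hE : (e2.symm.trans e1) ((1 : K) ⊗ₜ[B] D A B g) =
      (1 : K) ⊗ₜ[Localization.AtPrime q]
        D A (Localization.AtPrime q) (algebraMap B (Localization.AtPrime q) g) := by
    rw [LinearEquiv.trans_apply, TensorProduct.AlgebraTensorModule.cancelBaseChange_symm_tmul]
    change (1 : K) ⊗ₜ[Localization.AtPrime q] e0 (1 ⊗ₜ[B] D A B g) = _
    rw [IsBaseChange.equiv_tmul, one_smul, KaehlerDifferential.map_D]
  rw [← hE, LinearEquiv.map_eq_zero_iff]

section Core

variable {A B S : Type u} [CommRing A] [CommRing B] [CommRing S] [Algebra A B] [Algebra A S]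
  [Algebra B S] [IsScalarTower A B S]

/-- Kernel of the induced map on local rings. -/
lemma ker_localRingHom (hsurj : Function.Surjective (algebraMap B S)) (g : B)
    (hker : RingHom.ker (algebraMap B S) = Ideal.span {g}) (q : Ideal B) [q.IsPrime]
    (p : Ideal S) [p.IsPrime] (hq : q = p.comap (algebraMap B S)) :
    RingHom.ker (Localization.localRingHom q p (algebraMap B S) hq) =
      Ideal.span {algebraMap B (Localization.AtPrime q) g} := by
  apply le_antisymm
  · intro z hz
    rw [RingHom.mem_ker] at hz
    obtain ⟨⟨x, s⟩, rfl⟩ := IsLocalization.mk'_surjective q.primeCompl z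
    rw [Localization.localRingHom_mk', IsLocalization.mk'_eq_zero_iff] at hz
    obtain ⟨t, ht⟩ := hz
    obtain ⟨t', ht'⟩ := hsurj (t : S)
    have ht'q : t' ∈ q.primeCompl := by
      change t' ∉ q
      rw [hq, Ideal.mem_comap, ht']
      exact t.2
    have h1 : t' * x ∈ RingHom.ker (algebraMap B S) := by
      rw [RingHom.mem_ker, map_mul, ht']
      exact ht
    rw [hker] at h1
    obtain ⟨c, hc⟩ := Ideal.mem_span_singleton'.mp h1
    have hu : IsUnit (algebraMap B (Localization.AtPrime q) (t' * (s : B))) :=
      IsLocalization.map_units (Localization.AtPrime q) (⟨t', ht'q⟩ * s)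
    obtain ⟨u, hu'⟩ := hu
    have h2 : algebraMap B (Localization.AtPrime q) (t' * (s : B)) *
        IsLocalization.mk' (Localization.AtPrime q) x s =
        algebraMap B (Localization.AtPrime q) c * algebraMap B (Localization.AtPrime q) g := by
      rw [map_mul, mul_assoc, mul_comm (algebraMap B (Localization.AtPrime q) (s : B)),
        IsLocalization.mk'_spec, ← map_mul, ← map_mul, hc]
    rw [Ideal.mem_span_singleton']
    refine ⟨(u⁻¹ : (Localization.AtPrime q)ˣ) * algebraMap B (Localization.AtPrime q) c, ?_⟩
    rw [mul_assoc, ← h2, ← hu', ← mul_assoc, Units.inv_mul, one_mul]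
  · rw [Ideal.span_le, Set.singleton_subset_iff, SetLike.mem_coe, RingHom.mem_ker,
      Localization.localRingHom_to_map]
    have : algebraMap B S g = 0 := by
      rw [← RingHom.mem_ker, hker]; exact Ideal.mem_span_singleton_self g
    rw [this, map_zero]

/-- Jacobian criterion for a hypersurface in a scheme smooth at the point. -/
theorem core (hsurj : Function.Surjective (algebraMap B S)) (g : B)
    (hker : RingHom.ker (algebraMap B S) = Ideal.span {g}) (q : Ideal B) [q.IsPrime]
    (p : Ideal S) [p.IsPrime] (hq : q = p.comap (algebraMap B S))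
    [Algebra.FormallySmooth A (Localization.AtPrime q)]
    [Module.Finite (Localization.AtPrime q) Ω[Localization.AtPrime q⁄A]] :
    Algebra.FormallySmooth A (Localization.AtPrime p) ↔
      algebraMap B (Localization.AtPrime q) g = 0 ∨
        (1 : p.ResidueField) ⊗ₜ[B] D A B g ≠ 0 := by
  subst hq
  haveI : p.LiesOver (p.comap (algebraMap B S)) := ⟨rfl⟩
  letI := Localization.AtPrime.algebraOfLiesOver (p.comap (algebraMap B S)) p
  haveI : IsScalarTower A (Localization.AtPrime (p.comap (algebraMap B S)))
    (Localization.AtPrime p) := inferInstance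
  haveI : IsScalarTower B (Localization.AtPrime (p.comap (algebraMap B S)))
    (Localization.AtPrime p) := inferInstance
  haveI : IsScalarTower B (Localization.AtPrime (p.comap (algebraMap B S))) p.ResidueField :=
    IsScalarTower.to₁₂₄ B (Localization.AtPrime (p.comap (algebraMap B S)))
      (Localization.AtPrime p) p.ResidueField
  have hsurj' : Function.Surjective (algebraMap (Localization.AtPrime (p.comap (algebraMap B S)))
      (Localization.AtPrime p)) :=
    RingHom.surjective_localRingHom_of_surjective _ hsurj p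
  have hker' : RingHom.ker (algebraMap (Localization.AtPrime (p.comap (algebraMap B S)))
      (Localization.AtPrime p)) =
      Ideal.span {algebraMap B (Localization.AtPrime (p.comap (algebraMap B S))) g} :=
    ker_localRingHom hsurj g hker (p.comap (algebraMap B S)) p rfl
  have h₃ : maximalIdeal (Localization.AtPrime p) ≤
      RingHom.ker (algebraMap (Localization.AtPrime p) p.ResidueField) := by
    intro x hx
    rw [RingHom.mem_ker]
    exact (residue_eq_zero_iff x).mpr hx
  rw [P1.local_criterion (A := A) (K := p.ResidueField) hsurj'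
    (algebraMap B (Localization.AtPrime (p.comap (algebraMap B S))) g) hker' h₃, Ne,
    tmul_D_eq_zero_iff]

end Core

end P2

set_option autoImplicit false
set_option linter.style.haveILetI false
set_option linter.unusedSectionVars false

namespace P4
open TensorProduct KaehlerDifferential

section Descent

variable {k P A M : Type*} [CommRing k] [CommRing P] [CommRing A] [Algebra k P] [Algebra k A]
  [AddCommGroup M] [Module k M] [Module A M] [IsScalarTower k A M]
  [Module P M] [IsScalarTower k P M]
  (φ : P →ₐ[k] A) (hφ : Function.Surjective φ)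

/-- Descend a linear map along a surjective algebra hom. -/
noncomputable def descendLin (d : P →ₗ[k] M) (hd : ∀ x, φ x = 0 → d x = 0) : A →ₗ[k] M where
  toFun a := d (Function.surjInv hφ a)
  map_add' a b := by
    have h0 : φ (Function.surjInv hφ (a + b) - (Function.surjInv hφ a + Function.surjInv hφ b)) = 0 := by
      simp [Function.surjInv_eq hφ]
    have h1 := hd _ h0
    rw [map_sub, map_add, sub_eq_zero] at h1
    exact h1
  map_smul' c a := by
    have h0 : φ (Function.surjInv hφ (c • a) - c • Function.surjInv hφ a) = 0 := by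
      simp [Function.surjInv_eq hφ]
    have h1 := hd _ h0
    rw [map_sub, map_smul, sub_eq_zero] at h1
    exact h1

lemma descendLin_apply (d : P →ₗ[k] M) (hd : ∀ x, φ x = 0 → d x = 0) (x : P) :
    descendLin φ hφ d hd (φ x) = d x := by
  have h0 : φ (Function.surjInv hφ (φ x) - x) = 0 := by
    simp [Function.surjInv_eq hφ]
  have h1 := hd _ h0
  rw [map_sub, sub_eq_zero] at h1
  exact h1

/-- Descend a derivation along a surjective algebra hom. -/
noncomputable def descend (hsm : ∀ (x : P) (m : M), x • m = φ x • m)
    (d : Derivation k P M) (hd : ∀ x, φ x = 0 → d x = 0) : Derivation k A M :=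
  Derivation.mk' (descendLin φ hφ d.toLinearMap hd) (by
    intro a b
    obtain ⟨x, rfl⟩ := hφ a
    obtain ⟨y, rfl⟩ := hφ b
    rw [← map_mul, descendLin_apply, descendLin_apply, descendLin_apply]
    simp only [Derivation.coeFn_coe]
    rw [d.leibniz, hsm, hsm])

lemma descend_apply (hsm : ∀ (x : P) (m : M), x • m = φ x • m)
    (d : Derivation k P M) (hd : ∀ x, φ x = 0 → d x = 0) (x : P) :
    descend φ hφ hsm d hd (φ x) = d x :=
  descendLin_apply φ hφ d.toLinearMap hd x

end Descent

section Fiber

variable {A B R K : Type u} [CommRing A] [CommRing B] [CommRing R] [Algebra A B] [Algebra B R]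
  [Algebra A R] [IsScalarTower A B R] [Field K] [Algebra A K] [Algebra B K] [Algebra R K]
  [IsScalarTower B R K] [IsScalarTower A R K] [IsScalarTower A B K]

/-- The comparison map on fibres of differentials. -/
noncomputable def ψ : K ⊗[B] Ω[B⁄A] →ₗ[K] K ⊗[R] Ω[R⁄A] :=
  LinearMap.liftBaseChange K
    (((TensorProduct.mk R K Ω[R⁄A] 1).restrictScalars B).comp (KaehlerDifferential.map A A B R))

lemma ψ_tmul (a : K) (ω : Ω[B⁄A]) :
    ψ (A := A) (R := R) (a ⊗ₜ[B] ω) = a ⊗ₜ[R] KaehlerDifferential.map A A B R ω := by
  unfold ψ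
  rw [LinearMap.liftBaseChange_tmul]
  simp only [LinearMap.coe_comp, LinearMap.coe_restrictScalars, Function.comp_apply,
    TensorProduct.mk_apply]
  rw [TensorProduct.smul_tmul', smul_eq_mul, mul_one]

lemma ψ_surjective (hsurj : Function.Surjective (algebraMap B R)) :
    Function.Surjective (ψ (A := A) (B := B) (R := R) (K := K)) := by
  intro w
  induction w using TensorProduct.induction_on with
  | zero => exact ⟨0, map_zero _⟩
  | tmul a ω =>
    obtain ⟨ω', rfl⟩ := KaehlerDifferential.map_surjective_of_surjective A A B R hsurj ω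
    exact ⟨a ⊗ₜ ω', ψ_tmul a ω'⟩
  | add w w' hw hw' =>
    obtain ⟨v, rfl⟩ := hw
    obtain ⟨v', rfl⟩ := hw'
    exact ⟨v + v', map_add _ _ _⟩

theorem finrank_le_iff [Module.Finite K (K ⊗[B] Ω[B⁄A])]
    (hsurj : Function.Surjective (algebraMap B R)) (g : B)
    (hker : RingHom.ker (algebraMap B R) = Ideal.span {g}) :
    Module.finrank K (K ⊗[B] Ω[B⁄A]) ≤ Module.finrank K (K ⊗[R] Ω[R⁄A]) ↔
      (1 : K) ⊗ₜ[B] D A B g = 0 := by
  have hg0 : algebraMap B R g = 0 := by
    rw [← RingHom.mem_ker, hker]; exact Ideal.mem_span_singleton_self g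
  haveI : Module.Finite K (K ⊗[R] Ω[R⁄A]) :=
    Module.Finite.of_surjective (ψ (A := A) (B := B) (R := R) (K := K)) (ψ_surjective hsurj)
  constructor
  · intro h
    have h1 : Module.finrank K (K ⊗[R] Ω[R⁄A]) ≤ Module.finrank K (K ⊗[B] Ω[B⁄A]) :=
      LinearMap.finrank_le_finrank_of_surjective (ψ_surjective (A := A) (K := K) hsurj)
    have heq := le_antisymm h h1
    have hinj : Function.Injective (ψ (A := A) (B := B) (R := R) (K := K)) :=
      (LinearMap.injective_iff_surjective_of_finrank_eq_finrank heq).mpr (ψ_surjective hsurj)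
    apply hinj
    rw [ψ_tmul, KaehlerDifferential.map_D, hg0, map_zero, map_zero, tmul_zero]
  · intro h
    -- the derivation `b ↦ 1 ⊗ db`
    let δ₀ : Derivation A B (K ⊗[B] Ω[B⁄A]) := (TensorProduct.mk B K Ω[B⁄A] 1).compDer (D A B)
    have hδ₀ : ∀ b, δ₀ b = (1 : K) ⊗ₜ[B] D A B b := fun b => rfl
    let φ : B →ₐ[A] R := IsScalarTower.toAlgHom A B R
    have hφ : Function.Surjective φ := hsurj
    have hsm : ∀ (x : B) (m : K ⊗[B] Ω[B⁄A]), x • m = φ x • m := by
      intro x m
      exact (algebraMap_smul R x m).symm
    have hd : ∀ x, φ x = 0 → δ₀ x = 0 := by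
      intro x hx
      have hx' : x ∈ Ideal.span {g} := by rw [← hker]; exact hx
      obtain ⟨c, rfl⟩ := Ideal.mem_span_singleton'.mp hx'
      rw [δ₀.leibniz, hδ₀ g, h, smul_zero, zero_add, hδ₀ c, TensorProduct.smul_tmul',
        Algebra.smul_def, mul_one, IsScalarTower.algebraMap_apply B R K, hg0, map_zero, zero_tmul]
    let δ : Derivation A R (K ⊗[B] Ω[B⁄A]) := descend φ hφ hsm δ₀ hd
    have hδ : ∀ b, δ (algebraMap B R b) = (1 : K) ⊗ₜ[B] D A B b := fun b =>
      descend_apply φ hφ hsm δ₀ hd b
    let χ : K ⊗[R] Ω[R⁄A] →ₗ[K] K ⊗[B] Ω[B⁄A] := LinearMap.liftBaseChange K δ.liftKaehlerDifferential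
    have hχψ : χ ∘ₗ ψ (A := A) (B := B) (R := R) (K := K) = LinearMap.id := by
      apply TensorProduct.AlgebraTensorModule.ext
      intro a ω
      rw [LinearMap.comp_apply, ψ_tmul, LinearMap.liftBaseChange_tmul, LinearMap.id_apply]
      have : δ.liftKaehlerDifferential (KaehlerDifferential.map A A B R ω) = (1 : K) ⊗ₜ[B] ω := by
        have hspan := KaehlerDifferential.span_range_derivation A B
        have hω : ω ∈ Submodule.span B (Set.range (D A B)) := by rw [hspan]; trivial
        induction hω using Submodule.span_induction with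
        | mem x hx =>
          obtain ⟨b, rfl⟩ := hx
          rw [KaehlerDifferential.map_D, Derivation.liftKaehlerDifferential_comp_D, hδ]
        | zero => rw [map_zero, map_zero, tmul_zero]
        | add x y _ _ hx hy => rw [map_add, map_add, hx, hy, tmul_add]
        | smul b x _ hx =>
          rw [map_smul, ← algebraMap_smul R b, map_smul, hx, algebraMap_smul, tmul_smul]
      rw [this, TensorProduct.smul_tmul', smul_eq_mul, mul_one]
    have hinj : Function.Injective (ψ (A := A) (B := B) (R := R) (K := K)) := by
      intro x y hxy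
      have := congrArg χ hxy
      rw [← LinearMap.comp_apply, ← LinearMap.comp_apply, hχψ] at this
      exact this
    exact LinearMap.finrank_le_finrank_of_injective hinj

end Fiber

end P4

set_option autoImplicit false
set_option linter.style.haveILetI false

namespace P5
open TensorProduct KaehlerDifferential IsLocalRing

/-- Exterior power of a finite-dimensional vector space is nonzero iff the degree is at most the
dimension. -/
lemma nontrivial_extPow_iff {K V : Type u} [Field K] [AddCommGroup V] [Module K V]
    [Module.Finite K V] (n : ℕ) : Nontrivial (⋀[K]^n V) ↔ n ≤ Module.finrank K V := by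
  rw [← Module.finrank_pos_iff_of_free (R := K), exteriorPower.finrank_eq, Nat.pos_iff_ne_zero, Ne,
    Nat.choose_eq_zero_iff, not_lt]

theorem main (A B R : Type u) [CommRing A] [CommRing B] [CommRing R]
    [Algebra A B] [Algebra B R] [Algebra A R] [IsScalarTower A B R] [Algebra.Smooth A B] (n : ℕ)
    (hn : ∀ p : PrimeSpectrum B, Module.rankAtStalk (Ω[B⁄A]) p = n)
    (g : B) (hg : IsSMulRegular B g) (hsurj : Function.Surjective (algebraMap B R))
    (hker : RingHom.ker (algebraMap B R) = Ideal.span {g}) (p : PrimeSpectrum R) :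
    (⋀[R]^n (Ω[R⁄A])).annihilator ≤ p.asIdeal ↔ p ∉ Algebra.smoothLocus A R := by
  haveI : Algebra.FiniteType A B := inferInstance
  haveI : Algebra.FiniteType A R :=
    Algebra.FiniteType.of_surjective (IsScalarTower.toAlgHom A B R) hsurj
  haveI : Module.Finite R Ω[R⁄A] := inferInstance
  haveI : Module.Finite R (⋀[R]^n Ω[R⁄A]) := inferInstance
  haveI : Module.Finite B Ω[B⁄A] := inferInstance
  haveI : Module.Projective B Ω[B⁄A] := inferInstance
  -- the dimension of the fibre of `Ω[B⁄A]`
  have hV : Module.finrank p.asIdeal.ResidueField (p.asIdeal.ResidueField ⊗[B] Ω[B⁄A]) = n := by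
    have h1 := Module.rankAtStalk_baseChange (R := B) (M := Ω[B⁄A]) (S := p.asIdeal.ResidueField)
      ⟨⊥, Ideal.isPrime_bot⟩
    rw [hn, Module.rankAtStalk_eq_finrank_of_free] at h1
    exact h1
  haveI : Module.Finite p.asIdeal.ResidueField (p.asIdeal.ResidueField ⊗[B] Ω[B⁄A]) :=
    inferInstance
  -- step 1 : the annihilator condition
  have step1 : (⋀[R]^n (Ω[R⁄A])).annihilator ≤ p.asIdeal ↔
      n ≤ Module.finrank p.asIdeal.ResidueField (p.asIdeal.ResidueField ⊗[R] Ω[R⁄A]) := by
    change Module.annihilator R (⋀[R]^n (Ω[R⁄A])) ≤ p.asIdeal ↔ _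
    rw [← Module.mem_support_iff_of_finite,
      Module.mem_support_iff_nontrivial_residueField_tensorProduct,
      (Groth.Agent.Lib.H2ExtPowBC.baseChangeEquiv p.asIdeal.ResidueField R Ω[R⁄A] n).nontrivial_congr,
      nontrivial_extPow_iff]
  -- step 2 : the fibre dimension
  have step2 := P4.finrank_le_iff (A := A) (B := B) (R := R) (K := p.asIdeal.ResidueField) hsurj g hker
  rw [hV] at step2
  -- step 3 : the Jacobian criterion
  haveI : Algebra.EssFiniteType B (Localization.AtPrime (p.asIdeal.comap (algebraMap B R))) :=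
    Algebra.EssFiniteType.of_isLocalization _ (p.asIdeal.comap (algebraMap B R)).primeCompl
  haveI : Algebra.EssFiniteType A (Localization.AtPrime (p.asIdeal.comap (algebraMap B R))) :=
    Algebra.EssFiniteType.comp A B _
  haveI : Algebra.FormallyEtale B (Localization.AtPrime (p.asIdeal.comap (algebraMap B R))) :=
    Algebra.FormallyEtale.of_isLocalization (p.asIdeal.comap (algebraMap B R)).primeCompl
  haveI : Algebra.FormallySmooth A (Localization.AtPrime (p.asIdeal.comap (algebraMap B R))) :=
    Algebra.FormallySmooth.comp A B _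
  have step3 := P2.core (A := A) hsurj g hker (p.asIdeal.comap (algebraMap B R)) p.asIdeal rfl
  have hg1 : algebraMap B (Localization.AtPrime (p.asIdeal.comap (algebraMap B R))) g ≠ 0 := by
    intro h0
    rw [IsLocalization.map_eq_zero_iff (p.asIdeal.comap (algebraMap B R)).primeCompl] at h0
    obtain ⟨t, ht⟩ := h0
    have ht0 : (t : B) = 0 := by
      apply hg
      change g • (t : B) = g • 0
      rw [smul_eq_mul, smul_eq_mul, mul_zero, mul_comm]
      exact ht
    exact t.2 (ht0 ▸ Ideal.zero_mem _)
  rw [step1, step2]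
  change _ ↔ ¬ Algebra.FormallySmooth A (Localization.AtPrime p.asIdeal)
  rw [step3]
  constructor
  · intro h hcon
    rcases hcon with h1 | h1
    · exact hg1 h1
    · exact h1 h
  · intro h
    by_contra hcon
    exact h (Or.inr hcon)

end P5

end Helpers

/-- Let A → B be a smooth ring map with Ω_{B/A} of rank n at every prime of B, g ∈ B a nonzerodivisor
and R = B/gB, so that Spec R is a hypersurface of virtual relative dimension n − 1 over Spec A. Let
J ⊆ R be the annihilator of the n-th exterior power of Ω_{R/A} and Z = V(J) ⊆ Spec R. Then the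
underlying set of Z is exactly the set of primes at which R is not smooth over A: for a prime p of
R, J ⊆ p if and only if the localization R_p is not formally smooth over A. -/
theorem result (A B R : Type u) [CommRing A] [CommRing B] [CommRing R]
    [Algebra A B] [Algebra B R] [Algebra A R] [IsScalarTower A B R] [Algebra.Smooth A B] (n : ℕ)
    (hn : ∀ p : PrimeSpectrum B, Module.rankAtStalk (Ω[B⁄A]) p = n)
    (g : B) (hg : IsSMulRegular B g) (hsurj : Function.Surjective (algebraMap B R))
    (hker : RingHom.ker (algebraMap B R) = Ideal.span {g}) (p : PrimeSpectrum R) :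
    (⋀[R]^n (Ω[R⁄A])).annihilator ≤ p.asIdeal ↔ p ∉ Algebra.smoothLocus A R := by
  exact P5.main A B R n hn g hg hsurj hker p

end Groth.Agent.S19586
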