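import Groth.Statements.S1959
import Mathlib.RingTheory.IntegralClosure.Algebra.Ideal

set_option autoImplicit false
universe u
open Polynomial
open EtAlg

namespace Groth.Agent.S1959

/-- Let I be an ideal of a ring A, A -> B an integral ring map and b an element of B whose image in B/IB
is idempotent. Then there are d ≥ 1 and a monic polynomial f over A with f(b) = 0 whose reduction
modulo I is x^d (x - 1)^d. -/
theorem result (A B : Type u) [CommRing A] [CommRing B] [Algebra A B]
    [Algebra.IsIntegral A B] (I : Ideal A) (b : B)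
    (hb : IsIdempotentElem (Ideal.Quotient.mk (I.map (algebraMap A B)) b)) :
    ∃ (f : A[X]) (d : ℕ), f.Monic ∧ 1 ≤ d ∧ aeval b f = 0 ∧
      f.map (Ideal.Quotient.mk I) = X ^ d * (X - 1) ^ d := by
  rcases subsingleton_or_nontrivial A with hA | hA
  · refine ⟨0, 1, Subsingleton.elim _ _, le_rfl, by simp, ?_⟩
    have : Subsingleton (A ⧸ I) := Quotient.instSubsingletonQuotient _
    exact Subsingleton.elim _ _
  have hmem : b * b - b ∈ I.map (algebraMap A B) := by
    rw [← Ideal.Quotient.eq, map_mul]
    exact hb
  obtain ⟨p, hp, hpb, hpI⟩ := Polynomial.exists_monic_aeval_eq_zero_forall_mem_of_mem_map hmem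
  have hpmap : p.map (Ideal.Quotient.mk I) = X ^ p.natDegree := by
    ext i
    rw [coeff_map, coeff_X_pow]
    split_ifs with hi
    · rw [hi, hp.coeff_natDegree, map_one]
    · exact Ideal.Quotient.eq_zero_iff_mem.mpr (hpI i hi)
  have hq2 : (X * X - X : A[X]) = X ^ 2 - X := by ring
  have hq : (X * X - X : A[X]).Monic := by
    rw [hq2]
    refine monic_X_pow_sub ?_
    rw [degree_X]; norm_num
  have hqdeg : (X * X - X : A[X]).natDegree ≠ 0 := by
    rw [hq2, natDegree_sub_eq_left_of_natDegree_lt (by simp), natDegree_X_pow]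
    norm_num
  refine ⟨(X * p).comp (X * X - X), p.natDegree + 1, ?_, by omega, ?_, ?_⟩
  · exact (monic_X.mul hp).comp hq hqdeg
  · rw [aeval_comp]
    simp [hpb]
  · rw [map_comp, Polynomial.map_mul, hpmap]
    have h1 : (X * X - X : (A ⧸ I)[X]) = X * (X - 1) := by ring
    simp only [Polynomial.map_sub, Polynomial.map_mul, map_X, mul_comp, X_comp, X_pow_comp]
    rw [h1, mul_pow, pow_succ, pow_succ]
    ring

end Groth.Agent.S1959
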