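import Groth.Statements.S19590
import Mathlib.Algebra.Field.ZMod
import Mathlib.Tactic.NoncommRing

set_option autoImplicit false
open BddFin

namespace Groth.Agent.S19590

open Matrix

variable {n : ℕ}

instance fact3 : Fact (Nat.Prime 3) := ⟨Nat.prime_three⟩

/-- reduction mod 3 of integer matrices -/
noncomputable def red : Matrix (Fin n) (Fin n) ℤ →+* Matrix (Fin n) (Fin n) (ZMod 3) :=
  RingHom.mapMatrix (Int.castRingHom (ZMod 3))

lemma exists_three_smul_of_red_eq_zero (M : Matrix (Fin n) (Fin n) ℤ) (h : red M = 0) :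
    ∃ M₁ : Matrix (Fin n) (Fin n) ℤ, M = (3 : ℤ) • M₁ := by
  have h1 : ∀ i j, (3 : ℤ) ∣ M i j := by
    intro i j
    have := congrFun (congrFun h i) j
    simp only [red, RingHom.mapMatrix_apply, Matrix.map_apply, Int.coe_castRingHom,
      Matrix.zero_apply] at this
    exact (ZMod.intCast_zmod_eq_zero_iff_dvd (M i j) 3).1 this
  choose q hq using h1
  refine ⟨Matrix.of q, ?_⟩
  ext i j
  simp [hq i j]

lemma red_three_smul (M : Matrix (Fin n) (Fin n) ℤ) : red ((3 : ℤ) • M) = 0 := by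
  ext i j
  simp only [red, RingHom.mapMatrix_apply, Matrix.map_apply, Matrix.smul_apply, smul_eq_mul,
    Int.coe_castRingHom, Int.cast_mul, Matrix.zero_apply]
  have : ((3 : ℤ) : ZMod 3) = 0 := by decide
  rw [this, zero_mul]

/-- binomial expansion to second order, no commutativity needed -/
lemma exists_pow_expand (X : Matrix (Fin n) (Fin n) ℤ) (k : ℕ) :
    ∃ R : Matrix (Fin n) (Fin n) ℤ, (1 + X) ^ k = 1 + (k : ℤ) • X + X * X * R := by
  induction k with
  | zero => exact ⟨0, by simp⟩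
  | succ k ih =>
    obtain ⟨R, hR⟩ := ih
    refine ⟨(k : ℤ) • 1 + R + R * X, ?_⟩
    rw [pow_succ, hR]
    push_cast
    simp only [mul_add, add_mul, mul_one, one_mul, add_smul, one_smul, smul_mul_assoc,
      mul_smul_comm, Matrix.mul_assoc]
    abel

/-- key step: if `3 ∤ k` and `(1 + 3^a M)^k = 1 + 3^a M'` then `M' ≡ k M` mod 3. -/
lemma step_coprime (a : ℕ) (ha : 1 ≤ a) (M : Matrix (Fin n) (Fin n) ℤ) (k : ℕ) :
    ∃ M' : Matrix (Fin n) (Fin n) ℤ, (1 + (3 : ℤ) ^ a • M) ^ k = 1 + (3 : ℤ) ^ a • M' ∧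
      red M' = (k : ZMod 3) • red M := by
  obtain ⟨R, hR⟩ := exists_pow_expand ((3 : ℤ) ^ a • M) k
  obtain ⟨a', rfl⟩ : ∃ a', a = a' + 1 := ⟨a - 1, by omega⟩
  refine ⟨(k : ℤ) • M + (3 : ℤ) • ((3 : ℤ) ^ a' • (M * M * R)), ?_, ?_⟩
  · rw [hR]
    simp only [smul_add, smul_mul_assoc, mul_smul_comm, smul_smul, pow_succ]
    rw [add_assoc]
    congr 2
    · rw [mul_comm]
    · congr 1
      ring
  · rw [map_add, red_three_smul, add_zero, map_zsmul, ← Int.cast_smul_eq_zsmul (ZMod 3),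
      Int.cast_natCast]

lemma cube_expand (X : Matrix (Fin n) (Fin n) ℤ) :
    (1 + X) ^ 3 = 1 + (3 : ℤ) • X + (3 : ℤ) • (X * X) + X * X * X := by
  noncomm_ring

lemma step_three (a : ℕ) (ha : 1 ≤ a) (M : Matrix (Fin n) (Fin n) ℤ) :
    ∃ M' : Matrix (Fin n) (Fin n) ℤ, (1 + (3 : ℤ) ^ a • M) ^ 3 = 1 + (3 : ℤ) ^ (a + 1) • M' ∧
      red M' = red M := by
  obtain ⟨a', rfl⟩ : ∃ a', a = a' + 1 := ⟨a - 1, by omega⟩
  refine ⟨M + (3 : ℤ) • ((3 : ℤ) ^ a' • (M * M) + (3 : ℤ) ^ (2 * a') • (M * M * M)), ?_, ?_⟩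
  · rw [cube_expand]
    simp only [smul_add, smul_mul_assoc, mul_smul_comm, smul_smul]
    rw [add_assoc, add_assoc]
    congr 2
    · congr 1
      ring
    · congr 2
      · ring
      · ring
  · rw [map_add, red_three_smul, add_zero]

/-- if `red M ≠ 0` then `(1 + 3^a M)^k ≠ 1` for `k ≥ 1`. -/
lemma pow_ne_one (k : ℕ) : ∀ (a : ℕ), 1 ≤ a → ∀ M : Matrix (Fin n) (Fin n) ℤ, red M ≠ 0 → 1 ≤ k →
    (1 + (3 : ℤ) ^ a • M) ^ k ≠ 1 := by
  induction k using Nat.strong_induction_on with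
  | _ k ih =>
    intro a ha M hM hk
    by_cases h3 : 3 ∣ k
    · obtain ⟨k', rfl⟩ := h3
      obtain ⟨M', hM'1, hM'2⟩ := step_three a ha M
      rw [pow_mul, hM'1]
      exact ih k' (by omega) (a + 1) (by omega) M' (by rw [hM'2]; exact hM) (by omega)
    · obtain ⟨M', hM'1, hM'2⟩ := step_coprime a ha M k
      rw [hM'1]
      intro h
      have h1 : (3 : ℤ) ^ a • M' = 0 := by
        have := congrArg (fun Y => Y - 1) h
        simpa using this
      have h2 : M' = 0 := by
        rcases smul_eq_zero.1 h1 with h | h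
        · exact absurd h (pow_ne_zero _ (by norm_num))
        · exact h
      rw [h2, map_zero] at hM'2
      have hk3 : (k : ZMod 3) ≠ 0 := by
        intro h0
        exact h3 ((ZMod.natCast_eq_zero_iff k 3).1 h0)
      rcases smul_eq_zero.1 hM'2.symm with h | h
      · exact hk3 h
      · exact hM h

/-- the congruence subgroup of level 3 is torsion free (matrix form). -/
lemma eq_one_of_pow_eq_one (g : Matrix (Fin n) (Fin n) ℤ) (hg : red g = 1) (k : ℕ) (hk : 1 ≤ k)
    (hgk : g ^ k = 1) : g = 1 := by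
  -- g - 1 is divisible by 3^j for all j ≥ 1
  have key : ∀ j : ℕ, ∃ M : Matrix (Fin n) (Fin n) ℤ, g = 1 + (3 : ℤ) ^ (j + 1) • M := by
    intro j
    induction j with
    | zero =>
      obtain ⟨M, hM⟩ := exists_three_smul_of_red_eq_zero (g - 1) (by rw [map_sub, hg, map_one, sub_self])
      exact ⟨M, by rw [zero_add, pow_one, ← hM]; abel⟩
    | succ j ih =>
      obtain ⟨M, hM⟩ := ih
      have hred : red M = 0 := by
        by_contra hne
        exact pow_ne_one k (j + 1) (by omega) M hne hk (hM ▸ hgk)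
      obtain ⟨M₁, hM₁⟩ := exists_three_smul_of_red_eq_zero M hred
      refine ⟨M₁, ?_⟩
      rw [hM, hM₁, smul_smul, ← pow_succ]
  ext i j
  have hdvd : ∀ m : ℕ, (3 : ℤ) ^ (m + 1) ∣ (g - 1) i j := by
    intro m
    obtain ⟨M, hM⟩ := key m
    refine ⟨M i j, ?_⟩
    rw [hM, add_sub_cancel_left, Matrix.smul_apply, smul_eq_mul]
  have h0 : (g - 1) i j = 0 := by
    by_contra hne
    have h1 := hdvd ((g - 1) i j).natAbs
    have h2 := Int.le_of_dvd (Int.natAbs_pos.2 hne |> fun h => by exact_mod_cast h)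
      ((Int.dvd_natAbs).2 h1)
    have h3 : (((g - 1) i j).natAbs : ℤ) < (3 : ℤ) ^ (((g - 1) i j).natAbs + 1) := by
      have := Nat.lt_pow_self (n := ((g - 1) i j).natAbs + 1) (show 1 < 3 by norm_num)
      have h4 : ((g - 1) i j).natAbs < 3 ^ (((g - 1) i j).natAbs + 1) := by omega
      exact_mod_cast h4
    omega
  have := sub_eq_zero.1 (by simpa using h0 : g i j - (1 : Matrix (Fin n) (Fin n) ℤ) i j = 0)
  exact this

/-- For every n, the orders of the finite subgroups of GL_n(ℤ) are bounded: there is B such that every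
finite subgroup of GL_n(ℤ) has at most B elements. -/
theorem result (n : ℕ) :
    ∃ B : ℕ, ∀ H : Subgroup (Matrix.GeneralLinearGroup (Fin n) ℤ), Finite H → Nat.card H ≤ B := by
  refine ⟨Nat.card (Matrix.GeneralLinearGroup (Fin n) (ZMod 3)), fun H hH => ?_⟩
  let ρ : Matrix.GeneralLinearGroup (Fin n) ℤ →* Matrix.GeneralLinearGroup (Fin n) (ZMod 3) :=
    Matrix.GeneralLinearGroup.map (Int.castRingHom (ZMod 3))
  have hinj : Function.Injective (ρ.comp H.subtype) := by
    rw [injective_iff_map_eq_one]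
    intro h hh
    have hfin : IsOfFinOrder h := isOfFinOrder_of_finite h
    have hk : 1 ≤ orderOf h := hfin.orderOf_pos
    have hpow : h ^ orderOf h = 1 := pow_orderOf_eq_one h
    have hmat : ((h : Matrix.GeneralLinearGroup (Fin n) ℤ) : Matrix (Fin n) (Fin n) ℤ) = 1 := by
      apply eq_one_of_pow_eq_one _ _ (orderOf h) hk
      · have h5 : (((h ^ orderOf h : H) : Matrix.GeneralLinearGroup (Fin n) ℤ) :
            Matrix (Fin n) (Fin n) ℤ) = 1 := by rw [hpow]; rfl
        rw [Subgroup.coe_pow, Units.val_pow_eq_pow_val] at h5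
        exact h5
      · have := congrArg (fun u : Matrix.GeneralLinearGroup (Fin n) (ZMod 3) =>
          (u : Matrix (Fin n) (Fin n) (ZMod 3))) hh
        simpa [ρ, red, Matrix.GeneralLinearGroup.map] using this
    apply Subtype.ext
    apply Units.ext
    simpa using hmat
  exact Nat.card_le_card_of_injective _ hinj

end Groth.Agent.S19590
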