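import Groth.Statements.S19591

set_option autoImplicit false
universe u v
open BddFin

namespace Groth.Agent.S19591

/-- Let K be a perfect field of characteristic 2, V a finite-dimensional K-vector space with dim V > 2
and q a quadratic form on V whose polar bilinear form is non-degenerate. Then q represents zero
non-trivially. (Non-degeneracy of the polar form, which is alternating in characteristic 2, forces
dim V to be even, as the published lemma notes.) -/
theorem result
    (K : Type u) [Field K] [CharP K 2] [PerfectField K]
    (V : Type v) [AddCommGroup V] [Module K V] [FiniteDimensional K V]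
    (hV : 2 < Module.finrank K V) (q : QuadraticForm K V)
    (hq : (QuadraticMap.polarBilin q).Nondegenerate) :
    ∃ v : V, v ≠ 0 ∧ q v = 0 := by
  have hsq : ∀ a : K, ∃ c : K, c * c = a := by
    intro a
    obtain ⟨c, hc⟩ := surjective_frobenius K 2 a
    exact ⟨c, by rw [← hc, frobenius_def, pow_two]⟩
  obtain ⟨v, hv⟩ : ∃ v : V, v ≠ 0 := Module.finrank_pos_iff_exists_ne_zero.1 (show 0 < Module.finrank K V by omega)
  by_cases hqv : q v = 0
  · exact ⟨v, hv, hqv⟩
  let φ : V →ₗ[K] K := QuadraticMap.polarBilin q v
  have hker : 2 ≤ Module.finrank K (LinearMap.ker φ) := by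
    have h1 := LinearMap.finrank_range_add_finrank_ker φ
    have h2 : Module.finrank K (LinearMap.range φ) ≤ 1 := by
      have := Submodule.finrank_le (LinearMap.range φ)
      rwa [Module.finrank_self] at this
    omega
  have hex : ∃ w ∈ LinearMap.ker φ, w ∉ Submodule.span K {v} := by
    by_contra hcon
    push Not at hcon
    have hle : LinearMap.ker φ ≤ Submodule.span K {v} := fun w hw => hcon w hw
    have h3 := Submodule.finrank_mono hle
    have h4 : Module.finrank K (Submodule.span K {v}) ≤ 1 := by
      have := finrank_span_le_card (R := K) ({v} : Set V)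
      simpa using this
    omega
  obtain ⟨w, hwker, hwspan⟩ := hex
  have hpolar : QuadraticMap.polar q v w = 0 := by
    have := LinearMap.mem_ker.1 hwker
    simpa [φ] using this
  obtain ⟨c, hc⟩ := hsq (q w / q v)
  refine ⟨c • v + w, ?_, ?_⟩
  · intro h
    apply hwspan
    have : w = (-c) • v := by
      rw [neg_smul]
      exact eq_neg_of_add_eq_zero_right h
    rw [this]
    exact Submodule.smul_mem _ _ (Submodule.mem_span_singleton_self v)
  · rw [QuadraticMap.map_add q (c • v) w, QuadraticMap.map_smul, QuadraticMap.polar_smul_left, hpolar, hc,
      smul_eq_mul, smul_zero, add_zero, div_mul_cancel₀ _ hqv]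
    exact CharTwo.add_self_eq_zero _

end Groth.Agent.S19591
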