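import Groth.Statements.S19595
import Mathlib
import Groth.Agent.Lib.ArLefSmooth7
import Groth.Agent.S15321

set_option autoImplicit false
universe u
open ArLef

namespace Groth.Agent.S19595

section helpers

open Groth.Agent.Lib.ArLefSmooth7 PowerSeries

theorem colon_eq {P : Type u} [CommRing P] [IsDomain P] (p f : P) (hp : p ≠ 0) (i j : ℕ)
    (hij : i ≤ j) :
    (Ideal.span {p ^ j, p ^ i * f}).colon ({p ^ i} : Set P) = Ideal.span {p ^ (j - i), f} := by
  ext x
  rw [Submodule.mem_colon_singleton, smul_eq_mul, Ideal.mem_span_pair, Ideal.mem_span_pair]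
  constructor
  · rintro ⟨c, d, hcd⟩
    refine ⟨c, d, ?_⟩
    have hj : p ^ j = p ^ i * p ^ (j - i) := by rw [← pow_add]; congr 1; omega
    have : p ^ i * (c * p ^ (j - i) + d * f) = p ^ i * x := by
      rw [mul_comm (p ^ i) x, ← hcd, hj]; ring
    exact mul_left_cancel₀ (pow_ne_zero i hp) this
  · rintro ⟨c, d, rfl⟩
    refine ⟨c, d, ?_⟩
    have hj : p ^ j = p ^ i * p ^ (j - i) := by rw [← pow_add]; congr 1; omega
    rw [hj]; ring

theorem main (B : Type u) [CommRing B] [IsDomain B] [IsDiscreteValuationRing B] (π : B) (hπ : Irreducible π)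
    (j i : ℕ) (hi : 0 < i) (hij : i < j) (γ : B) (hγ : IsUnit γ)
    (σ : PowerSeries B ≃+* PowerSeries B)
    (hσB : ∀ b : B, σ (algebraMap B (PowerSeries B) b) - algebraMap B (PowerSeries B) b ∈
      Ideal.span ({algebraMap B (PowerSeries B) (π ^ j)} : Set (PowerSeries B)))
    (hσπ : σ (algebraMap B (PowerSeries B) π) = algebraMap B (PowerSeries B) (π + γ * π ^ j))
    (f : PowerSeries B) (hf : σ PowerSeries.X - PowerSeries.X = algebraMap B (PowerSeries B) (π ^ i) * f)
    (hfπ : ¬ (algebraMap B (PowerSeries B) π ∣ f)) :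
    Module.length (PowerSeries B) (PowerSeries B ⧸ (ArLef.fixIdeal σ).colon ({algebraMap B (PowerSeries B) (π ^ i)} : Set (PowerSeries B))) =
      ((j - i : ℕ) : ℕ∞) * Module.length (PowerSeries (IsLocalRing.ResidueField B)) (PowerSeries (IsLocalRing.ResidueField B) ⧸
        Ideal.span ({PowerSeries.map (IsLocalRing.residue B) f} : Set (PowerSeries (IsLocalRing.ResidueField B)))) := by
  rw [Groth.Agent.S15321.fixIdeal_eq B π j γ hγ σ hσB hσπ]
  rw [PowerSeries.algebraMap_eq] at hfπ hf ⊢
  rw [hf, map_pow, colon_eq (C π) f (prime_C hπ).ne_zero i j hij.le,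
    length_quot_pow_pair (prime_C hπ) hfπ (j - i), length_quot_pair_eq hπ]

end helpers

/-- In the case of a smooth point lying on the divisorial part of the fixed locus with multiplicity i
strictly between 0 and j, let B be a discrete valuation ring with uniformizer π and residue field k,
B[[t]] the complete local ring of a semi-stable arithmetic surface over B at a point x where the
closed fibre is smooth, and σ a ring automorphism of B[[t]] with σ(π) = π + γ π^j (γ a unit of B, j
≥ 1) and σ(b) - b ∈ π^j B[[t]] for all b ∈ B (σ lies over an automorphism τ of B with v(τ(π) - π) =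
j). Suppose σ(t) - t = π^i f with 0 < i < j and π not dividing f, so that the fixed-point ideal I of
σ is (π^j, π^i f) and its divisorial part near x is the closed fibre with multiplicity i. Then the
residual fixed-point scheme, with ideal (I : π^i), has length (j - i) m at x, where m is the length
of k[[t]]/(f mod π) (the order at x of the derivation induced by σ on the closed fibre). -/
theorem result (B : Type u) [CommRing B] [IsDomain B] [IsDiscreteValuationRing B] (π : B) (hπ : Irreducible π)
    (j i : ℕ) (hi : 0 < i) (hij : i < j) (γ : B) (hγ : IsUnit γ)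
    (σ : PowerSeries B ≃+* PowerSeries B)
    (hσB : ∀ b : B, σ (algebraMap B (PowerSeries B) b) - algebraMap B (PowerSeries B) b ∈
      Ideal.span ({algebraMap B (PowerSeries B) (π ^ j)} : Set (PowerSeries B)))
    (hσπ : σ (algebraMap B (PowerSeries B) π) = algebraMap B (PowerSeries B) (π + γ * π ^ j))
    (f : PowerSeries B) (hf : σ PowerSeries.X - PowerSeries.X = algebraMap B (PowerSeries B) (π ^ i) * f)
    (hfπ : ¬ (algebraMap B (PowerSeries B) π ∣ f)) :
    Module.length (PowerSeries B) (PowerSeries B ⧸ (ArLef.fixIdeal σ).colon ({algebraMap B (PowerSeries B) (π ^ i)} : Set (PowerSeries B))) =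
      ((j - i : ℕ) : ℕ∞) * Module.length (PowerSeries (IsLocalRing.ResidueField B)) (PowerSeries (IsLocalRing.ResidueField B) ⧸
        Ideal.span ({PowerSeries.map (IsLocalRing.residue B) f} : Set (PowerSeries (IsLocalRing.ResidueField B)))) := by
  exact main B π hπ j i hi hij γ hγ σ hσB hσπ f hf hfπ

end Groth.Agent.S19595
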