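import Groth.Statements.S19596
import Mathlib
import Groth.Agent.Lib.NodeAlgLen7
import Groth.Agent.Lib.LenPair7
import Groth.Agent.S15323

set_option autoImplicit false
universe u
open ArLef ArLef.NodeAlg

namespace Groth.Agent.S19596

section helpers

open Groth.Agent.Lib.NodeAlg7 Groth.Agent.Lib.ArLefSmooth7 Groth.Agent.Lib.LenPair7 ArLef
open Groth.Agent.S15323 (mem_span_triple)

theorem main (B : Type u) [CommRing B] [IsDomain B] [IsDiscreteValuationRing B] (π : B) (hπ : Irreducible π)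
    (j i₁ i₂ : ℕ) (h12 : i₁ ≤ i₂) (h2 : 0 < i₂) (h2j : i₂ < j) (γ : B) (hγ : IsUnit γ)
    (σ : ArLef.NodeAlg B π ≃+* ArLef.NodeAlg B π)
    (hσB : ∀ c : B, σ (algebraMap B (ArLef.NodeAlg B π) c) - algebraMap B (ArLef.NodeAlg B π) c ∈
      Ideal.span ({algebraMap B (ArLef.NodeAlg B π) (π ^ j)} : Set (ArLef.NodeAlg B π)))
    (hσπ : σ (algebraMap B (ArLef.NodeAlg B π) π) = algebraMap B (ArLef.NodeAlg B π) (π + γ * π ^ j))
    (α β : (ArLef.NodeAlg B π)ˣ) (ht : σ (ArLef.NodeAlg.t π) = (α : ArLef.NodeAlg B π) * ArLef.NodeAlg.t π) (he : σ (ArLef.NodeAlg.e π) = (β : ArLef.NodeAlg B π) * ArLef.NodeAlg.e π)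
    (a b : ArLef.NodeAlg B π) (ha : (α : ArLef.NodeAlg B π) - 1 = ArLef.NodeAlg.t π ^ i₁ * ArLef.NodeAlg.e π ^ i₂ * a) (hb : (β : ArLef.NodeAlg B π) - 1 = ArLef.NodeAlg.t π ^ i₁ * ArLef.NodeAlg.e π ^ i₂ * b)
    (hea : ¬ (ArLef.NodeAlg.e π ∣ a)) (htb : ¬ (ArLef.NodeAlg.t π ∣ b)) :
    Module.length (ArLef.NodeAlg B π) (ArLef.NodeAlg B π ⧸ (ArLef.fixIdeal σ).colon ({ArLef.NodeAlg.t π ^ i₁ * ArLef.NodeAlg.e π ^ i₂} : Set (ArLef.NodeAlg B π))) =
      1 + ((j - i₁ : ℕ) : ℕ∞) * Module.length (ArLef.NodeAlg B π) (ArLef.NodeAlg B π ⧸ Ideal.span ({ArLef.NodeAlg.t π, b} : Set (ArLef.NodeAlg B π))) +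
        ((j - i₂ : ℕ) : ℕ∞) * Module.length (ArLef.NodeAlg B π) (ArLef.NodeAlg B π ⧸ Ideal.span ({ArLef.NodeAlg.e π, a} : Set (ArLef.NodeAlg B π))) := by
  have hp : Prime π := hπ.prime
  haveI : IsDomain (NodeAlg B π) := isDomain_nodeAlg hp
  have htp := prime_t hp
  have hep := prime_e hp
  set t := NodeAlg.t π with ht_def
  set e := NodeAlg.e π with he_def
  set P : NodeAlg B π := algebraMap B (NodeAlg B π) π with hP
  have hte : t * e = P := t_mul_e π
  have hPne : P ≠ 0 := by rw [← hte]; exact mul_ne_zero htp.ne_zero hep.ne_zero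
  obtain ⟨γu, rfl⟩ := hγ
  set G : NodeAlg B π := algebraMap B (NodeAlg B π) (γu : B) with hG
  have hGu : IsUnit G := (γu.isUnit).map (algebraMap B (NodeAlg B π))
  obtain ⟨k, rfl⟩ : ∃ k, j = k + 1 := ⟨j - 1, by omega⟩
  obtain ⟨n₁, hn₁⟩ : ∃ n₁, k = i₁ + n₁ := ⟨k - i₁, by omega⟩
  obtain ⟨n₂, hn₂⟩ : ∃ n₂, k = i₂ + n₂ := ⟨k - i₂, by omega⟩
  have hj1 : k + 1 - i₁ = n₁ + 1 := by omega
  have hj2 : k + 1 - i₂ = n₂ + 1 := by omega
  rw [hj1, hj2]
  set D : NodeAlg B π := t ^ i₁ * e ^ i₂ with hD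
  have hDne : D ≠ 0 := mul_ne_zero (pow_ne_zero _ htp.ne_zero) (pow_ne_zero _ hep.ne_zero)
  have hPkD : P ^ k = D * (t ^ n₁ * e ^ n₂) := by
    rw [← hte, mul_pow, hD]
    nth_rewrite 1 [hn₁]
    nth_rewrite 1 [hn₂]
    rw [pow_add, pow_add]; ring
  have hσP : σ P = P * (1 + G * P ^ k) := by
    rw [hP, hσπ, map_add, map_mul, map_pow, ← hP, ← hG, pow_succ]; ring
  have hαβ : (α : NodeAlg B π) * β = 1 + G * P ^ k := by
    have h1 : σ P = P * ((α : NodeAlg B π) * β) := by
      rw [← hte, map_mul, ht, he]; ring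
    exact mul_left_cancel₀ hPne (h1.symm.trans hσP)
  have hα : (α : NodeAlg B π) = 1 + D * a := by rw [← ha]; ring
  have hβ : (β : NodeAlg B π) = 1 + D * b := by rw [← hb]; ring
  -- a + b + D a b = G t^n₁ e^n₂
  have hrel : a + b + D * a * b = G * (t ^ n₁ * e ^ n₂) := by
    have : D * (a + b + D * a * b) = D * (G * (t ^ n₁ * e ^ n₂)) := by
      have h := hαβ
      rw [hα, hβ, hPkD] at h
      have h' : (1 + D * a) * (1 + D * b) - 1 = G * (D * (t ^ n₁ * e ^ n₂)) := by rw [h]; ring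
      rw [← sub_eq_zero] at h' ⊢
      rw [← h']; ring
    exact mul_left_cancel₀ hDne this
  have hb' : b * α = G * (t ^ n₁ * e ^ n₂) - a := by rw [hα, ← hrel]; ring
  have ha' : a * β = G * (t ^ n₁ * e ^ n₂) - b := by rw [hβ, ← hrel]; ring
  have h1 : σ t - t = D * (a * t) := by rw [ht, hα]; ring
  have h2' : σ e - e = D * (b * e) := by rw [he, hβ]; ring
  have hPk : P ^ (k + 1) = D * (t ^ (n₁ + 1) * e ^ (n₂ + 1)) := by
    rw [pow_succ, hPkD, ← hte]; ring
  -- the fixed ideal
  have hI : ArLef.fixIdeal σ = Ideal.span {D * (a * t), D * (b * e), P ^ (k + 1)} := by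
    apply le_antisymm
    · rw [ArLef.fixIdeal, Ideal.span_le]
      rintro _ ⟨r, rfl⟩
      refine node_fix hp (σ : NodeAlg B π →+* NodeAlg B π) _ ?_ ?_ ?_ r
      · intro c
        have := hσB c
        rw [Ideal.mem_span_singleton] at this
        obtain ⟨d, hd⟩ := this
        change σ _ - _ ∈ _
        rw [hd, map_pow]
        exact Ideal.mul_mem_right _ _ (Ideal.subset_span (Or.inr (Or.inr rfl)))
      · change σ t - _ ∈ _
        rw [h1]; exact Ideal.subset_span (by simp)
      · change σ e - _ ∈ _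
        rw [h2']; exact Ideal.subset_span (by simp)
    · rw [Ideal.span_le]
      rintro x (rfl | rfl | rfl)
      · rw [← h1]; exact Ideal.subset_span ⟨_, rfl⟩
      · rw [← h2']; exact Ideal.subset_span ⟨_, rfl⟩
      · have e1 : σ P - P ∈ ArLef.fixIdeal σ := Ideal.subset_span ⟨_, rfl⟩
        have e2 : σ P - P = G * P ^ (k + 1) := by rw [hσP, pow_succ]; ring
        obtain ⟨Gu, hGu'⟩ := hGu
        have : P ^ (k + 1) = ↑Gu⁻¹ * (σ P - P) := by
          rw [e2, ← hGu', ← mul_assoc, Units.inv_mul, one_mul]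
        rw [SetLike.mem_coe, this]
        exact Ideal.mul_mem_left _ _ e1
  -- colon by D
  have hcolD : (Ideal.span {D * (a * t), D * (b * e), P ^ (k + 1)}).colon ({D} : Set (NodeAlg B π)) =
      Ideal.span {a * t, b * e, t ^ (n₁ + 1) * e ^ (n₂ + 1)} := by
    ext x
    rw [Submodule.mem_colon_singleton, smul_eq_mul, mem_span_triple, mem_span_triple]
    constructor
    · rintro ⟨u, v, w, huvw⟩
      refine ⟨u, v, w, ?_⟩
      have : D * (u * (a * t) + v * (b * e) + w * (t ^ (n₁ + 1) * e ^ (n₂ + 1))) = D * x := by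
        rw [mul_comm D x, ← huvw, hPk]; ring
      exact mul_left_cancel₀ hDne this
    · rintro ⟨u, v, w, rfl⟩
      exact ⟨u, v, w, by rw [hPk]; ring⟩
  have hte' : ¬ t ∣ e := not_t_dvd_e hp
  have het' : ¬ e ∣ t := not_e_dvd_t hp
  -- I' + (t)
  have hsup : Ideal.span {a * t, b * e, t ^ (n₁ + 1) * e ^ (n₂ + 1)} ⊔ Ideal.span {t} =
      Ideal.span {t, e * b} := by
    apply le_antisymm
    · rw [sup_le_iff, Ideal.span_le, Ideal.span_le]
      refine ⟨?_, ?_⟩
      · rintro x (rfl | rfl | rfl)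
        · exact Ideal.mul_mem_left _ _ (Ideal.subset_span (by simp))
        · rw [mul_comm b e]; exact Ideal.subset_span (by simp)
        · have : t ^ (n₁ + 1) * e ^ (n₂ + 1) = (t ^ n₁ * e ^ (n₂ + 1)) * t := by ring
          rw [this]; exact Ideal.mul_mem_left _ _ (Ideal.subset_span (by simp))
      · rintro x rfl
        exact Ideal.subset_span (by simp)
    · rw [Ideal.span_le]
      rintro x (rfl | rfl)
      · exact Ideal.mem_sup_right (Ideal.mem_span_singleton_self _)
      · rw [mul_comm e b]; exact Ideal.mem_sup_left (Ideal.subset_span (by simp))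
  -- I' : t
  have hcolon : (Ideal.span {a * t, b * e, t ^ (n₁ + 1) * e ^ (n₂ + 1)}).colon
      ({t} : Set (NodeAlg B π)) = Ideal.span {a, t ^ n₁ * e ^ (n₂ + 1)} := by
    have hbe : b * e ∈ Ideal.span {a, t ^ n₁ * e ^ (n₂ + 1)} := by
      have : b * e = (- ↑α⁻¹ * e) * a + (↑α⁻¹ * G) * (t ^ n₁ * e ^ (n₂ + 1)) := by
        have h3 : b = ↑α⁻¹ * (b * α) := by
          rw [mul_comm b (α : NodeAlg B π), ← mul_assoc, Units.inv_mul, one_mul]
        rw [h3, hb']; ring
      rw [this]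
      exact Ideal.add_mem _ (Ideal.mul_mem_left _ _ (Ideal.subset_span (by simp)))
        (Ideal.mul_mem_left _ _ (Ideal.subset_span (by simp)))
    ext x
    rw [Submodule.mem_colon_singleton, smul_eq_mul, mem_span_triple]
    constructor
    · rintro ⟨u, v, w, huvw⟩
      have hd : t ∣ v * (b * e) := by
        refine ⟨x - u * a - w * (t ^ n₁ * e ^ (n₂ + 1)), ?_⟩
        have : v * (b * e) = x * t - u * (a * t) - w * (t ^ (n₁ + 1) * e ^ (n₂ + 1)) := by
          rw [← huvw]; ring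
        rw [this]; ring
      have hd' : t ∣ v := by
        rcases htp.dvd_or_dvd hd with h | h
        · exact h
        · rcases htp.dvd_or_dvd h with h | h
          · exact absurd h htb
          · exact absurd h hte'
      obtain ⟨v', rfl⟩ := hd'
      have hx : x = u * a + v' * (b * e) + w * (t ^ n₁ * e ^ (n₂ + 1)) := by
        have : t * x = t * (u * a + v' * (b * e) + w * (t ^ n₁ * e ^ (n₂ + 1))) := by
          rw [mul_comm t x, ← huvw]; ring
        exact mul_left_cancel₀ htp.ne_zero this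
      rw [hx]
      exact Ideal.add_mem _ (Ideal.add_mem _ (Ideal.mul_mem_left _ _ (Ideal.subset_span (by simp)))
        (Ideal.mul_mem_left _ _ hbe)) (Ideal.mul_mem_left _ _ (Ideal.subset_span (by simp)))
    · intro hx
      obtain ⟨c, d, rfl⟩ := Ideal.mem_span_pair.mp hx
      exact ⟨c, 0, d, by ring⟩
  -- length N/(t, e b)
  have hlen1 : Module.length (NodeAlg B π) (NodeAlg B π ⧸ Ideal.span {t, e * b}) =
      Module.length (NodeAlg B π) (NodeAlg B π ⧸ Ideal.span {t, b}) + 1 := by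
    rw [length_quot_pair_mul hep.ne_zero (fun u hu => (hep.dvd_or_dvd hu).resolve_left het') b,
      length_quot_t_e hp hπ.maximalIdeal_eq]
  -- length N/(a, t^n₁ e^(n₂+1))
  have hlen2 : Module.length (NodeAlg B π) (NodeAlg B π ⧸ Ideal.span {a, t ^ n₁ * e ^ (n₂ + 1)}) =
      (n₁ : ℕ∞) * Module.length (NodeAlg B π) (NodeAlg B π ⧸ Ideal.span {t, b}) +
      ((n₂ + 1 : ℕ) : ℕ∞) * Module.length (NodeAlg B π) (NodeAlg B π ⧸ Ideal.span {e, a}) := by
    rcases Nat.eq_zero_or_pos n₁ with rfl | hk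
    · rw [pow_zero, one_mul, Ideal.span_pair_comm, length_quot_pow_pair hep hea (n₂ + 1)]
      simp
    · have hPt : t ^ n₁ * e ^ n₂ ∈ Ideal.span {t} := by
        rw [Ideal.mem_span_singleton]
        exact Dvd.dvd.mul_right (dvd_pow_self t (by omega)) _
      have hta : ¬ t ∣ a := by
        intro hd
        apply htb
        have h3 : t ∣ b * α := by
          rw [hb']
          exact dvd_sub (Dvd.dvd.mul_left (Ideal.mem_span_singleton.mp hPt) _) hd
        rcases htp.dvd_or_dvd h3 with h | h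
        · exact h
        · exact absurd (isUnit_of_dvd_unit h α.isUnit) htp.not_unit
      have hspan : Ideal.span {t, a} = Ideal.span {t, b} := by
        have e1 : a = G * (t ^ n₁ * e ^ n₂) - b * α := by rw [hb']; ring
        have e2 : b = G * (t ^ n₁ * e ^ n₂) - a * β := by rw [ha']; ring
        apply le_antisymm
        · rw [Ideal.span_le]
          intro x hx
          rcases hx with hx | hx
          · rw [hx]; exact Ideal.subset_span (by simp)
          · rw [Set.mem_singleton_iff] at hx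
            rw [hx, SetLike.mem_coe, e1]
            refine Ideal.sub_mem _ (Ideal.mul_mem_left _ _ (Ideal.span_mono (by simp) hPt))
              (Ideal.mul_mem_right _ _ (Ideal.subset_span (by simp)))
        · rw [Ideal.span_le]
          intro x hx
          rcases hx with hx | hx
          · rw [hx]; exact Ideal.subset_span (by simp)
          · rw [Set.mem_singleton_iff] at hx
            rw [hx, SetLike.mem_coe, e2]
            refine Ideal.sub_mem _ (Ideal.mul_mem_left _ _ (Ideal.span_mono (by simp) hPt))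
              (Ideal.mul_mem_right _ _ (Ideal.subset_span (by simp)))
      rw [length_quot_pair_mul (pow_ne_zero n₁ htp.ne_zero)
        (fun u hu => dvd_of_pow_dvd_mul htp hta n₁ u hu) (e ^ (n₂ + 1)),
        Ideal.span_pair_comm (x := a) (y := e ^ (n₂ + 1)), Ideal.span_pair_comm (x := a) (y := t ^ n₁),
        length_quot_pow_pair hep hea (n₂ + 1), length_quot_pow_pair htp hta n₁, hspan, add_comm]
  rw [hI, hcolD, length_quot_eq_colon_add _ t, hsup, hcolon, hlen1, hlen2]
  push_cast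
  ring

end helpers

/-- In the cases where σ fixes the two branches through the point, these lie on different components,
and the second branch lies in the divisorial part of the fixed locus with multiplicity i₂ strictly
between 0 and j while the first has multiplicity i₁ ≤ i₂, let B be a discrete valuation ring with
uniformizer π, N = B[[t, e]]/(te - π) the complete local ring of a semi-stable arithmetic surface
over B at a singular point x of the closed fibre, and σ a ring automorphism of N with σ(π) = π + γ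
π^j (γ a unit of B, j ≥ 1) and σ(c) - c ∈ π^j N for all c ∈ B. Suppose σ(t) = α t and σ(e) = β e
with units α, β, and α - 1 = t^{i₁} e^{i₂} a, β - 1 = t^{i₁} e^{i₂} b with i₁ ≤ i₂, 0 < i₂ < j, e
not dividing a and t not dividing b. Then, I being the fixed-point ideal of σ, whose divisorial part
near x is t^{i₁} e^{i₂}, the residual fixed-point scheme with ideal (I : t^{i₁} e^{i₂}) has length 1
+ (j - i₁)·Leng N/(t, b) + (j - i₂)·Leng N/(e, a) at x; here Leng N/(t, b) + i₂ + 1 and Leng N/(e,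
a) + i₁ + 1 are the orders at x of the derivations σ induces on the two components (the fixed-point
multiplicities when the component is outside the divisorial part). -/
theorem result (B : Type u) [CommRing B] [IsDomain B] [IsDiscreteValuationRing B] (π : B) (hπ : Irreducible π)
    (j i₁ i₂ : ℕ) (h12 : i₁ ≤ i₂) (h2 : 0 < i₂) (h2j : i₂ < j) (γ : B) (hγ : IsUnit γ)
    (σ : ArLef.NodeAlg B π ≃+* ArLef.NodeAlg B π)
    (hσB : ∀ c : B, σ (algebraMap B (ArLef.NodeAlg B π) c) - algebraMap B (ArLef.NodeAlg B π) c ∈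
      Ideal.span ({algebraMap B (ArLef.NodeAlg B π) (π ^ j)} : Set (ArLef.NodeAlg B π)))
    (hσπ : σ (algebraMap B (ArLef.NodeAlg B π) π) = algebraMap B (ArLef.NodeAlg B π) (π + γ * π ^ j))
    (α β : (ArLef.NodeAlg B π)ˣ) (ht : σ (ArLef.NodeAlg.t π) = (α : ArLef.NodeAlg B π) * ArLef.NodeAlg.t π) (he : σ (ArLef.NodeAlg.e π) = (β : ArLef.NodeAlg B π) * ArLef.NodeAlg.e π)
    (a b : ArLef.NodeAlg B π) (ha : (α : ArLef.NodeAlg B π) - 1 = ArLef.NodeAlg.t π ^ i₁ * ArLef.NodeAlg.e π ^ i₂ * a) (hb : (β : ArLef.NodeAlg B π) - 1 = ArLef.NodeAlg.t π ^ i₁ * ArLef.NodeAlg.e π ^ i₂ * b)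
    (hea : ¬ (ArLef.NodeAlg.e π ∣ a)) (htb : ¬ (ArLef.NodeAlg.t π ∣ b)) :
    Module.length (ArLef.NodeAlg B π) (ArLef.NodeAlg B π ⧸ (ArLef.fixIdeal σ).colon ({ArLef.NodeAlg.t π ^ i₁ * ArLef.NodeAlg.e π ^ i₂} : Set (ArLef.NodeAlg B π))) =
      1 + ((j - i₁ : ℕ) : ℕ∞) * Module.length (ArLef.NodeAlg B π) (ArLef.NodeAlg B π ⧸ Ideal.span ({ArLef.NodeAlg.t π, b} : Set (ArLef.NodeAlg B π))) +
        ((j - i₂ : ℕ) : ℕ∞) * Module.length (ArLef.NodeAlg B π) (ArLef.NodeAlg B π ⧸ Ideal.span ({ArLef.NodeAlg.e π, a} : Set (ArLef.NodeAlg B π))) := by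
  exact main B π hπ j i₁ i₂ h12 h2 h2j γ hγ σ hσB hσπ α β ht he a b ha hb hea htb

end Groth.Agent.S19596
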