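import Groth.Statements.S19597
import Mathlib
import Groth.Agent.Lib.NodeAlgLen7
import Groth.Agent.Lib.LenPair7
import Groth.Agent.S15323

set_option autoImplicit false
universe u
open ArLef ArLef.NodeAlg

namespace Groth.Agent.S19597

section helpers

open Groth.Agent.Lib.NodeAlg7 Groth.Agent.Lib.ArLefSmooth7 Groth.Agent.Lib.LenPair7 ArLef
open Groth.Agent.S15323 (mem_span_triple)

theorem main (B : Type u) [CommRing B] [IsDomain B] [IsDiscreteValuationRing B] (π : B) (hπ : Irreducible π)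
    (j i₁ : ℕ) (h1 : i₁ < j) (γ : B) (hγ : IsUnit γ)
    (σ : ArLef.NodeAlg B π ≃+* ArLef.NodeAlg B π)
    (hσB : ∀ c : B, σ (algebraMap B (ArLef.NodeAlg B π) c) - algebraMap B (ArLef.NodeAlg B π) c ∈
      Ideal.span ({algebraMap B (ArLef.NodeAlg B π) (π ^ j)} : Set (ArLef.NodeAlg B π)))
    (hσπ : σ (algebraMap B (ArLef.NodeAlg B π) π) = algebraMap B (ArLef.NodeAlg B π) (π + γ * π ^ j))
    (α β : (ArLef.NodeAlg B π)ˣ) (ht : σ (ArLef.NodeAlg.t π) = (α : ArLef.NodeAlg B π) * ArLef.NodeAlg.t π) (he : σ (ArLef.NodeAlg.e π) = (β : ArLef.NodeAlg B π) * ArLef.NodeAlg.e π)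
    (a b : ArLef.NodeAlg B π) (ha : (α : ArLef.NodeAlg B π) - 1 = ArLef.NodeAlg.t π ^ i₁ * ArLef.NodeAlg.e π ^ j * a) (hb : (β : ArLef.NodeAlg B π) - 1 = ArLef.NodeAlg.t π ^ i₁ * ArLef.NodeAlg.e π ^ (j - 1) * b)
    (htb : ¬ (ArLef.NodeAlg.t π ∣ b)) :
    Module.length (ArLef.NodeAlg B π) (ArLef.NodeAlg B π ⧸ (ArLef.fixIdeal σ).colon ({ArLef.NodeAlg.t π ^ i₁ * ArLef.NodeAlg.e π ^ j} : Set (ArLef.NodeAlg B π))) + ((j - 1 - i₁ : ℕ) : ℕ∞) =
      ((j - i₁ : ℕ) : ℕ∞) * Module.length (ArLef.NodeAlg B π) (ArLef.NodeAlg B π ⧸ Ideal.span ({ArLef.NodeAlg.t π, b} : Set (ArLef.NodeAlg B π))) := by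
  have hp : Prime π := hπ.prime
  haveI : IsDomain (NodeAlg B π) := isDomain_nodeAlg hp
  have htp := prime_t hp
  have hep := prime_e hp
  set t := NodeAlg.t π with ht_def
  set e := NodeAlg.e π with he_def
  set P : NodeAlg B π := algebraMap B (NodeAlg B π) π with hP
  have hte : t * e = P := t_mul_e π
  have hPne : P ≠ 0 := by rw [← hte]; exact mul_ne_zero htp.ne_zero hep.ne_zero
  obtain ⟨γu, rfl⟩ := hγ
  set G : NodeAlg B π := algebraMap B (NodeAlg B π) (γu : B) with hG
  have hGu : IsUnit G := (γu.isUnit).map (algebraMap B (NodeAlg B π))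
  obtain ⟨Gu, hGu'⟩ := hGu
  obtain ⟨k, rfl⟩ : ∃ k, j = k + 1 := ⟨j - 1, by omega⟩
  obtain ⟨n, hn⟩ : ∃ n, k = i₁ + n := ⟨k - i₁, by omega⟩
  have hj1 : k + 1 - i₁ = n + 1 := by omega
  have hj2 : k + 1 - 1 - i₁ = n := by omega
  rw [hj1, hj2]
  rw [Nat.add_sub_cancel] at hb
  set D' : NodeAlg B π := t ^ i₁ * e ^ k with hD'
  set D : NodeAlg B π := t ^ i₁ * e ^ (k + 1) with hD
  have hDD' : D = D' * e := by rw [hD, hD', pow_succ]; ring
  have hD'ne : D' ≠ 0 := mul_ne_zero (pow_ne_zero _ htp.ne_zero) (pow_ne_zero _ hep.ne_zero)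
  have hDne : D ≠ 0 := mul_ne_zero (pow_ne_zero _ htp.ne_zero) (pow_ne_zero _ hep.ne_zero)
  have hPkD : P ^ k = D' * t ^ n := by
    rw [← hte, mul_pow, hD']
    nth_rewrite 1 [hn]
    rw [pow_add]; ring
  have hσP : σ P = P * (1 + G * P ^ k) := by
    rw [hP, hσπ, map_add, map_mul, map_pow, ← hP, ← hG, pow_succ]; ring
  have hαβ : (α : NodeAlg B π) * β = 1 + G * P ^ k := by
    have h1 : σ P = P * ((α : NodeAlg B π) * β) := by
      rw [← hte, map_mul, ht, he]; ring
    exact mul_left_cancel₀ hPne (h1.symm.trans hσP)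
  have hα : (α : NodeAlg B π) = 1 + D' * (e * a) := by
    have : (α : NodeAlg B π) = 1 + D * a := by rw [← ha]; ring
    rw [this, hDD']; ring
  have hβ : (β : NodeAlg B π) = 1 + D' * b := by rw [← hb]; ring
  -- e a + b + D' e a b = G t^n
  have hrel : e * a + b + D' * (e * a) * b = G * t ^ n := by
    have : D' * (e * a + b + D' * (e * a) * b) = D' * (G * t ^ n) := by
      have h := hαβ
      rw [hα, hβ, hPkD] at h
      have h' : (1 + D' * (e * a)) * (1 + D' * b) - 1 = G * (D' * t ^ n) := by rw [h]; ring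
      rw [← sub_eq_zero] at h' ⊢
      rw [← h']; ring
    exact mul_left_cancel₀ hD'ne this
  have hb' : b * α = G * t ^ n - e * a := by rw [hα, ← hrel]; ring
  have hGtn : G * t ^ n = b * α + e * a := by rw [hb']; ring
  have htn : t ^ n = ↑Gu⁻¹ * (b * α + e * a) := by
    rw [← hGtn, ← hGu', ← mul_assoc, Units.inv_mul, one_mul]
  have h1' : σ t - t = D * (a * t) := by rw [ht, hα, hDD']; ring
  have h2' : σ e - e = D * b := by rw [he, hβ, hDD']; ring
  have hPk : P ^ (k + 1) = D * t ^ (n + 1) := by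
    rw [pow_succ, hPkD, ← hte, hDD']; ring
  -- the fixed ideal
  have hI : ArLef.fixIdeal σ = Ideal.span {D * (a * t), D * b, P ^ (k + 1)} := by
    apply le_antisymm
    · rw [ArLef.fixIdeal, Ideal.span_le]
      rintro _ ⟨r, rfl⟩
      refine node_fix hp (σ : NodeAlg B π →+* NodeAlg B π) _ ?_ ?_ ?_ r
      · intro c
        have := hσB c
        rw [Ideal.mem_span_singleton] at this
        obtain ⟨d, hd⟩ := this
        change σ _ - _ ∈ _
        rw [hd, map_pow]
        exact Ideal.mul_mem_right _ _ (Ideal.subset_span (Or.inr (Or.inr rfl)))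
      · change σ t - _ ∈ _
        rw [h1']; exact Ideal.subset_span (by simp)
      · change σ e - _ ∈ _
        rw [h2']; exact Ideal.subset_span (by simp)
    · rw [Ideal.span_le]
      intro x hx
      rcases hx with hx | hx | hx
      · rw [hx, ← h1']; exact Ideal.subset_span ⟨_, rfl⟩
      · rw [hx, ← h2']; exact Ideal.subset_span ⟨_, rfl⟩
      · rw [Set.mem_singleton_iff] at hx
        have e1 : σ P - P ∈ ArLef.fixIdeal σ := Ideal.subset_span ⟨_, rfl⟩
        have e2 : σ P - P = G * P ^ (k + 1) := by rw [hσP, pow_succ]; ring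
        have : P ^ (k + 1) = ↑Gu⁻¹ * (σ P - P) := by
          rw [e2, ← hGu', ← mul_assoc, Units.inv_mul, one_mul]
        rw [hx, SetLike.mem_coe, this]
        exact Ideal.mul_mem_left _ _ e1
  -- colon by D
  have hcolD : (Ideal.span {D * (a * t), D * b, P ^ (k + 1)}).colon ({D} : Set (NodeAlg B π)) =
      Ideal.span {b, t * a} := by
    have htn1 : t ^ (n + 1) ∈ Ideal.span {b, t * a} := by
      have : t ^ (n + 1) = (↑Gu⁻¹ * α * t) * b + (↑Gu⁻¹ * e) * (t * a) := by
        rw [pow_succ, htn]; ring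
      rw [this]
      exact Ideal.add_mem _ (Ideal.mul_mem_left _ _ (Ideal.subset_span (by simp)))
        (Ideal.mul_mem_left _ _ (Ideal.subset_span (by simp)))
    ext x
    rw [Submodule.mem_colon_singleton, smul_eq_mul, mem_span_triple]
    constructor
    · rintro ⟨u, v, w, huvw⟩
      have hx : x = u * (a * t) + v * b + w * t ^ (n + 1) := by
        have : D * x = D * (u * (a * t) + v * b + w * t ^ (n + 1)) := by
          rw [mul_comm D x, ← huvw, hPk]; ring
        exact mul_left_cancel₀ hDne this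
      rw [hx]
      refine Ideal.add_mem _ (Ideal.add_mem _ ?_ (Ideal.mul_mem_left _ _ (Ideal.subset_span (by simp))))
        (Ideal.mul_mem_left _ _ htn1)
      rw [mul_comm a t]
      exact Ideal.mul_mem_left _ _ (Ideal.subset_span (by simp))
    · intro hx
      obtain ⟨c, d, rfl⟩ := Ideal.mem_span_pair.mp hx
      exact ⟨d, c, 0, by ring⟩
  have hte' : ¬ t ∣ e := not_t_dvd_e hp
  have het' : ¬ e ∣ t := not_e_dvd_t hp
  have heb : ¬ e ∣ b := by
    intro hd
    have h3 : e ∣ G * t ^ n := by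
      rw [hGtn]
      exact dvd_add (Dvd.dvd.mul_right hd _) (Dvd.intro _ rfl)
    have h4 : e ∣ t ^ n := by
      rcases hep.dvd_or_dvd h3 with h | h
      · exact absurd (isUnit_of_dvd_unit h (hGu' ▸ Gu.isUnit)) hep.not_unit
      · exact h
    exact het' (hep.dvd_of_dvd_pow h4)
  -- E2
  have E2 : Module.length (NodeAlg B π) (NodeAlg B π ⧸ Ideal.span {b, t * a}) =
      Module.length (NodeAlg B π) (NodeAlg B π ⧸ Ideal.span {b, a}) +
      Module.length (NodeAlg B π) (NodeAlg B π ⧸ Ideal.span {t, b}) := by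
    rw [length_quot_pair_mul htp.ne_zero (fun u hu => (htp.dvd_or_dvd hu).resolve_left htb) a,
      Ideal.span_pair_comm (x := b) (y := t)]
  -- E1
  have hsp1 : Ideal.span {b, e * a} = Ideal.span {t ^ n, b} := by
    apply le_antisymm
    · rw [Ideal.span_le]
      intro x hx
      rcases hx with hx | hx
      · rw [hx]; exact Ideal.subset_span (by simp)
      · rw [Set.mem_singleton_iff] at hx
        have : e * a = G * t ^ n - α * b := by rw [hGtn]; ring
        rw [hx, SetLike.mem_coe, this]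
        exact Ideal.sub_mem _ (Ideal.mul_mem_left _ _ (Ideal.subset_span (by simp)))
          (Ideal.mul_mem_left _ _ (Ideal.subset_span (by simp)))
    · rw [Ideal.span_le]
      intro x hx
      rcases hx with hx | hx
      · have : t ^ n = (↑Gu⁻¹ * α) * b + ↑Gu⁻¹ * (e * a) := by rw [htn]; ring
        rw [hx, SetLike.mem_coe, this]
        exact Ideal.add_mem _ (Ideal.mul_mem_left _ _ (Ideal.subset_span (by simp)))
          (Ideal.mul_mem_left _ _ (Ideal.subset_span (by simp)))
      · rw [Set.mem_singleton_iff] at hx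
        rw [hx]; exact Ideal.subset_span (by simp)
  have hsp2 : Ideal.span {b, e} = Ideal.span {t ^ n, e} := by
    apply le_antisymm
    · rw [Ideal.span_le]
      intro x hx
      rcases hx with hx | hx
      · have : b = (↑α⁻¹ * G) * t ^ n + (- ↑α⁻¹ * a) * e := by
          have h3 : b = ↑α⁻¹ * (b * α) := by
            rw [mul_comm b (α : NodeAlg B π), ← mul_assoc, Units.inv_mul, one_mul]
          rw [h3, hb']; ring
        rw [hx, SetLike.mem_coe, this]
        exact Ideal.add_mem _ (Ideal.mul_mem_left _ _ (Ideal.subset_span (by simp)))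
          (Ideal.mul_mem_left _ _ (Ideal.subset_span (by simp)))
      · rw [Set.mem_singleton_iff] at hx
        rw [hx]; exact Ideal.subset_span (by simp)
    · rw [Ideal.span_le]
      intro x hx
      rcases hx with hx | hx
      · have : t ^ n = (↑Gu⁻¹ * α) * b + (↑Gu⁻¹ * a) * e := by rw [htn]; ring
        rw [hx, SetLike.mem_coe, this]
        exact Ideal.add_mem _ (Ideal.mul_mem_left _ _ (Ideal.subset_span (by simp)))
          (Ideal.mul_mem_left _ _ (Ideal.subset_span (by simp)))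
      · rw [Set.mem_singleton_iff] at hx
        rw [hx]; exact Ideal.subset_span (by simp)
  have E1 : (n : ℕ∞) * Module.length (NodeAlg B π) (NodeAlg B π ⧸ Ideal.span {t, b}) =
      Module.length (NodeAlg B π) (NodeAlg B π ⧸ Ideal.span {b, a}) + n := by
    have h3 := length_quot_pair_mul hep.ne_zero (fun u hu => (hep.dvd_or_dvd hu).resolve_left heb) a
    rw [hsp1, hsp2, length_quot_pow_pair htp htb n, length_quot_pow_pair htp hte' n,
      length_quot_t_e hp hπ.maximalIdeal_eq, mul_one] at h3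
    exact h3
  rw [hI, hcolD, E2, add_right_comm, ← E1]
  push_cast
  ring

end helpers

/-- In the cases where σ fixes the two branches through the point, these lie on different components,
the second lies in the divisorial part of the fixed locus with the maximal multiplicity j and the
first with multiplicity i₁ < j, let B be a discrete valuation ring with uniformizer π, N = B[[t,
e]]/(te - π) the complete local ring of a semi-stable arithmetic surface over B at a singular point
x of the closed fibre, and σ a ring automorphism of N with σ(π) = π + γ π^j (γ a unit of B, j ≥ 1)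
and σ(c) - c ∈ π^j N for all c ∈ B. Suppose σ(t) = α t and σ(e) = β e with units α, β, that α - 1 =
t^{i₁} e^j a and β - 1 = t^{i₁} e^{j-1} b with i₁ < j and t not dividing b. Then, I being the
fixed-point ideal of σ, whose divisorial part near x is t^{i₁} e^j, the length l of the residual
fixed-point scheme with ideal (I : t^{i₁} e^j) satisfies l + (j - 1 - i₁) = (j - i₁)·Leng N/(t, b);
for i₁ = 0, Leng N/(t, b) + j is the fixed-point multiplicity s₁ of σ at x on the first component
and l = j (s₁ - j - 1) + 1. -/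
theorem result (B : Type u) [CommRing B] [IsDomain B] [IsDiscreteValuationRing B] (π : B) (hπ : Irreducible π)
    (j i₁ : ℕ) (h1 : i₁ < j) (γ : B) (hγ : IsUnit γ)
    (σ : ArLef.NodeAlg B π ≃+* ArLef.NodeAlg B π)
    (hσB : ∀ c : B, σ (algebraMap B (ArLef.NodeAlg B π) c) - algebraMap B (ArLef.NodeAlg B π) c ∈
      Ideal.span ({algebraMap B (ArLef.NodeAlg B π) (π ^ j)} : Set (ArLef.NodeAlg B π)))
    (hσπ : σ (algebraMap B (ArLef.NodeAlg B π) π) = algebraMap B (ArLef.NodeAlg B π) (π + γ * π ^ j))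
    (α β : (ArLef.NodeAlg B π)ˣ) (ht : σ (ArLef.NodeAlg.t π) = (α : ArLef.NodeAlg B π) * ArLef.NodeAlg.t π) (he : σ (ArLef.NodeAlg.e π) = (β : ArLef.NodeAlg B π) * ArLef.NodeAlg.e π)
    (a b : ArLef.NodeAlg B π) (ha : (α : ArLef.NodeAlg B π) - 1 = ArLef.NodeAlg.t π ^ i₁ * ArLef.NodeAlg.e π ^ j * a) (hb : (β : ArLef.NodeAlg B π) - 1 = ArLef.NodeAlg.t π ^ i₁ * ArLef.NodeAlg.e π ^ (j - 1) * b)
    (htb : ¬ (ArLef.NodeAlg.t π ∣ b)) :
    Module.length (ArLef.NodeAlg B π) (ArLef.NodeAlg B π ⧸ (ArLef.fixIdeal σ).colon ({ArLef.NodeAlg.t π ^ i₁ * ArLef.NodeAlg.e π ^ j} : Set (ArLef.NodeAlg B π))) + ((j - 1 - i₁ : ℕ) : ℕ∞) =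
      ((j - i₁ : ℕ) : ℕ∞) * Module.length (ArLef.NodeAlg B π) (ArLef.NodeAlg B π ⧸ Ideal.span ({ArLef.NodeAlg.t π, b} : Set (ArLef.NodeAlg B π))) := by
  exact main B π hπ j i₁ h1 γ hγ σ hσB hσπ α β ht he a b ha hb htb

end Groth.Agent.S19597
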