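import Groth.Statements.S19603
import Groth.Agent.Lib.GLinGrading38

set_option autoImplicit false
universe u
open GIT

namespace Groth.Agent.S19603

/-- For the whole projective space U = P(V), let k be an algebraically closed field of arbitrary
characteristic and G = Spec A a linearly reductive affine algebraic group acting linearly on affine
ι-space, and let v be a vector. Then some invariant homogeneous polynomial of positive degree is
non-zero at v (the point of v is semistable) if and only if the origin is not in the closure of the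
orbit of v. -/
theorem result (k : Type u) [Field k] [IsAlgClosed k]
    (A : Type u) [CommRing A] [HopfAlgebra k A] [Algebra.FiniteType k A] (hG : HopfRep.IsLinearlyReductive k A)
    (ι : Type u) [Fintype ι] [HopfRep.Comod k A (MvPolynomial ι k)] [GLin.IsCoactAlg k A (MvPolynomial ι k)]
    (hlin : GLin.IsLinear k A ι) (v : ι → k) :
    GLin.IsSemistableVec k A v ↔
      ¬ GLin.InOrbitClosure k A (GLin.vecPt k ι v) (GLin.vecPt k ι (fun _ => (0 : k))) := by
  classical
  set x : MvPolynomial ι k →ₐ[k] k := GLin.vecPt k ι v with hx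
  set o : MvPolynomial ι k →ₐ[k] k := GLin.vecPt k ι (fun _ : ι => (0 : k)) with ho
  have hxeval : ∀ F : MvPolynomial ι k, x F = MvPolynomial.eval v F := fun F =>
    congrFun (MvPolynomial.aeval_eq_eval (f := v)) F
  have ho0 : ∀ F : MvPolynomial ι k, o F = MvPolynomial.coeff 0 F := by
    intro F
    show MvPolynomial.aeval (fun _ : ι => (0 : k)) F = _
    rw [MvPolynomial.aeval_zero', MvPolynomial.constantCoeff_eq]
    rfl
  constructor
  · intro hss hcl
    apply hss
    intro F hF d hd hhom
    have horb : GLin.orbitHom k A x F = algebraMap k A (x F) := by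
      rw [Groth.Agent.Lib.GLinGrading38.orbitHom_apply, (GLin.mem_invariants_iff k A _ F).1 hF]
      simp [Algebra.algebraMap_eq_smul_one]
    have hG : F - MvPolynomial.C (x F) ∈ RingHom.ker (GLin.orbitHom k A x) := by
      rw [RingHom.mem_ker, map_sub, horb]
      have : GLin.orbitHom k A x (MvPolynomial.C (x F)) = algebraMap k A (x F) := by
        rw [← MvPolynomial.algebraMap_eq, AlgHom.commutes]
      rw [this, sub_self]
    have h0 := hcl hG
    rw [RingHom.mem_ker, map_sub, ho0, ho0, MvPolynomial.coeff_C, if_pos rfl] at h0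
    have hc0 : MvPolynomial.coeff 0 F = 0 := by
      apply hhom.coeff_eq_zero
      simp only [map_zero]
      omega
    rw [hc0, zero_sub, neg_eq_zero] at h0
    rw [← hxeval, h0]
  · intro hncl
    rw [GLin.InOrbitClosure, SetLike.not_le_iff_exists] at hncl
    obtain ⟨f, hf, hf0⟩ := hncl
    rw [RingHom.mem_ker] at hf hf0
    set c : k := o f with hc
    have hcne : c ≠ 0 := hf0
    obtain ⟨E, hE⟩ := Groth.Agent.Lib.Reynolds38.exists_isReynolds hG (MvPolynomial ι k)
    set f' : MvPolynomial ι k := c⁻¹ • f with hf'
    have hf'orb : f' ∈ LinearMap.ker (GLin.orbitHom k A x).toLinearMap := by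
      rw [LinearMap.mem_ker, AlgHom.toLinearMap_apply, hf', map_smul, hf, smul_zero]
    have hf'o : (1 - f') ∈ LinearMap.ker o.toLinearMap := by
      rw [LinearMap.mem_ker, AlgHom.toLinearMap_apply, map_sub, map_one, hf', map_smul, ← hc,
        smul_eq_mul, inv_mul_cancel₀ hcne, sub_self]
    have h1 : E 1 = 1 := (hE.2.2 1).2 (Subalgebra.one_mem (GLin.invariants k A (MvPolynomial ι k)))
    have hsum : E (1 - f') + E f' = 1 := by rw [← map_add, sub_add_cancel, h1]
    have hf2 : E f' ∈ LinearMap.ker (GLin.orbitHom k A x).toLinearMap :=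
      Groth.Agent.Lib.Reynolds38.IsReynolds.apply_mem_of_isSubcomod hG hE
        (Groth.Agent.Lib.GLinGrading38.isSubcomod_ker_orbitHom x) hf'orb
    have hf1 : E (1 - f') ∈ LinearMap.ker o.toLinearMap :=
      Groth.Agent.Lib.Reynolds38.IsReynolds.apply_mem_of_isSubcomod hG hE
        (Groth.Agent.Lib.GLinGrading38.isSubcomod_ker_vecPt_zero hlin) hf'o
    have hx2 : x (E f') = 0 := by
      rw [← Groth.Agent.Lib.IsMu38.counit_orbitHom (A := A) x (E f')]
      rw [LinearMap.mem_ker, AlgHom.toLinearMap_apply] at hf2
      rw [hf2, map_zero]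
    set f₁ := E (1 - f') with hf₁
    have hx1 : x f₁ = 1 := by
      have := congrArg x hsum
      rw [map_add, hx2, add_zero, map_one] at this
      exact this
    have hinv : f₁ ∈ GLin.invariants k A (MvPolynomial ι k) := hE.apply_mem _
    have ho1 : MvPolynomial.coeff 0 f₁ = 0 := by
      rw [← ho0]
      exact LinearMap.mem_ker.1 hf1
    intro hnull
    have hzero : ∀ d : ℕ, x (MvPolynomial.homogeneousComponent d f₁) = 0 := by
      intro d
      rcases Nat.eq_zero_or_pos d with rfl | hd
      · rw [MvPolynomial.homogeneousComponent_zero, ho1, map_zero, map_zero]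
      · rw [hxeval]
        exact hnull _ (Groth.Agent.Lib.GLinGrading38.homogeneousComponent_mem_invariants hlin d hinv)
          d hd (MvPolynomial.homogeneousComponent_isHomogeneous d f₁)
    have : x f₁ = 0 := by
      rw [← MvPolynomial.sum_homogeneousComponent f₁, map_sum]
      exact Finset.sum_eq_zero fun d _ => hzero d
    rw [hx1] at this
    exact one_ne_zero this

end Groth.Agent.S19603
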