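import Groth.Statements.S19605
import Groth.Agent.Lib.H4GlobGen
import Groth.Agent.Lib.H4MumfordStep
-- import your own Groth.Agent.* helpers here

set_option autoImplicit false
universe u
open CategoryTheory CategoryTheory.Limits AlgebraicGeometry
open Variety

namespace Groth.Agent.S19605


open Groth.Agent.Lib.OXModTensor Groth.Agent.Lib.H78TensorGen Groth.Agent.Lib.H4TensorPair in
/-- if every global section of `M ⊗ N` is in the subgroup generated by pure tensors of global sections, the
sheafification map of the presheaf tensor product is surjective on global sections -/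
theorem surjective_toSheafify_of_closure {X : Scheme.{u}} (M N : X.Modules)
    (h : ∀ τ : Γ(CohB1.tensorMod M N, ⊤),
      τ ∈ AddSubgroup.closure {x | ∃ (a : Γ(M, ⊤)) (b : Γ(N, ⊤)), x = tmul a b}) :
    Function.Surjective
      ((toSheafify (Opens.grothendieckTopology X) (CohB1.tensorPre M N).presheaf).app (Opposite.op ⊤)) := by
  intro τ
  have h1 := toPresheaf_unitT M N
  have h2 : ((toSheafify (Opens.grothendieckTopology X) (CohB1.tensorPre M N).presheaf).app (Opposite.op ⊤)) =
      ((PresheafOfModules.toPresheaf _).map (unitT M N)).app (Opposite.op ⊤) := by rw [h1]; rfl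
  rw [h2]
  change ∃ a, ((unitT M N).app (Opposite.op ⊤)).hom a = τ
  refine AddSubgroup.closure_induction
    (p := fun x _ => ∃ a, ((unitT M N).app (Opposite.op ⊤)).hom a = x) ?_ ?_ ?_ ?_ (h τ)
  · rintro x ⟨a, b, rfl⟩
    exact ⟨ptmul a b, rfl⟩
  · exact ⟨0, map_zero _⟩
  · rintro x y _ _ ⟨a, ha⟩ ⟨b, hb⟩
    exact ⟨a + b, by rw [map_add, ha, hb]⟩
  · rintro x _ ⟨a, ha⟩
    exact ⟨-a, by rw [map_neg, ha]⟩

/-- Let F be an m-regular coherent module on projective n-space over a field k. Then for all integers d
≥ m and e ≥ 0 the multiplication map H^0(F(d)) ⊗_k H^0(O(e)) → H^0(F(d+e)) is surjective. The target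
is written as the global sections of F(d) ⊗ O(e) and the map as the canonical map from the global
sections of the sectionwise tensor product presheaf (these are H^0(F(d)) ⊗ H^0(O(e)), the tensor
being over the global functions, a field) to the global sections of its sheafification. -/
theorem result (k : Type u) [Field k] (n : ℕ)
    (F : (CohB1.ProjSpace n k).Modules) (hF : Coh.IsCoh F) (m d : ℤ) (hd : m ≤ d) (h : Curv2.IsMRegular k n F m)
    (e : ℕ) :
    Function.Surjective
      ((toSheafify (Opens.grothendieckTopology (CohB1.ProjSpace n k))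
        (CohB1.tensorPre (CohB1.tensorMod F (Twist.twistProjSpace n k d))
          (Twist.twistProjSpace n k (e : ℤ))).presheaf).app (Opposite.op ⊤)) := by
  refine surjective_toSheafify_of_closure _ _ fun τ => ?_
  refine Groth.Agent.Lib.H4GlobGen.mem_closure_tmul n k
    (CohB1.tensorMod F (Twist.twistProjSpace n k d)) ?_ e τ
  intro t i hi1 hin
  obtain ⟨u⟩ := Groth.Agent.Lib.H4MulSurj.nonempty_twist_twist n k F d ((t : ℤ) - (i : ℤ)) (d + (t : ℤ) - (i : ℤ)) (by ring)
  have hs := Groth.Agent.Lib.H4MumfordStep.subsingleton_of_isMRegular hF h i (d + (t : ℤ) - (i : ℤ)) hi1 (by omega)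
  exact @Groth.Agent.Lib.H4Twist.subsingleton_HH_of_iso _ _ _ u i hs

end Groth.Agent.S19605
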