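import Groth.Statements.S19609

set_option autoImplicit false
universe u
open CartMod

namespace Groth.Agent.S19609

lemma mem_span_pow_iff {R : Type*} [CommRing R] (r x : R) (n : ℕ) :
    x ∈ (Ideal.span {r}) ^ n ↔ r ^ n ∣ x := by
  rw [Ideal.span_singleton_pow, Ideal.mem_span_singleton]

lemma smodEq_iff {R : Type*} [CommRing R] (r x y : R) (n : ℕ) :
    x ≡ y [SMOD ((Ideal.span {r}) ^ n • ⊤ : Submodule R R)] ↔ r ^ n ∣ x - y := by
  rw [SModEq.sub_mem, smul_eq_mul, Ideal.mul_top, mem_span_pow_iff]

/-- Let p be a prime and u : A → B a ring homomorphism between commutative rings which are complete and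
separated for the p-adic topology and have no p-torsion (flat over the p-adic base). If u induces a
bijection A/pA → B/pB (injectivity: u a ∈ pB forces a ∈ pA; surjectivity: every b ∈ B is congruent
to some u a modulo pB), then u is bijective. (The published statement is for a morphism of flat
p-adic formal schemes over the Witt vectors of a perfect field: if its special fibre is an
isomorphism, so is the morphism; this row is its affine, ring-level case.) -/
theorem result (p : ℕ) [Fact p.Prime]
    {A B : Type u} [CommRing A] [CommRing B]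
    [IsAdicComplete (Ideal.span {(p : A)}) A] [IsAdicComplete (Ideal.span {(p : B)}) B]
    (hA : IsSMulRegular A (p : A)) (hB : IsSMulRegular B (p : B)) (u : A →+* B)
    (hinj : ∀ a : A, u a ∈ Ideal.span {(p : B)} → a ∈ Ideal.span {(p : A)})
    (hsurj : ∀ b : B, ∃ a : A, b - u a ∈ Ideal.span {(p : B)}) :
    Function.Bijective u := by
  have hHA : IsHausdorff (Ideal.span {(p : A)}) A := inferInstance
  have hHB : IsHausdorff (Ideal.span {(p : B)}) B := inferInstance
  have hPA : IsPrecomplete (Ideal.span {(p : A)}) A := inferInstance
  constructor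
  · -- injectivity
    rw [injective_iff_map_eq_zero]
    have key : ∀ n : ℕ, ∀ a : A, u a = 0 → (p : A) ^ n ∣ a := by
      intro n
      induction n with
      | zero => intro a _; simp
      | succ n ih =>
        intro a ha
        have h1 : a ∈ Ideal.span {(p : A)} := hinj a (by rw [ha]; exact Submodule.zero_mem _)
        obtain ⟨a', rfl⟩ := Ideal.mem_span_singleton.1 h1
        have h2 : u a' = 0 := by
          apply hB
          change (p : B) • u a' = (p : B) • (0 : B)
          rw [smul_eq_mul, smul_eq_mul, mul_zero]
          rw [map_mul, map_natCast] at ha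
          exact ha
        obtain ⟨c, rfl⟩ := ih a' h2
        exact ⟨c, by ring⟩
    intro a ha
    refine hHA.haus a fun n => ?_
    rw [smodEq_iff, sub_zero]
    exact key n a ha
  · -- surjectivity
    intro b
    have hstep : ∀ b : B, ∃ ab : A × B, b - u ab.1 = (p : B) * ab.2 := by
      intro b
      obtain ⟨a, ha⟩ := hsurj b
      obtain ⟨b', hb'⟩ := Ideal.mem_span_singleton.1 ha
      exact ⟨(a, b'), hb'⟩
    choose step hstep using hstep
    let bs : ℕ → B := fun n => Nat.rec b (fun _ x => (step x).2) n
    let as : ℕ → A := fun n => (step (bs n)).1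
    have hbs : ∀ n, bs n - u (as n) = (p : B) * bs (n + 1) := fun n => hstep (bs n)
    let s : ℕ → A := fun n => ∑ i ∈ Finset.range n, (p : A) ^ i * as i
    have hs : ∀ n, b - u (s n) = (p : B) ^ n * bs n := by
      intro n
      induction n with
      | zero => simp [s, bs]
      | succ n ih =>
        have h1 : s (n + 1) = s n + (p : A) ^ n * as n := Finset.sum_range_succ _ _
        rw [h1, map_add, map_mul, map_pow, map_natCast, pow_succ, mul_assoc, ← hbs n, mul_sub,
          ← ih]
        ring
    have hcauchy : ∀ {m n : ℕ}, m ≤ n →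
        s m ≡ s n [SMOD ((Ideal.span {(p : A)}) ^ m • ⊤ : Submodule A A)] := by
      intro m n hmn
      rw [smodEq_iff]
      have h1 : s n = s m + ∑ i ∈ Finset.Ico m n, (p : A) ^ i * as i := by
        simp only [s]
        rw [Finset.range_eq_Ico, Finset.range_eq_Ico,
          Finset.sum_Ico_consecutive _ (Nat.zero_le m) hmn]
      rw [h1, sub_add_cancel_left]
      refine (dvd_neg).2 (Finset.dvd_sum fun i hi => ?_)
      exact Dvd.dvd.mul_right (pow_dvd_pow _ (Finset.mem_Ico.1 hi).1) _
    obtain ⟨L, hL⟩ := hPA.prec' s hcauchy
    refine ⟨L, ?_⟩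
    have h0 : u L - b = 0 := by
      refine hHB.haus _ fun n => ?_
      rw [smodEq_iff, sub_zero]
      have h2 := (smodEq_iff (p : A) (s n) L n).1 (hL n)
      obtain ⟨c, hc⟩ := h2
      have h3 : u L - b = -((p : B) ^ n * bs n) - (p : B) ^ n * u c := by
        have : u (s n) - u L = (p : B) ^ n * u c := by
          rw [← map_sub, hc, map_mul, map_pow, map_natCast]
        rw [← hs n, ← this]
        ring
      rw [h3]
      exact dvd_sub ((dvd_neg).2 (dvd_mul_right _ _)) (dvd_mul_right _ _)
    exact sub_eq_zero.1 h0

end Groth.Agent.S19609
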