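import Groth.Statements.S1961
import Groth.Agent.Lib.SqZeroHenselLocal

set_option autoImplicit false
universe u
open EtAlg
open Groth.Agent.Lib.SqZeroHenselLocal

namespace Groth.Agent.S1961

/-- A henselization S of a local ring R (characterized by its universal property) is formally étale over
R. -/
theorem result (R S : Type u) [CommRing R] [IsLocalRing R] [CommRing S] [IsLocalRing S]
    [Algebra R S] [IsLocalHom (algebraMap R S)] [Hensel.IsHenselization R S] : Algebra.FormallyEtale R S := by
  have hS : HenselianLocalRing S := Hensel.IsHenselization.henselian R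
  rw [Algebra.FormallyEtale.iff_comp_bijective]
  intro B _ _ I hI
  have key : ∀ g : S →ₐ[R] B ⧸ I, ∃! ψ : S →ₐ[R] B, (Ideal.Quotient.mkₐ R I).comp ψ = g := by
    intro g
    let T := fibreRing I g.toRingHom
    have hT : HenselianLocalRing T := fibreRing_henselianLocalRing I g.toRingHom hI
    have hcompat : g.toRingHom.comp (algebraMap R S) =
        (Ideal.Quotient.mk I).comp (algebraMap R B) := by
      ext r
      simp
    let f : R →+* T := fibreLift I g.toRingHom (algebraMap R S) (algebraMap R B) hcompat
    have hπ : IsLocalHom (fibreFst I g.toRingHom) := fibreFst_isLocalHom I g.toRingHom hI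
    have hf : IsLocalHom f := by
      refine ⟨fun r hr => ?_⟩
      have : IsUnit (fibreFst I g.toRingHom (f r)) := hr.map _
      exact isUnit_of_map_unit (algebraMap R S) r this
    obtain ⟨φ, hφ, hφuniq⟩ := Hensel.IsHenselization.universal (R := R) (S := S) T f hf
    obtain ⟨e, he, heuniq⟩ := Hensel.IsHenselization.universal (R := R) (S := S) S (algebraMap R S)
      inferInstance
    have hid : (fibreFst I g.toRingHom).comp φ = RingHom.id S := by
      rw [heuniq ((fibreFst I g.toRingHom).comp φ), heuniq (RingHom.id S)]
      · rfl
      · show ((fibreFst I g.toRingHom).comp φ).comp (algebraMap R S) = algebraMap R S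
        rw [RingHom.comp_assoc, hφ]; rfl
    have hid' : ∀ s, fibreFst I g.toRingHom (φ s) = s := fun s => congrArg (fun k => k s) hid
    -- the lift
    let ψ : S →ₐ[R] B :=
      { ((fibreSnd I g.toRingHom).comp φ) with
        commutes' := fun r => by
          have : φ (algebraMap R S r) = f r := congrArg (fun k => k r) hφ
          show fibreSnd I g.toRingHom (φ (algebraMap R S r)) = algebraMap R B r
          rw [this]; rfl }
    refine ⟨ψ, ?_, ?_⟩
    · ext s
      show Ideal.Quotient.mk I (fibreSnd I g.toRingHom (φ s)) = g s
      rw [← fibre_compat, hid']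
      rfl
    · intro ψ' hψ'
      have hc' : g.toRingHom.comp (RingHom.id S) = (Ideal.Quotient.mk I).comp ψ'.toRingHom := by
        ext s
        have := congrArg (fun k => k s) hψ'
        exact this.symm
      let φ' : S →+* T := fibreLift I g.toRingHom (RingHom.id S) ψ'.toRingHom hc'
      have hφ' : φ' = φ := by
        apply hφuniq
        ext r
        · rfl
        · show ψ' (algebraMap R S r) = algebraMap R B r
          exact ψ'.commutes r
      ext s
      show ψ' s = fibreSnd I g.toRingHom (φ s)
      rw [← hφ']
      rfl
  constructor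
  · intro ψ₁ ψ₂ h
    obtain ⟨ψ, _, hψ⟩ := key ((Ideal.Quotient.mkₐ R I).comp ψ₁)
    rw [hψ ψ₁ rfl, hψ ψ₂ h.symm]
  · intro g
    obtain ⟨ψ, hψ, _⟩ := key g
    exact ⟨ψ, hψ⟩

end Groth.Agent.S1961
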