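import Groth.Statements.S19610
import Groth.Agent.Lib.FlatCrit

set_option autoImplicit false
universe u
open scoped TensorProduct
open CartMod

namespace Groth.Agent.S19610

/-- Let p be a prime and B a commutative algebra over the commutative ring A, both complete and
separated for the p-adic topology and both without p-torsion (flat over the p-adic base). If B/pB is
flat over A/pA, then B/p^nB is flat over A/p^nA for every n ≥ 1 (the quotients are written as base
changes (A/p^n) ⊗_A B). (The published statement is for a morphism of flat p-adic formal schemes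
over the Witt vectors of a perfect field: if its special fibre is flat, so are the induced morphisms
of schemes modulo every power of p; this row is its affine, ring-level case.) -/
theorem result (p : ℕ) [Fact p.Prime]
    {A B : Type u} [CommRing A] [CommRing B] [Algebra A B]
    [IsAdicComplete (Ideal.span {(p : A)}) A] [IsAdicComplete (Ideal.span {(p : B)}) B]
    (hA : IsSMulRegular A (p : A)) (hB : IsSMulRegular B (p : B))
    (h : Module.Flat (A ⧸ Ideal.span {(p : A)}) ((A ⧸ Ideal.span {(p : A)}) ⊗[A] B))
    (n : ℕ) (hn : 1 ≤ n) :
    Module.Flat (A ⧸ (Ideal.span {(p : A)} ^ n)) ((A ⧸ (Ideal.span {(p : A)} ^ n)) ⊗[A] B) := by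
  have h1 : Groth.Agent.Lib.FlatCrit.Tor1Zero A (A ⧸ Ideal.span {(p : A)}) B := by
    rw [Groth.Agent.Lib.FlatCrit.tor1Zero_quotient_iff, injective_iff_map_eq_zero]
    intro x hx
    have hform : ∀ x : (Ideal.span {(p : A)} : Ideal A) ⊗[A] B, ∃ b : B,
        x = (⟨(p : A), Ideal.mem_span_singleton_self _⟩ :
          (Ideal.span {(p : A)} : Ideal A)) ⊗ₜ[A] b := by
      intro x
      induction x with
      | zero => exact ⟨0, by simp⟩
      | tmul a m =>
        obtain ⟨c, hc⟩ := Ideal.mem_span_singleton'.mp a.2
        refine ⟨c • m, ?_⟩
        rw [TensorProduct.tmul_smul, TensorProduct.smul_tmul']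
        congr 1
        exact Subtype.ext (by simp [hc])
      | add x y hx hy =>
        obtain ⟨m, rfl⟩ := hx
        obtain ⟨m', rfl⟩ := hy
        exact ⟨m + m', by rw [TensorProduct.tmul_add]⟩
    obtain ⟨b, rfl⟩ := hform x
    rw [LinearMap.rTensor_tmul] at hx
    have hpb : (p : A) • b = 0 := by
      have := congrArg (TensorProduct.lid A B) hx
      simpa using this
    have h2 : (p : B) * b = 0 := by
      rw [← hpb, Algebra.smul_def, map_natCast]
    have hb : b = 0 := hB (by simpa using h2)
    rw [hb, TensorProduct.tmul_zero]
  exact Groth.Agent.Lib.FlatCrit.flat_quotient_pow_of_tor1Zero _ h1 n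

end Groth.Agent.S19610
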