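import Groth.Statements.S19611
import Groth.Agent.Lib.LieSEpi
import Groth.Agent.S14929
import Groth.Agent.Lib.UnivHomeo

set_option autoImplicit false
universe u
open CategoryTheory AlgebraicGeometry
open CartMod

namespace Groth.Agent.S19611

open AlgebraicGeometry CategoryTheory in
theorem toImage_app_injective' {X Y : Scheme.{u}} (f : X ⟶ Y) [QuasiCompact f]
    (V : f.image.Opens) : Function.Injective (f.toImage.app V) := by
  rw [injective_iff_map_eq_zero]
  intro s hs
  refine f.image.IsSheaf.section_ext fun x hx ↦ ?_
  obtain ⟨_, ⟨_, ⟨U, hU, rfl⟩, rfl⟩, hxU, hUV⟩ :=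
    (Y.isBasis_affineOpens.of_isInducing
      f.imageι.isEmbedding.isInducing).exists_subset_of_mem_open hx V.isOpen
  refine ⟨f.imageι ⁻¹ᵁ U, hUV, hxU, ?_⟩
  apply f.toImage_app_injective ⟨U, hU⟩
  rw [map_zero, map_zero]
  rw [← ConcreteCategory.comp_apply, f.toImage.naturality]
  simp [hs]

/-- For a prime p and a scheme Y of characteristic p, write Y♭ for the scheme-theoretic image of the
absolute Frobenius F_Y : Y → Y, i.e. the closed subscheme of Y defined by the sections of O_Y whose
p-th power vanishes, and Y → Y♭ for the canonical morphism through which F_Y factors. Then Y → Y♭ is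
an epimorphism of schemes: two morphisms g₁, g₂ from Y♭ to a scheme Z with equal composites Y → Y♭ →
Z are equal. (The published statement is for k-morphisms g₁, g₂ from Y♭ to a k-scheme Z over a
perfect field k of characteristic p, compared after Frobenius twist through Y → (Y♭)'; this row asks
right-cancellation against morphisms to every scheme Z, which is equivalent to it for k-morphisms.) -/
theorem result (p : ℕ) [Fact p.Prime] (Y : Scheme.{u}) [FrobSch.IsCharP Y p] :
    Epi (FrobSch.frob Y p).toImage := by
  have h := Groth.Agent.S14929.result p Y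
  have hs : Surjective (FrobSch.frob Y p) := Groth.Agent.Lib.UnivHomeo.surjective h.1
  have hqc : QuasiCompact (FrobSch.frob Y p) := Groth.Agent.Lib.UnivHomeo.quasiCompact h.1
  apply Groth.Agent.Lib.LieSEpi.epi_of_surjective_of_app_injective
  · intro z
    obtain ⟨y, hy⟩ := hs.surj ((FrobSch.frob Y p).imageι z)
    refine ⟨y, ?_⟩
    apply (FrobSch.frob Y p).imageι.isEmbedding.injective
    rw [← hy]
    have := congrArg (fun g : Y ⟶ Y => g y) (FrobSch.frob Y p).toImage_imageι
    exact this
  · intro V
    exact toImage_app_injective' _ V

end Groth.Agent.S19611
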