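import Groth.Statements.S19612
import Mathlib.RingTheory.Flat.EquationalCriterion
import Mathlib.RingTheory.Flat.TorsionFree
import Mathlib.LinearAlgebra.TensorProduct.Quotient
import Mathlib.RingTheory.WittVector.DiscreteValuationRing

set_option autoImplicit false
universe u
open scoped TensorProduct
open CartMod

namespace Groth.Agent.S19612

section

variable {W : Type*} [CommRing W] [IsDomain W] (π : W) (hπ : π ≠ 0)
  {A : Type*} [AddCommGroup A] [Module W A]

include hπ in
/-- if `A/π^(n+1)` is flat over `W/π^(n+1)` and `π a = 0`, then `a ∈ π^n A`. -/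
lemma mem_of_flat (n : ℕ)
    (hflat : Module.Flat (W ⧸ (Ideal.span {π} ^ (n + 1)))
      ((W ⧸ (Ideal.span {π} ^ (n + 1))) ⊗[W] A))
    (a : A) (ha : π • a = 0) :
    a ∈ ((Ideal.span {π}) ^ n • ⊤ : Submodule W A) := by
  set I : Ideal W := Ideal.span {π} ^ (n + 1) with hI
  set x : (W ⧸ I) ⊗[W] A := (1 : W ⧸ I) ⊗ₜ[W] a with hx
  have hrel : ∑ _i : Fin 1, (Ideal.Quotient.mk I π) • x = 0 := by
    rw [Finset.sum_const, Finset.card_univ, Fintype.card_fin, one_smul, hx,
      TensorProduct.smul_tmul', smul_eq_mul, mul_one]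
    have : (Ideal.Quotient.mk I π) ⊗ₜ[W] a = (1 : W ⧸ I) ⊗ₜ[W] (π • a) := by
      rw [← TensorProduct.smul_tmul]
      congr 1
      rw [Algebra.smul_def, mul_one]
      rfl
    rw [this, ha, TensorProduct.tmul_zero]
  obtain ⟨k, c, y, hxy, hc⟩ := Module.Flat.isTrivialRelation_of_sum_smul_eq_zero
    (f := fun _ : Fin 1 => Ideal.Quotient.mk I π) (x := fun _ : Fin 1 => x) hrel
  -- each coefficient is a multiple of π^n
  have hcj : ∀ j, ∃ v : W, c 0 j = Ideal.Quotient.mk I (π ^ n * v) := by
    intro j
    obtain ⟨w, hw⟩ := Ideal.Quotient.mk_surjective (c 0 j)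
    have h1 : Ideal.Quotient.mk I π * c 0 j = 0 := by simpa using hc j
    rw [← hw, ← map_mul,
      Ideal.Quotient.eq_zero_iff_mem, hI, Ideal.span_singleton_pow, Ideal.mem_span_singleton] at h1
    obtain ⟨v, hv⟩ := h1
    refine ⟨v, ?_⟩
    rw [← hw]
    congr 1
    have : π * w = π * (π ^ n * v) := by rw [hv]; ring
    exact mul_left_cancel₀ hπ this
  choose v hv using hcj
  -- x = π^n • y'
  set y' : (W ⧸ I) ⊗[W] A := ∑ j, Ideal.Quotient.mk I (v j) • y j with hy'
  have hxy' : x = (π ^ n : W) • y' := by
    have hx0 : x = ∑ j, c 0 j • y j := hxy 0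
    rw [hx0, hy', Finset.smul_sum]
    refine Finset.sum_congr rfl fun j _ => ?_
    rw [hv j, map_mul, mul_smul]
    rw [← Ideal.Quotient.algebraMap_eq, algebraMap_smul]
  -- transport to A ⧸ I A
  let φ := TensorProduct.quotTensorEquivQuotSMul A I
  obtain ⟨a', ha'⟩ := Submodule.Quotient.mk_surjective _ (φ y')
  have h2 : (Submodule.Quotient.mk a : A ⧸ (I • ⊤ : Submodule W A)) =
      Submodule.Quotient.mk ((π ^ n : W) • a') := by
    rw [Submodule.Quotient.mk_smul, ha', ← map_smul, ← hxy', hx]
    exact (TensorProduct.quotTensorEquivQuotSMul_mk_one_tmul I a).symm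
  rw [Submodule.Quotient.eq] at h2
  have h3 : a = (a - (π ^ n : W) • a') + (π ^ n : W) • a' := by abel
  rw [h3]
  refine Submodule.add_mem _ ?_ ?_
  · have hle : (I • ⊤ : Submodule W A) ≤ (Ideal.span {π} ^ n • ⊤ : Submodule W A) :=
      Submodule.smul_mono_left (Ideal.pow_le_pow_right (Nat.le_succ n))
    exact hle h2
  · refine Submodule.smul_mem_smul ?_ Submodule.mem_top
    exact Ideal.pow_mem_pow (Ideal.mem_span_singleton_self π) n

end

/-- Let k be a perfect field of characteristic p, W = W(k) the ring of Witt vectors of k, and A a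
commutative W-algebra which is complete and separated for the p-adic topology (an adic W-algebra).
Then flatness of A over W is equivalent to flatness of A/p^nA = (W/p^nW) ⊗_W A over W/p^nW for every
n ≥ 1. -/
theorem result (p : ℕ) [Fact p.Prime] (k : Type u) [Field k]
    [CharP k p] [PerfectRing k p] (A : Type u) [CommRing A] [Algebra (WittVector p k) A]
    [IsAdicComplete (Ideal.span {(p : WittVector p k)}) A] :
    Module.Flat (WittVector p k) A ↔
      ∀ n : ℕ, 1 ≤ n →
        Module.Flat (WittVector p k ⧸ (Ideal.span {(p : WittVector p k)} ^ n))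
          ((WittVector p k ⧸ (Ideal.span {(p : WittVector p k)} ^ n)) ⊗[WittVector p k] A) := by
  constructor
  · intro h n _
    infer_instance
  · intro h
    have hp0 : (p : WittVector p k) ≠ 0 := (WittVector.irreducible p).ne_zero
    have hH : IsHausdorff (Ideal.span {(p : WittVector p k)}) A := inferInstance
    -- p-torsion-freeness
    have hp : ∀ a : A, (p : WittVector p k) • a = 0 → a = 0 := by
      intro a ha
      refine hH.haus a fun n => ?_
      rw [SModEq.zero]
      exact mem_of_flat (p : WittVector p k) hp0 n (h (n + 1) (by omega)) a ha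
    have hpm : ∀ (m : ℕ) (a : A), ((p : WittVector p k) ^ m) • a = 0 → a = 0 := by
      intro m
      induction m with
      | zero => intro a ha; simpa using ha
      | succ m ih =>
        intro a ha
        rw [pow_succ, mul_smul] at ha
        exact hp a (ih _ ha)
    rw [IsDedekindDomain.flat_iff_torsion_eq_bot, eq_bot_iff]
    rintro a ⟨⟨w, hw⟩, hwa⟩
    have hw0 : w ≠ 0 := nonZeroDivisors.ne_zero hw
    obtain ⟨m, b, rfl⟩ := WittVector.exists_eq_pow_p_mul' w hw0
    change ((p : WittVector p k) ^ m * (b : WittVector p k)) • a = 0 at hwa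
    rw [mul_smul] at hwa
    have h1 := hpm m _ hwa
    have h2 : a = ((b⁻¹ : (WittVector p k)ˣ) : WittVector p k) • ((b : WittVector p k) • a) := by
      rw [← mul_smul, Units.inv_mul, one_smul]
    rw [Submodule.mem_bot, h2, h1, smul_zero]

end Groth.Agent.S19612
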