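import Groth.Statements.S19618
-- import your own Groth.Agent.* helpers here

set_option autoImplicit false
universe u
open CategoryTheory CategoryTheory.Limits AlgebraicGeometry Opposite TopologicalSpace
open BlowUp

namespace Groth.Agent.S19618

/-- Let X be a locally Noetherian scheme, Y an effective Cartier divisor on X (a quasi-coherent ideal
sheaf which, near every point, is generated on some affine open by one nonzerodivisor; Y is its
support) and Z a closed integral subscheme (a closed immersion i from an integral scheme with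
generic point ξ). If Y and Z intersect properly — every point ζ of Y ∩ Z which is maximal under
generization inside Y ∩ Z satisfies dim O_{X,ζ} = codim(Y,X) + codim(Z,X), where codim(Y,X) is the
infimum over y ∈ Y of dim O_{X,y} and codim(Z,X) = dim O_{X,i(ξ)} — then Z is not contained in Y. -/
theorem result {X Z : Scheme.{u}}
    [IsLocallyNoetherian X] (𝓘 : X.IdealSheafData) (hY : BlowUp.IsEffCartierIdeal 𝓘)
    (i : Z ⟶ X) [IsClosedImmersion i] [IsIntegral Z]
    (hprop : ∀ ζ : ↥X, ζ ∈ (𝓘.support : Set ↥X) ∩ Set.range i.base →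
        (∀ ζ' : ↥X, ζ' ∈ (𝓘.support : Set ↥X) ∩ Set.range i.base → ζ' ⤳ ζ → ζ' = ζ) →
        ringKrullDim ↑(X.presheaf.stalk ζ) =
          (⨅ y : (𝓘.support : Set ↥X), ringKrullDim ↑(X.presheaf.stalk y.1)) +
            ringKrullDim ↑(X.presheaf.stalk (i (genericPoint ↥Z)))) :
    ¬ Set.range i.base ⊆ (𝓘.support : Set ↥X) := by
  intro hsub
  -- every point of the divisor has a local ring of dimension ≥ 1
  have one_le_dim : ∀ y : X, y ∈ (𝓘.support : Set X) →
      (1 : WithBot ℕ∞) ≤ ringKrullDim (X.presheaf.stalk y) := by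
    intro y hy
    obtain ⟨U, hyU, f, hf, hI⟩ := hY y
    have hz : y ∈ X.zeroLocus (U := U.1) (𝓘.ideal U) :=
      (Scheme.IdealSheafData.mem_support_iff_of_mem hyU).mp hy
    rw [Scheme.mem_zeroLocus_iff] at hz
    have hfy : y ∉ X.basicOpen f := hz f (by rw [hI]; exact Ideal.subset_span rfl)
    rw [Scheme.mem_basicOpen _ _ _ hyU] at hfy
    let _ : Algebra Γ(X, U.1) (X.presheaf.stalk y) :=
      TopCat.Presheaf.algebra_section_stalk X.presheaf (⟨y, hyU⟩ : U.1)
    have hloc : IsLocalization.AtPrime (X.presheaf.stalk y)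
        (U.2.primeIdealOf ⟨y, hyU⟩).asIdeal := U.2.isLocalization_stalk ⟨y, hyU⟩
    have hg : X.presheaf.germ U.1 y hyU f ∈ nonZeroDivisors (X.presheaf.stalk y) :=
      IsLocalization.map_nonZeroDivisors_le (U.2.primeIdealOf ⟨y, hyU⟩).asIdeal.primeCompl
        (X.presheaf.stalk y) ⟨f, hf, rfl⟩
    by_contra hlt
    have hle : ringKrullDim (X.presheaf.stalk y) ≤ ((0 : ℕ) : WithBot ℕ∞) := by
      rw [not_le] at hlt
      generalize ringKrullDim (X.presheaf.stalk y) = d at hlt
      induction d using WithBot.recBotCoe with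
      | bot => exact bot_le
      | coe e =>
        have h1 : e < 1 := by exact_mod_cast hlt
        have h2 : e = 0 := Order.lt_one_iff.mp h1
        subst h2
        exact le_refl _
    have hK : Ring.KrullDimLE 0 (X.presheaf.stalk y) := Ring.krullDimLE_iff.mpr hle
    have hArt : IsArtinianRing (X.presheaf.stalk y) := isArtinianRing_iff_krullDimLE_zero.mpr hK
    obtain ⟨n, hn⟩ := (isArtinianRing_iff_isNilpotent_maximalIdeal (X.presheaf.stalk y)).mp hArt
    have hmem : X.presheaf.germ U.1 y hyU f ∈ IsLocalRing.maximalIdeal (X.presheaf.stalk y) := by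
      rw [IsLocalRing.mem_maximalIdeal]
      exact hfy
    have hpow : (X.presheaf.germ U.1 y hyU f) ^ n = 0 := by
      have := Ideal.pow_mem_pow hmem n
      rwa [hn, Ideal.zero_eq_bot, Ideal.mem_bot] at this
    have hpow' := pow_mem hg n
    rw [hpow] at hpow'
    exact zero_notMem_nonZeroDivisors hpow'
  -- the image of the generic point
  have hξr : i (genericPoint Z) ∈ Set.range i.base := ⟨genericPoint Z, rfl⟩
  have hξs : i (genericPoint Z) ∈ (𝓘.support : Set X) := hsub hξr
  have hmax : ∀ ζ' : X, ζ' ∈ (𝓘.support : Set X) ∩ Set.range i.base →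
      ζ' ⤳ i (genericPoint Z) → ζ' = i (genericPoint Z) := by
    rintro ζ' ⟨_, z', rfl⟩ hsp
    have h1 : genericPoint Z ⤳ z' := genericPoint_specializes z'
    have h2 : i (genericPoint Z) ⤳ i z' := h1.map i.continuous
    exact (hsp.antisymm h2).eq
  have key := hprop (i (genericPoint Z)) ⟨hξs, hξr⟩ hmax
  have hfin : ringKrullDim (X.presheaf.stalk (i (genericPoint Z))) < ⊤ := ringKrullDim_lt_top
  have hnonneg : 0 ≤ ringKrullDim (X.presheaf.stalk (i (genericPoint Z))) :=
    ringKrullDim_nonneg_of_nontrivial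
  have hc : (1 : WithBot ℕ∞) ≤
      ⨅ y : (𝓘.support : Set X), ringKrullDim (X.presheaf.stalk y.1) :=
    le_iInf (fun y => one_le_dim y.1 y.2)
  obtain ⟨a, ha⟩ : ∃ a : ℕ∞, ringKrullDim (X.presheaf.stalk (i (genericPoint Z))) = (a : WithBot ℕ∞) :=
    ⟨_, (WithBot.coe_unbot _ (fun h => by rw [h] at hnonneg; exact absurd hnonneg (by decide))).symm⟩
  obtain ⟨c, hc'⟩ : ∃ c : ℕ∞,
      (⨅ y : (𝓘.support : Set X), ringKrullDim (X.presheaf.stalk y.1)) = (c : WithBot ℕ∞) :=
    ⟨_, (WithBot.coe_unbot _ (fun h => by rw [h] at hc; exact absurd hc (by decide))).symm⟩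
  rw [hc'] at key hc
  rw [ha] at key hfin
  have hc1 : (1 : ℕ∞) ≤ c := by exact_mod_cast hc
  have hatop : a ≠ ⊤ := by
    intro h
    rw [h] at hfin
    exact absurd hfin (by decide)
  have key' : a = c + a := by exact_mod_cast key
  obtain ⟨n, rfl⟩ := ENat.ne_top_iff_exists.mp hatop
  cases c with
  | top => simp at key'
  | coe m =>
    have hm : 1 ≤ m := by exact_mod_cast hc1
    have : n = m + n := by exact_mod_cast key'
    omega

end Groth.Agent.S19618
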