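import Groth.Statements.S1962
import Groth.Agent.Lib.SqZeroHenselLocal

set_option autoImplicit false
universe u
open EtAlg
open Groth.Agent.Lib.SqZeroHenselLocal IsLocalRing

namespace Groth.Agent.S1962

/-- A strict henselization S of a local ring R (characterized by its universal property, with R → S a
local homomorphism) is formally étale over R. -/
theorem result (R S : Type u) [CommRing R] [IsLocalRing R] [CommRing S]
    [IsLocalRing S] [Algebra R S] [IsLocalHom (algebraMap R S)] [Hensel.IsStrictHenselization R S] :
    Algebra.FormallyEtale R S := by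
  have hS : HenselianLocalRing S := Hensel.IsStrictHenselization.henselian R
  rw [Algebra.FormallyEtale.iff_comp_bijective]
  intro B _ _ I hI
  have key : ∀ g : S →ₐ[R] B ⧸ I, ∃! ψ : S →ₐ[R] B, (Ideal.Quotient.mkₐ R I).comp ψ = g := by
    intro g
    let T := fibreRing I g.toRingHom
    have hT : HenselianLocalRing T := fibreRing_henselianLocalRing I g.toRingHom hI
    have hcompat : g.toRingHom.comp (algebraMap R S) =
        (Ideal.Quotient.mk I).comp (algebraMap R B) := by
      ext r
      simp
    let f : R →+* T := fibreLift I g.toRingHom (algebraMap R S) (algebraMap R B) hcompat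
    let π : T →+* S := fibreFst I g.toRingHom
    have hπ : IsLocalHom π := fibreFst_isLocalHom I g.toRingHom hI
    have hπsurj : Function.Surjective π := fibreFst_surjective I g.toRingHom
    have hf : IsLocalHom f := by
      refine ⟨fun r hr => ?_⟩
      have : IsUnit (π (f r)) := hr.map _
      exact isUnit_of_map_unit (algebraMap R S) r this
    -- residue field iso
    let κπ : ResidueField T →+* ResidueField S := ResidueField.map π
    have hκbij : Function.Bijective κπ := by
      refine ⟨κπ.injective, fun x => ?_⟩
      obtain ⟨s, rfl⟩ := residue_surjective x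
      obtain ⟨t, rfl⟩ := hπsurj s
      exact ⟨residue T t, ResidueField.map_residue π t⟩
    let ε : ResidueField T ≃+* ResidueField S := RingEquiv.ofBijective κπ hκbij
    let τ : ResidueField S →+* ResidueField T := ε.symm.toRingHom
    have hτκ : ∀ x, τ (κπ x) = x := fun x => ε.symm_apply_apply x
    have hκτ : ∀ x, κπ (τ x) = x := fun x => ε.apply_symm_apply x
    have hτ : τ.comp (ResidueField.map (algebraMap R S)) = ResidueField.map f := by
      ext x
      obtain ⟨r, rfl⟩ := residue_surjective x
      apply hκbij.1
      show κπ (τ _) = _
      rw [hκτ, ResidueField.map_residue, ResidueField.map_residue]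
      show _ = ResidueField.map π (residue T (f r))
      rw [ResidueField.map_residue]
      rfl
    obtain ⟨φ, ⟨hφ, hφres⟩, hφuniq⟩ :=
      Hensel.IsStrictHenselization.universal (R := R) (S := S) T f τ hτ
    obtain ⟨e, he, heuniq⟩ := Hensel.IsStrictHenselization.universal (R := R) (S := S) S
      (algebraMap R S) (RingHom.id _) (by rw [RingHom.id_comp])
    have hid : π.comp φ = RingHom.id S := by
      rw [heuniq (π.comp φ), heuniq (RingHom.id S)]
      · exact ⟨rfl, fun x => rfl⟩
      · refine ⟨?_, fun x => ?_⟩
        · rw [RingHom.comp_assoc, hφ]; rfl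
        · show residue S (π (φ x)) = residue S x
          rw [← ResidueField.map_residue π, hφres]
          exact hκτ _
    have hid' : ∀ s, π (φ s) = s := fun s => congrArg (fun k => k s) hid
    let ψ : S →ₐ[R] B :=
      { ((fibreSnd I g.toRingHom).comp φ) with
        commutes' := fun r => by
          have : φ (algebraMap R S r) = f r := congrArg (fun k => k r) hφ
          show fibreSnd I g.toRingHom (φ (algebraMap R S r)) = algebraMap R B r
          rw [this]; rfl }
    refine ⟨ψ, ?_, ?_⟩
    · ext s
      show Ideal.Quotient.mk I (fibreSnd I g.toRingHom (φ s)) = g s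
      rw [← fibre_compat]
      show g (π (φ s)) = g s
      rw [hid']
    · intro ψ' hψ'
      have hc' : g.toRingHom.comp (RingHom.id S) = (Ideal.Quotient.mk I).comp ψ'.toRingHom := by
        ext s
        have := congrArg (fun k => k s) hψ'
        exact this.symm
      let φ' : S →+* T := fibreLift I g.toRingHom (RingHom.id S) ψ'.toRingHom hc'
      have hφ' : φ' = φ := by
        apply hφuniq
        refine ⟨?_, fun x => ?_⟩
        · ext r
          · rfl
          · show ψ' (algebraMap R S r) = algebraMap R B r
            exact ψ'.commutes r
        · apply hκbij.1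
          rw [hκτ]
          show ResidueField.map π (residue T (φ' x)) = residue S x
          rw [ResidueField.map_residue]
          rfl
      ext s
      show ψ' s = fibreSnd I g.toRingHom (φ s)
      rw [← hφ']
      rfl
  constructor
  · intro ψ₁ ψ₂ h
    obtain ⟨ψ, _, hψ⟩ := key ((Ideal.Quotient.mkₐ R I).comp ψ₁)
    rw [hψ ψ₁ rfl, hψ ψ₂ h.symm]
  · intro g
    obtain ⟨ψ, hψ, _⟩ := key g
    exact ⟨ψ, hψ⟩

end Groth.Agent.S1962
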