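import Groth.Statements.S19620
import Groth.Agent.Lib.RgammaZSupp66

set_option autoImplicit false
universe u
open CategoryTheory CategoryTheory.Limits AlgebraicGeometry
attribute [local instance] HasDerivedCategory.standard
open DCoh

namespace Groth.Agent.S19620

/-- Let f : X → Y be a proper morphism of schemes, with Rf_* the total right derived functor of f_* on
the unbounded derived categories of modules (assumed to exist), let Z ⊆ X be a closed subset and E
an object of D(O_X) whose cohomology sheaves are all supported in Z (every stalk at a point outside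
Z is trivial). Then the cohomology sheaves of Rf_*E are supported in the closed subset f(Z) of Y.
(The published statement, made in a setting where all schemes are separated and of finite type over
a regular base, takes f proper and perfect and concludes that Rf_* carries perfect complexes acyclic
outside Z to perfect complexes acyclic outside f(Z); the perfectness of Rf_*E is a separate result,
and the support inclusion, which is what the published proof establishes, holds for every proper f
and every E and is stated in that generality.) -/
theorem result {X Y : Scheme.{u}} (f : X ⟶ Y) [IsProper f]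
    [DCoh.HasRpush f] (Z : Set ↥X) (hZ : IsClosed Z) (E : DCoh.D X)
    (hE : ∀ i : ℤ, CohB1.support (DCoh.HD E i) ⊆ Z) (i : ℤ) :
    CohB1.support (DCoh.HD ((DCoh.Rpush f).obj E) i) ⊆ f.base '' Z := by
  have hcl : IsClosed (f.base '' Z) := f.isClosedMap _ hZ
  let U : X.Opens := ⟨Zᶜ, hZ.isOpen_compl⟩
  let V : Y.Opens := ⟨(f.base '' Z)ᶜ, hcl.isOpen_compl⟩
  have hle : f ⁻¹ᵁ V ≤ U := by
    intro x hx hxZ
    exact hx ⟨x, hxZ, rfl⟩
  have hU : Set.range U.ι.base = (U : Set X) := Scheme.Opens.range_ι U
  have hV : Set.range V.ι.base = (V : Set Y) := Scheme.Opens.range_ι V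
  have h1 : CxOX.IsSuppD U.ι E := by
    intro n
    rw [hU]
    change _ ⊆ (Zᶜ)ᶜ
    rw [compl_compl]
    exact hE n
  have h2 := Groth.Agent.Lib.RgammaZSupp66.isZero_restrictD_of_isSuppD U E h1
  have h3 := Groth.Agent.Lib.RgammaZSupp66.isZero_restrictD_Rpush_of_preimage_le f U V hle E h2
  have h4 := Groth.Agent.Lib.RgammaZSupp66.isSuppD_of_isZero_restrictD V _ h3 i
  rw [hV] at h4
  change _ ⊆ ((f.base '' Z)ᶜ)ᶜ at h4
  rw [compl_compl] at h4
  exact h4

end Groth.Agent.S19620
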