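import Groth.Statements.S19624
import Groth.Agent.Lib.SemilinCoker

set_option autoImplicit false
universe u v
open IntTh

namespace Groth.Agent.S19624

open Groth.Agent.Lib.SemilinCoker

/-- Let B be a discrete valuation ring with its normalised additive valuation v (so v(0) = ∞) and ω a
ring automorphism of B. For each i in a finite index set let M_i and N_i be free B-modules with
chosen bases indexed by one and the same finite type, and χ_i : M_i → N_i an additive map which is
ω-semilinear, χ_i(b·x) = ω(b)·χ_i(x); write A_i for the matrix of χ_i in the chosen bases. Then the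
length over B of the cokernel of the direct sum χ = ⊕_i χ_i : ⊕_i M_i → ⊕_i N_i (the quotient of ⊕_i
N_i by the submodule generated by the image of χ) equals v(∏_i det A_i); in particular both sides
are infinite exactly when some det A_i is zero. -/
theorem result {B : Type u} [CommRing B] [IsDomain B]
    [IsDiscreteValuationRing B] (ω : B ≃+* B) {n : ℕ} (r : Fin n → ℕ)
    (M N : Fin n → Type v) [∀ i, AddCommGroup (M i)] [∀ i, Module B (M i)]
    [∀ i, AddCommGroup (N i)] [∀ i, Module B (N i)]
    (bM : ∀ i, Module.Basis (Fin (r i)) B (M i)) (bN : ∀ i, Module.Basis (Fin (r i)) B (N i))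
    (χ : ∀ i, M i →+ N i) (hχ : ∀ i (b : B) (x : M i), χ i (b • x) = ω b • χ i x) :
    Module.length B ((∀ i, N i) ⧸ Submodule.span B (Set.range (fun (x : ∀ i, M i) (i : Fin n) => χ i (x i)))) =
      IsDiscreteValuationRing.addVal B (∏ i, Matrix.det
        (Matrix.of fun (a c : Fin (r i)) => (bN i).repr (χ i (bM i c)) a)) := by
  classical
  let L : ∀ i, M i →ₗ[B] N i := fun i => (bM i).constr B (fun c => χ i (bM i c))
  have hrange : ∀ i, Set.range (χ i) = Set.range (L i) := fun i =>
    range_semilinear ω (bM i) (χ i) (hχ i)
  have hset : Set.range (fun (x : ∀ i, M i) (i : Fin n) => χ i (x i)) =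
      ((Submodule.pi Set.univ fun i => LinearMap.range (L i) : Submodule B (∀ i, N i)) :
        Set (∀ i, N i)) := by
    ext z
    simp only [Set.mem_range, SetLike.mem_coe, Submodule.mem_pi, Set.mem_univ, forall_true_left,
      LinearMap.mem_range]
    constructor
    · rintro ⟨x, rfl⟩ i
      have : χ i (x i) ∈ Set.range (L i) := (hrange i) ▸ ⟨x i, rfl⟩
      exact this
    · intro h
      have h' : ∀ i, ∃ x, χ i x = z i := fun i => by
        have : z i ∈ Set.range (χ i) := (hrange i).symm ▸ (h i)
        exact this
      choose x hx using h'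
      exact ⟨x, funext hx⟩
  rw [hset, Submodule.span_eq, (Submodule.quotientPi _).length_eq, Module.length_pi_of_fintype,
    addVal_prod]
  refine Finset.sum_congr rfl fun i _ => ?_
  rw [length_coker_of_bases (bM i) (bN i) (L i)]
  congr 2
  ext a c
  rw [LinearMap.toMatrix_apply, Matrix.of_apply, Module.Basis.constr_basis]

end Groth.Agent.S19624
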