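import Groth.Statements.S19628
import Groth.Agent.Lib.H2DeRhamBC

set_option autoImplicit false
universe u
open DeRham

namespace Groth.Agent.S19628


open exteriorPower TensorProduct Groth.Agent.Lib.H2DeRhamBC

theorem result'
    (k K : Type u) [Field k] [Field K] [Algebra k K]
    (A A' : Type u) [CommRing A] [CommRing A'] [Algebra k A]
    [Algebra A A'] [Algebra k A'] [IsScalarTower k A A'] [Algebra K A'] [IsScalarTower k K A']
    [Algebra.IsPushout k K A A']
    (d : ∀ p : ℕ, ↥(⋀[A]^p (Ω[A⁄k])) →ₗ[k] ↥(⋀[A]^(p + 1) (Ω[A⁄k])))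
    (d' : ∀ p : ℕ, ↥(⋀[A']^p (Ω[A'⁄K])) →ₗ[K] ↥(⋀[A']^(p + 1) (Ω[A'⁄K])))
    (ψ : ∀ p : ℕ, ↥(⋀[A]^p (Ω[A⁄k])) →+ ↥(⋀[A']^p (Ω[A'⁄K])))
    (hψ : DeRham.IsCxMap (KaehlerDifferential.D k A) (KaehlerDifferential.D K A') (algebraMap A A') ψ)
    (hcomm : ∀ (p : ℕ) (x : ↥(⋀[A]^p (Ω[A⁄k]))), ψ (p + 1) (d p x) = d' p (ψ p x))
    (p : ℕ) :
    Submodule.span K (ψ p '' (DeRham.cocycles d p : Set ↥(⋀[A]^p (Ω[A⁄k])))) = DeRham.cocycles d' p ∧
      Submodule.span K (ψ p '' (DeRham.coboundaries d p : Set ↥(⋀[A]^p (Ω[A⁄k])))) =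
        DeRham.coboundaries d' p := by
  have hΘ : ∀ (q : ℕ) (s : K) (x : ↥(⋀[A]^q (Ω[A⁄k]))),
      kaehlerBC k K A A' q (s ⊗ₜ[k] x) = s • ψ q x :=
    fun q s x => kaehlerBC_tmul_of_isCxMap k K A A' q ψ hψ s x
  -- commutation
  have hc : ∀ (q : ℕ) (z : K ⊗[k] ↥(⋀[A]^q (Ω[A⁄k]))),
      d' q (kaehlerBC k K A A' q z) = kaehlerBC k K A A' (q + 1) ((d q).baseChange K z) := by
    intro q z
    induction z using TensorProduct.induction_on with
    | zero => simp
    | add x y hx hy => simp only [map_add, hx, hy]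
    | tmul s x =>
      rw [hΘ, map_smul, LinearMap.baseChange_tmul, hΘ, hcomm]
  constructor
  · apply le_antisymm
    · rw [Submodule.span_le]
      rintro _ ⟨x, hx, rfl⟩
      have hx' : d p x = 0 := hx
      show d' p (ψ p x) = 0
      rw [← hcomm, hx', map_zero]
    · intro y hy
      have hy' : d' p y = 0 := hy
      obtain ⟨z, rfl⟩ := (kaehlerBC k K A A' p).surjective y
      rw [hc, LinearEquiv.map_eq_zero_iff] at hy'
      have hz : z ∈ LinearMap.ker (TensorProduct.AlgebraTensorModule.lTensor K K (d p)) := hy'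
      rw [Module.Flat.ker_lTensor_eq] at hz
      obtain ⟨w, rfl⟩ := hz
      clear hy hy'
      induction w using TensorProduct.induction_on with
      | zero => simp
      | add x y hx hy =>
        rw [map_add, map_add]
        exact add_mem hx hy
      | tmul s x =>
        have : (TensorProduct.AlgebraTensorModule.lTensor K K (LinearMap.ker (d p)).subtype)
            (s ⊗ₜ[k] x) = s ⊗ₜ[k] (x : ↥(⋀[A]^p (Ω[A⁄k]))) := rfl
        rw [this, hΘ]
        exact Submodule.smul_mem _ _ (Submodule.subset_span ⟨x, x.2, rfl⟩)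
  · cases p with
    | zero =>
      show Submodule.span K (ψ 0 '' ((⊥ : Submodule k ↥(⋀[A]^0 (Ω[A⁄k]))) :
        Set ↥(⋀[A]^0 (Ω[A⁄k])))) = ⊥
      rw [Submodule.bot_coe, Set.image_singleton, map_zero, Submodule.span_zero_singleton]
    | succ p =>
      show Submodule.span K (ψ (p + 1) '' (LinearMap.range (d p) : Set _)) = LinearMap.range (d' p)
      apply le_antisymm
      · rw [Submodule.span_le]
        rintro _ ⟨_, ⟨x, rfl⟩, rfl⟩
        exact ⟨ψ p x, (hcomm p x).symm⟩
      · rintro _ ⟨y, rfl⟩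
        obtain ⟨z, rfl⟩ := (kaehlerBC k K A A' p).surjective y
        induction z using TensorProduct.induction_on with
        | zero => simp
        | add x y hx hy =>
          rw [map_add, map_add]
          exact add_mem hx hy
        | tmul s x =>
          rw [hΘ, map_smul, ← hcomm]
          exact Submodule.smul_mem _ _ (Submodule.subset_span ⟨d p x, ⟨x, rfl⟩, rfl⟩)


open exteriorPower in
/-- In the affine case, at ring level, let k ⊆ K be an extension of fields of characteristic zero, A a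
smooth k-algebra and A' = K ⊗_k A (a pushout square of commutative rings with the scalar-tower
conventions). Let d be the de Rham differential of A over k, d' that of A' over K, and ψ the map of
de Rham complexes induced by A → A', assumed compatible with d and d'. Then for every p the K-span
of ψ(closed p-forms of A/k) is the module of closed p-forms of A'/K, and the K-span of ψ(exact
p-forms of A/k) is the module of exact p-forms of A'/K. Together with the degreewise base-change
bijection for exterior powers of differentials, this says that the natural map H^p_dR(A/k) ⊗_k K →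
H^p_dR(A'/K) is an isomorphism. (The source states the isomorphism H^i_dR(X) ⊗_k K ≅ H^i_dR(X_K) for
a smooth variety X, induced by a quasi-isomorphism of complexes; this row is the case of an affine
X, phrased through closed and exact forms.) -/
theorem result
    (k K : Type u) [Field k] [Field K] [CharZero k] [Algebra k K]
    (A A' : Type u) [CommRing A] [CommRing A'] [Algebra k A] [Algebra.Smooth k A]
    [Algebra A A'] [Algebra k A'] [IsScalarTower k A A'] [Algebra K A'] [IsScalarTower k K A']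
    [Algebra.IsPushout k K A A']
    (d : ∀ p : ℕ, ↥(⋀[A]^p (Ω[A⁄k])) →ₗ[k] ↥(⋀[A]^(p + 1) (Ω[A⁄k])))
    (hd : DeRham.IsDiff (KaehlerDifferential.D k A) d)
    (d' : ∀ p : ℕ, ↥(⋀[A']^p (Ω[A'⁄K])) →ₗ[K] ↥(⋀[A']^(p + 1) (Ω[A'⁄K])))
    (hd' : DeRham.IsDiff (KaehlerDifferential.D K A') d')
    (ψ : ∀ p : ℕ, ↥(⋀[A]^p (Ω[A⁄k])) →+ ↥(⋀[A']^p (Ω[A'⁄K])))
    (hψ : DeRham.IsCxMap (KaehlerDifferential.D k A) (KaehlerDifferential.D K A') (algebraMap A A') ψ)
    (hcomm : ∀ (p : ℕ) (x : ↥(⋀[A]^p (Ω[A⁄k]))), ψ (p + 1) (d p x) = d' p (ψ p x))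
    (p : ℕ) :
    Submodule.span K (ψ p '' (DeRham.cocycles d p : Set ↥(⋀[A]^p (Ω[A⁄k])))) = DeRham.cocycles d' p ∧
      Submodule.span K (ψ p '' (DeRham.coboundaries d p : Set ↥(⋀[A]^p (Ω[A⁄k])))) =
        DeRham.coboundaries d' p := by
  exact result' k K A A' d d' ψ hψ hcomm p

end Groth.Agent.S19628
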