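import Groth.Statements.S19630
import Groth.Agent.Lib.H79DeRhamGen
import Mathlib.RingTheory.Unramified.Field

set_option autoImplicit false
universe u
open DeRham

namespace Groth.Agent.S19630

open exteriorPower in
/-- In the affine case, at ring level, let k ⊆ K be a finite extension of fields of characteristic zero
and B a smooth K-algebra, so that Y = Spec B is a smooth affine variety over K which may also be
regarded over k. Let ψ be the map of de Rham complexes from Ω•_{B/k} to Ω•_{B/K} induced by the
identity of B. Then ψ is bijective in every degree: the de Rham complex of Y over k and over K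
coincide, and hence the natural map H^i_dR(Y/k) → H^i_dR(Y/K) is an isomorphism. (The source states
the isomorphism on de Rham cohomology for any smooth variety Y over K, through the equality of the
two de Rham complexes; this row is that equality for affine Y.) -/
theorem result
    (k K : Type u) [Field k] [Field K] [CharZero k] [Algebra k K] [Module.Finite k K]
    (B : Type u) [CommRing B] [Algebra K B] [Algebra k B] [IsScalarTower k K B] [Algebra.Smooth K B]
    (ψ : ∀ p : ℕ, ↥(⋀[B]^p (Ω[B⁄k])) →+ ↥(⋀[B]^p (Ω[B⁄K])))
    (hψ : DeRham.IsCxMap (KaehlerDifferential.D k B) (KaehlerDifferential.D K B) (RingHom.id B) ψ)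
    (p : ℕ) :
    Function.Bijective (ψ p) := by
  have hsep : Algebra.IsSeparable k K := inferInstance
  have hunr : Algebra.FormallyUnramified k K := Algebra.FormallyUnramified.of_isSeparable k K
  have hsub : Subsingleton (Ω[K⁄k]) := inferInstance
  -- the comparison map on differentials is bijective
  have hsurj : Function.Surjective (KaehlerDifferential.map k K B B) :=
    KaehlerDifferential.map_surjective k K B
  have hinj : Function.Injective (KaehlerDifferential.map k K B B) := by
    rw [← LinearMap.ker_eq_bot, ← KaehlerDifferential.range_mapBaseChange k K B,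
      LinearMap.range_eq_bot]
    apply LinearMap.ext
    intro x
    have : Subsingleton (TensorProduct K B (Ω[K⁄k])) := inferInstance
    rw [Subsingleton.elim x 0, map_zero, map_zero]
  let e : Ω[B⁄k] ≃ₗ[B] Ω[B⁄K] := LinearEquiv.ofBijective (KaehlerDifferential.map k K B B)
    ⟨hinj, hsurj⟩
  have he : ∀ b : B, e (KaehlerDifferential.D k B b) = KaehlerDifferential.D K B b := by
    intro b
    exact KaehlerDifferential.map_D k K B B b
  -- ψ p is the p-th exterior power of e
  have hψe : ψ p = (exteriorPower.map p e.toLinearMap).toAddMonoidHom := by
    apply Groth.Agent.Lib.H79DeRhamGen.addMonoidHom_ext (KaehlerDifferential.D k B)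
      (KaehlerDifferential.span_range_derivation k B) p
    intro b₀ b
    rw [hψ p b₀ b]
    change _ = exteriorPower.map p e.toLinearMap (DeRham.gen (KaehlerDifferential.D k B) p b₀ b)
    rw [DeRham.gen, DeRham.gen, map_smul, exteriorPower.map_apply_ιMulti]
    simp only [RingHom.id_apply]
    congr 2
    funext i
    exact (he (b i)).symm
  rw [hψe]
  have h1 : (exteriorPower.map p e.symm.toLinearMap) ∘ₗ (exteriorPower.map p e.toLinearMap) =
      LinearMap.id := by
    rw [← exteriorPower.map_comp]
    have : e.symm.toLinearMap ∘ₗ e.toLinearMap = LinearMap.id := by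
      ext x; simp
    rw [this, exteriorPower.map_id]
  have h2 : (exteriorPower.map p e.toLinearMap) ∘ₗ (exteriorPower.map p e.symm.toLinearMap) =
      LinearMap.id := by
    rw [← exteriorPower.map_comp]
    have : e.toLinearMap ∘ₗ e.symm.toLinearMap = LinearMap.id := by
      ext x; simp
    rw [this, exteriorPower.map_id]
  constructor
  · intro x y hxy
    have := congrArg (exteriorPower.map p e.symm.toLinearMap) hxy
    change ((exteriorPower.map p e.symm.toLinearMap) ∘ₗ (exteriorPower.map p e.toLinearMap)) x =
      ((exteriorPower.map p e.symm.toLinearMap) ∘ₗ (exteriorPower.map p e.toLinearMap)) y at this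
    rwa [h1] at this
  · intro y
    refine ⟨exteriorPower.map p e.symm.toLinearMap y, ?_⟩
    change ((exteriorPower.map p e.toLinearMap) ∘ₗ (exteriorPower.map p e.symm.toLinearMap)) y = y
    rw [h2]
    rfl

end Groth.Agent.S19630
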