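import Groth.Statements.S19631
import Mathlib.CategoryTheory.Functor.KanExtension.Pointwise

set_option autoImplicit false
universe u
open Hyper

namespace Groth.Agent.S19631

section Aux
open CategoryTheory CategoryTheory.Limits Opposite Simplicial SimplexCategory
open SimplexCategory.Truncated CategoryTheory.Functor

universe v' u'

variable {C : Type u'} [Category.{v'} C] [HasFiniteProducts C] (X : C) (n : ℕ)

/-- projection of the Čech nerve -/
noncomputable abbrev prC (m : SimplexCategory) (k : Fin (m.len + 1)) :
    (cechNerveTerminalFrom X).obj (op m) ⟶ X :=
  Pi.π (fun _ : Fin (m.len + 1) => X) k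

lemma map_prC {m m' : SimplexCategory} (θ : m' ⟶ m) (k : Fin (m'.len + 1)) :
    (cechNerveTerminalFrom X).map θ.op ≫ prC X m' k = prC X m (θ.toOrderHom k) := by
  simp [cechNerveTerminalFrom, prC]

/-- The vertex objects of the comma category. -/
abbrev vtx (m : SimplexCategory) (k : Fin (m.len + 1)) :
    StructuredArrow (op m) (Truncated.inclusion n).op :=
  StructuredArrow.mk (Y := op (⟨⦋0⦌, by simp⟩ : SimplexCategory.Truncated n))
    (SimplexCategory.const ⦋0⦌ m k).op

/-- The morphism from an object of the comma category to one of its vertices. -/
def toVtx (m : SimplexCategory) (j : StructuredArrow (op m) (Truncated.inclusion n).op)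
    (l : Fin (j.right.unop.obj.len + 1)) :
    j ⟶ vtx n m (j.hom.unop.toOrderHom l) :=
  StructuredArrow.homMk
    (Quiver.Hom.op (ObjectProperty.homMk (SimplexCategory.const ⦋0⦌ j.right.unop.obj l)))
    (by
      apply Quiver.Hom.unop_inj
      ext x
      rfl)

noncomputable def isPointwise (m : SimplexCategory) :
    (SimplicialObject.Truncated.rightExtensionInclusion (cechNerveTerminalFrom X) n).IsPointwiseRightKanExtensionAt
      (op m) where
  lift s := Pi.lift (fun k => s.π.app (vtx n m k) ≫ prC X ⦋0⦌ 0)
  fac s j := by
    apply Pi.hom_ext
    intro l
    have h := s.w (toVtx n m j l)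
    have e1 : ((SimplicialObject.Truncated.rightExtensionInclusion (cechNerveTerminalFrom X) n).coneAt
        (op m)).π.app j = (cechNerveTerminalFrom X).map j.hom.unop.op :=
      Category.comp_id _
    have e2 : (StructuredArrow.proj (op m) (inclusion n).op ⋙ (inclusion n).op ⋙
        cechNerveTerminalFrom X).map (toVtx n m j l) =
        (cechNerveTerminalFrom X).map (SimplexCategory.const ⦋0⦌ j.right.unop.obj l).op := rfl
    rw [e1]
    erw [Category.assoc, map_prC X j.hom.unop l, Pi.lift_π, ← h, e2, Category.assoc, map_prC]
    rfl
  uniq s t ht := by
    apply Pi.hom_ext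
    intro k
    have h := ht (vtx n m k)
    have e1 : ((SimplicialObject.Truncated.rightExtensionInclusion (cechNerveTerminalFrom X) n).coneAt
        (op m)).π.app (vtx n m k) = (cechNerveTerminalFrom X).map (SimplexCategory.const ⦋0⦌ m k).op :=
      Category.comp_id _
    rw [e1] at h
    erw [Pi.lift_π, ← h, Category.assoc, map_prC]
    rfl

theorem isCoskeletal_cechNerveTerminalFrom :
    SimplicialObject.IsCoskeletal (cechNerveTerminalFrom X) n where
  isRightKanExtension :=
    RightExtension.IsPointwiseRightKanExtension.isRightKanExtension
      (E := SimplicialObject.Truncated.rightExtensionInclusion (cechNerveTerminalFrom X) n)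
      (fun Δ => isPointwise X n Δ.unop)

end Aux

open CategoryTheory CategoryTheory.Limits AlgebraicGeometry in
/-- Let f : X → Y be a morphism of schemes and X_• = cosk_0^Y(X) its Čech nerve, the simplicial scheme
over Y with X_p = X ×_Y ⋯ ×_Y X (p + 1 factors), face maps the projections forgetting one factor and
degeneracies induced by diagonals. Then X_•, as a simplicial object of the category of schemes over
Y, is n-coskeletal for every n, i.e. the adjunction morphisms X_• → cosk_n sk_n X_• (coskeleta
relative to Y) are isomorphisms. In the source this is phrased as: for a class S of covering maps of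
varieties containing the identities, X_• → Y is an S-hypercover whenever X → Y lies in S, the
adjunction maps X_p → (cosk_{p-1} sk_{p-1} X_•)_p being isomorphisms for p ≥ 1 and X_0 → Y being f.
(Stated for arbitrary schemes; the source has varieties over a field.) -/
theorem result (X Y : Scheme.{u}) (f : X ⟶ Y) (n : ℕ) :
    SimplicialObject.IsCoskeletal (cechNerveTerminalFrom (Over.mk f)) n := by
  exact isCoskeletal_cechNerveTerminalFrom _ n

end Groth.Agent.S19631
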