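import Groth.Statements.S19633
import Groth.Agent.Lib.H2DeRhamWeight
import Groth.Agent.Lib.EulerDerivation
import Mathlib

set_option autoImplicit false
universe u
open DeRham

namespace Groth.Agent.S19633

open Groth.Agent.Lib.H2DeRhamD Groth.Agent.Lib.H2DeRhamLie Groth.Agent.Lib.H2DeRhamWeight Groth.Agent.Lib.EulerDerivation KaehlerDifferential exteriorPower LaurentPolynomial

section
variable (k : Type u) [Field k] [CharZero k]

/-- the Euler derivation `T ∂/∂T` -/
noncomputable def eul : Derivation k (LaurentPolynomial k) (LaurentPolynomial k) :=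
  euler k (Int.castAddHom k)

theorem eul_C_mul_T (c : k) (n : ℤ) : eul k (C c * T n) = C ((n : k) * c) * T n := by
  rw [← single_eq_C_mul_T, ← single_eq_C_mul_T]
  exact euler_single k (Int.castAddHom k) n c

theorem coeff_eul (f : LaurentPolynomial k) (n : ℤ) :
    (eul k f).coeff n = (n : k) * f.coeff n :=
  euler_coeff k (Int.castAddHom k) f n

/-- `dT` -/
noncomputable def dT : Ω[LaurentPolynomial k⁄k] := KaehlerDifferential.D k (LaurentPolynomial k) (T 1)

theorem D_T_nat (n : ℕ) : KaehlerDifferential.D k (LaurentPolynomial k) (T (n : ℤ)) =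
    (n : ℤ) • (T ((n : ℤ) - 1) : LaurentPolynomial k) • dT k := by
  have h1 : (T (n : ℤ) : LaurentPolynomial k) = T 1 ^ n := by rw [T_pow, mul_one]
  rw [h1, Derivation.leibniz_pow, T_pow, mul_one, dT, natCast_zsmul]
  rcases n with _ | n
  · simp
  · congr 3
    push_cast
    ring

theorem D_T (n : ℤ) : KaehlerDifferential.D k (LaurentPolynomial k) (T n) =
    n • (T (n - 1) : LaurentPolynomial k) • dT k := by
  rcases Int.le_total 0 n with h | h
  · obtain ⟨m, rfl⟩ := Int.eq_ofNat_of_zero_le h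
    exact D_T_nat k m
  · obtain ⟨m, hm⟩ := Int.eq_ofNat_of_zero_le (neg_nonneg.mpr h)
    have hn : n = -(m : ℤ) := by omega
    subst hn
    have h1 : (T (-(m : ℤ)) : LaurentPolynomial k) * T (m : ℤ) = 1 := by
      rw [← T_add, neg_add_cancel, T_zero]
    rw [Derivation.leibniz_of_mul_eq_one _ h1, D_T_nat, T_pow, smul_comm, smul_smul, neg_mul,
      ← T_add, neg_smul, smul_neg, neg_smul]
    congr 3
    push_cast
    ring_nf

theorem D_eq (a : LaurentPolynomial k) : KaehlerDifferential.D k (LaurentPolynomial k) a =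
    (T (-1) * eul k a) • dT k := by
  induction a using LaurentPolynomial.induction_on' with
  | add p q hp hq => rw [map_add, map_add, hp, hq, mul_add, add_smul]
  | C_mul_T n c =>
    have hC : KaehlerDifferential.D k (LaurentPolynomial k) (C c) = 0 := by
      rw [C_eq_algebraMap]
      exact Derivation.map_algebraMap _ _
    rw [Derivation.leibniz, eul_C_mul_T, D_T, hC, smul_zero, add_zero, smul_comm, smul_smul]
    rw [← Int.cast_smul_eq_zsmul k n, ← algebraMap_smul (LaurentPolynomial k) (n : k), smul_smul]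
    congr 1
    rw [map_mul, ← C_eq_algebraMap]
    rw [show (n - 1 : ℤ) = -1 + n by ring, T_add]
    ring

/-- forms of degree `≥ 2` vanish -/
theorem ext_ge_two (i : ℕ) (x : ↥(⋀[LaurentPolynomial k]^(i + 2) (Ω[LaurentPolynomial k⁄k]))) :
    x = 0 := by
  refine Groth.Agent.Lib.H79DeRhamGen.gen_induction_kaehler k (LaurentPolynomial k) (i + 2)
    (P := fun x => x = 0) rfl (fun x y hx hy => by rw [hx, hy, add_zero]) ?_ x
  intro b₀ b
  unfold DeRham.gen
  have h1 : (fun j => KaehlerDifferential.D k (LaurentPolynomial k) (b j)) =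
      fun j => (T (-1) * eul k (b j)) • dT k := funext fun j => D_eq k (b j)
  rw [h1, (ιMulti (LaurentPolynomial k) (i + 2)).map_smul_univ]
  have h2 : ιMulti (LaurentPolynomial k) (i + 2) (fun _ => dT k) = 0 :=
    (ιMulti (LaurentPolynomial k) (i + 2)).map_eq_zero_of_eq (fun _ => dT k)
      (i := (0 : Fin (i + 2))) (j := (1 : Fin (i + 2))) rfl (by
        intro h
        have := congrArg Fin.val h
        simp at this)
  rw [h2, smul_zero, smul_zero]

/-- the generator `T⁻¹ dT` -/
noncomputable def g : ↥(⋀[LaurentPolynomial k]^1 (Ω[LaurentPolynomial k⁄k])) :=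
  DeRham.gen (KaehlerDifferential.D k (LaurentPolynomial k)) 1 (T (-1)) (fun _ => T 1)

/-- the weight spaces -/
def G (N : ℤ) : Submodule ℤ (LaurentPolynomial k) where
  carrier := {a | ∃ c : k, a = C c * T N}
  zero_mem' := ⟨0, by simp⟩
  add_mem' := by
    rintro a b ⟨c, rfl⟩ ⟨c', rfl⟩
    exact ⟨c + c', by rw [map_add, add_mul]⟩
  smul_mem' := by
    rintro z a ⟨c, rfl⟩
    exact ⟨z • c, by rw [map_zsmul, smul_mul_assoc]⟩

theorem hG (N : ℤ) (a : LaurentPolynomial k) (ha : a ∈ G k N) : eul k a = N • a := by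
  obtain ⟨c, rfl⟩ := ha
  rw [eul_C_mul_T, map_mul, mul_assoc, ← Int.cast_smul_eq_zsmul k N,
    ← algebraMap_smul (LaurentPolynomial k) (N : k), smul_eq_mul, ← C_eq_algebraMap]

theorem hA (a : LaurentPolynomial k) : a ∈ ⨆ N, G k N := by
  induction a using LaurentPolynomial.induction_on' with
  | add p q hp hq => exact add_mem hp hq
  | C_mul_T n c => exact Submodule.mem_iSup_of_mem n ⟨c, rfl⟩

theorem hQ (z : ℤ) (hz : z ≠ 0) : IsUnit ((z : ℤ) : k) :=
  isUnit_iff_ne_zero.mpr (Int.cast_ne_zero.mpr hz)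

theorem S_one_zero (y : ↥(⋀[LaurentPolynomial k]^1 (Ω[LaurentPolynomial k⁄k])))
    (hy : y ∈ S k (LaurentPolynomial k) (G k) 1 0) : y ∈ Submodule.span k {g k} := by
  induction hy using Submodule.span_induction with
  | mem y hy =>
    obtain ⟨n₀, b₀, m, b, hb₀, hb, hN, rfl⟩ := hy
    obtain ⟨c₀, rfl⟩ := hb₀
    obtain ⟨c₁, hc₁⟩ := hb 0
    have hsum : n₀ + m 0 = 0 := by simpa using hN
    have : DeRham.gen (KaehlerDifferential.D k (LaurentPolynomial k)) 1 (C c₀ * T n₀) b =
        (c₀ * ((m 0 : k) * c₁)) • g k := by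
      unfold g DeRham.gen
      rw [← algebraMap_smul (LaurentPolynomial k) (c₀ * ((m 0 : k) * c₁)), smul_smul]
      have e1 : (fun i : Fin 1 => KaehlerDifferential.D k (LaurentPolynomial k) (b i)) =
          fun i : Fin 1 => (T (-1) * eul k (b 0)) • dT k := by
        funext i
        rw [Subsingleton.elim i 0]
        exact D_eq k (b 0)
      have e2 : (fun _ : Fin 1 => KaehlerDifferential.D k (LaurentPolynomial k) (T 1)) =
          fun _ : Fin 1 => dT k := rfl
      rw [e1, e2, (ιMulti (LaurentPolynomial k) 1).map_smul_univ, smul_smul]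
      congr 1
      rw [Finset.prod_const, Finset.card_univ, Fintype.card_fin, pow_one, hc₁, eul_C_mul_T,
        ← C_eq_algebraMap, map_mul]
      have : n₀ = - m 0 := by omega
      rw [this]
      have hXY : (T (-m 0) : LaurentPolynomial k) * T (m 0) = 1 := by
        rw [← T_add, neg_add_cancel, T_zero]
      simp only [map_mul]
      linear_combination (C c₀ * C (m 0 : k) * C c₁ * T (-1)) * hXY
    rw [this]
    exact Submodule.smul_mem _ _ (Submodule.mem_span_singleton_self _)
  | zero => exact zero_mem _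
  | add x y _ _ hx hy => exact add_mem hx hy
  | smul z x _ hx => exact zsmul_mem hx z

/-- the residue -/
noncomputable def res (x : ↥(⋀[LaurentPolynomial k]^1 (Ω[LaurentPolynomial k⁄k]))) : k :=
  (ExteriorAlgebra.algebraMapInv (contr k (LaurentPolynomial k) (eul k)
    (x : ExteriorAlgebra (LaurentPolynomial k) (Ω[LaurentPolynomial k⁄k])))).coeff 0

theorem res_smul (c : k) (x : ↥(⋀[LaurentPolynomial k]^1 (Ω[LaurentPolynomial k⁄k]))) :
    res k (c • x) = c * res k x := by
  unfold res
  rw [← algebraMap_smul (LaurentPolynomial k) c x, Submodule.coe_smul, map_smul, map_smul,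
    algebraMap_smul]
  exact AddMonoidAlgebra.coeff_smul_apply c _ 0

theorem res_d (d : ∀ p : ℕ, ↥(⋀[LaurentPolynomial k]^p (Ω[LaurentPolynomial k⁄k])) →ₗ[k]
      ↥(⋀[LaurentPolynomial k]^(p + 1) (Ω[LaurentPolynomial k⁄k])))
    (hd : DeRham.IsDiff (KaehlerDifferential.D k (LaurentPolynomial k)) d)
    (f : ↥(⋀[LaurentPolynomial k]^0 (Ω[LaurentPolynomial k⁄k]))) : res k (d 0 f) = 0 := by
  unfold res
  rw [coe_d k (LaurentPolynomial k) d hd.1 0 f]
  have hf : (f : ExteriorAlgebra (LaurentPolynomial k) (Ω[LaurentPolynomial k⁄k])) ∈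
      (LinearMap.range (ExteriorAlgebra.ι (LaurentPolynomial k) :
        (Ω[LaurentPolynomial k⁄k]) →ₗ[LaurentPolynomial k] _)) ^ 0 := f.2
  rw [pow_zero, Submodule.mem_one] at hf
  obtain ⟨a, ha⟩ := hf
  rw [← ha, dFun_algebraMap]
  have h1 : contr k (LaurentPolynomial k) (eul k) (ιD k (LaurentPolynomial k) a) =
      algebraMap (LaurentPolynomial k) _ (eul k a) := by
    have := contr_ιD_mul k (LaurentPolynomial k) (eul k) a 1
    rw [mul_one, contr_one, mul_zero, sub_zero] at this
    rw [this, Algebra.algebraMap_eq_smul_one]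
  rw [h1, ExteriorAlgebra.algebraMap_leftInverse, coeff_eul]
  simp

theorem res_g : res k (g k) = 1 := by
  unfold res g
  rw [coe_gen, map_smul, map_smul, wedgeD_succ, wedgeD_zero, contr_ιD_mul, contr_one, mul_zero,
    sub_zero, ← Algebra.algebraMap_eq_smul_one, ExteriorAlgebra.algebraMap_leftInverse]
  have h1 : eul k (T 1) = T 1 := by
    have := eul_C_mul_T k 1 1
    simpa using this
  show ((T (-1) : LaurentPolynomial k) • eul k (T 1)).coeff 0 = 1
  rw [h1, smul_eq_mul, ← T_add]
  simp

end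

set_option maxHeartbeats 1000000 in
theorem result' (k : Type u) [Field k] [CharZero k]
    (d : ∀ p : ℕ, ↥(⋀[LaurentPolynomial k]^p (Ω[LaurentPolynomial k⁄k])) →ₗ[k] ↥(⋀[LaurentPolynomial k]^(p + 1) (Ω[LaurentPolynomial k⁄k])))
    (hd : DeRham.IsDiff (KaehlerDifferential.D k (LaurentPolynomial k)) d) :
    DeRham.cocycles d 1 = ⊤ ∧
    IsCompl (DeRham.coboundaries d 1)
      (Submodule.span k {DeRham.gen (KaehlerDifferential.D k (LaurentPolynomial k)) 1
        (LaurentPolynomial.T (-1)) (fun _ => LaurentPolynomial.T 1)}) ∧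
    DeRham.gen (KaehlerDifferential.D k (LaurentPolynomial k)) 1
        (LaurentPolynomial.T (-1)) (fun _ => LaurentPolynomial.T 1) ∉ DeRham.coboundaries d 1 ∧
    ∀ i : ℕ, DeRham.cocycles d (i + 2) ≤ DeRham.coboundaries d (i + 2) := by
  have hcl : ∀ x, d 1 x = 0 := fun x => ext_ge_two k 0 _
  refine ⟨eq_top_iff.mpr fun x _ => hcl x, ⟨?_, ?_⟩, ?_, fun i x _ => ?_⟩
  · rw [Submodule.disjoint_def]
    intro x hx1 hx2
    obtain ⟨f, rfl⟩ := hx1
    obtain ⟨c, hc⟩ := Submodule.mem_span_singleton.mp hx2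
    have h1 : res k (d 0 f) = 0 := res_d k d hd f
    rw [← hc] at h1
    have h2 : res k (c • g k) = c := by rw [res_smul, res_g, mul_one]
    have h3 : c = 0 := by rw [← h2]; exact h1
    rw [← hc, h3, zero_smul]
  · rw [codisjoint_iff, eq_top_iff]
    intro x _
    have hx : dFun k (LaurentPolynomial k)
        (x : ExteriorAlgebra (LaurentPolynomial k) (Ω[LaurentPolynomial k⁄k])) = 0 := by
      rw [← coe_d k (LaurentPolynomial k) d hd.1 1 x, hcl x]
      rfl
    obtain ⟨z₀, hz₀, -, w, -, hwq, hw⟩ := main k (LaurentPolynomial k) (eul k) (hQ k)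
      (hG k) (hA k) 1 x hx
    have hxeq : x = d 0 ⟨w, hwq 0 rfl⟩ + z₀ := by
      apply Subtype.ext
      rw [Submodule.coe_add, coe_d k (LaurentPolynomial k) d hd.1 0, ← hw]
      simp
    rw [hxeq]
    exact Submodule.add_mem_sup ⟨_, rfl⟩ (S_one_zero k z₀ hz₀)
  · rintro ⟨f, hf⟩
    have h1 : res k (d 0 f) = 0 := res_d k d hd f
    rw [hf] at h1
    have h2 := res_g k
    unfold g at h2
    rw [h2] at h1
    exact one_ne_zero h1
  · rw [ext_ge_two k i x]
    exact zero_mem _


open exteriorPower in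
/-- Let k be a field of characteristic zero, G_m = Spec k[t, t⁻¹], and d the de Rham differential of
k[t, t⁻¹] over k. Then: every 1-form is closed; the exact 1-forms and the k-line spanned by t⁻¹ dt
are complementary subspaces of the 1-forms, and t⁻¹ dt is not exact — so H^1_dR(G_m/k) is
one-dimensional, generated by the class of dt/t (the isomorphism with k being the residue); and for
every i ≥ 2 the closed i-forms are exact, so H^i_dR(G_m/k) = 0 for i > 1. (Characteristic zero is
used in the computation of the exact forms.) -/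
theorem result (k : Type u) [Field k] [CharZero k]
    (d : ∀ p : ℕ, ↥(⋀[LaurentPolynomial k]^p (Ω[LaurentPolynomial k⁄k])) →ₗ[k] ↥(⋀[LaurentPolynomial k]^(p + 1) (Ω[LaurentPolynomial k⁄k])))
    (hd : DeRham.IsDiff (KaehlerDifferential.D k (LaurentPolynomial k)) d) :
    DeRham.cocycles d 1 = ⊤ ∧
    IsCompl (DeRham.coboundaries d 1)
      (Submodule.span k {DeRham.gen (KaehlerDifferential.D k (LaurentPolynomial k)) 1
        (LaurentPolynomial.T (-1)) (fun _ => LaurentPolynomial.T 1)}) ∧
    DeRham.gen (KaehlerDifferential.D k (LaurentPolynomial k)) 1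
        (LaurentPolynomial.T (-1)) (fun _ => LaurentPolynomial.T 1) ∉ DeRham.coboundaries d 1 ∧
    ∀ i : ℕ, DeRham.cocycles d (i + 2) ≤ DeRham.coboundaries d (i + 2) := by
  exact result' k d hd

end Groth.Agent.S19633
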