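import Groth.Statements.S19634
import Groth.Agent.Lib.NodeAlgebra

set_option autoImplicit false
universe u
open DeRham

namespace Groth.Agent.S19634

/-- Let k be a field of characteristic zero and A = k[X, Y]/(XY), the coordinate ring of two affine
lines crossing in a point. In the naive de Rham complex A → Ω¹_{A/k} the kernel of d consists of the
constants: dP = 0 if and only if P is in the image of k. -/
theorem result (k : Type u) [Field k] [CharZero k]
    (P : MvPolynomial (Fin 2) k ⧸ Ideal.span {(MvPolynomial.X 0 * MvPolynomial.X 1 : MvPolynomial (Fin 2) k)}) :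
    KaehlerDifferential.D k (MvPolynomial (Fin 2) k ⧸ Ideal.span {(MvPolynomial.X 0 * MvPolynomial.X 1 : MvPolynomial (Fin 2) k)}) P = 0 ↔
      P ∈ Set.range (algebraMap k (MvPolynomial (Fin 2) k ⧸ Ideal.span {(MvPolynomial.X 0 * MvPolynomial.X 1 : MvPolynomial (Fin 2) k)})) := by
  open Groth.Agent.Lib.NodeAlgebra in
  constructor
  · intro h
    have hj : ∀ j : Fin 2, eulerQ k j P = 0 := by
      intro j
      have := congrArg (eulerQ k j).liftKaehlerDifferential h
      rwa [Derivation.liftKaehlerDifferential_comp_D, map_zero] at this
    exact const_of_eulerQ_eq_zero k P (hj 0) (hj 1)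
  · rintro ⟨a, rfl⟩
    exact Derivation.map_algebraMap _ a

end Groth.Agent.S19634
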