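import Groth.Statements.S19635
import Groth.Agent.Lib.NodeAlgebra

set_option autoImplicit false
universe u
open DeRham

namespace Groth.Agent.S19635

/-- Let k be a field of characteristic zero and A = k[X, Y]/(XY), the coordinate ring of two affine
lines crossing in a point. The differential d : A → Ω¹_{A/k} of the naive de Rham complex is not
surjective, so the naive H^1 of this singular curve does not vanish although one expects trivial
cohomology; this is the example motivating the h-topology definition. -/
theorem result (k : Type u) [Field k] [CharZero k] :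
    ¬ Function.Surjective (KaehlerDifferential.D k (MvPolynomial (Fin 2) k ⧸ Ideal.span {(MvPolynomial.X 0 * MvPolynomial.X 1 : MvPolynomial (Fin 2) k)})) := by
  open Groth.Agent.Lib.NodeAlgebra Groth.Agent.Lib.EulerDerivation in
  intro hsurj
  obtain ⟨Q, hQ⟩ := hsurj (xbar k • KaehlerDifferential.D k (Node k) (ybar k))
  have hj : ∀ j : Fin 2, eulerQ k j Q = 0 := by
    intro j
    have := congrArg (eulerQ k j).liftKaehlerDifferential hQ
    rw [Derivation.liftKaehlerDifferential_comp_D, map_smul,
      Derivation.liftKaehlerDifferential_comp_D, eulerQ_mk] at this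
    rw [this]
    have hX1 : (MvPolynomial.X 1 : MvPolynomial (Fin 2) k) =
        MvPolynomial.monomial (Finsupp.single 1 1) 1 := rfl
    rw [hX1, mvEuler_monomial, smul_eq_mul]
    fin_cases j
    · have : ((Finsupp.single (1 : Fin 2) 1 : Fin 2 →₀ ℕ) (0 : Fin 2) : k) = 0 := by simp
      change xbar k * Ideal.Quotient.mk _ (MvPolynomial.monomial _
        (((Finsupp.single (1 : Fin 2) 1 : Fin 2 →₀ ℕ) (0 : Fin 2) : k) * 1)) = 0
      rw [this, zero_mul, map_zero, map_zero, mul_zero]
    · have : ((Finsupp.single (1 : Fin 2) 1 : Fin 2 →₀ ℕ) (1 : Fin 2) : k) = 1 := by simp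
      change xbar k * Ideal.Quotient.mk _ (MvPolynomial.monomial _
        (((Finsupp.single (1 : Fin 2) 1 : Fin 2 →₀ ℕ) (1 : Fin 2) : k) * 1)) = 0
      rw [this, mul_one]
      exact xbar_mul_ybar k
  obtain ⟨c, rfl⟩ := const_of_eulerQ_eq_zero k Q (hj 0) (hj 1)
  rw [Derivation.map_algebraMap] at hQ
  exact xbar_smul_D_ybar_ne_zero k hQ.symm

end Groth.Agent.S19635
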