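import Groth.Statements.S1964
import Groth.Agent.Lib.HenselIntegralLocal
import Mathlib.FieldTheory.PurelyInseparable.Basic
import Mathlib.FieldTheory.IsSepClosed

set_option autoImplicit false
universe u
open EtAlg

namespace Groth.Agent.S1964

/-- A domain B integral over a henselian local ring A is itself henselian local, and the structure map A
-> B is local; if the residue field of A is separably closed, so is that of B, and the residue field
extension is purely inseparable. -/
theorem result (A B : Type u) [CommRing A] [HenselianLocalRing A] [CommRing B]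
    [IsDomain B] [Algebra A B] [Algebra.IsIntegral A B] :
    ∃ _ : HenselianLocalRing B, IsLocalHom (algebraMap A B) ∧
      (IsSepClosed (IsLocalRing.ResidueField A) →
        IsSepClosed (IsLocalRing.ResidueField B) ∧
        ∀ _ : IsLocalHom (algebraMap A B),
          letI := (IsLocalRing.ResidueField.map (algebraMap A B)).toAlgebra
          IsPurelyInseparable (IsLocalRing.ResidueField A) (IsLocalRing.ResidueField B)) := by
  classical
  have hloc : IsLocalRing B :=
    Groth.Agent.Lib.HenselIntegralLocal.isLocalRing_of_isDomain_of_isIntegral A B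
  have hH : HenselianLocalRing B :=
    Groth.Agent.Lib.HenselIntegralLocal.henselianLocalRing_of_isIntegral A B
  have hlh : IsLocalHom (algebraMap A B) := by
    refine ⟨fun a ha => ?_⟩
    by_contra hna
    have h1 : a ∈ IsLocalRing.maximalIdeal A := (IsLocalRing.mem_maximalIdeal a).2 hna
    have h2 : algebraMap A B a ∈ IsLocalRing.maximalIdeal B :=
      Groth.Agent.Lib.HenselIntegralLocal.map_maximalIdeal_le (Ideal.mem_map_of_mem _ h1)
    exact (IsLocalRing.mem_maximalIdeal _).1 h2 ha
  refine ⟨hH, hlh, fun hsep => ?_⟩
  letI := (IsLocalRing.ResidueField.map (algebraMap A B)).toAlgebra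
  have halg : Algebra.IsAlgebraic (IsLocalRing.ResidueField A) (IsLocalRing.ResidueField B) := by
    refine ⟨fun y => ?_⟩
    obtain ⟨b, rfl⟩ := IsLocalRing.residue_surjective y
    obtain ⟨f, hfm, hfb⟩ := Algebra.IsIntegral.isIntegral (R := A) b
    refine IsIntegral.isAlgebraic ⟨f.map (IsLocalRing.residue A), hfm.map _, ?_⟩
    rw [Polynomial.eval₂_map]
    have h1 : (algebraMap (IsLocalRing.ResidueField A) (IsLocalRing.ResidueField B)).comp
        (IsLocalRing.residue A) = (IsLocalRing.residue B).comp (algebraMap A B) := by
      ext a
      rfl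
    rw [h1, ← Polynomial.hom_eval₂, hfb, map_zero]
  refine ⟨Algebra.IsAlgebraic.isSepClosed (F := IsLocalRing.ResidueField A), fun _ => ?_⟩
  infer_instance

end Groth.Agent.S1964
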