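-- Statement S1965; proof by helper61.
import Groth.Statements.S1965
import Groth.Agent.Lib.HenselGeneral
import Mathlib.RingTheory.KrullDimension.Basic
import Mathlib.RingTheory.Finiteness.Ideal
import Mathlib.RingTheory.Ideal.Operations

set_option autoImplicit false
universe u
open Polynomial
open EtAlg

namespace Groth.Agent.S1965

open Groth.Agent.Lib.HenselGeneral

theorem eval_mem_of_coeff_mem {A : Type u} [CommRing A] (J : Ideal A) (Q : A[X])
    (hQ : ∀ i, Q.coeff i ∈ J) (x : A) : Q.eval x ∈ J := by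
  rw [eval_eq_sum_range]
  exact Submodule.sum_mem _ fun i _ => Ideal.mul_mem_right _ _ (hQ i)

theorem derivative_eval_mem_of_coeff_mem {A : Type u} [CommRing A] (J : Ideal A) (Q : A[X])
    (hQ : ∀ i, Q.coeff i ∈ J) (x : A) : Q.derivative.eval x ∈ J := by
  apply eval_mem_of_coeff_mem
  intro i
  rw [coeff_derivative]
  exact Ideal.mul_mem_right _ _ (hQ _)

theorem exists_pow_le_span {A : Type u} [CommRing A] [IsDomain A] [IsLocalRing A]
    [IsNoetherianRing A] (hdim : ringKrullDim A = 1) (a : A) (ha : a ≠ 0) :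
    ∃ N : ℕ, IsLocalRing.maximalIdeal A ^ N ≤ Ideal.span {a} := by
  have hK : Ring.KrullDimLE 1 A := by
    rw [Ring.krullDimLE_iff, hdim]
    rfl
  by_cases hle : Ideal.span {a} ≤ IsLocalRing.maximalIdeal A
  · have hrad : (Ideal.span {a}).radical = IsLocalRing.maximalIdeal A := by
      rw [Ideal.radical_eq_sInf]
      apply le_antisymm
      · exact sInf_le ⟨hle, inferInstance⟩
      · refine le_sInf fun I hI => (IsLocalRing.eq_maximalIdeal
          (hI.2.isMaximal_of_ne_bot (fun e => ha ?_))).ge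
        rw [← Ideal.span_singleton_eq_bot, eq_bot_iff, ← e]; exact hI.1
    rw [← hrad]
    exact Ideal.exists_radical_pow_le_of_fg _ (IsNoetherian.noetherian _)
  · refine ⟨0, ?_⟩
    have : Ideal.span {a} = ⊤ := by
      by_contra hne
      exact hle (IsLocalRing.le_maximalIdeal hne)
    rw [this]
    exact le_top

/-- Let A be a complete Noetherian local domain of Krull dimension 1 with maximal ideal m, P a
polynomial over A and α a root of P which is not a root of the derivative P'. Then for every c there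
is an n such that for every polynomial Q all of whose coefficients lie in m^n, the polynomial P + Q
has a root β with β - α in m^c. -/
theorem result (A : Type u) [CommRing A] [IsDomain A] [IsLocalRing A] [IsNoetherianRing A]
    [IsAdicComplete (IsLocalRing.maximalIdeal A) A] (hdim : ringKrullDim A = 1) (P : A[X]) (α : A)
    (hα : P.eval α = 0) (hα' : (derivative P).eval α ≠ 0) (c : ℕ) :
    ∃ n : ℕ, ∀ Q : A[X], (∀ i, Q.coeff i ∈ IsLocalRing.maximalIdeal A ^ n) →
      ∃ β : A, (P + Q).eval β = 0 ∧ β - α ∈ IsLocalRing.maximalIdeal A ^ c := by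
  set m := IsLocalRing.maximalIdeal A with hm
  set d := (derivative P).eval α with hd
  have hd2 : d ^ 2 ≠ 0 := pow_ne_zero 2 hα'
  obtain ⟨N, hN⟩ := exists_pow_le_span hdim (d ^ 2) hd2
  refine ⟨N + (c + 1), ?_⟩
  intro Q hQ
  have hle : m ^ (N + (c + 1)) ≤ Ideal.span {d ^ 2} * m ^ (c + 1) := by
    rw [pow_add]
    exact Ideal.mul_mono_left hN
  have hmc : m ^ (c + 1) ≤ m := by
    rw [pow_succ]
    exact Ideal.mul_le_right
  have hmc' : m ^ (c + 1) ≤ m ^ c := Ideal.pow_le_pow_right (Nat.le_succ c)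
  obtain ⟨e₀, he₀, hQe⟩ := Ideal.mem_span_singleton_mul.mp
    (hle (eval_mem_of_coeff_mem _ Q hQ α))
  obtain ⟨μ, hμ, hQμ⟩ := Ideal.mem_span_singleton_mul.mp
    (hle (derivative_eval_mem_of_coeff_mem _ Q hQ α))
  have hu : IsUnit (1 + d * μ) := by
    rw [← IsLocalRing.notMem_maximalIdeal]
    intro hmem
    have h1 : d * μ ∈ m := Ideal.mul_mem_left _ _ (hmc hμ)
    have : (1 : A) ∈ m := by
      have := Ideal.sub_mem _ hmem h1
      rwa [add_sub_cancel_right] at this
    exact (Ideal.ne_top_iff_one _).mp (IsLocalRing.maximalIdeal.isMaximal A).ne_top this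
  obtain ⟨u, hu'⟩ := hu
  have hF : (P + Q).eval α = d ^ 2 * e₀ := by
    rw [eval_add, hα, zero_add, hQe]
  have hF' : (P + Q).derivative.eval α = d * u := by
    rw [derivative_add, eval_add, ← hd, ← hQμ, hu']
    ring
  set e := (↑u⁻¹ : A) ^ 2 * e₀ with he
  have heI : e ∈ m ^ (c + 1) := Ideal.mul_mem_left _ _ he₀
  have hFe : (P + Q).eval α = ((P + Q).derivative.eval α) ^ 2 * e := by
    rw [hF, hF', he]
    have : (u : A) * ↑u⁻¹ = 1 := u.mul_inv
    calc d ^ 2 * e₀ = d ^ 2 * ((u : A) * ↑u⁻¹) ^ 2 * e₀ := by rw [this]; ring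
      _ = (d * ↑u) ^ 2 * ((↑u⁻¹ : A) ^ 2 * e₀) := by ring
  obtain ⟨y, hy1, hy2⟩ := exists_root_of_eval_eq_sq_mul m (P + Q) α e (hmc heI) hFe
  refine ⟨α + (P + Q).derivative.eval α * y, hy2, ?_⟩
  rw [add_sub_cancel_left]
  apply hmc'
  apply Ideal.mul_mem_left
  have hspan : Ideal.span {e} ≤ m ^ (c + 1) := by
    rw [Ideal.span_singleton_le_iff_mem]; exact heI
  exact hspan hy1

end Groth.Agent.S1965
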