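import Groth.Statements.S19651
import Mathlib.Algebra.BigOperators.Intervals
import Mathlib.RingTheory.Coprime.Lemmas

set_option autoImplicit false
universe u v
open AbVar

namespace Groth.Agent.S19651

open Polynomial

section
variable {k : Type u} [Field k] {V : Type v} [AddCommGroup V] [Module k V]
  (B : LinearMap.BilinForm k V) (M : V →ₗ[k] V)

theorem inv_pow (hM : ∀ x y : V, B (M x) (M y) = B x y) (i : ℕ) (x y : V) :
    B ((M ^ i) x) ((M ^ i) y) = B x y := by
  induction i generalizing x y with
  | zero => simp
  | succ i ih =>
    rw [pow_succ, Module.End.mul_apply, Module.End.mul_apply, ih, hM]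

/-- the key adjunction identity for the reversed polynomial -/
theorem key (hM : ∀ x y : V, B (M x) (M y) = B x y) (f : k[X]) (x y : V) :
    B x ((aeval M f.reverse) y) = B ((aeval M f) x) ((M ^ f.natDegree) y) := by
  set d := f.natDegree with hd
  have h1 : aeval M f.reverse = ∑ j ∈ Finset.range (d + 1), f.coeff (d - j) • M ^ j := by
    rw [aeval_eq_sum_range' (lt_of_le_of_lt (reverse_natDegree_le f) (Nat.lt_succ_self _))]
    refine Finset.sum_congr rfl (fun j hj => ?_)
    rw [coeff_reverse, revAt_le (Nat.lt_succ_iff.mp (Finset.mem_range.mp hj))]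
  have h2 : aeval M f = ∑ i ∈ Finset.range (d + 1), f.coeff i • M ^ i := aeval_eq_sum_range M
  rw [h1, h2]
  simp only [LinearMap.sum_apply, LinearMap.smul_apply, map_sum, map_smul, LinearMap.smul_apply,
    smul_eq_mul]
  rw [← Finset.sum_range_reflect]
  refine Finset.sum_congr rfl (fun j hj => ?_)
  have hj' : j ≤ d := Nat.lt_succ_iff.mp (Finset.mem_range.mp hj)
  have e1 : d - (d + 1 - 1 - j) = j := by omega
  rw [e1]
  congr 1
  have e2 : M ^ d = M ^ j * M ^ (d + 1 - 1 - j) := by
    rw [← pow_add]; congr 1; omega
  rw [e2, Module.End.mul_apply, inv_pow B M hM]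

theorem key_pow (hM : ∀ x y : V, B (M x) (M y) = B x y) (f : k[X]) (n : ℕ) (x y : V) :
    B x (((aeval M f.reverse) ^ n) y) =
      B (((aeval M f) ^ n) x) ((M ^ (f.natDegree * n)) y) := by
  induction n generalizing x y with
  | zero => simp
  | succ n ih =>
    rw [pow_succ, Module.End.mul_apply, ih]
    -- M ^ (d n) commutes with aeval M f.reverse
    have hc : Commute (M ^ (f.natDegree * n)) (aeval M f.reverse) := by
      apply Commute.pow_left
      have := (Commute.all (X : k[X]) f.reverse).map (aeval M)
      rwa [aeval_X] at this
    have hc' := congrArg (fun L : Module.End k V => L y) hc.eq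
    simp only [Module.End.mul_apply] at hc'
    rw [hc', key B M hM]
    have e1 : (aeval M f) ^ (n + 1) = (aeval M f) * (aeval M f) ^ n := pow_succ' _ _
    have e2 : M ^ (f.natDegree * (n + 1)) = M ^ f.natDegree * M ^ (f.natDegree * n) := by
      rw [← pow_add]; congr 1; ring
    rw [e1, e2, Module.End.mul_apply, Module.End.mul_apply]

end

/-- Stated for an arbitrary invariant bilinear form, as the argument there allows. Let k be a field, V a
k-vector space with a bilinear form B and M a linear automorphism of V with B(Mx, My) = B(x, y) for
all x, y. If Q₁ and Q₂ are polynomials such that the reciprocal polynomial of Q₁ (its coefficient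
list reversed) is coprime to Q₂, then every vector killed by a power of Q₁(M) is B-orthogonal to
every vector killed by a power of Q₂(M). With Q₁ = Q₂ = Q this says that the generalized kernel of
Q(M) is totally isotropic whenever Q is coprime to its reciprocal polynomial, which for an
irreducible Q means that Q is not self-reciprocal. (The published statement takes M symplectic and
Q₁, Q₂ irreducible factors of the characteristic polynomial, with Q not self-reciprocal in the first
clause; its second clause asks Q₁ and Q₂ to be distinct and not reciprocal, which holds as proved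
when this is read as saying that Q₂ is not the reciprocal of Q₁, but fails if it only means that
neither is self-reciprocal, as the diagonal matrix with entries 2 and 1/2 preserving the standard
alternating form on k² shows; the coprimality of the reciprocal of Q₁ with Q₂, which is what the
published proof uses, is imposed here and covers both clauses.) -/
theorem result
    {k : Type u} [Field k] {V : Type v} [AddCommGroup V] [Module k V]
    (B : LinearMap.BilinForm k V) (M : V ≃ₗ[k] V)
    (hM : ∀ x y : V, B (M x) (M y) = B x y)
    (Q₁ Q₂ : k[X]) (h : IsCoprime Q₁.reverse Q₂)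
    (x y : V)
    (hx : ∃ n : ℕ, (Polynomial.aeval (M : V →ₗ[k] V) Q₁ ^ n) x = 0)
    (hy : ∃ n : ℕ, (Polynomial.aeval (M : V →ₗ[k] V) Q₂ ^ n) y = 0) :
    B x y = 0 := by
  obtain ⟨n, hn⟩ := hx
  obtain ⟨m, hm⟩ := hy
  have hM' : ∀ x y : V, B ((M : V →ₗ[k] V) x) ((M : V →ₗ[k] V) y) = B x y := hM
  obtain ⟨a, b, hab⟩ : IsCoprime (Q₁.reverse ^ n) (Q₂ ^ m) := h.pow
  rw [mul_comm a] at hab
  have hy' := congrArg (fun P : k[X] => (aeval (M : V →ₗ[k] V) P) y) hab
  simp only [map_add, map_mul, map_pow, map_one, LinearMap.add_apply, Module.End.mul_apply,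
    Module.End.one_apply] at hy'
  rw [hm, map_zero, add_zero] at hy'
  rw [← hy', key_pow B (M : V →ₗ[k] V) hM', hn, map_zero, LinearMap.zero_apply]

end Groth.Agent.S19651
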