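import Groth.Statements.S19652
import Groth.Agent.S19651
import Mathlib.RingTheory.Artinian.Module
import Mathlib.LinearAlgebra.FiniteDimensional.Basic

set_option autoImplicit false
universe u v
open AbVar

namespace Groth.Agent.S19652

open Polynomial

section
variable {k : Type u} [Field k] {V : Type v} [AddCommGroup V] [Module k V]
  (B : LinearMap.BilinForm k V) (M : V ≃ₗ[k] V)

/-- powers of `M` are surjective -/
theorem pow_surj (d : ℕ) : Function.Surjective (((M : V →ₗ[k] V) ^ d : Module.End k V)) := by
  induction d with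
  | zero => intro y; exact ⟨y, by simp⟩
  | succ d ih =>
    intro y
    obtain ⟨z, hz⟩ := ih y
    refine ⟨M.symm z, ?_⟩
    rw [pow_succ, Module.End.mul_apply]
    simpa using hz

theorem pow_inj (d : ℕ) : Function.Injective (((M : V →ₗ[k] V) ^ d : Module.End k V)) := by
  induction d with
  | zero => intro x y h; simpa using h
  | succ d ih =>
    intro x y h
    rw [pow_succ, Module.End.mul_apply, Module.End.mul_apply] at h
    exact M.injective (ih h)

variable (hM : ∀ x y : V, B (M x) (M y) = B x y) (Q : k[X]) (hQ : Associated Q Q.reverse)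
include hM hQ

/-- left orthogonality of generalized kernel and image -/
theorem orth_left (n : ℕ) (w v : V)
    (hw : ((aeval (M : V →ₗ[k] V) Q) ^ n) w = 0) :
    B w (((aeval (M : V →ₗ[k] V) Q) ^ n) v) = 0 := by
  obtain ⟨u, hu⟩ := hQ
  -- Q.reverse = Q * u
  set T := aeval (M : V →ₗ[k] V) Q with hT
  set U := aeval (M : V →ₗ[k] V) (u : k[X]) with hU
  have hUunit : IsUnit U := (u.isUnit).map (aeval (M : V →ₗ[k] V))
  have hrev : aeval (M : V →ₗ[k] V) Q.reverse = T * U := by
    rw [← hu, map_mul]
  have hcomm : Commute T U := (Commute.all Q (u : k[X])).map (aeval (M : V →ₗ[k] V))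
  have hpow : (aeval (M : V →ₗ[k] V) Q.reverse) ^ n = T ^ n * U ^ n := by
    rw [hrev, hcomm.mul_pow]
  obtain ⟨Ui, hUi⟩ := (hUunit.pow n)
  -- v = U^n (Ui⁻¹ v)
  have hv : v = (U ^ n) ((↑Ui⁻¹ : Module.End k V) v) := by
    rw [← hUi, ← Module.End.mul_apply, Units.mul_inv, Module.End.one_apply]
  rw [hv, ← Module.End.mul_apply, ← hpow,
    Groth.Agent.S19651.key_pow B (M : V →ₗ[k] V) hM Q n, hw, map_zero, LinearMap.zero_apply]

/-- right orthogonality -/
theorem orth_right (n : ℕ) (w v : V)
    (hw : ((aeval (M : V →ₗ[k] V) Q) ^ n) w = 0) :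
    B (((aeval (M : V →ₗ[k] V) Q) ^ n) v) w = 0 := by
  obtain ⟨u, hu⟩ := hQ
  set T := aeval (M : V →ₗ[k] V) Q with hT
  set U := aeval (M : V →ₗ[k] V) (u : k[X]) with hU
  have hrev : aeval (M : V →ₗ[k] V) Q.reverse = U * T := by
    rw [← hu, map_mul]
    exact ((Commute.all Q (u : k[X])).map (aeval (M : V →ₗ[k] V))).eq
  have hcomm : Commute U T := (Commute.all (u : k[X]) Q).map (aeval (M : V →ₗ[k] V))
  have hpow : (aeval (M : V →ₗ[k] V) Q.reverse) ^ n = U ^ n * T ^ n := by
    rw [hrev, hcomm.mul_pow]
  obtain ⟨w₀, hw₀⟩ := pow_surj M (Q.natDegree * n) w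
  have hTM : Commute (T ^ n) ((M : V →ₗ[k] V) ^ (Q.natDegree * n)) := by
    apply Commute.pow_right
    apply Commute.pow_left
    have := (Commute.all Q (X : k[X])).map (aeval (M : V →ₗ[k] V))
    rwa [aeval_X] at this
  have hw₀' : (T ^ n) w₀ = 0 := by
    apply pow_inj M (Q.natDegree * n)
    rw [map_zero, ← Module.End.mul_apply, ← hTM.eq, Module.End.mul_apply, hw₀, hw]
  rw [← hw₀, ← Groth.Agent.S19651.key_pow B (M : V →ₗ[k] V) hM Q n, hpow, Module.End.mul_apply,
    hw₀', map_zero, map_zero]

end

/-- Stated for an arbitrary invariant nondegenerate bilinear form, as the argument there allows. Let k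
be a field, V a finite-dimensional k-vector space with a nondegenerate bilinear form B and M a
linear automorphism of V with B(Mx, My) = B(x, y) for all x, y. If Q is a polynomial associated to
its own reciprocal polynomial (its coefficient list reversed), then B restricted to the generalized
kernel of Q(M), the union of the kernels of the powers Q(M)^n, is nondegenerate. (The published
statement takes M symplectic and Q a self-reciprocal divisor of the characteristic polynomial;
divisibility plays no role and is not assumed.) -/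
theorem result
    {k : Type u} [Field k] {V : Type v} [AddCommGroup V] [Module k V] [FiniteDimensional k V]
    (B : LinearMap.BilinForm k V) (hB : B.Nondegenerate) (M : V ≃ₗ[k] V)
    (hM : ∀ x y : V, B (M x) (M y) = B x y)
    (Q : k[X]) (hQ : Associated Q Q.reverse) :
    (B.restrict (⨆ n : ℕ, LinearMap.ker (Polynomial.aeval (M : V →ₗ[k] V) Q ^ n))).Nondegenerate := by
  set T := aeval (M : V →ₗ[k] V) Q with hT
  have hcompl := LinearMap.isCompl_iSup_ker_pow_iInf_range_pow T
  -- membership in W
  have hW : ∀ a : V, a ∈ (⨆ n : ℕ, LinearMap.ker (T ^ n)) ↔ ∃ n, (T ^ n) a = 0 := by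
    intro a
    have := Submodule.mem_iSup_of_chain T.iterateKer a
    simpa [LinearMap.iterateKer] using this
  -- decomposition
  have hdec : ∀ v : V, ∃ w ∈ (⨆ n : ℕ, LinearMap.ker (T ^ n)),
      ∃ w' ∈ (⨅ n : ℕ, LinearMap.range (T ^ n)), w + w' = v := by
    intro v
    have : v ∈ (⨆ n : ℕ, LinearMap.ker (T ^ n)) ⊔ (⨅ n : ℕ, LinearMap.range (T ^ n)) := by
      rw [hcompl.sup_eq_top]; trivial
    exact Submodule.mem_sup.mp this
  constructor
  · intro a ha
    have ha0 : (a : V) = 0 := by
      apply hB.1
      intro v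
      obtain ⟨w, hw, w', hw', rfl⟩ := hdec v
      obtain ⟨n, hn⟩ := (hW a).mp a.2
      have h1 : B a w = 0 := ha ⟨w, hw⟩
      have h2 : B a w' = 0 := by
        have : w' ∈ LinearMap.range (T ^ n) := (Submodule.mem_iInf _).mp hw' n
        obtain ⟨v', rfl⟩ := this
        exact orth_left B M hM Q hQ n a v' hn
      rw [map_add, h1, h2, add_zero]
    exact Subtype.ext ha0
  · intro a ha
    have ha0 : (a : V) = 0 := by
      apply hB.2
      intro v
      obtain ⟨w, hw, w', hw', rfl⟩ := hdec v
      obtain ⟨n, hn⟩ := (hW a).mp a.2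
      have h1 : B w a = 0 := ha ⟨w, hw⟩
      have h2 : B w' a = 0 := by
        have : w' ∈ LinearMap.range (T ^ n) := (Submodule.mem_iInf _).mp hw' n
        obtain ⟨v', rfl⟩ := this
        exact orth_right B M hM Q hQ n a v' hn
      rw [map_add, LinearMap.add_apply, h1, h2, add_zero]
    exact Subtype.ext ha0

end Groth.Agent.S19652
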