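-- Statement S19653.
import Groth.Statements.S19653
import Groth.Agent.Lib.H30PropDvr
import Groth.Agent.Lib.H80ProperSmoothFib
import Groth.Agent.Lib.LocConst5F
import Mathlib

set_option autoImplicit false
universe u
open AlgebraicGeometry CategoryTheory CategoryTheory.Limits
open EGA43

namespace Groth.Agent.S19653

open TopologicalSpace IsLocalRing
open Groth.Agent.Lib.H30PropDvr Groth.Agent.Lib.ProperFinHyp Groth.Agent.Lib.ConnFib5

theorem aux
    (R : Type u) [CommRing R] [IsDomain R] [IsDiscreteValuationRing R]
    (X : Scheme.{u}) (f : X ⟶ Spec (CommRingCat.of R))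
    [Flat f] [IsSeparated f] [LocallyOfFiniteType f] [QuasiCompact f]
    (s : ↥(Spec (CommRingCat.of R))) (hs0 : s = closedPoint R)
    (hs : IsProper (f.fiberToSpecResidueField s))
    (hne0 : Nonempty ↥(f.fiber s))
    (η : ↥(Spec (CommRingCat.of R))) (hη : ∀ y : ↥(Spec (CommRingCat.of R)), η ⤳ y)
    (hgc : GeometricallyConnected (f.fiberToSpecResidueField η)) :
    IsProper f ∧ GeometricallyConnected (f.fiberToSpecResidueField s) := by
  have H2 : Hyp.{u} := fun A _ _ X _ _ M hM n => Groth.Agent.S0002.result A X M hM n
  have H58 : Hyp58.{u} := fun A _ _ I X _ _ M hM p => Groth.Agent.S0058.result A I X M hM p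
  have hne : (f ⁻¹' {s}).Nonempty := by
    obtain ⟨w⟩ := hne0
    refine ⟨f.fiberι _ w, ?_⟩
    rw [← f.range_fiberι]
    exact ⟨w, rfl⟩
  haveI hprop : IsProper f := isProper_of_dvr R f s hs0 hs hne η hη hgc
  refine ⟨hprop, ?_⟩
  rw [← Groth.Agent.Lib.H80ProperSmoothFib.nGeomConnComp_eq_one_iff]
  obtain ⟨V, hV, hle⟩ := Groth.Agent.Lib.LocConst5.exists_nhds_nGeomConnComp_le_of_flat H2 H58 f s
  obtain ⟨O, hOV, hO, hsO⟩ := mem_nhds_iff.mp hV
  have hηV : η ∈ V := hOV ((hη _).mem_open hO hsO)
  have h1 : MoreMor.nGeomConnComp f η = 1 :=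
    (Groth.Agent.Lib.H80ProperSmoothFib.nGeomConnComp_eq_one_iff f _).mpr hgc
  have h2 : MoreMor.nGeomConnComp f s ≤ 1 := h1 ▸ hle _ hηV
  have h3 : 1 ≤ MoreMor.nGeomConnComp f s := by
    unfold MoreMor.nGeomConnComp
    rw [ENat.one_le_card_iff_nonempty]
    obtain ⟨w⟩ := hne0
    obtain ⟨pt⟩ : Nonempty ↥(Spec (CommRingCat.of
        (SeparableClosure ((Spec (CommRingCat.of R)).residueField s)))) := inferInstance
    have hpt : (f.fiberToSpecResidueField s) w = (Spec.map (CommRingCat.ofHom
        (algebraMap ((Spec (CommRingCat.of R)).residueField s)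
          (SeparableClosure ((Spec (CommRingCat.of R)).residueField s))))) pt :=
      Subsingleton.elim _ _
    obtain ⟨b, -, -⟩ := Scheme.Pullback.exists_preimage_pullback
      (f := f.fiberToSpecResidueField s) (g := Spec.map (CommRingCat.ofHom
        (algebraMap ((Spec (CommRingCat.of R)).residueField s)
          (SeparableClosure ((Spec (CommRingCat.of R)).residueField s))))) w pt hpt
    exact ⟨ConnectedComponents.mk b⟩
  exact le_antisymm h2 h3

theorem main
    (R : Type u) [CommRing R] [IsDomain R] [IsDiscreteValuationRing R]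
    (X : Scheme.{u}) (f : X ⟶ Spec (CommRingCat.of R))
    [Flat f] [IsSeparated f] [LocallyOfFiniteType f] [QuasiCompact f]
    [IsProper (f.fiberToSpecResidueField (IsLocalRing.closedPoint R))]
    [Nonempty ↥(f.fiber (IsLocalRing.closedPoint R))]
    [GeometricallyConnected (f.fiberToSpecResidueField (genericPoint ↥(Spec (CommRingCat.of R))))] :
    IsProper f ∧ GeometricallyConnected (f.fiberToSpecResidueField (IsLocalRing.closedPoint R)) :=
  aux R X f (closedPoint R) rfl ‹_› ‹_› (genericPoint ↥(Spec (CommRingCat.of R)))
    (fun y => (genericPoint_spec ↥(Spec (CommRingCat.of R))).specializes trivial) ‹_›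

/-- Let R be a discrete valuation ring and f : X → Spec R a flat, separated morphism of finite type
whose closed fibre is nonempty and proper over the residue field and whose generic fibre is
geometrically connected. Then f is proper, and its closed fibre is geometrically connected too. (The
published statement does not require the closed fibre to be nonempty; the affine line over the
fraction field, viewed over R, has empty closed fibre and satisfies the other hypotheses without
being proper, and the published proof uses a point of the closed fibre, so nonemptiness is assumed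
here.) -/
theorem result
    (R : Type u) [CommRing R] [IsDomain R] [IsDiscreteValuationRing R]
    (X : Scheme.{u}) (f : X ⟶ Spec (CommRingCat.of R))
    [Flat f] [IsSeparated f] [LocallyOfFiniteType f] [QuasiCompact f]
    [IsProper (f.fiberToSpecResidueField (IsLocalRing.closedPoint R))]
    [Nonempty ↥(f.fiber (IsLocalRing.closedPoint R))]
    [GeometricallyConnected (f.fiberToSpecResidueField (genericPoint ↥(Spec (CommRingCat.of R))))] :
    IsProper f ∧ GeometricallyConnected (f.fiberToSpecResidueField (IsLocalRing.closedPoint R)) := by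
  exact main R X f

end Groth.Agent.S19653
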