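import Groth.Statements.S19659
import Groth.Agent.Lib.H77IsogFib
import Groth.Agent.Lib.GrpHomFlat45
import Groth.Agent.Lib.AlgSpCritFib36
import Groth.Agent.Lib.H71HomLocus2
import Groth.Agent.Lib.H69SchReduced

set_option autoImplicit false
set_option linter.style.haveILetI false
universe u
open CategoryTheory CategoryTheory.Limits MonoidalCategory CartesianMonoidalCategory MonObj GrpObj AlgebraicGeometry
open AbSch

namespace Groth.Agent.S19659

/-- Let S be a scheme, A and B abelian schemes over S (proper smooth S-group schemes with geometrically
connected fibres) and f : A → B a homomorphism. Then f is flat exactly when it is surjective. -/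
theorem result
    {S : Scheme.{u}} (A B : Over S) [GrpObj A] [IsProper A.hom] [Smooth A.hom] [GeometricallyConnected A.hom]
    [GrpObj B] [IsProper B.hom] [Smooth B.hom] [GeometricallyConnected B.hom]
    (f : A ⟶ B) [IsMonHom f] :
    Flat f.left ↔ Surjective f.left := by
  have hsq := fun s : S => Groth.Agent.Lib.H71HomLocus.isPullback_fibHom f s
  have hlfpA : LocallyOfFinitePresentation A.hom := inferInstance
  have hflA : Flat A.hom := inferInstance
  have hlftB : LocallyOfFiniteType B.hom := inferInstance
  constructor
  · -- flat ⇒ open and closed image, which meets every (connected) fibre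
    intro hflat
    haveI : LocallyOfFinitePresentation f.left := Groth.Agent.Lib.H71HomLocus.lfp_left f
    have hprop : IsProper f.left := by
      have : IsProper (f.left ≫ B.hom) := by rw [Over.w f]; infer_instance
      exact IsProper.of_comp f.left B.hom
    have hclopen : IsClopen (Set.range f.left) :=
      ⟨f.left.isClosedMap.isClosed_range, f.left.isOpenMap.isOpen_range⟩
    constructor
    intro y
    have hconn : _root_.IsPreconnected (B.hom ⁻¹' {B.hom y}) :=
      (B.hom.isConnected_preimage_singleton (B.hom y)).isPreconnected
    have hunit : η[B].left (B.hom y) ∈ B.hom ⁻¹' {B.hom y} ∩ Set.range f.left := by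
      refine ⟨?_, η[A].left (B.hom y), ?_⟩
      · change B.hom (η[B].left (B.hom y)) = B.hom y
        rw [← Scheme.Hom.comp_apply, Over.w η[B]]
        rfl
      · rw [← Scheme.Hom.comp_apply, ← Over.comp_left, IsMonHom.one_hom]
    exact hconn.subset_isClopen hclopen ⟨_, hunit⟩ rfl
  · -- surjective ⇒ fibrewise flat ⇒ flat
    intro hsurj'
    have hsurj : ∀ s : S, Surjective (Groth.Agent.Lib.H71HomLocus.fibHom f s).left := fun s =>
      MorphismProperty.of_isPullback (hsq s) hsurj'
    have hflat : ∀ s : S, Flat (Groth.Agent.Lib.H71HomLocus.fibHom f s).left := by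
      intro s
      let κ : Type u := S.residueField s
      let t := S.fromSpecResidueField s
      let Xs : Over (Spec (CommRingCat.of κ)) := Red.bc t A
      let Ys : Over (Spec (CommRingCat.of κ)) := Red.bc t B
      let fs : Xs ⟶ Ys := Groth.Agent.Lib.H71HomLocus.fibHom f s
      letI : GrpObj Xs := Red.grpObj_bc t A
      letI : GrpObj Ys := Red.grpObj_bc t B
      haveI : IsMonHom fs := inferInstanceAs (IsMonHom ((Over.pullback t).map f))
      haveI : IsProper Xs.hom := inferInstanceAs (IsProper (pullback.snd A.hom t))
      haveI : IsProper Ys.hom := inferInstanceAs (IsProper (pullback.snd B.hom t))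
      haveI : Smooth Ys.hom := inferInstanceAs (Smooth (pullback.snd B.hom t))
      haveI : LocallyOfFiniteType Xs.hom := inferInstance
      haveI : QuasiCompact Xs.hom := inferInstance
      haveI : LocallyOfFiniteType Ys.hom := inferInstance
      haveI : IsReduced Ys.left := Groth.Agent.Lib.H69SchReduced.isReduced_of_smooth Ys.hom
      haveI : Surjective fs.left := hsurj s
      exact Groth.Agent.Lib.GrpHomFlat45.flat_of_surjective_of_isReduced fs
    have hlfp : LocallyOfFinitePresentation (f.left ≫ B.hom) := by rw [Over.w f]; infer_instance
    have hfl : Flat (f.left ≫ B.hom) := by rw [Over.w f]; infer_instance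
    refine (Groth.Agent.Lib.AlgSpCritFib36.flat_of_fibrewise_flat_lfp f.left B.hom ?_).1
    intro w
    have e : MoreMor.fiberMap f.left B.hom w =
        (pullback.congrHom (Over.w f) rfl).hom ≫ (Groth.Agent.Lib.H71HomLocus.fibHom f w).left := by
      rw [Groth.Agent.Lib.AlgSpCritFib36.fiberMap_eq]
      apply pullback.hom_ext
      · rw [pullback.lift_fst, Category.assoc]
        have h1 := (hsq w).w
        rw [← h1, pullback.congrHom_hom, pullback.lift_fst_assoc, Category.comp_id]
      · rw [pullback.lift_snd, Category.assoc]
        have h2 : (Groth.Agent.Lib.H71HomLocus.fibHom f w).left ≫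
            pullback.snd B.hom (S.fromSpecResidueField w) =
            pullback.snd A.hom (S.fromSpecResidueField w) :=
          Over.w (Groth.Agent.Lib.H71HomLocus.fibHom f w)
        rw [h2, pullback.congrHom_hom, pullback.lift_snd, Category.comp_id]
    rw [e]
    exact (MorphismProperty.cancel_left_of_respectsIso @Flat _ _).mpr (hflat w)

end Groth.Agent.S19659
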