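import Groth.Statements.S1966
import Groth.Agent.Lib.HenselRadical
import Mathlib.RingTheory.Nilpotent.Basic

set_option autoImplicit false
universe u
open EtAlg

namespace Groth.Agent.S1966

open Polynomial Groth.Agent.Lib.HenselRadical

section NilKernel

variable {S' S : Type u} [CommRing S'] [CommRing S] (φ : S' →+* S)

theorem ker_le_jacobson_of_nil (hnil : ∀ x : S', φ x = 0 → IsNilpotent x) :
    RingHom.ker φ ≤ Ideal.jacobson ⊥ := by
  intro x hx
  rw [Ideal.mem_jacobson_bot]
  intro y
  have hx' : IsNilpotent x := hnil x hx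
  exact ((Commute.all x y).isNilpotent_mul_right hx').isUnit_add_one

theorem isUnit_of_map_of_nil (hsurj : Function.Surjective φ)
    (hnil : ∀ x : S', φ x = 0 → IsNilpotent x) {z : S'} (hz : IsUnit (φ z)) : IsUnit z := by
  obtain ⟨u, hu⟩ := hz
  obtain ⟨w, hw⟩ := hsurj (↑u⁻¹ : S)
  have h1 : φ (z * w - 1) = 0 := by
    rw [map_sub, map_mul, map_one, hw, ← hu, u.mul_inv, sub_self]
  have h2 : IsUnit (z * w - 1 + 1) := (hnil _ h1).isUnit_add_one
  rw [sub_add_cancel] at h2
  exact isUnit_of_mul_isUnit_left h2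

/-- Hensel lifting along a surjection with nil kernel. -/
theorem lift_root (hsurj : Function.Surjective φ)
    (hnil : ∀ x : S', φ x = 0 → IsNilpotent x) (g : S'[X]) (x : S)
    (hx : (g.map φ).eval x = 0) (hx' : IsUnit ((g.map φ).derivative.eval x)) :
    ∃ b : S', φ b = x ∧ g.eval b = 0 ∧ IsUnit (g.derivative.eval b) := by
  obtain ⟨y, rfl⟩ := hsurj x
  have hI := ker_le_jacobson_of_nil φ hnil
  have hgy : g.eval y ∈ RingHom.ker φ := by
    rw [RingHom.mem_ker, ← eval_map_apply, hx]
  have hgy' : IsUnit (g.derivative.eval y) := by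
    apply isUnit_of_map_of_nil φ hsurj hnil
    rw [← eval_map_apply, ← derivative_map]
    exact hx'
  obtain ⟨n, hn⟩ := hnil _ hgy
  obtain ⟨b, hb1, hb2⟩ := newton_iterate hI g y hgy' hgy n
  have hspan : Ideal.span {g.eval y} ≤ RingHom.ker φ := by
    rw [Ideal.span_singleton_le_iff_mem]; exact hgy
  have hby : φ b = φ y := by
    have := hspan hb1
    rwa [RingHom.mem_ker, map_sub, sub_eq_zero] at this
  refine ⟨b, hby, ?_, ?_⟩
  · rw [pow_succ, hn, zero_mul] at hb2
    simpa using hb2
  · apply isUnit_of_map_of_nil φ hsurj hnil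
    rw [← eval_map_apply, ← derivative_map, hby]
    exact hx'

end NilKernel

section Limit

variable {A : Type u} [CommRing A] {As : ℕ → Type u} [∀ k, CommRing (As k)]
    (t : ∀ k, As (k + 1) →+* As k)
    (p : ∀ k, A →+* As k) (hp : ∀ k, (t k).comp (p (k + 1)) = p k)

include hp

theorem p_succ (j : ℕ) (a : A) : t j (p (j + 1) a) = p j a := by
  rw [← hp j]; rfl

theorem p_eq_zero_of_add (a : A) (j m : ℕ) (h : p (j + m) a = 0) : p j a = 0 := by
  induction m with
  | zero => exact h
  | succ m ih =>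
    apply ih
    have := p_succ t p hp (j + m) a
    rw [← this]
    have h' : p (j + m + 1) a = 0 := h
    rw [h', map_zero]

theorem p_eq_zero_of_le (a : A) {j k : ℕ} (hjk : j ≤ k) (h : p k a = 0) : p j a = 0 := by
  obtain ⟨m, rfl⟩ := Nat.exists_eq_add_of_le hjk
  exact p_eq_zero_of_add t p hp a j m h

theorem p_nilpotent (hnil : ∀ k (x : As (k + 1)), t k x = 0 → IsNilpotent x)
    (a : A) (k : ℕ) (h : p k a = 0) (j : ℕ) : IsNilpotent (p j a) := by
  rcases le_total j k with hjk | hkj
  · rw [p_eq_zero_of_le t p hp a hjk h]; exact IsNilpotent.zero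
  · obtain ⟨m, rfl⟩ := Nat.exists_eq_add_of_le hkj
    induction m with
    | zero => rw [show p (k + 0) a = p k a from rfl, h]; exact IsNilpotent.zero
    | succ m ih =>
      have ih' := ih (Nat.le_add_right k m)
      obtain ⟨n, hn⟩ := ih'
      have h1 : t (k + m) ((p (k + m + 1) a) ^ n) = 0 := by
        rw [map_pow, p_succ t p hp, hn]
      obtain ⟨n', hn'⟩ := hnil _ _ h1
      exact ⟨n * n', by rw [pow_mul]; exact hn'⟩

theorem isUnit_of_forall (hinj : ∀ a b : A, (∀ k, p k a = p k b) → a = b)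
    (hsurj : ∀ x : ∀ k, As k, (∀ k, t k (x (k + 1)) = x k) → ∃ a : A, ∀ k, p k a = x k)
    (a : A) (h : ∀ j, IsUnit (p j a)) : IsUnit a := by
  choose u hu using h
  have hcompat : ∀ j, t j (↑(u (j + 1))⁻¹ : As (j + 1)) = (↑(u j)⁻¹ : As j) := by
    intro j
    have h1 : t j (↑(u (j + 1))) = (u j : As j) := by
      rw [hu, hu, p_succ t p hp]
    have h2 : (u j : As j) * t j (↑(u (j + 1))⁻¹ : As (j + 1)) = 1 := by
      rw [← h1, ← map_mul, (u (j + 1)).mul_inv, map_one]
    calc t j (↑(u (j + 1))⁻¹ : As (j + 1))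
        = (↑(u j)⁻¹ : As j) * ((u j : As j) * t j (↑(u (j + 1))⁻¹ : As (j + 1))) := by
          rw [← mul_assoc, (u j).inv_mul, one_mul]
      _ = (↑(u j)⁻¹ : As j) := by rw [h2, mul_one]
  obtain ⟨b, hb⟩ := hsurj (fun j => (↑(u j)⁻¹ : As j)) hcompat
  have hab : a * b = 1 := by
    apply hinj
    intro j
    rw [map_mul, map_one, hb, ← hu, (u j).mul_inv]
  exact IsUnit.of_mul_eq_one b hab

end Limit

/-- Towers indexed by the natural numbers: let (A_k) be rings with surjective transition maps A_{k+1} ->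
A_k whose kernels consist of nilpotent elements, and let A be a ring with compatible projections p_k
: A -> A_k identifying A with the set of compatible sequences (p is jointly injective and every
compatible sequence comes from an element of A). Then for every k the pair (A, ker p_k) is
henselian. -/
theorem result (A : Type u) [CommRing A] (As : ℕ → Type u) [∀ k, CommRing (As k)]
    (t : ∀ k, As (k + 1) →+* As k) (ht : ∀ k, Function.Surjective (t k))
    (hnil : ∀ k (x : As (k + 1)), t k x = 0 → IsNilpotent x)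
    (p : ∀ k, A →+* As k) (hp : ∀ k, (t k).comp (p (k + 1)) = p k)
    (hinj : ∀ a b : A, (∀ k, p k a = p k b) → a = b)
    (hsurj : ∀ x : ∀ k, As k, (∀ k, t k (x (k + 1)) = x k) → ∃ a : A, ∀ k, p k a = x k) (k : ℕ) :
    HenselianRing A (RingHom.ker (p k)) := by
  have hjac : RingHom.ker (p k) ≤ Ideal.jacobson ⊥ := by
    intro x hx
    rw [Ideal.mem_jacobson_bot]
    intro y
    apply isUnit_of_forall t p hp hinj hsurj
    intro j
    rw [map_add, map_mul, map_one]
    have hx' : IsNilpotent (p j x) := p_nilpotent t p hp hnil x k hx j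
    exact ((Commute.all _ _).isNilpotent_mul_right hx').isUnit_add_one
  refine ⟨hjac, ?_⟩
  intro f hf a₀ h₁ h₂
  -- the property of being a simple root at level `j`
  let P : ∀ j, As j → Prop := fun j x =>
    (f.map (p j)).eval x = 0 ∧ IsUnit ((f.map (p j)).derivative.eval x)
  have hu : IsUnit (f.derivative.eval a₀) := isUnit_of_isUnit_mk hjac h₂
  have hPk : P k (p k a₀) := by
    refine ⟨?_, ?_⟩
    · rw [eval_map_apply]; exact h₁
    · rw [derivative_map, eval_map_apply]; exact hu.map _
  let Q : ∀ j, As j → Prop := fun j x => (j ≤ k → x = p j a₀) ∧ (k ≤ j → P j x)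
  have hmap : ∀ j, (f.map (p (j + 1))).map (t j) = f.map (p j) := by
    intro j
    rw [Polynomial.map_map, hp j]
  have step : ∀ j (x : {x : As j // Q j x}), ∃ x' : As (j + 1), t j x' = x.1 ∧ Q (j + 1) x' := by
    rintro j ⟨x, hx1, hx2⟩
    rcases Nat.lt_or_ge j k with hjk | hkj
    · refine ⟨p (j + 1) a₀, ?_, ?_, ?_⟩
      · rw [p_succ t p hp]; exact (hx1 hjk.le).symm
      · intro _; rfl
      · intro hkj
        have : j + 1 = k := le_antisymm hjk hkj
        subst this
        exact hPk
    · obtain ⟨h1, h2⟩ := hx2 hkj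
      rw [← hmap j] at h1 h2
      obtain ⟨b, hb1, hb2, hb3⟩ := lift_root (t j) (ht j) (hnil j) (f.map (p (j + 1))) x h1 h2
      refine ⟨b, hb1, ?_, ?_⟩
      · intro h; omega
      · intro _; exact ⟨hb2, hb3⟩
  have hQ0 : Q 0 (p 0 a₀) := by
    refine ⟨fun _ => rfl, ?_⟩
    intro hk0
    have : k = 0 := Nat.le_zero.mp hk0
    subst this
    exact hPk
  let seq : ∀ j, {x : As j // Q j x} := fun j =>
    Nat.rec (motive := fun j => {x : As j // Q j x}) ⟨p 0 a₀, hQ0⟩
      (fun j x => ⟨(step j x).choose, (step j x).choose_spec.2⟩) j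
  have hseq : ∀ j, t j (seq (j + 1)).1 = (seq j).1 := by
    intro j
    exact (step j (seq j)).choose_spec.1
  obtain ⟨a, ha⟩ := hsurj (fun j => (seq j).1) hseq
  refine ⟨a, ?_, ?_⟩
  · show f.eval a = 0
    apply hinj
    intro j
    rw [map_zero]
    apply p_eq_zero_of_le t p hp (f.eval a) (Nat.le_add_left j k)
    have := ((seq (k + j)).2.2 (Nat.le_add_right k j)).1
    rw [← ha (k + j), eval_map_apply] at this
    exact this
  · rw [RingHom.mem_ker, map_sub, sub_eq_zero, ha k]
    exact (seq k).2.1 le_rfl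

end Groth.Agent.S1966
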