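import Groth.Statements.S19660
import Mathlib.RingTheory.Artinian.Module
import Mathlib.LinearAlgebra.FiniteDimensional.Basic
import Mathlib.LinearAlgebra.Eigenspace.Basic
import Mathlib.Algebra.Polynomial.RingDivision
import Mathlib.RingTheory.Coprime.Lemmas

set_option autoImplicit false
universe u v
open AbVar

namespace Groth.Agent.S19660

open Polynomial

section
variable {k : Type u} [Field k] {V : Type v} [AddCommGroup V] [Module k V]
  (B : LinearMap.BilinForm k V) (q : k) (N : Module.End k V)
  (hN : ∀ x y : V, B (N x) (N y) = q * B x y)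
include hN

theorem I1 (x y : V) : B ((N - (1 : k) • 1) x) (N y) = - B x ((N - q • 1) y) := by
  simp only [LinearMap.sub_apply, LinearMap.smul_apply, Module.End.one_apply, one_smul, map_sub,
    map_smul, smul_eq_mul, hN]
  ring

theorem I2 (x y : V) : B (N x) ((N - q • 1) y) = - q * B ((N - (1 : k) • 1) x) y := by
  simp only [LinearMap.sub_apply, LinearMap.smul_apply, Module.End.one_apply, one_smul, map_sub,
    map_smul, smul_eq_mul, hN]
  ring

theorem I1n (n : ℕ) (x y : V) :
    B (((N - (1 : k) • 1) ^ n) x) ((N ^ n) y) = (-1) ^ n * B x (((N - q • 1) ^ n) y) := by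
  induction n generalizing x y with
  | zero => simp
  | succ n ih =>
    have hc : Commute (N - q • 1) (N ^ n) := by
      apply Commute.pow_right
      exact (Commute.refl N).sub_left ((Commute.one_left N).smul_left q)
    have hc' := congrArg (fun L : Module.End k V => L y) hc.eq
    simp only [Module.End.mul_apply] at hc'
    rw [pow_succ' (N - (1 : k) • 1), pow_succ' N, Module.End.mul_apply, Module.End.mul_apply,
      I1 B q N hN, hc', ih, pow_succ (N - q • 1), Module.End.mul_apply, pow_succ]
    ring

theorem I2n (n : ℕ) (x y : V) :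
    B ((N ^ n) x) (((N - q • 1) ^ n) y) = (-q) ^ n * B (((N - (1 : k) • 1) ^ n) x) y := by
  induction n generalizing x y with
  | zero => simp
  | succ n ih =>
    have hc : Commute (N - (1 : k) • 1) (N ^ n) := by
      apply Commute.pow_right
      exact (Commute.refl N).sub_left ((Commute.one_left N).smul_left 1)
    have hc' := congrArg (fun L : Module.End k V => L x) hc.eq
    simp only [Module.End.mul_apply] at hc'
    rw [pow_succ' N, pow_succ' (N - q • 1), Module.End.mul_apply, Module.End.mul_apply,
      I2 B q N hN, hc', ih, pow_succ (N - (1 : k) • 1), Module.End.mul_apply, pow_succ]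
    ring

end

section
variable {k : Type u} [Field k] {V : Type v} [AddCommGroup V] [Module k V] [FiniteDimensional k V]

/-- Fitting decomposition, elementwise -/
theorem fitting (T : Module.End k V) (v : V) :
    ∃ w, (∃ n, (T ^ n) w = 0) ∧ ∃ w', (∀ n, ∃ z, (T ^ n) z = w') ∧ w + w' = v := by
  have hcompl := LinearMap.isCompl_iSup_ker_pow_iInf_range_pow T
  have : v ∈ (⨆ n : ℕ, LinearMap.ker (T ^ n)) ⊔ (⨅ n : ℕ, LinearMap.range (T ^ n)) := by
    rw [hcompl.sup_eq_top]; trivial
  obtain ⟨w, hw, w', hw', rfl⟩ := Submodule.mem_sup.mp this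
  refine ⟨w, ?_, w', ?_, rfl⟩
  · have := (Submodule.mem_iSup_of_chain T.iterateKer w).mp (by simpa [LinearMap.iterateKer] using hw)
    simpa [LinearMap.iterateKer] using this
  · intro n
    exact (Submodule.mem_iInf _).mp hw' n

/-- if `(N - a)^m x = 0` and `a ≠ b` then `x` is in the range of `(N - b)^n` -/
theorem mem_range_of_coprime (N : Module.End k V) (a b : k) (hab : a ≠ b) (m n : ℕ) (x : V)
    (hx : ((N - a • 1) ^ m) x = 0) : ∃ z, ((N - b • 1) ^ n) z = x := by
  have hcop : IsCoprime ((X - C a : k[X]) ^ m) ((X - C b : k[X]) ^ n) :=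
    (isCoprime_X_sub_C_of_isUnit_sub (sub_ne_zero.mpr hab).isUnit).pow
  obtain ⟨f, g, hfg⟩ := hcop
  have e : ∀ c : k, aeval N (X - C c : k[X]) = N - c • 1 := by
    intro c
    rw [map_sub, aeval_X, aeval_C, Algebra.algebraMap_eq_smul_one]
  have h := congrArg (fun P : k[X] => (aeval N P) x) hfg
  simp only [map_add, map_mul, map_pow, map_one, e, LinearMap.add_apply, Module.End.mul_apply,
    Module.End.one_apply] at h
  rw [hx, map_zero, zero_add] at h
  refine ⟨(aeval N g) x, ?_⟩
  have hc : Commute ((N - b • 1) ^ n) (aeval N g) := by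
    rw [← e b, ← map_pow]
    exact (Commute.all _ _).map (aeval N)
  have hc' := congrArg (fun L : Module.End k V => L x) hc.eq
  simp only [Module.End.mul_apply] at hc'
  rw [hc', h]

end

/-- The text applies this to the Frobenius acting on the points of prime order of a principally
polarised abelian variety over a finite field with q elements and to their Weil pairing. Let k be a
field, V a finite-dimensional k-vector space with a nondegenerate bilinear form B, q a nonzero
element of k and M a linear automorphism of V with B(Mx, My) = q·B(x, y) for all x, y. Write V₁ and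
V_q for the generalized eigenspaces of M at 1 and at q. Then every vector of V₁ that is B-orthogonal
to all of V_q is zero, every vector of V_q that is B-orthogonal (on the right) to all of V₁ is zero,
and when q ≠ 1 the form B vanishes identically on V₁ × V₁ and on V_q × V_q. (The text asserts this
as the evident adaptation, to a form scaled by q, of the orthogonality and nondegeneracy facts for
generalized kernels of an automorphism preserving a form; the abstract statement is recorded here,
the application to the Weil pairing needing that pairing's formalism.) -/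
theorem result
    {k : Type u} [Field k] {V : Type v} [AddCommGroup V] [Module k V] [FiniteDimensional k V]
    (B : LinearMap.BilinForm k V) (hB : B.Nondegenerate) (q : k) (hq : q ≠ 0)
    (M : V ≃ₗ[k] V) (hM : ∀ x y : V, B (M x) (M y) = q * B x y) :
    (∀ x ∈ Module.End.maxGenEigenspace (M : Module.End k V) 1,
        (∀ y ∈ Module.End.maxGenEigenspace (M : Module.End k V) q, B x y = 0) → x = 0) ∧
      (∀ y ∈ Module.End.maxGenEigenspace (M : Module.End k V) q,
        (∀ x ∈ Module.End.maxGenEigenspace (M : Module.End k V) 1, B x y = 0) → y = 0) ∧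
      (q ≠ 1 → ∀ x ∈ Module.End.maxGenEigenspace (M : Module.End k V) 1,
        ∀ x' ∈ Module.End.maxGenEigenspace (M : Module.End k V) 1, B x x' = 0) ∧
      (q ≠ 1 → ∀ y ∈ Module.End.maxGenEigenspace (M : Module.End k V) q,
        ∀ y' ∈ Module.End.maxGenEigenspace (M : Module.End k V) q, B y y' = 0) := by
  set N : Module.End k V := (M : V →ₗ[k] V) with hNdef
  have hN : ∀ x y : V, B (N x) (N y) = q * B x y := hM
  simp only [Module.End.mem_maxGenEigenspace]
  refine ⟨?_, ?_, ?_, ?_⟩
  · rintro x ⟨n, hn⟩ hx
    apply hB.1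
    intro v
    obtain ⟨w, ⟨m, hm⟩, w', hw', rfl⟩ := fitting (N - q • 1) v
    obtain ⟨z, rfl⟩ := hw' n
    have h1 : B x w = 0 := hx w ⟨m, hm⟩
    have h2 : B x (((N - q • 1) ^ n) z) = 0 := by
      have := I1n B q N hN n x z
      rw [hn, map_zero, LinearMap.zero_apply] at this
      have hne : ((-1 : k)) ^ n ≠ 0 := pow_ne_zero _ (by simp)
      exact (mul_eq_zero.mp this.symm).resolve_left hne
    rw [map_add, h1, h2, add_zero]
  · rintro y ⟨n, hn⟩ hy
    apply hB.2
    intro v
    obtain ⟨w, ⟨m, hm⟩, w', hw', rfl⟩ := fitting (N - (1 : k) • 1) v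
    obtain ⟨z, rfl⟩ := hw' n
    have h1 : B w y = 0 := hy w ⟨m, hm⟩
    have h2 : B (((N - (1 : k) • 1) ^ n) z) y = 0 := by
      have := I2n B q N hN n z y
      rw [hn, map_zero] at this
      have hne : (-q) ^ n ≠ 0 := pow_ne_zero _ (neg_ne_zero.mpr hq)
      exact (mul_eq_zero.mp this.symm).resolve_left hne
    rw [map_add, LinearMap.add_apply, h1, h2, add_zero]
  · rintro hq1 x ⟨n, hn⟩ x' ⟨m, hm⟩
    obtain ⟨z, rfl⟩ := mem_range_of_coprime N 1 q (Ne.symm hq1) m n x' hm
    have := I1n B q N hN n x z
    rw [hn, map_zero, LinearMap.zero_apply] at this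
    have hne : ((-1 : k)) ^ n ≠ 0 := pow_ne_zero _ (by simp)
    exact (mul_eq_zero.mp this.symm).resolve_left hne
  · rintro hq1 y ⟨n, hn⟩ y' ⟨m, hm⟩
    obtain ⟨z, rfl⟩ := mem_range_of_coprime N q 1 hq1 n m y hn
    have := I2n B q N hN m z y'
    rw [hm, map_zero] at this
    have hne : (-q) ^ m ≠ 0 := pow_ne_zero _ (neg_ne_zero.mpr hq)
    exact (mul_eq_zero.mp this.symm).resolve_left hne

end Groth.Agent.S19660
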