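import Groth.Statements.S19679
import Groth.Agent.Lib.H43LocSplit

set_option autoImplicit false
universe u
open CategoryTheory MonoidalCategory CartesianMonoidalCategory MonObj AlgebraicGeometry
open ChGrp

namespace Groth.Agent.S19679


section General

variable {S : Scheme.{u}} {G H Z Y P Q : Over S} [GrpObj G] [GrpObj H]

/-- `x ≫ toUnit ≫ η = 1` on points. -/
lemma comp_toUnit_eta {T X : Over S} (x : T ⟶ X) : x ≫ toUnit X ≫ η[G] = (1 : T ⟶ G) := by
  rw [Hom.one_def, ← Category.assoc, toUnit_unique (x ≫ toUnit X) (toUnit T)]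

/-- Points form of equivariance of `j` for left translation. -/
lemma equiv_pts (aY : AlgGrp.Action G Y) (j : G ⊗ Z ⟶ Y)
    (hE : AlgGrp.Action.IsEquivariant ((NonAbH1.trivialAction G).prod (AlgGrp.Action.trivial G Z)) aY j)
    {T : Over S} (g g' : T ⟶ G) (z : T ⟶ Z) :
    lift (g * g') z ≫ j = lift g (lift g' z ≫ j) ≫ aY.act := by
  have h1 : lift g (lift g' z) ≫ ((NonAbH1.trivialAction G).prod (AlgGrp.Action.trivial G Z)).act =
      lift (g * g') z := by
    rw [AlgGrp.Action.lift_prod_act, AlgGrp.Action.lift_trivial_act]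
    congr 1
  have h2 : lift g (lift g' z) ≫ ((NonAbH1.trivialAction G).prod (AlgGrp.Action.trivial G Z)).act ≫ j =
      lift g (lift g' z) ≫ (G ◁ j) ≫ aY.act := by
    unfold AlgGrp.Action.IsEquivariant at hE
    rw [hE]
  rw [← Category.assoc, h1, lift_whiskerLeft_assoc] at h2
  exact h2

/-- Points form of `H`-invariance of `j` for the twisted action. -/
lemma inv_pts (i : H ⟶ G) [IsMonHom i] (aZ : AlgGrp.Action H Z) (j : G ⊗ Z ⟶ Y)
    (hI : (ChGrp.twist i aZ).act ≫ j = snd H (G ⊗ Z) ≫ j)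
    {T : Over S} (h : T ⟶ H) (g : T ⟶ G) (z : T ⟶ Z) :
    lift (g * (h ≫ i)⁻¹) (lift h z ≫ aZ.act) ≫ j = lift g z ≫ j := by
  have h2 : lift h (lift g z) ≫ (ChGrp.twist i aZ).act ≫ j = lift h (lift g z) ≫ snd H (G ⊗ Z) ≫ j := by
    rw [hI]
  rw [ChGrp.lift_twist_act_assoc, lift_snd_assoc] at h2
  exact h2

/-- A morphism out of `A ⊗ (B ⊗ C)` is determined on points `lift a (lift b c)`. -/
lemma hom_ext_lift₃' {A B C W : Over S} {f g : A ⊗ (B ⊗ C) ⟶ W}
    (h : ∀ (T : Over S) (a : T ⟶ A) (b : T ⟶ B) (c : T ⟶ C),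
      lift a (lift b c) ≫ f = lift a (lift b c) ≫ g) : f = g := by
  apply AlgGrp.Action.hom_ext_lift₂
  intro T a p
  have hp : lift (p ≫ fst B C) (p ≫ snd B C) = p := by
    rw [← comp_lift, lift_fst_snd, Category.comp_id]
  rw [← hp]
  exact h T a _ _

theorem main (i : H ⟶ G) [IsMonHom i] (aZ : AlgGrp.Action H Z) (aY : AlgGrp.Action G Y)
    (j : G ⊗ Z ⟶ Y) (hY : ChGrp.IsBalProd Scheme.fppfPrecoverage i aZ aY j)
    (πZ : Z ⟶ P) (hP : GIT.IsCatQuot aZ πZ) (πY : Y ⟶ Q) (hQ : GIT.IsCatQuot aY πY) :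
    ∃ (φ : P ⟶ Q) (χ : Q ⟶ P), φ ≫ χ = 𝟙 P ∧ χ ≫ φ = 𝟙 Q ∧
      πZ ≫ φ = lift (toUnit Z ≫ η[G]) (𝟙 Z) ≫ j ≫ πY ∧ j ≫ πY ≫ χ = snd G Z ≫ πZ := by
  obtain ⟨hE, hpb, hloc⟩ := hY
  have hI := hpb.w
  have hGY : ∀ {T : Over S} (g : T ⟶ G) (y : T ⟶ Y), lift g y ≫ aY.act ≫ πY = y ≫ πY := by
    intro T g y
    have := congrArg (fun m => lift g y ≫ m) hQ.1
    simpa using this
  have hHZ : ∀ {T : Over S} (h : T ⟶ H) (z : T ⟶ Z), lift h z ≫ aZ.act ≫ πZ = z ≫ πZ := by
    intro T h z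
    have := congrArg (fun m => lift h z ≫ m) hP.1
    simpa using this
  -- the class of `(1, z)`
  have hone : ∀ {T : Over S} (g : T ⟶ G) (z : T ⟶ Z), lift g z ≫ j ≫ πY = lift 1 z ≫ j ≫ πY := by
    intro T g z
    have h1 := equiv_pts aY j hE g 1 z
    rw [_root_.mul_one] at h1
    rw [← Category.assoc, h1, Category.assoc, hGY, Category.assoc]
  -- Step 1: ψ₁ is H-invariant
  have hψ₁ : GIT.IsInvariant aZ (lift (toUnit Z ≫ η[G]) (𝟙 Z) ≫ j ≫ πY) := by
    unfold GIT.IsInvariant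
    apply AlgGrp.Action.hom_ext_lift₂
    intro T h z
    rw [← Category.assoc (lift h z) aZ.act, comp_lift_assoc, comp_toUnit_eta, Category.comp_id,
      lift_snd_assoc, comp_lift_assoc, comp_toUnit_eta, Category.comp_id]
    have h1 := inv_pts i aZ j hI h (h ≫ i) z
    rw [mul_inv_cancel] at h1
    rw [← Category.assoc, h1, Category.assoc, hone]
  -- Step 2: descend `snd ≫ πZ`
  have hψ₂ : (ChGrp.twist i aZ).act ≫ snd G Z ≫ πZ = snd H (G ⊗ Z) ≫ snd G Z ≫ πZ := by
    apply hom_ext_lift₃'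
    intro T h g z
    rw [ChGrp.lift_twist_act_assoc, lift_snd_assoc, lift_snd_assoc, lift_snd_assoc, Category.assoc, hHZ]
  obtain ⟨ρ, hρ⟩ := Groth.Agent.Lib.H43LocSplit.exists_desc j hloc hpb (snd G Z ≫ πZ) hψ₂
  -- Step 3: ρ is G-invariant
  have hρinv : GIT.IsInvariant aY ρ := by
    unfold GIT.IsInvariant
    refine Groth.Agent.Lib.H43LocSplit.hom_ext_of_locally_lift j hloc (snd G Y) _ _ ?_
    intro T t u hu
    have ht : t = lift (t ≫ fst G Y) (u ≫ j) := by
      rw [hu, ← comp_lift, lift_fst_snd, Category.comp_id]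
    have hu' : u = lift (u ≫ fst G Z) (u ≫ snd G Z) := by
      rw [← comp_lift, lift_fst_snd, Category.comp_id]
    have h1 := equiv_pts aY j hE (t ≫ fst G Y) (u ≫ fst G Z) (u ≫ snd G Z)
    rw [← hu'] at h1
    rw [← Category.assoc t (snd G Y), ← hu, Category.assoc, hρ]
    rw [ht, ← Category.assoc, ← h1, Category.assoc, hρ, lift_snd_assoc]
    rw [← Category.assoc u]
  obtain ⟨χ, hχ, -⟩ := hQ.2 P ρ hρinv
  obtain ⟨φ, hφ, -⟩ := hP.2 Q _ hψ₁
  refine ⟨φ, χ, ?_, ?_, hφ, ?_⟩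
  · obtain ⟨θ, -, hθ⟩ := hP.2 P πZ hP.1
    rw [hθ (φ ≫ χ), hθ (𝟙 P) (Category.comp_id _)]
    show πZ ≫ φ ≫ χ = πZ
    rw [← Category.assoc, hφ, Category.assoc, Category.assoc, hχ, hρ, lift_snd_assoc, Category.id_comp]
  · obtain ⟨θ, -, hθ⟩ := hQ.2 Q πY hQ.1
    rw [hθ (χ ≫ φ), hθ (𝟙 Q) (Category.comp_id _)]
    have := Groth.Agent.Lib.H43LocSplit.epi j hloc
    show πY ≫ χ ≫ φ = πY
    rw [← Category.assoc, hχ, ← cancel_epi j, ← Category.assoc, hρ, Category.assoc, hφ]
    apply AlgGrp.Action.hom_ext_lift₂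
    intro T g z
    rw [lift_snd_assoc, comp_lift_assoc, comp_toUnit_eta, Category.comp_id, hone g z]
  · rw [hχ, hρ]

end General

/-- Let k be an algebraically closed field of characteristic zero, G and H affine group schemes of
finite type over k (algebraic groups) with i : H → G a homomorphism which is a closed immersion, and
Z a reduced affine k-scheme of finite type (an affine variety) with an action of H. Let Y, with its
G-action and j : G × Z → Y, be the balanced product G ×^H Z for the fppf topology: j is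
G-equivariant for left translation on the first factor, it is a torsor for the twisted H-action
h·(g, z) = (g i(h)⁻¹, h·z), and it has sections fppf-locally on Y. If π_Z : Z → P is a categorical
quotient of Z by H and π_Y : Y → Q a categorical quotient of Y by G, then the projection G × Z → Z
induces an isomorphism Q ≅ P, inverse to the morphism induced by the H-invariant map z ↦ π_Y(j(e,
z)): there are mutually inverse φ : P → Q and χ : Q → P with π_Z followed by φ equal to z ↦ π_Y(j(e,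
z)) and j followed by π_Y and χ equal to the projection followed by π_Z (so Y//G ≅ Z//H). (The
source assumes G and H reductive and defines G ×^H Z as the quotient (G × Z)//H, a principal
H-bundle; here the quotients are part of the data, the balanced product is taken in its torsor form,
and reductivity is not needed.) -/
theorem result
    (k : Type u) [Field k] [IsAlgClosed k] [CharZero k]
    (G H Z Y P Q : Over (Spec (CommRingCat.of k))) [GrpObj G] [GrpObj H]
    [IsAffine G.left] [LocallyOfFiniteType G.hom] [IsAffine H.left] [LocallyOfFiniteType H.hom]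
    (i : H ⟶ G) [IsMonHom i] [IsClosedImmersion i.left]
    [IsAffine Z.left] [LocallyOfFiniteType Z.hom] [IsReduced Z.left]
    (aZ : AlgGrp.Action H Z) (aY : AlgGrp.Action G Y) (j : G ⊗ Z ⟶ Y)
    (hY : ChGrp.IsBalProd Scheme.fppfPrecoverage i aZ aY j)
    (πZ : Z ⟶ P) (hP : GIT.IsCatQuot aZ πZ) (πY : Y ⟶ Q) (hQ : GIT.IsCatQuot aY πY) :
    ∃ (φ : P ⟶ Q) (χ : Q ⟶ P), φ ≫ χ = 𝟙 P ∧ χ ≫ φ = 𝟙 Q ∧
      πZ ≫ φ = lift (toUnit Z ≫ η[G]) (𝟙 Z) ≫ j ≫ πY ∧ j ≫ πY ≫ χ = snd G Z ≫ πZ := by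
  exact main i aZ aY j hY πZ hP πY hQ

end Groth.Agent.S19679
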