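-- Statement S1968; proof by helper61.
import Groth.Statements.S1968
import Groth.Agent.Lib.FlatIdeals
import Mathlib.RingTheory.Ideal.Pure
import Mathlib.RingTheory.Bezout
import Mathlib.LinearAlgebra.Isomorphisms
import Mathlib.Algebra.Group.Pi.Units

set_option autoImplicit false
universe u
open EtAlg

namespace Groth.Agent.S1968

section

variable {J : Type u} (A : J → Type u) [∀ j, CommRing (A j)] [∀ j, IsDomain (A j)]
    [∀ j, ValuationRing (A j)]

theorem bezout_pair (a b : ∀ j, A j) :
    ∃ c : ∀ j, A j, Ideal.span {a, b} = Ideal.span {c} := by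
  have key : ∀ j, ∃ c x y u v : A j, a j = x * c ∧ b j = y * c ∧ c = u * a j + v * b j := by
    intro j
    rcases ValuationRing.dvd_total (a j) (b j) with ⟨y, hy⟩ | ⟨x, hx⟩
    · exact ⟨a j, 1, y, 1, 0, by ring, by rw [hy]; ring, by ring⟩
    · exact ⟨b j, x, 1, 0, 1, by rw [hx]; ring, by ring, by ring⟩
  choose c x y u v h1 h2 h3 using key
  refine ⟨c, le_antisymm ?_ ?_⟩
  · rw [Ideal.span_le]
    rintro z (rfl | rfl)
    · exact Ideal.mem_span_singleton'.mpr ⟨x, funext fun j => (h1 j).symm⟩
    · exact Ideal.mem_span_singleton'.mpr ⟨y, funext fun j => (h2 j).symm⟩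
  · rw [Ideal.span_singleton_le_iff_mem, Ideal.mem_span_pair]
    exact ⟨u, v, funext fun j => (h3 j).symm⟩

theorem isBezout_pi : IsBezout (∀ j, A j) :=
  IsBezout.iff_span_pair_isPrincipal.mpr fun a b => ⟨bezout_pair A a b⟩

omit [∀ j, ValuationRing (A j)] in
theorem flat_span_singleton (c : ∀ j, A j) :
    Module.Flat (∀ j, A j) (Ideal.span {c} : Ideal (∀ j, A j)) := by
  classical
  let e' : ∀ j, A j := fun j => if c j = 0 then 1 else 0
  let f : (∀ j, A j) →ₗ[∀ j, A j] (∀ j, A j) := LinearMap.toSpanSingleton (∀ j, A j) (∀ j, A j) c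
  have hker : LinearMap.ker f = Ideal.span {e'} := by
    ext x
    rw [LinearMap.mem_ker, Ideal.mem_span_singleton']
    simp only [f, LinearMap.toSpanSingleton_apply, smul_eq_mul]
    constructor
    · intro hx
      refine ⟨x, funext fun j => ?_⟩
      have hj : x j * c j = 0 := congrFun hx j
      simp only [Pi.mul_apply, e']
      split_ifs with hc
      · rw [mul_one]
      · rw [mul_zero]; exact ((mul_eq_zero.mp hj).resolve_right hc).symm
    · rintro ⟨y, rfl⟩
      funext j
      simp only [Pi.mul_apply, e', Pi.zero_apply]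
      split_ifs with hc
      · rw [hc, mul_zero]
      · rw [mul_zero, zero_mul]
  have hee : e' * e' = e' := by
    funext j
    simp only [Pi.mul_apply, e']
    split_ifs <;> simp
  have hidem : IsIdempotentElem (Ideal.span {e'} : Ideal (∀ j, A j)) := by
    rw [IsIdempotentElem, Ideal.span_singleton_mul_span_singleton, hee]
  have hflat : Module.Flat (∀ j, A j) ((∀ j, A j) ⧸ (Ideal.span {e'} : Ideal (∀ j, A j))) :=
    Ideal.Pure.of_isIdempotentElem ⟨{e'}, by simp⟩ hidem
  have hrange : LinearMap.range f = Ideal.span {c} := LinearMap.range_toSpanSingleton c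
  have e1 : (Ideal.span {c} : Ideal (∀ j, A j)) ≃ₗ[∀ j, A j] LinearMap.range f :=
    LinearEquiv.ofEq _ _ hrange.symm
  have e2 : ((∀ j, A j) ⧸ LinearMap.ker f) ≃ₗ[∀ j, A j]
      ((∀ j, A j) ⧸ (Ideal.span {e'} : Ideal (∀ j, A j))) :=
    Submodule.quotEquivOfEq _ _ hker
  exact Module.Flat.of_linearEquiv ((e1.trans f.quotKerEquivRange.symm).trans e2)

theorem flat_ideal (I : Ideal (∀ j, A j)) : Module.Flat (∀ j, A j) I := by
  apply Groth.Agent.Lib.FlatIdeals.flat_ideal_of_flat_fg_ideals
  intro I' hI'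
  have := isBezout_pi A
  obtain ⟨c, hc⟩ := IsBezout.isPrincipal_of_FG I' hI'
  have hc' : I' = Ideal.span {c} := hc
  rw [hc']
  exact flat_span_singleton A c

end

theorem isLocalization_pi {J : Type u} (A : J → Type u) [∀ j, CommRing (A j)] [∀ j, IsDomain (A j)]
    (K : J → Type u) [∀ j, Field (K j)] [∀ j, Algebra (A j) (K j)]
    [∀ j, IsFractionRing (A j) (K j)] :
    IsLocalization (nonZeroDivisors (∀ j, A j)) (∀ j, K j) := by
  classical
  have hmap : ∀ (x : ∀ j, A j) (j : J),
      algebraMap (∀ j, A j) (∀ j, K j) x j = algebraMap (A j) (K j) (x j) := fun _ _ => rfl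
  have hnz : ∀ s : ∀ j, A j, s ∈ nonZeroDivisors (∀ j, A j) → ∀ j, s j ≠ 0 := by
    intro s hs j hsj
    have h1 : (Pi.single j (1 : A j)) * s = 0 := by
      funext i
      by_cases hij : i = j
      · subst hij; simp [hsj]
      · simp [Pi.single_eq_of_ne hij]
    have h2 := (mem_nonZeroDivisors_iff.mp hs).2 _ h1
    have h3 := congrFun h2 j
    simp at h3
  refine ⟨?_, ?_, ?_⟩
  · rintro ⟨s, hs⟩
    rw [Pi.isUnit_iff]
    intro j
    rw [hmap]
    apply IsUnit.mk0
    intro h0
    exact hnz s hs j ((IsFractionRing.injective (A j) (K j)) (by rw [h0, map_zero]))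
  · intro z
    have key : ∀ j, ∃ (a s : A j), s ≠ 0 ∧ z j * algebraMap (A j) (K j) s = algebraMap (A j) (K j) a := by
      intro j
      obtain ⟨⟨a, s⟩, h⟩ := IsLocalization.surj (nonZeroDivisors (A j)) (z j)
      exact ⟨a, s, nonZeroDivisors.ne_zero s.2, h⟩
    choose a s hs h using key
    have hsmem : s ∈ nonZeroDivisors (∀ j, A j) := by
      rw [mem_nonZeroDivisors_iff_right]
      intro x hx
      funext j
      have := congrFun hx j
      simp only [Pi.mul_apply, Pi.zero_apply] at this
      exact (mul_eq_zero.mp this).resolve_right (hs j)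
    refine ⟨⟨a, ⟨s, hsmem⟩⟩, ?_⟩
    funext j
    simp only [Pi.mul_apply, hmap]
    exact h j
  · intro x y hxy
    refine ⟨1, ?_⟩
    rw [OneMemClass.coe_one, one_mul, one_mul]
    funext j
    have := congrFun hxy j
    rw [hmap, hmap] at this
    exact IsFractionRing.injective (A j) (K j) this

/-- Let (A_j) be a family of valuation rings with fraction fields K_j. Then every ideal of the product
ring Π A_j is a flat Π A_j-module (that is, Π A_j has weak dimension at most 1), and Π K_j is the
localization of Π A_j at its non-zero-divisors. -/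
theorem result {J : Type u} (A : J → Type u) [∀ j, CommRing (A j)] [∀ j, IsDomain (A j)]
    [∀ j, ValuationRing (A j)] (K : J → Type u) [∀ j, Field (K j)] [∀ j, Algebra (A j) (K j)]
    [∀ j, IsFractionRing (A j) (K j)] :
    (∀ I : Ideal (∀ j, A j), Module.Flat (∀ j, A j) I) ∧
      IsLocalization (nonZeroDivisors (∀ j, A j)) (∀ j, K j) := by
  exact ⟨flat_ideal A, isLocalization_pi A K⟩

end Groth.Agent.S1968
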