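import Groth.Statements.S19681
import Groth.Agent.Lib.H43LocSplit
import Groth.Agent.S19679

set_option autoImplicit false
universe u
open CategoryTheory MonoidalCategory CartesianMonoidalCategory MonObj AlgebraicGeometry
open ChGrp

namespace Groth.Agent.S19681


open CategoryTheory.Limits in
/-- A commutative square with unique liftings of points is a pullback square. -/
lemma isPullback_of_existsUnique {C : Type*} [Category C] {P A B W : C} {p1 : P ⟶ A} {p2 : P ⟶ B}
    {f : A ⟶ W} {g : B ⟶ W} (w : p1 ≫ f = p2 ≫ g)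
    (h : ∀ (T : C) (a : T ⟶ A) (b : T ⟶ B), a ≫ f = b ≫ g →
      ∃! l : T ⟶ P, l ≫ p1 = a ∧ l ≫ p2 = b) :
    IsPullback p1 p2 f g := by
  refine ⟨⟨w⟩, ⟨PullbackCone.IsLimit.mk w
    (fun s => (h s.pt s.fst s.snd s.condition).exists.choose) ?_ ?_ ?_⟩⟩
  · intro s
    exact (h s.pt s.fst s.snd s.condition).exists.choose_spec.1
  · intro s
    exact (h s.pt s.fst s.snd s.condition).exists.choose_spec.2
  · intro s m hm1 hm2
    exact (h s.pt s.fst s.snd s.condition).unique ⟨hm1, hm2⟩
      (h s.pt s.fst s.snd s.condition).exists.choose_spec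

section General

open CategoryTheory.Limits
open Groth.Agent.S19679 (equiv_pts inv_pts hom_ext_lift₃' comp_toUnit_eta)

variable {S : Scheme.{u}} {G H Z Y Y' : Over S} [GrpObj G] [GrpObj H]

/-- Whiskering a monomorphism on the left gives a monomorphism. -/
lemma mono_whiskerLeft (A : Over S) {B C : Over S} (f : B ⟶ C) [Mono f] : Mono (A ◁ f) := by
  refine ⟨fun {T} x y hxy => ?_⟩
  have h1 : x ≫ fst A B = y ≫ fst A B := by
    have := congrArg (fun m => m ≫ fst A C) hxy
    simpa using this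
  have h2 : x ≫ snd A B = y ≫ snd A B := by
    have := congrArg (fun m => m ≫ snd A C) hxy
    simp only [Category.assoc, whiskerLeft_snd] at this
    rw [← cancel_mono f, Category.assoc, Category.assoc, this]
  exact CartesianMonoidalCategory.hom_ext _ _ h1 h2

/-- Points form of left translation on the first factor. -/
lemma prod_pts {A : Over S} {T : Over S} (g g' : T ⟶ G) (z : T ⟶ A) :
    lift g (lift g' z) ≫ ((NonAbH1.trivialAction G).prod (AlgGrp.Action.trivial G A)).act =
      lift (g * g') z := by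
  rw [AlgGrp.Action.lift_prod_act, AlgGrp.Action.lift_trivial_act]
  congr 1

theorem main (i : H ⟶ G) [IsMonHom i] (aZ : AlgGrp.Action H Z) (aY : AlgGrp.Action G Y)
    (j : G ⊗ Z ⟶ Y) (hY : ChGrp.IsBalProd Scheme.fppfPrecoverage i aZ aY j)
    (c : Y' ⟶ Y) [IsClosedImmersion c.left]
    (aY' : AlgGrp.Action G Y') (hc : AlgGrp.Action.IsEquivariant aY' aY c) :
    ∃ (Z' : Over S) (c' : Z' ⟶ Z) (aZ' : AlgGrp.Action H Z') (j' : G ⊗ Z' ⟶ Y'),
      IsClosedImmersion c'.left ∧ AlgGrp.Action.IsEquivariant aZ' aZ c' ∧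
      j' ≫ c = (G ◁ c') ≫ j ∧ ChGrp.IsBalProd Scheme.fppfPrecoverage i aZ' aY' j' := by
  obtain ⟨hE, hpb, hloc⟩ := hY
  have hI := hpb.w
  have hmc : Mono c := by
    have : Mono ((Over.forget S).map c) := by
      change Mono c.left
      infer_instance
    exact (Over.forget S).mono_of_mono_map this
  let ε : Z ⟶ Y := lift (toUnit Z ≫ η[G]) (𝟙 Z) ≫ j
  have hεpt : ∀ {T : Over S} (z : T ⟶ Z), z ≫ ε = lift 1 z ≫ j := by
    intro T z
    simp only [ε]
    rw [comp_lift_assoc, comp_toUnit_eta, Category.comp_id]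
  let Z' : Over S := pullback ε c
  let c' : Z' ⟶ Z := pullback.fst ε c
  let e' : Z' ⟶ Y' := pullback.snd ε c
  have hsq : c' ≫ ε = e' ≫ c := pullback.condition
  have hmc' : Mono c' := inferInstance
  have hcpt : ∀ {T : Over S} (g : T ⟶ G) (y : T ⟶ Y'),
      lift g y ≫ aY'.act ≫ c = lift g (y ≫ c) ≫ aY.act := by
    intro T g y
    unfold AlgGrp.Action.IsEquivariant at hc
    rw [hc, lift_whiskerLeft_assoc]
  have hF1 : ∀ {T : Over S} (g : T ⟶ G) (z' : T ⟶ Z'),
      lift g (z' ≫ c') ≫ j = (lift g (z' ≫ e') ≫ aY'.act) ≫ c := by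
    intro T g z'
    have h1 := equiv_pts aY j hE g 1 (z' ≫ c')
    rw [_root_.mul_one] at h1
    rw [h1, ← hεpt, Category.assoc z' c' ε, hsq, Category.assoc, hcpt, Category.assoc]
  obtain ⟨j', hj'⟩ : ∃ j' : G ⊗ Z' ⟶ Y', j' = (G ◁ e') ≫ aY'.act := ⟨_, rfl⟩
  have hj'pt : ∀ {T : Over S} (g : T ⟶ G) (z' : T ⟶ Z'),
      lift g z' ≫ j' = lift g (z' ≫ e') ≫ aY'.act := by
    intro T g z'
    rw [hj', lift_whiskerLeft_assoc]
  have h3 : j' ≫ c = (G ◁ c') ≫ j := by
    apply AlgGrp.Action.hom_ext_lift₂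
    intro T g z'
    rw [← Category.assoc, hj'pt, lift_whiskerLeft_assoc, hF1]
  have hcompat : ((H ◁ c') ≫ aZ.act) ≫ ε = ((i ▷ Z') ≫ j') ≫ c := by
    apply AlgGrp.Action.hom_ext_lift₂
    intro T h z'
    rw [Category.assoc, lift_whiskerLeft_assoc, ← Category.assoc (lift h (z' ≫ c')), hεpt]
    have h1 := inv_pts i aZ j hI h (h ≫ i) (z' ≫ c')
    rw [mul_inv_cancel] at h1
    rw [h1, hF1, Category.assoc (i ▷ Z'), lift_whiskerRight_assoc,
      ← Category.assoc (lift (h ≫ i) z'), hj'pt]
  let act' : H ⊗ Z' ⟶ Z' := pullback.lift ((H ◁ c') ≫ aZ.act) ((i ▷ Z') ≫ j') hcompat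
  have hact'c : act' ≫ c' = (H ◁ c') ≫ aZ.act := pullback.lift_fst _ _ _
  have hact'pt : ∀ {T : Over S} (h : T ⟶ H) (z' : T ⟶ Z'),
      (lift h z' ≫ act') ≫ c' = lift h (z' ≫ c') ≫ aZ.act := by
    intro T h z'
    rw [Category.assoc, hact'c, lift_whiskerLeft_assoc]
  let aZ' : AlgGrp.Action H Z' :=
    { act := act'
      one_act := by
        rw [← cancel_mono c']
        apply AlgGrp.Action.hom_ext_lift₂
        intro T u z'
        have hu : u ≫ η[H] = 1 := by rw [Hom.one_def, toUnit_unique (toUnit T) u]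
        rw [Category.assoc, lift_whiskerRight_assoc, ← Category.assoc, hact'pt, hu,
          AlgGrp.Action.lift_one_act, leftUnitor_hom, lift_snd_assoc]
      mul_act := by
        rw [← cancel_mono c']
        apply AlgGrp.Action.hom_ext_lift₃
        intro T h h' z'
        rw [Category.assoc, lift_whiskerRight_assoc, ← Category.assoc, hact'pt, ← Hom.mul_def,
          AlgGrp.Action.lift_mul_act, Category.assoc, Category.assoc,
          lift_lift_associator_hom_assoc, lift_whiskerLeft_assoc, ← Category.assoc, hact'pt,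
          hact'pt] }
  have haZ'pt : ∀ {T : Over S} (h : T ⟶ H) (z' : T ⟶ Z'),
      (lift h z' ≫ aZ'.act) ≫ c' = lift h (z' ≫ c') ≫ aZ.act := hact'pt
  have hmGc' : Mono (G ◁ c') := mono_whiskerLeft G c'
  -- twist compatibility
  have htw : (ChGrp.twist i aZ').act ≫ (G ◁ c') = (H ◁ (G ◁ c')) ≫ (ChGrp.twist i aZ).act := by
    apply hom_ext_lift₃'
    intro T h g z'
    rw [ChGrp.lift_twist_act_assoc, lift_whiskerLeft, haZ'pt, lift_whiskerLeft_assoc,
      lift_whiskerLeft, ChGrp.lift_twist_act]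
  have hw' : (ChGrp.twist i aZ').act ≫ j' = snd H (G ⊗ Z') ≫ j' := by
    rw [← cancel_mono c, Category.assoc, Category.assoc, h3, ← Category.assoc, htw, Category.assoc,
      hI, whiskerLeft_snd_assoc]
  refine ⟨Z', c', aZ', j', ?_, hact'c, h3, ?_, ?_, ?_⟩
  · have hpbS : IsPullback c'.left e'.left ε.left c.left :=
      (IsPullback.of_hasPullback ε c).map (Over.forget S)
    exact MorphismProperty.of_isPullback (P := @IsClosedImmersion) hpbS.flip inferInstance
  · -- equivariance of j'
    unfold AlgGrp.Action.IsEquivariant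
    apply hom_ext_lift₃'
    intro T g g' z'
    rw [← Category.assoc, prod_pts, hj'pt, AlgGrp.Action.lift_mul_act, lift_whiskerLeft_assoc, hj'pt]
  · -- the torsor square
    refine isPullback_of_existsUnique hw' ?_
    intro T a b hab
    have hab' : (a ≫ (G ◁ c')) ≫ j = (b ≫ (G ◁ c')) ≫ j := by
      rw [Category.assoc, ← h3, ← Category.assoc, hab, Category.assoc, h3, Category.assoc]
    obtain ⟨l₀, hl₀1, hl₀2⟩ : ∃ l₀ : T ⟶ H ⊗ (G ⊗ Z),
        l₀ ≫ (ChGrp.twist i aZ).act = a ≫ (G ◁ c') ∧ l₀ ≫ snd H (G ⊗ Z) = b ≫ (G ◁ c') :=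
      ⟨hpb.lift _ _ hab', hpb.lift_fst _ _ _, hpb.lift_snd _ _ _⟩
    have hkey : ∀ m : T ⟶ H ⊗ (G ⊗ Z'), m ≫ (ChGrp.twist i aZ').act = a → m ≫ snd H (G ⊗ Z') = b →
        m ≫ (H ◁ (G ◁ c')) = l₀ := by
      intro m hm1 hm2
      apply hpb.hom_ext
      · rw [hl₀1, Category.assoc, ← htw, ← Category.assoc, hm1]
      · rw [hl₀2, Category.assoc, whiskerLeft_snd, ← Category.assoc, hm2]
    have hl2 : lift (l₀ ≫ fst H (G ⊗ Z)) b ≫ snd H (G ⊗ Z') = b := lift_snd _ _
    have hl1 : lift (l₀ ≫ fst H (G ⊗ Z)) b ≫ (ChGrp.twist i aZ').act = a := by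
      rw [← cancel_mono (G ◁ c'), Category.assoc, htw, lift_whiskerLeft_assoc, ← hl₀2,
        ← comp_lift_assoc, lift_fst_snd, Category.id_comp, hl₀1]
    refine ⟨_, ⟨hl1, hl2⟩, ?_⟩
    rintro m ⟨hm1, hm2⟩
    have h6 := hkey m hm1 hm2
    have h7 : m ≫ fst H (G ⊗ Z') = l₀ ≫ fst H (G ⊗ Z) := by
      rw [← h6, Category.assoc, whiskerLeft_fst]
    apply CartesianMonoidalCategory.hom_ext
    · rw [lift_fst, h7]
    · rw [lift_snd, hm2]
  · -- local sections
    obtain ⟨R, hR, hsec⟩ := hloc
    refine ⟨R.pullbackArrows c.left, Precoverage.pullbackArrows_mem c.left hR, ?_⟩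
    rintro T' f' ⟨T, f, hf⟩
    obtain ⟨s, hs⟩ := hsec f hf
    change s ≫ j.left = f at hs
    let To : Over S := Over.mk (pullback.snd f c.left ≫ Y'.hom)
    let y' : To ⟶ Y' := Over.homMk (pullback.snd f c.left) rfl
    have hus : (pullback.fst f c.left ≫ s) ≫ (G ⊗ Z).hom = To.hom := by
      rw [← Over.w j, Category.assoc, ← Category.assoc s, hs, ← Category.assoc, pullback.condition,
        Category.assoc, Over.w c]
      rfl
    let u : To ⟶ G ⊗ Z := Over.homMk (pullback.fst f c.left ≫ s) hus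
    have huy : u ≫ j = y' ≫ c := by
      ext1
      change (pullback.fst f c.left ≫ s) ≫ j.left = pullback.snd f c.left ≫ c.left
      rw [Category.assoc, hs, pullback.condition]
    have hu : u = lift (u ≫ fst G Z) (u ≫ snd G Z) := by
      rw [← comp_lift, lift_fst_snd, Category.comp_id]
    have hz : (u ≫ snd G Z) ≫ ε = (lift (u ≫ fst G Z)⁻¹ y' ≫ aY'.act) ≫ c := by
      rw [hεpt, Category.assoc, hcpt, ← huy]
      have h8 := equiv_pts aY j hE (u ≫ fst G Z)⁻¹ (u ≫ fst G Z) (u ≫ snd G Z)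
      rw [inv_mul_cancel, ← hu] at h8
      exact h8
    let z' : To ⟶ Z' := pullback.lift (u ≫ snd G Z) (lift (u ≫ fst G Z)⁻¹ y' ≫ aY'.act) hz
    have hz'e : z' ≫ e' = lift (u ≫ fst G Z)⁻¹ y' ≫ aY'.act := pullback.lift_snd _ _ _
    have hfin : lift (u ≫ fst G Z) z' ≫ j' = y' := by
      rw [hj'pt, hz'e, ← AlgGrp.Action.lift_mul_act, mul_inv_cancel, AlgGrp.Action.lift_one_act]
    exact ⟨(lift (u ≫ fst G Z) z').left, congrArg CommaMorphism.left hfin⟩

end General

/-- Let k be an algebraically closed field of characteristic zero, G and H affine group schemes of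
finite type over k with i : H → G a homomorphism which is a closed immersion, and Z a reduced affine
k-scheme of finite type with an action of H. Let Y, with its G-action and j : G × Z → Y, be the
balanced product G ×^H Z for the fppf topology (j is G-equivariant for left translation on the first
factor, a torsor for the twisted H-action h·(g, z) = (g i(h)⁻¹, h·z), with sections fppf-locally on
Y). Let c : Y' → Y be a closed immersion from a reduced scheme Y' with a G-action making c
equivariant (a closed G-invariant subvariety of Y). Then Y' is again a balanced product: there are a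
closed immersion c' : Z' → Z, an H-action on Z' for which c' is equivariant (a closed H-invariant
subscheme of Z), and a morphism j' : G × Z' → Y' with j' followed by c equal to G × c' followed by
j, such that j' makes Y' the balanced product G ×^H Z' for the fppf topology. (The source assumes G
and H reductive and defines G ×^H Z as the quotient (G × Z)//H, a principal H-bundle; here the
balanced product is taken in its torsor form and reductivity is not needed.) -/
theorem result
    (k : Type u) [Field k] [IsAlgClosed k] [CharZero k]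
    (G H Z Y Y' : Over (Spec (CommRingCat.of k))) [GrpObj G] [GrpObj H]
    [IsAffine G.left] [LocallyOfFiniteType G.hom] [IsAffine H.left] [LocallyOfFiniteType H.hom]
    (i : H ⟶ G) [IsMonHom i] [IsClosedImmersion i.left]
    [IsAffine Z.left] [LocallyOfFiniteType Z.hom] [IsReduced Z.left]
    (aZ : AlgGrp.Action H Z) (aY : AlgGrp.Action G Y) (j : G ⊗ Z ⟶ Y)
    (hY : ChGrp.IsBalProd Scheme.fppfPrecoverage i aZ aY j)
    (c : Y' ⟶ Y) [IsClosedImmersion c.left] [IsReduced Y'.left]
    (aY' : AlgGrp.Action G Y') (hc : AlgGrp.Action.IsEquivariant aY' aY c) :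
    ∃ (Z' : Over (Spec (CommRingCat.of k))) (c' : Z' ⟶ Z) (aZ' : AlgGrp.Action H Z') (j' : G ⊗ Z' ⟶ Y'),
      IsClosedImmersion c'.left ∧ AlgGrp.Action.IsEquivariant aZ' aZ c' ∧
      j' ≫ c = (G ◁ c') ≫ j ∧ ChGrp.IsBalProd Scheme.fppfPrecoverage i aZ' aY' j' := by
  exact main i aZ aY j hY c aY' hc

end Groth.Agent.S19681
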