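-- Statement S1969; proof by helper61.
import Groth.Statements.S1969
import Groth.Agent.Lib.FlatIdeals
import Mathlib.RingTheory.Flat.EquationalCriterion
import Mathlib.RingTheory.Flat.TorsionFree
import Mathlib.RingTheory.Flat.Localization
import Mathlib.RingTheory.Localization.Module
import Mathlib.Tactic.LinearCombination

set_option autoImplicit false
universe u
open EtAlg

namespace Groth.Agent.S1969

section Aux

variable {A L : Type u} [CommRing A] [CommRing L] [IsLocalRing L] (φ : A →+* L)

theorem dom_aux (x y : A) [Module.Flat A (Ideal.span {x} : Ideal A)] (hxy : x * y = 0) :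
    φ x = 0 ∨ φ y = 0 := by
  let X : (Ideal.span {x} : Ideal A) := ⟨x, Ideal.subset_span rfl⟩
  have hrel : ∑ i : Fin 1, (fun _ => y) i • (fun _ => X) i = 0 := by
    rw [Fin.sum_univ_one]
    apply Subtype.ext
    simp only [X, Submodule.coe_smul, smul_eq_mul, Submodule.coe_zero]
    rw [mul_comm]; exact hxy
  obtain ⟨k, a, z, hz, ha⟩ := Module.Flat.isTrivialRelation_of_sum_smul_eq_zero hrel
  have hb : ∀ j, ∃ b : A, b * x = (z j : A) := fun j => Ideal.mem_span_singleton'.mp (z j).2
  choose b hb using hb
  have hx : x = (∑ j, a 0 j * b j) * x := by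
    have h1 := congrArg Subtype.val (hz 0)
    simp only [X, Submodule.coe_sum, Submodule.coe_smul, smul_eq_mul] at h1
    rw [Finset.sum_mul]
    conv_lhs => rw [h1]
    refine Finset.sum_congr rfl fun j _ => ?_
    rw [← hb j, mul_assoc]
  have hyu : y * (∑ j, a 0 j * b j) = 0 := by
    rw [Finset.mul_sum]
    refine Finset.sum_eq_zero fun j _ => ?_
    have h2 := ha j
    rw [Fin.sum_univ_one] at h2
    rw [← mul_assoc, h2, zero_mul]
  rcases IsLocalRing.isUnit_or_isUnit_one_sub_self (φ (∑ j, a 0 j * b j)) with h | h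
  · right
    have : φ y * φ (∑ j, a 0 j * b j) = 0 := by rw [← map_mul, hyu, map_zero]
    exact (h.mul_left_eq_zero).mp this
  · left
    have : (1 - φ (∑ j, a 0 j * b j)) * φ x = 0 := by
      rw [← map_one φ, ← map_sub, ← map_mul]
      have : (1 - ∑ j, a 0 j * b j) * x = 0 := by linear_combination hx
      rw [this, map_zero]
    exact (h.mul_right_eq_zero).mp this

theorem val_aux (x y : A) [Module.Flat A (Ideal.span {x, y} : Ideal A)] :
    φ x ∣ φ y ∨ φ y ∣ φ x := by
  let X : (Ideal.span {x, y} : Ideal A) := ⟨x, Ideal.subset_span (by simp)⟩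
  let Y : (Ideal.span {x, y} : Ideal A) := ⟨y, Ideal.subset_span (by simp)⟩
  have hrel : ∑ i : Fin 2, (![y, -x]) i • (![X, Y]) i = 0 := by
    rw [Fin.sum_univ_two]
    apply Subtype.ext
    simp only [X, Y, Matrix.cons_val_zero, Matrix.cons_val_one, Submodule.coe_add,
      Submodule.coe_smul, smul_eq_mul, Submodule.coe_zero]
    ring
  obtain ⟨k, a, z, hz, ha⟩ := Module.Flat.isTrivialRelation_of_sum_smul_eq_zero hrel
  have hbc : ∀ j, ∃ b c : A, b * x + c * y = (z j : A) :=
    fun j => Ideal.mem_span_pair.mp (z j).2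
  choose b c hbc using hbc
  have hx : x = (∑ j, a 0 j * b j) * x + (∑ j, a 0 j * c j) * y := by
    have h1 := congrArg Subtype.val (hz 0)
    simp only [X, Matrix.cons_val_zero, Submodule.coe_sum, Submodule.coe_smul, smul_eq_mul] at h1
    rw [Finset.sum_mul, Finset.sum_mul, ← Finset.sum_add_distrib]
    conv_lhs => rw [h1]
    refine Finset.sum_congr rfl fun j _ => ?_
    rw [← hbc j]; ring
  have haj : ∀ j, y * a 0 j = x * a 1 j := by
    intro j
    have h2 := ha j
    rw [Fin.sum_univ_two] at h2
    simp only [Matrix.cons_val_zero, Matrix.cons_val_one] at h2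
    linear_combination h2
  have hyu : y * (∑ j, a 0 j * b j) = x * (∑ j, a 1 j * b j) := by
    rw [Finset.mul_sum, Finset.mul_sum]
    refine Finset.sum_congr rfl fun j _ => ?_
    rw [← mul_assoc, haj j, mul_assoc]
  rcases IsLocalRing.isUnit_or_isUnit_one_sub_self (φ (∑ j, a 0 j * b j)) with h | h
  · left
    obtain ⟨uu, huu⟩ := h
    refine ⟨φ (∑ j, a 1 j * b j) * ↑uu⁻¹, ?_⟩
    have h3 : φ y * uu = φ x * φ (∑ j, a 1 j * b j) := by
      rw [huu, ← map_mul, hyu, map_mul]
    calc φ y = φ y * uu * ↑uu⁻¹ := by rw [mul_assoc, uu.mul_inv, mul_one]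
      _ = φ x * (φ (∑ j, a 1 j * b j) * ↑uu⁻¹) := by rw [h3, mul_assoc]
  · right
    obtain ⟨uu, huu⟩ := h
    have h3 : (uu : L) * φ x = φ (∑ j, a 0 j * c j) * φ y := by
      rw [huu, ← map_one φ, ← map_sub, ← map_mul, ← map_mul]
      congr 1
      linear_combination hx
    refine ⟨↑uu⁻¹ * φ (∑ j, a 0 j * c j), ?_⟩
    calc φ x = ↑uu⁻¹ * (uu * φ x) := by rw [← mul_assoc, uu.inv_mul, one_mul]
      _ = φ y * (↑uu⁻¹ * φ (∑ j, a 0 j * c j)) := by rw [h3]; ring

end Aux

theorem valuation_of_flat (A : Type u) [CommRing A]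
    (h : ∀ I : Ideal A, I.FG → Module.Flat A I) (p : Ideal A) [p.IsPrime] :
    ∃ _ : IsDomain (Localization.AtPrime p), ValuationRing (Localization.AtPrime p) := by
  have hdom : ∀ x y : A, algebraMap A (Localization.AtPrime p) (x * y) = 0 →
      algebraMap A (Localization.AtPrime p) x = 0 ∨ algebraMap A (Localization.AtPrime p) y = 0 := by
    intro x y hxy
    rw [IsLocalization.map_eq_zero_iff p.primeCompl] at hxy
    obtain ⟨m, hm⟩ := hxy
    have := h (Ideal.span {(m : A) * x}) (Submodule.fg_span_singleton _)
    rcases dom_aux (algebraMap A (Localization.AtPrime p)) (m * x) y (by rw [← hm]; ring)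
      with h1 | h1
    · left
      rw [map_mul] at h1
      exact (IsUnit.mul_right_eq_zero
        (IsLocalization.map_units (Localization.AtPrime p) m)).mp h1
    · right; exact h1
  have hrep : ∀ α : Localization.AtPrime p, ∃ (x : A) (u : (Localization.AtPrime p)ˣ),
      α * u = algebraMap A (Localization.AtPrime p) x := by
    intro α
    obtain ⟨x, s, rfl⟩ := IsLocalization.exists_mk'_eq p.primeCompl α
    exact ⟨x, (IsLocalization.map_units (Localization.AtPrime p) s).unit,
      by rw [IsUnit.unit_spec, IsLocalization.mk'_spec]⟩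
  have hD : IsDomain (Localization.AtPrime p) := by
    have : NoZeroDivisors (Localization.AtPrime p) := by
      refine ⟨?_⟩
      intro α β hαβ
      obtain ⟨x, u, hx⟩ := hrep α
      obtain ⟨y, v, hy⟩ := hrep β
      have h0 : algebraMap A (Localization.AtPrime p) (x * y) = 0 := by
        rw [map_mul, ← hx, ← hy]
        calc α * ↑u * (β * ↑v) = (α * β) * (↑u * ↑v) := by ring
          _ = 0 := by rw [hαβ, zero_mul]
      rcases hdom x y h0 with h1 | h1
      · left
        rw [h1] at hx
        exact (u.isUnit.mul_left_eq_zero).mp hx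
      · right
        rw [h1] at hy
        exact (v.isUnit.mul_left_eq_zero).mp hy
    exact NoZeroDivisors.to_isDomain _
  refine ⟨hD, ?_⟩
  rw [ValuationRing.iff_dvd_total]
  refine ⟨fun α β => ?_⟩
  obtain ⟨x, u, hx⟩ := hrep α
  obtain ⟨y, v, hy⟩ := hrep β
  have := h (Ideal.span {x, y}) (Submodule.fg_span (Set.toFinite {x, y}))
  have key := val_aux (algebraMap A (Localization.AtPrime p)) x y
  rw [← hx, ← hy] at key
  simpa [Units.mul_right_dvd, Units.dvd_mul_right] using key

theorem flat_of_valuation (A : Type u) [CommRing A]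
    (h : ∀ (p : Ideal A) [p.IsPrime],
      ∃ _ : IsDomain (Localization.AtPrime p), ValuationRing (Localization.AtPrime p))
    (I : Ideal A) : Module.Flat A I := by
  apply Module.flat_of_localized_maximal
  intro P hP
  obtain ⟨hd, hv⟩ := h P
  rw [← Module.flat_iff_of_isLocalization (Localization.AtPrime P) P.primeCompl]
  rw [Module.Flat.flat_iff_torsion_eq_bot_of_isBezout, ← Submodule.isTorsionFree_iff_torsion_eq_bot]
  let g := IsLocalizedModule.mapExtendScalars P.primeCompl
    (LocalizedModule.mkLinearMap P.primeCompl I)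
    (Algebra.linearMap A (Localization.AtPrime P)) (Localization.AtPrime P) I.subtype
  have hg : Function.Injective g := by
    have := IsLocalizedModule.map_injective P.primeCompl
      (LocalizedModule.mkLinearMap P.primeCompl I)
      (Algebra.linearMap A (Localization.AtPrime P)) I.subtype I.injective_subtype
    exact this
  exact Function.Injective.moduleIsTorsionFree g hg (fun r m => map_smul g r m)

/-- For a commutative ring A these are equivalent — all ideals are flat A-modules; all finitely
generated ideals are flat; flatness passes to submodules of flat modules; each localization at a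
prime is a valuation ring (in particular a domain). Condition (1), weak dimension at most one, is
not stated. -/
theorem result (A : Type u) [CommRing A] :
    List.TFAE [∀ I : Ideal A, Module.Flat A I,
      ∀ I : Ideal A, I.FG → Module.Flat A I,
      ∀ (M : Type u) [AddCommGroup M] [Module A M], Module.Flat A M → ∀ N : Submodule A M, Module.Flat A N,
      ∀ (p : Ideal A) [p.IsPrime], ∃ _ : IsDomain (Localization.AtPrime p), ValuationRing (Localization.AtPrime p)] := by
  tfae_have 1 → 2 := fun h I _ => h I
  tfae_have 2 → 3 := fun h M _ _ hM N =>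
    Groth.Agent.Lib.FlatIdeals.flat_submodule_of_flat_fg_ideals h N
  tfae_have 3 → 1 := fun h I => h A inferInstance I
  tfae_have 2 → 4 := fun h p _ => valuation_of_flat A h p
  tfae_have 4 → 1 := fun h I => flat_of_valuation A h I
  tfae_finish

end Groth.Agent.S1969
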