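import Groth.Statements.S19693
import Mathlib
import Groth.Agent.Lib.FinLocFreeMorRank
import Groth.Agent.Lib.H90QCAlg

set_option autoImplicit false
universe u
open CategoryTheory CategoryTheory.Limits AlgebraicGeometry Opposite
open FinCov

namespace Groth.Agent.S19693

section Helpers

namespace FC3
set_option linter.style.haveILetI false
open CategoryTheory CategoryTheory.Limits AlgebraicGeometry TopologicalSpace Opposite
open Groth.Agent.Lib.H90QCAlg Groth.Agent.Lib.FinLocFreeMor Groth.Agent.Lib.FinLocFreeMorRank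

variable {X : Scheme.{u}} (A : RelSpec.QCAlg X)

theorem isIso_gammaAff (U : X.Opens) (hU : IsAffineOpen U) : IsIso (A.gammaAff U hU) := by
  unfold RelSpec.QCAlg.gammaAff
  have h1 : IsIso ((A.ι U hU).appLE (A.π ⁻¹ᵁ U) ⊤ (A.top_le_preimage U hU)) := by
    unfold Scheme.Hom.appLE
    have ha : IsIso ((A.ι U hU).app (A.π ⁻¹ᵁ U)) := by
      apply Scheme.Hom.isIso_app
      rw [A.π_preimage U hU]
    have hb : (A.ι U hU) ⁻¹ᵁ (A.π ⁻¹ᵁ U) = ⊤ := top_le_iff.mp (A.top_le_preimage U hU)
    have hc : IsIso ((Spec (A.presheaf.obj (op U))).presheaf.map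
        (homOfLE (A.top_le_preimage U hU)).op) := by
      have : (homOfLE (A.top_le_preimage U hU)).op = (eqToHom hb.symm).op := Subsingleton.elim _ _
      rw [this]
      infer_instance
    exact IsIso.comp_isIso' ha hc
  exact IsIso.comp_isIso' h1 inferInstance

/-- `Γ(Spec A, π⁻¹U) ≃ Γ(A, U)` as a linear equivalence over `Γ(X, U)`. -/
noncomputable def gammaEquiv (U : X.Opens) (hU : IsAffineOpen U) :
    letI : Algebra Γ(X, U) Γ(A.spec, A.π ⁻¹ᵁ U) := (A.π.app U).hom.toAlgebra
    Γ(A.spec, A.π ⁻¹ᵁ U) ≃ₗ[Γ(X, U)] Γ(A.toModule, U) :=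
  letI : Algebra Γ(X, U) Γ(A.spec, A.π ⁻¹ᵁ U) := (A.π.app U).hom.toAlgebra
  haveI := isIso_gammaAff A U hU
  { toFun := fun s => toSec A U ((A.gammaAff U hU).hom s)
    invFun := fun m => (inv (A.gammaAff U hU)).hom (ofSec A U m)
    map_add' := fun s t => map_add (A.gammaAff U hU).hom s t
    map_smul' := fun r s => by
      change toSec A U ((A.gammaAff U hU).hom ((A.π.app U).hom r * s)) =
        r • toSec A U ((A.gammaAff U hU).hom s)
      have h1 : (A.gammaAff U hU).hom ((A.π.app U).hom r) = (A.str.app (op U)).hom r := by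
        have := congr($(A.π_app_gammaAff U hU).hom r)
        simpa using this
      rw [map_mul, h1]
      rfl
    left_inv := fun s => by
      change (inv (A.gammaAff U hU)).hom ((A.gammaAff U hU).hom s) = s
      have := congr($(IsIso.hom_inv_id (A.gammaAff U hU)).hom s)
      exact this
    right_inv := fun m => by
      change toSec A U ((A.gammaAff U hU).hom ((inv (A.gammaAff U hU)).hom (ofSec A U m))) = m
      have := congr($(IsIso.inv_hom_id (A.gammaAff U hU)).hom (ofSec A U m))
      exact this }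

theorem main (d : ℕ) (hA : FlatMod.IsFinLocFreeOfRank d A.toModule) : FinCov.IsCover A.π d := by
  have hLF : FlatMod.IsFinLocFree A.toModule := by
    intro y
    obtain ⟨U, hyU, he⟩ := hA y
    exact ⟨U, d, hyU, he⟩
  have hfp := Groth.Agent.Lib.H90Invertible.isFinitePresentation_of_isFinLocFree hLF
  have hfp' := (Groth.Agent.Lib.H90OXModFP.isFinitePresentation_iff_forall_affine _).mp hfp
  have hflat : FlatMod.IsFlat A.toModule := by
    intro x
    haveI := Groth.Agent.Lib.LocFreeFP.free_stalk_of_isFinLocFree hLF x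
    exact Module.Flat.of_free
  have hflat' := (Groth.Agent.Lib.QCohFlat.isFlat_iff_forall_affine _).mp hflat
  have key : ∀ U : X.affineOpens,
      letI : Algebra Γ(X, U.1) Γ(A.spec, A.π ⁻¹ᵁ U.1) := (A.π.app U.1).hom.toAlgebra
      Module.FinitePresentation Γ(X, U.1) Γ(A.spec, A.π ⁻¹ᵁ U.1) ∧
        Module.Flat Γ(X, U.1) Γ(A.spec, A.π ⁻¹ᵁ U.1) := by
    intro U
    letI : Algebra Γ(X, U.1) Γ(A.spec, A.π ⁻¹ᵁ U.1) := (A.π.app U.1).hom.toAlgebra
    haveI := hfp' U
    haveI := hflat' U
    exact ⟨Module.FinitePresentation.of_equiv (gammaEquiv A U.1 U.2).symm,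
      Module.Flat.of_linearEquiv (gammaEquiv A U.1 U.2)⟩
  have hfin : IsFinite A.π := by
    rw [isFinite_iff]
    refine ⟨inferInstance, fun U hU => ?_⟩
    letI : Algebra Γ(X, U) Γ(A.spec, A.π ⁻¹ᵁ U) := (A.π.app U).hom.toAlgebra
    haveI := (key ⟨U, hU⟩).1
    show Module.Finite Γ(X, U) Γ(A.spec, A.π ⁻¹ᵁ U)
    infer_instance
  have hfl : Flat A.π := by
    refine (iff_forall_app_of_isAffineHom (P := @Flat) A.π RingHom.Flat.stableUnderComposition
      RingHom.Flat.containsIdentities).mpr ?_
    intro U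
    exact (key U).2
  have hlfp : LocallyOfFinitePresentation A.π := by
    refine (iff_forall_app_of_isAffineHom (P := @LocallyOfFinitePresentation) A.π
      RingHom.finitePresentation_stableUnderComposition
      RingHom.finitePresentation_holdsForLocalizationAway.containsIdentities).mpr ?_
    intro U
    letI : Algebra Γ(X, U.1) Γ(A.spec, A.π ⁻¹ᵁ U.1) := (A.π.app U.1).hom.toAlgebra
    haveI := (key U).1
    show Algebra.FinitePresentation Γ(X, U.1) Γ(A.spec, A.π ⁻¹ᵁ U.1)
    exact (Module.FinitePresentation.iff_finitePresentation_of_finite _ _).mp inferInstance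
  refine ⟨⟨hfin, hfl, hlfp⟩, fun y => ?_⟩
  obtain ⟨V, hyV, ⟨e⟩⟩ := hA y
  have hrk := Groth.Agent.Lib.SemilocalFree.finrank_stalk_eq_of_restrict_iso V e ⟨y, hyV⟩
  obtain ⟨U, hyU⟩ := Opens.mem_iSup.mp ((iSup_affineOpens_eq_top X).ge (Set.mem_univ y))
  have hU : IsAffineOpen U.1 := U.2
  have hU' : IsAffineOpen (A.π ⁻¹ᵁ U.1) := hU.preimage A.π
  have hpb := isPullback_fromSpec A.π hU hU'
  have h1 := Scheme.Hom.finrank_of_isPullback _ _ _ _ hpb (hU.primeIdealOf ⟨y, hyU⟩)
  rw [hU.fromSpec_primeIdealOf] at h1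
  rw [← h1]
  have hfin' : (A.π.app U.1).hom.Finite := IsFinite.finite_app A.π U.1 hU
  have hflat'' : (A.π.app U.1).hom.Flat :=
    (iff_forall_app_of_isAffineHom (P := @Flat) A.π RingHom.Flat.stableUnderComposition
        RingHom.Flat.containsIdentities).mp inferInstance U
  rw [Scheme.Hom.finrank_SpecMap_eq_finrank hfin' hflat'', ← hrk,
    ← Groth.Agent.Lib.SemilocalFree.rankAtStalk_sections_eq _ hU ⟨y, hyU⟩]
  unfold RingHom.finrank
  letI : Algebra Γ(X, U.1) Γ(A.spec, A.π ⁻¹ᵁ U.1) := (A.π.app U.1).hom.toAlgebra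
  exact congrFun (Module.rankAtStalk_eq_of_equiv (gammaEquiv A U.1 hU)) _

end FC3

end Helpers

/-- Let X be a scheme and A a quasi-coherent O_X-algebra whose underlying O_X-module is locally free of
rank d. Then the structure morphism Spec(A) → X of the relative spectrum of A is a cover of degree
d: finite, flat, locally of finite presentation and of rank d at every point of X. (This is the
quasi-inverse direction of the equivalence between degree-d covers of X and O_X-algebras locally
free of rank d; the other direction and the identification of the direct-image algebra of Spec(A)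
with A are separate statements.) -/
theorem result {X : Scheme.{u}} (A : RelSpec.QCAlg X) (d : ℕ)
    (hA : FlatMod.IsFinLocFreeOfRank d A.toModule) : FinCov.IsCover A.π d := by
  exact FC3.main A d hA

end Groth.Agent.S19693
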