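import Groth.Statements.S19695
import Mathlib
import Groth.Agent.Lib.FinCovTrace93

set_option autoImplicit false
universe u
open CategoryTheory CategoryTheory.Limits AlgebraicGeometry Opposite
open FinCov

namespace Groth.Agent.S19695

section Helpers

namespace FC2
set_option linter.style.haveILetI false
open CategoryTheory CategoryTheory.Limits AlgebraicGeometry TopologicalSpace Opposite
open Groth.Agent.Lib.NormBasisH3 Groth.Agent.Lib.H78TensorGen Groth.Agent.Lib.H90QCAlg
open Groth.Agent.Lib.FinCovTrace93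

variable {X : Scheme.{u}} (A : RelSpec.QCAlg X)

/-- small affine opens of rank `d`. -/
def SmallAffRank (d : ℕ) (W : X.Opens) : Prop :=
  IsAffineOpen W ∧ ∃ (V : X.Opens) (e : Fin d → Γ(A.toModule, V)), IsBasisOn A.toModule V e ∧ W ≤ V

theorem isBasis_smallAffRank {d : ℕ} (hA : FlatMod.IsFinLocFreeOfRank d A.toModule) :
    Opens.IsBasis (Set.range (fun i : {W : X.Opens // SmallAffRank A d W} => i.1)) := by
  rw [Opens.isBasis_iff_nbhd]
  intro N x hx
  obtain ⟨V, e, hxV, he⟩ := exists_isBasisOn_of_rank hA x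
  obtain ⟨_, ⟨U, hU, rfl⟩, hxU, hUV⟩ :=
    X.isBasis_affineOpens.exists_subset_of_mem_open
      (show x ∈ ((V ⊓ N : X.Opens) : Set X) from ⟨hxV, hx⟩) (V ⊓ N).isOpen
  exact ⟨U, ⟨⟨U, hU, V, e, he, fun a ha => (hUV ha).1⟩, rfl⟩, hxU, fun a ha => (hUV ha).2⟩

theorem nsmul_app {M N : X.Modules} (d : ℕ) (φ : M ⟶ N) (W : X.Opens) :
    (d • φ).app W = d • φ.app W := by
  induction d with
  | zero => simp
  | succ n ih => rw [succ_nsmul, succ_nsmul, Scheme.Modules.Hom.add_app, ih]

theorem main (d : ℕ) (hA : FlatMod.IsFinLocFreeOfRank d A.toModule)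
    (τ : A.toModule ⟶ Coh.structureModule X) (hτ : FinCov.IsTrace A τ) :
    FinCov.strMod A ≫ τ = d • 𝟙 (Coh.structureModule X) := by
  refine Groth.Agent.Lib.ModHomBasis.hom_ext_of_basis (isBasis_smallAffRank A hA) _ _ ?_
  rintro ⟨W, hWaff, V, e, he, hWV⟩
  have h1 := app_eq_traceHom_of_isTrace A τ hτ (W := W) ⟨hWaff, V, d, e, he, hWV⟩
  letI := alg A W
  have key : ∀ s' : Γ(X, W), Algebra.trace Γ(X, W) (A.presheaf.obj (op W))
      (algebraMap Γ(X, W) (A.presheaf.obj (op W)) s') = d • s' := by
    intro s'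
    by_cases hnt : Nontrivial Γ(X, W)
    · haveI : Module.Free Γ(X, W) (A.presheaf.obj (op W)) := Module.Free.of_basis (basisOf A he hWV)
      rw [Algebra.trace_algebraMap, Module.finrank_eq_card_basis (basisOf A he hWV),
        Fintype.card_fin]
    · haveI : Subsingleton Γ(X, W) := not_nontrivial_iff_subsingleton.mp hnt
      exact Subsingleton.elim _ _
  ext s
  rw [Scheme.Modules.Hom.comp_app, nsmul_app]
  change (τ.app W) ((FinCov.strMod A).app W s) = d • s
  rw [h1]
  exact key s

end FC2

end Helpers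

/-- Let X be a scheme, A a quasi-coherent O_X-algebra which is locally free of rank d as an O_X-module,
and τ : A → O_X its trace (the O_X-linear map which over every affine open where A is finite free is
the trace of the regular representation). Then the structure map O_X → A followed by τ equals
multiplication by d on O_X. -/
theorem result {X : Scheme.{u}} (A : RelSpec.QCAlg X) (d : ℕ)
    (hA : FlatMod.IsFinLocFreeOfRank d A.toModule)
    (τ : A.toModule ⟶ Coh.structureModule X) (hτ : FinCov.IsTrace A τ) :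
    FinCov.strMod A ≫ τ = d • 𝟙 (Coh.structureModule X) := by
  exact FC2.main A d hA τ hτ

end Groth.Agent.S19695
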