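import Groth.Statements.S19696
import Mathlib
import Groth.Agent.Lib.FinCovSplit93
import Groth.Agent.S19695

set_option autoImplicit false
universe u
open CategoryTheory CategoryTheory.Limits AlgebraicGeometry Opposite
open FinCov

namespace Groth.Agent.S19696

section Helpers

namespace DB6
set_option linter.style.haveILetI false
open CategoryTheory CategoryTheory.Limits AlgebraicGeometry TopologicalSpace Opposite
open Groth.Agent.Lib.NormBasisH3 Groth.Agent.Lib.H78TensorGen
open Groth.Agent.Lib.H78SecCoord Groth.Agent.Lib.H90Invertible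
open Groth.Agent.Lib.FreeModSch

variable {X : Scheme.{u}}

theorem main (A : RelSpec.QCAlg X) (d : ℕ) (hA : FlatMod.IsFinLocFreeOfRank d A.toModule)
    (τ : A.toModule ⟶ Coh.structureModule X) (hτ : FinCov.IsTrace A τ)
    (hd : IsUnit ((d : Γ(X, ⊤)))) :
    IsSplitEpi τ ∧ FlatMod.IsFinLocFreeOfRank (d - 1) (kernel τ) := by
  obtain ⟨u, hu⟩ := hd.exists_right_inv
  have hstr := Groth.Agent.S19695.result A d hA τ hτ
  let σ : Coh.structureModule X ⟶ A.toModule :=
    ofSection A.toModule (Groth.Agent.Lib.H90QCAlg.toSec A ⊤ ((A.str.app (op ⊤)).hom u))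
  have hστ : σ ≫ τ = 𝟙 _ := by
    apply unit_hom_ext
    rw [toSection_comp, toSection_ofSection]
    have h1 := congrArg (fun φ : Coh.structureModule X ⟶ Coh.structureModule X =>
      φ.app ⊤ (Groth.Agent.Lib.StructureModule.toSec ⊤ u)) hstr
    change τ.app ⊤ (Groth.Agent.Lib.H90QCAlg.toSec A ⊤ ((A.str.app (op ⊤)).hom u)) =
      (d • 𝟙 (Coh.structureModule X) : Coh.structureModule X ⟶ Coh.structureModule X).app ⊤
        (Groth.Agent.Lib.StructureModule.toSec ⊤ u) at h1
    rw [h1, Groth.Agent.S19695.FC2.nsmul_app]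
    change d • u = _
    rw [nsmul_eq_mul, hu]
    rfl
  refine ⟨IsSplitEpi.mk' ⟨σ, hστ⟩, ?_⟩
  -- the retraction onto the kernel
  have hz : (𝟙 A.toModule - τ ≫ σ) ≫ τ = 0 := by
    rw [Preadditive.sub_comp, Category.id_comp, Category.assoc, hστ, Category.comp_id, sub_self]
  let ρ : A.toModule ⟶ kernel τ := kernel.lift τ (𝟙 A.toModule - τ ≫ σ) hz
  have hρι : ρ ≫ kernel.ι τ = 𝟙 A.toModule - τ ≫ σ := kernel.lift_ι _ _ _
  have hιρ : kernel.ι τ ≫ ρ = 𝟙 _ := by
    rw [← cancel_mono (kernel.ι τ), Category.assoc, hρι, Preadditive.comp_sub, Category.comp_id,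
      kernel.condition_assoc, zero_comp, sub_zero, Category.id_comp]
  have hσρ : σ ≫ ρ = 0 := by
    rw [← cancel_mono (kernel.ι τ), Category.assoc, hρι, Preadditive.comp_sub, Category.comp_id,
      ← Category.assoc, hστ, Category.id_comp, sub_self, zero_comp]
  have h5 : τ ≫ σ + ρ ≫ kernel.ι τ = 𝟙 _ := by
    rw [hρι]; abel
  have hK : FlatMod.IsFinLocFree (kernel τ) :=
    Groth.Agent.Lib.FinCovSplit93.isFinLocFree_of_retract (kernel.ι τ) ρ hιρ
      (Groth.Agent.Lib.FinCovDbl93.isFinLocFree_of_rank hA)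
  intro x
  obtain ⟨V, e, hxV, he⟩ := exists_isBasisOn_of_rank hA x
  obtain ⟨V', k, f, hxV', hf⟩ := exists_isBasisOn hK x
  have hdk : d = k + 1 :=
    Groth.Agent.Lib.FinCovSplit93.rank_of_split σ τ (kernel.ι τ) ρ hστ hιρ (kernel.condition τ) hσρ h5 he hf x hxV hxV'
  have hk : d - 1 = k := by omega
  rw [hk]
  exact ⟨V', hxV', Groth.Agent.Lib.FinCovDbl93.nonempty_restrict_iso_of_isBasisOn (kernel τ) V' f hf⟩

end DB6

end Helpers

/-- Let X be a scheme, A a quasi-coherent O_X-algebra which is locally free of rank d as an O_X-module,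
and τ : A → O_X its trace (the O_X-linear map which over every affine open where A is finite free is
the trace of the regular representation). If d is invertible in O_X(X), then τ is a split
epimorphism of O_X-modules — so 0 → ker τ → A → O_X → 0 is split exact — and its kernel ker τ is
locally free of rank d − 1 as an O_X-module. -/
theorem result {X : Scheme.{u}}
    (A : RelSpec.QCAlg X) (d : ℕ) (hA : FlatMod.IsFinLocFreeOfRank d A.toModule)
    (τ : A.toModule ⟶ Coh.structureModule X) (hτ : FinCov.IsTrace A τ)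
    (hd : IsUnit ((d : Γ(X, ⊤)))) :
    IsSplitEpi τ ∧ FlatMod.IsFinLocFreeOfRank (d - 1) (kernel τ) := by
  exact DB6.main A d hA τ hτ hd

end Groth.Agent.S19696
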