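import Groth.Statements.S19697
import Mathlib
import Groth.Agent.Lib.NormBasisH3
import Groth.Agent.Lib.H90Invertible
import Groth.Agent.Lib.H90InvertibleFP
import Groth.Agent.Lib.AssPush

set_option autoImplicit false
universe u
open CategoryTheory CategoryTheory.Limits AlgebraicGeometry Opposite
open FinCov

namespace Groth.Agent.S19697

section Helpers

namespace DA1

/-- a symmetric "associative" bilinear form on a module. -/
structure DblData (R : Type u) (M : Type u) [CommRing R] [AddCommGroup M] [Module R M] where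
  μ : M → M → R
  add_left : ∀ a a' b, μ (a + a') b = μ a b + μ a' b
  smul_left : ∀ (r : R) a b, μ (r • a) b = r * μ a b
  symm : ∀ a b, μ a b = μ b a
  assoc : ∀ a b c, μ a b • c = μ b c • a

variable {R : Type u} {M : Type u} [CommRing R] [AddCommGroup M] [Module R M]

namespace DblData
variable (d : DblData R M)

theorem add_right (a b b' : M) : d.μ a (b + b') = d.μ a b + d.μ a b' := by
  rw [d.symm, d.add_left, d.symm b, d.symm b']

theorem smul_right (r : R) (a b : M) : d.μ a (r • b) = r * d.μ a b := by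
  rw [d.symm, d.smul_left, d.symm]

theorem zero_left (b : M) : d.μ 0 b = 0 := by
  have := d.smul_left 0 0 b
  rwa [zero_smul, zero_mul] at this

theorem zero_right (a : M) : d.μ a 0 = 0 := by
  rw [d.symm, d.zero_left]

end DblData

/-- the ring `R ⊕ M` with product `(s,l)(s',l') = (ss' + μ(l,l'), s l' + s' l)`. -/
def Dbl (_d : DblData R M) : Type u := R × M

namespace Dbl
variable (d : DblData R M)

instance : AddCommGroup (Dbl d) := inferInstanceAs (AddCommGroup (R × M))

/-- constructor. -/
def mk (s : R) (l : M) : Dbl d := (s, l)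
/-- first component. -/
def fst (z : Dbl d) : R := Prod.fst z
/-- second component. -/
def snd (z : Dbl d) : M := Prod.snd z

variable {d}

@[ext] theorem ext {z w : Dbl d} (h1 : fst d z = fst d w) (h2 : snd d z = snd d w) : z = w :=
  Prod.ext h1 h2

@[simp] theorem fst_mk (s : R) (l : M) : fst d (mk d s l) = s := rfl
@[simp] theorem snd_mk (s : R) (l : M) : snd d (mk d s l) = l := rfl
@[simp] theorem mk_fst_snd (z : Dbl d) : mk d (fst d z) (snd d z) = z := rfl
@[simp] theorem fst_add (z w : Dbl d) : fst d (z + w) = fst d z + fst d w := rfl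
@[simp] theorem snd_add (z w : Dbl d) : snd d (z + w) = snd d z + snd d w := rfl
@[simp] theorem fst_zero : fst d (0 : Dbl d) = 0 := rfl
@[simp] theorem snd_zero : snd d (0 : Dbl d) = 0 := rfl
@[simp] theorem fst_neg (z : Dbl d) : fst d (-z) = -fst d z := rfl
@[simp] theorem snd_neg (z : Dbl d) : snd d (-z) = -snd d z := rfl

instance : Mul (Dbl d) :=
  ⟨fun z w => mk d (fst d z * fst d w + d.μ (snd d z) (snd d w)) (fst d z • snd d w + fst d w • snd d z)⟩
instance : One (Dbl d) := ⟨mk d 1 0⟩

@[simp] theorem fst_mul (z w : Dbl d) : fst d (z * w) = fst d z * fst d w + d.μ (snd d z) (snd d w) := rfl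
@[simp] theorem snd_mul (z w : Dbl d) : snd d (z * w) = fst d z • snd d w + fst d w • snd d z := rfl
@[simp] theorem fst_one : fst d (1 : Dbl d) = 1 := rfl
@[simp] theorem snd_one : snd d (1 : Dbl d) = 0 := rfl

instance : CommRing (Dbl d) :=
  { (inferInstance : AddCommGroup (Dbl d)) with
    mul := (· * ·)
    one := 1
    left_distrib := fun a b c => by
      ext
      · simp only [fst_mul, fst_add, snd_add, d.add_right]; ring
      · simp only [snd_mul, fst_add, snd_add, smul_add, add_smul]; abel
    right_distrib := fun a b c => by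
      ext
      · simp only [fst_mul, fst_add, snd_add, d.add_left]; ring
      · simp only [snd_mul, fst_add, snd_add, smul_add, add_smul]; abel
    zero_mul := fun a => by
      ext
      · simp only [fst_mul, fst_zero, snd_zero, d.zero_left]; ring
      · simp only [snd_mul, fst_zero, snd_zero, zero_smul, smul_zero, add_zero]
    mul_zero := fun a => by
      ext
      · simp only [fst_mul, fst_zero, snd_zero, d.zero_right]; ring
      · simp only [snd_mul, fst_zero, snd_zero, zero_smul, smul_zero, add_zero]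
    mul_assoc := fun a b c => by
      ext
      · simp only [fst_mul, snd_mul, d.add_left, d.add_right, d.smul_left, d.smul_right]
        rw [d.symm (snd d a) (snd d c)]
        ring
      · simp only [fst_mul, snd_mul, smul_add, add_smul, mul_smul]
        rw [d.assoc (snd d a) (snd d b) (snd d c)]
        rw [smul_comm (fst d c) (fst d a) (snd d b), smul_comm (fst d c) (fst d b) (snd d a)]
        abel
    one_mul := fun a => by
      ext
      · simp only [fst_mul, fst_one, snd_one, d.zero_left]; ring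
      · simp only [snd_mul, fst_one, snd_one, one_smul, smul_zero, add_zero]
    mul_one := fun a => by
      ext
      · simp only [fst_mul, fst_one, snd_one, d.zero_right]; ring
      · simp only [snd_mul, fst_one, snd_one, one_smul, smul_zero, zero_add]
    mul_comm := fun a b => by
      ext
      · simp only [fst_mul]; rw [d.symm, mul_comm]
      · simp only [snd_mul]; rw [add_comm] }


variable (d)

/-- the structure map `R → R ⊕ M`. -/
def inl : R →+* Dbl d where
  toFun s := mk d s 0
  map_one' := rfl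
  map_mul' s t := by
    ext
    · simp only [fst_mul, fst_mk, snd_mk, d.zero_left, add_zero]
    · simp only [snd_mul, fst_mk, snd_mk, smul_zero, add_zero]
  map_zero' := rfl
  map_add' s t := by
    ext
    · simp only [fst_add, fst_mk]
    · simp only [snd_add, snd_mk, add_zero]

@[simp] theorem fst_inl (s : R) : fst d (inl d s) = s := rfl
@[simp] theorem snd_inl (s : R) : snd d (inl d s) = 0 := rfl

variable {d}

theorem inl_mul (s : R) (z : Dbl d) : inl d s * z = mk d (s * fst d z) (s • snd d z) := by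
  ext
  · simp only [fst_mul, fst_inl, snd_inl, d.zero_left, add_zero, fst_mk]
  · simp only [snd_mul, fst_inl, snd_inl, smul_zero, add_zero, snd_mk]

theorem mk_eq (s : R) (l : M) : mk d s l = inl d s + mk d 0 l := by
  ext
  · simp only [fst_add, fst_mk, fst_inl, add_zero]
  · simp only [snd_add, snd_mk, snd_inl, zero_add]

theorem mk_zero_mul_mk_zero (l l' : M) : mk d 0 l * mk d 0 l' = inl d (d.μ l l') := by
  ext
  · simp only [fst_mul, fst_mk, snd_mk, zero_mul, zero_add, fst_inl]
  · simp only [snd_mul, fst_mk, snd_mk, zero_smul, add_zero, snd_inl]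

/-- functoriality. -/
def map {R' : Type u} {M' : Type u} [CommRing R'] [AddCommGroup M'] [Module R' M']
    {d' : DblData R' M'} (φ : R →+* R') (ψ : M →+ M')
    (hsmul : ∀ (r : R) (m : M), ψ (r • m) = φ r • ψ m)
    (hμ : ∀ a b, d'.μ (ψ a) (ψ b) = φ (d.μ a b)) : Dbl d →+* Dbl d' where
  toFun z := mk d' (φ (fst d z)) (ψ (snd d z))
  map_one' := by
    ext
    · simp only [fst_mk, fst_one, map_one]
    · simp only [snd_mk, snd_one, map_zero]
  map_mul' z w := by
    ext
    · simp only [fst_mk, fst_mul, snd_mk, map_add, map_mul, hμ]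
    · simp only [snd_mk, snd_mul, fst_mk, map_add, hsmul]
  map_zero' := by
    ext
    · simp only [fst_mk, fst_zero, map_zero]
    · simp only [snd_mk, snd_zero, map_zero]
  map_add' z w := by
    ext
    · simp only [fst_mk, fst_add, map_add]
    · simp only [snd_mk, snd_add, map_add]

@[simp] theorem fst_map {R' : Type u} {M' : Type u} [CommRing R'] [AddCommGroup M'] [Module R' M']
    {d' : DblData R' M'} (φ : R →+* R') (ψ : M →+ M')
    (hsmul : ∀ (r : R) (m : M), ψ (r • m) = φ r • ψ m)
    (hμ : ∀ a b, d'.μ (ψ a) (ψ b) = φ (d.μ a b)) (z : Dbl d) :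
    fst d' (map φ ψ hsmul hμ z) = φ (fst d z) := rfl

@[simp] theorem snd_map {R' : Type u} {M' : Type u} [CommRing R'] [AddCommGroup M'] [Module R' M']
    {d' : DblData R' M'} (φ : R →+* R') (ψ : M →+ M')
    (hsmul : ∀ (r : R) (m : M), ψ (r • m) = φ r • ψ m)
    (hμ : ∀ a b, d'.μ (ψ a) (ψ b) = φ (d.μ a b)) (z : Dbl d) :
    snd d' (map φ ψ hsmul hμ z) = ψ (snd d z) := rfl

theorem inl_pow (s : R) (n : ℕ) : inl d s ^ n = inl d (s ^ n) := (map_pow (inl d) s n).symm

end Dbl

end DA1

namespace DA2
set_option linter.style.haveILetI false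
open CategoryTheory CategoryTheory.Limits AlgebraicGeometry TopologicalSpace Opposite
open Groth.Agent.Lib.NormBasisH3 Groth.Agent.Lib.H78TensorGen
open Groth.Agent.Lib.H78SecCoord Groth.Agent.Lib.H90Invertible Groth.Agent.Lib.StructureModule

variable {X : Scheme.{u}} (L : X.Modules) (m : CohB1.tensorMod L L ⟶ Coh.structureModule X)

/-- the pairing on sections. -/
noncomputable def mu (U : X.Opens) (a b : Γ(L, U)) : Γ(X, U) := ofS X U (m.app U (tmul a b))

theorem mu_eq_secTwist (U : X.Opens) (a b : L.val.obj (op U)) :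
    mu L m U a b = (m.val.app (op U)).hom (SecTwist.tmul L L U a b) := rfl

theorem mu_add_left (U : X.Opens) (a a' b : Γ(L, U)) :
    mu L m U (a + a') b = mu L m U a b + mu L m U a' b := by
  unfold mu
  rw [tmul_add_left, map_add]
  rfl

theorem mu_smul_left (U : X.Opens) (r : Γ(X, U)) (a b : Γ(L, U)) :
    mu L m U (r • a) b = r * mu L m U a b := by
  unfold mu
  rw [smul_tmul, Scheme.Modules.Hom.app_smul]
  rfl

theorem mu_smul_right (U : X.Opens) (r : Γ(X, U)) (a b : Γ(L, U)) :
    mu L m U a (r • b) = r * mu L m U a b := by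
  unfold mu
  rw [tmul_smul, Scheme.Modules.Hom.app_smul]
  rfl

theorem mu_rs {U W : X.Opens} (h : W ≤ U) (a b : Γ(L, U)) :
    (X.presheaf.map (homOfLE h).op).hom (mu L m U a b) = mu L m W (rs L h a) (rs L h b) := by
  unfold mu
  rw [← tmul_rs, app_rs]
  rfl


variable {L m}

theorem exists_coord {V : X.Opens} {ℓ : Γ(L, V)} (hℓ : IsGen L V ℓ) {W : X.Opens} (hW : W ≤ V)
    (a : Γ(L, W)) : ∃ α : Γ(X, W), α • rs L hW ℓ = a := (hℓ W hW).2 a

theorem mu_symm (hL : PicF.IsInvertible L) (U : X.Opens) (a b : Γ(L, U)) :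
    mu L m U a b = mu L m U b a := by
  have : toSec U (mu L m U a b) = toSec U (mu L m U b a) := by
    refine sec_ext (Coh.structureModule X) _ _ (fun x hx => ?_)
    obtain ⟨V, hxV, ℓ, hℓ⟩ := (isInvertible_iff_exists_isGen L).mp hL x
    refine ⟨U ⊓ V, inf_le_left, ⟨hx, hxV⟩, ?_⟩
    rw [toSec_rs, toSec_rs]
    congr 1
    change (X.presheaf.map (homOfLE _).op).hom _ = (X.presheaf.map (homOfLE _).op).hom _
    rw [mu_rs, mu_rs]
    obtain ⟨α, hα⟩ := exists_coord hℓ (inf_le_right : U ⊓ V ≤ V) (rs L inf_le_left a)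
    obtain ⟨β, hβ⟩ := exists_coord hℓ (inf_le_right : U ⊓ V ≤ V) (rs L inf_le_left b)
    rw [← hα, ← hβ]
    simp only [mu_smul_left, mu_smul_right]
    ring
  exact this

theorem mu_assoc (hL : PicF.IsInvertible L) (U : X.Opens) (a b c : Γ(L, U)) :
    mu L m U a b • c = mu L m U b c • a := by
  refine sec_ext L _ _ (fun x hx => ?_)
  obtain ⟨V, hxV, ℓ, hℓ⟩ := (isInvertible_iff_exists_isGen L).mp hL x
  refine ⟨U ⊓ V, inf_le_left, ⟨hx, hxV⟩, ?_⟩
  rw [rs_smul', rs_smul']
  change (X.presheaf.map (homOfLE _).op).hom _ • _ = (X.presheaf.map (homOfLE _).op).hom _ • _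
  rw [mu_rs, mu_rs]
  obtain ⟨α, hα⟩ := exists_coord hℓ (inf_le_right : U ⊓ V ≤ V) (rs L inf_le_left a)
  obtain ⟨β, hβ⟩ := exists_coord hℓ (inf_le_right : U ⊓ V ≤ V) (rs L inf_le_left b)
  obtain ⟨γ, hγ⟩ := exists_coord hℓ (inf_le_right : U ⊓ V ≤ V) (rs L inf_le_left c)
  rw [← hα, ← hβ, ← hγ]
  simp only [mu_smul_left, mu_smul_right, ← mul_smul]
  congr 1
  ring

/-- the data for the ring structure over `U`. -/
noncomputable def data (hL : PicF.IsInvertible L) (U : X.Opens) : DA1.DblData Γ(X, U) Γ(L, U) where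
  μ := mu L m U
  add_left := mu_add_left L m U
  smul_left := mu_smul_left L m U
  symm := mu_symm hL U
  assoc := mu_assoc hL U

end DA2

namespace DA3
set_option linter.style.haveILetI false
open CategoryTheory CategoryTheory.Limits AlgebraicGeometry TopologicalSpace Opposite
open Groth.Agent.Lib.NormBasisH3 Groth.Agent.Lib.H78TensorGen
open Groth.Agent.Lib.H78SecCoord Groth.Agent.Lib.H90Invertible Groth.Agent.Lib.StructureModule

variable {X : Scheme.{u}} {L : X.Modules} (m : CohB1.tensorMod L L ⟶ Coh.structureModule X)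
  (hL : PicF.IsInvertible L)

/-- the ring of sections over `U`. -/
abbrev DU (U : X.Opens) : Type u := DA1.Dbl (DA2.data (m := m) hL U)

/-- restriction of functions. -/
noncomputable def rX {U V : X.Opens} (h : V ≤ U) : Γ(X, U) →+* Γ(X, V) :=
  (X.presheaf.map (homOfLE h).op).hom

theorem rX_rX {U V W : X.Opens} (h : V ≤ U) (h' : W ≤ V) (s : Γ(X, U)) :
    rX h' (rX h s) = rX (h'.trans h) s := by
  unfold rX
  rw [← CommRingCat.comp_apply, ← Functor.map_comp]
  rfl

theorem rX_self {U : X.Opens} (s : Γ(X, U)) : rX (le_refl U) s = s := by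
  unfold rX
  have : (homOfLE (le_refl U)).op = 𝟙 (op U) := rfl
  rw [this, X.presheaf.map_id]
  rfl

/-- restriction of sections of the algebra. -/
noncomputable def resHom {U V : X.Opens} (h : V ≤ U) : DU m hL U →+* DU m hL V :=
  DA1.Dbl.map (rX h) (L.presheaf.map (homOfLE h).op).hom
    (fun r l => rs_smul' L h r l) (fun a b => (DA2.mu_rs L m h a b).symm)

theorem fst_resHom {U V : X.Opens} (h : V ≤ U) (z : DU m hL U) :
    DA1.Dbl.fst _ (resHom m hL h z) = rX h (DA1.Dbl.fst _ z) := rfl

theorem snd_resHom {U V : X.Opens} (h : V ≤ U) (z : DU m hL U) :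
    DA1.Dbl.snd _ (resHom m hL h z) = rs L h (DA1.Dbl.snd _ z) := rfl

/-- the presheaf of rings `O ⊕ L`. -/
noncomputable def pre : TopCat.Presheaf CommRingCat.{u} X.carrier where
  obj U := CommRingCat.of (DU m hL U.unop)
  map {U V} i := CommRingCat.ofHom (resHom m hL i.unop.le)
  map_id U := by
    refine CommRingCat.hom_ext (RingHom.ext fun z => ?_)
    refine DA1.Dbl.ext (d := DA2.data (m := m) hL U.unop) ?_ ?_
    · exact rX_self _
    · exact rs_self L _
  map_comp {U V W} i j := by
    refine CommRingCat.hom_ext (RingHom.ext fun z => ?_)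
    refine DA1.Dbl.ext (d := DA2.data (m := m) hL W.unop) ?_ ?_
    · exact (rX_rX _ _ _).symm
    · exact (rs_rs L _ _ _).symm

end DA3

namespace DA4
set_option linter.style.haveILetI false
open CategoryTheory CategoryTheory.Limits AlgebraicGeometry TopologicalSpace Opposite
open Groth.Agent.Lib.NormBasisH3 Groth.Agent.Lib.H78TensorGen
open Groth.Agent.Lib.H78SecCoord Groth.Agent.Lib.H90Invertible Groth.Agent.Lib.StructureModule
open DA3

variable {X : Scheme.{u}} {L : X.Modules} (m : CohB1.tensorMod L L ⟶ Coh.structureModule X)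
  (hL : PicF.IsInvertible L)

/-- first component. -/
noncomputable def f1 {U : X.Opens} (z : DU m hL U) : Γ(X, U) := DA1.Dbl.fst (DA2.data (m := m) hL U) z
/-- second component. -/
noncomputable def f2 {U : X.Opens} (z : DU m hL U) : Γ(L, U) := DA1.Dbl.snd (DA2.data (m := m) hL U) z
/-- constructor. -/
noncomputable def mkD {U : X.Opens} (s : Γ(X, U)) (l : Γ(L, U)) : DU m hL U := DA1.Dbl.mk (DA2.data (m := m) hL U) s l

theorem extD {U : X.Opens} {z w : DU m hL U} (h1 : f1 m hL z = f1 m hL w) (h2 : f2 m hL z = f2 m hL w) :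
    z = w := DA1.Dbl.ext h1 h2

theorem isSheaf_pre : (pre m hL).IsSheaf := by
  rw [TopCat.Presheaf.isSheaf_iff_isSheafUniqueGluing]
  intro ι U sf hsf
  let s : ∀ i, Γ(X, U i) := fun i => f1 m hL (sf i)
  let l : ∀ i, Γ(L, U i) := fun i => f2 m hL (sf i)
  have hs : TopCat.Presheaf.IsCompatible X.presheaf U s := by
    intro i j
    have := congrArg (f1 m hL) (hsf i j)
    exact this
  have hl : TopCat.Presheaf.IsCompatible L.presheaf U l := by
    intro i j
    have := congrArg (f2 m hL) (hsf i j)
    exact this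
  obtain ⟨S, hS, hSu⟩ := X.sheaf.existsUnique_gluing U s hs
  obtain ⟨Λ, hΛ, hΛu⟩ :=
    TopCat.Sheaf.existsUnique_gluing (⟨L.presheaf, L.isSheaf⟩ : TopCat.Sheaf Ab X) U l hl
  refine ⟨mkD m hL S Λ, ?_, ?_⟩
  · intro i
    refine extD m hL ?_ ?_
    · exact hS i
    · exact hΛ i
  · intro z hz
    refine extD m hL ?_ ?_
    · refine hSu (f1 m hL z) (fun i => ?_)
      have := congrArg (f1 m hL) (hz i)
      exact this
    · refine hΛu (f2 m hL z) (fun i => ?_)
      have := congrArg (f2 m hL) (hz i)
      exact this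

end DA4

namespace DA5
set_option linter.style.haveILetI false
open CategoryTheory CategoryTheory.Limits AlgebraicGeometry TopologicalSpace Opposite
open Groth.Agent.Lib.NormBasisH3 Groth.Agent.Lib.H78TensorGen
open Groth.Agent.Lib.H78SecCoord Groth.Agent.Lib.H90Invertible Groth.Agent.Lib.StructureModule
open DA3 DA4

variable {X : Scheme.{u}} {L : X.Modules} (m : CohB1.tensorMod L L ⟶ Coh.structureModule X)
  (hL : PicF.IsInvertible L)

/-- the structure map on sections. -/
noncomputable def inlD (U : X.Opens) : Γ(X, U) →+* DU m hL U := DA1.Dbl.inl (DA2.data (m := m) hL U)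

theorem f1_inlD (U : X.Opens) (s : Γ(X, U)) : f1 m hL (inlD m hL U s) = s := rfl
theorem f2_inlD (U : X.Opens) (s : Γ(X, U)) : f2 m hL (inlD m hL U s) = 0 := rfl
theorem f1_mkD {U : X.Opens} (s : Γ(X, U)) (l : Γ(L, U)) : f1 m hL (mkD m hL s l) = s := rfl
theorem f2_mkD {U : X.Opens} (s : Γ(X, U)) (l : Γ(L, U)) : f2 m hL (mkD m hL s l) = l := rfl
theorem f1_resHom {U V : X.Opens} (h : V ≤ U) (z : DU m hL U) :
    f1 m hL (resHom m hL h z) = rX h (f1 m hL z) := rfl
theorem f2_resHom {U V : X.Opens} (h : V ≤ U) (z : DU m hL U) :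
    f2 m hL (resHom m hL h z) = rs L h (f2 m hL z) := rfl

theorem resHom_inlD {U V : X.Opens} (h : V ≤ U) (s : Γ(X, U)) :
    resHom m hL h (inlD m hL U s) = inlD m hL V (rX h s) := by
  refine extD m hL rfl ?_
  rw [f2_resHom, f2_inlD, f2_inlD]
  exact map_zero (L.presheaf.map (homOfLE h).op).hom

theorem inlD_pow_mul {U : X.Opens} (s : Γ(X, U)) (n : ℕ) (z : DU m hL U) :
    inlD m hL U s ^ n * z = mkD m hL (s ^ n * f1 m hL z) (s ^ n • f2 m hL z) := by
  unfold inlD
  rw [DA1.Dbl.inl_pow, DA1.Dbl.inl_mul]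
  rfl

/-- the structure map. -/
noncomputable def str : X.presheaf ⟶ pre m hL where
  app U := CommRingCat.ofHom (inlD m hL U.unop)
  naturality {U V} i := by
    refine CommRingCat.hom_ext (RingHom.ext fun s => ?_)
    exact (resHom_inlD m hL i.unop.le s).symm


open Groth.Agent.Lib.QCohStalk Groth.Agent.Lib.AssPush in
theorem isQC_pre : RelSpec.IsQC (pre m hL) (str m hL) := by
  intro U hU r
  haveI : L.IsQuasicoherent := Groth.Agent.Lib.H90Invertible.isQuasicoherent_of_isFinLocFree
    (Groth.Agent.Lib.H90Invertible.isFinLocFree_of_isInvertible hL)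
  have hLL : IsLocalizingOn L U := isLocalizingOn_of_isQuasicoherent L hU
  have h : X.basicOpen r ≤ U := X.basicOpen_le r
  letI algX : Algebra Γ(X, U) Γ(X, X.basicOpen r) := (X.presheaf.map (homOfLE h).op).hom.toAlgebra
  haveI hloc : IsLocalization.Away r Γ(X, X.basicOpen r) := hU.isLocalization_basicOpen r
  letI algD : Algebra (DU m hL U) (DU m hL (X.basicOpen r)) := (resHom m hL h).toAlgebra
  change IsLocalization.Away (inlD m hL U r) (DU m hL (X.basicOpen r))
  have hamap : ∀ z : DU m hL U, algebraMap (DU m hL U) (DU m hL (X.basicOpen r)) z = resHom m hL h z :=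
    fun z => rfl
  have hamapX : ∀ s : Γ(X, U), algebraMap Γ(X, U) Γ(X, X.basicOpen r) s = rX h s := fun s => rfl
  refine IsLocalization.Away.mk _ ?_ ?_ ?_
  · rw [hamap, resHom_inlD]
    have : IsUnit (rX h r) := IsLocalization.Away.algebraMap_isUnit (S := Γ(X, X.basicOpen r)) r
    exact this.map (inlD m hL (X.basicOpen r))
  · intro z'
    obtain ⟨n1, a1, h1⟩ := IsLocalization.Away.surj (S := Γ(X, X.basicOpen r)) r (f1 m hL z')
    obtain ⟨n2, l2, h2⟩ := hLL.surj r (f2 m hL z')
    rw [hamapX, hamapX] at h1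
    refine ⟨n1 + n2, mkD m hL (r ^ n2 * a1) (r ^ n1 • l2), ?_⟩
    rw [hamap, hamap, resHom_inlD, mul_comm, inlD_pow_mul]
    refine extD m hL ?_ ?_
    · rw [f1_mkD, f1_resHom, f1_mkD, map_mul, ← h1, map_pow, pow_add]
      ring
    · rw [f2_mkD, f2_resHom, f2_mkD, rs_smul']
      change _ = (rX h (r ^ n1)) • res L h l2
      rw [← h2, map_pow, pow_add, mul_smul]
      rfl
  · intro a b hab
    rw [hamap, hamap] at hab
    have hab1 : rX h (f1 m hL a) = rX h (f1 m hL b) := congrArg (f1 m hL) hab
    have hab2 : rs L h (f2 m hL a) = rs L h (f2 m hL b) := congrArg (f2 m hL) hab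
    obtain ⟨n1, h1⟩ := IsLocalization.Away.exists_of_eq (S := Γ(X, X.basicOpen r)) r hab1
    have hab3 : res L h (f2 m hL a - f2 m hL b) = 0 := by
      change (L.presheaf.map (homOfLE h).op).hom (f2 m hL a - f2 m hL b) = 0
      rw [map_sub]
      exact sub_eq_zero.mpr hab2
    obtain ⟨n2, h2⟩ := hLL.inj r _ hab3
    rw [smul_sub, sub_eq_zero] at h2
    refine ⟨n1 + n2, ?_⟩
    rw [inlD_pow_mul, inlD_pow_mul]
    refine extD m hL ?_ ?_
    · rw [f1_mkD, f1_mkD, pow_add, mul_comm (r ^ n1), mul_assoc, mul_assoc, h1]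
    · rw [f2_mkD, f2_mkD, pow_add, mul_smul, mul_smul, h2]

end DA5

namespace DA6
set_option linter.style.haveILetI false
open CategoryTheory CategoryTheory.Limits AlgebraicGeometry TopologicalSpace Opposite
open Groth.Agent.Lib.NormBasisH3 Groth.Agent.Lib.H78TensorGen
open Groth.Agent.Lib.H78SecCoord Groth.Agent.Lib.H90Invertible Groth.Agent.Lib.StructureModule
open DA3 DA4 DA5

variable {X : Scheme.{u}} {L : X.Modules} (m : CohB1.tensorMod L L ⟶ Coh.structureModule X)
  (hL : PicF.IsInvertible L)

/-- the algebra `O ⊕ L`. -/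
noncomputable def alg : RelSpec.QCAlg X where
  presheaf := pre m hL
  isSheaf := isSheaf_pre m hL
  str := str m hL
  isQC := isQC_pre m hL

/-- the inclusion of `L` on sections. -/
noncomputable def inrD (U : X.Opens) : Γ(L, U) →+ DU m hL U where
  toFun l := mkD m hL 0 l
  map_zero' := rfl
  map_add' l l' := by
    refine extD m hL ?_ ?_
    · exact (add_zero (0 : Γ(X, U))).symm
    · rfl

theorem inlD_mul_inrD (U : X.Opens) (r : Γ(X, U)) (l : Γ(L, U)) :
    inlD m hL U r * inrD m hL U l = inrD m hL U (r • l) := by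
  have := inlD_pow_mul m hL r 1 (inrD m hL U l)
  rw [pow_one] at this
  rw [this]
  refine extD m hL ?_ ?_
  · change r ^ 1 * 0 = 0
    rw [mul_zero]
  · change r ^ 1 • l = r • l
    rw [pow_one]

/-- the inclusion `L ⟶ O ⊕ L`. -/
noncomputable def j : L ⟶ (alg m hL).toModule :=
  ⟨letI := (alg m hL).moduleSect
   PresheafOfModules.homMk
    { app := fun U => AddCommGrpCat.ofHom (inrD m hL U.unop)
      naturality := fun U V i => by
        ext l
        refine extD m hL ?_ ?_
        · exact (map_zero (rX i.unop.le)).symm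
        · rfl }
    (fun U r l => (inlD_mul_inrD m hL U.unop r l).symm)⟩


theorem isDblAlg : FinCov.IsDblAlg L m (alg m hL) (j m hL) := by
  refine ⟨fun U => ?_, fun U l l' => ?_⟩
  · have key : (fun p : Γ(X, U) × L.val.obj (op U) =>
        ((alg m hL).str.app (op U)).hom p.1 + FinCov.toSec (alg m hL) (((j m hL).val.app (op U)).hom p.2)) =
        fun p => mkD m hL p.1 p.2 := by
      funext p
      exact (DA1.Dbl.mk_eq (d := DA2.data (m := m) hL U) p.1 p.2).symm
    rw [key]
    refine Function.bijective_iff_has_inverse.2 ⟨fun z => (f1 m hL z, f2 m hL z), fun p => rfl, fun z => rfl⟩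
  · exact DA1.Dbl.mk_zero_mul_mk_zero (d := DA2.data (m := m) hL U) l l'

theorem main (L : X.Modules) (hL : PicF.IsInvertible L)
    (m : CohB1.tensorMod L L ⟶ Coh.structureModule X) :
    ∃ (A : RelSpec.QCAlg X) (j : L ⟶ A.toModule), FinCov.IsDblAlg L m A j :=
  ⟨alg m hL, j m hL, isDblAlg m hL⟩

end DA6

end Helpers

/-- Let X be a scheme, L an invertible O_X-module and m : L ⊗ L → O_X a homomorphism of O_X-modules.
Then there are a quasi-coherent O_X-algebra A and an O_X-linear map j : L → A presenting A as the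
algebra O_X ⊕ L with product (s, l)·(s', l') = (ss' + m(l ⊗ l'), sl' + s'l): over every open subset
U of X, every section of A is uniquely of the form s·1 + j(l) with s a function and l a section of
L, and j(l)·j(l') = m(l ⊗ l')·1. (The classification of double covers is stated for schemes on which
2 is invertible; this construction does not use that assumption, so it is not made here.) -/
theorem result {X : Scheme.{u}} (L : X.Modules) (hL : PicF.IsInvertible L)
    (m : CohB1.tensorMod L L ⟶ Coh.structureModule X) :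
    ∃ (A : RelSpec.QCAlg X) (j : L ⟶ A.toModule), FinCov.IsDblAlg L m A j := by
  exact DA6.main L hL m

end Groth.Agent.S19697
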