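import Groth.Statements.S19699
import Mathlib
import Groth.Agent.Lib.FinCovSplit93
import Groth.Agent.Lib.H4TensorPair
import Groth.Agent.S19695

set_option autoImplicit false
universe u
open CategoryTheory CategoryTheory.Limits AlgebraicGeometry Opposite
open FinCov

namespace Groth.Agent.S19699

section Helpers

namespace DB7
set_option linter.style.haveILetI false
open CategoryTheory CategoryTheory.Limits AlgebraicGeometry TopologicalSpace Opposite
open Groth.Agent.Lib.H4TensorPair

variable {X : Scheme.{u}} {L L' N : X.Modules}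

theorem hom_tmul (β : Pairing L L' N) (U : X.Opens) (a : L.val.obj (op U)) (b : L'.val.obj (op U)) :
    (β.hom.val.app (op U)).hom (SecTwist.tmul L L' U a b) = β.toFun U a b := by
  let P : X.PresheafOfModules := CohB1.tensorPre L L'
  have h1 : (adj X).homEquiv P N β.hom = β.preHom :=
    Equiv.apply_symm_apply _ _
  have h0 : (adj X).homEquiv P N β.hom =
      (adj X).unit.app P ≫ (Scheme.Modules.toPresheafOfModules X).map β.hom :=
    Adjunction.homEquiv_unit _ _ _ _
  rw [h0] at h1
  have h2 := congrArg (fun φ : P ⟶ (Scheme.Modules.toPresheafOfModules X).obj N => (φ.app (op U)).hom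
    ((show (CohB1.toPMod L).obj (op U) from a) ⊗ₜ (show (CohB1.toPMod L').obj (op U) from b))) h1
  exact h2

end DB7

namespace DB8

/-- Cayley–Hamilton for the regular representation in rank two. -/
theorem sq_eq_of_basis_two {R S : Type*} [CommRing R] [CommRing S] [Algebra R S]
    (b : Module.Basis (Fin 2) R S) (x : S) :
    x * x = algebraMap R S (Algebra.trace R S x) * x -
      algebraMap R S (Algebra.leftMulMatrix b x).det := by
  rcases subsingleton_or_nontrivial R with hR | hR
  · haveI := Module.subsingleton R S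
    exact Subsingleton.elim _ _
  have hinj := Algebra.leftMulMatrix_injective b
  apply hinj
  have hCH := Matrix.aeval_self_charpoly (Algebra.leftMulMatrix b x)
  rw [Matrix.charpoly_fin_two] at hCH
  simp only [map_sub, map_add, map_mul, map_pow, Polynomial.aeval_X, Polynomial.aeval_C] at hCH
  rw [map_sub, map_mul, map_mul, Algebra.trace_eq_matrix_trace b]
  have e1 : Algebra.leftMulMatrix b (algebraMap R S (Algebra.leftMulMatrix b x).trace) =
      algebraMap R (Matrix (Fin 2) (Fin 2) R) (Algebra.leftMulMatrix b x).trace :=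
    AlgHom.commutes _ _
  have e2 : Algebra.leftMulMatrix b (algebraMap R S (Algebra.leftMulMatrix b x).det) =
      algebraMap R (Matrix (Fin 2) (Fin 2) R) (Algebra.leftMulMatrix b x).det :=
    AlgHom.commutes _ _
  rw [e1, e2]
  rw [pow_two] at hCH
  rw [eq_sub_iff_add_eq, ← sub_eq_zero]
  rw [← hCH]
  abel

theorem mul_mem_of_trace_zero {R S : Type*} [CommRing R] [CommRing S] [Algebra R S]
    (b : Module.Basis (Fin 2) R S) (u : R) (hu : 2 * u = 1) (a a' : S)
    (ha : Algebra.trace R S a = 0) (ha' : Algebra.trace R S a' = 0) :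
    ∃ c : R, a * a' = algebraMap R S c := by
  have h1 := sq_eq_of_basis_two b a
  have h2 := sq_eq_of_basis_two b a'
  have h3 := sq_eq_of_basis_two b (a + a')
  rw [ha, map_zero, zero_mul, zero_sub] at h1
  rw [ha', map_zero, zero_mul, zero_sub] at h2
  rw [map_add, ha, ha', add_zero, map_zero, zero_mul, zero_sub] at h3
  set c1 := (Algebra.leftMulMatrix b a).det
  set c2 := (Algebra.leftMulMatrix b a').det
  set c3 := (Algebra.leftMulMatrix b (a + a')).det
  refine ⟨u * (c1 + c2 - c3), ?_⟩
  have h4 : 2 * (a * a') = (a + a') * (a + a') - a * a - a' * a' := by ring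
  rw [h1, h2, h3] at h4
  have h5 : a * a' = algebraMap R S u * (2 * (a * a')) := by
    have : algebraMap R S u * 2 = 1 := by
      rw [← map_ofNat (algebraMap R S) 2, ← map_mul, mul_comm, hu, map_one]
    rw [← mul_assoc, this, one_mul]
  rw [h5, h4, map_mul, map_sub, map_add]
  ring

end DB8

namespace DB9
set_option linter.style.haveILetI false
open CategoryTheory CategoryTheory.Limits AlgebraicGeometry TopologicalSpace Opposite
open Groth.Agent.Lib.NormBasisH3 Groth.Agent.Lib.H78TensorGen
open Groth.Agent.Lib.H78SecCoord Groth.Agent.Lib.H90Invertible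
open Groth.Agent.Lib.FreeModSch Groth.Agent.Lib.H4TensorPair
open Groth.Agent.Lib.FinCovTrace93

variable {X : Scheme.{u}} (A : RelSpec.QCAlg X)

/-- product of sections of `A.toModule`. -/
noncomputable def mulA (U : X.Opens) (x y : Γ(A.toModule, U)) : Γ(A.toModule, U) :=
  Groth.Agent.Lib.H90QCAlg.toSec A U
    (Groth.Agent.Lib.H90QCAlg.ofSec A U x * Groth.Agent.Lib.H90QCAlg.ofSec A U y)

theorem mulA_add_left (U : X.Opens) (x x' y : Γ(A.toModule, U)) :
    mulA A U (x + x') y = mulA A U x y + mulA A U x' y :=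
  add_mul (Groth.Agent.Lib.H90QCAlg.ofSec A U x) (Groth.Agent.Lib.H90QCAlg.ofSec A U x')
    (Groth.Agent.Lib.H90QCAlg.ofSec A U y)

theorem mulA_add_right (U : X.Opens) (x y y' : Γ(A.toModule, U)) :
    mulA A U x (y + y') = mulA A U x y + mulA A U x y' :=
  mul_add (Groth.Agent.Lib.H90QCAlg.ofSec A U x) (Groth.Agent.Lib.H90QCAlg.ofSec A U y)
    (Groth.Agent.Lib.H90QCAlg.ofSec A U y')

theorem mulA_smul_left (U : X.Opens) (r : Γ(X, U)) (x y : Γ(A.toModule, U)) :
    mulA A U (r • x) y = r • mulA A U x y :=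
  mul_assoc ((A.str.app (op U)).hom r) (Groth.Agent.Lib.H90QCAlg.ofSec A U x)
    (Groth.Agent.Lib.H90QCAlg.ofSec A U y)

theorem mulA_smul_right (U : X.Opens) (r : Γ(X, U)) (x y : Γ(A.toModule, U)) :
    mulA A U x (r • y) = r • mulA A U x y :=
  mul_left_comm (Groth.Agent.Lib.H90QCAlg.ofSec A U x) ((A.str.app (op U)).hom r)
    (Groth.Agent.Lib.H90QCAlg.ofSec A U y)

theorem mulA_rs {U V : X.Opens} (h : V ≤ U) (x y : Γ(A.toModule, U)) :
    rs A.toModule h (mulA A U x y) = mulA A V (rs A.toModule h x) (rs A.toModule h y) :=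
  map_mul (A.presheaf.map (homOfLE h).op).hom (Groth.Agent.Lib.H90QCAlg.ofSec A U x)
    (Groth.Agent.Lib.H90QCAlg.ofSec A U y)

variable (τ : A.toModule ⟶ Coh.structureModule X) (u : Γ(X, ⊤))

/-- restriction of the global function `u`. -/
noncomputable def uRes (U : X.Opens) : Γ(X, U) := (X.presheaf.map (homOfLE (le_top : U ≤ ⊤)).op).hom u

theorem uRes_res {U V : X.Opens} (h : V ≤ U) :
    (X.presheaf.map (homOfLE h).op).hom (uRes u U) = uRes u V := by
  unfold uRes
  rw [← CommRingCat.comp_apply, ← Functor.map_comp]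
  rfl

/-- the pairing `(l, l') ↦ u · τ(l l')` on the kernel of `τ`. -/
noncomputable def pair : Pairing (kernel τ) (kernel τ) (Coh.structureModule X) where
  toFun U l l' := uRes u U • τ.app U (mulA A U ((kernel.ι τ).app U l) ((kernel.ι τ).app U l'))
  add_left U a a' b := by
    rw [map_add, mulA_add_left, map_add, smul_add]
  add_right U a b b' := by
    rw [map_add, mulA_add_right, map_add, smul_add]
  smul_left U r a b := by
    rw [Scheme.Modules.Hom.app_smul, mulA_smul_left, Scheme.Modules.Hom.app_smul, smul_comm]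
  smul_right U r a b := by
    rw [Scheme.Modules.Hom.app_smul, mulA_smul_right, Scheme.Modules.Hom.app_smul, smul_comm]
  map {U V} h a b := by
    change rs (Coh.structureModule X) h _ = _
    rw [rs_smul', uRes_res, ← app_rs, mulA_rs, ← app_rs, ← app_rs]


variable {A τ u}

theorem two_mul_uRes (hu : (2 : Γ(X, ⊤)) * u = 1) (U : X.Opens) : (2 : Γ(X, U)) * uRes u U = 1 := by
  unfold uRes
  have := congrArg (X.presheaf.map (homOfLE (le_top : U ≤ ⊤)).op).hom hu
  rwa [map_mul, map_ofNat, map_one] at this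

theorem app_ι_trace (W : X.Opens) (n : Γ(kernel τ, W)) : τ.app W ((kernel.ι τ).app W n) = 0 := by
  have := congrArg (fun φ : kernel τ ⟶ Coh.structureModule X => φ.app W n) (kernel.condition τ)
  exact this

theorem small_key (hτ : FinCov.IsTrace A τ) (hu : (2 : Γ(X, ⊤)) * u = 1) {W : X.Opens}
    (hW : Groth.Agent.S19695.FC2.SmallAffRank A 2 W) (l l' : Γ(kernel τ, W)) :
    mulA A W ((kernel.ι τ).app W l) ((kernel.ι τ).app W l') =
      Groth.Agent.Lib.H90QCAlg.toSec A W
        ((A.str.app (op W)).hom (ofS X W ((pair A τ u).toFun W l l'))) := by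
  obtain ⟨hWaff, V, e, he, hWV⟩ := hW
  have h1 := app_eq_traceHom_of_isTrace A τ hτ (W := W) ⟨hWaff, V, 2, e, he, hWV⟩
  letI := alg A W
  set b := basisOf A he hWV
  set a : A.presheaf.obj (op W) := Groth.Agent.Lib.H90QCAlg.ofSec A W ((kernel.ι τ).app W l) with ha
  set a' : A.presheaf.obj (op W) := Groth.Agent.Lib.H90QCAlg.ofSec A W ((kernel.ι τ).app W l') with ha'
  have hta : Algebra.trace Γ(X, W) (A.presheaf.obj (op W)) a = 0 := by
    have := app_ι_trace (τ := τ) W l
    rw [h1] at this
    exact this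
  have hta' : Algebra.trace Γ(X, W) (A.presheaf.obj (op W)) a' = 0 := by
    have := app_ι_trace (τ := τ) W l'
    rw [h1] at this
    exact this
  obtain ⟨c, hc⟩ := DB8.mul_mem_of_trace_zero b (uRes u W) (two_mul_uRes hu W) a a' hta hta'
  have hp : ofS X W ((pair A τ u).toFun W l l') =
      uRes u W * Algebra.trace Γ(X, W) (A.presheaf.obj (op W)) (a * a') := by
    change ofS X W (uRes u W • τ.app W (Groth.Agent.Lib.H90QCAlg.toSec A W (a * a'))) = _
    rw [h1]
    rfl
  change Groth.Agent.Lib.H90QCAlg.toSec A W (a * a') = _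
  rw [hp, hc, Algebra.trace_algebraMap_of_basis b, Fintype.card_fin]
  congr 1
  change algebraMap Γ(X, W) (A.presheaf.obj (op W)) c =
    algebraMap Γ(X, W) (A.presheaf.obj (op W)) (uRes u W * (2 • c))
  congr 1
  rw [nsmul_eq_mul, ← mul_assoc, mul_comm (uRes u W), Nat.cast_ofNat, two_mul_uRes hu, one_mul]


theorem key (hA : FlatMod.IsFinLocFreeOfRank 2 A.toModule) (hτ : FinCov.IsTrace A τ)
    (hu : (2 : Γ(X, ⊤)) * u = 1) (U : X.Opens) (l l' : Γ(kernel τ, U)) :
    mulA A U ((kernel.ι τ).app U l) ((kernel.ι τ).app U l') =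
      Groth.Agent.Lib.H90QCAlg.toSec A U
        ((A.str.app (op U)).hom (ofS X U ((pair A τ u).toFun U l l'))) := by
  refine sec_ext A.toModule _ _ (fun x hx => ?_)
  obtain ⟨W', ⟨⟨W, hW⟩, rfl⟩, hxW, hWU⟩ :=
    (Opens.isBasis_iff_nbhd.mp (Groth.Agent.S19695.FC2.isBasis_smallAffRank A hA)) hx
  refine ⟨W, hWU, hxW, ?_⟩
  rw [mulA_rs, ← app_rs, ← app_rs, small_key hτ hu hW]
  have hm := (pair A τ u).map hWU l l'
  change _ = Groth.Agent.Lib.H90QCAlg.toSec A W ((A.presheaf.map (homOfLE hWU).op).hom
    ((A.str.app (op U)).hom (ofS X U ((pair A τ u).toFun U l l'))))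
  rw [← Groth.Agent.Lib.H90QCAlg.str_res]
  congr 2
  exact hm.symm

/-- the splitting of the trace when the rank is invertible. -/
theorem exists_splitting (d : ℕ) (hA : FlatMod.IsFinLocFreeOfRank d A.toModule)
    (hτ : FinCov.IsTrace A τ) (hd : IsUnit ((d : Γ(X, ⊤)))) :
    ∃ (σ : Coh.structureModule X ⟶ A.toModule) (ρ : A.toModule ⟶ kernel τ),
      σ ≫ τ = 𝟙 _ ∧ kernel.ι τ ≫ ρ = 𝟙 _ ∧ σ ≫ ρ = 0 ∧ τ ≫ σ + ρ ≫ kernel.ι τ = 𝟙 _ := by
  obtain ⟨v, hv⟩ := hd.exists_right_inv
  have hstr := Groth.Agent.S19695.result A d hA τ hτ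
  let σ : Coh.structureModule X ⟶ A.toModule :=
    ofSection A.toModule (Groth.Agent.Lib.H90QCAlg.toSec A ⊤ ((A.str.app (op ⊤)).hom v))
  have hστ : σ ≫ τ = 𝟙 _ := by
    apply unit_hom_ext
    rw [toSection_comp, toSection_ofSection]
    have h1 := congrArg (fun φ : Coh.structureModule X ⟶ Coh.structureModule X =>
      φ.app ⊤ (Groth.Agent.Lib.StructureModule.toSec ⊤ v)) hstr
    change τ.app ⊤ (Groth.Agent.Lib.H90QCAlg.toSec A ⊤ ((A.str.app (op ⊤)).hom v)) =
      (d • 𝟙 (Coh.structureModule X) : Coh.structureModule X ⟶ Coh.structureModule X).app ⊤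
        (Groth.Agent.Lib.StructureModule.toSec ⊤ v) at h1
    rw [h1, Groth.Agent.S19695.FC2.nsmul_app]
    change d • v = _
    rw [nsmul_eq_mul, hv]
    rfl
  have hz : (𝟙 A.toModule - τ ≫ σ) ≫ τ = 0 := by
    rw [Preadditive.sub_comp, Category.id_comp, Category.assoc, hστ, Category.comp_id, sub_self]
  let ρ : A.toModule ⟶ kernel τ := kernel.lift τ (𝟙 A.toModule - τ ≫ σ) hz
  have hρι : ρ ≫ kernel.ι τ = 𝟙 A.toModule - τ ≫ σ := kernel.lift_ι _ _ _
  have hιρ : kernel.ι τ ≫ ρ = 𝟙 _ := by
    rw [← cancel_mono (kernel.ι τ), Category.assoc, hρι, Preadditive.comp_sub, Category.comp_id,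
      kernel.condition_assoc, zero_comp, sub_zero, Category.id_comp]
  have hσρ : σ ≫ ρ = 0 := by
    rw [← cancel_mono (kernel.ι τ), Category.assoc, hρι, Preadditive.comp_sub, Category.comp_id,
      ← Category.assoc, hστ, Category.id_comp, sub_self, zero_comp]
  have h5 : τ ≫ σ + ρ ≫ kernel.ι τ = 𝟙 _ := by
    rw [hρι]; abel
  exact ⟨σ, ρ, hστ, hιρ, hσρ, h5⟩


theorem main (A : RelSpec.QCAlg X) (hA : FlatMod.IsFinLocFreeOfRank 2 A.toModule)
    (τ : A.toModule ⟶ Coh.structureModule X) (hτ : FinCov.IsTrace A τ) (h2 : IsUnit (2 : Γ(X, ⊤))) :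
    ∃ m : CohB1.tensorMod (kernel τ) (kernel τ) ⟶ Coh.structureModule X,
      FinCov.IsDblAlg (kernel τ) m A (kernel.ι τ) := by
  obtain ⟨u, hu⟩ := h2.exists_right_inv
  have h2' : IsUnit (((2 : ℕ) : Γ(X, ⊤))) := by
    rw [Nat.cast_ofNat]; exact h2
  obtain ⟨σ, ρ, hστ, hιρ, hσρ, h5⟩ := exists_splitting (τ := τ) 2 hA hτ h2'
  have hstr := Groth.Agent.S19695.result A 2 hA τ hτ
  refine ⟨(pair A τ u).hom, ?_, ?_⟩
  · intro U
    have hstrU : ∀ s : Γ(X, U), τ.app U (Groth.Agent.Lib.H90QCAlg.toSec A U ((A.str.app (op U)).hom s)) =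
        Groth.Agent.Lib.StructureModule.toSec U ((2 : Γ(X, U)) * s) := by
      intro s
      have := congrArg (fun φ : Coh.structureModule X ⟶ Coh.structureModule X =>
        φ.app U (Groth.Agent.Lib.StructureModule.toSec U s)) hstr
      refine this.trans ?_
      change ((2 • 𝟙 (Coh.structureModule X) : Coh.structureModule X ⟶ Coh.structureModule X).app U)
        (Groth.Agent.Lib.StructureModule.toSec U s) = _
      rw [Groth.Agent.S19695.FC2.nsmul_app]
      change (2 : ℕ) • s = _
      rw [nsmul_eq_mul]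
      rfl
    have h2U : IsUnit (2 : Γ(X, U)) := by
      have := h2.map (X.presheaf.map (homOfLE (le_top : U ≤ ⊤)).op).hom
      rwa [map_ofNat] at this
    have e2 : ∀ n : Γ(kernel τ, U), ρ.app U ((kernel.ι τ).app U n) = n := by
      intro n
      have := congrArg (fun φ : kernel τ ⟶ kernel τ => φ.app U n) hιρ
      exact this
    have e5 : ∀ a : Γ(A.toModule, U), σ.app U (τ.app U a) + (kernel.ι τ).app U (ρ.app U a) = a := by
      intro a
      have := congrArg (fun φ : A.toModule ⟶ A.toModule => φ.app U a) h5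
      exact this
    have key1 : Function.Bijective fun p : Γ(X, U) × Γ(kernel τ, U) =>
        Groth.Agent.Lib.H90QCAlg.toSec A U ((A.str.app (op U)).hom p.1) + (kernel.ι τ).app U p.2 := by
      constructor
      · rintro ⟨s, l⟩ ⟨s', l'⟩ h
        have h' : Groth.Agent.Lib.H90QCAlg.toSec A U ((A.str.app (op U)).hom s) + (kernel.ι τ).app U l =
          Groth.Agent.Lib.H90QCAlg.toSec A U ((A.str.app (op U)).hom s') + (kernel.ι τ).app U l' := h
        have hτh := congrArg (τ.app U) h'
        rw [map_add, map_add, app_ι_trace, app_ι_trace, add_zero, add_zero, hstrU, hstrU] at hτh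
        have hs : s = s' := h2U.mul_left_cancel hτh
        subst hs
        have hl : (kernel.ι τ).app U l = (kernel.ι τ).app U l' := add_left_cancel h'
        have := congrArg (ρ.app U) hl
        rw [e2, e2] at this
        rw [this]
      · intro a
        set a' : Γ(A.toModule, U) := a - Groth.Agent.Lib.H90QCAlg.toSec A U
          ((A.str.app (op U)).hom (uRes u U * ofS X U (τ.app U a))) with ha'
        have hτa' : τ.app U a' = 0 := by
          rw [ha', map_sub, hstrU, ← mul_assoc, two_mul_uRes hu, one_mul]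
          exact sub_self _
        have h6 := e5 a'
        rw [hτa', map_zero, zero_add] at h6
        refine ⟨(uRes u U * ofS X U (τ.app U a), ρ.app U a'), ?_⟩
        change Groth.Agent.Lib.H90QCAlg.toSec A U
          ((A.str.app (op U)).hom (uRes u U * ofS X U (τ.app U a))) + (kernel.ι τ).app U (ρ.app U a') = a
        rw [h6, ha']
        abel
    exact key1
  · intro U l l'
    have h7 := DB7.hom_tmul (pair A τ u) U l l'
    have h8 := key hA hτ hu U l l'
    refine Eq.trans ?_ (congrArg (fun t => (A.str.app (op U)).hom t) h7.symm)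
    exact h8

end DB9

end Helpers

/-- Let X be a scheme with 2 invertible in O_X(X), A a quasi-coherent O_X-algebra which is locally free
of rank 2 as an O_X-module, and τ : A → O_X its trace (the O_X-linear map which over every affine
open where A is finite free is the trace of the regular representation). Then there is a
homomorphism of O_X-modules m : ker τ ⊗ ker τ → O_X such that A, with the inclusion ker τ → A, is
the algebra O_X ⊕ ker τ with product given by m: over every open subset, every section of A is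
uniquely s·1 + l with s a function and l a section of ker τ, and l·l' = m(l ⊗ l')·1 for sections l,
l' of ker τ. -/
theorem result {X : Scheme.{u}} (A : RelSpec.QCAlg X)
    (hA : FlatMod.IsFinLocFreeOfRank 2 A.toModule)
    (τ : A.toModule ⟶ Coh.structureModule X) (hτ : FinCov.IsTrace A τ) (h2 : IsUnit (2 : Γ(X, ⊤))) :
    ∃ m : CohB1.tensorMod (kernel τ) (kernel τ) ⟶ Coh.structureModule X,
      FinCov.IsDblAlg (kernel τ) m A (kernel.ι τ) := by
  exact DB9.main A hA τ hτ h2

end Groth.Agent.S19699
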