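import Groth.Statements.S19700
import Groth.Agent.Lib.FinCovDbl93
import Groth.Agent.S19695

set_option autoImplicit false
universe u
open CategoryTheory CategoryTheory.Limits AlgebraicGeometry Opposite
open FinCov

namespace Groth.Agent.S19700

/-- Let X be a scheme with 2 invertible in O_X(X), L an invertible O_X-module, m : L ⊗ L → O_X a
homomorphism of O_X-modules, (A, j : L → A) a quasi-coherent O_X-algebra presented as O_X ⊕ L with
product given by m (every section of A is uniquely s·1 + j(l), and j(l)·j(l') = m(l ⊗ l')·1), and τ
: A → O_X the trace of A (the O_X-linear map which over every affine open where A is finite free is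
the trace of the regular representation; A is locally free of rank 2 here). Then for every open
subset U of X and every section a of A over U, τ(a) = 0 if and only if a lies in the image of j over
U: the kernel of the trace is exactly j(L). -/
theorem result {X : Scheme.{u}} (L : X.Modules) (hL : PicF.IsInvertible L)
    (m : CohB1.tensorMod L L ⟶ Coh.structureModule X) (A : RelSpec.QCAlg X) (j : L ⟶ A.toModule)
    (h : FinCov.IsDblAlg L m A j) (h2 : IsUnit (2 : Γ(X, ⊤)))
    (τ : A.toModule ⟶ Coh.structureModule X) (hτ : FinCov.IsTrace A τ)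
    (U : X.Opens) (a : A.toModule.val.obj (op U)) :
    (τ.val.app (op U)).hom a = 0 ↔ a ∈ Set.range (j.val.app (op U)).hom := by
  have hA2 : FlatMod.IsFinLocFreeOfRank 2 A.toModule :=
    Groth.Agent.Lib.FinCovDbl93.isFinLocFreeOfRank_two L A j hL h.1
  have hjτ := Groth.Agent.Lib.FinCovDbl93.j_comp_trace L m A j hL h τ hτ
  have hjτU : ∀ l : L.val.obj (op U), (τ.val.app (op U)).hom ((j.val.app (op U)).hom l) = 0 := by
    intro l
    have := congrArg (fun φ : L ⟶ Coh.structureModule X => (φ.val.app (op U)).hom l) hjτ
    exact this
  have hstr := Groth.Agent.S19695.result A 2 hA2 τ hτ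
  have hstrU : ∀ s : Γ(X, U), (τ.val.app (op U)).hom ((A.str.app (op U)).hom s) = (2 : Γ(X, U)) * s := by
    intro s
    have := congrArg (fun φ : Coh.structureModule X ⟶ Coh.structureModule X =>
      (φ.val.app (op U)).hom s) hstr
    refine this.trans ?_
    change ((2 • 𝟙 (Coh.structureModule X) : Coh.structureModule X ⟶ Coh.structureModule X).app U) s = _
    rw [Groth.Agent.S19695.FC2.nsmul_app]
    change (2 : ℕ) • s = _
    rw [nsmul_eq_mul]
    rfl
  have h2U : IsUnit (2 : Γ(X, U)) := by
    have := h2.map (X.presheaf.map (homOfLE (le_top : U ≤ ⊤)).op).hom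
    rwa [map_ofNat] at this
  constructor
  · intro ha
    obtain ⟨⟨s, l⟩, hsl⟩ := (h.1 U).2 a
    have hsl' : (A.str.app (op U)).hom s + FinCov.toSec A ((j.val.app (op U)).hom l) = a := hsl
    have e1 : (τ.val.app (op U)).hom a =
        (τ.val.app (op U)).hom ((A.str.app (op U)).hom s) +
          (τ.val.app (op U)).hom ((j.val.app (op U)).hom l) := by
      rw [← hsl']
      exact map_add (τ.val.app (op U)).hom _ _
    rw [e1, hjτU, add_zero] at ha
    have e2 := (hstrU s).symm.trans ha
    have hs : s = 0 := by
      have := h2U.mul_right_eq_zero.mp e2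
      exact this
    refine ⟨l, ?_⟩
    rw [← hsl', hs, map_zero, zero_add]
  · rintro ⟨l, rfl⟩
    exact hjτU l

end Groth.Agent.S19700
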