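import Groth.Statements.S19702
import Groth.Agent.Lib.EffDescQAffH52

set_option autoImplicit false
universe u
open CategoryTheory MonoidalCategory CartesianMonoidalCategory MonObj GrpObj AlgebraicGeometry CategoryTheory.Limits
open AlgGrp

namespace Groth.Agent.S19702

open CategoryTheory CategoryTheory.Limits AlgebraicGeometry TensorProduct in
lemma bijective_algebraMap_iff {R S T P : Type u} [CommRing R] [CommRing S] [CommRing T] [CommRing P]
    [Algebra R S] [Algebra R T] [Algebra S P] [Algebra T P] [Algebra R P]
    [IsScalarTower R S P] [IsScalarTower R T P] [Algebra.IsPushout R T S P]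
    [Module.FaithfullyFlat R T] :
    Function.Bijective (algebraMap R S) ↔ Function.Bijective (algebraMap T P) := by
  have hbc : IsBaseChange T (IsScalarTower.toAlgHom R S P).toLinearMap :=
    Algebra.IsPushout.out
  let e : T ⊗[R] S ≃ₗ[T] P := hbc.equiv
  have key : ∀ t : T, algebraMap T P t =
      e ((Algebra.linearMap R S).lTensor T ((TensorProduct.rid R T).symm t)) := by
    intro t
    simp only [TensorProduct.rid_symm_apply, LinearMap.lTensor_tmul, Algebra.linearMap_apply,
      map_one, e, IsBaseChange.equiv_tmul, AlgHom.toLinearMap_apply, Algebra.smul_def]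
    exact (_root_.mul_one _).symm
  have h1 : Function.Bijective (algebraMap T P) ↔
      Function.Bijective ((Algebra.linearMap R S).lTensor T) := by
    have : (algebraMap T P : T → P) =
        e ∘ ((Algebra.linearMap R S).lTensor T) ∘ (TensorProduct.rid R T).symm := by
      funext t; exact key t
    rw [this]
    rw [Function.Bijective.of_comp_iff' e.bijective,
      Function.Bijective.of_comp_iff _ (TensorProduct.rid R T).symm.bijective]
  rw [h1, Module.FaithfullyFlat.lTensor_bijective_iff_bijective]
  rfl

open CategoryTheory CategoryTheory.Limits AlgebraicGeometry in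
lemma bijective_iff_of_isPushout {k K : Type u} [Field k] [Field K] [Algebra k K]
    {S P : CommRingCat.{u}} {f : CommRingCat.of k ⟶ S}
    {inl : S ⟶ P} {inr : CommRingCat.of K ⟶ P}
    (h : IsPushout f (CommRingCat.ofHom (algebraMap k K)) inl inr) :
    Function.Bijective f.hom ↔ Function.Bijective inr.hom := by
  algebraize [f.hom, inl.hom, inr.hom, inl.hom.comp f.hom]
  have : IsScalarTower k K P := .of_algebraMap_eq' <| congr($(h.1.1).hom)
  have : Algebra.IsPushout k S K P := CommRingCat.isPushout_iff_isPushout.mp h
  have : Algebra.IsPushout k K S P := Algebra.IsPushout.symm this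
  exact bijective_algebraMap_iff (R := k) (S := S) (T := K) (P := P)


/-- Let k be a field, K a field extension of k and G a k-group scheme of finite type. Then G is
anti-affine, i.e. O(G) = k, if and only if the base change G_K is anti-affine, i.e. O(G_K) = K. -/
theorem result (k : Type u) [Field k] (K : Type u) [Field K] [Algebra k K]
    (G : Over (Spec (CommRingCat.of k))) [GrpObj G] [LocallyOfFiniteType G.hom] [QuasiCompact G.hom] :
    Function.Bijective ((Scheme.ΓSpecIso (CommRingCat.of k)).inv ≫ G.hom.appTop).hom ↔
      Function.Bijective ((Scheme.ΓSpecIso (CommRingCat.of K)).inv ≫ (Red.bc (Spec.map (CommRingCat.ofHom (algebraMap k K))) G).hom.appTop).hom := by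
  classical
  let φ : CommRingCat.of k ⟶ CommRingCat.of K := CommRingCat.ofHom (algebraMap k K)
  let f : Spec (CommRingCat.of K) ⟶ Spec (CommRingCat.of k) := Spec.map φ
  have hpb : IsPullback (pullback.fst G.hom f) (pullback.snd G.hom f) G.hom f :=
    IsPullback.of_hasPullback _ _
  have : Flat f := by
    refine (HasRingHomProperty.Spec_iff (P := @Flat)).mpr ?_
    show (algebraMap k K).Flat
    rw [RingHom.flat_algebraMap_iff]
    infer_instance
  have : IsLocallyNoetherian G.left := LocallyOfFiniteType.isLocallyNoetherian G.hom
  have : CompactSpace G.left := QuasiCompact.compactSpace_of_compactSpace G.hom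
  have hpo := Groth.Agent.Lib.EffDescH52.isPushout_appTop_of_isPullback_of_flat hpb
  have hpo' : IsPushout ((Scheme.ΓSpecIso (CommRingCat.of k)).inv ≫ G.hom.appTop) φ
      (pullback.fst G.hom f).appTop
      ((Scheme.ΓSpecIso (CommRingCat.of K)).inv ≫ (pullback.snd G.hom f).appTop) := by
    refine hpo.of_iso (Scheme.ΓSpecIso (CommRingCat.of k)) (Iso.refl _)
      (Scheme.ΓSpecIso (CommRingCat.of K)) (Iso.refl _) ?_ ?_ ?_ ?_
    · simp
    · exact Scheme.ΓSpecIso_naturality φ
    · simp
    · simp
  exact Groth.Agent.S19702.bijective_iff_of_isPushout hpo'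

end Groth.Agent.S19702
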