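import Groth.Statements.S19708
-- import your own Groth.Agent.* helpers here

set_option autoImplicit false
universe u v w
open W4c5adicflatcompl
open CAlg

namespace Groth.Agent.S19708

/-- Let A be a commutative ring, I an ideal of A, M an I-adically complete A-module, Z a set and f : Z →
M a function. Then f is I-adically decaying (for every n, all but finitely many values f(z) lie in
I^n M) if and only if the family (f(z))_{z ∈ Z} has an I-adic sum in M, i.e. there is an element m
of M such that for every n some finite subset S of Z has f(z) ∈ I^n M for all z outside S and m −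
Σ_{z ∈ S} f(z) ∈ I^n M. -/
theorem result {A : Type u} [CommRing A] (I : Ideal A) (Z : Type v)
    (M : Type w) [AddCommGroup M] [Module A M] [IsAdicComplete I M] (f : Z → M) :
    f ∈ decaying I Z M ↔ ∃ m : M, ∀ n : ℕ, ∃ S : Finset Z,
      (∀ z, z ∉ S → f z ∈ (I ^ n • ⊤ : Submodule A M)) ∧ m - (∑ z ∈ S, f z) ∈ (I ^ n • ⊤ : Submodule A M) := by
  classical
  constructor
  · intro hf
    rw [mem_decaying_iff] at hf
    let a : ℕ → M := fun n => ∑ z ∈ (hf n).toFinset, f z
    have hmono : ∀ {m n : ℕ}, m ≤ n → (hf m).toFinset ⊆ (hf n).toFinset := by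
      intro m n hmn z hz
      rw [Set.Finite.mem_toFinset] at hz ⊢
      intro h
      exact hz (Submodule.smul_mono (Ideal.pow_le_pow_right hmn) le_rfl h)
    have hcauchy : ∀ {m n : ℕ}, m ≤ n → a m ≡ a n [SMOD (I ^ m • ⊤ : Submodule A M)] := by
      intro m n hmn
      rw [SModEq.sub_mem, ← Submodule.neg_mem_iff, neg_sub]
      simp only [a]
      rw [← Finset.sum_sdiff (hmono hmn), add_sub_cancel_right]
      apply Submodule.sum_mem
      intro z hz
      rw [Finset.mem_sdiff, Set.Finite.mem_toFinset, Set.Finite.mem_toFinset] at hz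
      by_contra hcon
      exact hz.2 hcon
    obtain ⟨L, hL⟩ := IsPrecomplete.prec (I := I) (M := M) inferInstance hcauchy
    refine ⟨L, fun n => ⟨(hf n).toFinset, fun z hz => ?_, ?_⟩⟩
    · rw [Set.Finite.mem_toFinset] at hz
      by_contra hcon
      exact hz hcon
    · have := SModEq.sub_mem.1 (hL n)
      rw [← Submodule.neg_mem_iff, neg_sub]
      exact this
  · rintro ⟨m, hm⟩
    rw [mem_decaying_iff]
    intro n
    obtain ⟨S, hS, -⟩ := hm n
    refine S.finite_toSet.subset ?_
    intro z hz
    by_contra hzS
    exact hz (hS z hzS)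

end Groth.Agent.S19708
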