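import Groth.Statements.S1971
import Groth.Agent.Lib.HenselRadical
import Mathlib.RingTheory.Spectrum.Prime.Topology

set_option autoImplicit false
universe u
open EtAlg

namespace Groth.Agent.S1971

open Groth.Agent.Lib.HenselRadical

theorem map_radical_eq {A : Type u} [CommRing A] {I J : Ideal A} (h : I.radical = J.radical)
    {C : Type u} [CommRing C] (f : A →+* C) : (I.map f).radical = (J.map f).radical := by
  have key : ∀ {I J : Ideal A}, I.radical = J.radical → (I.map f).radical ≤ (J.map f).radical := by
    intro I J h
    rw [Ideal.radical_le_radical_iff]
    calc I.map f ≤ I.radical.map f := Ideal.map_mono Ideal.le_radical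
      _ = J.radical.map f := by rw [h]
      _ ≤ (J.map f).radical := Ideal.map_radical_le f
  exact le_antisymm (key h) (key h.symm)

theorem one_direction (A : Type u) [CommRing A] (I J : Ideal A) (h : I.radical = J.radical)
    (B : Type u) [CommRing B] [Algebra A B] (hI : Hens2.IsPairHenselization A I B) :
    Hens2.IsPairHenselization A J B := by
  obtain ⟨h1, h2⟩ := hI
  refine ⟨(henselianRing_iff_of_radical_eq (map_radical_eq h (algebraMap A B))).mp h1, ?_⟩
  intro C _ J' f hC hle
  have hC' : HenselianRing C J'.radical := henselianRing_radical_of hC
  refine h2 C J'.radical f hC' ?_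
  calc I.map f ≤ (I.map f).radical := Ideal.le_radical
    _ = (J.map f).radical := map_radical_eq h f
    _ ≤ J'.radical := Ideal.radical_mono hle

/-- Let A be a ring with ideals I and J having the same zero locus in Spec A. Then an A-algebra is a
henselization of the pair (A, I) if and only if it is a henselization of the pair (A, J). -/
theorem result (A : Type u) [CommRing A] (I J : Ideal A)
    (h : PrimeSpectrum.zeroLocus (I : Set A) = PrimeSpectrum.zeroLocus (J : Set A)) (B : Type u) [CommRing B] [Algebra A B] :
    Hens2.IsPairHenselization A I B ↔ Hens2.IsPairHenselization A J B := by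
  have hr : I.radical = J.radical := PrimeSpectrum.zeroLocus_eq_iff.mp h
  exact ⟨one_direction A I J hr B, one_direction A J I hr.symm B⟩

end Groth.Agent.S1971
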