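import Groth.Statements.S19710
import Groth.Agent.Lib.H40FunFldCusp
open Groth.Agent.Lib.H40FunFld

set_option autoImplicit false
open FunFld

namespace Groth.Agent.S19710

/-- Let `k` be an algebraically closed field of characteristic zero. A `g^r_d` on a function field `K/k`
of one variable is a divisor `D` of degree `d` with a subspace `V ⊆ L(D)` of dimension `r + 1`;
`V(-nP) = V ∩ L(D - nP)`, and the `i`-th vanishing order `m_i(V, P)` (`m_0 < ⋯ < m_r`) equals `m`
exactly when `dim V(-mP) = r + 1 - i` and `dim V(-(m+1)P) = r - i`. Let `K_Y` have genus `0` and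
carry a `g^r_d` `(D_Y, V_Y)` with at least a cusp at a place `Q_Y` (`dim V_Y(-2Q_Y) ≥ r`); let
`(D_Z, V_Z)` be a `g^r_d` on a second function field `K_Z`, compatible with `(D_Y, V_Y)` at a node
formed by a place `P ≠ Q_Y` of `K_Y` and a place `Q` of `K_Z` (`dim V_Y(-nP) + dim V_Z(-(d+1-n)Q) =
r + 1` for `0 ≤ n ≤ d + 1`), and let `P'` be a place of `K_Y` different from `P` and from `Q_Y`.
Then `m_i(V_Y, P') < m_i(V_Z, Q)` for all but at most one index: the set of `i ≤ r` for which the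
`i`-th vanishing order of `V_Y` at `P'` equals the `i`-th vanishing order of `V_Z` at `Q` has at
most one element. (In the source `Q_Y` is the point where the rational component `Y` meets a chain
of curves ending in a curve of positive genus, which forces the cusp condition assumed here; the
source works over the complex numbers.) -/
theorem result
    (k : Type*) [Field k] [IsAlgClosed k] [CharZero k]
    (KY : Type*) [Field KY] [Algebra k KY] (hKY : FunFld.IsFunctionField k KY) (hg0 : FunFld.genus k KY = 0)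
    (KZ : Type*) [Field KZ] [Algebra k KZ] (hKZ : FunFld.IsFunctionField k KZ)
    (d r : ℕ) (DY : FunFld.Divisor k KY) (hDY : DY.deg = d) (DZ : FunFld.Divisor k KZ) (hDZ : DZ.deg = d)
    (VY : Submodule k KY) (hVY : VY ≤ FunFld.L DY) (hVYr : Module.finrank k ↥VY = r + 1)
    (VZ : Submodule k KZ) (hVZ : VZ ≤ FunFld.L DZ) (hVZr : Module.finrank k ↥VZ = r + 1)
    (QY : FunFld.Place k KY) (hcusp : r ≤ Module.finrank k ↥(VY ⊓ FunFld.L (DY - Finsupp.single QY ((2 : ℤ)))))
    (P : FunFld.Place k KY) (hP : P ≠ QY) (Q : FunFld.Place k KZ)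
    (hcomp : ∀ n : ℕ, n ≤ d + 1 →
      Module.finrank k ↥(VY ⊓ FunFld.L (DY - Finsupp.single P ((n : ℤ)))) + Module.finrank k ↥(VZ ⊓ FunFld.L (DZ - Finsupp.single Q ((d : ℤ) + 1 - n))) = r + 1)
    (P' : FunFld.Place k KY) (hP'P : P' ≠ P) (hP'Q : P' ≠ QY) :
    {i : ℕ | i ≤ r ∧ ∃ m : ℕ,
        Module.finrank k ↥(VY ⊓ FunFld.L (DY - Finsupp.single P' ((m : ℤ)))) = r + 1 - i ∧
        Module.finrank k ↥(VY ⊓ FunFld.L (DY - Finsupp.single P' ((m : ℤ) + 1))) = r - i ∧
        Module.finrank k ↥(VZ ⊓ FunFld.L (DZ - Finsupp.single Q ((m : ℤ)))) = r + 1 - i ∧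
        Module.finrank k ↥(VZ ⊓ FunFld.L (DZ - Finsupp.single Q ((m : ℤ) + 1))) = r - i}.Subsingleton := by
  have hfin : FiniteDimensional k ↥VY := Module.finite_of_finrank_pos (by omega)
  -- each index in the set yields a section with prescribed divisor
  have key : ∀ i : ℕ, i ≤ r → ∀ m : ℕ,
      Module.finrank k ↥(VY ⊓ FunFld.L (DY - Finsupp.single P' ((m : ℤ)))) = r + 1 - i →
      Module.finrank k ↥(VZ ⊓ FunFld.L (DZ - Finsupp.single Q ((m : ℤ)))) = r + 1 - i →
      Module.finrank k ↥(VZ ⊓ FunFld.L (DZ - Finsupp.single Q ((m : ℤ) + 1))) = r - i →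
      m ≤ d ∧ ∃ s ∈ VY, s ≠ 0 ∧ FunFld.div k s + DY =
        Finsupp.single P' (m : ℤ) + Finsupp.single P ((d - m : ℕ) : ℤ) := by
    intro i hi m h1 h3 h4
    have hmd : m ≤ d := by
      by_contra hcon
      push Not at hcon
      have hbot : FunFld.L (DZ - Finsupp.single Q ((m : ℤ))) = ⊥ := by
        apply L_eq_bot_of_deg_neg hKZ
        rw [deg_sub, deg_single, deg_eq_one_of_isAlgClosed hKZ Q, hDZ]
        push_cast
        omega
      rw [hbot, inf_bot_eq, finrank_bot] at h3
      omega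
    refine ⟨hmd, ?_⟩
    have hc := hcomp (d - m) (by omega)
    have e : (d : ℤ) + 1 - ((d - m : ℕ) : ℤ) = (m : ℤ) + 1 := by omega
    rw [e, h4] at hc
    apply exists_section_of_vdim hKY hDY VY hP'P hmd
    unfold vdim
    rw [hVYr, h1]
    omega
  rintro i ⟨hi, m, h1, h2, h3, h4⟩ i' ⟨hi', m', h1', h2', h3', h4'⟩
  obtain ⟨hmd, s, hsV, hs0, hs⟩ := key i hi m h1 h3 h4
  obtain ⟨hmd', s', hsV', hs0', hs'⟩ := key i' hi' m' h1' h3' h4'
  have hmm : (m : ℤ) = m' := eq_of_sections_of_cusp hKY hg0 hDY hVY hVYr hP'P hP'Q hP hcusp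
    hsV hsV' hs0 hs0' hs hs'
  have hmm' : m = m' := by exact_mod_cast hmm
  subst hmm'
  rw [h1] at h1'
  omega

end Groth.Agent.S19710
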