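import Groth.Statements.S19711
import Mathlib.RingTheory.Flat.EquationalCriterion
import Mathlib.Algebra.Module.LocalizedModule.Int
import Mathlib.RingTheory.Ideal.Operations
import Mathlib.RingTheory.Spectrum.Prime.FreeLocus
import Mathlib.RingTheory.Flat.Stability
import Mathlib.RingTheory.Flat.Localization
import Mathlib.Topology.Irreducible

set_option autoImplicit false
universe u
open CategoryTheory
open Coh

namespace Groth.Agent.S19711

theorem key {A : Type*} [CommRing A] {P : Type*} [AddCommGroup P] [Module A P]
    (N : Submodule A P) (S : Submonoid A) (I : Ideal A)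
    [Module.Flat A (LocalizedModule S (P ⧸ N))] (x : P) (hxN : x ∈ N)
    (hxI : x ∈ I • (⊤ : Submodule A P)) : ∃ s ∈ S, s • x ∈ I • N := by
  classical
  have hx' : x ∈ I • Submodule.span A (Set.range (id : P → P)) := by simpa using hxI
  obtain ⟨a, haI, hax⟩ := (Submodule.mem_ideal_smul_span_iff_exists_sum I id x).1 hx'
  have hsum : ∑ m : ↥a.support, a m.1 • (m.1 : P) = x := by
    rw [← hax, Finsupp.sum, ← Finset.sum_coe_sort a.support (fun m => a m • id m)]
    rfl
  let f := LocalizedModule.mkLinearMap S (P ⧸ N)
  have hrel : ∑ m : ↥a.support, a m.1 • f (N.mkQ m.1) = 0 := by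
    simp_rw [← map_smul]
    rw [← map_sum, ← map_sum, hsum]
    have : N.mkQ x = 0 := by simpa using hxN
    rw [this, map_zero]
  obtain ⟨k, b, y, hy, hb⟩ := Module.Flat.isTrivialRelation_of_sum_smul_eq_zero hrel
  simp only at hy hb
  obtain ⟨b₀, hb₀⟩ := IsLocalizedModule.exist_integer_multiples_of_finite S f y
  choose q hq using hb₀
  choose p hp using fun j => N.mkQ_surjective (q j)
  have h1 : ∀ m : ↥a.support,
      ∃ c : S, (c : A) • ((b₀ : A) • (m.1 : P) - ∑ j, b m j • p j) ∈ N := by
    intro m
    have h2 : f (N.mkQ ((b₀ : A) • (m.1 : P) - ∑ j, b m j • p j)) = 0 := by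
      rw [map_sub, map_sub, map_smul, map_smul, hy m, map_sum, map_sum, Finset.smul_sum,
        sub_eq_zero]
      apply Finset.sum_congr rfl
      intro j _
      rw [map_smul, map_smul, hp, hq, smul_comm]
    obtain ⟨c, hc⟩ := (IsLocalizedModule.eq_zero_iff S f).1 h2
    refine ⟨c, ?_⟩
    rw [← Submodule.Quotient.mk_eq_zero, ← hc]
    rfl
  choose c hc using h1
  refine ⟨(∏ m, (c m : A)) * b₀, S.mul_mem (prod_mem fun m _ => (c m).2) b₀.2, ?_⟩
  have hD : ∀ m : ↥a.support,
      (∏ m', (c m' : A)) = (∏ m' ∈ Finset.univ.erase m, (c m' : A)) * c m := by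
    intro m
    rw [mul_comm]
    exact (Finset.mul_prod_erase Finset.univ (fun m' => (c m' : A)) (Finset.mem_univ m)).symm
  have hsplit : ((∏ m, (c m : A)) * b₀) • x =
      ∑ m : ↥a.support, a m.1 • ((∏ m' ∈ Finset.univ.erase m, (c m' : A)) •
        ((c m : A) • ((b₀ : A) • (m.1 : P) - ∑ j, b m j • p j))) +
      (∏ m, (c m : A)) • ∑ j, (∑ m : ↥a.support, a m.1 * b m j) • p j := by
    have h3 : (∏ m, (c m : A)) • ∑ j, (∑ m : ↥a.support, a m.1 * b m j) • p j =
        ∑ m : ↥a.support, a m.1 • ((∏ m', (c m' : A)) • ∑ j, b m j • p j) := by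
      simp_rw [Finset.sum_smul, Finset.smul_sum]
      rw [Finset.sum_comm]
      apply Finset.sum_congr rfl
      intro m _
      apply Finset.sum_congr rfl
      intro j _
      simp only [smul_smul]
      ring_nf
    rw [h3, ← Finset.sum_add_distrib, ← hsum, Finset.smul_sum]
    apply Finset.sum_congr rfl
    intro m _
    rw [← smul_add, smul_comm]
    congr 1
    rw [smul_smul, ← hD m, smul_sub, sub_add_cancel, smul_smul]
  rw [hsplit]
  have h0 : ∀ j, (∑ m : ↥a.support, a m.1 * b m j) = 0 := hb
  simp_rw [h0, zero_smul]
  rw [Finset.sum_const_zero, smul_zero, add_zero]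
  apply Submodule.sum_mem
  intro m _
  exact Submodule.smul_mem_smul (haI m.1) (N.smul_mem _ (hc m))


/-- Let A be a Noetherian integral domain and F an A-linear additive functor from A-modules to A-modules
with F(A) a finitely generated A-module. Call such a functor generically injective when there is a
dense open subset U of Spec A such that for every point u of U whose residue field κ(u) is a
finitely generated A-algebra the comparison map F(A) ⊗_A κ(u) → F(κ(u)) is injective; since F is
A-linear this injectivity says: every m in F(A) whose image under F(A → κ(u)) vanishes satisfies s·m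
∈ u·F(A) for some s outside u. If F is generically injective then so is every A-linear additive
subfunctor K ⊆ F (a natural transformation K → F with injective components). (The published
statement is over a reduced Noetherian affine scheme, for additive functors on quasi-coherent
sheaves with values in abelian groups and the induced A-action, assumes F weakly bounded (F(A/p)
finitely generated for every prime ideal p) and also records that K is again weakly bounded; only
the finite generation of F(A), which its argument uses, is assumed here, and the integral case with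
A-linear functors stated here is the one its argument by generic flatness treats.) -/
theorem result {A : Type u} [CommRing A] [IsNoetherianRing A] [IsDomain A]
    (F K : ModuleCat.{u} A ⥤ ModuleCat.{u} A) [F.Additive] [F.Linear A] [K.Additive] [K.Linear A]
    (ι : K ⟶ F) (hι : ∀ X : ModuleCat.{u} A, Function.Injective (ι.app X).hom)
    (hfin : Module.Finite A (F.obj (ModuleCat.of A A)))
    (hGI : ∃ U : Set (PrimeSpectrum A), IsOpen U ∧ Dense U ∧ ∀ u ∈ U, Algebra.FiniteType A u.asIdeal.ResidueField →
        ∀ m : F.obj (ModuleCat.of A A),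
          (F.map (ModuleCat.ofHom (Algebra.linearMap A u.asIdeal.ResidueField))).hom m = 0 →
            ∃ s ∉ u.asIdeal, s • m ∈ u.asIdeal • (⊤ : Submodule A (F.obj (ModuleCat.of A A)))) :
    ∃ U : Set (PrimeSpectrum A), IsOpen U ∧ Dense U ∧ ∀ u ∈ U, Algebra.FiniteType A u.asIdeal.ResidueField →
        ∀ m : K.obj (ModuleCat.of A A),
          (K.map (ModuleCat.ofHom (Algebra.linearMap A u.asIdeal.ResidueField))).hom m = 0 →
            ∃ s ∉ u.asIdeal, s • m ∈ u.asIdeal • (⊤ : Submodule A (K.obj (ModuleCat.of A A))) := by
  classical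
  obtain ⟨U, hUo, hUd, hU⟩ := hGI
  haveI : Module.Finite A (F.obj (ModuleCat.of A A)) := hfin
  let N : Submodule A (F.obj (ModuleCat.of A A)) :=
    LinearMap.range (ι.app (ModuleCat.of A A)).hom
  haveI : Module.FinitePresentation A (F.obj (ModuleCat.of A A) ⧸ N) :=
    Module.finitePresentation_of_finite A _
  refine ⟨U ∩ Module.freeLocus A (F.obj (ModuleCat.of A A) ⧸ N),
    hUo.inter Module.isOpen_freeLocus, ?_, ?_⟩
  · apply hUd.inter_of_isOpen_right ?_ Module.isOpen_freeLocus
    apply Module.isOpen_freeLocus.dense
    refine ⟨⟨⊥, Ideal.isPrime_bot⟩, ?_⟩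
    rw [Module.mem_freeLocus]
    have hfield : IsField (Localization.AtPrime (⊥ : Ideal A)) := by
      rw [IsLocalRing.isField_iff_maximalIdeal_eq, ← Localization.AtPrime.map_eq_maximalIdeal,
        Ideal.map_bot]
    letI := hfield.toField
    exact Module.Free.of_divisionRing _ _
  · rintro u ⟨huU, hufree⟩ hft m hm
    have hnat : (F.map (ModuleCat.ofHom (Algebra.linearMap A u.asIdeal.ResidueField))).hom
        ((ι.app (ModuleCat.of A A)).hom m) = 0 := by
      have h1 := congrArg (fun t => t.hom m)
        (ι.naturality (ModuleCat.ofHom (Algebra.linearMap A u.asIdeal.ResidueField)))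
      simp only [ModuleCat.hom_comp, LinearMap.coe_comp, Function.comp_apply] at h1
      rw [← h1, hm, map_zero]
    obtain ⟨s, hs, hsm⟩ := hU u huU hft _ hnat
    haveI : Module.Free (Localization.AtPrime u.asIdeal)
        (LocalizedModule u.asIdeal.primeCompl (F.obj (ModuleCat.of A A) ⧸ N)) := hufree
    haveI : Module.Flat A
        (LocalizedModule u.asIdeal.primeCompl (F.obj (ModuleCat.of A A) ⧸ N)) :=
      Module.Flat.trans A (Localization.AtPrime u.asIdeal) _
    obtain ⟨s', hs', hs'x⟩ := key N u.asIdeal.primeCompl u.asIdeal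
      (s • (ι.app (ModuleCat.of A A)).hom m) ⟨s • m, map_smul _ _ _⟩ hsm
    refine ⟨s' * s, fun h => (u.isPrime.mem_or_mem h).elim hs' hs, ?_⟩
    have hmap : u.asIdeal • N = Submodule.map (ι.app (ModuleCat.of A A)).hom
        (u.asIdeal • (⊤ : Submodule A (K.obj (ModuleCat.of A A)))) := by
      rw [Submodule.map_smul'', Submodule.map_top]
    rw [hmap] at hs'x
    obtain ⟨z, hz, hzx⟩ := hs'x
    have hzz : z = (s' * s) • m := hι (ModuleCat.of A A) (by rw [hzx, map_smul, mul_smul])
    rw [← hzz]
    exact hz

end Groth.Agent.S19711
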