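import Groth.Statements.S1973
import Mathlib

set_option autoImplicit false
universe u
open EtAlg

namespace Groth.Agent.S1973

open IsLocalRing

/-- Noetherian local ring with principal maximal ideal generated by a nonzerodivisor is a domain. -/
theorem isDomain_of_maximalIdeal_span {R : Type*} [CommRing R] [IsNoetherianRing R] [IsLocalRing R]
    (t : R) (ht : maximalIdeal R = Ideal.span {t}) (hreg : t ∈ nonZeroDivisors R) : IsDomain R := by
  have key : ∀ x : R, x ≠ 0 → ∃ (u : R) (n : ℕ), IsUnit u ∧ x = u * t ^ n := by
    intro x hx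
    have hinf := Ideal.iInf_pow_eq_bot_of_isLocalRing (maximalIdeal R) Ideal.IsPrime.ne_top'
    have hex : ∃ n, x ∉ maximalIdeal R ^ n := by
      by_contra hcon
      push Not at hcon
      have : x ∈ (⨅ i, maximalIdeal R ^ i) := by
        simp only [Ideal.mem_iInf]; exact hcon
      rw [hinf] at this
      exact hx (by simpa using this)
    classical
    let n := Nat.find hex
    have hn : x ∉ maximalIdeal R ^ n := Nat.find_spec hex
    have hn0 : n ≠ 0 := by
      intro h0
      rw [h0, pow_zero, Ideal.one_eq_top] at hn
      exact hn (Submodule.mem_top)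
    obtain ⟨k, hk⟩ := Nat.exists_eq_succ_of_ne_zero hn0
    have hk' : x ∈ maximalIdeal R ^ k := by
      by_contra hcon
      have := Nat.find_min' hex hcon
      omega
    rw [ht, Ideal.span_singleton_pow, Ideal.mem_span_singleton] at hk'
    obtain ⟨u, hu⟩ := hk'
    refine ⟨u, k, ?_, by rw [hu, mul_comm]⟩
    by_contra hnu
    have hum : u ∈ maximalIdeal R := (mem_maximalIdeal u).mpr hnu
    rw [ht, Ideal.mem_span_singleton] at hum
    obtain ⟨v, hv⟩ := hum
    apply hn
    rw [hk, ht, Ideal.span_singleton_pow, Ideal.mem_span_singleton]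
    exact ⟨v, by rw [hu, hv, pow_succ]; ring⟩
  have : NoZeroDivisors R := by
    constructor
    intro x y hxy
    by_contra hcon
    push Not at hcon
    obtain ⟨u, n, hu, rfl⟩ := key x hcon.1
    obtain ⟨v, k, hv, rfl⟩ := key y hcon.2
    have h1 : (u * v) * t ^ (n + k) = 0 := by rw [← hxy, pow_add]; ring
    have h2 : t ^ (n + k) = 0 := by
      have := (hu.mul hv).mul_right_eq_zero.mp h1
      exact this
    have h3 : t ^ (n + k) ∈ nonZeroDivisors R := pow_mem hreg _
    have h4 : (1 : R) = 0 := by
      have := (mem_nonZeroDivisors_iff.mp h3).2 1 (by rw [one_mul]; exact h2)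
      exact this
    exact one_ne_zero h4
  exact NoZeroDivisors.to_isDomain R

/-- Lemma U -/
theorem exists_maximalIdeal_eq_span {A C : Type*} [CommRing A] [IsDedekindDomain A] [CommRing C]
    [Algebra A C] [Algebra.EssFiniteType A C] [Algebra.FormallyUnramified A C]
    (Q : Ideal C) [Q.IsPrime] :
    ∃ a : A, maximalIdeal (Localization.AtPrime Q) =
      Ideal.span {algebraMap A (Localization.AtPrime Q) a} ∧
      (a = 0 ∨ (a ≠ 0 ∧ a ∈ Q.under A)) := by
  let p := Q.under A
  have hpp : p.IsPrime := inferInstance
  have hlo : Q.LiesOver p := inferInstance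
  let _ := Localization.AtPrime.algebraOfLiesOver p Q
  have hfu : Algebra.FormallyUnramified C (Localization.AtPrime Q) :=
    Algebra.FormallyUnramified.of_isLocalization Q.primeCompl
  have hur : Algebra.IsUnramifiedAt A Q :=
    Algebra.FormallyUnramified.comp A C (Localization.AtPrime Q)
  have hmap : p.map (algebraMap A (Localization.AtPrime Q)) = maximalIdeal _ :=
    ((Algebra.isUnramifiedAt_iff_map_eq A p Q).mp hur).2
  by_cases hp : p = ⊥
  · refine ⟨0, ?_, Or.inl rfl⟩
    rw [← hmap, hp, Ideal.map_bot, map_zero]
    simp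
  · have hdvr : IsDiscreteValuationRing (Localization.AtPrime p) :=
      IsLocalization.AtPrime.isDiscreteValuationRing_of_dedekind_domain A hp _
    obtain ⟨ϖ, hϖ⟩ := (IsPrincipalIdealRing.principal (maximalIdeal (Localization.AtPrime p))).principal
    obtain ⟨⟨a, s⟩, has⟩ := IsLocalization.surj p.primeCompl ϖ
    have hsu : IsUnit (algebraMap A (Localization.AtPrime p) s) :=
      IsLocalization.map_units _ s
    have hspan : maximalIdeal (Localization.AtPrime p) =
        Ideal.span {algebraMap A (Localization.AtPrime p) a} := by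
      rw [hϖ, ← has]
      simp only
      rw [Ideal.submodule_span_eq, Ideal.span_singleton_mul_right_unit hsu]
    have ha0 : a ≠ 0 := by
      rintro rfl
      rw [map_zero] at hspan
      have : maximalIdeal (Localization.AtPrime p) = ⊥ := by rw [hspan]; simp
      exact IsDiscreteValuationRing.not_a_field _ this
    have hap : a ∈ p := by
      have : algebraMap A (Localization.AtPrime p) a ∈ maximalIdeal (Localization.AtPrime p) := by
        rw [hspan]; exact Ideal.mem_span_singleton_self _
      exact (IsLocalization.AtPrime.to_map_mem_maximal_iff (Localization.AtPrime p) p a).mp this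
    refine ⟨a, ?_, Or.inr ⟨ha0, hap⟩⟩
    rw [← hmap, IsScalarTower.algebraMap_eq A (Localization.AtPrime p) (Localization.AtPrime Q),
      ← Ideal.map_map, Localization.AtPrime.map_eq_maximalIdeal, hspan, Ideal.map_span,
      Set.image_singleton]
    rfl


theorem isDomain_localization {A C : Type*} [CommRing A] [IsDedekindDomain A] [CommRing C]
    [Algebra A C] [Algebra.EssFiniteType A C] [Algebra.FormallyUnramified A C]
    [IsNoetherianRing C] [Module.Flat A C]
    (Q : Ideal C) [Q.IsPrime] : IsDomain (Localization.AtPrime Q) := by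
  obtain ⟨a, ha, h0 | ⟨h0, -⟩⟩ := exists_maximalIdeal_eq_span (A := A) Q
  · rw [h0, map_zero] at ha
    have : maximalIdeal (Localization.AtPrime Q) = ⊥ := by rw [ha]; simp
    have hf : IsField (Localization.AtPrime Q) := isField_iff_maximalIdeal_eq.mpr this
    exact hf.isDomain
  · have hflat : Module.Flat A (Localization.AtPrime Q) :=
      Module.Flat.trans A C (Localization.AtPrime Q)
    refine isDomain_of_maximalIdeal_span _ ha ?_
    have hreg : IsSMulRegular (Localization.AtPrime Q) a :=
      Module.Flat.isSMulRegular_of_nonZeroDivisors (mem_nonZeroDivisors_of_ne_zero h0)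
    rw [mem_nonZeroDivisors_iff]
    have h1 : ∀ x : Localization.AtPrime Q,
        algebraMap A (Localization.AtPrime Q) a * x = 0 → x = 0 := by
      intro x hx
      apply hreg
      show a • x = a • (0 : Localization.AtPrime Q)
      rw [smul_zero, Algebra.smul_def]
      exact hx
    exact ⟨fun x hx => h1 x hx, fun x hx => h1 x (by rw [mul_comm]; exact hx)⟩

theorem isDVR_of_principal {R : Type*} [CommRing R] [IsNoetherianRing R] [IsLocalRing R] [IsDomain R]
    (h : ¬ IsField R) (hp : (maximalIdeal R).IsPrincipal) : IsDiscreteValuationRing R :=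
  ((IsDiscreteValuationRing.TFAE R h).out 4 0).mp hp


theorem dedekind_quotient {A B : Type*} [CommRing A] [IsDedekindDomain A] [CommRing B]
    [Algebra A B] [Algebra.FiniteType A B] [Algebra.FormallyUnramified A B]
    (P : Ideal B) [P.IsPrime] : IsDedekindDomain (B ⧸ P) := by
  have hN : IsNoetherianRing B := Algebra.FiniteType.isNoetherianRing A B
  have hd : IsDedekindDomainDvr (B ⧸ P) :=
    { toIsNoetherian := (inferInstance : IsNoetherianRing (B ⧸ P))
      is_dvr_at_nonzero_prime := by
        intro Q hQ hQp
        obtain ⟨a, ha, -⟩ := exists_maximalIdeal_eq_span (A := A) Q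
        exact isDVR_of_principal (IsLocalization.AtPrime.not_isField _ hQ _) ⟨⟨_, ha⟩⟩ }
  exact hd.isDedekindDomain

theorem eq_ker_of_mem_minimalPrimes {B : Type*} [CommRing B] (m : Ideal B) [m.IsPrime]
    [IsDomain (Localization.AtPrime m)] {P : Ideal B} (hP : P ∈ minimalPrimes B) (hPm : P ≤ m) :
    P = RingHom.ker (algebraMap B (Localization.AtPrime m)) := by
  have hPp : P.IsPrime := hP.1.1
  have hK : (RingHom.ker (algebraMap B (Localization.AtPrime m))).IsPrime := RingHom.ker_isPrime _
  have hKP : RingHom.ker (algebraMap B (Localization.AtPrime m)) ≤ P := by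
    intro x hx
    rw [RingHom.mem_ker, IsLocalization.map_eq_zero_iff m.primeCompl] at hx
    obtain ⟨s, hs⟩ := hx
    have : (s : B) * x ∈ P := by rw [hs]; exact P.zero_mem
    rcases hPp.mem_or_mem this with h | h
    · exact absurd (hPm h) s.2
    · exact h
  exact le_antisymm (hP.2 ⟨hK, bot_le⟩ hKP) hKP

theorem exists_pi_dedekind (A B : Type u) [CommRing A] [IsDedekindDomain A] [CommRing B]
    [Algebra A B] [Algebra.FiniteType A B] [Algebra.FormallyUnramified A B] [Module.Flat A B] :
    ∃ (n : ℕ) (D : Fin n → Type u) (_ : ∀ i, CommRing (D i)) (_ : ∀ i, IsDedekindDomain (D i)),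
      Nonempty (B ≃+* ∀ i, D i) := by
  have hN : IsNoetherianRing B := Algebra.FiniteType.isNoetherianRing A B
  have hfin : (minimalPrimes B).Finite := minimalPrimes.finite_of_isNoetherianRing B
  have hdom : ∀ (Q : Ideal B) [Q.IsPrime], IsDomain (Localization.AtPrime Q) :=
    fun Q _ => isDomain_localization (A := A) Q
  have hred : IsReduced B := by
    apply isReduced_ofLocalizationMaximal
    intro J hJ
    have := hdom J
    infer_instance
  have := hfin.to_subtype
  obtain ⟨n, ⟨e⟩⟩ := Finite.exists_equiv_fin (minimalPrimes B)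
  let f : Fin n → Ideal B := fun i => (e.symm i).1
  have hfp : ∀ i, (f i).IsPrime := fun i => (e.symm i).2.1.1
  have hcop : Pairwise (Function.onFun IsCoprime f) := by
    intro i j hij
    show IsCoprime (f i) (f j)
    rw [Ideal.isCoprime_iff_sup_eq]
    by_contra hne
    obtain ⟨m, hm, hle⟩ := Ideal.exists_le_maximal _ hne
    have := hdom m
    have h1 := eq_ker_of_mem_minimalPrimes m (e.symm i).2 (le_trans le_sup_left hle)
    have h2 := eq_ker_of_mem_minimalPrimes m (e.symm j).2 (le_trans le_sup_right hle)
    have h3 : e.symm i = e.symm j := Subtype.ext (h1.trans h2.symm)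
    exact hij (e.symm.injective h3)
  have hinf : (⨅ i, f i) = ⊥ := by
    have h1 : (⨅ i, f i) = ⨅ x : minimalPrimes B, (x : Ideal B) :=
      Equiv.iInf_comp (g := fun x : minimalPrimes B => (x : Ideal B)) e.symm
    rw [h1, ← sInf_eq_iInf']
    show sInf (⊥ : Ideal B).minimalPrimes = ⊥
    rw [Ideal.sInf_minimalPrimes]
    exact nilradical_eq_zero B
  refine ⟨n, fun i => B ⧸ f i, fun i => inferInstance,
    fun i => by have := hfp i; exact dedekind_quotient (A := A) (f i), ⟨?_⟩⟩
  exact ((RingEquiv.quotientBot B).symm.trans (Ideal.quotEquivOfEq hinf.symm)).trans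
    (Ideal.quotientInfRingEquivPiQuotient f hcop)


/-- Let A be a Dedekind domain and B an etale A-algebra. Then B is isomorphic as a ring to a finite
product of Dedekind domains, and for every maximal ideal q of B whose localization is not a field,
the localization B_q is a discrete valuation ring. (The source states the last claim for all maximal
ideals; it fails for field factors, e.g. A a DVR with uniformizer π and B = A[1/π], so the guard is
needed.) -/
theorem result (A B : Type u) [CommRing A] [IsDedekindDomain A] [CommRing B] [Algebra A B]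
    [Algebra.Etale A B] :
    (∃ (n : ℕ) (D : Fin n → Type u) (_ : ∀ i, CommRing (D i)) (_ : ∀ i, IsDedekindDomain (D i)),
      Nonempty (B ≃+* ∀ i, D i)) ∧
    ∀ (q : Ideal B) [q.IsMaximal], ¬ IsField (Localization.AtPrime q) →
      ∃ _ : IsDomain (Localization.AtPrime q), IsDiscreteValuationRing (Localization.AtPrime q) := by
  have hsm : Algebra.Smooth A B := inferInstance
  have hflat : Module.Flat A B := Algebra.Smooth.flat A B
  have hft : Algebra.FiniteType A B := inferInstance
  have hfu : Algebra.FormallyUnramified A B := inferInstance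
  have hN : IsNoetherianRing B := Algebra.FiniteType.isNoetherianRing A B
  refine ⟨exists_pi_dedekind A B, ?_⟩
  intro q hq hnf
  have hd : IsDomain (Localization.AtPrime q) := isDomain_localization (A := A) q
  refine ⟨hd, ?_⟩
  obtain ⟨a, ha, -⟩ := exists_maximalIdeal_eq_span (A := A) q
  exact isDVR_of_principal hnf ⟨⟨_, ha⟩⟩

end Groth.Agent.S1973
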