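import Groth.Statements.S1974
import Groth.Agent.Lib.WeaklyEtaleFibre96
import Groth.Agent.Lib.HznWeaklyEtale96
-- import your own Groth.Agent.* helpers here

set_option autoImplicit false
universe u
open EtAlg

namespace Groth.Agent.S1974


open TensorProduct in
theorem aux (A B : Type u) [CommRing A] [CommRing B] [Algebra A B]
    [Algebra.WeaklyEtale A B] (p : Ideal A) [p.IsPrime] (q : Ideal B) [q.IsPrime] [q.LiesOver p]
    [Algebra (Localization.AtPrime p) (Localization.AtPrime q)] [Localization.AtPrime.IsLiesOverAlgebra p q] :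
    Algebra.IsSeparable p.ResidueField q.ResidueField := by
  let K := p.ResidueField
  let L := q.ResidueField
  let F := K ⊗[A] B
  have hvnr := Groth.Agent.Lib.WeaklyEtaleFibre96.vnr_of_weaklyEtale_field K F
  let ψ : F →ₐ[K] L :=
    Algebra.TensorProduct.productLeftAlgHom (Algebra.ofId K L) (IsScalarTower.toAlgHom A B L)
  have hψB : ∀ b : B, ψ ((1 : K) ⊗ₜ[A] b) = algebraMap B L b := by
    intro b
    show (Algebra.ofId K L) 1 * (IsScalarTower.toAlgHom A B L) b = _
    rw [map_one, one_mul]
    rfl
  have hsurj : Function.Surjective ψ := by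
    intro l
    obtain ⟨x, y, hy, rfl⟩ := IsFractionRing.div_surjective (A := B ⧸ q) l
    obtain ⟨b, rfl⟩ := Ideal.Quotient.mk_surjective x
    obtain ⟨s, rfl⟩ := Ideal.Quotient.mk_surjective y
    have hs0 : algebraMap B L s ≠ 0 := by
      have := map_ne_zero_of_mem_nonZeroDivisors (algebraMap (B ⧸ q) L)
        q.injective_algebraMap_quotient_residueField hy
      rwa [Ideal.algebraMap_quotient_residueField_mk] at this
    obtain ⟨c, hc⟩ := hvnr ((1 : K) ⊗ₜ[A] s)
    have hc' : algebraMap B L s * ψ c * algebraMap B L s = algebraMap B L s := by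
      rw [← hψB s, ← map_mul, ← map_mul, hc]
    have hinv : ψ c = (algebraMap B L s)⁻¹ := by
      have : algebraMap B L s * (ψ c * algebraMap B L s) = algebraMap B L s * 1 := by
        rw [← mul_assoc, hc', mul_one]
      exact eq_inv_of_mul_eq_one_left (mul_left_cancel₀ hs0 this)
    refine ⟨((1 : K) ⊗ₜ[A] b) * c, ?_⟩
    rw [map_mul, hψB, hinv, div_eq_mul_inv]
    rfl
  let e : (F ⧸ RingHom.ker ψ.toRingHom) ≃ₐ[K] L := Ideal.quotientKerAlgEquivOfSurjective hsurj
  haveI : Algebra.WeaklyEtale K (F ⧸ RingHom.ker ψ.toRingHom) :=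
    Groth.Agent.Lib.WeaklyEtaleFibre96.weaklyEtale_quotient K F _
  haveI : Algebra.WeaklyEtale K L := Groth.Agent.Lib.HznWeaklyEtale96.weaklyEtale_of_algEquiv e
  exact Groth.Agent.S0426.result


/-- Let A -> B be weakly etale and q a prime of B lying over the prime p of A. Then the residue field of
q is a separable algebraic extension of the residue field of p. -/
theorem result (A B : Type u) [CommRing A] [CommRing B] [Algebra A B]
    [Algebra.WeaklyEtale A B] (p : Ideal A) [p.IsPrime] (q : Ideal B) [q.IsPrime] [q.LiesOver p]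
    [Algebra (Localization.AtPrime p) (Localization.AtPrime q)] [Localization.AtPrime.IsLiesOverAlgebra p q] :
    Algebra.IsSeparable p.ResidueField q.ResidueField := by
  exact aux A B p q

end Groth.Agent.S1974
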