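import Groth.Statements.S19741
import Mathlib

set_option autoImplicit false
universe w u
open EssDim

namespace Groth.Agent.S19741
open CategoryTheory AlgebraicGeometry Opposite
set_option linter.style.haveILetI false
set_option linter.unusedSectionVars false
open Cardinal

theorem trdeg_compositum {k K F₀ F₁ : Type u} [Field k] [Field K] [Field F₀] [Field F₁]
    [Algebra k K] [Algebra k F₀] [Algebra K F₁] [Algebra k F₁] [IsScalarTower k K F₁]
    (i : F₀ →ₐ[k] F₁) (hgen : IntermediateField.adjoin K (Set.range i) = ⊤) :
    Algebra.trdeg K F₁ ≤ Algebra.trdeg k F₀ := by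
  obtain ⟨s₀, hs₀⟩ := exists_isTranscendenceBasis k F₀
  have hcard : #s₀ = Algebra.trdeg k F₀ := hs₀.cardinalMk_eq_trdeg
  set s : Set F₁ := i '' s₀ with hs
  set M : IntermediateField K F₁ := IntermediateField.adjoin K s with hM
  -- generation over M
  have hgenM : IntermediateField.adjoin M (Set.range i) = ⊤ := by
    apply IntermediateField.restrictScalars_injective K
    rw [IntermediateField.restrictScalars_adjoin, IntermediateField.restrictScalars_top]
    apply top_le_iff.mp
    rw [← hgen]
    exact IntermediateField.adjoin.mono K _ _ Set.subset_union_right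
  -- algebraicity of the generators
  have halg0 := hs₀.isAlgebraic
  rw [Subtype.range_coe] at halg0
  have hmem : ∀ y : Algebra.adjoin k s₀, i y ∈ M := by
    rintro ⟨y, hy⟩
    have h1 : i y ∈ (Algebra.adjoin k s₀).map i := ⟨y, hy, rfl⟩
    rw [AlgHom.map_adjoin] at h1
    have h2 : Algebra.adjoin k (i '' s₀) ≤ M.toSubalgebra.restrictScalars k :=
      Algebra.adjoin_le (fun x hx => IntermediateField.subset_adjoin K s hx)
    exact h2 h1
  let f : Algebra.adjoin k s₀ →+* M :=
    { toFun := fun y => ⟨i y, hmem y⟩
      map_one' := by ext; simp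
      map_mul' := fun a b => by ext; simp
      map_zero' := by ext; simp
      map_add' := fun a b => by ext; simp }
  have hf : Function.Injective f := by
    intro a b hab
    have : i a = i b := congrArg Subtype.val hab
    exact Subtype.ext (i.injective this)
  have halg : ∀ x ∈ Set.range i, IsAlgebraic M x := by
    rintro _ ⟨y, rfl⟩
    have hy : IsAlgebraic (Algebra.adjoin k s₀) y := halg0.isAlgebraic y
    exact hy.ringHom_of_comp_eq f (i : F₀ →+* F₁) hf (by ext; rfl)
  have h1 : Algebra.IsAlgebraic M (IntermediateField.adjoin M (Set.range i)) :=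
    (IntermediateField.isAlgebraic_adjoin_iff_isAlgebraic M F₁).mpr halg
  rw [hgenM] at h1
  have h2 : Algebra.IsAlgebraic M F₁ :=
    (IntermediateField.topEquiv (F := M) (E := F₁)).isAlgebraic
  have h3 : Algebra.IsAlgebraic (Algebra.adjoin K s) F₁ :=
    IntermediateField.isAlgebraic_adjoin_iff_top.mp h2
  calc Algebra.trdeg K F₁ ≤ #s := Algebra.IsAlgebraic.trdeg_le_cardinalMk K s
    _ ≤ #s₀ := Cardinal.mk_image_le
    _ = _ := hcard



open CategoryTheory AlgebraicGeometry in
/-- For a field extension `K` of `k` and a presheaf of sets `P` on schemes over `k`, restrict `P` to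
schemes over `K` by viewing a scheme over `Spec K` as a scheme over `Spec k`; then the essential
dimension over `K` of the restricted presheaf is at most the essential dimension of `P` over `k`.
(The source states this for an algebraic stack over `k` and its base change to `K`, through the
presheaf of isomorphism classes of objects, whose restriction to schemes over `K` is the presheaf of
classes of the base-changed stack; the inequality is stated here for an arbitrary presheaf, which is
what the argument with composita of fields of definition gives.) -/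
theorem result (k : Type u) [Field k] (K : Type u) [Field K] [Algebra k K]
    (P : (Over (Spec (CommRingCat.of k)))ᵒᵖ ⥤ Type w) :
    EssDim.ed (k := K) ((Over.map (Spec.map (CommRingCat.ofHom (algebraMap k K)))).op ⋙ P) ≤ EssDim.ed P := by
  conv_lhs => unfold EssDim.ed
  refine iSup_le fun L => iSup_le fun instF => iSup_le fun instA => iSup_le fun ξ => ?_
  letI : Algebra k L := ((algebraMap K L).comp (algebraMap k K)).toAlgebra
  haveI : IsScalarTower k K L := IsScalarTower.of_algebraMap_eq (fun _ => rfl)
  let e : SGA7.pt (K := k) L ≅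
      (Over.map (Spec.map (CommRingCat.ofHom (algebraMap k K)))).obj (SGA7.pt (K := K) L) :=
    Over.isoMk (Iso.refl _) (by
      simp only [Iso.refl_hom, Category.id_comp, Over.map_obj_hom, Over.mk_hom]
      rw [← Spec.map_comp, ← CommRingCat.ofHom_comp])
  let ξ' : EssDim.FPt P L := P.map e.hom.op ξ
  have hξ : ξ = P.map e.inv.op ξ' := by
    show ξ = P.map e.inv.op (P.map e.hom.op ξ)
    rw [← FunctorToTypes.map_comp_apply, ← op_comp, e.inv_hom_id, op_id,
      FunctorToTypes.map_id_apply]
  refine le_trans ?_ (EssDim.edAt_le_ed ξ')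
  rw [WithBot.coe_le_coe]
  conv_rhs => unfold EssDim.edAt
  refine le_iInf fun F => ?_
  obtain ⟨F₀, ξ₀, hξ₀⟩ := F
  set F₁ : IntermediateField K L := IntermediateField.adjoin K (F₀ : Set L) with hF₁
  let i : F₀ →ₐ[k] F₁ :=
    { toFun := fun y => ⟨y.1, IntermediateField.subset_adjoin K _ y.2⟩
      map_one' := rfl
      map_mul' := fun _ _ => rfl
      map_zero' := rfl
      map_add' := fun _ _ => rfl
      commutes' := fun c => Subtype.ext rfl }
  have htr : Algebra.trdeg K F₁ ≤ Algebra.trdeg k F₀ := by
    apply trdeg_compositum i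
    apply IntermediateField.lift_injective
    rw [IntermediateField.lift_adjoin, IntermediateField.lift_top]
    congr 1
    ext x
    constructor
    · rintro ⟨_, ⟨y, rfl⟩, rfl⟩
      exact y.2
    · intro hx
      exact ⟨⟨x, IntermediateField.subset_adjoin K _ hx⟩, ⟨⟨x, hx⟩, rfl⟩, rfl⟩
  have hdesc : EssDim.Descends (k := K)
      ((Over.map (Spec.map (CommRingCat.ofHom (algebraMap k K)))).op ⋙ P) ξ F₁ := by
    let m : (Over.map (Spec.map (CommRingCat.ofHom (algebraMap k K)))).obj (SGA7.pt (K := K) F₁) ⟶
        SGA7.pt (K := k) F₀ :=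
      Over.homMk (Spec.map (CommRingCat.ofHom (i : F₀ →+* F₁))) (by
        simp only [Over.map_obj_hom, Over.mk_hom]
        rw [← Spec.map_comp, ← Spec.map_comp, ← CommRingCat.ofHom_comp, ← CommRingCat.ofHom_comp]
        congr 2)
    refine ⟨P.map m.op ξ₀, ?_⟩
    have key : (Over.map (Spec.map (CommRingCat.ofHom (algebraMap k K)))).map
        (EssDim.resPt (k := K) F₁.val) ≫ m = e.inv ≫ EssDim.resPt (k := k) F₀.val := by
      ext : 1
      simp only [Over.comp_left, Over.map_map_left, EssDim.resPt_left, Over.homMk_left,
        Over.isoMk_inv_left, Iso.refl_inv, Category.id_comp, m, e]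
      rw [← Spec.map_comp, ← CommRingCat.ofHom_comp]
      rfl
    rw [hξ]
    show P.map ((Over.map (Spec.map (CommRingCat.ofHom (algebraMap k K)))).map
        (EssDim.resPt (k := K) F₁.val)).op (P.map m.op ξ₀) = P.map e.inv.op ξ'
    rw [← FunctorToTypes.map_comp_apply, ← op_comp, key, op_comp, FunctorToTypes.map_comp_apply]
    congr 1
  exact (EssDim.edAt_le_of_descends hdesc).trans (OrderHomClass.mono Cardinal.toENat htr)

end Groth.Agent.S19741
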