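import Groth.Statements.S19748
import Groth.Agent.Lib.H2SegreMod2

set_option autoImplicit false
universe u
open scoped TensorProduct
open GrSegre

namespace Groth.Agent.S19748


open TensorProduct DirectSum Groth.Agent.Lib.H2SegreMod

theorem bijective_pow_smul {R M : Type*} [CommRing R] [AddCommGroup M] [Module R M] (f : R)
    (h : Function.Bijective (fun x : M => f • x)) (e : ℕ) :
    Function.Bijective (fun x : M => f ^ e • x) := by
  induction e with
  | zero =>
    simp only [pow_zero, one_smul]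
    exact Function.bijective_id
  | succ e ih =>
    have : (fun x : M => f ^ (e + 1) • x) = (fun x : M => f ^ e • x) ∘ (fun x : M => f • x) := by
      ext x
      simp [pow_succ, mul_smul]
    rw [this]
    exact ih.comp h

theorem result' (k : Type u) [Field k] (R : Type u) [CommRing R] [Algebra k R] (𝒜 : ℤ → Submodule k R) [GradedAlgebra 𝒜] (hposR : ∀ n : ℤ, n < 0 → 𝒜 n = ⊥) (h0R : 𝒜 0 = Submodule.span k {(1 : R)}) [Algebra.FiniteType k R] (S : Type u) [CommRing S] [Algebra k S] (ℬ : ℤ → Submodule k S) [GradedAlgebra ℬ] (hposS : ∀ n : ℤ, n < 0 → ℬ n = ⊥) (h0S : ℬ 0 = Submodule.span k {(1 : S)}) [Algebra.FiniteType k S] (T : Type u) [CommRing T] [Algebra k T] (𝒯 : ℤ → Submodule k T) [GradedAlgebra 𝒯] (ψ : T →ₐ[k] TensorProduct k R S) (hT : GrSeg.IsSegreRing 𝒜 ℬ 𝒯 ψ) (M : Type u) [AddCommGroup M] [Module R M] [Module k M] [IsScalarTower k R M] (ℳ : ℤ → AddSubgroup M) [DirectSum.Decomposition ℳ] [SetLike.GradedSMul 𝒜 ℳ] (N : Type u) [AddCommGroup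 N] [Module S N] [Module k N] [IsScalarTower k S N] (𝒩 : ℤ → AddSubgroup N) [DirectSum.Decomposition 𝒩] [SetLike.GradedSMul ℬ 𝒩] (P : Type u) [AddCommGroup P] [Module T P] [Module k P] [IsScalarTower k T P] (𝒬 : ℤ → AddSubgroup P) [DirectSum.Decomposition 𝒬] (φ : P →ₗ[k] TensorProduct k M N) (hP : GrSeg.IsSegreMod ψ ℳ 𝒩 𝒬 φ) (d : ℕ) (hd : 0 < d) (f : R) (hf : f ∈ 𝒜 (d : ℤ)) (hfM : Function.Bijective (fun x : M => f • x)) (e : ℕ) (he : 0 < e) (g : S) (hg : g ∈ ℬ (e : ℤ)) (hgN : Function.Bijective (fun y : N => g • y)) : ∃ (c : ℤ) (t : T), 0 < c ∧ t ∈ 𝒯 c ∧ Function.Bijective (fun p : P => t • p) := by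
  classical
  have hfe : f ^ e ∈ 𝒜 (((d * e : ℕ)) : ℤ) := by
    have := SetLike.pow_mem_graded e hf
    have h2 : e • (d : ℤ) = ((d * e : ℕ) : ℤ) := by push_cast; ring
    rwa [h2] at this
  have hgd : g ^ d ∈ ℬ (((d * e : ℕ)) : ℤ) := by
    have := SetLike.pow_mem_graded d hg
    have h2 : d • (e : ℤ) = ((d * e : ℕ) : ℤ) := by push_cast; ring
    rwa [h2] at this
  obtain ⟨t, ht, hψt⟩ := exists_of_mem_segrePiece_ring hT
    (show (f ^ e) ⊗ₜ[k] (g ^ d) ∈ GrSeg.segrePiece k 𝒜 ℬ ((d * e : ℕ) : ℤ) from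
      Submodule.subset_span ⟨_, hfe, _, hgd, rfl⟩)
  refine ⟨((d * e : ℕ) : ℤ), t, by exact_mod_cast Nat.mul_pos hd he, ht, ?_⟩
  -- the automorphism of `M ⊗ N`
  let eM : M ≃ₗ[k] M := LinearEquiv.ofBijective (Algebra.lsmul k k M (f ^ e))
    (bijective_pow_smul f hfM e)
  let eN : N ≃ₗ[k] N := LinearEquiv.ofBijective (Algebra.lsmul k k N (g ^ d))
    (bijective_pow_smul g hgN d)
  let Θ : M ⊗[k] N ≃ₗ[k] M ⊗[k] N := TensorProduct.congr eM eN
  have hΘ : ∀ z, GrSeg.act k R S M N ((f ^ e) ⊗ₜ[k] (g ^ d)) z = Θ z := by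
    intro z
    induction z using TensorProduct.induction_on with
    | zero => simp
    | add x y hx hy => rw [map_add, map_add, hx, hy]
    | tmul m n =>
      rw [GrSeg.act_tmul]
      rfl
  have hφt : ∀ p : P, φ (t • p) = Θ (φ p) := by
    intro p
    rw [hP.map_smul, hψt, hΘ]
  constructor
  · intro p q hpq
    have h1 : φ (t • p) = φ (t • q) := congrArg φ hpq
    rw [hφt, hφt] at h1
    exact hP.injective (Θ.injective h1)
  · intro p
    set z := Θ.symm (φ p) with hz
    have h1 : Θ z = φ p := by rw [hz, LinearEquiv.apply_symm_apply]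
    have h2 : Θ (diagProj 𝒜 ℳ ℬ 𝒩 z) = Θ z := by
      rw [← hΘ, ← diagProj_act_comm 𝒜 ℳ ℬ 𝒩 hfe hgd, hΘ, h1]
      exact diagProj_of_mem 𝒜 ℳ ℬ 𝒩 (phi_mem_diag hP p)
    have h3 : diagProj 𝒜 ℳ ℬ 𝒩 z = z := Θ.injective h2
    have h4 : z ∈ diag (k := k) ℳ 𝒩 := by
      rw [← h3]
      exact diagProj_mem 𝒜 ℳ ℬ 𝒩 z
    obtain ⟨q, hq⟩ := exists_of_mem_diag hP h4
    refine ⟨q, ?_⟩
    apply hP.injective
    show φ (t • q) = φ p
    rw [hφt, hq, h1]


/-- Let R and S be graded rings defined over a field k with Segre product T = R # S, M a graded R-module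
and N a graded S-module. Suppose that multiplication by some homogeneous element f ∈ R_d of positive
degree d is bijective on M and multiplication by some homogeneous g ∈ S_e of positive degree e is
bijective on N. Then multiplication by some homogeneous element of T of positive degree is bijective
on M # N. Here a graded ring defined over k is a commutative k-algebra of finite type, graded in
nonnegative degrees by k-subspaces with degree-zero part k·1; the Segre product T = R # S = ⊕_n R_n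
⊗_k S_n is presented abstractly as a graded k-algebra T with an injective k-algebra homomorphism ψ :
T → R ⊗_k S carrying T_n onto the k-span of the elementary tensors a ⊗ b with a ∈ R_n, b ∈ S_n; the
Segre product M # N = ⊕_n M_n ⊗_k N_n of a graded R-module M and a graded S-module N is presented
abstractly as a graded T-module P with an injective k-linear map φ : P → M ⊗_k N carrying P_n onto
the k-span of the tensors x ⊗ y with x ∈ M_n, y ∈ N_n and turning the action of t ∈ T into that of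
ψ(t) (acting factorwise on M ⊗_k N). -/
theorem result (k : Type u) [Field k] (R : Type u) [CommRing R] [Algebra k R] (𝒜 : ℤ → Submodule k R) [GradedAlgebra 𝒜] (hposR : ∀ n : ℤ, n < 0 → 𝒜 n = ⊥) (h0R : 𝒜 0 = Submodule.span k {(1 : R)}) [Algebra.FiniteType k R] (S : Type u) [CommRing S] [Algebra k S] (ℬ : ℤ → Submodule k S) [GradedAlgebra ℬ] (hposS : ∀ n : ℤ, n < 0 → ℬ n = ⊥) (h0S : ℬ 0 = Submodule.span k {(1 : S)}) [Algebra.FiniteType k S] (T : Type u) [CommRing T] [Algebra k T] (𝒯 : ℤ → Submodule k T) [GradedAlgebra 𝒯] (ψ : T →ₐ[k] TensorProduct k R S) (hT : GrSeg.IsSegreRing 𝒜 ℬ 𝒯 ψ) (M : Type u) [AddCommGroup M] [Module R M] [Module k M] [IsScalarTower k R M] (ℳ : ℤ → AddSubgroup M) [DirectSum.Decomposition ℳ] [SetLike.GradedSMul 𝒜 ℳ] (N : Type u) [AddCommGroup N] [Module S N] [Module k N] [IsScalarTower k S N] (𝒩 : ℤ → AddSubgroup N) [DirectSum.Decomposition 𝒩] [SetLike.GradedSMul ℬ 𝒩] (P : Type u) [AddCommGroup P] [Module T P] [Module k P]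 [IsScalarTower k T P] (𝒬 : ℤ → AddSubgroup P) [DirectSum.Decomposition 𝒬] (φ : P →ₗ[k] TensorProduct k M N) (hP : GrSeg.IsSegreMod ψ ℳ 𝒩 𝒬 φ) (d : ℕ) (hd : 0 < d) (f : R) (hf : f ∈ 𝒜 (d : ℤ)) (hfM : Function.Bijective (fun x : M => f • x)) (e : ℕ) (he : 0 < e) (g : S) (hg : g ∈ ℬ (e : ℤ)) (hgN : Function.Bijective (fun y : N => g • y)) : ∃ (c : ℤ) (t : T), 0 < c ∧ t ∈ 𝒯 c ∧ Function.Bijective (fun p : P => t • p) := by
  exact result' k R 𝒜 hposR h0R S ℬ hposS h0S T 𝒯 ψ hT M ℳ N 𝒩 P 𝒬 φ hP d hd f hf hfM e he g hg hgN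

end Groth.Agent.S19748
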