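import Groth.Statements.S19749
import Groth.Agent.Lib.H2SegreMod2

set_option autoImplicit false
universe u
open scoped TensorProduct
open GrSegre

namespace Groth.Agent.S19749


open TensorProduct DirectSum Groth.Agent.Lib.H2SegreMod

theorem result' (k : Type u) [Field k] (R : Type u) [CommRing R] [Algebra k R] (𝒜 : ℤ → Submodule k R) [GradedAlgebra 𝒜] (hposR : ∀ n : ℤ, n < 0 → 𝒜 n = ⊥) (h0R : 𝒜 0 = Submodule.span k {(1 : R)}) [Algebra.FiniteType k R] (S : Type u) [CommRing S] [Algebra k S] (ℬ : ℤ → Submodule k S) [GradedAlgebra ℬ] (hposS : ∀ n : ℤ, n < 0 → ℬ n = ⊥) (h0S : ℬ 0 = Submodule.span k {(1 : S)}) [Algebra.FiniteType k S] (T : Type u) [CommRing T] [Algebra k T] (𝒯 : ℤ → Submodule k T) [GradedAlgebra 𝒯] (ψ : T →ₐ[k] TensorProduct k R S) (hT : GrSeg.IsSegreRing 𝒜 ℬ 𝒯 ψ) (hstdR : Ideal.span (⋃ n ∈ Set.Ioi (0 : ℤ), (𝒜 n : Set R)) = Ideal.span ((𝒜 1 : Submodule k R) : Set R)) (hstdS : Ideal.span (⋃ n ∈ Set.Ioi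 (0 : ℤ), (ℬ n : Set S)) = Ideal.span ((ℬ 1 : Submodule k S) : Set S)) (hr1 : 1 ≤ ringKrullDim R) (hs1 : 1 ≤ ringKrullDim S) (M : Type u) [AddCommGroup M] [Module R M] [Module k M] [IsScalarTower k R M] (ℳ : ℤ → AddSubgroup M) [DirectSum.Decomposition ℳ] [SetLike.GradedSMul 𝒜 ℳ] (N : Type u) [AddCommGroup N] [Module S N] [Module k N] [IsScalarTower k S N] (𝒩 : ℤ → AddSubgroup N) [DirectSum.Decomposition 𝒩] [SetLike.GradedSMul ℬ 𝒩] (P : Type u) [AddCommGroup P] [Module T P] [Module k P] [IsScalarTower k T P] (𝒬 : ℤ → AddSubgroup P) [DirectSum.Decomposition 𝒬] (φ : P →ₗ[k] TensorProduct k M N) (hP : GrSeg.IsSegreMod ψ ℳ 𝒩 𝒬 φ) (n : ℤ) (hNn : ∀ m : ℤ, n ≤ m → 𝒩 m ≠ ⊥) (x : M) (hx : x ∈ ℳ n) (y : N) (hy : y ∈ 𝒩 n) (p : P) (hp : φ p = x ⊗ₜ[k] y) (hgen : Submodule.span T {p} = ⊤) (d : ℤ) (hd : 0 ≤ d) (z : M) (hz : z ∈ ℳ (n + d)) : ∃ r ∈ 𝒜 d, r • x = z := by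
  classical
  -- a nonzero element of N_{n+d}
  obtain ⟨y2, hy2, hy2ne⟩ : ∃ y2 ∈ 𝒩 (n + d), y2 ≠ 0 := by
    have := hNn (n + d) (by omega)
    rw [Ne, AddSubgroup.eq_bot_iff_forall] at this
    push Not at this
    exact this
  have hpn : p ∈ 𝒬 n := by
    apply mem_of_phi_mem_segrePiece hP
    rw [hp]
    exact tmul_mem_segrePiece ℳ 𝒩 hx hy
  obtain ⟨q, hq, hφq⟩ := exists_of_mem_segrePiece hP (tmul_mem_segrePiece ℳ 𝒩 hz hy2)
  obtain ⟨t, ht⟩ : ∃ t : T, t • p = q := by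
    have : q ∈ Submodule.span T {p} := by rw [hgen]; trivial
    exact Submodule.mem_span_singleton.1 this
  -- graded component
  have hcomp : ∀ t : T, Groth.Agent.Lib.H2SegreMod.P 𝒜 ℳ ℬ 𝒩 (n + d) (φ (t • p)) = φ ((decompose 𝒯 t d : T) • p) := by
    intro t
    induction t using DirectSum.Decomposition.inductionOn 𝒯 with
    | zero => simp
    | add t t' ht ht' =>
      rw [add_smul, map_add, map_add, ht, ht', decompose_add, DirectSum.add_apply,
        Submodule.coe_add, add_smul, map_add]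
    | homogeneous t =>
      rename_i c
      have h1 : (t : T) • p ∈ 𝒬 (c + n) := smul_mem_piece hT hP t.2 hpn
      rw [P_of_mem_segrePiece 𝒜 ℳ ℬ 𝒩 (phi_mem_segrePiece hP h1)]
      by_cases h : c = d
      · subst h
        rw [if_pos (add_comm _ _), decompose_of_mem_same 𝒯 t.2]
      · rw [if_neg (by omega), decompose_of_mem_ne 𝒯 t.2 h, zero_smul, map_zero]
  have hzy : z ⊗ₜ[k] y2 = GrSeg.act k R S M N (ψ (decompose 𝒯 t d : T)) (x ⊗ₜ[k] y) := by
    rw [← hp, ← hP.map_smul, ← hcomp t, ht,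
      P_of_mem_segrePiece 𝒜 ℳ ℬ 𝒩 (phi_mem_segrePiece hP hq), if_pos rfl, hφq]
  -- a functional with λ y2 = 1
  obtain ⟨lam, hlam⟩ : ∃ lam : N →ₗ[k] k, lam y2 = 1 := by
    have hinj : Function.Injective (LinearMap.toSpanSingleton k N y2) := by
      intro a b hab
      simp only [LinearMap.toSpanSingleton_apply] at hab
      exact smul_left_injective k hy2ne hab
    obtain ⟨g, hg⟩ := LinearMap.exists_leftInverse_of_injective _
      (LinearMap.ker_eq_bot.2 hinj)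
    refine ⟨g, ?_⟩
    have := LinearMap.congr_fun hg 1
    simpa using this
  let Λ : M ⊗[k] N →ₗ[k] M := (TensorProduct.rid k M).toLinearMap ∘ₗ
    TensorProduct.map LinearMap.id lam
  have hΛ : ∀ (m : M) (n' : N), Λ (m ⊗ₜ[k] n') = lam n' • m := by
    intro m n'
    simp [Λ]
  have hseg : ∀ a ∈ GrSeg.segrePiece k 𝒜 ℬ d,
      ∃ r ∈ 𝒜 d, Λ (GrSeg.act k R S M N a (x ⊗ₜ[k] y)) = r • x := by
    intro a ha
    unfold GrSeg.segrePiece at ha
    induction ha using Submodule.span_induction with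
    | mem a ha =>
      obtain ⟨r0, hr0, s0, hs0, rfl⟩ := ha
      refine ⟨lam (s0 • y) • r0, Submodule.smul_mem _ _ hr0, ?_⟩
      rw [GrSeg.act_tmul, hΛ, smul_assoc]
    | zero => exact ⟨0, zero_mem _, by simp⟩
    | add a b _ _ ha hb =>
      obtain ⟨r1, hr1, h1⟩ := ha
      obtain ⟨r2, hr2, h2⟩ := hb
      exact ⟨r1 + r2, add_mem hr1 hr2, by
        rw [map_add, LinearMap.add_apply, map_add, h1, h2, add_smul]⟩
    | smul c a _ ha =>
      obtain ⟨r1, hr1, h1⟩ := ha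
      exact ⟨c • r1, Submodule.smul_mem _ _ hr1, by
        rw [map_smul, LinearMap.smul_apply, map_smul, h1, smul_assoc]⟩
  obtain ⟨r, hr, hrx⟩ := hseg _ (psi_mem_segrePiece hT (SetLike.coe_mem (decompose 𝒯 t d)))
  refine ⟨r, hr, ?_⟩
  rw [← hrx, ← hzy, hΛ, hlam, one_smul]


/-- Let R and S be graded rings defined over a field k, both generated over k by their degree-one parts
and of positive Krull dimension, T = R # S, M a graded R-module and N a graded S-module, n an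
integer with N_m ≠ 0 for every m ≥ n, and x ∈ M_n, y ∈ N_n. If x # y generates M # N as a T-module,
then R_d x = M_{n+d} for every d ≥ 0 (every element of M_{n+d} is r x for some r ∈ R_d). Here a
graded ring defined over k is a commutative k-algebra of finite type, graded in nonnegative degrees
by k-subspaces with degree-zero part k·1; the Segre product T = R # S = ⊕_n R_n ⊗_k S_n is presented
abstractly as a graded k-algebra T with an injective k-algebra homomorphism ψ : T → R ⊗_k S carrying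
T_n onto the k-span of the elementary tensors a ⊗ b with a ∈ R_n, b ∈ S_n; the Segre product M # N =
⊕_n M_n ⊗_k N_n of a graded R-module M and a graded S-module N is presented abstractly as a graded
T-module P with an injective k-linear map φ : P → M ⊗_k N carrying P_n onto the k-span of the
tensors x ⊗ y with x ∈ M_n, y ∈ N_n and turning the action of t ∈ T into that of ψ(t) (acting
factorwise on M ⊗_k N), and x # y is the element of P mapped to x ⊗ y. -/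
theorem result (k : Type u) [Field k] (R : Type u) [CommRing R] [Algebra k R] (𝒜 : ℤ → Submodule k R) [GradedAlgebra 𝒜] (hposR : ∀ n : ℤ, n < 0 → 𝒜 n = ⊥) (h0R : 𝒜 0 = Submodule.span k {(1 : R)}) [Algebra.FiniteType k R] (S : Type u) [CommRing S] [Algebra k S] (ℬ : ℤ → Submodule k S) [GradedAlgebra ℬ] (hposS : ∀ n : ℤ, n < 0 → ℬ n = ⊥) (h0S : ℬ 0 = Submodule.span k {(1 : S)}) [Algebra.FiniteType k S] (T : Type u) [CommRing T] [Algebra k T] (𝒯 : ℤ → Submodule k T) [GradedAlgebra 𝒯] (ψ : T →ₐ[k] TensorProduct k R S) (hT : GrSeg.IsSegreRing 𝒜 ℬ 𝒯 ψ) (hstdR : Ideal.span (⋃ n ∈ Set.Ioi (0 : ℤ), (𝒜 n : Set R)) = Ideal.span ((𝒜 1 : Submodule k R) : Set R)) (hstdS : Ideal.span (⋃ n ∈ Set.Ioi (0 : ℤ), (ℬ n : Set S)) = Ideal.span ((ℬ 1 : Submodule k S) : Set S)) (hr1 : 1 ≤ ringKrullDim R) (hs1 : 1 ≤ ringKrullDim S) (M : Type u) [AddCommGroup M] [Module R M] [Module k M] [IsScalarTower k R M] (ℳ : ℤ → AddSubgroup M) [DirectSum.Decomposition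 ℳ] [SetLike.GradedSMul 𝒜 ℳ] (N : Type u) [AddCommGroup N] [Module S N] [Module k N] [IsScalarTower k S N] (𝒩 : ℤ → AddSubgroup N) [DirectSum.Decomposition 𝒩] [SetLike.GradedSMul ℬ 𝒩] (P : Type u) [AddCommGroup P] [Module T P] [Module k P] [IsScalarTower k T P] (𝒬 : ℤ → AddSubgroup P) [DirectSum.Decomposition 𝒬] (φ : P →ₗ[k] TensorProduct k M N) (hP : GrSeg.IsSegreMod ψ ℳ 𝒩 𝒬 φ) (n : ℤ) (hNn : ∀ m : ℤ, n ≤ m → 𝒩 m ≠ ⊥) (x : M) (hx : x ∈ ℳ n) (y : N) (hy : y ∈ 𝒩 n) (p : P) (hp : φ p = x ⊗ₜ[k] y) (hgen : Submodule.span T {p} = ⊤) (d : ℤ) (hd : 0 ≤ d) (z : M) (hz : z ∈ ℳ (n + d)) : ∃ r ∈ 𝒜 d, r • x = z := by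
  exact result' k R 𝒜 hposR h0R S ℬ hposS h0S T 𝒯 ψ hT hstdR hstdS hr1 hs1 M ℳ N 𝒩 P 𝒬 φ hP n hNn x hx y hy p hp hgen d hd z hz

end Groth.Agent.S19749
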