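import Groth.Statements.S1975
import Groth.Agent.Lib.ValEt76G
import Groth.Agent.Lib.LocalEtaleNbhd
import Groth.Agent.Lib.HenselizationFlat
import Groth.Agent.Lib.StrictHenselizationProps
import Groth.Agent.Lib.H56ShGen

set_option autoImplicit false
universe u
open EtAlg

namespace Groth.Agent.S1975

/-- Let A be a valuation ring and S a henselization or strict henselization of A. Then S is a valuation
ring, A -> S is injective, and every nonzero element of S is a unit multiple of the image of an
element of A (the value groups agree). -/
theorem result (A S : Type u) [CommRing A] [IsDomain A] [ValuationRing A] [CommRing S]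
    [IsLocalRing S] [Algebra A S] [IsLocalHom (algebraMap A S)]
    (h : Hensel.IsHenselization A S ∨ Hensel.IsStrictHenselization A S) :
    IsDomain S ∧ (∀ _ : IsDomain S, ValuationRing S) ∧ Function.Injective (algebraMap A S) ∧
      ∀ s : S, s ≠ 0 → ∃ (a : A) (u : Sˣ), s = u * algebraMap A S a := by
  rcases h with h | h
  · have := h
    have : Module.FaithfullyFlat A S :=
      Groth.Agent.Lib.HenselizationFlat.faithfullyFlat_of_isHenselization (R := A) S
    have hinj : Function.Injective (algebraMap A S) := FaithfulSMul.algebraMap_injective A S
    refine Groth.Agent.Lib.ValEt76.of_etale_gen A S hinj ?_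
    intro s
    obtain ⟨E, i1, i2, hE, -, φ, e, he⟩ :=
      Groth.Agent.Lib.LocalEtaleNbhd.exists_etale_of_mem (R := A) (Rh := S) s
    exact ⟨E, i1, i2, hE, φ, e, he⟩
  · have := h
    have : Module.FaithfullyFlat A S :=
      Groth.Agent.Lib.StrictHenselization.faithfullyFlat_of_isStrictHenselization A S
    have hinj : Function.Injective (algebraMap A S) := FaithfulSMul.algebraMap_injective A S
    refine Groth.Agent.Lib.ValEt76.of_etale_gen A S hinj ?_
    intro s
    exact Groth.Agent.Lib.H56ShGen.isEtaleGen_of_isStrictHenselization A S s

end Groth.Agent.S1975
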