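import Groth.Statements.S19762
import Mathlib.LinearAlgebra.Dual.Lemmas
import Mathlib.LinearAlgebra.Basis.VectorSpace
import Mathlib.LinearAlgebra.FiniteDimensional.Basic
import Mathlib.RingTheory.Noetherian.Basic
import Mathlib.RingTheory.FiniteType

set_option autoImplicit false
universe u
open GrDual

namespace Groth.Agent.S19762

open DirectSum

set_option linter.unusedSectionVars false
set_option linter.style.haveILetI false

section general

variable {k : Type u} [Field k] {R : Type u} [CommRing R] [Algebra k R]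
  (𝒜 : ℤ → Submodule k R) [GradedAlgebra 𝒜]
  {M : Type u} [AddCommGroup M] [Module R M] [Module k M] [IsScalarTower k R M]
  (ℳ : ℤ → AddSubgroup M) [DirectSum.Decomposition ℳ] [SetLike.GradedSMul 𝒜 ℳ]

/-- the piece as a k-subspace -/
def pc (n : ℤ) : Submodule k M where
  carrier := ℳ n
  add_mem' ha hb := add_mem ha hb
  zero_mem' := zero_mem _
  smul_mem' c x hx := by
    have h1 : (c • (1 : R)) ∈ 𝒜 0 := (𝒜 0).smul_mem c SetLike.GradedOne.one_mem
    have h2 := SetLike.GradedSMul.smul_mem (A := 𝒜) (B := ℳ) h1 hx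
    rw [smul_assoc, one_smul, vadd_eq_add, zero_add] at h2
    exact h2

lemma smul_mem_add {i j : ℤ} {r : R} {x : M} (hr : r ∈ 𝒜 i) (hx : x ∈ ℳ j) :
    r • x ∈ ℳ (i + j) := by
  have := SetLike.GradedSMul.smul_mem (A := 𝒜) (B := ℳ) hr hx
  rwa [vadd_eq_add] at this

/-- Components of `r • x` for a homogeneous scalar `r`. -/
theorem decompose_smul_left {i : ℤ} {r : R} (hr : r ∈ 𝒜 i) (x : M) (j : ℤ) :
    (decompose ℳ (r • x) (i + j) : M) = r • (decompose ℳ x j : M) := by
  induction x using Decomposition.inductionOn ℳ with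
  | zero => simp
  | @homogeneous l x =>
    have hrx : r • (x : M) ∈ ℳ (i + l) := smul_mem_add 𝒜 ℳ hr x.2
    by_cases hl : l = j
    · subst hl
      rw [decompose_of_mem_same ℳ hrx, decompose_of_mem_same ℳ x.2]
    · have hne : i + l ≠ i + j := fun hh => hl (add_left_cancel hh)
      rw [decompose_of_mem_ne ℳ hrx hne, decompose_of_mem_ne ℳ x.2 hl, smul_zero]
  | add x x' hx hx' =>
    rw [smul_add, decompose_add, decompose_add, DirectSum.add_apply, DirectSum.add_apply,
      AddSubgroup.coe_add, AddSubgroup.coe_add, smul_add, hx, hx']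

variable (hpos : ∀ n : ℤ, n < 0 → 𝒜 n = ⊥)

include hpos in
lemma eq_zero_of_neg {i : ℤ} (hi : i < 0) {r : R} (hr : r ∈ 𝒜 i) : r = 0 := by
  rw [hpos i hi] at hr
  simpa using hr

/-- elements with no components in degrees `< n`. -/
def tail (n : ℤ) : Submodule R M where
  carrier := {x | ∀ j < n, (decompose ℳ x j : M) = 0}
  add_mem' := by
    intro a b ha hb j hj
    rw [decompose_add, DirectSum.add_apply, AddSubgroup.coe_add, ha j hj, hb j hj, add_zero]
  zero_mem' := by intro j hj; simp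
  smul_mem' := by
    intro r x hx j hj
    induction r using Decomposition.inductionOn 𝒜 with
    | zero => simp
    | @homogeneous i r =>
      by_cases hi : i < 0
      · rw [eq_zero_of_neg 𝒜 hpos hi r.2, zero_smul]; simp
      · have hj' : j = i + (j - i) := by ring
        conv_lhs => rw [hj', decompose_smul_left 𝒜 ℳ r.2]
        rw [hx (j - i) (by omega), smul_zero]
    | add r r' hr hr' =>
      rw [add_smul, decompose_add, DirectSum.add_apply, AddSubgroup.coe_add, hr, hr', add_zero]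

lemma mem_tail {n : ℤ} {x : M} :
    x ∈ tail 𝒜 ℳ hpos n ↔ ∀ j < n, (decompose ℳ x j : M) = 0 := Iff.rfl

lemma decompose_smul_of_mem_tail (h0 : 𝒜 0 = Submodule.span k {(1 : R)}) (n : ℤ) (r : R)
    {x : M} (hx : x ∈ tail 𝒜 ℳ hpos n) :
    ∃ c : k, (decompose ℳ (r • x) n : M) = c • (decompose ℳ x n : M) := by
  have key : (decompose ℳ (r • x) n : M) = (decompose 𝒜 r 0 : R) • (decompose ℳ x n : M) := by
    induction r using Decomposition.inductionOn 𝒜 with
    | zero => simp
    | @homogeneous i r =>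
      rcases lt_trichotomy i 0 with hi | hi | hi
      · rw [eq_zero_of_neg 𝒜 hpos hi r.2]; simp
      · subst hi
        rw [decompose_of_mem_same 𝒜 r.2]
        have := decompose_smul_left 𝒜 ℳ r.2 x n
        rwa [zero_add] at this
      · rw [decompose_of_mem_ne 𝒜 r.2 (ne_of_gt hi), zero_smul]
        have hn : n = i + (n - i) := by ring
        conv_lhs => rw [hn, decompose_smul_left 𝒜 ℳ r.2]
        rw [hx (n - i) (by omega), smul_zero]
    | add r r' hr hr' =>
      rw [add_smul, decompose_add, decompose_add, DirectSum.add_apply, DirectSum.add_apply,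
        AddSubgroup.coe_add, Submodule.coe_add, add_smul, hr, hr']
  have hr0 : (decompose 𝒜 r 0 : R) ∈ Submodule.span k {(1 : R)} := h0 ▸ (decompose 𝒜 r 0).2
  obtain ⟨c, hc⟩ := Submodule.mem_span_singleton.mp hr0
  refine ⟨c, ?_⟩
  rw [key, ← hc, smul_assoc, one_smul]

include hpos in
theorem finite_pc [Algebra.FiniteType k R] [Module.Finite R M]
    (h0 : 𝒜 0 = Submodule.span k {(1 : R)}) (n : ℤ) : Module.Finite k (pc 𝒜 ℳ n) := by
  haveI : IsNoetherianRing R := Algebra.FiniteType.isNoetherianRing k R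
  haveI : IsNoetherian R M := isNoetherian_of_isNoetherianRing_of_finite R M
  obtain ⟨S, hS⟩ := IsNoetherian.noetherian (tail 𝒜 ℳ hpos n)
  let V : Submodule k M := Submodule.span k ((fun y => (decompose ℳ y n : M)) '' (S : Set M))
  have hV : ∀ z ∈ Submodule.span R (S : Set M), (decompose ℳ z n : M) ∈ V := by
    intro z hz
    induction hz using Submodule.span_induction with
    | mem y hy => exact Submodule.subset_span ⟨y, hy, rfl⟩
    | zero => simp
    | add a b ha hb iha ihb =>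
      rw [decompose_add, DirectSum.add_apply, AddSubgroup.coe_add]; exact add_mem iha ihb
    | smul r a ha iha =>
      obtain ⟨c, hc⟩ := decompose_smul_of_mem_tail 𝒜 ℳ hpos h0 n r (hS ▸ ha)
      rw [hc]; exact V.smul_mem c iha
  have hle : pc 𝒜 ℳ n ≤ V := by
    intro x hx
    have hx' : x ∈ tail 𝒜 ℳ hpos n := fun j hj => decompose_of_mem_ne ℳ hx (ne_of_gt hj)
    have := hV x (hS ▸ hx')
    rwa [decompose_of_mem_same ℳ hx] at this
  haveI : Module.Finite k V := Module.Finite.span_of_finite k (Set.Finite.image _ S.finite_toSet)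
  exact Submodule.finiteDimensional_of_le hle

end general

section duality

variable {k : Type u} [Field k] {R : Type u} [CommRing R] [Algebra k R]
  (𝒜 : ℤ → Submodule k R) [GradedAlgebra 𝒜]
  {M : Type u} [AddCommGroup M] [Module R M] [Module k M] [IsScalarTower k R M]
  (ℳ : ℤ → AddSubgroup M) [DirectSum.Decomposition ℳ] [SetLike.GradedSMul 𝒜 ℳ]
  {D : Type u} [AddCommGroup D] [Module R D] [Module k D] [IsScalarTower k R D]
  (𝒟 : ℤ → AddSubgroup D) [DirectSum.Decomposition 𝒟] [SetLike.GradedSMul 𝒜 𝒟]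
  (β : D →ₗ[k] M →ₗ[k] k)

/-- for d ∈ D_n: β d x = β d (x_{-n}) -/
lemma beta_eq_left (hD : GrSeg.IsGDual R ℳ 𝒟 β) {n : ℤ} {d : D} (hd : d ∈ 𝒟 n) (x : M) :
    β d x = β d (decompose ℳ x (-n) : M) := by
  induction x using Decomposition.inductionOn ℳ with
  | zero => simp
  | @homogeneous i x =>
    by_cases hi : i = -n
    · subst hi; rw [decompose_of_mem_same ℳ x.2]
    · rw [decompose_of_mem_ne ℳ x.2 hi, map_zero]; exact hD.vanish n d hd i hi x x.2
  | add x x' hx hx' =>
    rw [map_add, hx, hx', decompose_add, DirectSum.add_apply, AddSubgroup.coe_add, map_add]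

/-- for x ∈ M_n: β d x = β (d_{-n}) x -/
lemma beta_eq_right (hD : GrSeg.IsGDual R ℳ 𝒟 β) {n : ℤ} {x : M} (hx : x ∈ ℳ n) (d : D) :
    β d x = β (decompose 𝒟 d (-n) : D) x := by
  induction d using Decomposition.inductionOn 𝒟 with
  | zero => simp
  | @homogeneous i d =>
    by_cases hi : i = -n
    · subst hi; rw [decompose_of_mem_same 𝒟 d.2]
    · rw [decompose_of_mem_ne 𝒟 d.2 hi, map_zero, LinearMap.zero_apply]
      exact hD.vanish i d d.2 n (by intro h; apply hi; rw [h, neg_neg]) x hx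
  | add d d' hd hd' =>
    rw [map_add, LinearMap.add_apply, hd, hd', decompose_add, DirectSum.add_apply,
      AddSubgroup.coe_add, map_add, LinearMap.add_apply]

/-- separation -/
lemma eq_zero_of_forall (hD : GrSeg.IsGDual R ℳ 𝒟 β) (m : M) (h : ∀ d : D, β d m = 0) :
    m = 0 := by
  by_contra hm
  have : ∃ n, (decompose ℳ m n : M) ≠ 0 := by
    by_contra hall
    push Not at hall
    apply hm
    have h0 : decompose ℳ m = 0 := by
      ext n; simpa using hall n
    exact (decompose ℳ).injective (h0.trans (decompose_zero ℳ).symm)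
  obtain ⟨n, hn⟩ := this
  obtain ⟨φ, hφ⟩ : ∃ φ : Module.Dual k M, φ (decompose ℳ m n : M) ≠ 0 :=
    Module.Projective.exists_dual_ne_zero k hn
  obtain ⟨d, hd, hdφ⟩ := hD.exists_eq (-n) φ
  have h1 := beta_eq_left ℳ 𝒟 β hD hd m
  rw [neg_neg] at h1 hdφ
  rw [h d, hdφ _ (decompose ℳ m n).2] at h1
  exact hφ h1.symm

theorem exists_rep (hD : GrSeg.IsGDual R ℳ 𝒟 β) (n : ℤ) [Module.Finite k (pc 𝒜 ℳ (-n))]
    (ψ : D →ₗ[k] k) : ∃ m ∈ ℳ (-n), ∀ d ∈ 𝒟 n, β d m = ψ d := by
  set V := pc 𝒜 ℳ (-n) with hV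
  set W := pc 𝒜 𝒟 n with hW
  let Ψ : W →ₗ[k] Module.Dual k V := (LinearMap.lcomp k k V.subtype) ∘ₗ β ∘ₗ W.subtype
  have Ψ_apply : ∀ (d : W) (v : V), Ψ d v = β d v := fun d v => rfl
  have hinj : Function.Injective Ψ := by
    rw [← LinearMap.ker_eq_bot, Submodule.eq_bot_iff]
    intro d hd
    rw [LinearMap.mem_ker] at hd
    apply Subtype.ext
    apply hD.eq_zero n d d.2
    intro x hx
    have := LinearMap.congr_fun hd ⟨x, hx⟩
    simpa [Ψ_apply] using this
  have hsurj : Function.Surjective Ψ := by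
    intro φ
    obtain ⟨φ', hφ'⟩ := LinearMap.exists_extend φ
    obtain ⟨d, hd, hdφ⟩ := hD.exists_eq n φ'
    refine ⟨⟨d, hd⟩, ?_⟩
    ext v
    rw [Ψ_apply]
    change β d v = φ v
    rw [hdφ v v.2, ← hφ']
    rfl
  let Ψe : W ≃ₗ[k] Module.Dual k V := LinearEquiv.ofBijective Ψ ⟨hinj, hsurj⟩
  let ξ : Module.Dual k (Module.Dual k V) := (ψ ∘ₗ W.subtype) ∘ₗ Ψe.symm.toLinearMap
  let m : V := (Module.evalEquiv k V).symm ξ
  refine ⟨m, m.2, ?_⟩
  intro d hd
  have h1 : β d m = Ψe ⟨d, hd⟩ m := rfl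
  have h2 : Ψe ⟨d, hd⟩ m = (Module.evalEquiv k V m) (Ψe ⟨d, hd⟩) := rfl
  rw [h1, h2, LinearEquiv.apply_symm_apply]
  simp [ξ]

end duality

section main

variable (k : Type u) [Field k] (R : Type u) [CommRing R] [Algebra k R] (𝒜 : ℤ → Submodule k R)
  [GradedAlgebra 𝒜] (hposR : ∀ n : ℤ, n < 0 → 𝒜 n = ⊥) (h0R : 𝒜 0 = Submodule.span k {(1 : R)})
  [Algebra.FiniteType k R] (F : Type u) [AddCommGroup F] [Module R F] [Module k F]
  [IsScalarTower k R F] (ℱ : ℤ → AddSubgroup F) [DirectSum.Decomposition ℱ]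
  [SetLike.GradedSMul 𝒜 ℱ] [Module.Finite R F] (M : Type u) [AddCommGroup M] [Module R M]
  [Module k M] [IsScalarTower k R M] (ℳ : ℤ → AddSubgroup M) [DirectSum.Decomposition ℳ]
  [SetLike.GradedSMul 𝒜 ℳ] [Module.Finite R M] (DM : Type u) [AddCommGroup DM] [Module R DM]
  [Module k DM] [IsScalarTower k R DM] (𝒟M : ℤ → AddSubgroup DM) [DirectSum.Decomposition 𝒟M]
  [SetLike.GradedSMul 𝒜 𝒟M] (βM : DM →ₗ[k] M →ₗ[k] k) (hDM : GrSeg.IsGDual R ℳ 𝒟M βM)
  (DF : Type u) [AddCommGroup DF] [Module R DF] [Module k DF] [IsScalarTower k R DF]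
  (𝒟F : ℤ → AddSubgroup DF) [DirectSum.Decomposition 𝒟F] [SetLike.GradedSMul 𝒜 𝒟F]
  (βF : DF →ₗ[k] F →ₗ[k] k) (hDF : GrSeg.IsGDual R ℱ 𝒟F βF) (g : DM →ₗ[R] DF)
  (hg : GrLC.IsGrHom 𝒟M 𝒟F g)

include hDF hg in
/-- for x ∈ F_n: βF (g d) x = βF (g d_{-n}) x -/
lemma betaF_g_eq {n : ℤ} {x : F} (hx : x ∈ ℱ n) (d : DM) :
    βF (g d) x = βF (g (decompose 𝒟M d (-n) : DM)) x := by
  induction d using Decomposition.inductionOn 𝒟M with
  | zero => simp
  | @homogeneous i d =>
    by_cases hi : i = -n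
    · subst hi; rw [decompose_of_mem_same 𝒟M d.2]
    · rw [decompose_of_mem_ne 𝒟M d.2 hi, map_zero, map_zero, LinearMap.zero_apply]
      exact hDF.vanish i (g d) (hg i d d.2) n (by intro h; apply hi; rw [h, neg_neg]) x hx
  | add d d' hd hd' =>
    rw [map_add, map_add, LinearMap.add_apply, hd, hd', decompose_add, DirectSum.add_apply,
      AddSubgroup.coe_add, map_add, map_add, LinearMap.add_apply]

include hposR h0R hDM hDF hg in
lemma exists_hom {n : ℤ} {x : F} (hx : x ∈ ℱ n) :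
    ∃ m ∈ ℳ n, ∀ d : DM, βM d m = βF (g d) x := by
  haveI : Module.Finite k (pc 𝒜 ℳ (-(-n))) := finite_pc 𝒜 ℳ hposR h0R _
  let ψ : DM →ₗ[k] k := (βF.flip x) ∘ₗ (g.restrictScalars k)
  obtain ⟨m, hm, hmψ⟩ := exists_rep 𝒜 ℳ 𝒟M βM hDM (-n) ψ
  rw [neg_neg] at hm
  refine ⟨m, hm, fun d => ?_⟩
  rw [beta_eq_right ℳ 𝒟M βM hDM hm d, hmψ _ (decompose 𝒟M d (-n)).2,
    betaF_g_eq k R F ℱ DM 𝒟M DF 𝒟F βF hDF g hg hx d]
  rfl

include hposR h0R hDM hDF hg in
lemma exists_all (x : F) : ∃ m : M, ∀ d : DM, βM d m = βF (g d) x := by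
  induction x using Decomposition.inductionOn ℱ with
  | zero => exact ⟨0, fun d => by simp⟩
  | @homogeneous i x =>
    obtain ⟨m, -, hm⟩ := exists_hom k R 𝒜 hposR h0R F ℱ M ℳ DM 𝒟M βM hDM DF 𝒟F βF hDF g hg x.2
    exact ⟨m, hm⟩
  | add x x' hx hx' =>
    obtain ⟨m, hm⟩ := hx
    obtain ⟨m', hm'⟩ := hx'
    exact ⟨m + m', fun d => by rw [map_add, map_add, hm, hm']⟩

include hposR h0R hDM hDF hg in
theorem result' : ∃! f : F →ₗ[R] M, GrLC.IsGrHom ℱ ℳ f ∧ GrSeg.IsGDualMap βM βF f g := by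
  have hex := exists_all k R 𝒜 hposR h0R F ℱ M ℳ DM 𝒟M βM hDM DF 𝒟F βF hDF g hg
  choose f₀ hf₀ using hex
  have sep : ∀ m m' : M, (∀ d : DM, βM d m = βM d m') → m = m' := by
    intro m m' h
    rw [← sub_eq_zero]
    apply eq_zero_of_forall ℳ 𝒟M βM hDM
    intro d
    rw [map_sub, h d, sub_self]
  let f : F →ₗ[R] M :=
    { toFun := f₀
      map_add' := by
        intro x y
        apply sep
        intro d
        rw [map_add, hf₀, hf₀, hf₀, map_add]
      map_smul' := by
        intro r x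
        apply sep
        intro d
        rw [RingHom.id_apply, hf₀, ← hDM.map_smul, hf₀, ← hDF.map_smul, g.map_smul r d] }
  have hf : ∀ x, f x = f₀ x := fun x => rfl
  refine ⟨f, ⟨?_, ?_⟩, ?_⟩
  · intro n x hx
    obtain ⟨m, hm, hmd⟩ :=
      exists_hom k R 𝒜 hposR h0R F ℱ M ℳ DM 𝒟M βM hDM DF 𝒟F βF hDF g hg hx
    have : f x = m := by
      apply sep
      intro d
      rw [hf, hf₀, hmd]
    rw [this]; exact hm
  · intro d x
    rw [hf, hf₀]
  · rintro f' ⟨-, hf'⟩
    ext x
    apply sep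
    intro d
    rw [hf, hf₀, ← hf' d x]

end main


/-- Let R = ⊕_{n ≥ 0} R_n be a Noetherian graded ring with R_0 = k a field. The graded k-dual is an
equivalence between Noetherian graded R-modules and the opposite category of Artinian graded
R-modules; on morphisms: for finitely generated graded R-modules F and M, every homomorphism of
graded R-modules g : M^* → F^* is f^* for a unique homomorphism of graded R-modules f : F → M. Here
a graded ring defined over k is a commutative k-algebra of finite type, graded in nonnegative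
degrees by k-subspaces with degree-zero part k·1, and R_+ is the ideal spanned by the R_n with n > 0
(a Noetherian such ring is the same as one of finite type over k); the graded k-dual M^* = ⊕_n
Hom_k(M_{−n}, k) of a graded R-module M (with r ∈ R acting by (r f)(x) = f(r x)) is presented
abstractly as a graded R-module D with a k-bilinear pairing β : D × M → k compatible with the
R-actions, under which D_n pairs to zero with M_m for m ≠ −n and is identified with the full dual
space of M_{−n}; f^* = g means β_F(g d, x) = β_M(d, f x) for all d and x. -/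
theorem result (k : Type u) [Field k] (R : Type u) [CommRing R] [Algebra k R] (𝒜 : ℤ → Submodule k R) [GradedAlgebra 𝒜] (hposR : ∀ n : ℤ, n < 0 → 𝒜 n = ⊥) (h0R : 𝒜 0 = Submodule.span k {(1 : R)}) [Algebra.FiniteType k R] (F : Type u) [AddCommGroup F] [Module R F] [Module k F] [IsScalarTower k R F] (ℱ : ℤ → AddSubgroup F) [DirectSum.Decomposition ℱ] [SetLike.GradedSMul 𝒜 ℱ] [Module.Finite R F] (M : Type u) [AddCommGroup M] [Module R M] [Module k M] [IsScalarTower k R M] (ℳ : ℤ → AddSubgroup M) [DirectSum.Decomposition ℳ] [SetLike.GradedSMul 𝒜 ℳ] [Module.Finite R M] (DM : Type u) [AddCommGroup DM] [Module R DM] [Module k DM] [IsScalarTower k R DM] (𝒟M : ℤ → AddSubgroup DM) [DirectSum.Decomposition 𝒟M] [SetLike.GradedSMul 𝒜 𝒟M] (βM : DM →ₗ[k] M →ₗ[k] k) (hDM : GrSeg.IsGDual R ℳ 𝒟M βM) (DF : Type u) [AddCommGroup DF] [Module R DF] [Module k DF] [IsScalarTower k R DF] (𝒟F : ℤ → AddSubgroup DF) [DirectSum.Decomposition 𝒟F] [SetLike.GradedSMul 𝒜 𝒟F] (βF : DF →ₗ[k]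 F →ₗ[k] k) (hDF : GrSeg.IsGDual R ℱ 𝒟F βF) (g : DM →ₗ[R] DF) (hg : GrLC.IsGrHom 𝒟M 𝒟F g) : ∃! f : F →ₗ[R] M, GrLC.IsGrHom ℱ ℳ f ∧ GrSeg.IsGDualMap βM βF f g := by
  exact result' k R 𝒜 hposR h0R F ℱ M ℳ DM 𝒟M βM hDM DF 𝒟F βF hDF g hg

end Groth.Agent.S19762
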