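import Groth.Statements.S19751
import Groth.Agent.S19762

set_option autoImplicit false
universe u
open GrDual

namespace Groth.Agent.S19751

open DirectSum Groth.Agent.S19762

set_option linter.unusedSectionVars false
set_option linter.style.haveILetI false

section duality

variable {k : Type u} [Field k] {R : Type u} [CommRing R] [Algebra k R]
  (𝒜 : ℤ → Submodule k R) [GradedAlgebra 𝒜]
  {M : Type u} [AddCommGroup M] [Module R M] [Module k M] [IsScalarTower k R M]
  (ℳ : ℤ → AddSubgroup M) [DirectSum.Decomposition ℳ] [SetLike.GradedSMul 𝒜 ℳ]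
  {D : Type u} [AddCommGroup D] [Module R D] [Module k D] [IsScalarTower k R D]
  (𝒟 : ℤ → AddSubgroup D) [DirectSum.Decomposition 𝒟] [SetLike.GradedSMul 𝒜 𝒟]
  (β : D →ₗ[k] M →ₗ[k] k)

/-- an element all of whose components vanish is zero -/
lemma eq_zero_of_decompose_eq_zero (x : M) (h : ∀ n, (decompose ℳ x n : M) = 0) : x = 0 := by
  have h0 : decompose ℳ x = 0 := by
    ext n; simpa using h n
  exact (decompose ℳ).injective (h0.trans (decompose_zero ℳ).symm)

/-- separation on the dual side -/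
lemma eq_zero_of_forall_left (hD : GrSeg.IsGDual R ℳ 𝒟 β) (d : D) (h : ∀ m : M, β d m = 0) :
    d = 0 := by
  apply eq_zero_of_decompose_eq_zero 𝒟
  intro n
  apply hD.eq_zero n _ (decompose 𝒟 d n).2
  intro x hx
  have := beta_eq_right ℳ 𝒟 β hD hx d
  rw [neg_neg] at this
  rw [← this, h]

/-- a homogeneous element of a degree different from `n` has zero `n`-component; an element equal
to its `n`-component is homogeneous. -/
lemma mem_of_decompose_eq (x : M) (n : ℤ) (h : (decompose ℳ x n : M) = x) : x ∈ ℳ n := by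
  rw [← h]; exact (decompose ℳ x n).2

end duality



section bounded

variable {k : Type u} [Field k] {R : Type u} [CommRing R] [Algebra k R]
  (𝒜 : ℤ → Submodule k R) [GradedAlgebra 𝒜] (hpos : ∀ n : ℤ, n < 0 → 𝒜 n = ⊥)
  {M : Type u} [AddCommGroup M] [Module R M] [Module k M] [IsScalarTower k R M]
  (ℳ : ℤ → AddSubgroup M) [DirectSum.Decomposition ℳ] [SetLike.GradedSMul 𝒜 ℳ]

lemma tail_anti {a b : ℤ} (h : a ≤ b) : tail 𝒜 ℳ hpos b ≤ tail 𝒜 ℳ hpos a :=
  fun _ hx j hj => hx j (lt_of_lt_of_le hj h)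

lemma exists_mem_tail (x : M) : ∃ a : ℤ, x ∈ tail 𝒜 ℳ hpos a := by
  classical
  by_cases hne : (decompose ℳ x).support.Nonempty
  · refine ⟨(decompose ℳ x).support.min' hne, fun j hj => ?_⟩
    by_contra h0
    have hmem : j ∈ (decompose ℳ x).support := by
      rw [DFinsupp.mem_support_toFun]
      intro h
      exact h0 (by rw [h]; rfl)
    have := Finset.min'_le _ j hmem
    omega
  · refine ⟨0, fun j _ => ?_⟩
    rw [Finset.not_nonempty_iff_eq_empty] at hne
    by_contra h0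
    have hmem : j ∈ (decompose ℳ x).support := by
      rw [DFinsupp.mem_support_toFun]
      intro h
      exact h0 (by rw [h]; rfl)
    rw [hne] at hmem
    exact absurd hmem (Finset.notMem_empty _)

lemma exists_tail_eq_top [Module.Finite R M] : ∃ a : ℤ, tail 𝒜 ℳ hpos a = ⊤ := by
  classical
  obtain ⟨S, hS⟩ := (Module.Finite.fg_top : (⊤ : Submodule R M).FG)
  have key : ∀ T : Finset M, ∃ a : ℤ, ∀ s ∈ T, s ∈ tail 𝒜 ℳ hpos a := by
    intro T
    induction T using Finset.induction_on with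
    | empty => exact ⟨0, fun s hs => absurd hs (Finset.notMem_empty _)⟩
    | insert x T _ ih =>
      obtain ⟨a, ha⟩ := ih
      obtain ⟨b, hb⟩ := exists_mem_tail 𝒜 hpos ℳ x
      refine ⟨min a b, fun s hs => ?_⟩
      rcases Finset.mem_insert.mp hs with rfl | hs
      · exact tail_anti 𝒜 hpos ℳ (min_le_right a b) hb
      · exact tail_anti 𝒜 hpos ℳ (min_le_left a b) (ha s hs)
  obtain ⟨a, ha⟩ := key S
  refine ⟨a, ?_⟩
  rw [eq_top_iff, ← hS, Submodule.span_le]
  exact ha

include hpos in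
/-- a finite graded module over a nonnegatively graded ring is bounded below -/
lemma exists_bound [Module.Finite R M] : ∃ a : ℤ, ∀ j < a, ∀ x ∈ ℳ j, x = 0 := by
  obtain ⟨a, ha⟩ := exists_tail_eq_top 𝒜 hpos ℳ
  refine ⟨a, fun j hj x hx => ?_⟩
  have : x ∈ tail 𝒜 ℳ hpos a := ha ▸ Submodule.mem_top
  have h := this j hj
  rwa [decompose_of_mem_same ℳ hx] at h

end bounded

section main

variable (k : Type u) [Field k] (R : Type u) [CommRing R] [Algebra k R] (𝒜 : ℤ → Submodule k R)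
  [GradedAlgebra 𝒜] (hposR : ∀ n : ℤ, n < 0 → 𝒜 n = ⊥) (h0R : 𝒜 0 = Submodule.span k {(1 : R)})
  (F : Type u) [AddCommGroup F] [Module R F] [Module k F]
  [IsScalarTower k R F] (ℱ : ℤ → AddSubgroup F) [DirectSum.Decomposition ℱ]
  [SetLike.GradedSMul 𝒜 ℱ] (M : Type u) [AddCommGroup M] [Module R M]
  [Module k M] [IsScalarTower k R M] (ℳ : ℤ → AddSubgroup M) [DirectSum.Decomposition ℳ]
  [SetLike.GradedSMul 𝒜 ℳ] (f : F →ₗ[R] M) (hf : Function.Surjective f)
  (hfgr : GrLC.IsGrHom ℱ ℳ f)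
  (DM : Type u) [AddCommGroup DM] [Module R DM]
  [Module k DM] [IsScalarTower k R DM] (𝒟M : ℤ → AddSubgroup DM) [DirectSum.Decomposition 𝒟M]
  [SetLike.GradedSMul 𝒜 𝒟M] (βM : DM →ₗ[k] M →ₗ[k] k) (hDM : GrSeg.IsGDual R ℳ 𝒟M βM)
  (DF : Type u) [AddCommGroup DF] [Module R DF] [Module k DF] [IsScalarTower k R DF]
  (𝒟F : ℤ → AddSubgroup DF) [DirectSum.Decomposition 𝒟F] [SetLike.GradedSMul 𝒜 𝒟F]
  (βF : DF →ₗ[k] F →ₗ[k] k) (hDF : GrSeg.IsGDual R ℱ 𝒟F βF) (g : DM →ₗ[R] DF)
  (hg : GrSeg.IsGDualMap βM βF f g)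

include hfgr hDM hDF hg in
/-- the dual map is graded -/
lemma isGrHom_g : GrLC.IsGrHom 𝒟M 𝒟F g := by
  intro n d hd
  apply mem_of_decompose_eq 𝒟F
  rw [← sub_eq_zero]
  apply eq_zero_of_forall_left ℱ 𝒟F βF hDF
  intro x
  induction x using Decomposition.inductionOn ℱ with
  | zero => simp
  | @homogeneous j x =>
    rw [map_sub, LinearMap.sub_apply, sub_eq_zero]
    by_cases hj : j = -n
    · subst hj
      have := beta_eq_right ℱ 𝒟F βF hDF x.2 (g d)
      rw [neg_neg] at this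
      rw [this]
    · rw [hDF.vanish n _ (decompose 𝒟F (g d) n).2 j hj x x.2, hg d x]
      exact (hDM.vanish n d hd j hj (f x) (hfgr j x x.2)).symm
  | add x x' hx hx' =>
    rw [map_add, hx, hx', add_zero]

include hf hDM hg in
lemma injective_g : Function.Injective g := by
  rw [← LinearMap.ker_eq_bot, Submodule.eq_bot_iff]
  intro d hd
  rw [LinearMap.mem_ker] at hd
  apply eq_zero_of_forall_left ℳ 𝒟M βM hDM
  intro m
  obtain ⟨x, rfl⟩ := hf m
  rw [← hg d x, hd, map_zero, LinearMap.zero_apply]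

include hf hfgr hDM hDF hg in
/-- homogeneous elements orthogonal to the kernel are in the range of the dual map -/
lemma mem_range_g {n : ℤ} {e : DF} (he : e ∈ 𝒟F n) (hK : ∀ x ∈ LinearMap.ker f, βF e x = 0) :
    e ∈ LinearMap.range g := by
  obtain ⟨s, hs⟩ := (f.restrictScalars k).exists_rightInverse_of_surjective
    (LinearMap.range_eq_top.mpr hf)
  have hs' : ∀ m, f (s m) = m := fun m => LinearMap.congr_fun hs m
  let ψ : M →ₗ[k] k := (βF e) ∘ₗ s
  have hψ : ∀ x, ψ (f x) = βF e x := by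
    intro x
    have : s (f x) - x ∈ LinearMap.ker f := by
      rw [LinearMap.mem_ker, map_sub, hs', sub_self]
    have h := hK _ this
    rw [map_sub, sub_eq_zero] at h
    exact h
  obtain ⟨d, hd, hdψ⟩ := hDM.exists_eq n ψ
  refine ⟨d, ?_⟩
  rw [← sub_eq_zero]
  have hgd : g d ∈ 𝒟F n :=
    isGrHom_g k R F ℱ M ℳ f hfgr DM 𝒟M βM hDM DF 𝒟F βF hDF g hg n d hd
  apply hDF.eq_zero n _ (sub_mem hgd he)
  intro x hx
  rw [map_sub, LinearMap.sub_apply, sub_eq_zero, hg d x, hdψ _ (hfgr _ x hx), hψ]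


variable [Module.Finite R F] (mR : HomogeneousIdeal 𝒜)
  (hmR : mR.toIdeal = Ideal.span (⋃ n ∈ Set.Ioi (0 : ℤ), (𝒜 n : Set R)))

include hmR hDF in
/-- socle elements are orthogonal to `mF` -/
lemma socle_orth {e : DF} (he : ∀ i : ℤ, 0 < i → ∀ r ∈ 𝒜 i, r • e = 0) :
    ∀ y ∈ mR.toIdeal • (⊤ : Submodule R F), βF e y = 0 := by
  have h1 : ∀ r ∈ mR.toIdeal, r • e = 0 := by
    intro r hr
    rw [hmR] at hr
    induction hr using Submodule.span_induction with
    | mem r hr =>
      simp only [Set.mem_iUnion] at hr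
      obtain ⟨i, hi, hr⟩ := hr
      exact he i hi r hr
    | zero => simp
    | add a b _ _ ha hb => rw [add_smul, ha, hb, add_zero]
    | smul a r _ hr => rw [smul_eq_mul, mul_smul, hr, smul_zero]
  intro y hy
  refine Submodule.smul_induction_on hy (fun r hr x _ => ?_) (fun x y hx hy => ?_)
  · rw [← hDF.map_smul, h1 r hr, map_zero, LinearMap.zero_apply]
  · rw [map_add, hx, hy, add_zero]

include hposR hf hfgr hDM hDF hg hmR in
lemma forward (hK : LinearMap.ker f ≤ mR.toIdeal • (⊤ : Submodule R F)) :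
    GrLC.IsStarEss 𝒟M 𝒟F g := by
  refine ⟨injective_g k R F M ℳ f hf DM 𝒟M βM hDM DF βF g hg,
    isGrHom_g k R F ℱ M ℳ f hfgr DM 𝒟M βM hDM DF 𝒟F βF hDF g hg, ?_⟩
  intro P hP hPne
  obtain ⟨a, ha⟩ := exists_bound 𝒜 hposR ℱ
  have hbd : ∀ n : ℤ, -a < n → ∀ e ∈ 𝒟F n, e = 0 := by
    intro n hn e he
    apply hDF.eq_zero n e he
    intro x hx
    rw [ha (-n) (by omega) x hx, map_zero]
  obtain ⟨z, hzP, hz0⟩ := Submodule.exists_mem_ne_zero_of_ne_bot hPne
  have : ∃ n, (decompose 𝒟F z n : DF) ≠ 0 := by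
    by_contra hall
    push Not at hall
    exact hz0 (eq_zero_of_decompose_eq_zero 𝒟F z hall)
  obtain ⟨n₀, hn₀⟩ := this
  let S : ℤ → Prop := fun n => ∃ e ∈ P, e ∈ 𝒟F n ∧ e ≠ 0
  have hS0 : S n₀ := ⟨_, hP n₀ hzP, (decompose 𝒟F z n₀).2, hn₀⟩
  have hSbd : ∀ n, S n → n ≤ -a := by
    rintro n ⟨e, _, he, he0⟩
    by_contra hcon
    exact he0 (hbd n (by omega) e he)
  obtain ⟨n, ⟨e, heP, hen, he0⟩, hmax⟩ := Int.exists_greatest_of_bdd ⟨-a, hSbd⟩ ⟨n₀, hS0⟩
  have hsoc : ∀ i : ℤ, 0 < i → ∀ r ∈ 𝒜 i, r • e = 0 := by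
    intro i hi r hr
    by_contra hne
    have h1 : S (i + n) := ⟨r • e, P.smul_mem r heP, smul_mem_add 𝒜 𝒟F hr hen, hne⟩
    have := hmax _ h1
    omega
  have horth := socle_orth k R 𝒜 F ℱ DF 𝒟F βF hDF mR hmR hsoc
  have hrange : e ∈ LinearMap.range g :=
    mem_range_g k R F ℱ M ℳ f hf hfgr DM 𝒟M βM hDM DF 𝒟F βF hDF g hg hen
      (fun x hx => horth x (hK hx))
  intro hbot
  have : e ∈ P ⊓ LinearMap.range g := ⟨heP, hrange⟩
  rw [hbot] at this
  exact he0 ((Submodule.mem_bot R).mp this)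


include hfgr in
/-- graded maps commute with components -/
lemma f_decompose (x : F) (j : ℤ) : f (decompose ℱ x j : F) = (decompose ℳ (f x) j : M) := by
  induction x using Decomposition.inductionOn ℱ with
  | zero => simp
  | @homogeneous i x =>
    by_cases hi : i = j
    · subst hi
      rw [decompose_of_mem_same ℱ x.2, decompose_of_mem_same ℳ (hfgr _ _ x.2)]
    · rw [decompose_of_mem_ne ℱ x.2 hi, decompose_of_mem_ne ℳ (hfgr _ _ x.2) hi, map_zero]
  | add x x' hx hx' =>
    rw [decompose_add, DirectSum.add_apply, AddSubgroup.coe_add, map_add, hx, hx', map_add,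
      decompose_add, DirectSum.add_apply, AddSubgroup.coe_add]

include hposR h0R hDF hmR in
/-- a socle element spans a homogeneous line -/
lemma smul_socle {e : DF} (hsoc : ∀ i : ℤ, 0 < i → ∀ r ∈ 𝒜 i, r • e = 0) (r : R) :
    ∃ c : k, r • e = c • e := by
  induction r using Decomposition.inductionOn 𝒜 with
  | zero => exact ⟨0, by simp⟩
  | @homogeneous i r =>
    rcases lt_trichotomy i 0 with hi | hi | hi
    · refine ⟨0, ?_⟩
      rw [eq_zero_of_neg 𝒜 hposR hi r.2]; simp
    · subst hi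
      have hr0 : (r : R) ∈ Submodule.span k {(1 : R)} := h0R ▸ r.2
      obtain ⟨c, hc⟩ := Submodule.mem_span_singleton.mp hr0
      exact ⟨c, by rw [← hc, smul_assoc, one_smul]⟩
    · exact ⟨0, by rw [hsoc i hi r r.2, zero_smul]⟩
  | add r r' hr hr' =>
    obtain ⟨c, hc⟩ := hr
    obtain ⟨c', hc'⟩ := hr'
    exact ⟨c + c', by rw [add_smul, add_smul, hc, hc']⟩

include hposR h0R hfgr hDM hDF hg hmR in
lemma backward (hess : GrLC.IsStarEss 𝒟M 𝒟F g) :
    LinearMap.ker f ≤ mR.toIdeal • (⊤ : Submodule R F) := by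
  classical
  have key : ∀ j : ℤ, ∀ x ∈ ℱ j, f x = 0 → x ∈ mR.toIdeal • (⊤ : Submodule R F) := by
    intro j x hxj hfx
    by_contra hnot
    set N : Submodule R F := mR.toIdeal • (⊤ : Submodule R F) with hN
    set V : Submodule k F := pc 𝒜 ℱ j ⊓ N.restrictScalars k with hV
    have hxV : x ∉ V := fun h => hnot h.2
    obtain ⟨φ, hφx, hφV⟩ := Submodule.exists_dual_map_eq_bot_of_notMem hxV inferInstance
    have hφV' : ∀ v ∈ V, φ v = 0 := by
      intro v hv
      have : φ v ∈ V.map φ := Submodule.mem_map_of_mem hv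
      rw [hφV] at this
      exact (Submodule.mem_bot k).mp this
    obtain ⟨e, he, heφ⟩ := hDF.exists_eq (-j) φ
    rw [neg_neg] at heφ
    have he0 : e ≠ 0 := by
      rintro rfl
      have := heφ x hxj
      rw [map_zero, LinearMap.zero_apply] at this
      exact hφx this.symm
    have hsoc : ∀ i : ℤ, 0 < i → ∀ r ∈ 𝒜 i, r • e = 0 := by
      intro i hi r hr
      apply hDF.eq_zero (i + -j) _ (smul_mem_add 𝒜 𝒟F hr he)
      intro y hy
      have hry : r • y ∈ ℱ j := by
        have := smul_mem_add 𝒜 ℱ hr hy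
        have hij : i + -(i + -j) = j := by ring
        rwa [hij] at this
      have hrm : r ∈ mR.toIdeal := by
        rw [hmR]
        apply Ideal.subset_span
        simp only [Set.mem_iUnion]
        exact ⟨i, hi, hr⟩
      have hryV : r • y ∈ V := ⟨hry, Submodule.smul_mem_smul hrm Submodule.mem_top⟩
      rw [hDF.map_smul, heφ _ hry, hφV' _ hryV]
    -- the homogeneous line
    let P : Submodule R DF := Submodule.span R {e}
    have hPform : ∀ z ∈ P, ∃ c : k, z = c • e := by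
      intro z hz
      obtain ⟨r, rfl⟩ := Submodule.mem_span_singleton.mp hz
      exact smul_socle k R 𝒜 hposR h0R F ℱ DF 𝒟F βF hDF mR hmR hsoc r
    have heP : e ∈ P := Submodule.mem_span_singleton_self e
    have hPhom : P.IsHomogeneous 𝒟F := by
      intro i z hz
      obtain ⟨c, rfl⟩ := hPform z hz
      have hce : c • e ∈ 𝒟F (-j) := (pc 𝒜 𝒟F (-j)).smul_mem c he
      by_cases hi : -j = i
      · subst hi
        rw [decompose_of_mem_same 𝒟F hce]; exact hz
      · rw [decompose_of_mem_ne 𝒟F hce hi]; exact P.zero_mem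
    have hPne : P ≠ ⊥ := by
      intro h
      rw [h] at heP
      exact he0 ((Submodule.mem_bot R).mp heP)
    have hmeet := hess.essential P hPhom hPne
    obtain ⟨z, hz, hz0⟩ := Submodule.exists_mem_ne_zero_of_ne_bot hmeet
    obtain ⟨c, rfl⟩ := hPform z hz.1
    obtain ⟨d, hd⟩ := hz.2
    have h1 : βF (c • e) x = 0 := by
      rw [← hd, hg d x, hfx, map_zero]
    rw [map_smul, LinearMap.smul_apply, heφ x hxj, smul_eq_mul] at h1
    rcases mul_eq_zero.mp h1 with hc | hφ0
    · exact hz0 (by rw [hc, zero_smul])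
    · exact hφx hφ0
  intro x hx
  rw [LinearMap.mem_ker] at hx
  rw [← DirectSum.sum_support_decompose ℱ x]
  apply Submodule.sum_mem
  intro j _
  apply key j _ (decompose ℱ x j).2
  rw [f_decompose R F ℱ M ℳ f hfgr, hx, decompose_zero]
  rfl


include hposR h0R hf hfgr hDM hDF hg hmR in
theorem result' : LinearMap.ker f ≤ mR.toIdeal • (⊤ : Submodule R F) ↔ GrLC.IsStarEss 𝒟M 𝒟F g :=
  ⟨forward k R 𝒜 hposR F ℱ M ℳ f hf hfgr DM 𝒟M βM hDM DF 𝒟F βF hDF g hg mR hmR,
    backward k R 𝒜 hposR h0R F ℱ M ℳ f hfgr DM 𝒟M βM hDM DF 𝒟F βF hDF g hg mR hmR⟩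

end main


/-- Let R be a graded ring defined over a field k with m = R_+, let F and M be finitely generated graded
R-modules and f : F → M a surjective homomorphism of graded R-modules, with dual f^* : M^* → F^* on
graded k-duals. Then f is minimal, that is Ker f ⊆ m F, if and only if f^* is essential: an
injective homomorphism of graded modules such that every nonzero graded submodule of F^* meets its
image. Here a graded ring defined over k is a commutative k-algebra of finite type, graded in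
nonnegative degrees by k-subspaces with degree-zero part k·1, and R_+ is the ideal spanned by the
R_n with n > 0; the graded k-dual M^* = ⊕_n Hom_k(M_{−n}, k) of a graded R-module M (with r ∈ R
acting by (r f)(x) = f(r x)) is presented abstractly as a graded R-module D with a k-bilinear
pairing β : D × M → k compatible with the R-actions, under which D_n pairs to zero with M_m for m ≠
−n and is identified with the full dual space of M_{−n}; f^* is presented as the R-linear map g :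
M^* → F^* with β_F(g d, x) = β_M(d, f x). -/
theorem result (k : Type u) [Field k] (R : Type u) [CommRing R] [Algebra k R] (𝒜 : ℤ → Submodule k R) [GradedAlgebra 𝒜] (hposR : ∀ n : ℤ, n < 0 → 𝒜 n = ⊥) (h0R : 𝒜 0 = Submodule.span k {(1 : R)}) [Algebra.FiniteType k R] (mR : HomogeneousIdeal 𝒜) (hmR : mR.toIdeal = Ideal.span (⋃ n ∈ Set.Ioi (0 : ℤ), (𝒜 n : Set R))) (F : Type u) [AddCommGroup F] [Module R F] [Module k F] [IsScalarTower k R F] (ℱ : ℤ → AddSubgroup F) [DirectSum.Decomposition ℱ] [SetLike.GradedSMul 𝒜 ℱ] [Module.Finite R F] (M : Type u) [AddCommGroup M] [Module R M] [Module k M] [IsScalarTower k R M] (ℳ : ℤ → AddSubgroup M) [DirectSum.Decomposition ℳ] [SetLike.GradedSMul 𝒜 ℳ] [Module.Finite R M] (f : F →ₗ[R] M) (hf : Function.Surjective f) (hfgr : GrLC.IsGrHom ℱ ℳ f) (DM : Type u) [AddCommGroup DM] [Module R DM] [Module k DM] [IsScalarTower k R DM] (𝒟M : ℤ → AddSubgroup DM) [DirectSum.Decomposition 𝒟M] [SetLike.GradedSMul 𝒜 𝒟M] (βM : DM →ₗ[k]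 M →ₗ[k] k) (hDM : GrSeg.IsGDual R ℳ 𝒟M βM) (DF : Type u) [AddCommGroup DF] [Module R DF] [Module k DF] [IsScalarTower k R DF] (𝒟F : ℤ → AddSubgroup DF) [DirectSum.Decomposition 𝒟F] [SetLike.GradedSMul 𝒜 𝒟F] (βF : DF →ₗ[k] F →ₗ[k] k) (hDF : GrSeg.IsGDual R ℱ 𝒟F βF) (g : DM →ₗ[R] DF) (hg : GrSeg.IsGDualMap βM βF f g) : LinearMap.ker f ≤ mR.toIdeal • (⊤ : Submodule R F) ↔ GrLC.IsStarEss 𝒟M 𝒟F g := by
  exact result' k R 𝒜 hposR h0R F ℱ M ℳ f hf hfgr DM 𝒟M βM hDM DF 𝒟F βF hDF g hg mR hmR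

end Groth.Agent.S19751
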