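import Groth.Statements.S19752
import Groth.Agent.Lib.H2GrDual

set_option autoImplicit false
universe u
open GrDual

namespace Groth.Agent.S19752

open DirectSum Groth.Agent.Lib.H2GrDual

set_option linter.unusedSectionVars false

section starInj

variable {k : Type u} [Field k] {R : Type u} [CommRing R] [Algebra k R]
  (𝒜 : ℤ → Submodule k R) [GradedAlgebra 𝒜]
  {D : Type u} [AddCommGroup D] [Module R D] [Module k D] [IsScalarTower k R D]
  (𝒟 : ℤ → AddSubgroup D) [DirectSum.Decomposition 𝒟] [SetLike.GradedSMul 𝒜 𝒟]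
  (β : D →ₗ[k] R →ₗ[k] k) (hD : GrSeg.IsGDual R 𝒜 𝒟 β)
  {A : Type u} [AddCommGroup A] [Module R A] [Module k A] [IsScalarTower k R A]
  (𝒜A : ℤ → AddSubgroup A) [DirectSum.Decomposition 𝒜A] [SetLike.GradedSMul 𝒜 𝒜A]
  {B : Type u} [AddCommGroup B] [Module R B] [Module k B] [IsScalarTower k R B]
  (ℬ : ℤ → AddSubgroup B) [DirectSum.Decomposition ℬ] [SetLike.GradedSMul 𝒜 ℬ]

/-- degree-zero projection as a `k`-linear map -/
noncomputable def proj0 : B →ₗ[k] B where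
  toFun b := (decompose ℬ b 0 : B)
  map_add' b b' := coe_decompose_add ℬ b b' 0
  map_smul' c b := by
    rw [RingHom.id_apply, ← algebraMap_smul R c b, ← algebraMap_smul R c (decompose ℬ b 0 : B)]
    have hc : algebraMap k R c ∈ 𝒜 0 := by
      rw [Algebra.algebraMap_eq_smul_one]
      exact (𝒜 0).smul_mem c SetLike.GradedOne.one_mem
    have := decompose_smul_left 𝒜 ℬ hc b 0
    rwa [zero_add] at this

lemma proj0_apply (b : B) : proj0 𝒜 ℬ b = (decompose ℬ b 0 : B) := rfl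

include hD in
theorem extend (f : A →ₗ[R] B) (hf : GrLC.IsGrHom 𝒜A ℬ f) (hinj : Function.Injective f)
    (g : A →ₗ[R] D) (hg : GrLC.IsGrHom 𝒜A 𝒟 g) :
    ∃ h : B →ₗ[R] D, GrLC.IsGrHom ℬ 𝒟 h ∧ h ∘ₗ f = g := by
  have h1R : (1 : R) ∈ 𝒜 0 := SetLike.GradedOne.one_mem
  -- the functional on `A`
  let lamA : A →ₗ[k] k := (β.flip 1) ∘ₗ (g.restrictScalars k)
  have hlamA : ∀ a, lamA a = β (g a) 1 := fun a => rfl
  obtain ⟨s, hs⟩ := (f.restrictScalars k).exists_leftInverse_of_injective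
    (LinearMap.ker_eq_bot.mpr hinj)
  have hs' : ∀ a, s (f a) = a := fun a => LinearMap.congr_fun hs a
  let Lam : B →ₗ[k] k := lamA ∘ₗ s ∘ₗ proj0 𝒜 ℬ
  have hLam : ∀ b, Lam b = β (g (s (decompose ℬ b 0 : B))) 1 := fun b => rfl
  -- the pairing
  let Φ : B →ₗ[k] R →ₗ[k] k := LinearMap.mk₂ k (fun b r => Lam (r • b))
    (fun b b' r => by rw [smul_add, map_add])
    (fun c b r => by rw [smul_comm, map_smul])
    (fun b r r' => by rw [add_smul, map_add])
    (fun c b r => by rw [smul_assoc, map_smul])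
  have hΦ : ∀ b r, Φ b r = Lam (r • b) := fun b r => rfl
  have hΦsmul : ∀ (r : R) (b : B) (x : R), Φ (r • b) x = Φ b (r • x) := by
    intro r b x
    rw [hΦ, hΦ, smul_eq_mul, mul_smul, smul_comm]
  have hΦvan : ∀ (n : ℤ) (b : B), b ∈ ℬ n → ∀ m : ℤ, m ≠ -n → ∀ x : R, x ∈ 𝒜 m → Φ b x = 0 := by
    intro n b hb m hm x hx
    have hxb : x • b ∈ ℬ (m + n) := smul_mem_add 𝒜 ℬ hx hb
    have hne : m + n ≠ 0 := fun h => hm (by omega)
    rw [hΦ, hLam, decompose_of_mem_ne ℬ hxb hne, map_zero, map_zero, map_zero,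
      LinearMap.zero_apply]
  obtain ⟨h, hhgr, hh⟩ := exists_hom_of_pairing 𝒜 𝒟 β ℬ Φ hD hΦsmul hΦvan
  refine ⟨h, hhgr, ?_⟩
  ext a
  rw [LinearMap.comp_apply, ← sub_eq_zero]
  apply eq_zero_of_forall_left 𝒜 𝒟 β hD
  intro r
  rw [map_sub, LinearMap.sub_apply, sub_eq_zero, hh, hΦ, hLam, ← map_smul,
    ← map_decompose 𝒜A ℬ f hf, hs', map_decompose 𝒜A 𝒟 g hg]
  have e1 := beta_eq_right 𝒜 𝒟 β hD h1R (g (r • a))
  rw [neg_zero] at e1
  rw [← e1, map_smul, hD.map_smul, smul_eq_mul, mul_one]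


include hD in
theorem starInj : GrLC.IsStarInj 𝒜 𝒟 := by
  intro A B f hf hinj g hg
  letI : Module k A.carrier := Module.compHom A.carrier (algebraMap k R)
  haveI : IsScalarTower k R A.carrier := IsScalarTower.of_algebraMap_smul (fun r x => rfl)
  letI : Module k B.carrier := Module.compHom B.carrier (algebraMap k R)
  haveI : IsScalarTower k R B.carrier := IsScalarTower.of_algebraMap_smul (fun r x => rfl)
  exact extend 𝒜 𝒟 β hD A.gr B.gr f hf hinj g hg

end starInj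


section ess

variable {k : Type u} [Field k] {R : Type u} [CommRing R] [Algebra k R]
  (𝒜 : ℤ → Submodule k R) [GradedAlgebra 𝒜] (hposR : ∀ n : ℤ, n < 0 → 𝒜 n = ⊥)
  (h0R : 𝒜 0 = Submodule.span k {(1 : R)}) (mR : HomogeneousIdeal 𝒜)
  (hmR : mR.toIdeal = Ideal.span (⋃ n ∈ Set.Ioi (0 : ℤ), (𝒜 n : Set R)))
  {D : Type u} [AddCommGroup D] [Module R D] [Module k D] [IsScalarTower k R D]
  (𝒟 : ℤ → AddSubgroup D) [DirectSum.Decomposition 𝒟] [SetLike.GradedSMul 𝒜 𝒟]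
  (β : D →ₗ[k] R →ₗ[k] k) (hD : GrSeg.IsGDual R 𝒜 𝒟 β)
  (e : (R ⧸ mR.toIdeal) →ₗ[R] D) (he : Function.Injective e)
  (hegr : GrLC.IsGrHom (GrLC.quotGr 𝒜 mR) 𝒟 e)

include 𝒜 in
lemma ksmul_mem {n : ℤ} {d : D} (hd : d ∈ 𝒟 n) (c : k) : c • d ∈ 𝒟 n := by
  have hc : algebraMap k R c ∈ 𝒜 0 := by
    rw [Algebra.algebraMap_eq_smul_one]
    exact (𝒜 0).smul_mem c SetLike.GradedOne.one_mem
  have := smul_mem_add 𝒜 𝒟 hc hd
  rwa [zero_add, algebraMap_smul] at this

include hposR hD in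
lemma piece_pos_eq_zero {n : ℤ} (hn : 0 < n) {d : D} (hd : d ∈ 𝒟 n) : d = 0 := by
  apply hD.eq_zero n d hd
  intro x hx
  rw [hposR (-n) (by omega)] at hx
  rw [(Submodule.mem_bot k).mp hx, map_zero]

include hposR hD hmR in
lemma smul_eq_zero_of_mem_m {z : D} (hz : z ∈ 𝒟 0) {r : R} (hr : r ∈ mR.toIdeal) :
    r • z = 0 := by
  rw [hmR] at hr
  induction hr using Submodule.span_induction with
  | mem r hr =>
    simp only [Set.mem_iUnion] at hr
    obtain ⟨i, hi, hr⟩ := hr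
    exact piece_pos_eq_zero 𝒜 hposR 𝒟 β hD (n := i + 0) (by simpa using hi)
      (smul_mem_add 𝒜 𝒟 hr hz)
  | zero => simp
  | add a b _ _ ha hb => rw [add_smul, ha, hb, add_zero]
  | smul a r _ hr => rw [smul_eq_mul, mul_smul, hr, smul_zero]

include hposR h0R hmR hD he hegr in
lemma mem_range_of_deg_zero {z : D} (hz : z ∈ 𝒟 0) : z ∈ LinearMap.range e := by
  set u := e (Ideal.Quotient.mk mR.toIdeal 1) with hu
  have hu0 : u ∈ 𝒟 0 := hegr 0 _ ⟨1, (show (1 : R) ∈ 𝒜 0 from SetLike.GradedOne.one_mem), rfl⟩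
  have hvan0 : ∀ w ∈ 𝒟 0, β w 1 = 0 → w = 0 := by
    intro w hw hw1
    apply hD.eq_zero 0 w hw
    intro x hx
    rw [neg_zero, h0R] at hx
    obtain ⟨c, rfl⟩ := Submodule.mem_span_singleton.mp hx
    rw [map_smul, hw1, smul_zero]
  by_cases hc : β u 1 = 0
  · have hu_zero : u = 0 := hvan0 u hu0 hc
    have h1m : (1 : R) ∈ mR.toIdeal := by
      have := he (hu_zero.trans (map_zero e).symm)
      exact Ideal.Quotient.eq_zero_iff_mem.mp this
    have hz0 : z = 0 := by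
      have := smul_eq_zero_of_mem_m 𝒜 hposR mR hmR 𝒟 β hD hz h1m
      rwa [one_smul] at this
    rw [hz0]; exact zero_mem _
  · set c := β z 1 / β u 1 with hcdef
    have hzc : z - c • u = 0 := by
      apply hvan0
      · exact sub_mem hz (ksmul_mem 𝒜 𝒟 hu0 c)
      · rw [map_sub, LinearMap.sub_apply, map_smul, LinearMap.smul_apply, smul_eq_mul,
          div_mul_cancel₀ _ hc, sub_self]
    rw [sub_eq_zero] at hzc
    rw [hzc]
    refine ⟨algebraMap k R c • Ideal.Quotient.mk mR.toIdeal 1, ?_⟩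
    rw [map_smul, algebraMap_smul]

include hposR h0R hmR hD he hegr in
theorem starEss : GrLC.IsStarEss (GrLC.quotGr 𝒜 mR) 𝒟 e := by
  refine ⟨he, hegr, ?_⟩
  intro P hP hPne
  obtain ⟨z, hzP, hz0⟩ := Submodule.exists_mem_ne_zero_of_ne_bot hPne
  have : ∃ n, (decompose 𝒟 z n : D) ≠ 0 := by
    by_contra hall
    push Not at hall
    exact hz0 (eq_zero_of_decompose_eq_zero 𝒟 z hall)
  obtain ⟨n, hn⟩ := this
  set w : D := (decompose 𝒟 z n : D) with hw
  have hwP : w ∈ P := hP n hzP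
  have hwn : w ∈ 𝒟 n := (decompose 𝒟 z n).2
  obtain ⟨r, hr, hrw⟩ : ∃ r ∈ 𝒜 (-n), β w r ≠ 0 := by
    by_contra hcon
    push Not at hcon
    exact hn (hD.eq_zero n w hwn hcon)
  have hrw0 : r • w ∈ 𝒟 0 := by
    have := smul_mem_add 𝒜 𝒟 hr hwn
    rwa [neg_add_cancel] at this
  have hne : r • w ≠ 0 := by
    intro h0
    apply hrw
    have := hD.map_smul r w 1
    rw [h0, map_zero, LinearMap.zero_apply, smul_eq_mul, mul_one] at this
    exact this.symm
  intro hbot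
  have hmem : r • w ∈ P ⊓ LinearMap.range e :=
    ⟨P.smul_mem r hwP, mem_range_of_deg_zero 𝒜 hposR h0R mR hmR 𝒟 β hD e he hegr hrw0⟩
  rw [hbot] at hmem
  exact hne ((Submodule.mem_bot R).mp hmem)

end ess

theorem result' (k : Type u) [Field k] (R : Type u) [CommRing R] [Algebra k R] (𝒜 : ℤ → Submodule k R) [GradedAlgebra 𝒜] (hposR : ∀ n : ℤ, n < 0 → 𝒜 n = ⊥) (h0R : 𝒜 0 = Submodule.span k {(1 : R)}) (mR : HomogeneousIdeal 𝒜) (hmR : mR.toIdeal = Ideal.span (⋃ n ∈ Set.Ioi (0 : ℤ), (𝒜 n : Set R))) (D : Type u) [AddCommGroup D] [Module R D] [Module k D] [IsScalarTower k R D] (𝒟 : ℤ → AddSubgroup D) [DirectSum.Decomposition 𝒟] [SetLike.GradedSMul 𝒜 𝒟] (β : D →ₗ[k] R →ₗ[k] k) (hD : GrSeg.IsGDual R 𝒜 𝒟 β) (e : (R ⧸ mR.toIdeal) →ₗ[R] D) (he : Function.Injective e) (hegr : GrLC.IsGrHom (GrLC.quotGr 𝒜 mR) 𝒟 e) : GrLC.IsStarInjHull 𝒜 (GrLC.quotGr 𝒜 mR) 𝒟 e :=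
  { starEss 𝒜 hposR h0R mR hmR 𝒟 β hD e he hegr with
    starInj := starInj 𝒜 𝒟 β hD }


/-- Let R = ⊕_{n ≥ 0} R_n be a Noetherian graded ring with R_0 = k a field, m = R_+ and k = R/m. Then
the graded k-dual R^* = ⊕_n Hom_k(R_{−n}, k) is the injective envelope of R/m in the category of
graded R-modules: for every injective homomorphism of graded R-modules e : R/m → R^*, the module R^*
is an injective object of the graded category and every nonzero graded submodule of R^* meets the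
image of e. Here a graded ring defined over k is a commutative k-algebra of finite type, graded in
nonnegative degrees by k-subspaces with degree-zero part k·1, and R_+ is the ideal spanned by the
R_n with n > 0 (a Noetherian such ring is the same as one of finite type over k); the graded k-dual
M^* = ⊕_n Hom_k(M_{−n}, k) of a graded R-module M (with r ∈ R acting by (r f)(x) = f(r x)) is
presented abstractly as a graded R-module D with a k-bilinear pairing β : D × M → k compatible with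
the R-actions, under which D_n pairs to zero with M_m for m ≠ −n and is identified with the full
dual space of M_{−n}. -/
theorem result (k : Type u) [Field k] (R : Type u) [CommRing R] [Algebra k R] (𝒜 : ℤ → Submodule k R) [GradedAlgebra 𝒜] (hposR : ∀ n : ℤ, n < 0 → 𝒜 n = ⊥) (h0R : 𝒜 0 = Submodule.span k {(1 : R)}) [Algebra.FiniteType k R] (mR : HomogeneousIdeal 𝒜) (hmR : mR.toIdeal = Ideal.span (⋃ n ∈ Set.Ioi (0 : ℤ), (𝒜 n : Set R))) (D : Type u) [AddCommGroup D] [Module R D] [Module k D] [IsScalarTower k R D] (𝒟 : ℤ → AddSubgroup D) [DirectSum.Decomposition 𝒟] [SetLike.GradedSMul 𝒜 𝒟] (β : D →ₗ[k] R →ₗ[k] k) (hD : GrSeg.IsGDual R 𝒜 𝒟 β) (e : (R ⧸ mR.toIdeal) →ₗ[R] D) (he : Function.Injective e) (hegr : GrLC.IsGrHom (GrLC.quotGr 𝒜 mR) 𝒟 e) : GrLC.IsStarInjHull 𝒜 (GrLC.quotGr 𝒜 mR) 𝒟 e := by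
  exact result' k R 𝒜 hposR h0R mR hmR D 𝒟 β hD e he hegr

end Groth.Agent.S19752
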