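import Groth.Statements.S19759
import Groth.Agent.Lib.H74TopDual4
import Groth.Agent.Lib.H74TopDual5
import Groth.Agent.Lib.GrLCBridge

set_option autoImplicit false
universe u
open GrDual

namespace Groth.Agent.S19759

open DirectSum Groth.Agent.Lib.GrLCBridge Groth.Agent.Lib.H74TopDual in
theorem main (k : Type u) [Field k] (R : Type u) [CommRing R] [Algebra k R] (𝒜 : ℤ → Submodule k R) [GradedAlgebra 𝒜] [Algebra.FiniteType k R] (mR : HomogeneousIdeal 𝒜) (n : ℕ) (hn : ringKrullDim R = n) (I : GrLC.StarInjRes 𝒜 𝒜) [Module k (I.H mR n)] [IsScalarTower k R (I.H mR n)] [DirectSum.Decomposition (I.Hgr mR n)] (K : Type u) [AddCommGroup K] [Module R K] [Module k K] [IsScalarTower k R K] (𝒦 : ℤ → AddSubgroup K) [DirectSum.Decomposition 𝒦] [SetLike.GradedSMul 𝒜 𝒦] (βK : K →ₗ[k] I.H mR n →ₗ[k] k) (hK : GrSeg.IsGDual R (I.Hgr mR n) 𝒦 βK) (M : Type u) [AddCommGroup M] [Module R M] [Module k M] [IsScalarTower k R M] (ℳ : ℤ → AddSubgroup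 M) [DirectSum.Decomposition ℳ] [SetLike.GradedSMul 𝒜 ℳ] [Module.Finite R M] (EM : GrLC.StarInjRes 𝒜 ℳ) [Module k (EM.H mR n)] [IsScalarTower k R (EM.H mR n)] [DirectSum.Decomposition (EM.Hgr mR n)] (D : Type u) [AddCommGroup D] [Module R D] [Module k D] [IsScalarTower k R D] (𝒟 : ℤ → AddSubgroup D) [DirectSum.Decomposition 𝒟] [SetLike.GradedSMul 𝒜 𝒟] (βD : D →ₗ[k] EM.H mR n →ₗ[k] k) (hD : GrSeg.IsGDual R (EM.Hgr mR n) 𝒟 βD) : ∃ ε : D ≃ₗ[R] (M →ₗ[R] K), GrLC.IsGrHom 𝒟 (fun d : ℤ => (GrLC.homDeg 𝒜 ℳ 𝒦 d).toAddSubgroup) ε.toLinearMap := by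
  classical
  have hNoeth : IsNoetherianRing R := Algebra.FiniteType.isNoetherianRing k R
  have hv : TopVan (toSIdeal mR) n := topVan_of_dim (toSIdeal mR) n (le_of_eq hn)
  obtain ⟨s, dg, m, hm, hspan⟩ := exists_fin_gens' (asGr 𝒜) (asGr ℳ)
  -- the action
  let A : M →ₗ[R] (I.H mR n →ₗ[R] EM.H mR n) := Act (toSRes I) (toSRes EM) (toSIdeal mR) n
  have hAmem : ∀ {x : M} {j : ℤ} (_ : x ∈ ℳ j) {g : ℤ} {h : I.H mR n} (_ : h ∈ I.Hgr mR n g),
      A x h ∈ EM.Hgr mR n (g + j) := fun hx _ _ hh =>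
    Act_mem (toSRes I) (toSRes EM) (toSIdeal mR) n hx hh
  have hS : ∀ (g : ℤ) (ξ : EM.H mR n), ξ ∈ EM.Hgr mR n g →
      ∃ h : Fin s → I.H mR n, (∀ b, h b ∈ I.Hgr mR n (g - dg b)) ∧ ξ = ∑ b, A (m b) (h b) :=
    fun g ξ hξ => exists_rep_Act dg hv hm hspan (toSRes I) (toSRes EM) hξ
  have hS' : ∀ ξ : EM.H mR n, ∃ h : Fin s → I.H mR n, ξ = ∑ b, A (m b) (h b) :=
    fun ξ => exists_rep_Act' dg hv hm hspan (toSRes I) (toSRes EM) ξ
  have hU : ∀ lam : Fin s → (I.H mR n →+ k),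
      (∀ r : Fin s → R, ∑ b, r b • m b = 0 → ∀ h : I.H mR n, ∑ b, lam b (r b • h) = 0) →
      ∃ Λ : EM.H mR n →+ k, ∀ b h, Λ (A (m b) h) = lam b h :=
    fun lam hrel => exists_desc_Act dg hv hm hspan (toSRes I) (toSRes EM) lam hrel
  exact exists_equiv_abstract (I.Hgr mR n) (EM.Hgr mR n) 𝒦 βK ℳ 𝒟 βD A 𝒜 hK hD hAmem dg m hspan
    hS hS' hU

/-- Let R be a graded ring defined over a field k with m = R_+ and n = dim R, K_R = (H^n_m(R))^* its
canonical module, and M a finitely generated graded R-module. Then (H^n_m(M))^* ≅ Hom_R(M, K_R) as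
graded R-modules. Stated here as the existence of an R-linear isomorphism carrying the degree-d
piece of (H^n_m(M))^* into the maps M → K_R homogeneous of degree d (existence of an isomorphism
only; the published one is natural in M). Here a graded ring defined over k is a commutative
k-algebra of finite type, graded in nonnegative degrees by k-subspaces with degree-zero part k·1,
and R_+ is the ideal spanned by the R_n with n > 0; the graded k-dual M^* = ⊕_n Hom_k(M_{−n}, k) of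
a graded R-module M (with r ∈ R acting by (r f)(x) = f(r x)) is presented abstractly as a graded
R-module D with a k-bilinear pairing β : D × M → k compatible with the R-actions, under which D_n
pairs to zero with M_m for m ≠ −n and is identified with the full dual space of M_{−n}; graded local
cohomology with its homogeneous pieces is computed from *injective resolutions in the graded
category and carries the k-vector space structures given. -/
theorem result (k : Type u) [Field k] (R : Type u) [CommRing R] [Algebra k R] (𝒜 : ℤ → Submodule k R) [GradedAlgebra 𝒜] (hposR : ∀ n : ℤ, n < 0 → 𝒜 n = ⊥) (h0R : 𝒜 0 = Submodule.span k {(1 : R)}) [Algebra.FiniteType k R] (mR : HomogeneousIdeal 𝒜) (hmR : mR.toIdeal = Ideal.span (⋃ n ∈ Set.Ioi (0 : ℤ), (𝒜 n : Set R))) (n : ℕ) (hn : ringKrullDim R = n) (I : GrLC.StarInjRes 𝒜 𝒜) [Module k (I.H mR n)] [IsScalarTower k R (I.H mR n)] [DirectSum.Decomposition (I.Hgr mR n)] (K : Type u)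 [AddCommGroup K] [Module R K] [Module k K] [IsScalarTower k R K] (𝒦 : ℤ → AddSubgroup K) [DirectSum.Decomposition 𝒦] [SetLike.GradedSMul 𝒜 𝒦] (βK : K →ₗ[k] I.H mR n →ₗ[k] k) (hK : GrSeg.IsGDual R (I.Hgr mR n) 𝒦 βK) (M : Type u) [AddCommGroup M] [Module R M] [Module k M] [IsScalarTower k R M] (ℳ : ℤ → AddSubgroup M) [DirectSum.Decomposition ℳ] [SetLike.GradedSMul 𝒜 ℳ] [Module.Finite R M] (EM : GrLC.StarInjRes 𝒜 ℳ) [Module k (EM.H mR n)] [IsScalarTower k R (EM.H mR n)] [DirectSum.Decomposition (EM.Hgr mR n)] (D : Type u) [AddCommGroup D] [Module R D] [Module k D] [IsScalarTower k R D] (𝒟 : ℤ → AddSubgroup D) [DirectSum.Decomposition 𝒟] [SetLike.GradedSMul 𝒜 𝒟] (βD : D →ₗ[k] EM.H mR n →ₗ[k] k) (hD : GrSeg.IsGDual R (EM.Hgr mR n) 𝒟 βD) : ∃ ε : D ≃ₗ[R] (M →ₗ[R] K), GrLC.IsGrHom 𝒟 (fun d : ℤ => (GrLC.homDeg 𝒜 ℳ 𝒦 d).toAddSubgroup) ε.toLinearMap :=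
  main k R 𝒜 mR n hn I K 𝒦 βK hK M ℳ EM D 𝒟 βD hD

end Groth.Agent.S19759
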