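import Groth.Statements.S1976
import Groth.Agent.Lib.IndEtaleUnion96
import Groth.Agent.Lib.WeaklyEtaleField96
import Groth.Agent.S0736
import Mathlib.RingTheory.Etale.Field
-- import your own Groth.Agent.* helpers here

set_option autoImplicit false
universe u
open CategoryTheory
open EtAlg

namespace Groth.Agent.S1976


theorem etale_of_fg (K : Type u) [Field K] (B : Type u) [CommRing B] [Algebra K B]
    [Algebra.WeaklyEtale K B] (S : Subalgebra K B) (hS : S.FG) : Algebra.Etale K S := by
  haveI : Algebra.WeaklyEtale K S :=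
    Groth.Agent.Lib.WeaklyEtaleField96.weaklyEtale_subalgebra B S
  haveI : Algebra.FiniteType K S := (Subalgebra.fg_iff_finiteType S).mp hS
  haveI : IsNoetherianRing S := Algebra.FiniteType.isNoetherianRing K S
  obtain ⟨n, L, iF, iA, hsep, ⟨e⟩⟩ :=
    Groth.Agent.Lib.WeaklyEtaleFibre96.exists_pi_separable_of_weaklyEtale_field K S
  have hfe : Algebra.FormallyEtale K S :=
    (Algebra.FormallyEtale.iff_exists_algEquiv_prod K S).mpr
      ⟨ULift.{u} (Fin n), inferInstance, fun i => L i.down, fun i => iF i.down,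
        fun i => iA i.down,
        e.trans (AlgEquiv.piCongrLeft' K L (Equiv.ulift.symm : Fin n ≃ ULift.{u} (Fin n))),
        fun i => hsep i.down⟩
  have hfp : Algebra.FinitePresentation K S := Algebra.FinitePresentation.of_finiteType.mp ‹_›
  exact ⟨hfe, hfp⟩


/-- (2) ⇔ (3): a K-algebra B over a field K is weakly etale exactly when it can be written as a filtered
colimit of etale K-algebras, and in that case its finitely generated K-subalgebras are etale. -/
theorem result (K : Type u) [Field K] (B : Type u) [CommRing B] [Algebra K B] :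
    (Algebra.WeaklyEtale K B ↔ EtPBC.IsIndEtale K B) ∧
    (Algebra.WeaklyEtale K B → ∀ S : Subalgebra K B, S.FG → Algebra.Etale K S) := by
  refine ⟨⟨fun h => ?_, fun h => Groth.Agent.S0736.result K B h⟩,
    fun h S hS => etale_of_fg K B S hS⟩
  classical
  let ι := {S : Subalgebra K B // S.FG}
  haveI : IsDirectedOrder ι :=
    ⟨fun a b => ⟨⟨a.1 ⊔ b.1, a.2.sup b.2⟩,
      (le_sup_left : a.1 ≤ a.1 ⊔ b.1), (le_sup_right : b.1 ≤ a.1 ⊔ b.1)⟩⟩
  haveI : Nonempty ι := ⟨⟨⊥, Subalgebra.fg_bot⟩⟩
  refine Groth.Agent.Lib.IndEtaleUnion96.isIndEtale_of_directed_subalgebras K B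
    (fun i : ι => i.1) (fun a b hab => hab) ?_ (fun i => etale_of_fg K B i.1 i.2)
  intro b
  refine ⟨⟨Algebra.adjoin K {b}, ?_⟩, Algebra.subset_adjoin rfl⟩
  have := Subalgebra.fg_adjoin_finset (R := K) ({b} : Finset B)
  simpa using this

end Groth.Agent.S1976
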