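import Groth.Statements.S19761
import Groth.Agent.S19762
import Groth.Agent.S19751
import Groth.Agent.Lib.H2GrDualArt
import Mathlib.Data.Int.Interval

set_option autoImplicit false
universe u
open GrDual

namespace Groth.Agent.S19761

open DirectSum Groth.Agent.S19762

set_option linter.unusedSectionVars false
set_option linter.style.haveILetI false

section

variable {k : Type u} [Field k] {R : Type u} [CommRing R] [Algebra k R]
  (𝒜 : ℤ → Submodule k R) [GradedAlgebra 𝒜]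
  (hposR : ∀ n : ℤ, n < 0 → 𝒜 n = ⊥) (h0R : 𝒜 0 = Submodule.span k {(1 : R)})
  {M : Type u} [AddCommGroup M] [Module R M] [Module k M] [IsScalarTower k R M]
  (ℳ : ℤ → AddSubgroup M) [DirectSum.Decomposition ℳ] [SetLike.GradedSMul 𝒜 ℳ]
  {D : Type u} [AddCommGroup D] [Module R D] [Module k D] [IsScalarTower k R D]
  (𝒟 : ℤ → AddSubgroup D) [DirectSum.Decomposition 𝒟] [SetLike.GradedSMul 𝒜 𝒟]
  (β : D →ₗ[k] M →ₗ[k] k) (hD : GrSeg.IsGDual R ℳ 𝒟 β)

include hD in
/-- reflexivity when the pieces of `M` are finite-dimensional -/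
theorem isGDual_flip (hfin : ∀ n, Module.Finite k (pc 𝒜 ℳ n)) :
    GrSeg.IsGDual R 𝒟 ℳ β.flip where
  map_smul r m d := by
    rw [LinearMap.flip_apply, LinearMap.flip_apply, hD.map_smul]
  vanish n m hm j hj d hd := by
    rw [LinearMap.flip_apply]
    exact hD.vanish j d hd n (by intro h; apply hj; rw [h, neg_neg]) m hm
  eq_zero n m hm h := by
    apply eq_zero_of_forall ℳ 𝒟 β hD
    intro d
    rw [beta_eq_right ℳ 𝒟 β hD hm d]
    exact h _ (decompose 𝒟 d (-n)).2
  exists_eq n ψ := by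
    haveI : Module.Finite k (pc 𝒜 ℳ (-(-n))) := hfin _
    obtain ⟨m, hm, hmψ⟩ := exists_rep 𝒜 ℳ 𝒟 β hD (-n) ψ
    rw [neg_neg] at hm
    exact ⟨m, hm, fun d hd => by rw [LinearMap.flip_apply]; exact hmψ d hd⟩

include hposR h0R hD in
theorem partA [Algebra.FiniteType k R] [Module.Finite R M] :
    IsArtinian R D ∧ GrSeg.IsGDual R 𝒟 ℳ β.flip := by
  refine ⟨?_, isGDual_flip 𝒜 ℳ 𝒟 β hD (fun n => finite_pc 𝒜 ℳ hposR h0R n)⟩
  exact Groth.Agent.Lib.H2GrDualArt.isArtinian_dual 𝒜 hposR h0R ℳ 𝒟 β hD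
    (Groth.Agent.S19751.exists_bound 𝒜 hposR ℳ)

end


section artinian

variable {k : Type u} [Field k] {R : Type u} [CommRing R] [Algebra k R]
  (𝒜 : ℤ → Submodule k R) [GradedAlgebra 𝒜]
  (hposR : ∀ n : ℤ, n < 0 → 𝒜 n = ⊥) (h0R : 𝒜 0 = Submodule.span k {(1 : R)})
  {M : Type u} [AddCommGroup M] [Module R M] [Module k M] [IsScalarTower k R M]
  (ℳ : ℤ → AddSubgroup M) [DirectSum.Decomposition ℳ] [SetLike.GradedSMul 𝒜 ℳ]

/-- the `R`-submodule of elements of `M_{≥ n}` whose `n`-component lies in `V` -/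
def Phi (n : ℤ) (V : Submodule k (pc 𝒜 ℳ n)) : Submodule R M where
  carrier := {x | x ∈ tail 𝒜 ℳ hposR n ∧ ∃ v ∈ V, (v : M) = (decompose ℳ x n : M)}
  add_mem' := by
    rintro x y ⟨hx, v, hv, hvx⟩ ⟨hy, w, hw, hwy⟩
    refine ⟨add_mem hx hy, v + w, V.add_mem hv hw, ?_⟩
    rw [decompose_add, DirectSum.add_apply, AddSubgroup.coe_add, ← hvx, ← hwy]
    rfl
  zero_mem' := ⟨zero_mem _, 0, V.zero_mem, by simp⟩
  smul_mem' := by
    rintro r x ⟨hx, v, hv, hvx⟩
    refine ⟨Submodule.smul_mem _ r hx, ?_⟩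
    obtain ⟨c, hc⟩ := decompose_smul_of_mem_tail 𝒜 ℳ hposR h0R n r hx
    refine ⟨c • v, V.smul_mem c hv, ?_⟩
    rw [hc, ← hvx]
    rfl

lemma Phi_strictMono (n : ℤ) : StrictMono (Phi 𝒜 hposR h0R ℳ n) := by
  intro V V' hVV'
  refine lt_of_le_of_ne ?_ ?_
  · rintro x ⟨hx, v, hv, hvx⟩
    exact ⟨hx, v, hVV'.le hv, hvx⟩
  · intro heq
    apply hVV'.not_ge
    intro v hv
    have hv_tail : (v : M) ∈ tail 𝒜 ℳ hposR n := fun j hj =>
      decompose_of_mem_ne ℳ v.2 (ne_of_gt hj)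
    have : (v : M) ∈ Phi 𝒜 hposR h0R ℳ n V' :=
      ⟨hv_tail, v, hv, by rw [decompose_of_mem_same ℳ v.2]⟩
    rw [← heq] at this
    obtain ⟨-, w, hw, hwv⟩ := this
    rw [decompose_of_mem_same ℳ v.2] at hwv
    have : w = v := Subtype.ext hwv
    rwa [← this]

include hposR h0R in
/-- pieces of an Artinian graded module are finite-dimensional -/
theorem finite_pc_of_isArtinian [IsArtinian R M] (n : ℤ) : Module.Finite k (pc 𝒜 ℳ n) := by
  haveI : WellFoundedLT (Submodule k (pc 𝒜 ℳ n)) :=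
    (Phi_strictMono 𝒜 hposR h0R ℳ n).wellFoundedLT
  haveI : IsArtinian k (pc 𝒜 ℳ n) := ‹WellFoundedLT _›
  let b := Module.Basis.ofVectorSpace k (pc 𝒜 ℳ n)
  have hfin : (Module.Basis.ofVectorSpaceIndex k (pc 𝒜 ℳ n)).Finite :=
    IsArtinian.finite_of_linearIndependent
      (Module.Basis.ofVectorSpaceIndex.linearIndependent k (pc 𝒜 ℳ n))
  haveI : Finite (Module.Basis.ofVectorSpaceIndex k (pc 𝒜 ℳ n)) := Set.finite_coe_iff.mpr hfin
  exact Module.Finite.of_basis b


include hposR in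
/-- an Artinian graded module over a nonnegatively graded ring is bounded above -/
theorem exists_upper_bound [IsArtinian R M] : ∃ b : ℤ, ∀ j, b ≤ j → ∀ x ∈ ℳ j, x = 0 := by
  let f : ℕ →o (Submodule R M)ᵒᵈ :=
    ⟨fun i => OrderDual.toDual (tail 𝒜 ℳ hposR (i : ℤ)), fun i j hij =>
      Groth.Agent.S19751.tail_anti 𝒜 hposR ℳ (by exact_mod_cast hij)⟩
  obtain ⟨i₀, hi₀⟩ := IsArtinian.monotone_stabilizes f
  have hstab : ∀ m : ℕ, i₀ ≤ m → tail 𝒜 ℳ hposR (i₀ : ℤ) = tail 𝒜 ℳ hposR (m : ℤ) := fun m hm =>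
    congrArg OrderDual.ofDual (hi₀ m hm)
  refine ⟨i₀, fun j hj x hx => ?_⟩
  obtain ⟨m, rfl⟩ : ∃ m : ℕ, j = m := ⟨j.toNat, by omega⟩
  have hm : i₀ ≤ m := by exact_mod_cast hj
  have h1 : x ∈ tail 𝒜 ℳ hposR (m : ℤ) := fun l hl => decompose_of_mem_ne ℳ hx (ne_of_gt hl)
  rw [← hstab m hm, hstab (m + 1) (by omega)] at h1
  have h2 := h1 (m : ℤ) (by push_cast; omega)
  rwa [decompose_of_mem_same ℳ hx] at h2

/-- the socle -/
def soc : Submodule R M where
  carrier := {x | ∀ r ∈ Groth.Agent.Lib.H2GrDualArt.irr 𝒜, r • x = 0}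
  add_mem' := by
    intro x y hx hy r hr
    rw [smul_add, hx r hr, hy r hr, add_zero]
  zero_mem' := by intro r _; simp
  smul_mem' := by
    intro r' x hx r hr
    rw [smul_comm, hx r hr, smul_zero]

include 𝒜 in
lemma decompose_ksmul (c : k) (x : M) (j : ℤ) :
    (decompose ℳ (c • x) j : M) = c • (decompose ℳ x j : M) := by
  have hc : algebraMap k R c ∈ 𝒜 0 := by
    rw [Algebra.algebraMap_eq_smul_one]
    exact (𝒜 0).smul_mem c SetLike.GradedOne.one_mem
  have := decompose_smul_left 𝒜 ℳ hc x j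
  rwa [zero_add, algebraMap_smul, algebraMap_smul] at this

include hposR h0R in
/-- the socle of an Artinian graded module has no homogeneous elements of very negative degree -/
theorem exists_soc_bound [IsArtinian R M] :
    ∃ N : ℤ, ∀ n, N < n → ∀ x ∈ soc 𝒜 (M := M), x ∈ ℳ (-n) → x = 0 := by
  let P : ℕ → Submodule R M := fun i =>
    { carrier := {x | x ∈ soc 𝒜 (M := M) ∧ ∀ j : ℤ, -(i : ℤ) < j → (decompose ℳ x j : M) = 0}
      add_mem' := by
        rintro x y ⟨hx, hx'⟩ ⟨hy, hy'⟩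
        refine ⟨add_mem hx hy, fun j hj => ?_⟩
        rw [decompose_add, DirectSum.add_apply, AddSubgroup.coe_add, hx' j hj, hy' j hj, add_zero]
      zero_mem' := ⟨zero_mem _, fun j _ => by simp⟩
      smul_mem' := by
        rintro r x ⟨hx, hx'⟩
        refine ⟨Submodule.smul_mem _ r hx, fun j hj => ?_⟩
        obtain ⟨c, hc⟩ := Groth.Agent.Lib.H2GrDualArt.socle_smul 𝒜 hposR h0R hx r
        rw [hc, decompose_ksmul 𝒜 ℳ, hx' j hj, smul_zero] }
  let f : ℕ →o (Submodule R M)ᵒᵈ :=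
    ⟨fun i => OrderDual.toDual (P i), fun i i' hii' => by
      show P i' ≤ P i
      rintro x ⟨hx, hx'⟩
      have hii : (i : ℤ) ≤ i' := by exact_mod_cast hii'
      exact ⟨hx, fun j hj => hx' j (by omega)⟩⟩
  obtain ⟨i₀, hi₀⟩ := IsArtinian.monotone_stabilizes f
  have hstab : ∀ m : ℕ, i₀ ≤ m → P i₀ = P m := fun m hm => congrArg OrderDual.ofDual (hi₀ m hm)
  refine ⟨i₀, fun n hn x hxs hxn => ?_⟩
  obtain ⟨m, rfl⟩ : ∃ m : ℕ, n = m := ⟨n.toNat, by omega⟩
  have hm : i₀ ≤ m := by omega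
  have h1 : x ∈ P m := ⟨hxs, fun j hj => decompose_of_mem_ne ℳ hxn (by omega)⟩
  rw [← hstab m hm, hstab (m + 1) (by omega)] at h1
  have h2 := h1.2 (-(m : ℤ)) (by push_cast; omega)
  rwa [decompose_of_mem_same ℳ hxn] at h2

end artinian


section partB

variable {k : Type u} [Field k] {R : Type u} [CommRing R] [Algebra k R]
  (𝒜 : ℤ → Submodule k R) [GradedAlgebra 𝒜]
  (hposR : ∀ n : ℤ, n < 0 → 𝒜 n = ⊥) (h0R : 𝒜 0 = Submodule.span k {(1 : R)})
  {M : Type u} [AddCommGroup M] [Module R M] [Module k M] [IsScalarTower k R M]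
  (ℳ : ℤ → AddSubgroup M) [DirectSum.Decomposition ℳ] [SetLike.GradedSMul 𝒜 ℳ]
  {D : Type u} [AddCommGroup D] [Module R D] [Module k D] [IsScalarTower k R D]
  (𝒟 : ℤ → AddSubgroup D) [DirectSum.Decomposition 𝒟] [SetLike.GradedSMul 𝒜 𝒟]
  (β : D →ₗ[k] M →ₗ[k] k) (hD : GrSeg.IsGDual R ℳ 𝒟 β)

include hD in
/-- pieces of the dual are finite-dimensional when those of `M` are -/
theorem finite_pc_dual (n : ℤ) [Module.Finite k (pc 𝒜 ℳ (-n))] : Module.Finite k (pc 𝒜 𝒟 n) := by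
  let Ψ : pc 𝒜 𝒟 n →ₗ[k] Module.Dual k (pc 𝒜 ℳ (-n)) :=
    (LinearMap.lcomp k k (pc 𝒜 ℳ (-n)).subtype) ∘ₗ β ∘ₗ (pc 𝒜 𝒟 n).subtype
  have Ψ_apply : ∀ (d : pc 𝒜 𝒟 n) (v : pc 𝒜 ℳ (-n)), Ψ d v = β d v := fun d v => rfl
  have hinj : Function.Injective Ψ := by
    rw [← LinearMap.ker_eq_bot, Submodule.eq_bot_iff]
    intro d hd
    rw [LinearMap.mem_ker] at hd
    apply Subtype.ext
    apply hD.eq_zero n d d.2
    intro x hx
    have := LinearMap.congr_fun hd ⟨x, hx⟩
    simpa [Ψ_apply] using this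
  exact Module.Finite.of_injective Ψ hinj

include hposR h0R hD in
theorem finite_dual_of_isArtinian [IsArtinian R M] : Module.Finite R D := by
  classical
  have hfin : ∀ n, Module.Finite k (pc 𝒜 ℳ n) := finite_pc_of_isArtinian 𝒜 hposR h0R ℳ
  have hDfin : ∀ n, Module.Finite k (pc 𝒜 𝒟 n) := fun n => by
    haveI := hfin (-n)
    exact finite_pc_dual 𝒜 ℳ 𝒟 β hD n
  obtain ⟨b, hb⟩ := exists_upper_bound 𝒜 hposR ℳ
  have hDlow : ∀ n, n < -b → ∀ d ∈ 𝒟 n, d = 0 := by
    intro n hn d hd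
    apply hD.eq_zero n d hd
    intro x hx
    rw [hb (-n) (by omega) x hx, map_zero]
  obtain ⟨N, hN⟩ := exists_soc_bound 𝒜 hposR h0R ℳ
  set Q : Submodule R D := Submodule.span R (⋃ n ∈ Set.Iic N, (𝒟 n : Set D)) with hQ
  have key : ∀ t : ℕ, ∀ n : ℤ, n < -b + t → ∀ d ∈ 𝒟 n, d ∈ Q := by
    intro t
    induction t with
    | zero =>
      intro n hn d hd
      rw [hDlow n (by simpa using hn) d hd]
      exact zero_mem _
    | succ t ih =>
      intro n hn d hd
      by_cases hlt : n < -b + t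
      · exact ih n hlt d hd
      by_cases hnN : n ≤ N
      · apply Submodule.subset_span
        simp only [Set.mem_iUnion]
        exact ⟨n, hnN, hd⟩
      push Not at hnN
      -- the hard case
      set W : Submodule k D := Submodule.span k
        {y | ∃ i : ℤ, 0 < i ∧ ∃ r ∈ 𝒜 i, ∃ d' ∈ 𝒟 (n - i), y = r • d'} with hW
      have hWQ : W ≤ Q.restrictScalars k := by
        rw [hW, Submodule.span_le]
        rintro y ⟨i, hi, r, hr, d', hd', rfl⟩
        exact Q.smul_mem r (ih (n - i) (by push_cast at hn; omega) d' hd')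
      suffices hdW : d ∈ W from hWQ hdW
      by_contra hdW
      obtain ⟨φ, hφd, hφW⟩ := Submodule.exists_dual_map_eq_bot_of_notMem hdW inferInstance
      have hφW' : ∀ v ∈ W, φ v = 0 := by
        intro v hv
        have : φ v ∈ W.map φ := Submodule.mem_map_of_mem hv
        rw [hφW] at this
        exact (Submodule.mem_bot k).mp this
      haveI := hfin (-n)
      obtain ⟨x, hx, hxφ⟩ := exists_rep 𝒜 ℳ 𝒟 β hD n φ
      have hx0 : x ≠ 0 := by
        rintro rfl
        have := hxφ d hd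
        rw [map_zero] at this
        exact hφd this.symm
      have hxsoc : x ∈ soc 𝒜 (M := M) := by
        intro r hr
        induction hr using Submodule.span_induction with
        | mem r hr =>
          simp only [Set.mem_iUnion] at hr
          obtain ⟨i, hi, hr⟩ := hr
          have hrx : r • x ∈ ℳ (i + -n) := smul_mem_add 𝒜 ℳ hr hx
          apply eq_zero_of_forall ℳ 𝒟 β hD
          intro d'
          rw [beta_eq_right ℳ 𝒟 β hD hrx d']
          have e : -(i + -n) = n - i := by ring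
          rw [e]
          set d'' : D := (decompose 𝒟 d' (n - i) : D) with hd''
          have hd''mem : d'' ∈ 𝒟 (n - i) := (decompose 𝒟 d' (n - i)).2
          have hrd'' : r • d'' ∈ 𝒟 n := by
            have := smul_mem_add 𝒜 𝒟 hr hd''mem
            have e : i + (n - i) = n := by ring
            rwa [e] at this
          rw [← hD.map_smul, hxφ _ hrd'']
          exact hφW' _ (Submodule.subset_span ⟨i, hi, r, hr, d'', hd''mem, rfl⟩)
        | zero => simp
        | add p q _ _ hp hq => rw [add_smul, hp, hq, add_zero]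
        | smul p q _ hq => rw [smul_eq_mul, mul_smul, hq, smul_zero]
      exact hx0 (hN n hnN x hxsoc hx)
  have hQtop : Q = ⊤ := by
    rw [eq_top_iff]
    intro d _
    rw [← DirectSum.sum_support_decompose 𝒟 d]
    apply Submodule.sum_mem
    intro j _
    obtain ⟨t, ht⟩ : ∃ t : ℕ, j < -b + t := ⟨(j + b + 1).toNat, by omega⟩
    exact key t j ht _ (decompose 𝒟 d j).2
  -- finite generation
  let U : Submodule k D := ⨆ n : Finset.Icc (-b) N, pc 𝒜 𝒟 (n : ℤ)
  haveI : ∀ n : Finset.Icc (-b) N, Module.Finite k (pc 𝒜 𝒟 (n : ℤ)) := fun n => hDfin _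
  haveI : Module.Finite k U := Submodule.finite_iSup _
  obtain ⟨B, hB⟩ := (Module.Finite.iff_fg.mp ‹Module.Finite k U›)
  refine ⟨⟨B, ?_⟩⟩
  rw [eq_top_iff, ← hQtop, hQ, Submodule.span_le]
  intro d hd
  simp only [Set.mem_iUnion] at hd
  obtain ⟨n, hnN, hdn⟩ := hd
  by_cases hnb : n < -b
  · rw [hDlow n hnb d hdn]; exact zero_mem _
  · have hdU : d ∈ U := by
      have hmem : n ∈ Finset.Icc (-b) N := Finset.mem_Icc.mpr ⟨by omega, hnN⟩
      exact Submodule.mem_iSup_of_mem (⟨n, hmem⟩ : Finset.Icc (-b) N) hdn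
    rw [← hB] at hdU
    exact Submodule.span_le_restrictScalars k R _ hdU

include hposR h0R hD in
theorem partB [IsArtinian R M] : Module.Finite R D ∧ GrSeg.IsGDual R 𝒟 ℳ β.flip :=
  ⟨finite_dual_of_isArtinian 𝒜 hposR h0R ℳ 𝒟 β hD,
    isGDual_flip 𝒜 ℳ 𝒟 β hD (finite_pc_of_isArtinian 𝒜 hposR h0R ℳ)⟩

end partB


theorem result' (k : Type u) [Field k] (R : Type u) [CommRing R] [Algebra k R] (𝒜 : ℤ → Submodule k R) [GradedAlgebra 𝒜] (hposR : ∀ n : ℤ, n < 0 → 𝒜 n = ⊥) (h0R : 𝒜 0 = Submodule.span k {(1 : R)}) [Algebra.FiniteType k R] (M : Type u) [AddCommGroup M] [Module R M] [Module k M] [IsScalarTower k R M] (ℳ : ℤ → AddSubgroup M) [DirectSum.Decomposition ℳ] [SetLike.GradedSMul 𝒜 ℳ] (D : Type u) [AddCommGroup D] [Module R D] [Module k D] [IsScalarTower k R D] (𝒟 : ℤ → AddSubgroup D) [DirectSum.Decomposition 𝒟] [SetLike.GradedSMul 𝒜 𝒟] (β : D →ₗ[k] M →ₗ[k] k) (hD : GrSeg.IsGDual R ℳ 𝒟 β) : (Module.Finite R M → IsArtinian R D ∧ GrSeg.IsGDual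 R 𝒟 ℳ β.flip) ∧ (IsArtinian R M → Module.Finite R D ∧ GrSeg.IsGDual R 𝒟 ℳ β.flip) :=
  ⟨fun _ => partA 𝒜 hposR h0R ℳ 𝒟 β hD, fun _ => partB 𝒜 hposR h0R ℳ 𝒟 β hD⟩


/-- Let R = ⊕_{n ≥ 0} R_n be a Noetherian graded ring with R_0 = k a field. The graded k-dual M ↦ M^* =
⊕_n Hom_k(M_{−n}, k) is an equivalence between the category of Noetherian graded R-modules and the
opposite of the category of Artinian graded R-modules; on objects: if M is a finitely generated
graded R-module then M^* is an Artinian R-module and M = M^{**}, and if M is an Artinian graded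
R-module then M^* is finitely generated and M = M^{**}. Here M = M^{**} is stated as: M is the
graded dual of M^* under the transposed pairing. Here a graded ring defined over k is a commutative
k-algebra of finite type, graded in nonnegative degrees by k-subspaces with degree-zero part k·1,
and R_+ is the ideal spanned by the R_n with n > 0 (a Noetherian such ring is the same as one of
finite type over k); the graded k-dual M^* = ⊕_n Hom_k(M_{−n}, k) of a graded R-module M (with r ∈ R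
acting by (r f)(x) = f(r x)) is presented abstractly as a graded R-module D with a k-bilinear
pairing β : D × M → k compatible with the R-actions, under which D_n pairs to zero with M_m for m ≠
−n and is identified with the full dual space of M_{−n}. -/
theorem result (k : Type u) [Field k] (R : Type u) [CommRing R] [Algebra k R] (𝒜 : ℤ → Submodule k R) [GradedAlgebra 𝒜] (hposR : ∀ n : ℤ, n < 0 → 𝒜 n = ⊥) (h0R : 𝒜 0 = Submodule.span k {(1 : R)}) [Algebra.FiniteType k R] (M : Type u) [AddCommGroup M] [Module R M] [Module k M] [IsScalarTower k R M] (ℳ : ℤ → AddSubgroup M) [DirectSum.Decomposition ℳ] [SetLike.GradedSMul 𝒜 ℳ] (D : Type u) [AddCommGroup D] [Module R D] [Module k D] [IsScalarTower k R D] (𝒟 : ℤ → AddSubgroup D) [DirectSum.Decomposition 𝒟] [SetLike.GradedSMul 𝒜 𝒟] (β : D →ₗ[k] M →ₗ[k] k) (hD : GrSeg.IsGDual R ℳ 𝒟 β) : (Module.Finite R M → IsArtinian R D ∧ GrSeg.IsGDual R 𝒟 ℳ β.flip) ∧ (IsArtinian R M → Module.Finite R D ∧ GrSeg.IsGDual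 R 𝒟 ℳ β.flip) := by
  exact result' k R 𝒜 hposR h0R M ℳ D 𝒟 β hD

end Groth.Agent.S19761
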