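import Groth.Statements.S19760
import Groth.Agent.S19761
import Groth.Agent.Lib.H2GrDualShift

set_option autoImplicit false
universe u
open GrDual

namespace Groth.Agent.S19760

open DirectSum Groth.Agent.S19762 Groth.Agent.S19761

set_option linter.unusedSectionVars false
set_option linter.style.haveILetI false

section

variable {k : Type u} [Field k] {R : Type u} [CommRing R] [Algebra k R]
  (𝒜 : ℤ → Submodule k R) [GradedAlgebra 𝒜]
  (hposR : ∀ n : ℤ, n < 0 → 𝒜 n = ⊥) (h0R : 𝒜 0 = Submodule.span k {(1 : R)})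
  {D : Type u} [AddCommGroup D] [Module R D] [Module k D] [IsScalarTower k R D]
  (𝒟 : ℤ → AddSubgroup D) [DirectSum.Decomposition 𝒟] [SetLike.GradedSMul 𝒜 𝒟]
  (β : D →ₗ[k] R →ₗ[k] k) (hD : GrSeg.IsGDual R 𝒜 𝒟 β)
  {M : Type u} [AddCommGroup M] [Module R M] [Module k M] [IsScalarTower k R M]
  (ℳ : ℤ → AddSubgroup M) [DirectSum.Decomposition ℳ] [SetLike.GradedSMul 𝒜 ℳ]

include hposR h0R hD in
/-- `R^*` is Artinian -/
theorem isArtinian_Rstar [Algebra.FiniteType k R] : IsArtinian R D := by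
  apply Groth.Agent.Lib.H2GrDualArt.isArtinian_dual 𝒜 hposR h0R 𝒜 𝒟 β hD
  refine ⟨0, fun j hj x hx => ?_⟩
  rw [hposR j hj] at hx
  exact (Submodule.mem_bot k).mp hx

include hposR h0R hD in
theorem backward [Algebra.FiniteType k R]
    (h : ∃ (t : ℕ) (sh : Fin t → ℤ) (f : M →ₗ[R] (Fin t → D)), Function.Injective f ∧
      ∀ (i : Fin t) (g : ℤ) (x : M), x ∈ ℳ g → f x i ∈ 𝒟 (g + sh i)) : IsArtinian R M := by
  obtain ⟨t, sh, f, hf, -⟩ := h
  haveI : IsArtinian R D := isArtinian_Rstar 𝒜 hposR h0R 𝒟 β hD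
  exact isArtinian_of_injective f hf

end


section forward

variable {k : Type u} [Field k] {R : Type u} [CommRing R] [Algebra k R]
  (𝒜 : ℤ → Submodule k R) [GradedAlgebra 𝒜]
  (hposR : ∀ n : ℤ, n < 0 → 𝒜 n = ⊥) (h0R : 𝒜 0 = Submodule.span k {(1 : R)})
  {D : Type u} [AddCommGroup D] [Module R D] [Module k D] [IsScalarTower k R D]
  (𝒟 : ℤ → AddSubgroup D) [DirectSum.Decomposition 𝒟] [SetLike.GradedSMul 𝒜 𝒟]
  (β : D →ₗ[k] R →ₗ[k] k) (hD : GrSeg.IsGDual R 𝒜 𝒟 β)
  {M : Type u} [AddCommGroup M] [Module R M] [Module k M] [IsScalarTower k R M]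
  (ℳ : ℤ → AddSubgroup M) [DirectSum.Decomposition ℳ] [SetLike.GradedSMul 𝒜 ℳ]

/-- the socle is a homogeneous submodule -/
lemma soc_homogeneous {x : M} (hx : x ∈ soc 𝒜 (M := M)) (j : ℤ) :
    (decompose ℳ x j : M) ∈ soc 𝒜 (M := M) := by
  intro r hr
  induction hr using Submodule.span_induction with
  | mem r hr =>
    simp only [Set.mem_iUnion] at hr
    obtain ⟨i, hi, hr⟩ := hr
    rw [← decompose_smul_left 𝒜 ℳ hr x j,
      hx r (Groth.Agent.Lib.H2GrDualArt.mem_irr_of_pos 𝒜 hi hr), decompose_zero]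
    rfl
  | zero => simp
  | add p q _ _ hp hq => rw [add_smul, hp, hq, add_zero]
  | smul p q _ hq => rw [smul_eq_mul, mul_smul, hq, smul_zero]

include hposR h0R in
/-- the socle of an Artinian module is finite-dimensional -/
theorem soc_finite [IsArtinian R M] :
    Module.Finite k ↥((soc 𝒜 (M := M)).restrictScalars k) := by
  set W : Submodule k M := (soc 𝒜 (M := M)).restrictScalars k with hW
  let Φ : Submodule k W → Submodule R M := fun V =>
    { carrier := {x | ∃ v ∈ V, (v : M) = x}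
      add_mem' := by
        rintro x y ⟨v, hv, rfl⟩ ⟨w, hw, rfl⟩
        exact ⟨v + w, V.add_mem hv hw, rfl⟩
      zero_mem' := ⟨0, V.zero_mem, rfl⟩
      smul_mem' := by
        rintro r x ⟨v, hv, rfl⟩
        obtain ⟨c, hc⟩ := Groth.Agent.Lib.H2GrDualArt.socle_smul 𝒜 hposR h0R
          (d := (v : M)) v.2 r
        exact ⟨c • v, V.smul_mem c hv, by rw [hc]; rfl⟩ }
  have hΦ : StrictMono Φ := by
    intro V V' hVV'
    refine lt_of_le_of_ne ?_ ?_
    · rintro x ⟨v, hv, rfl⟩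
      exact ⟨v, hVV'.le hv, rfl⟩
    · intro heq
      apply hVV'.not_ge
      intro v hv
      have : (v : M) ∈ Φ V' := ⟨v, hv, rfl⟩
      rw [← heq] at this
      obtain ⟨w, hw, hwv⟩ := this
      have : w = v := Subtype.ext hwv
      rwa [← this]
  haveI : WellFoundedLT (Submodule k W) := hΦ.wellFoundedLT
  haveI : IsArtinian k W := ‹WellFoundedLT _›
  let b := Module.Basis.ofVectorSpace k W
  have hfin : (Module.Basis.ofVectorSpaceIndex k W).Finite :=
    IsArtinian.finite_of_linearIndependent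
      (Module.Basis.ofVectorSpaceIndex.linearIndependent k W)
  haveI : Finite (Module.Basis.ofVectorSpaceIndex k W) := Set.finite_coe_iff.mpr hfin
  exact Module.Finite.of_basis b


/-- degree-`g` component as a `k`-linear map -/
noncomputable def projg (g : ℤ) : M →ₗ[k] M where
  toFun x := (decompose ℳ x g : M)
  map_add' x y := by rw [decompose_add, DirectSum.add_apply, AddSubgroup.coe_add]
  map_smul' c x := by rw [RingHom.id_apply, decompose_ksmul 𝒜 ℳ]

lemma projg_apply (g : ℤ) (x : M) : projg 𝒜 ℳ g x = (decompose ℳ x g : M) := rfl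

include hD in
/-- a functional supported in degree `g` gives a homomorphism `M → R^*` of degree `-g` -/
theorem exists_hom_of_functional (ψ : M →ₗ[k] k) (g : ℤ) :
    ∃ h : M →ₗ[R] D, (∀ (n : ℤ) (x : M), x ∈ ℳ n → h x ∈ 𝒟 (n + -g)) ∧
      ∀ x : M, β (h x) 1 = ψ (decompose ℳ x g : M) := by
  let Lam : M →ₗ[k] k := ψ ∘ₗ projg 𝒜 ℳ g
  have hLam : ∀ x, Lam x = ψ (decompose ℳ x g : M) := fun x => rfl
  let Φ : M →ₗ[k] R →ₗ[k] k := LinearMap.mk₂ k (fun b r => Lam (r • b))
    (fun b b' r => by rw [smul_add, map_add])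
    (fun c b r => by rw [smul_comm, map_smul])
    (fun b r r' => by rw [add_smul, map_add])
    (fun c b r => by rw [smul_assoc, map_smul])
  have hΦ : ∀ b r, Φ b r = Lam (r • b) := fun b r => rfl
  have hΦsmul : ∀ (r : R) (b : M) (x : R), Φ (r • b) x = Φ b (r • x) := by
    intro r b x
    rw [hΦ, hΦ, smul_eq_mul, mul_smul, smul_comm]
  have hΦvan : ∀ (n : ℤ) (b : M), b ∈ ℳ n → ∀ m : ℤ, m ≠ -(n + -g) → ∀ x : R, x ∈ 𝒜 m →
      Φ b x = 0 := by
    intro n b hb m hm x hx
    have hxb : x • b ∈ ℳ (m + n) := smul_mem_add 𝒜 ℳ hx hb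
    have hne : m + n ≠ g := fun h => hm (by omega)
    rw [hΦ, hLam, decompose_of_mem_ne ℳ hxb hne, map_zero]
  obtain ⟨h, hhgr, hh⟩ := Groth.Agent.Lib.H2GrDualShift.exists_hom_of_pairing_shift 𝒜 𝒟 β ℳ Φ (-g)
    hD hΦsmul hΦvan
  refine ⟨h, hhgr, fun x => ?_⟩
  rw [hh, hΦ, one_smul, hLam]

include hposR h0R hD in
theorem forward' [IsArtinian R M] :
    ∃ (t : ℕ) (sh : Fin t → ℤ) (f : M →ₗ[R] (Fin t → D)), Function.Injective f ∧
      ∀ (i : Fin t) (g : ℤ) (x : M), x ∈ ℳ g → f x i ∈ 𝒟 (g + sh i) := by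
  classical
  obtain ⟨b, hb⟩ := exists_upper_bound 𝒜 hposR ℳ
  obtain ⟨N, hN⟩ := exists_soc_bound 𝒜 hposR h0R ℳ
  set W : Submodule k M := (soc 𝒜 (M := M)).restrictScalars k with hW
  haveI : Module.Finite k W := soc_finite 𝒜 hposR h0R
  let n := Module.finrank k W
  let bs : Module.Basis (Fin n) k W := Module.finBasis k W
  have hext : ∀ j : Fin n, ∃ ψ : M →ₗ[k] k, ∀ w : W, ψ w = bs.coord j w := fun j => by
    obtain ⟨ψ, hψ⟩ := LinearMap.exists_extend (bs.coord j)
    exact ⟨ψ, fun w => LinearMap.congr_fun hψ w⟩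
  choose ext hext using hext
  let ι := Fin n × (Finset.Icc (-N) b)
  have hH : ∀ p : ι, ∃ h : M →ₗ[R] D, (∀ (m : ℤ) (x : M), x ∈ ℳ m → h x ∈ 𝒟 (m + -(p.2 : ℤ))) ∧
      ∀ x : M, β (h x) 1 = ext p.1 (decompose ℳ x (p.2 : ℤ) : M) := fun p =>
    exists_hom_of_functional 𝒜 𝒟 β hD ℳ (ext p.1) (p.2 : ℤ)
  choose H hH1 hH2 using hH
  -- the kernel condition
  have hker : ∀ x : M, (∀ p, H p x = 0) → x = 0 := by
    intro x hx
    by_contra hx0
    have hcomp : ∀ g' p, H p (decompose ℳ x g' : M) = 0 := by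
      intro g' p
      rw [Groth.Agent.Lib.H2GrDualShift.map_decompose_shift ℳ 𝒟 (H p) (-(p.2 : ℤ)) (hH1 p) x g',
        hx p, decompose_zero]
      rfl
    have : ∃ g', (decompose ℳ x g' : M) ≠ 0 := by
      by_contra hall
      push Not at hall
      exact hx0 (Groth.Agent.S19751.eq_zero_of_decompose_eq_zero ℳ x hall)
    obtain ⟨g₀, hg₀⟩ := this
    let S : ℤ → Prop := fun m => ∃ z : M, (∀ p, H p z = 0) ∧ z ∈ ℳ m ∧ z ≠ 0
    have hS0 : S g₀ := ⟨_, hcomp g₀, (decompose ℳ x g₀).2, hg₀⟩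
    have hSbd : ∀ m, S m → m ≤ b := by
      rintro m ⟨z, -, hz, hz0⟩
      by_contra hcon
      exact hz0 (hb m (by omega) z hz)
    obtain ⟨m, ⟨z, hzker, hzm, hz0⟩, hmax⟩ := Int.exists_greatest_of_bdd ⟨b, hSbd⟩ ⟨g₀, hS0⟩
    have hsoc : z ∈ soc 𝒜 (M := M) := by
      intro r hr
      induction hr using Submodule.span_induction with
      | mem r hr =>
        simp only [Set.mem_iUnion] at hr
        obtain ⟨i, hi, hr⟩ := hr
        by_contra hne
        have h1 : S (i + m) :=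
          ⟨r • z, fun p => by rw [map_smul, hzker p, smul_zero], smul_mem_add 𝒜 ℳ hr hzm, hne⟩
        have := hmax _ h1
        have hi' : 0 < i := hi
        omega
      | zero => simp
      | add p q _ _ hp hq => rw [add_smul, hp, hq, add_zero]
      | smul p q _ hq => rw [smul_eq_mul, mul_smul, hq, smul_zero]
    have hmb : m < b := by
      by_contra hcon
      exact hz0 (hb m (by omega) z hzm)
    have hmN : -N ≤ m := by
      by_contra hcon
      have hzm' : z ∈ ℳ (-(-m)) := by rwa [neg_neg]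
      exact hz0 (hN (-m) (by omega) z hsoc hzm')
    have hmem : m ∈ Finset.Icc (-N) b := Finset.mem_Icc.mpr ⟨hmN, hmb.le⟩
    have hzW : (⟨z, hsoc⟩ : W) = 0 := by
      rw [← bs.forall_coord_eq_zero_iff]
      intro j
      rw [← hext j ⟨z, hsoc⟩]
      have h2 := hH2 (j, ⟨m, hmem⟩) z
      rw [hzker, map_zero, LinearMap.zero_apply] at h2
      simp only at h2
      rw [decompose_of_mem_same ℳ hzm] at h2
      exact h2.symm
    exact hz0 (congrArg Subtype.val hzW)
  -- reindex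
  let t := Fintype.card ι
  let e : Fin t ≃ ι := (Fintype.equivFin ι).symm
  refine ⟨t, fun i => -((e i).2 : ℤ), (LinearMap.funLeft R D e) ∘ₗ LinearMap.pi H, ?_, ?_⟩
  · rw [← LinearMap.ker_eq_bot, Submodule.eq_bot_iff]
    intro x hx
    rw [LinearMap.mem_ker] at hx
    apply hker
    intro p
    have := congrFun hx (e.symm p)
    simpa [LinearMap.funLeft_apply] using this
  · intro i g x hx
    rw [LinearMap.comp_apply, LinearMap.funLeft_apply, LinearMap.pi_apply]
    exact hH1 (e i) g x hx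

end forward


theorem result' (k : Type u) [Field k] (R : Type u) [CommRing R] [Algebra k R] (𝒜 : ℤ → Submodule k R) [GradedAlgebra 𝒜] (hposR : ∀ n : ℤ, n < 0 → 𝒜 n = ⊥) (h0R : 𝒜 0 = Submodule.span k {(1 : R)}) [Algebra.FiniteType k R] (D : Type u) [AddCommGroup D] [Module R D] [Module k D] [IsScalarTower k R D] (𝒟 : ℤ → AddSubgroup D) [DirectSum.Decomposition 𝒟] [SetLike.GradedSMul 𝒜 𝒟] (β : D →ₗ[k] R →ₗ[k] k) (hD : GrSeg.IsGDual R 𝒜 𝒟 β) (M : Type u) [AddCommGroup M] [Module R M] [Module k M] [IsScalarTower k R M] (ℳ : ℤ → AddSubgroup M) [DirectSum.Decomposition ℳ] [SetLike.GradedSMul 𝒜 ℳ] : IsArtinian R M ↔ ∃ (t : ℕ) (sh : Fin t → ℤ) (f : M →ₗ[R] (Fin t → D)), Function.Injective f ∧ ∀ (i : Fin t) (g : ℤ) (x : M), x ∈ ℳ g → f x i ∈ 𝒟 (g + sh i) :=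
  ⟨fun _ => forward' 𝒜 hposR h0R 𝒟 β hD ℳ, backward 𝒜 hposR h0R 𝒟 β hD ℳ⟩


/-- Let R = ⊕_{n ≥ 0} R_n be a Noetherian graded ring with R_0 = k a field and R^* = ⊕_n Hom_k(R_{−n},
k) its graded k-dual. A graded R-module M is Artinian exactly when, for some t and some integer
shifts n_1, …, n_t, it embeds as a graded module into the direct sum of the shifted duals R^*(n_1),
…, R^*(n_t), that is, when there is an injective R-linear map M → (R^*)^t whose i-th component
carries M_g into R^*_{g+n_i} for every g. Here a graded ring defined over k is a commutative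
k-algebra of finite type, graded in nonnegative degrees by k-subspaces with degree-zero part k·1,
and R_+ is the ideal spanned by the R_n with n > 0 (a Noetherian such ring is the same as one of
finite type over k); the graded k-dual M^* = ⊕_n Hom_k(M_{−n}, k) of a graded R-module M (with r ∈ R
acting by (r f)(x) = f(r x)) is presented abstractly as a graded R-module D with a k-bilinear
pairing β : D × M → k compatible with the R-actions, under which D_n pairs to zero with M_m for m ≠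
−n and is identified with the full dual space of M_{−n}. -/
theorem result (k : Type u) [Field k] (R : Type u) [CommRing R] [Algebra k R] (𝒜 : ℤ → Submodule k R) [GradedAlgebra 𝒜] (hposR : ∀ n : ℤ, n < 0 → 𝒜 n = ⊥) (h0R : 𝒜 0 = Submodule.span k {(1 : R)}) [Algebra.FiniteType k R] (D : Type u) [AddCommGroup D] [Module R D] [Module k D] [IsScalarTower k R D] (𝒟 : ℤ → AddSubgroup D) [DirectSum.Decomposition 𝒟] [SetLike.GradedSMul 𝒜 𝒟] (β : D →ₗ[k] R →ₗ[k] k) (hD : GrSeg.IsGDual R 𝒜 𝒟 β) (M : Type u) [AddCommGroup M] [Module R M] [Module k M] [IsScalarTower k R M] (ℳ : ℤ → AddSubgroup M) [DirectSum.Decomposition ℳ] [SetLike.GradedSMul 𝒜 ℳ] : IsArtinian R M ↔ ∃ (t : ℕ) (sh : Fin t → ℤ) (f : M →ₗ[R] (Fin t → D)), Function.Injective f ∧ ∀ (i : Fin t) (g : ℤ) (x : M), x ∈ ℳ g → f x i ∈ 𝒟 (g + sh i) := by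
  exact result' k R 𝒜 hposR h0R D 𝒟 β hD M ℳ

end Groth.Agent.S19760
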