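import Groth.Statements.S19767
import Groth.Agent.Lib.H15KL

set_option autoImplicit false
universe u
open CategoryTheory MonoidalCategory CartesianMonoidalCategory MonObj GrpObj AlgebraicGeometry
open AbVar

namespace Groth.Agent.S19767

/-- Let X be an abelian variety over a field k (a proper, geometrically integral k-group scheme), L an
invertible O_X-module, T a k-scheme, x : T → X a T-valued point with translation t_x : X_T → X_T,
and L_T the inverse image of L on X_T = X ×_k T. If an O_T-module M satisfies L_T ⊗ pr_T^*M ≅
t_x^*L_T (that is, t_x^*L_T ⊗ L_T⁻¹ ≅ pr_T^*M), then M ≅ x^*L (existence of an isomorphism). (The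
published statement takes M invertible; invertibility is not needed.) -/
theorem result (k : Type u) [Field k] (X : Over (Spec (CommRingCat.of k)))
    [GrpObj X] [IsProper X.hom] [GeometricallyIntegral X.hom] (L : X.left.Modules) (hL : PicF.IsInvertible L)
    (T : Over (Spec (CommRingCat.of k))) (x : T ⟶ X) (M : T.left.Modules)
    (h : Nonempty (CohB1.tensorMod ((Scheme.Modules.pullback (fst X T).left).obj L)
          ((Scheme.Modules.pullback (snd X T).left).obj M) ≅
        (Scheme.Modules.pullback (ThetaGrp.transl X x ≫ fst X T).left).obj L)) :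
    Nonempty (M ≅ (Scheme.Modules.pullback x.left).obj L) := by
  have hS : ∀ c : Groth.Agent.Lib.IsoCls13.Cls (Spec (CommRingCat.of k)),
      Groth.Agent.Lib.H15PicCalc.Inv c → c = 1 := fun c hc => Groth.Agent.Lib.H15KL.inv_eq_one_of_field k hc
  have hℓ := Groth.Agent.Lib.H15PicCalc.inv_cls hL
  exact Groth.Agent.Lib.IsoCls13.cls_eq_iff.1
    (Groth.Agent.Lib.H15KL.eq_pull_of_translate hS X hℓ x (Groth.Agent.Lib.IsoCls13.cls M)
      (Groth.Agent.Lib.IsoCls13.cls_eq_iff.2 h))

end Groth.Agent.S19767
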