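import Groth.Statements.S19775
import Groth.Agent.Lib.KLKernel67
import Groth.Agent.Lib.FppfClosed67
import Mathlib
-- import your own Groth.Agent.* helpers here

set_option autoImplicit false
universe u
open CategoryTheory MonoidalCategory CartesianMonoidalCategory MonObj GrpObj AlgebraicGeometry
open AbVar

namespace Groth.Agent.S19775

open CategoryTheory.Limits
open Groth.Agent.Lib.IsoCls13 Groth.Agent.Lib.H78TensorGen Groth.Agent.Lib.H90Invertible
open Groth.Agent.Lib.H15PicCalc Groth.Agent.Lib.H15KL Groth.Agent.Lib.KLKernel67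

theorem cl_eq_of_cls_eq {Y : Scheme.{u}} {M N : Y.Modules} (h : cls M = cls N) : PicF.cl M = PicF.cl N :=
  (PicGrp.cl_eq_cl_iff _ _).2 (cls_eq_iff.1 h)


/-- Let X be an abelian variety over a field k (a proper, geometrically integral k-group scheme), (X^t,
φ) a given dual abelian variety of X for the fppf topology (φ sends classes of modules on X ×_k T
algebraically trivial on the geometric fibres to T-valued points of X^t), L an invertible
O_X-module, and λ : X → X^t the homomorphism φ_L attached to L through φ (the X-valued point of X^t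
that φ assigns to the class of an invertible module N on X ×_k X with N ⊗ p_1^*L ⊗ p_2^*L ≅ m^*L, a
Mumford module of L). Let i : K → X be a closed immersion exhibiting K as K(L) (the maximal closed
subscheme over which the Mumford bundle, restricted to X ×_k K, is the inverse image of an
invertible module on K, with its universal property). Then K(L) is the kernel of φ_L: the square
with sides i, K → Spec k, λ and the unit Spec k → X^t is cartesian. (The published statement makes
this assertion for L ample, together with φ_L being an isogeny and the dimension count for the dual;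
the kernel identification is the translation description of the points of K(L) read through the
Picard functor and holds for every invertible L, as stated here; the isogeny and dimension
assertions are not part of this row.) -/
theorem result (k : Type u) [Field k] (X Xt : Over (Spec (CommRingCat.of k)))
    [GrpObj X] [IsProper X.hom] [GeometricallyIntegral X.hom]
    [GrpObj Xt] [IsProper Xt.hom] [GeometricallyIntegral Xt.hom]
    (φ : ∀ T : Over (Spec (CommRingCat.of k)), PicF.Cl (PicF.XT X.hom T) → (T ⟶ Xt))
    (hφ : AbDual.IsDualAV Scheme.fppfPrecoverage X Xt φ)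
    (L : X.left.Modules) (hL : PicF.IsInvertible L) (lam : X ⟶ Xt) (hlam : AgPol.IsLambda X Xt φ L lam)
    (K : Over (Spec (CommRingCat.of k))) (i : K ⟶ X) (hK : ThetaGrp.IsKL X L i) :
    AlgGrp.IsKernel i lam := by
  obtain ⟨N, hN, hΛ, hNlam⟩ := hlam
  have hS : ∀ c : Cls (Spec (CommRingCat.of k)), Inv c → c = 1 := fun c hc => inv_eq_one_of_field k hc
  have hℓ := inv_cls hL
  have hn := inv_cls hN
  -- the class of `N` pulled back along `X ◁ a`
  have hcl : ∀ (W : Over (Spec (CommRingCat.of k))) (a : W ⟶ X),
      PicF.pullCl (PicF.XTmap X.hom a) (PicF.cl N) = PicF.cl ((Scheme.Modules.pullback (X ◁ a).left).obj N) :=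
    fun W a => rfl
  -- the trivial class is `Pic⁰` and `φ` sends it to `1`
  have htriv0 : ∀ W : Over (Spec (CommRingCat.of k)),
      AbDual.IsPicZeroCl X.hom W (PicF.cl (Coh.structureModule (PicF.XT X.hom W))) := by
    intro W
    have h1 := isPicZeroCl_pullCl k X hL hN hΛ W (1 : W ⟶ X)
    rw [hcl] at h1
    have h2 : PicF.cl ((Scheme.Modules.pullback (X ◁ (1 : W ⟶ X)).left).obj N) =
        PicF.cl (Coh.structureModule (PicF.XT X.hom W)) :=
      cl_eq_of_cls_eq (pull_whisker_one k X hL hN hΛ W)
    rw [h2] at h1
    exact h1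
  have hφ1 : ∀ W : Over (Spec (CommRingCat.of k)),
      φ W (PicF.cl (Coh.structureModule (PicF.XT X.hom W))) = 1 := by
    intro W
    have h1 := hφ.mul W (Coh.structureModule _) (Coh.structureModule _) (htriv0 W) (htriv0 W)
    have h2 : PicF.cl (CohB1.tensorMod (Coh.structureModule (PicF.XT X.hom W)) (Coh.structureModule _)) =
        PicF.cl (Coh.structureModule (PicF.XT X.hom W)) :=
      cl_eq_of_cls_eq (_root_.one_mul (1 : Cls (PicF.XT X.hom W)))
    rw [h2] at h1
    exact (mul_eq_left.1 h1.symm)
  -- naturality
  have hnat : ∀ (W : Over (Spec (CommRingCat.of k))) (a : W ⟶ X),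
      φ W (PicF.cl ((Scheme.Modules.pullback (X ◁ a).left).obj N)) = a ≫ lam := by
    intro W a
    have hN0 : AbDual.IsPicZeroCl X.hom X (PicF.cl N) := by
      have h1 := isPicZeroCl_pullCl k X hL hN hΛ X (𝟙 X)
      rw [hcl] at h1
      have h2 : PicF.cl ((Scheme.Modules.pullback (X ◁ (𝟙 X)).left).obj N) = PicF.cl N := by
        apply cl_eq_of_cls_eq
        rw [← pull_cls, MonoidalCategory.whiskerLeft_id, Over.id_left, pull_id]
      rw [h2] at h1
      exact h1
    have h1 := hφ.relPic.natural X W a (PicF.cl N) hN0
    rw [hcl, hNlam] at h1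
    exact h1
  -- `i ≫ lam = 1`
  have hi : pull (X ◁ i).left (cls N) = 1 := by
    obtain ⟨c, hc, h⟩ := (isMumfordTriv_iff X L i).1 ((hK.univ K i).2 ⟨𝟙 K, Category.id_comp i⟩)
    have h1 := lambda_one_of_mumfordTriv hS X hℓ i c hc h
    have h2 := pull_whisker_identity k X hL hN hΛ i
    rw [← h1, _root_.mul_assoc, _root_.mul_assoc] at h2
    have h3 := ((hℓ.pull (fst X K).left).mul (hℓ.pull (snd X K ≫ i).left)).mul_left_cancel
      (by rw [mul_comm, h2, mul_comm] : _ * pull (X ◁ i).left (cls N) = _ * 1)
    exact h3
  have hcomm : i ≫ lam = toUnit K ≫ η[Xt] := by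
    rw [← hnat K i, cl_eq_of_cls_eq (hi : cls _ = cls (Coh.structureModule _))]
    exact hφ1 K
  -- factorisation
  have hfac : ∀ (W : Over (Spec (CommRingCat.of k))) (a : W ⟶ X), a ≫ lam = toUnit W ≫ η[Xt] →
      ∃ y : W ⟶ K, y ≫ i = a := by
    intro W a ha
    have heq : φ W (PicF.pullCl (PicF.XTmap X.hom a) (PicF.cl N)) =
        φ W (PicF.cl (Coh.structureModule (PicF.XT X.hom W))) := by
      rw [hcl, hnat W a, ha, hφ1 W]
      rfl
    obtain ⟨R, hR, hloc⟩ := hφ.relPic.locallyInjective W _ _ (isPicZeroCl_pullCl k X hL hN hΛ W a) (htriv0 W) heq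
    have : IsClosedImmersion i.left := hK.closed
    obtain ⟨y, hy⟩ := Groth.Agent.Lib.FppfClosed67.exists_fac_of_fppf_local i.left a.left R hR (by
      intro U u hu
      have h1 := hloc u hu
      have h2 : pull (X ◁ (AbDual.ovrHom W u ≫ a)).left (cls N) = 1 := by
        have h3 : cls ((Scheme.Modules.pullback (PicF.XTmap X.hom (AbDual.ovrHom W u))).obj
            ((Scheme.Modules.pullback (X ◁ a).left).obj N)) =
            cls ((Scheme.Modules.pullback (PicF.XTmap X.hom (AbDual.ovrHom W u))).obj
              (Coh.structureModule (PicF.XT X.hom W))) :=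
          cls_eq_iff.2 ((PicGrp.cl_eq_cl_iff _ _).1 h1)
        rw [← pull_cls, ← pull_cls, ← pull_cls] at h3
        have h4 : PicF.XTmap X.hom (AbDual.ovrHom W u) = (X ◁ AbDual.ovrHom W u).left := rfl
        rw [h4, ← pull_comp, ← Over.comp_left, ← MonoidalCategory.whiskerLeft_comp] at h3
        rw [h3]
        exact pull_one _
      have h5 : ThetaGrp.IsMumfordTriv X L (AbDual.ovrHom W u ≫ a) := by
        rw [isMumfordTriv_iff]
        refine ⟨1, Inv.one, ?_⟩
        rw [pull_one, ← h2]
        exact pull_whisker_identity k X hL hN hΛ _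
      obtain ⟨y, hy⟩ := (hK.univ _ _).1 h5
      exact ⟨y.left, congrArg CommaMorphism.left hy⟩)
    refine ⟨Over.homMk y ?_, ?_⟩
    · rw [← Over.w i, ← Category.assoc, hy, Over.w a]
    · ext
      exact hy
  -- assemble
  have : Mono i := by
    have : IsClosedImmersion i.left := hK.closed
    have : Mono i.left := inferInstance
    exact Over.mono_of_mono_left i
  have hs : ∀ s : PullbackCone lam η[Xt], s.fst ≫ lam = toUnit s.pt ≫ η[Xt] := by
    intro s
    rw [s.condition]
    congr 1
    exact toUnit_unique _ _
  refine ⟨⟨hcomm⟩, ⟨PullbackCone.IsLimit.mk _ (fun s => Classical.choose (hfac s.pt s.fst (hs s))) ?_ ?_ ?_⟩⟩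
  · intro s
    exact Classical.choose_spec (hfac s.pt s.fst (hs s))
  · intro s
    exact toUnit_unique _ _
  · intro s m hm _
    rw [← cancel_mono i, hm]
    exact (Classical.choose_spec (hfac s.pt s.fst (hs s))).symm

end Groth.Agent.S19775
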