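import Mathlib
import Groth.Agent.Lib.HMNum27b
import Groth.Statements.S19786

set_option autoImplicit false
universe u
open CategoryTheory MonoidalCategory CartesianMonoidalCategory MonObj AlgebraicGeometry Opposite
open GIT

namespace Groth.Agent.S19786

section Helpers
open Groth.Agent.Lib.HMNum27

theorem exists_chart (k : Type u) [Field k] {G X : Over (Spec (CommRingCat.of k))} [GrpObj G]
    {a : AlgGrp.Action G X} (B : GLinSh.LinBun G a)
    (y' : 𝟙_ (Over (Spec (CommRingCat.of k))) ⟶ X) :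
    ∃ (U' : X.left.Opens) (yc' : Γ(B.V.left, B.π.left ⁻¹ᵁ U')),
      yc' ∈ B.atlas.chart U' ∧ y'.left ⁻¹ᵁ U' = ⊤ := by
  have hsub : Subsingleton (Spec (CommRingCat.of k)) :=
    inferInstanceAs (Subsingleton (PrimeSpectrum k))
  let p : (𝟙_ (Over (Spec (CommRingCat.of k)))).left := (⊥ : PrimeSpectrum k)
  obtain ⟨U', hpU', yc', hyc'⟩ := B.atlas.cover (y'.left.base p)
  refine ⟨U', yc', hyc', ?_⟩
  ext q
  have : q = p := hsub.elim _ _
  subst this
  simpa using hpU'

theorem conj_iff (k : Type u) [Field k] (G X : Over (Spec (CommRingCat.of k))) [GrpObj G]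
    [IsSeparated X.hom]
    (a : AlgGrp.Action G X) (B : GLinSh.LinBun G a) (x : 𝟙_ (Over (Spec (CommRingCat.of k))) ⟶ X)
    (l : Red.Gm (Spec (CommRingCat.of k)) ⟶ G) [IsMonHom l] (g₀ : 𝟙_ (Over (Spec (CommRingCat.of k))) ⟶ G)
    (l' : Red.Gm (Spec (CommRingCat.of k)) ⟶ G) [IsMonHom l'] (hl' : l' = (toUnit _ ≫ g₀)⁻¹ * l * (toUnit _ ≫ g₀))
    (m : ℤ) : HMNum.IsMu B l (lift g₀ x ≫ a.act) m ↔ HMNum.IsMu B l' x m := by
  have hconj₁ : ∀ (T' : Over (Spec (CommRingCat.of k))) (t : T' ⟶ 𝟙_ _)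
      (g : T' ⟶ Red.Gm (Spec (CommRingCat.of k))), g ≫ l' = (t ≫ g₀)⁻¹ * (g ≫ l) * (t ≫ g₀) := by
    intro T' t g
    rw [hl', MonObj.comp_mul, MonObj.comp_mul, GrpObj.comp_inv, ← Category.assoc,
      toUnit_unique (g ≫ toUnit _) t]
  have hconj₂ : ∀ (T' : Over (Spec (CommRingCat.of k))) (t : T' ⟶ 𝟙_ _)
      (g : T' ⟶ Red.Gm (Spec (CommRingCat.of k))),
      g ≫ l = (t ≫ g₀⁻¹)⁻¹ * (g ≫ l') * (t ≫ g₀⁻¹) := by
    intro T' t g
    rw [hconj₁ T' t g, GrpObj.comp_inv, _root_.inv_inv]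
    group
  constructor
  · rintro ⟨y, hlim, hw⟩
    refine ⟨lift g₀⁻¹ y ≫ a.act, ?_, ?_⟩
    · have := isLimitPt_conj l l' g₀ _ _ hconj₁ hlim
      rwa [act_inv_act] at this
    · refine hasFibreWeight_conj B l l' g₀ _ _ hconj₁ (exists_chart k B _) ?_
      rw [act_act_inv]
      exact hw
  · rintro ⟨y', hlim, hw⟩
    refine ⟨lift g₀ y' ≫ a.act, ?_, ?_⟩
    · have := isLimitPt_conj l' l g₀⁻¹ _ _ hconj₂ hlim
      rwa [_root_.inv_inv] at this
    · refine hasFibreWeight_conj B l' l g₀⁻¹ _ _ hconj₂ (exists_chart k B _) ?_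
      rw [act_inv_act]
      exact hw

end Helpers

/-- Let k be an algebraically closed field, G an algebraic group over k (a smooth group scheme of finite
type over k) acting by σ on a scheme X proper over k, L a G-linearised line bundle on X in
total-space form, x a k-point of X, λ : 𝔾_m → G a one-parameter subgroup and α a k-point of G; let
λ' be the conjugate one-parameter subgroup u ↦ α⁻¹·λ(u)·α. Then μ^L(σ(α, x), λ) = μ^L(x, λ'): the
numerical function (the limit of the orbit as u → 0 exists and 𝔾_m acts on the fibre of L over it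
with exponent m) takes the same values at the translated point α·x with λ and at x with λ'. -/
theorem result (k : Type u) [Field k] [IsAlgClosed k]
    (G X : Over (Spec (CommRingCat.of k))) [GrpObj G] [Smooth G.hom] [QuasiCompact G.hom] [IsProper X.hom]
    (a : AlgGrp.Action G X) (B : GLinSh.LinBun G a) (x : 𝟙_ (Over (Spec (CommRingCat.of k))) ⟶ X)
    (l : Red.Gm (Spec (CommRingCat.of k)) ⟶ G) [IsMonHom l] (g₀ : 𝟙_ (Over (Spec (CommRingCat.of k))) ⟶ G)
    (l' : Red.Gm (Spec (CommRingCat.of k)) ⟶ G) [IsMonHom l'] (hl' : l' = (toUnit _ ≫ g₀)⁻¹ * l * (toUnit _ ≫ g₀))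
    (m : ℤ) : HMNum.IsMu B l (lift g₀ x ≫ a.act) m ↔ HMNum.IsMu B l' x m := by
  exact Groth.Agent.S19786.conj_iff k G X a B x l g₀ l' hl' m

end Groth.Agent.S19786
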