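import Mathlib
import Groth.Agent.Lib.HMNum27
import Groth.Statements.S19787

set_option autoImplicit false
universe u
open CategoryTheory MonoidalCategory CartesianMonoidalCategory MonObj AlgebraicGeometry Opposite
open GIT

namespace Groth.Agent.S19787

/-- Let k be an algebraically closed field, G an algebraic group over k (a smooth group scheme of finite
type over k) acting by σ on a scheme X proper over k, L a G-linearised line bundle on X in
total-space form, x a k-point of X, λ : 𝔾_m → G a one-parameter subgroup, and y the specialization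
of λ(u)·x as u → 0 (the value at the origin of the 𝔾_m-equivariant extension to the affine line of
the orbit map u ↦ λ(u)·x). Then μ^L(x, λ) = μ^L(y, λ): the numerical function (the limit exists and
𝔾_m acts on the fibre of L over it with exponent m) takes the same values at (x, λ) and at the fixed
point (y, λ). -/
theorem result (k : Type u) [Field k] [IsAlgClosed k]
    (G X : Over (Spec (CommRingCat.of k))) [GrpObj G] [Smooth G.hom] [QuasiCompact G.hom] [IsProper X.hom]
    (a : AlgGrp.Action G X) (B : GLinSh.LinBun G a) (x : 𝟙_ (Over (Spec (CommRingCat.of k))) ⟶ X)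
    (l : Red.Gm (Spec (CommRingCat.of k)) ⟶ G) [IsMonHom l] (y : 𝟙_ (Over (Spec (CommRingCat.of k))) ⟶ X) (hy : HMNum.IsLimitPt a l x y)
    (m : ℤ) : HMNum.IsMu B l x m ↔ HMNum.IsMu B l y m := by
  have hsep : IsSeparated X.hom := inferInstance
  have hfix : HMNum.IsFixedBy a l y := Groth.Agent.Lib.HMNum27.IsLimitPt.isFixedBy hy
  have hself : HMNum.IsLimitPt a l y y := Groth.Agent.Lib.HMNum27.isLimitPt_self hfix
  constructor
  · rintro ⟨y₁, h1, hw⟩
    have e : y₁ = y := Groth.Agent.Lib.HMNum27.isLimitPt_unique h1 hy
    subst e
    exact ⟨y₁, hself, hw⟩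
  · rintro ⟨y₂, h2, hw⟩
    have e : y₂ = y := Groth.Agent.Lib.HMNum27.isLimitPt_unique h2 hself
    subst e
    exact ⟨y₂, hy, hw⟩

end Groth.Agent.S19787
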