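import Groth.Statements.S19799
import Mathlib.RingTheory.Artinian.Module
import Mathlib.RingTheory.TensorProduct.Pi
import Mathlib.LinearAlgebra.TensorProduct.RightExactness
import Mathlib.FieldTheory.IsAlgClosed.Basic
import Mathlib.RingTheory.Ideal.Quotient.Nilpotent

set_option autoImplicit false
universe u v w
open scoped TensorProduct
open CAlg

namespace Groth.Agent.S19799

/-- A product of reduced rings is reduced. -/
theorem pi_isReduced {ι : Type*} (R : ι → Type*) [∀ i, CommRing (R i)] [∀ i, IsReduced (R i)] :
    IsReduced (∀ i, R i) :=
  ⟨fun _ hx => funext fun i => (hx.map (Pi.evalRingHom R i)).eq_zero⟩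

/-- A reduced finite-dimensional algebra over an algebraically closed field is a finite product of
copies of the field. -/
noncomputable def equivFun (k : Type u) [Field k] [IsAlgClosed k] (A : Type v) [CommRing A]
    [Algebra k A] [Module.Finite k A] [IsReduced A] :
    A ≃ₐ[k] (MaximalSpectrum A → k) :=
  haveI : IsArtinianRing A := IsArtinianRing.of_finite k A
  ((IsArtinianRing.equivPi A).restrictScalars k).trans <|
    AlgEquiv.piCongrRight fun m =>
      letI : Field (A ⧸ m.asIdeal) := Ideal.Quotient.field m.asIdeal
      (AlgEquiv.ofBijective (Algebra.ofId k (A ⧸ m.asIdeal))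
        (IsAlgClosed.algebraMap_bijective_of_isIntegral (k := k) (K := A ⧸ m.asIdeal))).symm

theorem isReduced_tensor (k : Type u) [Field k] [IsAlgClosed k] (A : Type v) [CommRing A]
    [Algebra k A] [Module.Finite k A] [IsReduced A] (B : Type w) [CommRing B] [Algebra k B]
    [IsReduced B] : IsReduced (A ⊗[k] B) := by
  classical
  have : IsArtinianRing A := IsArtinianRing.of_finite k A
  let _ : Fintype (MaximalSpectrum A) := Fintype.ofFinite _
  let e : A ⊗[k] B ≃ₐ[k] (MaximalSpectrum A → B) :=
    ((Algebra.TensorProduct.comm k A B).trans
      (Algebra.TensorProduct.congr AlgEquiv.refl (equivFun k A))).trans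
      (Algebra.TensorProduct.piScalarRight k k B (MaximalSpectrum A))
  have : IsReduced (MaximalSpectrum A → B) := pi_isReduced _
  exact isReduced_of_injective e.toRingHom e.injective

/-- Let k be an algebraically closed field and A, B commutative k-algebras, each finite-dimensional as a
k-vector space. Then reduction commutes with tensor products: the kernel of the canonical surjection
A ⊗_k B ⟶ (A/nilradical A) ⊗_k (B/nilradical B) equals the nilradical of A ⊗_k B, so that this
surjection induces an isomorphism (A ⊗_k B)_red ≅ A_red ⊗_k B_red and in particular A_red ⊗_k B_red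
is reduced. -/
theorem result (k : Type u) [Field k]
    [IsAlgClosed k] (A : Type v) [CommRing A] [Algebra k A] [Module.Finite k A]
    (B : Type w) [CommRing B] [Algebra k B] [Module.Finite k B] :
    RingHom.ker (Algebra.TensorProduct.map (Ideal.Quotient.mkₐ k (nilradical A))
      (Ideal.Quotient.mkₐ k (nilradical B))).toRingHom = nilradical (A ⊗[k] B) := by
  apply le_antisymm
  · have h := Algebra.TensorProduct.map_ker (Ideal.Quotient.mkₐ k (nilradical A))
      (Ideal.Quotient.mkₐ k (nilradical B)) (Ideal.Quotient.mkₐ_surjective _ _)
      (Ideal.Quotient.mkₐ_surjective _ _)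
    change RingHom.ker (Algebra.TensorProduct.map (Ideal.Quotient.mkₐ k (nilradical A))
      (Ideal.Quotient.mkₐ k (nilradical B))) ≤ _
    rw [h, sup_le_iff, Ideal.map_le_iff_le_comap, Ideal.map_le_iff_le_comap]
    constructor
    · intro a ha
      have ha' : a ∈ nilradical A := Ideal.Quotient.eq_zero_iff_mem.mp ha
      exact (mem_nilradical.mp ha').map _
    · intro b hb
      have hb' : b ∈ nilradical B := Ideal.Quotient.eq_zero_iff_mem.mp hb
      exact (mem_nilradical.mp hb').map _
  · intro x hx
    have hA : IsReduced (A ⧸ nilradical A) :=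
      (Ideal.isRadical_iff_quotient_reduced _).mp (Ideal.radical_isRadical _)
    have hB : IsReduced (B ⧸ nilradical B) :=
      (Ideal.isRadical_iff_quotient_reduced _).mp (Ideal.radical_isRadical _)
    have : IsReduced ((A ⧸ nilradical A) ⊗[k] (B ⧸ nilradical B)) := isReduced_tensor k _ _
    rw [RingHom.mem_ker]
    exact ((mem_nilradical.mp hx).map _).eq_zero

end Groth.Agent.S19799
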