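import Groth.Statements.S19804
import Mathlib.RingTheory.Spectrum.Prime.FreeLocus

set_option autoImplicit false
open scoped TensorProduct
universe u v w
open Brauer

namespace Groth.Agent.S19804

/-- Key lemma: for an algebra `A` which is finite projective as a module over a ring `R` with
connected spectrum, an idempotent of `A` which dies after a nonzero base change is zero. -/
theorem eq_zero_of_tmul_eq_zero {R : Type u} [CommRing R]
    [ConnectedSpace (PrimeSpectrum R)] {A : Type v} [Ring A] [Algebra R A]
    [Module.Finite R A] [Module.Projective R A]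
    (e : A) (he : IsIdempotentElem e) (R' : Type w) [CommRing R'] [Nontrivial R'] [Algebra R R']
    (h : (1 : R') ⊗ₜ[R] e = (0 : R' ⊗[R] A)) : e = 0 := by
  -- the right ideal `eA` as an `R`-module
  let p : A →ₗ[R] A := LinearMap.mulLeft R e
  let M : Submodule R A := LinearMap.range p
  let i : M →ₗ[R] A := M.subtype
  let s : A →ₗ[R] M := p.rangeRestrict
  have hsi : s ∘ₗ i = LinearMap.id := by
    ext ⟨m, a, rfl⟩
    simp only [LinearMap.coe_comp, Function.comp_apply, LinearMap.id_coe, id_eq]
    change p (p a) = p a
    simp only [p, LinearMap.mulLeft_apply, ← mul_assoc, he.eq]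
  have : Module.Projective R M := Module.Projective.of_split i s hsi
  have : Module.Finite R M := Module.Finite.range p
  have : Module.FinitePresentation R M := Module.finitePresentation_of_projective R M
  -- the base change of `M` is zero
  have hinj : Function.Injective (LinearMap.lTensor R' i) := by
    apply Function.LeftInverse.injective (g := LinearMap.lTensor R' s)
    intro x
    rw [← LinearMap.comp_apply, ← LinearMap.lTensor_comp, hsi, LinearMap.lTensor_id,
      LinearMap.id_apply]
  have hzero : ∀ x : R' ⊗[R] M, LinearMap.lTensor R' i x = 0 := by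
    intro x
    induction x using TensorProduct.induction_on with
    | zero => simp
    | tmul r m =>
      obtain ⟨m, a, rfl⟩ := m
      change r ⊗ₜ[R] (e * a) = 0
      have : r ⊗ₜ[R] (e * a) = ((1 : R') ⊗ₜ[R] e) * (r ⊗ₜ[R] a) := by
        rw [Algebra.TensorProduct.tmul_mul_tmul, one_mul]
      rw [this, h, zero_mul]
    | add x y hx hy => rw [map_add, hx, hy, add_zero]
  have hsub : Subsingleton (R' ⊗[R] M) :=
    ⟨fun x y => hinj (by rw [hzero x, hzero y])⟩
  -- the rank of `M` vanishes at one point, hence everywhere
  obtain ⟨q⟩ : Nonempty (PrimeSpectrum R') := inferInstance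
  have h0 : Module.rankAtStalk M (q.comap (algebraMap R R')) = 0 := by
    rw [← Module.rankAtStalk_baseChange, Module.rankAtStalk_eq_zero_of_subsingleton]
    rfl
  have hconst : Module.rankAtStalk (R := R) M = 0 := by
    ext x
    rw [(Module.isLocallyConstant_rankAtStalk (R := R) (M := M)).apply_eq_of_preconnectedSpace x
      (q.comap (algebraMap R R')), h0]
    rfl
  have hM : Subsingleton M := Module.rankAtStalk_eq_zero_iff_subsingleton.mp hconst
  have hmem : e ∈ M := ⟨1, by simp [p]⟩
  have := Subsingleton.elim (⟨e, hmem⟩ : M) 0
  exact congrArg Subtype.val this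

/-- Let R be a commutative ring with Spec R connected, A an Azumaya R-algebra and e an idempotent
element of A. If for some nonzero commutative R-algebra R' the element 1 ⊗ e of R' ⊗_R A is 0, then
e = 0; and if 1 ⊗ e = 1 in R' ⊗_R A, then e = 1. (The published statement is for an Azumaya algebra
over a connected scheme S and base change to an arbitrary nonempty S-scheme T; this row takes S and
T affine.) -/
theorem result {R : Type u} [CommRing R]
    [ConnectedSpace (PrimeSpectrum R)] {A : Type v} [Ring A] [Algebra R A] [IsAzumaya R A]
    (e : A) (he : IsIdempotentElem e) (R' : Type w) [CommRing R'] [Nontrivial R'] [Algebra R R'] :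
    ((1 : R') ⊗ₜ[R] e = (0 : R' ⊗[R] A) → e = 0) ∧ ((1 : R') ⊗ₜ[R] e = (1 : R' ⊗[R] A) → e = 1) := by
  refine ⟨eq_zero_of_tmul_eq_zero e he R', fun h => ?_⟩
  have h' : (1 : R') ⊗ₜ[R] (1 - e) = (0 : R' ⊗[R] A) := by
    rw [TensorProduct.tmul_sub, h, ← Algebra.TensorProduct.one_def, sub_self]
  have := eq_zero_of_tmul_eq_zero (1 - e) he.one_sub R' h'
  exact (sub_eq_zero.mp this).symm

end Groth.Agent.S19804
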