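import Groth.Statements.S19807
import Groth.Agent.Lib.CohGrowthMultiHH
import Groth.Agent.Lib.H90InvMono
-- import your own Groth.Agent.* helpers here

set_option autoImplicit false
universe u
open CategoryTheory CategoryTheory.Limits AlgebraicGeometry
open scoped ENNReal
open Variety

namespace Groth.Agent.S19807


section Helpers

open Groth.Agent.Lib.OXModTensor Groth.Agent.Lib.TwistEquiv CohB1

variable {X : Scheme.{u}}

/-- tensoring on the right with an invertible module preserves monomorphisms -/
theorem mono_tensorRight {P : X.Modules} (hP : PicF.IsInvertible P) {A B : X.Modules} (f : A ⟶ B)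
    [Mono f] : Mono (tensorModMap f (𝟙 P)) := by
  obtain ⟨M', -, ⟨e⟩⟩ := Groth.Agent.Lib.H78Dual.exists_tensor_inverse hP
  have := isEquivalence_tensorRightFunctor (braiding _ _ ≪≫ e)
  rw [← tensorRightFunctor_map]
  have hra : (tensorRightFunctor P).IsRightAdjoint := inferInstance
  have := Functor.preservesMonomorphisms_of_isRightAdjoint (tensorRightFunctor P)
  exact (tensorRightFunctor P).map_mono f

/-- tensoring on the left with an invertible module preserves monomorphisms -/
theorem mono_tensorLeft {P : X.Modules} (hP : PicF.IsInvertible P) {A B : X.Modules} (f : A ⟶ B)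
    [Mono f] : Mono (tensorModMap (𝟙 P) f) := by
  obtain ⟨M', -, ⟨e⟩⟩ := Groth.Agent.Lib.H78Dual.exists_tensor_inverse hP
  have := isEquivalence_tensorLeftFunctor (braiding _ _ ≪≫ e)
  rw [← tensorLeftFunctor_map]
  have hra : (tensorLeftFunctor P).IsRightAdjoint := inferInstance
  have := Functor.preservesMonomorphisms_of_isRightAdjoint (tensorLeftFunctor P)
  exact (tensorLeftFunctor P).map_mono f

theorem mono_tensorModMap {A A' B B' : X.Modules} (hB : PicF.IsInvertible B)
    (hA' : PicF.IsInvertible A') (f : A ⟶ A') (g : B ⟶ B') [Mono f] [Mono g] :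
    Mono (tensorModMap f g) := by
  have e : tensorModMap f g = tensorModMap f (𝟙 B) ≫ tensorModMap (𝟙 A') g := by
    rw [← tensorModMap_comp, Category.comp_id, Category.id_comp]
  rw [e]
  have := mono_tensorRight hB f
  have := mono_tensorLeft hA' g
  exact mono_comp _ _

/-- a monomorphism `L^m ⟶ (L ⊗ E)^m` -/
theorem exists_mono_pow [IsIntegral X] {L E : X.Modules} (hL : PicF.IsInvertible L)
    (hE : PicF.IsInvertible E) (s : Coh.structureModule X ⟶ E) (hs : s ≠ 0) (m : ℕ) :
    ∃ j : tensorPow L m ⟶ tensorPow (tensorMod L E) m, Mono j := by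
  have hs' : Mono s := Groth.Agent.Lib.H90InvMono.mono_of_ne_zero
    (Groth.Agent.Lib.H90Invertible.isInvertible_structureModule X) hE s hs
  have ht : Mono ((rightUnitor L).inv ≫ tensorModMap (𝟙 L) s) := by
    have := mono_tensorLeft hL s
    exact mono_comp _ _
  induction m with
  | zero => exact ⟨𝟙 _, @IsIso.mono_of_iso _ _ _ _ (𝟙 _) (IsIso.id _)⟩
  | succ m ih =>
    obtain ⟨j, hj⟩ := ih
    refine ⟨tensorModMap j ((rightUnitor L).inv ≫ tensorModMap (𝟙 L) s), ?_⟩
    exact mono_tensorModMap hL
      (Groth.Agent.Lib.OXModRestrict.isInvertible_tensorPow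
        (Groth.Agent.Lib.OXModRestrict.isInvertible_tensorMod hL hE) m) _ _

end Helpers

/-- Let X be a projective variety of dimension d over a field k (a geometrically integral scheme, proper
over k, admitting an ample invertible module, with dim X = d) and L an invertible O_X-module; write
vol(L) for the upper limit of dim_k H^0(X, L^m) / m^d as m → ∞, taken in the extended non-negative
reals (the volume of L up to the factor d!). If E is an invertible O_X-module admitting a nonzero
global section (an effective Cartier divisor), then vol(L) ≤ vol(L ⊗ E): the volume increases in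
effective directions. -/
theorem result (k : Type u) [Field k] (X : Scheme.{u})
    [X.Over (Spec (CommRingCat.of k))] [IsIntegral X] [GeometricallyIntegral (X ↘ Spec (CommRingCat.of k))]
    [IsProper (X ↘ Spec (CommRingCat.of k))]
    (hproj : ∃ A : X.Modules, CohB1.IsAmple A) (d : ℕ) (hd : topologicalKrullDim X = d)
    (L : X.Modules) (hL : PicF.IsInvertible L)
    (E : X.Modules) (hE : PicF.IsInvertible E) (s : Coh.structureModule X ⟶ E) (hs : s ≠ 0) :
    Filter.limsup (fun m : ℕ => (Module.finrank k (Coh.HH X (CohB1.tensorPow L m) 0) : ℝ≥0∞) /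
        (m : ℝ≥0∞) ^ d) Filter.atTop ≤
      Filter.limsup (fun m : ℕ => (Module.finrank k (Coh.HH X (CohB1.tensorPow (CohB1.tensorMod L E) m) 0) : ℝ≥0∞) /
        (m : ℝ≥0∞) ^ d) Filter.atTop := by
  refine Filter.limsup_le_limsup (Filter.Eventually.of_forall fun m => ?_)
  obtain ⟨j, hj⟩ := exists_mono_pow hL hE s hs m
  have hLm : Coh.IsCoh (CohB1.tensorPow L m) :=
    Groth.Agent.Lib.H90Invertible.isCoh_of_isInvertible
      (Groth.Agent.Lib.OXModRestrict.isInvertible_tensorPow hL m)
  have hLEm : Coh.IsCoh (CohB1.tensorPow (CohB1.tensorMod L E) m) :=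
    Groth.Agent.Lib.H90Invertible.isCoh_of_isInvertible
      (Groth.Agent.Lib.OXModRestrict.isInvertible_tensorPow
        (Groth.Agent.Lib.OXModRestrict.isInvertible_tensorMod hL hE) m)
  have hle := Groth.Agent.Lib.CohGrowthHH.hh_left_zero_le k
    (Groth.Agent.Lib.H90DevTwo.shortExact_cokernel j) hLm hLEm
  change Module.finrank k (Coh.HH X (CohB1.tensorPow L m) 0) ≤
    Module.finrank k (Coh.HH X (CohB1.tensorPow (CohB1.tensorMod L E) m) 0) at hle
  exact ENNReal.div_le_div_right (by exact_mod_cast hle) _

end Groth.Agent.S19807
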