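import Groth.Statements.S19809
import Groth.Agent.Lib.BinaryForms75
-- import your own Groth.Agent.* helpers here

set_option autoImplicit false
universe u
open RatCurv

namespace Groth.Agent.S19809

open Groth.Agent.Lib.BinaryForms75 Groth.Agent.S16515 in
/-- A smooth rational quintic curve C ⊂ P^3 has a one-parameter family of 3-secant lines. Stated, as for
the nondegenerate case, through binary forms: C is the image of P^1 under a 4-dimensional linear
series V of binary quintic forms which separates every length-2 subscheme of P^1 (for every nonzero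
quadratic form e, the forms of V together with the multiples of e span all quintic forms), so that
P^1 → P(V^*) = P^3 is a closed embedding; the linear forms on P^3 are the elements of V, a line L ⊂
P^3 is the 2-dimensional space of linear forms vanishing on it, and L ∩ C has length at least 3
exactly when that space is contained in g · K[s,t]_2 for a cubic form g. The conclusion: there are
infinitely many pairwise non-proportional nonzero cubic forms g with dim (V ∩ g · K[s,t]_2) ≥ 2,
i.e. for every finite set of cubics there is such a g proportional to none of them. (The ground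
field is algebraically closed of characteristic zero in place of the complex numbers; the third
printed assertion, on curves all of whose 3-secants are 4-secant, is not stated.) -/
theorem result (K : Type u) [Field K] [IsAlgClosed K]
    [CharZero K] (V : Submodule K (MvPolynomial (Fin 2) K))
    (hV : V ≤ MvPolynomial.homogeneousSubmodule (Fin 2) K 5) (hdim : Module.finrank K ↥V = 4)
    (hsep : ∀ e ∈ MvPolynomial.homogeneousSubmodule (Fin 2) K 2, e ≠ 0 →
      ∀ F ∈ MvPolynomial.homogeneousSubmodule (Fin 2) K 5, ∃ v ∈ V,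
        ∃ h ∈ MvPolynomial.homogeneousSubmodule (Fin 2) K 3, F = v + e * h)
    (F : Finset (MvPolynomial (Fin 2) K)) :
    ∃ g ∈ MvPolynomial.homogeneousSubmodule (Fin 2) K 3, g ≠ 0 ∧
      2 ≤ Module.finrank K ↥(V ⊓ (MvPolynomial.homogeneousSubmodule (Fin 2) K 2).map (LinearMap.mulLeft K g)) ∧
      ∀ g' ∈ F, ∀ c : K, g ≠ c • g' := by
  classical
  have hfin : Module.Finite K V := Module.finite_of_finrank_pos (by omega)
  obtain ⟨p1, p2, hp⟩ := exists_pencil V hV hdim
  by_contra hcon
  push Not at hcon
  have key : ∀ c : K, ∃ g' : F, ∃ a : K, ∃ g : MvPolynomial.homogeneousSubmodule (Fin 2) K 3,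
      g ≠ 0 ∧ (∀ h : MvPolynomial.homogeneousSubmodule (Fin 2) K 2,
        (p1 + c • p2) (mulForms K 3 2 5 rfl g h) = 0) ∧ g.1 = a • g'.1 := by
    intro c
    obtain ⟨g, hg0, hker⟩ := exists_cubic_ker (p1 + c • p2)
    obtain ⟨g', hg'F, a, hga⟩ := hcon g.1 g.2 (fun h => hg0 (Subtype.ext h))
      (two_le_finrank_inf V p1 p2 hp c g hg0 hker)
    exact ⟨⟨g', hg'F⟩, a, g, hg0, hker, hga⟩
  choose f a g hg0 hker hga using key
  have : Infinite K := IsAlgClosed.instInfinite
  obtain ⟨c, c', hcc, hf⟩ := Finite.exists_ne_map_eq_of_infinite f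
  have hac : a c ≠ 0 := by
    intro h0
    apply hg0 c
    apply Subtype.ext
    rw [hga c, h0, zero_smul]
    rfl
  have hac' : a c' ≠ 0 := by
    intro h0
    apply hg0 c'
    apply Subtype.ext
    rw [hga c', h0, zero_smul]
    rfl
  set g' : MvPolynomial (Fin 2) K := (f c).1 with hg'
  have e1 : g' = (a c)⁻¹ • (g c).1 := by
    rw [hga c, smul_smul, inv_mul_cancel₀ hac, one_smul]
  have e2 : g' = (a c')⁻¹ • (g c').1 := by
    rw [hga c', ← hf, smul_smul, inv_mul_cancel₀ hac', one_smul]
  have hg'mem : g' ∈ MvPolynomial.homogeneousSubmodule (Fin 2) K 3 := by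
    rw [e1]
    exact Submodule.smul_mem _ _ (g c).2
  have hg'0 : g' ≠ 0 := by
    intro h0
    apply hg0 c
    apply Subtype.ext
    rw [hga c, ← hg', h0, smul_zero]
    rfl
  apply no_cubic_mul_le V hV hdim hsep hg'mem hg'0
  intro h hh
  have hmem5 : g' * h ∈ MvPolynomial.homogeneousSubmodule (Fin 2) K 5 :=
    MvPolynomial.IsHomogeneous.mul hg'mem hh
  refine (hp ⟨g' * h, hmem5⟩).2 ?_
  have E1 : (⟨g' * h, hmem5⟩ : MvPolynomial.homogeneousSubmodule (Fin 2) K 5) =
      (a c)⁻¹ • mulForms K 3 2 5 rfl (g c) ⟨h, hh⟩ := by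
    apply Subtype.ext
    show g' * h = (a c)⁻¹ • ((g c).1 * h)
    rw [e1, smul_mul_assoc]
  have E2 : (⟨g' * h, hmem5⟩ : MvPolynomial.homogeneousSubmodule (Fin 2) K 5) =
      (a c')⁻¹ • mulForms K 3 2 5 rfl (g c') ⟨h, hh⟩ := by
    apply Subtype.ext
    show g' * h = (a c')⁻¹ • ((g c').1 * h)
    rw [e2, smul_mul_assoc]
  have k1 : (p1 + c • p2) ⟨g' * h, hmem5⟩ = 0 := by
    rw [E1, map_smul, hker c, smul_zero]
  have k2 : (p1 + c' • p2) ⟨g' * h, hmem5⟩ = 0 := by
    rw [E2, map_smul, hker c', smul_zero]
  simp only [LinearMap.add_apply, LinearMap.smul_apply, smul_eq_mul] at k1 k2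
  have h3 : (c - c') * p2 ⟨g' * h, hmem5⟩ = 0 := by linear_combination k1 - k2
  have hp2 : p2 ⟨g' * h, hmem5⟩ = 0 := (mul_eq_zero.1 h3).resolve_left (sub_ne_zero.2 hcc)
  refine ⟨?_, hp2⟩
  rw [hp2, mul_zero, add_zero] at k1
  exact k1

end Groth.Agent.S19809
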