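import Mathlib
import Groth.Statements.S19856

set_option autoImplicit false
universe u v
open CAlg

namespace Groth.Agent.S19856

section Helpers

open IsLocalRing

/-- A ring endomorphism of a Noetherian local ring that is of finite order `n` invertible in the ring,
acts trivially on the residue field and on `m/m²`, is the identity. -/
theorem eq_self_of_tame {O : Type*} [CommRing O] [IsLocalRing O] [IsNoetherianRing O]
    (g : O →+* O) (n : ℕ) (hn : IsUnit (n : O)) (hgn : ∀ a, g^[n] a = a)
    (ha : ∀ a, g a - a ∈ maximalIdeal O)
    (hb : ∀ y ∈ maximalIdeal O, g y - y ∈ maximalIdeal O ^ 2) :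
    ∀ a, g a = a := by
  -- P j : g acts trivially on m^j / m^(j+1)
  have P : ∀ j : ℕ, ∀ y ∈ maximalIdeal O ^ j, g y - y ∈ maximalIdeal O ^ (j + 1) := by
    intro j
    induction j with
    | zero => intro y _; simpa using ha y
    | succ j ih =>
      intro y hy
      rw [pow_succ] at hy
      refine Submodule.mul_induction_on hy ?_ ?_
      · intro a haj b hbm
        have e : g (a * b) - a * b = g a * (g b - b) + (g a - a) * b := by
          rw [map_mul]; ring
        rw [e]
        have hga : g a ∈ maximalIdeal O ^ j := by
          have : g a = (g a - a) + a := by ring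
          rw [this]
          exact Ideal.add_mem _ (Ideal.pow_le_pow_right (Nat.le_succ j) (ih a haj)) haj
        apply Ideal.add_mem
        · have : maximalIdeal O ^ (j + 1 + 1) = maximalIdeal O ^ j * maximalIdeal O ^ 2 := by
            rw [← pow_add]
          rw [this]
          exact Ideal.mul_mem_mul hga (hb b hbm)
        · rw [pow_succ (maximalIdeal O) (j + 1)]
          exact Ideal.mul_mem_mul (ih a haj) hbm
      · intro x y hx hy
        have e : g (x + y) - (x + y) = (g x - x) + (g y - y) := by
          rw [map_add]; ring
        rw [e]
        exact Ideal.add_mem _ hx hy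
  -- Q j : g a - a ∈ m^j for all a
  have Q : ∀ j : ℕ, ∀ a, g a - a ∈ maximalIdeal O ^ j := by
    intro j
    induction j with
    | zero => intro a; simp
    | succ j ih =>
      intro a
      have R : ∀ r : ℕ, g^[r] a - a - r * (g a - a) ∈ maximalIdeal O ^ (j + 1) := by
        intro r
        induction r with
        | zero => simp
        | succ r ihr =>
          have hy : g^[r] a - a ∈ maximalIdeal O ^ j := by
            have : g^[r] a - a = (g^[r] a - a - r * (g a - a)) + r * (g a - a) := by ring
            rw [this]
            exact Ideal.add_mem _ (Ideal.pow_le_pow_right (Nat.le_succ j) ihr)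
              (Ideal.mul_mem_left _ _ (ih a))
          have e : g^[r + 1] a - a - ((r + 1 : ℕ) : O) * (g a - a)
              = (g (g^[r] a - a) - (g^[r] a - a)) + (g^[r] a - a - r * (g a - a)) := by
            rw [Function.iterate_succ_apply', map_sub]
            push_cast
            ring
          rw [e]
          exact Ideal.add_mem _ (P j _ hy) ihr
      have := R n
      rw [hgn a, sub_self, zero_sub, neg_mem_iff] at this
      obtain ⟨c, hc⟩ := hn.exists_left_inv
      have e : g a - a = c * ((n : O) * (g a - a)) := by
        rw [← mul_assoc, hc, one_mul]
      rw [e]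
      exact Ideal.mul_mem_left _ _ this
  intro a
  have : g a - a ∈ (⨅ j, maximalIdeal O ^ j : Ideal O) := by
    rw [Ideal.mem_iInf]
    exact fun j => Q j a
  rw [Ideal.iInf_pow_eq_bot_of_isLocalRing _ (Ideal.IsPrime.ne_top inferInstance)] at this
  exact sub_eq_zero.mp this

end Helpers

/-- Ring-level form: let O be a discrete valuation ring and G a finite group acting faithfully on O by
ring automorphisms, such that every element of G acts trivially on the residue field of O (that is,
g • a - a lies in the maximal ideal for all a) and such that the order of G is nonzero in the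
residue field of O. Then G is cyclic. (The source states this for a finite group of order invertible
in an algebraically closed field k acting faithfully on a smooth connected k-variety and the
subgroup of elements fixing pointwise a codimension-one irreducible component of the ramification
locus, applied to the local ring at the generic point of that component; it is stated here for an
arbitrary discrete valuation ring with a faithful action. The source also shows that this subgroup
is nontrivial; that geometric part is not stated.) -/
theorem result
    (O : Type u) [CommRing O] [IsDomain O] [IsDiscreteValuationRing O]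
    (G : Type v) [Group G] [Finite G] [MulSemiringAction G O] [FaithfulSMul G O]
    (htriv : ∀ (g : G) (a : O), g • a - a ∈ IsLocalRing.maximalIdeal O)
    (hcard : ((Nat.card G : ℕ) : IsLocalRing.ResidueField O) ≠ 0) :
    IsCyclic G := by
  obtain ⟨π, hπ⟩ := IsDiscreteValuationRing.exists_irreducible O
  have hm : IsLocalRing.maximalIdeal O = Ideal.span {π} := hπ.maximalIdeal_eq
  have hπ0 : π ≠ 0 := hπ.ne_zero
  have hπm : π ∈ IsLocalRing.maximalIdeal O := by
    rw [hm]; exact Ideal.subset_span rfl
  -- g preserves the maximal ideal
  have hgm : ∀ (g : G) (y : O), y ∈ IsLocalRing.maximalIdeal O → g • y ∈ IsLocalRing.maximalIdeal O := by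
    intro g y hy
    have : g • y = (g • y - y) + y := by ring
    rw [this]
    exact Ideal.add_mem _ (htriv g y) hy
  have hu : ∀ g : G, ∃ w : O, g • π = w * π := by
    intro g
    have := hgm g π hπm
    rw [hm, Ideal.mem_span_singleton'] at this
    obtain ⟨w, hw⟩ := this
    exact ⟨w, hw.symm⟩
  choose w hw using hu
  have hw1 : w 1 = 1 := by
    have := hw 1
    rw [one_smul] at this
    have h2 : (w 1 - 1) * π = 0 := by rw [sub_mul, ← this, one_mul, sub_self]
    rcases mul_eq_zero.mp h2 with h | h
    · exact sub_eq_zero.mp h
    · exact absurd h hπ0
  have hwmul : ∀ g h : G, w (g * h) = (g • w h) * w g := by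
    intro g h
    have h1 := hw (g * h)
    rw [mul_smul, hw h, smul_mul', hw g, ← mul_assoc] at h1
    exact mul_right_cancel₀ hπ0 h1.symm
  let χ : G →* IsLocalRing.ResidueField O :=
    { toFun := fun g => IsLocalRing.residue O (w g)
      map_one' := by rw [hw1, map_one]
      map_mul' := by
        intro g h
        rw [hwmul, map_mul]
        have : IsLocalRing.residue O (g • w h) = IsLocalRing.residue O (w h) := by
          rw [← sub_eq_zero, ← map_sub, IsLocalRing.residue_eq_zero_iff]
          exact htriv g (w h)
        rw [this, mul_comm] }
  have hχ : ∀ g, χ g = IsLocalRing.residue O (w g) := fun _ => rfl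
  -- kernel is trivial
  have hker : ∀ t : G, χ t = 1 → t = 1 := by
    intro t ht
    have hn : IsUnit ((Nat.card G : ℕ) : O) := by
      rw [← IsLocalRing.notMem_maximalIdeal, ← IsLocalRing.residue_eq_zero_iff, map_natCast]
      exact hcard
    have hw1m : w t - 1 ∈ IsLocalRing.maximalIdeal O := by
      rw [← IsLocalRing.residue_eq_zero_iff, map_sub, map_one, ← hχ, ht, sub_self]
    have key := eq_self_of_tame (MulSemiringAction.toRingHom G O t) (Nat.card G) hn ?_ ?_ ?_
    · apply FaithfulSMul.eq_of_smul_eq_smul (α := O)
      intro a
      rw [one_smul]
      exact key a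
    · intro a
      have : ⇑(MulSemiringAction.toRingHom G O t) = (t • · : O → O) := rfl
      rw [this, smul_iterate, pow_card_eq_one']
      exact one_smul G a
    · intro a
      exact htriv t a
    · intro y hy
      change t • y - y ∈ _
      rw [hm, Ideal.mem_span_singleton'] at hy
      obtain ⟨c, rfl⟩ := hy
      have e : t • (c * π) - c * π = (t • c) * ((w t - 1) * π) + (t • c - c) * π := by
        rw [smul_mul', hw t]; ring
      rw [e, pow_two]
      apply Ideal.add_mem
      · exact Ideal.mul_mem_left _ _ (Ideal.mul_mem_mul hw1m hπm)
      · exact Ideal.mul_mem_mul (htriv t c) hπm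
  apply isCyclic_of_injective_ringHom χ
  intro g h hgh
  have hne : χ h ≠ 0 := by
    intro h0
    have : χ (h * h⁻¹) = 0 := by rw [map_mul, h0, zero_mul]
    rw [mul_inv_cancel, map_one] at this
    exact one_ne_zero this
  have h1 : χ (h⁻¹ * g) = 1 := by
    have : χ h * χ (h⁻¹ * g) = χ h * 1 := by
      rw [← map_mul, mul_inv_cancel_left, mul_one, hgh]
    exact mul_left_cancel₀ hne this
  have := hker _ h1
  rw [inv_mul_eq_one] at this
  exact this.symm

end Groth.Agent.S19856
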