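-- Statement S19858.
import Groth.Statements.S19858
import Groth.Agent.Lib.H30NormalHom
import Groth.Agent.Lib.WeaklyEtale
import Mathlib

set_option autoImplicit false
universe u
open EGA4

namespace Groth.Agent.S19858

section Helpers
open TensorProduct

theorem main (A B C : Type u)
    [CommRing A] [CommRing B] [CommRing C]
    [Algebra A B] [Algebra B C] [Algebra A C] [IsScalarTower A B C] [Module.FaithfullyFlat B C]
    (hAC : EGA4.IsNormalHom A C) : EGA4.IsNormalHom A B := by
  haveI := hAC.1
  haveI : Module.Flat A B := Groth.Agent.Lib.WeaklyEtale.flat_of_flat_of_faithfullyFlat A B C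
  apply Groth.Agent.Lib.H30NormalHom.isNormalHom_of_forall_field
  intro K _ _
  have h1 : EGA4.IsNormalRing (K ⊗[A] C) :=
    Groth.Agent.Lib.H30NormalHom.isNormalRing_field_tensor_of_isNormalHom A C hAC K
  have e1 : K ⊗[A] C ≃ₐ[A] C ⊗[A] K := Algebra.TensorProduct.comm A K C
  have e2 : C ⊗[B] (B ⊗[A] K) ≃ₐ[C] C ⊗[A] K := Algebra.TensorProduct.cancelBaseChange A B C C K
  have e3 : (B ⊗[A] K) ⊗[B] C ≃ₐ[B] C ⊗[B] (B ⊗[A] K) := Algebra.TensorProduct.comm B _ _
  have h2 : EGA4.IsNormalRing ((B ⊗[A] K) ⊗[B] C) :=
    Groth.Agent.Lib.H30GeomNormal.isNormalRing_of_ringEquiv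
      (e1.toRingEquiv.trans (e2.symm.toRingEquiv.trans e3.symm.toRingEquiv)) h1
  have h3 : EGA4.IsNormalRing (B ⊗[A] K) :=
    Groth.Agent.Lib.H30GeomNormalTensor.isNormalRing_of_faithfullyFlat (B ⊗[A] K)
      ((B ⊗[A] K) ⊗[B] C) h2
  exact Groth.Agent.Lib.H30GeomNormal.isNormalRing_of_ringEquiv
    (Algebra.TensorProduct.comm A B K).toRingEquiv h3

end Helpers

/-- Let A → B → C be homomorphisms of Noetherian rings such that C is faithfully flat over B and the
composite A → C is a normal homomorphism (flat, with geometrically normal fibres). Then A → B is a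
normal homomorphism. (In the source C is the adic completion of A along an ideal and A → C is
assumed normal; only the faithful flatness of B → C and the normality of A → C enter, so C is an
arbitrary Noetherian ring here.) -/
theorem result (A B C : Type u)
    [CommRing A] [CommRing B] [CommRing C] [IsNoetherianRing A] [IsNoetherianRing B] [IsNoetherianRing C]
    [Algebra A B] [Algebra B C] [Algebra A C] [IsScalarTower A B C] [Module.FaithfullyFlat B C]
    (hAC : EGA4.IsNormalHom A C) : EGA4.IsNormalHom A B := by
  exact main A B C hAC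

end Groth.Agent.S19858
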