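import Groth.Statements.S4736
import Groth.Agent.Lib.FibreBaseChangeApps
import Mathlib.RingTheory.Localization.BaseChange
-- import your own Groth.Agent.* helpers here

set_option autoImplicit false
universe u
open EGA4

namespace Groth.Agent.S4736

/-- Let A → B be a regular homomorphism of Noetherian rings (flat, with geometrically regular fibres)
and S a multiplicative subset of A. Then the induced homomorphism S⁻¹A → S⁻¹B is regular. (S⁻¹A and
S⁻¹B are given here as arbitrary localizations at S and at its image.) -/
theorem result (A B : Type u) [CommRing A] [CommRing B] [IsNoetherianRing A] [IsNoetherianRing B]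
    [Algebra A B] (h : CAlg.IsRegularHom A B) (S : Submonoid A)
    (A' B' : Type u) [CommRing A'] [CommRing B'] [Algebra A A'] [Algebra B B'] [Algebra A' B'] [Algebra A B']
    [IsScalarTower A A' B'] [IsScalarTower A B B'] [IsLocalization S A']
    [IsLocalization (Algebra.algebraMapSubmonoid B S) B'] :
    CAlg.IsRegularHom A' B' := by
  obtain ⟨hflat, hfib⟩ := h
  have hpo : Algebra.IsPushout A A' B B' := (Algebra.isPushout_of_isLocalization S A' B B').symm
  have hso : (algebraMap A A').SurjectiveOnStalks := RingHom.surjectiveOnStalks_of_isLocalization S A'
  constructor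
  · have h1 : Module.Flat B B' := IsLocalization.flat B' (Algebra.algebraMapSubmonoid B S)
    have h2 : Module.Flat A B' := Module.Flat.trans A B B'
    exact (Module.flat_iff_of_isLocalization A' S B').2 h2
  · intro p' _
    have hreg := Groth.Agent.Lib.FibreBaseChangeApps.isGeometricallyRegular_fiber_of_surjectiveOnStalks
      A A' B B' hso p' (hfib (p'.comap (algebraMap A A'))).2
    exact ⟨Groth.Agent.Lib.FibreBaseChangeApps.isNoetherianRing_of_isGeometricallyRegular _ _ hreg, hreg⟩

end Groth.Agent.S4736
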