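-- Statement S19863.
import Groth.Statements.S19863
import Groth.Agent.S4736
import Groth.Agent.S9250
import Groth.Agent.Lib.AdicNoeth
import Groth.Agent.Lib.H87Serre2
import Mathlib

set_option autoImplicit false
universe u
open EGA4

namespace Groth.Agent.S19863

section Helpers

variable (A : Type u) [CommRing A] [IsNoetherianRing A] (J : Ideal A)

/-- Elements of `1 + J` become units in the `J`-adic completion. -/
theorem isUnit_of_mem (t : A) (ht : t ∈ MonoidHom.mker (Ideal.Quotient.mk J)) :
    IsUnit (algebraMap A (AdicCompletion J A) t) := by
  have hfg : J.FG := (isNoetherianRing_iff_ideal_fg A).1 inferInstance J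
  haveI := AdicCompletion.isAdicComplete_self J hfg
  have hj : t - 1 ∈ J := by
    rw [← Ideal.Quotient.eq]
    simpa using ht
  have h1 : algebraMap A (AdicCompletion J A) (t - 1) ∈
      (⊥ : Ideal (AdicCompletion J A)).jacobson :=
    IsAdicComplete.le_jacobson_bot (J.map (algebraMap A (AdicCompletion J A)))
      (Ideal.mem_map_of_mem _ hj)
  have h2 := (Ideal.mem_jacobson_bot.mp h1) 1
  simpa using h2

end Helpers

section Main

variable (A : Type u) [CommRing A] [IsNoetherianRing A] (J : Ideal A)
  (T : Submonoid A) (hT : T = MonoidHom.mker (Ideal.Quotient.mk J))

include hT in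
theorem main (hf : CAlg.IsRegularHom A (AdicCompletion J A)) :
    IsRegularRing (Localization T) ↔ IsRegularRing (AdicCompletion J A) := by
  subst hT
  set T := MonoidHom.mker (Ideal.Quotient.mk J) with hTdef
  have hfg : J.FG := (isNoetherianRing_iff_ideal_fg A).1 inferInstance J
  haveI hN : IsNoetherianRing (AdicCompletion J A) :=
    Groth.Agent.Lib.AdicNoeth.isNoetherianRing_adicCompletion J
  have hunit : ∀ t : T, IsUnit (algebraMap A (AdicCompletion J A) t) :=
    fun t => isUnit_of_mem A J t t.2
  let ψ : Localization T →+* AdicCompletion J A := IsLocalization.lift (M := T) hunit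
  letI : Algebra (Localization T) (AdicCompletion J A) := ψ.toAlgebra
  haveI : IsScalarTower A (Localization T) (AdicCompletion J A) :=
    IsScalarTower.of_algebraMap_eq (fun x => by
      rw [RingHom.algebraMap_toAlgebra]
      exact (IsLocalization.lift_eq (M := T) hunit x).symm)
  haveI hflatA : Module.Flat A (AdicCompletion J A) := hf.1
  haveI hflat : Module.Flat (Localization T) (AdicCompletion J A) :=
    (Module.flat_iff_of_isLocalization (Localization T) T (AdicCompletion J A)).2 hflatA
  constructor
  · intro hreg
    haveI : IsLocalization (Algebra.algebraMapSubmonoid (AdicCompletion J A) T)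
        (AdicCompletion J A) := by
      apply IsLocalization.at_units
      rintro _ ⟨t, ht, rfl⟩
      exact hunit ⟨t, ht⟩
    have h1 : CAlg.IsRegularHom (Localization T) (AdicCompletion J A) :=
      Groth.Agent.S4736.result A (AdicCompletion J A) hf T (Localization T) (AdicCompletion J A)
    exact Groth.Agent.S9250.result (Localization T) (AdicCompletion J A) h1
  · intro hreg
    -- faithful flatness
    let ε : AdicCompletion J A →+* A ⧸ J := (AdicCompletion.evalOneₐ J).toRingHom
    let χ : Localization T →+* A ⧸ J := ε.comp ψ
    have hχ : ∀ a : A, χ (algebraMap A (Localization T) a) = Ideal.Quotient.mk J a := by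
      intro a
      change ε (ψ (algebraMap A (Localization T) a)) = _
      rw [IsLocalization.lift_eq]
      rfl
    haveI : Module.FaithfullyFlat (Localization T) (AdicCompletion J A) := by
      refine ⟨fun m hm => ?_⟩
      intro htop
      -- the ideal `ε⁻¹(χ(m))` contains `m · Â`
      have hle : m • (⊤ : Submodule (Localization T) (AdicCompletion J A)) ≤
          ((Ideal.map χ m).comap ε).restrictScalars (Localization T) := by
        rw [Submodule.smul_le]
        intro r hr n _
        change ε (r • n) ∈ Ideal.map χ m
        rw [Algebra.smul_def, map_mul]
        exact Ideal.mul_mem_right _ _ (Ideal.mem_map_of_mem χ hr)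
      rw [htop] at hle
      have h1 : (1 : AdicCompletion J A) ∈ (Ideal.map χ m).comap ε := hle trivial
      have h2 : (1 : A ⧸ J) ∈ Ideal.map χ m := by simpa using h1
      have hsurj : Function.Surjective χ := by
        intro y
        obtain ⟨a, rfl⟩ := Ideal.Quotient.mk_surjective y
        exact ⟨algebraMap A (Localization T) a, hχ a⟩
      obtain ⟨x, hx, hx1⟩ := (Ideal.mem_map_iff_of_surjective χ hsurj).mp h2
      obtain ⟨a, t, rfl⟩ := IsLocalization.exists_mk'_eq T x
      have hχt : χ (algebraMap A (Localization T) t) = 1 := by
        rw [hχ]; exact t.2
      have ha : Ideal.Quotient.mk J a = 1 := by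
        have h3 : χ (IsLocalization.mk' (Localization T) a t) * χ (algebraMap A (Localization T) t)
            = χ (algebraMap A (Localization T) a) := by
          rw [← map_mul, IsLocalization.mk'_spec]
        rw [hx1, hχt, hχ, one_mul] at h3
        exact h3.symm
      have haT : a ∈ T := ha
      have hunit' : IsUnit (IsLocalization.mk' (Localization T) a t) := by
        have h4 : IsUnit (algebraMap A (Localization T) a) :=
          IsLocalization.map_units (Localization T) (⟨a, haT⟩ : T)
        have h5 : IsLocalization.mk' (Localization T) a t * algebraMap A (Localization T) t =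
            algebraMap A (Localization T) a := IsLocalization.mk'_spec _ _ _
        exact isUnit_of_mul_isUnit_left (h5 ▸ h4)
      exact hm.ne_top (Ideal.eq_top_of_isUnit_mem _ hx hunit')
    exact Groth.Agent.Lib.H87Serre2.isRegularRing_of_faithfullyFlat (Localization T)
      (AdicCompletion J A)

end Main

/-- Let A be a Noetherian ring, J a proper ideal of A, Â the J-adic completion and A_T the localization
of A at T = 1 + J. If the canonical map A → Â is a regular homomorphism (flat, with Noetherian
geometrically regular fibres), then A_T is a regular ring if and only if Â is a regular ring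
(Noetherian, with regular local rings at all primes). (The cases of the henselization of the pair
and of the weak completion are not stated here.) -/
theorem result
    (A : Type u) [CommRing A] [IsNoetherianRing A] (J : Ideal A) (hJ : J ≠ ⊤)
    (hf : CAlg.IsRegularHom A (AdicCompletion J A))
    (T : Submonoid A) (hT : T = MonoidHom.mker (Ideal.Quotient.mk J)) :
    IsRegularRing (Localization T) ↔ IsRegularRing (AdicCompletion J A) := by
  exact main A J T hT hf

end Groth.Agent.S19863
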