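import Groth.Statements.S19864
import Groth.Agent.S9259
import Groth.Agent.S2038

set_option autoImplicit false
universe u
open CAlg

namespace Groth.Agent.S19864

section Helpers
open TensorProduct
open Groth.Agent.Lib.H14GeomP Groth.Agent.Lib.H87Serre2 Groth.Agent.S9259

theorem forward (A B : Type u) [CommRing A] [CommRing B] [Algebra A B] [IsNoetherianRing A]
    [IsNoetherianRing B] (h : CAlg.IsRegularHom A B) (q : Ideal B) [q.IsPrime] :
    letI := (Localization.localRingHom (Ideal.comap (algebraMap A B) q) q (algebraMap A B) rfl).toAlgebra
    CAlgX.IsAdicFormallySmooth (Localization.AtPrime (Ideal.comap (algebraMap A B) q))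
      (Localization.AtPrime q) (IsLocalRing.maximalIdeal (Localization.AtPrime q)) := by
  let _ := (Localization.localRingHom (Ideal.comap (algebraMap A B) q) q (algebraMap A B) rfl).toAlgebra
  have h1 := claimA A B h q
  have : IsLocalHom (algebraMap (Localization.AtPrime (Ideal.comap (algebraMap A B) q))
      (Localization.AtPrime q)) := by
    rw [RingHom.algebraMap_toAlgebra]; infer_instance
  exact Groth.Agent.S2038.result.mp ⟨h1.1, (h1.2 _).2⟩

/-- key step: regularity of `K ⊗[A] B` at a prime, from the geometric regularity of the closed
fibre of the local map at the contraction. -/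
theorem regular_at (A B : Type u) [CommRing A] [CommRing B] [Algebra A B]
    (K : Type u) [Field K] [Algebra A K] (p : Ideal A) [p.IsPrime] [Algebra p.ResidueField K]
    [IsScalarTower A p.ResidueField K] [Module.Finite p.ResidueField K]
    (Q : Ideal (K ⊗[A] B)) [Q.IsPrime]
    (h : ∀ (q : Ideal B) [q.IsPrime],
      letI := (Localization.localRingHom (Ideal.comap (algebraMap A B) q) q (algebraMap A B) rfl).toAlgebra
      CAlg.IsGeometricallyRegular
        (IsLocalRing.maximalIdeal (Localization.AtPrime (Ideal.comap (algebraMap A B) q))).ResidueField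
        ((IsLocalRing.maximalIdeal (Localization.AtPrime (Ideal.comap (algebraMap A B) q))).Fiber
          (Localization.AtPrime q))) :
    IsRegularLocalRing (Localization.AtPrime Q) := by
  let q : Ideal B := Q.comap (Algebra.TensorProduct.includeRight : B →ₐ[A] K ⊗[A] B).toRingHom
  have : q.IsPrime := Ideal.comap_isPrime _ _
  let pq : Ideal A := Ideal.comap (algebraMap A B) q
  have : pq.IsPrime := Ideal.comap_isPrime _ _
  let alg := (Localization.localRingHom pq q (algebraMap A B) rfl).toAlgebra
  have tw : IsScalarTower A (Localization.AtPrime pq) (Localization.AtPrime q) := tower A B q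
  have hq := h q
  -- membership in `pq` in terms of `K`
  have hmem : ∀ a : A, a ∈ pq ↔ algebraMap A K a = 0 := by
    intro a
    have e1 : (Algebra.TensorProduct.includeRight : B →ₐ[A] K ⊗[A] B) (algebraMap A B a) =
        (algebraMap A K a) ⊗ₜ[A] (1 : B) := by
      rw [AlgHom.commutes, Algebra.TensorProduct.algebraMap_apply]
    constructor
    · intro ha
      by_contra h0
      have hu : IsUnit ((algebraMap A K a) ⊗ₜ[A] (1 : B) : K ⊗[A] B) := by
        have : IsUnit (algebraMap A K a) := IsUnit.mk0 _ h0
        exact this.map (Algebra.TensorProduct.includeLeft : K →ₐ[A] K ⊗[A] B)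
      have hQ : (algebraMap A K a) ⊗ₜ[A] (1 : B) ∈ Q := by
        rw [← e1]; exact ha
      exact (Ideal.IsPrime.ne_top inferInstance) (Ideal.eq_top_of_isUnit_mem Q hQ hu)
    · intro h0
      change (Algebra.TensorProduct.includeRight : B →ₐ[A] K ⊗[A] B) (algebraMap A B a) ∈ Q
      rw [e1, h0, TensorProduct.zero_tmul]
      exact Q.zero_mem
  have hu : ∀ s : pq.primeCompl, IsUnit (algebraMap A K s) := by
    intro s
    exact IsUnit.mk0 _ (fun h0 => s.2 ((hmem s).mpr h0))
  -- `K` as an algebra over the local ring
  let _ : Algebra (Localization.AtPrime pq) K := (IsLocalization.lift hu).toAlgebra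
  have : IsScalarTower A (Localization.AtPrime pq) K := IsScalarTower.of_algebraMap_eq (fun x => by
    rw [RingHom.algebraMap_toAlgebra, IsLocalization.lift_eq])
  -- `K` as an algebra over the residue field `κ'` of the local ring
  have hf₁ : IsLocalRing.maximalIdeal (Localization.AtPrime pq) ≤
      RingHom.ker (algebraMap (Localization.AtPrime pq) K) := by
    intro x hx
    obtain ⟨a, s, rfl⟩ := IsLocalization.exists_mk'_eq pq.primeCompl x
    rw [IsLocalization.AtPrime.mk'_mem_maximal_iff (Localization.AtPrime pq) pq] at hx
    rw [RingHom.mem_ker, RingHom.algebraMap_toAlgebra, IsLocalization.lift_mk'_spec,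
      (hmem a).mp hx, mul_zero]
  have hf₂ : (IsLocalRing.maximalIdeal (Localization.AtPrime pq)).primeCompl ≤
      (IsUnit.submonoid K).comap (algebraMap (Localization.AtPrime pq) K) := by
    intro x hx
    have : IsUnit x := IsLocalRing.notMem_maximalIdeal.mp hx
    exact this.map _
  let _ : Algebra (IsLocalRing.maximalIdeal (Localization.AtPrime pq)).ResidueField K :=
    (Ideal.ResidueField.lift _ (algebraMap (Localization.AtPrime pq) K) hf₁ hf₂).toAlgebra
  have tw2 : IsScalarTower (Localization.AtPrime pq)
      (IsLocalRing.maximalIdeal (Localization.AtPrime pq)).ResidueField K :=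
    IsScalarTower.of_algebraMap_eq (fun x => by
      rw [RingHom.algebraMap_toAlgebra
        (Ideal.ResidueField.lift _ (algebraMap (Localization.AtPrime pq) K) hf₁ hf₂),
        Ideal.ResidueField.lift_algebraMap])
  -- `K` is finite over `κ'`
  have hpmem : ∀ a : A, a ∈ p ↔ algebraMap A K a = 0 := by
    intro a
    rw [IsScalarTower.algebraMap_apply A p.ResidueField K, map_eq_zero_iff _
      (algebraMap p.ResidueField K).injective, Ideal.algebraMap_residueField_eq_zero]
  have hg₁ : p ≤ RingHom.ker (algebraMap A
      (IsLocalRing.maximalIdeal (Localization.AtPrime pq)).ResidueField) := by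
    intro a ha
    have h1 : a ∈ pq := (hmem a).mpr ((hpmem a).mp ha)
    rw [RingHom.mem_ker, IsScalarTower.algebraMap_apply A (Localization.AtPrime pq)
      (IsLocalRing.maximalIdeal (Localization.AtPrime pq)).ResidueField,
      Ideal.algebraMap_residueField_eq_zero]
    exact (IsLocalization.AtPrime.to_map_mem_maximal_iff (Localization.AtPrime pq) pq a).mpr h1
  have hg₂ : p.primeCompl ≤ (IsUnit.submonoid
      (IsLocalRing.maximalIdeal (Localization.AtPrime pq)).ResidueField).comap (algebraMap A
      (IsLocalRing.maximalIdeal (Localization.AtPrime pq)).ResidueField) := by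
    intro s hs
    have h1 : s ∉ pq := fun h => hs ((hpmem s).mpr ((hmem s).mp h))
    have h2 : IsUnit (algebraMap A (Localization.AtPrime pq) s) :=
      IsLocalization.map_units (Localization.AtPrime pq) (⟨s, h1⟩ : pq.primeCompl)
    change IsUnit _
    rw [IsScalarTower.algebraMap_apply A (Localization.AtPrime pq)
      (IsLocalRing.maximalIdeal (Localization.AtPrime pq)).ResidueField]
    exact h2.map _
  let φ : p.ResidueField →+* (IsLocalRing.maximalIdeal (Localization.AtPrime pq)).ResidueField :=
    Ideal.ResidueField.lift p _ hg₁ hg₂
  let _ : Algebra p.ResidueField (IsLocalRing.maximalIdeal (Localization.AtPrime pq)).ResidueField :=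
    φ.toAlgebra
  have tw3 : IsScalarTower p.ResidueField
      (IsLocalRing.maximalIdeal (Localization.AtPrime pq)).ResidueField K := by
    refine IsScalarTower.of_algebraMap_eq' ?_
    apply Ideal.ResidueField.ringHom_ext
    ext a
    simp only [RingHom.comp_apply]
    rw [RingHom.algebraMap_toAlgebra φ, Ideal.ResidueField.lift_algebraMap,
      ← IsScalarTower.algebraMap_apply A p.ResidueField K,
      IsScalarTower.algebraMap_apply A (Localization.AtPrime pq)
        (IsLocalRing.maximalIdeal (Localization.AtPrime pq)).ResidueField,
      ← IsScalarTower.algebraMap_apply (Localization.AtPrime pq)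
        (IsLocalRing.maximalIdeal (Localization.AtPrime pq)).ResidueField K,
      ← IsScalarTower.algebraMap_apply A (Localization.AtPrime pq) K]
  have hfin : Module.Finite (IsLocalRing.maximalIdeal (Localization.AtPrime pq)).ResidueField K :=
    Module.Finite.of_restrictScalars_finite p.ResidueField _ K
  -- regularity of the fibre ring after base change to `K`
  have hreg0 : IsRegularRing (K ⊗[(IsLocalRing.maximalIdeal (Localization.AtPrime pq)).ResidueField]
      ((IsLocalRing.maximalIdeal (Localization.AtPrime pq)).Fiber (Localization.AtPrime q))) :=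
    hq K hfin
  have hreg1 : IsRegularRing (K ⊗[Localization.AtPrime pq] Localization.AtPrime q) :=
    good_regular.of_equiv
      (Algebra.TensorProduct.cancelBaseChange (Localization.AtPrime pq)
        (IsLocalRing.maximalIdeal (Localization.AtPrime pq)).ResidueField
        (IsLocalRing.maximalIdeal (Localization.AtPrime pq)).ResidueField K
        (Localization.AtPrime q)).toRingEquiv hreg0
  have hreg2 : IsRegularRing (K ⊗[A] Localization.AtPrime q) :=
    good_regular.of_equiv (IsLocalization.algebraTensorEquiv pq.primeCompl
      (Localization.AtPrime pq) K (Localization.AtPrime q)).toRingEquiv hreg1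
  let _ : Algebra (K ⊗[A] B) (K ⊗[A] Localization.AtPrime q) :=
    (Algebra.TensorProduct.map (AlgHom.id A K)
      (IsScalarTower.toAlgHom A B (Localization.AtPrime q))).toAlgebra
  have : IsScalarTower K (K ⊗[A] B) (K ⊗[A] Localization.AtPrime q) :=
    .of_algebraMap_eq <| by intro; simp [RingHom.algebraMap_toAlgebra]
  have := IsLocalization.tensorProduct_tensorProduct_right A K q.primeCompl (Localization.AtPrime q)
    (by ext; simp [RingHom.algebraMap_toAlgebra])
  have := hreg2
  refine regularLocal_of_localization (K ⊗[A] B) (K ⊗[A] Localization.AtPrime q)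
    (q.primeCompl.map (Algebra.TensorProduct.includeRight (R := A) (A := K))) Q ?_
  rw [Set.disjoint_left]
  rintro _ ⟨x, hx, rfl⟩ hxQ
  exact hx hxQ

theorem backward (A B : Type u) [CommRing A] [CommRing B] [Algebra A B] [IsNoetherianRing A]
    [IsNoetherianRing B]
    (h : ∀ (q : Ideal B) [q.IsPrime],
      letI := (Localization.localRingHom (Ideal.comap (algebraMap A B) q) q (algebraMap A B) rfl).toAlgebra
      CAlgX.IsAdicFormallySmooth (Localization.AtPrime (Ideal.comap (algebraMap A B) q))
        (Localization.AtPrime q) (IsLocalRing.maximalIdeal (Localization.AtPrime q))) :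
    CAlg.IsRegularHom A B := by
  have key : ∀ (q : Ideal B) [q.IsPrime],
      letI := (Localization.localRingHom (Ideal.comap (algebraMap A B) q) q (algebraMap A B) rfl).toAlgebra
      Module.Flat (Localization.AtPrime (Ideal.comap (algebraMap A B) q)) (Localization.AtPrime q) ∧
      CAlg.IsGeometricallyRegular
        (IsLocalRing.maximalIdeal (Localization.AtPrime (Ideal.comap (algebraMap A B) q))).ResidueField
        ((IsLocalRing.maximalIdeal (Localization.AtPrime (Ideal.comap (algebraMap A B) q))).Fiber
          (Localization.AtPrime q)) := by
    intro q _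
    let _ := (Localization.localRingHom (Ideal.comap (algebraMap A B) q) q (algebraMap A B) rfl).toAlgebra
    have : IsLocalHom (algebraMap (Localization.AtPrime (Ideal.comap (algebraMap A B) q))
        (Localization.AtPrime q)) := by
      rw [RingHom.algebraMap_toAlgebra]; infer_instance
    exact Groth.Agent.S2038.result.mpr (h q)
  have hflat : Module.Flat A B := by
    refine Module.flat_of_isLocalized_maximal B B (fun n _ => Localization.AtPrime n)
      (fun n _ => Algebra.linearMap B (Localization.AtPrime n)) (fun n hn => ?_)
    let _ := (Localization.localRingHom (Ideal.comap (algebraMap A B) n) n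
      (algebraMap A B) rfl).toAlgebra
    have := tower A B n
    have := (key n).1
    have : Module.Flat A (Localization.AtPrime (Ideal.comap (algebraMap A B) n)) :=
      IsLocalization.flat _ (Ideal.comap (algebraMap A B) n).primeCompl
    exact Module.Flat.trans A (Localization.AtPrime (Ideal.comap (algebraMap A B) n))
      (Localization.AtPrime n)
  refine ⟨hflat, fun p _ => ⟨fiber_noeth A B p, fun k' _ _ hfin => ?_⟩⟩
  let _ : Algebra A k' :=
    ((algebraMap p.ResidueField k').comp (algebraMap A p.ResidueField)).toAlgebra
  have : IsScalarTower A p.ResidueField k' := IsScalarTower.of_algebraMap_eq (fun x => rfl)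
  have : Algebra.EssFiniteType A k' := Algebra.EssFiniteType.comp A p.ResidueField k'
  have : IsNoetherianRing (k' ⊗[A] B) :=
    isNoetherianRing_field_tensor A B k' (Or.inr inferInstance) (fun p _ => fiber_noeth A B p)
  have hreg : IsRegularRing (k' ⊗[A] B) := by
    refine isRegularRing_of_maximal (fun Q hQ => ?_)
    exact regular_at A B k' p Q (fun q _ => (key q).2)
  exact good_regular.of_equiv
    (Algebra.TensorProduct.cancelBaseChange A p.ResidueField p.ResidueField k' B).symm.toRingEquiv
    hreg

end Helpers

/-- Let A and B be Noetherian rings and B an A-algebra. Then A → B is a regular homomorphism (flat with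
Noetherian, geometrically regular fibres) if and only if for every prime q of B lying over the prime
p of A the induced local homomorphism A_p → B_q is formally smooth for the adic topologies of the
maximal ideals (equivalently, for the adic topology of the maximal ideal of B_q). -/
theorem result (A B : Type u)
    [CommRing A] [CommRing B] [Algebra A B] [IsNoetherianRing A] [IsNoetherianRing B] :
    CAlg.IsRegularHom A B ↔
      ∀ (q : Ideal B) [q.IsPrime],
        letI := (Localization.localRingHom (Ideal.comap (algebraMap A B) q) q (algebraMap A B) rfl).toAlgebra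
        CAlgX.IsAdicFormallySmooth (Localization.AtPrime (Ideal.comap (algebraMap A B) q))
          (Localization.AtPrime q) (IsLocalRing.maximalIdeal (Localization.AtPrime q)) := by
  exact ⟨fun h q _ => forward A B h q, fun h => backward A B h⟩

end Groth.Agent.S19864
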