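import Groth.Statements.S19868
import Groth.Agent.Lib.PLieMat58

set_option autoImplicit false
universe u v
open PLie

namespace Groth.Agent.S19868

open DualNumber Groth.Agent.Lib.PLieMat58

section Aux

variable {K : Type u} [Field K] {L : Type v} [LieRing L] [LieAlgebra (DualNumber K) L]
  (bs : Module.Basis (Fin 3) (DualNumber K) L)

theorem repr_comb (r0 r1 r2 : DualNumber K) (i : Fin 3) :
    bs.repr (r0 • bs 0 + r1 • bs 1 + r2 • bs 2) i = ![r0, r1, r2] i := by
  simp only [map_add, map_smul, Module.Basis.repr_self, Finsupp.add_apply, Finsupp.smul_apply,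
    Finsupp.single_apply, smul_eq_mul]
  fin_cases i <;> simp

variable (a b c d e f g h i : K)

/-- The matrix of `ad x`. -/
def MX : Matrix (Fin 3) (Fin 3) (DualNumber K) :=
  !![0, a • ε, d • ε; 0, b • ε, e • ε; 0, c • ε, f • ε]

/-- The matrix of `ad y`. -/
def MY : Matrix (Fin 3) (Fin 3) (DualNumber K) :=
  !![-(a • ε), 0, 1 + g • ε; -(b • ε), 0, h • ε; -(c • ε), 0, i • ε]

/-- The matrix of `ad z`. -/
def MZ : Matrix (Fin 3) (Fin 3) (DualNumber K) :=
  !![-(d • ε), -(1 + g • ε), 0; -(e • ε), -(h • ε), 0; -(f • ε), -(i • ε), 0]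

variable {a b c d e f g h i}
variable
    (hxy : ⁅bs 0, bs 1⁆ = (a • ε : DualNumber K) • bs 0 + (b • ε : DualNumber K) • bs 1 + (c • ε : DualNumber K) • bs 2)
    (hxz : ⁅bs 0, bs 2⁆ = (d • ε : DualNumber K) • bs 0 + (e • ε : DualNumber K) • bs 1 + (f • ε : DualNumber K) • bs 2)
    (hyz : ⁅bs 1, bs 2⁆ = (1 + g • ε : DualNumber K) • bs 0 + (h • ε : DualNumber K) • bs 1 + (i • ε : DualNumber K) • bs 2)

include hxy hxz in
theorem adM_x : adM bs (bs 0) = MX a b c d e f := by
  apply Matrix.ext
  intro r s
  rw [adM_apply]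
  fin_cases s
  · show bs.repr ⁅bs 0, bs 0⁆ r = _
    rw [lie_self, map_zero]
    fin_cases r <;> simp [MX]
  · show bs.repr ⁅bs 0, bs 1⁆ r = _
    rw [hxy, repr_comb]
    fin_cases r <;> simp [MX]
  · show bs.repr ⁅bs 0, bs 2⁆ r = _
    rw [hxz, repr_comb]
    fin_cases r <;> simp [MX]

include hxy hyz in
theorem adM_y : adM bs (bs 1) = MY a b c g h i := by
  apply Matrix.ext
  intro r s
  rw [adM_apply]
  fin_cases s
  · show bs.repr ⁅bs 1, bs 0⁆ r = _
    rw [← lie_skew, hxy, map_neg, Finsupp.neg_apply, repr_comb]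
    fin_cases r <;> simp [MY]
  · show bs.repr ⁅bs 1, bs 1⁆ r = _
    rw [lie_self, map_zero]
    fin_cases r <;> simp [MY]
  · show bs.repr ⁅bs 1, bs 2⁆ r = _
    rw [hyz, repr_comb]
    fin_cases r <;> simp [MY]

include hxz hyz in
theorem adM_z : adM bs (bs 2) = MZ d e f g h i := by
  apply Matrix.ext
  intro r s
  rw [adM_apply]
  fin_cases s
  · show bs.repr ⁅bs 2, bs 0⁆ r = _
    rw [← lie_skew, hxz, map_neg, Finsupp.neg_apply, repr_comb]
    fin_cases r <;> simp [MZ]
  · show bs.repr ⁅bs 2, bs 1⁆ r = _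
    rw [← lie_skew, hyz, map_neg, Finsupp.neg_apply, repr_comb]
    fin_cases r <;> simp [MZ]
  · show bs.repr ⁅bs 2, bs 2⁆ r = _
    rw [lie_self, map_zero]
    fin_cases r <;> simp [MZ]

include hxy hxz hyz in
/-- The Jacobi identity forces `b + f = 0`. -/
theorem jacobi_bf : b + f = 0 := by
  have key := leibniz_lie (bs 0) (bs 1) (bs 2)
  rw [hyz, hxy, hxz] at key
  simp only [lie_add, lie_smul, add_lie, smul_lie, lie_self, smul_zero, add_zero, zero_add] at key
  have e10 : ⁅bs 1, bs 0⁆ = -⁅bs 0, bs 1⁆ := (lie_skew (bs 1) (bs 0)).symm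
  rw [e10, hxy, hxz, hyz] at key
  have h0 := congrArg (fun v => bs.repr v 0) key
  simp only [map_add, map_smul, map_neg, Module.Basis.repr_self, Finsupp.add_apply,
    Finsupp.smul_apply, Finsupp.neg_apply, Finsupp.single_apply, smul_eq_mul] at h0
  have h1 := congrArg TrivSqZeroExt.snd h0
  simp at h1
  linear_combination -h1

end Aux

section Mat

variable {K : Type u} [Field K] (a b c d e f g h i : K)

theorem MX_sq : MX a b c d e f * MX a b c d e f = 0 := by
  ext r s <;> fin_cases r <;> fin_cases s <;>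
    simp [MX, Matrix.mul_apply, Fin.sum_univ_three]

theorem MY_sq : MY a b c g h i * MY a b c g h i =
    !![-(c • ε), 0, (i - a) • ε; 0, 0, -(b • ε); 0, 0, -(c • ε)] := by
  ext r s <;> fin_cases r <;> fin_cases s <;>
    simp [MY, Matrix.mul_apply, Fin.sum_univ_three] <;> ring

theorem MZ_sq : MZ d e f g h i * MZ d e f g h i =
    !![e • ε, (h + d) • ε, 0; 0, e • ε, 0; 0, f • ε, 0] := by
  ext r s <;> fin_cases r <;> fin_cases s <;>
    simp [MZ, Matrix.mul_apply, Fin.sum_univ_three] <;> ring

theorem MY_cube : MY a b c g h i * MY a b c g h i * MY a b c g h i =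
    (-(c • ε) : DualNumber K) • MY a b c g h i := by
  rw [MY_sq]
  ext r s <;> fin_cases r <;> fin_cases s <;>
    simp [MY, Matrix.mul_apply, Fin.sum_univ_three]

theorem MZ_cube : MZ d e f g h i * MZ d e f g h i * MZ d e f g h i =
    ((e • ε) : DualNumber K) • MZ d e f g h i := by
  rw [MZ_sq]
  ext r s <;> fin_cases r <;> fin_cases s <;>
    simp [MZ, Matrix.mul_apply, Fin.sum_univ_three]

theorem MY_four : MY a b c g h i * MY a b c g h i * (MY a b c g h i * MY a b c g h i) = 0 := by
  rw [MY_sq]
  ext r s <;> fin_cases r <;> fin_cases s <;>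
    simp [Matrix.mul_apply, Fin.sum_univ_three]

theorem MZ_four : MZ d e f g h i * MZ d e f g h i * (MZ d e f g h i * MZ d e f g h i) = 0 := by
  rw [MZ_sq]
  ext r s <;> fin_cases r <;> fin_cases s <;>
    simp [Matrix.mul_apply, Fin.sum_univ_three]

theorem pow_eq_zero_of_four {M : Matrix (Fin 3) (Fin 3) (DualNumber K)} (hM : M * M * (M * M) = 0)
    {p : ℕ} (hp : 4 ≤ p) : M ^ p = 0 := by
  obtain ⟨q, rfl⟩ : ∃ q, p = 4 + q := ⟨p - 4, by omega⟩
  rw [pow_add]
  have : M ^ 4 = M * M * (M * M) := by
    rw [show (4 : ℕ) = 2 + 2 from rfl, pow_add, pow_two]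
  rw [this, hM, zero_mul]

theorem pow_eq_zero_of_sq {M : Matrix (Fin 3) (Fin 3) (DualNumber K)} (hM : M * M = 0)
    {p : ℕ} (hp : 2 ≤ p) : M ^ p = 0 := by
  obtain ⟨q, rfl⟩ : ∃ q, p = 2 + q := ⟨p - 2, by omega⟩
  rw [pow_add, pow_two, hM, zero_mul]

end Mat


open DualNumber in
/-- Let K be a field of prime characteristic p, K[ε] the ring of dual numbers (taken with its
characteristic-p structure) and a, …, i ∈ K. Let L be a Lie algebra over K[ε], free as a module with
basis x = bs 0, y = bs 1, z = bs 2 and brackets [x,y] = aε x + bε y + cε z, [x,z] = dε x + eε y + fε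
z, [y,z] = (1 + gε) x + hε y + iε z, a first-order deformation of the Heisenberg algebra (the Jacobi
identity forces b + f = 0). Then L carries a p-mapping over K[ε] if and only if b = c = e = 0 when p
= 2; for odd p there is no condition. (The published statement is about the singularity of the point
h_3 in the restrictable locus of the rank-one-centre stratum of the moduli scheme of based
three-dimensional Lie algebras over the prime field; this row states the restrictability criterion
for the first-order deformations of h_3 asserted in its proof, over any field of characteristic p in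
place of the prime field.) -/
theorem result (K : Type u) [Field K] (p : ℕ) [Fact p.Prime] [CharP K p]
    [CharP (DualNumber K) p] (a b c d e f g h i : K)
    (L : Type v) [LieRing L] [LieAlgebra (DualNumber K) L] (bs : Module.Basis (Fin 3) (DualNumber K) L)
    (hxy : ⁅bs 0, bs 1⁆ = (a • ε : DualNumber K) • bs 0 + (b • ε : DualNumber K) • bs 1 + (c • ε : DualNumber K) • bs 2)
    (hxz : ⁅bs 0, bs 2⁆ = (d • ε : DualNumber K) • bs 0 + (e • ε : DualNumber K) • bs 1 + (f • ε : DualNumber K) • bs 2)
    (hyz : ⁅bs 1, bs 2⁆ = (1 + g • ε : DualNumber K) • bs 0 + (h • ε : DualNumber K) • bs 1 + (i • ε : DualNumber K) • bs 2) :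
    Nonempty (PLie.PMap (DualNumber K) p L) ↔ (p = 2 → b = 0 ∧ c = 0 ∧ e = 0) := by
  rw [nonempty_pmap_iff bs]
  have hX := adM_x bs hxy hxz
  have hY := adM_y bs hxy hyz
  have hZ := adM_z bs hxz hyz
  have hbf := jacobi_bf bs hxy hxz hyz
  constructor
  · intro H hp2
    subst hp2
    obtain ⟨w, hw⟩ := H 1
    obtain ⟨w', hw'⟩ := H 2
    rw [Fin.sum_univ_three, hX, hY, hZ, pow_two, MY_sq] at hw
    rw [Fin.sum_univ_three, hX, hY, hZ, pow_two, MZ_sq] at hw'
    have E : ∀ r s, (!![-(c • ε), 0, (i - a) • ε; 0, 0, -(b • ε); 0, 0, -(c • ε)] :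
        Matrix (Fin 3) (Fin 3) (DualNumber K)) r s =
        w 0 * MX a b c d e f r s + w 1 * MY a b c g h i r s + w 2 * MZ d e f g h i r s := by
      intro r s
      have := congrFun (congrFun hw r) s
      simpa [Matrix.add_apply, Matrix.smul_apply] using this
    have E' : ∀ r s, (!![e • ε, (h + d) • ε, 0; 0, e • ε, 0; 0, f • ε, 0] :
        Matrix (Fin 3) (Fin 3) (DualNumber K)) r s =
        w' 0 * MX a b c d e f r s + w' 1 * MY a b c g h i r s + w' 2 * MZ d e f g h i r s := by
      intro r s
      have := congrFun (congrFun hw' r) s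
      simpa [Matrix.add_apply, Matrix.smul_apply] using this
    have e02 := congrArg TrivSqZeroExt.fst (E 0 2)
    have e01 := congrArg TrivSqZeroExt.fst (E 0 1)
    have e00 := congrArg TrivSqZeroExt.snd (E 0 0)
    have e11 := congrArg TrivSqZeroExt.snd (E 1 1)
    have e12 := congrArg TrivSqZeroExt.snd (E 1 2)
    have e02' := congrArg TrivSqZeroExt.fst (E' 0 2)
    have e01' := congrArg TrivSqZeroExt.fst (E' 0 1)
    have e00' := congrArg TrivSqZeroExt.snd (E' 0 0)
    simp [MX, MY, MZ] at e02 e01 e00 e11 e12 e02' e01' e00'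
    rw [← e02, e01] at e00
    rw [e01] at e11
    rw [← e02] at e12
    rw [← e02', e01'] at e00'
    simp at e00 e11 e12 e00'
    have hc : c = 0 := e00
    have hb : b = 0 := by
      have : b * b = 0 := by
        have e11s : (0 : K) = b * TrivSqZeroExt.fst (w 0) := by
          rcases e11 with h1 | h1
          · rw [h1, zero_mul]
          · rw [h1, mul_zero]
        linear_combination (-b) * e12 + e * e11s
      exact mul_self_eq_zero.mp this
    exact ⟨hb, hc, e00'⟩
  · intro H
    have hp : p.Prime := Fact.out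
    by_cases hp2 : p = 2
    · obtain ⟨hb, hc, he⟩ := H hp2
      have hf : f = 0 := by rw [hb, zero_add] at hbf; exact hbf
      subst hp2 hb hc he hf
      intro j
      fin_cases j
      · refine ⟨fun _ => 0, ?_⟩
        show adM bs (bs 0) ^ 2 = _
        rw [hX, pow_two, MX_sq]
        simp
      · refine ⟨![0, (i - a) • ε, 0], ?_⟩
        show adM bs (bs 1) ^ 2 = _
        rw [Fin.sum_univ_three, hX, hY, hZ, pow_two, MY_sq]
        ext r s <;> fin_cases r <;> fin_cases s <;> simp [MX, MY, MZ]
      · refine ⟨![0, 0, -((h + d) • ε)], ?_⟩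
        show adM bs (bs 2) ^ 2 = _
        rw [Fin.sum_univ_three, hX, hY, hZ, pow_two, MZ_sq]
        ext r s <;> fin_cases r <;> fin_cases s <;> simp [MX, MY, MZ]
    · by_cases hp3 : p = 3
      · subst hp3
        intro j
        fin_cases j
        · refine ⟨fun _ => 0, ?_⟩
          show adM bs (bs 0) ^ 3 = _
          rw [hX, pow_eq_zero_of_sq (MX_sq a b c d e f) (by norm_num)]
          simp
        · refine ⟨![0, -(c • ε), 0], ?_⟩
          show adM bs (bs 1) ^ 3 = _
          rw [Fin.sum_univ_three, hX, hY, hZ, pow_succ, pow_two, MY_cube]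
          simp
        · refine ⟨![0, 0, e • ε], ?_⟩
          show adM bs (bs 2) ^ 3 = _
          rw [Fin.sum_univ_three, hX, hY, hZ, pow_succ, pow_two, MZ_cube]
          simp
      · have hp4 : 4 ≤ p := by
          have h2 := hp.two_le
          by_contra hlt
          have : p = 2 ∨ p = 3 := by omega
          rcases this with h | h
          · exact hp2 h
          · exact hp3 h
        intro j
        refine ⟨fun _ => 0, ?_⟩
        fin_cases j
        · show adM bs (bs 0) ^ p = _
          rw [hX, pow_eq_zero_of_sq (MX_sq a b c d e f) (by omega)]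
          simp
        · show adM bs (bs 1) ^ p = _
          rw [hY, pow_eq_zero_of_four (MY_four a b c g h i) hp4]
          simp
        · show adM bs (bs 2) ^ p = _
          rw [hZ, pow_eq_zero_of_four (MZ_four d e f g h i) hp4]
          simp

end Groth.Agent.S19868
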