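import Groth.Statements.S1987
import Groth.Agent.Lib.EisensteinDVR2

set_option autoImplicit false
universe u
open Polynomial
open EtAlg

namespace Groth.Agent.S1987

/-- Let A be a discrete valuation ring with uniformizer π and n ≥ 2, and let A' = A[x]/(x^n - π). Then
x^n - π is irreducible over A, A' is an integrally closed discrete valuation ring (so it is the
integral closure of A in its fraction field K₁ = K(π^{1/n}), of degree n over K), the maximal ideal
of A generates the n-th power of the maximal ideal of A' (ramification index n), and K₁ is totally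
ramified with respect to A. -/
theorem result (A : Type u) [CommRing A] [IsDomain A] [IsDiscreteValuationRing A] (π : A)
    (hπ : Irreducible π) (n : ℕ) (hn : 2 ≤ n) :
    Irreducible (X ^ n - C π : A[X]) ∧
    ∃ (_ : IsDomain (AdjoinRoot (X ^ n - C π : A[X]))) (_ : IsDiscreteValuationRing (AdjoinRoot (X ^ n - C π : A[X]))),
      IsIntegrallyClosed (AdjoinRoot (X ^ n - C π : A[X])) ∧
      (IsLocalRing.maximalIdeal A).map (algebraMap A (AdjoinRoot (X ^ n - C π : A[X]))) = IsLocalRing.maximalIdeal (AdjoinRoot (X ^ n - C π : A[X])) ^ n ∧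
      ∀ (K₁ : Type u) [Field K₁] [Algebra (AdjoinRoot (X ^ n - C π : A[X])) K₁] [IsFractionRing (AdjoinRoot (X ^ n - C π : A[X])) K₁],
        EtRam.IsTotallyRamified A ((algebraMap (AdjoinRoot (X ^ n - C π : A[X])) K₁).comp (algebraMap A (AdjoinRoot (X ^ n - C π : A[X])))) := by
  refine ⟨Groth.Agent.Lib.EisensteinDVR.irreducible_X_pow_sub_C π hπ n hn, ?_⟩
  obtain ⟨hdom, hdvr, hmax⟩ := Groth.Agent.Lib.EisensteinDVR.exists_dvr π hπ n hn
  refine ⟨hdom, hdvr, inferInstance, ?_, ?_⟩
  · exact Groth.Agent.Lib.EisensteinDVR.map_maximalIdeal_eq π n hπ _ hmax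
  · intro K₁ _ _ _
    exact Groth.Agent.Lib.EisensteinDVR.isTotallyRamified π hπ n hn hdom hdvr hmax K₁

end Groth.Agent.S1987
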