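import Groth.Statements.S19871
import Groth.Agent.S15748

set_option autoImplicit false
universe u v
open CategoryTheory AlgebraicGeometry
open WeilCoh

namespace Groth.Agent.S19871

variable {k : Type u} [Field k] [IsAlgClosed k] {K : Type v} [Field K] [CharZero K]
  (T : WeilCoh.Theory k K)

theorem neg_one_pow_mul_self (a : ℕ) : ((-1 : K) ^ a) * ((-1 : K) ^ a) = 1 := by
  rw [← mul_pow]; simp

/-- a basis of `H^i` together with a right dual family in complementary degree -/
theorem exists_rightDual (X : WeilCoh.Var k) (i : ℤ) :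
    ∃ (ι : Type) (_ : Fintype ι) (_ : DecidableEq ι) (e : Module.Basis ι K ↥(T.gr X i))
      (g : ι → ↥(T.gr X (2 * (WeilCoh.dim X.obj.left : ℤ) - i))),
      ∀ (x : ↥(T.gr X i)) (l : ι), e.repr x l = T.tr X ((x : T.H X) * (g l : T.H X)) := by
  classical
  let e := Module.finBasis K ↥(T.gr X i)
  have hm : (2 * (WeilCoh.dim X.obj.left : ℤ) - i) + i = 2 * (WeilCoh.dim X.obj.left : ℤ) := by
    ring
  let f := fun l => Groth.Agent.S15450.dualFam T X i (2 * (WeilCoh.dim X.obj.left : ℤ) - i) hm e l
  have hf := Groth.Agent.S15450.dualFam_spec T X i (2 * (WeilCoh.dim X.obj.left : ℤ) - i) hm e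
  refine ⟨Fin _, inferInstance, inferInstance, e,
    fun l => ((-1 : K) ^ (i.natAbs * (2 * (WeilCoh.dim X.obj.left : ℤ) - i).natAbs)) • f l,
    fun x l => ?_⟩
  rw [Groth.Agent.S15450.repr_eq_tr T i _ e f hf x l]
  rw [Submodule.coe_smul, mul_smul_comm, map_smul, smul_eq_mul]
  rw [T.gradedComm X i _ (x : T.H X) (f l : T.H X) x.2 (f l).2, map_smul, smul_eq_mul, ← mul_assoc,
    neg_one_pow_mul_self, one_mul]

theorem mem_of_eq {X : WeilCoh.Var k} {a : T.H X} {s t : ℤ} (h : a ∈ T.gr X s) (hst : s = t) :
    a ∈ T.gr X t := hst ▸ h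


/-- Let `H` be a Weil cohomology theory with coefficients in a field `K` of characteristic zero on
nonsingular connected projective varieties over an algebraically closed field `k`; let `X`, `Y` be
such varieties and `P` a product `X × Y` with projections `p`, `q`, of dimension `dim X + dim Y`.
For an integer `r`, sending a class `φ ∈ H^{2 dim X + r}(P)` to the family, indexed by all integers
`i`, of the `K`-linear maps `H^i(X) → H^{i+r}(Y)`, `x ↦ q_*(p^* x ∪ φ)`, is a bijection from `H^{2
dim X + r}(P)` onto the families of linear maps `(H^i(X) → H^{i+r}(Y))_i`, i.e. onto the degree-`r`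
homomorphisms of graded vector spaces from `H•(X)` to `H•(Y)` (the factors with `i` outside `[0, 2
dim X]` are zero). The target degree is written `i + (2 dim X + r) + 2 dim Y − 2 dim P`, the
indexing of the push-forward; it equals `i + r` by the dimension hypothesis. (The published lemma
states a canonical isomorphism `Hom^r(H•X, H•Y) ≅ H^{2 dim X + r}(X × Y)(dim X)` obtained from
Poincaré duality on `X` and the Künneth formula, for smooth projective varieties over an arbitrary
field with Tate twists; this row is its case of connected varieties over an algebraically closed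
field, without twists, with the isomorphism written as the action of a class by pull-back, cup
product and push-forward.) -/
theorem result (k : Type u) [Field k] [IsAlgClosed k] (K : Type v) [Field K] [CharZero K]
    (T : WeilCoh.Theory k K) (X Y P : WeilCoh.Var k) (p : P ⟶ X) (q : P ⟶ Y) (hP : WeilCoh.IsProd p q)
    (hdim : WeilCoh.dim P.obj.left = WeilCoh.dim X.obj.left + WeilCoh.dim Y.obj.left) (r : ℤ) :
    Function.Bijective (fun φ : ↥(T.gr P (2 * (WeilCoh.dim X.obj.left : ℤ) + r)) => fun i : ℤ =>
      (T.push q (i + (2 * (WeilCoh.dim X.obj.left : ℤ) + r))) ∘ₗ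
        ((LinearMap.mulRight K (φ : T.H P)).restrict (p := T.gr P i) (q := T.gr P (i + (2 * (WeilCoh.dim X.obj.left : ℤ) + r)))
          (fun x hx => SetLike.mul_mem_graded hx φ.2)) ∘ₗ
        (T.pullDeg p i)) := by
  classical
  have hdimZ : (WeilCoh.dim P.obj.left : ℤ) = WeilCoh.dim X.obj.left + WeilCoh.dim Y.obj.left := by
    exact_mod_cast hdim
  change Function.Bijective (fun φ : ↥(T.gr P (2 * (WeilCoh.dim X.obj.left : ℤ) + r)) =>
    fun i : ℤ => Groth.Agent.S15748.corr T p q i (2 * (WeilCoh.dim X.obj.left : ℤ) + r) φ)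
  generalize hn : 2 * (WeilCoh.dim X.obj.left : ℤ) + r = n
  constructor
  · intro φ φ' h
    have key : ∀ (i : ℤ) (x : T.H X), x ∈ T.gr X i → ∀ (c : T.H Y) (u : ℤ), c ∈ T.gr Y u →
        T.tr P (T.pull p x * (φ : T.H P) * T.pull q c) =
          T.tr P (T.pull p x * (φ' : T.H P) * T.pull q c) := by
      intro i x hx c u hc
      rw [← Groth.Agent.S15748.tr_corr_mul T p q i n φ ⟨x, hx⟩ c u hc,
        ← Groth.Agent.S15748.tr_corr_mul T p q i n φ' ⟨x, hx⟩ c u hc]
      have h1 := congrFun h i
      have h2 : Groth.Agent.S15748.corr T p q i n φ = Groth.Agent.S15748.corr T p q i n φ' := h1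
      rw [h2]
    apply Subtype.ext
    apply Groth.Agent.Lib.WeilCohPush.eq_of_forall_tr_mul T n
      (2 * (WeilCoh.dim P.obj.left : ℤ) - n) (by ring) _ _ φ.2 φ'.2
    intro b _
    refine Groth.Agent.Lib.H73WeilLef.kunneth_induction T p q hP
      (fun z => T.tr P ((φ : T.H P) * z) = T.tr P ((φ' : T.H P) * z)) ?_ ?_ ?_ b
    · simp
    · intro x y hx hy
      rw [mul_add, mul_add, map_add, map_add, hx, hy]
    · intro s t a c ha hc
      change T.tr P ((φ : T.H P) * (T.pull p a * T.pull q c)) =
        T.tr P ((φ' : T.H P) * (T.pull p a * T.pull q c))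
      rw [← mul_assoc, ← mul_assoc,
        T.gradedComm P n s (φ : T.H P) (T.pull p a) φ.2 (T.pull_mem p s a ha),
        T.gradedComm P n s (φ' : T.H P) (T.pull p a) φ'.2 (T.pull_mem p s a ha),
        smul_mul_assoc, smul_mul_assoc, map_smul, map_smul, key s a ha c t hc]
  · intro L
    choose ι hF hD e g hg using fun i : ℤ => exists_rightDual T X i
    let ψ : ℤ → T.H P := fun j => ∑ l : ι j,
      T.pull p (g j l : T.H X) * T.pull q ((L j (e j l) : T.H Y))
    have hψ : ∀ j, ψ j ∈ T.gr P n := by
      intro j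
      refine Submodule.sum_mem _ fun l _ => ?_
      refine mem_of_eq T (SetLike.mul_mem_graded (T.pull_mem p _ _ (g j l).2)
        (T.pull_mem q _ _ (L j (e j l)).2)) ?_
      omega
    let S : Finset ℤ := Finset.Icc 0 (2 * (WeilCoh.dim X.obj.left : ℤ))
    let φ : ↥(T.gr P n) := ⟨∑ j ∈ S, ψ j, Submodule.sum_mem _ fun j _ => hψ j⟩
    refine ⟨φ, ?_⟩
    funext i
    apply LinearMap.ext
    intro x
    apply Subtype.ext
    apply Groth.Agent.Lib.WeilCohPush.eq_of_forall_tr_mul T
      (i + n + 2 * (WeilCoh.dim Y.obj.left : ℤ) - 2 * (WeilCoh.dim P.obj.left : ℤ))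
      (2 * (WeilCoh.dim Y.obj.left : ℤ) -
        (i + n + 2 * (WeilCoh.dim Y.obj.left : ℤ) - 2 * (WeilCoh.dim P.obj.left : ℤ)))
      (by ring) _ _ (Groth.Agent.S15748.corr T p q i n φ x).2 (L i x).2
    intro c hc
    rw [Groth.Agent.S15748.tr_corr_mul T p q i n φ x c _ hc]
    change T.tr P (T.pull p (x : T.H X) * (∑ j ∈ S, ψ j) * T.pull q c) = _
    rw [Finset.mul_sum, Finset.sum_mul, map_sum]
    have hterm : ∀ j, T.tr P (T.pull p (x : T.H X) * ψ j * T.pull q c) =
        ∑ l : ι j, T.tr X ((x : T.H X) * (g j l : T.H X)) *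
          T.tr Y ((L j (e j l) : T.H Y) * c) := by
      intro j
      change T.tr P (T.pull p (x : T.H X) * (∑ l : ι j,
        T.pull p (g j l : T.H X) * T.pull q ((L j (e j l) : T.H Y))) * T.pull q c) = _
      rw [Finset.mul_sum, Finset.sum_mul, map_sum]
      refine Finset.sum_congr rfl fun l _ => ?_
      rw [← mul_assoc, ← map_mul, mul_assoc, ← map_mul,
        Groth.Agent.Lib.H73WeilLef.tr_prod' T p q hP]
    by_cases hi : i ∈ S
    · rw [Finset.sum_eq_single i]
      · rw [hterm i]
        have hx : x = ∑ l, (e i).repr x l • e i l := ((e i).sum_repr x).symm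
        conv_rhs => rw [hx, map_sum]
        rw [Submodule.coe_sum, Finset.sum_mul, map_sum]
        refine Finset.sum_congr rfl fun l _ => ?_
        rw [map_smul, Submodule.coe_smul, smul_mul_assoc, map_smul, smul_eq_mul, hg i x l]
      · intro j _ hji
        rw [hterm j]
        refine Finset.sum_eq_zero fun l _ => ?_
        rw [T.tr_vanish X _ _ (SetLike.mul_mem_graded x.2 (g j l).2) (by omega), zero_mul]
      · intro h; exact absurd hi h
    · have hx0 : x = 0 := by
        apply Subtype.ext
        refine Groth.Agent.Lib.H73WeilLef.eq_zero_of_mem_gr T i (x : T.H X) x.2 ?_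
        simp only [S, Finset.mem_Icc, not_and_or, not_le] at hi
        exact hi
      subst hx0
      simp

end Groth.Agent.S19871
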