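import Groth.Statements.S19879
import Mathlib
import Groth.Agent.S18397

set_option autoImplicit false
universe u
open LVCorr

namespace Groth.Agent.S19879

open AlgebraicGeometry CategoryTheory CategoryTheory.Limits

theorem isOpen_zeroLocus_of_pow_le {R : Type*} [CommRing R] [IsNoetherianRing R] (I : Ideal R)
    (k : ℕ) (h : I ^ k ≤ I ^ (k + 1)) : IsOpen (PrimeSpectrum.zeroLocus (I : Set R)) := by
  have h1 : ∀ m, I ^ (k + 1) ≤ I ^ (k + 1 + m) := by
    intro m
    induction m with
    | zero => exact le_rfl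
    | succ m ih =>
      calc I ^ (k + 1) = I ^ k * I := pow_succ I k
        _ ≤ I ^ (k + 1) * I := Ideal.mul_mono_left h
        _ ≤ I ^ (k + 1 + m) * I := Ideal.mul_mono_left ih
        _ = I ^ (k + 1 + (m + 1)) := by rw [← pow_succ, add_assoc]
  have hB : IsIdempotentElem (I ^ (k + 1)) := by
    apply le_antisymm
    · exact Ideal.mul_le_right
    · calc I ^ (k + 1) ≤ I ^ (k + 1 + (k + 1)) := h1 (k + 1)
        _ = I ^ (k + 1) * I ^ (k + 1) := pow_add I (k + 1) (k + 1)
  obtain ⟨e, he, hBe⟩ :=
    (Ideal.isIdempotentElem_iff_of_fg (I ^ (k + 1)) (IsNoetherian.noetherian _)).mp hB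
  rw [← PrimeSpectrum.zeroLocus_pow I (Nat.succ_ne_zero k), hBe, PrimeSpectrum.zeroLocus_span,
    PrimeSpectrum.zeroLocus_eq_basicOpen_of_isIdempotentElem e he]
  exact (PrimeSpectrum.basicOpen (1 - e)).2

theorem isOpen_support_of_pow_le {Y : Scheme.{u}} [IsLocallyNoetherian Y] (𝔞 : Y.IdealSheafData)
    (k : ℕ) (h : 𝔞 ^ k ≤ 𝔞 ^ (k + 1)) : IsOpen (𝔞.support : Set Y) := by
  have key : ∀ U : Y.affineOpens, IsOpen ((𝔞.support : Set Y) ∩ U) := by
    intro U
    rw [Scheme.IdealSheafData.coe_support_inter, ← U.2.fromSpec_image_zeroLocus]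
    apply U.2.fromSpec.isOpenEmbedding.isOpenMap
    have hnoeth : IsNoetherianRing Γ(Y, U.1) := IsLocallyNoetherian.component_noetherian U
    have hI : (𝔞.ideal U) ^ k ≤ (𝔞.ideal U) ^ (k + 1) := by
      have := h U
      rwa [Scheme.IdealSheafData.ideal_pow, Pi.pow_apply, Scheme.IdealSheafData.ideal_pow,
        Pi.pow_apply] at this
    exact isOpen_zeroLocus_of_pow_le _ k hI
  rw [isOpen_iff_forall_mem_open]
  intro y hy
  obtain ⟨_, ⟨U, hU, rfl⟩, hyU, -⟩ :=
    Y.isBasis_affineOpens.exists_subset_of_mem_open (Set.mem_univ y) isOpen_univ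
  exact ⟨_, Set.inter_subset_left, key ⟨U, hU⟩, hy, hyU⟩

open AlgebraicGeometry CategoryTheory CategoryTheory.Limits in
/-- Let k₀ be a finite field with p^e elements, K an algebraic closure of k₀, C₀ a scheme of finite type
over k₀, C = C₀ ×_{k₀} Spec K with its projections, and Fr : C → C the n-th power of the geometric
Frobenius (over K, compatible with the (e·n)-th power of the absolute p-Frobenius of C₀). Let X be
locally of finite type over K and c₁, c₂ : C → X morphisms over K with c₂ locally quasi-finite, and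
let d < p^(e n) be such that for every closed point x of X, with J_x the inverse image under c₂ of
the ideal sheaf of the reduced point x, one has (√J_x)^d ⊂ J_x (so p^(e n) exceeds the ramification
degree of c₂). Then the scheme of fixed points of the twisted correspondence (c₁ ∘ Fr, c₂), namely
the pullback of (c₁ ∘ Fr, c₂) : C → X ×_K X along the diagonal of X, has finite and discrete
underlying topological space. (In the source X, c₁ and c₂ are also defined over k₀ and all schemes
are separated; neither is needed here.) -/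
theorem result {C C₀ X Fx : Scheme.{u}}
    (p : ℕ) [Fact p.Prime] (k₀ : Type u) [Field k₀] [Fintype k₀] [CharP k₀ p] (e : ℕ)
    (hq : Fintype.card k₀ = p ^ e) (K : Type u) [Field K] [Algebra k₀ K] [IsAlgClosure k₀ K]
    (f₀ : C₀ ⟶ Spec (CommRingCat.of k₀)) [LocallyOfFiniteType f₀] [QuasiCompact f₀] [FrobSch.IsCharP C₀ p]
    (πC₀ : C ⟶ C₀) (πK : C ⟶ Spec (CommRingCat.of K))
    (hC : IsPullback πC₀ πK f₀ (Spec.map (CommRingCat.ofHom (algebraMap k₀ K))))
    (n : ℕ) (Fr : C ⟶ C)
    (hFr₀ : Fr ≫ πC₀ = πC₀ ≫ End.asHom (End.of (FrobSch.frob C₀ p) ^ (e * n)))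
    (hFrK : Fr ≫ πK = πK)
    (pX : X ⟶ Spec (CommRingCat.of K)) [LocallyOfFiniteType pX]
    (c₁ c₂ : C ⟶ X) (hc₁ : c₁ ≫ pX = πK) (hc₂ : c₂ ≫ pX = πK)
    [LocallyQuasiFinite c₂] [LocallyOfFiniteType c₂]
    (hcomm : (Fr ≫ c₁) ≫ pX = c₂ ≫ pX) (d : ℕ) (hn : d < p ^ (e * n))
    (hd : ∀ (x : X) (hx : IsClosed ({x} : Set X)),
      ((Scheme.IdealSheafData.vanishingIdeal ⟨{x}, hx⟩).comap c₂).radical ^ d ≤
        (Scheme.IdealSheafData.vanishingIdeal ⟨{x}, hx⟩).comap c₂)
    (i : Fx ⟶ C) (δ : Fx ⟶ X) (hF : IsPullback i δ (pullback.lift (Fr ≫ c₁) c₂ hcomm) (pullback.diagonal pX)) :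
    Finite Fx ∧ DiscreteTopology Fx := by
  have hδ2 : i ≫ c₂ = δ := by
    have h' := congrArg (· ≫ pullback.snd pX pX) hF.w
    simp only [Category.assoc, pullback.lift_snd, pullback.diagonal_snd, Category.comp_id] at h'
    exact h'
  have hδ1 : i ≫ Fr ≫ c₁ = δ := by
    have h' := congrArg (· ≫ pullback.fst pX pX) hF.w
    simp only [Category.assoc, pullback.lift_fst, pullback.diagonal_fst, Category.comp_id] at h'
    exact h'
  have hi : IsImmersion i := MorphismProperty.of_isPullback (P := @IsImmersion) hF.flip inferInstance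
  have hδft : LocallyOfFiniteType δ := by rw [← hδ2]; infer_instance
  have hJX : JacobsonSpace X := LocallyOfFiniteType.jacobsonSpace pX
  have hπKft : LocallyOfFiniteType πK := MorphismProperty.of_isPullback hC inferInstance
  have hπKqc : QuasiCompact πK := MorphismProperty.of_isPullback hC inferInstance
  have hCln : IsLocallyNoetherian C := LocallyOfFiniteType.isLocallyNoetherian πK
  have hCc : CompactSpace C := QuasiCompact.compactSpace_of_compactSpace πK
  have hCn : IsNoetherian C := {}
  have hNC : TopologicalSpace.NoetherianSpace C := inferInstance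
  have hNF : TopologicalSpace.NoetherianSpace Fx := i.isEmbedding.isInducing.noetherianSpace
  have hFc : CompactSpace Fx := inferInstance
  have hFln : IsLocallyNoetherian Fx := LocallyOfFiniteType.isLocallyNoetherian (i ≫ πK)
  -- fibres of δ over closed points are open
  have hopen : ∀ x : X, IsClosed ({x} : Set X) → IsOpen (δ.base ⁻¹' {x}) := by
    intro x hx
    obtain ⟨W, hW1, -, k, hW3⟩ := Groth.Agent.S18397.result p k₀ e hq K f₀ πC₀ πK hC n Fr hFr₀ hFrK
      pX c₁ c₂ hc₁ hc₂ hcomm d hn hd x hx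
    have hrange : Set.range i.base ⊆ Set.range W.ι.base := by
      rintro _ ⟨y, rfl⟩
      rw [Scheme.Opens.range_ι]
      apply hW1
      exact ⟨δ.base y, congr($(hF.w).base y).symm⟩
    let i' : Fx ⟶ W := IsOpenImmersion.lift W.ι i hrange
    have hi' : i' ≫ W.ι = i := IsOpenImmersion.lift_fac _ _ _
    have e1 : (Scheme.IdealSheafData.vanishingIdeal ⟨{x}, hx⟩).comap δ =
        ((Scheme.IdealSheafData.vanishingIdeal ⟨{x}, hx⟩).comap (W.ι ≫ c₂)).comap i' := by
      rw [← Scheme.IdealSheafData.comap_comp, ← Category.assoc, hi', hδ2]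
    have e2 : (Scheme.IdealSheafData.vanishingIdeal ⟨{x}, hx⟩).comap δ =
        ((Scheme.IdealSheafData.vanishingIdeal ⟨{x}, hx⟩).comap (W.ι ≫ Fr ≫ c₁)).comap i' := by
      rw [← Scheme.IdealSheafData.comap_comp, ← Category.assoc, hi', hδ1]
    have hpow : (Scheme.IdealSheafData.vanishingIdeal ⟨{x}, hx⟩).comap δ ^ k ≤
        (Scheme.IdealSheafData.vanishingIdeal ⟨{x}, hx⟩).comap δ ^ (k + 1) := by
      have h0 := Scheme.IdealSheafData.comap_mono i' hW3
      simp only at h0
      rw [Groth.Agent.Lib.IdealSheafComap.comap_pow, Groth.Agent.Lib.IdealSheafComap.comap_pow,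
        ← e1, ← e2] at h0
      exact h0
    have h1 := isOpen_support_of_pow_le _ k hpow
    have hs : (((Scheme.IdealSheafData.vanishingIdeal ⟨{x}, hx⟩).comap δ).support : Set Fx) =
        δ.base ⁻¹' {x} := by
      rw [Scheme.IdealSheafData.support_comap]
      change δ.base ⁻¹' ((Scheme.IdealSheafData.vanishingIdeal ⟨{x}, hx⟩).support : Set X) = _
      rw [Scheme.IdealSheafData.coe_support_vanishingIdeal]
      rfl
    rwa [hs] at h1
  -- closed points are open
  have hpt : ∀ y : Fx, IsClosed ({y} : Set Fx) → IsOpen ({y} : Set Fx) := by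
    intro y hy
    have hx : IsClosed ({δ.base y} : Set X) := δ.closePoints_subset_preimage_closedPoints hy
    have hD := hopen _ hx
    have hdisc := c₂.isDiscrete_preimage_singleton (δ.base y)
    have hiy : i.base y ∈ c₂.base ⁻¹' {δ.base y} := by
      change c₂.base (i.base y) = δ.base y
      rw [← hδ2]; rfl
    obtain ⟨V, hVo, hV⟩ := (isDiscrete_iff_forall_mem_exists_isOpen.mp hdisc) (i.base y) hiy
    have hyV : i.base y ∈ V := by
      have : i.base y ∈ V ∩ c₂.base ⁻¹' {δ.base y} := by rw [hV]; rfl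
      exact this.1
    have heq : ({y} : Set Fx) = i.base ⁻¹' V ∩ δ.base ⁻¹' {δ.base y} := by
      ext y'
      constructor
      · rintro rfl
        exact ⟨hyV, rfl⟩
      · rintro ⟨h1, h2⟩
        have h3 : i.base y' ∈ V ∩ c₂.base ⁻¹' {δ.base y} := by
          refine ⟨h1, ?_⟩
          change c₂.base (i.base y') = δ.base y
          have : δ.base y' = δ.base y := h2
          rw [← this, ← hδ2]; rfl
        rw [hV] at h3
        exact i.isEmbedding.injective h3
    rw [heq]
    exact (hVo.preimage i.continuous).inter hD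
  have hall : ∀ y : Fx, IsOpen ({y} : Set Fx) := by
    intro y
    let U : Set Fx := {y | IsClosed ({y} : Set Fx)}
    have hUo : IsOpen U := by
      have : U = ⋃ y ∈ U, {y} := by ext; simp
      rw [this]
      exact isOpen_biUnion fun y hy ↦ hpt y hy
    by_cases hne : (Uᶜ).Nonempty
    · obtain ⟨z, hzZ, hzcl⟩ := IsClosed.exists_closed_singleton hUo.isClosed_compl hne
      exact absurd hzcl hzZ
    · rw [Set.not_nonempty_iff_eq_empty, Set.compl_empty_iff] at hne
      have hyU : y ∈ U := by rw [hne]; exact Set.mem_univ y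
      exact hpt y hyU
  have hdisc : DiscreteTopology Fx := discreteTopology_iff_isOpen_singleton.mpr hall
  exact ⟨finite_of_compact_of_discrete, hdisc⟩

end Groth.Agent.S19879
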