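import Groth.Statements.S19885
import Groth.Agent.Lib.EtStalkPull
import Groth.Agent.Lib.EtRestr

set_option autoImplicit false
universe u
open CategoryTheory CategoryTheory.Limits AlgebraicGeometry Opposite
open EtBase

namespace Groth.Agent.S19885

open Groth.Agent.Lib.EtStalkPull Groth.Agent.Lib.EtRestr in
/-- Abelian case. Let j : V → X be an open immersion of schemes, G an abelian sheaf on the small étale
site of V and ζ a geometric point of V (a morphism from the spectrum of a separably closed field).
Then the stalk of the direct image j_*G at the geometric point ζ ≫ j of X is isomorphic to the stalk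
of G at ζ (existence of an isomorphism only; the source's identification is the canonical one, the
étale neighbourhoods of the point contained in V being cofinal; the source states it for sheaves of
sets as well). -/
theorem result {V X : Scheme.{u}} (j : V ⟶ X) [IsOpenImmersion j] [EtCoh.BCCont j]
    (G : EtCoh.Ab V) {Ω : Type u} [Field Ω] [IsSepClosed Ω] (ζ : Spec (CommRingCat.of Ω) ⟶ V) :
    Nonempty ((EtCoh.stalk (ζ ≫ j)).obj ((EtCoh.push j).obj G) ≅ (EtCoh.stalk ζ).obj G) := by
  have : AlgebraicGeometry.Etale j := inferInstance
  have : Mono j := inferInstance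
  have : EtShriek.JCont j := inferInstance
  have hiso : IsIso ((restrPushAdj j).counit.app G) := inferInstance
  exact ⟨((stalkPullIso j ζ).symm.app ((EtCoh.push j).obj G)) ≪≫
    (EtCoh.stalk ζ).mapIso ((pullIsoRestr j).app ((EtCoh.push j).obj G)) ≪≫
    (EtCoh.stalk ζ).mapIso (asIso ((restrPushAdj j).counit.app G))⟩

end Groth.Agent.S19885
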