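import Groth.Statements.S1989
import Groth.Agent.Lib.ValDVR76D

set_option autoImplicit false
universe u
open EtAlg

namespace Groth.Agent.S1989

/-- Let K be the fraction field of a discrete valuation ring A, and K ⊂ L ⊂ M finite separable
extensions. If M is tamely ramified, respectively unramified, with respect to A, then so is L. -/
theorem result (A K : Type u) [CommRing A] [IsDomain A] [IsDiscreteValuationRing A] [Field K] [Algebra A K] [IsFractionRing A K] (L M : Type u) [Field L] [Field M]
    [Algebra K L] [Algebra K M] [Algebra L M] [IsScalarTower K L M] [FiniteDimensional K M] [Algebra.IsSeparable K M] :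
    (EtRam.IsTamelyRamified A ((algebraMap K M).comp (algebraMap A K)) →
      EtRam.IsTamelyRamified A ((algebraMap K L).comp (algebraMap A K))) ∧
    (EtRam.IsUnramifiedExt A ((algebraMap K M).comp (algebraMap A K)) →
      EtRam.IsUnramifiedExt A ((algebraMap K L).comp (algebraMap A K))) := by
  have hfinL : FiniteDimensional K L := FiniteDimensional.left K L M
  have hsepL : Algebra.IsSeparable K L := Algebra.isSeparable_tower_bot_of_isSeparable K L M
  have hg : Function.Injective ((algebraMap K L).comp (algebraMap A K)) :=
    (algebraMap K L).injective.comp (IsFractionRing.injective A K)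
  have hcomp : (algebraMap K M).comp (algebraMap A K) =
      (algebraMap L M).comp ((algebraMap K L).comp (algebraMap A K)) := by
    rw [IsScalarTower.algebraMap_eq K L M, RingHom.comp_assoc]
  have hDL : ∀ V, EtRam.Dominates A ((algebraMap K L).comp (algebraMap A K)) V →
      IsDiscreteValuationRing V := fun V hV =>
    Groth.Agent.Lib.ValDVR76.isDiscreteValuationRing_of_dominates A K L V hV
  have hDM : ∀ W, EtRam.Dominates A
      ((algebraMap L M).comp ((algebraMap K L).comp (algebraMap A K))) W →
      IsDiscreteValuationRing W := fun W hW =>
    Groth.Agent.Lib.ValDVR76.isDiscreteValuationRing_of_dominates A K M W (hcomp ▸ hW)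
  rw [hcomp]
  exact ⟨fun h => Groth.Agent.Lib.ValDVR76.isTamelyRamified_of_comp _ _ hg hDL hDM h,
    fun h => Groth.Agent.Lib.ValDVR76.isUnramifiedExt_of_comp _ _ hg h⟩

end Groth.Agent.S1989
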