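import Groth.Statements.S19890
import Groth.Agent.S17722
import Mathlib.RingTheory.UniqueFactorizationDomain.Kaplansky
import Mathlib.RingTheory.Ideal.AssociatedPrime.Localization
import Mathlib.RingTheory.Flat.EquationalCriterion
import Mathlib.RingTheory.UniqueFactorizationDomain.GCDMonoid

set_option autoImplicit false
universe u
open CAlg

namespace Groth.Agent.S19890

/-- In a UFD the ideal `{x | a ∣ x * y}` (`a ≠ 0`) is principal. -/
theorem exists_forall_dvd_mul_iff {S : Type*} [CommRing S] [IsDomain S]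
    [UniqueFactorizationMonoid S] (a y : S) (ha : a ≠ 0) :
    ∃ a₁ : S, ∀ x : S, a ∣ x * y ↔ a₁ ∣ x := by
  classical
  letI : GCDMonoid S := UniqueFactorizationMonoid.toGCDMonoid S
  obtain ⟨a₁, ha₁⟩ := gcd_dvd_left a y
  obtain ⟨w, hw⟩ := gcd_dvd_right a y
  have hgcd : ∀ x : S, a ∣ x * y → a ∣ x * gcd a y := fun x h => dvd_mul_gcd_of_dvd_mul h
  generalize gcd a y = d at ha₁ hw hgcd
  have hd : d ≠ 0 := fun h => ha (by rw [ha₁, h, zero_mul])
  refine ⟨a₁, fun x => ⟨fun h => ?_, fun h => ?_⟩⟩
  · obtain ⟨v, hv⟩ := hgcd x h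
    refine ⟨v, mul_left_cancel₀ hd ?_⟩
    rw [mul_comm d x, hv, ha₁]; ring
  · obtain ⟨v, hv⟩ := h
    refine ⟨v * w, ?_⟩
    rw [hv, hw, ha₁]; ring

/-- Flat base change of the colon ideal `(a : y)`. -/
theorem mem_map_of_dvd_mul {R R' : Type*} [CommRing R] [CommRing R'] [Algebra R R']
    [Module.Flat R R'] (p : Ideal R) (a y : R) (hp : ∀ x : R, x ∈ p ↔ a ∣ x * y)
    (x' : R') (h : algebraMap R R' a ∣ x' * algebraMap R R' y) :
    x' ∈ p.map (algebraMap R R') := by
  obtain ⟨w', hw'⟩ := h
  have hrel : ∑ i : Fin 2, (![y, -a] : Fin 2 → R) i • (![x', w'] : Fin 2 → R') i = 0 := by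
    simp only [Fin.sum_univ_two, Matrix.cons_val_zero, Matrix.cons_val_one, Algebra.smul_def,
      map_neg]
    rw [mul_comm, hw']; ring
  obtain ⟨k, b, z, hz, hb⟩ := Module.Flat.isTrivialRelation_of_sum_smul_eq_zero hrel
  have h0 := hz 0
  simp only [Matrix.cons_val_zero] at h0
  rw [h0]
  refine sum_mem fun j _ => ?_
  rw [Algebra.smul_def]
  apply Ideal.mul_mem_right
  apply Ideal.mem_map_of_mem
  rw [hp]
  have := hb j
  simp only [Fin.sum_univ_two, Matrix.cons_val_zero, Matrix.cons_val_one] at this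
  refine ⟨b 1 j, ?_⟩
  linear_combination this

/-- Let R → R' be a faithfully flat ring map between Noetherian integrally closed local domains. Then
unique factorization descends along this map: when R' is a UFD, so is R. (The first assertion of the
lemma, descent of principality for an ideal whose extension to R' is principal, is a separate
statement.) -/
theorem result
    (R R' : Type u) [CommRing R] [CommRing R'] [IsDomain R] [IsDomain R']
    [IsNoetherianRing R] [IsNoetherianRing R'] [IsLocalRing R] [IsLocalRing R']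
    [IsIntegrallyClosed R] [IsIntegrallyClosed R']
    [Algebra R R'] [Module.FaithfullyFlat R R'] [UniqueFactorizationMonoid R'] :
    UniqueFactorizationMonoid R := by
  rw [UniqueFactorizationMonoid.iff_exists_prime_mem_of_isPrime]
  intro P hP0 hP
  obtain ⟨a, haP, ha0⟩ := Submodule.exists_mem_ne_zero_of_ne_bot hP0
  -- a minimal prime over `(a)` inside `P`
  have hle : Ideal.span {a} ≤ P := (Ideal.span_singleton_le_iff_mem P).mpr haP
  obtain ⟨p, hpmin, hpP⟩ := Ideal.exists_minimalPrimes_le hle
  have hpprime : p.IsPrime := hpmin.1.1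
  have hap : a ∈ p := hpmin.1.2 (Ideal.subset_span rfl)
  -- it is an associated prime of `R ⧸ (a)`
  have hass : p ∈ associatedPrimes R (R ⧸ Ideal.span {a}) := by
    apply Module.associatedPrimes.minimalPrimes_annihilator_subset_associatedPrimes
    rw [Ideal.annihilator_quotient]
    exact hpmin
  obtain ⟨-, ybar, hy⟩ := isAssociatedPrime_iff.mp hass
  obtain ⟨y, rfl⟩ := Ideal.Quotient.mk_surjective ybar
  have hp : ∀ x : R, x ∈ p ↔ a ∣ x * y := by
    intro x
    rw [hy, Submodule.mem_colon_singleton, Submodule.mem_bot]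
    change x • Submodule.Quotient.mk y = 0 ↔ a ∣ x * y
    rw [← Submodule.Quotient.mk_smul, Submodule.Quotient.mk_eq_zero, smul_eq_mul,
      Ideal.mem_span_singleton]
  -- the extension of `p` is principal
  have hinj : Function.Injective (algebraMap R R') :=
    FaithfulSMul.algebraMap_injective R R'
  have ha' : algebraMap R R' a ≠ 0 := fun h => ha0 (hinj (h.trans (map_zero _).symm))
  obtain ⟨a₁, ha₁⟩ := exists_forall_dvd_mul_iff (algebraMap R R' a) (algebraMap R R' y) ha'
  have hmap : p.map (algebraMap R R') = Ideal.span {a₁} := by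
    apply le_antisymm
    · rw [Ideal.map_le_iff_le_comap]
      intro x hx
      rw [Ideal.mem_comap, Ideal.mem_span_singleton, ← ha₁, ← map_mul]
      exact map_dvd _ ((hp x).mp hx)
    · rw [Ideal.span_singleton_le_iff_mem]
      apply mem_map_of_dvd_mul p a y hp
      rw [ha₁]
  obtain ⟨⟨π, hπ⟩⟩ := Groth.Agent.S17722.result R R' p ⟨⟨a₁, hmap⟩⟩
  change p = Ideal.span {π} at hπ
  have hπ0 : π ≠ 0 := by
    rintro rfl
    rw [Ideal.span_singleton_eq_bot.mpr rfl] at hπ
    rw [hπ] at hap
    exact ha0 hap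
  refine ⟨π, hpP (hπ ▸ Ideal.subset_span rfl), ?_⟩
  rw [← Ideal.span_singleton_prime hπ0, ← hπ]
  exact hpprime

end Groth.Agent.S19890
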