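import Groth.Statements.S19895
import Groth.Agent.Lib.Verlinde23i

set_option autoImplicit false
open Complex
open VerlindeComb

namespace Groth.Agent.S19895

open Groth.Agent.Lib.Verlinde23 in
theorem core (ε Z Ea Ea' Ed E'd E'b : ℂ) (s k : ℕ) (hε : ε * ε = 1) (hZ : Z ≠ 0) (hEd : Ed ≠ 0)
    (d1 : Z ^ (s + k) * E'b = ε * Ea') (d2 : Z ^ s * E'd = ε * Ed) :
    (Ea / Ed) * (Ea' / Ed) * (Ed * E'd) = Z ^ k * Ea * E'b := by
  have hZs : Z ^ s ≠ 0 := pow_ne_zero _ hZ
  have h1 : Ea' = ε * (Z ^ (s + k) * E'b) := by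
    rw [d1, ← mul_assoc, hε, one_mul]
  have h2 : E'd = ε * Ed / Z ^ s := by
    rw [← d2]; field_simp
  rw [h1, h2, pow_add]
  field_simp
  linear_combination (Ea * E'b) * hε

/-- Fix integers r ≥ 2 and k ≥ 1, and two partitions λ, λ' with k ≥ λ_1 ≥ ⋯ ≥ λ_{r-1} ≥ λ_r = 0 and k ≥
λ'_1 ≥ ⋯ ≥ λ'_{r-1} ≥ λ'_r = 0 such that λ is not equivalent to the dual partition λ'* = (k − λ'_r,
…, k − λ'_1), two integer vectors being equivalent when their difference is a constant vector (a, …,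
a). For an integer vector v with r + k > v_1 > ⋯ > v_{r-1} > v_r = 0 put z(v)_j = exp(2πi v_j / (r +
k)), let S_μ(v) = det(z(v)_j^{μ_i + r − i}) / det(z(v)_j^{r − i}) be the Schur value and P(v) =
∏_{i<j} (2 sin(π (v_i − v_j)/(r + k)))². Then the sum over all such v of exp(−2πi (|λ| + |λ'|) (v_1
+ ⋯ + v_r) / (r (r + k))) · S_λ(v) · S_{λ'}(v) · P(v) vanishes; that is, the genus-zero Verlinde
number of rank r, degree 0 and level k with two parabolic points of types λ, λ' is zero. (Only the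
vanishing case is stated; the complementary case, where the number equals 1, is not part of this
statement. The source allows r = 1, where the non-equivalence hypothesis cannot hold.) Indices are
0-based below: lam i stands for λ_{i+1}. -/
theorem result (r k : ℕ) (hr : 2 ≤ r)
    (hk : 1 ≤ k) (lam lam' : Fin r → ℕ) (hlam : Antitone lam) (hlamk : ∀ i, lam i ≤ k)
    (hlam0 : ∀ i : Fin r, (i : ℕ) = r - 1 → lam i = 0)
    (hlam' : Antitone lam') (hlam'k : ∀ i, lam' i ≤ k) (hlam'0 : ∀ i : Fin r, (i : ℕ) = r - 1 → lam' i = 0)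
    (hne : ¬ ∃ a : ℤ, ∀ i, (lam i : ℤ) - ((k - lam' (Fin.rev i) : ℕ) : ℤ) = a)
    (z : (Fin r → ℕ) → Fin r → ℂ)
    (hz : ∀ v j, z v j = Complex.exp (2 * Real.pi * Complex.I * (v j : ℂ) / ((r : ℂ) + k)))
    (S : (Fin r → ℕ) → (Fin r → ℕ) → ℂ)
    (hS : ∀ μ v, S μ v = (Matrix.of fun i j : Fin r => z v j ^ (μ i + (r - 1 - (i : ℕ)))).det /
        (Matrix.of fun i j : Fin r => z v j ^ (r - 1 - (i : ℕ))).det)
    (P : (Fin r → ℕ) → ℝ)
    (hP : ∀ v, P v = ∏ p ∈ (Finset.univ : Finset (Fin r × Fin r)).filter (fun p => p.1 < p.2),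
        ((2 : ℝ) * Real.sin (Real.pi * ((v p.1 : ℝ) - (v p.2 : ℝ)) / ((r : ℝ) + k))) ^ 2) :
    (∑ v ∈ (Finset.univ : Finset (Fin r → Fin (r + k))).filter
        (fun v : Fin r → Fin (r + k) => StrictAnti v ∧ ∀ i : Fin r, (i : ℕ) = r - 1 → (v i : ℕ) = 0),
      Complex.exp (-(2 * Real.pi * Complex.I * (((∑ i, lam i) + (∑ i, lam' i) : ℕ) : ℂ) *
          ((∑ j, (v j : ℕ) : ℕ) : ℂ) / ((r : ℂ) * ((r : ℂ) + k)))) *
        S lam (fun j => (v j : ℕ)) * S lam' (fun j => (v j : ℕ)) * (P (fun j => (v j : ℕ)) : ℂ)) = 0 := by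
  obtain ⟨s, rfl⟩ : ∃ s, r = s + 1 := ⟨r - 1, by omega⟩
  have : NeZero (s + 1 + k) := ⟨by omega⟩
  set N := s + 1 + k with hN
  set ω := Groth.Agent.Lib.Verlinde23.zeta ((s + 1) * N) with hω
  have hωp : IsPrimitiveRoot ω ((s + 1) * N) :=
    Groth.Agent.Lib.Verlinde23.zeta_isPrimitiveRoot _ (Nat.mul_ne_zero (by omega) (by omega))
  have hζ : ω ^ (s + 1) = Groth.Agent.Lib.Verlinde23.zeta N :=
    Groth.Agent.Lib.Verlinde23.zeta_mul_pow (s + 1) N (by omega)
  set ζ := Groth.Agent.Lib.Verlinde23.zeta N with hζdef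
  have hζp : IsPrimitiveRoot ζ N := Groth.Agent.Lib.Verlinde23.zeta_isPrimitiveRoot N (by omega)
  have hζ0 : ζ ≠ 0 := hζp.ne_zero (by omega)
  set α : Fin (s + 1) → ℕ := fun i => lam i + Groth.Agent.Lib.Verlinde23.delta (s + 1) i with hα
  set α' : Fin (s + 1) → ℕ := fun i => lam' i + Groth.Agent.Lib.Verlinde23.delta (s + 1) i with hα'
  set β : Fin (s + 1) → ℕ :=
    fun i => (k - lam' (Fin.rev i)) + Groth.Agent.Lib.Verlinde23.delta (s + 1) i with hβ
  have hδanti : StrictAnti (Groth.Agent.Lib.Verlinde23.delta (s + 1)) := by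
    intro i j hij
    unfold Groth.Agent.Lib.Verlinde23.delta
    have := i.2
    have := j.2
    rw [Fin.lt_def] at hij
    omega
  have hδle : ∀ i, Groth.Agent.Lib.Verlinde23.delta (s + 1) i ≤ s := by
    intro i
    unfold Groth.Agent.Lib.Verlinde23.delta
    omega
  have hαanti : StrictAnti α := by
    intro i j hij
    have h1 := hlam hij.le
    have h2 := hδanti hij
    simp only [hα]
    omega
  have hβanti : StrictAnti β := by
    intro i j hij
    have h1 : lam' (Fin.rev i) ≤ lam' (Fin.rev j) := hlam' (Fin.rev_le_rev.mpr hij.le)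
    have h2 := hδanti hij
    have h3 := hlam'k (Fin.rev j)
    simp only [hβ]
    omega
  have hαN : ∀ i, α i < N := by
    intro i
    have := hlamk i
    have := hδle i
    simp only [hα]
    omega
  have hα'N : ∀ i, α' i ≤ s + k := by
    intro i
    have := hlam'k i
    have := hδle i
    simp only [hα']
    omega
  have hβN : ∀ i, β i < N := by
    intro i
    have := hδle i
    simp only [hβ]
    omega
  have hαβ : ¬ ∃ c : ℤ, ∀ i, (α i : ℤ) - β i = c := by
    rintro ⟨c, hc⟩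
    apply hne
    refine ⟨c, fun i => ?_⟩
    have := hc i
    simp only [hα, hβ] at this
    push_cast at this ⊢
    linarith
  have hΔ : ((∑ i, α i : ℕ) : ℤ) - ((∑ i, β i : ℕ) : ℤ) =
      (((∑ i, lam i) + (∑ i, lam' i) : ℕ) : ℤ) - ((s : ℤ) + 1) * k := by
    simp only [hα, hβ, Finset.sum_add_distrib]
    have h1 : ((∑ i : Fin (s + 1), (k - lam' (Fin.rev i)) : ℕ) : ℤ) =
        ((s : ℤ) + 1) * k - ((∑ i, lam' i : ℕ) : ℤ) := by
      push_cast
      have hrev : ∑ x : Fin (s + 1), (lam' x.rev : ℤ) = ∑ x, (lam' x : ℤ) :=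
        Equiv.sum_comp Fin.revPerm (fun i => (lam' i : ℤ))
      rw [Finset.sum_congr rfl (fun i _ => Nat.cast_sub (hlam'k (Fin.rev i))),
        Finset.sum_sub_distrib, hrev]
      simp
    push_cast at h1 ⊢
    linarith
  have hterm : ∀ v ∈ Groth.Agent.Lib.Verlinde23.DSet s N,
      Complex.exp (-(2 * Real.pi * Complex.I * (((∑ i, lam i) + (∑ i, lam' i) : ℕ) : ℂ) *
          ((∑ j, (v j : ℕ) : ℕ) : ℂ) / (((s + 1 : ℕ) : ℂ) * (((s + 1 : ℕ) : ℂ) + k)))) *
        S lam (fun j => (v j : ℕ)) * S lam' (fun j => (v j : ℕ)) * (P (fun j => (v j : ℕ)) : ℂ) =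
      Groth.Agent.Lib.Verlinde23.G ω α β (fun j => (v j : ℕ)) := by
    intro v hv
    set w : Fin (s + 1) → ℕ := fun j => (v j : ℕ) with hw
    have hvD := (Groth.Agent.Lib.Verlinde23.mem_DSet v).mp hv
    have hzw : ∀ j, z w j = ζ ^ w j := by
      intro j
      rw [hz, hζdef, Groth.Agent.Lib.Verlinde23.zeta_pow]
      congr 1
      rw [hN]
      push_cast
      ring
    have hSlam : S lam w = Groth.Agent.Lib.Verlinde23.E ζ α w /
        Groth.Agent.Lib.Verlinde23.E ζ (Groth.Agent.Lib.Verlinde23.delta (s + 1)) w := by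
      rw [hS, Groth.Agent.Lib.Verlinde23.det_pow_eq_E ζ (z w) w _ hzw,
        Groth.Agent.Lib.Verlinde23.det_pow_eq_E ζ (z w) w _ hzw]
      rfl
    have hSlam' : S lam' w = Groth.Agent.Lib.Verlinde23.E ζ α' w /
        Groth.Agent.Lib.Verlinde23.E ζ (Groth.Agent.Lib.Verlinde23.delta (s + 1)) w := by
      rw [hS, Groth.Agent.Lib.Verlinde23.det_pow_eq_E ζ (z w) w _ hzw,
        Groth.Agent.Lib.Verlinde23.det_pow_eq_E ζ (z w) w _ hzw]
      rfl
    have hPw : (P w : ℂ) = Groth.Agent.Lib.Verlinde23.E ζ (Groth.Agent.Lib.Verlinde23.delta (s + 1)) w *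
        Groth.Agent.Lib.Verlinde23.E ζ⁻¹ (Groth.Agent.Lib.Verlinde23.delta (s + 1)) w := by
      rw [hP]
      exact Groth.Agent.Lib.Verlinde23.P_eq N (((s + 1 : ℕ) : ℝ) + k) (by rw [hN]; push_cast; ring) w
    have hinj : Function.Injective (fun j => ζ ^ w j) := by
      intro i j hij
      have h1 : w i = w j := hζp.pow_inj (v i).2 (v j).2 hij
      exact hvD.1.injective (Fin.ext h1)
    have hEd := Groth.Agent.Lib.Verlinde23.E_delta_ne_zero ζ w hinj
    set Z : ℂ := ∏ j, ζ ^ w j with hZ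
    have hZ0 : Z ≠ 0 := Finset.prod_ne_zero_iff.mpr fun j _ => pow_ne_zero _ hζ0
    have d1 := Groth.Agent.Lib.Verlinde23.E_dual ζ hζ0 α' w (s + k) hα'N
    have hβeq : (fun i => s + k - α' (Fin.rev i)) = β := by
      funext i
      have h1 := hlam'k (Fin.rev i)
      have h2 : ((Fin.rev i : Fin (s + 1)) : ℕ) = s - i := by rw [Fin.val_rev]; omega
      have h3 := i.2
      simp only [hα', hβ, Groth.Agent.Lib.Verlinde23.delta, h2]
      omega
    rw [hβeq] at d1
    have d2 := Groth.Agent.Lib.Verlinde23.E_dual ζ hζ0 (Groth.Agent.Lib.Verlinde23.delta (s + 1)) w s hδle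
    have hδeq : (fun i => s - Groth.Agent.Lib.Verlinde23.delta (s + 1) (Fin.rev i)) =
        Groth.Agent.Lib.Verlinde23.delta (s + 1) := by
      funext i
      have h2 : ((Fin.rev i : Fin (s + 1)) : ℕ) = s - i := by rw [Fin.val_rev]; omega
      have h3 := i.2
      simp only [Groth.Agent.Lib.Verlinde23.delta, h2]
      omega
    rw [hδeq] at d2
    have hcore := core _ Z (Groth.Agent.Lib.Verlinde23.E ζ α w) (Groth.Agent.Lib.Verlinde23.E ζ α' w)
      (Groth.Agent.Lib.Verlinde23.E ζ (Groth.Agent.Lib.Verlinde23.delta (s + 1)) w)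
      (Groth.Agent.Lib.Verlinde23.E ζ⁻¹ (Groth.Agent.Lib.Verlinde23.delta (s + 1)) w)
      (Groth.Agent.Lib.Verlinde23.E ζ⁻¹ β w) s k
      (Groth.Agent.Lib.Verlinde23.sign_mul_sign _) hZ0 hEd d1 d2
    rw [hSlam, hSlam', hPw, mul_assoc, mul_assoc, ← mul_assoc (_ / _), hcore]
    unfold Groth.Agent.Lib.Verlinde23.G
    rw [hζ, hΔ]
    have hω0 : ω ≠ 0 := hωp.ne_zero (Nat.mul_ne_zero (by omega) (by omega))
    have hZk : Z ^ k = ω ^ ((((s : ℤ) + 1) * k) * ((∑ j, w j : ℕ) : ℤ)) := by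
      rw [hZ, Finset.prod_pow_eq_pow_sum, ← hζ, ← pow_mul, ← pow_mul, ← zpow_natCast]
      congr 1
      push_cast
      ring
    have hcexp : Complex.exp (-(2 * Real.pi * Complex.I * (((∑ i, lam i) + (∑ i, lam' i) : ℕ) : ℂ) *
          ((∑ j, w j : ℕ) : ℂ) / (((s + 1 : ℕ) : ℂ) * (((s + 1 : ℕ) : ℂ) + k)))) =
        ω ^ (-((((∑ i, lam i) + (∑ i, lam' i) : ℕ) : ℤ) * ((∑ j, w j : ℕ) : ℤ))) := by
      rw [hω]
      unfold Groth.Agent.Lib.Verlinde23.zeta
      rw [← Complex.exp_int_mul]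
      congr 1
      rw [hN]
      push_cast
      ring
    rw [hcexp, hZk, ← mul_assoc, ← mul_assoc, ← zpow_add₀ hω0]
    congr 3
    ring
  have hset : (Finset.univ : Finset (Fin (s + 1) → Fin (s + 1 + k))).filter
        (fun v : Fin (s + 1) → Fin (s + 1 + k) =>
          StrictAnti v ∧ ∀ i : Fin (s + 1), (i : ℕ) = s + 1 - 1 → (v i : ℕ) = 0) =
      Groth.Agent.Lib.Verlinde23.DSet s N := rfl
  rw [hset, Finset.sum_congr rfl hterm]
  exact Groth.Agent.Lib.Verlinde23.sum_DSet_G_eq_zero ω hωp α β hαanti hβanti hαN hβN hαβ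

end Groth.Agent.S19895
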