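import Groth.Statements.S19898
import Groth.Agent.Lib.NormAlt23
import Groth.Agent.Lib.PolLawGen23
import Mathlib.LinearAlgebra.PiTensorProduct.Basis
import Mathlib.LinearAlgebra.TensorProduct.Pi

set_option autoImplicit false
universe u
open scoped TensorProduct
open SymTen

namespace Groth.Agent.S19898

open Groth.Agent.Lib.NormAlt23 Groth.Agent.Lib.PolLawGen23

section

variable (R : Type u) [CommRing R] (R' : Type u) [CommRing R'] [Algebra R R'] (d : ℕ)
  {C : Type u} [CommRing C] [Algebra R C]

/-- the quotient `Λ = T/I_d` -/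
abbrev Lam : Type u := (⨂[R] _ : Fin d, R') ⧸ SymTen.altSpan R R' d

/-- `t ↦ [t · x]` -/
noncomputable def U (x : ⨂[R] _ : Fin d, R') : (⨂[R] _ : Fin d, R') →ₗ[R] Lam R R' d :=
  (SymTen.altSpan R R' d).mkQ ∘ₗ (LinearMap.applyₗ x) ∘ₗ (SymTen.tpowAct R R' R' d)

/-- `r ↦ r • [x]` -/
noncomputable def V (x : ⨂[R] _ : Fin d, R') : R →ₗ[R] Lam R R' d :=
  LinearMap.toSpanSingleton R _ ((SymTen.altSpan R R' d).mkQ x)

/-- `c ↦ [φ(c)·x − π(c) x]` -/
noncomputable def Θ (φ : C →ₐ[R] (⨂[R] _ : Fin d, R')) (π : C →ₐ[R] R) (x : ⨂[R] _ : Fin d, R') :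
    C →ₗ[R] Lam R R' d :=
  U R R' d x ∘ₗ φ.toLinearMap - V R R' d x ∘ₗ π.toLinearMap

theorem Θ_apply (φ : C →ₐ[R] (⨂[R] _ : Fin d, R')) (π : C →ₐ[R] R) (x : ⨂[R] _ : Fin d, R') (c : C) :
    Θ R R' d φ π x c = (SymTen.altSpan R R' d).mkQ (SymTen.tpowAct R R' R' d (φ c) x - π c • x) := by
  simp [Θ, U, V, LinearMap.toSpanSingleton_apply]

theorem Θ_add (φ : C →ₐ[R] (⨂[R] _ : Fin d, R')) (π : C →ₐ[R] R) (x y : ⨂[R] _ : Fin d, R') :
    Θ R R' d φ π (x + y) = Θ R R' d φ π x + Θ R R' d φ π y := by
  ext c
  rw [LinearMap.add_apply, Θ_apply, Θ_apply, Θ_apply, ← map_add]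
  congr 1
  rw [map_add, smul_add]
  abel

theorem Θ_smul (φ : C →ₐ[R] (⨂[R] _ : Fin d, R')) (π : C →ₐ[R] R) (r : R) (x : ⨂[R] _ : Fin d, R') :
    Θ R R' d φ π (r • x) = r • Θ R R' d φ π x := by
  ext c
  rw [LinearMap.smul_apply, Θ_apply, Θ_apply, ← map_smul]
  congr 1
  rw [smul_sub, smul_comm, map_smul]

end


section Key

variable {R : Type u} [CommRing R] {R' : Type u} [CommRing R'] [Algebra R R']
  [Module.Free R R'] [Module.Finite R R'] {d : ℕ} (hd : Module.finrank R R' = d)
  {C : Type u} [CommRing C] [Algebra R C] [Nontrivial R]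

theorem U_tprod (e : Module.Basis (Fin d) R R') (v : Fin d → R') (κ : Fin d → Fin d) :
    U R R' d (PiTensorProduct.tprod R v) (PiTensorProduct.tprod R (fun j => e (κ j))) =
      e.det (fun j => e (κ j) * v j) • wAlt R R' d e := by
  rw [← alt_eq_det_smul e (wAlt R R' d)]
  simp only [U, LinearMap.comp_apply, LinearMap.applyₗ_apply_apply, tpowAct_tprod, wAlt_apply,
    smul_eq_mul]

theorem V_one (e : Module.Basis (Fin d) R R') (v : Fin d → R') :
    V R R' d (PiTensorProduct.tprod R v) 1 = e.det v • wAlt R R' d e := by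
  rw [← alt_eq_det_smul e (wAlt R R' d)]
  simp [V, LinearMap.toSpanSingleton_apply, wAlt_apply]

theorem key (γ : PolLaw.MulLaw R R' C d)
    (φ : C →ₐ[R] (⨂[R] _ : Fin d, R')) (hφ : PolLaw.MulLaw.postcomp φ γ = SymTen.tpowLaw R R' d)
    (π : C →ₐ[R] R) (hπ : PolLaw.MulLaw.postcomp π γ = PolLaw.normLaw R R' d hd)
    (P : Type u) [CommRing P] [Algebra R P] (z : P ⊗[R] R') (x : ⨂[R] _ : Fin d, R') :
    (Θ R R' d φ π x).lTensor P (γ.law.toFun' P z) = 0 := by
  classical
  let e : Module.Basis (Fin d) R R' := Module.finBasisOfFinrankEq R R' hd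
  set p : Fin d → P := fun k => (Algebra.TensorProduct.basis P e).repr z k with hp
  have hz : z = ∑ k, p k ⊗ₜ[R] e k := by
    conv_lhs => rw [← (Algebra.TensorProduct.basis P e).sum_repr z]
    refine Finset.sum_congr rfl fun k _ => ?_
    rw [Algebra.TensorProduct.basis_apply, TensorProduct.smul_tmul', smul_eq_mul, mul_one]
  have h1 : φ.toLinearMap.lTensor P (γ.law.toFun' P z) = (SymTen.tpowLaw R R' d).law.toFun' P z := by
    rw [← hφ]; rfl
  have h2 : π.toLinearMap.lTensor P (γ.law.toFun' P z) = Algebra.norm P z ⊗ₜ[R] (1 : R) := by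
    rw [← PolLaw.normLaw_apply R R' d hd, ← hπ]; rfl
  induction x using PiTensorProduct.induction_on with
  | smul_tprod r v =>
    rw [Θ_smul, LinearMap.lTensor_smul, LinearMap.smul_apply]
    suffices h : (Θ R R' d φ π (PiTensorProduct.tprod R v)).lTensor P (γ.law.toFun' P z) = 0 by
      rw [h, smul_zero]
    rw [Θ, LinearMap.lTensor_sub, LinearMap.sub_apply, LinearMap.lTensor_comp, LinearMap.lTensor_comp,
      LinearMap.comp_apply, LinearMap.comp_apply, h1, h2, sub_eq_zero]
    rw [LinearMap.lTensor_tmul, V_one e, hz, tpowLaw_sum, map_sum]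
    simp only [LinearMap.lTensor_tmul, U_tprod e]
    simp only [TensorProduct.tmul_smul, TensorProduct.smul_tmul', ← TensorProduct.sum_tmul]
    congr 1
    simp only [Algebra.smul_def]
    rw [mul_comm (algebraMap R P _) (Algebra.norm P _), ← star e p v]
    refine Finset.sum_congr rfl fun κ _ => ?_
    rw [mul_comm]
  | add x y hx hy =>
    rw [Θ_add, LinearMap.lTensor_add, LinearMap.add_apply, hx, hy, add_zero]

end Key


section Final

variable {R : Type u} [CommRing R] {R' : Type u} [CommRing R'] [Algebra R R']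
  [Module.Free R R'] [Module.Finite R R'] {d : ℕ}
  {C : Type u} [CommRing C] [Algebra R C]

/-- the subalgebra of elements acting on the top exterior power through `π` -/
noncomputable def C0 (φ : C →ₐ[R] (⨂[R] _ : Fin d, R')) (π : C →ₐ[R] R) : Subalgebra R C where
  carrier := {c | ∀ x, SymTen.tpowAct R R' R' d (φ c) x - π c • x ∈ SymTen.altSpan R R' d}
  mul_mem' := by
    intro a b ha hb x
    have h : SymTen.tpowAct R R' R' d (φ (a * b)) x - π (a * b) • x =
        (SymTen.tpowAct R R' R' d (φ a) (SymTen.tpowAct R R' R' d (φ b) x) -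
          π a • (SymTen.tpowAct R R' R' d (φ b) x)) +
        π a • (SymTen.tpowAct R R' R' d (φ b) x - π b • x) := by
      rw [map_mul φ, map_mul π, tpowAct_mul, smul_sub, smul_smul]
      abel
    rw [h]
    exact add_mem (ha _) (Submodule.smul_mem _ _ (hb x))
  add_mem' := by
    intro a b ha hb x
    have h : SymTen.tpowAct R R' R' d (φ (a + b)) x - π (a + b) • x =
        (SymTen.tpowAct R R' R' d (φ a) x - π a • x) +
        (SymTen.tpowAct R R' R' d (φ b) x - π b • x) := by
      rw [map_add φ, map_add π, map_add, LinearMap.add_apply, add_smul]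
      abel
    rw [h]
    exact add_mem (ha x) (hb x)
  algebraMap_mem' := by
    intro r x
    have h : SymTen.tpowAct R R' R' d (φ (algebraMap R C r)) x - π (algebraMap R C r) • x = 0 := by
      rw [AlgHom.commutes, AlgHom.commutes, Algebra.algebraMap_eq_smul_one, map_smul,
        LinearMap.smul_apply, tpowAct_one, Algebra.algebraMap_eq_smul_one, smul_eq_mul, mul_one,
        sub_self]
    rw [h]
    exact zero_mem _

theorem mem_C0 (φ : C →ₐ[R] (⨂[R] _ : Fin d, R')) (π : C →ₐ[R] R) (c : C) :
    c ∈ C0 φ π ↔ ∀ x, SymTen.tpowAct R R' R' d (φ c) x - π c • x ∈ SymTen.altSpan R R' d := Iff.rfl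

theorem piRight_lTensor_pi {ι : Type} [Fintype ι] [DecidableEq ι] {Λ : Type u} [AddCommGroup Λ] [Module R Λ]
    (P : Type u) [CommRing P] [Algebra R P] (f : ι → (C →ₗ[R] Λ)) (u : P ⊗[R] C) (μ : ι) :
    TensorProduct.piRight R R P (fun _ : ι => Λ) ((LinearMap.pi f).lTensor P u) μ =
      (f μ).lTensor P u := by
  induction u using TensorProduct.induction_on with
  | zero => simp
  | tmul p c => simp [TensorProduct.piRight_apply, TensorProduct.piRightHom_tmul]
  | add a b ha hb => simp only [map_add, Pi.add_apply, ha, hb]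

end Final

/-- Let R be a commutative ring and R' a commutative R-algebra that is free of rank d as an R-module.
Let (C, γ) be the degree-d divided power algebra of R' over R, given as an R-algebra C with a
multiplicative homogeneous degree-d polynomial law γ : R' → C that is universal among such laws; let
φ : C → T^d_R(R') be the R-algebra homomorphism into the d-fold tensor power whose composite with γ
is the law x ↦ x ⊗ ⋯ ⊗ x, and π : C → R the R-algebra homomorphism whose composite with γ is the
norm law of R' over R. Let T^d_R(R') act on itself factor by factor and let I_d ⊂ T^d_R(R') be the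
R-span of the pure tensors with two equal factors, so that T^d_R(R')/I_d is the top exterior power
Λ^d_R(R'), free of rank one. Then for every c ∈ C and every x ∈ T^d_R(R') the element φ(c)·x − π(c)
x lies in I_d: the symmetric tensor φ(c) acts on Λ^d_R(R') as multiplication by the scalar π(c),
i.e. the homomorphism TS^d_R(R') → R given by the action on the top exterior power, composed with φ,
equals π. (The source states this for R' finite locally free of constant rank d; the free case is
the affine-local form.) -/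
theorem result (R : Type u) [CommRing R] (R' : Type u) [CommRing R']
    [Algebra R R'] [Module.Free R R'] [Module.Finite R R'] (d : ℕ) (hd : Module.finrank R R' = d)
    {C : Type u} [CommRing C] [Algebra R C] (γ : PolLaw.MulLaw R R' C d) (hγ : PolLaw.IsGammaD γ)
    (φ : C →ₐ[R] (⨂[R] _ : Fin d, R')) (hφ : PolLaw.MulLaw.postcomp φ γ = SymTen.tpowLaw R R' d)
    (π : C →ₐ[R] R) (hπ : PolLaw.MulLaw.postcomp π γ = PolLaw.normLaw R R' d hd)
    (c : C) (x : ⨂[R] _ : Fin d, R') :
    SymTen.tpowAct R R' R' d (φ c) x - π c • x ∈ SymTen.altSpan R R' d := by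
  classical
  rcases subsingleton_or_nontrivial R with hR | hR
  · have : Subsingleton (⨂[R] _ : Fin d, R') := Module.subsingleton R _
    rw [Subsingleton.elim (SymTen.tpowAct R R' R' d (φ c) x - π c • x) 0]
    exact zero_mem _
  · let e : Module.Basis (Fin d) R R' := Module.finBasisOfFinrankEq R R' hd
    let bT : Module.Basis (Fin d → Fin d) R (⨂[R] _ : Fin d, R') :=
      Basis.piTensorProduct (fun _ : Fin d => e)
    let Θt : C →ₗ[R] ((Fin d → Fin d) → Groth.Agent.S19898.Lam R R' d) :=
      LinearMap.pi (fun μ => Groth.Agent.S19898.Θ R R' d φ π (bT μ))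
    have hker : ∀ c : C, c ∈ LinearMap.ker Θt → c ∈ Groth.Agent.S19898.C0 φ π := by
      intro c hc
      rw [LinearMap.mem_ker] at hc
      let ψ : (⨂[R] _ : Fin d, R') →ₗ[R] Groth.Agent.S19898.Lam R R' d :=
        (SymTen.altSpan R R' d).mkQ ∘ₗ (SymTen.tpowAct R R' R' d (φ c) - π c • LinearMap.id)
      have hψ : ψ = 0 := by
        apply bT.ext
        intro μ
        have := congrFun hc μ
        rw [LinearMap.pi_apply, Groth.Agent.S19898.Θ_apply] at this
        simpa [ψ] using this
      intro x
      have := LinearMap.congr_fun hψ x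
      simp only [ψ, LinearMap.comp_apply, LinearMap.sub_apply, LinearMap.smul_apply,
        LinearMap.id_apply, LinearMap.zero_apply, Submodule.mkQ_apply] at this
      exact (Submodule.Quotient.mk_eq_zero _).1 this
    let j : LinearMap.ker Θt →ₗ[R] Groth.Agent.S19898.C0 φ π :=
      { toFun := fun c => ⟨c.1, hker c.1 c.2⟩
        map_add' := fun a b => rfl
        map_smul' := fun r a => rfl }
    have hj : (Groth.Agent.S19898.C0 φ π).val.toLinearMap ∘ₗ j = (LinearMap.ker Θt).subtype := rfl
    have htop : Groth.Agent.S19898.C0 φ π = ⊤ := by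
      apply Groth.Agent.Lib.PolLawGen23.subalgebra_eq_top_of_isGammaD γ hγ
      intro n z
      have hex := Module.Flat.lTensor_exact (MvPolynomial (Fin n) R)
        (LinearMap.exact_subtype_ker_map Θt)
      have hzero : Θt.lTensor (MvPolynomial (Fin n) R)
          (γ.law.toFun' (MvPolynomial (Fin n) R) z) = 0 := by
        apply (TensorProduct.piRight R R (MvPolynomial (Fin n) R)
          (fun _ : Fin d → Fin d => Groth.Agent.S19898.Lam R R' d)).injective
        funext μ
        rw [Groth.Agent.S19898.piRight_lTensor_pi, map_zero, Pi.zero_apply]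
        exact Groth.Agent.S19898.key hd γ φ hφ π hπ _ z (bT μ)
      obtain ⟨w, hw⟩ := (hex _).1 hzero
      refine ⟨j.lTensor _ w, ?_⟩
      rw [← LinearMap.comp_apply, ← LinearMap.lTensor_comp, hj, hw]
    have hc : c ∈ Groth.Agent.S19898.C0 φ π := by rw [htop]; exact Algebra.mem_top
    exact hc x

end Groth.Agent.S19898
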