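import Groth.Statements.S19901
-- import your own Groth.Agent.* helpers here
import Mathlib
import Groth.Agent.Lib.AlgSpLCISmLocal83
import Groth.Agent.Lib.AlgSpSmoothLocalSm
import Groth.Agent.Lib.AlgStLocQ4
import Groth.Agent.Lib.H14LocPLCI

set_option autoImplicit false
set_option linter.style.haveILetI false
universe u
open CategoryTheory AlgebraicGeometry
open AlgSt

namespace Groth.Agent.S19901

/-- Let f : 𝒳 → 𝒴, q : 𝒴 → 𝒵 and p : 𝒳 → 𝒵 be morphisms of algebraic stacks forming a 2-commutative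
triangle (a 2-isomorphism between q ∘ f and p is given). If q is smooth and p is a local complete
intersection morphism (Koszul), then f is a local complete intersection morphism. Smooth and local
complete intersection morphisms of algebraic stacks are read on one square of smooth scheme charts. -/
theorem result
    (S : Scheme.{u}) (𝒳 : AlgSt.Cat S) (𝒴 : AlgSt.Cat S) (𝒵 : AlgSt.Cat S)
    (h𝒳 : AlgSt.IsAlgStack Scheme.fppfPrecoverage 𝒳)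
    (h𝒴 : AlgSt.IsAlgStack Scheme.fppfPrecoverage 𝒴)
    (h𝒵 : AlgSt.IsAlgStack Scheme.fppfPrecoverage 𝒵)
    (f : 𝒳 ⥤ᵇ 𝒴) (q : 𝒴 ⥤ᵇ 𝒵) (p : 𝒳 ⥤ᵇ 𝒵) (e : BasedFunctor.comp f q ≅ p)
    (hq : AlgSt.LocQ (AlgSp.LocP @Smooth) q) (hp : AlgSt.LocQ AlgSp.IsLCIMor p) :
    AlgSt.LocQ AlgSp.IsLCIMor f := by
  have : FibCat.IsFibGrpd 𝒳.p := h𝒳.isStack.1
  have : FibCat.IsFibGrpd 𝒴.p := h𝒴.isStack.1
  have : FibCat.IsFibGrpd 𝒵.p := h𝒵.isStack.1
  obtain ⟨U, V, W, x, y, z, hUV, hVW, αf, αg, αfg, hx, hy, hz, hLf, hLg, hLfg⟩ :=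
    Groth.Agent.Lib.AlgStLocQ.exists_tower h𝒳 h𝒴 h𝒵 f q
  have hP : AlgSp.IsSmoothLocalST (AlgSp.IsLCIMor (S := S)) :=
    Groth.Agent.Lib.AlgSpLCISmLocal83.isSmoothLocalST_isLCIMor
  have hp' : AlgSt.LocQ AlgSp.IsLCIMor (BasedFunctor.comp f q) := by
    obtain ⟨U₁, V₁, x₁, y₁, h₁, α₁, h1, h2, h3, h4⟩ := hp
    exact ⟨U₁, V₁, x₁, y₁, h₁, Groth.Agent.Lib.FpEquiv.whiskerLeftIso x₁ e ≪≫ α₁, h1, h2, h3, h4⟩
  have h1 : AlgSp.IsLCIMor ((AlgSp.yon S).map (hUV ≫ hVW)) :=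
    Groth.Agent.Lib.AlgStLocQ.prop_of_locQ_of_square hP _ hp' x z (hUV ≫ hVW) αfg hz.1 hLfg.1
  have h2 : AlgSp.LocP @Smooth ((AlgSp.yon S).map hVW) :=
    Groth.Agent.Lib.AlgStLocQ.prop_of_locQ_of_square
      Groth.Agent.Lib.AlgSpSmoothLocalSm.isSmoothLocalST_locP_smooth q hq y z hVW αg hz.1 hLg.1
  refine ⟨U, V, x, y, hUV, αf, hx.1, hx.2, hy.1, ?_⟩
  rw [Groth.Agent.Lib.H14LocPLCI.locP_lci_yon_map_iff] at h1 ⊢
  haveI : Smooth hVW.left := AlgSp.locP_yon_map h2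
  intro u
  have := h1 u
  rw [Over.comp_left] at this
  exact Groth.Agent.Lib.KoszulEtSrc83.isKoszulAt_of_comp_smooth hUV.left hVW.left u this

end Groth.Agent.S19901
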