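import Groth.Statements.S19907
import Groth.Agent.Lib.SrcLocalSmooth

set_option autoImplicit false
universe u
open CategoryTheory TensorProduct
open ArtFun

namespace Groth.Agent.S19907

/-- Let Λ be a Noetherian ring with a finite ring map to a field k, let k' ⊂ k be the image of Λ and m_Λ
the kernel, so that m_Λ/m_Λ² = H₁(L_{k'/Λ}) (Λ → k' being surjective with kernel m_Λ). If k is
separable over k', the canonical map m_Λ/m_Λ² ⊗_{k'} k → H₁(L_{k/Λ}) is an isomorphism. Stated for
H₁(L_{k'/Λ}) in place of m_Λ/m_Λ²: the k-linear base change of the functoriality map H₁(L_{k'/Λ}) →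
H₁(L_{k/Λ}) is bijective. (The general construction of the map and the case k = k' are the other
assertions of the source; only the separable case is stated here.) -/
theorem result {Λ : Type u} {k : Type u} [CommRing Λ] [Field k] [Algebra Λ k]
    [IsNoetherianRing Λ] [Module.Finite Λ k]
    [Algebra.IsSeparable (↥(algebraMap Λ k).range) k] :
    letI : Algebra Λ (↥(algebraMap Λ k).range) := (algebraMap Λ k).rangeRestrict.toAlgebra
    letI : IsScalarTower Λ (↥(algebraMap Λ k).range) k := IsScalarTower.of_algebraMap_eq (fun _ ↦ rfl)
    Function.Bijective ((Algebra.H1Cotangent.map Λ Λ (↥(algebraMap Λ k).range) k).liftBaseChange k) := by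
  letI inst1 : Algebra Λ (↥(algebraMap Λ k).range) := (algebraMap Λ k).rangeRestrict.toAlgebra
  letI inst2 : IsScalarTower Λ (↥(algebraMap Λ k).range) k :=
    IsScalarTower.of_algebraMap_eq (fun _ ↦ rfl)
  set k' := ↥(algebraMap Λ k).range with hk'
  -- k' is a field
  have hfin : Module.Finite k' k := Module.Finite.of_restrictScalars_finite Λ k' k
  have hint : Algebra.IsIntegral k' k := Algebra.IsIntegral.of_finite k' k
  have hinj : Function.Injective (algebraMap k' k) := Subtype.val_injective
  have hfield : IsField k' := isField_of_isIntegral_of_isField hinj (Field.toIsField k)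
  letI : Field k' := hfield.toField
  have hfe : Algebra.FormallyEtale k' k := Algebra.FormallyEtale.of_isSeparable k' k
  have hfp : Algebra.FinitePresentation k' k :=
    (Algebra.FinitePresentation.of_finiteType).mp inferInstance
  have het : Algebra.Etale k' k := ⟨hfe, hfp⟩
  obtain ⟨e⟩ := Groth.Agent.Lib.SrcLocalSmooth.tensorH1Cotangent_of_etale Λ k' k
  -- finiteness of the target
  have hfpΛ : Algebra.FinitePresentation Λ k :=
    (Algebra.FinitePresentation.of_finiteType).mp inferInstance
  have hproj : Module.Projective k Ω[k⁄Λ] := Module.Projective.of_free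
  have hfinH : Module.Finite k (Algebra.H1Cotangent Λ k) := inferInstance
  have hfinT : Module.Finite k (k ⊗[k'] Algebra.H1Cotangent Λ k') :=
    Module.Finite.equiv e.symm
  have hrank : Module.finrank k (k ⊗[k'] Algebra.H1Cotangent Λ k') =
      Module.finrank k (Algebra.H1Cotangent Λ k) := LinearEquiv.finrank_eq e
  -- surjectivity from the Jacobi–Zariski sequence
  have hflat : Module.Flat k' k := inferInstance
  have hex := Algebra.H1Cotangent.exact_liftBaseChange_map_of_flat Λ k' k
  have hsub : Subsingleton (Algebra.H1Cotangent k' k) :=
    Algebra.FormallySmooth.subsingleton_h1Cotangent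
  have hsurj : Function.Surjective
      ((Algebra.H1Cotangent.map Λ Λ k' k).liftBaseChange k) := by
    intro x
    exact (hex x).mp (Subsingleton.elim _ _)
  exact ⟨(LinearMap.injective_iff_surjective_of_finrank_eq_finrank hrank).mpr hsurj, hsurj⟩

end Groth.Agent.S19907
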