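import Groth.Statements.S19912
import Groth.Agent.Lib.RegularLocal

set_option autoImplicit false
universe u
open CategoryTheory CategoryTheory.Limits AlgebraicGeometry
open Models

namespace Groth.Agent.S19912

open IsLocalRing in
/-- Quotient of a regular local ring by an element whose image under a local homomorphism is
in `m ∖ m²`. -/
theorem regular_quotient_of_localHom {O W : Type*} [CommRing O] [CommRing W]
    [IsRegularLocalRing O] [IsLocalRing W] (θ : O →+* W) [IsLocalHom θ] (t : O)
    (h1 : θ t ∈ maximalIdeal W) (h2 : θ t ∉ (maximalIdeal W) ^ 2) :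
    IsRegularLocalRing (O ⧸ Ideal.span ({t} : Set O)) := by
  have ht : t ∈ maximalIdeal O := by
    rw [mem_maximalIdeal, mem_nonunits_iff]
    intro hu
    exact (mem_maximalIdeal _).mp h1 (hu.map θ)
  have ht2 : t ∉ (maximalIdeal O) ^ 2 := by
    intro h
    apply h2
    have hle : (maximalIdeal O).map θ ≤ maximalIdeal W :=
      ((IsLocalRing.local_hom_TFAE θ).out 0 2).mp ‹IsLocalHom θ›
    have : θ t ∈ ((maximalIdeal O) ^ 2).map θ := Ideal.mem_map_of_mem θ h
    rw [Ideal.map_pow] at this
    exact Ideal.pow_right_mono hle 2 this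
  obtain ⟨h, -⟩ := Groth.Agent.Lib.RegularLocal.isRegularLocalRing_quotient_of_spanFinrank ht
    (Groth.Agent.Lib.RegularLocal.spanFinrank_map_mk_add_one_le ht ht2)
  exact h

open IsLocalRing in
theorem uniformizer_not_mem_sq {V : Type*} [CommRing V] [IsDomain V] [IsDiscreteValuationRing V]
    (ϖ : V) (h : maximalIdeal V = Ideal.span {ϖ}) : ϖ ∉ (maximalIdeal V) ^ 2 := by
  intro hmem
  rw [h, Ideal.span_singleton_pow, Ideal.mem_span_singleton'] at hmem
  obtain ⟨a, ha⟩ := hmem
  have hϖ : ϖ ∈ maximalIdeal V := by rw [h]; exact Ideal.mem_span_singleton_self ϖ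
  have h0 : ϖ * (1 - a * ϖ) = 0 := by
    have : ϖ * (1 - a * ϖ) = ϖ - a * ϖ ^ 2 := by ring
    rw [this, ha, sub_self]
  rcases mul_eq_zero.mp h0 with h1 | h1
  · apply IsDiscreteValuationRing.not_a_field V
    rw [h, h1]
    simp
  · have : IsUnit ϖ := IsUnit.of_mul_eq_one a (by rw [mul_comm]; exact (sub_eq_zero.mp h1).symm)
    exact (mem_maximalIdeal _).mp hϖ this



open IsLocalRing in
theorem regular_quotient_of_dvr {O V W : Type*} [CommRing O] [CommRing V] [CommRing W]
    [IsRegularLocalRing O] [IsDomain V] [IsDiscreteValuationRing V] [IsLocalRing W]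
    (θ : O →+* W) [IsLocalHom θ] (τ : V →+* W) (hτ : Function.Bijective τ) (t : O) (ϖ : V)
    (hV' : maximalIdeal V = Ideal.span {ϖ}) (hkey : θ t = τ ϖ) :
    IsRegularLocalRing (O ⧸ Ideal.span ({t} : Set O)) := by
  let e : V ≃+* W := RingEquiv.ofBijective τ hτ
  have hmax : (maximalIdeal V).map (e : V →+* W) = maximalIdeal W :=
    IsLocalRing.map_ringEquiv_maximalIdeal e
  have hϖm : ϖ ∈ maximalIdeal V := by
    rw [hV']
    exact Ideal.mem_span_singleton_self ϖ
  have h1 : θ t ∈ maximalIdeal W := by
    rw [hkey, ← hmax]
    exact Ideal.mem_map_of_mem (e : V →+* W) hϖm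
  have h2 : θ t ∉ (maximalIdeal W) ^ 2 := by
    rw [hkey, ← hmax, ← Ideal.map_pow]
    intro hmem
    obtain ⟨x, hx, hxe⟩ := (Ideal.mem_map_iff_of_surjective (e : V →+* W) e.surjective).mp hmem
    have : x = ϖ := hτ.1 hxe
    rw [this] at hx
    exact uniformizer_not_mem_sq ϖ hV' hx
  exact regular_quotient_of_localHom θ t h1 h2

/-- The canonical map from a local ring to the stalk of its spectrum at the closed point is
bijective. -/
theorem toStalk_closedPoint_bijective (V : Type u) [CommRing V] [IsLocalRing V] :
    Function.Bijective (StructureSheaf.toStalk V (IsLocalRing.closedPoint V)).hom := by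
  have H : (IsLocalRing.closedPoint V).asIdeal.primeCompl ≤ IsUnit.submonoid V := by
    intro x hx
    have : IsUnit x := by simpa [Ideal.primeCompl, IsLocalRing.closedPoint] using hx
    exact this
  exact (IsLocalization.atUnits V (IsLocalRing.closedPoint V).asIdeal.primeCompl
    (S := (Spec.structureSheaf V).presheaf.stalk (IsLocalRing.closedPoint V)) H).bijective


/-- Let R be a discrete valuation ring with fraction field K and YR a scheme over Spec R. Let V be a
discrete valuation ring which is an R-algebra in such a way that the maximal ideal of R generates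
the maximal ideal of V (ramification index one), and let σ : Spec V -> YR be a morphism over Spec R
sending the closed point of Spec V to y. If the local ring of YR at y is regular, then the local
ring at y of the special fibre of YR, namely O_{YR,y}/𝔪_R O_{YR,y}, is regular. (The published
statement takes YR a normal projective flat model of a smooth projective geometrically connected
curve Y over K and phrases the hypothesis through a point Q of Y rational over an extension L of K
unramified over K with y in the closure of Q: by the valuative criterion such a point yields a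
morphism as above from the spectrum of the localization of the integral closure of R in L at a
maximal ideal over y, which is the form used here.) -/
theorem result
    (R : Type u) [CommRing R] [IsDomain R] [IsDiscreteValuationRing R]
    (YR : Over (Spec (CommRingCat.of R)))
    (V : Type u) [CommRing V] [IsDomain V] [IsDiscreteValuationRing V] [Algebra R V]
    (hV : Ideal.map (algebraMap R V) (IsLocalRing.maximalIdeal R) = IsLocalRing.maximalIdeal V)
    (σ : Spec (CommRingCat.of V) ⟶ YR.left)
    (hσ : σ ≫ YR.hom = Spec.map (CommRingCat.ofHom (algebraMap R V)))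
    (y : YR.left) (hy : σ.base (IsLocalRing.closedPoint V) = y)
    (hreg : IsRegularLocalRing (YR.left.presheaf.stalk y)) :
    IsRegularLocalRing (YR.left.presheaf.stalk y ⧸
      Ideal.map (Models.stalkHom R YR y) (IsLocalRing.maximalIdeal R)) := by
  subst hy
  set c := IsLocalRing.closedPoint V with hc
  have : IsLocalRing ((Spec (CommRingCat.of V)).presheaf.stalk c) := inferInstance
  let θ : YR.left.presheaf.stalk (σ.base c) →+* (Spec (CommRingCat.of V)).presheaf.stalk c :=
    (σ.stalkMap c).hom
  have : IsLocalHom θ := inferInstance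
  obtain ⟨π, hπ⟩ := IsDiscreteValuationRing.exists_irreducible R
  have hπ' : IsLocalRing.maximalIdeal R = Ideal.span {π} :=
    (IsDiscreteValuationRing.irreducible_iff_uniformizer π).mp hπ
  set ϖ := algebraMap R V π with hϖ
  have hV' : IsLocalRing.maximalIdeal V = Ideal.span {ϖ} := by
    rw [← hV, hπ', Ideal.map_span, Set.image_singleton]
  set t := Models.stalkHom R YR (σ.base c) π with ht
  have hI : Ideal.map (Models.stalkHom R YR (σ.base c)) (IsLocalRing.maximalIdeal R) =
      Ideal.span {t} := by
    rw [hπ', Ideal.map_span, Set.image_singleton]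
  let τ : V →+* (Spec (CommRingCat.of V)).presheaf.stalk c := (StructureSheaf.toStalk V c).hom
  have hτ : Function.Bijective τ := toStalk_closedPoint_bijective V
  have hkey : θ t = τ ϖ := by
    have h1 : θ t = (Spec (CommRingCat.of V)).presheaf.germ (σ ⁻¹ᵁ ⊤) c trivial
        (σ.app ⊤ (Coh.toGlobal YR.hom π)) :=
      Scheme.Hom.germ_stalkMap_apply σ ⊤ c trivial _
    rw [h1]
    have h2 : σ.app ⊤ (Coh.toGlobal YR.hom π) =
        (Scheme.ΓSpecIso (CommRingCat.of V)).inv ϖ := by
      have h3 : σ.app ⊤ (Coh.toGlobal YR.hom π) =
          (σ ≫ YR.hom).appTop ((Scheme.ΓSpecIso (CommRingCat.of R)).inv π) := by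
        rw [Scheme.Hom.comp_appTop]
        rfl
      rw [h3, hσ]
      have h4 := Scheme.ΓSpecIso_inv_naturality (CommRingCat.ofHom (algebraMap R V))
      have h5 := ConcreteCategory.congr_hom h4 π
      exact h5.symm
    rw [h2]
    rfl
  have hreg' := regular_quotient_of_dvr θ τ hτ t ϖ hV' hkey
  rw [hI]
  exact hreg'

end Groth.Agent.S19912
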