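import Groth.Statements.S19919
import Mathlib

set_option autoImplicit false
set_option linter.unusedSectionVars false
set_option linter.unusedVariables false
universe u v w

namespace Groth.Agent.S19919

open DividedPowers

section
variable (R : Type u) [CommRing R] (N : ℕ)
    (P : Type v) [CommRing P] [Algebra R P] (x : Fin N → ℕ → P)
    (hx0 : ∀ i, x i 0 = 1)
    (hxmul : ∀ i n m, x i n * x i m = ((n + m).choose n : P) * x i (n + m))
    (b : Module.Basis (Fin N →₀ ℕ) R P) (hb : ∀ e : Fin N →₀ ℕ, b e = e.prod (fun i k => x i k))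
    (S : Type w) [CommRing S] [Algebra R S] (J : Ideal S) (δ : DividedPowers J)
    (s : Fin N → S) (hs : ∀ i, s i ∈ J)

include hx0 hb in
lemma b_eq (e : Fin N →₀ ℕ) : b e = ∏ i, x i (e i) := by
  rw [hb, Finsupp.prod_fintype _ _ (fun i => hx0 i)]

include hx0 hxmul hb in
lemma b_mul (e e' : Fin N →₀ ℕ) :
    b e * b e' = ((∏ i, ((e i + e' i).choose (e i)) : ℕ)) • b (e + e') := by
  rw [b_eq R N P x hx0 b hb, b_eq R N P x hx0 b hb, b_eq R N P x hx0 b hb, ← Finset.prod_mul_distrib,
    nsmul_eq_mul, Nat.cast_prod, ← Finset.prod_mul_distrib]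
  refine Finset.prod_congr rfl (fun i _ => ?_)
  rw [hxmul]; rfl

/-- the linear map underlying φ -/
noncomputable def phiL : P →ₗ[R] S :=
  b.constr R (fun e => ∏ i, δ.dpow (e i) (s i))

lemma phiL_b (e : Fin N →₀ ℕ) : phiL R N P b S J δ s (b e) = ∏ i, δ.dpow (e i) (s i) := by
  rw [phiL, Module.Basis.constr_basis]

include hx0 hb hs in
lemma phiL_one : phiL R N P b S J δ s 1 = 1 := by
  have h1 : (1 : P) = b 0 := by
    rw [b_eq R N P x hx0 b hb]; simp [hx0]
  rw [h1, phiL_b]
  simp [δ.dpow_zero (hs _)]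

include hx0 hxmul hb hs in
lemma phiL_mul (p p' : P) :
    phiL R N P b S J δ s (p * p') = phiL R N P b S J δ s p * phiL R N P b S J δ s p' := by
  have key : (LinearMap.mul R P).compr₂ (phiL R N P b S J δ s) =
      (LinearMap.mul R S).compl₁₂ (phiL R N P b S J δ s) (phiL R N P b S J δ s) := by
    refine b.ext (fun e => b.ext (fun e' => ?_))
    simp only [LinearMap.compr₂_apply, LinearMap.mul_apply', LinearMap.compl₁₂_apply]
    rw [b_mul R N P x hx0 hxmul b hb, map_nsmul, phiL_b, phiL_b, phiL_b, nsmul_eq_mul,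
      Nat.cast_prod, ← Finset.prod_mul_distrib, ← Finset.prod_mul_distrib]
    refine Finset.prod_congr rfl (fun i _ => ?_)
    rw [δ.mul_dpow (hs i)]; rfl
  have := LinearMap.congr_fun (LinearMap.congr_fun key p) p'
  simpa using this

/-- the algebra map φ -/
noncomputable def phi : P →ₐ[R] S :=
  AlgHom.ofLinearMap (phiL R N P b S J δ s) (phiL_one R N P x hx0 b hb S J δ s hs)
    (phiL_mul R N P x hx0 hxmul b hb S J δ s hs)

include hx0 hb in
lemma x_eq_b (i : Fin N) (n : ℕ) : x i n = b (Finsupp.single i n) := by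
  classical
  rw [b_eq R N P x hx0 b hb, Finset.prod_eq_single i]
  · simp
  · intro j _ hji
    rw [Finsupp.single_eq_of_ne hji, hx0]
  · intro h; exact absurd (Finset.mem_univ i) h

include hx0 hb hs in
lemma phi_x (i : Fin N) (n : ℕ) :
    phi R N P x hx0 hxmul b hb S J δ s hs (x i n) = δ.dpow n (s i) := by
  classical
  show phiL R N P b S J δ s (x i n) = _
  rw [x_eq_b R N P x hx0 b hb, phiL_b, Finset.prod_eq_single i]
  · simp
  · intro j _ hji
    rw [Finsupp.single_eq_of_ne hji, δ.dpow_zero (hs j)]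
  · intro h; exact absurd (Finset.mem_univ i) h

end

/-- Let R be a commutative ring and P = R⟨X_1, …, X_N⟩ the divided power polynomial algebra over R,
presented concretely as an R-algebra P with elements x i n = X_i^[n] (i < N, n ≥ 0) such that
X_i^[0] = 1, X_i^[n] · X_i^[m] = C(n+m, n) X_i^[n+m], and the monomials ∏_i X_i^[e_i] form an
R-basis of P; let P_+ be the ideal generated by the X_i^[n] with n ≥ 1 and γ the divided power
structure on P_+ with γ_n(X_i^[1]) = X_i^[n]. Then (P, P_+, γ) is the free divided power R-algebra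
on N variables: for every commutative R-algebra S, every ideal J of S with a divided power structure
δ and every family s_1, …, s_N of elements of J there is exactly one R-algebra homomorphism φ : P →
S that is a divided power morphism from (P_+, γ) to (J, δ) and satisfies φ(X_i^[1]) = s_i for all i. -/
theorem result (R : Type u) [CommRing R] (N : ℕ)
    (P : Type v) [CommRing P] [Algebra R P] (x : Fin N → ℕ → P)
    (hx0 : ∀ i, x i 0 = 1)
    (hxmul : ∀ i n m, x i n * x i m = ((n + m).choose n : P) * x i (n + m))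
    (b : Module.Basis (Fin N →₀ ℕ) R P) (hb : ∀ e : Fin N →₀ ℕ, b e = e.prod (fun i k => x i k))
    (γ : DividedPowers (Ideal.span {y : P | ∃ (i : Fin N) (n : ℕ), 1 ≤ n ∧ y = x i n}))
    (hγ : ∀ (i : Fin N) (n : ℕ), γ.dpow n (x i 1) = x i n)
    (S : Type w) [CommRing S] [Algebra R S] (J : Ideal S) (δ : DividedPowers J)
    (s : Fin N → S) (hs : ∀ i, s i ∈ J) :
    ∃! φ : P →ₐ[R] S, γ.IsDPMorphism δ φ.toRingHom ∧ ∀ i, φ (x i 1) = s i := by
  have hx1mem : ∀ i, x i 1 ∈ Ideal.span {y : P | ∃ (i : Fin N) (n : ℕ), 1 ≤ n ∧ y = x i n} :=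
    fun i => Ideal.subset_span ⟨i, 1, le_rfl, rfl⟩
  refine ⟨phi R N P x hx0 hxmul b hb S J δ s hs, ⟨?_, ?_⟩, ?_⟩
  · refine IsDPMorphism.on_span γ δ rfl ?_ ?_
    · rintro _ ⟨i, n, hn, rfl⟩
      show phi R N P x hx0 hxmul b hb S J δ s hs (x i n) ∈ J
      rw [phi_x]
      exact δ.dpow_mem (by omega) (hs i)
    · rintro m _ ⟨i, n, hn, rfl⟩
      show phi R N P x hx0 hxmul b hb S J δ s hs (γ.dpow m (x i n)) =
        δ.dpow m (phi R N P x hx0 hxmul b hb S J δ s hs (x i n))
      rw [phi_x, ← hγ i n, γ.dpow_comp (by omega) (hx1mem i), δ.dpow_comp (by omega) (hs i), hγ,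
        map_mul, map_natCast, phi_x]
  · intro i
    rw [phi_x, δ.dpow_one (hs i)]
  · rintro φ' ⟨hdp, hφ'⟩
    have hx' : ∀ i n, φ' (x i n) = δ.dpow n (s i) := by
      intro i n
      rw [← hγ i n]
      have := hdp.map_dpow (n := n) (hx1mem i)
      rw [AlgHom.toRingHom_eq_coe, RingHom.coe_coe] at this
      rw [this, hφ']
    apply AlgHom.toLinearMap_injective
    refine b.ext (fun e => ?_)
    show φ' (b e) = phiL R N P b S J δ s (b e)
    rw [phiL_b, b_eq R N P x hx0 b hb, map_prod]
    exact Finset.prod_congr rfl (fun i _ => hx' i (e i))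

end Groth.Agent.S19919
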