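import Groth.Statements.S1992
import Mathlib.RingTheory.Polynomial.ScaleRoots
import Mathlib.RingTheory.Localization.Integer
import Mathlib.FieldTheory.IsSepClosed

set_option autoImplicit false
universe u
open EtAlg
open Polynomial

namespace Groth.Agent.S1992

lemma splits_of_hyp {A : Type u} [CommRing A]
    (hA : ∀ f : A[X], f.Monic → ∃ s : Multiset A, f = (s.map fun a => X - C a).prod)
    (f : A[X]) (hf : f.Monic) : f.Splits := by
  obtain ⟨s, rfl⟩ := hA f hf
  apply Splits.multisetProd
  intro g hg
  obtain ⟨a, -, rfl⟩ := Multiset.mem_map.mp hg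
  exact Splits.X_sub_C a

/-- monic polynomials over a localization of a ring in which all monic polynomials split
also split -/
lemma splits_localization {A : Type u} [CommRing A] (M : Submonoid A) (B : Type u) [CommRing B]
    [Algebra A B] [IsLocalization M B]
    (hA : ∀ f : A[X], f.Monic → f.Splits) (g : B[X]) (hg : g.Monic) : g.Splits := by
  classical
  obtain ⟨b, hb⟩ := IsLocalization.exist_integer_multiples_of_finset M
    ((Finset.range (g.natDegree + 1)).image g.coeff)
  have hbu : IsUnit (algebraMap A B b) := IsLocalization.map_units B b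
  set σ : B := algebraMap A B b with hσ
  have hcoef : ∀ i, i < g.natDegree → ∃ r : A, algebraMap A B r = σ * g.coeff i := by
    intro i hi
    have := hb (g.coeff i) (Finset.mem_image_of_mem _ (Finset.mem_range.mpr (by omega)))
    obtain ⟨r, hr⟩ := this
    exact ⟨r, by rw [hr, Algebra.smul_def]⟩
  have hlift : g.scaleRoots σ ∈ Polynomial.lifts (algebraMap A B) := by
    rw [Polynomial.lifts_iff_coeff_lifts]
    intro i
    rw [Polynomial.coeff_scaleRoots]
    rcases lt_trichotomy i g.natDegree with hi | hi | hi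
    · obtain ⟨r, hr⟩ := hcoef i hi
      obtain ⟨k, hk⟩ : ∃ k, g.natDegree - i = k + 1 := ⟨g.natDegree - i - 1, by omega⟩
      refine ⟨r * b ^ k, ?_⟩
      rw [hk, pow_succ, map_mul, hr, map_pow]
      ring
    · refine ⟨1, ?_⟩
      rw [hi, Nat.sub_self, pow_zero, mul_one, map_one]
      exact hg.coeff_natDegree.symm
    · refine ⟨0, ?_⟩
      rw [Polynomial.coeff_eq_zero_of_natDegree_lt hi, zero_mul, map_zero]
  have hmonic : (g.scaleRoots σ).Monic := (Polynomial.monic_scaleRoots_iff σ).mpr hg
  obtain ⟨h₀, hh₀, -, hh₀m⟩ := Polynomial.lifts_and_natDegree_eq_and_monic hlift hmonic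
  have hsplit : (g.scaleRoots σ).Splits := hh₀ ▸ (hA h₀ hh₀m).map (algebraMap A B)
  obtain ⟨τ, hτ⟩ := hbu.exists_right_inv
  have : g = (g.scaleRoots σ).scaleRoots τ := by
    rw [← Polynomial.scaleRoots_mul, hτ, Polynomial.scaleRoots_one]
  rw [this]
  exact hsplit.scaleRoots τ

theorem result (A : Type u) [CommRing A]
    (hA : ∀ f : A[X], f.Monic → ∃ s : Multiset A, f = (s.map fun a => X - C a).prod)
    (p : Ideal A) [p.IsPrime] :
    EtCoh.IsStrictlyHenselianLocalRing (Localization.AtPrime p) := by
  have hsp : ∀ g : (Localization.AtPrime p)[X], g.Monic → g.Splits :=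
    splits_localization p.primeCompl (Localization.AtPrime p) (splits_of_hyp hA)
  have hhens : HenselianLocalRing (Localization.AtPrime p) := by
    refine { is_henselian := ?_ }
    intro f hf a₀ ha₀ _
    obtain ⟨m, hm⟩ := Polynomial.splits_iff_exists_multiset.mp (hsp f hf)
    rw [hf.leadingCoeff, map_one, one_mul] at hm
    have hev : f.eval a₀ = (m.map (fun r => a₀ - r)).prod := by
      rw [hm, Polynomial.eval_multiset_prod, Multiset.map_map]
      congr 1
      apply Multiset.map_congr rfl
      intro r _
      simp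
    rw [hev] at ha₀
    obtain ⟨x, hx, hxm⟩ :=
      ((IsLocalRing.maximalIdeal.isMaximal _).isPrime.multiset_prod_mem_iff_exists_mem _).mp ha₀
    obtain ⟨r, hr, rfl⟩ := Multiset.mem_map.mp hx
    refine ⟨r, ?_, ?_⟩
    · rw [Polynomial.IsRoot.def, hm, Polynomial.eval_multiset_prod]
      apply Multiset.prod_eq_zero
      rw [Multiset.map_map]
      exact Multiset.mem_map.mpr ⟨r, hr, by simp⟩
    · rw [← neg_sub]
      exact neg_mem hxm
  refine ⟨hhens, ?_⟩
  apply IsSepClosed.of_exists_root
  intro q hqm hqirr _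
  have hlift : q ∈ Polynomial.lifts (IsLocalRing.residue (Localization.AtPrime p)) := by
    rw [Polynomial.mem_lifts]
    exact Polynomial.map_surjective _ IsLocalRing.residue_surjective q
  obtain ⟨g, hgq, hgdeg, hgm⟩ := Polynomial.lifts_and_natDegree_eq_and_monic hlift hqm
  have hgdeg' : g.degree ≠ 0 := by
    intro h0
    have h1 : g.natDegree = 0 := Polynomial.natDegree_eq_of_degree_eq_some h0
    rw [hgdeg] at h1
    have : q.degree = 0 := by
      rw [Polynomial.degree_eq_natDegree hqm.ne_zero, h1]; rfl
    exact (Polynomial.degree_pos_of_irreducible hqirr).ne' this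
  obtain ⟨a, ha⟩ := (hsp g hgm).exists_eval_eq_zero hgdeg'
  refine ⟨IsLocalRing.residue _ a, ?_⟩
  rw [← hgq, Polynomial.eval_map_apply, ha, map_zero]

end Groth.Agent.S1992
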