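import Groth.Statements.S1996
import Mathlib.RingTheory.RingHom.FaithfullyFlat

set_option autoImplicit false
universe u
open EtAlg

namespace Groth.Agent.S1996

open TensorProduct

/-- Flatness descends: if `R → S → T` with `T` faithfully flat over `S` and `T` flat over `R`,
then `S` is flat over `R`. -/
lemma flat_of_faithfullyFlat_of_flat (R S T : Type u) [CommRing R] [CommRing S] [CommRing T]
    [Algebra R S] [Algebra S T] [Algebra R T] [IsScalarTower R S T]
    [Module.FaithfullyFlat S T] [Module.Flat R T] : Module.Flat R S := by
  rw [Module.Flat.iff_lTensor_preserves_injective_linearMap]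
  intro N P _ _ _ _ f hf
  -- view `f.lTensor S` as an `S`-linear map
  let g : S ⊗[R] N →ₗ[S] S ⊗[R] P := f.baseChange S
  have hg : (g : S ⊗[R] N → S ⊗[R] P) = f.lTensor S := rfl
  rw [← hg, ← Module.FaithfullyFlat.lTensor_injective_iff_injective S T g]
  have key : (g.lTensor T) =
      ((TensorProduct.AlgebraTensorModule.cancelBaseChange R S S T P).symm.toLinearMap ∘ₗ
        (f.baseChange T).restrictScalars S ∘ₗ
        (TensorProduct.AlgebraTensorModule.cancelBaseChange R S S T N).toLinearMap) := by
    ext t n
    simp [g]
  rw [key]
  simp only [LinearMap.coe_comp, LinearEquiv.coe_coe, LinearMap.coe_restrictScalars,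
    EmbeddingLike.comp_injective, EquivLike.injective_comp]
  exact Module.Flat.lTensor_preserves_injective_linearMap f hf

lemma ringHom_flat_of_comp {R S T : Type u} [CommRing R] [CommRing S] [CommRing T]
    (f : R →+* S) (g : S →+* T) (hg : g.FaithfullyFlat) (hgf : (g.comp f).Flat) : f.Flat := by
  algebraize [f, g, g.comp f]
  exact flat_of_faithfullyFlat_of_flat R S T

theorem result (A B C : Type u) [CommRing A] [CommRing B] [CommRing C] [Algebra A B]
    [Algebra B C] [Algebra A C] [IsScalarTower A B C] [Module.FaithfullyFlat B C] [Algebra.WeaklyEtale A C] :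
    Algebra.WeaklyEtale A B := by
  have hAB : Module.Flat A B := flat_of_faithfullyFlat_of_flat A B C
  refine ⟨hAB, ?_⟩
  have hBC : (algebraMap B C).FaithfullyFlat :=
    RingHom.faithfullyFlat_algebraMap_iff.mpr inferInstance
  apply ringHom_flat_of_comp _ (algebraMap B C) hBC
  let ι : B →ₐ[A] C := IsScalarTower.toAlgHom A B C
  have hι : ι.Flat := by
    change (algebraMap B C).Flat
    exact hBC.flat
  have h1 : (algebraMap B C).comp (Algebra.TensorProduct.lmul' A (S := B)).toRingHom =
      ((Algebra.TensorProduct.lmul' A (S := C)).comp (Algebra.TensorProduct.map ι ι)).toRingHom := by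
    refine RingHom.ext fun x => ?_
    induction x using TensorProduct.induction_on with
    | zero => simp
    | tmul x y => simp [ι]
    | add x y hx hy =>
      simp only [map_add] at hx hy ⊢
      rw [hx, hy]
  rw [h1]
  exact RingHom.Flat.comp (RingHom.Flat.tensorProductMap hι hι)
    (Algebra.WeaklyEtale.flat_lmul' A C)

end Groth.Agent.S1996
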