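import Groth.Statements.S19967
import Mathlib

set_option autoImplicit false
universe u
open CategoryTheory CategoryTheory.Limits AlgebraicGeometry
open FlatMor

namespace Groth.Agent.S19967

/-- Let f : S' → S be a flat morphism of locally Noetherian schemes, i : C → S and i' : C' → S' closed
immersions with C and C' integral, and g : C' → C with g ≫ i = i' ≫ f. Let φ : C' → C ×_S S' be the
induced morphism and η ∈ S the image of the generic point of C. If φ becomes an isomorphism after
base change along the canonical morphism Spec O_{S,η} → S (that is, after pulling back to (C ×_S S')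
×_S Spec O_{S,η}), then φ is an isomorphism. (In the source S and S' are excellent surfaces over an
algebraically closed field, C and C' regular curves not inside the singular loci, and the
isomorphism over Spec O_{S,η} is part of the definition of a morphism of surface-curve pairs; those
extra hypotheses play no part.) -/
theorem result
    {S S' C C' : Scheme.{u}} [IsLocallyNoetherian S] [IsLocallyNoetherian S']
    (f : S' ⟶ S) [Flat f] (i : C ⟶ S) [IsClosedImmersion i] [IsIntegral C]
    (i' : C' ⟶ S') [IsClosedImmersion i'] [IsIntegral C']
    (g : C' ⟶ C) (hsq : g ≫ i = i' ≫ f)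
    (hgen : IsIso (pullback.snd (pullback.lift g i' hsq)
      (pullback.fst (pullback.fst i f ≫ i) (S.fromSpecStalk (i.base (genericPoint C)))))) :
    IsIso (pullback.lift g i' hsq) := by
  let P := pullback i f
  let φ : C' ⟶ P := pullback.lift g i' hsq
  let η := genericPoint C
  let t := S.fromSpecStalk (i.base η)
  -- φ is a closed immersion
  have hφ2 : φ ≫ pullback.snd i f = i' := pullback.lift_snd _ _ _
  have : IsClosedImmersion (φ ≫ pullback.snd i f) := by rw [hφ2]; infer_instance
  have hφcl : IsClosedImmersion φ := IsClosedImmersion.of_comp φ (pullback.snd i f)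
  -- the generic fibre of C
  have hqc : QuasiCompact t := inferInstance
  have hdomC : IsDominant (pullback.fst i t) := by
    have hη : η ∈ Set.range (pullback.fst i t).base := by
      obtain ⟨z, hz1, -⟩ := Scheme.Pullback.exists_preimage_pullback (f := i) (g := t) η
        (IsLocalRing.closedPoint _) (by
          rw [Scheme.fromSpecStalk_closedPoint])
      exact ⟨z, hz1⟩
    refine ⟨?_⟩
    have hcl : closure ({η} : Set C) = Set.univ := (genericPoint_spec C).def
    rw [DenseRange, dense_iff_closure_eq, ← Set.univ_subset_iff, ← hcl]
    exact closure_mono (Set.singleton_subset_iff.mpr hη)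
  have hsdC : IsSchemeTheoreticallyDominant (pullback.fst i t) :=
    IsSchemeTheoreticallyDominant.of_isDominant _
  -- the generic fibre of P
  let a : pullback (pullback.fst i f ≫ i) t ⟶ pullback i t :=
    pullback.lift (pullback.fst _ _ ≫ pullback.fst i f) (pullback.snd _ _)
      (by rw [Category.assoc]; exact pullback.condition)
  have ha1 : a ≫ pullback.fst i t = pullback.fst _ _ ≫ pullback.fst i f := pullback.lift_fst _ _ _
  have ha2 : a ≫ pullback.snd i t = pullback.snd _ _ := pullback.lift_snd _ _ _
  have hbig : IsPullback (a ≫ pullback.snd i t) (pullback.fst (pullback.fst i f ≫ i) t) t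
      (pullback.fst i f ≫ i) := by
    rw [ha2]
    exact (IsPullback.of_hasPullback (pullback.fst i f ≫ i) t).flip
  have hsq' : IsPullback a (pullback.fst (pullback.fst i f ≫ i) t) (pullback.fst i t)
      (pullback.fst i f) :=
    IsPullback.of_right hbig ha1 (IsPullback.of_hasPullback i t).flip
  have hsdP : IsSchemeTheoreticallyDominant (pullback.fst (pullback.fst i f ≫ i) t) :=
    IsSchemeTheoreticallyDominant.of_isPullback hsq'
  -- factor through φ
  let σ : pullback (pullback.fst i f ≫ i) t ⟶ C' :=
    inv (pullback.snd φ (pullback.fst (pullback.fst i f ≫ i) t)) ≫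
      pullback.fst φ (pullback.fst (pullback.fst i f ≫ i) t)
  have hσ : σ ≫ φ = pullback.fst (pullback.fst i f ≫ i) t := by
    have hc := pullback.condition (f := φ) (g := pullback.fst (pullback.fst i f ≫ i) t)
    simp only [σ, Category.assoc]
    rw [hc, IsIso.inv_hom_id_assoc]
  have hker : φ.ker = ⊥ := by
    refine le_bot_iff.mp ?_
    calc φ.ker ≤ (σ ≫ φ).ker := Scheme.Hom.le_ker_comp σ φ
      _ = (pullback.fst (pullback.fst i f ≫ i) t).ker := by rw [hσ]
      _ = ⊥ := hsdP.ker_eq_bot
  exact IsClosedImmersion.isIso_iff_ker_eq_bot.mpr hker

end Groth.Agent.S19967
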