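import Mathlib
import Groth.Agent.Lib.H78PullSec2
import Groth.Agent.Lib.H90ParaF
import Groth.Statements.S19968

set_option autoImplicit false
universe u
open CategoryTheory AlgebraicGeometry Opposite
open LinSer

namespace Groth.Agent.S19968

section Helpers
open Groth.Agent.Lib.H90Invertible Groth.Agent.Lib.StructureModule Groth.Agent.Lib.H78SecCoord
open Groth.Agent.Lib.H78PullSec Groth.Agent.Lib.H78TensorGen

variable {k : Type u} [Field k] {X : Scheme.{u}}

lemma pbTop_add {Y : Scheme.{u}} (f : Y ⟶ X) (L : X.Modules) (σ τ : Γ(L, ⊤)) :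
    pbTop f L (σ + τ) = pbTop f L σ + pbTop f L τ := pb_add f L σ τ

lemma pbTop_smul {Y : Scheme.{u}} (f : Y ⟶ X) (L : X.Modules) (a : Γ(X, ⊤)) (σ : Γ(L, ⊤)) :
    pbTop f L (a • σ) = (f.appTop a : Γ(Y, ⊤)) • pbTop f L σ := pb_smul f L a σ

/-- evaluation functional at a `k`-point -/
lemma exists_eval (L : X.Modules) (hL : PicF.IsInvertible L) (p : Spec (CommRingCat.of k) ⟶ X) :
    ∃ ev : Γ(L, ⊤) → k, (∀ σ τ, ev (σ + τ) = ev σ + ev τ) ∧
      (∀ (a : Γ(X, ⊤)) (σ : Γ(L, ⊤)),
        ev (a • σ) = (Scheme.ΓSpecIso (CommRingCat.of k)).hom (p.appTop a) * ev σ) ∧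
      ∀ σ, ev σ = 0 → p (IsLocalRing.closedPoint k) ∉ CohB1.genLocus L (ofSection σ) := by
  have hM := isInvertible_pullback p hL
  rw [isInvertible_iff_exists_isGen] at hM
  obtain ⟨V, hV, e, he⟩ := hM (IsLocalRing.closedPoint k)
  obtain rfl := Groth.Agent.Lib.H90ParaF.eq_top_of_closedPoint_mem k V hV
  refine ⟨fun σ => (Scheme.ΓSpecIso (CommRingCat.of k)).hom (coord he le_rfl (pbTop p L σ)), ?_, ?_, ?_⟩
  · intro σ τ
    change (Scheme.ΓSpecIso (CommRingCat.of k)).hom (coord he le_rfl (pbTop p L (σ + τ))) = _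
    rw [pbTop_add, coord_add, map_add]
  · intro a σ
    change (Scheme.ΓSpecIso (CommRingCat.of k)).hom (coord he le_rfl (pbTop p L (a • σ))) = _
    rw [pbTop_smul, coord_smul, map_mul]
  · intro σ hσ hmem
    have h0 : coord he le_rfl (pbTop p L σ) = 0 := by
      have hinj : Function.Injective (Scheme.ΓSpecIso (CommRingCat.of k)).hom :=
        ((ConcreteCategory.isIso_iff_bijective (Scheme.ΓSpecIso (CommRingCat.of k)).hom).mp
          inferInstance).1
      apply hinj
      rw [map_zero]
      exact hσ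
    have h1 := genLocus_inf_eq he (ofSection (pbTop p L σ))
    rw [sec_ofSection, rs_self, h0, Scheme.basicOpen_zero, genLocus_pbTop p hL σ] at h1
    have h2 : IsLocalRing.closedPoint k ∈ (p ⁻¹ᵁ CohB1.genLocus L (ofSection σ)) ⊓ ⊤ := ⟨hmem, trivial⟩
    rw [h1] at h2
    exact h2

end Helpers

/-- Rational points impose at most one condition each on a complete linear system. Let k be a field, X a
scheme over k, L an invertible O_X-module, and p_1, …, p_n morphisms Spec k → X over k (k-rational
points). Suppose there are n + 1 global sections of L, given as morphisms t_0, …, t_n : O_X → L,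
whose values in Γ(X, L) are linearly independent over k. Then there is a nonzero morphism s : O_X →
L such that no p_i lands in the open X_s where s generates L; that is, s vanishes at every p_i and
the p_i lie on a common member of the complete linear system of L. (The source has X an irreducible
projective variety over the complex numbers, L base-point-free and the points closed, and phrases
this as surjectivity of the incidence correspondence onto X^n for n at most the dimension of the
linear system; only rationality of the points and the dimension count are used, and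
base-point-freeness plays no part in this item.) -/
theorem result
    (k : Type u) [Field k] (X : Scheme.{u}) [X.Over (Spec (CommRingCat.of k))]
    (L : X.Modules) (hL : PicF.IsInvertible L)
    (n : ℕ) (p : Fin n → (Spec (CommRingCat.of k) ⟶ X))
    (hp : ∀ i, p i ≫ (X ↘ Spec (CommRingCat.of k)) = 𝟙 _)
    (t : Fin (n + 1) → (Coh.structureModule X ⟶ L))
    (ht : LinSer.LinIndep k X L (fun j => (L.unitHomEquiv (t j)).val (op ⊤))) :
    ∃ s : Coh.structureModule X ⟶ L, s ≠ 0 ∧
      ∀ i, (p i) (IsLocalRing.closedPoint k) ∉ CohB1.genLocus L s := by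
  classical
  choose ev hadd hsmul hvan using fun i => Groth.Agent.S19968.exists_eval L hL (p i)
  -- the linear map of evaluations
  let Φ : (Fin (n + 1) → k) →ₗ[k] (Fin n → k) :=
    { toFun := fun c i => ∑ j, c j * ev i (Groth.Agent.Lib.H78SecCoord.sec (t j))
      map_add' := by
        intro c d
        funext i
        simp only [Pi.add_apply, add_mul, Finset.sum_add_distrib]
      map_smul' := by
        intro a c
        funext i
        simp only [Pi.smul_apply, smul_eq_mul, RingHom.id_apply, Finset.mul_sum, mul_assoc] }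
  have hker : LinearMap.ker Φ ≠ ⊥ := by
    apply LinearMap.ker_ne_bot_of_finrank_lt
    simp
  obtain ⟨c, hc, hc0⟩ := (Submodule.ne_bot_iff _).1 hker
  have hΦ : ∀ i, ∑ j, c j * ev i (Groth.Agent.Lib.H78SecCoord.sec (t j)) = 0 := fun i =>
    congrFun (LinearMap.mem_ker.1 hc) i
  set σ₀ : LinSer.Sect X L := ∑ j, (Coh.toGlobal (X ↘ Spec (CommRingCat.of k)) (c j)) •
    (show LinSer.Sect X L from (L.unitHomEquiv (t j)).val (op ⊤)) with hσ₀
  set σ : Γ(L, ⊤) := ∑ j, (show Γ(X, ⊤) from Coh.toGlobal (X ↘ Spec (CommRingCat.of k)) (c j)) •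
    Groth.Agent.Lib.H78SecCoord.sec (t j) with hσ
  have hσσ₀ : σ = σ₀ := rfl
  have hev0 : ∀ i, ev i (0 : Γ(L, ⊤)) = 0 := by
    intro i
    have := hadd i 0 0
    rw [add_zero] at this
    exact left_eq_add.mp this
  have hsum : ∀ i (S : Finset (Fin (n + 1))) (f : Fin (n + 1) → Γ(L, ⊤)),
      ev i (∑ j ∈ S, f j) = ∑ j ∈ S, ev i (f j) := by
    intro i S f
    induction S using Finset.induction_on with
    | empty => simpa using hev0 i
    | insert a S ha ih => rw [Finset.sum_insert ha, Finset.sum_insert ha, hadd, ih]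
  have hscal : ∀ i (a : k), (Scheme.ΓSpecIso (CommRingCat.of k)).hom
      ((p i).appTop (Coh.toGlobal (X ↘ Spec (CommRingCat.of k)) a)) = a := by
    intro i a
    unfold Coh.toGlobal
    have h1 : (p i).appTop.hom ((X ↘ Spec (CommRingCat.of k)).appTop.hom
        ((Scheme.ΓSpecIso (CommRingCat.of k)).inv.hom a)) =
        (Scheme.ΓSpecIso (CommRingCat.of k)).inv.hom a := by
      have h2 : (X ↘ Spec (CommRingCat.of k)).appTop ≫ (p i).appTop = 𝟙 _ := by
        rw [← Scheme.Hom.comp_appTop, hp i]
        rfl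
      exact congrArg (fun φ => φ.hom ((Scheme.ΓSpecIso (CommRingCat.of k)).inv.hom a)) h2
    change (Scheme.ΓSpecIso (CommRingCat.of k)).hom.hom ((p i).appTop.hom
      ((X ↘ Spec (CommRingCat.of k)).appTop.hom ((Scheme.ΓSpecIso (CommRingCat.of k)).inv.hom a))) = a
    rw [h1]
    exact congrArg (fun φ => φ.hom a) (Scheme.ΓSpecIso (CommRingCat.of k)).inv_hom_id
  have hevσ : ∀ i, ev i σ = 0 := by
    intro i
    rw [hσ, hsum]
    rw [← hΦ i]
    refine Finset.sum_congr rfl (fun j _ => ?_)
    rw [hsmul]
    congr 1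
    exact hscal i (c j)
  refine ⟨Groth.Agent.Lib.H90Invertible.ofSection σ, ?_, fun i => hvan i σ (hevσ i)⟩
  intro h0
  have hσ0 : σ = 0 := by
    rw [← Groth.Agent.Lib.H78SecCoord.sec_ofSection σ, h0]
    rfl
  refine hc0 (ht c ?_)
  change σ₀ = 0
  rw [← hσσ₀]
  exact hσ0

end Groth.Agent.S19968
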