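import Mathlib
import Groth.Agent.Lib.ClosedCond27f
import Groth.Agent.S17685
import Groth.Statements.S19969

set_option autoImplicit false
universe u
open CategoryTheory MonoidalCategory CartesianMonoidalCategory AlgebraicGeometry
open AlgGrp

namespace Groth.Agent.S19969

section Helpers

open Groth.Agent.Lib.ClosedCond27

variable {S : Scheme.{u}} {F X : Over S}

/-- the action restricts to open subschemes, when all opens are stable. -/
theorem exists_restrict_act (act : F ⊗ X ⟶ X)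
    (hstab : ∀ U : X.left.Opens, (CartesianMonoidalCategory.snd F X).left ⁻¹ᵁ U ≤ act.left ⁻¹ᵁ U)
    (U : X.left.Opens) :
    ∃ actU : F ⊗ Over.mk (U.ι ≫ X.hom) ⟶ Over.mk (U.ι ≫ X.hom),
      actU ≫ (Over.homMk U.ι rfl : Over.mk (U.ι ≫ X.hom) ⟶ X) =
        (F ◁ (Over.homMk U.ι rfl : Over.mk (U.ι ≫ X.hom) ⟶ X)) ≫ act := by
  set ιU : Over.mk (U.ι ≫ X.hom) ⟶ X := Over.homMk U.ι rfl with hιU
  have H : Set.range ((F ◁ ιU) ≫ act).left ⊆ Set.range U.ι := by
    rintro _ ⟨p, rfl⟩
    rw [Over.comp_left, Scheme.Hom.comp_apply]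
    have h1 : (F ◁ ιU).left p ∈ (CartesianMonoidalCategory.snd F X).left ⁻¹ᵁ U := by
      change (CartesianMonoidalCategory.snd F X).left ((F ◁ ιU).left p) ∈ U
      rw [← Scheme.Hom.comp_apply, ← Over.comp_left, whiskerLeft_snd, Over.comp_left,
        Scheme.Hom.comp_apply]
      exact (((CartesianMonoidalCategory.snd F (Over.mk (U.ι ≫ X.hom))).left p) : U).2
    have h2 := hstab U h1
    change act.left ((F ◁ ιU).left p) ∈ U at h2
    rw [Scheme.Opens.range_ι]
    exact h2
  refine ⟨Over.homMk (IsOpenImmersion.lift U.ι ((F ◁ ιU) ≫ act).left H) ?_, ?_⟩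
  · simp only [Over.mk_left, Over.mk_hom]
    rw [IsOpenImmersion.lift_fac_assoc, Over.w]
  · ext
    simp only [Over.comp_left, Over.homMk_left, hιU]
    exact IsOpenImmersion.lift_fac _ _ _

end Helpers

/-- Let k be a field, X and Y arbitrary k-schemes and a : Y ×_k X → X a k-morphism such that every open
subscheme U of X is stable under a, in the sense that the preimage of U under the projection Y ×_k X
→ X is contained in the preimage of U under a. Consider the subfunctor X^a of X whose T-valued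
points, for a k-scheme T, are the k-morphisms x : T → X with a ∘ (id_Y × x) = x ∘ pr_T as morphisms
Y ×_k T → X. Then X^a is represented by a closed subscheme of X: there is a closed immersion j : Z →
X over k lying in X^a(Z) through which every element of X^a(T) factors. Neither separatedness of X
nor any finiteness condition on X or Y is assumed. -/
theorem result (k : Type u) [Field k]
    (X Y : Over (Spec (CommRingCat.of k))) (a : Y ⊗ X ⟶ X)
    (hstab : ∀ U : X.left.Opens, (CartesianMonoidalCategory.snd Y X).left ⁻¹ᵁ U ≤ a.left ⁻¹ᵁ U) :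
    ∃ (Z : Over (Spec (CommRingCat.of k))) (j : Z ⟶ X), IsClosedImmersion j.left ∧
      (Y ◁ j) ≫ a = CartesianMonoidalCategory.snd Y Z ≫ j ∧
      ∀ (T : Over (Spec (CommRingCat.of k))) (x : T ⟶ X),
        (Y ◁ x) ≫ a = CartesianMonoidalCategory.snd Y T ≫ x → ∃ z : T ⟶ Z, z ≫ j = x := by
  have hgood : Groth.Agent.Lib.ClosedCond27.Good Y :=
    Groth.Agent.Lib.ClosedCond27.good_of_essFree Y
      (Groth.Agent.Lib.ClosedCond27.essFree_of_field k Y)
  obtain ⟨𝓙, h𝓙⟩ : ∃ 𝓙 : X.left.IdealSheafData, ∀ (Z : Scheme.{u}) (z : Z ⟶ X.left),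
      𝓙 ≤ z.ker ↔ Groth.Agent.S17685.Fix a Z z := by
    refine Groth.Agent.Lib.ClosedCond27.exists_idealSheaf_glue (Groth.Agent.S17685.Fix a)
      (Groth.Agent.S17685.Fix_comp a) (Groth.Agent.S17685.Fix_local a)
      (fun U : X.left.affineOpens => U.1.toScheme) (fun U => U.1.ι) (fun x => ?_) (fun U => ?_)
    · obtain ⟨U, hU, hx, -⟩ :=
        exists_isAffineOpen_mem_and_subset (X := X.left) (x := x) (U := ⊤) trivial
      exact ⟨⟨U, hU⟩, by simpa using hx⟩
    · have hUaff : IsAffine U.1.toScheme := U.2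
      obtain ⟨actU, hactU⟩ := Groth.Agent.S19969.exists_restrict_act a hstab U.1
      have hsep : IsSeparated (Over.mk (U.1.ι ≫ X.hom)).hom := by
        have : IsAffine (Over.mk (U.1.ι ≫ X.hom)).left := hUaff
        infer_instance
      obtain ⟨𝓙U, h𝓙U⟩ := Groth.Agent.Lib.ClosedCond27.exists_idealSheaf_of_eq_of_good Y
        (Over.mk (U.1.ι ≫ X.hom)) (Over.mk (U.1.ι ≫ X.hom)) hgood actU
        (CartesianMonoidalCategory.snd Y (Over.mk (U.1.ι ≫ X.hom)))
      refine ⟨𝓙U, fun Z ζ => ?_⟩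
      have hmono : Mono (Over.homMk U.1.ι rfl : Over.mk (U.1.ι ≫ X.hom) ⟶ X) := by
        have : Mono ((Over.forget _).map
            (Over.homMk U.1.ι rfl : Over.mk (U.1.ι ≫ X.hom) ⟶ X)) := by
          change Mono U.1.ι
          infer_instance
        exact (Over.forget _).mono_of_mono_map this
      have h1 := h𝓙U (Over.mk (ζ ≫ (Over.mk (U.1.ι ≫ X.hom)).hom)) (Over.homMk ζ rfl)
      have h2 : (Y ◁ (Over.homMk ζ rfl :
            Over.mk (ζ ≫ (Over.mk (U.1.ι ≫ X.hom)).hom) ⟶ Over.mk (U.1.ι ≫ X.hom))) ≫ actU =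
          (Y ◁ (Over.homMk ζ rfl :
            Over.mk (ζ ≫ (Over.mk (U.1.ι ≫ X.hom)).hom) ⟶ Over.mk (U.1.ι ≫ X.hom))) ≫
            CartesianMonoidalCategory.snd Y (Over.mk (U.1.ι ≫ X.hom)) ↔
          Groth.Agent.S17685.FixO a ((Over.homMk ζ rfl :
            Over.mk (ζ ≫ (Over.mk (U.1.ι ≫ X.hom)).hom) ⟶ Over.mk (U.1.ι ≫ X.hom)) ≫
            (Over.homMk U.1.ι rfl : Over.mk (U.1.ι ≫ X.hom) ⟶ X)) := by
        unfold Groth.Agent.S17685.FixO
        rw [← cancel_mono (Over.homMk U.1.ι rfl : Over.mk (U.1.ι ≫ X.hom) ⟶ X),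
          Category.assoc, Category.assoc, hactU, MonoidalCategory.whiskerLeft_comp,
          Category.assoc, Category.assoc, whiskerLeft_snd]
      change 𝓙U ≤ ζ.ker ↔ _ at h1
      rw [h1, h2, Groth.Agent.S17685.FixO_iff_Fix]
      rfl
  refine ⟨Over.mk (𝓙.subschemeι ≫ X.hom), Over.homMk 𝓙.subschemeι rfl,
    inferInstanceAs (IsClosedImmersion 𝓙.subschemeι), ?_, fun T x hx => ?_⟩
  · have h0 : Groth.Agent.S17685.FixO a
        (Over.homMk 𝓙.subschemeι rfl : Over.mk (𝓙.subschemeι ≫ X.hom) ⟶ X) := by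
      rw [Groth.Agent.S17685.FixO_iff_Fix, ← h𝓙]
      change 𝓙 ≤ 𝓙.subschemeι.ker
      rw [𝓙.ker_subschemeι]
    unfold Groth.Agent.S17685.FixO at h0
    rw [h0, whiskerLeft_snd]
  · rw [Groth.Agent.Lib.ClosedCond27.exists_lift_iff_le_ker, h𝓙,
      ← Groth.Agent.S17685.FixO_iff_Fix]
    unfold Groth.Agent.S17685.FixO
    rw [hx, whiskerLeft_snd]

end Groth.Agent.S19969
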