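import Groth.Statements.S1997
import Mathlib

set_option autoImplicit false
universe u
open CategoryTheory
open EtAlg

namespace Groth.Agent.S1997

open TensorProduct in
/-- A submodule of a flat module over a ring all of whose ideals are flat is flat. -/
theorem flat_submodule_of_ideals_flat {A : Type u} [CommRing A] (hA : ∀ I : Ideal A, Module.Flat A I)
    {F : Type u} [AddCommGroup F] [Module A F] [Module.Flat A F] (N : Submodule A F) :
    Module.Flat A N := by
  rw [Module.Flat.iff_rTensor_injective']
  intro I
  have h1 : Function.Injective (LinearMap.lTensor I N.subtype) :=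
    Module.Flat.lTensor_preserves_injective_linearMap (M := I) N.subtype N.injective_subtype
  have h2 : Function.Injective (LinearMap.rTensor F I.subtype) :=
    Module.Flat.rTensor_preserves_injective_linearMap (M := F) I.subtype I.injective_subtype
  have h3 : (LinearMap.lTensor A N.subtype) ∘ₗ (LinearMap.rTensor N I.subtype) =
      (LinearMap.rTensor F I.subtype) ∘ₗ (LinearMap.lTensor I N.subtype) := by
    ext; simp
  have h4 : Function.Injective ((LinearMap.lTensor A N.subtype) ∘ₗ (LinearMap.rTensor N I.subtype)) := by
    rw [h3]; exact h2.comp h1
  exact Function.Injective.of_comp h4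

/-- Let A be a ring all of whose ideals are flat (weak dimension at most one) and A -> B a flat,
injective ring map which is an epimorphism in the category of commutative rings. Then A is
integrally closed in B. -/
theorem result (A B : Type u) [CommRing A] [CommRing B] [Algebra A B]
    (hA : ∀ I : Ideal A, Module.Flat A I) [Module.Flat A B] (hinj : Function.Injective (algebraMap A B))
    (hepi : Epi (CommRingCat.ofHom (algebraMap A B))) : IsIntegrallyClosedIn A B := by
  have hepi' : Algebra.IsEpi A B := CommRingCat.epi_iff_epi.mp hepi
  rw [isIntegrallyClosedIn_iff]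
  refine ⟨hinj, ?_⟩
  intro x hx
  let A' : Subalgebra A B := Algebra.adjoin A {x}
  have hfin : Module.Finite A A' := Algebra.finite_adjoin_simple_of_isIntegral hx
  have hflat : Module.Flat A A' := flat_submodule_of_ideals_flat hA (Subalgebra.toSubmodule A')
  have hepiA' : Algebra.IsEpi A A' := by
    rw [Algebra.isEpi_iff_forall_one_tmul_eq]
    intro a
    have h1 : Function.Injective (LinearMap.lTensor A' A'.val.toLinearMap) :=
      Module.Flat.lTensor_preserves_injective_linearMap (M := A') _ Subtype.val_injective
    have h2 : Function.Injective (LinearMap.rTensor B A'.val.toLinearMap) :=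
      Module.Flat.rTensor_preserves_injective_linearMap (M := B) _ Subtype.val_injective
    have h3 : Function.Injective
        ((LinearMap.rTensor B A'.val.toLinearMap) ∘ₗ (LinearMap.lTensor A' A'.val.toLinearMap)) :=
      h2.comp h1
    apply h3
    have := (Algebra.isEpi_iff_forall_one_tmul_eq A B).mp hepi' (a : B)
    simpa using this
  have hsurj := (Algebra.isEpi_iff_surjective_algebraMap_of_finite (R := A) (A := A')).mp hepiA'
  obtain ⟨y, hy⟩ := hsurj ⟨x, Algebra.subset_adjoin (Set.mem_singleton x)⟩
  refine ⟨y, ?_⟩
  have := congrArg (Subtype.val) hy
  simpa using this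

end Groth.Agent.S1997
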