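import Groth.Statements.S19974
import Mathlib.Algebra.TrivSqZeroExt.Basic
import Mathlib.LinearAlgebra.Finsupp.LSum

set_option autoImplicit false
universe u v w x y
open scoped BigOperators
open DefMod

namespace Groth.Agent.S19974

section Universal

variable {K : Type u} [Field K]
    {O : Type v} [CommRing O] [Algebra K O] (δ : Derivation K O O)
    {D : Type w} [Ring D] [Algebra K D] (ι : O →ₐ[K] D) (d : D)
    (hd : ∀ f : O, d * ι f = ι f * d + ι (δ f))
    (hbasis : Function.Bijective (fun c : ℕ →₀ O => c.sum (fun i f => ι f * d ^ i)))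
    {T : Type y} [Ring T] [Algebra K T] (φ : O →ₐ[K] T) (t : T)
    (ht : ∀ f : O, t * φ f = φ f * t + φ (δ f))

/-- normal form map `c ↦ Σ φ(c_i) t^i` -/
noncomputable def nf : (ℕ →₀ O) →ₗ[K] T :=
  Finsupp.lsum K (fun i => (LinearMap.mulRight K (t ^ i)).comp φ.toLinearMap)

lemma nf_apply (c : ℕ →₀ O) : nf φ t c = c.sum (fun i f => φ f * t ^ i) := by
  rw [nf, Finsupp.lsum_apply]
  rfl

lemma nf_single (i : ℕ) (f : O) : nf φ t (Finsupp.single i f) = φ f * t ^ i := by
  simp [nf_apply]

include hbasis in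
lemma nf_bijective : Function.Bijective (nf ι d) := by
  convert hbasis using 1
  funext c
  exact nf_apply ι d c

/-- the inverse of the normal form as a linear equivalence -/
noncomputable def nfEquiv : (ℕ →₀ O) ≃ₗ[K] D :=
  LinearEquiv.ofBijective (nf ι d) (nf_bijective ι d hbasis)

/-- the underlying linear map of the universal extension -/
noncomputable def Φl : D →ₗ[K] T := (nf φ t).comp (nfEquiv ι d hbasis).symm.toLinearMap

lemma Φl_mon (f : O) (i : ℕ) : Φl ι d hbasis φ t (ι f * d ^ i) = φ f * t ^ i := by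
  have : ι f * d ^ i = nfEquiv ι d hbasis (Finsupp.single i f) := by
    change _ = nf ι d (Finsupp.single i f)
    rw [nf_single]
  rw [this, Φl, LinearMap.comp_apply, LinearEquiv.coe_coe, LinearEquiv.symm_apply_apply, nf_single]

include hbasis in
/-- induction principle on normal forms -/
lemma ind {motive : D → Prop} (h0 : motive 0) (hadd : ∀ P Q, motive P → motive Q → motive (P + Q))
    (hmon : ∀ (f : O) (i : ℕ), motive (ι f * d ^ i)) (P : D) : motive P := by
  obtain ⟨c, rfl⟩ := (nfEquiv ι d hbasis).surjective P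
  induction c using Finsupp.induction_linear with
  | zero => simpa using h0
  | add c c' hc hc' => rw [map_add]; exact hadd _ _ hc hc'
  | single i f =>
    change motive (nf ι d (Finsupp.single i f))
    rw [nf_single]; exact hmon f i

lemma Φl_ι_mul (f : O) (P : D) : Φl ι d hbasis φ t (ι f * P) = φ f * Φl ι d hbasis φ t P := by
  induction P using ind ι d hbasis with
  | h0 => simp
  | hadd P Q hP hQ => rw [mul_add, map_add, hP, hQ, map_add, mul_add]
  | hmon g i => rw [← mul_assoc, ← map_mul, Φl_mon, Φl_mon, map_mul, mul_assoc]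

include hd ht in
lemma Φl_d_mul (P : D) : Φl ι d hbasis φ t (d * P) = t * Φl ι d hbasis φ t P := by
  induction P using ind ι d hbasis with
  | h0 => simp
  | hadd P Q hP hQ => rw [mul_add, map_add, hP, hQ, map_add, mul_add]
  | hmon g i =>
    rw [← mul_assoc, hd, add_mul, mul_assoc, ← pow_succ', map_add, Φl_mon, Φl_mon, Φl_mon,
      ← mul_assoc, ht, add_mul, mul_assoc, ← pow_succ']

include hd ht in
lemma Φl_dpow_mul (n : ℕ) (P : D) : Φl ι d hbasis φ t (d ^ n * P) = t ^ n * Φl ι d hbasis φ t P := by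
  induction n with
  | zero => simp
  | succ n ih => rw [pow_succ', mul_assoc, Φl_d_mul δ ι d hd hbasis φ t ht, ih, ← mul_assoc, ← pow_succ']

include hd ht in
lemma Φl_mul (P Q : D) : Φl ι d hbasis φ t (P * Q) = Φl ι d hbasis φ t P * Φl ι d hbasis φ t Q := by
  induction P using ind ι d hbasis with
  | h0 => simp
  | hadd P P' hP hP' => rw [add_mul, map_add, hP, hP', map_add, add_mul]
  | hmon f i =>
    rw [mul_assoc, Φl_ι_mul, Φl_dpow_mul δ ι d hd hbasis φ t ht, Φl_mon, mul_assoc]

lemma Φl_one : Φl ι d hbasis φ t 1 = 1 := by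
  have := Φl_mon ι d hbasis φ t 1 0
  simpa using this

/-- the universal extension as an algebra hom -/
noncomputable def Φ : D →ₐ[K] T :=
  AlgHom.ofLinearMap (Φl ι d hbasis φ t) (Φl_one ι d hbasis φ t) (Φl_mul δ ι d hd hbasis φ t ht)

lemma Φ_ι (f : O) : Φ δ ι d hd hbasis φ t ht (ι f) = φ f := by
  change Φl ι d hbasis φ t (ι f) = φ f
  have := Φl_mon ι d hbasis φ t f 0
  simpa using this

lemma Φ_d : Φ δ ι d hd hbasis φ t ht d = t := by
  change Φl ι d hbasis φ t d = t
  have := Φl_mon ι d hbasis φ t 1 1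
  simpa using this

include hbasis in
/-- uniqueness -/
lemma hom_ext {Ψ Ψ' : D →ₐ[K] T} (h1 : ∀ f, Ψ (ι f) = Ψ' (ι f)) (h2 : Ψ d = Ψ' d) : Ψ = Ψ' := by
  ext P
  induction P using ind ι d hbasis with
  | h0 => simp
  | hadd P Q hP hQ => rw [map_add, map_add, hP, hQ]
  | hmon f i => rw [map_mul, map_mul, map_pow, map_pow, h1, h2]

end Universal


section Main
open TrivSqZeroExt

variable {K : Type u} [Field K] {E : Type x} [AddCommGroup E] [Module K E]

/-- A pair (algebra hom `ρ`, `ρ`-derivation `s`) gives an algebra hom into the trivial square-zero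
extension. -/
noncomputable def pairHom {B : Type y} [Ring B] [Algebra K B] (ρ : B →ₐ[K] Module.End K E)
    (s : B →ₗ[K] Module.End K E) (hs : ∀ P Q : B, s (P * Q) = s P * ρ Q + ρ P * s Q) :
    B →ₐ[K] TrivSqZeroExt (Module.End K E) (Module.End K E) :=
  AlgHom.ofLinearMap
    { toFun := fun P => inl (ρ P) + inr (s P)
      map_add' := by intro P Q; ext <;> simp
      map_smul' := by intro c P; ext <;> simp }
    (by
      have h1 : s 1 = 0 := by
        have := hs 1 1
        simp only [mul_one, map_one, one_mul] at this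
        exact left_eq_add.mp this
      ext <;> simp [h1])
    (by
      intro P Q
      ext
      · simp
      · simp [hs, add_comm])

@[simp] lemma pairHom_fst {B : Type y} [Ring B] [Algebra K B] (ρ : B →ₐ[K] Module.End K E)
    (s : B →ₗ[K] Module.End K E) (hs) (P : B) : (pairHom ρ s hs P).fst = ρ P := by
  simp [pairHom]

@[simp] lemma pairHom_snd {B : Type y} [Ring B] [Algebra K B] (ρ : B →ₐ[K] Module.End K E)
    (s : B →ₗ[K] Module.End K E) (hs) (P : B) : (pairHom ρ s hs P).snd = s P := by
  simp [pairHom]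

end Main

open TrivSqZeroExt in
/-- see the frozen statement S19974 -/
theorem result
    (K : Type u) [Field K] [CharZero K]
    (O : Type v) [CommRing O] [Algebra K O] (δ : Derivation K O O)
    (D : Type w) [Ring D] [Algebra K D] (ι : O →ₐ[K] D) (d : D)
    (hd : ∀ f : O, d * ι f = ι f * d + ι (δ f))
    (hbasis : Function.Bijective (fun c : ℕ →₀ O => c.sum (fun i f => ι f * d ^ i)))
    (E : Type x) [AddCommGroup E] [Module K E] (ρ : D →ₐ[K] Module.End K E)
    (hE : ∃ (n : ℕ) (b : Fin n → E), Function.Bijective (fun c : Fin n → O => ∑ i, ρ (ι (c i)) (b i))) :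
    (∀ s : D →ₗ[K] Module.End K E, (∀ P Q : D, s (P * Q) = s P * ρ Q + ρ P * s Q) →
      ∀ f : O, (s (ι f) * ρ d - ρ d * s (ι f)) + (ρ (ι f) * s d - s d * ρ (ι f)) + s (ι (δ f)) = 0) ∧
    ∀ (r : O →ₗ[K] Module.End K E) (v : Module.End K E),
      (∀ f g : O, r (f * g) = r f * ρ (ι g) + ρ (ι f) * r g) →
      (∀ f : O, (r f * ρ d - ρ d * r f) + (ρ (ι f) * v - v * ρ (ι f)) + r (δ f) = 0) →
      ∃! s : D →ₗ[K] Module.End K E,
        (∀ P Q : D, s (P * Q) = s P * ρ Q + ρ P * s Q) ∧ s ∘ₗ ι.toLinearMap = r ∧ s d = v := by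
  constructor
  · intro s hs f
    have h := congrArg s (hd f)
    rw [hs, map_add, hs] at h
    have e : (s (ι f) * ρ d - ρ d * s (ι f)) + (ρ (ι f) * s d - s d * ρ (ι f)) + s (ι (δ f)) =
        (s (ι f) * ρ d + ρ (ι f) * s d + s (ι (δ f))) - (s d * ρ (ι f) + ρ d * s (ι f)) := by abel
    rw [e, h, sub_self]
  · intro r v hr hv
    -- the algebra hom `φ : O → T`
    let φ : O →ₐ[K] TrivSqZeroExt (Module.End K E) (Module.End K E) :=
      pairHom (ρ.comp ι) r (by intro f g; simpa using hr f g)
    let t : TrivSqZeroExt (Module.End K E) (Module.End K E) := inl (ρ d) + inr v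
    have ht : ∀ f : O, t * φ f = φ f * t + φ (δ f) := by
      intro f
      ext
      · simp [t, φ, ← map_mul, ← map_add, hd]
      · have := hv f
        simp only [t, φ, snd_mul, snd_add, snd_inl, snd_inr, fst_add, fst_inl, fst_inr,
          pairHom_fst, pairHom_snd, AlgHom.comp_apply, zero_add, add_zero, smul_eq_mul,
          MulOpposite.smul_eq_mul_unop, MulOpposite.unop_op]
        -- ρ d * r f + v * ρ (ι f) = ρ (ι f) * v + r f * ρ d + r (δ f)
        have e : ρ d * r f + v * ρ (ι f) =
            (ρ (ι f) * v + r f * ρ d + r (δ f)) -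
              ((r f * ρ d - ρ d * r f) + (ρ (ι f) * v - v * ρ (ι f)) + r (δ f)) := by abel
        rw [e, this, sub_zero]
    let Φ := Φ δ ι d hd hbasis φ t ht
    have hΦι : ∀ f, Φ (ι f) = φ f := Φ_ι δ ι d hd hbasis φ t ht
    have hΦd : Φ d = t := Φ_d δ ι d hd hbasis φ t ht
    have hfst : ∀ P, (Φ P).fst = ρ P := by
      intro P
      have : (fstHom K (Module.End K E) (Module.End K E)).comp Φ = ρ := by
        apply hom_ext ι d hbasis
        · intro f; simp [hΦι, φ]
        · simp [hΦd, t]
      exact congrArg (fun F => F P) this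
    let s : D →ₗ[K] Module.End K E :=
      { toFun := fun P => (Φ P).snd
        map_add' := by intro P Q; simp
        map_smul' := by intro c P; simp }
    have hs_apply : ∀ P, s P = (Φ P).snd := fun _ => rfl
    have hsL : ∀ P Q : D, s (P * Q) = s P * ρ Q + ρ P * s Q := by
      intro P Q
      rw [hs_apply, map_mul, snd_mul, hfst, hfst, hs_apply, hs_apply, smul_eq_mul,
        MulOpposite.smul_eq_mul_unop, MulOpposite.unop_op, add_comm]
    refine ⟨s, ⟨hsL, ?_, ?_⟩, ?_⟩
    · ext f : 1
      change (Φ (ι f)).snd = r f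
      rw [hΦι]; simp [φ]
    · change (Φ d).snd = v
      rw [hΦd]; simp [t]
    · rintro s' ⟨hs', hs'ι, hs'd⟩
      have : pairHom ρ s' hs' = Φ := by
        apply hom_ext ι d hbasis
        · intro f
          rw [hΦι]
          have : s' (ι f) = r f := congrArg (fun F => F f) hs'ι
          ext <;> simp [φ, this]
        · rw [hΦd]
          ext <;> simp [t, hs'd]
      ext P : 1
      rw [hs_apply, ← this, pairHom_snd]

end Groth.Agent.S19974
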