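import Groth.Statements.S8308
import Groth.Agent.S8309
import Groth.Agent.S8297
import Groth.Agent.S8281
import Groth.Agent.Lib.H60AwayMapEq
import Groth.Agent.Lib.ImmersionGlue

set_option autoImplicit false
universe u
open CategoryTheory CategoryTheory.Limits AlgebraicGeometry Opposite TopologicalSpace
open scoped HomogeneousIdeal
noncomputable section
open EGA2

namespace Groth.Agent.S8308

open Groth.Agent.Lib.H60RelCone Groth.Agent.Lib.H60AwayDegOne Groth.Agent.Lib.H60AwayMapEq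
open Groth.Agent.Lib.ProjQMapOn Groth.Agent.Lib.ProjQMap
open Groth.Agent.S8309 Groth.Agent.S8298
open HomogeneousLocalization

section Aux

variable {Y PC P : Scheme.{u}} (𝒮 𝒮h : RelProj.QCGrAlg Y)
  (ι : 𝒮.toQCAlg ⟶ 𝒮h.toQCAlg) (z : 𝒮h.presheaf.obj (op ⊤)) (hz : RelCone.IsPolyOver 𝒮 𝒮h ι z)
  (pC : PC ⟶ Y)
  (chartC : ∀ (U : Y.Opens) (hU : IsAffineOpen U),
    (((pC ⁻¹ᵁ U : PC.Opens) : Scheme.{u}) ≅ Proj (𝒮h.deg U hU)))
  (hPC : RelProj.IsRelProj 𝒮h pC chartC)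
  (p : P ⟶ Y)
  (chart : ∀ (U : Y.Opens) (hU : IsAffineOpen U),
    (((p ⁻¹ᵁ U : P.Opens) : Scheme.{u}) ≅ Proj (𝒮.deg U hU)))
  (hP : RelProj.IsRelProj 𝒮 p chart)

/-- The chart morphism `Spec 𝒮h(U)_(ι f) ⟶ P`. -/
def gchart (U : Y.Opens) (hU : IsAffineOpen U) {d : ℕ} (hd : 0 < d) (f : 𝒮.presheaf.obj (op U))
    (hf : f ∈ 𝒮.deg U hU d) :
    Spec (CommRingCat.of (Away (𝒮h.deg U hU) ((RelProj.gradedHomAt ι hz.graded U hU) f))) ⟶ P :=
  Spec.map (CommRingCat.ofHom (Away.map (RelProj.gradedHomAt ι hz.graded U hU) f)) ≫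
    Proj.awayι (𝒮.deg U hU) f hf hd ≫ RelProj.emb p chart U hU

section R1

variable (U : Y.Opens) (hU : IsAffineOpen U) (r : Γ(Y, U)) {d : ℕ} (hd : 0 < d)
  (f : 𝒮.presheaf.obj (op U)) (hf : f ∈ 𝒮.deg U hU d)

/-- The refinement morphism for restriction to a basic open. -/
def resA : Spec (CommRingCat.of (Away (𝒮h.deg (Y.basicOpen r) (hU.basicOpen r))
      ((RelProj.gradedHomAt ι hz.graded (Y.basicOpen r) (hU.basicOpen r))
        (𝒮.res hU (hU.basicOpen r) (Y.basicOpen_le r) f)))) ⟶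
    Spec (CommRingCat.of (Away (𝒮h.deg U hU) ((RelProj.gradedHomAt ι hz.graded U hU) f))) :=
  Spec.map (CommRingCat.ofHom (awayMapEq (𝒮h.res hU (hU.basicOpen r) (Y.basicOpen_le r))
    ((RelProj.gradedHomAt ι hz.graded U hU) f)
    ((RelProj.gradedHomAt ι hz.graded (Y.basicOpen r) (hU.basicOpen r))
        (𝒮.res hU (hU.basicOpen r) (Y.basicOpen_le r) f))
    (gradedHomAt_res ι hz.graded hU (hU.basicOpen r) (Y.basicOpen_le r) f)))

include hPC in
lemma resA_liftG :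
    resA 𝒮 𝒮h ι z hz U hU r f ≫ liftG 𝒮 𝒮h ι z hz pC chartC U hU hd f hf =
      liftG 𝒮 𝒮h ι z hz pC chartC (Y.basicOpen r) (hU.basicOpen r) hd
        (𝒮.res hU (hU.basicOpen r) (Y.basicOpen_le r) f)
        ((𝒮.res hU (hU.basicOpen r) (Y.basicOpen_le r)).2 hf) := by
  rw [← cancel_mono (RelCone.pointedProjCone 𝒮 hz pC chartC).ι, Category.assoc, liftG_ι, liftG_ι]
  rw [← RelProj.map_res_emb hPC U hU r]
  unfold resA
  rw [← Category.assoc, ← Category.assoc]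
  congr 1
  exact (awayι_comp_map_eq (𝒮h.res hU (hU.basicOpen r) (Y.basicOpen_le r))
    (𝒮h.irrelevant_le_map U hU r) hd _ ((RelProj.gradedHomAt ι hz.graded U hU).2 hf) _
    (gradedHomAt_res ι hz.graded hU (hU.basicOpen r) (Y.basicOpen_le r) f) _).symm

include hP in
lemma resA_gchart :
    resA 𝒮 𝒮h ι z hz U hU r f ≫ gchart 𝒮 𝒮h ι z hz p chart U hU hd f hf =
      gchart 𝒮 𝒮h ι z hz p chart (Y.basicOpen r) (hU.basicOpen r) hd
        (𝒮.res hU (hU.basicOpen r) (Y.basicOpen_le r) f)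
        ((𝒮.res hU (hU.basicOpen r) (Y.basicOpen_le r)).2 hf) := by
  unfold gchart resA
  rw [← RelProj.map_res_emb hP U hU r,
    Proj.awayι_comp_map_assoc (𝒮.res hU (hU.basicOpen r) (Y.basicOpen_le r))
      (𝒮.irrelevant_le_map U hU r) hd f hf]
  rw [← Spec.map_comp_assoc, ← Spec.map_comp_assoc, ← CommRingCat.ofHom_comp,
    ← CommRingCat.ofHom_comp]
  congr 3
  rw [← awayMapEq_rfl, ← awayMapEq_rfl, ← awayMapEq_rfl, awayMapEq_comp, awayMapEq_comp]
  exact awayMapEq_congr _ _ (fun a ↦ gradedHomAt_res ι hz.graded hU (hU.basicOpen r)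
    (Y.basicOpen_le r) a) _ _ _

end R1

section R2

variable (U : Y.Opens) (hU : IsAffineOpen U) {d e n : ℕ} (hd : 0 < d) (hn0 : 0 < n)
  (f g x : 𝒮.presheaf.obj (op U)) (hf : f ∈ 𝒮.deg U hU d) (hg : g ∈ 𝒮.deg U hU e)
  (hx : x = f * g) (hn : n = d + e) (hxn : x ∈ 𝒮.deg U hU n)

/-- The refinement morphism for multiplying `f` by `g`. -/
def mulA : Spec (CommRingCat.of (Away (𝒮h.deg U hU) ((RelProj.gradedHomAt ι hz.graded U hU) x))) ⟶
    Spec (CommRingCat.of (Away (𝒮h.deg U hU) ((RelProj.gradedHomAt ι hz.graded U hU) f))) :=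
  Spec.map (CommRingCat.ofHom (awayMap (𝒮h.deg U hU) ((RelProj.gradedHomAt ι hz.graded U hU).2 hg)
    (show (RelProj.gradedHomAt ι hz.graded U hU) x =
      (RelProj.gradedHomAt ι hz.graded U hU) f * (RelProj.gradedHomAt ι hz.graded U hU) g by
      rw [hx, map_mul])))

include hn in
lemma mulA_liftG :
    mulA 𝒮 𝒮h ι z hz U hU f g x hg hx ≫ liftG 𝒮 𝒮h ι z hz pC chartC U hU hd f hf =
      liftG 𝒮 𝒮h ι z hz pC chartC U hU hn0 x hxn := by
  subst hn
  rw [← cancel_mono (RelCone.pointedProjCone 𝒮 hz pC chartC).ι, Category.assoc, liftG_ι, liftG_ι]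
  unfold mulA
  rw [← Category.assoc]
  congr 1
  exact Proj.SpecMap_awayMap_awayι (𝒮h.deg U hU) _ hd _ _

include hn in
lemma mulA_gchart :
    mulA 𝒮 𝒮h ι z hz U hU f g x hg hx ≫ gchart 𝒮 𝒮h ι z hz p chart U hU hd f hf =
      gchart 𝒮 𝒮h ι z hz p chart U hU hn0 x hxn := by
  subst hn
  unfold gchart mulA
  have h1 := Proj.SpecMap_awayMap_awayι (𝒮.deg U hU) hf hd hg hx
  have h2 : Proj.awayι (𝒮.deg U hU) x hxn hn0 =
      Spec.map (CommRingCat.ofHom (awayMap (𝒮.deg U hU) hg hx)) ≫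
        Proj.awayι (𝒮.deg U hU) f hf hd := h1.symm
  rw [h2, Category.assoc, ← Spec.map_comp_assoc, ← Spec.map_comp_assoc, ← CommRingCat.ofHom_comp,
    ← CommRingCat.ofHom_comp]
  congr 3
  exact awayMap_comp_map (RelProj.gradedHomAt ι hz.graded U hU) hf hg hx _

end R2

section Refine

include hPC hP in
/-- Combined refinement: restrict to a basic open `W` of `U`, then multiply by `g'`. -/
lemma refine_chart (U : Y.Opens) (hU : IsAffineOpen U) {d : ℕ} (hd : 0 < d)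
    (f : 𝒮.presheaf.obj (op U)) (hf : f ∈ 𝒮.deg U hU d)
    (W : Y.Opens) (hW : IsAffineOpen W) (r : Γ(Y, U)) (hWr : Y.basicOpen r = W) (hWU : W ≤ U)
    {e n : ℕ} (hn0 : 0 < n) (g' x : 𝒮.presheaf.obj (op W)) (hg' : g' ∈ 𝒮.deg W hW e)
    (hx : x = 𝒮.res hU hW hWU f * g') (hn : n = d + e) (hxn : x ∈ 𝒮.deg W hW n) :
    ∃ a : Spec (CommRingCat.of (Away (𝒮h.deg W hW) ((RelProj.gradedHomAt ι hz.graded W hW) x))) ⟶
        Spec (CommRingCat.of (Away (𝒮h.deg U hU) ((RelProj.gradedHomAt ι hz.graded U hU) f))),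
      a ≫ liftG 𝒮 𝒮h ι z hz pC chartC U hU hd f hf =
          liftG 𝒮 𝒮h ι z hz pC chartC W hW hn0 x hxn ∧
        a ≫ gchart 𝒮 𝒮h ι z hz p chart U hU hd f hf =
          gchart 𝒮 𝒮h ι z hz p chart W hW hn0 x hxn := by
  subst hWr
  refine ⟨mulA 𝒮 𝒮h ι z hz (Y.basicOpen r) (hU.basicOpen r)
    (𝒮.res hU (hU.basicOpen r) (Y.basicOpen_le r) f) g' x hg' hx ≫
      resA 𝒮 𝒮h ι z hz U hU r f, ?_, ?_⟩
  · rw [Category.assoc, resA_liftG 𝒮 𝒮h ι z hz pC chartC hPC U hU r hd f hf]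
    exact mulA_liftG 𝒮 𝒮h ι z hz pC chartC (Y.basicOpen r) (hU.basicOpen r) hd hn0 _ g' x
      ((𝒮.res hU (hU.basicOpen r) (Y.basicOpen_le r)).2 hf) hg' hx hn hxn
  · rw [Category.assoc, resA_gchart 𝒮 𝒮h ι z hz p chart hP U hU r hd f hf]
    exact mulA_gchart 𝒮 𝒮h ι z hz p chart (Y.basicOpen r) (hU.basicOpen r) hd hn0 _ g' x
      ((𝒮.res hU (hU.basicOpen r) (Y.basicOpen_le r)).2 hf) hg' hx hn hxn

end Refine

section Cover

lemma liftG_ι_apply (U : Y.Opens) (hU : IsAffineOpen U) {e : ℕ} (he : 0 < e)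
    (g : 𝒮.presheaf.obj (op U)) (hg : g ∈ 𝒮.deg U hU e)
    (t : Spec (CommRingCat.of (Away (𝒮h.deg U hU) ((RelProj.gradedHomAt ι hz.graded U hU) g)))) :
    (RelCone.pointedProjCone 𝒮 hz pC chartC).ι.base
        ((liftG 𝒮 𝒮h ι z hz pC chartC U hU he g hg).base t) =
      (RelProj.emb pC chartC U hU).base ((Proj.awayι (𝒮h.deg U hU)
        ((RelProj.gradedHomAt ι hz.graded U hU) g)
        ((RelProj.gradedHomAt ι hz.graded U hU).2 hg) he).base t) :=
  congrArg (fun g ↦ g.base t) (liftG_ι 𝒮 𝒮h ι z hz pC chartC U hU he g hg)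

/-- A point of `Ê` whose chart point over `U` lies in `D₊(ι g)` is in the lifted chart. -/
lemma mem_range_liftG (U : Y.Opens) (hU : IsAffineOpen U) {e : ℕ} (he : 0 < e)
    (g : 𝒮.presheaf.obj (op U)) (hg : g ∈ 𝒮.deg U hU e)
    (x : ((RelCone.pointedProjCone 𝒮 hz pC chartC : PC.Opens) : Scheme.{u}))
    (w : Proj (𝒮h.deg U hU))
    (hw : (RelProj.emb pC chartC U hU).base w = (RelCone.pointedProjCone 𝒮 hz pC chartC).ι.base x)
    (hwg : (RelProj.gradedHomAt ι hz.graded U hU) g ∉ w.asHomogeneousIdeal) :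
    ∃ t, (liftG 𝒮 𝒮h ι z hz pC chartC U hU he g hg).base t = x := by
  have hwg' : w ∈ (Proj.awayι (𝒮h.deg U hU) ((RelProj.gradedHomAt ι hz.graded U hU) g)
      ((RelProj.gradedHomAt ι hz.graded U hU).2 hg) he).opensRange := by
    rw [Proj.opensRange_awayι]; exact (Proj.mem_basicOpen _ _ _).mpr hwg
  obtain ⟨t, ht⟩ := hwg'
  refine ⟨t, ?_⟩
  apply (RelCone.pointedProjCone 𝒮 hz pC chartC).ι.isOpenEmbedding.injective
  rw [liftG_ι_apply]
  exact (congrArg (RelProj.emb pC chartC U hU).base ht).trans hw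

include hPC in
/-- Every point of `Ê` over the affine open `U` lies in a lifted standard chart over `U`. -/
lemma exists_liftG_over (x : ((RelCone.pointedProjCone 𝒮 hz pC chartC : PC.Opens) : Scheme.{u}))
    (U : Y.Opens) (hU : IsAffineOpen U)
    (hxU : (RelCone.pointedProjCone 𝒮 hz pC chartC).ι.base x ∈ pC ⁻¹ᵁ U) :
    ∃ (e : ℕ) (he : 0 < e) (g : 𝒮.presheaf.obj (op U)) (hg : g ∈ 𝒮.deg U hU e)
      (t : Spec (CommRingCat.of (Away (𝒮h.deg U hU)
        ((RelProj.gradedHomAt ι hz.graded U hU) g)))),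
      (liftG 𝒮 𝒮h ι z hz pC chartC U hU he g hg).base t = x := by
  have hw := emb_apply_chart pC chartC U hU _ hxU
  set w := chartPt pC chartC U hU _ hxU
  have hmem : (RelProj.emb pC chartC U hU).base w ∈ RelCone.pointedProjCone 𝒮 hz pC chartC := by
    rw [hw]; exact x.2
  rw [emb_mem_pointedProjCone_iff 𝒮 𝒮h ι z hz pC chartC hPC U hU] at hmem
  obtain ⟨e, he, g, hg, hwg⟩ :=
    exists_homogeneous_of_mem_domOpen (RelProj.gradedHomAt ι hz.graded U hU) w hmem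
  obtain ⟨t, ht⟩ := mem_range_liftG 𝒮 𝒮h ι z hz pC chartC U hU he g hg x w hw
    ((Proj.mem_basicOpen _ _ _).mp hwg)
  exact ⟨e, he, g, hg, t, ht⟩

/-- The index type of the standard charts of the pointed projective cone. -/
structure Idx : Type u where
  /-- an affine open of the base -/
  U : Y.Opens
  hU : IsAffineOpen U
  /-- the degree -/
  d : ℕ
  hd : 0 < d
  /-- a homogeneous element of positive degree -/
  f : 𝒮.presheaf.obj (op U)
  hf : f ∈ 𝒮.deg U hU d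

/-- The cover of `Ê` by the lifted standard charts. -/
def cov (hPC : RelProj.IsRelProj 𝒮h pC chartC) :
    Scheme.OpenCover.{u} ((RelCone.pointedProjCone 𝒮 hz pC chartC : PC.Opens) : Scheme.{u}) where
  I₀ := Idx 𝒮
  X k := Spec (CommRingCat.of (Away (𝒮h.deg k.U k.hU)
    ((RelProj.gradedHomAt ι hz.graded k.U k.hU) k.f)))
  f k := liftG 𝒮 𝒮h ι z hz pC chartC k.U k.hU k.hd k.f k.hf
  mem₀ := by
    rw [Scheme.presieve₀_mem_precoverage_iff]
    refine ⟨fun x => ?_, fun k => inferInstance⟩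
    obtain ⟨_, ⟨U, hU, rfl⟩, hxU, -⟩ := Y.isBasis_affineOpens.exists_subset_of_mem_open
      (Set.mem_univ (pC.base ((RelCone.pointedProjCone 𝒮 hz pC chartC).ι.base x))) isOpen_univ
    obtain ⟨e, he, g, hg, t, ht⟩ := exists_liftG_over 𝒮 𝒮h ι z hz pC chartC hPC x U hU hxU
    exact ⟨⟨U, hU, e, he, g, hg⟩, t, ht⟩

include hPC in
/-- If a point of the chart `(U, f)` lies over a basic open `W` of `U`, its chart point over `W`
lies in `D₊(ι (f|_W))`. -/
lemma res_notMem (U : Y.Opens) (hU : IsAffineOpen U) {d : ℕ} (hd : 0 < d)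
    (f : 𝒮.presheaf.obj (op U)) (hf : f ∈ 𝒮.deg U hU d)
    (t : Spec (CommRingCat.of (Away (𝒮h.deg U hU) ((RelProj.gradedHomAt ι hz.graded U hU) f))))
    (W : Y.Opens) (hW : IsAffineOpen W) (r : Γ(Y, U)) (hWr : Y.basicOpen r = W) (hWU : W ≤ U)
    (w : Proj (𝒮h.deg W hW))
    (hw : (RelProj.emb pC chartC W hW).base w =
      (RelCone.pointedProjCone 𝒮 hz pC chartC).ι.base
        ((liftG 𝒮 𝒮h ι z hz pC chartC U hU hd f hf).base t)) :
    (RelProj.gradedHomAt ι hz.graded W hW) (𝒮.res hU hW hWU f) ∉ w.asHomogeneousIdeal := by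
  subst hWr
  rw [liftG_ι_apply] at hw
  have e1 := congrArg (fun g ↦ g.base w) (RelProj.map_res_emb hPC U hU r)
  have e1' : (RelProj.emb pC chartC U hU).base
      ((Proj.map (𝒮h.res hU (hU.basicOpen r) (Y.basicOpen_le r))
        (𝒮h.irrelevant_le_map U hU r)).base w) =
      (RelProj.emb pC chartC (Y.basicOpen r) (hU.basicOpen r)).base w := e1
  have e2 := (RelProj.emb pC chartC U hU).isOpenEmbedding.injective (e1'.trans hw)
  have h3 : (Proj.awayι (𝒮h.deg U hU) ((RelProj.gradedHomAt ι hz.graded U hU) f)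
      ((RelProj.gradedHomAt ι hz.graded U hU).2 hf) hd).base t ∈
        Proj.basicOpen (𝒮h.deg U hU) ((RelProj.gradedHomAt ι hz.graded U hU) f) :=
    (Proj.opensRange_awayι (𝒮h.deg U hU) _ _ hd).le ⟨t, rfl⟩
  rw [← e2] at h3
  have h4 : (𝒮h.res hU (hU.basicOpen r) (Y.basicOpen_le r))
      ((RelProj.gradedHomAt ι hz.graded U hU) f) ∉ w.asHomogeneousIdeal :=
    (Proj.mem_basicOpen _ _ _).mp h3
  rw [gradedHomAt_res ι hz.graded hU (hU.basicOpen r) (Y.basicOpen_le r) f] at h4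
  exact h4

include hPC hP in
/-- Compatibility of the chart morphisms on overlaps, checked on a common refinement. -/
lemma compat (k k' : Idx 𝒮)
    (t : Spec (CommRingCat.of (Away (𝒮h.deg k.U k.hU)
      ((RelProj.gradedHomAt ι hz.graded k.U k.hU) k.f))))
    (t' : Spec (CommRingCat.of (Away (𝒮h.deg k'.U k'.hU)
      ((RelProj.gradedHomAt ι hz.graded k'.U k'.hU) k'.f))))
    (htt' : (liftG 𝒮 𝒮h ι z hz pC chartC k.U k.hU k.hd k.f k.hf).base t =
      (liftG 𝒮 𝒮h ι z hz pC chartC k'.U k'.hU k'.hd k'.f k'.hf).base t') :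
    ∃ (W : Scheme.{u})
      (a : W ⟶ Spec (CommRingCat.of (Away (𝒮h.deg k.U k.hU)
        ((RelProj.gradedHomAt ι hz.graded k.U k.hU) k.f))))
      (b : W ⟶ Spec (CommRingCat.of (Away (𝒮h.deg k'.U k'.hU)
        ((RelProj.gradedHomAt ι hz.graded k'.U k'.hU) k'.f)))),
      IsOpenImmersion a ∧ t ∈ Set.range a.base ∧
        a ≫ liftG 𝒮 𝒮h ι z hz pC chartC k.U k.hU k.hd k.f k.hf =
          b ≫ liftG 𝒮 𝒮h ι z hz pC chartC k'.U k'.hU k'.hd k'.f k'.hf ∧
        a ≫ gchart 𝒮 𝒮h ι z hz p chart k.U k.hU k.hd k.f k.hf =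
          b ≫ gchart 𝒮 𝒮h ι z hz p chart k'.U k'.hU k'.hd k'.f k'.hf := by
  set ê := (liftG 𝒮 𝒮h ι z hz pC chartC k.U k.hU k.hd k.f k.hf).base t with hê
  set c := (RelCone.pointedProjCone 𝒮 hz pC chartC).ι.base ê with hc
  have hcU : c ∈ pC ⁻¹ᵁ k.U := by
    rw [hc, hê, liftG_ι_apply]; exact range_emb_le pC chartC k.U k.hU _
  have hcV : c ∈ pC ⁻¹ᵁ k'.U := by
    rw [hc, htt', liftG_ι_apply]; exact range_emb_le pC chartC k'.U k'.hU _
  obtain ⟨W, hW₁, hW₂, hcW, -⟩ := Groth.Agent.S8281.exists_common_basic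
    (⟨k.U, k.hU⟩ : Y.AffineZariskiSite) ⟨k'.U, k'.hU⟩ ⊤ (pC.base c) hcU hcV trivial
  obtain ⟨r₁, hr₁⟩ := hW₁
  obtain ⟨r₂, hr₂⟩ := hW₂
  have hr₁' : Y.basicOpen r₁ = W.1 := hr₁
  have hr₂' : Y.basicOpen r₂ = W.1 := hr₂
  have hWU : W.1 ≤ k.U := by rw [← hr₁']; exact Y.basicOpen_le r₁
  have hWV : W.1 ≤ k'.U := by rw [← hr₂']; exact Y.basicOpen_le r₂
  have hW : IsAffineOpen W.1 := W.2
  set f₁ := 𝒮.res k.hU hW hWU k.f with hf₁
  set g₁ := 𝒮.res k'.hU hW hWV k'.f with hg₁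
  have hf₁m : f₁ ∈ 𝒮.deg W.1 hW k.d := (𝒮.res k.hU hW hWU).2 k.hf
  have hg₁m : g₁ ∈ 𝒮.deg W.1 hW k'.d := (𝒮.res k'.hU hW hWV).2 k'.hf
  have hxm : f₁ * g₁ ∈ 𝒮.deg W.1 hW (k.d + k'.d) := SetLike.mul_mem_graded hf₁m hg₁m
  have hn0 : 0 < k.d + k'.d := Nat.add_pos_left k.hd _
  obtain ⟨a, ha1, ha2⟩ := refine_chart 𝒮 𝒮h ι z hz pC chartC hPC p chart hP k.U k.hU k.hd k.f k.hf
    W.1 hW r₁ hr₁' hWU hn0 g₁ (f₁ * g₁) hg₁m rfl rfl hxm
  obtain ⟨b, hb1, hb2⟩ := refine_chart 𝒮 𝒮h ι z hz pC chartC hPC p chart hP k'.U k'.hU k'.hd k'.f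
    k'.hf W.1 hW r₂ hr₂' hWV hn0 f₁ (f₁ * g₁) hf₁m (mul_comm _ _) (add_comm _ _) hxm
  refine ⟨_, a, b, ?_, ?_, ha1.trans hb1.symm, ha2.trans hb2.symm⟩
  · have : IsOpenImmersion (a ≫ liftG 𝒮 𝒮h ι z hz pC chartC k.U k.hU k.hd k.f k.hf) := by
      rw [ha1]; infer_instance
    exact IsOpenImmersion.of_comp a (liftG 𝒮 𝒮h ι z hz pC chartC k.U k.hU k.hd k.f k.hf)
  · have hcW' : c ∈ pC ⁻¹ᵁ W.1 := hcW
    have hw := emb_apply_chart pC chartC W.1 hW c hcW'
    set w := chartPt pC chartC W.1 hW c hcW'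
    have h1 := res_notMem 𝒮 𝒮h ι z hz pC chartC hPC k.U k.hU k.hd k.f k.hf t W.1 hW r₁ hr₁' hWU w hw
    have hw' : (RelProj.emb pC chartC W.1 hW).base w =
        (RelCone.pointedProjCone 𝒮 hz pC chartC).ι.base
          ((liftG 𝒮 𝒮h ι z hz pC chartC k'.U k'.hU k'.hd k'.f k'.hf).base t') := by
      rw [← htt']; exact hw
    have h2 := res_notMem 𝒮 𝒮h ι z hz pC chartC hPC k'.U k'.hU k'.hd k'.f k'.hf t' W.1 hW r₂ hr₂'
      hWV w hw'
    have h3 : (RelProj.gradedHomAt ι hz.graded W.1 hW) (f₁ * g₁) ∉ w.asHomogeneousIdeal := by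
      rw [map_mul]
      intro hmem
      rcases w.isPrime.mem_or_mem hmem with h | h
      · exact h1 h
      · exact h2 h
    obtain ⟨t'', ht''⟩ := mem_range_liftG 𝒮 𝒮h ι z hz pC chartC W.1 hW hn0 (f₁ * g₁) hxm ê w hw h3
    refine ⟨t'', ?_⟩
    apply (liftG 𝒮 𝒮h ι z hz pC chartC k.U k.hU k.hd k.f k.hf).isOpenEmbedding.injective
    have e := congrArg (fun g ↦ g.base t'') ha1
    exact e.trans ht''

include hPC hP in
theorem existsUnique_glued :
    ∃! r : ((RelCone.pointedProjCone 𝒮 hz pC chartC : PC.Opens) : Scheme.{u}) ⟶ P,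
      ∀ k : Idx 𝒮, liftG 𝒮 𝒮h ι z hz pC chartC k.U k.hU k.hd k.f k.hf ≫ r =
        gchart 𝒮 𝒮h ι z hz p chart k.U k.hU k.hd k.f k.hf :=
  Groth.Agent.Lib.ImmersionGlue.existsUnique_glue (cov 𝒮 𝒮h ι z hz pC chartC hPC)
    (fun k ↦ gchart 𝒮 𝒮h ι z hz p chart k.U k.hU k.hd k.f k.hf)
    (fun k k' t t' h ↦ compat 𝒮 𝒮h ι z hz pC chartC hPC p chart hP k k' t t' h)

/-- The characterising property of the retraction, as in the statement. -/
def HR (r : ((RelCone.pointedProjCone 𝒮 hz pC chartC : PC.Opens) : Scheme.{u}) ⟶ P) : Prop :=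
  ∀ (U : Y.Opens) (hU : IsAffineOpen U) (d : ℕ) (hd : 0 < d) (f : 𝒮.presheaf.obj (op U))
    (hf : f ∈ 𝒮.deg U hU d)
    (g : Spec (CommRingCat.of (HomogeneousLocalization.Away (𝒮h.deg U hU)
        ((RelProj.gradedHomAt ι hz.graded U hU) f))) ⟶
      ((RelCone.pointedProjCone 𝒮 hz pC chartC : PC.Opens) : Scheme.{u})),
    g ≫ (RelCone.pointedProjCone 𝒮 hz pC chartC).ι =
        Proj.awayι (𝒮h.deg U hU) ((RelProj.gradedHomAt ι hz.graded U hU) f)
          ((RelProj.gradedHomAt ι hz.graded U hU).2 hf) hd ≫ RelProj.emb pC chartC U hU →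
      g ≫ r =
        Spec.map (CommRingCat.ofHom (HomogeneousLocalization.Away.map
          (RelProj.gradedHomAt ι hz.graded U hU) f)) ≫
          Proj.awayι (𝒮.deg U hU) f hf hd ≫ RelProj.emb p chart U hU

lemma HR_iff (r : ((RelCone.pointedProjCone 𝒮 hz pC chartC : PC.Opens) : Scheme.{u}) ⟶ P) :
    HR 𝒮 𝒮h ι z hz pC chartC p chart r ↔
      ∀ k : Idx 𝒮, liftG 𝒮 𝒮h ι z hz pC chartC k.U k.hU k.hd k.f k.hf ≫ r =
        gchart 𝒮 𝒮h ι z hz p chart k.U k.hU k.hd k.f k.hf := by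
  constructor
  · intro h k
    exact h k.U k.hU k.d k.hd k.f k.hf _ (liftG_ι 𝒮 𝒮h ι z hz pC chartC k.U k.hU k.hd k.f k.hf)
  · intro h U hU d hd f hf g hg
    have : g = liftG 𝒮 𝒮h ι z hz pC chartC U hU hd f hf := by
      rw [← cancel_mono (RelCone.pointedProjCone 𝒮 hz pC chartC).ι, hg, liftG_ι]
    rw [this]
    exact h ⟨U, hU, d, hd, f, hf⟩

include hPC hP in
theorem existsUnique_HR :
    ∃! r : ((RelCone.pointedProjCone 𝒮 hz pC chartC : PC.Opens) : Scheme.{u}) ⟶ P,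
      HR 𝒮 𝒮h ι z hz pC chartC p chart r := by
  obtain ⟨r, hr, huniq⟩ := existsUnique_glued 𝒮 𝒮h ι z hz pC chartC hPC p chart hP
  exact ⟨r, (HR_iff 𝒮 𝒮h ι z hz pC chartC p chart r).mpr hr,
    fun r' hr' ↦ huniq r' ((HR_iff 𝒮 𝒮h ι z hz pC chartC p chart r').mp hr')⟩

end Cover

section Props

variable (r : ((RelCone.pointedProjCone 𝒮 hz pC chartC : PC.Opens) : Scheme.{u}) ⟶ P)
  (hr : HR 𝒮 𝒮h ι z hz pC chartC p chart r)

include hr in
lemma r_liftG_apply (U : Y.Opens) (hU : IsAffineOpen U) {e : ℕ} (he : 0 < e)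
    (g : 𝒮.presheaf.obj (op U)) (hg : g ∈ 𝒮.deg U hU e)
    (t : Spec (CommRingCat.of (Away (𝒮h.deg U hU) ((RelProj.gradedHomAt ι hz.graded U hU) g)))) :
    r.base ((liftG 𝒮 𝒮h ι z hz pC chartC U hU he g hg).base t) =
      (RelProj.emb p chart U hU).base ((Proj.awayι (𝒮.deg U hU) g hg he).base
        ((Spec.map (CommRingCat.ofHom (Away.map (RelProj.gradedHomAt ι hz.graded U hU) g))).base t)) :=
  congrArg (fun g ↦ g.base t) (liftG_r 𝒮 𝒮h ι z hz pC chartC p chart U hU r hr he g hg)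

include hr hP hPC in
/-- The preimage under `r` of a standard chart of `Proj(𝒮)` is the lifted standard chart. -/
lemma preimage_chart_r (U : Y.Opens) (hU : IsAffineOpen U) {d : ℕ} (hd : 0 < d)
    (f : 𝒮.presheaf.obj (op U)) (hf : f ∈ 𝒮.deg U hU d) :
    r ⁻¹ᵁ ((RelProj.emb p chart U hU) ''ᵁ (Proj.basicOpen (𝒮.deg U hU) f)) =
      (liftG 𝒮 𝒮h ι z hz pC chartC U hU hd f hf).opensRange := by
  ext ê
  constructor
  · rintro ⟨x', hx'f, hx'⟩
    have hx'2 : (RelProj.emb p chart U hU).base x' = r.base ê := hx'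
    have h1 : r.base ê ∈ p ⁻¹ᵁ U := by rw [← hx'2]; exact range_emb_le p chart U hU x'
    have h2 : (RelCone.pointedProjCone 𝒮 hz pC chartC).ι.base ê ∈ pC ⁻¹ᵁ U := by
      have e := congrArg (fun g ↦ g.base ê) (r_over 𝒮 𝒮h ι z hz pC chartC p chart r hr hP hPC)
      have e' : p.base (r.base ê) =
          pC.base ((RelCone.pointedProjCone 𝒮 hz pC chartC).ι.base ê) := e
      change pC.base _ ∈ U
      rw [← e']
      exact h1
    obtain ⟨e, he, g, hg, t, ht⟩ := exists_liftG_over 𝒮 𝒮h ι z hz pC chartC hPC ê U hU h2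
    have h3 := r_liftG_apply 𝒮 𝒮h ι z hz pC chartC p chart r hr U hU he g hg t
    rw [ht] at h3
    have hxx := (RelProj.emb p chart U hU).isOpenEmbedding.injective (hx'2.trans h3)
    rw [hxx] at hx'f
    have h4 := mem_basicOpen_of_away (RelProj.gradedHomAt ι hz.graded U hU) he hd hg hf t hx'f
    have hw : (RelProj.emb pC chartC U hU).base ((Proj.awayι (𝒮h.deg U hU)
        ((RelProj.gradedHomAt ι hz.graded U hU) g)
        ((RelProj.gradedHomAt ι hz.graded U hU).2 hg) he).base t) =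
        (RelCone.pointedProjCone 𝒮 hz pC chartC).ι.base ê := by
      rw [← ht, liftG_ι_apply]
    exact mem_range_liftG 𝒮 𝒮h ι z hz pC chartC U hU hd f hf ê _ hw
      ((Proj.mem_basicOpen _ _ _).mp h4)
  · rintro ⟨t, rfl⟩
    refine ⟨_, ?_, (r_liftG_apply 𝒮 𝒮h ι z hz pC chartC p chart r hr U hU hd f hf t).symm⟩
    exact (Proj.opensRange_awayι (𝒮.deg U hU) f hf hd).le ⟨_, rfl⟩

include hr hP hPC in
theorem isAffineHom_r : IsAffineHom r := by
  apply isAffineHom_of_forall_exists_isAffineOpen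
  intro x
  obtain ⟨_, ⟨U, hU, rfl⟩, hxU, -⟩ := Y.isBasis_affineOpens.exists_subset_of_mem_open
    (Set.mem_univ (p.base x)) isOpen_univ
  have hxU' : x ∈ p ⁻¹ᵁ U := hxU
  have hx' := emb_apply_chart p chart U hU x hxU'
  set x' := chartPt p chart U hU x hxU' with hx'def
  have hcov := (Proj.affineOpenCover (𝒮.deg U hU)).covers x'
  set j := (Proj.affineOpenCover (𝒮.deg U hU)).idx x'
  have hxf : x' ∈ Proj.basicOpen (𝒮.deg U hU) (j.2 : 𝒮.presheaf.obj (op U)) := by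
    rw [← Proj.opensRange_awayι (𝒮.deg U hU) _ j.2.2 j.1.2]
    exact hcov
  refine ⟨(RelProj.emb p chart U hU) ''ᵁ
    (Proj.basicOpen (𝒮.deg U hU) (j.2 : 𝒮.presheaf.obj (op U))), ⟨x', hxf, hx'⟩,
    (Proj.isAffineOpen_basicOpen (𝒮.deg U hU) _ j.2.2 j.1.2).image_of_isOpenImmersion _, ?_⟩
  rw [preimage_chart_r 𝒮 𝒮h ι z hz pC chartC hPC p chart hP r hr U hU j.1.2 _ j.2.2]
  exact isAffineOpen_opensRange _

include hr in
/-- `r` on the image of a point of the pointed affine cone: the homogeneous core. -/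
lemma r_apply_conePt (U : Y.Opens) (hU : IsAffineOpen U) (y : Spec (𝒮.presheaf.obj (op U)))
    (hy : y ∈ RelCone.vertexCompl (𝒮.deg U hU))
    (ê : ((RelCone.pointedProjCone 𝒮 hz pC chartC : PC.Opens) : Scheme.{u}))
    (hê : (RelCone.pointedProjCone 𝒮 hz pC chartC).ι.base ê =
      (RelProj.emb pC chartC U hU).base (conePt 𝒮 𝒮h ι z hz U hU y)) :
    ∃ x'' : Proj (𝒮.deg U hU), r.base ê = (RelProj.emb p chart U hU).base x'' ∧
      ∀ (n : ℕ) (a : 𝒮.presheaf.obj (op U)), a ∈ 𝒮.deg U hU n →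
        (a ∈ x''.asHomogeneousIdeal ↔ a ∈ y.asIdeal) := by
  obtain ⟨e, he, g, hg, hgy⟩ := exists_homogeneous_of_mem_vertexCompl _ y hy
  have hψg : (RelProj.gradedHomAt ι hz.graded U hU) g ∉
      (conePt 𝒮 𝒮h ι z hz U hU y).asHomogeneousIdeal := fun hcon ↦
    hgy ((map_mem_conePt_iff 𝒮 𝒮h ι z hz U hU y hg).mp hcon)
  have hmem : conePt 𝒮 𝒮h ι z hz U hU y ∈ (Proj.awayι (𝒮h.deg U hU) _
      ((RelProj.gradedHomAt ι hz.graded U hU).2 hg) he).opensRange := by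
    rw [Proj.opensRange_awayι]
    exact (Proj.mem_basicOpen _ _ _).mpr hψg
  obtain ⟨t, ht⟩ := hmem
  have h1 : ê = (liftG 𝒮 𝒮h ι z hz pC chartC U hU he g hg).base t := by
    apply (RelCone.pointedProjCone 𝒮 hz pC chartC).ι.isOpenEmbedding.injective
    rw [hê, liftG_ι_apply]
    exact congrArg _ ht.symm
  refine ⟨(Proj.awayι (𝒮.deg U hU) g hg he).base ((Spec.map (CommRingCat.ofHom
    (HomogeneousLocalization.Away.map (RelProj.gradedHomAt ι hz.graded U hU) g))).base t), ?_, ?_⟩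
  · rw [h1]
    exact r_liftG_apply 𝒮 𝒮h ι z hz pC chartC p chart r hr U hU he g hg t
  · intro n a ha
    have ha' : a ^ e ∈ 𝒮.deg U hU (n • e) := by
      have := SetLike.pow_mem_graded e ha
      rwa [smul_eq_mul, mul_comm] at this
    refine (mem_awayι_iff hg he _ ha').trans ?_
    change Away.map (RelProj.gradedHomAt ι hz.graded U hU) g
      (Away.mk (𝒮.deg U hU) hg n (a ^ e) ha') ∈ t.asIdeal ↔ _
    rw [Away.map_mk]
    have hb' : ((RelProj.gradedHomAt ι hz.graded U hU) a) ^ e ∈ 𝒮h.deg U hU (n • e) := by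
      rw [← map_pow]; exact (RelProj.gradedHomAt ι hz.graded U hU).2 ha'
    have e4 := mem_awayι_iff ((RelProj.gradedHomAt ι hz.graded U hU).2 hg) he t hb'
    have e5 : Away.mk (𝒮h.deg U hU) ((RelProj.gradedHomAt ι hz.graded U hU).2 hg) n
        ((RelProj.gradedHomAt ι hz.graded U hU) (a ^ e))
        ((RelProj.gradedHomAt ι hz.graded U hU).2 ha') =
        Away.mk (𝒮h.deg U hU) ((RelProj.gradedHomAt ι hz.graded U hU).2 hg) n
          (((RelProj.gradedHomAt ι hz.graded U hU) a) ^ e) hb' := by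
      apply HomogeneousLocalization.val_injective
      rw [Away.val_mk, Away.val_mk, map_pow]
    refine (iff_of_eq (congrArg (fun q ↦ q ∈ t.asIdeal) e5)).trans ?_
    refine e4.symm.trans ?_
    have e6 := map_mem_conePt_iff 𝒮 𝒮h ι z hz U hU y ha
    rw [← ht] at e6
    exact e6

include hr in
theorem surjective_r : Function.Surjective r.base := by
  intro x
  obtain ⟨_, ⟨U, hU, rfl⟩, hxU, -⟩ := Y.isBasis_affineOpens.exists_subset_of_mem_open
    (Set.mem_univ (p.base x)) isOpen_univ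
  have hxU' : x ∈ p ⁻¹ᵁ U := hxU
  have hx' := emb_apply_chart p chart U hU x hxU'
  set x' := chartPt p chart U hU x hxU' with hx'def
  let y : Spec (𝒮.presheaf.obj (op U)) := ⟨x'.asHomogeneousIdeal.toIdeal, x'.isPrime⟩
  have hy : y ∈ RelCone.vertexCompl (𝒮.deg U hU) := by
    obtain ⟨c, hc, hcx⟩ := SetLike.not_le_iff_exists.mp x'.not_irrelevant_le
    exact (mem_vertexCompl_iff _ y).mpr ⟨c, hc, hcx⟩
  have hmem : (RelProj.emb pC chartC U hU).base (conePt 𝒮 𝒮h ι z hz U hU y) ∈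
      RelCone.pointedProjCone 𝒮 hz pC chartC :=
    Opens.mem_iSup.mpr ⟨⟨U, hU⟩, conePt 𝒮 𝒮h ι z hz U hU y,
      conePt_mem_domOpen 𝒮 𝒮h ι z hz U hU y hy, rfl⟩
  let ê : ((RelCone.pointedProjCone 𝒮 hz pC chartC : PC.Opens) : Scheme.{u}) := ⟨_, hmem⟩
  obtain ⟨x'', hx'', hmem'⟩ :=
    r_apply_conePt 𝒮 𝒮h ι z hz pC chartC p chart r hr U hU y hy ê rfl
  refine ⟨ê, ?_⟩
  rw [hx'']
  have hxx : x'' = x' := by
    apply ProjectiveSpectrum.ext
    exact Groth.Agent.S8309.homogeneousIdeal_ext fun n a ha ↦ hmem' n a ha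
  rw [hxx]
  exact hx'

include hr in
/-- `r` is a retraction of the immersion at infinity. -/
theorem retraction_r (θ : 𝒮h.toQCAlg ⟶ 𝒮.toQCAlg) (hθ : RelProj.IsGradedHom θ)
    (hιθ : ι ≫ θ = 𝟙 _)
    (hirr : ∀ (U : Y.Opens) (hU : IsAffineOpen U),
      (𝒮.deg U hU)₊ ≤ ((𝒮h.deg U hU)₊).map (RelProj.gradedHomAt θ hθ U hU))
    (j : P ⟶ PC) (hj : RelProj.IsRelProjMap θ hθ hirr chartC chart j)
    (j' : P ⟶ ((RelCone.pointedProjCone 𝒮 hz pC chartC : PC.Opens) : Scheme.{u}))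
    (hj' : j' ≫ (RelCone.pointedProjCone 𝒮 hz pC chartC).ι = j) : j' ≫ r = 𝟙 P := by
  refine Groth.Agent.Lib.ImmersionGlue.hom_ext_of_forall_isOpenImmersion _ _ fun x ↦ ?_
  obtain ⟨_, ⟨U, hU, rfl⟩, hxU, -⟩ := Y.isBasis_affineOpens.exists_subset_of_mem_open
    (Set.mem_univ (p.base x)) isOpen_univ
  have hxU' : x ∈ p ⁻¹ᵁ U := hxU
  have hx' := emb_apply_chart p chart U hU x hxU'
  set x' := chartPt p chart U hU x hxU' with hx'def
  have hcov := (Proj.affineOpenCover (𝒮.deg U hU)).covers x'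
  set k := (Proj.affineOpenCover (𝒮.deg U hU)).idx x'
  obtain ⟨q, hq⟩ := hcov
  have hq' : (Proj.awayι (𝒮.deg U hU) (k.2 : 𝒮.presheaf.obj (op U)) k.2.2 k.1.2).base q = x' := hq
  refine ⟨_, Proj.awayι (𝒮.deg U hU) (k.2 : 𝒮.presheaf.obj (op U)) k.2.2 k.1.2 ≫
    RelProj.emb p chart U hU, inferInstance, ⟨q, ?_⟩, ?_⟩
  · rw [Scheme.Hom.comp_base, TopCat.coe_comp, Function.comp_apply, hq', hx']
  · set f : 𝒮.presheaf.obj (op U) := (k.2 : 𝒮.presheaf.obj (op U)) with hfdef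
    have hf : f ∈ 𝒮.deg U hU k.1 := k.2.2
    have hd : 0 < (k.1 : ℕ) := k.1.2
    have hθψ : (RelProj.gradedHomAt θ hθ U hU) ((RelProj.gradedHomAt ι hz.graded U hU) f) = f :=
      Groth.Agent.S8297.theta_iota 𝒮 𝒮h ι U θ hιθ f
    -- Step A
    have hA : (Proj.awayι (𝒮.deg U hU) f hf hd ≫ RelProj.emb p chart U hU) ≫ j' =
        Spec.map (CommRingCat.ofHom (awayMapEq (RelProj.gradedHomAt θ hθ U hU)
          ((RelProj.gradedHomAt ι hz.graded U hU) f) f hθψ)) ≫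
          liftG 𝒮 𝒮h ι z hz pC chartC U hU hd f hf := by
      rw [← cancel_mono (RelCone.pointedProjCone 𝒮 hz pC chartC).ι]
      simp only [Category.assoc]
      rw [hj', liftG_ι, Groth.Agent.S8297.emb_j 𝒮 𝒮h pC chartC U hU θ hθ hirr p chart j hj]
      rw [← Category.assoc, ← Category.assoc]
      congr 1
      exact awayι_comp_map_eq (RelProj.gradedHomAt θ hθ U hU) (hirr U hU) hd
        ((RelProj.gradedHomAt ι hz.graded U hU) f)
        ((RelProj.gradedHomAt ι hz.graded U hU).2 hf) f hθψ hf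
    rw [Category.comp_id, ← Category.assoc, hA, Category.assoc,
      liftG_r 𝒮 𝒮h ι z hz pC chartC p chart U hU r hr hd f hf, ← Spec.map_comp_assoc,
      ← CommRingCat.ofHom_comp]
    have hB : (awayMapEq (RelProj.gradedHomAt θ hθ U hU)
        ((RelProj.gradedHomAt ι hz.graded U hU) f) f hθψ).comp
        (Away.map (RelProj.gradedHomAt ι hz.graded U hU) f) = RingHom.id _ := by
      rw [← awayMapEq_rfl, awayMapEq_comp]
      exact awayMapEq_eq_id _ (fun a ↦ Groth.Agent.S8297.theta_iota 𝒮 𝒮h ι U θ hιθ a) f _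
    rw [hB]
    have hid : CommRingCat.ofHom (RingHom.id (Away (𝒮.deg U hU) f)) = 𝟙 _ := rfl
    rw [hid, Spec.map_id, Category.id_comp]

end Props

end Aux

/-- The canonical retraction of the pointed projective cone: let 𝒮 be a quasi-coherent positively graded
O_Y-algebra with 𝒮_0 = O_Y, Ŝ = 𝒮[z] (given through a graded homomorphism ι : 𝒮 → Ŝ and a global
section z of degree one, polynomial over every affine open), X = Proj(𝒮) and Ĉ = Proj(Ŝ) the
relative homogeneous spectra with their charts, and Ê ⊆ Ĉ the pointed projective cone. There is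
exactly one morphism p : Ê → X such that for every affine open U of Y and every f ∈ 𝒮(U) homogeneous
of positive degree, on the affine piece Spec Ŝ(U)_(ι f) of Ê (the standard open D_+(ι f) of Proj
Ŝ(U) carried into Ĉ by the chart) p is Spec of the canonical homomorphism 𝒮(U)_(f) → Ŝ(U)_(ι f)
followed by the standard open D_+(f) of Proj 𝒮(U) and the chart of X. Every such p is affine and
surjective, lies over Y, and is a retraction of the immersion at infinity: if j : X → Ĉ is the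
morphism chartwise induced by the graded retraction θ : Ŝ → 𝒮 of ι with θ(z) = 0, then j factors
through Ê and the factorisation followed by p is the identity of X. -/
theorem result {Y PC P : Scheme.{u}} (𝒮 𝒮h : RelProj.QCGrAlg Y) (h0 : RelCone.StrZeroBij 𝒮)
    (ι : 𝒮.toQCAlg ⟶ 𝒮h.toQCAlg) (z : 𝒮h.presheaf.obj (op ⊤)) (hz : RelCone.IsPolyOver 𝒮 𝒮h ι z)
    (pC : PC ⟶ Y)
    (chartC : ∀ (U : Y.Opens) (hU : IsAffineOpen U), (((pC ⁻¹ᵁ U : PC.Opens) : Scheme.{u}) ≅ Proj (𝒮h.deg U hU)))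
    (hPC : RelProj.IsRelProj 𝒮h pC chartC)
    (p : P ⟶ Y)
    (chart : ∀ (U : Y.Opens) (hU : IsAffineOpen U), (((p ⁻¹ᵁ U : P.Opens) : Scheme.{u}) ≅ Proj (𝒮.deg U hU)))
    (hP : RelProj.IsRelProj 𝒮 p chart) :
    (∃! r : ((RelCone.pointedProjCone 𝒮 hz pC chartC : PC.Opens) : Scheme.{u}) ⟶ P,
      (∀ (U : Y.Opens) (hU : IsAffineOpen U) (d : ℕ) (hd : 0 < d) (f : 𝒮.presheaf.obj (op U)) (hf : f ∈ 𝒮.deg U hU d)
        (g : Spec (CommRingCat.of (HomogeneousLocalization.Away (𝒮h.deg U hU) ((RelProj.gradedHomAt ι hz.graded U hU) f))) ⟶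
          ((RelCone.pointedProjCone 𝒮 hz pC chartC : PC.Opens) : Scheme.{u})),
        g ≫ (RelCone.pointedProjCone 𝒮 hz pC chartC).ι =
            Proj.awayι (𝒮h.deg U hU) ((RelProj.gradedHomAt ι hz.graded U hU) f) ((RelProj.gradedHomAt ι hz.graded U hU).2 hf) hd ≫
              RelProj.emb pC chartC U hU →
          g ≫ r =
            Spec.map (CommRingCat.ofHom (HomogeneousLocalization.Away.map (RelProj.gradedHomAt ι hz.graded U hU) f)) ≫
              Proj.awayι (𝒮.deg U hU) f hf hd ≫ RelProj.emb p chart U hU)) ∧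
    ∀ r : ((RelCone.pointedProjCone 𝒮 hz pC chartC : PC.Opens) : Scheme.{u}) ⟶ P,
      (∀ (U : Y.Opens) (hU : IsAffineOpen U) (d : ℕ) (hd : 0 < d) (f : 𝒮.presheaf.obj (op U)) (hf : f ∈ 𝒮.deg U hU d)
        (g : Spec (CommRingCat.of (HomogeneousLocalization.Away (𝒮h.deg U hU) ((RelProj.gradedHomAt ι hz.graded U hU) f))) ⟶
          ((RelCone.pointedProjCone 𝒮 hz pC chartC : PC.Opens) : Scheme.{u})),
        g ≫ (RelCone.pointedProjCone 𝒮 hz pC chartC).ι =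
            Proj.awayι (𝒮h.deg U hU) ((RelProj.gradedHomAt ι hz.graded U hU) f) ((RelProj.gradedHomAt ι hz.graded U hU).2 hf) hd ≫
              RelProj.emb pC chartC U hU →
          g ≫ r =
            Spec.map (CommRingCat.ofHom (HomogeneousLocalization.Away.map (RelProj.gradedHomAt ι hz.graded U hU) f)) ≫
              Proj.awayι (𝒮.deg U hU) f hf hd ≫ RelProj.emb p chart U hU) →
      IsAffineHom r ∧ Function.Surjective r.base ∧ r ≫ p = (RelCone.pointedProjCone 𝒮 hz pC chartC).ι ≫ pC ∧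
        ∀ (θ : 𝒮h.toQCAlg ⟶ 𝒮.toQCAlg) (hθ : RelProj.IsGradedHom θ), ι ≫ θ = 𝟙 _ →
          (θ.hom.app (op ⊤)).hom z = 0 →
          ∀ (hirr : ∀ (U : Y.Opens) (hU : IsAffineOpen U),
              (𝒮.deg U hU)₊ ≤ ((𝒮h.deg U hU)₊).map (RelProj.gradedHomAt θ hθ U hU))
            (j : P ⟶ PC), RelProj.IsRelProjMap θ hθ hirr chartC chart j →
            ∀ j' : P ⟶ ((RelCone.pointedProjCone 𝒮 hz pC chartC : PC.Opens) : Scheme.{u}), j' ≫ (RelCone.pointedProjCone 𝒮 hz pC chartC).ι = j → j' ≫ r = 𝟙 P := by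
  refine ⟨existsUnique_HR 𝒮 𝒮h ι z hz pC chartC hPC p chart hP, fun r hr ↦ ?_⟩
  have hr' : HR 𝒮 𝒮h ι z hz pC chartC p chart r := hr
  refine ⟨isAffineHom_r 𝒮 𝒮h ι z hz pC chartC hPC p chart hP r hr',
    surjective_r 𝒮 𝒮h ι z hz pC chartC p chart r hr',
    r_over 𝒮 𝒮h ι z hz pC chartC p chart r hr hP hPC, ?_⟩
  intro θ hθ hιθ _ hirr j hj j' hj'
  exact retraction_r 𝒮 𝒮h ι z hz pC chartC p chart r hr' θ hθ hιθ hirr j hj j' hj'

end Groth.Agent.S8308
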