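import Groth.Statements.S19985
import Groth.Agent.S8308
import Groth.Agent.Lib.H60AwayPoly

set_option autoImplicit false
universe u
open CategoryTheory CategoryTheory.Limits AlgebraicGeometry Opposite TopologicalSpace
open scoped HomogeneousIdeal
noncomputable section
open EGA2

namespace Groth.Agent.S19985

open Groth.Agent.Lib Groth.Agent.Lib.H60RelCone Groth.Agent.Lib.H60AwayDegOne
open Groth.Agent.Lib.ProjQMapOn Groth.Agent.Lib.ProjQMap
open HomogeneousLocalization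

section Alg

/-- If a graded ring is generated by its parts of degree `0` and `1`, every point of `Proj`
avoids an element of degree one. -/
lemma exists_deg_one_notMem {A : Type u} [CommRing A] (𝒜 : ℕ → AddSubgroup A) [GradedRing 𝒜]
    (hgen : Subring.closure ((𝒜 0 : Set A) ∪ (𝒜 1 : Set A)) = ⊤) (x : Proj 𝒜) :
    ∃ g ∈ 𝒜 1, g ∉ x.asHomogeneousIdeal := by
  classical
  by_contra hcon
  push Not at hcon
  apply x.not_irrelevant_le
  set I := x.asHomogeneousIdeal.toIdeal with hI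
  have key : ∀ a : A, ∃ a0 ∈ 𝒜 0, a - a0 ∈ I := by
    intro a
    have ha : a ∈ Subring.closure ((𝒜 0 : Set A) ∪ (𝒜 1 : Set A)) := by rw [hgen]; trivial
    induction ha using Subring.closure_induction with
    | mem a ha =>
      rcases ha with h0 | h1
      · exact ⟨a, h0, by rw [sub_self]; exact zero_mem _⟩
      · exact ⟨0, zero_mem _, by rw [sub_zero]; exact hcon a h1⟩
    | zero => exact ⟨0, zero_mem _, by rw [sub_zero]; exact zero_mem _⟩
    | one => exact ⟨1, SetLike.GradedOne.one_mem, by rw [sub_self]; exact zero_mem _⟩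
    | add a b _ _ ha hb =>
      obtain ⟨a0, ha0, ha1⟩ := ha
      obtain ⟨b0, hb0, hb1⟩ := hb
      refine ⟨a0 + b0, add_mem ha0 hb0, ?_⟩
      have : a + b - (a0 + b0) = (a - a0) + (b - b0) := by ring
      rw [this]
      exact add_mem ha1 hb1
    | neg a _ ha =>
      obtain ⟨a0, ha0, ha1⟩ := ha
      refine ⟨-a0, neg_mem ha0, ?_⟩
      have : -a - -a0 = -(a - a0) := by ring
      rw [this]
      exact neg_mem ha1
    | mul a b _ _ ha hb =>
      obtain ⟨a0, ha0, ha1⟩ := ha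
      obtain ⟨b0, hb0, hb1⟩ := hb
      refine ⟨a0 * b0, ?_, ?_⟩
      · have := SetLike.GradedMul.mul_mem ha0 hb0
        rwa [add_zero] at this
      · have : a * b - a0 * b0 = (a - a0) * b + a0 * (b - b0) := by ring
        rw [this]
        exact add_mem (I.mul_mem_right _ ha1) (I.mul_mem_left _ hb1)
  rw [HomogeneousIdeal.irrelevant_le]
  intro n hn b hb
  obtain ⟨b0, hb0, hb1⟩ := key b
  have h1 := x.asHomogeneousIdeal.isHomogeneous n hb1
  have h2 : ((DirectSum.decompose 𝒜 (b - b0) n : 𝒜 n) : A) = b := by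
    rw [DirectSum.decompose_sub, DirectSum.sub_apply, AddSubgroupClass.coe_sub,
      DirectSum.decompose_of_mem_same 𝒜 hb, DirectSum.decompose_of_mem_ne 𝒜 hb0 hn.ne, sub_zero]
  rw [h2] at h1
  exact h1

end Alg

section Aux

open Groth.Agent.S8309 Groth.Agent.S8308

variable {Y PC P : Scheme.{u}} (𝒮 𝒮h : RelProj.QCGrAlg Y)
  (ι : 𝒮.toQCAlg ⟶ 𝒮h.toQCAlg) (z : 𝒮h.presheaf.obj (op ⊤)) (hz : RelCone.IsPolyOver 𝒮 𝒮h ι z)
  (pC : PC ⟶ Y)
  (chartC : ∀ (U : Y.Opens) (hU : IsAffineOpen U),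
    (((pC ⁻¹ᵁ U : PC.Opens) : Scheme.{u}) ≅ Proj (𝒮h.deg U hU)))
  (hPC : RelProj.IsRelProj 𝒮h pC chartC)
  (p : P ⟶ Y)
  (chart : ∀ (U : Y.Opens) (hU : IsAffineOpen U),
    (((p ⁻¹ᵁ U : P.Opens) : Scheme.{u}) ≅ Proj (𝒮.deg U hU)))
  (hP : RelProj.IsRelProj 𝒮 p chart)

/-- Index type of the degree-one standard charts of `Proj(𝒮)`. -/
structure Idx1 : Type u where
  /-- an affine open of the base -/
  U : Y.Opens
  hU : IsAffineOpen U
  /-- an element of degree one -/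
  g : 𝒮.presheaf.obj (op U)
  hg : g ∈ 𝒮.deg U hU 1

/-- The degree-one chart of `Proj(𝒮)`. -/
def pchart (k : Idx1 𝒮) : Spec (CommRingCat.of (Away (𝒮.deg k.U k.hU) k.g)) ⟶ P :=
  Proj.awayι (𝒮.deg k.U k.hU) k.g k.hg Nat.one_pos ≫ RelProj.emb p chart k.U k.hU

instance (k : Idx1 𝒮) : IsOpenImmersion (pchart 𝒮 p chart k) := by
  unfold pchart; infer_instance

lemma exists_pchart (hgen : 𝒮.IsGenDegOne) (x : P) :
    ∃ (k : Idx1 𝒮) (t : Spec (CommRingCat.of (Away (𝒮.deg k.U k.hU) k.g))),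
      (pchart 𝒮 p chart k).base t = x := by
  obtain ⟨_, ⟨U, hU, rfl⟩, hxU, -⟩ := Y.isBasis_affineOpens.exists_subset_of_mem_open
    (Set.mem_univ (p.base x)) isOpen_univ
  have hxU' : x ∈ p ⁻¹ᵁ U := hxU
  have hx' := emb_apply_chart p chart U hU x hxU'
  set x' := chartPt p chart U hU x hxU' with hx'def
  obtain ⟨g, hg, hgx⟩ := exists_deg_one_notMem (𝒮.deg U hU) (hgen U hU) x'
  have hmem : x' ∈ (Proj.awayι (𝒮.deg U hU) g hg Nat.one_pos).opensRange := by
    rw [Proj.opensRange_awayι]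
    exact (Proj.mem_basicOpen _ _ _).mpr hgx
  obtain ⟨t, ht⟩ := hmem
  refine ⟨⟨U, hU, g, hg⟩, t, ?_⟩
  unfold pchart
  rw [Scheme.Hom.comp_base, TopCat.coe_comp, Function.comp_apply]
  exact (congrArg (RelProj.emb p chart U hU).base ht).trans hx'

/-- The cover of `Proj(𝒮)` by the degree-one standard charts. -/
def cov1 (hgen : 𝒮.IsGenDegOne) : Scheme.OpenCover.{u} P where
  I₀ := Idx1 𝒮
  X k := Spec (CommRingCat.of (Away (𝒮.deg k.U k.hU) k.g))
  f k := pchart 𝒮 p chart k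
  mem₀ := by
    rw [Scheme.presieve₀_mem_precoverage_iff]
    refine ⟨fun x => ?_, fun k => inferInstance⟩
    obtain ⟨k, t, ht⟩ := exists_pchart 𝒮 p chart hgen x
    exact ⟨k, t, ht⟩

variable (r : ((RelCone.pointedProjCone 𝒮 hz pC chartC : PC.Opens) : Scheme.{u}) ⟶ P)
  (hr : HR 𝒮 𝒮h ι z hz pC chartC p chart r)

include hPC hP hr in
/-- The chart square of the retraction `r` is cartesian. -/
lemma isPullback_r (k : Idx1 𝒮) :
    IsPullback (Spec.map (CommRingCat.ofHom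
        (Away.map (RelProj.gradedHomAt ι hz.graded k.U k.hU) k.g)))
      (liftG 𝒮 𝒮h ι z hz pC chartC k.U k.hU Nat.one_pos k.g k.hg)
      (pchart 𝒮 p chart k) r := by
  refine IsOpenImmersion.isPullback _ _ _ _
    (liftG_r 𝒮 𝒮h ι z hz pC chartC p chart k.U k.hU r hr Nat.one_pos k.g k.hg) ?_
  unfold pchart
  rw [Scheme.Hom.opensRange_comp, Proj.opensRange_awayι]
  exact preimage_chart_r 𝒮 𝒮h ι z hz pC chartC hPC p chart hP r hr k.U k.hU Nat.one_pos k.g k.hg

include hPC hP hr in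
lemma locallyOfFiniteType_r (hgen : 𝒮.IsGenDegOne) : LocallyOfFiniteType r := by
  have : IsZariskiLocalAtTarget @LocallyOfFiniteType.{u} :=
    HasRingHomProperty.instIsZariskiLocalAtTarget _
  apply IsZariskiLocalAtTarget.of_openCover (P := @LocallyOfFiniteType)
    (cov1 𝒮 p chart hgen)
  intro k
  have sq := (isPullback_r 𝒮 𝒮h ι z hz pC chartC hPC p chart hP r hr k).flip
  have h1 : LocallyOfFiniteType (Spec.map (CommRingCat.ofHom
      (Away.map (RelProj.gradedHomAt ι hz.graded k.U k.hU) k.g))) := by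
    rw [HasRingHomProperty.Spec_iff (P := @LocallyOfFiniteType)]
    exact H60AwayPoly.finiteType_map (RelProj.gradedHomAt ι hz.graded k.U k.hU)
      (ι.hom.app (op k.U)).hom (fun _ ↦ rfl) (RelCone.restrictTop 𝒮h z k.U) (hz.deg_z k.U k.hU)
      (hz.bij k.U k.hU) k.hg
  have h2 : sq.isoPullback.inv ≫ _ = pullback.snd _ _ := sq.isoPullback_inv_snd
  change LocallyOfFiniteType (pullback.snd r (pchart 𝒮 p chart k))
  rw [← h2]
  infer_instance

include hPC hP hr in
lemma fibre_r (hgen : 𝒮.IsGenDegOne) (x : P) :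
    ∃ e : pullback r (P.fromSpecResidueField x) ≅
        Spec (CommRingCat.of (Polynomial (P.residueField x))),
      e.hom ≫ Spec.map (CommRingCat.ofHom (algebraMap (P.residueField x)
        (Polynomial (P.residueField x)))) = pullback.snd r (P.fromSpecResidueField x) := by
  obtain ⟨k, t, ht⟩ := exists_pchart 𝒮 p chart hgen x
  have hx' : x ∈ Set.range (pchart 𝒮 p chart k).base := ⟨t, ht⟩
  let l : Spec (P.residueField x) ⟶ Spec (.of (Away (𝒮.deg k.U k.hU) k.g)) :=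
    IsOpenImmersion.lift (pchart 𝒮 p chart k) (P.fromSpecResidueField x)
      (by rw [Scheme.range_fromSpecResidueField]; simpa using hx')
  have hl : l ≫ pchart 𝒮 p chart k = P.fromSpecResidueField x :=
    IsOpenImmersion.lift_fac _ _ _
  let ρ : Away (𝒮.deg k.U k.hU) k.g →+* (P.residueField x) := (Spec.preimage l).hom
  have hρ : Spec.map (CommRingCat.ofHom ρ) = l := Spec.map_preimage l
  have po := H60AwayPoly.isPushout_away_poly (RelProj.gradedHomAt ι hz.graded k.U k.hU)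
    (ι.hom.app (op k.U)).hom (fun _ ↦ rfl) (RelCone.restrictTop 𝒮h z k.U) (hz.deg_z k.U k.hU)
    (hz.bij k.U k.hU) k.hg ρ
  have pb1 := isPullback_SpecMap_of_isPushout _ _ _ _ po
  have pb2 := (isPullback_r 𝒮 𝒮h ι z hz pC chartC hPC p chart hP r hr k).flip
  have pb := pb1.paste_horiz pb2
  rw [hρ, hl] at pb
  exact ⟨pb.isoPullback.symm, pb.isoPullback_inv_snd⟩

section Pi

variable (i : 𝒮.toQCAlg.spec ⟶ PC) (hi : RelCone.IsConeImm 𝒮 hz pC chartC i)
  (i' : ((RelCone.pointedCone 𝒮 : 𝒮.toQCAlg.spec.Opens) : Scheme.{u}) ⟶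
    ((RelCone.pointedProjCone 𝒮 hz pC chartC : PC.Opens) : Scheme.{u}))
  (hi' : i' ≫ (RelCone.pointedProjCone 𝒮 hz pC chartC).ι = (RelCone.pointedCone 𝒮).ι ≫ i)

/-- The localization chart `Spec 𝒮(U)_g ⟶ Spec 𝒮(U) ⟶ C`. -/
def cchart (k : Idx1 𝒮) : Spec (CommRingCat.of (Localization.Away k.g)) ⟶ 𝒮.toQCAlg.spec :=
  Spec.map (CommRingCat.ofHom (algebraMap (𝒮.presheaf.obj (op k.U)) (Localization.Away k.g))) ≫
    𝒮.toQCAlg.ι k.U k.hU

lemma range_cchart (k : Idx1 𝒮) :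
    Set.range (cchart 𝒮 k).base =
      (𝒮.toQCAlg.ι k.U k.hU).base '' {y | k.g ∉ y.asIdeal} := by
  unfold cchart
  rw [Scheme.Hom.comp_base, TopCat.coe_comp, Set.range_comp]
  congr 1
  exact PrimeSpectrum.localization_away_comap_range (Localization.Away k.g) k.g

lemma range_cchart_le (k : Idx1 𝒮) :
    Set.range (cchart 𝒮 k).base ⊆ (RelCone.pointedCone 𝒮 : Set 𝒮.toQCAlg.spec) := by
  rw [range_cchart]
  rintro _ ⟨y, hy, rfl⟩
  have hy' : k.g ∉ y.asIdeal := hy
  exact (ι_mem_pointedCone_iff 𝒮 k.U k.hU y).mpr ((mem_vertexCompl_iff _ y).mpr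
    ⟨k.g, HomogeneousIdeal.mem_irrelevant_of_mem _ Nat.one_pos k.hg, hy'⟩)

/-- The degree-one chart of the pointed cone `E`. -/
def echart (k : Idx1 𝒮) : Spec (CommRingCat.of (Localization.Away k.g)) ⟶
    ((RelCone.pointedCone 𝒮 : 𝒮.toQCAlg.spec.Opens) : Scheme.{u}) :=
  IsOpenImmersion.lift (RelCone.pointedCone 𝒮).ι (cchart 𝒮 k)
    (by rw [Scheme.Opens.range_ι]; exact range_cchart_le 𝒮 k)

lemma echart_ι (k : Idx1 𝒮) : echart 𝒮 k ≫ (RelCone.pointedCone 𝒮).ι = cchart 𝒮 k :=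
  IsOpenImmersion.lift_fac _ _ _

instance (k : Idx1 𝒮) : IsOpenImmersion (cchart 𝒮 k) := by
  unfold cchart; infer_instance

instance (k : Idx1 𝒮) : IsOpenImmersion (echart 𝒮 k) := by
  have : IsOpenImmersion (echart 𝒮 k ≫ (RelCone.pointedCone 𝒮).ι) := by
    rw [echart_ι]; infer_instance
  exact IsOpenImmersion.of_comp _ (RelCone.pointedCone 𝒮).ι

lemma opensRange_echart (k : Idx1 𝒮) :
    (echart 𝒮 k).opensRange = (RelCone.pointedCone 𝒮).ι ⁻¹ᵁ
      ((𝒮.toQCAlg.ι k.U k.hU) ''ᵁ (PrimeSpectrum.basicOpen k.g)) := by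
  ext c'
  have hrange := range_cchart 𝒮 k
  constructor
  · rintro ⟨t, rfl⟩
    have h1 : (RelCone.pointedCone 𝒮).ι.base ((echart 𝒮 k).base t) = (cchart 𝒮 k).base t :=
      congrArg (fun g ↦ g.base t) (echart_ι 𝒮 k)
    have h2 : (cchart 𝒮 k).base t ∈ Set.range (cchart 𝒮 k).base := ⟨t, rfl⟩
    rw [hrange] at h2
    obtain ⟨y, hy, hy'⟩ := h2
    exact ⟨y, hy, hy'.trans h1.symm⟩
  · rintro ⟨y, hy, hy'⟩
    have h2 : (RelCone.pointedCone 𝒮).ι.base c' ∈ Set.range (cchart 𝒮 k).base := by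
      rw [hrange]; exact ⟨y, hy, hy'⟩
    obtain ⟨t, ht⟩ := h2
    refine ⟨t, ?_⟩
    apply (RelCone.pointedCone 𝒮).ι.isOpenEmbedding.injective
    have h1 : (RelCone.pointedCone 𝒮).ι.base ((echart 𝒮 k).base t) = (cchart 𝒮 k).base t :=
      congrArg (fun g ↦ g.base t) (echart_ι 𝒮 k)
    exact h1.trans ht

/-- The ring homomorphism `𝒮h(U)_(ι g) → 𝒮(U)_g`, "`z = 1`". -/
def gam (k : Idx1 𝒮) :
    Away (𝒮h.deg k.U k.hU) ((RelProj.gradedHomAt ι hz.graded k.U k.hU) k.g) →+*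
      Localization.Away k.g :=
  H60AwayPoly.gamma (RelProj.gradedHomAt ι hz.graded k.U k.hU) (RelCone.restrictTop 𝒮h z k.U)
    (hz.deg_z k.U k.hU) (hz.evalOne k.U k.hU) (hz.evalOne_ι k.U k.hU) (hz.evalOne_z k.U k.hU)

include hi hi' in
lemma echart_i' (k : Idx1 𝒮) :
    echart 𝒮 k ≫ i' = Spec.map (CommRingCat.ofHom (gam 𝒮 𝒮h ι z hz k)) ≫
      liftG 𝒮 𝒮h ι z hz pC chartC k.U k.hU Nat.one_pos k.g k.hg := by
  rw [← cancel_mono (RelCone.pointedProjCone 𝒮 hz pC chartC).ι, Category.assoc, Category.assoc,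
    hi', liftG_ι, reassoc_of% (echart_ι 𝒮 k)]
  unfold cchart
  rw [Category.assoc, hi k.U k.hU]
  have hβ := H60AwayPoly.beta_comp_awayMap (RelProj.gradedHomAt ι hz.graded k.U k.hU)
    (RelCone.restrictTop 𝒮h z k.U) (hz.deg_z k.U k.hU) (hz.evalOne k.U k.hU)
    (hz.evalOne_ι k.U k.hU) (hz.evalOne_z k.U k.hU) k.hg (hz.awayZToBase k.U k.hU)
    (fun q b n hq ↦ hz.awayZToBase_of_val k.U k.hU q b n hq)
  have e1 := Proj.SpecMap_awayMap_awayι (𝒮h.deg k.U k.hU) (hz.deg_z k.U k.hU) Nat.one_pos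
    ((RelProj.gradedHomAt ι hz.graded k.U k.hU).2 k.hg) rfl
  have e2 := Proj.SpecMap_awayMap_awayι (𝒮h.deg k.U k.hU)
    ((RelProj.gradedHomAt ι hz.graded k.U k.hU).2 k.hg) Nat.one_pos (hz.deg_z k.U k.hU)
    (mul_comm (RelCone.restrictTop 𝒮h z k.U) ((RelProj.gradedHomAt ι hz.graded k.U k.hU) k.g))
  rw [← Spec.map_comp_assoc, ← CommRingCat.ofHom_comp, ← hβ, CommRingCat.ofHom_comp,
    Spec.map_comp_assoc, reassoc_of% e1]
  unfold gam H60AwayPoly.gamma
  rw [CommRingCat.ofHom_comp, Spec.map_comp_assoc]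
  exact congrArg (fun m ↦ Spec.map (CommRingCat.ofHom (H60AwayPoly.beta
    (RelProj.gradedHomAt ι hz.graded k.U k.hU) (RelCone.restrictTop 𝒮h z k.U)
    (hz.evalOne k.U k.hU) (hz.evalOne_ι k.U k.hU) (hz.evalOne_z k.U k.hU))) ≫ m)
    ((reassoc_of% e2) (RelProj.emb pC chartC k.U k.hU)).symm

include hi hi' hr in
lemma echart_pi (k : Idx1 𝒮) :
    echart 𝒮 k ≫ (i' ≫ r) = Spec.map (CommRingCat.ofHom
      (algebraMap (Away (𝒮.deg k.U k.hU) k.g) (Localization.Away k.g))) ≫ pchart 𝒮 p chart k := by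
  rw [← Category.assoc, echart_i' 𝒮 𝒮h ι z hz pC chartC i hi i' hi' k, Category.assoc,
    liftG_r 𝒮 𝒮h ι z hz pC chartC p chart k.U k.hU r hr Nat.one_pos k.g k.hg,
    ← Spec.map_comp_assoc, ← CommRingCat.ofHom_comp]
  unfold gam pchart
  rw [H60AwayPoly.gamma_comp_map (RelProj.gradedHomAt ι hz.graded k.U k.hU)
    (RelCone.restrictTop 𝒮h z k.U) (hz.deg_z k.U k.hU) (hz.evalOne k.U k.hU)
    (hz.evalOne_ι k.U k.hU) (hz.evalOne_z k.U k.hU) k.hg]

include hPC hP hi hi' hr in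
/-- The chart square of `π = i' ≫ r` is cartesian. -/
lemma isPullback_pi (k : Idx1 𝒮) :
    IsPullback (Spec.map (CommRingCat.ofHom
        (algebraMap (Away (𝒮.deg k.U k.hU) k.g) (Localization.Away k.g))))
      (echart 𝒮 k) (pchart 𝒮 p chart k) (i' ≫ r) := by
  refine IsOpenImmersion.isPullback _ _ _ _
    (echart_pi 𝒮 𝒮h ι z hz pC chartC p chart r hr i hi i' hi' k) ?_
  rw [opensRange_echart]
  unfold pchart
  rw [Scheme.Hom.opensRange_comp, Proj.opensRange_awayι]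
  exact preimage_chart 𝒮 𝒮h ι z hz pC chartC p chart i hi k.U k.hU r hr i' hi' hP hPC
    Nat.one_pos k.g k.hg

include hPC hP hi hi' hr in
lemma locallyOfFiniteType_pi (hgen : 𝒮.IsGenDegOne) : LocallyOfFiniteType (i' ≫ r) := by
  have : IsZariskiLocalAtTarget @LocallyOfFiniteType.{u} :=
    HasRingHomProperty.instIsZariskiLocalAtTarget _
  apply IsZariskiLocalAtTarget.of_openCover (P := @LocallyOfFiniteType)
    (cov1 𝒮 p chart hgen)
  intro k
  have sq := (isPullback_pi 𝒮 𝒮h ι z hz pC chartC hPC p chart hP r hr i hi i' hi' k).flip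
  have h1 : LocallyOfFiniteType (Spec.map (CommRingCat.ofHom
      (algebraMap (Away (𝒮.deg k.U k.hU) k.g) (Localization.Away k.g)))) := by
    rw [HasRingHomProperty.Spec_iff (P := @LocallyOfFiniteType)]
    exact H60AwayPoly.finiteType_algebraMap (𝒮.deg k.U k.hU) k.hg
  have h2 : sq.isoPullback.inv ≫ _ = pullback.snd _ _ := sq.isoPullback_inv_snd
  change LocallyOfFiniteType (pullback.snd (i' ≫ r) (pchart 𝒮 p chart k))
  rw [← h2]
  infer_instance

include hPC hP hi hi' hr in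
lemma fibre_pi (hgen : 𝒮.IsGenDegOne) (x : P) :
    ∃ e : pullback (i' ≫ r) (P.fromSpecResidueField x) ≅
        Spec (CommRingCat.of (LaurentPolynomial (P.residueField x))),
      e.hom ≫ Spec.map (CommRingCat.ofHom (algebraMap (P.residueField x)
        (LaurentPolynomial (P.residueField x)))) =
          pullback.snd (i' ≫ r) (P.fromSpecResidueField x) := by
  obtain ⟨k, t, ht⟩ := exists_pchart 𝒮 p chart hgen x
  have hx' : x ∈ Set.range (pchart 𝒮 p chart k).base := ⟨t, ht⟩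
  let l : Spec (P.residueField x) ⟶ Spec (.of (Away (𝒮.deg k.U k.hU) k.g)) :=
    IsOpenImmersion.lift (pchart 𝒮 p chart k) (P.fromSpecResidueField x)
      (by rw [Scheme.range_fromSpecResidueField]; simpa using hx')
  have hl : l ≫ pchart 𝒮 p chart k = P.fromSpecResidueField x :=
    IsOpenImmersion.lift_fac _ _ _
  let ρ : Away (𝒮.deg k.U k.hU) k.g →+* (P.residueField x) := (Spec.preimage l).hom
  have hρ : Spec.map (CommRingCat.ofHom ρ) = l := Spec.map_preimage l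
  have po := H60AwayPoly.isPushout_away_laurent (𝒮.deg k.U k.hU) k.hg ρ
  have pb1 := isPullback_SpecMap_of_isPushout _ _ _ _ po
  have pb2 := (isPullback_pi 𝒮 𝒮h ι z hz pC chartC hPC p chart hP r hr i hi i' hi' k).flip
  have pb := pb1.paste_horiz pb2
  rw [hρ, hl] at pb
  exact ⟨pb.isoPullback.symm, pb.isoPullback_inv_snd⟩

end Pi

end Aux

/-- Let 𝒮 be a quasi-coherent positively graded O_Y-algebra with 𝒮_0 = O_Y which is generated by 𝒮_1
(over every affine open U the ring 𝒮(U) is generated by its degree-0 and degree-1 parts), Ŝ = 𝒮[z]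
(graded homomorphism ι : 𝒮 → Ŝ and a degree-one global section z, polynomial over affine opens), C =
Spec(𝒮), X = Proj(𝒮) and Ĉ = Proj(Ŝ) with their charts, E ⊆ C and Ê ⊆ Ĉ the pointed cones, i : C → Ĉ
the canonical open immersion and p : Ê → X the canonical retraction (the morphism which on each
affine piece Spec Ŝ(U)_(ι f), f ∈ 𝒮(U) homogeneous of positive degree, is Spec of 𝒮(U)_(f) → Ŝ(U)_(ι
f) followed by the chart of X). Then p is of finite type (locally of finite type and quasi-compact)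
and for every point x of X the fibre p⁻¹(x) = Ê ×_X Spec k(x) is isomorphic over k(x) to the affine
line Spec k(x)[T]; and for every factorisation i' : E → Ê of i restricted to E, the composite π = p
∘ i' : E → X is of finite type and its fibre at every x is isomorphic over k(x) to Spec k(x)[T,
T⁻¹]. -/
theorem result {Y PC P : Scheme.{u}} (𝒮 𝒮h : RelProj.QCGrAlg Y) (h0 : RelCone.StrZeroBij 𝒮)
    (hgen : 𝒮.IsGenDegOne)
    (ι : 𝒮.toQCAlg ⟶ 𝒮h.toQCAlg) (z : 𝒮h.presheaf.obj (op ⊤)) (hz : RelCone.IsPolyOver 𝒮 𝒮h ι z)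
    (pC : PC ⟶ Y)
    (chartC : ∀ (U : Y.Opens) (hU : IsAffineOpen U), (((pC ⁻¹ᵁ U : PC.Opens) : Scheme.{u}) ≅ Proj (𝒮h.deg U hU)))
    (hPC : RelProj.IsRelProj 𝒮h pC chartC)
    (p : P ⟶ Y)
    (chart : ∀ (U : Y.Opens) (hU : IsAffineOpen U), (((p ⁻¹ᵁ U : P.Opens) : Scheme.{u}) ≅ Proj (𝒮.deg U hU)))
    (hP : RelProj.IsRelProj 𝒮 p chart)
    (i : 𝒮.toQCAlg.spec ⟶ PC) (hi : RelCone.IsConeImm 𝒮 hz pC chartC i)
    (r : ((RelCone.pointedProjCone 𝒮 hz pC chartC : PC.Opens) : Scheme.{u}) ⟶ P)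
    (hr : (∀ (U : Y.Opens) (hU : IsAffineOpen U) (d : ℕ) (hd : 0 < d) (f : 𝒮.presheaf.obj (op U)) (hf : f ∈ 𝒮.deg U hU d)
        (g : Spec (CommRingCat.of (HomogeneousLocalization.Away (𝒮h.deg U hU) ((RelProj.gradedHomAt ι hz.graded U hU) f))) ⟶
          ((RelCone.pointedProjCone 𝒮 hz pC chartC : PC.Opens) : Scheme.{u})),
        g ≫ (RelCone.pointedProjCone 𝒮 hz pC chartC).ι =
            Proj.awayι (𝒮h.deg U hU) ((RelProj.gradedHomAt ι hz.graded U hU) f) ((RelProj.gradedHomAt ι hz.graded U hU).2 hf) hd ≫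
              RelProj.emb pC chartC U hU →
          g ≫ r =
            Spec.map (CommRingCat.ofHom (HomogeneousLocalization.Away.map (RelProj.gradedHomAt ι hz.graded U hU) f)) ≫
              Proj.awayι (𝒮.deg U hU) f hf hd ≫ RelProj.emb p chart U hU)) :
    (LocallyOfFiniteType r ∧ QuasiCompact r ∧
        ∀ x : ↥P, ∃ e : pullback r (P.fromSpecResidueField x) ≅ Spec (CommRingCat.of (Polynomial (P.residueField x))),
          e.hom ≫ Spec.map (CommRingCat.ofHom (algebraMap (P.residueField x) (Polynomial (P.residueField x)))) =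
            pullback.snd r (P.fromSpecResidueField x)) ∧
      ∀ i' : ((RelCone.pointedCone 𝒮 : 𝒮.toQCAlg.spec.Opens) : Scheme.{u}) ⟶
          ((RelCone.pointedProjCone 𝒮 hz pC chartC : PC.Opens) : Scheme.{u}),
        i' ≫ (RelCone.pointedProjCone 𝒮 hz pC chartC).ι = (RelCone.pointedCone 𝒮).ι ≫ i →
          LocallyOfFiniteType (i' ≫ r) ∧ QuasiCompact (i' ≫ r) ∧
        ∀ x : ↥P, ∃ e : pullback (i' ≫ r) (P.fromSpecResidueField x) ≅ Spec (CommRingCat.of (LaurentPolynomial (P.residueField x))),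
          e.hom ≫ Spec.map (CommRingCat.ofHom (algebraMap (P.residueField x) (LaurentPolynomial (P.residueField x)))) =
            pullback.snd (i' ≫ r) (P.fromSpecResidueField x) := by
  have hr' : Groth.Agent.S8308.HR 𝒮 𝒮h ι z hz pC chartC p chart r := hr
  refine ⟨⟨locallyOfFiniteType_r 𝒮 𝒮h ι z hz pC chartC hPC p chart hP r hr' hgen, ?_,
    fun x ↦ fibre_r 𝒮 𝒮h ι z hz pC chartC hPC p chart hP r hr' hgen x⟩, fun i' hi' ↦ ⟨?_, ?_, ?_⟩⟩
  · have : IsAffineHom r :=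
      Groth.Agent.S8308.isAffineHom_r 𝒮 𝒮h ι z hz pC chartC hPC p chart hP r hr'
    infer_instance
  · exact locallyOfFiniteType_pi 𝒮 𝒮h ι z hz pC chartC hPC p chart hP r hr' i hi i' hi' hgen
  · have : IsAffineHom (i' ≫ r) :=
      ((Groth.Agent.S8309.result 𝒮 𝒮h h0 ι z hz pC chartC hPC p chart hP i hi r hr).2 i' hi').1
    infer_instance
  · exact fun x ↦ fibre_pi 𝒮 𝒮h ι z hz pC chartC hPC p chart hP r hr' i hi i' hi' hgen x

end Groth.Agent.S19985
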