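import Groth.Statements.S1999
import Groth.Agent.Lib.Tame76A
import Groth.Agent.Lib.Tame76B
import Groth.Agent.Lib.Tame76C
import Groth.Agent.Lib.Tame76D
import Groth.Agent.Lib.Tame76E

set_option autoImplicit false
universe u
open scoped Pointwise
open EtAlg

namespace Groth.Agent.S1999

/-- Parts (2)–(5) in the case of part (6): let A be a discrete valuation ring with fraction field K, L/K
a finite Galois extension with group G, B the integral closure of A in L, m a maximal ideal of B
whose residue field is separable over that of A, and e the ramification index of m over A. Let D be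
the decomposition group (stabilizer of m), I the inertia group (elements acting trivially on B/m)
and P the wild inertia group, here the elements of D acting trivially on B/m² (the description valid
in the separable residue field case). Then P ≤ I, P is normal in D, P is a p-group if the residue
characteristic is p > 0 and trivial if it is 0, and I/P is cyclic of order the prime-to-p part of e
and isomorphic to a subgroup of the e-th roots of unity of B/m — more precisely to the full group of
e-th roots of unity of B/m. -/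
theorem result (A K L B : Type u) [CommRing A] [IsDomain A] [IsDiscreteValuationRing A]
    [CommRing B] [IsDomain B] [Field K] [Field L] [Algebra A K] [Algebra B L] [IsFractionRing A K] [IsFractionRing B L]
    [Algebra A B] [Algebra K L] [Algebra A L] [IsScalarTower A K L] [IsScalarTower A B L] [IsIntegralClosure B A L]
    [FiniteDimensional K L] [IsGalois K L] (m : Ideal B) [m.IsMaximal]
    [Algebra.IsSeparable (A ⧸ m.comap (algebraMap A B)) (B ⧸ m)] :
    letI := IsIntegralClosure.MulSemiringAction A K L B
    let D : Subgroup (L ≃ₐ[K] L) := MulAction.stabilizer (L ≃ₐ[K] L) m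
    let I : Subgroup (L ≃ₐ[K] L) := m.inertia (L ≃ₐ[K] L)
    let P : Subgroup (L ≃ₐ[K] L) := D ⊓ (m ^ 2).inertia (L ≃ₐ[K] L)
    let e : ℕ := Ideal.ramificationIdx' (IsLocalRing.maximalIdeal A) m
    P ≤ I ∧ I ≤ D ∧ (P.subgroupOf D).Normal ∧
    (∀ p : ℕ, p.Prime → CharP (A ⧸ m.comap (algebraMap A B)) p → IsPGroup p P) ∧
    (CharZero (A ⧸ m.comap (algebraMap A B)) → P = ⊥) ∧
    (∀ [(P.subgroupOf I).Normal],
      IsCyclic (I ⧸ P.subgroupOf I) ∧
      (∀ p : ℕ, p.Prime → CharP (A ⧸ m.comap (algebraMap A B)) p → Nat.card (I ⧸ P.subgroupOf I) = e / p ^ e.factorization p) ∧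
      (CharZero (A ⧸ m.comap (algebraMap A B)) → Nat.card (I ⧸ P.subgroupOf I) = e) ∧
      Nonempty (I ⧸ P.subgroupOf I ≃* ↥(rootsOfUnity e (B ⧸ m)))) := by
  let _ := IsIntegralClosure.MulSemiringAction A K L B
  intro D I P e
  have hDed : IsDedekindDomain B := IsIntegralClosure.isDedekindDomain A K L B
  have hfin : Module.Finite A B := IsIntegralClosure.finite A K L B
  have hint : Algebra.IsIntegral A B := IsIntegralClosure.isIntegral_algebra A L
  have hGal : IsGaloisGroup (L ≃ₐ[K] L) A B := IsGaloisGroup.of_isFractionRing _ _ _ K L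
  have hcomm : SMulCommClass (L ≃ₐ[K] L) A B := hGal.commutes
  have hfaith : FaithfulSMul (L ≃ₐ[K] L) B := hGal.faithful
  have hinj : Function.Injective (algebraMap A B) := by
    have h1 : Function.Injective (algebraMap A L) := by
      rw [IsScalarTower.algebraMap_eq A K L]
      exact (algebraMap K L).injective.comp (IsFractionRing.injective A K)
    rw [IsScalarTower.algebraMap_eq A B L] at h1
    exact Function.Injective.of_comp h1
  have hfaithAB : FaithfulSMul A B := (faithfulSMul_iff_algebraMap_injective A B).mpr hinj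
  have htf : Module.IsTorsionFree A B := inferInstance
  have hflat : Module.Flat A B := inferInstance
  -- the prime below
  have hpmax : (m.under A).IsMaximal := inferInstance
  have hunder : m.under A = IsLocalRing.maximalIdeal A := IsLocalRing.eq_maximalIdeal hpmax
  have hp0 : m.under A ≠ ⊥ := by
    rw [hunder]; exact IsDiscreteValuationRing.not_a_field A
  have hm0 : m ≠ ⊥ := Ideal.ne_bot_of_liesOver_of_ne_bot hp0 m
  -- basic inclusions
  have hPI : P ≤ I := by
    intro σ hσ x
    exact Ideal.pow_le_self (by norm_num) (hσ.2 x)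
  have hID : I ≤ D := Ideal.inertia_le_stabilizer m
  -- order of inertia
  have hcardI : Nat.card I = e := by
    have h1 := Groth.Agent.Lib.Tame76.card_inertia_eq_ramificationIdx' (G := L ≃ₐ[K] L)
      (m.under A) m
    have h2 : e = m.ramificationIdx A := by
      show Ideal.ramificationIdx' (IsLocalRing.maximalIdeal A) m = _
      rw [← hunder]
      exact Ideal.ramificationIdx'_eq_ramificationIdx (m.under A) m hp0
    rw [h2]; exact h1
  -- residue characteristic transfers
  have hresinj : Function.Injective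
      (algebraMap (A ⧸ m.comap (algebraMap A B)) (B ⧸ m)) := Ideal.algebraMap_quotient_injective
  -- wild inertia: elements of order prime to the residue characteristic are trivial
  have hwild : ∀ σ ∈ P, ∀ ℓ : ℕ, (ℓ : B) ∉ m → σ ^ ℓ = 1 → σ = 1 := by
    intro σ hσ ℓ hℓ hpow
    apply hfaith.eq_of_smul_eq_smul
    intro b
    rw [one_smul]
    exact Groth.Agent.Lib.Tame76.smul_eq_of_pow_eq_one (m := m) hσ.1 hσ.2 hℓ hpow b
  have hnat : ∀ ℓ : ℕ, ((ℓ : B) ∈ m ↔ ((ℓ : ℕ) : A ⧸ m.comap (algebraMap A B)) = 0) := by
    intro ℓ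
    rw [← Ideal.Quotient.eq_zero_iff_mem, map_natCast, ← map_natCast
      (algebraMap (A ⧸ m.comap (algebraMap A B)) (B ⧸ m)) ℓ,
      map_eq_zero_iff _ hresinj]
  have hPgrp : ∀ p : ℕ, p.Prime → CharP (A ⧸ m.comap (algebraMap A B)) p → IsPGroup p P := by
    intro p hp hchar g
    obtain ⟨σ, hσ⟩ := g
    have hord : orderOf σ ≠ 0 := (orderOf_pos σ).ne'
    obtain ⟨k, n', hn', hk⟩ := Nat.exists_eq_pow_mul_and_not_dvd hord p hp.ne_one
    refine ⟨k, ?_⟩
    apply Subtype.ext
    show σ ^ p ^ k = 1
    apply hwild (σ ^ p ^ k) (P.pow_mem hσ _) n'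
    · rw [hnat, CharP.cast_eq_zero_iff _ p]
      exact hn'
    · rw [← pow_mul, ← hk, pow_orderOf_eq_one]
  have hP0 : CharZero (A ⧸ m.comap (algebraMap A B)) → P = ⊥ := by
    intro hchar
    rw [eq_bot_iff]
    intro σ hσ
    rw [Subgroup.mem_bot]
    apply hwild σ hσ (orderOf σ)
    · rw [hnat]
      exact Nat.cast_ne_zero.mpr (orderOf_pos σ).ne'
    · exact pow_orderOf_eq_one σ
  refine ⟨hPI, hID, ?_, hPgrp, hP0, ?_⟩
  · -- normality of P in D
    refine (Subgroup.normal_subgroupOf_iff (inf_le_left)).mpr fun h n hh hn => ⟨?_, ?_⟩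
    · exact D.mul_mem (D.mul_mem hn hh.1) (D.inv_mem hn)
    · intro x
      have e1 : (n * h * n⁻¹) • x - x = n • (h • (n⁻¹ • x) - n⁻¹ • x) := by
        rw [smul_sub, mul_smul, mul_smul, smul_inv_smul]
      rw [e1]
      exact Groth.Agent.Lib.Tame76.smul_mem_pow_of_stab hn 2 (hh.2 _)
  · -- tame quotient
    intro hnormal
    obtain ⟨π, hπ⟩ := Groth.Agent.Lib.Tame76.exists_isUnif m hm0
    have hker : ∀ σ : I, Groth.Agent.Lib.Tame76.tameChar hπ σ = 1 ↔ σ ∈ P.subgroupOf I := by
      intro σ
      rw [Groth.Agent.Lib.Tame76.tameChar_eq_one_iff_of_isSeparable (A := A) hπ σ,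
        Subgroup.mem_subgroupOf]
      exact ⟨fun h => ⟨hID σ.2, h⟩, fun h => h.2⟩
    have hfinI : Finite I := inferInstance
    have hcaseP : ∀ p : ℕ, p.Prime → CharP (A ⧸ m.comap (algebraMap A B)) p →
        Nat.card (I ⧸ P.subgroupOf I) = e / p ^ e.factorization p ∧
          Nonempty (I ⧸ P.subgroupOf I ≃* ↥(rootsOfUnity e (B ⧸ m))) := by
      intro p hp hchar
      have : CharP (B ⧸ m) p := charP_of_injective_algebraMap hresinj p
      have hP' : IsPGroup p (P.subgroupOf I) := (hPgrp p hp hchar).comap_subtype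
      have := Groth.Agent.Lib.Tame76.card_quotient_of_charP _ _ hker p hp hP'
      rwa [hcardI] at this
    have hcase0 : CharZero (A ⧸ m.comap (algebraMap A B)) →
        Nat.card (I ⧸ P.subgroupOf I) = e ∧
          Nonempty (I ⧸ P.subgroupOf I ≃* ↥(rootsOfUnity e (B ⧸ m))) := by
      intro hchar
      have hP' : P.subgroupOf I = ⊥ := by
        rw [Subgroup.subgroupOf_eq_bot, hP0 hchar]; exact disjoint_bot_left
      have := Groth.Agent.Lib.Tame76.card_quotient_of_eq_bot _ _ hker hP'
      rwa [hcardI] at this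
    refine ⟨Groth.Agent.Lib.Tame76.isCyclic_quotient _ _ hker, fun p hp hchar => (hcaseP p hp hchar).1,
      fun hchar => (hcase0 hchar).1, ?_⟩
    obtain ⟨q, hq⟩ := CharP.exists (A ⧸ m.comap (algebraMap A B))
    rcases CharP.char_is_prime_or_zero (A ⧸ m.comap (algebraMap A B)) q with hq' | hq'
    · exact (hcaseP q hq' hq).2
    · subst hq'
      exact (hcase0 (CharP.charP_to_charZero _)).2

end Groth.Agent.S1999
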