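import Groth.Statements.S19994
import Groth.Agent.Lib.GaloisRing89
import Groth.Agent.Lib.H87Serre2

set_option autoImplicit false
set_option linter.style.haveILetI false
universe u v w
open WildQuot

namespace Groth.Agent.S19994

/-- Let `A` be a complete regular local ring of Krull dimension at least `2` and prime characteristic
`p`, with maximal ideal `m`; let `k` be a field with a ring map `k → A` whose composite with `A →
A/m` is onto; let `G` be a group of order `p` acting on `A` by ring automorphisms fixing the image
of `k` and ramified precisely at the origin (for every prime `P ≠ m`, the inertia subgroup of `P`,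
i.e. the elements of `G` fixing every element modulo `P`, is trivial). Then the singular locus of
`Spec A^G` is contained in the closed point: for every non-maximal prime ideal `P` of the invariant
ring `A^G`, the localization `(A^G)_P` is a regular local ring. (The published statement also
asserts that the punctured spectrum of `A` is a `G`-torsor over the punctured spectrum of `A^G`;
this row omits that clause. Together with the non-regularity of `A^G` itself, the singular locus is
exactly the closed point.) -/
theorem result
    (p : ℕ) [Fact p.Prime] (A : Type u) [CommRing A] [IsRegularLocalRing A] [CharP A p]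
    [IsAdicComplete (IsLocalRing.maximalIdeal A) A] (hdim : 2 ≤ ringKrullDim A)
    (k : Type v) [Field k] [Algebra k A]
    (hk : Function.Surjective (IsLocalRing.residue A ∘ algebraMap k A))
    (G : Type w) [Group G] [Finite G] [MulSemiringAction G A] (hcard : Nat.card G = p)
    (hGk : ∀ (σ : G) (c : k), σ • algebraMap k A c = algebraMap k A c)
    (hram : ∀ P : Ideal A, P.IsPrime → P ≠ IsLocalRing.maximalIdeal A → P.inertia G = ⊥)
    (P : Ideal (FixedPoints.subring A G)) [P.IsPrime] (hP : ¬ P.IsMaximal) :
    IsRegularLocalRing (Localization.AtPrime P) := by
  classical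
  have hint : Algebra.IsIntegral (FixedPoints.subring A G) A :=
    Groth.Agent.Lib.GaloisRing89.isIntegral_fixedPoints
  have hinj : Function.Injective (algebraMap (FixedPoints.subring A G) A) := Subtype.val_injective
  -- primes over `P` are not maximal
  have hQne : ∀ Q : Ideal A, Q.IsPrime → Q.comap (algebraMap (FixedPoints.subring A G) A) = P →
      Q ≠ IsLocalRing.maximalIdeal A := by
    intro Q _ hQc hQm
    apply hP
    rw [← hQc, hQm]
    exact Ideal.isMaximal_comap_of_isIntegral_of_isMaximal _
  obtain ⟨f, hfP, hfix⟩ := Groth.Agent.Lib.GaloisRing89.exists_denominator (A := A) (G := G) P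
    (fun Q hQ hQc => hram Q hQ (hQne Q hQ hQc))
  have := Fintype.ofFinite G
  -- the localization `A' = A_P`
  let M : Submonoid (FixedPoints.subring A G) := P.primeCompl
  let A' := Localization (Algebra.algebraMapSubmonoid A M)
  have hflat : Module.Flat (FixedPoints.subring A G) A' :=
    Groth.Agent.Lib.GaloisRing89.flat_localization M f hfP hfix A'
  -- a prime over `P`
  obtain ⟨Q, -, hQp, hQc⟩ := Ideal.exists_ideal_over_prime_of_isIntegral P (⊥ : Ideal A) (by
    intro x hx
    have : algebraMap (FixedPoints.subring A G) A x = 0 := by simpa using hx
    rw [(map_eq_zero_iff _ hinj).mp this]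
    exact zero_mem _)
  let T := Localization.AtPrime Q
  have hunits : ∀ y : Algebra.algebraMapSubmonoid A M, IsUnit (algebraMap A T y) := by
    rintro ⟨_, b, hb, rfl⟩
    refine IsLocalization.map_units T (⟨algebraMap _ A b, ?_⟩ : Q.primeCompl)
    intro hmem
    apply hb
    rw [← hQc]
    exact hmem
  letI algA'T : Algebra A' T := (IsLocalization.lift (M := Algebra.algebraMapSubmonoid A M)
    (g := algebraMap A T) hunits).toAlgebra
  have tower1 : IsScalarTower A A' T := IsScalarTower.of_algebraMap_eq (fun a => by
    rw [RingHom.algebraMap_toAlgebra, IsLocalization.lift_eq])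
  have tower2 : IsScalarTower (FixedPoints.subring A G) A' T := IsScalarTower.of_algebraMap_eq
    (fun b => by
      rw [IsScalarTower.algebraMap_apply (FixedPoints.subring A G) A T,
        IsScalarTower.algebraMap_apply (FixedPoints.subring A G) A A',
        ← IsScalarTower.algebraMap_apply A A' T])
  have hle : Algebra.algebraMapSubmonoid A M ≤ Q.primeCompl := by
    rintro _ ⟨b, hb, rfl⟩
    intro hmem
    apply hb
    rw [← hQc]
    exact hmem
  have hloc : IsLocalization (Q.primeCompl.map (algebraMap A A')) T :=
    IsLocalization.isLocalization_of_submonoid_le A' T (Algebra.algebraMapSubmonoid A M)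
      Q.primeCompl hle
  have hflat2 : Module.Flat A' T := IsLocalization.flat T (Q.primeCompl.map (algebraMap A A'))
  have hflat3 : Module.Flat (FixedPoints.subring A G) T :=
    Module.Flat.trans (FixedPoints.subring A G) A' T
  -- `T` as a `B_P`-algebra
  letI algBT : Algebra (Localization.AtPrime P) T :=
    (Localization.localRingHom P Q (algebraMap (FixedPoints.subring A G) A) hQc.symm).toAlgebra
  have tower3 : IsScalarTower (FixedPoints.subring A G) (Localization.AtPrime P) T :=
    IsScalarTower.of_algebraMap_eq (fun b => by
      rw [RingHom.algebraMap_toAlgebra, Localization.localRingHom_to_map,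
        ← IsScalarTower.algebraMap_apply])
  have hflat4 : Module.Flat (Localization.AtPrime P) T :=
    (Module.flat_iff_of_isLocalization (Localization.AtPrime P) P.primeCompl T).mpr hflat3
  have hlocal : IsLocalHom (algebraMap (Localization.AtPrime P) T) := by
    rw [RingHom.algebraMap_toAlgebra]
    exact Localization.isLocalHom_localRingHom P Q _ hQc.symm
  have hregT : IsRegularLocalRing T := Groth.Agent.Lib.H87Serre2.isRegularLocalRing_localization Q
  have hff : Module.FaithfullyFlat (Localization.AtPrime P) T :=
    Module.FaithfullyFlat.of_flat_of_isLocalHom
  have hN : IsNoetherianRing (Localization.AtPrime P) := by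
    rw [isNoetherianRing_iff_ideal_fg]
    intro I
    exact Ideal.FG.of_FG_map_of_faithfullyFlat (S := T)
      ((isNoetherianRing_iff_ideal_fg T).mp inferInstance _)
  exact Groth.Agent.Lib.H87Serre2.isRegularLocalRing_of_flat (Localization.AtPrime P) T

end Groth.Agent.S19994
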