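import Groth.Statements.S19997
import Groth.Agent.Lib.CIMonic58i
import Mathlib.RingTheory.MvPowerSeries.NoZeroDivisors

set_option autoImplicit false
universe u
open WildQuot

namespace Groth.Agent.S19997



open MvPolynomial in
/-- Let `k` be a field of characteristic `p > 0`, `n ≥ 2`, `R = k[[x_1, …, x_n]]`, `a_1, …, a_n ∈ R`
with zero constant term and pairwise coprime, `μ ∈ R` nonzero and coprime to each `a_i`, `A = R[u_1,
…, u_n] / (u_i ^ p - (μ a_i) ^ (p-1) u_i - x_i : i = 1..n)`, and `σ` the `R`-algebra automorphism of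
`A` with `σ u_i = u_i + μ a_i` for every `i` (it generates a group `G` of order `p`). Fix an index
`i₀` and let `A_ci ⊆ A` be the `R`-subalgebra generated by the minor elements `z_j = a_{i₀} u_j -
a_j u_{i₀}`, `j ≠ i₀` (these are `σ`-invariant). Then `A_ci[1/(μ a_{i₀})] = A^G[1/(μ a_{i₀})]`: for
every `σ`-invariant `t ∈ A` some power `(μ a_{i₀}) ^ N t` lies in `A_ci`. (The published statement
uses the first index for `i₀`.) -/
theorem result
    (p : ℕ) [Fact p.Prime] (k : Type u) [Field k] [CharP k p] (n : ℕ) (hn : 2 ≤ n)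
    (a : Fin n → MvPowerSeries (Fin n) k) (μ : MvPowerSeries (Fin n) k)
    (ham : ∀ i, MvPowerSeries.constantCoeff (a i) = 0) (hcop : ∀ i j, i ≠ j → IsRelPrime (a i) (a j))
    (hμ : μ ≠ 0) (hμa : ∀ i, IsRelPrime μ (a i)) (i₀ : Fin n) :
    let R := MvPowerSeries (Fin n) k
    let I : Ideal (MvPolynomial (Fin n) R) :=
      Ideal.span (Set.range fun i : Fin n =>
        X i ^ p - C ((μ * a i) ^ (p - 1)) * X i - C (MvPowerSeries.X i))
    let A := MvPolynomial (Fin n) R ⧸ I
    let u : Fin n → A := fun i => Ideal.Quotient.mk I (X i)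
    let z : {j : Fin n // j ≠ i₀} → A := fun j =>
      algebraMap R A (a i₀) * u j.1 - algebraMap R A (a j.1) * u i₀
    ∀ σ : A ≃ₐ[R] A, (∀ i, σ (u i) = u i + algebraMap R A (μ * a i)) →
      ∀ t : A, σ t = t →
        ∃ N : ℕ, algebraMap R A (μ * a i₀) ^ N * t ∈ Algebra.adjoin R (Set.range z) := by
  intro R I A u z σ hσ t ht
  classical
  have hp2 : 2 ≤ p := (Fact.out : p.Prime).two_le
  have : CharP R p := charP_of_injective_algebraMap (algebraMap k R).injective p
  -- `a i₀ ≠ 0`
  have ha0 : a i₀ ≠ 0 := by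
    intro h0
    obtain ⟨j, hj⟩ : ∃ j : Fin n, j ≠ i₀ := by
      by_contra hall
      push Not at hall
      have h1 : (⟨0, by omega⟩ : Fin n) = i₀ := hall _
      have h2 : (⟨1, by omega⟩ : Fin n) = i₀ := hall _
      have := h1.trans h2.symm
      simp [Fin.ext_iff] at this
    have h1 := hcop i₀ j (Ne.symm hj)
    rw [h0, isRelPrime_zero_left] at h1
    have h2 := MvPowerSeries.isUnit_constantCoeff _ h1
    rw [ham j] at h2
    exact not_isUnit_zero h2
  let gp : Fin n → Polynomial R := fun i =>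
    Polynomial.X ^ p - (Polynomial.C ((μ * a i) ^ (p - 1)) * Polynomial.X +
      Polynomial.C (MvPowerSeries.X i : R))
  have hlin : ∀ c d : R, (Polynomial.C c * Polynomial.X + Polynomial.C d : Polynomial R).degree <
      (p : WithBot ℕ) := fun c d =>
    lt_of_le_of_lt Polynomial.degree_linear_le (by exact_mod_cast hp2)
  have hnat : ∀ c d : R, (Polynomial.X ^ p - (Polynomial.C c * Polynomial.X + Polynomial.C d) :
      Polynomial R).natDegree = p := by
    intro c d
    have h1 : (Polynomial.X ^ p - (Polynomial.C c * Polynomial.X + Polynomial.C d) :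
        Polynomial R).degree = ((Polynomial.X : Polynomial R) ^ p).degree :=
      Polynomial.degree_sub_eq_left_of_degree_lt (by
        rw [Polynomial.degree_X_pow]; exact hlin c d)
    rw [Polynomial.degree_X_pow] at h1
    exact Polynomial.natDegree_eq_of_degree_eq_some h1
  have hmon : ∀ i, (gp i).Monic := fun i => Polynomial.monic_X_pow_sub (hlin _ _)
  have hdeg : ∀ i, 0 < (gp i).natDegree := fun i => by
    have : (gp i).natDegree = p := hnat _ _
    omega
  have hI : I = Groth.Agent.Lib.CIMonic58.ciIdeal gp := by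
    show Ideal.span _ = Ideal.span _
    congr 1
    refine congrArg Set.range (funext fun i => ?_)
    simp only [gp, map_sub, map_add, map_mul, map_pow, Polynomial.aeval_X, Polynomial.aeval_C,
      MvPolynomial.algebraMap_eq]
    ring
  have hc : μ * a i₀ ≠ 0 := mul_ne_zero hμ ha0
  have hdom : IsDomain R := NoZeroDivisors.to_isDomain (MvPowerSeries (Fin n) k)
  have hσz : ∀ j : {j : Fin n // j ≠ i₀},
      (σ : A →ₐ[R] A) (algebraMap R A (a i₀) * Ideal.Quotient.mk I (MvPolynomial.X j.1) -
        algebraMap R A (a j.1) * Ideal.Quotient.mk I (MvPolynomial.X i₀)) =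
      algebraMap R A (a i₀) * Ideal.Quotient.mk I (MvPolynomial.X j.1) -
        algebraMap R A (a j.1) * Ideal.Quotient.mk I (MvPolynomial.X i₀) := by
    intro j
    have h1 := hσ j.1
    have h2 := hσ i₀
    simp only [u] at h1 h2
    show σ (algebraMap R A (a i₀) * Ideal.Quotient.mk I (MvPolynomial.X j.1) -
        algebraMap R A (a j.1) * Ideal.Quotient.mk I (MvPolynomial.X i₀)) = _
    rw [map_sub, map_mul, map_mul, AlgEquiv.commutes, AlgEquiv.commutes, h1, h2,
      map_mul, map_mul]
    ring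
  obtain ⟨N, hN⟩ := Groth.Agent.Lib.CIMonic58.invariant_mem_adjoin_AS_of_eq gp hmon hdeg i₀ (a i₀)
    (fun j => a j.1) p I hI (μ * a i₀) hc (hnat _ _) ha0 (σ : A →ₐ[R] A) hσz (hσ i₀) t ht
  refine ⟨N, ?_⟩
  have h3 : algebraMap R A (μ * a i₀) ^ N * t =
      algebraMap R A (μ ^ N) * (algebraMap R A (a i₀ ^ N) * t) := by
    simp only [map_mul, map_pow]
    ring
  rw [h3]
  exact Subalgebra.mul_mem _ (Subalgebra.algebraMap_mem _ _) hN

end Groth.Agent.S19997
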