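import Groth.Statements.S2001

set_option autoImplicit false
universe u
open EtAlg
open TensorProduct

namespace Groth.Agent.S2001

theorem result (R R' : Type u) [CommRing R] [CommRing R'] [Algebra R R'] (f : R)
    (hRR : EtGlue.IsGlueingPair R R' f) (M N : Type u) [AddCommGroup M] [Module R M] [AddCommGroup N] [Module R N]
    (hM : EtGlue.IsGlueable R R' f M) (hN : EtGlue.IsGlueable R R' f N)
    (φ' : R' ⊗[R] M →ₗ[R'] R' ⊗[R] N)
    (φ₁ : LocalizedModule (Submonoid.powers f) M →ₗ[R] LocalizedModule (Submonoid.powers f) N)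
    (hc : ∀ m : M, EtGlue.locOfTensor R R' f N (φ' ((1 : R') ⊗ₜ[R] m)) =
      EtGlue.tensorOfLoc R R' f N (φ₁ (LocalizedModule.mkLinearMap (Submonoid.powers f) M m))) :
    ∃! ψ : M →ₗ[R] N, ψ.baseChange R' = φ' ∧
      IsLocalizedModule.map (Submonoid.powers f) (LocalizedModule.mkLinearMap (Submonoid.powers f) M)
        (LocalizedModule.mkLinearMap (Submonoid.powers f) N) ψ = φ₁ := by
  obtain ⟨hinj, hex⟩ := hN
  -- pointwise choice
  have hch : ∀ m : M, ∃ n : N, (1 : R') ⊗ₜ[R] n = φ' ((1 : R') ⊗ₜ[R] m) ∧
      LocalizedModule.mkLinearMap (Submonoid.powers f) N n =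
        φ₁ (LocalizedModule.mkLinearMap (Submonoid.powers f) M m) := fun m => hex _ _ (hc m)
  choose g hg1 hg2 using hch
  have huniq : ∀ n n' : N, (1 : R') ⊗ₜ[R] n = (1 : R') ⊗ₜ[R] n' →
      LocalizedModule.mkLinearMap (Submonoid.powers f) N n =
        LocalizedModule.mkLinearMap (Submonoid.powers f) N n' → n = n' := by
    intro n n' h1 h2
    exact hinj (Prod.ext h1 h2)
  let ψ : M →ₗ[R] N :=
    { toFun := g
      map_add' := by
        intro x y
        apply huniq
        · rw [hg1, TensorProduct.tmul_add, TensorProduct.tmul_add, map_add, hg1, hg1]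
        · rw [hg2, map_add, map_add, map_add, hg2, hg2]
      map_smul' := by
        intro r x
        apply huniq
        · rw [hg1, RingHom.id_apply, TensorProduct.tmul_smul, TensorProduct.tmul_smul,
            LinearMap.map_smul_of_tower, hg1]
        · rw [hg2, RingHom.id_apply, map_smul, map_smul, map_smul, hg2] }
  have hψ1 : ψ.baseChange R' = φ' := by
    ext m
    simp only [TensorProduct.AlgebraTensorModule.curry_apply, LinearMap.restrictScalars_self,
      TensorProduct.curry_apply]
    exact hg1 m
  have hψ2 : IsLocalizedModule.map (Submonoid.powers f)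
      (LocalizedModule.mkLinearMap (Submonoid.powers f) M)
      (LocalizedModule.mkLinearMap (Submonoid.powers f) N) ψ = φ₁ := by
    apply IsLocalizedModule.ext (Submonoid.powers f)
      (LocalizedModule.mkLinearMap (Submonoid.powers f) M)
      (IsLocalizedModule.map_units (LocalizedModule.mkLinearMap (Submonoid.powers f) N))
    ext m
    simp only [LinearMap.coe_comp, Function.comp_apply, IsLocalizedModule.map_apply]
    exact hg2 m
  refine ⟨ψ, ⟨hψ1, hψ2⟩, ?_⟩
  rintro ψ' ⟨h1, h2⟩
  ext m
  apply huniq
  · have := congrArg (fun F => F ((1 : R') ⊗ₜ[R] m)) (h1.trans hψ1.symm)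
    simpa using this
  · have := LinearMap.congr_fun (h2.trans hψ2.symm)
      (LocalizedModule.mkLinearMap (Submonoid.powers f) M m)
    rw [IsLocalizedModule.map_apply, IsLocalizedModule.map_apply] at this
    exact this

end Groth.Agent.S2001
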