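import Groth.Statements.S20015
import Mathlib.Tactic
import Groth.Agent.Lib.H26LinkCM
import Groth.Agent.Lib.H8Liaison2
import Groth.Agent.Lib.H8DoubleLink

set_option autoImplicit false
universe u
open Liaison

namespace Groth.Agent.S20015

/-- one direction of the linkage theorem. -/
theorem aux (K : Type u) [Field K] (N c : ℕ)
    (𝔠 I J : Ideal (MvPolynomial (Fin N) K))
    (h𝔠 : 𝔠.IsHomogeneous (GrSyz.stdGr K (Fin N)))
    [LocCoh.IsGorensteinRing (MvPolynomial (Fin N) K ⧸ 𝔠)] (h𝔠c : 𝔠.height = c)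
    (hIJ : 𝔠.colon (I : Set (MvPolynomial (Fin N) K)) = J)
    (hJI : 𝔠.colon (J : Set (MvPolynomial (Fin N) K)) = I)
    [LocCoh.IsCohenMacaulayRing (MvPolynomial (Fin N) K ⧸ I)] :
    LocCoh.IsCohenMacaulayRing (MvPolynomial (Fin N) K ⧸ J) := by
  classical
  haveI hcm𝔠 : LocCoh.IsCohenMacaulayRing (MvPolynomial (Fin N) K ⧸ 𝔠) :=
    Groth.Agent.Lib.H8Liaison.isCMRing_of_isGorensteinRing _
  have h𝔠J : 𝔠 ≤ J := by
    intro x hx
    rw [← hIJ, Submodule.mem_colon]
    intro y _
    exact 𝔠.mul_mem_right y hx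
  have h𝔠I : 𝔠 ≤ I := by
    intro x hx
    rw [← hJI, Submodule.mem_colon]
    intro y _
    exact 𝔠.mul_mem_right y hx
  by_cases hJ𝔠 : J ≤ 𝔠
  · have : J = 𝔠 := le_antisymm hJ𝔠 h𝔠J
    rw [this]
    exact hcm𝔠
  · -- the main case
    have hunm := Groth.Agent.Lib.H8Liaison.colon_unmixed K N c 𝔠 J h𝔠 h𝔠c hJ𝔠
    rw [hJI] at hunm
    set mk𝔠 := Ideal.Quotient.mk 𝔠 with hmk
    have hsurj : Function.Surjective mk𝔠 := Ideal.Quotient.mk_surjective
    haveI : LocCoh.IsCohenMacaulayRing ((MvPolynomial (Fin N) K ⧸ 𝔠) ⧸ I.map mk𝔠) :=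
      Groth.Agent.Lib.CMRingEquiv96.isCohenMacaulayRing_of_ringEquiv
        (DoubleQuot.quotQuotEquivQuotOfLE h𝔠I).symm
    have hmin : ∀ p ∈ (I.map mk𝔠).minimalPrimes, p.height = 0 := by
      intro p hp
      rw [Ideal.minimalPrimes_map_of_surjective hsurj, Ideal.mk_ker, sup_eq_left.mpr h𝔠I] at hp
      obtain ⟨p', hp', rfl⟩ := hp
      haveI : p'.IsPrime := hp'.1.1
      have hass : p' ∈ associatedPrimes (MvPolynomial (Fin N) K) (MvPolynomial (Fin N) K ⧸ I) := by
        apply Module.associatedPrimes.minimalPrimes_annihilator_subset_associatedPrimes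
        rw [Ideal.annihilator_quotient]
        exact hp'
      have hc := hunm.2 p' hass
      have h1 := Groth.Agent.Lib.H8DoubleLink.height_eq_add_height_map K N c 𝔠 h𝔠 h𝔠c p'
        (h𝔠I.trans hp'.1.2)
      rw [hc] at h1
      generalize (p'.map mk𝔠).height = x at h1 ⊢
      induction x using ENat.recTopCoe with
      | top => simp at h1
      | coe y =>
        have : c = c + y := by exact_mod_cast h1
        have : y = 0 := by omega
        rw [this]; rfl
    have hC := Groth.Agent.Lib.H26LinkCM.isCohenMacaulayRing_quotient_annihilator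
      (MvPolynomial (Fin N) K ⧸ 𝔠) (I.map mk𝔠) hmin
    have hann : Submodule.annihilator (I.map mk𝔠) = J.map mk𝔠 := by
      apply le_antisymm
      · intro x hx
        obtain ⟨x, rfl⟩ := hsurj x
        apply Ideal.mem_map_of_mem
        rw [← hIJ, Submodule.mem_colon]
        intro y hy
        have := (Submodule.mem_annihilator.mp hx) (mk𝔠 y) (Ideal.mem_map_of_mem _ hy)
        rw [smul_eq_mul, ← map_mul, hmk, Ideal.Quotient.eq_zero_iff_mem] at this
        exact this
      · intro x hx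
        obtain ⟨x, hxJ, rfl⟩ := (Ideal.mem_map_iff_of_surjective _ hsurj).mp hx
        rw [Submodule.mem_annihilator]
        intro y hy
        obtain ⟨y, hyI, rfl⟩ := (Ideal.mem_map_iff_of_surjective _ hsurj).mp hy
        rw [smul_eq_mul, ← map_mul, hmk, Ideal.Quotient.eq_zero_iff_mem]
        rw [← hIJ, Submodule.mem_colon] at hxJ
        exact hxJ y hyI
    rw [hann] at hC
    exact Groth.Agent.Lib.CMRingEquiv96.isCohenMacaulayRing_of_ringEquiv
      (DoubleQuot.quotQuotEquivQuotOfLE h𝔠J)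

/-- Let K be a field, R = K[x_0, …, x_n] graded by degree, c ≥ 2, 𝔠 ⊂ R a homogeneous ideal of height c
such that R/𝔠 is a Gorenstein ring, and I, J ⊂ R homogeneous ideals directly linked by 𝔠, that is 𝔠
: I = J and 𝔠 : J = I. Then R/I is a Cohen–Macaulay ring if and only if R/J is a Cohen–Macaulay
ring: of two directly linked subschemes of projective space one is arithmetically Cohen–Macaulay
exactly when the other is. (A Gorenstein ideal of the notes, one whose quotient is Cohen–Macaulay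
with last graded Betti number 1, is rendered as: the quotient ring is Gorenstein; the statement is
given at the level of homogeneous ideals, as the notes define linkage.) -/
theorem result (K : Type u) [Field K] (n c : ℕ) (hc : 2 ≤ c)
    (𝔠 I J : Ideal (MvPolynomial (Fin (n + 1)) K))
    (h𝔠 : 𝔠.IsHomogeneous (GrSyz.stdGr K (Fin (n + 1)))) (hI : I.IsHomogeneous (GrSyz.stdGr K (Fin (n + 1))))
    (hJ : J.IsHomogeneous (GrSyz.stdGr K (Fin (n + 1))))
    [LocCoh.IsGorensteinRing (MvPolynomial (Fin (n + 1)) K ⧸ 𝔠)] (h𝔠c : 𝔠.height = c)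
    (hIJ : 𝔠.colon (I : Set (MvPolynomial (Fin (n + 1)) K)) = J) (hJI : 𝔠.colon (J : Set (MvPolynomial (Fin (n + 1)) K)) = I) :
    LocCoh.IsCohenMacaulayRing (MvPolynomial (Fin (n + 1)) K ⧸ I) ↔ LocCoh.IsCohenMacaulayRing (MvPolynomial (Fin (n + 1)) K ⧸ J) := by
  constructor
  · intro _
    exact aux K (n + 1) c 𝔠 I J h𝔠 h𝔠c hIJ hJI
  · intro _
    exact aux K (n + 1) c 𝔠 J I h𝔠 h𝔠c hJI hIJ

end Groth.Agent.S20015
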