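import Groth.Statements.S20018
import Mathlib.Tactic
import Mathlib.RingTheory.PowerSeries.Trunc

set_option autoImplicit false
open CAlg

namespace Groth.Agent.S20018

open PowerSeries in
/-- Product expansion of big Witt vectors: let R be a commutative ring and x ∈ 1 + tR[[t]] a formal
power series with constant term 1. Then x can be written uniquely as an infinite product ∏_{i ≥ 1}
(1 - α_i t^i) with α_i ∈ R. The infinite product is expressed through its truncations: there is a
unique sequence α : ℕ → R (α i standing for the coefficient attached to t^{i+1}) such that for every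
N the series x and the finite product ∏_{i=0}^{N} (1 - α_i t^{i+1}) agree modulo t^{N+2}. -/
theorem result
    (R : Type*) [CommRing R] (x : PowerSeries R) (hx : PowerSeries.constantCoeff x = 1) :
    ∃! α : ℕ → R, ∀ N : ℕ,
      PowerSeries.trunc (N + 2) x =
        PowerSeries.trunc (N + 2) (∏ i ∈ Finset.range (N + 1),
          (1 - PowerSeries.C (α i) * PowerSeries.X ^ (i + 1) : PowerSeries R)) := by
  classical
  have hcoef : ∀ (s : PowerSeries R) (c : R) (n j : ℕ),
      PowerSeries.coeff j (s * (1 - PowerSeries.C c * PowerSeries.X ^ n)) =
        PowerSeries.coeff j s - (if n ≤ j then c * PowerSeries.coeff (j - n) s else 0) := by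
    intro s c n j
    rw [mul_sub, mul_one, map_sub, ← mul_assoc, mul_comm s (PowerSeries.C c), mul_assoc,
      PowerSeries.coeff_C_mul, PowerSeries.coeff_mul_X_pow']
    split_ifs <;> simp
  have htr : ∀ (n : ℕ) (a b : PowerSeries R), PowerSeries.trunc n a = PowerSeries.trunc n b ↔
      ∀ m < n, PowerSeries.coeff m a = PowerSeries.coeff m b := by
    intro n a b
    constructor
    · intro h m hm
      have := congrArg (fun q => Polynomial.coeff q m) h
      simpa [PowerSeries.coeff_trunc, hm] using this
    · intro h
      ext m
      rw [PowerSeries.coeff_trunc, PowerSeries.coeff_trunc]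
      split_ifs with hm
      · exact h m hm
      · rfl
  let s : ℕ → PowerSeries R := fun N => Nat.rec 1
    (fun N sN => sN * (1 - PowerSeries.C (PowerSeries.coeff (N + 1) sN - PowerSeries.coeff (N + 1) x) *
      PowerSeries.X ^ (N + 1))) N
  let α : ℕ → R := fun N => PowerSeries.coeff (N + 1) (s N) - PowerSeries.coeff (N + 1) x
  have hs_succ : ∀ N, s (N + 1) = s N * (1 - PowerSeries.C (α N) * PowerSeries.X ^ (N + 1)) :=
    fun N => rfl
  have hs_zero : s 0 = 1 := rfl
  have hs_prod : ∀ N, s N = ∏ i ∈ Finset.range N,
      (1 - PowerSeries.C (α i) * PowerSeries.X ^ (i + 1) : PowerSeries R) := by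
    intro N
    induction N with
    | zero => simp [hs_zero]
    | succ N ih => rw [Finset.prod_range_succ, ← ih, hs_succ]
  have hs0 : ∀ N, PowerSeries.coeff 0 (s N) = 1 := by
    intro N
    induction N with
    | zero => simp [hs_zero]
    | succ N ih => rw [hs_succ, hcoef, ih]; simp
  have hx0 : PowerSeries.coeff 0 x = 1 := by
    rw [PowerSeries.coeff_zero_eq_constantCoeff_apply]; exact hx
  have hex : ∀ N, ∀ j < N + 1, PowerSeries.coeff j x = PowerSeries.coeff j (s N) := by
    intro N
    induction N with
    | zero =>
      intro j hj
      have : j = 0 := by omega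
      subst this
      rw [hx0, hs0]
    | succ N ih =>
      intro j hj
      rw [hs_succ, hcoef]
      by_cases hjN : j < N + 1
      · rw [if_neg (by omega), sub_zero]
        exact ih j hjN
      · have hj' : j = N + 1 := by omega
        subst hj'
        rw [if_pos le_rfl, Nat.sub_self, hs0, mul_one]
        simp only [α]
        ring
  refine ⟨α, ?_, ?_⟩
  · intro N
    rw [htr, ← hs_prod]
    intro m hm
    exact hex (N + 1) m (by omega)
  · intro β hβ
    funext N
    induction N using Nat.strong_induction_on with
    | _ N ih =>
      have h1 := (htr _ _ _).mp (hβ N) (N + 1) (by omega)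
      rw [Finset.prod_range_succ] at h1
      have h2 : ∏ i ∈ Finset.range N,
          (1 - PowerSeries.C (β i) * PowerSeries.X ^ (i + 1) : PowerSeries R) = s N := by
        rw [hs_prod]
        apply Finset.prod_congr rfl
        intro i hi
        rw [ih i (Finset.mem_range.mp hi)]
      rw [h2, hcoef, if_pos le_rfl, Nat.sub_self, hs0, mul_one] at h1
      simp only [α]
      rw [h1]
      ring

end Groth.Agent.S20018
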