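import Groth.Statements.S2002
import Groth.Agent.S2004
import Groth.Agent.S2005
import Groth.Agent.Lib.EtGlueQuot
import Mathlib.RingTheory.Flat.Equalizer
import Mathlib.RingTheory.Flat.Stability
import Mathlib.RingTheory.Flat.Localization
import Mathlib.RingTheory.Flat.Tensor
import Mathlib.RingTheory.Localization.Module

set_option autoImplicit false
universe u
open TensorProduct
open EtAlg

namespace Groth.Agent.S2002

section Helpers

open Function

section General

variable {R : Type u} [CommRing R]

/-- (G): if `A ⊗[R] M` is `A`-flat then `- ⊗[R] M` preserves injective `A`-linear maps between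
`A`-modules. -/
lemma rTensor_injective_of_flat_baseChange (A : Type u) [CommRing A] [Algebra R A]
    (M : Type u) [AddCommGroup M] [Module R M] [Module.Flat A (A ⊗[R] M)]
    {X Y : Type u} [AddCommGroup X] [Module R X] [Module A X] [IsScalarTower R A X]
    [AddCommGroup Y] [Module R Y] [Module A Y] [IsScalarTower R A Y]
    (μ : X →ₗ[A] Y) (hμ : Injective μ) : Injective ((μ.restrictScalars R).rTensor M) := by
  have h1 : Injective (μ.rTensor (A ⊗[R] M)) :=
    Module.Flat.rTensor_preserves_injective_linearMap μ hμ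
  let eX := TensorProduct.AlgebraTensorModule.cancelBaseChange R A A X M
  let eY := TensorProduct.AlgebraTensorModule.cancelBaseChange R A A Y M
  have hcomm : ∀ z, (μ.restrictScalars R).rTensor M (eX z) = eY (μ.rTensor (A ⊗[R] M) z) := by
    intro z
    induction z using TensorProduct.induction_on with
    | zero => simp
    | tmul x w =>
      induction w using TensorProduct.induction_on with
      | zero => simp
      | tmul a m => simp [eX, eY]
      | add w₁ w₂ h₁ h₂ => simp only [TensorProduct.tmul_add, map_add, h₁, h₂]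
    | add z₁ z₂ h₁ h₂ => simp only [map_add, h₁, h₂]
  intro z₁ z₂ h
  obtain ⟨w₁, rfl⟩ := eX.surjective z₁
  obtain ⟨w₂, rfl⟩ := eX.surjective z₂
  rw [hcomm, hcomm] at h
  rw [h1 (eY.injective h)]

/-- `Tor₁(T, M) = 0` for `A`-modules `T`, if `Tor₁(A, M) = 0` and `A ⊗ M` is `A`-flat. -/
lemma lTensor_injective_of_flat_baseChange (A : Type u) [CommRing A] [Algebra R A]
    {K F M : Type u} [AddCommGroup K] [Module R K] [AddCommGroup F] [Module R F]
    [AddCommGroup M] [Module R M] [Module.Flat A (A ⊗[R] M)]
    (ι : K →ₗ[R] F) (π : F →ₗ[R] M) (hπ : Surjective π) (hex : Exact ι π)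
    (hιA : Injective (ι.lTensor A))
    (T : Type u) [AddCommGroup T] [Module R T] [Module A T] [IsScalarTower R A T] :
    Injective (ι.lTensor T) := by
  have h1 : Injective ((ι.baseChange A).lTensor T) := by
    refine LinearMap.lTensor_injective_of_exact_of_flat (π.baseChange A) ?_ (ι.baseChange A) ?_ ?_ T
    · intro y
      obtain ⟨x, hx⟩ := LinearMap.lTensor_surjective A hπ y
      exact ⟨x, hx⟩
    · exact hιA
    · exact lTensor_exact A hex hπ
  let eK := TensorProduct.AlgebraTensorModule.cancelBaseChange R A A T K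
  let eF := TensorProduct.AlgebraTensorModule.cancelBaseChange R A A T F
  have hcomm : ∀ z, ι.lTensor T (eK z) = eF ((ι.baseChange A).lTensor T z) := by
    intro z
    induction z using TensorProduct.induction_on with
    | zero => simp
    | tmul x w =>
      induction w using TensorProduct.induction_on with
      | zero => simp
      | tmul a m => simp [eK, eF]
      | add w₁ w₂ h₁ h₂ => simp only [TensorProduct.tmul_add, map_add, h₁, h₂]
    | add z₁ z₂ h₁ h₂ => simp only [map_add, h₁, h₂]
  intro z₁ z₂ h
  obtain ⟨w₁, rfl⟩ := eK.surjective z₁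
  obtain ⟨w₂, rfl⟩ := eK.surjective z₂
  rw [hcomm, hcomm] at h
  rw [h1 (eF.injective h)]

end General


section Pair

variable {R R' : Type u} [CommRing R] [CommRing R'] [Algebra R R'] {f : R}

/-- glueing pair: `R → R'` is injective on `f`-power torsion. -/
lemma eq_zero_of_torsion_of_algebraMap_eq_zero (hRR : EtGlue.IsGlueingPair R R' f) (x : R)
    (hx : ∃ n : ℕ, f ^ n * x = 0) (h : algebraMap R R' x = 0) : x = 0 :=
  ((Groth.Agent.S2004.result R R' f hRR.1).mp hRR).1 x hx h

/-- On a free module, `m ↦ 1 ⊗ m` is injective on `f`-power torsion (glueing pair). -/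
lemma finsupp_eq_zero_of_tmul_eq_zero (hRR : EtGlue.IsGlueingPair R R' f) {α : Type u}
    (x : α →₀ R) (hx : ∃ n : ℕ, f ^ n • x = 0) (h : (1 : R') ⊗ₜ[R] x = 0) : x = 0 := by
  ext a
  apply eq_zero_of_torsion_of_algebraMap_eq_zero hRR (x a)
  · obtain ⟨n, hn⟩ := hx
    refine ⟨n, ?_⟩
    have := congrArg (fun y : α →₀ R => y a) hn
    simpa using this
  · have h1 := congrArg ((Finsupp.lapply (R := R) (M := R) a).lTensor R') h
    rw [LinearMap.lTensor_tmul, map_zero] at h1
    have h2 := congrArg (TensorProduct.rid R R') h1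
    simpa [Algebra.smul_def] using h2

/-- `f`-power torsion `T`: `t ↦ 1 ⊗ t` is bijective. -/
lemma mk_bijective_of_torsion (hq : EtGlue.QuotPowBijective R R' f)
    (T : Type u) [AddCommGroup T] [Module R T] (hT : ∀ t : T, ∃ n : ℕ, f ^ n • t = 0) :
    Bijective (TensorProduct.mk R R' T 1) := by
  constructor
  · rw [injective_iff_map_eq_zero]
    intro t ht
    exact Groth.Agent.Lib.EtGlueQuot.eq_zero_of_one_tmul_eq_zero hq T hT t ht
  · intro z
    induction z using TensorProduct.induction_on with
    | zero => exact ⟨0, map_zero _⟩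
    | tmul r' t =>
      obtain ⟨n, hn⟩ := hT t
      obtain ⟨a, c, hc⟩ := Groth.Agent.Lib.EtGlueQuot.quot_surj hq (n + 1) (Nat.succ_pos n) r'
      refine ⟨a • t, ?_⟩
      have hn' : f ^ (n + 1) • t = 0 := by rw [pow_succ, mul_comm, mul_smul, hn, smul_zero]
      have h2 : (c * (algebraMap R R') (f ^ (n + 1))) ⊗ₜ[R] t = (0 : R' ⊗[R] T) := by
        rw [mul_comm, ← Algebra.smul_def, TensorProduct.smul_tmul, hn', TensorProduct.tmul_zero]
      have h3 : (algebraMap R R') a ⊗ₜ[R] t = (1 : R') ⊗ₜ[R] (a • t) := by
        rw [Algebra.algebraMap_eq_smul_one, TensorProduct.smul_tmul]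
      rw [TensorProduct.mk_apply, hc, TensorProduct.add_tmul, ← map_pow, h2, h3, add_zero]
    | add z₁ z₂ h₁ h₂ =>
      obtain ⟨t₁, rfl⟩ := h₁
      obtain ⟨t₂, rfl⟩ := h₂
      exact ⟨t₁ + t₂, map_add _ _ _⟩

/-- On a free module, `m ↦ 1 ⊗ m` is injective on `f`-power torsion (glueing pair). -/
lemma free_eq_zero_of_tmul_eq_zero (hRR : EtGlue.IsGlueingPair R R' f) {F : Type u}
    [AddCommGroup F] [Module R F] [Module.Free R F]
    (x : F) (hx : ∃ n : ℕ, f ^ n • x = 0) (h : (1 : R') ⊗ₜ[R] x = 0) : x = 0 := by
  let b := Module.Free.chooseBasis R F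
  apply b.repr.injective
  rw [map_zero]
  apply finsupp_eq_zero_of_tmul_eq_zero hRR
  · obtain ⟨n, hn⟩ := hx
    exact ⟨n, by rw [← map_smul, hn, map_zero]⟩
  · have := congrArg (b.repr.toLinearMap.lTensor R') h
    rw [LinearMap.lTensor_tmul, map_zero] at this
    exact this

/-- existence of a free presentation with abstract carrier types -/
lemma exists_presentation (M : Type u) [AddCommGroup M] [Module R M] :
    ∃ (K F : Type u) (_ : AddCommGroup K) (_ : Module R K) (_ : AddCommGroup F) (_ : Module R F)
      (ι : K →ₗ[R] F) (π : F →ₗ[R] M),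
      Module.Free R F ∧ Injective ι ∧ Surjective π ∧ Exact ι π := by
  let π : (M →₀ R) →ₗ[R] M := Finsupp.linearCombination R (id : M → M)
  refine ⟨LinearMap.ker π, M →₀ R, inferInstance, inferInstance, inferInstance, inferInstance,
    (LinearMap.ker π).subtype, π, inferInstance, Submodule.subtype_injective _,
    Finsupp.linearCombination_surjective _ Function.surjective_id,
    LinearMap.exact_subtype_ker_map _⟩

variable {M : Type u} [AddCommGroup M] [Module R M]
variable {K F : Type u} [AddCommGroup K] [Module R K] [AddCommGroup F] [Module R F]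
variable (ι : K →ₗ[R] F) (π : F →ₗ[R] M)

lemma flat_away_tensor (f : R)
    [Module.Flat (Localization.Away f) (LocalizedModule (Submonoid.powers f) M)] :
    Module.Flat (Localization.Away f) (Localization.Away f ⊗[R] M) :=
  Module.Flat.of_linearEquiv (LocalizedModule.equivTensorProduct (Submonoid.powers f) M).symm

/-- (L): `Tor₁(A, M) = 0` for `R_f`-modules `A` if `M_f` is flat over `R_f`. -/
lemma lTensor_injective_away (f : R)
    (hπ : Surjective π) (hex : Exact ι π) (hι : Injective ι)
    [Module.Flat (Localization.Away f) (LocalizedModule (Submonoid.powers f) M)]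
    (A : Type u) [AddCommGroup A] [Module R A] [Module (Localization.Away f) A]
    [IsScalarTower R (Localization.Away f) A] :
    Injective (ι.lTensor A) := by
  have := flat_away_tensor (M := M) f
  have : Module.Flat R (Localization.Away f) := IsLocalization.flat _ (Submonoid.powers f)
  refine lTensor_injective_of_flat_baseChange (Localization.Away f) ι π hπ hex ?_ A
  exact Module.Flat.lTensor_preserves_injective_linearMap _ hι

/-- Step 1: `Tor₁(R', M) = 0`. -/
lemma tor_one_vanish (hRR : EtGlue.IsGlueingPair R R' f) [Module.Free R F]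
    (hπ : Surjective π) (hex : Exact ι π) (hι : Injective ι)
    [Module.Flat (Localization.Away f) (LocalizedModule (Submonoid.powers f) M)] :
    Injective (ι.lTensor R') := by
  rw [injective_iff_map_eq_zero]
  intro z hz
  let g : R' →ₗ[R] LocalizedModule (Submonoid.powers f) R' :=
    LocalizedModule.mkLinearMap (Submonoid.powers f) R'
  -- (a) `z` is `f`-power torsion
  have h1 : (g.rTensor K) z = 0 := by
    apply lTensor_injective_away ι π f hπ hex hι (LocalizedModule (Submonoid.powers f) R')
    rw [map_zero, ← LinearMap.comp_apply, LinearMap.lTensor_comp_rTensor,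
      ← LinearMap.rTensor_comp_lTensor, LinearMap.comp_apply, hz, map_zero]
  have hloc : IsLocalizedModule (Submonoid.powers f)
    (TensorProduct.AlgebraTensorModule.rTensor R K g) := inferInstance
  have h2 : TensorProduct.AlgebraTensorModule.rTensor R K g z = 0 := h1
  obtain ⟨⟨_, n, rfl⟩, hn⟩ := (IsLocalizedModule.eq_zero_iff (Submonoid.powers f) _).mp h2
  -- (b) so it comes from a torsion element of `K`
  obtain ⟨k, ⟨n', hk⟩, rfl⟩ :=
    Groth.Agent.S2005.torsion_surj_of_glueingPair hRR K z ⟨n, hn⟩
  -- (c) which dies in the free module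
  rw [LinearMap.lTensor_tmul] at hz
  have h3 : ι k = 0 :=
    free_eq_zero_of_tmul_eq_zero hRR _ ⟨n', by rw [← map_smul, hk, map_zero]⟩ hz
  have h4 : k = 0 := hι (h3.trans (map_zero ι).symm)
  rw [h4, TensorProduct.tmul_zero]


end Pair

section Pair2

variable {R R' : Type u} [CommRing R] [CommRing R'] [Algebra R R'] {f : R}

/-- a bijective linear map stays injective after `- ⊗ K`. -/
lemma rTensor_injective_of_bijective {T T' : Type u} [AddCommGroup T] [Module R T]
    [AddCommGroup T'] [Module R T'] (e : T →ₗ[R] T') (he : Bijective e)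
    (K : Type u) [AddCommGroup K] [Module R K] : Injective (e.rTensor K) := by
  let e' := LinearEquiv.ofBijective e he
  have h : (e'.symm.toLinearMap.rTensor K) ∘ₗ (e.rTensor K) = LinearMap.id := by
    rw [← LinearMap.rTensor_comp]
    have : e'.symm.toLinearMap ∘ₗ e = LinearMap.id := by
      ext t
      exact e'.symm_apply_apply t
    rw [this, LinearMap.rTensor_id]
  intro z₁ z₂ hz
  have := congrArg (e'.symm.toLinearMap.rTensor K) hz
  rw [← LinearMap.comp_apply, ← LinearMap.comp_apply, h] at this
  exact this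

variable {M : Type u} [AddCommGroup M] [Module R M]
variable {K F : Type u} [AddCommGroup K] [Module R K] [AddCommGroup F] [Module R F]
variable (ι : K →ₗ[R] F) (π : F →ₗ[R] M)

/-- Step 2: `Tor₁(T, M) = 0` for `f`-power torsion `T`. -/
lemma lTensor_injective_of_torsion (hRR : EtGlue.IsGlueingPair R R' f) [Module.Free R F]
    (hπ : Surjective π) (hex : Exact ι π) (hι : Injective ι)
    [Module.Flat R' (R' ⊗[R] M)]
    [Module.Flat (Localization.Away f) (LocalizedModule (Submonoid.powers f) M)]
    (T : Type u) [AddCommGroup T] [Module R T] (hT : ∀ t : T, ∃ n : ℕ, f ^ n • t = 0) :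
    Injective (ι.lTensor T) := by
  have h2 := tor_one_vanish ι π hRR hπ hex hι
  have h3 := lTensor_injective_of_flat_baseChange R' ι π hπ hex h2 (R' ⊗[R] T)
  have he := mk_bijective_of_torsion hRR.1 T hT
  rw [injective_iff_map_eq_zero]
  intro z hz
  apply rTensor_injective_of_bijective (TensorProduct.mk R R' T 1) he K
  rw [map_zero]
  apply h3
  rw [map_zero, ← LinearMap.comp_apply, LinearMap.lTensor_comp_rTensor,
    ← LinearMap.rTensor_comp_lTensor, LinearMap.comp_apply, hz, map_zero]

/-- Step 3: if `L / N` is `f`-power torsion then `N ⊗ M → L ⊗ M` is injective. -/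
lemma rTensor_injective_of_torsion_coker_aux (hRR : EtGlue.IsGlueingPair R R' f)
    [Module.Free R F]
    (hπ : Surjective π) (hex : Exact ι π) (hι : Injective ι)
    [Module.Flat R' (R' ⊗[R] M)]
    [Module.Flat (Localization.Away f) (LocalizedModule (Submonoid.powers f) M)]
    {N L : Type u} [AddCommGroup N] [Module R N] [AddCommGroup L] [Module R L]
    (i : N →ₗ[R] L) (hi : Injective i)
    (hL : ∀ l : L, ∃ n : ℕ, f ^ n • l ∈ LinearMap.range i) :
    Injective (i.rTensor M) := by
  let p : L →ₗ[R] L ⧸ LinearMap.range i := (LinearMap.range i).mkQ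
  have hp : Surjective p := Submodule.mkQ_surjective _
  have hip : Exact i p := LinearMap.exact_map_mkQ_range i
  have hT : ∀ t : L ⧸ LinearMap.range i, ∃ n : ℕ, f ^ n • t = 0 := by
    intro t
    obtain ⟨l, rfl⟩ := hp t
    obtain ⟨n, hn⟩ := hL l
    refine ⟨n, ?_⟩
    rw [← map_smul]
    exact (Submodule.Quotient.mk_eq_zero _).mpr hn
  have hιT := lTensor_injective_of_torsion ι π hRR hπ hex hι (L ⧸ LinearMap.range i) hT
  have hiF : Injective (i.rTensor F) :=
    Module.Flat.rTensor_preserves_injective_linearMap i hi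
  rw [injective_iff_map_eq_zero]
  intro x hx
  obtain ⟨x', rfl⟩ := LinearMap.lTensor_surjective N hπ x
  -- the image of x' in L ⊗ F comes from L ⊗ K
  have h1 : π.lTensor L (i.rTensor F x') = 0 := by
    rw [← LinearMap.comp_apply, LinearMap.lTensor_comp_rTensor, ← LinearMap.rTensor_comp_lTensor,
      LinearMap.comp_apply, hx]
  obtain ⟨l, hl⟩ := (lTensor_exact L hex hπ _).mp h1
  -- l dies in T ⊗ K
  have h2 : p.rTensor K l = 0 := by
    apply hιT
    rw [map_zero, ← LinearMap.comp_apply, LinearMap.lTensor_comp_rTensor,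
      ← LinearMap.rTensor_comp_lTensor, LinearMap.comp_apply, hl, ← LinearMap.comp_apply,
      ← LinearMap.rTensor_comp]
    have : p ∘ₗ i = 0 := by
      ext n
      exact hip.apply_apply_eq_zero n
    rw [this, LinearMap.rTensor_zero, LinearMap.zero_apply]
  obtain ⟨b, hb⟩ := (rTensor_exact K hip hp _).mp h2
  have h3 : ι.lTensor N b = x' := by
    apply hiF
    rw [← hl, ← hb, ← LinearMap.comp_apply, ← LinearMap.comp_apply, LinearMap.rTensor_comp_lTensor,
      LinearMap.lTensor_comp_rTensor]
  rw [← h3, ← LinearMap.comp_apply, ← LinearMap.lTensor_comp]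
  have : π ∘ₗ ι = 0 := by
    ext k
    exact hex.apply_apply_eq_zero k
  rw [this, LinearMap.lTensor_zero, LinearMap.zero_apply]

/-- Step 3, presentation-free. -/
lemma rTensor_injective_of_torsion_coker (hRR : EtGlue.IsGlueingPair R R' f)
    (M : Type u) [AddCommGroup M] [Module R M]
    [Module.Flat R' (R' ⊗[R] M)]
    [Module.Flat (Localization.Away f) (LocalizedModule (Submonoid.powers f) M)]
    {N L : Type u} [AddCommGroup N] [Module R N] [AddCommGroup L] [Module R L]
    (i : N →ₗ[R] L) (hi : Injective i)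
    (hL : ∀ l : L, ∃ n : ℕ, f ^ n • l ∈ LinearMap.range i) :
    Injective (i.rTensor M) := by
  obtain ⟨K, F, _, _, _, _, ι, π, hF, hι, hπ, hex⟩ := exists_presentation (R := R) M
  exact rTensor_injective_of_torsion_coker_aux ι π hRR hπ hex hι i hi hL

/-- (E''): for an `f`-power torsion ideal `T₀ ↪ R`, `T₀ ⊗ M → R ⊗ M` is injective. -/
lemma rTensor_injective_of_torsion_ideal (hRR : EtGlue.IsGlueingPair R R' f)
    (M : Type u) [AddCommGroup M] [Module R M]
    [Module.Flat R' (R' ⊗[R] M)]
    {T₀ : Type u} [AddCommGroup T₀] [Module R T₀] (a : T₀ →ₗ[R] R) (ha : Injective a)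
    (hT : ∀ t : T₀, ∃ n : ℕ, f ^ n • t = 0) : Injective (a.rTensor M) := by
  let e : T₀ →ₗ[R] R' ⊗[R] T₀ := TensorProduct.mk R R' T₀ 1
  have he : Bijective e := mk_bijective_of_torsion hRR.1 T₀ hT
  let μ : R' ⊗[R] T₀ →ₗ[R'] R' := LinearMap.liftBaseChange R' ((Algebra.linearMap R R').comp a)
  have hμe : ∀ t, μ (e t) = algebraMap R R' (a t) := by
    intro t
    simp [μ, e]
  have hμ : Injective μ := by
    rw [injective_iff_map_eq_zero]
    intro x hx
    obtain ⟨t, rfl⟩ := he.2 x
    rw [hμe] at hx
    have h1 : a t = 0 := by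
      apply eq_zero_of_torsion_of_algebraMap_eq_zero hRR _ _ hx
      obtain ⟨n, hn⟩ := hT t
      refine ⟨n, ?_⟩
      rw [← smul_eq_mul, ← map_smul, hn, map_zero]
    have h2 : t = 0 := ha (h1.trans (map_zero a).symm)
    rw [h2, map_zero]
  have hG := rTensor_injective_of_flat_baseChange (R := R) R' M μ hμ
  rw [injective_iff_map_eq_zero]
  intro y hy
  apply rTensor_injective_of_bijective e he M
  rw [map_zero]
  apply hG
  rw [map_zero, ← LinearMap.comp_apply, ← LinearMap.rTensor_comp]
  have : (μ.restrictScalars R) ∘ₗ e = (Algebra.linearMap R R') ∘ₗ a := by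
    ext t
    exact hμe t
  rw [this, LinearMap.rTensor_comp, LinearMap.comp_apply, hy, map_zero]


end Pair2

section Pair3

variable {R R' : Type u} [CommRing R] [CommRing R'] [Algebra R R'] {f : R}

/-- Step 4: the converse direction. -/
theorem flat_of_flat_of_flat (hRR : EtGlue.IsGlueingPair R R' f)
    (M : Type u) [AddCommGroup M] [Module R M]
    [Module.Flat R' (R' ⊗[R] M)]
    [Module.Flat (Localization.Away f) (LocalizedModule (Submonoid.powers f) M)] :
    Module.Flat R M := by
  rw [Module.Flat.iff_rTensor_injective']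
  intro I
  rw [injective_iff_map_eq_zero]
  intro x hx
  let g : I →ₗ[R] LocalizedModule (Submonoid.powers f) I :=
    LocalizedModule.mkLinearMap (Submonoid.powers f) I
  let T₀ : Submodule R I := LinearMap.ker g
  let g' : I →ₗ[R] I ⧸ T₀ := T₀.mkQ
  let n : I ⧸ T₀ →ₗ[R] LocalizedModule (Submonoid.powers f) I := T₀.liftQ g le_rfl
  have hg' : Surjective g' := Submodule.mkQ_surjective _
  have hn : Injective n := by
    rw [← LinearMap.ker_eq_bot]
    exact Submodule.ker_liftQ_eq_bot _ _ _ le_rfl
  have hNg : n ∘ₗ g' = g := Submodule.liftQ_mkQ _ _ _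
  -- Step 3: `N ⊗ M ↪ L ⊗ M`
  have h3 : Injective (n.rTensor M) := by
    have hN2 : ∀ l : LocalizedModule (Submonoid.powers f) I,
        ∃ k : ℕ, f ^ k • l ∈ LinearMap.range n := by
      intro l
      obtain ⟨⟨a, ⟨_, k, rfl⟩⟩, h⟩ := IsLocalizedModule.surj (Submonoid.powers f) g l
      refine ⟨k, g' a, ?_⟩
      rw [← LinearMap.comp_apply, hNg]
      exact h.symm
    have h := rTensor_injective_of_torsion_coker hRR M (N := I ⧸ T₀)
      (L := LocalizedModule (Submonoid.powers f) I) n hn hN2
    exact h
  -- 4.2: `x` dies in `L ⊗ M`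
  let μ : LocalizedModule (Submonoid.powers f) I →ₗ[Localization.Away f]
      LocalizedModule (Submonoid.powers f) R := LocalizedModule.map (Submonoid.powers f) I.subtype
  have hμ : Injective μ :=
    LocalizedModule.map_injective (Submonoid.powers f) I.subtype (Submodule.subtype_injective _)
  have hflat := flat_away_tensor (M := M) f
  have hG := rTensor_injective_of_flat_baseChange (R := R) (Localization.Away f) M μ hμ
  have h42 : g.rTensor M x = 0 := by
    apply hG
    rw [map_zero, ← LinearMap.comp_apply, ← LinearMap.rTensor_comp]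
    have : (μ.restrictScalars R) ∘ₗ g =
        (LocalizedModule.mkLinearMap (Submonoid.powers f) R) ∘ₗ I.subtype := by
      ext a
      simp [μ, g]
    rw [this, LinearMap.rTensor_comp, LinearMap.comp_apply, hx, map_zero]
  -- 4.3
  have h43 : g'.rTensor M x = 0 := by
    have h5 : n.rTensor M (g'.rTensor M x) = n.rTensor M 0 := by
      rw [map_zero, ← LinearMap.comp_apply, ← LinearMap.rTensor_comp, hNg]
      exact h42
    exact h3 h5
  have hex : Exact T₀.subtype g' := LinearMap.exact_subtype_mkQ T₀
  have hexM : Exact (T₀.subtype.rTensor M) (g'.rTensor M) := rTensor_exact M hex hg'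
  obtain ⟨y, hy⟩ := (hexM x).mp h43
  -- 4.4
  let a : T₀ →ₗ[R] R := I.subtype ∘ₗ T₀.subtype
  have ha : Injective a :=
    (Submodule.subtype_injective _).comp (Submodule.subtype_injective _)
  have hT : ∀ t : T₀, ∃ k : ℕ, f ^ k • t = 0 := by
    rintro ⟨t, ht⟩
    have h1 : g t = 0 := LinearMap.mem_ker.mp ht
    obtain ⟨⟨_, k, rfl⟩, hk⟩ := (IsLocalizedModule.eq_zero_iff (Submonoid.powers f) g).mp h1
    exact ⟨k, Subtype.ext hk⟩
  have h44 := rTensor_injective_of_torsion_ideal hRR M a ha hT
  have hy0 : y = 0 := by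
    apply h44
    rw [map_zero]
    change (I.subtype ∘ₗ T₀.subtype).rTensor M y = 0
    rw [LinearMap.rTensor_comp, LinearMap.comp_apply, hy, hx]
  rw [← hy, hy0, map_zero]


end Pair3

end Helpers

/-- Let (R -> R', f) be a glueing pair and M any R-module. Then M is flat over R if and only if R' ⊗_R M
is flat over R' and M_f is flat over R_f. -/
theorem result (R R' : Type u) [CommRing R] [CommRing R'] [Algebra R R'] (f : R)
    (hRR : EtGlue.IsGlueingPair R R' f) (M : Type u) [AddCommGroup M] [Module R M] :
    Module.Flat R M ↔ Module.Flat R' (R' ⊗[R] M) ∧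
      Module.Flat (Localization.Away f) (LocalizedModule (Submonoid.powers f) M) := by
  constructor
  · intro h
    exact ⟨inferInstance, inferInstance⟩
  · rintro ⟨h1, h2⟩
    exact flat_of_flat_of_flat hRR M

end Groth.Agent.S2002
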