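import Groth.Statements.S20022
import Groth.Agent.S13229

set_option autoImplicit false
universe u
open GrLC

namespace Groth.Agent.S20022

open DirectSum in
/-- The span of a set of homogeneous elements is a homogeneous submodule. -/
theorem decompose_mem_span {R : Type u} [CommRing R] (𝒜 : ℤ → AddSubgroup R) [GradedRing 𝒜]
    {M : Type u} [AddCommGroup M] [Module R M] (ℳ : ℤ → AddSubgroup M)
    [DirectSum.Decomposition ℳ] [SetLike.GradedSMul 𝒜 ℳ] (S : Set M)
    (hS : ∀ x ∈ S, SetLike.IsHomogeneousElem ℳ x) {x : M} (hx : x ∈ Submodule.span R S) :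
    ∀ n : ℤ, (decompose ℳ x n : M) ∈ Submodule.span R S := by
  classical
  refine Submodule.span_induction ?_ ?_ ?_ ?_ hx
  · intro y hy n
    obtain ⟨k, hk⟩ := hS y hy
    by_cases hkn : k = n
    · subst hkn
      rw [decompose_of_mem_same ℳ hk]
      exact Submodule.subset_span hy
    · rw [decompose_of_mem_ne ℳ hk hkn]
      exact zero_mem _
  · intro n
    rw [decompose_zero]
    exact zero_mem _
  · intro y z _ _ hy hz n
    rw [decompose_add, DirectSum.add_apply, AddSubgroup.coe_add]
    exact add_mem (hy n) (hz n)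
  · intro r y _ hy n
    have hr : r = ∑ i ∈ (decompose 𝒜 r).support, (decompose 𝒜 r i : R) :=
      (sum_support_decompose 𝒜 r).symm
    rw [hr, Finset.sum_smul, decompose_sum, DFinsupp.finsetSum_apply,
      AddSubmonoidClass.coe_finsetSum]
    refine Submodule.sum_mem _ fun i _ => ?_
    rw [Groth.Agent.S13229.decompose_smul_left' 𝒜 ℳ (decompose 𝒜 r i).2 y n]
    exact Submodule.smul_mem _ _ (hy _)

/-- Let R be a commutative ℤ-graded ring whose degree-zero subring R_0 is a field k and which is the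
Laurent polynomial ring k[T, T⁻¹] on a homogeneous invertible element T of positive degree d, in the
following intrinsic sense: T is a unit lying in R_d, and every nonzero homogeneous element of degree
n equals a·T^j for some a ∈ R_0 and some integer j with j·d = n (so R_n = 0 unless d divides n, and
R_{jd} = k·T^j). Then every graded R-module M is free in the graded sense: M has an R-basis
consisting of homogeneous elements. (The other case of condition (2), R = k concentrated in degree
zero, is not included.) -/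
theorem result (R : Type u) [CommRing R]
    (𝒜 : ℤ → AddSubgroup R) [GradedRing 𝒜] (h0 : IsField (GrLC.deg0 𝒜))
    (d : ℤ) (hd : 0 < d) (T : Rˣ) (hT : (T : R) ∈ 𝒜 d)
    (hA : ∀ (n : ℤ) (x : R), x ∈ 𝒜 n → x ≠ 0 →
      ∃ j : ℤ, ∃ a ∈ 𝒜 0, j * d = n ∧ x = a * ((T ^ j : Rˣ) : R))
    (M : Type u) [AddCommGroup M] [Module R M] (ℳ : ℤ → AddSubgroup M)
    [DirectSum.Decomposition ℳ] [SetLike.GradedSMul 𝒜 ℳ] :
    ∃ (κ : Type u) (b : Module.Basis κ R M), ∀ i : κ, SetLike.IsHomogeneousElem ℳ (b i) := by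
  classical
  have hunit : ∀ (n : ℤ) (x : R), x ∈ 𝒜 n → x ≠ 0 → IsUnit x := by
    intro n x hx hx0
    obtain ⟨j, a, ha, -, rfl⟩ := hA n x hx hx0
    have ha0 : a ≠ 0 := by
      rintro rfl
      exact hx0 (zero_mul _)
    have hne : (⟨a, ha⟩ : GrLC.deg0 𝒜) ≠ 0 := fun h => ha0 (congrArg Subtype.val h)
    obtain ⟨z, hz⟩ := h0.mul_inv_cancel hne
    have hau : IsUnit a := IsUnit.of_mul_eq_one (z : R) (congrArg Subtype.val hz)
    exact hau.mul (T ^ j).isUnit
  obtain ⟨s, hs, hmax⟩ := exists_maximal_linearIndepOn R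
    (Subtype.val : {m : M // SetLike.IsHomogeneousElem ℳ m} → M)
  have hShom : ∀ x ∈ (Subtype.val '' s : Set M), SetLike.IsHomogeneousElem ℳ x := by
    rintro _ ⟨y, -, rfl⟩
    exact y.2
  have hspanhom : ∀ m : {m : M // SetLike.IsHomogeneousElem ℳ m},
      (m : M) ∈ Submodule.span R (Subtype.val '' s : Set M) := by
    intro m
    by_cases hms : m ∈ s
    · exact Submodule.subset_span ⟨m, hms, rfl⟩
    · obtain ⟨a, ha0, ham⟩ := hmax m hms
      obtain ⟨n₀, hn₀⟩ := m.2
      obtain ⟨δ, hδ⟩ : ∃ δ : ℤ, (DirectSum.decompose 𝒜 a δ : R) ≠ 0 := by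
        by_contra hcon
        push Not at hcon
        apply ha0
        rw [← DirectSum.sum_support_decompose 𝒜 a]
        exact Finset.sum_eq_zero fun i _ => hcon i
      have h1 := decompose_mem_span 𝒜 ℳ _ hShom ham (δ + n₀)
      rw [Groth.Agent.S13229.decompose_smul_right' 𝒜 ℳ hn₀ a (δ + n₀), add_sub_cancel_right] at h1
      obtain ⟨w, hw⟩ := hunit δ _ (DirectSum.decompose 𝒜 a δ).2 hδ
      have h2 : (m : M) = (↑w⁻¹ : R) • ((DirectSum.decompose 𝒜 a δ : R) • (m : M)) := by
        rw [← hw, smul_smul, Units.inv_mul, one_smul]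
      rw [h2]
      exact Submodule.smul_mem _ _ h1
  have hspan : ⊤ ≤ Submodule.span R (Set.range fun i : s => ((i : {m : M // SetLike.IsHomogeneousElem ℳ m}) : M)) := by
    have hrange : (Set.range fun i : s => ((i : {m : M // SetLike.IsHomogeneousElem ℳ m}) : M)) =
        (Subtype.val '' s : Set M) := by
      ext x
      constructor
      · rintro ⟨i, rfl⟩
        exact ⟨i.1, i.2, rfl⟩
      · rintro ⟨y, hy, rfl⟩
        exact ⟨⟨y, hy⟩, rfl⟩
    rw [hrange]
    intro x _
    rw [← DirectSum.sum_support_decompose ℳ x]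
    exact Submodule.sum_mem _ fun n _ =>
      hspanhom ⟨(DirectSum.decompose ℳ x n : M), ⟨n, (DirectSum.decompose ℳ x n).2⟩⟩
  have hli : LinearIndependent R
      (fun i : s => ((i : {m : M // SetLike.IsHomogeneousElem ℳ m}) : M)) := hs
  refine ⟨s, Module.Basis.mk hli hspan, fun i => ?_⟩
  rw [Module.Basis.mk_apply]
  exact i.1.2

end Groth.Agent.S20022
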