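import Groth.Statements.S20025
import Mathlib
import Groth.Agent.S19393
-- import your own Groth.Agent.* helpers here

set_option autoImplicit false
universe u
open InvQ

namespace Groth.Agent.S20025

open W4c6intromoduli
open Groth.Agent.S19393

section
variable {k : Type u} [Field k]

theorem prop_of_cross (a b c d : k) (h1 : a ≠ 0 ∨ b ≠ 0) (h2 : c ≠ 0 ∨ d ≠ 0)
    (h : a * d = c * b) : ∃ s : k, s ≠ 0 ∧ a = s * c ∧ b = s * d := by
  by_cases hc : c = 0
  · subst hc
    have hd : d ≠ 0 := by
      rcases h2 with h2 | h2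
      · exact absurd rfl h2
      · exact h2
    have ha : a = 0 := by
      have : a * d = 0 := by rw [h]; ring
      exact (mul_eq_zero.1 this).resolve_right hd
    subst ha
    have hb : b ≠ 0 := by
      rcases h1 with h1 | h1
      · exact absurd rfl h1
      · exact h1
    exact ⟨b / d, div_ne_zero hb hd, by ring, by field_simp⟩
  · refine ⟨a / c, ?_, by field_simp, ?_⟩
    · intro h0
      have ha : a = 0 := by
        rcases div_eq_zero_iff.1 h0 with h | h
        · exact h
        · exact absurd h hc
      subst ha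
      have : c * b = 0 := by rw [← h]; ring
      rcases mul_eq_zero.1 this with h | h
      · exact hc h
      · rcases h1 with h1 | h1
        · exact h1 rfl
        · exact h1 h
    · field_simp
      linear_combination -h

noncomputable def g1 : MvPolynomial (Fin 2) k :=
  MvPolynomial.X 0 ^ 2 * MvPolynomial.X 1 * (MvPolynomial.X 0 - MvPolynomial.X 1)

noncomputable def g2 : MvPolynomial (Fin 2) k := MvPolynomial.X 0 ^ 2 * MvPolynomial.X 1 ^ 2

theorem binForm_std1 : binForm (![0, 0, -1, 1] : Fin 4 → k) ![1, 1, 0, 1] = g1 := by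
  simp only [binForm, Fin.prod_univ_four, g1, Matrix.cons_val_zero, Matrix.cons_val_one,
    Matrix.cons_val, map_zero, map_one, map_neg, zero_mul, sub_zero, one_mul]
  ring

theorem binForm_std2 : binForm (![0, 0, -1, -1] : Fin 4 → k) ![1, 1, 0, 0] = g2 := by
  simp only [binForm, Fin.prod_univ_four, g2, Matrix.cons_val_zero, Matrix.cons_val_one,
    Matrix.cons_val, map_zero, map_one, map_neg, zero_mul, sub_zero, one_mul]
  ring

theorem eqv_of_scaled (M : Matrix (Fin 2) (Fin 2) k) (la mu la2 mu2 s : Fin 4 → k)
    (hM : M.det ≠ 0) (hs : ∀ i, s i ≠ 0)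
    (h1 : ∀ i, la i * M 1 1 - mu i * M 0 1 = s i * la2 i)
    (h2 : ∀ i, mu i * M 0 0 - la i * M 1 0 = s i * mu2 i) :
    Eqv (binForm la mu) (binForm la2 mu2) := by
  have hprod : (∏ i, s i) ≠ 0 := Finset.prod_ne_zero_iff.2 fun i _ => hs i
  refine ⟨M, (∏ i, s i)⁻¹, isUnit_iff_ne_zero.2 hM, inv_ne_zero hprod, ?_⟩
  rw [binForm_subst_scaled M la mu la2 mu2 s h1 h2, ← mul_assoc, ← map_mul, inv_mul_cancel₀ hprod,
    map_one, one_mul]

theorem core (la mu : Fin 4 → k) (hne : ∀ i, la i ≠ 0 ∨ mu i ≠ 0)
    (h01 : la 0 * mu 1 = la 1 * mu 0)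
    (h02 : la 0 * mu 2 ≠ la 2 * mu 0) (h03 : la 0 * mu 3 ≠ la 3 * mu 0) :
    Eqv g1 (binForm la mu) ∨ Eqv g2 (binForm la mu) := by
  obtain ⟨s1, hs1, e1, e2⟩ := prop_of_cross (la 0) (mu 0) (la 1) (mu 1) (hne 0) (hne 1) h01
  have hb02 : la 0 * mu 2 - mu 0 * la 2 ≠ 0 := by
    intro h
    apply h02
    linear_combination h
  have hb03 : la 0 * mu 3 - mu 0 * la 3 ≠ 0 := by
    intro h
    apply h03
    linear_combination h
  by_cases h23 : la 2 * mu 3 = la 3 * mu 2
  · right
    obtain ⟨s3, hs3, e3, e4⟩ := prop_of_cross (la 2) (mu 2) (la 3) (mu 3) (hne 2) (hne 3) h23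
    rw [← binForm_std2]
    refine eqv_of_scaled !![mu 0, -la 0; mu 2, -la 2] _ _ la mu ![1, s1, 1, s3] ?_ ?_ ?_ ?_
    · rw [Matrix.det_fin_two_of]
      intro h
      apply hb02
      linear_combination h
    · intro i
      fin_cases i <;> simp [hs1, hs3]
    · intro i
      fin_cases i <;> simp <;> first | exact e1 | exact e3
    · intro i
      fin_cases i <;> simp <;> first | exact e2 | exact e4
  · left
    have hb23 : la 3 * mu 2 - mu 3 * la 2 ≠ 0 := by
      intro h
      apply h23
      linear_combination -h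
    rw [← binForm_std1]
    set s0 := la 3 * mu 2 - mu 3 * la 2 with hs0
    set s2 := -(la 0 * mu 3 - mu 0 * la 3) with hs2
    have hs2' : s2 ≠ 0 := neg_ne_zero.2 hb03
    refine eqv_of_scaled !![s0 * mu 0, -(s0 * la 0); s2 * mu 2, -(s2 * la 2)] _ _ la mu
      ![s0, s0 * s1, s2, la 0 * mu 2 - mu 0 * la 2] ?_ ?_ ?_ ?_
    · rw [Matrix.det_fin_two_of]
      have : s0 * mu 0 * -(s2 * la 2) - -(s0 * la 0) * (s2 * mu 2) =
          s0 * s2 * (la 0 * mu 2 - mu 0 * la 2) := by ring
      rw [this]
      exact mul_ne_zero (mul_ne_zero hb23 hs2') hb02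
    · intro i
      fin_cases i
      · exact hb23
      · exact mul_ne_zero hb23 hs1
      · exact hs2'
      · exact hb02
    · intro i
      fin_cases i
      · simp
      · simp
        rw [e1]
        ring
      · simp
      · simp [hs0, hs2]
        ring
    · intro i
      fin_cases i
      · simp
      · simp
        rw [e2]
        ring
      · simp
      · simp [hs0, hs2]
        ring

theorem not_both (h : Eqv (g2 : MvPolynomial (Fin 2) k) g1) : False := by
  obtain ⟨M, c, hM, hc, heq⟩ := h
  have hsub : subst M (g2 : MvPolynomial (Fin 2) k) =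
      (MvPolynomial.C (M 0 0) * MvPolynomial.X 0 + MvPolynomial.C (M 0 1) * MvPolynomial.X 1) ^ 2 *
      (MvPolynomial.C (M 1 0) * MvPolynomial.X 0 + MvPolynomial.C (M 1 1) * MvPolynomial.X 1) ^ 2 := by
    unfold g2
    rw [map_mul, map_pow, map_pow, subst_X, subst_X]
  rw [hsub] at heq
  have ev : ∀ v : Fin 2 → k, v 0 ^ 2 * v 1 * (v 0 - v 1) =
      c * ((M 0 0 * v 0 + M 0 1 * v 1) ^ 2 * (M 1 0 * v 0 + M 1 1 * v 1) ^ 2) := by
    intro v
    have := congrArg (MvPolynomial.eval v) heq
    simpa [g1] using this
  have hdet : M 0 0 * M 1 1 - M 0 1 * M 1 0 ≠ 0 := by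
    rw [← Matrix.det_fin_two]
    exact hM.ne_zero
  have e1 := ev ![0, 1]
  have e2 := ev ![1, 0]
  have e3 := ev ![1, 1]
  simp at e1 e2 e3
  rcases e1 with e1 | e1
  · exact hc e1
  rcases e2 with e2 | e2
  · exact hc e2
  rcases e3 with e3 | e3
  · exact hc e3
  rcases e1 with e1 | e1
  · -- M 0 1 = 0
    rcases e2 with e2 | e2
    · apply hdet
      rw [e1, e2]
      ring
    · rcases e3 with e3 | e3
      · apply hdet
        have : M 0 0 = 0 := by
          rw [e1, add_zero] at e3
          exact e3
        rw [this, e1]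
        ring
      · apply hdet
        have : M 1 1 = 0 := by
          rw [e2, zero_add] at e3
          exact e3
        rw [this, e1]
        ring
  · -- M 1 1 = 0
    rcases e2 with e2 | e2
    · rcases e3 with e3 | e3
      · apply hdet
        have : M 0 1 = 0 := by
          rw [e2, zero_add] at e3
          exact e3
        rw [this, e1]
        ring
      · apply hdet
        have : M 1 0 = 0 := by
          rw [e1, add_zero] at e3
          exact e3
        rw [this, e1]
        ring
    · apply hdet
      rw [e1, e2]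
      ring

theorem exists_perm : ∀ i j : Fin 4, i ≠ j → ∃ π : Equiv.Perm (Fin 4), π 0 = i ∧ π 1 = j := by
  decide

theorem binForm_perm (la mu : Fin 4 → k) (π : Equiv.Perm (Fin 4)) :
    binForm (la ∘ π) (mu ∘ π) = binForm la mu := by
  unfold binForm
  exact Equiv.prod_comp π (fun i => MvPolynomial.C (mu i) * MvPolynomial.X 0 -
    MvPolynomial.C (la i) * MvPolynomial.X 1)

end

/-- For the special fibre of the invariant map, over a field in which 2 and 3 are nonzero, consider a
split binary quartic f = ∏_i (μ_i X₀ − λ_i X₁) given by four root points (λ_i, μ_i) ≠ (0, 0), with a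
double zero (vanishing discriminant ∏_{i<j} (λ_j μ_i − λ_i μ_j)²) and no triple zero (no three root
points pairwise proportional); these are the forms of the fibre over the special point P³/Q² = 6 of
the invariant map. Then exactly one of the two alternatives holds: f is a nonzero constant times the
form X₀² X₁ (X₀ − X₁) after an invertible linear substitution of the variables, or f is a nonzero
constant times X₀² X₁² after such a substitution. So this fibre consists of exactly two classes
under substitutions and scalars (one double zero and two simple zeros; two double zeros). (The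
dimensions of the two orbits and which of them is open or closed in the fibre are not part of this
row; stated for split forms over any such field.) -/
theorem result (k : Type u) [Field k]
    (h2 : (2 : k) ≠ 0) (h3 : (3 : k) ≠ 0) (la mu : Fin 4 → k)
    (hne : ∀ i, la i ≠ 0 ∨ mu i ≠ 0) (hd : W4c6intromoduli.disc la mu = 0)
    (h3z : ∀ i j l : Fin 4, i ≠ j → j ≠ l → i ≠ l →
      ¬ (la i * mu j = la j * mu i ∧ la j * mu l = la l * mu j)) :
    Xor
      (∃ (M : Matrix (Fin 2) (Fin 2) k) (c : k), IsUnit M.det ∧ c ≠ 0 ∧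
        W4c6intromoduli.binForm la mu =
          MvPolynomial.C c * W4c6intromoduli.subst M
            (MvPolynomial.X 0 ^ 2 * MvPolynomial.X 1 * (MvPolynomial.X 0 - MvPolynomial.X 1)))
      (∃ (M : Matrix (Fin 2) (Fin 2) k) (c : k), IsUnit M.det ∧ c ≠ 0 ∧
        W4c6intromoduli.binForm la mu =
          MvPolynomial.C c * W4c6intromoduli.subst M
            (MvPolynomial.X 0 ^ 2 * MvPolynomial.X 1 ^ 2)) := by
  have hex : Eqv g1 (binForm la mu) ∨ Eqv g2 (binForm la mu) := by
    unfold W4c6intromoduli.disc at hd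
    rw [Finset.prod_eq_zero_iff] at hd
    obtain ⟨p, hp, hp0⟩ := hd
    have hlt : p.1 < p.2 := (Finset.mem_filter.1 hp).2
    have hij : p.1 ≠ p.2 := ne_of_lt hlt
    have hcross : la p.1 * mu p.2 = la p.2 * mu p.1 := by
      have := pow_eq_zero_iff (two_ne_zero) |>.1 hp0
      linear_combination -this
    obtain ⟨π, hπ0, hπ1⟩ := exists_perm p.1 p.2 hij
    have hinj := π.injective
    rw [← binForm_perm la mu π]
    apply core
    · intro i
      exact hne (π i)
    · simp only [Function.comp_apply, hπ0, hπ1]
      exact hcross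
    · simp only [Function.comp_apply]
      intro h
      refine h3z (π 1) (π 0) (π 2) ?_ ?_ ?_ ⟨?_, h⟩
      · exact fun e => absurd (hinj e) (by decide)
      · exact fun e => absurd (hinj e) (by decide)
      · exact fun e => absurd (hinj e) (by decide)
      · rw [hπ0, hπ1]
        exact hcross.symm
    · simp only [Function.comp_apply]
      intro h
      refine h3z (π 1) (π 0) (π 3) ?_ ?_ ?_ ⟨?_, h⟩
      · exact fun e => absurd (hinj e) (by decide)
      · exact fun e => absurd (hinj e) (by decide)
      · exact fun e => absurd (hinj e) (by decide)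
      · rw [hπ0, hπ1]
        exact hcross.symm
  have hnot : ¬ (Eqv g1 (binForm la mu) ∧ Eqv g2 (binForm la mu)) := by
    rintro ⟨ha, hb⟩
    exact not_both (hb.trans ha.symm)
  rcases hex with h | h
  · exact Or.inl ⟨h, fun h' => hnot ⟨h, h'⟩⟩
  · exact Or.inr ⟨h, fun h' => hnot ⟨h', h⟩⟩

end Groth.Agent.S20025
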