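import Groth.Statements.S2003
import Groth.Agent.Lib.GluePairProj

set_option autoImplicit false
universe u
open TensorProduct
open EtAlg

namespace Groth.Agent.S2003

/-- Let (R -> R', f) be a glueing pair and M any R-module. Then M is finite projective over R exactly
when both of its base changes are: R' ⊗_R M over R', and M_f over R_f. -/
theorem result (R R' : Type u) [CommRing R] [CommRing R'] [Algebra R R'] (f : R)
    (hRR : EtGlue.IsGlueingPair R R' f) (M : Type u) [AddCommGroup M] [Module R M] :
    (Module.Finite R M ∧ Module.Projective R M) ↔
      (Module.Finite R' (R' ⊗[R] M) ∧ Module.Projective R' (R' ⊗[R] M)) ∧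
      (Module.Finite (Localization.Away f) (LocalizedModule (Submonoid.powers f) M) ∧
        Module.Projective (Localization.Away f) (LocalizedModule (Submonoid.powers f) M)) := by
  constructor
  · rintro ⟨h1, h2⟩
    refine ⟨⟨inferInstance, inferInstance⟩, inferInstance, ?_⟩
    exact Module.Projective.of_equiv
      (IsLocalizedModule.isBaseChange (Submonoid.powers f) (Localization.Away f)
        (LocalizedModule.mkLinearMap (Submonoid.powers f) M)).equiv
  · rintro ⟨⟨h1, h2⟩, h3, h4⟩
    have hfin : Module.Finite R M := (Groth.Agent.S2006.result R R' f hRR.1 M).mpr ⟨h1, h3⟩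
    have hfl : Module.Flat R M :=
      Groth.Agent.Lib.GluePairFlat.flat_of_glueingPair M hRR inferInstance inferInstance
    refine ⟨hfin, ?_⟩
    obtain ⟨n, p, hp⟩ := Module.Finite.exists_fin' R M
    have hfp1 : Module.FinitePresentation R' (R' ⊗[R] M) :=
      Module.finitePresentation_of_projective _ _
    have hfp2 : Module.FinitePresentation (Localization.Away f)
        (LocalizedModule (Submonoid.powers f) M) :=
      Module.finitePresentation_of_projective _ _
    have hK : Module.Finite R (LinearMap.ker p) :=
      Groth.Agent.Lib.GluePairProj.finite_ker_of_glueingPair M hRR inferInstance p hp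
    have hfp : Module.FinitePresentation R M :=
      Module.finitePresentation_of_free_of_surjective p hp (Module.Finite.iff_fg.mp hK)
    exact Module.Flat.projective_of_finitePresentation

end Groth.Agent.S2003
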