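import Groth.Statements.S2008
import Groth.Agent.Lib.FormalGlue18
import Mathlib.RingTheory.Flat.FaithfullyFlat.Algebra
import Mathlib.RingTheory.TensorProduct.Quotient
import Mathlib.RingTheory.LocalRing.ResidueField.Ideal
import Mathlib.Algebra.Module.Torsion.Basic
import Mathlib.RingTheory.Flat.Stability

set_option autoImplicit false
universe u
open TensorProduct
open EtAlg

namespace Groth.Agent.S2008

set_option maxHeartbeats 400000

section aux

open TensorProduct

variable {R S : Type u} [CommRing R] [CommRing S] [Algebra R S] (I : Ideal R)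

lemma flatQ [Module.Flat R S] : Module.Flat (R ⧸ I) (S ⧸ I.map (algebraMap R S)) := by
  have h1 : Module.Flat (R ⧸ I) ((R ⧸ I) ⊗[R] S) := Module.Flat.baseChange R (R ⧸ I) S
  exact Module.Flat.of_linearEquiv
    (Algebra.TensorProduct.quotIdealMapEquivQuotTensor S I).toLinearEquiv

lemma two_three [Module.Flat R S]
    (hsurj : Function.Surjective (PrimeSpectrum.comap (Ideal.quotientMap (I.map (algebraMap R S))
      (algebraMap R S) Ideal.le_comap_map)))
    (M : Type u) [AddCommGroup M] [Module R M] (hM : ∀ (a : R) (m : M), a ∈ I → a • m = 0)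
    [Nontrivial M] : Nontrivial (S ⊗[R] M) := by
  by_contra hnt
  rw [not_nontrivial_iff_subsingleton] at hnt
  obtain ⟨m, hm⟩ := exists_ne (0 : M)
  let J : Ideal R := Ideal.torsionOf R M m
  have hIJ : I ≤ J := fun a ha => (Ideal.mem_torsionOf_iff m a).mpr (hM a m ha)
  have hJ : J ≠ ⊤ := by
    intro h
    have : (1 : R) ∈ J := h ▸ Submodule.mem_top
    rw [Ideal.mem_torsionOf_iff, one_smul] at this
    exact hm this
  obtain ⟨𝔪, h𝔪max, hJ𝔪⟩ := Ideal.exists_le_maximal J hJ
  have hker : RingHom.ker (Ideal.Quotient.mk I) ≤ 𝔪 := by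
    rw [Ideal.mk_ker]; exact hIJ.trans hJ𝔪
  have hPprime : (𝔪.map (Ideal.Quotient.mk I)).IsPrime :=
    Ideal.map_isPrime_of_surjective Ideal.Quotient.mk_surjective hker
  obtain ⟨Q, hQ⟩ := hsurj ⟨𝔪.map (Ideal.Quotient.mk I), hPprime⟩
  have hQ' : Q.asIdeal.comap (Ideal.quotientMap (I.map (algebraMap R S))
      (algebraMap R S) Ideal.le_comap_map) = 𝔪.map (Ideal.Quotient.mk I) :=
    congrArg PrimeSpectrum.asIdeal hQ
  let q : Ideal S := Q.asIdeal.comap (Ideal.Quotient.mk (I.map (algebraMap R S)))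
  have hqprime : q.IsPrime := Ideal.comap_isPrime _ _
  have hJq : J.map (algebraMap R S) ≤ q := by
    rw [Ideal.map_le_iff_le_comap]
    intro a ha
    have h1 : Ideal.Quotient.mk I a ∈ Q.asIdeal.comap (Ideal.quotientMap (I.map (algebraMap R S))
        (algebraMap R S) Ideal.le_comap_map) := by
      rw [hQ']; exact Ideal.mem_map_of_mem _ (hJ𝔪 ha)
    rw [Ideal.mem_comap, Ideal.quotientMap_mk] at h1
    exact h1
  -- `S ⊗ R/J` embeds into `S ⊗ M`
  let g : (R ⧸ J) →ₗ[R] M :=
    (Submodule.span R {m}).subtype ∘ₗ (Ideal.quotTorsionOfEquivSpanSingleton R M m).toLinearMap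
  have hg : Function.Injective g :=
    (Submodule.injective_subtype _).comp (Ideal.quotTorsionOfEquivSpanSingleton R M m).injective
  have hg' : Function.Injective (g.lTensor S) :=
    Module.Flat.lTensor_preserves_injective_linearMap g hg
  have hsub : Subsingleton (S ⊗[R] (R ⧸ J)) := hg'.subsingleton
  have hsub' : Subsingleton (S ⧸ J.map (algebraMap R S)) :=
    (Algebra.TensorProduct.quotIdealMapEquivTensorQuot S J).injective.subsingleton
  have htop : J.map (algebraMap R S) = ⊤ := Ideal.Quotient.subsingleton_iff.mp hsub'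
  exact hqprime.ne_top (top_le_iff.mp (htop ▸ hJq))

lemma three_two [Module.Flat R S]
    (h3 : ∀ (M : Type u) [AddCommGroup M] [Module R M], (∀ (a : R) (m : M), a ∈ I → a • m = 0) →
        Nontrivial M → Nontrivial (S ⊗[R] M)) :
    Function.Surjective (PrimeSpectrum.comap (Ideal.quotientMap (I.map (algebraMap R S))
      (algebraMap R S) Ideal.le_comap_map)) := by
  intro P
  let p : PrimeSpectrum R := PrimeSpectrum.comap (Ideal.Quotient.mk I) P
  have hIp : I ≤ p.asIdeal := by
    intro a ha
    change Ideal.Quotient.mk I a ∈ P.asIdeal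
    rw [Ideal.Quotient.eq_zero_iff_mem.mpr ha]
    exact P.asIdeal.zero_mem
  have hk : ∀ (a : R) (x : p.asIdeal.ResidueField), a ∈ I → a • x = 0 := by
    intro a x ha
    rw [Algebra.smul_def, Ideal.algebraMap_residueField_eq_zero.mpr (hIp ha), zero_mul]
  have hnt : Nontrivial (S ⊗[R] p.asIdeal.ResidueField) := h3 _ hk inferInstance
  have hnt' : Nontrivial (p.asIdeal.ResidueField ⊗[R] S) :=
    (TensorProduct.comm R S p.asIdeal.ResidueField).symm.toEquiv.nontrivial
  obtain ⟨q, hq⟩ := p.nontrivial_iff_mem_rangeComap.mp hnt'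
  have hq' : q.asIdeal.comap (algebraMap R S) = p.asIdeal := congrArg PrimeSpectrum.asIdeal hq
  have hISq : I.map (algebraMap R S) ≤ q.asIdeal := by
    rw [Ideal.map_le_iff_le_comap, hq']; exact hIp
  have hker : RingHom.ker (Ideal.Quotient.mk (I.map (algebraMap R S))) ≤ q.asIdeal := by
    rw [Ideal.mk_ker]; exact hISq
  have hQprime : (q.asIdeal.map (Ideal.Quotient.mk (I.map (algebraMap R S)))).IsPrime :=
    Ideal.map_isPrime_of_surjective Ideal.Quotient.mk_surjective hker
  refine ⟨⟨q.asIdeal.map (Ideal.Quotient.mk (I.map (algebraMap R S))), hQprime⟩, ?_⟩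
  apply PrimeSpectrum.comap_injective_of_surjective (Ideal.Quotient.mk I)
    Ideal.Quotient.mk_surjective
  apply PrimeSpectrum.ext
  change ((q.asIdeal.map (Ideal.Quotient.mk (I.map (algebraMap R S)))).comap
    (Ideal.quotientMap (I.map (algebraMap R S)) (algebraMap R S) Ideal.le_comap_map)).comap
      (Ideal.Quotient.mk I) = p.asIdeal
  rw [Ideal.comap_comap]
  have hcomp : (Ideal.quotientMap (I.map (algebraMap R S)) (algebraMap R S)
      Ideal.le_comap_map).comp (Ideal.Quotient.mk I) =
      (Ideal.Quotient.mk (I.map (algebraMap R S))).comp (algebraMap R S) := by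
    ext a
    simp
  rw [hcomp, ← Ideal.comap_comap, Ideal.comap_map_of_surjective _ Ideal.Quotient.mk_surjective,
    ← RingHom.ker_eq_comap_bot, sup_eq_left.mpr hker, hq']

lemma three_four [Module.Flat R S]
    (h3 : ∀ (M : Type u) [AddCommGroup M] [Module R M], (∀ (a : R) (m : M), a ∈ I → a • m = 0) →
        Nontrivial M → Nontrivial (S ⊗[R] M))
    (M : Type u) [AddCommGroup M] [Module R M] (hM : ∀ m : M, ∃ n : ℕ, ∀ a ∈ I ^ n, a • m = 0)
    [Nontrivial M] : Nontrivial (S ⊗[R] M) := by
  classical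
  obtain ⟨m, hm⟩ := exists_ne (0 : M)
  -- a nonzero element killed by `I`
  obtain ⟨m', hm'0, hm'I⟩ : ∃ m' : M, m' ≠ 0 ∧ ∀ a ∈ I, a • m' = 0 := by
    have hex := hM m
    obtain ⟨n, hn, hmin⟩ : ∃ n : ℕ, (∀ a ∈ I ^ n, a • m = 0) ∧
        ∀ k < n, ¬ ∀ a ∈ I ^ k, a • m = 0 :=
      ⟨Nat.find hex, Nat.find_spec hex, fun k hk => Nat.find_min hex hk⟩
    rcases Nat.eq_zero_or_pos n with h0 | hpos
    · exfalso
      have := hn 1 (by rw [h0, pow_zero, Ideal.one_eq_top]; trivial)
      rw [one_smul] at this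
      exact hm this
    · have hmin' := hmin (n - 1) (Nat.sub_lt hpos one_pos)
      obtain ⟨b, hb⟩ := not_forall.mp hmin'
      obtain ⟨hb1, hb2⟩ := Classical.not_imp.mp hb
      refine ⟨b • m, hb2, fun a ha => ?_⟩
      rw [← mul_smul]
      apply hn
      have h2 : I ^ (n - 1) * I ≤ I ^ n := by
        rw [← pow_succ, Nat.sub_add_cancel hpos]
      apply h2
      rw [mul_comm a b]
      exact Ideal.mul_mem_mul hb1 ha
  let T : Submodule R M := Groth.Agent.Lib.FormalGlue18.tors I 1
  have hT : ∀ (a : R) (x : T), a ∈ I → a • x = 0 := by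
    intro a x ha
    exact Groth.Agent.Lib.FormalGlue18.tors_killed I 1 a (by rw [pow_one]; exact ha) x
  have hTnt : Nontrivial T := by
    refine ⟨⟨⟨m', fun a ha => hm'I a (by rwa [pow_one] at ha)⟩, 0, ?_⟩⟩
    intro h
    exact hm'0 (congrArg Subtype.val h)
  have h1 : Nontrivial (S ⊗[R] T) := h3 T hT hTnt
  have hinj : Function.Injective (T.subtype.lTensor S) :=
    Module.Flat.lTensor_preserves_injective_linearMap _ (Submodule.injective_subtype _)
  exact hinj.nontrivial

end aux

/-- For a ring map R -> S and an ideal I of R the following are equivalent: (1) S is flat over R and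
S/IS is faithfully flat over R/I; (2) S is flat over R and Spec(S/IS) -> Spec(R/I) is surjective;
(3) S is flat over R and S ⊗_R M is nonzero for every nonzero R-module M killed by I; (4) S is flat
over R and S ⊗_R M is nonzero for every nonzero I-power torsion R-module M. (Faithfulness of base
change on these subcategories is stated as detection of nonzero objects, which is equivalent for an
exact functor.) -/
theorem result (R S : Type u) [CommRing R] [CommRing S] [Algebra R S] (I : Ideal R) :
    List.TFAE [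
      Module.Flat R S ∧ Module.FaithfullyFlat (R ⧸ I) (S ⧸ I.map (algebraMap R S)),
      Module.Flat R S ∧ Function.Surjective (PrimeSpectrum.comap (Ideal.quotientMap (I.map (algebraMap R S)) (algebraMap R S) Ideal.le_comap_map)),
      Module.Flat R S ∧ ∀ (M : Type u) [AddCommGroup M] [Module R M], (∀ (a : R) (m : M), a ∈ I → a • m = 0) →
        Nontrivial M → Nontrivial (S ⊗[R] M),
      Module.Flat R S ∧ ∀ (M : Type u) [AddCommGroup M] [Module R M], (∀ m : M, ∃ n : ℕ, ∀ a ∈ I ^ n, a • m = 0) →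
        Nontrivial M → Nontrivial (S ⊗[R] M)] := by
  tfae_have 1 → 2 := by
    rintro ⟨hflat, hff⟩
    exact ⟨hflat, PrimeSpectrum.comap_surjective_of_faithfullyFlat
      (A := R ⧸ I) (B := S ⧸ I.map (algebraMap R S))⟩
  tfae_have 2 → 1 := by
    rintro ⟨hflat, hsurj⟩
    have := flatQ (S := S) I
    exact ⟨hflat, Module.FaithfullyFlat.of_comap_surjective hsurj⟩
  tfae_have 2 → 3 := by
    rintro ⟨hflat, hsurj⟩
    exact ⟨hflat, fun M _ _ hM hnt => two_three I hsurj M hM⟩
  tfae_have 3 → 2 := by
    rintro ⟨hflat, h3⟩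
    exact ⟨hflat, three_two I h3⟩
  tfae_have 3 → 4 := by
    rintro ⟨hflat, h3⟩
    exact ⟨hflat, fun M _ _ hM hnt => three_four I h3 M hM⟩
  tfae_have 4 → 3 := by
    rintro ⟨hflat, h4⟩
    refine ⟨hflat, fun M _ _ hM hnt => h4 M (fun m => ⟨1, fun a ha => ?_⟩) hnt⟩
    rw [pow_one] at ha
    exact hM a m ha
  tfae_finish

end Groth.Agent.S2008
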