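import Groth.Statements.S2009
import Groth.Agent.Lib.FormalGlue18

set_option autoImplicit false
universe u
open TensorProduct
open EtAlg

namespace Groth.Agent.S2009

/-- Let R -> S be flat with S/IS faithfully flat over R/I. Then the natural map M -> S ⊗_R M is
bijective for every I-power torsion R-module M if and only if R/I -> S/IS is bijective. -/
theorem result (R S : Type u) [CommRing R] [CommRing S] [Algebra R S] (I : Ideal R)
    [Module.Flat R S] [Module.FaithfullyFlat (R ⧸ I) (S ⧸ I.map (algebraMap R S))] :
    (∀ (M : Type u) [AddCommGroup M] [Module R M], (∀ m : M, ∃ n : ℕ, ∀ a ∈ I ^ n, a • m = 0) →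
      Function.Bijective (TensorProduct.mk R S M 1)) ↔
    Function.Bijective (Ideal.quotientMap (I.map (algebraMap R S)) (algebraMap R S) Ideal.le_comap_map) := by
  constructor
  · intro h
    have h1 := h (R ⧸ I) (fun m => ⟨1, fun a ha => by
      obtain ⟨r, rfl⟩ := Ideal.Quotient.mk_surjective m
      rw [pow_one] at ha
      rw [Algebra.smul_def, Ideal.Quotient.algebraMap_eq, Ideal.Quotient.eq_zero_iff_mem.mpr ha,
        zero_mul]⟩)
    have h2 : ⇑(Ideal.quotientMap (I.map (algebraMap R S)) (algebraMap R S) Ideal.le_comap_map) =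
        (Algebra.TensorProduct.quotIdealMapEquivTensorQuot S I).symm ∘
          (TensorProduct.mk R S (R ⧸ I) 1) := by
      funext x
      obtain ⟨r, rfl⟩ := Ideal.Quotient.mk_surjective x
      rw [Ideal.quotientMap_mk, Function.comp_apply, TensorProduct.mk_apply]
      have := Algebra.TensorProduct.quotIdealMapEquivTensorQuot_symm_tmul S I (1 : S) r
      erw [this]
      rw [Algebra.smul_def, mul_one]
      rfl
    rw [h2]
    exact (Algebra.TensorProduct.quotIdealMapEquivTensorQuot S I).symm.bijective.comp h1
  · intro hq M _ _ hM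
    exact Groth.Agent.Lib.FormalGlue18.bijective_mk_of_isTors I hq hM

end Groth.Agent.S2009
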