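import Groth.Statements.S2010
import Groth.Agent.Lib.TorsionExtBC2
import Groth.Agent.Lib.ExtReal31
import Groth.Agent.Lib.H47ExtIso
import Groth.Agent.S12058

set_option autoImplicit false
universe u
open TensorProduct
open EtAlg

namespace Groth.Agent.S2010

section aux

open CategoryTheory Abelian Groth.Agent.Lib.TorsionOrth Groth.Agent.Lib.TorsionOrthMod
  Groth.Agent.Lib.TorsionExtBC

attribute [local instance] HasDerivedCategory.standard

/-- surjectivity of `Ext¹(M, N) → Ext¹(M, S ⊗ N)` for power torsion `M`. -/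
lemma exists_ext_comp_eq {R S : Type u} [CommRing R] [CommRing S] [Algebra R S] [Module.Flat R S]
    [HasExt.{u + 1} (ModuleCat.{u} R)]
    (I : Ideal R) (hI : I.FG)
    (hs : Function.Surjective
      ((Ideal.Quotient.mk (I.map (algebraMap R S))).comp (algebraMap R S)))
    (hk : RingHom.ker
      ((Ideal.Quotient.mk (I.map (algebraMap R S))).comp (algebraMap R S)) = I)
    (N M : Type u) [AddCommGroup N] [Module R N] [AddCommGroup M] [Module R M]
    (hM : ∀ m : M, ∃ n : ℕ, ∀ a ∈ I ^ n, a • m = 0)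
    (x'' : Ext.{u + 1} (ModuleCat.of R M) (ModuleCat.of R (S ⊗[R] N)) 1) :
    ∃ x : Ext.{u + 1} (ModuleCat.of R M) (ModuleCat.of R N) 1,
      x.comp (Ext.mk₀ (oneTmul R S N)) (add_zero 1) = x'' := by
  have hb := bij_oneTmul I hs hk hI M N hM
  obtain ⟨y, hy⟩ := (hb ((1 : ℕ) : ℤ)).2 x''.hom
  refine ⟨Ext.homEquiv.symm y, ?_⟩
  apply Ext.ext
  rw [Ext.comp_hom, Ext.mk₀_hom, ShiftedHom.comp_mk₀]
  change (Ext.homEquiv (Ext.homEquiv.symm y)) ≫ _ = _
  rw [Equiv.apply_symm_apply]
  exact hy

end aux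

/-- Let R -> S be flat and I a finitely generated ideal with R/I -> S/IS bijective; let N be an R-module
and M an I-power torsion R-module. For every short exact sequence 0 -> S ⊗_R N -> E' -> S ⊗_R M -> 0
of S-modules there are a short exact sequence 0 -> N -> E -> M -> 0 of R-modules and an R-linear map
E -> E' making the two squares with the maps n ↦ 1 ⊗ n and m ↦ 1 ⊗ m commute. -/
theorem result (R S : Type u) [CommRing R] [CommRing S] [Algebra R S] [Module.Flat R S] (I : Ideal R)
    (hI : I.FG) (hq : Function.Bijective (Ideal.quotientMap (I.map (algebraMap R S)) (algebraMap R S) Ideal.le_comap_map))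
    (N M : Type u) [AddCommGroup N] [Module R N] [AddCommGroup M] [Module R M]
    (hM : ∀ m : M, ∃ n : ℕ, ∀ a ∈ I ^ n, a • m = 0)
    (E' : Type u) [AddCommGroup E'] [Module S E'] [Module R E'] [IsScalarTower R S E'] (i' : S ⊗[R] N →ₗ[S] E') (p' : E' →ₗ[S] S ⊗[R] M)
    (hi' : Function.Injective i') (hp' : Function.Surjective p') (hex' : LinearMap.range i' = LinearMap.ker p') :
    ∃ (E : Type u) (_ : AddCommGroup E) (_ : Module R E) (i : N →ₗ[R] E) (p : E →ₗ[R] M) (g : E →ₗ[R] E'),
      Function.Injective i ∧ Function.Surjective p ∧ LinearMap.range i = LinearMap.ker p ∧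
      (∀ n : N, g (i n) = i' ((1 : S) ⊗ₜ[R] n)) ∧ (∀ e : E, p' (g e) = (1 : S) ⊗ₜ[R] p e) := by
  classical
  let _ : CategoryTheory.HasExt.{u + 1} (ModuleCat.{u} R) := CategoryTheory.HasExt.standard _
  have hs : Function.Surjective
      ((Ideal.Quotient.mk (I.map (algebraMap R S))).comp (algebraMap R S)) := by
    intro y
    obtain ⟨x, hx⟩ := hq.2 y
    obtain ⟨r, rfl⟩ := Ideal.Quotient.mk_surjective x
    exact ⟨r, by simpa using hx⟩
  have hk : RingHom.ker
      ((Ideal.Quotient.mk (I.map (algebraMap R S))).comp (algebraMap R S)) = I := by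
    ext r
    rw [RingHom.mem_ker, RingHom.comp_apply]
    constructor
    · intro h
      have h1 : Ideal.quotientMap (I.map (algebraMap R S)) (algebraMap R S) Ideal.le_comap_map
          (Ideal.Quotient.mk I r) = 0 := by simpa using h
      have h2 := hq.1 (h1.trans (map_zero _).symm)
      exact Ideal.Quotient.eq_zero_iff_mem.mp h2
    · intro h
      exact Ideal.Quotient.eq_zero_iff_mem.mpr (Ideal.mem_map_of_mem _ h)
  -- the pullback extension
  let pR : E' →ₗ[R] S ⊗[R] M := p'.restrictScalars R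
  let iR : S ⊗[R] N →ₗ[R] E' := i'.restrictScalars R
  let ηM : M →ₗ[R] S ⊗[R] M := TensorProduct.mk R S M 1
  let E'' : Submodule R (E' × M) :=
    LinearMap.ker (pR.comp (LinearMap.fst R E' M) - ηM.comp (LinearMap.snd R E' M))
  have hE'' : ∀ x : E' × M, x ∈ E'' ↔ p' x.1 = (1 : S) ⊗ₜ[R] x.2 := fun x => by
    change (pR.comp (LinearMap.fst R E' M) - ηM.comp (LinearMap.snd R E' M)) x = 0 ↔ _
    rw [LinearMap.sub_apply, sub_eq_zero]
    rfl
  have hpi : ∀ x, p' (i' x) = 0 := fun x => by
    have : i' x ∈ LinearMap.ker p' := by rw [← hex']; exact ⟨x, rfl⟩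
    exact this
  let f'' : S ⊗[R] N →ₗ[R] E'' :=
    LinearMap.codRestrict E'' ((LinearMap.inl R E' M).comp iR) (fun x => by
      rw [hE'']
      change p' (i' x) = (1 : S) ⊗ₜ[R] (0 : M)
      rw [hpi, tmul_zero])
  let g'' : E'' →ₗ[R] M := (LinearMap.snd R E' M).comp E''.subtype
  have hS'' : (CategoryTheory.ShortComplex.mk (ModuleCat.ofHom f'') (ModuleCat.ofHom g'') (by
      ext x
      rfl)).ShortExact := by
    apply ModuleCat.shortComplex_shortExact
    · intro y
      change g'' y = 0 ↔ y ∈ Set.range f''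
      constructor
      · intro hy
        have h1 := (hE'' y.1).mp y.2
        have hy' : y.1.2 = 0 := hy
        rw [hy', tmul_zero] at h1
        have : y.1.1 ∈ LinearMap.range i' := by rw [hex']; exact h1
        obtain ⟨x, hx⟩ := this
        refine ⟨x, Subtype.ext (Prod.ext hx hy'.symm)⟩
      · rintro ⟨x, rfl⟩
        rfl
    · intro x y hxy
      have := congrArg (fun z : E'' => z.1.1) hxy
      exact hi' this
    · intro m
      obtain ⟨e, he⟩ := hp' ((1 : S) ⊗ₜ[R] m)
      exact ⟨⟨(e, m), (hE'' _).mpr he⟩, rfl⟩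
  -- lift the class
  obtain ⟨x, hx⟩ := exists_ext_comp_eq I hI hs hk N M hM hS''.extClass
  obtain ⟨E, i, p, w, hS, hcl⟩ := Groth.Agent.ExtReal31.exists_shortExact_extClass_eq x
  -- push out along `n ↦ 1 ⊗ n`
  have hpo := (Groth.Agent.S12058.result hS
    (Groth.Agent.Lib.TorsionExtBC.oneTmul R S N) (CategoryTheory.CategoryStruct.id _)).mpr (by
      rw [CategoryTheory.Limits.kernel.ι_of_mono, CategoryTheory.Abelian.Ext.mk₀_zero,
        CategoryTheory.Abelian.Ext.zero_comp])
  obtain ⟨B, f, g, h, wB, hT, c1, c2⟩ := hpo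
  have hclT : hT.extClass = hS''.extClass := by
    have nat := CategoryTheory.ShortComplex.ShortExact.extClass_naturality hS hT
      ⟨Groth.Agent.Lib.TorsionExtBC.oneTmul R S N, h, CategoryTheory.CategoryStruct.id _,
        c1.symm, c2⟩
    change hS.extClass.comp (CategoryTheory.Abelian.Ext.mk₀ _) (add_zero 1) =
      (CategoryTheory.Abelian.Ext.mk₀ (CategoryTheory.CategoryStruct.id _)).comp hT.extClass
        (zero_add 1) at nat
    rw [CategoryTheory.Abelian.Ext.mk₀_id_comp, hcl, hx] at nat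
    exact nat.symm
  obtain ⟨θ, _, hθ1, hθ2⟩ := Groth.Agent.Lib.H47ExtIso.exists_iso_of_extClass_eq _ _ wB _ _ _
    hT hS'' hclT
  -- assemble
  refine ⟨E, inferInstance, inferInstance, i.hom, p.hom,
    ((LinearMap.fst R E' M).comp E''.subtype).comp (θ.hom.comp h.hom), ?_, ?_, ?_, ?_, ?_⟩
  · exact hS.moduleCat_injective_f
  · exact hS.moduleCat_surjective_g
  · exact hS.exact.moduleCat_range_eq_ker
  · intro n
    have e1 : h (i n) = f ((1 : S) ⊗ₜ[R] n) := by
      have := congrArg (fun m => m n) c1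
      exact this
    have e2 : θ (f ((1 : S) ⊗ₜ[R] n)) = f'' ((1 : S) ⊗ₜ[R] n) := by
      have := congrArg (fun m => m ((1 : S) ⊗ₜ[R] n)) hθ1
      exact this
    change (θ (h (i n))).1.1 = _
    rw [e1, e2]
    rfl
  · intro e
    have e1 : g (h e) = p e := by
      have := congrArg (fun m => m e) c2
      exact this
    have e2 : g'' (θ (h e)) = g (h e) := by
      have := congrArg (fun m => m (h e)) hθ2
      exact this
    have e3 := (hE'' (θ (h e)).1).mp (θ (h e)).2
    change p' (θ (h e)).1.1 = _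
    rw [e3]
    congr 1
    exact e2.trans e1

end Groth.Agent.S2010
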