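import Groth.Statements.S2011
import Mathlib

set_option autoImplicit false
universe u
open EtAlg

namespace Groth.Agent.S2011

/-- In a Noetherian domain in which every nonzero prime contains a fixed `h ≠ 0`, every nonzero
prime is minimal over `(h)`. -/
lemma mem_minimalPrimes_of_forall_mem (D : Type*) [CommRing D] [IsDomain D] [IsNoetherianRing D]
    (h : D) (hh : h ≠ 0) (H : ∀ P : Ideal D, P.IsPrime → P ≠ ⊥ → h ∈ P)
    (P : Ideal D) (hP : P.IsPrime) (hP0 : P ≠ ⊥) : P ∈ (Ideal.span {h}).minimalPrimes := by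
  classical
  by_contra hPS
  have hfin : ((Ideal.span {h}).minimalPrimes).Finite :=
    Ideal.finite_minimalPrimes_of_isNoetherianRing D (Ideal.span {h})
  have hhP : Ideal.span {h} ≤ P := (Ideal.span_singleton_le_iff_mem P).mpr (H P hP hP0)
  obtain ⟨Q0, hQ0, hQ0P⟩ := Ideal.exists_minimalPrimes_le hhP
  have hsub : ¬ ((P : Set D) ⊆ ⋃ Q ∈ (hfin.toFinset : Set (Ideal D)), (Q : Set D)) := by
    intro hsub
    rw [Ideal.subset_union_prime (f := fun Q : Ideal D => Q) Q0 Q0
      (fun Q hQ _ _ => ((Set.Finite.mem_toFinset hfin).mp hQ).1.1)] at hsub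
    obtain ⟨Q, hQ, hPQ⟩ := hsub
    have hQ' := (Set.Finite.mem_toFinset hfin).mp hQ
    have : Q ≤ P := hQ'.2 ⟨hP, hhP⟩ hPQ
    exact hPS ((le_antisymm hPQ this) ▸ hQ')
  obtain ⟨y, hyP, hy⟩ := Set.not_subset.mp hsub
  have hyS : ∀ Q ∈ (Ideal.span {h}).minimalPrimes, y ∉ Q := by
    intro Q hQ hyQ
    apply hy
    simp only [Set.mem_iUnion]
    exact ⟨Q, by simpa using hQ, hyQ⟩
  have hy0 : y ≠ 0 := fun h0 => hyS Q0 hQ0 (h0 ▸ Q0.zero_mem)
  obtain ⟨Q', hQ'min, hQ'P⟩ := Ideal.exists_minimalPrimes_le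
    (show Ideal.span {y} ≤ P from (Ideal.span_singleton_le_iff_mem P).mpr hyP)
  haveI hQ'prime : Q'.IsPrime := hQ'min.1.1
  have hyQ' : y ∈ Q' := hQ'min.1.2 (Ideal.mem_span_singleton_self y)
  have hQ'0 : Q' ≠ ⊥ := fun h0 => hy0 (by rw [h0] at hyQ'; exact hyQ')
  have hhQ' : Ideal.span {h} ≤ Q' := (Ideal.span_singleton_le_iff_mem Q').mpr (H Q' hQ'prime hQ'0)
  obtain ⟨Q, hQ, hQQ'⟩ := Ideal.exists_minimalPrimes_le hhQ'
  haveI hQprime : Q.IsPrime := hQ.1.1
  have hQ0' : Q ≠ ⊥ := fun h0 => hh (by
    have : h ∈ Q := hQ.1.2 (Ideal.mem_span_singleton_self h)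
    rw [h0] at this; exact this)
  have hht : Q'.height ≤ 1 :=
    Ideal.height_le_one_of_isPrincipal_of_mem_minimalPrimes (Ideal.span {y}) Q' hQ'min
  have hQeq : Q = Q' := by
    by_contra hne
    have hlt : Q < Q' := lt_of_le_of_ne hQQ' hne
    have h1 : Q.height < ((1 : ℕ) : ℕ∞) := (Ideal.height_le_iff (n := 1)).mp (by exact_mod_cast hht) Q hQprime hlt
    have h2 : Q.height = 0 := by
      have : Q.height < 1 := by exact_mod_cast h1
      exact Order.lt_one_iff.mp this
    exact hQ0' (Ideal.height_eq_zero_iff_eq_bot.mp h2)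
  exact hyS Q hQ (hQeq ▸ hyQ')

/-- Consequently every nonzero prime is maximal. -/
lemma isMaximal_of_forall_mem (D : Type*) [CommRing D] [IsDomain D] [IsNoetherianRing D]
    (h : D) (hh : h ≠ 0) (H : ∀ P : Ideal D, P.IsPrime → P ≠ ⊥ → h ∈ P)
    (P : Ideal D) (hP : P.IsPrime) (hP0 : P ≠ ⊥) : P.IsMaximal := by
  obtain ⟨M, hM, hPM⟩ := Ideal.exists_le_maximal P hP.ne_top
  have hM0 : M ≠ ⊥ := fun h0 => hP0 (le_bot_iff.mp (h0 ▸ hPM))
  have h1 := mem_minimalPrimes_of_forall_mem D h hh H M hM.isPrime hM0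
  have h2 := mem_minimalPrimes_of_forall_mem D h hh H P hP hP0
  have : M ≤ P := h1.2 ⟨hP, h2.1.2⟩ hPM
  exact (le_antisymm hPM this) ▸ hM


/-- Zorn: a prime maximal among ideals disjoint from a submonoid. -/
lemma exists_maximal_disjoint {A : Type*} [CommRing A] (I : Ideal A) (S : Submonoid A)
    (disjoint : Disjoint (I : Set A) S) :
    ∃ q : Ideal A, q.IsPrime ∧ I ≤ q ∧ Disjoint (q : Set A) S ∧
      ∀ q' : Ideal A, q < q' → ¬ Disjoint (q' : Set A) S := by
  have ⟨p, hIp, hp⟩ := zorn_le_nonempty₀ {p : Ideal A | Disjoint (p : Set A) S}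
    (fun c hc hc' x hx ↦ ?_) I disjoint
  · exact ⟨p, Ideal.isPrime_of_maximally_disjoint _ _ hp.1 (fun _ ↦ hp.not_prop_of_gt), hIp, hp.1,
      fun q' hq' => hp.not_prop_of_gt hq'⟩
  cases isEmpty_or_nonempty c
  · exact ⟨I, disjoint, fun J hJ ↦ isEmptyElim (⟨J, hJ⟩ : c)⟩
  refine ⟨sSup c, Set.disjoint_left.mpr fun x hx ↦ ?_, fun _ ↦ le_sSup⟩
  have ⟨p, hp⟩ := (Submodule.mem_iSup_of_directed _ hc'.directed).mp (sSup_eq_iSup' c ▸ hx)
  exact Set.disjoint_left.mp (hc p.2) hp

/-- Key lemma: `q` prime of a Noetherian ring `A`, maximal among ideals disjoint from the powers of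
`f * a`, with `f` in the Jacobson radical. Then every prime strictly containing `q` contains `f`. -/
lemma mem_of_lt (A : Type*) [CommRing A] [IsNoetherianRing A] (f a : A)
    (hf : f ∈ (⊥ : Ideal A).jacobson) (q : Ideal A) [hq : q.IsPrime]
    (hdisj : Disjoint (q : Set A) (Submonoid.powers (f * a)))
    (hmax : ∀ q' : Ideal A, q < q' → ¬ Disjoint (q' : Set A) (Submonoid.powers (f * a)))
    (q' : Ideal A) [hq' : q'.IsPrime] (hlt : q < q') : f ∈ q' := by
  let D := A ⧸ q
  let π : A →+* D := Ideal.Quotient.mk q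
  have hπ : Function.Surjective π := Ideal.Quotient.mk_surjective
  have hfa : f * a ∉ q := fun h => Set.disjoint_left.mp hdisj h (Submonoid.mem_powers _)
  have hh : π (f * a) ≠ 0 := fun h => hfa (Ideal.Quotient.eq_zero_iff_mem.mp h)
  have H : ∀ P : Ideal D, P.IsPrime → P ≠ ⊥ → π (f * a) ∈ P := by
    intro P hP hP0
    have hqle : q ≤ P.comap π := by
      intro x hx
      rw [Ideal.mem_comap, Ideal.Quotient.eq_zero_iff_mem.mpr hx]
      exact P.zero_mem
    have hqlt : q < P.comap π := by
      refine lt_of_le_of_ne hqle ?_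
      intro heq
      apply hP0
      rw [eq_bot_iff]
      intro d hd
      obtain ⟨r, rfl⟩ := hπ d
      have : r ∈ q := heq ▸ (Ideal.mem_comap.mpr hd)
      rw [Ideal.mem_bot]
      exact Ideal.Quotient.eq_zero_iff_mem.mpr this
    have hnd := hmax _ hqlt
    rw [Set.not_disjoint_iff] at hnd
    obtain ⟨z, hz1, ⟨n, rfl⟩⟩ := hnd
    haveI : (P.comap π).IsPrime := Ideal.comap_isPrime π P
    exact Ideal.IsPrime.mem_of_pow_mem inferInstance n hz1
  -- the image of q' in D is a nonzero prime
  have hker : RingHom.ker π ≤ q' := by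
    rw [Ideal.mk_ker]; exact hlt.le
  have hP' : (q'.map π).IsPrime := Ideal.map_isPrime_of_surjective hπ hker
  have hP'0 : q'.map π ≠ ⊥ := by
    intro h0
    obtain ⟨r, hr1, hr2⟩ := Set.exists_of_ssubset hlt
    have : π r ∈ q'.map π := Ideal.mem_map_of_mem π hr1
    rw [h0, Ideal.mem_bot] at this
    exact hr2 (Ideal.Quotient.eq_zero_iff_mem.mp this)
  have hmaxD := isMaximal_of_forall_mem D (π (f * a)) hh H _ hP' hP'0
  -- so it pulls back to a maximal ideal of A, which contains f
  have hq'max : q'.IsMaximal := by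
    have h1 : (q'.map π).comap π = q' := by
      rw [Ideal.comap_map_of_surjective π hπ, ← RingHom.ker_eq_comap_bot]
      exact sup_eq_left.mpr hker
    rw [← h1]
    exact Ideal.comap_isMaximal_of_surjective π hπ
  have : (⊥ : Ideal A).jacobson ≤ q' := by
    apply sInf_le
    exact ⟨bot_le, hq'max⟩
  exact this hf

/-- Let A be a Noetherian ring and I an ideal contained in the Jacobson radical of A (a Zariski pair).
Then for every f in I the localization A_f is a Jacobson ring. -/
theorem result (A : Type u) [CommRing A] [IsNoetherianRing A] (I : Ideal A)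
    (hI : I ≤ (⊥ : Ideal A).jacobson) (f : A) (hf : f ∈ I) : IsJacobsonRing (Localization.Away f) := by
  have hfJ : f ∈ (⊥ : Ideal A).jacobson := hI hf
  rw [isJacobsonRing_iff_prime_eq]
  intro P hP
  refine le_antisymm ?_ Ideal.le_jacobson
  intro x hx
  by_contra hxP
  obtain ⟨a, s, rfl⟩ := IsLocalization.exists_mk'_eq (Submonoid.powers f) x
  let p := P.comap (algebraMap A (Localization.Away f))
  haveI hpprime : p.IsPrime := Ideal.comap_isPrime _ P
  have haP : algebraMap A (Localization.Away f) a ∉ P := fun h => hxP (by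
    rw [IsLocalization.mk'_eq_mul_mk'_one]; exact P.mul_mem_right _ h)
  have hap : a ∉ p := haP
  have hfp : f ∉ p := fun h => hP.ne_top
    (Ideal.eq_top_of_isUnit_mem _ h (IsLocalization.Away.algebraMap_isUnit f))
  have hfa : f * a ∉ p := fun h => (Ideal.IsPrime.mem_or_mem hpprime h).elim hfp hap
  have hdisj : Disjoint (p : Set A) (Submonoid.powers (f * a)) := by
    rw [Set.disjoint_right]
    rintro _ ⟨n, rfl⟩ h
    exact hfa (Ideal.IsPrime.mem_of_pow_mem hpprime n h)
  obtain ⟨q, hq, hpq, hqd, hqmax⟩ := exists_maximal_disjoint p _ hdisj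
  have hfaq : f * a ∉ q := fun h => Set.disjoint_left.mp hqd h (Submonoid.mem_powers _)
  have hfq : f ∉ q := fun h => hfaq (q.mul_mem_right _ h)
  have haq : a ∉ q := fun h => hfaq (q.mul_mem_left _ h)
  have hqdf : Disjoint ((Submonoid.powers f : Submonoid A) : Set A) (q : Set A) := by
    rw [Set.disjoint_left]
    rintro _ ⟨n, rfl⟩ h
    exact hfq (hq.mem_of_pow_mem n h)
  have hQprime : (q.map (algebraMap A (Localization.Away f))).IsPrime :=
    IsLocalization.isPrime_of_isPrime_disjoint (Submonoid.powers f) (Localization.Away f) q hq hqdf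
  have hQcomap : (q.map (algebraMap A (Localization.Away f))).comap
      (algebraMap A (Localization.Away f)) = q :=
    IsLocalization.under_map_of_isPrime_disjoint (Submonoid.powers f) (Localization.Away f) hq hqdf
  have hPQ : P ≤ q.map (algebraMap A (Localization.Away f)) := by
    rw [← IsLocalization.map_under (Submonoid.powers f) (Localization.Away f) P]
    exact Ideal.map_mono hpq
  have hxQ : IsLocalization.mk' (Localization.Away f) a s ∉
      q.map (algebraMap A (Localization.Away f)) := by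
    intro h
    have h1 : algebraMap A (Localization.Away f) a ∈ q.map (algebraMap A (Localization.Away f)) := by
      rw [← IsLocalization.mk'_spec (Localization.Away f) a s]
      exact Ideal.mul_mem_right _ _ h
    have h2 : a ∈ (q.map (algebraMap A (Localization.Away f))).comap
      (algebraMap A (Localization.Away f)) := Ideal.mem_comap.mpr h1
    rw [hQcomap] at h2
    exact haq h2
  have hQmax : (q.map (algebraMap A (Localization.Away f))).IsMaximal := by
    obtain ⟨M, hM, hQM⟩ := Ideal.exists_le_maximal _ hQprime.ne_top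
    haveI hq'prime : (M.comap (algebraMap A (Localization.Away f))).IsPrime :=
      Ideal.comap_isPrime _ M
    have hqq' : q ≤ M.comap (algebraMap A (Localization.Away f)) := by
      rw [← hQcomap]; exact Ideal.comap_mono hQM
    have hfq' : f ∉ M.comap (algebraMap A (Localization.Away f)) := fun h => hM.ne_top
      (Ideal.eq_top_of_isUnit_mem _ h (IsLocalization.Away.algebraMap_isUnit f))
    have heq : q = M.comap (algebraMap A (Localization.Away f)) := by
      by_contra hne
      exact hfq' (mem_of_lt A f a hfJ q hqd hqmax _ (lt_of_le_of_ne hqq' hne))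
    have hMQ : M = q.map (algebraMap A (Localization.Away f)) := by
      rw [← IsLocalization.map_under (Submonoid.powers f) (Localization.Away f) M]
      exact congrArg (Ideal.map (algebraMap A (Localization.Away f))) heq.symm
    exact hMQ ▸ hM
  have hle : P.jacobson ≤ q.map (algebraMap A (Localization.Away f)) := sInf_le ⟨hPQ, hQmax⟩
  exact hxQ (hle hx)

end Groth.Agent.S2011
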