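import Groth.Statements.S2012
import Mathlib.RingTheory.Nakayama
import Mathlib.RingTheory.Ideal.Pure
import Mathlib.RingTheory.IntegralClosure.IsIntegralClosure.Basic

set_option autoImplicit false
universe u
open EtAlg

namespace Groth.Agent.S2012

theorem result (A B : Type u) [CommRing A] [CommRing B] [Algebra A B]
    (I : Ideal A) (hI : I ≤ (⊥ : Ideal A).jacobson) [Module.Flat A B] [Algebra.IsIntegral A B] [Algebra.FinitePresentation A B]
    (hq : Function.Bijective (Ideal.quotientMap (I.map (algebraMap A B)) (algebraMap A B) Ideal.le_comap_map)) :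
    Function.Bijective (algebraMap A B) := by
  have hfin : Module.Finite A B := Algebra.IsIntegral.finite
  -- surjectivity by Nakayama
  have hsurj : Function.Surjective (algebraMap A B) := by
    have htop : (⊤ : Submodule A B) ≤ LinearMap.range (Algebra.linearMap A B) := by
      apply Submodule.le_of_le_smul_of_le_jacobson_bot (Module.Finite.fg_top) hI
      intro b _
      obtain ⟨a', ha'⟩ := hq.2 (Ideal.Quotient.mk _ b)
      obtain ⟨a, rfl⟩ := Ideal.Quotient.mk_surjective a'
      rw [Ideal.quotientMap_mk, Ideal.Quotient.eq] at ha'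
      have hmem : b - algebraMap A B a ∈ I • (⊤ : Submodule A B) := by
        rw [Ideal.smul_top_eq_map]
        simpa using (Ideal.neg_mem_iff _).mpr ha'
      have : b = algebraMap A B a + (b - algebraMap A B a) := by ring
      rw [this]
      exact Submodule.add_mem_sup ⟨a, rfl⟩ hmem
    intro b
    obtain ⟨a, ha⟩ := htop (Submodule.mem_top (x := b))
    exact ⟨a, ha⟩
  refine ⟨?_, hsurj⟩
  -- injectivity
  set J : Ideal A := RingHom.ker (algebraMap A B) with hJ
  have hJI : J ≤ I := by
    intro a ha
    have h0 : Ideal.quotientMap (I.map (algebraMap A B)) (algebraMap A B) Ideal.le_comap_map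
        (Ideal.Quotient.mk I a) = 0 := by
      rw [Ideal.quotientMap_mk]
      have : algebraMap A B a = 0 := ha
      rw [this, map_zero]
    have := hq.1 (h0.trans (map_zero _).symm)
    exact Ideal.Quotient.eq_zero_iff_mem.mp this
  have hJfg : J.FG := by
    have := Algebra.FinitePresentation.ker_fG_of_surjective (Algebra.ofId A B) hsurj
    exact this
  have e : (A ⧸ J) ≃ₐ[A] B :=
    Ideal.quotientKerAlgEquivOfSurjective (f := Algebra.ofId A B) hsurj
  have hflat : Module.Flat A (A ⧸ J) := Module.Flat.of_linearEquiv e.toLinearEquiv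
  have hidem : IsIdempotentElem J := Ideal.isIdempotentElem_of_pure J
  have hJbot : J = ⊥ := by
    apply Submodule.eq_bot_of_le_smul_of_le_jacobson_bot J J hJfg _ (hJI.trans hI)
    rw [smul_eq_mul, hidem.eq]
  exact (RingHom.injective_iff_ker_eq_bot _).mpr hJbot

end Groth.Agent.S2012
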