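import Groth.Statements.S2014
import Mathlib.RingTheory.Nakayama
import Mathlib.RingTheory.Ideal.MinimalPrime.Noetherian
import Mathlib.RingTheory.Jacobson.Ideal

set_option autoImplicit false
universe u
open EtAlg

namespace Groth.Agent.S2014

variable {R : Type u} [CommRing R] [IsNoetherianRing R] [IsLocalRing R]

/-- Nakayama step: if `x` is in the maximal ideal, `x` is a nonzerodivisor modulo `q'`, `q ≤ q'`
and `q' ≤ (x) ⊔ q`, then `q' ≤ q`. -/
lemma le_of_le_span_sup (x : R) (hx : x ∈ IsLocalRing.maximalIdeal R) (q q' : Ideal R)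
    (hqq : q ≤ q') (hnzd : ∀ a : R, x * a ∈ q' → a ∈ q')
    (h : q' ≤ Ideal.span {x} ⊔ q) : q' ≤ q := by
  have hjac : Ideal.span {x} ≤ (⊥ : Ideal R).jacobson := by
    rw [IsLocalRing.jacobson_eq_maximalIdeal ⊥ bot_ne_top]
    exact (Ideal.span_singleton_le_iff_mem _).mpr hx
  apply Submodule.le_of_le_smul_of_le_jacobson_bot (IsNoetherian.noetherian q') hjac
  intro y hy
  obtain ⟨u, hu, z, hz, rfl⟩ := Submodule.mem_sup.mp (h hy)
  obtain ⟨a, rfl⟩ := Ideal.mem_span_singleton'.mp hu
  have ha : a ∈ q' := by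
    apply hnzd
    have : x * a = (a * x + z) - z := by ring
    rw [this]
    exact q'.sub_mem hy (hqq hz)
  rw [add_comm]
  refine Submodule.add_mem_sup hz ?_
  rw [mul_comm]
  exact Submodule.smul_mem_smul (Ideal.mem_span_singleton_self x) ha

lemma card_le_coheight (x : R) (hx : x ∈ IsLocalRing.maximalIdeal R)
    (hmin : ∀ p ∈ minimalPrimes R, x ∉ p) (S : Finset (Ideal R)) (hS : ∀ p ∈ S, p ∈ minimalPrimes R) :
    (S.card : ℕ∞) ≤ Order.coheight (Ideal.span {x} ⊔ S.inf id) := by
  classical
  induction S using Finset.induction_on with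
  | empty => simp
  | insert p S' hp ih =>
    have hS' : ∀ p ∈ S', p ∈ minimalPrimes R := fun r hr => hS r (Finset.mem_insert_of_mem hr)
    have hpmin : p ∈ minimalPrimes R := hS p (Finset.mem_insert_self _ _)
    have hpprime : p.IsPrime := hpmin.1.1
    specialize ih hS'
    rw [Finset.card_insert_of_notMem hp, Finset.inf_insert, id]
    have hlt : Ideal.span {x} ⊔ (p ⊓ S'.inf id) < Ideal.span {x} ⊔ S'.inf id := by
      refine lt_of_le_of_ne (sup_le_sup_left inf_le_right _) ?_
      intro heq
      have h1 : S'.inf id ≤ p ⊓ S'.inf id := by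
        apply le_of_le_span_sup x hx _ _ inf_le_right
        · intro a ha
          rw [Finset.inf_eq_iInf] at ha ⊢
          simp only [id, Submodule.mem_iInf] at ha ⊢
          intro r hr
          have hrp : r.IsPrime := (hS' r hr).1.1
          exact (hrp.mem_or_mem (ha r hr)).resolve_left (hmin r (hS' r hr))
        · rw [heq]
          exact le_sup_right
      have h2 : S'.inf id ≤ p := h1.trans inf_le_left
      obtain ⟨r, hr, hrp⟩ := (Ideal.IsPrime.inf_le' hpprime).mp h2
      have hrmin : r ∈ minimalPrimes R := hS' r hr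
      have : p ≤ r := hpmin.2 ⟨hrmin.1.1, bot_le⟩ hrp
      have hpr : p = r := le_antisymm this hrp
      exact hp (hpr ▸ hr)
    calc ((S'.card + 1 : ℕ) : ℕ∞) = (S'.card : ℕ∞) + 1 := by push_cast; rfl
      _ ≤ Order.coheight (Ideal.span {x} ⊔ S'.inf id) + 1 := by gcongr
      _ ≤ Order.coheight (Ideal.span {x} ⊔ (p ⊓ S'.inf id)) := Order.coheight_add_one_le hlt

theorem result (R : Type u) [CommRing R] [IsNoetherianRing R] [IsLocalRing R]
    (hdim : ringKrullDim R = 1) (x : R) (hx : x ∈ IsLocalRing.maximalIdeal R) (hmin : ∀ p ∈ minimalPrimes R, x ∉ p) :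
    (Set.ncard (minimalPrimes R) : ℕ∞) ≤ Module.length R (R ⧸ Ideal.span {x}) := by
  classical
  have hfin : (minimalPrimes R).Finite := minimalPrimes.finite_of_isNoetherianRing R
  rw [Set.ncard_eq_toFinset_card _ hfin, Module.length_quotient]
  refine (card_le_coheight x hx hmin hfin.toFinset (fun p hp => by simpa using hp)).trans ?_
  exact Order.coheight_anti le_sup_left

end Groth.Agent.S2014
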