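import Groth.Statements.S2015
import Mathlib.Algebra.Module.FinitePresentation
import Mathlib.LinearAlgebra.Pi
import Mathlib.LinearAlgebra.Isomorphisms
import Mathlib.RingTheory.Ideal.Quotient.Basic
import Mathlib.RingTheory.Ideal.Span
-- import your own Groth.Agent.* helpers here

set_option autoImplicit false
universe u
open EtAlg

namespace Groth.Agent.S2015

section aux

variable {R : Type u} [CommRing R]

lemma exists_dvd_min (h : ∀ a b : R, a ∣ b ∨ b ∣ a) (E : Finset R) (hE : E.Nonempty) :
    ∃ d ∈ E, ∀ e ∈ E, d ∣ e := by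
  induction hE using Finset.Nonempty.cons_induction with
  | singleton a => exact ⟨a, by simp, by simp⟩
  | cons a s ha hs ih =>
    obtain ⟨d, hd, hdE⟩ := ih
    rcases h a d with h1 | h1
    · refine ⟨a, by simp, ?_⟩
      intro e he
      rcases Finset.mem_cons.1 he with rfl | he
      · exact dvd_rfl
      · exact h1.trans (hdE e he)
    · refine ⟨d, by simp [hd], ?_⟩
      intro e he
      rcases Finset.mem_cons.1 he with rfl | he
      · exact h1
      · exact hdE e he

lemma exists_pivot (h : ∀ a b : R, a ∣ b ∨ b ∣ a) (n : ℕ) (K : Submodule R (Fin (n+1) → R))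
    (hK : K.FG) :
    ∃ (d : R) (i0 : Fin (n+1)) (v : Fin (n+1) → R),
      v i0 = 1 ∧ d • v ∈ K ∧ ∀ k ∈ K, ∀ i, d ∣ k i := by
  classical
  obtain ⟨S, rfl⟩ := hK
  let E : Finset R := insert 0
    ((S ×ˢ Finset.univ).image fun p : (Fin (n+1) → R) × Fin (n+1) => p.1 p.2)
  obtain ⟨d, hdE, hd⟩ := exists_dvd_min h E (Finset.insert_nonempty _ _)
  have hall : ∀ k ∈ Submodule.span R (S : Set (Fin (n+1) → R)), ∀ i, d ∣ k i := by
    intro k hk
    induction hk using Submodule.span_induction with
    | mem k hk =>
      intro i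
      refine hd _ (Finset.mem_insert_of_mem (Finset.mem_image.2 ⟨(k, i), ?_, rfl⟩))
      exact Finset.mem_product.2 ⟨hk, Finset.mem_univ _⟩
    | zero => intro i; simp
    | add x y _ _ hx hy => intro i; exact dvd_add (hx i) (hy i)
    | smul a x _ hx => intro i; exact Dvd.dvd.mul_left (hx i) a
  rcases Finset.mem_insert.1 hdE with rfl | hdE'
  · exact ⟨0, 0, Pi.single 0 1, by simp, by simp, hall⟩
  · obtain ⟨⟨k0, i0⟩, hk0, rfl⟩ := Finset.mem_image.1 hdE'
    have hk0S : k0 ∈ S := (Finset.mem_product.1 hk0).1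
    have hk0K : k0 ∈ Submodule.span R (S : Set (Fin (n+1) → R)) := Submodule.subset_span hk0S
    choose c hc using fun i => hall k0 hk0K i
    refine ⟨k0 i0, i0, Function.update c i0 1, by simp, ?_, hall⟩
    have : k0 i0 • Function.update c i0 1 = k0 := by
      ext i
      by_cases hi : i = i0
      · subst hi; simp
      · simp [Function.update_of_ne hi, ← hc i]
    rw [this]; exact hk0K

theorem decomp (h : ∀ a b : R, a ∣ b ∨ b ∣ a) :
    ∀ (n : ℕ) (M : Type u) [AddCommGroup M] [Module R M] [Module.FinitePresentation R M]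
      (s : Fin n → M), Submodule.span R (Set.range s) = ⊤ →
      ∃ (k : ℕ) (f : Fin k → R), Nonempty (M ≃ₗ[R] ((i : Fin k) → R ⧸ Ideal.span {f i})) := by
  intro n
  induction n with
  | zero =>
    intro M _ _ _ s hs
    have : Subsingleton M := by
      have : (⊤ : Submodule R M) = ⊥ := by
        rw [← hs]; simp
      exact (Submodule.subsingleton_iff R).1 (subsingleton_of_bot_eq_top this.symm)
    exact ⟨0, Fin.elim0, ⟨LinearEquiv.ofSubsingleton _ _⟩⟩
  | succ n ih =>
    intro M _ _ _ s hs
    classical
    let π : (Fin (n+1) → R) →ₗ[R] M := Fintype.linearCombination R s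
    have hπ : Function.Surjective π := by
      rw [← LinearMap.range_eq_top, Fintype.range_linearCombination, hs]
    have hKfg : (LinearMap.ker π).FG := Module.FinitePresentation.fg_ker π hπ
    obtain ⟨d, i0, v, hv1, hdv, hdvd⟩ := exists_pivot h n (LinearMap.ker π) hKfg
    set x : M := π v with hx
    have hdx : d • x = 0 := by
      rw [hx, ← map_smul]; exact hdv
    let ρ : (Fin (n+1) → R) →ₗ[R] R ⧸ Ideal.span {d} :=
      (Submodule.mkQ (Ideal.span {d})).comp (LinearMap.proj i0)
    have hρ : ∀ w, ρ w = Ideal.Quotient.mk (Ideal.span {d}) (w i0) := fun w => rfl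
    have hρK : LinearMap.ker π ≤ LinearMap.ker ρ := by
      intro k hk
      rw [LinearMap.mem_ker, hρ, Ideal.Quotient.eq_zero_iff_mem, Ideal.mem_span_singleton]
      exact hdvd k hk i0
    let ρbar : M →ₗ[R] R ⧸ Ideal.span {d} :=
      ((LinearMap.ker π).liftQ ρ hρK).comp (π.quotKerEquivOfSurjective hπ).symm.toLinearMap
    have hρbar : ∀ w, ρbar (π w) = Ideal.Quotient.mk (Ideal.span {d}) (w i0) := by
      intro w
      have : (π.quotKerEquivOfSurjective hπ).symm (π w) = Submodule.Quotient.mk w := by
        rw [LinearEquiv.symm_apply_eq]; rfl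
      simp only [ρbar, LinearMap.comp_apply, LinearEquiv.coe_toLinearMap, this,
        Submodule.liftQ_apply, hρ]
    have hρx : ρbar x = 1 := by
      rw [hx, hρbar, hv1]; rfl
    let N : Submodule R M := Submodule.span R {x}
    let Φ : M →ₗ[R] (R ⧸ Ideal.span {d}) × (M ⧸ N) := ρbar.prod N.mkQ
    have hΦinj : Function.Injective Φ := by
      rw [← LinearMap.ker_eq_bot, LinearMap.ker_eq_bot']
      intro m hm
      have h1 : ρbar m = 0 := congrArg Prod.fst hm
      have h2 : N.mkQ m = 0 := congrArg Prod.snd hm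
      rw [Submodule.mkQ_apply, Submodule.Quotient.mk_eq_zero] at h2
      obtain ⟨r, rfl⟩ := Submodule.mem_span_singleton.1 h2
      rw [map_smul, hρx] at h1
      have h3 : Ideal.Quotient.mk (Ideal.span {d}) r = 0 := by
        rw [← h1, Algebra.smul_def, mul_one]; rfl
      rw [Ideal.Quotient.eq_zero_iff_mem, Ideal.mem_span_singleton] at h3
      obtain ⟨a, rfl⟩ := h3
      rw [mul_comm, mul_smul, hdx, smul_zero]
    have hΦsurj : Function.Surjective Φ := by
      rintro ⟨q, mbar⟩
      obtain ⟨r, rfl⟩ := Ideal.Quotient.mk_surjective q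
      obtain ⟨m', rfl⟩ := N.mkQ_surjective mbar
      obtain ⟨r', hr'⟩ := Ideal.Quotient.mk_surjective (ρbar m')
      refine ⟨m' + (r - r') • x, ?_⟩
      have hxN : N.mkQ x = 0 := by
        rw [Submodule.mkQ_apply, Submodule.Quotient.mk_eq_zero]
        exact Submodule.mem_span_singleton_self x
      refine Prod.ext ?_ ?_
      · show ρbar (m' + (r - r') • x) = _
        rw [map_add, map_smul, hρx, ← hr', Algebra.smul_def, mul_one]
        show _ + Ideal.Quotient.mk _ (r - r') = _
        rw [map_sub]; ring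
      · show N.mkQ (m' + (r - r') • x) = _
        rw [map_add, map_smul, hxN, smul_zero, add_zero]
    let e1 : M ≃ₗ[R] (R ⧸ Ideal.span {d}) × (M ⧸ N) := LinearEquiv.ofBijective Φ ⟨hΦinj, hΦsurj⟩
    have hfp : Module.FinitePresentation R (M ⧸ N) := by
      refine Module.finitePresentation_of_surjective N.mkQ N.mkQ_surjective ?_
      rw [Submodule.ker_mkQ]
      exact Submodule.fg_span_singleton x
    have hπs : ∀ i, π (Pi.single i 1) = s i := by
      intro i; simp [π]
    let s' : Fin n → M ⧸ N := fun j => N.mkQ (s (i0.succAbove j))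
    have hs' : Submodule.span R (Set.range s') = ⊤ := by
      have htop : Submodule.span R (Set.range (fun i => N.mkQ (s i))) = ⊤ := by
        rw [show (fun i => N.mkQ (s i)) = N.mkQ ∘ s from rfl, Set.range_comp,
          ← Submodule.map_span, hs, Submodule.map_top, Submodule.range_mkQ]
      rw [eq_top_iff, ← htop, Submodule.span_le]
      rintro _ ⟨i, rfl⟩
      by_cases hi : i = i0
      · subst hi
        have hv : v = ∑ j, v j • (Pi.single j (1 : R) : Fin (n+1) → R) := by
          ext j; simp [Finset.sum_apply, Pi.single_apply]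
        have hxsum : x = ∑ j, v j • s j := by
          rw [hx]; simp [π, Fintype.linearCombination_apply]
        have hxN : N.mkQ x = 0 := by
          rw [Submodule.mkQ_apply, Submodule.Quotient.mk_eq_zero]
          exact Submodule.mem_span_singleton_self x
        rw [hxsum, map_sum, Fin.sum_univ_succAbove _ i, hv1, one_smul] at hxN
        have : N.mkQ (s i) = - ∑ j, N.mkQ (v (i.succAbove j) • s (i.succAbove j)) :=
          eq_neg_of_add_eq_zero_left hxN
        simp only [SetLike.mem_coe]
        rw [this]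
        refine Submodule.neg_mem _ (Submodule.sum_mem _ fun j _ => ?_)
        rw [map_smul]
        exact Submodule.smul_mem _ _ (Submodule.subset_span ⟨j, rfl⟩)
      · obtain ⟨j, rfl⟩ := Fin.exists_succAbove_eq hi
        exact Submodule.subset_span ⟨j, rfl⟩
    obtain ⟨k, f, ⟨e2⟩⟩ := ih (M ⧸ N) s' hs'
    refine ⟨k + 1, Fin.cons d f, ⟨?_⟩⟩
    refine e1 ≪≫ₗ ?_ ≪≫ₗ
      Fin.consLinearEquiv R (fun i : Fin (k+1) => R ⧸ Ideal.span {(Fin.cons d f : Fin (k+1) → R) i})
    exact LinearEquiv.prodCongr (LinearEquiv.refl R _) e2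

end aux

/-- Let R be a nonzero ring such that for all a, b in R either a divides b or b divides a. Then each
finitely presented R-module decomposes as a direct sum of finitely many cyclic modules R/fR. -/
theorem result (R : Type u) [CommRing R] [Nontrivial R] (h : ∀ a b : R, a ∣ b ∨ b ∣ a)
    (M : Type u) [AddCommGroup M] [Module R M] [Module.FinitePresentation R M] :
    ∃ (n : ℕ) (f : Fin n → R), Nonempty (M ≃ₗ[R] ((i : Fin n) → R ⧸ Ideal.span {f i})) := by
  obtain ⟨n, s, hs⟩ := Module.Finite.exists_fin (R := R) (M := M)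
  exact decomp h n M s hs

end Groth.Agent.S2015
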