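import Groth.Statements.S2016
import Mathlib.Algebra.Module.FinitePresentation
import Mathlib.Algebra.Module.LocalizedModule.Submodule
import Mathlib.RingTheory.TensorProduct.IsBaseChangePi
import Mathlib.RingTheory.Localization.AtPrime.Basic
import Mathlib.Tactic
import Mathlib.Algebra.Module.LocalizedModule.IsLocalization
import Groth.Agent.S2015

set_option autoImplicit false
universe u
open EtAlg

namespace Groth.Agent.S2016


section lemmaA

variable {R : Type*} [CommRing R] (S : Submonoid R)
  {M N M' N' : Type*} [AddCommGroup M] [AddCommGroup N] [AddCommGroup M'] [AddCommGroup N']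
  [Module R M] [Module R N] [Module R M'] [Module R N']
  (fM : M →ₗ[R] M') (fN : N →ₗ[R] N') [IsLocalizedModule S fM] [IsLocalizedModule S fN]
  [Module.FinitePresentation R M] [Module.FinitePresentation R N]

include fM fN in
theorem exists_maps_of_localized_equiv (φ : M' ≃ₗ[R] N') :
    ∃ (a : M →ₗ[R] N) (b : N →ₗ[R] M) (g : S), b ∘ₗ a = (g : R) • LinearMap.id := by
  obtain ⟨a, s, ha⟩ := Module.FinitePresentation.exists_lift_of_isLocalizedModule S fN (φ.toLinearMap ∘ₗ fM)
  obtain ⟨b, s', hb⟩ := Module.FinitePresentation.exists_lift_of_isLocalizedModule S fM (φ.symm.toLinearMap ∘ₗ fN)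
  have h1 : fM ∘ₗ (b ∘ₗ a) = fM ∘ₗ ((s' * s : S) • (LinearMap.id : M →ₗ[R] M)) := by
    ext x
    have hax : fN (a x) = s • φ (fM x) := LinearMap.congr_fun ha x
    have hbx : fM (b (a x)) = s' • φ.symm (fN (a x)) := LinearMap.congr_fun hb (a x)
    simp only [LinearMap.coe_comp, Function.comp_apply, LinearMap.smul_apply, LinearMap.id_coe, id_eq]
    rw [hbx, hax]
    simp only [Submonoid.smul_def, Submonoid.coe_mul]
    rw [map_smul, LinearEquiv.symm_apply_apply, smul_smul, map_smul]
  obtain ⟨u, hu⟩ := Module.Finite.exists_smul_of_comp_eq_of_isLocalizedModule S fM _ _ h1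
  refine ⟨a, u • b, u * (s' * s), ?_⟩
  rw [LinearMap.smul_comp]
  ext x
  have := LinearMap.congr_fun hu x
  simp only [LinearMap.smul_apply, LinearMap.coe_comp, Function.comp_apply, LinearMap.id_coe, id_eq,
    Submonoid.smul_def, Submonoid.coe_mul] at this ⊢
  rw [this, smul_smul]

end lemmaA

section localStep

theorem fp_quot_span (R : Type*) [CommRing R] (r : R) :
    Module.FinitePresentation R (R ⧸ Ideal.span {r}) := by
  refine Module.finitePresentation_of_surjective (Submodule.mkQ (Ideal.span {r}))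
    (Submodule.mkQ_surjective _) ?_
  rw [Submodule.ker_mkQ]
  exact ⟨{r}, by simp [Ideal.span]⟩

theorem span_mk'_eq {R : Type*} [CommRing R] (p : Submonoid R) (A : Type*) [CommRing A] [Algebra R A]
    [IsLocalization p A] (r : R) (s : p) :
    (Ideal.span {IsLocalization.mk' A r s} : Ideal A) =
      (Ideal.span {r} : Ideal R).localized' A p (Algebra.linearMap R A) := by
  have h1 : (Ideal.span {r} : Ideal R).localized' A p (Algebra.linearMap R A) =
      Ideal.span {algebraMap R A r} := by
    show (Submodule.span R {r}).localized' A p (Algebra.linearMap R A) = _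
    rw [Submodule.localized'_span, Set.image_singleton]
    rfl
  rw [h1]
  apply le_antisymm
  · rw [Ideal.span_singleton_le_span_singleton]
    exact ⟨IsLocalization.mk' A 1 s, IsLocalization.mk'_eq_mul_mk'_one r s⟩
  · rw [Ideal.span_singleton_le_span_singleton]
    exact ⟨algebraMap R A s, (IsLocalization.mk'_spec A r s).symm⟩

theorem local_step (R : Type u) [CommRing R]
    (M : Type u) [AddCommGroup M] [Module R M] [Module.FinitePresentation R M]
    (m : Ideal R) [m.IsMaximal] (h : ∀ a b : Localization.AtPrime m, a ∣ b ∨ b ∣ a) :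
    ∃ (n : ℕ) (r : Fin n → R) (a : M →ₗ[R] ((i : Fin n) → R ⧸ Ideal.span {r i}))
      (b : ((i : Fin n) → R ⧸ Ideal.span {r i}) →ₗ[R] M) (g : R),
        g ∉ m ∧ b ∘ₗ a = g • LinearMap.id := by
  let p := m.primeCompl
  obtain ⟨n, f', ⟨e⟩⟩ := Groth.Agent.S2015.result (Localization.AtPrime m) h (LocalizedModule p M)
  have hsurj : ∀ i, ∃ (r : R) (s : p), IsLocalization.mk' (Localization.AtPrime m) r s = f' i :=
    fun i => IsLocalization.exists_mk'_eq p (f' i)
  choose r s hrs using hsurj
  have hI : ∀ i, (Ideal.span {f' i} : Ideal (Localization.AtPrime m)) =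
      (Ideal.span {r i} : Ideal R).localized' (Localization.AtPrime m) p
        (Algebra.linearMap R (Localization.AtPrime m)) := fun i => by
    rw [← hrs i]; exact span_mk'_eq p _ (r i) (s i)
  have : ∀ i, Module.FinitePresentation R (R ⧸ Ideal.span {r i}) := fun i => fp_quot_span R (r i)
  let ℓ : ((i : Fin n) → R ⧸ Ideal.span {r i}) →ₗ[R]
      ((i : Fin n) → Localization.AtPrime m ⧸ (Ideal.span {r i} : Ideal R).localized'
        (Localization.AtPrime m) p (Algebra.linearMap R (Localization.AtPrime m))) :=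
    LinearMap.pi fun i => ((Ideal.span {r i} : Ideal R).toLocalizedQuotient'
      (Localization.AtPrime m) p (Algebra.linearMap R (Localization.AtPrime m))) ∘ₗ LinearMap.proj i
  have : IsLocalizedModule p ℓ := IsLocalizedModule.pi p _
  let e2 : ((i : Fin n) → Localization.AtPrime m ⧸ Ideal.span {f' i}) ≃ₗ[Localization.AtPrime m]
      ((i : Fin n) → Localization.AtPrime m ⧸ (Ideal.span {r i} : Ideal R).localized'
        (Localization.AtPrime m) p (Algebra.linearMap R (Localization.AtPrime m))) :=
    LinearEquiv.piCongrRight fun i => Submodule.quotEquivOfEq _ _ (hI i)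
  let φ : LocalizedModule p M ≃ₗ[R]
      ((i : Fin n) → Localization.AtPrime m ⧸ (Ideal.span {r i} : Ideal R).localized'
        (Localization.AtPrime m) p (Algebra.linearMap R (Localization.AtPrime m))) :=
    (e.trans e2).restrictScalars R
  obtain ⟨a, b, g, hg⟩ := exists_maps_of_localized_equiv p (LocalizedModule.mkLinearMap p M) ℓ φ
  exact ⟨n, r, a, b, g, g.2, hg⟩

end localStep

section globalStep

/-- A module `M` with maps `A : M → P`, `B : P → M`, `B ∘ A = id` is a direct summand of `P`. -/
noncomputable def summandEquiv {R : Type*} [CommRing R] {M P : Type*} [AddCommGroup M] [AddCommGroup P]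
    [Module R M] [Module R P] (A : M →ₗ[R] P) (B : P →ₗ[R] M) (hBA : B ∘ₗ A = LinearMap.id) :
    (M × LinearMap.ker B) ≃ₗ[R] P where
  toFun x := A x.1 + x.2.1
  map_add' x y := by simp only [Prod.fst_add, Prod.snd_add, map_add, Submodule.coe_add]; abel
  map_smul' c x := by simp [smul_add]
  invFun z := (B z, ⟨z - A (B z), by
    have : B (A (B z)) = B z := LinearMap.congr_fun hBA (B z)
    rw [LinearMap.mem_ker, map_sub, this, sub_self]⟩)
  left_inv x := by
    have h1 : B (A x.1) = x.1 := LinearMap.congr_fun hBA x.1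
    have h2 : B x.2.1 = 0 := x.2.2
    ext
    · simp [h1, h2]
    · simp [h1, h2]
  right_inv z := by simp

theorem result' (R : Type u) [CommRing R]
    (h : ∀ (m : Ideal R) [m.IsMaximal], ∀ a b : Localization.AtPrime m, a ∣ b ∨ b ∣ a)
    (M : Type u) [AddCommGroup M] [Module R M] [Module.FinitePresentation R M] :
    ∃ (n : ℕ) (f : Fin n → R) (N : Type u) (_ : AddCommGroup N) (_ : Module R N),
      Nonempty ((M × N) ≃ₗ[R] ((i : Fin n) → R ⧸ Ideal.span {f i})) := by
  classical
  have hloc : ∀ m : MaximalSpectrum R, ∃ (n : ℕ) (r : Fin n → R)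
      (a : M →ₗ[R] ((i : Fin n) → R ⧸ Ideal.span {r i}))
      (b : ((i : Fin n) → R ⧸ Ideal.span {r i}) →ₗ[R] M) (g : R),
        g ∉ m.asIdeal ∧ b ∘ₗ a = g • LinearMap.id := fun m =>
    have := m.isMaximal
    local_step R M m.asIdeal (h m.asIdeal)
  choose n r a b g hgm hba using hloc
  have htop : Ideal.span (Set.range g) = ⊤ := by
    by_contra hne
    obtain ⟨m, hm, hle⟩ := Ideal.exists_le_maximal _ hne
    exact hgm ⟨m, hm⟩ (hle (Ideal.subset_span ⟨⟨m, hm⟩, rfl⟩))
  have h1 : (1 : R) ∈ Ideal.span (Set.range g) := by rw [htop]; trivial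
  obtain ⟨c, hc⟩ := (Finsupp.mem_span_range_iff_exists_finsupp (R := R) (v := g)).mp h1
  let t : Finset (MaximalSpectrum R) := c.support
  let ι := Σ m : t, Fin (n m.1)
  let F : ι → R := fun x => r x.1.1 x.2
  let A : M →ₗ[R] ((x : ι) → R ⧸ Ideal.span {F x}) :=
    LinearMap.pi fun x => LinearMap.proj x.2 ∘ₗ a x.1.1
  let B : ((x : ι) → R ⧸ Ideal.span {F x}) →ₗ[R] M :=
    ∑ m : t, c m.1 • (b m.1 ∘ₗ LinearMap.pi fun i => LinearMap.proj (⟨m, i⟩ : ι))
  have hBA : B ∘ₗ A = LinearMap.id := by
    ext y
    have key : ∀ m : t, (b m.1 ∘ₗ LinearMap.pi fun i => LinearMap.proj (⟨m, i⟩ : ι)) (A y) = g m.1 • y := by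
      intro m
      have h2 : (LinearMap.pi (R := R) (φ := fun i : Fin (n m.1) => R ⧸ Ideal.span {r m.1 i})
          fun i => LinearMap.proj (R := R) (φ := fun x : ι => R ⧸ Ideal.span {F x}) (⟨m, i⟩ : ι)) (A y) =
          a m.1 y := by
        ext i; rfl
      rw [LinearMap.comp_apply, h2]
      exact LinearMap.congr_fun (hba m.1) y
    simp only [LinearMap.coe_comp, Function.comp_apply, LinearMap.id_coe, id_eq, B,
      LinearMap.coe_sum, Finset.sum_apply, LinearMap.smul_apply]
    have key2 : ∀ m : t, c m.1 • (b m.1 ∘ₗ LinearMap.pi fun i => LinearMap.proj (⟨m, i⟩ : ι)) (A y) =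
        (c m.1 * g m.1) • y := fun m => by rw [key m, smul_smul]
    rw [show (∑ x : t, c x.1 • (b x.1) ((LinearMap.pi fun i => LinearMap.proj (⟨x, i⟩ : ι)) (A y))) =
      ∑ m : t, (c m.1 * g m.1) • y from Finset.sum_congr rfl (fun m _ => key2 m), ← Finset.sum_smul]
    have hsum : ∑ m : t, c m.1 * g m.1 = 1 := by
      rw [← hc, Finsupp.sum]
      exact Finset.sum_coe_sort c.support (fun m => c m * g m)
    rw [hsum, one_smul]
  let e := Fintype.equivFin ι
  refine ⟨Fintype.card ι, fun j => F (e.symm j), LinearMap.ker B, inferInstance, inferInstance, ⟨?_⟩⟩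
  exact (summandEquiv A B hBA).trans
    (LinearEquiv.piCongrLeft' R (fun x : ι => R ⧸ Ideal.span {F x}) e)

end globalStep



/-- Let R be a ring such that for every maximal ideal m and all a, b in R_m, either a divides b or b
divides a in R_m. Then each finitely presented R-module is a direct summand of a direct sum of
finitely many cyclic modules R/fR. -/
theorem result (R : Type u) [CommRing R]
    (h : ∀ (m : Ideal R) [m.IsMaximal], ∀ a b : Localization.AtPrime m, a ∣ b ∨ b ∣ a)
    (M : Type u) [AddCommGroup M] [Module R M] [Module.FinitePresentation R M] :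
    ∃ (n : ℕ) (f : Fin n → R) (N : Type u) (_ : AddCommGroup N) (_ : Module R N),
      Nonempty ((M × N) ≃ₗ[R] ((i : Fin n) → R ⧸ Ideal.span {f i})) := by
  exact result' R h M

end Groth.Agent.S2016
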