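import Groth.Statements.S2017
import Mathlib.RingTheory.Adjoin.Tower
import Mathlib.RingTheory.FiniteType
import Mathlib.RingTheory.Finiteness.Prod
-- import your own Groth.Agent.* helpers here

set_option autoImplicit false
universe u
open EtAlg

namespace Groth.Agent.S2017

/-- Let R be a Noetherian ring, A, B, C R-algebras of finite type, f : A -> B a surjective R-algebra map
and g : C -> B an R-algebra map making B a finite C-module. Then the fibre product A ×_B C (the
equalizer of f ∘ pr₁ and g ∘ pr₂ in A × C) is an R-algebra of finite type. -/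
theorem result (R A B C : Type u) [CommRing R] [IsNoetherianRing R] [CommRing A] [CommRing B]
    [CommRing C] [Algebra R A] [Algebra R B] [Algebra R C] [Algebra.FiniteType R A] [Algebra.FiniteType R B]
    [Algebra.FiniteType R C] (f : A →ₐ[R] B) (hf : Function.Surjective f) (g : C →ₐ[R] B)
    (hg : (g.toRingHom).Finite) :
    Algebra.FiniteType R ↥(AlgHom.equalizer (f.comp (AlgHom.fst R A C)) (g.comp (AlgHom.snd R A C))) := by
  classical
  set D := AlgHom.equalizer (f.comp (AlgHom.fst R A C)) (g.comp (AlgHom.snd R A C)) with hD
  have memD : ∀ x : A × C, x ∈ D ↔ f x.1 = g x.2 := fun x => Iff.rfl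
  let _ : Algebra C B := g.toRingHom.toAlgebra
  have hfin : Module.Finite C B := hg
  obtain ⟨s, hs⟩ := hfin.fg_top
  choose lift hlift using hf
  refine ⟨?_⟩
  apply fg_of_fg_of_fg R D (A × C)
  · exact Algebra.FiniteType.out
  · refine ⟨insert ((1 : A), (0 : C)) (insert ((0 : A), (1 : C)) (s.image fun b => (lift b, (0 : C)))), ?_⟩
    set T : Set (A × C) := ↑(insert ((1 : A), (0 : C)) (insert ((0 : A), (1 : C)) (s.image fun b => (lift b, (0 : C))))) with hT
    have h10 : ((1 : A), (0 : C)) ∈ Submodule.span D T := Submodule.subset_span (by simp [T])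
    have h01 : ((0 : A), (1 : C)) ∈ Submodule.span D T := Submodule.subset_span (by simp [T])
    have hker : ∀ a : A, f a = 0 → (a, (0 : C)) ∈ Submodule.span D T := by
      intro a ha
      have hm : (a, (0 : C)) ∈ D := by rw [memD]; simp [ha]
      have : (a, (0 : C)) = (⟨(a, 0), hm⟩ : D) • ((1 : A), (0 : C)) := by
        rw [Subalgebra.smul_def]; simp
      rw [this]
      exact Submodule.smul_mem _ _ h10
    have key : ∀ b ∈ Submodule.span C (s : Set B), ∀ a : A, f a = b → (a, (0 : C)) ∈ Submodule.span D T := by
      intro b hb
      induction hb using Submodule.span_induction with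
      | mem b hb =>
        intro a ha
        have h1 : (lift b, (0 : C)) ∈ Submodule.span D T :=
          Submodule.subset_span (by simp only [T, Finset.coe_insert, Finset.coe_image]; right; right; exact ⟨b, hb, rfl⟩)
        have h2 : (a - lift b, (0 : C)) ∈ Submodule.span D T := hker _ (by simp [ha, hlift])
        have : (a, (0 : C)) = (lift b, (0 : C)) + (a - lift b, (0 : C)) := by simp
        rw [this]; exact add_mem h1 h2
      | zero => intro a ha; exact hker a ha
      | add x y _ _ ihx ihy =>
        intro a ha
        have h1 := ihx (lift x) (hlift x)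
        have h2 := ihy (a - lift x) (by simp [ha, hlift])
        have : (a, (0 : C)) = (lift x, (0 : C)) + (a - lift x, (0 : C)) := by simp
        rw [this]; exact add_mem h1 h2
      | smul c x _ ih =>
        intro a ha
        have hm : (lift (g c), c) ∈ D := by rw [memD]; simp [hlift]
        have h1 := ih (lift x) (hlift x)
        have h2 : (a - lift (g c) * lift x, (0 : C)) ∈ Submodule.span D T := by
          apply hker
          rw [map_sub, map_mul, hlift, hlift, ha, Algebra.smul_def]
          simp [RingHom.algebraMap_toAlgebra]
        have : (a, (0 : C)) = (⟨(lift (g c), c), hm⟩ : D) • (lift x, (0 : C)) + (a - lift (g c) * lift x, (0 : C)) := by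
          rw [Subalgebra.smul_def]; simp
        rw [this]; exact add_mem (Submodule.smul_mem _ _ h1) h2
    rw [eq_top_iff]
    rintro ⟨a, c⟩ -
    have h1 : (a, (0 : C)) ∈ Submodule.span D T := key (f a) (by rw [hs]; trivial) a rfl
    have hm : (lift (g c), c) ∈ D := by rw [memD]; simp [hlift]
    have h2 : ((0 : A), c) ∈ Submodule.span D T := by
      have : ((0 : A), c) = (⟨(lift (g c), c), hm⟩ : D) • ((0 : A), (1 : C)) := by
        rw [Subalgebra.smul_def]; simp
      rw [this]; exact Submodule.smul_mem _ _ h01
    have : (a, c) = (a, (0 : C)) + ((0 : A), c) := by simp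
    rw [this]; exact add_mem h1 h2
  · exact Subtype.val_injective

end Groth.Agent.S2017
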