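import Groth.Statements.S2018
import Mathlib.Algebra.Polynomial.Lifts
import Mathlib.RingTheory.IntegralClosure.IsIntegral.Basic
-- import your own Groth.Agent.* helpers here

set_option autoImplicit false
universe u
open EtAlg

namespace Groth.Agent.S2018

/-- Let g : A' -> A be a surjective ring map and f : B -> A an integral ring map. Then the projection
from the fibre product B ×_A A' (the equalizer of f ∘ pr₁ and g ∘ pr₂ in B × A') to A' is integral. -/
theorem result (A A' B : Type u) [CommRing A] [CommRing A'] [CommRing B] (g : A' →+* A)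
    (hg : Function.Surjective g) (f : B →+* A) (hf : f.IsIntegral) :
    ((RingHom.snd B A').comp ((f.comp (RingHom.fst B A')).eqLocus (g.comp (RingHom.snd B A'))).subtype).IsIntegral := by
  intro a'
  set D := (f.comp (RingHom.fst B A')).eqLocus (g.comp (RingHom.snd B A')) with hD
  set π : D →+* A' := (RingHom.snd B A').comp D.subtype with hπ
  let π₁ : D →+* B := (RingHom.fst B A').comp D.subtype
  have hcomm : f.comp π₁ = g.comp π := by
    ext ⟨x, hx⟩; exact hx
  have hπ₁ : Function.Surjective π₁ := by
    intro b
    obtain ⟨a'', ha''⟩ := hg (f b)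
    exact ⟨⟨(b, a''), by simp [D, RingHom.mem_eqLocus, ha'']⟩, rfl⟩
  rcases subsingleton_or_nontrivial D with hsub | hnt
  · have h10 : (1 : A') = 0 := by
      have : (1 : D) = 0 := Subsingleton.elim _ _
      calc (1 : A') = π 1 := (map_one π).symm
        _ = π 0 := by rw [this]
        _ = 0 := map_zero π
    have : a' = 0 := by
      calc a' = a' * 1 := (mul_one a').symm
        _ = 0 := by rw [h10, mul_zero]
    rw [this]
    exact π.isIntegralElem_zero
  obtain ⟨p, hp, hpe⟩ := hf (g a')
  obtain ⟨q, hq, -, hqm⟩ := Polynomial.lifts_and_natDegree_eq_and_monic (f := π₁)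
    ((Polynomial.mem_lifts p).2 (Polynomial.map_surjective π₁ hπ₁ p)) hp
  have hqX : (q * Polynomial.X).Monic := hqm.mul Polynomial.monic_X
  have hdeg : (q * Polynomial.X).natDegree ≠ 0 := by
    rw [Polynomial.natDegree_mul_X hqm.ne_zero]
    omega
  have hgc : g (Polynomial.eval₂ π a' (q * Polynomial.X)) = 0 := by
    rw [Polynomial.eval₂_mul, Polynomial.eval₂_X, map_mul, Polynomial.hom_eval₂, ← hcomm,
      ← Polynomial.eval₂_map, hq, hpe, zero_mul]
  have hmem : ((0 : B), Polynomial.eval₂ π a' (q * Polynomial.X)) ∈ D := by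
    simp only [D, RingHom.mem_eqLocus, RingHom.comp_apply, RingHom.coe_fst, RingHom.coe_snd,
      map_zero]
    exact hgc.symm
  have hint : π.IsIntegralElem (Polynomial.eval₂ π a' (q * Polynomial.X)) :=
    π.isIntegralElem_map (x := ⟨_, hmem⟩)
  let _ : Algebra D A' := π.toAlgebra
  have hint' : IsIntegral D (Polynomial.aeval a' (q * Polynomial.X)) := by
    rw [Polynomial.aeval_def]; exact hint
  exact IsIntegral.of_aeval_monic hqX hdeg hint'

end Groth.Agent.S2018
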