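import Groth.Statements.S2026
import Mathlib
import Groth.Agent.S2108

set_option autoImplicit false
universe u
open Smoothing

namespace Groth.Agent.S2026

section Helpers

namespace N1

open MvPolynomial Smoothing Groth.Agent.S4580 Groth.Agent.S5998

/-- Local Nakayama: if every generator is, up to a unit multiple, in `N' + N²`, then `N ≤ N'`
after localization. -/
lemma map_le_of_mul_mem {B : Type*} [CommRing B] (Q : Ideal B) [Q.IsPrime] {ι : Type*} [Finite ι]
    (g : ι → B) (hgQ : ∀ i, g i ∈ Q) (N' : Ideal B) (hN' : N' ≤ Ideal.span (Set.range g))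
    (a₁ : B) (ha₁ : a₁ ∉ Q)
    (h : ∀ i, a₁ * g i ∈ N' ⊔ Ideal.span (Set.range g) ^ 2) :
    (Ideal.span (Set.range g)).map (algebraMap B (Localization.AtPrime Q)) =
      N'.map (algebraMap B (Localization.AtPrime Q)) := by
  refine le_antisymm ?_ (Ideal.map_mono hN')
  set J := Ideal.span (Set.range g) with hJ
  have hJQ : J ≤ Q := by rw [hJ, Ideal.span_le]; rintro _ ⟨i, rfl⟩; exact hgQ i
  have hfg : (J.map (algebraMap B (Localization.AtPrime Q))).FG := by
    rw [hJ, Ideal.map_span]
    exact Submodule.fg_span ((Set.finite_range g).image _)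
  refine Submodule.le_of_le_smul_of_le_jacobson_bot
    (I := IsLocalRing.maximalIdeal (Localization.AtPrime Q)) hfg
    (IsLocalRing.maximalIdeal_le_jacobson _) ?_
  rw [hJ, Ideal.map_span, Ideal.span_le]
  rintro _ ⟨_, ⟨i, rfl⟩, rfl⟩
  have hu : IsUnit (algebraMap B (Localization.AtPrime Q) a₁) :=
    IsLocalization.map_units (M := Q.primeCompl) _ ⟨a₁, ha₁⟩
  have h1 : algebraMap B (Localization.AtPrime Q) (a₁ * g i) ∈
      (N' ⊔ J ^ 2).map (algebraMap B (Localization.AtPrime Q)) := Ideal.mem_map_of_mem _ (h i)
  rw [Ideal.map_sup, Ideal.map_pow, map_mul] at h1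
  have h2 : algebraMap B (Localization.AtPrime Q) (g i) ∈
      N'.map (algebraMap B (Localization.AtPrime Q)) ⊔
        J.map (algebraMap B (Localization.AtPrime Q)) ^ 2 := by
    have := Ideal.mul_mem_left _ (↑hu.unit⁻¹ : Localization.AtPrime Q) h1
    rwa [← mul_assoc, IsUnit.val_inv_mul, one_mul] at this
  have h3 : N'.map (algebraMap B (Localization.AtPrime Q)) ⊔
        J.map (algebraMap B (Localization.AtPrime Q)) ^ 2 ≤
      N'.map (algebraMap B (Localization.AtPrime Q)) ⊔
        IsLocalRing.maximalIdeal (Localization.AtPrime Q) •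
          Ideal.span (⇑(algebraMap B (Localization.AtPrime Q)) '' Set.range g) := by
    refine sup_le_sup_left ?_ _
    rw [pow_two, smul_eq_mul, ← Ideal.map_span, ← hJ]
    refine Ideal.mul_mono_left ?_
    rw [← Localization.AtPrime.map_eq_maximalIdeal]
    exact Ideal.map_mono hJQ
  exact h3 h2

end N1

namespace N2

open MvPolynomial Smoothing N1 Groth.Agent.S4580 Groth.Agent.S5998

/-- Transport of smoothness at a prime from the quotient by the kernel to the target. -/
lemma isSmoothAt_of_quotient {R B A : Type u} [CommRing R] [CommRing B] [CommRing A] [Algebra R B]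
    [Algebra R A] (φ : B →ₐ[R] A) (hφ : Function.Surjective φ) (q : Ideal A) [q.IsPrime]
    [hp : ((q.comap φ).map (Ideal.Quotient.mk (RingHom.ker φ))).IsPrime]
    [hs : Algebra.FormallySmooth R
      (Localization.AtPrime ((q.comap φ).map (Ideal.Quotient.mk (RingHom.ker φ))))] :
    Algebra.IsSmoothAt R q := by
  let e : (B ⧸ RingHom.ker φ) ≃ₐ[R] A := Ideal.quotientKerAlgEquivOfSurjective hφ
  have he : ∀ x, e (Ideal.Quotient.mk _ x) = φ x := fun x => rfl
  haveI : (q.comap e).IsPrime := Ideal.comap_isPrime _ _
  have hPQ : q.comap e = (q.comap φ).map (Ideal.Quotient.mk (RingHom.ker φ)) := by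
    have h1 : (q.comap e).comap (Ideal.Quotient.mk (RingHom.ker φ)) = q.comap φ := by
      ext x
      rw [Ideal.mem_comap, Ideal.mem_comap, Ideal.mem_comap, he]
    rw [← h1, Ideal.map_comap_of_surjective _ Ideal.Quotient.mk_surjective]
  rw [← Y1.fs_transport (R := R) hPQ] at hs
  exact Algebra.FormallySmooth.of_equiv (Localization.localAlgEquiv (q.comap e) q e rfl)

theorem isSmoothAt_of_isStrictlyStandard {R A : Type u} [CommRing R] [CommRing A] [Algebra R A]
    (a : A) (ha : IsStrictlyStandard R A a) (q : Ideal A) [q.IsPrime] (haq : a ∉ q) :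
    Algebra.IsSmoothAt R q := by
  classical
  obtain ⟨P, hmem, hkt⟩ := ha
  obtain ⟨cols, hcols⟩ : ∃ cols : Fin P.c → Fin P.n,
      P.hom (jacobianMinor P.rel (Fin.castLE P.hcm) cols) ∉ q := by
    by_contra hcon
    push_neg at hcon
    apply haq
    have : Ideal.span (Set.range fun cols : Fin P.c → Fin P.n =>
        P.hom (jacobianMinor P.rel (Fin.castLE P.hcm) cols)) ≤ q := by
      rw [Ideal.span_le]; rintro _ ⟨cols, rfl⟩; exact hcon cols
    exact this hmem
  have hJ : RingHom.ker P.hom = Ideal.span (Set.range P.rel) := by rw [← P.ker_eq]; rfl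
  obtain ⟨a₁, ha₁⟩ := P.surj a
  have hJQ : RingHom.ker P.hom ≤ q.comap P.hom := by
    intro x hx
    rw [Ideal.mem_comap, (RingHom.mem_ker).mp hx]
    exact zero_mem _
  haveI : (q.comap P.hom).IsPrime := Ideal.comap_isPrime _ _
  haveI hp : ((q.comap P.hom).map (Ideal.Quotient.mk (RingHom.ker P.hom))).IsPrime := by
    refine Ideal.map_isPrime_of_surjective Ideal.Quotient.mk_surjective ?_
    rw [Ideal.mk_ker]
    exact hJQ
  -- the span condition
  have hspan : (RingHom.ker P.hom).map (algebraMap _ (Localization.AtPrime (q.comap P.hom))) =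
      Ideal.span (Set.range fun i : Fin P.c =>
        algebraMap _ (Localization.AtPrime (q.comap P.hom)) (P.rel (Fin.castLE P.hcm i))) := by
    rw [hJ]
    have hN' : Ideal.span (Set.range fun i : Fin P.c => P.rel (Fin.castLE P.hcm i)) ≤
        Ideal.span (Set.range P.rel) := by
      rw [Ideal.span_le]; rintro _ ⟨i, rfl⟩; exact Ideal.subset_span ⟨_, rfl⟩
    rw [map_le_of_mul_mem (q.comap P.hom) P.rel ?_ _ hN' a₁ ?_ ?_, Ideal.map_span, ← Set.range_comp]
    · rfl
    · intro i
      apply hJQ
      rw [hJ]
      exact Ideal.subset_span ⟨i, rfl⟩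
    · rw [Ideal.mem_comap, ha₁]; exact haq
    · intro j
      by_cases hj : P.c ≤ (j : ℕ)
      · have hle : Ideal.span (P.rel '' {j' : Fin P.m | (j' : ℕ) < P.c}) ≤
            Ideal.span (Set.range fun i : Fin P.c => P.rel (Fin.castLE P.hcm i)) := by
          rw [Ideal.span_le]
          rintro _ ⟨j', hj', rfl⟩
          exact Ideal.subset_span ⟨⟨j', hj'⟩, by simp [Fin.castLE]⟩
        exact (sup_le_sup_right hle _) (hkt a₁ ha₁ j hj)
      · push_neg at hj
        refine Ideal.mem_sup_left (Ideal.mul_mem_left _ _ (Ideal.subset_span ⟨⟨j, hj⟩, ?_⟩))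
        simp [Fin.castLE]
  haveI := Z3.backward (R := R) (RingHom.ker P.hom) (q.comap P.hom) hJQ
    (fun i : Fin P.c => P.rel (Fin.castLE P.hcm i)) (fun k => pderiv (cols k))
    (fun i => by rw [hJ]; exact Ideal.subset_span ⟨_, rfl⟩) hspan
    (by
      intro h
      apply hcols
      exact h)
  exact isSmoothAt_of_quotient P.hom P.surj q

end N2

namespace N3

open MvPolynomial Smoothing

lemma exists_perm_extend {α β : Type*} [Fintype β] (e1 e2 : α ↪ β) :
    ∃ σ : Equiv.Perm β, ∀ i, σ (e1 i) = e2 i := by
  classical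
  let E : {x // x ∈ Set.range e1} ≃ {x // x ∈ Set.range e2} :=
    (Equiv.ofInjective e1 e1.injective).symm.trans (Equiv.ofInjective e2 e2.injective)
  refine ⟨E.extendSubtype, fun i => ?_⟩
  rw [Equiv.extendSubtype_apply_of_mem E (e1 i) ⟨i, rfl⟩]
  have : (Equiv.ofInjective e1 e1.injective).symm ⟨e1 i, ⟨i, rfl⟩⟩ = i := by
    apply (Equiv.ofInjective e1 e1.injective).injective
    rw [Equiv.apply_symm_apply]
    rfl
  simp only [E, Equiv.trans_apply, this]
  rfl

/-- The square Jacobian minor is compatible with renaming variables by a permutation. -/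
lemma jacobianMinor_rename {R : Type u} [CommRing R] {n m c : ℕ}
    (f : Fin m → MvPolynomial (Fin n) R) (rows : Fin c → Fin m) (cols : Fin c → Fin n)
    (τ : Equiv.Perm (Fin n)) :
    jacobianMinor (fun j => rename τ (f j)) rows (fun k => τ (cols k)) =
      rename τ (jacobianMinor f rows cols) := by
  unfold jacobianMinor
  have h : rename τ (Matrix.det (Matrix.of fun j k : Fin c => pderiv (cols k) (f (rows j)))) =
      Matrix.det ((rename (R := R) τ).toRingHom.mapMatrix
        (Matrix.of fun j k : Fin c => pderiv (cols k) (f (rows j)))) :=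
    RingHom.map_det (rename (R := R) τ).toRingHom _
  rw [h]
  congr 1
  refine Matrix.ext fun j k => ?_
  simp only [Matrix.of_apply, RingHom.mapMatrix_apply, Matrix.map_apply]
  exact pderiv_rename (R := R) (f := ⇑τ) τ.injective (cols k) (f (rows j))

end N3

namespace N4

open MvPolynomial Smoothing N3

section
variable {R : Type u} [CommRing R] {n : ℕ} (τ : Equiv.Perm (Fin n))

lemma rename_symm_rename (x : MvPolynomial (Fin n) R) : rename τ.symm (rename τ x) = x := by
  rw [rename_rename, Equiv.symm_comp_self, rename_id_apply]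

lemma rename_rename_symm (x : MvPolynomial (Fin n) R) : rename τ (rename τ.symm x) = x := by
  rw [rename_rename, Equiv.self_comp_symm, rename_id_apply]

end

theorem isElementaryStandard_of {R A : Type u} [CommRing R] [CommRing A] [Algebra R A] {n m : ℕ}
    (f : Fin m → MvPolynomial (Fin n) R) (φ : MvPolynomial (Fin n) R →ₐ[R] A)
    (hφ : Function.Surjective φ)
    (hker : RingHom.ker φ.toRingHom = Ideal.span (Set.range f))
    (a : A) (c : ℕ) (rows : Fin c ↪ Fin m) (cols : Fin c ↪ Fin n) (a' : A)
    (ha : a = a' * φ (jacobianMinor f rows cols))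
    (hk : ∀ a₁ : MvPolynomial (Fin n) R, φ a₁ = a → ∀ ℓ : Fin m,
        a₁ * f ℓ ∈ Ideal.span (Set.range (f ∘ rows)) ⊔ Ideal.span (Set.range f) ^ 2) :
    IsElementaryStandard R A a := by
  classical
  have hcm : c ≤ m := by simpa using Fintype.card_le_of_embedding rows
  have hcn : c ≤ n := by simpa using Fintype.card_le_of_embedding cols
  obtain ⟨σ, hσ⟩ := exists_perm_extend (Fin.castLEEmb hcm) rows
  obtain ⟨τ, hτ⟩ := exists_perm_extend (Fin.castLEEmb hcn) cols
  have hσ' : ∀ i, σ (Fin.castLE hcm i) = rows i := hσ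
  have hτ' : ∀ i, τ (Fin.castLE hcn i) = cols i := hτ
  have hmem_f : ∀ x, φ x = 0 ↔ x ∈ Ideal.span (Set.range f) := by
    intro x
    rw [← hker]; rfl
  let rel' : Fin m → MvPolynomial (Fin n) R := fun j => rename τ.symm (f (σ j))
  -- images of the relevant ideals under the renaming
  have hmap1 : ∀ x, x ∈ Ideal.span (Set.range f) → rename τ.symm x ∈ Ideal.span (Set.range rel') := by
    intro x hx
    have h1 := Ideal.mem_map_of_mem (rename (R := R) τ.symm).toRingHom hx
    rw [Ideal.map_span] at h1
    refine SetLike.mem_of_subset (Ideal.span_mono ?_) h1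
    rintro _ ⟨_, ⟨j, rfl⟩, rfl⟩
    exact ⟨σ.symm j, by simp [rel']⟩
  have hmap2 : ∀ x, x ∈ Ideal.span (Set.range rel') → rename τ x ∈ Ideal.span (Set.range f) := by
    intro x hx
    have h1 := Ideal.mem_map_of_mem (rename (R := R) τ).toRingHom hx
    rw [Ideal.map_span] at h1
    refine SetLike.mem_of_subset (Ideal.span_mono ?_) h1
    rintro _ ⟨_, ⟨j, rfl⟩, rfl⟩
    exact ⟨σ j, (rename_rename_symm τ _).symm⟩
  let P : MarkedPresentation R A :=
    { n := n, m := m, c := c, hcn := hcn, hcm := hcm, rel := rel'
      hom := φ.comp (rename τ)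
      surj := by
        intro y
        obtain ⟨x, rfl⟩ := hφ y
        refine ⟨rename τ.symm x, ?_⟩
        rw [AlgHom.comp_apply, rename_rename_symm]
      ker_eq := by
        ext x
        rw [RingHom.mem_ker]
        change φ (rename τ x) = 0 ↔ _
        rw [hmem_f]
        constructor
        · intro h
          have := hmap1 _ h
          rwa [rename_symm_rename] at this
        · exact hmap2 x }
  refine ⟨P, ⟨a', ?_⟩, ?_⟩
  · rw [ha]
    congr 1
    change φ _ = φ (rename τ _)
    have h1 : jacobianMinor P.rel (Fin.castLE P.hcm) (Fin.castLE P.hcn) =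
        rename τ.symm (jacobianMinor f rows cols) := by
      have h2 := jacobianMinor_rename (fun j => f (σ j)) (Fin.castLE hcm) (fun k => cols k) τ.symm
      have h3 : (fun k => τ.symm (cols k)) = Fin.castLE hcn := by
        funext k
        rw [← hτ' k, Equiv.symm_apply_apply]
      rw [h3] at h2
      have h4 : jacobianMinor (fun j => f (σ j)) (Fin.castLE hcm) (fun k => cols k) =
          jacobianMinor f rows cols := by
        unfold jacobianMinor
        congr 1
        refine Matrix.ext fun j k => ?_
        simp only [Matrix.of_apply, hσ']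
      rw [h4] at h2
      exact h2
    rw [h1, rename_rename_symm]
  · intro a'' ha'' j hj
    have h1 := hk (rename τ a'') ha'' (σ j)
    have h2 := Ideal.mem_map_of_mem (rename (R := R) τ.symm).toRingHom h1
    rw [Ideal.map_sup, Ideal.map_pow, Ideal.map_span, Ideal.map_span] at h2
    have h3 : (rename (R := R) τ.symm).toRingHom (rename τ a'' * f (σ j)) = a'' * P.rel j := by
      change rename τ.symm (rename τ a'' * f (σ j)) = _
      rw [map_mul, rename_symm_rename]
    rw [h3] at h2
    have hle1 : Ideal.span ((rename (R := R) τ.symm).toRingHom '' Set.range (f ∘ rows)) ≤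
        Ideal.span (P.rel '' {j' : Fin P.m | (j' : ℕ) < P.c}) := by
      refine Ideal.span_mono ?_
      rintro _ ⟨_, ⟨i, rfl⟩, rfl⟩
      refine ⟨Fin.castLE hcm i, ?_, ?_⟩
      · change ((Fin.castLE hcm i : Fin m) : ℕ) < c
        simp
      · change rename τ.symm (f (σ (Fin.castLE hcm i))) = rename τ.symm (f (rows i))
        rw [hσ']
    have hle2 : Ideal.span ((rename (R := R) τ.symm).toRingHom '' Set.range f) ≤
        Ideal.span (Set.range P.rel) := by
      refine Ideal.span_mono ?_
      rintro _ ⟨_, ⟨j', rfl⟩, rfl⟩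
      exact ⟨σ.symm j', by simp [P, rel']⟩
    exact (sup_le_sup hle1 (Ideal.pow_right_mono hle2 2)) h2

end N4

namespace N5

open MvPolynomial Smoothing N2 N4

lemma isStrictlyStandard_of_isElementaryStandard {R A : Type u} [CommRing R] [CommRing A]
    [Algebra R A] (a : A) (h : IsElementaryStandard R A a) : IsStrictlyStandard R A a := by
  obtain ⟨P, ⟨a', ha'⟩, hk⟩ := h
  refine ⟨P, ?_, hk⟩
  rw [ha']
  exact Ideal.mul_mem_left _ _ (Ideal.subset_span ⟨Fin.castLE P.hcn, rfl⟩)

lemma exists_isElementaryStandard_notMem {R A : Type u} [CommRing R] [CommRing A] [Algebra R A]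
    [Algebra.FinitePresentation R A] (q : Ideal A) [q.IsPrime] [Algebra.IsSmoothAt R q] :
    ∃ a : A, a ∉ q ∧ IsElementaryStandard R A a := by
  obtain ⟨n, φ, hφ, hfg⟩ := Algebra.FinitePresentation.out (R := R) (A := A)
  obtain ⟨m, f, hf⟩ := Submodule.fg_iff_exists_fin_generating_family.mp hfg
  have hker : RingHom.ker φ.toRingHom = Ideal.span (Set.range f) := hf.symm
  obtain ⟨a, haq, c, rows, cols, a', ha, hk⟩ := Groth.Agent.S2108.result f φ hφ hker q
  exact ⟨a, haq, isElementaryStandard_of f φ hφ hker a c rows cols a' ha hk⟩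

theorem main {R A : Type u} [CommRing R] [CommRing A] [Algebra R A]
    [Algebra.FinitePresentation R A] :
    singularIdeal R A = (Ideal.span {a : A | IsStrictlyStandard R A a}).radical ∧
      singularIdeal R A = (Ideal.span {a : A | IsElementaryStandard R A a}).radical := by
  have h1 : Ideal.span {a : A | IsElementaryStandard R A a} ≤
      Ideal.span {a : A | IsStrictlyStandard R A a} :=
    Ideal.span_mono fun a ha => isStrictlyStandard_of_isElementaryStandard a ha
  have h2 : (Ideal.span {a : A | IsStrictlyStandard R A a}).radical ≤ singularIdeal R A := by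
    have hrad : (singularIdeal R A).IsRadical := PrimeSpectrum.isRadical_vanishingIdeal _
    rw [hrad.radical_le_iff, Ideal.span_le]
    intro a ha
    change a ∈ PrimeSpectrum.vanishingIdeal _
    rw [PrimeSpectrum.mem_vanishingIdeal]
    intro x hx
    by_contra hax
    exact hx (isSmoothAt_of_isStrictlyStandard a ha x.asIdeal hax)
  have h3 : singularIdeal R A ≤ (Ideal.span {a : A | IsElementaryStandard R A a}).radical := by
    rw [Ideal.radical_eq_sInf]
    refine le_sInf ?_
    rintro q ⟨hq, hqp⟩
    have hmem : (⟨q, hqp⟩ : PrimeSpectrum A) ∈ (Algebra.smoothLocus R A)ᶜ := by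
      intro hsm
      haveI : Algebra.IsSmoothAt R q := hsm
      obtain ⟨a, haq, ha⟩ := exists_isElementaryStandard_notMem (R := R) q
      exact haq (hq (Ideal.subset_span ha))
    intro x hx
    exact (PrimeSpectrum.mem_vanishingIdeal _ _).mp hx _ hmem
  have h4 := Ideal.radical_mono h1
  exact ⟨le_antisymm (h3.trans h4) h2, le_antisymm h3 (h4.trans h2)⟩

end N5

end Helpers

/-- For a finitely presented `R`-algebra `A`, the singular ideal (functions vanishing on the non-smooth
locus) coincides with the radical of the ideal spanned by all strictly standard elements, and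
equally with the radical of the ideal spanned by all elementary standard elements. -/
theorem result {R A : Type u} [CommRing R] [CommRing A]
    [Algebra R A] [Algebra.FinitePresentation R A] :
    Smoothing.singularIdeal R A = (Ideal.span {a : A | Smoothing.IsStrictlyStandard R A a}).radical ∧
      Smoothing.singularIdeal R A =
        (Ideal.span {a : A | Smoothing.IsElementaryStandard R A a}).radical := by
  exact N5.main

end Groth.Agent.S2026
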