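import Groth.Statements.S2032
import Mathlib.RingTheory.Extension.Presentation.Submersive
import Mathlib.RingTheory.Smooth.StandardSmooth
import Mathlib.RingTheory.Ideal.IdempotentFG
import Mathlib.RingTheory.Localization.Away.Basic
import Mathlib.RingTheory.Localization.Away.Lemmas
-- import your own Groth.Agent.* helpers here

set_option autoImplicit false
universe u
open Smoothing

namespace Groth.Agent.S2032

open MvPolynomial

section step1

variable {R : Type u} [CommRing R] {n c : ℕ} (v : Fin c → MvPolynomial (Fin n) R) (hcn : c ≤ n)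

/-- The quotient of the polynomial ring by the leading relations. -/
abbrev E : Type u := MvPolynomial (Fin n) R ⧸ Ideal.span (Set.range v)

/-- The leading minor. -/
noncomputable def minor : MvPolynomial (Fin n) R :=
  Matrix.det (Matrix.of fun j k : Fin c => pderiv (Fin.castLE hcn k) (v j))

/-- The naive presentation of `E v` with its leading variables marked. -/
noncomputable def preE : Algebra.PreSubmersivePresentation R (E v) (Fin n) (Fin c) :=
  Algebra.PreSubmersivePresentation.naive (v := v) (Fin.castLE hcn) (Fin.castLE_injective hcn)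

lemma preE_jacobian :
    (preE v hcn).jacobian = Ideal.Quotient.mk (Ideal.span (Set.range v)) (minor v hcn) := by
  classical
  rw [Algebra.PreSubmersivePresentation.jacobian_eq_jacobiMatrix_det]
  have : (preE v hcn).jacobiMatrix =
      (Matrix.of fun j k : Fin c => pderiv (Fin.castLE hcn k) (v j)).transpose := by
    ext i j
    rw [preE, Algebra.PreSubmersivePresentation.jacobiMatrix_naive]
    rfl
  rw [this, Matrix.det_transpose]
  rfl

theorem isStandardSmooth_away (g' : MvPolynomial (Fin n) R) :
    Algebra.IsStandardSmooth R (Localization.Away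
      (Ideal.Quotient.mk (Ideal.span (Set.range v)) (g' * minor v hcn))) := by
  set g : E v := Ideal.Quotient.mk (Ideal.span (Set.range v)) (g' * minor v hcn) with hg
  let Q : Algebra.PreSubmersivePresentation (E v) (Localization.Away g) Unit Unit :=
    Algebra.PreSubmersivePresentation.localizationAway (Localization.Away g) g
  let P := Q.comp (preE v hcn)
  have hjac : IsUnit P.jacobian := by
    rw [Algebra.PreSubmersivePresentation.comp_jacobian_eq_jacobian_smul_jacobian,
      Algebra.PreSubmersivePresentation.localizationAway_jacobian, preE_jacobian, Algebra.smul_def,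
      ← map_mul]
    have hu : IsUnit (algebraMap (E v) (Localization.Away g) g) :=
      IsLocalization.Away.algebraMap_isUnit g
    have h2 : IsUnit (algebraMap (E v) (Localization.Away g)
        (Ideal.Quotient.mk (Ideal.span (Set.range v)) (minor v hcn))) := by
      rw [hg, map_mul, map_mul] at hu
      exact isUnit_of_mul_isUnit_right hu
    rw [map_mul]
    exact h2.mul hu
  exact (Algebra.SubmersivePresentation.mk P hjac).isStandardSmooth

end step1

section step2

variable {R : Type u} [CommRing R] {E A : Type u} [CommRing E] [CommRing A] [Algebra R E]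
  [Algebra R A]

theorem isStandardSmooth_of_idempotent_ker (f : E →ₐ[R] A) (hf : Function.Surjective f) (g : E)
    [Algebra.IsStandardSmooth R (Localization.Away g)]
    (hfg : (RingHom.ker f.toRingHom).FG)
    (hidem : ∀ x ∈ RingHom.ker f.toRingHom, g * x ∈ (RingHom.ker f.toRingHom) ^ 2) :
    Algebra.IsStandardSmooth R (Localization.Away (f g)) := by
  let E1 := Localization.Away g
  let Aa := Localization.Away (f g)
  let ψ : E1 →ₐ[R] Aa := IsLocalization.Away.mapₐ E1 Aa f g
  have hψsurj : Function.Surjective ψ := IsLocalization.Away.mapₐ_surjective_of_surjective g hf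
  let J : Ideal E1 := (RingHom.ker f.toRingHom).map (algebraMap E E1)
  have hker : RingHom.ker ψ.toRingHom = J := by
    have := IsLocalization.ker_map (S := E1) (M := Submonoid.powers g) Aa f.toRingHom
      (T := Submonoid.powers (f g)) (by rw [Submonoid.map_powers]; rfl)
    exact this
  have hJfg : J.FG := hfg.map _
  have hJidem : IsIdempotentElem J := by
    apply le_antisymm Ideal.mul_le_right
    rw [Ideal.map_le_iff_le_comap]
    intro x hx
    have h1 := hidem x hx
    have h2 : algebraMap E E1 (g * x) ∈ J * J := by
      rw [← pow_two, ← Ideal.map_pow]; exact Ideal.mem_map_of_mem _ h1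
    rw [map_mul] at h2
    have hu : IsUnit (algebraMap E E1 g) := IsLocalization.Away.algebraMap_isUnit g
    exact (Ideal.unit_mul_mem_iff_mem _ hu).1 h2
  obtain ⟨e, he, hJe⟩ := (Ideal.isIdempotentElem_iff_of_fg J hJfg).1 hJidem
  let _ : Algebra E1 Aa := ψ.toRingHom.toAlgebra
  have : IsScalarTower R E1 Aa := IsScalarTower.of_algebraMap_eq (fun r => (ψ.commutes r).symm)
  have : IsLocalization.Away (1 - e) Aa := by
    apply IsLocalization.away_of_isIdempotentElem he.one_sub
    · rw [sub_sub_cancel]
      show RingHom.ker ψ.toRingHom = _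
      rw [hker, hJe]
    · exact hψsurj
  have : Algebra.IsStandardSmooth E1 Aa := Algebra.IsStandardSmooth.localization_away (1 - e)
  exact Algebra.IsStandardSmooth.trans R E1 Aa

end step2

/-- For a finitely presented `R`-algebra `A` and `a ∈ A`, if `a` is elementary standard then `A_a` is
standard smooth over `R`. (Part (f), the converse for large powers of `a`, is not stated: as
published it fails, for example for the nodal cubic `A = {g ∈ ℚ[u] : g(0) = g(1)}` and `a =
u(u-1)`.) -/
theorem result {R A : Type u} [CommRing R] [CommRing A]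
    [Algebra R A] [Algebra.FinitePresentation R A] (a : A)
    (ha : Smoothing.IsElementaryStandard R A a) : Algebra.IsStandardSmooth R (Localization.Away a) := by
  obtain ⟨P, ⟨a', ha'⟩, hkill⟩ := ha
  let v : Fin P.c → MvPolynomial (Fin P.n) R := fun j => P.rel (Fin.castLE P.hcm j)
  have hminor : minor v P.hcn = jacobianMinor P.rel (Fin.castLE P.hcm) (Fin.castLE P.hcn) := rfl
  obtain ⟨a'', ha''⟩ := P.surj a'
  let gp : MvPolynomial (Fin P.n) R := a'' * minor v P.hcn
  have hgp : P.hom gp = a := by
    rw [map_mul, ha'', hminor, ← ha']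
  have hker : ∀ x, P.hom x = 0 ↔ x ∈ Ideal.span (Set.range P.rel) := by
    intro x
    rw [← P.ker_eq, RingHom.mem_ker]; rfl
  have hIc : ∀ x ∈ Ideal.span (Set.range v), P.hom x = 0 := by
    intro x hx
    rw [hker]
    refine Ideal.span_mono ?_ hx
    rintro _ ⟨j, rfl⟩
    exact ⟨_, rfl⟩
  let f : E v →ₐ[R] A := Ideal.Quotient.liftₐ (Ideal.span (Set.range v)) P.hom hIc
  have hfmk : ∀ x, f (Ideal.Quotient.mk _ x) = P.hom x := fun x => rfl
  have hfsurj : Function.Surjective f := by
    intro y
    obtain ⟨x, rfl⟩ := P.surj y
    exact ⟨Ideal.Quotient.mk _ x, rfl⟩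
  let g : E v := Ideal.Quotient.mk (Ideal.span (Set.range v)) gp
  have hfg : f g = a := hgp
  have hkerf : RingHom.ker f.toRingHom =
      (Ideal.span (Set.range P.rel)).map (Ideal.Quotient.mk (Ideal.span (Set.range v))) := by
    ext x
    obtain ⟨x, rfl⟩ := Ideal.Quotient.mk_surjective x
    rw [RingHom.mem_ker]
    show P.hom x = 0 ↔ _
    rw [hker]
    constructor
    · intro hx; exact Ideal.mem_map_of_mem _ hx
    · intro hx
      rw [Ideal.mem_map_iff_of_surjective _ Ideal.Quotient.mk_surjective] at hx
      obtain ⟨y, hy, hyx⟩ := hx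
      have h1 : y - x ∈ Ideal.span (Set.range v) := by
        rw [← Ideal.Quotient.eq]; exact hyx
      have h2 : y - x ∈ Ideal.span (Set.range P.rel) := (hker _).1 (hIc _ h1)
      have : x = y - (y - x) := by ring
      rw [this]
      exact sub_mem hy h2
  have hstd : Algebra.IsStandardSmooth R (Localization.Away g) := isStandardSmooth_away v P.hcn a''
  have hfgker : (RingHom.ker f.toRingHom).FG := by
    rw [hkerf]
    exact Ideal.FG.map (Submodule.fg_span (Set.finite_range _)) _
  have hidem : ∀ x ∈ RingHom.ker f.toRingHom, g * x ∈ (RingHom.ker f.toRingHom) ^ 2 := by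
    intro x hx
    rw [hkerf, Ideal.mem_map_iff_of_surjective _ Ideal.Quotient.mk_surjective] at hx
    obtain ⟨y, hy, rfl⟩ := hx
    rw [hkerf, ← Ideal.map_pow, ← map_mul]
    induction hy using Submodule.span_induction with
    | mem y hy =>
      obtain ⟨j, rfl⟩ := hy
      by_cases hj : P.c ≤ (j : ℕ)
      · have h1 := hkill gp hgp j hj
        rw [Submodule.mem_sup] at h1
        obtain ⟨u, hu, w, hw, huw⟩ := h1
        have hu' : u ∈ Ideal.span (Set.range v) := by
          refine Ideal.span_mono ?_ hu
          rintro _ ⟨j', hj', rfl⟩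
          exact ⟨⟨j', hj'⟩, rfl⟩
        rw [← huw, map_add, Ideal.Quotient.eq_zero_iff_mem.2 hu', zero_add]
        exact Ideal.mem_map_of_mem _ hw
      · have hmem : P.rel j ∈ Ideal.span (Set.range v) := by
          refine Ideal.subset_span ⟨⟨j, by omega⟩, ?_⟩
          rfl
        have : gp * P.rel j ∈ Ideal.span (Set.range v) := Ideal.mul_mem_left _ _ hmem
        rw [Ideal.Quotient.eq_zero_iff_mem.2 this]
        exact zero_mem _
    | zero => rw [mul_zero, map_zero]; exact zero_mem _
    | add x y _ _ hx hy => rw [mul_add, map_add]; exact add_mem hx hy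
    | smul r x _ hx =>
      rw [smul_eq_mul, mul_left_comm, map_mul]
      exact Ideal.mul_mem_left _ _ hx
  have key := isStandardSmooth_of_idempotent_ker f hfsurj g hfgker hidem
  rw [hfg] at key
  exact key

end Groth.Agent.S2032
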