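import Groth.Statements.S2040
import Groth.Agent.Lib.FSFibre2
import Groth.Agent.Lib.FlatLift83
import Groth.Agent.Lib.AdicFSField50

set_option autoImplicit false
universe u
open CAlg

namespace Groth.Agent.S2040

/-- For a complete Noetherian local ring `A` with residue field `k`, and a complete Noetherian local
`k`-algebra `B` which is formally smooth over `k` for the adic topology of its maximal ideal, there
is a Noetherian complete local ring `C` with a local homomorphism `A → C`, formally smooth for the
adic topology of the maximal ideal of `C`, whose special fibre `C ⊗ k` is isomorphic to `B` over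
`k`. -/
theorem result {A B : Type u} [CommRing A] [IsLocalRing A]
    [IsNoetherianRing A] [IsAdicComplete (IsLocalRing.maximalIdeal A) A] [CommRing B] [IsLocalRing B]
    [IsNoetherianRing B] [IsAdicComplete (IsLocalRing.maximalIdeal B) B]
    [Algebra (IsLocalRing.maximalIdeal A).ResidueField B]
    (hB : CAlgX.IsAdicFormallySmooth (IsLocalRing.maximalIdeal A).ResidueField B (IsLocalRing.maximalIdeal B)) :
    ∃ (C : Type u) (_ : CommRing C) (_ : IsLocalRing C) (_ : Algebra A C),
      IsNoetherianRing C ∧ IsAdicComplete (IsLocalRing.maximalIdeal C) C ∧ IsLocalHom (algebraMap A C) ∧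
        CAlgX.IsAdicFormallySmooth A C (IsLocalRing.maximalIdeal C) ∧
        Nonempty ((IsLocalRing.maximalIdeal A).Fiber C ≃ₐ[(IsLocalRing.maximalIdeal A).ResidueField] B) := by
  classical
  set m : Ideal A := IsLocalRing.maximalIdeal A with hm
  -- `B` is regular
  obtain ⟨hreg, -⟩ := Groth.Agent.Lib.AdicFSField50.regular_of_isAdicFormallySmooth hB
  have hk : Function.Surjective (algebraMap A m.ResidueField) :=
    Ideal.algebraMap_residueField_surjective m
  have hkm : RingHom.ker (algebraMap A m.ResidueField) = m := Ideal.ker_algebraMap_residueField m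
  let σ : A →+* B := (algebraMap m.ResidueField B).comp (algebraMap A m.ResidueField)
  have hσ : IsLocalRing.maximalIdeal A ≤ RingHom.ker σ := by
    intro a ha
    rw [RingHom.mem_ker]
    show algebraMap m.ResidueField B (algebraMap A m.ResidueField a) = 0
    have : algebraMap A m.ResidueField a = 0 := by
      rw [← RingHom.mem_ker, hkm]; exact ha
    rw [this, map_zero]
  obtain ⟨C, _, _, hCn, φ, ρ, hφloc, hCc, hφflat, hρ, hkρ, hρφ⟩ :=
    Groth.Agent.Lib.FlatLift83.exists_flat_lift A σ hσ
  let algAC : Algebra A C := φ.toAlgebra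
  have hflat : Module.Flat A C := hφflat
  have hloc : IsLocalHom (algebraMap A C) := hφloc
  refine ⟨C, inferInstance, inferInstance, algAC, hCn, hCc, hφloc, ?_, ?_⟩
  · -- formal smoothness
    let _ : Algebra A B := σ.toAlgebra
    have _ : IsScalarTower A m.ResidueField B := IsScalarTower.of_algebraMap_eq (fun _ => rfl)
    let _ : Algebra C B := ρ.toAlgebra
    have _ : IsScalarTower A C B := IsScalarTower.of_algebraMap_eq (fun a =>
      (RingHom.congr_fun hρφ a).symm)
    have hmB : IsLocalRing.maximalIdeal B ≤ (IsLocalRing.maximalIdeal C).map (algebraMap C B) :=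
      (IsLocalRing.map_maximalIdeal_of_surjective ρ hρ).ge
    have hmC : m.map (algebraMap A C) ≤ IsLocalRing.maximalIdeal C :=
      ((IsLocalRing.local_hom_TFAE (algebraMap A C)).out 0 2 rfl rfl).mp hloc
    exact Groth.Agent.Lib.FSFibre.isAdicFormallySmooth_of_flat_of_fibre (m := m) hk hkm.le hρ hkρ
      hmB hmC hB
  · refine Groth.Agent.Lib.FSFibre.nonempty_tensor_algEquiv hk ρ hρ ?_ ?_
    · rw [hkρ, hkm]; rfl
    · intro a
      exact RingHom.congr_fun hρφ a

end Groth.Agent.S2040
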