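import Groth.Statements.S2044
import Groth.Agent.Lib.EtaleFactor
import Groth.Agent.Lib.IdemPres
import Mathlib.LinearAlgebra.Matrix.Charpoly.Coeff
import Mathlib.LinearAlgebra.Matrix.Charpoly.Basic

set_option autoImplicit false
universe u
open CAlg

namespace Groth.Agent.S2044

open TensorProduct in
/-- Let `I ⊆ A` be an ideal and `P` a finite projective `A/I`-module. Then there is an étale `A`-algebra
`A'` with `A/I → A'/IA'` bijective and a finite projective `A'`-module whose reduction modulo `IA'`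
is the base change of `P`. -/
theorem result {A : Type u} [CommRing A] (I : Ideal A) (P : Type u)
    [AddCommGroup P] [Module (A ⧸ I) P] [Module.Finite (A ⧸ I) P] [Module.Projective (A ⧸ I) P] :
    ∃ (A' : Type u) (_ : CommRing A') (_ : Algebra A A'), Algebra.Etale A A' ∧
      Function.Bijective (algebraMap (A ⧸ I) (A' ⧸ I.map (algebraMap A A'))) ∧
      ∃ (P' : Type u) (_ : AddCommGroup P') (_ : Module A' P'), Module.Finite A' P' ∧
        Module.Projective A' P' ∧
        Nonempty (((A' ⧸ I.map (algebraMap A A')) ⊗[A'] P') ≃ₗ[A' ⧸ I.map (algebraMap A A')]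
          ((A' ⧸ I.map (algebraMap A A')) ⊗[A ⧸ I] P)) := by
  classical
  rcases subsingleton_or_nontrivial A with hA | hA
  · -- degenerate case
    have hq : Subsingleton (A ⧸ I.map (algebraMap A A)) := inferInstance
    have hq0 : Subsingleton (A ⧸ I) := inferInstance
    refine ⟨A, inferInstance, inferInstance, inferInstance, ⟨?_, ?_⟩, PUnit.{u + 1}, inferInstance,
      inferInstance, inferInstance, inferInstance, ?_⟩
    · intro x y _
      exact Subsingleton.elim _ _
    · intro y
      exact ⟨0, Subsingleton.elim _ _⟩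
    · have h1 : Subsingleton ((A ⧸ I.map (algebraMap A A)) ⊗[A] PUnit.{u + 1}) :=
        Module.subsingleton (A ⧸ I.map (algebraMap A A)) _
      have h2 : Subsingleton ((A ⧸ I.map (algebraMap A A)) ⊗[A ⧸ I] P) :=
        Module.subsingleton (A ⧸ I.map (algebraMap A A)) _
      exact ⟨LinearEquiv.ofSubsingleton _ _⟩
  obtain ⟨n, pbar, hpres⟩ := Groth.Agent.Lib.IdemPres.exists_pres (R := A ⧸ I) P
  have hpbar : pbar * pbar = pbar := hpres.idem
  choose φ hφ using fun i j => Ideal.Quotient.mk_surjective (pbar i j)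
  let Φ : Matrix (Fin n) (Fin n) A := Matrix.of φ
  have hΦ : Φ.map (Ideal.Quotient.mk I) = pbar := by
    ext i j
    exact hφ i j
  let ψ : Matrix (Fin n) (Fin n) A := Φ * Φ - Φ
  have hψ : ψ.map (Ideal.Quotient.mk I) = 0 := by
    show (Φ * Φ - Φ).map (Ideal.Quotient.mk I) = 0
    rw [Matrix.map_sub (f := Ideal.Quotient.mk I) (map_sub _), Matrix.map_mul, hΦ, hpbar, sub_self]
  have hψI : ∀ i j, ψ i j ∈ I := by
    intro i j
    have := congrFun (congrFun hψ i) j
    rwa [Matrix.map_apply, Matrix.zero_apply, Ideal.Quotient.eq_zero_iff_mem] at this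
  -- the polynomial
  have hQm : (Polynomial.X ^ 2 - Polynomial.X : Polynomial A).Monic := by
    apply Polynomial.monic_X_pow_sub
    rw [Polynomial.degree_X]
    norm_num
  have hQdeg : (Polynomial.X ^ 2 - Polynomial.X : Polynomial A).natDegree ≠ 0 := by
    rw [Polynomial.natDegree_sub_eq_left_of_natDegree_lt] <;> simp
  set F : Polynomial A := (Polynomial.X ^ 2 - Polynomial.X) *
    ψ.charpoly.comp (Polynomial.X ^ 2 - Polynomial.X) with hF
  have hFm : F.Monic := hQm.mul ((Matrix.charpoly_monic ψ).comp hQm hQdeg)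
  have hF0 : Polynomial.aeval Φ F = 0 := by
    rw [hF, map_mul, Polynomial.aeval_comp]
    have : Polynomial.aeval Φ (Polynomial.X ^ 2 - Polynomial.X : Polynomial A) = ψ := by
      simp [ψ, pow_two]
    rw [this, Matrix.aeval_self_charpoly, mul_zero]
  have hFmap : F.map (Ideal.Quotient.mk I) =
      Polynomial.X ^ (n + 1) * (Polynomial.X - 1) ^ (n + 1) := by
    rw [hF, Polynomial.map_mul, Polynomial.map_comp, ← Matrix.charpoly_map, hψ,
      Matrix.charpoly_zero]
    simp only [Polynomial.map_sub, Polynomial.map_pow, Polynomial.map_X, Polynomial.X_pow_comp,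
      Fintype.card_fin]
    rw [← pow_succ', ← mul_pow]
    congr 1
    ring
  have hcop : IsCoprime ((Polynomial.X : Polynomial (A ⧸ I)) ^ (n + 1))
      ((Polynomial.X - 1 : Polynomial (A ⧸ I)) ^ (n + 1)) := by
    apply IsCoprime.pow
    exact ⟨1, -1, by ring⟩
  obtain ⟨A', _, _, hEt, hbij, G, H, hGm, hHm, hFGH, ⟨U, V, hUV⟩, hG, hH⟩ :=
    Groth.Agent.Lib.EtaleFactor.exists_etale_lift_factorization I F hFm
      (Polynomial.X ^ (n + 1)) ((Polynomial.X - 1) ^ (n + 1))
      (Polynomial.monic_X_pow _) ((Polynomial.monic_X_sub_C (1 : A ⧸ I)).pow _) hcop hFmap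
  refine ⟨A', inferInstance, inferInstance, hEt, hbij, ?_⟩
  set IA' : Ideal A' := I.map (algebraMap A A') with hIA'
  let β : Matrix (Fin n) (Fin n) A' := Φ.map (algebraMap A A')
  let N : Submodule A' (Matrix (Fin n) (Fin n) A') :=
    { carrier := {M | ∀ i j, M i j ∈ IA'}
      zero_mem' := fun i j => IA'.zero_mem
      add_mem' := fun {x y} hx hy i j => IA'.add_mem (hx i j) (hy i j)
      smul_mem' := fun a x hx i j => IA'.mul_mem_left a (hx i j) }
  have hNmem : ∀ x, x ∈ N ↔ ∀ i j, x i j ∈ IA' := fun x => Iff.rfl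
  have hNl : ∀ x ∈ N, ∀ y : Matrix (Fin n) (Fin n) A', y * x ∈ N := by
    intro x hx y i j
    rw [Matrix.mul_apply]
    exact IA'.sum_mem fun k _ => IA'.mul_mem_left _ (hx k j)
  have hNr : ∀ x ∈ N, ∀ y : Matrix (Fin n) (Fin n) A', x * y ∈ N := by
    intro x hx y i j
    rw [Matrix.mul_apply]
    exact IA'.sum_mem fun k _ => IA'.mul_mem_right _ (hx i k)
  have h𝔞 : ∀ a ∈ IA', ∀ y : Matrix (Fin n) (Fin n) A', a • y ∈ N := by
    intro a ha y i j
    rw [Matrix.smul_apply, smul_eq_mul]
    exact IA'.mul_mem_right _ ha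
  have hβ : β * β - β ∈ N := by
    have : β * β - β = ψ.map (algebraMap A A') := by
      show _ = (Φ * Φ - Φ).map (algebraMap A A')
      rw [Matrix.map_sub (f := algebraMap A A') (map_sub _), Matrix.map_mul]
    rw [this]
    intro i j
    rw [Matrix.map_apply]
    exact Ideal.mem_map_of_mem _ (hψI i j)
  have hGH0 : Polynomial.aeval β (G * H) = 0 := by
    rw [← hFGH, Polynomial.aeval_map_algebraMap]
    have : β = (Algebra.ofId A A').mapMatrix Φ := rfl
    rw [this, Polynomial.aeval_algHom_apply, hF0, map_zero]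
  have hcoefG : ∀ i, (G - Polynomial.X ^ (n + 1)).coeff i ∈ IA' := by
    intro i
    have := congrArg (fun p => Polynomial.coeff p i) hG
    simp only [Polynomial.coeff_map, Polynomial.map_pow, Polynomial.map_X] at this
    rw [← Ideal.Quotient.eq_zero_iff_mem, Polynomial.coeff_sub, map_sub, this, sub_eq_zero]
    rw [← Polynomial.coeff_map, Polynomial.map_pow, Polynomial.map_X]
  have hcoefH : ∀ i, (H - (Polynomial.X - 1) ^ (n + 1)).coeff i ∈ IA' := by
    intro i
    have := congrArg (fun p => Polynomial.coeff p i) hH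
    simp only [Polynomial.coeff_map, Polynomial.map_pow, Polynomial.map_X, Polynomial.map_sub,
      Polynomial.map_one] at this
    rw [← Ideal.Quotient.eq_zero_iff_mem, Polynomial.coeff_sub, map_sub, this, sub_eq_zero]
    rw [← Polynomial.coeff_map, Polynomial.map_pow, Polynomial.map_sub, Polynomial.map_X,
      Polynomial.map_one]
  obtain ⟨hidem, hmem⟩ := Groth.Agent.Lib.EtaleFactor.idem_of_factorization IA' N
    hNl hNr h𝔞 β hβ G H U V (n + 1) (Nat.le_add_left 1 n) hUV hGH0 hcoefG hcoefH
  set e' : Matrix (Fin n) (Fin n) A' := Polynomial.aeval β (U * G) with he'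
  have hidem' : e' * e' = e' := hidem
  have hP' := Groth.Agent.Lib.IdemPres.pres_range e' hidem'
  refine ⟨LinearMap.range (Matrix.toLin' e'), inferInstance, inferInstance,
    Groth.Agent.Lib.IdemPres.finite_range e', Groth.Agent.Lib.IdemPres.projective_of_pres hP', ?_⟩
  have h1 := hP'.baseChange (A' ⧸ IA')
  have h2 := hpres.baseChange (A' ⧸ IA')
  have h3 : e'.map (algebraMap A' (A' ⧸ IA')) = pbar.map (algebraMap (A ⧸ I) (A' ⧸ IA')) := by
    ext i j
    rw [Matrix.map_apply, Matrix.map_apply, ← hφ i j, Ideal.Quotient.algebraMap_eq,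
      Ideal.Quotient.algebraMap_quotient_map_quotient]
    have := (hNmem _).mp hmem i j
    rw [Matrix.sub_apply] at this
    rw [← sub_eq_zero, ← map_sub, Ideal.Quotient.eq_zero_iff_mem]
    exact this
  rw [h3] at h1
  exact h1.nonempty_equiv h2

end Groth.Agent.S2044
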