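import Groth.Statements.S2052
import Groth.Agent.Lib.Unibranch98
import Groth.Agent.S2801
import Groth.Agent.Lib.HznNormal96

set_option autoImplicit false
universe u
open CAlg

namespace Groth.Agent.S2052

/-- A local ring `A` is unibranch (its reduction is a domain with local integral closure) if and only if
the henselization of `A` has a unique minimal prime ideal. -/
theorem result {A Ah : Type u} [CommRing A] [IsLocalRing A]
    [CommRing Ah] [IsLocalRing Ah] [Algebra A Ah] [IsLocalHom (algebraMap A Ah)]
    [Hensel.IsHenselization A Ah] :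
    CAlg2.IsUnibranch A ↔ CAlgX.HasUniqueMinimalPrime Ah := by
  have hff : Module.FaithfullyFlat A Ah :=
    Groth.Agent.Lib.HenselizationFlat.faithfullyFlat_of_isHenselization A Ah
  have hflat : Module.Flat A Ah := inferInstance
  constructor
  · rintro ⟨hD, hL⟩
    have hint : Algebra.IsIntegral A (CAlg2.normRed A) :=
      Groth.Agent.Lib.Unibranch98.isIntegral_normRed A
    have hlh : IsLocalHom (algebraMap A (CAlg2.normRed A)) :=
      Groth.Agent.Lib.Unibranch98.isLocalHom_normRed A
    obtain ⟨hloc, hhom, hH⟩ := Groth.Agent.S2801.result A (CAlg2.normRed A) Ah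
    have hIC : IsIntegrallyClosed (CAlg2.normRed A) :=
      Groth.Agent.Lib.Unibranch98.isIntegrallyClosed_normRed A
    have hdom : IsDomain (TensorProduct A (CAlg2.normRed A) Ah) :=
      Groth.Agent.Lib.HznNormal96.isDomain_of_isHenselization (CAlg2.normRed A)
        (TensorProduct A (CAlg2.normRed A) Ah)
    exact Groth.Agent.Lib.Unibranch98.hasUniqueMinimalPrime_of_isDomain_tensor (A := A) Ah
  · intro h
    have hH : HenselianLocalRing Ah := Hensel.IsHenselization.henselian (R := A)
    exact Groth.Agent.Lib.Unibranch98.isUnibranch_of_hasUniqueMinimalPrime Ah h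

end Groth.Agent.S2052
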