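import Groth.Statements.S2053
import Groth.Agent.Lib.CohenFactor3
import Groth.Agent.Lib.H87Serre2

set_option autoImplicit false
universe u
open CAlg

namespace Groth.Agent.S2053

/-- Consider a local homomorphism `A → B` between complete Noetherian local rings. Then there are power
series rings `R`, `S` in finitely many variables over coefficient rings which are both fields (when
the residue characteristic of `A` is zero) or both Cohen rings (when it is positive), surjections `R
→ A`, `S → B` and a ring map `R → S` making the square commute, such that `R → S` is flat and `S/𝔪_R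
S` is a regular ring. (The published statement also arranges that a regular system of parameters
maps into one; that is not asserted here.) -/
theorem result {A B : Type u} [CommRing A] [CommRing B]
    [IsLocalRing A] [IsLocalRing B] [IsNoetherianRing A] [IsNoetherianRing B]
    [IsAdicComplete (IsLocalRing.maximalIdeal A) A] [IsAdicComplete (IsLocalRing.maximalIdeal B) B]
    [Algebra A B] [IsLocalHom (algebraMap A B)] :
    ∃ (Λ Λ' : Type u) (_ : CommRing Λ) (_ : CommRing Λ') (_ : IsLocalRing Λ) (n m : ℕ)
      (ρ : MvPowerSeries (Fin n) Λ →+* A) (σ : MvPowerSeries (Fin m) Λ' →+* B)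
      (τ : MvPowerSeries (Fin n) Λ →+* MvPowerSeries (Fin m) Λ'),
      ((CharZero (IsLocalRing.ResidueField A) ∧ IsField Λ ∧ IsField Λ') ∨
        (¬ CharZero (IsLocalRing.ResidueField A) ∧ CAlg.IsCohenRing Λ ∧ CAlg.IsCohenRing Λ')) ∧
        Function.Surjective ρ ∧ Function.Surjective σ ∧ σ.comp τ = (algebraMap A B).comp ρ ∧
        τ.Flat ∧ IsRegularRing (MvPowerSeries (Fin m) Λ' ⧸
          (IsLocalRing.maximalIdeal (MvPowerSeries (Fin n) Λ)).map τ) := by
  classical
  obtain ⟨Λ, _, _, q, vA, hΛ, hqA, hvAloc, hvAsurj⟩ := Groth.Agent.Lib.CohenFactor.exists_isCoeff A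
  obtain ⟨Λ', _, _, q', vB, hΛ', hqB, hvBloc, hvBsurj⟩ := Groth.Agent.Lib.CohenFactor.exists_isCoeff B
  -- the residue characteristics agree
  have hqq : q' = q := by
    have h1 : CharP (IsLocalRing.ResidueField A) q' :=
      RingHom.charP (IsLocalRing.ResidueField.map (algebraMap A B))
        (RingHom.injective _) q'
    exact CharP.eq (IsLocalRing.ResidueField A) h1 hqA
  subst hqq
  -- generators of the maximal ideals
  obtain ⟨n, bA, hbA⟩ := (Submodule.fg_iff_exists_fin_generating_family).1
    (IsNoetherian.noetherian (IsLocalRing.maximalIdeal A))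
  have hbA' : Ideal.span (Set.range bA) = IsLocalRing.maximalIdeal A := hbA
  obtain ⟨m, bB, hbB⟩ := (Submodule.fg_iff_exists_fin_generating_family).1
    (IsNoetherian.noetherian (IsLocalRing.maximalIdeal B))
  have hbB' : Ideal.span (Set.range bB) = IsLocalRing.maximalIdeal B := hbB
  have hΛc := hΛ.complete
  obtain ⟨ρ, hρsurj, -, -⟩ := Groth.Agent.Lib.CohenFactor.exists_surjective_of_family Λ A vA
    (fun a ha => map_nonunit vA a ha) hvAsurj bA
    (fun i => hbA' ▸ Ideal.subset_span ⟨i, rfl⟩) (hbA' ▸ le_sup_left)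
  obtain ⟨σ, τ, hσsurj, hcomm, -, -, -, -, hflat, hreg, -⟩ :=
    Groth.Agent.Lib.CohenFactor.exists_factor hΛ hΛ' ρ hρsurj vB hvBsurj bB
      (fun j => hbB' ▸ Ideal.subset_span ⟨j, rfl⟩)
      (hbB' ▸ le_sup_of_le_left le_sup_left)
  refine ⟨Λ, Λ', inferInstance, inferInstance, inferInstance, n, n + m, ρ, σ, τ, ?_, hρsurj,
    hσsurj, hcomm, hflat, Groth.Agent.Lib.H87Serre2.isRegularRing_of_isRegularLocalRing⟩
  rcases hΛ.hq with rfl | hq
  · left
    exact ⟨CharP.charP_to_charZero _, hΛ.isField, hΛ'.isField⟩
  · right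
    refine ⟨?_, hΛ.isCohenRing hq, hΛ'.isCohenRing hq⟩
    intro hcz
    have h0 : CharP (IsLocalRing.ResidueField A) 0 := CharP.ofCharZero _
    exact hq.ne_zero (CharP.eq (IsLocalRing.ResidueField A) hqA h0)

end Groth.Agent.S2053
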