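import Groth.Statements.S6879
import Groth.Agent.Lib.H47Reflexive
import Groth.Agent.Lib.SocleLift
-- import your own Groth.Agent.* helpers here

set_option autoImplicit false
universe u
open CAlg

namespace Groth.Agent.S6879

open Groth.Agent.Lib.H47Reflexive Groth.Agent.Lib.SocleLift

section

variable {R : Type u} [CommRing R] [IsDomain R] [IsNoetherianRing R] {M : Type u}
  [AddCommGroup M] [Module R M] [Module.Finite R M]

omit [IsDomain R] in
/-- a nonzero element with prime annihilator `p` cannot exist if `M_p` is reflexive-or-depth≥2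
and the element dies in the double dual. -/
theorem injective_eval
    (h : ∀ (p : Ideal R) [p.IsPrime],
      Module.IsReflexive (Localization.AtPrime p) (LocalizedModule p.primeCompl M) ∨
        2 ≤ LocCoh.depth (Localization.AtPrime p) (LocalizedModule p.primeCompl M)) :
    Function.Injective (Module.Dual.eval R M) := by
  rw [← LinearMap.ker_eq_bot]
  by_contra hK
  have : Nontrivial (LinearMap.ker (Module.Dual.eval R M)) :=
    Submodule.nontrivial_iff_ne_bot.mpr hK
  obtain ⟨p, hp⟩ := associatedPrimes.nonempty R (LinearMap.ker (Module.Dual.eval R M))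
  obtain ⟨hpp, ⟨k, hk⟩, hpk⟩ := isAssociatedPrime_iff.mp hp
  have hmem : ∀ a : R, a ∈ p ↔ a • k = 0 := by
    intro a
    rw [hpk, Submodule.mem_colon_singleton, Submodule.mem_bot]
    constructor
    · intro h1
      exact congrArg Subtype.val h1
    · intro h1
      exact Subtype.ext h1
  haveI := hpp
  rcases h p with hrefl | hdepth
  · obtain ⟨s, hs, hsk⟩ := exists_smul_eq_zero_of_eval_eq_zero hrefl k hk
    exact hs ((hmem s).mpr hsk)
  · obtain ⟨a, ham, b, hbm, ha, hb⟩ :=
      exists_regular_pair_of_depth (LocalizedModule p.primeCompl M) hdepth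
    obtain ⟨a', s, rfl⟩ := IsLocalization.exists_mk'_eq p.primeCompl a
    rw [IsLocalization.AtPrime.mk'_mem_maximal_iff (Localization.AtPrime p) p] at ham
    have h0 : IsLocalization.mk' (Localization.AtPrime p) a' s •
        LocalizedModule.mkLinearMap p.primeCompl M k = 0 := by
      rw [IsLocalization.mk'_eq_mul_mk'_one, mul_comm, ← smul_smul, algebraMap_smul, ← map_smul,
        (hmem a').mp ham, map_zero, smul_zero]
    have h1 : LocalizedModule.mkLinearMap p.primeCompl M k = 0 := by
      apply ha
      beta_reduce
      rw [h0, smul_zero]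
    obtain ⟨t, ht⟩ := (IsLocalizedModule.eq_zero_iff p.primeCompl
      (LocalizedModule.mkLinearMap p.primeCompl M)).mp h1
    exact t.2 ((hmem t.1).mpr ht)

theorem surjective_eval
    (h : ∀ (p : Ideal R) [p.IsPrime],
      Module.IsReflexive (Localization.AtPrime p) (LocalizedModule p.primeCompl M) ∨
        2 ≤ LocCoh.depth (Localization.AtPrime p) (LocalizedModule p.primeCompl M)) :
    Function.Surjective (Module.Dual.eval R M) := by
  have hinj := injective_eval h
  rw [← LinearMap.range_eq_top]
  by_contra hC
  have : Nontrivial (Module.Dual R (Module.Dual R M) ⧸ LinearMap.range (Module.Dual.eval R M)) :=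
    Submodule.Quotient.nontrivial_iff.mpr hC
  obtain ⟨p, hp⟩ := associatedPrimes.nonempty R
    (Module.Dual R (Module.Dual R M) ⧸ LinearMap.range (Module.Dual.eval R M))
  obtain ⟨hpp, y', hpk⟩ := isAssociatedPrime_iff.mp hp
  obtain ⟨y, rfl⟩ := Submodule.Quotient.mk_surjective _ y'
  have hmem : ∀ a : R, a ∈ p ↔ a • y ∈ LinearMap.range (Module.Dual.eval R M) := by
    intro a
    rw [hpk, Submodule.mem_colon_singleton, Submodule.mem_bot, ← Submodule.Quotient.mk_smul,
      Submodule.Quotient.mk_eq_zero]
  haveI := hpp
  rcases h p with hrefl | hdepth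
  · obtain ⟨s, hs, hsy⟩ := exists_smul_mem_range_eval hrefl y
    exact hs ((hmem s).mpr hsy)
  · obtain ⟨a, ham, b, hbm, ha, hb⟩ :=
      exists_regular_pair_of_depth (LocalizedModule p.primeCompl M) hdepth
    -- notation
    let A := Localization.AtPrime p
    let Mp := LocalizedModule p.primeCompl M
    let ψ : Mp →ₗ[A] Module.Dual A (Module.Dual A Mp) := Module.Dual.eval A Mp
    have hψdef : ψ = Module.Dual.eval A Mp := rfl
    -- `ψ` is injective
    have hψ : Function.Injective ψ := by
      have hmap : ψ.restrictScalars R =
          IsLocalizedModule.map p.primeCompl (LocalizedModule.mkLinearMap p.primeCompl M)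
            (ddualLoc p M) (Module.Dual.eval R M) := by
        apply IsLocalizedModule.linearMap_ext p.primeCompl
          (LocalizedModule.mkLinearMap p.primeCompl M) (ddualLoc p M)
        ext x
        simp only [LinearMap.coe_comp, LinearMap.coe_restrictScalars, Function.comp_apply]
        rw [IsLocalizedModule.map_apply, ddualLoc_eval]
      have := IsLocalizedModule.map_injective p.primeCompl
        (LocalizedModule.mkLinearMap p.primeCompl M) (ddualLoc p M) _ hinj
      rw [← hmap] at this
      exact this
    -- `g = Λ y` is not in the range of `ψ`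
    have hg : ddualLoc p M y ∉ LinearMap.range ψ := by
      rintro ⟨z, hz⟩
      obtain ⟨⟨x, s⟩, hxs⟩ := IsLocalizedModule.surj p.primeCompl
        (LocalizedModule.mkLinearMap p.primeCompl M) z
      have h1 : ddualLoc p M (s.1 • y - Module.Dual.eval R M x) = 0 := by
        rw [map_sub, map_smul, ← hz, ddualLoc_eval, ← hxs, sub_eq_zero]
        rw [Submonoid.smul_def, ← algebraMap_smul (Localization.AtPrime p) s.1 z, map_smul,
          algebraMap_smul]
      obtain ⟨t, ht⟩ := (IsLocalizedModule.eq_zero_iff p.primeCompl (ddualLoc p M)).mp h1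
      have h2 : (t.1 * s.1) • y ∈ LinearMap.range (Module.Dual.eval R M) := by
        refine ⟨t.1 • x, ?_⟩
        rw [map_smul, mul_smul]
        rw [Submonoid.smul_def, smul_sub, sub_eq_zero] at ht
        exact ht.symm
      exact (fun h' => (Ideal.IsPrime.mem_or_mem ‹_› h').elim t.2 s.2) ((hmem _).mpr h2)
    -- `m_A g ⊆ range ψ`
    have hmg : ∀ c ∈ IsLocalRing.maximalIdeal A, c • ddualLoc p M y ∈ LinearMap.range ψ := by
      intro c hc
      obtain ⟨c', s, rfl⟩ := IsLocalization.exists_mk'_eq p.primeCompl c
      rw [IsLocalization.AtPrime.mk'_mem_maximal_iff (Localization.AtPrime p) p] at hc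
      obtain ⟨x, hx⟩ := (hmem c').mp hc
      refine ⟨IsLocalization.mk' A (1 : R) s • LocalizedModule.mkLinearMap p.primeCompl M x, ?_⟩
      rw [map_smul, hψdef, ← ddualLoc_eval, hx, map_smul, ← algebraMap_smul A c', smul_smul]
      congr 1
      rw [mul_comm, ← IsLocalization.mk'_eq_mul_mk'_one]
    obtain ⟨g', hg'0, hg'⟩ := exists_socle_of_regular_pair ψ hψ a b ham hbm ha hb _ hg hmg
    have hag' := hg' a ham
    by_cases ha0 : a = 0
    · -- then `M_p = 0`, so its double dual vanishes
      rw [ha0] at ha
      have hsub : Subsingleton Mp := by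
        constructor
        intro u v
        apply ha
        simp
      apply hg'0
      ext φ
      have : φ = 0 := by
        ext m
        rw [Subsingleton.elim m 0, map_zero, map_zero]
      rw [this, map_zero, map_zero]
    · apply hg'0
      ext φ
      have h3 : a * g' φ = 0 := by
        have := LinearMap.congr_fun hag' φ
        simpa using this
      rcases mul_eq_zero.mp h3 with h4 | h4
      · exact absurd h4 ha0
      · simpa using h4

end

/-- Let `R` be a Noetherian domain and `M` a finite `R`-module. Then `M` is reflexive if and only if for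
every prime `𝔭` of `R` either `M_𝔭` is a reflexive `R_𝔭`-module or `depth(M_𝔭) ≥ 2`. -/
theorem result (R : Type u) [CommRing R] [IsDomain R]
    [IsNoetherianRing R] (M : Type u) [AddCommGroup M] [Module R M] [Module.Finite R M] :
    Module.IsReflexive R M ↔ ∀ (p : Ideal R) [p.IsPrime],
      Module.IsReflexive (Localization.AtPrime p) (LocalizedModule p.primeCompl M) ∨
        2 ≤ LocCoh.depth (Localization.AtPrime p) (LocalizedModule p.primeCompl M) := by
  constructor
  · intro h p _
    exact Or.inl (isReflexive_localizedModule p M)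
  · intro h
    exact ⟨⟨injective_eval h, surjective_eval h⟩⟩

end Groth.Agent.S6879
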