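import Groth.Statements.S2054
import Groth.Agent.S6879
import Groth.Agent.S6880
import Groth.Agent.S6869
import Groth.Agent.Lib.H14SerreNormal
import Groth.Agent.Lib.H8CM10

set_option autoImplicit false
universe u
open CAlg

namespace Groth.Agent.S2054

open IsLocalRing Module LocCoh

theorem isPrincipalIdealRing_of_normal_of_dim_le_one (A : Type u) [CommRing A] [IsLocalRing A]
    [IsDomain A] [IsNoetherianRing A] [IsIntegrallyClosed A] (hdim : ringKrullDim A ≤ 1) :
    IsPrincipalIdealRing A := by
  have hK : Ring.KrullDimLE 1 A := Ring.krullDimLE_iff.mpr hdim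
  have hmax : ∀ P : Ideal A, P ≠ ⊥ → P.IsPrime → P = maximalIdeal A := fun P hP hPp =>
    IsLocalRing.eq_maximalIdeal ((Ring.krullDimLE_one_iff_of_isPrime_bot.mp hK) P hP hPp)
  have h30 : (IsIntegrallyClosed A ∧ ∀ P : Ideal A, P ≠ ⊥ → P.IsPrime → P = maximalIdeal A) ↔
      IsPrincipalIdealRing A := (tfae_of_isNoetherianRing_of_isLocalRing_of_isDomain A).out 3 0
  exact h30.mp ⟨inferInstance, hmax⟩

/-- Let `R` be a Noetherian normal domain and `M` a finite `R`-module. Then `M` is reflexive (the map to
its double dual is bijective) if and only if `M` is torsion free and satisfies Serre's condition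
`(S_2)`. -/
theorem result {R M : Type u} [CommRing R] [IsDomain R] [IsNoetherianRing R]
    [IsIntegrallyClosed R] [AddCommGroup M] [Module R M] [Module.Finite R M] :
    Module.IsReflexive R M ↔ NoZeroSMulDivisors R M ∧ LocCoh.HasSk 2 R M := by
  classical
  have hdom : ∀ (p : Ideal R) [p.IsPrime], IsDomain (Localization.AtPrime p) := fun p _ ↦
    IsLocalization.isDomain_of_atPrime (Localization.AtPrime p) p
  have hic : ∀ (p : Ideal R) [p.IsPrime], IsIntegrallyClosed (Localization.AtPrime p) := fun p _ ↦
    isIntegrallyClosed_of_isLocalization (Localization.AtPrime p) p.primeCompl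
      p.primeCompl_le_nonZeroDivisors
  constructor
  · intro hrefl
    have htf : Module.IsTorsionFree R M :=
      (Groth.Agent.S6869.result R M).mp hrefl.bijective_dual_eval'.injective
    refine ⟨⟨fun {c x} hcx ↦ (Module.isTorsionFree_iff_smul_eq_zero.mp htf) c x hcx⟩, ?_⟩
    exact (Groth.Agent.S6880.result R M).2
      (Groth.Agent.Lib.H14SerreNormal.hasSk_two_of_normal R (fun p _ ↦ ⟨hdom p, hic p⟩))
  · rintro ⟨htf', hS2⟩
    have htf : Module.IsTorsionFree R M :=
      Module.isTorsionFree_iff_smul_eq_zero.mpr (fun r m h ↦
        htf'.eq_zero_or_eq_zero_of_smul_eq_zero h)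
    rw [Groth.Agent.S6879.result R M]
    intro p hp
    haveI := hdom p
    haveI := hic p
    rcases subsingleton_or_nontrivial (LocalizedModule p.primeCompl M) with hs | hn
    · right
      rw [Groth.Agent.Lib.H8CM.depth_eq_top_of_subsingleton]
      exact le_top
    by_cases hht : p.height ≤ 1
    · left
      have hdim : ringKrullDim (Localization.AtPrime p) ≤ 1 := by
        rw [IsLocalization.AtPrime.ringKrullDim_eq_height p]
        exact_mod_cast hht
      haveI := isPrincipalIdealRing_of_normal_of_dim_le_one (Localization.AtPrime p) hdim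
      haveI : Module.Free (Localization.AtPrime p) (LocalizedModule p.primeCompl M) :=
        Module.free_of_finite_type_torsion_free'
      infer_instance
    · right
      have h2 := hS2 p
      have hsupp : Module.support (Localization.AtPrime p) (LocalizedModule p.primeCompl M) =
          Set.univ := Module.support_of_noZeroSMulDivisors
      have hdimM : Module.supportDim (Localization.AtPrime p) (LocalizedModule p.primeCompl M) =
          ((p.height : ℕ∞) : WithBot ℕ∞) := by
        rw [← IsLocalization.AtPrime.ringKrullDim_eq_height p (Localization.AtPrime p)]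
        unfold Module.supportDim ringKrullDim
        rw [hsupp]
        exact Order.krullDim_eq_of_orderIso (OrderIso.Set.univ)
      rw [hdimM] at h2
      have h3 : (2 : ℕ∞) ≤ p.height := by
        rw [not_le] at hht
        have : (1 : ℕ∞) + 1 ≤ p.height := Order.add_one_le_of_lt hht
        simpa [one_add_one_eq_two] using this
      have h4 : min ((2 : ℕ) : WithBot ℕ∞) ((p.height : ℕ∞) : WithBot ℕ∞) =
          (((2 : ℕ∞)) : WithBot ℕ∞) := by
        rw [min_eq_left]
        · rfl
        · exact WithBot.coe_le_coe.mpr h3
      rw [h4, WithBot.coe_le_coe] at h2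
      exact h2

end Groth.Agent.S2054
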