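import Mathlib
import Groth.Statements.S2055

set_option autoImplicit false
universe u
open CAlg

namespace Groth.Agent.S2055

section Helpers

open TensorProduct

variable {R S : Type*} [CommRing R] [CommRing S] [Algebra R S]

/-- `S = φ(R) + I^n S` for all `n` when `R/I → S/IS` is surjective. -/
theorem range_sup_pow_smul_top (I : Ideal R)
    (hq : Function.Surjective (algebraMap (R ⧸ I) (S ⧸ I.map (algebraMap R S)))) (n : ℕ) :
    LinearMap.range (Algebra.linearMap R S) ⊔ (I ^ n • (⊤ : Submodule R S)) = ⊤ := by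
  have h1 : LinearMap.range (Algebra.linearMap R S) ⊔ (I • (⊤ : Submodule R S)) = ⊤ := by
    rw [eq_top_iff]
    intro s _
    obtain ⟨r, hr⟩ := hq (Ideal.Quotient.mk _ s)
    obtain ⟨r, rfl⟩ := Ideal.Quotient.mk_surjective r
    have : Ideal.Quotient.mk (I.map (algebraMap R S)) (algebraMap R S r) = Ideal.Quotient.mk _ s := hr
    rw [Ideal.Quotient.eq] at this
    have e : s = algebraMap R S r + (s - algebraMap R S r) := by ring
    rw [e]
    refine Submodule.add_mem_sup ⟨r, rfl⟩ ?_
    have h2 : s - algebraMap R S r ∈ I.map (algebraMap R S) := by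
      rw [← neg_sub]; exact neg_mem this
    have h3 : ((I • (⊤ : Submodule R S) : Submodule R S) : Set S) = (I.map (algebraMap R S) : Set S) := by
      rw [Ideal.smul_top_eq_map]; rfl
    have : s - algebraMap R S r ∈ ((I • (⊤ : Submodule R S) : Submodule R S) : Set S) := by
      rw [h3]; exact h2
    exact this
  induction n with
  | zero => rw [pow_zero, Ideal.one_eq_top, Submodule.top_smul, sup_top_eq]
  | succ n ih =>
    rw [eq_top_iff]
    calc (⊤ : Submodule R S) = LinearMap.range (Algebra.linearMap R S) ⊔ (I • (⊤ : Submodule R S)) := h1.symm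
      _ = LinearMap.range (Algebra.linearMap R S) ⊔
          (I • (LinearMap.range (Algebra.linearMap R S) ⊔ (I ^ n • (⊤ : Submodule R S)))) := by rw [ih]
      _ ≤ LinearMap.range (Algebra.linearMap R S) ⊔ (I ^ (n + 1) • (⊤ : Submodule R S)) := by
        rw [Submodule.smul_sup, ← Submodule.mul_smul, ← pow_succ']
        refine sup_le le_sup_left (sup_le ?_ le_sup_right)
        exact le_trans Submodule.smul_le_right le_sup_left

/-- Surjectivity: if every element of `M` is killed by a power of `I`, then every element of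
`S ⊗ M` is of the form `1 ⊗ m`. -/
theorem exists_one_tmul_eq (I : Ideal R)
    (hq : Function.Surjective (algebraMap (R ⧸ I) (S ⧸ I.map (algebraMap R S))))
    {M : Type*} [AddCommGroup M] [Module R M]
    (hM : ∀ x : M, ∃ n : ℕ, ∀ a ∈ I ^ n, a • x = 0) (y : S ⊗[R] M) :
    ∃ m : M, (1 : S) ⊗ₜ[R] m = y := by
  induction y using TensorProduct.induction_on with
  | zero => exact ⟨0, by simp⟩
  | add x y hx hy =>
    obtain ⟨a, rfl⟩ := hx
    obtain ⟨b, rfl⟩ := hy
    exact ⟨a + b, by rw [TensorProduct.tmul_add]⟩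
  | tmul s m =>
    obtain ⟨n, hn⟩ := hM m
    have hs : s ∈ LinearMap.range (Algebra.linearMap R S) ⊔ (I ^ n • (⊤ : Submodule R S)) := by
      rw [range_sup_pow_smul_top I hq n]; trivial
    obtain ⟨s₁, ⟨r, rfl⟩, t, ht, rfl⟩ := Submodule.mem_sup.mp hs
    have ht0 : t ⊗ₜ[R] m = 0 := by
      refine Submodule.smul_induction_on ht ?_ ?_
      · intro a ha s' _
        rw [TensorProduct.smul_tmul, hn a ha, TensorProduct.tmul_zero]
      · intro x y hx hy
        rw [TensorProduct.add_tmul, hx, hy, add_zero]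
    refine ⟨r • m, ?_⟩
    rw [TensorProduct.add_tmul, ht0, add_zero, Algebra.linearMap_apply, Algebra.algebraMap_eq_smul_one,
      TensorProduct.smul_tmul]

/-- Injectivity: for `S` flat with `R/I ≃ S/IS`, if `x` is killed by a power of `I` and `1 ⊗ x = 0`
then `x = 0`. -/
theorem eq_zero_of_one_tmul_eq_zero [Module.Flat R S] (I : Ideal R)
    (hq : Function.Bijective (algebraMap (R ⧸ I) (S ⧸ I.map (algebraMap R S))))
    {X : Type*} [AddCommGroup X] [Module R X] (x : X) (n : ℕ)
    (hx : ∀ a ∈ I ^ n, a • x = 0) (h0 : (1 : S) ⊗ₜ[R] x = 0) : x = 0 := by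
  by_contra hx0
  set J := Ideal.torsionOf R X x with hJdef
  have hJ : J ≠ ⊤ := by
    rw [Ne, Ideal.torsionOf_eq_top_iff]; exact hx0
  obtain ⟨𝔪, h𝔪, hJ𝔪⟩ := Ideal.exists_le_maximal J hJ
  have hIJ : I ^ n ≤ J := fun a ha => (Ideal.mem_torsionOf_iff x a).mpr (hx a ha)
  have h𝔪p : 𝔪.IsPrime := h𝔪.isPrime
  have hI𝔪 : I ≤ 𝔪 := Ideal.IsPrime.le_of_pow_le (hIJ.trans hJ𝔪)
  let f : R ⧸ J →ₗ[R] X :=
    (Submodule.subtype _).comp (Ideal.quotTorsionOfEquivSpanSingleton R X x).toLinearMap
  have hf : Function.Injective f :=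
    Subtype.val_injective.comp (Ideal.quotTorsionOfEquivSpanSingleton R X x).injective
  have hf1 : f (Submodule.Quotient.mk 1) = x := by
    change ((Ideal.quotTorsionOfEquivSpanSingleton R X x) (Submodule.Quotient.mk 1) : X) = x
    rw [Ideal.quotTorsionOfEquivSpanSingleton_apply_mk, one_smul]
  have hflat := Module.Flat.lTensor_preserves_injective_linearMap (M := S) f hf
  have h1 : (1 : S) ⊗ₜ[R] (Submodule.Quotient.mk 1 : R ⧸ J) = 0 := by
    apply hflat
    rw [LinearMap.lTensor_tmul, hf1, h0, map_zero]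
  let e : (R ⧸ I) ≃ₗ[R] (S ⧸ I.map (algebraMap R S)) :=
    LinearEquiv.ofBijective
      ((IsScalarTower.toAlgHom R (R ⧸ I) (S ⧸ I.map (algebraMap R S))).toLinearMap) hq
  have he1 : e 1 = 1 := by
    change algebraMap (R ⧸ I) (S ⧸ I.map (algebraMap R S)) 1 = 1
    exact map_one _
  let θ : S →ₗ[R] R ⧸ 𝔪 :=
    ((Ideal.Quotient.factorₐ R hI𝔪).toLinearMap).comp
      (e.symm.toLinearMap.comp ((Ideal.Quotient.mkₐ R (I.map (algebraMap R S))).toLinearMap))
  have hθ1 : θ 1 = 1 := by
    simp only [θ, LinearMap.comp_apply, AlgHom.toLinearMap_apply, map_one, LinearEquiv.coe_coe]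
    rw [← he1, LinearEquiv.symm_apply_apply, map_one]
  let q : R ⧸ J →ₗ[R] R ⧸ 𝔪 := (Ideal.Quotient.factorₐ R hJ𝔪).toLinearMap
  have hq1 : q (Submodule.Quotient.mk 1) = 1 := by
    change Ideal.Quotient.factorₐ R hJ𝔪 (Ideal.Quotient.mk J 1) = 1
    rw [map_one, map_one]
  let Θ : S ⊗[R] (R ⧸ J) →ₗ[R] R ⧸ 𝔪 := (LinearMap.mul' R (R ⧸ 𝔪)).comp (TensorProduct.map θ q)
  have hΘ : Θ ((1 : S) ⊗ₜ[R] (Submodule.Quotient.mk 1 : R ⧸ J)) = 1 := by
    simp only [Θ, LinearMap.comp_apply, TensorProduct.map_tmul, LinearMap.mul'_apply, hθ1, hq1,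
      mul_one]
  rw [h1, map_zero] at hΘ
  have : Nontrivial (R ⧸ 𝔪) := Ideal.Quotient.nontrivial_iff.mpr h𝔪.ne_top
  exact zero_ne_one hΘ

/-- For `S` flat and `I^n` finitely generated: an element of `S ⊗ N` killed by `I^n` comes from
`S ⊗ N[I^n]`. -/
theorem mem_range_lTensor_of_smul_eq_zero [Module.Flat R S] (𝔞 : Ideal R) (h𝔞 : 𝔞.FG)
    {N : Type*} [AddCommGroup N] [Module R N] (y : S ⊗[R] N) (hy : ∀ a ∈ 𝔞, a • y = 0) :
    ∃ (K : Submodule R N), (∀ x ∈ K, ∀ a ∈ 𝔞, a • x = 0) ∧
      y ∈ LinearMap.range (K.subtype.lTensor S) := by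
  classical
  obtain ⟨k, a, ha⟩ := Submodule.fg_iff_exists_fin_generating_family.mp h𝔞
  let α : N →ₗ[R] (Fin k → N) := LinearMap.pi (fun i => a i • LinearMap.id)
  refine ⟨LinearMap.ker α, ?_, ?_⟩
  · intro x hx b hb
    have hx' : ∀ i, a i • x = 0 := by
      intro i
      have := congrFun (LinearMap.mem_ker.mp hx) i
      simpa [α] using this
    rw [← ha] at hb
    refine Submodule.span_induction ?_ ?_ ?_ ?_ hb
    · rintro _ ⟨i, rfl⟩; exact hx' i
    · exact zero_smul _ _
    · intro c d _ _ hc hd; rw [add_smul, hc, hd, add_zero]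
    · intro c d _ hd; rw [smul_eq_mul, mul_smul, hd, smul_zero]
  · have hex : Function.Exact (LinearMap.ker α).subtype α := LinearMap.exact_subtype_ker_map α
    have hex' := Module.Flat.lTensor_exact S hex
    rw [LinearMap.mem_range]
    apply (hex' y).mp
    have key : ∀ z : S ⊗[R] N, TensorProduct.piRight R R S (fun _ : Fin k => N) (α.lTensor S z)
        = fun i => a i • z := by
      intro z
      induction z using TensorProduct.induction_on with
      | zero => simp; rfl
      | add z w hz hw =>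
        rw [map_add, map_add, hz, hw]; ext i; simp
      | tmul s m =>
        ext i
        simp [α, TensorProduct.piRight_apply, TensorProduct.tmul_smul]
    have : TensorProduct.piRight R R S (fun _ : Fin k => N) (α.lTensor S y) = 0 := by
      rw [key]
      ext i
      exact hy (a i) (by rw [← ha]; exact Submodule.subset_span ⟨i, rfl⟩)
    exact (LinearEquiv.map_eq_zero_iff _).mp this

/-- `x` is killed by a power of `I`. -/
def Tors (I : Ideal R) {X : Type*} [AddCommGroup X] [Module R X] (x : X) : Prop :=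
  ∃ n : ℕ, ∀ a ∈ I ^ n, a • x = 0

theorem Tors.add {I : Ideal R} {X : Type*} [AddCommGroup X] [Module R X] {x y : X}
    (hx : Tors I x) (hy : Tors I y) : Tors I (x + y) := by
  obtain ⟨n, hn⟩ := hx
  obtain ⟨k, hk⟩ := hy
  refine ⟨max n k, fun a ha => ?_⟩
  rw [smul_add, hn a (Ideal.pow_le_pow_right (le_max_left n k) ha),
    hk a (Ideal.pow_le_pow_right (le_max_right n k) ha), add_zero]

theorem Tors.smul {I : Ideal R} {X : Type*} [AddCommGroup X] [Module R X] {x : X}
    (hx : Tors I x) (r : R) : Tors I (r • x) := by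
  obtain ⟨n, hn⟩ := hx
  exact ⟨n, fun a ha => by rw [smul_comm, hn a ha, smul_zero]⟩

theorem Tors.neg {I : Ideal R} {X : Type*} [AddCommGroup X] [Module R X] {x : X}
    (hx : Tors I x) : Tors I (-x) := by
  obtain ⟨n, hn⟩ := hx
  exact ⟨n, fun a ha => by rw [smul_neg, hn a ha, neg_zero]⟩

theorem Tors.eq_of_one_tmul_eq [Module.Flat R S] {I : Ideal R}
    (hq : Function.Bijective (algebraMap (R ⧸ I) (S ⧸ I.map (algebraMap R S))))
    {X : Type*} [AddCommGroup X] [Module R X] {x y : X}
    (hx : Tors I x) (hy : Tors I y) (h : (1 : S) ⊗ₜ[R] x = (1 : S) ⊗ₜ[R] y) : x = y := by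
  obtain ⟨n, hn⟩ := hx.add hy.neg
  have := eq_zero_of_one_tmul_eq_zero I hq (x + -y) n hn
    (by rw [TensorProduct.tmul_add, TensorProduct.tmul_neg, h, add_neg_cancel])
  rwa [← sub_eq_add_neg, sub_eq_zero] at this

end Helpers

open TensorProduct in
/-- Let `R → S` be flat and `I ⊆ R` a finitely generated ideal with `R/I → S/IS` bijective. If one of
the `R`-modules `M`, `N` has every element killed by a power of `I`, then base change of linear maps
`Hom_R(M, N) → Hom_S(S ⊗ M, S ⊗ N)` is bijective. -/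
theorem result {R S M N : Type u} [CommRing R] [CommRing S]
    [Algebra R S] [Module.Flat R S] (I : Ideal R) (hI : I.FG)
    (hq : Function.Bijective (algebraMap (R ⧸ I) (S ⧸ I.map (algebraMap R S))))
    [AddCommGroup M] [Module R M] [AddCommGroup N] [Module R N]
    (hMN : (∀ x : M, ∃ n : ℕ, ∀ a ∈ I ^ n, a • x = 0) ∨ (∀ y : N, ∃ n : ℕ, ∀ a ∈ I ^ n, a • y = 0)) :
    Function.Bijective (fun f : M →ₗ[R] N => LinearMap.baseChange S f) := by
  -- every value of a linear map is torsion
  have htors : ∀ (f : M →ₗ[R] N) (m : M), Tors I (f m) := by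
    intro f m
    rcases hMN with hM | hN
    · obtain ⟨n, hn⟩ := hM m
      exact ⟨n, fun a ha => by rw [← map_smul, hn a ha, map_zero]⟩
    · exact hN (f m)
  constructor
  · intro f g hfg
    ext m
    apply Tors.eq_of_one_tmul_eq (S := S) hq (htors f m) (htors g m)
    have := LinearMap.congr_fun hfg ((1 : S) ⊗ₜ[R] m)
    simpa [LinearMap.baseChange_tmul] using this
  · intro F
    have hex : ∀ m : M, ∃ x : N, Tors I x ∧ (1 : S) ⊗ₜ[R] x = F ((1 : S) ⊗ₜ[R] m) := by
      intro m
      rcases hMN with hM | hN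
      · obtain ⟨n, hn⟩ := hM m
        have hy : ∀ a ∈ I ^ n, a • F ((1 : S) ⊗ₜ[R] m) = 0 := by
          intro a ha
          rw [← LinearMap.map_smul_of_tower, TensorProduct.smul_tmul', TensorProduct.smul_tmul,
            hn a ha, TensorProduct.tmul_zero, map_zero]
        obtain ⟨K, hK, z, hz⟩ := mem_range_lTensor_of_smul_eq_zero (S := S) (I ^ n) (hI.pow) _ hy
        obtain ⟨k, hk⟩ := exists_one_tmul_eq (S := S) I hq.2 (M := K)
          (fun x => ⟨n, fun a ha => Subtype.ext (hK x x.2 a ha)⟩) z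
        refine ⟨(k : N), ⟨n, hK k k.2⟩, ?_⟩
        rw [← hz, ← hk, LinearMap.lTensor_tmul]
        rfl
      · obtain ⟨x, hx⟩ := exists_one_tmul_eq (S := S) I hq.2 hN (F ((1 : S) ⊗ₜ[R] m))
        exact ⟨x, hN x, hx⟩
    choose f₀ hf₀t hf₀ using hex
    let f : M →ₗ[R] N :=
      { toFun := f₀
        map_add' := by
          intro m m'
          apply Tors.eq_of_one_tmul_eq (S := S) hq (hf₀t _) ((hf₀t m).add (hf₀t m'))
          rw [hf₀, TensorProduct.tmul_add, map_add, TensorProduct.tmul_add, hf₀, hf₀]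
        map_smul' := by
          intro r m
          apply Tors.eq_of_one_tmul_eq (S := S) hq (hf₀t _) ((hf₀t m).smul r)
          rw [hf₀, TensorProduct.tmul_smul, LinearMap.map_smul_of_tower,
            TensorProduct.tmul_smul, hf₀] }
    refine ⟨f, ?_⟩
    apply TensorProduct.AlgebraTensorModule.ext
    intro s m
    change LinearMap.baseChange S f (s ⊗ₜ[R] m) = F (s ⊗ₜ[R] m)
    rw [LinearMap.baseChange_tmul]
    have : s ⊗ₜ[R] m = s • ((1 : S) ⊗ₜ[R] m) := by
      rw [TensorProduct.smul_tmul', smul_eq_mul, mul_one]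
    rw [this, map_smul, ← hf₀ m, TensorProduct.smul_tmul', smul_eq_mul, mul_one]
    rfl

end Groth.Agent.S2055
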