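import Groth.Statements.S2058
import Groth.Agent.Lib.H74Tetra

set_option autoImplicit false
universe u
open CAlg

namespace Groth.Agent.S2058

/-- Let R be a Noetherian local ring which is not Artinian, is not a regular local ring of dimension
one, and has depth at most one. Then there is a finite ring map R → R' with R' ≠ 0, not bijective,
whose kernel and cokernel are killed by a power of the maximal ideal of R, such that the maximal
ideal of R is not an associated prime of the R-module R'. (This says that the four cases for a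
Noetherian local ring — Artinian, regular of dimension one, depth at least two, or admitting such a
map — cover everything; that they are mutually exclusive is not asserted.) -/
theorem result {R : Type u} [CommRing R] [IsLocalRing R] [IsNoetherianRing R]
    (h1 : ¬ IsArtinianRing R) (h2 : ¬ (IsRegularLocalRing R ∧ ringKrullDim R = 1))
    (h3 : LocCoh.depth R R ≤ 1) :
    ∃ (R' : Type u) (_ : CommRing R') (_ : Algebra R R'), Nontrivial R' ∧ Module.Finite R R' ∧
      ¬ Function.Bijective (algebraMap R R') ∧
      (∃ n : ℕ, (∀ x : R, algebraMap R R' x = 0 → ∀ a ∈ IsLocalRing.maximalIdeal R ^ n, a * x = 0) ∧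
        (∀ y : R', ∀ a ∈ IsLocalRing.maximalIdeal R ^ n, a • y ∈ Set.range (algebraMap R R'))) ∧
      IsLocalRing.maximalIdeal R ∉ associatedPrimes R R' := by
  open Groth.Agent.Lib Groth.Agent.Lib.H74Tetra in
  classical
  by_cases h0 : LocCoh.depth R R = 0
  · exact caseA h1 h0
  have hd1 : 1 ≤ LocCoh.depth R R := Order.one_le_iff_ne_zero.mpr h0
  have hd : LocCoh.depth R R = 1 := le_antisymm h3 hd1
  obtain ⟨x, hxm, hx⟩ := DepthFlat33.exists_regular_of_one_le_depth (R := R) R hd1
  have hq := DepthFlat33.depth_quotSMulTop_add_one' R hxm hx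
  have hq0 : LocCoh.depth R (QuotSMulTop x R) = 0 := by
    rw [hd] at hq
    have : LocCoh.depth R (QuotSMulTop x R) + 1 = 0 + 1 := by rw [hq, zero_add]
    exact ENat.add_left_injective_of_ne_top ENat.one_ne_top this
  have hnt : Nontrivial (QuotSMulTop x R) := DepthFlat33.nontrivial_quotSMulTop R hxm
  have hass := (DepthFlat33.depth_eq_zero_iff (QuotSMulTop x R)).mp hq0
  obtain ⟨ybar, hybar⟩ := (isAssociatedPrime_iff.mp hass).2
  obtain ⟨y, rfl⟩ := Submodule.Quotient.mk_surjective _ ybar
  have hy : ∀ a : R, a ∈ IsLocalRing.maximalIdeal R ↔ ∃ b, x * b = a * y := by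
    intro a
    rw [SetLike.ext_iff.mp hybar a, Submodule.mem_colon_singleton, Submodule.mem_bot,
      ← Submodule.Quotient.mk_smul, Submodule.Quotient.mk_eq_zero,
      Submodule.mem_smul_pointwise_iff_exists]
    constructor
    · rintro ⟨b, _, hb⟩
      exact ⟨b, hb⟩
    · rintro ⟨b, hb⟩
      exact ⟨b, trivial, hb⟩
  have hyx : ¬ ∃ b, x * b = y := by
    rintro ⟨b, hb⟩
    have h1' : (1 : R) ∈ IsLocalRing.maximalIdeal R := (hy 1).mpr ⟨b, by rw [one_mul, hb]⟩
    exact (Ideal.ne_top_iff_one _).mp (Ideal.IsPrime.ne_top inferInstance) h1'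
  by_cases hB2 : ∀ a ∈ IsLocalRing.maximalIdeal R, ∀ b, x * b = a * y →
      b ∈ IsLocalRing.maximalIdeal R
  · exact caseB2 x y hx hy hB2 hxm hyx
  · push Not at hB2
    obtain ⟨a, ha, b, hab, hb⟩ := hB2
    exact absurd (isRegular_dim_one_of_principal h1 a
      (maximalIdeal_eq_span_of_unit x y hx hy a b ha hab hb)) h2

end Groth.Agent.S2058
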