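import Groth.Statements.S2059
import Mathlib.RingTheory.Algebraic.LinearIndependent
import Mathlib.RingTheory.MvPolynomial
import Mathlib.RingTheory.Localization.Away.Basic
import Mathlib.SetTheory.Cardinal.Finsupp
import Mathlib.LinearAlgebra.Dimension.Basic
import Mathlib.RingTheory.Algebraic.Integral
import Mathlib.RingTheory.IntegralClosure.IsIntegralClosure.Basic
-- import your own Groth.Agent.* helpers here

set_option autoImplicit false
universe u
open CAlg

namespace Groth.Agent.S2059

open Cardinal

/-- A field generated over an uncountable field `k` by fewer than `#k` elements is algebraic. -/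
theorem isAlgebraic_of_card_lt {k K : Type u} [Field k] [Field K] [Algebra k K] (t : Set K)
    (ht : Algebra.adjoin k t = ⊤) (hcard : #t < #k) (hk : ℵ₀ < #k) :
    Algebra.IsAlgebraic k K := by
  have hsurj : Function.Surjective (MvPolynomial.aeval ((↑) : t → K) : MvPolynomial t k →ₐ[k] K) := by
    rw [← AlgHom.range_eq_top, ← Algebra.adjoin_eq_range, ht]
  have hrank : Module.rank k K ≤ max #t ℵ₀ := by
    have h1 := LinearMap.rank_le_of_surjective
      (MvPolynomial.aeval ((↑) : t → K) : MvPolynomial t k →ₐ[k] K).toLinearMap hsurj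
    rw [MvPolynomial.rank_eq] at h1
    refine h1.trans ?_
    rcases isEmpty_or_nonempty t with h | h
    · have : #(t →₀ ℕ) = 1 := by
        rw [Cardinal.eq_one_iff_unique]
        exact ⟨inferInstance, inferInstance⟩
      rw [this]
      exact le_max_of_le_right one_le_aleph0
    · rw [mk_finsupp_nat]
  have hlt : Module.rank k K < #k := lt_of_le_of_lt hrank (max_lt hcard hk)
  refine ⟨fun x => ?_⟩
  by_contra hx
  have hx' : Transcendental k x := hx
  have := hx'.linearIndependent_sub_inv.cardinal_le_rank
  exact absurd (lt_of_le_of_lt this hlt) (lt_irrefl _)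

/-- Let `k` be a field and `S` a `k`-algebra generated by a set of cardinality smaller than that of `k`.
Then for every maximal ideal `𝔪` of `S` the residue field `S/𝔪` is algebraic over `k`, and `S` is a
Jacobson ring. -/
theorem result {k S : Type u} [Field k] [CommRing S] [Algebra k S]
    (s : Set S) (hs : Algebra.adjoin k s = ⊤) (hcard : Cardinal.mk s < Cardinal.mk k) :
    (∀ (m : Ideal S) [m.IsMaximal], Algebra.IsAlgebraic k (S ⧸ m)) ∧ IsJacobsonRing S := by
  rcases s.finite_or_infinite with hfin | hinf
  · have hft : Algebra.FiniteType k S := ⟨⟨hfin.toFinset, by simpa using hs⟩⟩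
    refine ⟨fun m _ => ?_, isJacobsonRing_of_finiteType (A := k)⟩
    letI := Ideal.Quotient.field m
    have h1 : Algebra.FiniteType k (S ⧸ m) :=
      Algebra.FiniteType.of_surjective (Ideal.Quotient.mkₐ k m) (Ideal.Quotient.mkₐ_surjective k m)
    have := finite_of_finite_type_of_isJacobsonRing k (S ⧸ m)
    exact Algebra.IsAlgebraic.of_finite k (S ⧸ m)
  · have hs0 : ℵ₀ ≤ #s := by
      rw [Cardinal.aleph0_le_mk_iff]
      exact hinf.to_subtype
    have hk : ℵ₀ < #k := lt_of_le_of_lt hs0 hcard
    have key : ∀ {K : Type u} [Field K] [Algebra k K] (φ : S →ₐ[k] K) (y : K),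
        Algebra.adjoin k (φ '' s ∪ {y}) = ⊤ → Algebra.IsAlgebraic k K := by
      intro K _ _ φ y hy
      refine isAlgebraic_of_card_lt (φ '' s ∪ {y}) hy ?_ hk
      refine lt_of_le_of_lt (Cardinal.mk_union_le _ _) ?_
      refine Cardinal.add_lt_of_lt hk.le (lt_of_le_of_lt Cardinal.mk_image_le hcard) ?_
      rw [Cardinal.mk_singleton]
      exact lt_trans one_lt_aleph0 hk
    have himage : ∀ {K : Type u} [CommRing K] [Algebra k K] (φ : S →ₐ[k] K) (a : S),
        φ a ∈ Algebra.adjoin k (φ '' s) := by
      intro K _ _ φ a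
      rw [Algebra.adjoin_image, hs]
      exact ⟨a, trivial, rfl⟩
    constructor
    · intro m _
      letI := Ideal.Quotient.field m
      refine key (Ideal.Quotient.mkₐ k m) 0 ?_
      rw [eq_top_iff]
      rintro x -
      obtain ⟨a, rfl⟩ := Ideal.Quotient.mkₐ_surjective k m x
      exact Algebra.adjoin_mono Set.subset_union_left (himage (Ideal.Quotient.mkₐ k m) a)
    · rw [isJacobsonRing_iff_prime_eq]
      intro P hP
      refine le_antisymm ?_ Ideal.le_jacobson
      intro f hf
      by_contra hfP
      let L := Localization.Away f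
      have hdisj : Disjoint (Submonoid.powers f : Set S) (P : Set S) := by
        rw [Set.disjoint_left]
        rintro x ⟨n, rfl⟩ hx
        exact hfP (hP.mem_of_pow_mem n hx)
      have hne : P.map (algebraMap S L) ≠ ⊤ :=
        (IsLocalization.map_algebraMap_ne_top_iff_disjoint (Submonoid.powers f) L P).2 hdisj
      obtain ⟨M, hM, hPM⟩ := Ideal.exists_le_maximal _ hne
      letI := Ideal.Quotient.field M
      let φ : S →ₐ[k] (L ⧸ M) := (Ideal.Quotient.mkₐ k M).comp (IsScalarTower.toAlgHom k S L)
      have hφ : ∀ a, φ a = Ideal.Quotient.mk M (algebraMap S L a) := fun a => rfl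
      let y : L ⧸ M := Ideal.Quotient.mk M (IsLocalization.Away.invSelf f)
      have hfy : φ f * y = 1 := by
        rw [hφ, ← map_mul, IsLocalization.Away.mul_invSelf, map_one]
      have htop : Algebra.adjoin k (φ '' s ∪ {y}) = ⊤ := by
        rw [eq_top_iff]
        rintro x -
        obtain ⟨z, rfl⟩ := Ideal.Quotient.mk_surjective x
        obtain ⟨n, a, hna⟩ := IsLocalization.Away.surj f z
        have hz : Ideal.Quotient.mk M z = φ a * y ^ n := by
          have h1 : Ideal.Quotient.mk M z * φ f ^ n = φ a := by
            rw [hφ, hφ, ← map_pow, ← map_mul, hna]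
          calc Ideal.Quotient.mk M z = Ideal.Quotient.mk M z * (φ f * y) ^ n := by
                rw [hfy, one_pow, mul_one]
            _ = (Ideal.Quotient.mk M z * φ f ^ n) * y ^ n := by rw [mul_pow, mul_assoc]
            _ = φ a * y ^ n := by rw [h1]
        rw [hz]
        refine Subalgebra.mul_mem _ ?_ (Subalgebra.pow_mem _ ?_ n)
        · exact Algebra.adjoin_mono Set.subset_union_left (himage φ a)
        · exact Algebra.subset_adjoin (Set.mem_union_right _ rfl)
      have halg : Algebra.IsAlgebraic k (L ⧸ M) := key φ y htop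
      have hPQ : P ≤ RingHom.ker φ := by
        intro x hx
        rw [RingHom.mem_ker, hφ, Ideal.Quotient.eq_zero_iff_mem]
        exact hPM (Ideal.mem_map_of_mem _ hx)
      have hfQ : f ∉ RingHom.ker φ := by
        intro h
        rw [RingHom.mem_ker] at h
        rw [h, zero_mul] at hfy
        exact zero_ne_one hfy
      have hQprime : (RingHom.ker φ).IsPrime := RingHom.ker_isPrime φ
      have halg' : Algebra.IsAlgebraic k (S ⧸ RingHom.ker φ) :=
        Algebra.IsAlgebraic.of_injective (Ideal.kerLiftAlg φ) (Ideal.kerLiftAlg_injective φ)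
      have hint : Algebra.IsIntegral k (S ⧸ RingHom.ker φ) := Algebra.IsAlgebraic.isIntegral
      have hfield : IsField (S ⧸ RingHom.ker φ) :=
        isField_of_isIntegral_of_isField' (Field.toIsField k)
      have hQmax : (RingHom.ker φ).IsMaximal := Ideal.Quotient.maximal_of_isField _ hfield
      rw [Ideal.jacobson, Ideal.mem_sInf] at hf
      exact hfQ (hf ⟨hPQ, hQmax⟩)

end Groth.Agent.S2059
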