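import Groth.Statements.S2060
import Groth.Agent.Lib.SmallExtSmooth
import Groth.Agent.S9268

set_option autoImplicit false
universe u
open CAlg

namespace Groth.Agent.S2060

theorem key : Groth.Agent.Lib.AdicDiscreteStalk.Key.{u} := by
  intro A B _ _ _ _ _ q _ h
  exact (Groth.Agent.S9268.result A B q).mpr h

/-- Let `R` be Noetherian, `S` of finite type over `R` and `𝔮` a prime of `S`. Then `R → S` is smooth at
`𝔮` if and only if for every surjection `B' → B` of Artinian local `R`-algebras whose kernel is
principal and killed by the maximal ideal of `B'`, every `R`-algebra map `S → B` under which the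
maximal ideal pulls back to `𝔮` lifts to `B'`. -/
theorem result {R S : Type u} [CommRing R] [IsNoetherianRing R]
    [CommRing S] [Algebra R S] [Algebra.FiniteType R S] (q : Ideal S) [q.IsPrime] :
    Algebra.IsSmoothAt R q ↔
      ∀ (B' B : Type u) [CommRing B'] [CommRing B] [IsLocalRing B'] [IsLocalRing B]
        [IsArtinianRing B'] [IsArtinianRing B] [Algebra R B'] [Algebra R B] (π : B' →ₐ[R] B),
        Function.Surjective π →
        (∃ t : B', RingHom.ker π.toRingHom = Ideal.span {t} ∧
          ∀ a ∈ IsLocalRing.maximalIdeal B', a * t = 0) →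
        ∀ g : S →ₐ[R] B, (IsLocalRing.maximalIdeal B).comap g = q →
          ∃ g' : S →ₐ[R] B', π.comp g' = g := by
  constructor
  · intro h B' B _ _ _ _ _ _ _ _ π hπ hker g hg
    exact Groth.Agent.Lib.SmallExtSmooth.exists_lift_of_isSmoothAt q h π hπ hker g hg
  · intro H
    exact Groth.Agent.Lib.SmallExtSmooth.isSmoothAt_of_exists_lift q key H

end Groth.Agent.S2060
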