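import Groth.Statements.S2061
import Groth.Agent.Lib.H87Serre
import Groth.Agent.Lib.H87AB

set_option autoImplicit false
universe u
open CategoryTheory
open CAlg

namespace Groth.Agent.S2061

open IsLocalRing in
/-- The residue field has depth zero. -/
theorem depth_residueField {R : Type u} [CommRing R] [IsLocalRing R] [IsNoetherianRing R] :
    LocCoh.depth R (ResidueField R) = 0 := by
  by_contra h
  have h1 : ((1 : ℕ) : ℕ∞) ≤ LocCoh.depth R (ResidueField R) := by
    rw [Nat.cast_one]
    exact Order.one_le_iff_pos.mpr (pos_iff_ne_zero.mpr h)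
  rw [Groth.Agent.Lib.DepthRees.natCast_le_depth_iff] at h1
  obtain ⟨rs, hlen, hmem, hreg⟩ := h1
  obtain ⟨r, rfl⟩ := List.length_eq_one_iff.mp hlen
  have hr : r ∈ maximalIdeal R := hmem r (by simp)
  have hreg' : IsSMulRegular (ResidueField R) r := by
    rw [RingTheory.Sequence.isWeaklyRegular_cons_iff] at hreg
    exact hreg.1
  have : r • (1 : ResidueField R) = r • 0 := by
    rw [smul_zero, Algebra.smul_def, mul_one]
    exact (residue_eq_zero_iff r).mpr hr
  exact one_ne_zero (hreg' this)

/-- For a Noetherian local ring `R` write `𝔪` for its maximal ideal and `κ` for its residue field. The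
projective dimension of `κ` as an `R`-module is at least the `κ`-dimension of `𝔪/𝔪²`: if `κ` has
projective dimension less than `d` then `dim_κ 𝔪/𝔪² < d`. -/
theorem result {R : Type u} [CommRing R] [IsLocalRing R]
    [IsNoetherianRing R] (d : ℕ)
    (hd : HasProjectiveDimensionLT (ModuleCat.of R (IsLocalRing.ResidueField R)) d) :
    Module.finrank (IsLocalRing.ResidueField R) (IsLocalRing.CotangentSpace R) < d := by
  have hreg : IsRegularLocalRing R :=
    Groth.Agent.Lib.H87Serre.isRegularLocalRing_of_hasProjectiveDimensionLT R d hd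
  obtain ⟨e, he, h1, h2⟩ :=
    Groth.Agent.Lib.H87AB.exists_projectiveDimension_eq (IsLocalRing.ResidueField R) d hd
  have hAB := Groth.Agent.Lib.H87AB.auslander_buchsbaum' (IsLocalRing.ResidueField R) e h1 h2
  rw [depth_residueField, add_zero] at hAB
  have hdim := Groth.Agent.Lib.H87AB.depth_self_of_isRegularLocalRing R
  have hsp : ringKrullDim R = ((IsLocalRing.maximalIdeal R).spanFinrank : ℕ) :=
    IsRegularLocalRing.spanFinrank_maximalIdeal.symm
  rw [← IsLocalRing.spanFinrank_maximalIdeal_eq_finrank_cotangentSpace]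
  rw [hAB, hsp] at hdim
  have : (e : WithBot ℕ∞) = ((IsLocalRing.maximalIdeal R).spanFinrank : ℕ) := by exact_mod_cast hdim
  have : e = (IsLocalRing.maximalIdeal R).spanFinrank := by exact_mod_cast this
  omega

end Groth.Agent.S2061
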