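import Groth.Statements.S9448
import Mathlib
import Groth.Agent.Lib.SmoothTower
import Groth.Agent.Lib.H93SmoothCrit
import Groth.Agent.Lib.H30DimFieldRing
import Groth.Agent.S2790

set_option autoImplicit false
universe u
open Unram

namespace Groth.Agent.S9448

section Helpers

namespace F6
open MvPolynomial KaehlerDifferential TensorProduct Groth.Agent.Lib.H93SmoothCrit
  Groth.Agent.Lib.H56LocDim

section General

variable (k : Type u) [Field k] (n : ℕ)

lemma range_mapBaseChange (B : Type u) [CommRing B] [Algebra k B]
    [Algebra (MvPolynomial (Fin n) k) B] [IsScalarTower k (MvPolynomial (Fin n) k) B] :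
    LinearMap.range (mapBaseChange k (MvPolynomial (Fin n) k) B) =
      Submodule.span B (Set.range fun i : Fin n =>
        KaehlerDifferential.D k B (algebraMap (MvPolynomial (Fin n) k) B (X i))) := by
  let b := (mvPolynomialBasis k (Fin n)).baseChange B
  have h1 : ∀ i, mapBaseChange k (MvPolynomial (Fin n) k) B (b i) =
      KaehlerDifferential.D k B (algebraMap (MvPolynomial (Fin n) k) B (X i)) := by
    intro i
    rw [Module.Basis.baseChange_apply, mapBaseChange_tmul, one_smul, mvPolynomialBasis_apply,
      KaehlerDifferential.map_D]
  rw [LinearMap.range_eq_map, ← b.span_eq, Submodule.map_span, ← Set.range_comp]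
  congr 2
  funext i
  exact h1 i

/-- Local dimension at a point with a standard smooth principal open neighbourhood. -/
theorem localDim_of_away_isStandardSmooth (A : Type u) [CommRing A] [Algebra k A]
    (p : PrimeSpectrum A) (g : A) (hg : g ∉ p.asIdeal) (d : ℕ)
    [hstd : Algebra.IsStandardSmoothOfRelativeDimension d k (Localization.Away g)] :
    FlatMor.localDim (PrimeSpectrum A) p = d := by
  have hj : Topology.IsOpenEmbedding (PrimeSpectrum.comap (algebraMap A (Localization.Away g))) :=
    PrimeSpectrum.localization_away_isOpenEmbedding (Localization.Away g) g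
  have hrange : Set.range (PrimeSpectrum.comap (algebraMap A (Localization.Away g))) =
      PrimeSpectrum.basicOpen g :=
    PrimeSpectrum.localization_away_comap_range (Localization.Away g) g
  obtain ⟨p', rfl⟩ : p ∈ Set.range (PrimeSpectrum.comap (algebraMap A (Localization.Away g))) := by
    rw [hrange]; exact hg
  rw [← localDim_eq_of_isOpenEmbedding hj p']
  set φ := PrimeSpectrum.comap (algebraMap k (Localization.Away g)) with hφ
  have hfib : fibLocDim φ p' = d :=
    fibLocDim_of_isStandardSmoothOfRelativeDimension k (Localization.Away g) d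
      ((RingHom.isStandardSmoothOfRelativeDimension_algebraMap (n := d)).mpr hstd) p'
  rw [← hfib]
  unfold fibLocDim
  have hall : ∀ z : PrimeSpectrum (Localization.Away g), z ∈ φ ⁻¹' {φ p'} := fun z =>
    Subsingleton.elim _ _
  let e : (φ ⁻¹' {φ p'}) ≃ₜ PrimeSpectrum (Localization.Away g) :=
    { toFun := Subtype.val
      invFun := fun z => ⟨z, hall z⟩
      left_inv := fun _ => rfl
      right_inv := fun _ => rfl
      continuous_toFun := continuous_subtype_val
      continuous_invFun := Continuous.subtype_mk continuous_id _ }
  exact (localDim_eq_of_homeomorph e ⟨p', rfl⟩).symm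

end General

section Main

variable (k : Type u) [Field k] (n : ℕ) (A : Type u) [CommRing A] [Algebra k A]
  [Algebra (MvPolynomial (Fin n) k) A] [IsScalarTower k (MvPolynomial (Fin n) k) A]
  [Algebra.FiniteType (MvPolynomial (Fin n) k) A]

theorem forward [Algebra.Etale (MvPolynomial (Fin n) k) A] :
    (∀ (m : Ideal A) [m.IsMaximal], ringKrullDim (Localization.AtPrime m) = n) ∧
      Submodule.span A (Set.range fun i : Fin n =>
        KaehlerDifferential.D k A (algebraMap (MvPolynomial (Fin n) k) A (MvPolynomial.X i))) = ⊤ := by
  haveI : Algebra.FiniteType k A := Algebra.FiniteType.trans (S := MvPolynomial (Fin n) k) inferInstance inferInstance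
  haveI : Algebra.FinitePresentation k A :=
    Algebra.FinitePresentation.of_finiteType.mp inferInstance
  haveI : Algebra.FormallySmooth k A :=
    Algebra.FormallySmooth.comp k (MvPolynomial (Fin n) k) A
  constructor
  · intro m hm
    haveI : Algebra.IsSmoothAt k m :=
      Algebra.FormallySmooth.comp k A (Localization.AtPrime m)
    obtain ⟨g, hg, hstd⟩ := Algebra.IsSmoothAt.exists_notMem_isStandardSmooth (R := k) m
    obtain ⟨ι, σ, _, _, ⟨P⟩⟩ := hstd
    haveI hstd' : Algebra.IsStandardSmoothOfRelativeDimension P.dimension k (Localization.Away g) :=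
      P.isStandardSmoothOfRelativeDimension rfl
    haveI : Nontrivial (Localization.Away g) := by
      have hu : IsUnit (algebraMap A (Localization.AtPrime m) g) :=
        IsLocalization.map_units (M := m.primeCompl) _ ⟨g, hg⟩
      exact (IsLocalization.Away.lift (S := Localization.Away g) g hu).domain_nontrivial
    -- the relative dimension is `n`
    have hdim : P.dimension = n := by
      haveI : Algebra.FormallyEtale (MvPolynomial (Fin n) k) (Localization.Away g) :=
        Algebra.FormallyEtale.comp (MvPolynomial (Fin n) k) A (Localization.Away g)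
      let e := KaehlerDifferential.tensorKaehlerEquivOfFormallyEtale k (MvPolynomial (Fin n) k)
        (Localization.Away g)
      have h1 := Algebra.IsStandardSmoothOfRelativeDimension.rank_kaehlerDifferential
        (R := k) (S := Localization.Away g) P.dimension
      have h2 : Module.finrank (Localization.Away g) Ω[Localization.Away g⁄k] = P.dimension :=
        Module.finrank_eq_of_rank_eq h1
      rw [← h2, ← LinearEquiv.finrank_eq e, Module.finrank_baseChange,
        Module.finrank_eq_card_basis (mvPolynomialBasis k (Fin n)), Fintype.card_fin]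
    rw [← Groth.Agent.Lib.H30DimFieldRing.localDim_primeSpectrum_maximal (k := k) m,
      localDim_of_away_isStandardSmooth k A ⟨m, hm.isPrime⟩ g hg P.dimension, hdim]
  · have hb := (Groth.Agent.Lib.SmoothTower.formallyEtale_iff_bijective k
      (MvPolynomial (Fin n) k) A).mp inferInstance
    rw [← range_mapBaseChange, LinearMap.range_eq_top]
    exact hb.2

theorem backward
    (hdim : ∀ (m : Ideal A) [m.IsMaximal], ringKrullDim (Localization.AtPrime m) = n)
    (hspan : Submodule.span A (Set.range fun i : Fin n =>
        KaehlerDifferential.D k A (algebraMap (MvPolynomial (Fin n) k) A (MvPolynomial.X i))) = ⊤) :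
    Algebra.Etale (MvPolynomial (Fin n) k) A := by
  haveI : Algebra.FiniteType k A :=
    Algebra.FiniteType.trans (S := MvPolynomial (Fin n) k) inferInstance inferInstance
  haveI : Algebra.FinitePresentation (MvPolynomial (Fin n) k) A :=
    Algebra.FinitePresentation.of_finiteType.mp inferInstance
  rw [← Algebra.etaleLocus_eq_univ_iff_etale]
  -- every maximal ideal is in the etale locus
  have hmax : ∀ (m : Ideal A) (hm : m.IsMaximal),
      (⟨m, hm.isPrime⟩ : PrimeSpectrum A) ∈ Algebra.etaleLocus (MvPolynomial (Fin n) k) A := by
    intro m hm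
    haveI := hm
    haveI := hm.isPrime
    rw [Algebra.mem_etaleLocus_iff]
    change Algebra.IsEtaleAt (MvPolynomial (Fin n) k) m
    rw [Groth.Agent.S2790.result k A n m (by
      rw [Groth.Agent.Lib.H30DimFieldRing.localDim_primeSpectrum_maximal (k := k) m, hdim m])]
    have h1 := span_eq_top_of_isLocalizedModule (Localization.AtPrime m) m.primeCompl
      (KaehlerDifferential.map k k A (Localization.AtPrime m)) hspan
    rw [← h1, ← Set.range_comp]
    congr 2
    funext i
    simp only [Function.comp_apply]
    rw [KaehlerDifferential.map_D]
  -- the etale locus is open, hence everything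
  by_contra hne
  have hopen : IsOpen (Algebra.etaleLocus (MvPolynomial (Fin n) k) A) := Algebra.isOpen_etaleLocus
  obtain ⟨I, hI⟩ := (PrimeSpectrum.isClosed_iff_zeroLocus_ideal _).mp hopen.isClosed_compl
  have hItop : I ≠ ⊤ := by
    rintro rfl
    rw [Submodule.top_coe, PrimeSpectrum.zeroLocus_univ, Set.compl_empty_iff] at hI
    exact hne hI
  obtain ⟨m, hm, hIm⟩ := Ideal.exists_le_maximal I hItop
  have h2 : (⟨m, hm.isPrime⟩ : PrimeSpectrum A) ∈
      (Algebra.etaleLocus (MvPolynomial (Fin n) k) A)ᶜ := by
    rw [hI]
    exact hIm
  exact h2 (hmax m hm)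

end Main

end F6

end Helpers

/-- For a field k and a finite type algebra A over the polynomial ring k[x_1, …, x_n] (the variables
mapping to a_1, …, a_n), the structure map is étale if and only if (a) the local rings of A at all
maximal ideals have dimension n and (b) da_1, …, da_n generate the module of differentials of A over
k. -/
theorem result (k : Type u) [Field k] (n : ℕ)
    (A : Type u) [CommRing A] [Algebra k A] [Algebra (MvPolynomial (Fin n) k) A]
    [IsScalarTower k (MvPolynomial (Fin n) k) A] [Algebra.FiniteType (MvPolynomial (Fin n) k) A] :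
    Algebra.Etale (MvPolynomial (Fin n) k) A ↔
      (∀ (m : Ideal A) [m.IsMaximal], ringKrullDim (Localization.AtPrime m) = n) ∧
        Submodule.span A (Set.range fun i : Fin n =>
          KaehlerDifferential.D k A (algebraMap (MvPolynomial (Fin n) k) A (MvPolynomial.X i))) = ⊤ := by
  exact ⟨fun h => F6.forward k n A, fun ⟨h1, h2⟩ => F6.backward k n A h1 h2⟩

end Groth.Agent.S9448
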