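import Groth.Statements.S2063
import Groth.Agent.Lib.H93SmoothCrit
import Groth.Agent.Lib.TopKrullDim
import Groth.Agent.S9448

set_option autoImplicit false
universe u
open CAlg

namespace Groth.Agent.S2063

section Helpers

open TensorProduct KaehlerDifferential

lemma exists_nat_eq {x : WithBot ℕ∞} (h0 : 0 ≤ x) {N : ℕ} (hN : x ≤ (N : WithBot ℕ∞)) :
    ∃ d : ℕ, x = (d : WithBot ℕ∞) := by
  induction x using WithBot.recBotCoe with
  | bot => simp at h0
  | coe a =>
    have h1 : a ≤ (N : ℕ∞) := by exact_mod_cast hN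
    lift a to ℕ using (ne_top_of_le_ne_top (ENat.natCast_ne_top N) h1)
    exact ⟨a, rfl⟩

variable {k S : Type u} [Field k] [CommRing S] [Algebra k S] (q : Ideal S) [q.IsPrime]

/-- `κ(q) ⊗_S Ω_{S/k} ≅ κ(q) ⊗_{S_q} Ω_{S_q/k}`. -/
noncomputable def fibreEquiv :
    q.ResidueField ⊗[S] Ω[S⁄k] ≃ₗ[q.ResidueField]
      q.ResidueField ⊗[Localization.AtPrime q] Ω[Localization.AtPrime q⁄k] :=
  haveI : Algebra.FormallyEtale S (Localization.AtPrime q) :=
    Algebra.FormallyEtale.of_isLocalization q.primeCompl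
  (AlgebraTensorModule.cancelBaseChange S (Localization.AtPrime q) q.ResidueField
      q.ResidueField Ω[S⁄k]).symm ≪≫ₗ
    AlgebraTensorModule.congr (LinearEquiv.refl q.ResidueField q.ResidueField)
      (tensorKaehlerEquivOfFormallyEtale k S (Localization.AtPrime q))

lemma finrank_fibre :
    Module.finrank q.ResidueField (q.ResidueField ⊗[S] Ω[S⁄k]) =
      Module.finrank q.ResidueField
        (q.ResidueField ⊗[Localization.AtPrime q] Ω[Localization.AtPrime q⁄k]) :=
  (fibreEquiv q).finrank_eq

variable [Algebra.FiniteType k S]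

variable (k) in
include k in
lemma exists_localDim_eq :
    ∃ d : ℕ, FlatMor.localDim (PrimeSpectrum S) ⟨q, inferInstance⟩ = (d : WithBot ℕ∞) := by
  obtain ⟨N, φ, hφ⟩ := Algebra.FiniteType.iff_quotient_mvPolynomial''.mp ‹Algebra.FiniteType k S›
  have h1 : FlatMor.localDim (PrimeSpectrum S) ⟨q, inferInstance⟩ ≤ ringKrullDim S :=
    Groth.Agent.Lib.H56LocDim.localDim_primeSpectrum_le _
  have h2 : ringKrullDim S ≤ ringKrullDim (MvPolynomial (Fin N) k) :=
    ringKrullDim_le_of_surjective φ.toRingHom hφ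
  rw [Groth.Agent.Lib.FTDim.ringKrullDim_mvPolynomial] at h2
  exact exists_nat_eq (Groth.Agent.Lib.TopKrullDim.localDim_nonneg _) (N := N)
    (by exact_mod_cast h1.trans h2)

/-- Nakayama: `Ω[S_q/k]` is generated by `finrank κ(q) (κ(q) ⊗ Ω)` elements. -/
lemma exists_span_eq_top :
    ∃ f : Fin (Module.finrank q.ResidueField
        (q.ResidueField ⊗[Localization.AtPrime q] Ω[Localization.AtPrime q⁄k])) →
        Ω[Localization.AtPrime q⁄k],
      Submodule.span (Localization.AtPrime q) (Set.range f) = ⊤ := by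
  haveI : Algebra.FormallyEtale S (Localization.AtPrime q) :=
    Algebra.FormallyEtale.of_isLocalization q.primeCompl
  haveI : Module.Finite (Localization.AtPrime q) Ω[Localization.AtPrime q⁄k] :=
    Module.Finite.equiv (tensorKaehlerEquivOfFormallyEtale k S (Localization.AtPrime q))
  let b := Module.finBasis q.ResidueField
    (q.ResidueField ⊗[Localization.AtPrime q] Ω[Localization.AtPrime q⁄k])
  have hsurj := TensorProduct.mk_surjective (Localization.AtPrime q)
    Ω[Localization.AtPrime q⁄k] q.ResidueField IsLocalRing.residue_surjective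
  choose f hf using fun i => hsurj (b i)
  exact ⟨f, IsLocalRing.span_eq_top_of_tmul_eq_basis f b hf⟩

end Helpers

open TensorProduct in
/-- Let `S` be of finite type over a field `k` and `𝔮` a prime of `S`. Smoothness of `S` over `k` at `𝔮`
holds exactly when the `κ(𝔮)`-dimension of `Ω_{S/k} ⊗ κ(𝔮)` is at most the local dimension of `Spec
S` at `𝔮`. -/
theorem result {k S : Type u} [Field k] [CommRing S] [Algebra k S]
    [Algebra.FiniteType k S] (q : Ideal S) [q.IsPrime] :
    Algebra.IsSmoothAt k q ↔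
      ((Module.finrank q.ResidueField (q.ResidueField ⊗[S] Ω[S⁄k]) : ℕ∞) : WithBot ℕ∞) ≤
        FlatMor.localDim (PrimeSpectrum S) ⟨q, inferInstance⟩ := by
  haveI : Algebra.FinitePresentation k S :=
    Algebra.FinitePresentation.of_finiteType.mp inferInstance
  rw [finrank_fibre q]
  constructor
  · intro h
    haveI : Algebra.IsSmoothAt k q := h
    obtain ⟨g, hg, hstd⟩ := Algebra.IsSmoothAt.exists_notMem_isStandardSmooth k q
    obtain ⟨ι, σ, _, _, ⟨P⟩⟩ := hstd.out
    haveI : Algebra.IsStandardSmoothOfRelativeDimension P.dimension k (Localization.Away g) :=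
      ⟨ι, σ, inferInstance, inferInstance, P, rfl⟩
    obtain ⟨hsm, hfree, hfin, hrank⟩ :=
      Groth.Agent.Lib.H93SmoothCrit.F4.free_of_away k S q P.dimension g hg
    have hdim := Groth.Agent.S9448.F6.localDim_of_away_isStandardSmooth k S
      ⟨q, inferInstance⟩ g hg P.dimension
    rw [hdim, Module.finrank_baseChange, hrank]
    exact le_of_eq rfl
  · intro h
    obtain ⟨d, hd⟩ := exists_localDim_eq k q
    rw [hd] at h
    have hmd : Module.finrank q.ResidueField
        (q.ResidueField ⊗[Localization.AtPrime q] Ω[Localization.AtPrime q⁄k]) ≤ d := by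
      exact_mod_cast h
    obtain ⟨f, hf⟩ := exists_span_eq_top (k := k) q
    let ω : Fin d → Ω[Localization.AtPrime q⁄k] := fun j =>
      if hj : (j : ℕ) < Module.finrank q.ResidueField
        (q.ResidueField ⊗[Localization.AtPrime q] Ω[Localization.AtPrime q⁄k]) then f ⟨j, hj⟩ else 0
    have hω : Submodule.span (Localization.AtPrime q) (Set.range ω) = ⊤ := by
      rw [eq_top_iff, ← hf, Submodule.span_le]
      rintro _ ⟨i, rfl⟩
      apply Submodule.subset_span
      refine ⟨⟨i, lt_of_lt_of_le i.2 hmd⟩, ?_⟩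
      simp only [ω, Fin.is_lt, dite_true, Fin.eta]
    obtain ⟨g, hg, hstd⟩ := Groth.Agent.Lib.H93SmoothCrit.F3.CL k S q d hd ω hω
    exact (Groth.Agent.Lib.H93SmoothCrit.F4.free_of_away k S q d g hg).1

end Groth.Agent.S2063
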