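import Groth.Statements.S2064
import Groth.Agent.Lib.H29Acyclic
import Groth.Agent.Lib.H29Depth
import Groth.Agent.Lib.H29Gorenstein

set_option autoImplicit false
universe u
open CategoryTheory
open CAlg

namespace Groth.Agent.S2064

/-- Let `R` be a Noetherian local ring and `0 → M_e → M_{e-1} → … → M_0` a complex of finite `R`-modules
with `depth(M_j) ≥ j`. If `i > 0` is the largest index at which the complex is not exact, then the
homology at `M_i` has depth at least one. -/
theorem result {R : Type u} [CommRing R] [IsLocalRing R] [IsNoetherianRing R]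
    (C : ChainComplex (ModuleCat.{u} R) ℕ) (e : ℕ) (hzero : ∀ j, e < j → Limits.IsZero (C.X j))
    (hfin : ∀ j, Module.Finite R (C.X j)) (hdepth : ∀ j, j ≤ e → (j : ℕ∞) ≤ LocCoh.depth R (C.X j))
    (i : ℕ) (hi : 0 < i) (hnot : ¬ C.ExactAt i) (habove : ∀ j, i < j → C.ExactAt j) :
    1 ≤ LocCoh.depth R (C.homology i) := by
  classical
  -- the residue field
  let N : ModuleCat.{u} R := ModuleCat.of R (R ⧸ IsLocalRing.maximalIdeal R)
  have hK : ∀ j, i < j → Limits.IsZero (C.homology j) := fun j hj =>
    (HomologicalComplex.exactAt_iff_isZero_homology C j).mp (habove j hj)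
  -- Ext vanishing from depth
  have hExt : ∀ j q, q < j → ∀ x : Abelian.Ext N (C.X j) q, x = 0 := by
    intro j q hq x
    by_cases hj : j ≤ e
    · by_cases hnt : Nontrivial (C.X j)
      · have hIM := Groth.Agent.Lib.H29Gorenstein.maximalIdeal_smul_top_ne_top R (C.X j)
        have h1 := (Groth.Agent.Lib.H29Depth.le_idealDepth_iff_ext (IsLocalRing.maximalIdeal R)
          (C.X j) hIM j).mp (hdepth j hj) q hq
        exact Subsingleton.elim (h := h1) x 0
      · rw [not_nontrivial_iff_subsingleton] at hnt
        exact Groth.Agent.Lib.H29Acyclic.ext_eq_zero_of_isZero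
          (ModuleCat.isZero_of_subsingleton _) q x
    · exact Groth.Agent.Lib.H29Acyclic.ext_eq_zero_of_isZero (hzero j (by omega)) q x
  have hhom : ∀ f : N ⟶ C.homology i, f = 0 :=
    Groth.Agent.Lib.H29Acyclic.hom_homology_eq_zero C N e hzero hExt i hi hK
  -- finiteness and nontriviality of the homology
  have hfinQ : Module.Finite R (C.opcycles i) :=
    Module.Finite.of_surjective (C.pOpcycles i).hom
      ((ModuleCat.epi_iff_surjective _).mp inferInstance)
  have hfinH : Module.Finite R (C.homology i) :=
    Module.Finite.of_injective (C.homologyι i).hom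
      ((ModuleCat.mono_iff_injective _).mp inferInstance)
  have hntH : Nontrivial (C.homology i) := by
    by_contra hn
    rw [not_nontrivial_iff_subsingleton] at hn
    exact hnot ((HomologicalComplex.exactAt_iff_isZero_homology C i).mpr
      (ModuleCat.isZero_of_subsingleton _))
  have hIM := Groth.Agent.Lib.H29Gorenstein.maximalIdeal_smul_top_ne_top R (C.homology i)
  have key := (Groth.Agent.Lib.H29Depth.le_idealDepth_iff_ext (IsLocalRing.maximalIdeal R)
    (C.homology i) hIM 1).mpr ?_
  · exact_mod_cast key
  · intro q hq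
    have hq0 : q = 0 := by omega
    subst hq0
    refine ⟨fun a b => ?_⟩
    obtain ⟨f, rfl⟩ := (Abelian.Ext.mk₀_bijective _ _).2 a
    obtain ⟨g, rfl⟩ := (Abelian.Ext.mk₀_bijective _ _).2 b
    rw [hhom f, hhom g]

end Groth.Agent.S2064
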