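import Groth.Statements.S2068
import Mathlib.Algebra.Homology.ShortComplex.ModuleCat
import Mathlib.Algebra.Module.FinitePresentation

set_option autoImplicit false
universe u
open CategoryTheory
attribute [local instance] HasDerivedCategory.standard
open CAlg

namespace Groth.Agent.S2068


section LinAlg

variable {A : Type u} [CommRing A]

/-- The kernel of a linear map from a finite projective module which surjects onto a finite
projective submodule is finite projective. -/
theorem ker_finite_projective {M N : Type u} [AddCommGroup M] [Module A M] [AddCommGroup N]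
    [Module A N] [Module.Finite A M] [Module.Projective A M] (f : M →ₗ[A] N) (Z : Submodule A N)
    (hZ : LinearMap.range f = Z) [Module.Projective A Z] :
    Module.Finite A (LinearMap.ker f) ∧ Module.Projective A (LinearMap.ker f) := by
  -- corestriction
  let f' : M →ₗ[A] Z := f.codRestrict Z (fun x => hZ ▸ LinearMap.mem_range_self f x)
  have hf' : Function.Surjective f' := by
    rintro ⟨z, hz⟩
    rw [← hZ] at hz
    obtain ⟨x, rfl⟩ := hz
    exact ⟨x, rfl⟩
  obtain ⟨s, hs⟩ := Module.projective_lifting_property f' LinearMap.id hf'
  -- retraction onto the kernel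
  have hmem : ∀ x, x - s (f' x) ∈ LinearMap.ker f := by
    intro x
    rw [LinearMap.mem_ker, map_sub, sub_eq_zero]
    have := LinearMap.congr_fun hs (f' x)
    exact (congrArg Subtype.val this).symm
  let r : M →ₗ[A] LinearMap.ker f :=
    (LinearMap.id - s ∘ₗ f').codRestrict (LinearMap.ker f) (fun x => hmem x)
  have hr : r ∘ₗ (LinearMap.ker f).subtype = LinearMap.id := by
    ext ⟨x, hx⟩
    have hx0 : f' x = 0 := Subtype.ext hx
    simp [r, hx0]
  have hrs : Function.Surjective r := fun y => ⟨y, LinearMap.congr_fun hr y⟩
  exact ⟨Module.Finite.of_surjective r hrs, Module.Projective.of_split _ r hr⟩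

end LinAlg


section Cx

open HomologicalComplex

variable {A : Type u} [CommRing A]

theorem cycles_finite_projective (E : CochainComplex (ModuleCat.{u} A) ℤ) (b k : ℤ)
    (hb : ∀ i, b < i → Limits.IsZero (E.X i))
    (hfp : ∀ i, Module.Finite A (E.X i) ∧ Module.Projective A (E.X i))
    (hex : ∀ i, k < i → E.ExactAt i) :
    ∀ j, k ≤ j → Module.Finite A (LinearMap.ker (E.d j (j + 1)).hom) ∧
      Module.Projective A (LinearMap.ker (E.d j (j + 1)).hom) := by
  have zero_case : ∀ j, b < j → Module.Finite A (LinearMap.ker (E.d j (j + 1)).hom) ∧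
      Module.Projective A (LinearMap.ker (E.d j (j + 1)).hom) := by
    intro j hj
    have : Subsingleton (E.X j) := ModuleCat.subsingleton_of_isZero (hb j hj)
    have : Subsingleton (LinearMap.ker (E.d j (j + 1)).hom) :=
      ⟨fun x y => Subtype.ext (Subsingleton.elim _ _)⟩
    exact ⟨inferInstance, inferInstance⟩
  have key : ∀ n : ℕ, ∀ j, j + n = b + 1 → k ≤ j →
      Module.Finite A (LinearMap.ker (E.d j (j + 1)).hom) ∧
      Module.Projective A (LinearMap.ker (E.d j (j + 1)).hom) := by
    intro n
    induction n with
    | zero => intro j hj _; exact zero_case j (by lia)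
    | succ n ih =>
      intro j hj hkj
      obtain ⟨_, hproj⟩ := ih (j + 1) (by push_cast at hj; lia) (by lia)
      have h1 := (E.exactAt_iff' j (j + 1) (j + 1 + 1) (by simp) (by simp)).mp
        (hex (j + 1) (by lia))
      rw [ShortComplex.moduleCat_exact_iff_range_eq_ker] at h1
      have h1' : LinearMap.range (E.d j (j + 1)).hom =
          LinearMap.ker (E.d (j + 1) (j + 1 + 1)).hom := h1
      have := (hfp j).1
      have := (hfp j).2
      exact ker_finite_projective (E.d j (j + 1)).hom _ h1'
  intro j hj
  by_cases hjb : b < j
  · exact zero_case j hjb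
  · exact key (b + 1 - j).toNat j (by lia) hj

end Cx

section Final

open HomologicalComplex

variable {A : Type u} [CommRing A]

/-- The homology of a short complex of modules, as a quotient module. -/
noncomputable def scHomologyEquiv (S : ShortComplex (ModuleCat.{u} A)) :
    S.homology ≃ₗ[A] (LinearMap.ker S.g.hom ⧸ LinearMap.range S.moduleCatToCycles) :=
  S.moduleCatHomologyIso.toLinearEquiv

theorem sc_homology_finite (S : ShortComplex (ModuleCat.{u} A))
    (h : Module.Finite A (LinearMap.ker S.g.hom)) : Module.Finite A S.homology :=
  Module.Finite.equiv (scHomologyEquiv S).symm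

theorem sc_homology_fp (S : ShortComplex (ModuleCat.{u} A))
    (h0 : Module.Finite A S.X₁)
    (h : Module.Finite A (LinearMap.ker S.g.hom))
    (h' : Module.Projective A (LinearMap.ker S.g.hom)) :
    Module.FinitePresentation A S.homology := by
  have : Module.FinitePresentation A (LinearMap.ker S.g.hom) :=
    Module.finitePresentation_of_projective A _
  have hfg : (LinearMap.range S.moduleCatToCycles).FG := by
    rw [LinearMap.range_eq_map]
    exact (Module.Finite.fg_top (R := A) (M := S.X₁)).map _
  have : Module.FinitePresentation A (LinearMap.ker S.g.hom ⧸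
      LinearMap.range S.moduleCatToCycles) :=
    Module.finitePresentation_of_surjective (Submodule.mkQ _) (Submodule.mkQ_surjective _)
      (by rw [Submodule.ker_mkQ]; exact hfg)
  exact Module.FinitePresentation.of_equiv (scHomologyEquiv S).symm

/-- comparison of the homology of a complex with that of `sc'` -/
noncomputable def homologyEquiv (E : CochainComplex (ModuleCat.{u} A) ℤ) (j : ℤ) :
    E.homology j ≃ₗ[A] (E.sc' (j - 1) j (j + 1)).homology :=
  (ShortComplex.homologyMapIso (E.isoSc' (j - 1) j (j + 1) (by simp) (by simp))).toLinearEquiv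

theorem homology_finite (E : CochainComplex (ModuleCat.{u} A) ℤ) (j : ℤ)
    (h : Module.Finite A (LinearMap.ker (E.d j (j + 1)).hom)) : Module.Finite A (E.homology j) := by
  have := sc_homology_finite (E.sc' (j - 1) j (j + 1)) h
  exact Module.Finite.equiv (homologyEquiv E j).symm

theorem homology_fp (E : CochainComplex (ModuleCat.{u} A) ℤ) (j : ℤ)
    (h0 : Module.Finite A (E.X (j - 1)))
    (h : Module.Finite A (LinearMap.ker (E.d j (j + 1)).hom))
    (h' : Module.Projective A (LinearMap.ker (E.d j (j + 1)).hom)) :
    Module.FinitePresentation A (E.homology j) := by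
  have := sc_homology_fp (E.sc' (j - 1) j (j + 1)) h0 h h'
  exact Module.FinitePresentation.of_equiv (homologyEquiv E j).symm

theorem main (K : Dual.D A) (m : ℤ) (hK : DRing.IsPseudoCoherent A m K) :
    ((∀ i : ℤ, m < i → Limits.IsZero ((DerivedCategory.homologyFunctor (ModuleCat.{u} A) i).obj K)) →
        Module.Finite A ((DerivedCategory.homologyFunctor (ModuleCat.{u} A) m).obj K)) ∧
      ((∀ i : ℤ, m + 1 < i → Limits.IsZero ((DerivedCategory.homologyFunctor (ModuleCat.{u} A) i).obj K)) →
        Module.FinitePresentation A ((DerivedCategory.homologyFunctor (ModuleCat.{u} A) (m + 1)).obj K)) := by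
  obtain ⟨E, a, b, α, hvan, hfree, hiso, hepi⟩ := hK
  have hb : ∀ i, b < i → Limits.IsZero (E.X i) := fun i hi => hvan i (Or.inr hi)
  have hfp : ∀ i, Module.Finite A (E.X i) ∧ Module.Projective A (E.X i) := fun i =>
    ⟨(hfree i).1, by have := (hfree i).2; exact Module.Projective.of_free⟩
  -- homology of `E` vs homology of `Q.obj E`
  let e : ∀ i, (DerivedCategory.homologyFunctor (ModuleCat.{u} A) i).obj (DerivedCategory.Q.obj E) ≅
      E.homology i := fun i => (DerivedCategory.homologyFunctorFactors (ModuleCat.{u} A) i).app E
  have hexact : ∀ k : ℤ, m ≤ k →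
      (∀ i : ℤ, k < i → Limits.IsZero ((DerivedCategory.homologyFunctor (ModuleCat.{u} A) i).obj K)) →
      ∀ i, k < i → E.ExactAt i := by
    intro k hk hzero i hi
    rw [exactAt_iff_isZero_homology]
    have := hiso i (by lia)
    exact (hzero i hi).of_iso ((e i).symm ≪≫
      asIso ((DerivedCategory.homologyFunctor (ModuleCat.{u} A) i).map α))
  constructor
  · intro hzero
    obtain ⟨hfin, -⟩ := cycles_finite_projective E b m hb hfp (hexact m le_rfl hzero) m le_rfl
    have h1 : Module.Finite A (E.homology m) := homology_finite E m hfin
    have h2 : Module.Finite A ((DerivedCategory.homologyFunctor (ModuleCat.{u} A) m).obj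
        (DerivedCategory.Q.obj E)) := Module.Finite.equiv (e m).toLinearEquiv.symm
    have hsurj := (ModuleCat.epi_iff_surjective _).mp hepi
    exact Module.Finite.of_surjective
      ((DerivedCategory.homologyFunctor (ModuleCat.{u} A) m).map α).hom hsurj
  · intro hzero
    obtain ⟨hfin, hproj⟩ := cycles_finite_projective E b (m + 1) hb hfp
      (hexact (m + 1) (by lia) hzero) (m + 1) le_rfl
    have h1 : Module.FinitePresentation A (E.homology (m + 1)) :=
      homology_fp E (m + 1) (hfp _).1 hfin hproj
    have h2 : Module.FinitePresentation A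
        ((DerivedCategory.homologyFunctor (ModuleCat.{u} A) (m + 1)).obj
        (DerivedCategory.Q.obj E)) := Module.FinitePresentation.of_equiv (e (m + 1)).toLinearEquiv.symm
    have := hiso (m + 1) (by lia)
    exact Module.FinitePresentation.of_equiv
      (asIso ((DerivedCategory.homologyFunctor (ModuleCat.{u} A) (m + 1)).map α)).toLinearEquiv

end Final


/-- If `K` is `m`-pseudo-coherent in `D(A)`, its cohomology in degree `m` is a finitely generated module
when nothing above degree `m` survives, and its cohomology in degree `m+1` is finitely presented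
when nothing above degree `m+1` survives. -/
theorem result {A : Type u} [CommRing A] (K : Dual.D A) (m : ℤ)
    (hK : DRing.IsPseudoCoherent A m K) :
    ((∀ i : ℤ, m < i → Limits.IsZero ((DerivedCategory.homologyFunctor (ModuleCat.{u} A) i).obj K)) →
        Module.Finite A ((DerivedCategory.homologyFunctor (ModuleCat.{u} A) m).obj K)) ∧
      ((∀ i : ℤ, m + 1 < i → Limits.IsZero ((DerivedCategory.homologyFunctor (ModuleCat.{u} A) i).obj K)) →
        Module.FinitePresentation A ((DerivedCategory.homologyFunctor (ModuleCat.{u} A) (m + 1)).obj K)) := by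
  exact main K m hK

end Groth.Agent.S2068
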