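import Groth.Statements.S2069
import Mathlib.LinearAlgebra.TensorProduct.Quotient
import Mathlib.LinearAlgebra.TensorProduct.RightExactness
import Mathlib.LinearAlgebra.TensorProduct.Finiteness
import Mathlib.LinearAlgebra.TensorProduct.Pi
import Mathlib.RingTheory.Ideal.AssociatedPrime.Finiteness

set_option autoImplicit false
set_option linter.unusedSectionVars false
universe u
open CAlg

namespace Groth.Agent.S2069

open TensorProduct

section basic

variable {R S N : Type u} [CommRing R] [CommRing S] [Algebra R S]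
  [AddCommGroup N] [Module S N] [Module R N] [IsScalarTower R S N]

/-- `n ↦ n ⊗ 1`, as an `S`-linear map `N → N ⊗_R R/p`. -/
noncomputable def toTensorQuot (p : Ideal R) : N →ₗ[S] N ⊗[R] (R ⧸ p) where
  toFun n := n ⊗ₜ[R] (1 : R ⧸ p)
  map_add' a b := add_tmul a b 1
  map_smul' _ _ := rfl

theorem toTensorQuot_surjective (p : Ideal R) :
    Function.Surjective (toTensorQuot (S := S) (N := N) p) := by
  intro x
  induction x using TensorProduct.induction_on with
  | zero => exact ⟨0, map_zero _⟩
  | tmul n r =>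
    obtain ⟨r, rfl⟩ := Ideal.Quotient.mk_surjective r
    refine ⟨r • n, ?_⟩
    change (r • n) ⊗ₜ[R] (1 : R ⧸ p) = n ⊗ₜ[R] (Ideal.Quotient.mk p r)
    rw [smul_tmul]
    congr 1
    rw [Algebra.smul_def, mul_one]
    rfl
  | add x y hx hy =>
    obtain ⟨a, rfl⟩ := hx
    obtain ⟨b, rfl⟩ := hy
    exact ⟨a + b, map_add _ _ _⟩

theorem ker_toTensorQuot (p : Ideal R) :
    LinearMap.ker (toTensorQuot (S := S) (N := N) p) =
      p.map (algebraMap R S) • (⊤ : Submodule S N) := by
  apply le_antisymm
  · intro n hn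
    rw [LinearMap.mem_ker] at hn
    change n ⊗ₜ[R] (1 : R ⧸ p) = 0 at hn
    have h2 : TensorProduct.tensorQuotEquivQuotSMul N p (n ⊗ₜ[R] (1 : R ⧸ p)) = 0 := by
      rw [hn, map_zero]
    have h3 : TensorProduct.tensorQuotEquivQuotSMul N p (n ⊗ₜ[R] (1 : R ⧸ p)) =
        Submodule.Quotient.mk n := by
      have := TensorProduct.tensorQuotEquivQuotSMul_tmul_mk (M := N) p n 1
      simpa using this
    rw [h3, Submodule.Quotient.mk_eq_zero] at h2
    refine Submodule.smul_induction_on h2 ?_ ?_
    · intro r hr m _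
      rw [← algebraMap_smul S r m]
      exact Submodule.smul_mem_smul (Ideal.mem_map_of_mem _ hr) Submodule.mem_top
    · intro x y hx hy
      exact add_mem hx hy
  · rw [Submodule.smul_le]
    intro s hs n _
    rw [LinearMap.mem_ker, map_smul]
    refine Submodule.span_induction (p := fun s _ => s • toTensorQuot (S := S) p n = 0)
      ?_ ?_ ?_ ?_ hs
    · rintro _ ⟨r, hr, rfl⟩
      change ((algebraMap R S r) • n) ⊗ₜ[R] (1 : R ⧸ p) = 0
      rw [algebraMap_smul, smul_tmul]
      have : r • (1 : R ⧸ p) = 0 := by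
        rw [Algebra.smul_def, mul_one]
        exact Ideal.Quotient.eq_zero_iff_mem.mpr hr
      rw [this, tmul_zero]
    · exact zero_smul _ _
    · intro x y _ _ hx hy
      rw [add_smul, hx, hy, add_zero]
    · intro a x _ hx
      rw [smul_eq_mul, mul_smul, hx, smul_zero]

/-- `N/pN ≃ N ⊗_R R/p`, `S`-linearly. -/
noncomputable def quotEquivTensorQuot (p : Ideal R) :
    (N ⧸ p.map (algebraMap R S) • (⊤ : Submodule S N)) ≃ₗ[S] N ⊗[R] (R ⧸ p) :=
  (Submodule.quotEquivOfEq _ _ (ker_toTensorQuot p).symm) ≪≫ₗ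
    LinearMap.quotKerEquivOfSurjective _ (toTensorQuot_surjective p)

end basic

section main

variable {R S M N : Type u} [CommRing R] [IsNoetherianRing R] [CommRing S]
    [Algebra R S] [AddCommGroup M] [Module R M] [AddCommGroup N] [Module S N] [Module R N]
    [IsScalarTower R S N] [Module.Flat R N]

theorem superset (p : Ideal R) (hp : p ∈ associatedPrimes R M) :
    associatedPrimes S (N ⧸ p.map (algebraMap R S) • (⊤ : Submodule S N)) ⊆
      associatedPrimes S (N ⊗[R] M) := by
  obtain ⟨_, f, hf⟩ := (isAssociatedPrime_iff_exists_injective_linearMap _ _).mp hp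
  let g : (N ⧸ p.map (algebraMap R S) • (⊤ : Submodule S N)) →ₗ[S] N ⊗[R] M :=
    (TensorProduct.AlgebraTensorModule.lTensor S N f).comp (quotEquivTensorQuot p).toLinearMap
  have hg : Function.Injective g := by
    have h1 : Function.Injective (TensorProduct.AlgebraTensorModule.lTensor S N f) := by
      rw [TensorProduct.AlgebraTensorModule.coe_lTensor]
      exact Module.Flat.lTensor_preserves_injective_linearMap f hf
    exact h1.comp (quotEquivTensorQuot p).injective
  exact associatedPrimes.subset_of_injective hg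

omit [IsNoetherianRing R] in
theorem map_le_of_mem_ass {p' : Ideal R} {q : Ideal S}
    (hq : q ∈ associatedPrimes S (N ⧸ p'.map (algebraMap R S) • (⊤ : Submodule S N))) :
    p' ≤ q.comap (algebraMap R S) := by
  obtain ⟨hqp, y, hy⟩ := hq
  intro r hr
  rw [Ideal.mem_comap, hy]
  apply Ideal.le_radical
  rw [Submodule.mem_colon_singleton, Submodule.mem_bot]
  obtain ⟨n, rfl⟩ := Submodule.Quotient.mk_surjective _ y
  rw [← Submodule.Quotient.mk_smul, Submodule.Quotient.mk_eq_zero]
  exact Submodule.smul_mem_smul (Ideal.mem_map_of_mem _ hr) Submodule.mem_top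

theorem filtration_step (X : Type u) [AddCommGroup X] [Module R X] [Module.Finite R X] :
    ∀ q ∈ associatedPrimes S (N ⊗[R] X), ∃ p' : Ideal R, p'.IsPrime ∧
      Module.annihilator R X ≤ p' ∧
      q ∈ associatedPrimes S (N ⧸ p'.map (algebraMap R S) • (⊤ : Submodule S N)) := by
  induction ‹Module.Finite R X› using
    IsNoetherianRing.induction_on_isQuotientEquivQuotientPrime R with
  | subsingleton X =>
    intro q hq
    rw [associatedPrimes.eq_empty_of_subsingleton] at hq
    exact hq.elim
  | quotient X p' f =>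
    intro q hq
    refine ⟨p'.1, p'.2, ?_, ?_⟩
    · rw [f.annihilator_eq, Ideal.annihilator_quotient]
    · let e : (N ⊗[R] X) ≃ₗ[S] (N ⧸ p'.1.map (algebraMap R S) • (⊤ : Submodule S N)) :=
        (TensorProduct.AlgebraTensorModule.congr (LinearEquiv.refl S N) f) ≪≫ₗ
          (quotEquivTensorQuot p'.1).symm
      rwa [← LinearEquiv.AssociatedPrimes.eq e]
  | exact X₁ X₂ X₃ f g hf hg hfg h₁ h₃ =>
    intro q hq
    have hf' : Function.Injective (TensorProduct.AlgebraTensorModule.lTensor S N f) := by
      rw [TensorProduct.AlgebraTensorModule.coe_lTensor]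
      exact Module.Flat.lTensor_preserves_injective_linearMap f hf
    have hfg' : Function.Exact (TensorProduct.AlgebraTensorModule.lTensor S N f)
        (TensorProduct.AlgebraTensorModule.lTensor S N g) := by
      rw [TensorProduct.AlgebraTensorModule.coe_lTensor,
        TensorProduct.AlgebraTensorModule.coe_lTensor]
      exact Module.Flat.lTensor_exact N hfg
    rcases associatedPrimes.subset_union_of_exact hf' hfg' hq with h | h
    · obtain ⟨p', hp', hle, hq'⟩ := h₁ q h
      refine ⟨p', hp', le_trans ?_ hle, hq'⟩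
      intro r hr
      rw [Module.mem_annihilator] at hr ⊢
      intro x
      apply hf
      rw [map_smul, hr, map_zero]
    · obtain ⟨p', hp', hle, hq'⟩ := h₃ q h
      refine ⟨p', hp', le_trans ?_ hle, hq'⟩
      intro r hr
      rw [Module.mem_annihilator] at hr ⊢
      intro x
      obtain ⟨y, rfl⟩ := hg x
      rw [← map_smul, hr, map_zero]

end main

section tors

variable {R S M N : Type u} [CommRing R] [CommRing S]
    [Algebra R S] [AddCommGroup M] [Module R M] [AddCommGroup N] [Module S N] [Module R N]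
    [IsScalarTower R S N]

/-- elements of `M` killed by some element outside the prime `p`. -/
def tors (p : Ideal R) [hp : p.IsPrime] (M : Type u) [AddCommGroup M] [Module R M] :
    Submodule R M where
  carrier := {m | ∃ s, s ∉ p ∧ s • m = 0}
  zero_mem' := ⟨1, (Ideal.ne_top_iff_one p).mp hp.ne_top, smul_zero _⟩
  add_mem' := by
    rintro a b ⟨s, hs, ha⟩ ⟨t, ht, hb⟩
    refine ⟨s * t, fun h => (hp.mem_or_mem h).elim hs ht, ?_⟩
    rw [smul_add, mul_smul s t b, hb, smul_zero, mul_comm, mul_smul t s a, ha, smul_zero, add_zero]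
  smul_mem' := by
    rintro c a ⟨s, hs, ha⟩
    exact ⟨s, hs, by rw [smul_comm, ha, smul_zero]⟩

theorem quot_tors_inj (p : Ideal R) [hp : p.IsPrime] (r : R) (hr : r ∉ p) (x : M ⧸ tors p M)
    (hx : r • x = 0) : x = 0 := by
  obtain ⟨m, rfl⟩ := Submodule.Quotient.mk_surjective _ x
  rw [← Submodule.Quotient.mk_smul, Submodule.Quotient.mk_eq_zero] at hx
  obtain ⟨s, hs, h⟩ := hx
  rw [Submodule.Quotient.mk_eq_zero]
  exact ⟨s * r, fun h => (hp.mem_or_mem h).elim hs hr, by rw [mul_smul, h]⟩

theorem tensor_tors (p : Ideal R) [hp : p.IsPrime] (y : N ⊗[R] (tors p M)) :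
    ∃ t, t ∉ p ∧ t • y = 0 := by
  induction y using TensorProduct.induction_on with
  | zero => exact ⟨1, (Ideal.ne_top_iff_one p).mp hp.ne_top, smul_zero _⟩
  | tmul n m =>
    obtain ⟨t, ht, h⟩ := m.2
    refine ⟨t, ht, ?_⟩
    rw [← tmul_smul]
    have : t • m = 0 := Subtype.ext h
    rw [this, tmul_zero]
  | add a b ha hb =>
    obtain ⟨s, hs, ha⟩ := ha
    obtain ⟨t, ht, hb⟩ := hb
    refine ⟨s * t, fun h => (hp.mem_or_mem h).elim hs ht, ?_⟩
    rw [smul_add, mul_smul s t b, hb, smul_zero, mul_comm, mul_smul t s a, ha, smul_zero, add_zero]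

theorem step1 (p : Ideal R) [hp : p.IsPrime] (z : N ⊗[R] M) (s : S)
    (h : s • (TensorProduct.AlgebraTensorModule.lTensor S N (tors p M).mkQ z) = 0) :
    ∃ t, t ∉ p ∧ (algebraMap R S t * s) • z = 0 := by
  have h0 : LinearMap.lTensor N (tors p M).mkQ (s • z) = 0 := by
    rw [← TensorProduct.AlgebraTensorModule.coe_lTensor (A := S), map_smul]
    exact h
  obtain ⟨y, hy⟩ := (lTensor_exact N (LinearMap.exact_subtype_mkQ (tors p M))
    (Submodule.mkQ_surjective _) _).mp h0
  obtain ⟨t, ht, hty⟩ := tensor_tors p y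
  refine ⟨t, ht, ?_⟩
  rw [mul_smul, algebraMap_smul, ← hy, ← map_smul, hty, map_zero]

theorem radical_ann_eq (q : Ideal S) [hq : q.IsPrime] (z : N ⊗[R] M)
    (hz : q = ((⊥ : Submodule S (N ⊗[R] M)).colon {z}).radical) :
    q = ((⊥ : Submodule S (N ⊗[R] (M ⧸ tors (q.comap (algebraMap R S)) M))).colon
      {TensorProduct.AlgebraTensorModule.lTensor S N
        (tors (q.comap (algebraMap R S)) M).mkQ z}).radical := by
  ext s
  constructor
  · intro hs
    rw [hz] at hs
    obtain ⟨k, hk⟩ := hs
    refine ⟨k, ?_⟩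
    rw [Submodule.mem_colon_singleton, Submodule.mem_bot] at hk ⊢
    rw [← map_smul, hk, map_zero]
  · rintro ⟨k, hk⟩
    rw [Submodule.mem_colon_singleton, Submodule.mem_bot] at hk
    obtain ⟨t, ht, h⟩ := step1 _ z (s ^ k) hk
    have hmem : algebraMap R S t * s ^ k ∈ q := by
      rw [hz]
      apply Ideal.le_radical
      rw [Submodule.mem_colon_singleton, Submodule.mem_bot]
      exact h
    rcases hq.mem_or_mem hmem with h1 | h1
    · exact (ht h1).elim
    · exact hq.mem_of_pow_mem k h1

theorem exists_killed_submodule [Module.Flat R N] (I : Ideal R) (hI : I.FG) (X : Type u)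
    [AddCommGroup X] [Module R X] (w : N ⊗[R] X) (hw : ∀ r ∈ I, r • w = 0) :
    ∃ K : Submodule R X, (∀ r ∈ I, ∀ x ∈ K, r • x = 0) ∧
      w ∈ LinearMap.range (LinearMap.lTensor N K.subtype) := by
  classical
  obtain ⟨G, hG⟩ := hI
  let F : X →ₗ[R] (G → X) := LinearMap.pi (fun g => (g : R) • LinearMap.id)
  have hF : ∀ x (g : G), F x g = (g : R) • x := fun x g => rfl
  refine ⟨LinearMap.ker F, ?_, ?_⟩
  · intro r hr x hx
    rw [LinearMap.mem_ker] at hx
    rw [← hG] at hr
    refine Submodule.span_induction (p := fun r _ => r • x = 0) ?_ ?_ ?_ ?_ hr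
    · intro g hg
      have := congrFun hx ⟨g, hg⟩
      rwa [hF] at this
    · exact zero_smul _ _
    · intro a b _ _ ha hb
      rw [add_smul, ha, hb, add_zero]
    · intro a b _ hb
      rw [smul_eq_mul, mul_smul, hb, smul_zero]
  · have hex : Function.Exact (LinearMap.ker F).subtype F := LinearMap.exact_subtype_ker_map F
    have hex' := Module.Flat.lTensor_exact N hex
    rw [LinearMap.mem_range]
    apply (hex' w).mp
    apply (TensorProduct.piRight R R N (fun _ : G => X)).injective
    rw [map_zero]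
    have key : ∀ w : N ⊗[R] X, TensorProduct.piRight R R N (fun _ : G => X)
        (LinearMap.lTensor N F w) = fun g : G => (g : R) • w := by
      intro w
      induction w using TensorProduct.induction_on with
      | zero =>
        rw [map_zero, map_zero]
        funext g
        simp
      | tmul n x =>
        rw [LinearMap.lTensor_tmul, TensorProduct.piRight_apply, TensorProduct.piRightHom_tmul]
        funext g
        rw [hF, tmul_smul]
      | add a b ha hb =>
        rw [map_add, map_add, ha, hb]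
        funext g
        simp [smul_add]
    rw [key]
    funext g
    exact hw g (by rw [← hG]; exact Submodule.subset_span g.2)

/-- Step 4: a nonzero element of `M/tors` killed by a power of `p` produces `p ∈ Ass M`. -/
theorem mem_ass_of_killed [IsNoetherianRing R] (p : Ideal R) [hp : p.IsPrime] (k : ℕ)
    (x₀ : M ⧸ tors p M) (hx₀ : x₀ ≠ 0) (hk : ∀ r ∈ p ^ k, r • x₀ = 0) :
    p ∈ associatedPrimes R M := by
  classical
  -- find nonzero element killed by `p`
  have hex : ∃ j, ∀ r ∈ p ^ j, r • x₀ = 0 := ⟨k, hk⟩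
  let j := Nat.find hex
  have hj : ∀ r ∈ p ^ j, r • x₀ = 0 := Nat.find_spec hex
  have hj0 : j ≠ 0 := by
    intro h0
    have := hj 1 (by rw [h0, pow_zero, Ideal.one_eq_top]; exact Submodule.mem_top)
    rw [one_smul] at this
    exact hx₀ this
  obtain ⟨j', hj'⟩ := Nat.exists_eq_succ_of_ne_zero hj0
  have hnot : ¬ ∀ r ∈ p ^ j', r • x₀ = 0 := Nat.find_min hex (by rw [← show j = Nat.find hex from rfl, hj']; exact Nat.lt_succ_self j')
  push Not at hnot
  obtain ⟨g, hg, hgx⟩ := hnot
  -- x₁ = g • x₀ ≠ 0, killed by p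
  have hx₁ : ∀ r ∈ p, r • (g • x₀) = 0 := by
    intro r hr
    rw [smul_smul]
    apply hj
    rw [hj', pow_succ']
    exact Ideal.mul_mem_mul hr hg
  obtain ⟨m, hm⟩ := Submodule.Quotient.mk_surjective _ (g • x₀)
  -- for each r ∈ p, r • m ∈ tors
  have hrm : ∀ r ∈ p, ∃ s, s ∉ p ∧ s • r • m = 0 := by
    intro r hr
    have : Submodule.Quotient.mk (r • m) = (0 : M ⧸ tors p M) := by
      rw [Submodule.Quotient.mk_smul, hm, hx₁ r hr]
    rw [Submodule.Quotient.mk_eq_zero] at this
    exact this
  obtain ⟨G, hG⟩ := (isNoetherianRing_iff_ideal_fg R).mp ‹_› p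
  have hGp : ∀ g ∈ G, g ∈ p := fun g hg => by rw [← hG]; exact Submodule.subset_span hg
  choose! sf hsf using hrm
  let s := ∏ g ∈ G, sf g
  have hs : s ∉ p := by
    intro h
    obtain ⟨g, hg, hgp⟩ := (Ideal.IsPrime.prod_mem_iff).mp h
    exact (hsf g (hGp g hg)).1 hgp
  have hsG : ∀ g ∈ G, s • g • m = 0 := by
    intro g hg
    obtain ⟨c, hc⟩ := Finset.dvd_prod_of_mem sf hg
    change s = sf g * c at hc
    rw [hc, mul_comm, mul_smul, (hsf g (hGp g hg)).2, smul_zero]
  have hsp : ∀ r ∈ p, r • s • m = 0 := by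
    intro r hr
    rw [← hG] at hr
    refine Submodule.span_induction (p := fun r _ => r • s • m = 0) ?_ ?_ ?_ ?_ hr
    · intro g hg
      rw [smul_comm]
      exact hsG g hg
    · exact zero_smul _ _
    · intro a b _ _ ha hb
      rw [add_smul, ha, hb, add_zero]
    · intro a b _ hb
      rw [smul_eq_mul, mul_smul, hb, smul_zero]
  rw [AssociatedPrimes.mem_iff, isAssociatedPrime_iff]
  refine ⟨hp, s • m, ?_⟩
  ext r
  rw [Submodule.mem_colon_singleton, Submodule.mem_bot]
  constructor
  · exact hsp r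
  · intro h
    by_contra hr
    have h2 : (r * s) • (g • x₀) = 0 := by
      rw [← hm, ← Submodule.Quotient.mk_smul, mul_smul, h, Submodule.Quotient.mk_zero]
    exact hgx (quot_tors_inj p (r * s) (fun h => (hp.mem_or_mem h).elim hr hs) _ h2)

end tors

section final

variable {R S M N : Type u} [CommRing R] [IsNoetherianRing R] [CommRing S]
    [Algebra R S] [AddCommGroup M] [Module R M] [AddCommGroup N] [Module S N] [Module R N]
    [IsScalarTower R S N] [Module.Flat R N]

theorem subset_dir (q : Ideal S) (hq : q ∈ associatedPrimes S (N ⊗[R] M)) :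
    ∃ p ∈ associatedPrimes R M,
      q ∈ associatedPrimes S (N ⧸ p.map (algebraMap R S) • (⊤ : Submodule S N)) := by
  obtain ⟨hqp, z, hz⟩ := hq
  have hp : (q.comap (algebraMap R S)).IsPrime := Ideal.IsPrime.comap _
  set p := q.comap (algebraMap R S) with hpdef
  set z' := TensorProduct.AlgebraTensorModule.lTensor S N (tors p M).mkQ z with hz'def
  have hz' : q = ((⊥ : Submodule S (N ⊗[R] (M ⧸ tors p M))).colon {z'}).radical :=
    radical_ann_eq q z hz
  have hpfg : (p.map (algebraMap R S)).FG :=
    ((isNoetherianRing_iff_ideal_fg R).mp ‹_› p).map _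
  have hle : p.map (algebraMap R S) ≤
      ((⊥ : Submodule S (N ⊗[R] (M ⧸ tors p M))).colon {z'}).radical := by
    rw [← hz']
    exact Ideal.map_comap_le
  obtain ⟨k, hk⟩ := Ideal.exists_pow_le_of_le_radical_of_fg hle hpfg
  have hkill : ∀ r ∈ p ^ k, r • z' = 0 := by
    intro r hr
    have h1 : algebraMap R S r ∈ (p.map (algebraMap R S)) ^ k := by
      rw [← Ideal.map_pow]
      exact Ideal.mem_map_of_mem _ hr
    have h2 := hk h1
    rw [Submodule.mem_colon_singleton, Submodule.mem_bot] at h2
    rwa [algebraMap_smul] at h2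
  obtain ⟨K, hK, ⟨w, hw⟩⟩ := exists_killed_submodule (p ^ k)
    ((isNoetherianRing_iff_ideal_fg R).mp ‹_› _) (M ⧸ tors p M) z' hkill
  obtain ⟨X₀, hfin, hX₀⟩ := TensorProduct.exists_finite_submodule_right_of_setFinite
    ({w} : Set (N ⊗[R] K)) (Set.finite_singleton w)
  obtain ⟨w₀, hw₀⟩ := hX₀ (Set.mem_singleton w)
  -- the composite inclusion
  let j : X₀ →ₗ[R] (M ⧸ tors p M) := K.subtype.comp X₀.subtype
  have hj : Function.Injective j := K.injective_subtype.comp X₀.injective_subtype
  let J : N ⊗[R] X₀ →ₗ[S] N ⊗[R] (M ⧸ tors p M) := TensorProduct.AlgebraTensorModule.lTensor S N j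
  have hJ : Function.Injective J := by
    rw [TensorProduct.AlgebraTensorModule.coe_lTensor]
    exact Module.Flat.lTensor_preserves_injective_linearMap j hj
  have hJw : J w₀ = z' := by
    change LinearMap.lTensor N j w₀ = z'
    rw [LinearMap.lTensor_comp, LinearMap.comp_apply, hw₀, hw]
  have hq₀ : q ∈ associatedPrimes S (N ⊗[R] X₀) := by
    refine ⟨hqp, w₀, ?_⟩
    rw [hz']
    congr 1
    ext s
    rw [Submodule.mem_colon_singleton, Submodule.mem_bot, Submodule.mem_colon_singleton,
      Submodule.mem_bot, ← hJw, ← map_smul, map_eq_zero_iff J hJ]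
  obtain ⟨p', hp', hann, hq'⟩ := filtration_step X₀ q hq₀
  have h1 : p' ≤ p := map_le_of_mem_ass hq'
  have h2 : p ≤ p' := by
    have h3 : p ^ k ≤ Module.annihilator R X₀ := by
      intro r hr
      rw [Module.mem_annihilator]
      intro x
      apply Subtype.ext
      apply Subtype.ext
      exact hK r hr x.1.1 x.1.2
    exact Ideal.IsPrime.le_of_pow_le (h3.trans hann)
  have hpp : p' = p := le_antisymm h1 h2
  rw [hpp] at hq'
  refine ⟨p, ?_, hq'⟩
  -- Step 4
  have hne : w₀ ≠ 0 := by
    intro h0
    apply hqp.ne_top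
    rw [hz', ← hJw, h0, map_zero]
    rw [Ideal.eq_top_iff_one]
    apply Ideal.le_radical
    rw [Submodule.mem_colon_singleton, Submodule.mem_bot, smul_zero]
  have hX₀ne : ∃ x : X₀, x ≠ 0 := by
    by_contra hcon
    push Not at hcon
    have : Subsingleton X₀ := ⟨fun a b => by rw [hcon a, hcon b]⟩
    exact hne (Subsingleton.elim _ _)
  obtain ⟨x, hx⟩ := hX₀ne
  refine mem_ass_of_killed p k (j x) ?_ ?_
  · intro h
    exact hx (hj (by rw [h, map_zero]))
  · intro r hr
    exact hK r hr _ x.1.2

end final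

open TensorProduct in
/-- Let `R → S` be a ring map, `M` an `R`-module and `N` an `S`-module flat over `R`. Then a prime of
`S` is associated to `N ⊗_R M` if and only if it is associated to `N/𝔭N` for some prime `𝔭` of `R`
associated to `M`. -/
theorem result {R S M N : Type u} [CommRing R] [IsNoetherianRing R] [CommRing S]
    [Algebra R S] [AddCommGroup M] [Module R M] [AddCommGroup N] [Module S N] [Module R N]
    [IsScalarTower R S N] [Module.Flat R N] :
    associatedPrimes S (N ⊗[R] M) =
      ⋃ p ∈ associatedPrimes R M, associatedPrimes S (N ⧸ p.map (algebraMap R S) • (⊤ : Submodule S N)) := by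
  ext q
  simp only [Set.mem_iUnion, exists_prop]
  constructor
  · intro hq
    exact subset_dir q hq
  · rintro ⟨p, hp, hq⟩
    exact superset p hp hq

end Groth.Agent.S2069
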