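import Groth.Statements.S2071
import Mathlib

set_option autoImplicit false
universe u
open CAlg Polynomial

namespace Groth.Agent.S2071

theorem core {k L : Type*} [Field k] [Field L] (j : k →+* L) (X X' : L) (hne : X' ≠ X)
    (hX : ∀ c : k, X + j c ≠ 0)
    (hpow : ∀ c : k, ∃ m : ℕ, 0 < m ∧ (X' + j c) ^ m = (X + j c) ^ m)
    (𝔸 : Subfield L) (h𝔸 : ∀ (μ : L) (m : ℕ), 0 < m → μ ^ m = 1 → μ ∈ 𝔸) :
    X ∈ 𝔸 ∧ X' ∈ 𝔸 ∧ ∀ c : k, j c ∈ 𝔸 := by
  have hμ : ∀ c : k, (X' + j c) / (X + j c) ∈ 𝔸 := by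
    intro c
    obtain ⟨m, hm, h⟩ := hpow c
    refine h𝔸 _ m hm ?_
    rw [div_pow, h, div_self (pow_ne_zero _ (hX c))]
  have hμ1 : ∀ c : k, (X' + j c) / (X + j c) ≠ 1 := by
    intro c h
    rw [div_eq_one_iff_eq (hX c)] at h
    exact hne (add_right_cancel h)
  obtain ⟨μ, hμdef⟩ : ∃ μ : k → L, μ = fun c => (X' + j c) / (X + j c) := ⟨_, rfl⟩
  have hμ' : ∀ c, μ c ∈ 𝔸 := fun c => by rw [hμdef]; exact hμ c
  have hμ1' : ∀ c, μ c ≠ 1 := fun c => by rw [hμdef]; exact hμ1 c
  have hrel : ∀ c, X' + j c = μ c * (X + j c) := fun c => by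
    rw [hμdef]; simp only; rw [div_mul_cancel₀ _ (hX c)]
  have h0 : X' = μ 0 * X := by simpa using hrel 0
  have key : ∀ c, X * (μ 0 - μ c) = j c * (μ c - 1) := by
    intro c
    have := hrel c
    rw [h0] at this
    linear_combination this
  have hX𝔸 : X ∈ 𝔸 := by
    have h1 := key 1
    rw [map_one, one_mul] at h1
    have hne1 : μ 1 - 1 ≠ 0 := sub_ne_zero.mpr (hμ1' 1)
    have hne2 : μ 0 - μ 1 ≠ 0 := by
      intro h; rw [h, mul_zero] at h1; exact hne1 h1.symm
    have : X = (μ 1 - 1) / (μ 0 - μ 1) := eq_div_of_mul_eq hne2 h1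
    rw [this]
    exact 𝔸.div_mem (𝔸.sub_mem (hμ' 1) 𝔸.one_mem) (𝔸.sub_mem (hμ' 0) (hμ' 1))
  refine ⟨hX𝔸, ?_, ?_⟩
  · rw [h0]; exact 𝔸.mul_mem (hμ' 0) hX𝔸
  · intro c
    have hc := key c
    have hne1 : μ c - 1 ≠ 0 := sub_ne_zero.mpr (hμ1' c)
    have : j c = X * (μ 0 - μ c) / (μ c - 1) := eq_div_of_mul_eq hne1 hc.symm
    rw [this]
    exact 𝔸.div_mem (𝔸.mul_mem hX𝔸 (𝔸.sub_mem (hμ' 0) (hμ' c))) (𝔸.sub_mem (hμ' c) 𝔸.one_mem)

theorem exists_conj {k k' L : Type*} [Field k] [Field k'] [Field L] [Algebra k k'] [Algebra k' L]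
    [Algebra k L] [IsScalarTower k k' L] [IsAlgClosed L] (x : k') (hsep : IsSeparable k x)
    (hx : x ∉ (algebraMap k k').range) :
    ∃ x' : L, x' ≠ algebraMap k' L x ∧ ∀ F : k[X], aeval x F = 0 → aeval x' F = 0 := by
  classical
  have hint : IsIntegral k x := hsep.isIntegral
  have hdeg : 2 ≤ (minpoly k x).natDegree := (minpoly.two_le_natDegree_iff hint).mpr hx
  have hcard : Fintype.card ((minpoly k x).rootSet L) = (minpoly k x).natDegree :=
    card_rootSet_eq_natDegree hsep (IsAlgClosed.splits _)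
  have hmem : algebraMap k' L x ∈ (minpoly k x).rootSet L := by
    rw [mem_rootSet]
    refine ⟨minpoly.ne_zero hint, ?_⟩
    rw [aeval_algebraMap_apply, minpoly.aeval, map_zero]
  obtain ⟨⟨x', hx'⟩, hne⟩ := Fintype.exists_ne_of_one_lt_card
    (by rw [hcard]; omega) (⟨_, hmem⟩ : (minpoly k x).rootSet L)
  refine ⟨x', fun h => hne (Subtype.ext h), ?_⟩
  intro F hF
  obtain ⟨g, rfl⟩ := minpoly.dvd k x hF
  rw [mem_rootSet] at hx'
  rw [map_mul, hx'.2, zero_mul]


theorem pow_rel {k k' L : Type*} [Field k] [Field k'] [Field L] [Algebra k k'] [Algebra k' L]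
    [Algebra k L] [IsScalarTower k k' L]
    (H : ∀ x : k', ∃ n : ℕ, 0 < n ∧ x ^ n ∈ Set.range (algebraMap k k'))
    (x : k') (hx : x ∉ (algebraMap k k').range) (x' : L)
    (hx' : ∀ F : k[X], aeval x F = 0 → aeval x' F = 0) :
    (∀ c : k, algebraMap k' L x + algebraMap k L c ≠ 0) ∧
    ∀ c : k, ∃ m : ℕ, 0 < m ∧
      (x' + algebraMap k L c) ^ m = (algebraMap k' L x + algebraMap k L c) ^ m := by
  constructor
  · intro c h
    rw [IsScalarTower.algebraMap_apply k k' L, ← map_add] at h
    have h0 : x + algebraMap k k' c = 0 := (map_eq_zero _).mp h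
    apply hx
    refine ⟨-c, ?_⟩
    rw [map_neg]
    exact (eq_neg_of_add_eq_zero_left h0).symm
  · intro c
    obtain ⟨m, hm, b, hb⟩ := H (x + algebraMap k k' c)
    refine ⟨m, hm, ?_⟩
    have hF : aeval x ((Polynomial.X + C c) ^ m - C b : k[X]) = 0 := by
      simp [hb]
    have := hx' _ hF
    simp only [map_sub, map_pow, map_add, aeval_X, aeval_C] at this
    rw [sub_eq_zero] at this
    rw [this, IsScalarTower.algebraMap_apply k k' L c, ← map_add, ← map_pow, ← hb,
      ← IsScalarTower.algebraMap_apply]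


theorem no_char_zero {k L : Type*} [Field k] [Field L] [CharZero L] (j : k →+* L) (X X' : L)
    (hne : X' ≠ X) (hX : ∀ c : k, X + j c ≠ 0)
    (hpow : ∀ c : k, ∃ m : ℕ, 0 < m ∧ (X' + j c) ^ m = (X + j c) ^ m) : False := by
  have h𝔸 : ∀ (μ : L) (m : ℕ), 0 < m → μ ^ m = 1 →
      μ ∈ (algebraicClosure ℚ L).toSubfield := by
    intro μ m hm h
    change μ ∈ algebraicClosure ℚ L
    rw [mem_algebraicClosure_iff']
    exact IsIntegral.of_pow hm (by rw [h]; exact isIntegral_one)
  obtain ⟨hXA, hX'A, -⟩ := core j X X' hne hX hpow _ h𝔸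
  have hXi : IsIntegral ℚ X := hXA
  have hX'i : IsIntegral ℚ X' := hX'A
  obtain ⟨F₀, hF₀⟩ : ∃ F₀ : IntermediateField ℚ L,
      F₀ = IntermediateField.adjoin ℚ ({X, X'} : Set L) := ⟨_, rfl⟩
  have hfd : FiniteDimensional ℚ F₀ := by
    rw [hF₀]; exact IntermediateField.finiteDimensional_adjoin_pair hXi hX'i
  have hnf : NumberField F₀ := { to_charZero := inferInstance, to_finiteDimensional := hfd }
  have hXm : X ∈ F₀ := by rw [hF₀]; exact IntermediateField.subset_adjoin _ _ (by simp)
  have hX'm : X' ∈ F₀ := by rw [hF₀]; exact IntermediateField.subset_adjoin _ _ (by simp)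
  obtain ⟨ν, hνdef⟩ : ∃ ν : ℕ → F₀, ν = fun n : ℕ =>
      ((⟨X', hX'm⟩ : F₀) + (n : F₀)) / ((⟨X, hXm⟩ : F₀) + (n : F₀)) :=
    ⟨_, rfl⟩
  have hden : ∀ n : ℕ, (⟨X, hXm⟩ : F₀) + (n : F₀) ≠ 0 := by
    intro n h
    have := congrArg (algebraMap F₀ L) h
    rw [map_add, map_natCast, map_zero] at this
    apply hX (n : k)
    rw [map_natCast]
    exact this
  have hν : ∀ n, ∃ m : ℕ, 0 < m ∧ ν n ^ m = 1 := by
    intro n
    obtain ⟨m, hm, h⟩ := hpow (n : k)
    refine ⟨m, hm, ?_⟩
    apply (algebraMap F₀ L).injective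
    rw [hνdef]
    simp only [map_pow, map_div₀, map_add, map_natCast, map_one]
    rw [map_natCast] at h
    have h0 : X + (n : L) ≠ 0 := by simpa using hX (n : k)
    change ((X' + (n : L)) / (X + (n : L))) ^ m = 1
    rw [div_pow, h, div_self (pow_ne_zero _ h0)]
  have hinj : Function.Injective ν := by
    intro a b hab
    rw [hνdef] at hab
    simp only at hab
    rw [div_eq_div_iff (hden a) (hden b)] at hab
    have hne' : (⟨X, hXm⟩ : F₀) - ⟨X', hX'm⟩ ≠ 0 := by
      intro h
      apply hne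
      have := congrArg (algebraMap F₀ L) (sub_eq_zero.mp h)
      exact this.symm
    have h2 : ((a : F₀) - (b : F₀)) * ((⟨X, hXm⟩ : F₀) - ⟨X', hX'm⟩) = 0 := by
      linear_combination hab
    rcases mul_eq_zero.mp h2 with h3 | h3
    · exact Nat.cast_injective (sub_eq_zero.mp h3)
    · exact absurd h3 hne'
  have hfin := NumberField.Embeddings.finite_of_norm_le F₀ ℂ 1
  have hsub : Set.range ν ⊆ {x : F₀ | IsIntegral ℤ x ∧ ∀ φ : F₀ →+* ℂ, ‖φ x‖ ≤ 1} := by
    rintro _ ⟨n, rfl⟩
    obtain ⟨m, hm, h⟩ := hν n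
    refine ⟨IsIntegral.of_pow hm (by rw [h]; exact isIntegral_one), fun φ => ?_⟩
    have : (φ (ν n)) ^ m = 1 := by rw [← map_pow, h, map_one]
    exact (Complex.norm_eq_one_of_pow_eq_one this hm.ne').le
  exact (Set.infinite_range_of_injective hinj) (hfin.subset hsub)


theorem alg_bot {k k' : Type u} [Field k] [Field k'] [Algebra k k']
    (H : ∀ x : k', ∃ n : ℕ, 0 < n ∧ x ^ n ∈ Set.range (algebraMap k k'))
    (x' : AlgebraicClosure k') (x : k') (hne : x' ≠ algebraMap k' (AlgebraicClosure k') x)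
    (hX : ∀ c : k, algebraMap k' (AlgebraicClosure k') x + algebraMap k (AlgebraicClosure k') c ≠ 0)
    (hpow : ∀ c : k, ∃ m : ℕ, 0 < m ∧ (x' + algebraMap k (AlgebraicClosure k') c) ^ m =
      (algebraMap k' (AlgebraicClosure k') x + algebraMap k (AlgebraicClosure k') c) ^ m) :
    Algebra.IsAlgebraic (⊥ : Subfield k') k' := by
  have h𝔸 : ∀ (μ : AlgebraicClosure k') (m : ℕ), 0 < m → μ ^ m = 1 →
      μ ∈ (algebraicClosure (⊥ : Subfield k') (AlgebraicClosure k')).toSubfield := by
    intro μ m hm h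
    change μ ∈ algebraicClosure (⊥ : Subfield k') (AlgebraicClosure k')
    rw [mem_algebraicClosure_iff']
    exact IsIntegral.of_pow hm (by rw [h]; exact isIntegral_one)
  obtain ⟨-, -, hk⟩ := core (algebraMap k (AlgebraicClosure k')) _ x' hne hX hpow _ h𝔸
  refine ⟨fun y => ?_⟩
  obtain ⟨n, hn, a, ha⟩ := H y
  have h1 : IsIntegral (⊥ : Subfield k') (algebraMap k (AlgebraicClosure k') a) := hk a
  rw [IsScalarTower.algebraMap_apply k k' (AlgebraicClosure k'), ha, map_pow] at h1
  have h2 : IsIntegral (⊥ : Subfield k') (algebraMap k' (AlgebraicClosure k') y) :=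
    IsIntegral.of_pow hn h1
  exact (isAlgebraic_algebraMap_iff (algebraMap k' (AlgebraicClosure k')).injective).mp
    h2.isAlgebraic

/-- For a field extension `k'/k`, every element of `k'` has a positive power in `k` if and only if
either `k' = k`, or the characteristic is a prime `p` and either `k'/k` is purely inseparable or
`k'` is algebraic over its prime field. -/
theorem result {k k' : Type u} [Field k] [Field k'] [Algebra k k'] :
    (∀ x : k', ∃ n : ℕ, 0 < n ∧ x ^ n ∈ Set.range (algebraMap k k')) ↔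
      Function.Surjective (algebraMap k k') ∨
        ∃ p : ℕ, p.Prime ∧ CharP k' p ∧
          (IsPurelyInseparable k k' ∨ Algebra.IsAlgebraic (⊥ : Subfield k') k') := by
  constructor
  · intro H
    by_cases hsurj : Function.Surjective (algebraMap k k')
    · exact Or.inl hsurj
    right
    obtain ⟨p, hp⟩ := CharP.exists k'
    have halg : Algebra.IsAlgebraic k k' := ⟨fun x => by
      obtain ⟨n, hn, a, ha⟩ := H x
      exact IsAlgebraic.of_pow hn (ha ▸ isAlgebraic_algebraMap a)⟩
    by_cases hPI : IsPurelyInseparable k k'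
    · rcases CharP.char_is_prime_or_zero k' p with hpp | hp0
      · exact ⟨p, hpp, hp, Or.inl hPI⟩
      · exfalso
        subst hp0
        have : CharZero k' := CharP.charP_to_charZero k'
        have : CharZero k := by
          have h0 : CharP k 0 := ((algebraMap k k').charP_iff_charP 0).mpr inferInstance
          exact CharP.charP_to_charZero k
        have : Algebra.IsSeparable k k' := inferInstance
        exact hsurj (IsPurelyInseparable.surjective_algebraMap_of_isSeparable k k')
    · rw [isPurelyInseparable_iff] at hPI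
      push Not at hPI
      obtain ⟨x, hx⟩ := hPI
      have hxint : IsIntegral k x := (halg.isAlgebraic x).isIntegral
      obtain ⟨hsep, hxr⟩ := hx hxint
      obtain ⟨x', hne, htr⟩ := exists_conj (L := AlgebraicClosure k') x hsep hxr
      obtain ⟨hX, hpow⟩ := pow_rel (L := AlgebraicClosure k') H x hxr x' htr
      rcases CharP.char_is_prime_or_zero k' p with hpp | hp0
      · exact ⟨p, hpp, hp, Or.inr (alg_bot H x' x hne hX hpow)⟩
      · exfalso
        subst hp0
        have : CharZero k' := CharP.charP_to_charZero k'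
        have : CharZero (AlgebraicClosure k') :=
          charZero_of_injective_algebraMap (algebraMap k' _).injective
        exact no_char_zero (algebraMap k (AlgebraicClosure k')) _ x' hne hX hpow
  · rintro (hsurj | ⟨p, hpp, hp, hPI | halg⟩)
    · intro x
      obtain ⟨a, rfl⟩ := hsurj x
      exact ⟨1, one_pos, a, by simp⟩
    · intro x
      have : CharP k p := ((algebraMap k k').charP_iff_charP p).mpr hp
      have : ExpChar k p := ExpChar.prime hpp
      obtain ⟨n, hn⟩ := IsPurelyInseparable.pow_mem k p x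
      exact ⟨p ^ n, pow_pos hpp.pos n, hn⟩
    · intro x
      have : Fact p.Prime := ⟨hpp⟩
      let _ : Algebra (ZMod p) k' := ZMod.algebra k' p
      have hfin : Finite (⊥ : Subfield k') := by
        rw [Subfield.bot_eq_of_zMod_algebra p]
        exact Set.finite_range (algebraMap (ZMod p) k')
      by_cases hx0 : x = 0
      · exact ⟨1, one_pos, 0, by simp [hx0]⟩
      have hxint : IsIntegral (⊥ : Subfield k') x := (halg.isAlgebraic x).isIntegral
      have hfd : FiniteDimensional (⊥ : Subfield k')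
          (IntermediateField.adjoin (⊥ : Subfield k') {x}) :=
        IntermediateField.adjoin.finiteDimensional hxint
      have hfin2 : Finite (IntermediateField.adjoin (⊥ : Subfield k') {x}) :=
        Module.finite_of_finite (⊥ : Subfield k')
      let _ : Fintype (IntermediateField.adjoin (⊥ : Subfield k') {x}) := Fintype.ofFinite _
      have hxm : x ∈ IntermediateField.adjoin (⊥ : Subfield k') {x} :=
        IntermediateField.mem_adjoin_simple_self _ x
      have h1 := FiniteField.pow_card_sub_one_eq_one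
        (⟨x, hxm⟩ : IntermediateField.adjoin (⊥ : Subfield k') {x})
        (fun h => hx0 (congrArg Subtype.val h))
      have h2 := congrArg Subtype.val h1
      refine ⟨Fintype.card (IntermediateField.adjoin (⊥ : Subfield k') {x}) - 1, ?_, 1, ?_⟩
      · have := Fintype.one_lt_card (α := IntermediateField.adjoin (⊥ : Subfield k') {x})
        omega
      · rw [map_one]
        exact h2.symm

end Groth.Agent.S2071
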