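import Groth.Statements.S2073
import Mathlib.RingTheory.NoetherNormalization
import Mathlib.RingTheory.MvPolynomial.Localization
import Mathlib.RingTheory.Localization.Integral
import Mathlib.RingTheory.Localization.BaseChange
import Mathlib.RingTheory.IsTensorProduct
import Mathlib.RingTheory.FiniteStability
import Mathlib.RingTheory.Polynomial.ScaleRoots
import Mathlib.Tactic

set_option autoImplicit false
universe u
open CAlg

namespace Groth.Agent.S2073

open TensorProduct MvPolynomial

section aux

variable {R S : Type u} [CommRing R] [IsDomain R] [CommRing S] [Algebra R S]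

/-- the inclusion `S → K ⊗ S`. -/
noncomputable abbrev ι (R S : Type u) [CommRing R] [IsDomain R] [CommRing S] [Algebra R S] :
    S →ₐ[R] (FractionRing R) ⊗[R] S :=
  Algebra.TensorProduct.includeRight

instance locMod : IsLocalizedModule (nonZeroDivisors R) (TensorProduct.mk R (FractionRing R) S 1) :=
  (isLocalizedModule_iff_isBaseChange (nonZeroDivisors R) (FractionRing R) _).mpr
    (TensorProduct.isBaseChange R S (FractionRing R))

lemma ι_eq_zero_iff (s : S) : ι R S s = 0 ↔ ∃ r : R, r ≠ 0 ∧ r • s = 0 := by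
  have h := IsLocalizedModule.eq_zero_iff (nonZeroDivisors R)
    (TensorProduct.mk R (FractionRing R) S 1) (m := s)
  have e : ι R S s = TensorProduct.mk R (FractionRing R) S 1 s := rfl
  rw [e, h]
  constructor
  · rintro ⟨c, hc⟩
    exact ⟨c, nonZeroDivisors.ne_zero c.2, hc⟩
  · rintro ⟨r, hr, h⟩
    exact ⟨⟨r, mem_nonZeroDivisors_of_ne_zero hr⟩, h⟩

lemma ι_surj (t : (FractionRing R) ⊗[R] S) : ∃ r : R, r ≠ 0 ∧ ∃ s : S, r • t = ι R S s := by
  obtain ⟨⟨s, c⟩, h⟩ := IsLocalizedModule.surj (nonZeroDivisors R)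
    (TensorProduct.mk R (FractionRing R) S 1) t
  exact ⟨c, nonZeroDivisors.ne_zero c.2, s, h⟩

omit [IsDomain R] in
/-- scaling lemma: if `r • p(t) = 0` with `p` monic (coefficients through `φ`), then `r • t` is
integral. -/
lemma isIntegralElem_smul_of_smul_eval₂_eq_zero {P : Type u} [CommRing P] [Algebra R P]
    (φ : P →ₐ[R] S) (p : Polynomial P) (hp : p.Monic) (t : S) (r : R)
    (h : r • Polynomial.eval₂ (φ : P →+* S) t p = 0) :
    (φ : P →+* S).IsIntegralElem (r • t) := by
  refine ⟨Polynomial.scaleRoots (p * Polynomial.X) (algebraMap R P r),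
    (Polynomial.monic_scaleRoots_iff _).2 (hp.mul Polynomial.monic_X), ?_⟩
  have e : r • t = (φ : P →+* S) (algebraMap R P r) * t := by
    simp [Algebra.smul_def]
  rw [e, Polynomial.scaleRoots_eval₂_mul]
  rcases subsingleton_or_nontrivial P with hP | hP
  · have : (1 : S) = 0 := by
      rw [← map_one (φ : P →+* S), Subsingleton.elim (1 : P) 0, map_zero]
    rw [← mul_one (_ * _), this, mul_zero]
  rw [hp.natDegree_mul Polynomial.monic_X, Polynomial.natDegree_X, pow_succ,
    Polynomial.eval₂_mul, Polynomial.eval₂_X]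
  have e2 : (φ : P →+* S) (algebraMap R P r) * Polynomial.eval₂ (φ : P →+* S) t p = 0 := by
    rw [← h]; simp [Algebra.smul_def]
  calc _ = (φ : P →+* S) (algebraMap R P r) ^ p.natDegree *
      ((φ : P →+* S) (algebraMap R P r) * Polynomial.eval₂ (φ : P →+* S) t p) * t := by ring
    _ = 0 := by rw [e2]; ring

attribute [local instance] MvPolynomial.algebraMvPolynomial in
/-- key step: clearing denominators in an integral equation. -/
lemma exists_smul_isIntegralElem {d : ℕ} (y : Fin d → S)
    (g : MvPolynomial (Fin d) (FractionRing R) →ₐ[FractionRing R] (FractionRing R) ⊗[R] S)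
    (hg : ∀ i, g (X i) = ι R S (y i)) (hint : g.toRingHom.IsIntegral) (s : S) :
    ∃ c : R, c ≠ 0 ∧
      ((MvPolynomial.aeval y : MvPolynomial (Fin d) R →ₐ[R] S) :
        MvPolynomial (Fin d) R →+* S).IsIntegralElem (c • s) := by
  classical
  let K := FractionRing R
  let T := K ⊗[R] S
  let P := MvPolynomial (Fin d) R
  let PK := MvPolynomial (Fin d) K
  let algPKT : Algebra PK T := g.toRingHom.toAlgebra
  let algPT : Algebra P T := ((g : PK →+* T).comp (algebraMap P PK)).toAlgebra
  have : IsScalarTower P PK T := IsScalarTower.of_algebraMap_eq (fun _ => rfl)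
  have hx : IsIntegral PK (ι R S s) := hint (ι R S s)
  obtain ⟨⟨m, c, hc, rfl⟩, hm⟩ :=
    IsIntegral.exists_multiple_integral_of_isLocalization
      ((nonZeroDivisors R).map (C (σ := Fin d))) (ι R S s) hx
  -- the algebra map `P → T` is `ι ∘ aeval y`
  have halg : (algebraMap P T) = ((ι R S).comp (MvPolynomial.aeval y) : P →+* T) := by
    have : ((g.restrictScalars R).comp (MvPolynomial.mapAlgHom (Algebra.ofId R K)) : P →ₐ[R] T)
        = (ι R S).comp (MvPolynomial.aeval y) := by
      apply MvPolynomial.algHom_ext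
      intro i
      simp [hg]
    exact congrArg (fun φ : P →ₐ[R] T => (φ : P →+* T)) this
  have hsm : (⟨C c, Submonoid.mem_map_of_mem C hc⟩ : (nonZeroDivisors R).map (C (σ := Fin d))) • ι R S s
      = ι R S (c • s) := by
    rw [Submonoid.mk_smul, Algebra.smul_def, halg]
    change (ι R S) (aeval y (C c)) * ι R S s = _
    rw [aeval_C, ← map_mul, Algebra.smul_def]
  rw [hsm] at hm
  obtain ⟨p, hp, hp0⟩ := hm
  rw [halg] at hp0
  have hp1 : ι R S (Polynomial.eval₂ ((MvPolynomial.aeval y : P →ₐ[R] S) : P →+* S) (c • s) p) = 0 := by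
    rw [← hp0]
    exact (Polynomial.hom_eval₂ p ((MvPolynomial.aeval y : P →ₐ[R] S) : P →+* S)
      (ι R S : S →+* T) (c • s))
  obtain ⟨r, hr, hr0⟩ := (ι_eq_zero_iff _).1 hp1
  refine ⟨r * c, mul_ne_zero hr (nonZeroDivisors.ne_zero hc), ?_⟩
  rw [mul_smul]
  exact isIntegralElem_smul_of_smul_eval₂_eq_zero _ p hp _ r hr0

end aux

/-- normalised Noether normalisation of `K ⊗ S`: the variables come from `S`. -/
lemma exists_normalised {R S : Type u} [CommRing R] [IsDomain R] [CommRing S] [Algebra R S]
    [Algebra.FiniteType R S] (hinj : Function.Injective (algebraMap R S)) :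
    ∃ (d : ℕ) (y : Fin d → S)
      (g : MvPolynomial (Fin d) (FractionRing R) →ₐ[FractionRing R] (FractionRing R) ⊗[R] S),
      (∀ i, g (X i) = ι R S (y i)) ∧ Function.Injective g ∧ g.toRingHom.IsIntegral := by
  classical
  let K := FractionRing R
  let T := K ⊗[R] S
  have : Nontrivial T := by
    refine ⟨⟨1, 0, fun h => ?_⟩⟩
    have h1 : ι R S 1 = 0 := by rw [map_one]; exact h
    obtain ⟨r, hr, h0⟩ := (ι_eq_zero_iff _).1 h1
    apply hr; apply hinj; rw [map_zero, ← h0, Algebra.smul_def, mul_one]
  obtain ⟨d, g, ginj, gint⟩ := exists_integral_inj_algHom_of_fg K T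
  have hy : ∀ i : Fin d, ∃ r : R, r ≠ 0 ∧ ∃ s : S, r • g (X i) = ι R S s := fun i => ι_surj _
  choose r hr y hy using hy
  let ρ : Fin d → K := fun i => algebraMap R K (r i)
  have hρ : ∀ i, ρ i ≠ 0 := fun i => by
    simpa [ρ] using (hr i)
  let σ : MvPolynomial (Fin d) K →ₐ[K] MvPolynomial (Fin d) K := aeval (fun i => C (ρ i) * X i)
  let τ : MvPolynomial (Fin d) K →ₐ[K] MvPolynomial (Fin d) K := aeval (fun i => C (ρ i)⁻¹ * X i)
  have hτσ : τ.comp σ = AlgHom.id K _ := by
    apply MvPolynomial.algHom_ext; intro i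
    simp only [σ, τ, AlgHom.comp_apply, aeval_X, map_mul, AlgHom.id_apply]
    rw [← mul_assoc, MvPolynomial.aeval_C, MvPolynomial.algebraMap_eq, ← C_mul, mul_inv_cancel₀ (hρ i),
      C_1, one_mul]
  have hστ : σ.comp τ = AlgHom.id K _ := by
    apply MvPolynomial.algHom_ext; intro i
    simp only [σ, τ, AlgHom.comp_apply, aeval_X, map_mul, AlgHom.id_apply]
    rw [← mul_assoc, MvPolynomial.aeval_C, MvPolynomial.algebraMap_eq, ← C_mul, inv_mul_cancel₀ (hρ i),
      C_1, one_mul]
  have σinj : Function.Injective σ := fun a b h => by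
    have := congrArg τ h
    rwa [← AlgHom.comp_apply, ← AlgHom.comp_apply, hτσ] at this
  have σsurj : Function.Surjective σ := fun a => ⟨τ a, by
    rw [← AlgHom.comp_apply, hστ]; rfl⟩
  refine ⟨d, y, g.comp σ, ?_, ginj.comp σinj, ?_⟩
  · intro i
    rw [AlgHom.comp_apply, ← hy i]
    simp only [σ, aeval_X, map_mul, MvPolynomial.algHom_C, ρ]
    rw [← IsScalarTower.algebraMap_apply, ← Algebra.smul_def]
  · exact RingHom.IsIntegral.trans _ _ (RingHom.isIntegral_of_surjective _ σsurj) gint

/-- Let `R` be a domain and `R → S` an injective ring map of finite type. Then there are elements `y_1,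
…, y_d` of `S` algebraically independent over `R`, a finitely generated `R`-subalgebra `S'` of `S`
containing them and integral over `R[y_1, …, y_d]`, and a nonzero `f ∈ R` such that every element of
`S` lands in `S'` after multiplication by a power of `f`. -/
theorem result {R S : Type u} [CommRing R] [IsDomain R] [CommRing S] [Algebra R S]
    [Algebra.FiniteType R S] (hinj : Function.Injective (algebraMap R S)) :
    ∃ (d : ℕ) (y : Fin d → S) (S' : Subalgebra R S), AlgebraicIndependent R y ∧ (∀ i, y i ∈ S') ∧ S'.FG ∧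
      (∀ s ∈ S', IsIntegral (Algebra.adjoin R (Set.range y)) s) ∧
      ∃ f : R, f ≠ 0 ∧ ∀ s : S, ∃ n : ℕ, (f ^ n) • s ∈ S' := by
  classical
  obtain ⟨d, y, g, hg, ginj, gint⟩ := exists_normalised hinj
  let K := FractionRing R
  let A₀ : Subalgebra R S := Algebra.adjoin R (Set.range y)
  -- algebraic independence
  have hai : AlgebraicIndependent R y := by
    have h1 : AlgebraicIndependent K (fun i => g (X i)) := by
      rw [algebraicIndependent_iff_injective_aeval]
      have : (aeval (fun i => g (X i)) : MvPolynomial (Fin d) K →ₐ[K] _) = g := by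
        apply MvPolynomial.algHom_ext; intro i; simp
      rw [this]; exact ginj
    have h2 : AlgebraicIndependent R (fun i => g (X i)) :=
      h1.restrictScalars (IsFractionRing.injective R K)
    have h3 : AlgebraicIndependent R ((ι R S) ∘ y) := by
      convert h2 using 1; ext i; exact (hg i).symm
    exact h3.of_comp (ι R S)
  -- integrality: IsIntegralElem (aeval y) t → IsIntegral A₀ t
  have hconv : ∀ t : S, ((aeval y : MvPolynomial (Fin d) R →ₐ[R] S) :
      MvPolynomial (Fin d) R →+* S).IsIntegralElem t → IsIntegral A₀ t := by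
    rintro t ⟨p, hp, hp0⟩
    let φ : MvPolynomial (Fin d) R →ₐ[R] A₀ :=
      aeval (fun i => ⟨y i, Algebra.subset_adjoin (Set.mem_range_self i)⟩)
    have hφ : (A₀.val.comp φ) = aeval y := by
      apply MvPolynomial.algHom_ext; intro i; simp [φ]
    refine ⟨p.map (φ : MvPolynomial (Fin d) R →+* A₀), hp.map _, ?_⟩
    rw [Polynomial.eval₂_map]
    have : (algebraMap A₀ S).comp (φ : MvPolynomial (Fin d) R →+* A₀) =
        ((aeval y : MvPolynomial (Fin d) R →ₐ[R] S) : MvPolynomial (Fin d) R →+* S) := by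
      rw [← hφ]; rfl
    rw [this]; exact hp0
  -- generators
  obtain ⟨t, ht⟩ := (Algebra.FiniteType.out : (⊤ : Subalgebra R S).FG)
  have hc : ∀ s : S, ∃ c : R, c ≠ 0 ∧ IsIntegral A₀ (c • s) := fun s => by
    obtain ⟨c, hc, h⟩ := exists_smul_isIntegralElem y g hg gint s
    exact ⟨c, hc, hconv _ h⟩
  choose c hc0 hcint using hc
  let f : R := ∏ s ∈ t, c s
  have hf : f ≠ 0 := Finset.prod_ne_zero_iff.2 (fun s _ => hc0 s)
  have hfint : ∀ s ∈ t, IsIntegral A₀ (f • s) := by
    intro s hs
    obtain ⟨q, hq⟩ := Finset.dvd_prod_of_mem c hs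
    have : f • s = q • (c s • s) := by rw [smul_smul, mul_comm, ← hq]
    rw [this]; exact (hcint s).smul q
  let S' : Subalgebra R S := Algebra.adjoin R (Set.range y ∪ (fun s => f • s) '' (t : Set S))
  refine ⟨d, y, S', hai, ?_, ?_, ?_, f, hf, ?_⟩
  · intro i; exact Algebra.subset_adjoin (Or.inl (Set.mem_range_self i))
  · exact Subalgebra.fg_def.2 ⟨_, (Set.finite_range y).union (t.finite_toSet.image _), rfl⟩
  · have : S' ≤ (integralClosure A₀ S).restrictScalars R := by
      apply Algebra.adjoin_le
      rintro x (⟨i, rfl⟩ | ⟨s, hs, rfl⟩)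
      · exact isIntegral_algebraMap
          (x := (⟨y i, Algebra.subset_adjoin (Set.mem_range_self i)⟩ : A₀))
      · exact hfint s hs
    intro s hs; exact this hs
  · intro s
    have hs : s ∈ Algebra.adjoin R (t : Set S) := by rw [ht]; trivial
    induction hs using Algebra.adjoin_induction with
    | mem x hx => exact ⟨1, by rw [pow_one]; exact Algebra.subset_adjoin (Or.inr ⟨x, hx, rfl⟩)⟩
    | algebraMap r => exact ⟨0, by rw [pow_zero, one_smul]; exact Subalgebra.algebraMap_mem _ r⟩
    | add x y _ _ hx hy =>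
      obtain ⟨n, hn⟩ := hx; obtain ⟨m, hm⟩ := hy
      refine ⟨n + m, ?_⟩
      rw [smul_add]
      apply add_mem
      · rw [pow_add, mul_comm, mul_smul]; exact Subalgebra.smul_mem _ hn _
      · rw [pow_add, mul_smul]; exact Subalgebra.smul_mem _ hm _
    | mul x y _ _ hx hy =>
      obtain ⟨n, hn⟩ := hx; obtain ⟨m, hm⟩ := hy
      refine ⟨n + m, ?_⟩
      have : f ^ (n + m) • (x * y) = (f ^ n • x) * (f ^ m • y) := by
        rw [smul_mul_smul_comm, pow_add]
      rw [this]; exact mul_mem hn hm

end Groth.Agent.S2073
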