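import Groth.Statements.S2081
import Groth.Agent.Lib.GenFinIrr45

set_option autoImplicit false
universe u
open CategoryTheory AlgebraicGeometry
open Mor

namespace Groth.Agent.S2081

/-- Let `f : X → Y` be locally of finite type and quasi-compact. Suppose `X` and `Y` have finitely many
irreducible components and that a point of `X` is a generic point of an irreducible component
exactly when its image is one in `Y`. Then `f⁻¹(V) → V` is finite for some dense open `V ⊆ Y`. -/
theorem result {X Y : Scheme.{u}} (f : X ⟶ Y) [LocallyOfFiniteType f]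
    [QuasiCompact f] (hX : (irreducibleComponents (X : Type u)).Finite) (hY : (irreducibleComponents (Y : Type u)).Finite)
    (hgen : ∀ x : X, closure {x} ∈ irreducibleComponents (X : Type u) ↔
      closure {f.base x} ∈ irreducibleComponents (Y : Type u)) :
    ∃ V : Y.Opens, Dense (V : Set Y) ∧ IsFinite (f ∣_ V) := by
  classical
  have hGX : {x : X | closure {x} ∈ irreducibleComponents (X : Type u)}.Finite := by
    have h0 : {x : X | closure {x} ∈ irreducibleComponents (X : Type u)} =
        (fun x : X => closure ({x} : Set X)) ⁻¹' irreducibleComponents (X : Type u) := rfl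
    rw [h0]
    refine hX.preimage (fun x _ y _ hxy => ?_)
    exact ((inseparable_iff_closure_eq).mpr hxy).eq
  have key : ∀ η : Y, closure {η} ∈ irreducibleComponents (Y : Type u) →
      ∃ V : Y.Opens, η ∈ V ∧ IsFinite (f ∣_ V) := by
    intro η hη
    have hgenη : ∀ y : Y, y ⤳ η → y = η := fun y h =>
      Groth.Agent.Lib.GenFin45.eq_of_specializes_of_mem_irreducibleComponents hη h
    have hfib : f ⁻¹' {η} ⊆ {x : X | closure {x} ∈ irreducibleComponents (X : Type u)} := by
      intro x hx
      have hx' : f.base x = η := hx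
      refine (hgen x).mpr ?_
      rw [hx']
      exact hη
    have hfin : (f ⁻¹' {η}).Finite := hGX.subset hfib
    obtain ⟨_, ⟨V₀, hV₀, rfl⟩, hηV₀, -⟩ := Y.isBasis_affineOpens.exists_subset_of_mem_open
      (Set.mem_univ η) isOpen_univ
    replace hV₀ : IsAffineOpen V₀ := hV₀
    obtain ⟨V₀, rfl⟩ : ∃ V' : Y.Opens, V' = V₀ := ⟨V₀, rfl⟩
    have hFW : f ⁻¹' {η} ⊆ (f ⁻¹ᵁ V₀ : Set X) := by
      intro x hx
      have hx' : f x = η := hx
      change f x ∈ V₀
      rw [hx']
      exact hηV₀
    obtain ⟨U, hU, hUW, hFU⟩ := Groth.Agent.Lib.GenFinIrr45.exists_isAffineOpen_of_finite' hX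
      (f ⁻¹ᵁ V₀) (f ⁻¹' {η}) hfin hFW (fun ξ hξ => hfib hξ)
    obtain ⟨V, hV, hηV, -, hfinV⟩ :=
      Groth.Agent.Lib.GenFinMain45.exists_isFinite_morphismRestrict_of_affine f η hgenη hV₀ hηV₀
        hU hUW hFU hfin
    exact ⟨V, hηV, hfinV⟩
  choose Vf hVf hVf' using
    fun η : {η : Y // closure {η} ∈ irreducibleComponents (Y : Type u)} => key η.1 η.2
  refine ⟨⨆ η, Vf η, ?_, Groth.Agent.Lib.GenFinIrr45.isFinite_morphismRestrict_iSup f Vf hVf'⟩
  intro y
  have hZ : irreducibleComponent y ∈ irreducibleComponents (Y : Type u) :=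
    irreducibleComponent_mem_irreducibleComponents y
  have hyZ : y ∈ irreducibleComponent y := mem_irreducibleComponent
  obtain ⟨η, hη⟩ := QuasiSober.sober hZ.1 (isClosed_of_mem_irreducibleComponents _ hZ)
  have hcl : closure {η} = irreducibleComponent y := hη
  have hηV : η ∈ (⨆ η, Vf η : Y.Opens) :=
    TopologicalSpace.Opens.mem_iSup.mpr ⟨⟨η, hcl ▸ hZ⟩, hVf ⟨η, hcl ▸ hZ⟩⟩
  have hy : y ∈ closure {η} := hcl ▸ hyZ
  exact closure_mono (Set.singleton_subset_iff.mpr hηV) hy

end Groth.Agent.S2081
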