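import Groth.Statements.S2083
import Groth.Agent.Lib.DepthBasic
import Groth.Agent.Lib.DepthRees

set_option autoImplicit false
universe u
open CAlg

namespace Groth.Agent.S2083

open Groth.Agent.Lib Pointwise

/-- the statement with `QuotSMulTop g M` in place of `M ⧸ span {g} • ⊤`. -/
theorem aux {R M : Type u} [CommRing R] [IsLocalRing R] [IsNoetherianRing R]
    [AddCommGroup M] [Module R M] [Module.Finite R M] (hM : LocCoh.IsCohenMacaulayModule R M) (g : R)
    (hg : g ∈ IsLocalRing.maximalIdeal R)
    (hdim : Module.supportDim R (QuotSMulTop g M) + 1 = Module.supportDim R M) :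
    IsSMulRegular M g ∧ LocCoh.IsCohenMacaulayModule R (QuotSMulTop g M) ∧
      LocCoh.depth R (QuotSMulTop g M) + 1 = LocCoh.depth R M := by
  unfold LocCoh.IsCohenMacaulayModule at hM ⊢
  have hnt : Nontrivial M := by
    by_contra h
    rw [not_nontrivial_iff_subsingleton] at h
    rw [Module.supportDim_eq_bot_of_subsingleton] at hM
    exact WithBot.bot_ne_coe hM
  have hfin := DepthRees.depth_ne_top (R := R) M
  obtain ⟨d, hd⟩ := ENat.ne_top_iff_exists.mp hfin
  have hreg : IsSMulRegular M g := by
    by_contra hnreg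
    have : g ∈ {r : R | ∃ x : M, x ≠ 0 ∧ r • x = 0} := by
      rw [isSMulRegular_iff_right_eq_zero_of_smul] at hnreg
      push Not at hnreg
      obtain ⟨x, hx0, hx⟩ := hnreg
      exact ⟨x, hx, hx0⟩
    rw [← biUnion_associatedPrimes_eq_zero_divisors] at this
    simp only [Set.mem_iUnion, SetLike.mem_coe, exists_prop] at this
    obtain ⟨p, hp, hgp⟩ := this
    have hprime := hp.isPrime
    have hsupp : (⟨p, hprime⟩ : PrimeSpectrum R) ∈ Module.support R (QuotSMulTop g M) := by
      rw [Module.support_quotSMulTop]
      refine ⟨DepthRees.mem_support_of_mem_associatedPrimes hp, ?_⟩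
      rw [PrimeSpectrum.mem_zeroLocus]
      simpa using hgp
    have h2 := DepthRees.ringKrullDim_quotient_le_supportDim _ hsupp
    have h3 : ((LocCoh.depth R M : ℕ∞) : WithBot ℕ∞) ≤ ringKrullDim (R ⧸ p) := by
      rw [← hd]
      obtain ⟨rs, hlen, hmem, hrs⟩ := (DepthRees.natCast_le_depth_iff M d).mp (by rw [hd])
      have := DepthBasic.length_le_ringKrullDim_quotient rs hp hrs hmem
      rwa [hlen] at this
    have h4 := h3.trans h2
    rw [← hM, ← hdim] at h4
    rw [← hd] at hM
    rw [hM] at hdim
    -- a + 1 ≤ a with a + 1 = d finite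
    cases ha : Module.supportDim R (QuotSMulTop g M) with
    | bot => rw [ha] at hdim; simp at hdim
    | coe a =>
      rw [ha] at hdim h4
      have hdim' : a + 1 = (d : ℕ∞) := by exact_mod_cast hdim
      have h4' : a + 1 ≤ a := by exact_mod_cast h4
      have hatop : a ≠ ⊤ := by
        rintro rfl
        simp at hdim'
      obtain ⟨a', rfl⟩ := ENat.ne_top_iff_exists.mp hatop
      norm_cast at h4'
      omega
  have hdepth := DepthRees.depth_quotSMulTop_add_one M hg hreg
  refine ⟨hreg, ?_, hdepth⟩
  rw [hM, ← hdepth] at hdim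
  cases ha : Module.supportDim R (QuotSMulTop g M) with
  | bot =>
    rw [ha, WithBot.bot_add] at hdim
    exact absurd hdim WithBot.bot_ne_coe
  | coe a =>
    rw [ha] at hdim
    have hdim' : a + 1 = LocCoh.depth R (QuotSMulTop g M) + 1 := by exact_mod_cast hdim
    have := (ENat.add_left_injective_of_ne_top ENat.one_ne_top) hdim'
    rw [this]

/-- Let `R` be a Noetherian local ring, `M` a finite Cohen–Macaulay `R`-module and `g` a member of the
maximal ideal for which the support of `M/gM` has dimension exactly one less than that of `M`. Then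
`g` is a nonzerodivisor on `M`, and the quotient `M/gM` is again Cohen–Macaulay, with depth one
smaller than that of `M`. -/
theorem result {R M : Type u} [CommRing R] [IsLocalRing R] [IsNoetherianRing R]
    [AddCommGroup M] [Module R M] [Module.Finite R M] (hM : LocCoh.IsCohenMacaulayModule R M) (g : R)
    (hg : g ∈ IsLocalRing.maximalIdeal R)
    (hdim : Module.supportDim R (M ⧸ Ideal.span {g} • (⊤ : Submodule R M)) + 1 = Module.supportDim R M) :
    IsSMulRegular M g ∧ LocCoh.IsCohenMacaulayModule R (M ⧸ Ideal.span {g} • (⊤ : Submodule R M)) ∧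
      LocCoh.depth R (M ⧸ Ideal.span {g} • (⊤ : Submodule R M)) + 1 = LocCoh.depth R M := by
  rw [Submodule.ideal_span_singleton_smul g (⊤ : Submodule R M)] at hdim ⊢
  exact aux hM g hg hdim

end Groth.Agent.S2083
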