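import Groth.Statements.S2084
import Groth.Agent.Lib.H8CM7

set_option autoImplicit false
universe u
open CAlg

namespace Groth.Agent.S2084

/-- Let `R` be a Noetherian local ring admitting a finite Cohen–Macaulay module whose support is all of
`Spec R`. Then every maximal chain of prime ideals (starting at a minimal prime, ending at the
maximal ideal, with no prime strictly between consecutive members) has length equal to the dimension
of `R`. -/
theorem result {R M : Type u} [CommRing R] [IsLocalRing R] [IsNoetherianRing R]
    [AddCommGroup M] [Module R M] [Module.Finite R M] (hM : LocCoh.IsCohenMacaulayModule R M)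
    (hsupp : Module.support R M = Set.univ) (s : LTSeries (PrimeSpectrum R))
    (hhead : s.head.asIdeal ∈ minimalPrimes R) (hlast : s.last.asIdeal = IsLocalRing.maximalIdeal R)
    (hsat : ∀ i : Fin s.length, s (Fin.castSucc i) ⋖ s (Fin.succ i)) :
    (s.length : WithBot ℕ∞) = ringKrullDim R := by
  have hass : s.head.asIdeal ∈ associatedPrimes R M := by
    apply Module.associatedPrimes.minimalPrimes_annihilator_subset_associatedPrimes R M
    have hmem : ∀ p : PrimeSpectrum R, Module.annihilator R M ≤ p.asIdeal := by
      intro p
      have : p ∈ Module.support R M := by rw [hsupp]; trivial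
      rwa [Module.mem_support_iff_of_finite] at this
    refine ⟨⟨s.head.2, hmem s.head⟩, ?_⟩
    intro r ⟨hr1, _⟩ hr
    exact hhead.2 ⟨hr1, bot_le⟩ hr
  have key := Groth.Agent.Lib.H8CM.length_eq_supportDim_of_saturated_chain s.length M hM s.toFun
    hass hlast hsat
  rw [key, Module.supportDim, hsupp]
  exact Order.krullDim_eq_of_orderIso (OrderIso.Set.univ)

end Groth.Agent.S2084
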