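import Groth.Statements.S2090
import Mathlib.RingTheory.Nakayama
import Mathlib.RingTheory.Ideal.AssociatedPrime.Localization
import Mathlib.RingTheory.Localization.Module
import Mathlib.Algebra.Module.LocalizedModule.Exact
import Mathlib.RingTheory.Localization.AtPrime.Basic

set_option autoImplicit false
universe u
open CAlg

namespace Groth.Agent.S2090

open RingTheory.Sequence IsLocalRing
open scoped Pointwise

section loc

variable {A : Type u} [CommRing A] [IsLocalRing A] {M N : Type u} [AddCommGroup M] [Module A M]
  [Module.Finite A M] [AddCommGroup N] [Module A N]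

theorem top_eq_bot_of_smul_top_eq_top (h : maximalIdeal A • (⊤ : Submodule A M) = ⊤) :
    (⊤ : Submodule A M) = ⊥ :=
  Submodule.eq_bot_of_le_smul_of_le_jacobson_bot (maximalIdeal A) ⊤ Module.Finite.fg_top
    (le_of_eq h.symm) (maximalIdeal_le_jacobson _)

/-- If the depth is at least one, then the socle vanishes. -/
theorem eq_zero_of_depth_pos (hd : 1 ≤ LocCoh.depth A M) (x : M)
    (hx : ∀ r ∈ maximalIdeal A, r • x = 0) : x = 0 := by
  classical
  unfold LocCoh.depth LocCoh.idealDepth at hd
  split_ifs at hd with htop
  · have : x ∈ (⊤ : Submodule A M) := trivial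
    rw [top_eq_bot_of_smul_top_eq_top htop] at this
    simpa using this
  · by_contra hx0
    have hle : (⨆ (rs : List A) (_ : IsWeaklyRegular M rs ∧ ∀ r ∈ rs, r ∈ maximalIdeal A),
        (rs.length : ℕ∞)) ≤ 0 := by
      refine iSup₂_le fun rs hrs => ?_
      cases rs with
      | nil => simp
      | cons a rest =>
        exfalso
        have ha : IsSMulRegular M a := ((isWeaklyRegular_cons_iff M a rest).mp hrs.1).1
        have ham : a ∈ maximalIdeal A := hrs.2 a (by simp)
        apply hx0
        apply ha
        change a • x = a • 0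
        rw [hx a ham, smul_zero]
    have : (1 : ℕ∞) ≤ 0 := hd.trans hle
    exact absurd this (by norm_num)

/-- The key local statement for the cokernel. -/
theorem exists_socle_of_depth_two (φ : M →ₗ[A] N) (hφ : Function.Injective φ)
    (hd : 2 ≤ LocCoh.depth A M) (ν : N) (hν : ν ∉ LinearMap.range φ)
    (hmν : ∀ r ∈ maximalIdeal A, r • ν ∈ LinearMap.range φ) :
    ∃ ν' : N, ν' ≠ 0 ∧ ∀ r ∈ maximalIdeal A, r • ν' = 0 := by
  classical
  unfold LocCoh.depth LocCoh.idealDepth at hd
  split_ifs at hd with htop
  · have hM : ∀ y : M, y = 0 := by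
      intro y
      have : y ∈ (⊤ : Submodule A M) := trivial
      rw [top_eq_bot_of_smul_top_eq_top htop] at this
      simpa using this
    refine ⟨ν, ?_, ?_⟩
    · rintro rfl
      exact hν (zero_mem _)
    · intro r hr
      obtain ⟨y, hy⟩ := hmν r hr
      rw [← hy, hM y, map_zero]
  · have hex : ∃ rs : List A, (IsWeaklyRegular M rs ∧ ∀ r ∈ rs, r ∈ maximalIdeal A) ∧
        2 ≤ rs.length := by
      by_contra hcon
      push Not at hcon
      have hle : (⨆ (rs : List A) (_ : IsWeaklyRegular M rs ∧ ∀ r ∈ rs, r ∈ maximalIdeal A),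
          (rs.length : ℕ∞)) ≤ 1 := by
        refine iSup₂_le fun rs hrs => ?_
        have := hcon rs hrs
        have h1 : rs.length ≤ 1 := by omega
        exact_mod_cast h1
      have : (2 : ℕ∞) ≤ 1 := hd.trans hle
      exact absurd this (by norm_num)
    obtain ⟨rs, ⟨hreg, hmem⟩, hlen⟩ := hex
    match rs, hreg, hmem, hlen with
    | a :: b :: rest, hreg, hmem, _ =>
      have hab := (isWeaklyRegular_cons_iff M a (b :: rest)).mp hreg
      have ha : IsSMulRegular M a := hab.1
      have hb : IsSMulRegular (QuotSMulTop a M) b :=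
        ((isWeaklyRegular_cons_iff (QuotSMulTop a M) b rest).mp hab.2).1
      have ham : a ∈ maximalIdeal A := hmem a (by simp)
      have hbm : b ∈ maximalIdeal A := hmem b (by simp)
      obtain ⟨m1, hm1⟩ := hmν a ham
      obtain ⟨m2, hm2⟩ := hmν b hbm
      have h12 : b • m1 = a • m2 := by
        apply hφ
        rw [map_smul, map_smul, hm1, hm2, smul_smul, smul_smul, mul_comm]
      have hm1mem : m1 ∈ (a • (⊤ : Submodule A M)) := by
        have h0 : b • (Submodule.Quotient.mk m1 : QuotSMulTop a M) = b • 0 := by
          rw [smul_zero, ← Submodule.Quotient.mk_smul, h12, Submodule.Quotient.mk_eq_zero]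
          exact Submodule.smul_mem_pointwise_smul _ _ _ trivial
        have := hb h0
        rwa [Submodule.Quotient.mk_eq_zero] at this
      obtain ⟨m', -, hm'⟩ := (Submodule.mem_smul_pointwise_iff_exists _ _ _).mp hm1mem
      refine ⟨ν - φ m', ?_, ?_⟩
      · intro h0
        apply hν
        rw [sub_eq_zero] at h0
        exact ⟨m', h0.symm⟩
      · have haν' : a • (ν - φ m') = 0 := by
          rw [smul_sub, ← hm1, ← map_smul, hm', sub_self]
        intro c hc
        obtain ⟨m3, hm3⟩ := hmν c hc
        have e : c • (ν - φ m') = φ (m3 - c • m') := by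
          rw [smul_sub, map_sub, map_smul, hm3]
        rw [e]
        have : m3 - c • m' = 0 := by
          apply ha
          change a • (m3 - c • m') = a • 0
          apply hφ
          rw [smul_zero, map_zero, map_smul, ← e, smul_comm, haν', smul_zero]
        rw [this, map_zero]

end loc

section glob

variable {R : Type u} [CommRing R] [IsNoetherianRing R] {M N : Type u} [AddCommGroup M] [Module R M]
  [Module.Finite R M] [AddCommGroup N] [Module R N] (φ : M →ₗ[R] N)

omit [IsNoetherianRing R] [Module.Finite R M] in
theorem mk_ne_zero_of_colon_eq (p : Ideal R) [p.IsPrime] (x : M)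
    (hp : ∀ r : R, r ∈ p ↔ r • x = 0) :
    (LocalizedModule.mk x (1 : p.primeCompl)) ≠ 0 := by
  intro h
  rw [← LocalizedModule.zero_mk 1, LocalizedModule.mk_eq] at h
  obtain ⟨u, hu⟩ := h
  have : (u : R) ∈ p := by
    rw [hp]
    simpa [Submonoid.smul_def] using hu
  exact u.2 this

omit [IsNoetherianRing R] in
theorem mk'_smul_mk_one (p : Ideal R) [p.IsPrime] {L : Type u} [AddCommGroup L] [Module R L]
    (a : R) (s : p.primeCompl) (x : L) :
    IsLocalization.mk' (Localization.AtPrime p) a s • LocalizedModule.mk x (1 : p.primeCompl) =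
      LocalizedModule.mk (a • x) s := by
  rw [← Localization.mk_eq_mk', LocalizedModule.mk_smul_mk, mul_one]

omit [IsNoetherianRing R] in
theorem ker_case (p : Ideal R) [p.IsPrime] (x : M) (hp : ∀ r : R, r ∈ p ↔ r • x = 0)
    (hd : 1 ≤ LocCoh.depth (Localization.AtPrime p) (LocalizedModule p.primeCompl M)) : False := by
  apply mk_ne_zero_of_colon_eq p x hp
  apply eq_zero_of_depth_pos hd
  intro r hr
  obtain ⟨a, s, rfl⟩ := IsLocalization.exists_mk'_eq p.primeCompl r
  have ha : a ∈ p := (IsLocalization.AtPrime.mk'_mem_maximal_iff (Localization.AtPrime p) p a s).mp hr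
  rw [mk'_smul_mk_one, (hp a).mp ha, LocalizedModule.zero_mk]

theorem coker_case
    (h : ∀ (p : Ideal R) [p.IsPrime],
      Function.Bijective (LocalizedModule.map p.primeCompl φ) ∨
        (2 ≤ LocCoh.depth (Localization.AtPrime p) (LocalizedModule p.primeCompl M) ∧
          p ∉ associatedPrimes R N))
    (p : Ideal R) [p.IsPrime] (hφ : Function.Injective φ) (n : N)
    (hp : p = (⊥ : Submodule R (N ⧸ LinearMap.range φ)).colon {(LinearMap.range φ).mkQ n}) :
    False := by
  have hmem : ∀ r : R, r ∈ p ↔ r • n ∈ LinearMap.range φ := by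
    intro r
    rw [hp, Submodule.mem_colon_singleton, Submodule.mem_bot, ← map_smul, Submodule.mkQ_apply,
      Submodule.Quotient.mk_eq_zero]
  -- the localized map is not surjective
  have hnotrange : ∀ z : LocalizedModule p.primeCompl M,
      LocalizedModule.map p.primeCompl φ z ≠ LocalizedModule.mk n (1 : p.primeCompl) := by
    intro z
    induction z using LocalizedModule.induction_on with
    | h m s =>
      rw [LocalizedModule.map_mk, Ne, LocalizedModule.mk_eq]
      rintro ⟨u, hu⟩
      have h1 : ((u * s : p.primeCompl) : R) • n ∈ LinearMap.range φ := by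
        refine ⟨(u : R) • m, ?_⟩
        rw [map_smul]
        simp only [one_smul, Submonoid.smul_def] at hu
        rw [hu, Submonoid.coe_mul, mul_smul]
      exact (u * s).2 ((hmem _).mpr h1)
  rcases h p with hbij | ⟨hd, hass⟩
  · obtain ⟨z, hz⟩ := hbij.2 (LocalizedModule.mk n (1 : p.primeCompl))
    exact hnotrange z hz
  apply hass
  let φA : LocalizedModule p.primeCompl M →ₗ[Localization.AtPrime p] LocalizedModule p.primeCompl N :=
    (LocalizedModule.map p.primeCompl φ).extendScalarsOfIsLocalization p.primeCompl
      (Localization.AtPrime p)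
  have hφA : Function.Injective φA := LocalizedModule.map_injective p.primeCompl φ hφ
  have hν : LocalizedModule.mk n (1 : p.primeCompl) ∉ LinearMap.range φA := by
    rintro ⟨z, hz⟩
    exact hnotrange z hz
  have hmν : ∀ r ∈ maximalIdeal (Localization.AtPrime p),
      r • LocalizedModule.mk n (1 : p.primeCompl) ∈ LinearMap.range φA := by
    intro r hr
    obtain ⟨a, s, rfl⟩ := IsLocalization.exists_mk'_eq p.primeCompl r
    have ha : a ∈ p :=
      (IsLocalization.AtPrime.mk'_mem_maximal_iff (Localization.AtPrime p) p a s).mp hr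
    obtain ⟨m0, hm0⟩ := (hmem a).mp ha
    rw [mk'_smul_mk_one]
    refine ⟨LocalizedModule.mk m0 s, ?_⟩
    change LocalizedModule.map p.primeCompl φ (LocalizedModule.mk m0 s) = _
    rw [LocalizedModule.map_mk, hm0]
  obtain ⟨ν', hν'0, hν'm⟩ := exists_socle_of_depth_two φA hφA hd _ hν hmν
  have hcolon : (⊥ : Submodule (Localization.AtPrime p) (LocalizedModule p.primeCompl N)).colon {ν'} =
      maximalIdeal (Localization.AtPrime p) := by
    symm
    apply (maximalIdeal.isMaximal (Localization.AtPrime p)).eq_of_le
    · intro htop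
      have : (1 : Localization.AtPrime p) ∈
          (⊥ : Submodule (Localization.AtPrime p) (LocalizedModule p.primeCompl N)).colon {ν'} := by
        rw [htop]; trivial
      rw [Submodule.mem_colon_singleton, Submodule.mem_bot, one_smul] at this
      exact hν'0 this
    · intro r hr
      rw [Submodule.mem_colon_singleton, Submodule.mem_bot]
      exact hν'm r hr
  have hassloc : maximalIdeal (Localization.AtPrime p) ∈
      associatedPrimes (Localization.AtPrime p) (LocalizedModule p.primeCompl N) := by
    refine ⟨inferInstance, ν', ?_⟩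
    rw [hcolon, Ideal.IsPrime.radical inferInstance]
  have := Module.associatedPrimes.comap_mem_associatedPrimes_of_mem_associatedPrimes_of_isLocalizedModule_of_fg
    p.primeCompl (LocalizedModule.mkLinearMap p.primeCompl N) _ hassloc
    ((isNoetherianRing_iff_ideal_fg R).mp inferInstance _)
  have e : Ideal.comap (algebraMap R (Localization.AtPrime p))
      (maximalIdeal (Localization.AtPrime p)) = p :=
    IsLocalization.AtPrime.under_maximalIdeal (Localization.AtPrime p) p
  rwa [e] at this

end glob

/-- Let `R` be Noetherian and `φ : M → N` a map of `R`-modules with `M` finite. Suppose that for every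
prime `𝔭` either `φ_𝔭` is bijective, or `M_𝔭` has depth at least two and `𝔭` is not an associated
prime of `N`. Then `φ` is bijective. -/
theorem result {R M N : Type u} [CommRing R] [IsNoetherianRing R] [AddCommGroup M]
    [Module R M] [Module.Finite R M] [AddCommGroup N] [Module R N] (φ : M →ₗ[R] N)
    (h : ∀ (p : Ideal R) [p.IsPrime],
      Function.Bijective (LocalizedModule.map p.primeCompl φ) ∨
        (2 ≤ LocCoh.depth (Localization.AtPrime p) (LocalizedModule p.primeCompl M) ∧
          p ∉ associatedPrimes R N)) :
    Function.Bijective φ := by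
  have hinj : Function.Injective φ := by
    rw [← LinearMap.ker_eq_bot]
    by_contra hker
    have : Nontrivial (LinearMap.ker φ) := Submodule.nontrivial_iff_ne_bot.mpr hker
    obtain ⟨p, hp⟩ := associatedPrimes.nonempty R (LinearMap.ker φ)
    rw [AssociatedPrimes.mem_iff, isAssociatedPrime_iff] at hp
    obtain ⟨hpprime, ⟨x, hxker⟩, hpx⟩ := hp
    have hp' : ∀ r : R, r ∈ p ↔ r • x = 0 := by
      intro r
      rw [hpx]
      simp only [Submodule.mem_colon_singleton, Submodule.mem_bot]
      rw [← Subtype.coe_inj]
      simp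
    rcases h p with hbij | ⟨hd, -⟩
    · have : LocalizedModule.mk x (1 : p.primeCompl) = 0 := by
        apply hbij.1
        rw [LocalizedModule.map_mk, map_zero, LinearMap.mem_ker.mp hxker, LocalizedModule.zero_mk]
      exact mk_ne_zero_of_colon_eq p x hp' this
    · exact ker_case p x hp' (le_trans (by norm_num) hd)
  refine ⟨hinj, ?_⟩
  rw [← LinearMap.range_eq_top]
  by_contra hrange
  have : Nontrivial (N ⧸ LinearMap.range φ) := Submodule.Quotient.nontrivial_iff.mpr hrange
  obtain ⟨p, hp⟩ := associatedPrimes.nonempty R (N ⧸ LinearMap.range φ)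
  rw [AssociatedPrimes.mem_iff, isAssociatedPrime_iff] at hp
  obtain ⟨hpprime, nbar, hpn⟩ := hp
  obtain ⟨n, rfl⟩ := Submodule.mkQ_surjective _ nbar
  exact coker_case φ h p hinj n hpn

end Groth.Agent.S2090
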