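import Groth.Statements.S2093
import Groth.Agent.Lib.H56FormalCat

set_option autoImplicit false
universe u
open CAlg

namespace Groth.Agent.S2093

open IsLocalRing TensorProduct

set_option maxHeartbeats 400000

/-- uniform denominators for a finitely generated prime. -/
lemma exists_uniform {R : Type u} [CommRing R] (p : Ideal R) [p.IsPrime] (hfg : p.FG) (J : Ideal R)
    (h : ∀ g ∈ p, ∃ s, s ∉ p ∧ s * g ∈ J) : ∃ s, s ∉ p ∧ ∀ g ∈ p, s * g ∈ J := by
  classical
  obtain ⟨F, hF⟩ := hfg
  have hFp : ∀ g ∈ F, g ∈ p := fun g hg => hF ▸ Ideal.subset_span hg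
  choose! σ hσ using h
  refine ⟨∏ g ∈ F, σ g, ?_, ?_⟩
  · intro hmem
    obtain ⟨g, hg, hmem'⟩ := Ideal.IsPrime.prod_mem_iff.mp hmem
    exact (hσ g (hFp g hg)).1 hmem'
  · intro g hg
    rw [← hF] at hg
    refine Submodule.span_induction ?_ ?_ ?_ ?_ hg
    · intro g hgF
      obtain ⟨c, hc⟩ := Finset.dvd_prod_of_mem σ hgF
      rw [hc]
      have := J.mul_mem_left c (hσ g (hFp g hgF)).2
      have e : σ g * c * g = c * (σ g * g) := by ring
      rw [e]; exact this
    · simp
    · intro a b _ _ ha hb; rw [mul_add]; exact J.add_mem ha hb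
    · intro a b _ hb; rw [smul_eq_mul, mul_left_comm]; exact J.mul_mem_left a hb

/-- Local analysis at a minimal prime `p` of `(x)` with `R_p` regular: `pR_p` is principal. -/
lemma local_analysis {R : Type u} [CommRing R] [IsDomain R] [IsNoetherianRing R]
    (x : R) (hx : x ≠ 0) (p : Ideal R) [hp : p.IsPrime]
    (hmin : p ∈ (Ideal.span {x}).minimalPrimes)
    (hreg : IsRegularLocalRing (Localization.AtPrime p)) :
    ∃ π : R, π ≠ 0 ∧ ∃ s, s ∉ p ∧ (∀ g ∈ p, s * g ∈ Ideal.span {π}) ∧
      ∃ s', s' ∉ p ∧ ∃ n : ℕ, s' * π ^ n ∈ Ideal.span {x} := by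
  classical
  have hxp : x ∈ p := hmin.1.2 (Ideal.mem_span_singleton_self x)
  have hinj : Function.Injective (algebraMap R (Localization.AtPrime p)) :=
    IsLocalization.injective (Localization.AtPrime p) (Ideal.primeCompl_le_nonZeroDivisors p)
  have hht : p.height ≤ 1 := Ideal.height_le_one_of_isPrincipal_of_mem_minimalPrimes _ p hmin
  have h1 : ((maximalIdeal (Localization.AtPrime p)).spanFinrank : WithBot ℕ∞) ≤ 1 := by
    rw [hreg.spanFinrank_maximalIdeal,
      IsLocalization.AtPrime.ringKrullDim_eq_height p (Localization.AtPrime p)]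
    exact_mod_cast hht
  have h2 : (maximalIdeal (Localization.AtPrime p)).spanFinrank ≤ 1 := by exact_mod_cast h1
  have hfgm : (maximalIdeal (Localization.AtPrime p)).FG := IsNoetherian.noetherian _
  obtain ⟨ϖ, hϖ⟩ : ∃ ϖ : Localization.AtPrime p,
      maximalIdeal (Localization.AtPrime p) = Ideal.span {ϖ} := by
    rcases Nat.le_one_iff_eq_zero_or_eq_one.mp h2 with h0 | h1'
    · refine ⟨0, ?_⟩
      rw [(Submodule.spanFinrank_eq_zero_iff_eq_bot hfgm).mp h0]; simp
    · obtain ⟨⟨a, ha⟩, -⟩ := (Submodule.spanFinrank_eq_one_iff _).mp h1'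
      exact ⟨a, ha⟩
  obtain ⟨⟨π, s₀⟩, hπs⟩ := IsLocalization.mk'_surjective p.primeCompl ϖ
  change IsLocalization.mk' (Localization.AtPrime p) π s₀ = ϖ at hπs
  have hM : maximalIdeal (Localization.AtPrime p)
      = (Ideal.span {π}).map (algebraMap R (Localization.AtPrime p)) := by
    rw [Ideal.map_span, Set.image_singleton, hϖ, Ideal.span_singleton_eq_span_singleton]
    refine ⟨(IsLocalization.map_units (Localization.AtPrime p) s₀).unit, ?_⟩
    rw [IsUnit.unit_spec, ← hπs, IsLocalization.mk'_spec]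
  have hπ0 : π ≠ 0 := by
    rintro rfl
    have hmem : algebraMap R (Localization.AtPrime p) x ∈ maximalIdeal (Localization.AtPrime p) :=
      (IsLocalization.AtPrime.to_map_mem_maximal_iff (Localization.AtPrime p) p x).mpr hxp
    have hbot : (Ideal.span {(0 : R)}).map (algebraMap R (Localization.AtPrime p)) = ⊥ := by simp
    rw [hM, hbot, Ideal.mem_bot] at hmem
    exact hx (hinj (hmem.trans (map_zero _).symm))
  have hpel : ∀ g ∈ p, ∃ s, s ∉ p ∧ s * g ∈ Ideal.span {π} := by
    intro g hg
    have hgm : algebraMap R (Localization.AtPrime p) g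
        ∈ (Ideal.span {π}).map (algebraMap R (Localization.AtPrime p)) := by
      rw [← hM]
      exact (IsLocalization.AtPrime.to_map_mem_maximal_iff (Localization.AtPrime p) p g).mpr hg
    obtain ⟨⟨a, s⟩, has⟩ :=
      (IsLocalization.mem_map_algebraMap_iff p.primeCompl (Localization.AtPrime p)).mp hgm
    refine ⟨s, fun h => s.2 h, ?_⟩
    have : g * (s : R) = a := hinj (by rw [map_mul]; exact has)
    rw [mul_comm, this]; exact a.2
  obtain ⟨s, hsp, hs⟩ := exists_uniform p (IsNoetherian.noetherian p) _ hpel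
  have hmin' : maximalIdeal (Localization.AtPrime p)
      ∈ ((Ideal.span {x}).map (algebraMap R (Localization.AtPrime p))).minimalPrimes := by
    rw [IsLocalization.minimalPrimes_map p.primeCompl (Localization.AtPrime p) (Ideal.span {x}),
      Set.mem_preimage, Localization.AtPrime.under_maximalIdeal]
    exact hmin
  have hart : IsArtinianRing (Localization.AtPrime p ⧸
      (Ideal.span {x}).map (algebraMap R (Localization.AtPrime p))) :=
    IsLocalRing.quotient_artinian_of_mem_minimalPrimes_of_isLocalRing _ hmin'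
  obtain ⟨n, hn⟩ := IsLocalRing.exists_maximalIdeal_pow_le_of_isArtinianRing_quotient
    ((Ideal.span {x}).map (algebraMap R (Localization.AtPrime p)))
  have hπn : algebraMap R (Localization.AtPrime p) (π ^ n)
      ∈ (Ideal.span {x}).map (algebraMap R (Localization.AtPrime p)) := by
    apply hn
    rw [map_pow]
    apply Ideal.pow_mem_pow
    rw [hM]; exact Ideal.mem_map_of_mem _ (Ideal.mem_span_singleton_self π)
  obtain ⟨⟨a, s'⟩, has'⟩ :=
    (IsLocalization.mem_map_algebraMap_iff p.primeCompl (Localization.AtPrime p)).mp hπn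
  refine ⟨π, hπ0, s, hsp, hs, s', fun h => s'.2 h, n, ?_⟩
  have : π ^ n * (s' : R) = a := hinj (by rw [map_mul]; exact has')
  rw [mul_comm, this]; exact a.2

/-- Flatness: a scalar regular on `R/xR` is regular on `M/xM`. -/
lemma mem_range_of_regular {R : Type u} [CommRing R] (M : Type u) [AddCommGroup M] [Module R M]
    [Module.Flat R M] (x t : R) (ht : IsSMulRegular (R ⧸ Ideal.span {x}) t) (y : M)
    (h : ∃ z : M, t • y = x • z) : ∃ z : M, y = x • z := by
  let e := TensorProduct.quotTensorEquivQuotSMul M (Ideal.span {x})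
  have hinj : Function.Injective ((LinearMap.lsmul R (R ⧸ Ideal.span {x}) t).rTensor M) :=
    Module.Flat.rTensor_preserves_injective_linearMap _
      (by intro a b hab; exact ht (by simpa using hab))
  have hsm : ∀ w : (R ⧸ Ideal.span {x}) ⊗[R] M,
      (LinearMap.lsmul R (R ⧸ Ideal.span {x}) t).rTensor M w = t • w := by
    intro w
    induction w using TensorProduct.induction_on with
    | zero => simp
    | tmul a b => simp [TensorProduct.smul_tmul']
    | add a b ha hb => rw [map_add, ha, hb, smul_add]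
  have hmk : (Submodule.Quotient.mk (t • y) :
      M ⧸ ((Ideal.span {x}) • (⊤ : Submodule R M))) = 0 := by
    obtain ⟨z, hz⟩ := h
    rw [Submodule.Quotient.mk_eq_zero, hz]
    exact Submodule.smul_mem_smul (Ideal.mem_span_singleton_self x) Submodule.mem_top
  have h0 : e.symm (Submodule.Quotient.mk y) = 0 := by
    apply hinj
    rw [hsm, map_zero, ← map_smul, ← Submodule.Quotient.mk_smul, hmk, map_zero]
  have h1 : (Submodule.Quotient.mk y : M ⧸ ((Ideal.span {x}) • (⊤ : Submodule R M))) = 0 := by
    have := congrArg e h0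
    rwa [LinearEquiv.apply_symm_apply, map_zero] at this
  rw [Submodule.Quotient.mk_eq_zero, Submodule.ideal_span_singleton_smul] at h1
  obtain ⟨z, -, hz⟩ := (Submodule.mem_smul_pointwise_iff_exists _ _ _).mp h1
  exact ⟨z, hz.symm⟩

/-- Let `(R, 𝔪)` be a Noetherian local domain and `x ∈ 𝔪` nonzero such that `R/xR` has no embedded
associated primes, and for every associated prime `𝔭` of `R/xR` the local ring `R_𝔭` is regular and
the completion of `R/𝔭` is reduced. Then the completion of `R` is reduced. -/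
theorem result {R : Type u} [CommRing R] [IsDomain R] [IsLocalRing R]
    [IsNoetherianRing R] (x : R) (hx : x ≠ 0) (hxm : x ∈ IsLocalRing.maximalIdeal R)
    (hemb : ∀ p ∈ associatedPrimes R (R ⧸ Ideal.span {x}), p ∈ (Ideal.span {x}).minimalPrimes)
    (hreg : ∀ p ∈ associatedPrimes R (R ⧸ Ideal.span {x}), ∀ (_ : p.IsPrime),
      IsRegularLocalRing (Localization.AtPrime p) ∧
        IsReduced (AdicCompletion ((IsLocalRing.maximalIdeal R).map (Ideal.Quotient.mk p)) (R ⧸ p))) :
    IsReduced (AdicCompletion (IsLocalRing.maximalIdeal R) R) := by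
  classical
  have hflat : Module.Flat R (AdicCompletion (maximalIdeal R) R) :=
    AdicCompletion.flat_of_isNoetherian (maximalIdeal R)
  have hregular : ∀ a : R, a ≠ 0 → ∀ z : AdicCompletion (maximalIdeal R) R, a • z = 0 → z = 0 := by
    intro a ha z hz
    have := Module.Flat.isSMulRegular_of_nonZeroDivisors (M := AdicCompletion (maximalIdeal R) R)
      (mem_nonZeroDivisors_of_ne_zero ha)
    exact this (show a • z = a • 0 by rw [hz, smul_zero])
  have hL1 : ∀ p ∈ associatedPrimes R (R ⧸ Ideal.span {x}),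
      ∀ y : AdicCompletion (maximalIdeal R) R, IsNilpotent y →
        y ∈ p.map (algebraMap R (AdicCompletion (maximalIdeal R) R)) := by
    intro p hp y hy
    have hpp : p.IsPrime := hp.isPrime
    obtain ⟨-, hred⟩ := hreg p hp hpp
    have e : (maximalIdeal R).map (Ideal.Quotient.mk p) = maximalIdeal (R ⧸ p) :=
      IsLocalRing.map_maximalIdeal_of_surjective _ Ideal.Quotient.mk_surjective
    rw [e] at hred
    obtain ⟨E⟩ := Groth.Agent.Lib.H56FormalCat.nonempty_quotient_cpl_equiv R p
    have : IsReduced (EGA4.Cpl (R ⧸ p)) := hred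
    have : IsReduced (EGA4.Cpl R ⧸ p.map (algebraMap R (EGA4.Cpl R))) :=
      isReduced_of_injective E.toRingHom E.injective
    have := (hy.map (Ideal.Quotient.mk (p.map (algebraMap R (EGA4.Cpl R))))).eq_zero
    exact Ideal.Quotient.eq_zero_iff_mem.mp this
  have hclaim : ∀ p ∈ associatedPrimes R (R ⧸ Ideal.span {x}),
      ∀ y : AdicCompletion (maximalIdeal R) R, IsNilpotent y →
        ∃ s, s ∉ p ∧ ∃ z : AdicCompletion (maximalIdeal R) R, s • y = x • z := by
    intro p hp y hy
    have hpp : p.IsPrime := hp.isPrime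
    obtain ⟨π, hπ0, s, hsp, hs, s', hs'p, n, hn⟩ :=
      local_analysis x hx p (hemb p hp) (hreg p hp hpp).1
    have hstep : ∀ w : AdicCompletion (maximalIdeal R) R, IsNilpotent w →
        ∃ w' : AdicCompletion (maximalIdeal R) R, IsNilpotent w' ∧ s • w = π • w' := by
      intro w hw
      have hwp := hL1 p hp w hw
      have hall : ∀ v ∈ p.map (algebraMap R (AdicCompletion (maximalIdeal R) R)),
          ∃ v' : AdicCompletion (maximalIdeal R) R, s • v = π • v' := by
        intro v hv
        have hv' : v ∈ Ideal.span ((algebraMap R (AdicCompletion (maximalIdeal R) R)) ''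
            (p : Set R)) := hv
        refine Submodule.span_induction ?_ ?_ ?_ ?_ hv'
        · rintro _ ⟨g, hg, rfl⟩
          obtain ⟨r, hr⟩ := Ideal.mem_span_singleton'.mp (hs g hg)
          refine ⟨algebraMap R _ r, ?_⟩
          rw [Algebra.smul_def, Algebra.smul_def, ← map_mul, ← map_mul, ← hr, mul_comm]
        · exact ⟨0, by simp⟩
        · rintro a b _ _ ⟨a', ha⟩ ⟨b', hb⟩
          exact ⟨a' + b', by rw [smul_add, ha, hb, smul_add]⟩
        · rintro c v _ ⟨v', hv'⟩
          refine ⟨c * v', ?_⟩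
          show s • (c * v) = π • (c * v')
          rw [← mul_smul_comm, hv', mul_smul_comm]
      obtain ⟨w', hw'⟩ := hall w hwp
      refine ⟨w', ?_, hw'⟩
      obtain ⟨k, hk⟩ := hw
      refine ⟨k, ?_⟩
      apply hregular (π ^ k) (pow_ne_zero k hπ0)
      rw [← smul_pow, ← hw', smul_pow, hk, smul_zero]
    have hiter : ∀ k : ℕ, ∃ z : AdicCompletion (maximalIdeal R) R,
        IsNilpotent z ∧ s ^ k • y = π ^ k • z := by
      intro k
      induction k with
      | zero => exact ⟨y, hy, by simp⟩
      | succ k ih =>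
        obtain ⟨z, hz, hzk⟩ := ih
        obtain ⟨z', hz', hzz'⟩ := hstep z hz
        refine ⟨z', hz', ?_⟩
        rw [pow_succ', mul_smul, hzk, smul_comm s (π ^ k) z, hzz', ← mul_smul, ← pow_succ]
    obtain ⟨z, -, hz⟩ := hiter n
    obtain ⟨r, hr⟩ := Ideal.mem_span_singleton'.mp hn
    refine ⟨s' * s ^ n, ?_, r • z, ?_⟩
    · intro hmem
      rcases hpp.mem_or_mem hmem with h | h
      · exact hs'p h
      · exact hsp (hpp.mem_of_pow_mem n h)
    · rw [mul_smul, hz, ← mul_smul, ← hr, mul_comm r x, mul_smul]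
  have hH : ∀ y : AdicCompletion (maximalIdeal R) R, IsNilpotent y →
      ∃ z : AdicCompletion (maximalIdeal R) R, y = x • z := by
    intro y hy
    let X : Submodule R (AdicCompletion (maximalIdeal R) R) :=
      LinearMap.range (LinearMap.lsmul R (AdicCompletion (maximalIdeal R) R) x)
    let 𝔞 : Ideal R := X.comap (LinearMap.toSpanSingleton R (AdicCompletion (maximalIdeal R) R) y)
    have hmem𝔞 : ∀ a : R, a ∈ 𝔞 ↔ ∃ z : AdicCompletion (maximalIdeal R) R, a • y = x • z := by
      intro a
      simp only [𝔞, X, Submodule.mem_comap, LinearMap.toSpanSingleton_apply, LinearMap.mem_range,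
        LinearMap.lsmul_apply]
      constructor
      · rintro ⟨z, hz⟩; exact ⟨z, hz.symm⟩
      · rintro ⟨z, hz⟩; exact ⟨z, hz.symm⟩
    have hfin := associatedPrimes.finite R (R ⧸ Ideal.span {x})
    have hav := (Ideal.subset_union_prime (s := hfin.toFinset) (f := fun i : Ideal R => i)
      (I := 𝔞) ⊥ ⊥ (fun i hi _ _ => ((Set.Finite.mem_toFinset hfin).mp hi).isPrime))
    have hnot : ¬ ∃ i ∈ hfin.toFinset, 𝔞 ≤ i := by
      rintro ⟨p, hp, hle⟩
      have hp' := (Set.Finite.mem_toFinset hfin).mp hp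
      obtain ⟨s, hsp, z, hz⟩ := hclaim p hp' y hy
      exact hsp (hle ((hmem𝔞 s).mpr ⟨z, hz⟩))
    rw [← hav] at hnot
    obtain ⟨t, ht𝔞, htn⟩ := Set.not_subset.mp hnot
    have htreg : IsSMulRegular (R ⧸ Ideal.span {x}) t := by
      have hzd := biUnion_associatedPrimes_eq_zero_divisors R (R ⧸ Ideal.span {x})
      have htz : t ∉ {r : R | ∃ w : R ⧸ Ideal.span {x}, w ≠ 0 ∧ r • w = 0} := by
        rw [← hzd]
        intro hmem
        obtain ⟨p, hp, htp⟩ := Set.mem_iUnion₂.mp hmem
        exact htn (Set.mem_iUnion₂.mpr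
          ⟨p, Finset.mem_coe.mpr ((Set.Finite.mem_toFinset hfin).mpr hp), htp⟩)
      intro a b hab
      by_contra hne
      apply htz
      refine ⟨a - b, sub_ne_zero.mpr hne, ?_⟩
      rw [smul_sub]; exact sub_eq_zero.mpr hab
    exact mem_range_of_regular (AdicCompletion (maximalIdeal R) R) x t htreg y
      ((hmem𝔞 t).mp ht𝔞)
  have hpow : ∀ n : ℕ, ∀ y : AdicCompletion (maximalIdeal R) R, IsNilpotent y →
      ∃ z : AdicCompletion (maximalIdeal R) R, y = x ^ n • z := by
    intro n
    induction n with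
    | zero => intro y _; exact ⟨y, by simp⟩
    | succ n ih =>
      intro y hy
      obtain ⟨z, hz⟩ := hH y hy
      have hznil : IsNilpotent z := by
        obtain ⟨k, hk⟩ := hy
        refine ⟨k, hregular (x ^ k) (pow_ne_zero k hx) _ ?_⟩
        rw [← smul_pow, ← hz, hk]
      obtain ⟨z', hz'⟩ := ih z hznil
      exact ⟨z', by rw [hz, hz', ← mul_smul, ← pow_succ']⟩
  refine ⟨fun y hy => ?_⟩
  apply IsHausdorff.haus' (I := maximalIdeal R) y
  intro n
  obtain ⟨z, hz⟩ := hpow n y hy
  rw [SModEq.zero, hz]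
  exact Submodule.smul_mem_smul (Ideal.pow_mem_pow hxm n) Submodule.mem_top

end Groth.Agent.S2093
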