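import Groth.Statements.S2094
import Mathlib.LinearAlgebra.SymmetricAlgebra.Basis
import Mathlib.Algebra.TrivSqZeroExt.Basic
import Mathlib.RingTheory.FinitePresentation
import Mathlib.Algebra.Module.FinitePresentation

set_option autoImplicit false
universe u
open CAlg

namespace Groth.Agent.S2094

variable {A M : Type u} [CommRing A] [AddCommGroup M] [Module A M]

section retract

/-- A retract of a polynomial algebra in finitely many variables is finitely presented. -/
theorem finitePresentation_of_retract {S : Type u} [CommRing S] [Algebra A S] {n : ℕ}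
    (π : MvPolynomial (Fin n) A →ₐ[A] S) (σ : S →ₐ[A] MvPolynomial (Fin n) A)
    (h : π.comp σ = AlgHom.id A S) : Algebra.FinitePresentation A S := by
  have hπσ : ∀ s, π (σ s) = s := fun s => AlgHom.congr_fun h s
  have hsurj : Function.Surjective π := fun s => ⟨σ s, hπσ s⟩
  refine Algebra.FinitePresentation.of_surjective hsurj ?_
  let K : Ideal (MvPolynomial (Fin n) A) :=
    Ideal.span (Set.range fun i : Fin n => MvPolynomial.X i - σ (π (MvPolynomial.X i)))
  have hK : RingHom.ker π.toRingHom = K := by
    apply le_antisymm
    · intro p hp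
      have key : ∀ q : MvPolynomial (Fin n) A, q - σ (π q) ∈ K := by
        intro q
        induction q using MvPolynomial.induction_on with
        | C a =>
          have : σ (π (MvPolynomial.C a)) = MvPolynomial.C a := by
            rw [← MvPolynomial.algebraMap_eq, AlgHom.commutes, AlgHom.commutes]
          rw [this, sub_self]
          exact K.zero_mem
        | add p q hp hq =>
          have : p + q - σ (π (p + q)) = (p - σ (π p)) + (q - σ (π q)) := by
            rw [map_add, map_add]; ring
          rw [this]
          exact K.add_mem hp hq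
        | mul_X p i hp =>
          have hi : MvPolynomial.X i - σ (π (MvPolynomial.X i)) ∈ K :=
            Ideal.subset_span ⟨i, rfl⟩
          have : p * MvPolynomial.X i - σ (π (p * MvPolynomial.X i)) =
              p * (MvPolynomial.X i - σ (π (MvPolynomial.X i))) +
                σ (π (MvPolynomial.X i)) * (p - σ (π p)) := by
            rw [map_mul, map_mul]; ring
          rw [this]
          exact K.add_mem (K.mul_mem_left _ hi) (K.mul_mem_left _ hp)
      have hp0 : π p = 0 := hp
      have := key p
      rwa [hp0, map_zero, sub_zero] at this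
    · rw [Ideal.span_le]
      rintro _ ⟨i, rfl⟩
      change π (MvPolynomial.X i - σ (π (MvPolynomial.X i))) = 0
      rw [map_sub, hπσ, sub_self]
  rw [hK]
  exact Submodule.fg_span (Set.finite_range _)

end retract

section backward

theorem formallySmooth_of_projective [Module.Projective A M] :
    Algebra.FormallySmooth A (SymmetricAlgebra A M) := by
  apply Algebra.FormallySmooth.of_comp_surjective
  intro B _ _ I _ g
  obtain ⟨h, hh⟩ := Module.projective_lifting_property (Ideal.Quotient.mkₐ A I).toLinearMap
    (g.toLinearMap ∘ₗ SymmetricAlgebra.ι A M) (Ideal.Quotient.mkₐ_surjective A I)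
  refine ⟨SymmetricAlgebra.lift h, ?_⟩
  apply SymmetricAlgebra.algHom_ext
  ext m
  have := LinearMap.congr_fun hh m
  simpa using this

theorem finitePresentation_of_finite_projective [Module.Finite A M] [Module.Projective A M] :
    Algebra.FinitePresentation A (SymmetricAlgebra A M) := by
  obtain ⟨n, f, g, -, -, hfg⟩ := Module.Finite.exists_comp_eq_id_of_projective A M
  let e : SymmetricAlgebra A (Fin n → A) ≃ₐ[A] MvPolynomial (Fin n) A :=
    SymmetricAlgebra.equivMvPolynomial (Pi.basisFun A (Fin n))
  let Sf : SymmetricAlgebra A (Fin n → A) →ₐ[A] SymmetricAlgebra A M :=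
    SymmetricAlgebra.lift (SymmetricAlgebra.ι A M ∘ₗ f)
  let Sg : SymmetricAlgebra A M →ₐ[A] SymmetricAlgebra A (Fin n → A) :=
    SymmetricAlgebra.lift (SymmetricAlgebra.ι A (Fin n → A) ∘ₗ g)
  have hSfg : Sf.comp Sg = AlgHom.id A _ := by
    apply SymmetricAlgebra.algHom_ext
    ext m
    have := LinearMap.congr_fun hfg m
    simp only [LinearMap.comp_apply, LinearMap.id_apply] at this
    simp [Sf, Sg, this]
  refine finitePresentation_of_retract (Sf.comp e.symm.toAlgHom) (e.toAlgHom.comp Sg) ?_
  apply AlgHom.ext
  intro x
  change Sf (e.symm (e (Sg x))) = x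
  rw [AlgEquiv.symm_apply_apply]
  exact AlgHom.congr_fun hSfg x

end backward

section forward

/-- The opposite module structure on a module over a commutative ring (local use only). -/
@[reducible] def opModule (N : Type u) [AddCommGroup N] [Module A N] : Module Aᵐᵒᵖ N :=
  Module.compHom N ((RingHom.id A).fromOpposite fun _ _ => mul_comm _ _)

theorem exists_lift_of_formallySmooth [Algebra.FormallySmooth A (SymmetricAlgebra A M)]
    {N N'' : Type u} [AddCommGroup N] [AddCommGroup N''] [Module A N] [Module A N'']
    (p : N →ₗ[A] N'') (f : M →ₗ[A] N'') (hp : Function.Surjective p) :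
    ∃ h : M →ₗ[A] N, p ∘ₗ h = f := by
  let _ : Module Aᵐᵒᵖ N := opModule N
  let _ : Module Aᵐᵒᵖ N'' := opModule N''
  have : IsCentralScalar A N := ⟨fun _ _ => rfl⟩
  have : IsCentralScalar A N'' := ⟨fun _ _ => rfl⟩
  let g : TrivSqZeroExt A N →ₐ[A] TrivSqZeroExt A N'' := TrivSqZeroExt.map p
  have hg : Function.Surjective g := by
    intro x
    obtain ⟨n, hn⟩ := hp x.snd
    refine ⟨TrivSqZeroExt.inl x.fst + TrivSqZeroExt.inr n, ?_⟩
    ext <;> simp [g, hn]
  have hker : IsNilpotent (RingHom.ker (g : TrivSqZeroExt A N →+* TrivSqZeroExt A N'')) := by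
    refine ⟨2, ?_⟩
    rw [pow_two, Ideal.zero_eq_bot, eq_bot_iff, Ideal.mul_le]
    intro x hx y hy
    have hx1 : x.fst = 0 := by
      have := congrArg TrivSqZeroExt.fst ((RingHom.mem_ker).mp hx)
      simpa [g] using this
    have hy1 : y.fst = 0 := by
      have := congrArg TrivSqZeroExt.fst ((RingHom.mem_ker).mp hy)
      simpa [g] using this
    rw [Ideal.mem_bot]
    ext <;> simp [hx1, hy1]
  let f' : SymmetricAlgebra A M →ₐ[A] TrivSqZeroExt A N'' :=
    SymmetricAlgebra.lift ((TrivSqZeroExt.inrHom A N'') ∘ₗ f)
  let l := Algebra.FormallySmooth.liftOfSurjective f' g hg hker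
  have hl : g.comp l = f' := Algebra.FormallySmooth.comp_liftOfSurjective f' g hg hker
  refine ⟨(TrivSqZeroExt.sndHom A N) ∘ₗ l.toLinearMap ∘ₗ SymmetricAlgebra.ι A M, ?_⟩
  ext m
  have h1 := AlgHom.congr_fun hl (SymmetricAlgebra.ι A M m)
  have h2 := congrArg TrivSqZeroExt.snd h1
  simpa [g, f'] using h2

theorem projective_of_formallySmooth [Algebra.FormallySmooth A (SymmetricAlgebra A M)] :
    Module.Projective A M :=
  Module.Projective.of_lifting_property fun p f hp => exists_lift_of_formallySmooth p f hp

theorem finite_of_finiteType [Algebra.FiniteType A (SymmetricAlgebra A M)] :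
    Module.Finite A M := by
  classical
  let _ : Module Aᵐᵒᵖ M := opModule M
  have : IsCentralScalar A M := ⟨fun _ _ => rfl⟩
  let L : SymmetricAlgebra A M →ₐ[A] TrivSqZeroExt A M :=
    SymmetricAlgebra.lift (TrivSqZeroExt.inrHom A M)
  let D : SymmetricAlgebra A M →ₗ[A] M := (TrivSqZeroExt.sndHom A M) ∘ₗ L.toLinearMap
  have hDι : ∀ m, D (SymmetricAlgebra.ι A M m) = m := by
    intro m
    simp [D, L]
  have hDmul : ∀ x y, D (x * y) = (L x).fst • D y + (L y).fst • D x := by
    intro x y
    simp only [D, LinearMap.comp_apply, AlgHom.toLinearMap_apply, map_mul,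
      TrivSqZeroExt.sndHom_apply, TrivSqZeroExt.snd_mul, op_smul_eq_smul]
  obtain ⟨s, hs⟩ := (Algebra.FiniteType.out : (⊤ : Subalgebra A (SymmetricAlgebra A M)).FG)
  refine ⟨⟨s.image D, ?_⟩⟩
  rw [eq_top_iff]
  intro m _
  have key : ∀ x ∈ Algebra.adjoin A (s : Set (SymmetricAlgebra A M)),
      D x ∈ Submodule.span A ((s.image D : Finset M) : Set M) := by
    intro x hx
    induction hx using Algebra.adjoin_induction with
    | mem x hx =>
      apply Submodule.subset_span
      simp only [Finset.coe_image, Set.mem_image]
      exact ⟨x, hx, rfl⟩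
    | algebraMap r =>
      have : D (algebraMap A _ r) = 0 := by
        simp [D, TrivSqZeroExt.algebraMap_eq_inl]
      rw [this]
      exact Submodule.zero_mem _
    | add x y _ _ hx hy => rw [map_add]; exact Submodule.add_mem _ hx hy
    | mul x y _ _ hx hy =>
      rw [hDmul]
      exact Submodule.add_mem _ (Submodule.smul_mem _ _ hy) (Submodule.smul_mem _ _ hx)
  have := key (SymmetricAlgebra.ι A M m) (by rw [hs]; trivial)
  rwa [hDι] at this

end forward

/-- The symmetric algebra of an `A`-module is a smooth `A`-algebra exactly when the module is finite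
projective. -/
theorem result {A M : Type u} [CommRing A] [AddCommGroup M] [Module A M] :
    Algebra.Smooth A (SymmetricAlgebra A M) ↔ Module.Finite A M ∧ Module.Projective A M := by
  constructor
  · intro h
    exact ⟨finite_of_finiteType, projective_of_formallySmooth⟩
  · rintro ⟨h1, h2⟩
    exact ⟨formallySmooth_of_projective, finitePresentation_of_finite_projective⟩

end Groth.Agent.S2094
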