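import Groth.Statements.S2095
import Mathlib.RingTheory.TensorProduct.Maps
import Mathlib.RingTheory.Ideal.Quotient.Operations

set_option autoImplicit false
universe u
open CAlg

namespace Groth.Agent.S2095

open TensorProduct

section aux

variable {R A R' : Type u} [CommRing R] [CommRing A] [Algebra R A] [CommRing R'] [Algebra R R']

/-- The `R`-linear map `R' ⊗ A → A` induced by a linear retraction `ρ`. -/
noncomputable def retr (ρ : R' →ₗ[R] R) : R' ⊗[R] A →ₗ[R] A :=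
  (TensorProduct.lid R A).toLinearMap ∘ₗ ρ.rTensor A

@[simp] theorem retr_tmul (ρ : R' →ₗ[R] R) (r : R') (a : A) :
    retr ρ (r ⊗ₜ[R] a) = ρ r • a := by
  simp [retr]

theorem retr_mul_left (ρ : R' →ₗ[R] R) (a : A) (t : R' ⊗[R] A) :
    retr ρ ((1 : R') ⊗ₜ[R] a * t) = a * retr ρ t := by
  induction t using TensorProduct.induction_on with
  | zero => simp
  | tmul r b => simp [Algebra.TensorProduct.tmul_mul_tmul]
  | add x y hx hy => rw [mul_add, map_add, hx, hy, map_add, mul_add]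

theorem retr_mem (ρ : R' →ₗ[R] R) (J : Ideal A) (x : R' ⊗[R] A)
    (hx : x ∈ J.map (Algebra.TensorProduct.includeRight : A →ₐ[R] R' ⊗[R] A)) :
    ∀ t : R' ⊗[R] A, retr ρ (t * x) ∈ J := by
  rw [Ideal.map] at hx
  induction hx using Submodule.span_induction with
  | mem x hx =>
    obtain ⟨j, hj, rfl⟩ := hx
    intro t
    rw [mul_comm]
    change retr ρ ((1 : R') ⊗ₜ[R] j * t) ∈ J
    rw [retr_mul_left]
    exact J.mul_mem_right _ hj
  | zero => intro t; simp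
  | add x y _ _ hx hy => intro t; rw [mul_add, map_add]; exact J.add_mem (hx t) (hy t)
  | smul r x _ hx =>
    intro t
    rw [smul_eq_mul, ← mul_assoc]
    exact hx (t * r)

end aux

open TensorProduct in
/-- Let `R → S` be a ring map, `𝔫 ⊆ S` an ideal and `R → R'` a ring map admitting an `R`-linear
retraction. If `R' → R' ⊗ S` is formally smooth for the adic topology of the extension of `𝔫`, then
`R → S` is formally smooth for the `𝔫`-adic topology. -/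
theorem result {R S R' : Type u} [CommRing R] [CommRing S] [Algebra R S]
    (𝔫 : Ideal S) [CommRing R'] [Algebra R R'] (ρ : R' →ₗ[R] R) (hρ : ∀ r : R, ρ (algebraMap R R' r) = r)
    (h : CAlgX.IsAdicFormallySmooth R' (R' ⊗[R] S)
      (𝔫.map (Algebra.TensorProduct.includeRight : S →ₐ[R] R' ⊗[R] S))) :
    CAlgX.IsAdicFormallySmooth R S 𝔫 := by
  intro A _ _ J hJ ψ hψ
  obtain ⟨k, hk⟩ := hψ
  have hρ1 : ρ 1 = 1 := by simpa using hρ 1
  let incA : A →ₐ[R] R' ⊗[R] A := Algebra.TensorProduct.includeRight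
  let J' : Ideal (R' ⊗[R] A) := J.map incA
  have hJ' : J' ^ 2 = ⊥ := by
    rw [← Ideal.map_pow, hJ, Ideal.map_bot]
  let θ : A ⧸ J →ₐ[R] (R' ⊗[R] A) ⧸ J' := Ideal.quotientMapₐ J' incA Ideal.le_comap_map
  let ψ' : R' ⊗[R] S →ₐ[R'] (R' ⊗[R] A) ⧸ J' :=
    Algebra.TensorProduct.lift (Algebra.ofId R' _) (θ.comp ψ) (fun _ _ => Commute.all _ _)
  have hψ'1 : ∀ s : S, ψ' ((1 : R') ⊗ₜ[R] s) = θ (ψ s) := by
    intro s
    simp [ψ']
  have hψ'k : ∃ k : ℕ, ∀ x ∈ (𝔫.map (Algebra.TensorProduct.includeRight : S →ₐ[R] R' ⊗[R] S)) ^ k,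
      ψ' x = 0 := by
    refine ⟨k, ?_⟩
    have hle : (𝔫.map (Algebra.TensorProduct.includeRight : S →ₐ[R] R' ⊗[R] S)) ^ k ≤
        RingHom.ker ψ'.toRingHom := by
      rw [← Ideal.map_pow, Ideal.map_le_iff_le_comap]
      intro x hx
      rw [Ideal.mem_comap, RingHom.mem_ker]
      change ψ' ((1 : R') ⊗ₜ[R] x) = 0
      rw [hψ'1, hk x hx, map_zero]
    intro x hx
    exact hle hx
  obtain ⟨χ', hχ'⟩ := h (R' ⊗[R] A) J' hJ' ψ' hψ'k
  -- the candidate lift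
  let lam : S →ₗ[R] A :=
    retr ρ ∘ₗ (χ'.restrictScalars R).toLinearMap ∘ₗ
      (Algebra.TensorProduct.includeRight : S →ₐ[R] R' ⊗[R] S).toLinearMap
  have hlam : ∀ s, lam s = retr ρ (χ' ((1 : R') ⊗ₜ[R] s)) := fun s => rfl
  -- decomposition of `χ' (1 ⊗ s)`
  have hdec : ∀ (s : S) (a : A), Ideal.Quotient.mk J a = ψ s →
      χ' ((1 : R') ⊗ₜ[R] s) - (1 : R') ⊗ₜ[R] a ∈ J' := by
    intro s a ha
    rw [← Ideal.Quotient.eq_zero_iff_mem, map_sub, sub_eq_zero]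
    have h1 : Ideal.Quotient.mk J' (χ' ((1 : R') ⊗ₜ[R] s)) = ψ' ((1 : R') ⊗ₜ[R] s) :=
      AlgHom.congr_fun hχ' _
    rw [h1, hψ'1, ← ha]
    rfl
  have hretr1 : ∀ a : A, retr ρ ((1 : R') ⊗ₜ[R] a) = a := by
    intro a
    rw [retr_tmul, hρ1, one_smul]
  have hretrJ : ∀ x ∈ J', retr ρ x ∈ J := by
    intro x hx
    simpa using retr_mem ρ J x hx 1
  have hmk : ∀ s, Ideal.Quotient.mk J (lam s) = ψ s := by
    intro s
    obtain ⟨a, ha⟩ := Ideal.Quotient.mk_surjective (ψ s)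
    have h1 := hretrJ _ (hdec s a ha)
    rw [map_sub, hretr1] at h1
    rw [hlam, ← ha]
    exact (Ideal.Quotient.mk_eq_mk_iff_sub_mem _ _).mpr h1
  have hmul : ∀ s t, lam (s * t) = lam s * lam t := by
    intro s t
    obtain ⟨a, ha⟩ := Ideal.Quotient.mk_surjective (ψ s)
    obtain ⟨b, hb⟩ := Ideal.Quotient.mk_surjective (ψ t)
    have hs := hdec s a ha
    have ht := hdec t b hb
    set j1 := χ' ((1 : R') ⊗ₜ[R] s) - (1 : R') ⊗ₜ[R] a with hj1
    set j2 := χ' ((1 : R') ⊗ₜ[R] t) - (1 : R') ⊗ₜ[R] b with hj2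
    have e1 : χ' ((1 : R') ⊗ₜ[R] s) = (1 : R') ⊗ₜ[R] a + j1 := by rw [hj1]; ring
    have e2 : χ' ((1 : R') ⊗ₜ[R] t) = (1 : R') ⊗ₜ[R] b + j2 := by rw [hj2]; ring
    have hj12 : j1 * j2 = 0 := by
      have : j1 * j2 ∈ J' ^ 2 := by
        rw [pow_two]; exact Ideal.mul_mem_mul hs ht
      rw [hJ'] at this
      simpa using this
    have hst : χ' ((1 : R') ⊗ₜ[R] (s * t)) =
        χ' ((1 : R') ⊗ₜ[R] s) * χ' ((1 : R') ⊗ₜ[R] t) := by
      rw [← map_mul, Algebra.TensorProduct.tmul_mul_tmul, one_mul]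
    have hprod : retr ρ j1 * retr ρ j2 = 0 := by
      have : retr ρ j1 * retr ρ j2 ∈ J ^ 2 := by
        rw [pow_two]; exact Ideal.mul_mem_mul (hretrJ _ hs) (hretrJ _ ht)
      rw [hJ] at this
      simpa using this
    rw [hlam, hlam, hlam, hst, e1, e2]
    have expand : ((1 : R') ⊗ₜ[R] a + j1) * ((1 : R') ⊗ₜ[R] b + j2) =
        (1 : R') ⊗ₜ[R] (a * b) + (1 : R') ⊗ₜ[R] a * j2 + (1 : R') ⊗ₜ[R] b * j1 := by
      have : (1 : R') ⊗ₜ[R] (a * b) = (1 : R') ⊗ₜ[R] a * (1 : R') ⊗ₜ[R] b := by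
        rw [Algebra.TensorProduct.tmul_mul_tmul, one_mul]
      rw [this]
      linear_combination hj12
    rw [expand]
    simp only [map_add, retr_mul_left, hretr1]
    linear_combination (-1 : A) * hprod
  have hone : lam 1 = 1 := by
    rw [hlam]
    have : ((1 : R') ⊗ₜ[R] (1 : S)) = (1 : R' ⊗[R] S) := rfl
    rw [this, map_one]
    have : (1 : R' ⊗[R] A) = (1 : R') ⊗ₜ[R] (1 : A) := rfl
    rw [this, hretr1]
  refine ⟨AlgHom.ofLinearMap lam hone hmul, ?_⟩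
  apply AlgHom.ext
  intro s
  exact hmk s

end Groth.Agent.S2095
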