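import Groth.Statements.S2096
import Groth.Agent.Lib.IndEtale
import Groth.Agent.S0733
import Mathlib.RingTheory.Etale.Field
import Mathlib.RingTheory.HopkinsLevitzki
import Mathlib.FieldTheory.SeparableClosure

set_option autoImplicit false
set_option maxHeartbeats 400000
universe u

namespace Groth.Agent.S2096

section Field

variable {κ F : Type u} [Field κ] [CommRing F] [Algebra κ F]

/-- An ind-étale algebra over a field: reduced, integral, and every algebra map to a field has
separable values. -/
theorem indEtale_field (h : EtPBC.IsIndEtale κ F) :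
    IsReduced F ∧ Algebra.IsIntegral κ F ∧
      ∀ (L : Type u) [Field L] [Algebra κ L] (ψ : F →ₐ[κ] L) (x : F), IsSeparable κ (ψ x) := by
  obtain ⟨J, hJ, hJf, E, iCR, iAlg, iEt, t, φ, hφt, hsurj, hzero⟩ :=
    Groth.Agent.Lib.IndEtale.exists_concrete κ F h
  have hfin : ∀ j, Module.Finite κ (E j) := fun j =>
    Algebra.FormallyUnramified.finite_of_free κ (E j)
  have hred : ∀ j, IsReduced (E j) := fun j =>
    Algebra.FormallyUnramified.isReduced_of_field κ (E j)
  refine ⟨⟨?_⟩, ⟨?_⟩, ?_⟩
  · rintro x ⟨n, hn⟩
    obtain ⟨j, y, rfl⟩ := hsurj x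
    have h0 : φ j (y ^ n) = 0 := by rw [map_pow, hn]
    obtain ⟨k, f, hf⟩ := hzero j _ h0
    rw [map_pow] at hf
    have hy : t f y = 0 := (hred k).eq_zero _ ⟨n, hf⟩
    have := AlgHom.congr_fun (hφt f) y
    rw [← this, AlgHom.comp_apply, hy, map_zero]
  · intro x
    obtain ⟨j, y, rfl⟩ := hsurj x
    exact (Algebra.IsIntegral.isIntegral (R := κ) y).map (φ j)
  · intro L _ _ ψ x
    obtain ⟨j, y, rfl⟩ := hsurj x
    let χ : E j →ₐ[κ] L := ψ.comp (φ j)
    have hprime : (RingHom.ker χ).IsPrime := RingHom.ker_isPrime χ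
    have hsep : IsSeparable κ (Ideal.Quotient.mk (RingHom.ker χ) y) :=
      Algebra.IsSeparable.isSeparable κ _
    have hinj := Ideal.kerLiftAlg_injective χ
    have : ψ (φ j y) = Ideal.kerLiftAlg χ (Ideal.Quotient.mk (RingHom.ker χ) y) := rfl
    rw [this, IsSeparable, minpoly.algHom_eq _ hinj]
    exact hsep

end Field

open TensorProduct in
/-- Let `B` be a Noetherian ind-étale `A`-algebra (a filtered colimit of étale algebras) and `𝔭` a prime
of `A`. Then only finitely many primes of `B` lie over `𝔭`, the fibre ring `B ⊗ κ(𝔭)` is reduced of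
dimension zero, and each residue field extension `κ(𝔮)/κ(𝔭)` is separable algebraic. -/
theorem result {A B : Type u} [CommRing A] [CommRing B] [Algebra A B] (hB : EtPBC.IsIndEtale A B)
    [IsNoetherianRing B] (p : Ideal A) [p.IsPrime] :
    {q : PrimeSpectrum B | q.asIdeal.LiesOver p}.Finite ∧ IsReduced (p.Fiber B) ∧ ringKrullDim (p.Fiber B) ≤ 0 ∧
      ∀ (q : Ideal B) [q.IsPrime] [q.LiesOver p],
        @Algebra.IsSeparable p.ResidueField q.ResidueField _ _
          (Ideal.ResidueField.mapₐ p q (Algebra.ofId A B) (q.over_def p)).toRingHom.toAlgebra := by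
  have hF : EtPBC.IsIndEtale p.ResidueField (p.Fiber B) :=
    Groth.Agent.S0733.result A B p.ResidueField hB
  obtain ⟨hred, hint, hsep⟩ := indEtale_field hF
  -- dimension zero
  have hdim : Ring.KrullDimLE 0 (p.Fiber B) := by
    rw [Ring.krullDimLE_zero_iff]
    intro I hI
    have : IsDomain (p.Fiber B ⧸ I) := Ideal.Quotient.isDomain I
    have : Algebra.IsIntegral p.ResidueField (p.Fiber B ⧸ I) :=
      Algebra.IsIntegral.of_surjective (Ideal.Quotient.mkₐ p.ResidueField I)
        Ideal.Quotient.mk_surjective
    have hfield := isField_of_isIntegral_of_isField' (R := p.ResidueField)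
      (S := p.Fiber B ⧸ I) (Field.toIsField p.ResidueField)
    exact Ideal.Quotient.maximal_of_isField I (by convert hfield)
  -- Noetherian
  have hnoeth : IsNoetherianRing (p.Fiber B) := by
    let _ : Algebra B (p.Fiber B) := Algebra.TensorProduct.rightAlgebra
    exact isNoetherianRing_of_ringEquiv _ (Ideal.Fiber.algEquivQuotient (S := B) p).toRingEquiv.symm
  have hart : IsArtinianRing (p.Fiber B) := IsNoetherianRing.isArtinianRing_of_krullDimLE_zero
  refine ⟨?_, hred, Ring.krullDimLE_iff.1 hdim, ?_⟩
  · have h1 : Finite (PrimeSpectrum (p.Fiber B)) := inferInstance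
    have h2 : Finite (p.primesOver B) :=
      Finite.of_equiv _ (PrimeSpectrum.primesOverOrderIsoFiber A B p).symm.toEquiv
    have h3 : (p.primesOver B).Finite := Set.toFinite _
    apply Set.Finite.of_finite_image (f := PrimeSpectrum.asIdeal) _
      (fun _ _ _ _ h => PrimeSpectrum.ext h)
    apply h3.subset
    rintro _ ⟨q, hq, rfl⟩
    exact ⟨q.2, hq⟩
  · intro q hq hqp
    let alg : Algebra p.ResidueField q.ResidueField :=
      (Ideal.ResidueField.mapₐ p q (Algebra.ofId A B) (q.over_def p)).toRingHom.toAlgebra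
    have : IsScalarTower A p.ResidueField q.ResidueField := IsScalarTower.of_algebraMap_eq
      (fun a => ((Ideal.ResidueField.mapₐ p q (Algebra.ofId A B) (q.over_def p)).commutes a).symm)
    let ψ : p.Fiber B →ₐ[p.ResidueField] q.ResidueField :=
      Algebra.TensorProduct.lift (Algebra.ofId p.ResidueField q.ResidueField)
        (IsScalarTower.toAlgHom A B q.ResidueField) (fun _ _ => Commute.all _ _)
    -- every element of the image of `B` is separable
    have hB' : ∀ b : B, algebraMap B q.ResidueField b ∈
        separableClosure p.ResidueField q.ResidueField := by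
      intro b
      rw [mem_separableClosure_iff]
      have := hsep q.ResidueField ψ ((1 : p.ResidueField) ⊗ₜ[A] b)
      simpa [ψ] using this
    refine ⟨fun z => ?_⟩
    obtain ⟨a, s, hs, rfl⟩ := IsFractionRing.div_surjective (A := B ⧸ q) z
    obtain ⟨a, rfl⟩ := Ideal.Quotient.mk_surjective a
    obtain ⟨s, rfl⟩ := Ideal.Quotient.mk_surjective s
    rw [← mem_separableClosure_iff]
    apply div_mem
    · exact hB' a
    · exact hB' s

end Groth.Agent.S2096
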