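import Groth.Statements.S2097
import Mathlib.RingTheory.FinitePresentation
import Mathlib.RingTheory.Noetherian.Nilpotent

set_option autoImplicit false
universe u
open CAlg

namespace Groth.Agent.S2097

/-- Let `R → S` be smooth, `A` an `R`-algebra and `I ⊆ A` an ideal all of whose elements are nilpotent.
Every `R`-algebra map `S → A/I` lifts to an `R`-algebra map `S → A`. -/
theorem result {R S A : Type u} [CommRing R] [CommRing S] [Algebra R S] [Algebra.Smooth R S]
    [CommRing A] [Algebra R A] (I : Ideal A) (hI : ∀ x ∈ I, IsNilpotent x) (g : S →ₐ[R] A ⧸ I) :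
    ∃ f : S →ₐ[R] A, (Ideal.Quotient.mkₐ R I).comp f = g := by
  obtain ⟨n, π, hπ, hK⟩ := (Algebra.FinitePresentation.out : ∃ (n : ℕ)
    (f : MvPolynomial (Fin n) R →ₐ[R] S), Function.Surjective f ∧ (RingHom.ker f.toRingHom).FG)
  -- lifts of the images of the variables
  have hsurj : Function.Surjective (Ideal.Quotient.mk I) := Ideal.Quotient.mk_surjective
  choose a ha using fun i : Fin n => hsurj (g (π (MvPolynomial.X i)))
  let h : MvPolynomial (Fin n) R →ₐ[R] A := MvPolynomial.aeval a
  have hh : (Ideal.Quotient.mkₐ R I).comp h = g.comp π := by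
    apply MvPolynomial.algHom_ext
    intro i
    simp [h, ha]
  let J : Ideal A := (RingHom.ker π.toRingHom).map h.toRingHom
  have hJI : J ≤ I := by
    rw [Ideal.map_le_iff_le_comap]
    intro x hx
    rw [Ideal.mem_comap]
    have : (Ideal.Quotient.mkₐ R I) (h x) = g (π x) := AlgHom.congr_fun hh x
    rw [RingHom.mem_ker] at hx
    have hx' : π x = 0 := hx
    rw [hx', map_zero] at this
    exact Ideal.Quotient.eq_zero_iff_mem.mp this
  have hJfg : J.FG := hK.map _
  have hJnil : IsNilpotent J := by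
    rw [hJfg.isNilpotent_iff_le_nilradical]
    intro x hx
    exact hI x (hJI hx)
  -- the induced map S → A ⧸ J
  have hker : ∀ x : MvPolynomial (Fin n) R, π x = 0 → ((Ideal.Quotient.mkₐ R J).comp h) x = 0 := by
    intro x hx
    have : h x ∈ J := Ideal.mem_map_of_mem _ (by rw [RingHom.mem_ker]; exact hx)
    simpa using Ideal.Quotient.eq_zero_iff_mem.mpr this
  let h' : S →ₐ[R] A ⧸ J := AlgHom.liftOfSurjective π hπ ((Ideal.Quotient.mkₐ R J).comp h)
    (fun x hx => hker x hx)
  obtain ⟨f, hf⟩ := Algebra.FormallySmooth.exists_lift J hJnil h'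
  refine ⟨f, ?_⟩
  apply AlgHom.ext
  intro s
  obtain ⟨x, rfl⟩ := hπ s
  have h1 : Ideal.Quotient.mk J (f (π x)) = Ideal.Quotient.mk J (h x) := by
    have := AlgHom.congr_fun hf (π x)
    simpa [h', AlgHom.liftOfSurjective_apply] using this
  have h2 : f (π x) - h x ∈ I := hJI ((Ideal.Quotient.mk_eq_mk_iff_sub_mem _ _).mp h1)
  have h3 : Ideal.Quotient.mk I (f (π x)) = Ideal.Quotient.mk I (h x) :=
    (Ideal.Quotient.mk_eq_mk_iff_sub_mem _ _).mpr h2
  have h4 : (Ideal.Quotient.mkₐ R I) (h x) = g (π x) := AlgHom.congr_fun hh x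
  simpa using h3.trans h4

end Groth.Agent.S2097
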