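import Groth.Statements.S2098
import Mathlib.RingTheory.Filtration
import Mathlib.RingTheory.Nakayama
import Mathlib.RingTheory.Noetherian.Basic
import Mathlib.RingTheory.Noetherian.Orzech
import Mathlib.RingTheory.Finiteness.Cardinality
import Mathlib.Algebra.Module.Projective

set_option autoImplicit false
universe u
open CAlg

namespace Groth.Agent.S2098

section Aux

variable {R : Type*} [CommRing R] (J : Ideal R)

theorem map_mem_smul_top {A B : Type*} [AddCommGroup A] [Module R A] [AddCommGroup B] [Module R B]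
    (φ : A →ₗ[R] B) {x : A} (hx : x ∈ (J • ⊤ : Submodule R A)) :
    φ x ∈ (J • ⊤ : Submodule R B) := by
  have h : Submodule.map φ (J • ⊤) ≤ (J • ⊤ : Submodule R B) := by
    rw [Submodule.map_smul'']
    exact Submodule.smul_mono le_rfl le_top
  exact h ⟨x, hx, rfl⟩

/-- A linear map out of a finite free module all of whose values lie in `J N` lies in
`J Hom(F, N)`. -/
theorem mem_smul_top_of_forall_apply_mem {a : ℕ} {N : Type*} [AddCommGroup N] [Module R N]
    (φ : (Fin a → R) →ₗ[R] N) (hφ : ∀ g, φ g ∈ (J • ⊤ : Submodule R N)) :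
    φ ∈ (J • ⊤ : Submodule R ((Fin a → R) →ₗ[R] N)) := by
  classical
  have h1 : φ = ∑ j, (LinearMap.smulRightₗ (LinearMap.proj j : (Fin a → R) →ₗ[R] R))
      (φ (Pi.single j 1)) := by
    refine LinearMap.pi_ext fun i x => ?_
    rw [LinearMap.sum_apply]
    simp only [LinearMap.smulRightₗ_apply, LinearMap.smulRight_apply, LinearMap.proj_apply]
    rw [Finset.sum_eq_single i]
    · rw [Pi.single_eq_same, ← map_smul]
      congr 1
      ext k
      simp [Pi.single_apply]
    · intro j _ hji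
      rw [Pi.single_eq_of_ne hji, zero_smul]
    · intro hi
      exact absurd (Finset.mem_univ i) hi
  rw [h1]
  exact Submodule.sum_mem _ fun j _ => map_mem_smul_top J _ (hφ _)

theorem apply_mem_smul_top {F N : Type*} [AddCommGroup F] [Module R F] [AddCommGroup N]
    [Module R N] {δ : F →ₗ[R] N} (hδ : δ ∈ (J • ⊤ : Submodule R (F →ₗ[R] N))) (y : F) :
    δ y ∈ (J • ⊤ : Submodule R N) :=
  map_mem_smul_top J (LinearMap.applyₗ y) hδ

end Aux

/-- Let `R` be Noetherian, `I` an ideal inside the Jacobson radical and `u : N → M` a map of finite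
`R`-modules. If for arbitrarily large `n` the induced map `N/IⁿN → M/IⁿM` has a left inverse, then
`u` has a left inverse. -/
theorem result {R M N : Type u} [CommRing R] [IsNoetherianRing R] (I : Ideal R)
    (hI : I ≤ (⊥ : Ideal R).jacobson) [AddCommGroup M] [Module R M] [Module.Finite R M] [AddCommGroup N] [Module R N]
    [Module.Finite R N] (u : N →ₗ[R] M)
    (h : ∀ n₀ : ℕ, ∃ n, n₀ ≤ n ∧ ∃ s : (M ⧸ (I ^ n) • (⊤ : Submodule R M)) →ₗ[R] (N ⧸ (I ^ n) • (⊤ : Submodule R N)),
      ∀ x : N, s (Submodule.Quotient.mk (u x)) = Submodule.Quotient.mk x) :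
    ∃ s : M →ₗ[R] N, s.comp u = LinearMap.id := by
  classical
  obtain ⟨b, π, hπ⟩ := Module.Finite.exists_fin' R M
  have hKfin : Module.Finite R (LinearMap.ker π) := inferInstance
  obtain ⟨a, κ₀, hκ₀⟩ := Module.Finite.exists_fin' R (LinearMap.ker π)
  let κ : (Fin a → R) →ₗ[R] (Fin b → R) := (LinearMap.ker π).subtype ∘ₗ κ₀
  have hκ : ∀ y, π y = 0 → ∃ g, κ g = y := by
    intro y hy
    obtain ⟨g, hg⟩ := hκ₀ ⟨y, hy⟩
    exact ⟨g, by simp [κ, hg]⟩
  have hπκ : ∀ g, π (κ g) = 0 := fun g => (κ₀ g).2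
  let T : ((Fin b → R) →ₗ[R] N) →ₗ[R] ((Fin a → R) →ₗ[R] N) := LinearMap.lcomp R N κ
  obtain ⟨c, hc⟩ := Ideal.exists_pow_inf_eq_pow_smul I (LinearMap.range T)
  obtain ⟨n, hn, s, hs⟩ := h (c + 1)
  have hcn : c ≤ n := by omega
  obtain ⟨χ, hχ⟩ := Module.projective_lifting_property
    (Submodule.mkQ (I ^ n • ⊤ : Submodule R N))
    (s ∘ₗ Submodule.mkQ (I ^ n • ⊤ : Submodule R M) ∘ₗ π) (Submodule.mkQ_surjective _)
  have hχ' : ∀ y, (Submodule.Quotient.mk (χ y) : N ⧸ (I ^ n • ⊤ : Submodule R N)) =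
      s (Submodule.Quotient.mk (π y)) := fun y => LinearMap.congr_fun hχ y
  have hTχ : T χ ∈ (I ^ n • ⊤ : Submodule R ((Fin a → R) →ₗ[R] N)) := by
    refine mem_smul_top_of_forall_apply_mem _ _ fun g => ?_
    rw [LinearMap.lcomp_apply, ← Submodule.Quotient.mk_eq_zero, hχ', hπκ,
      Submodule.Quotient.mk_zero, map_zero]
  have h1 : T χ ∈ I ^ n • ⊤ ⊓ LinearMap.range T := ⟨hTχ, ⟨χ, rfl⟩⟩
  rw [hc n hcn] at h1
  have h2 : I ^ (n - c) • (I ^ c • ⊤ ⊓ LinearMap.range T) ≤
      Submodule.map T (I ^ (n - c) • ⊤) := by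
    rw [Submodule.map_smul'', Submodule.map_top]
    exact Submodule.smul_mono le_rfl inf_le_right
  obtain ⟨δ, hδ, hTδ⟩ := h2 h1
  have hker : LinearMap.ker π ≤ LinearMap.ker (χ - δ) := by
    intro y hy
    obtain ⟨g, rfl⟩ := hκ y hy
    have := LinearMap.congr_fun hTδ g
    rw [LinearMap.lcomp_apply, LinearMap.lcomp_apply] at this
    rw [LinearMap.mem_ker, LinearMap.sub_apply, this, sub_self]
  let φ : M →ₗ[R] N := (Submodule.liftQ (LinearMap.ker π) (χ - δ) hker) ∘ₗ
    (LinearMap.quotKerEquivOfSurjective π hπ).symm.toLinearMap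
  have hφ : ∀ y, φ (π y) = χ y - δ y := by
    intro y
    have : (LinearMap.quotKerEquivOfSurjective π hπ).symm (π y) =
        Submodule.Quotient.mk y := by
      rw [LinearEquiv.symm_apply_eq]
      rfl
    simp only [φ, LinearMap.comp_apply, LinearEquiv.coe_coe, this, Submodule.liftQ_apply,
      LinearMap.sub_apply]
  have hθ : ∀ x, φ (u x) - x ∈ (I • ⊤ : Submodule R N) := by
    intro x
    obtain ⟨y, hy⟩ := hπ (u x)
    rw [← hy, hφ]
    have e1 : χ y - x ∈ (I ^ n • ⊤ : Submodule R N) := by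
      rw [← Submodule.Quotient.mk_eq_zero, Submodule.Quotient.mk_sub, hχ', hy, hs, sub_self]
    have e2 : δ y ∈ (I ^ (n - c) • ⊤ : Submodule R N) := apply_mem_smul_top _ hδ y
    have le1 : (I ^ n • ⊤ : Submodule R N) ≤ I • ⊤ :=
      Submodule.smul_mono_left (Ideal.pow_le_self (by omega))
    have le2 : (I ^ (n - c) • ⊤ : Submodule R N) ≤ I • ⊤ :=
      Submodule.smul_mono_left (Ideal.pow_le_self (by omega))
    have : χ y - δ y - x = (χ y - x) - δ y := by abel
    rw [this]
    exact sub_mem (le1 e1) (le2 e2)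
  let θ : N →ₗ[R] N := φ ∘ₗ u
  have hsurj : Function.Surjective θ := by
    rw [← LinearMap.range_eq_top, eq_top_iff]
    refine Submodule.le_of_le_smul_of_le_jacobson_bot Module.Finite.fg_top hI ?_
    intro x _
    have : x = θ x - (θ x - x) := by abel
    rw [this]
    exact Submodule.sub_mem _ (Submodule.mem_sup_left ⟨x, rfl⟩)
      (Submodule.mem_sup_right (hθ x))
  have hbij : Function.Bijective θ := IsNoetherian.bijective_of_surjective_endomorphism θ hsurj
  refine ⟨(LinearEquiv.ofBijective θ hbij).symm.toLinearMap ∘ₗ φ, ?_⟩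
  ext x
  simp only [LinearMap.comp_apply, LinearEquiv.coe_coe, LinearMap.id_apply]
  rw [LinearEquiv.symm_apply_eq]
  rfl

end Groth.Agent.S2098
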