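import Groth.Statements.S2099
import Groth.Agent.Lib.PowerSeriesLift50
import Groth.Agent.Lib.FormalInverse50
import Groth.Agent.Lib.ArtinSmoothField
import Groth.Agent.Lib.ComplMap
import Groth.Agent.Lib.ComplFlat
import Mathlib

set_option autoImplicit false
universe u
open CAlg

namespace Groth.Agent.S2099

section helpers

variable {R S : Type u} [CommRing R] [CommRing S] [Algebra R S]

/-- lifts of the basis of the cotangent module. -/
lemma exists_gens (I : Ideal S) (d : ℕ) (e : I.Cotangent ≃ₗ[R] (Fin d → R)) :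
    ∃ x : Fin d → I, ∀ i, e (I.toCotangent (x i)) = Pi.single i 1 := by
  have h : ∀ i : Fin d, ∃ y : I, I.toCotangent y = e.symm (Pi.single i 1) := fun i =>
    I.toCotangent_surjective _
  choose x hx using h
  exact ⟨x, fun i => by rw [hx, LinearEquiv.apply_symm_apply]⟩

/-- the ideal is generated by the lifts modulo its square. -/
lemma le_span_sup_sq (I : Ideal S) (d : ℕ) (e : I.Cotangent ≃ₗ[R] (Fin d → R))
    (x : Fin d → I) (hx : ∀ i, e (I.toCotangent (x i)) = Pi.single i 1) :
    I ≤ Ideal.span (Set.range (fun i => (x i : S))) ⊔ I ^ 2 := by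
  classical
  intro s hs
  set c := e (I.toCotangent ⟨s, hs⟩) with hc
  have h1 : I.toCotangent (⟨s, hs⟩ - ∑ i, c i • x i) = 0 := by
    apply e.injective
    rw [map_sub, map_sub, map_sum, map_sum, map_zero, sub_eq_zero, ← hc]
    have h2 : ∀ i, e (I.toCotangent (c i • x i)) = c i • Pi.single i 1 := by
      intro i
      rw [LinearMap.map_smul_of_tower, map_smul, hx]
    simp only [h2]
    funext j
    rw [Finset.sum_apply]
    simp only [Pi.smul_apply, Pi.single_apply, smul_eq_mul, mul_ite, mul_one, mul_zero]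
    rw [Finset.sum_ite_eq Finset.univ j c]
    simp
  rw [Ideal.toCotangent_eq_zero] at h1
  have h3 : s = (∑ i, c i • (x i : S)) + (s - ∑ i, c i • (x i : S)) := by ring
  rw [h3]
  refine Submodule.add_mem_sup ?_ ?_
  · refine Ideal.sum_mem _ (fun i _ => ?_)
    rw [Algebra.smul_def]
    exact Ideal.mul_mem_left _ _ (Ideal.subset_span ⟨i, rfl⟩)
  · convert h1 using 1
    simp

section tau

variable (σ : S →ₐ[R] R)

/-- the projection to the kernel of the retraction. -/
def δ (s : S) : RingHom.ker σ.toRingHom :=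
  ⟨s - algebraMap R S (σ s), by
    rw [RingHom.mem_ker]
    change σ (s - algebraMap R S (σ s)) = 0
    rw [map_sub, σ.commutes, Algebra.algebraMap_self_apply, sub_self]⟩

lemma δ_add (s s' : S) : δ σ (s + s') = δ σ s + δ σ s' := by
  apply Subtype.ext
  simp only [δ, Submodule.coe_add, map_add]
  ring

lemma δ_algebraMap (r : R) : δ σ (algebraMap R S r) = 0 := by
  apply Subtype.ext
  simp [δ]

lemma δ_of_mem (s : S) (hs : s ∈ RingHom.ker σ.toRingHom) : δ σ s = ⟨s, hs⟩ := by
  apply Subtype.ext
  have : σ s = 0 := hs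
  simp [δ, this]

lemma δ_mul (s s' : S) : δ σ (s * s') = s • δ σ s' + algebraMap R S (σ s') • δ σ s := by
  apply Subtype.ext
  simp only [δ, Submodule.coe_add, Submodule.coe_smul, smul_eq_mul, map_mul]
  ring

lemma smul_toCotangent (s : S) (y : RingHom.ker σ.toRingHom) :
    s • (RingHom.ker σ.toRingHom).toCotangent y = σ s • (RingHom.ker σ.toRingHom).toCotangent y := by
  have h1 : (s - algebraMap R S (σ s)) • (RingHom.ker σ.toRingHom).toCotangent y = 0 := by
    rw [← map_smul, Ideal.toCotangent_eq_zero]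
    simp only [Submodule.coe_smul, smul_eq_mul, sq]
    exact Ideal.mul_mem_mul (δ σ s).2 y.2
  rw [sub_smul, sub_eq_zero, algebraMap_smul] at h1
  exact h1

variable (d : ℕ) (e : (RingHom.ker σ.toRingHom).Cotangent ≃ₗ[R] (Fin d → R))

/-- the coordinates of the first order part. -/
def E (s : S) : Fin d → R := e ((RingHom.ker σ.toRingHom).toCotangent (δ σ s))

lemma E_add (s s' : S) : E σ d e (s + s') = E σ d e s + E σ d e s' := by
  simp only [E, δ_add, map_add]

lemma E_algebraMap (r : R) : E σ d e (algebraMap R S r) = 0 := by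
  simp only [E, δ_algebraMap, map_zero]

lemma E_mul (s s' : S) : E σ d e (s * s') = σ s • E σ d e s' + σ s' • E σ d e s := by
  simp only [E, δ_mul, map_add]
  have h1 : (RingHom.ker σ.toRingHom).toCotangent (s • δ σ s') =
      σ s • (RingHom.ker σ.toRingHom).toCotangent (δ σ s') := by
    rw [map_smul, smul_toCotangent]
  have h2 : (RingHom.ker σ.toRingHom).toCotangent (algebraMap R S (σ s') • δ σ s) =
      σ s' • (RingHom.ker σ.toRingHom).toCotangent (δ σ s) := by
    rw [map_smul, algebraMap_smul]
  rw [h1, h2, map_smul, map_smul]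

end tau

section tau2

variable (R) in
/-- the ideal of the variables. -/
noncomputable abbrev JJ (d : ℕ) : Ideal (MvPowerSeries (Fin d) R) :=
  Ideal.span (Set.range (MvPowerSeries.X : Fin d → MvPowerSeries (Fin d) R))

/-- the linear form attached to a vector. -/
noncomputable def lin (d : ℕ) (c : Fin d → R) : MvPowerSeries (Fin d) R :=
  ∑ i, MvPowerSeries.C (c i) * MvPowerSeries.X i

lemma lin_mem (d : ℕ) (c : Fin d → R) : lin d c ∈ JJ R d :=
  Ideal.sum_mem _ (fun i _ => Ideal.mul_mem_left _ _ (Ideal.subset_span ⟨i, rfl⟩))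

lemma lin_add (d : ℕ) (c c' : Fin d → R) : lin d (c + c') = lin d c + lin d c' := by
  simp only [lin, Pi.add_apply, map_add, add_mul, Finset.sum_add_distrib]

lemma lin_zero (d : ℕ) : lin d (0 : Fin d → R) = 0 := by
  simp [lin]

lemma lin_smul (d : ℕ) (r : R) (c : Fin d → R) : lin d (r • c) = MvPowerSeries.C r * lin d c := by
  simp only [lin, Pi.smul_apply, smul_eq_mul, map_mul, Finset.mul_sum, mul_assoc]

lemma lin_single (d : ℕ) (i : Fin d) : lin d (Pi.single i (1 : R)) = MvPowerSeries.X i := by
  classical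
  simp only [lin, Pi.single_apply]
  rw [Finset.sum_eq_single i]
  · simp
  · intro j _ hj
    simp [hj]
  · simp

variable (σ : S →ₐ[R] R) (d : ℕ) (e : (RingHom.ker σ.toRingHom).Cotangent ≃ₗ[R] (Fin d → R))

/-- the first order approximation of the sought map. -/
noncomputable def τ : S →ₐ[R] MvPowerSeries (Fin d) R ⧸ (JJ R d) ^ 2 where
  toFun s := Ideal.Quotient.mk _ (MvPowerSeries.C (σ s) + lin d (E σ d e s))
  map_one' := by
    have h1 : E σ d e 1 = 0 := by
      have := E_algebraMap σ d e 1
      rwa [map_one] at this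
    rw [h1, lin_zero, map_one, map_one, add_zero, map_one]
  map_mul' s s' := by
    rw [← map_mul, Ideal.Quotient.eq, E_mul, lin_add, lin_smul, lin_smul, map_mul, map_mul]
    have h1 : MvPowerSeries.C (σ s) * MvPowerSeries.C (σ s') +
        (MvPowerSeries.C (σ s) * lin d (E σ d e s') + MvPowerSeries.C (σ s') * lin d (E σ d e s)) -
        (MvPowerSeries.C (σ s) + lin d (E σ d e s)) * (MvPowerSeries.C (σ s') + lin d (E σ d e s')) =
        - (lin d (E σ d e s) * lin d (E σ d e s')) := by ring
    rw [h1, sq]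
    exact neg_mem (Ideal.mul_mem_mul (lin_mem d _) (lin_mem d _))
  map_zero' := by
    have h1 : E σ d e 0 = 0 := by
      have := E_algebraMap σ d e 0
      rwa [map_zero] at this
    rw [h1, lin_zero, map_zero, map_zero, add_zero, map_zero]
  map_add' s s' := by
    rw [← map_add, E_add, lin_add, map_add σ, map_add MvPowerSeries.C]
    congr 1
    ring
  commutes' r := by
    rw [σ.commutes, E_algebraMap, lin_zero, add_zero, Algebra.algebraMap_self_apply]
    rfl

lemma τ_apply (s : S) : τ σ d e s =
    Ideal.Quotient.mk _ (MvPowerSeries.C (σ s) + lin d (E σ d e s)) := rfl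

end tau2

lemma two_le_order_of_mem_sq (d : ℕ) (f : MvPowerSeries (Fin d) R) (hf : f ∈ (JJ R d) ^ 2) :
    2 ≤ f.order := by
  have hJ : ∀ g ∈ JJ R d, 1 ≤ g.order := by
    intro g hg
    rw [MvPowerSeries.one_le_order_iff_constCoeff_eq_zero]
    have hle : JJ R d ≤ RingHom.ker (MvPowerSeries.constantCoeff (σ := Fin d) (R := R)) := by
      rw [Ideal.span_le]
      rintro _ ⟨i, rfl⟩
      simp
    exact hle hg
  rw [sq] at hf
  refine Submodule.mul_induction_on hf ?_ ?_
  · intro m hm n hn
    calc (2 : ℕ∞) = 1 + 1 := by norm_num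
      _ ≤ m.order + n.order := add_le_add (hJ m hm) (hJ n hn)
      _ ≤ (m * n).order := MvPowerSeries.le_order_mul
  · intro x y hx hy
    exact le_trans (le_min hx hy) MvPowerSeries.min_order_le_add

end helpers

/-- Let `R → S` be smooth with an `R`-algebra retraction `σ : S → R` and `I = ker σ`. If `I/I²` is free
of rank `d` over `R`, then the `I`-adic completion of `S` is isomorphic as an `R`-algebra to the
power series ring in `d` variables over `R`. -/
theorem result {R S : Type u} [CommRing R] [CommRing S] [Algebra R S]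
    [Algebra.Smooth R S] (σ : S →ₐ[R] R) (d : ℕ)
    (e : (RingHom.ker σ.toRingHom).Cotangent ≃ₗ[R] (Fin d → R)) :
    Nonempty (AdicCompletion (RingHom.ker σ.toRingHom) S ≃ₐ[R] MvPowerSeries (Fin d) R) := by
  classical
  set I := RingHom.ker σ.toRingHom with hI
  have hσsurj : Function.Surjective σ := fun r => ⟨algebraMap R S r, by
    rw [σ.commutes, Algebra.algebraMap_self_apply]⟩
  have hIfg : I.FG := Algebra.FinitePresentation.ker_fG_of_surjective σ hσsurj
  obtain ⟨x, hx⟩ := exists_gens I d e
  have hIle := le_span_sup_sq I d e x hx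
  let ι := algebraMap S (AdicCompletion I S)
  have hcomplete : IsAdicComplete (I.map ι) (AdicCompletion I S) :=
    AdicCompletion.isAdicComplete_self I hIfg
  have hmem : ∀ i, ι (x i) ∈ I.map ι := fun i => Ideal.mem_map_of_mem _ (x i).2
  obtain ⟨φ, hφX, -⟩ := Groth.Agent.Lib.PowerSeriesLift50.exists_algHom (σ := Fin d) (k := R)
    (I.map ι) (fun i => ι (x i)) hmem
  -- surjectivity of φ
  have hmap : (JJ R d).map φ.toRingHom = Ideal.span (Set.range (fun i => ι (x i))) := by
    rw [Ideal.map_span, ← Set.range_comp]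
    congr 2
    ext i
    simp [hφX]
  have hIι : I.map ι = Ideal.span (Set.range (fun i => ι (x i))) := by
    apply le_antisymm
    · have h1 : I.map ι ≤ Ideal.span (Set.range (fun i => ι (x i))) ⊔ (I.map ι) • (I.map ι) := by
        calc I.map ι ≤ (Ideal.span (Set.range (fun i => (x i : S))) ⊔ I ^ 2).map ι :=
              Ideal.map_mono hIle
          _ = _ := by
              rw [Ideal.map_sup, Ideal.map_span, ← Set.range_comp, Ideal.map_pow, sq, smul_eq_mul]
              rfl
      exact Submodule.le_of_le_smul_of_le_jacobson_bot (hIfg.map ι)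
        (IsAdicComplete.le_jacobson_bot _) h1
    · rw [Ideal.span_le]
      rintro _ ⟨i, rfl⟩
      exact hmem i
  have hsurj : Function.Surjective φ := by
    have haus : IsHausdorff ((JJ R d).map φ.toRingHom) (AdicCompletion I S) := by
      rw [hmap, ← hIι]
      exact hcomplete.toIsHausdorff
    refine surjective_of_mk_map_comp_surjective φ.toRingHom (I := JJ R d) ?_
    intro z
    obtain ⟨y, rfl⟩ := Ideal.Quotient.mk_surjective z
    obtain ⟨s, hs⟩ := Ideal.Quotient.mk_surjective (AdicCompletion.evalₐ I 1 y)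
    refine ⟨MvPowerSeries.C (σ s), ?_⟩
    simp only [RingHom.comp_apply]
    rw [Ideal.Quotient.eq, hmap, ← hIι]
    have h1 : φ.toRingHom (MvPowerSeries.C (σ s)) = ι (algebraMap R S (σ s)) := by
      have := φ.commutes (σ s)
      rw [MvPowerSeries.algebraMap_apply, Algebra.algebraMap_self_apply,
        IsScalarTower.algebraMap_apply R S (AdicCompletion I S)] at this
      exact this
    rw [h1]
    have hker := Groth.Agent.Lib.ComplFlat.ker_evalₐ_eq_map I hIfg 1
    have hpow1 : (I ^ 1).map ι = I.map ι := by rw [pow_one]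
    have h2 : y - ι s ∈ I.map ι := by
      rw [← hpow1, ← hker, RingHom.mem_ker]
      change AdicCompletion.evalₐ I 1 _ = 0
      rw [map_sub, ← hs, AdicCompletion.algebraMap_apply, AdicCompletion.evalₐ_of]
      simp
    have h3 : ι (algebraMap R S (σ s)) - y = - (y - ι s) - ι (s - algebraMap R S (σ s)) := by
      rw [map_sub]; ring
    rw [h3]
    exact sub_mem (neg_mem h2) (Ideal.mem_map_of_mem _ (δ σ s).2)
  -- injectivity of φ
  have hinj : Function.Injective φ := by
    have hJc : IsAdicComplete ((JJ R d) ^ 2) (MvPowerSeries (Fin d) R) :=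
      Groth.Agent.Lib.ArtinSmoothField.isAdicComplete_sq _
    obtain ⟨ψ₀, hψ₀⟩ := Algebra.FormallySmooth.exists_mkₐ_comp_eq_of_isAdicComplete
      (I := (JJ R d) ^ 2) (τ σ d e)
    have hψ₀' : ∀ s, Ideal.Quotient.mk ((JJ R d) ^ 2) (ψ₀ s) = τ σ d e s := fun s =>
      DFunLike.congr_fun hψ₀ s
    have hIJ : I.map ψ₀.toRingHom ≤ JJ R d := by
      rw [Ideal.map_le_iff_le_comap]
      intro s hs
      have h1 := hψ₀' s
      rw [τ_apply] at h1
      have hσs : σ s = 0 := hs
      rw [hσs, map_zero, zero_add, Ideal.Quotient.eq] at h1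
      have h2 : ψ₀ s = (ψ₀ s - lin d (E σ d e s)) + lin d (E σ d e s) := by ring
      rw [Ideal.mem_comap]
      change ψ₀ s ∈ _
      rw [h2]
      exact add_mem (Ideal.pow_le_self two_ne_zero h1) (lin_mem d _)
    let c := FSch.complMap I (JJ R d) ψ₀.toRingHom hIJ
    let ψ : AdicCompletion I S →+* MvPowerSeries (Fin d) R :=
      ((AdicCompletion.ofAlgEquiv (JJ R d)).symm :
        AdicCompletion (JJ R d) (MvPowerSeries (Fin d) R) →+* MvPowerSeries (Fin d) R).comp c
    have hψι : ∀ s, ψ (ι s) = ψ₀ s := by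
      intro s
      simp only [ψ, c, RingHom.coe_comp, Function.comp_apply]
      rw [Groth.Agent.Lib.ComplMap.complMap_algebraMap, AdicCompletion.algebraMap_apply]
      simp
    let θ : MvPowerSeries (Fin d) R →ₐ[R] MvPowerSeries (Fin d) R :=
      { ψ.comp φ.toRingHom with
        commutes' := fun r => by
          change ψ (φ (algebraMap R _ r)) = _
          rw [φ.commutes, IsScalarTower.algebraMap_apply R S (AdicCompletion I S), hψι,
            ψ₀.commutes] }
    have hθX : ∀ i, θ (MvPowerSeries.X i) = ψ₀ (x i) := by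
      intro i
      change ψ (φ (MvPowerSeries.X i)) = _
      rw [hφX, hψι]
    have hclose : ∀ i, 2 ≤ (θ (MvPowerSeries.X i) - MvPowerSeries.X i).order := by
      intro i
      apply two_le_order_of_mem_sq
      rw [hθX, ← Ideal.Quotient.eq, hψ₀', τ_apply]
      have hσx : σ (x i) = 0 := (x i).2
      have hE : E σ d e (x i) = Pi.single i 1 := by
        rw [E, δ_of_mem σ _ (x i).2]
        exact hx i
      rw [hσx, map_zero, zero_add, hE, lin_single]
    have h0 : ∀ i, MvPowerSeries.constantCoeff (θ (MvPowerSeries.X i)) = 0 :=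
      Groth.Agent.Lib.FormalInverse50.constantCoeff_eq_zero_of_close hclose
    have hθ : ∀ f, θ f = MvPowerSeries.subst (fun i => θ (MvPowerSeries.X i)) f :=
      Groth.Agent.Lib.FormalInverse50.algHom_eq_subst θ h0
    have hbij := Groth.Agent.Lib.FormalInverse50.subst_bijective_of_close
      (fun i => θ (MvPowerSeries.X i)) hclose
    intro f g hfg
    apply hbij.1
    rw [← hθ, ← hθ]
    change ψ (φ f) = ψ (φ g)
    rw [hfg]
  exact ⟨(AlgEquiv.ofBijective φ ⟨hinj, hsurj⟩).symm⟩

end Groth.Agent.S2099
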