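import Groth.Statements.S2100
import Groth.Agent.S12208
import Mathlib.RingTheory.AlgebraicIndependent.TranscendenceBasis
import Mathlib.RingTheory.Localization.Integral
import Mathlib.Tactic

set_option autoImplicit false
universe u
open CAlg

namespace Groth.Agent.S2100

open MvPolynomial Groth.Agent.S12208 Groth.Agent.S12208.NN

section general

/-- transfer of integrality along a commutative square of ring homs. -/
lemma isIntegralElem_of_comm {A B A' B' : Type*} [CommRing A] [CommRing B] [CommRing A']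
    [CommRing B'] (φ' : A →+* B) (α : A →+* A') (β : B →+* B') (Φ : A' →+* B')
    (h : Φ.comp α = β.comp φ') {a : B} (ha : φ'.IsIntegralElem a) : Φ.IsIntegralElem (β a) := by
  obtain ⟨p, hp, hp0⟩ := ha
  refine ⟨p.map α, hp.map α, ?_⟩
  rw [Polynomial.eval₂_map, h, ← Polynomial.hom_eval₂, hp0, map_zero]

variable {k : Type u} [Field k]

/-- an algebra map between polynomial rings is integral as soon as the variables are. -/
lemma isIntegral_of_X {n m : ℕ} (φ : MvPolynomial (Fin n) k →ₐ[k] MvPolynomial (Fin m) k)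
    (h : ∀ j, φ.toRingHom.IsIntegralElem (X j)) : φ.toRingHom.IsIntegral := by
  intro p
  induction p using MvPolynomial.induction_on with
  | C a =>
    have : (C a : MvPolynomial (Fin m) k) = φ.toRingHom (C a) := by simp
    rw [this]
    exact RingHom.isIntegralElem_map _
  | add p q hp hq => exact RingHom.IsIntegralElem.add _ hp hq
  | mul_X p i hp => exact RingHom.IsIntegralElem.mul _ hp (h i)

/-- integral algebra maps between polynomial rings are finite. -/
lemma finite_of_isIntegral {n m : ℕ} (φ : MvPolynomial (Fin n) k →ₐ[k] MvPolynomial (Fin m) k)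
    (int : φ.toRingHom.IsIntegral) : φ.toRingHom.Finite := by
  have h : algebraMap k (MvPolynomial (Fin m) k) =
      φ.toRingHom.comp (algebraMap k (MvPolynomial (Fin n) k)) := by
    ext c
    simp
  have fin : Algebra.FiniteType k (MvPolynomial (Fin m) k) := inferInstance
  exact int.to_finite (h ▸ RingHom.finiteType_algebraMap.mpr fin).of_comp_finiteType

/-- `finSuccEquiv ∘ rename succ = C`. -/
lemma finSuccEquiv_rename_succ {d : ℕ} (a : MvPolynomial (Fin d) k) :
    finSuccEquiv k d (rename Fin.succ a) = Polynomial.C a := by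
  have : ((finSuccEquiv k d : MvPolynomial (Fin (d + 1)) k →ₐ[k] _).comp (rename Fin.succ)) =
      ((Algebra.ofId (MvPolynomial (Fin d) k) (Polynomial (MvPolynomial (Fin d) k))).restrictScalars k) := by
    apply MvPolynomial.algHom_ext
    intro i
    simp [finSuccEquiv_X_succ, Algebra.ofId_apply]
  have := congrArg (fun ψ => ψ a) this
  simpa [Algebra.ofId_apply] using this

lemma finSuccEquiv_symm_eq_eval₂ {d : ℕ} (p : Polynomial (MvPolynomial (Fin d) k)) :
    (finSuccEquiv k d).symm p =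
      Polynomial.eval₂ (rename Fin.succ : MvPolynomial (Fin d) k →ₐ[k]
        MvPolynomial (Fin (d + 1)) k).toRingHom (X 0) p := by
  rw [AlgEquiv.symm_apply_eq]
  induction p using Polynomial.induction_on' with
  | add p q hp hq => rw [Polynomial.eval₂_add, map_add, ← hp, ← hq]
  | monomial n a =>
    rw [Polynomial.eval₂_monomial, map_mul, map_pow, finSuccEquiv_X_zero]
    change _ = finSuccEquiv k d (rename Fin.succ a) * _
    rw [finSuccEquiv_rename_succ, Polynomial.C_mul_X_pow_eq_monomial]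

/-- the substitution `X_0 ↦ h`, `X_{i+1} ↦ X_{i+1}`. -/
noncomputable def Ψ' {d : ℕ} (h : MvPolynomial (Fin (d + 1)) k) :
    MvPolynomial (Fin (d + 1)) k →ₐ[k] MvPolynomial (Fin (d + 1)) k :=
  aeval (Fin.cases h (fun i => X i.succ))

lemma Ψ'_comp_rename {d : ℕ} (h : MvPolynomial (Fin (d + 1)) k) :
    (Ψ' h).comp (rename Fin.succ) = rename Fin.succ := by
  apply MvPolynomial.algHom_ext
  intro i
  simp [Ψ']

lemma Ψ'_isIntegral {d : ℕ} (h : MvPolynomial (Fin (d + 1)) k)
    (hu : IsUnit (finSuccEquiv k d h).leadingCoeff) (hdeg : 0 < (finSuccEquiv k d h).natDegree) :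
    (Ψ' h).toRingHom.IsIntegral := by
  apply isIntegral_of_X
  intro j
  refine Fin.cases ?_ (fun i => ?_) j
  · -- `X 0`
    set g := finSuccEquiv k d h with hg
    set ρ : MvPolynomial (Fin d) k →+* MvPolynomial (Fin (d + 1)) k :=
      (rename Fin.succ : MvPolynomial (Fin d) k →ₐ[k] MvPolynomial (Fin (d + 1)) k).toRingHom with hρ
    have hρinj : Function.Injective ρ := rename_injective _ (Fin.succ_injective d)
    let G : Polynomial (MvPolynomial (Fin (d + 1)) k) := g.map ρ - Polynomial.C (X 0)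
    have hdegG : (Polynomial.C (X 0 : MvPolynomial (Fin (d + 1)) k)).degree < (g.map ρ).degree := by
      rw [Polynomial.degree_map_eq_of_injective hρinj]
      refine lt_of_le_of_lt Polynomial.degree_C_le ?_
      exact Polynomial.natDegree_pos_iff_degree_pos.mp hdeg
    have hlead : G.leadingCoeff = ρ g.leadingCoeff := by
      rw [Polynomial.leadingCoeff_sub_of_degree_lt hdegG,
        Polynomial.leadingCoeff_map_of_injective hρinj]
    have hGu : IsUnit G.leadingCoeff := by rw [hlead]; exact hu.map ρ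
    have hev : Polynomial.eval₂ (Ψ' h).toRingHom (X 0) G = 0 := by
      rw [Polynomial.eval₂_sub, Polynomial.eval₂_C, Polynomial.eval₂_map]
      have h1 : (Ψ' h).toRingHom.comp ρ = ρ := by
        have := Ψ'_comp_rename h
        exact congrArg (fun ψ : MvPolynomial (Fin d) k →ₐ[k] MvPolynomial (Fin (d + 1)) k =>
          ψ.toRingHom) this
      rw [h1, hρ, ← finSuccEquiv_symm_eq_eval₂, hg, AlgEquiv.symm_apply_apply]
      simp [Ψ']
    refine ⟨hGu.unit⁻¹ • G, Polynomial.monic_of_isUnit_leadingCoeff_inv_smul hGu, ?_⟩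
    rw [Units.smul_def, Polynomial.smul_eq_C_mul, Polynomial.eval₂_mul, hev, mul_zero]
  · have : (X i.succ : MvPolynomial (Fin (d + 1)) k) = (Ψ' h).toRingHom (X i.succ) := by
      simp [Ψ']
    rw [this]
    exact RingHom.isIntegralElem_map _

lemma natDegree_pos_of_not_isUnit {d : ℕ} (f : MvPolynomial (Fin (d + 1)) k) (fne : f ≠ 0)
    (hf : ¬ IsUnit f) : 0 < (finSuccEquiv k d (T f f)).natDegree := by
  by_contra h0
  have h0 : (finSuccEquiv k d (T f f)).natDegree = 0 := by omega
  apply hf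
  have hu := T_leadingcoeff_isUnit f fne
  have hg : finSuccEquiv k d (T f f) = Polynomial.C (finSuccEquiv k d (T f f)).leadingCoeff := by
    rw [Polynomial.leadingCoeff, h0]; exact Polynomial.eq_C_of_natDegree_eq_zero h0
  have h1 : IsUnit (finSuccEquiv k d (T f f)) := by rw [hg]; exact hu.map Polynomial.C
  have h2 : IsUnit (T f f) := (isUnit_map_iff (finSuccEquiv k d) _).1 h1
  exact (isUnit_map_iff (T f) _).1 h2

/-- reindexing `last ↦ 0`, `castSucc i ↦ succ i`. -/
def rot (d : ℕ) : Fin (d + 1) → Fin (d + 1) := Fin.lastCases 0 Fin.succ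

lemma rot_surjective (d : ℕ) : Function.Surjective (rot d) := by
  intro j
  refine Fin.cases ⟨Fin.last d, by simp [rot]⟩ (fun i => ⟨i.castSucc, by simp [rot]⟩) j

/-- the substitution `X_last ↦ f`, `X_{castSucc i} ↦ θ (X_i) = X_{i+1} - X_0 ^ r_{i+1}`. -/
noncomputable def ψ {d : ℕ} (f : MvPolynomial (Fin (d + 1)) k) :
    MvPolynomial (Fin (d + 1)) k →ₐ[k] MvPolynomial (Fin (d + 1)) k :=
  aeval (Fin.lastCases f (fun i => θ f (X i)))

lemma ψ_eq {d : ℕ} (f : MvPolynomial (Fin (d + 1)) k) :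
    ψ f = ((T f).symm : MvPolynomial (Fin (d + 1)) k →ₐ[k] _).comp
      ((Ψ' (T f f)).comp (rename (rot d))) := by
  apply MvPolynomial.algHom_ext
  intro j
  refine Fin.lastCases ?_ (fun i => ?_) j
  · simp only [ψ, aeval_X, Fin.lastCases_last, AlgHom.comp_apply, rename_X, rot, Ψ',
      Fin.cases_zero]
    exact ((T f).symm_apply_apply f).symm
  · simp only [ψ, aeval_X, Fin.lastCases_castSucc, AlgHom.comp_apply, rename_X, rot, Ψ',
      Fin.cases_succ, θ]
    have : ((T f).symm : MvPolynomial (Fin (d + 1)) k →ₐ[k] _) (X i.succ) =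
        T1 f (-1) (X i.succ) := rfl
    rw [this, aeval_X]

lemma ψ_isIntegral {d : ℕ} (f : MvPolynomial (Fin (d + 1)) k) (fne : f ≠ 0)
    (hf : ¬ IsUnit f) : (ψ f).toRingHom.IsIntegral := by
  rw [ψ_eq]
  have h1 : (rename (rot d) : MvPolynomial (Fin (d + 1)) k →ₐ[k]
      MvPolynomial (Fin (d + 1)) k).toRingHom.IsIntegral :=
    RingHom.isIntegral_of_surjective _ (rename_surjective _ (rot_surjective d))
  have h2 := Ψ'_isIntegral (T f f) (T_leadingcoeff_isUnit f fne)
    (natDegree_pos_of_not_isUnit f fne hf)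
  have h3 : ((T f).symm : MvPolynomial (Fin (d + 1)) k →ₐ[k]
      MvPolynomial (Fin (d + 1)) k).toRingHom.IsIntegral :=
    RingHom.isIntegral_of_surjective _ (T f).symm.surjective
  exact RingHom.IsIntegral.trans _ _ (RingHom.IsIntegral.trans _ _ h1 h2) h3

lemma ψ_last {d : ℕ} (f : MvPolynomial (Fin (d + 1)) k) : ψ f (X (Fin.last d)) = f := by
  simp [ψ]

lemma ψ_comp_rename {d : ℕ} (f : MvPolynomial (Fin (d + 1)) k) :
    (ψ f).comp (rename Fin.castSucc) = θ f := by
  apply MvPolynomial.algHom_ext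
  intro i
  simp [ψ]

/-- extension of `φ'` by the identity on the last variable. -/
noncomputable def Φ {d : ℕ} (φ' : MvPolynomial (Fin d) k →ₐ[k] MvPolynomial (Fin d) k) :
    MvPolynomial (Fin (d + 1)) k →ₐ[k] MvPolynomial (Fin (d + 1)) k :=
  aeval (Fin.lastCases (X (Fin.last d)) (fun i => rename Fin.castSucc (φ' (X i))))

lemma Φ_last {d : ℕ} (φ' : MvPolynomial (Fin d) k →ₐ[k] MvPolynomial (Fin d) k) :
    Φ φ' (X (Fin.last d)) = X (Fin.last d) := by
  simp [Φ]

lemma Φ_comp_rename {d : ℕ} (φ' : MvPolynomial (Fin d) k →ₐ[k] MvPolynomial (Fin d) k) :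
    (Φ φ').comp (rename Fin.castSucc) = (rename Fin.castSucc).comp φ' := by
  apply MvPolynomial.algHom_ext
  intro i
  simp [Φ]

lemma Φ_isIntegral {d : ℕ} (φ' : MvPolynomial (Fin d) k →ₐ[k] MvPolynomial (Fin d) k)
    (h : φ'.toRingHom.IsIntegral) : (Φ φ').toRingHom.IsIntegral := by
  apply isIntegral_of_X
  intro j
  refine Fin.lastCases ?_ (fun i => ?_) j
  · have : (X (Fin.last d) : MvPolynomial (Fin (d + 1)) k) = (Φ φ').toRingHom (X (Fin.last d)) :=
      (Φ_last φ').symm
    rw [this]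
    exact RingHom.isIntegralElem_map _
  · have h1 : (X i.castSucc : MvPolynomial (Fin (d + 1)) k) =
        (rename Fin.castSucc : MvPolynomial (Fin d) k →ₐ[k]
          MvPolynomial (Fin (d + 1)) k).toRingHom (X i) := by simp
    rw [h1]
    refine isIntegralElem_of_comm φ'.toRingHom
      (rename Fin.castSucc : MvPolynomial (Fin d) k →ₐ[k]
          MvPolynomial (Fin (d + 1)) k).toRingHom _ _ ?_ (h (X i))
    exact congrArg (fun ψ : MvPolynomial (Fin d) k →ₐ[k] MvPolynomial (Fin (d + 1)) k =>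
          ψ.toRingHom) (Φ_comp_rename φ')

/-- the retraction killing the last variable. -/
noncomputable def π (d : ℕ) : MvPolynomial (Fin (d + 1)) k →ₐ[k] MvPolynomial (Fin d) k :=
  aeval (Fin.lastCases 0 X)

lemma π_comp_rename (d : ℕ) :
    (π d : MvPolynomial (Fin (d + 1)) k →ₐ[k] _).comp (rename Fin.castSucc) = AlgHom.id k _ := by
  apply MvPolynomial.algHom_ext
  intro i
  simp [π]

lemma sub_rename_π_mem {d : ℕ} (g : MvPolynomial (Fin (d + 1)) k) :
    g - rename Fin.castSucc (π d g) ∈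
      Ideal.span {(X (Fin.last d) : MvPolynomial (Fin (d + 1)) k)} := by
  set J := Ideal.span {(X (Fin.last d) : MvPolynomial (Fin (d + 1)) k)}
  have : (Ideal.Quotient.mkₐ k J).comp ((rename Fin.castSucc).comp (π d)) =
      Ideal.Quotient.mkₐ k J := by
    apply MvPolynomial.algHom_ext
    intro j
    refine Fin.lastCases ?_ (fun i => ?_) j
    · simp only [AlgHom.comp_apply, π, aeval_X, Fin.lastCases_last, map_zero]
      symm
      rw [Ideal.Quotient.mkₐ_eq_mk, Ideal.Quotient.eq_zero_iff_mem]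
      exact Ideal.subset_span rfl
    · simp [π]
  have h := congrArg (fun ψ => ψ g) this
  simp only [AlgHom.comp_apply, Ideal.Quotient.mkₐ_eq_mk] at h
  rw [← Ideal.Quotient.eq_zero_iff_mem, map_sub, h, sub_self]

/-- the ideal `(X_r, …, X_{n-1})`. -/
noncomputable def Jge (n r : ℕ) : Ideal (MvPolynomial (Fin n) k) :=
  Ideal.span (Set.range fun i : {i : Fin n // r ≤ (i : ℕ)} => (X (i : Fin n) : MvPolynomial (Fin n) k))

lemma X_mem_Jge {n r : ℕ} (i : Fin n) (hi : r ≤ (i : ℕ)) :
    (X i : MvPolynomial (Fin n) k) ∈ Jge (k := k) n r :=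
  Ideal.subset_span ⟨⟨i, hi⟩, rfl⟩

lemma π_mem_Jge {d r : ℕ} {g : MvPolynomial (Fin (d + 1)) k} (hg : g ∈ Jge (k := k) (d + 1) r) :
    π d g ∈ Jge (k := k) d r := by
  have h1 : π d g ∈ (Jge (k := k) (d + 1) r).map (π d) := Ideal.mem_map_of_mem _ hg
  refine (?_ : (Jge (k := k) (d + 1) r).map (π d) ≤ Jge (k := k) d r) h1
  rw [Jge, Ideal.map_span, Ideal.span_le]
  rintro _ ⟨_, ⟨⟨j, hj⟩, rfl⟩, rfl⟩
  revert hj
  refine Fin.lastCases ?_ (fun i => ?_) j
  · intro _
    simp [π]
  · intro hj
    have : (π d : MvPolynomial (Fin (d + 1)) k →ₐ[k] _) (X i.castSucc) = X i := by simp [π]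
    simp only [SetLike.mem_coe]
    rw [this]
    exact X_mem_Jge i (by simpa using hj)

lemma rename_mem_Jge {d r : ℕ} {g : MvPolynomial (Fin d) k} (hg : g ∈ Jge (k := k) d r) :
    rename Fin.castSucc g ∈ Jge (k := k) (d + 1) r := by
  have h1 : rename Fin.castSucc g ∈ (Jge (k := k) d r).map
      (rename Fin.castSucc : MvPolynomial (Fin d) k →ₐ[k] MvPolynomial (Fin (d + 1)) k) :=
    Ideal.mem_map_of_mem _ hg
  refine (?_ : (Jge (k := k) d r).map (rename Fin.castSucc : MvPolynomial (Fin d) k →ₐ[k]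
    MvPolynomial (Fin (d + 1)) k) ≤ Jge (k := k) (d + 1) r) h1
  rw [Jge, Ideal.map_span, Ideal.span_le]
  rintro _ ⟨_, ⟨⟨j, hj⟩, rfl⟩, rfl⟩
  simp only [rename_X, SetLike.mem_coe]
  exact X_mem_Jge _ (by simpa using hj)

lemma comap_step {d r : ℕ} (hr : r ≤ d) (q : Ideal (MvPolynomial (Fin (d + 1)) k))
    (f : MvPolynomial (Fin (d + 1)) k) (hf : f ∈ q)
    (φ' : MvPolynomial (Fin d) k →ₐ[k] MvPolynomial (Fin d) k)
    (h : (q.comap (θ f)).comap φ' = Jge (k := k) d r) :
    q.comap ((ψ f).comp (Φ φ')) = Jge (k := k) (d + 1) r := by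
  ext g
  obtain ⟨h', hh'⟩ := Ideal.mem_span_singleton'.1 (sub_rename_π_mem g)
  have hg : g = rename Fin.castSucc (π d g) + h' * X (Fin.last d) := by rw [hh']; ring
  have key : ((ψ f).comp (Φ φ')) g ∈ q ↔ π d g ∈ Jge (k := k) d r := by
    rw [← h, Ideal.mem_comap, Ideal.mem_comap]
    have e1 : ((ψ f).comp (Φ φ')) (rename Fin.castSucc (π d g)) = θ f (φ' (π d g)) := by
      have := congrArg (fun ψ' => ψ' (π d g)) (Φ_comp_rename φ')
      simp only [AlgHom.comp_apply] at this
      rw [AlgHom.comp_apply, this]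
      have := congrArg (fun ψ' => ψ' (φ' (π d g))) (ψ_comp_rename f)
      simpa only [AlgHom.comp_apply] using this
    have e2 : ((ψ f).comp (Φ φ')) (h' * X (Fin.last d)) ∈ q := by
      rw [map_mul, AlgHom.comp_apply _ _ (X (Fin.last d)), Φ_last, ψ_last]
      exact Ideal.mul_mem_left _ _ hf
    nth_rewrite 1 [hg]
    rw [map_add, e1]
    constructor
    · intro h3
      have := Ideal.sub_mem _ h3 e2
      simpa using this
    · intro h3
      exact Ideal.add_mem _ h3 e2
  rw [Ideal.mem_comap, key]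
  constructor
  · intro h3
    rw [hg]
    exact Ideal.add_mem _ (rename_mem_Jge h3)
      (Ideal.mul_mem_left _ _ (X_mem_Jge _ (by simpa using hr)))
  · intro h3
    exact π_mem_Jge h3

lemma Jge_self (n : ℕ) : Jge (k := k) n n = ⊥ := by
  rw [Jge, Ideal.span_eq_bot]
  rintro _ ⟨⟨i, hi⟩, rfl⟩
  exact absurd i.2 (by omega)

theorem exists_integral_comap (n : ℕ) (q : Ideal (MvPolynomial (Fin n) k)) [hq : q.IsPrime] :
    ∃ r ≤ n, ∃ φ : MvPolynomial (Fin n) k →ₐ[k] MvPolynomial (Fin n) k,
      φ.toRingHom.IsIntegral ∧ q.comap φ = Jge (k := k) n r := by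
  induction n with
  | zero =>
    refine ⟨0, le_rfl, AlgHom.id k _, RingHom.isIntegral_of_surjective _ Function.surjective_id, ?_⟩
    rw [Jge_self]
    change q = ⊥
    rw [eq_bot_iff]
    intro f hf
    by_contra hne
    have hne : f ≠ 0 := hne
    have eq := eq_C_of_isEmpty f
    have hc : coeff 0 f ≠ 0 := fun h0 => hne (by rw [eq, h0, map_zero])
    apply hq.ne_top
    rw [Ideal.eq_top_iff_one]
    have : (1 : MvPolynomial (Fin 0) k) = C (coeff 0 f)⁻¹ * f := by
      nth_rewrite 2 [eq]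
      rw [← map_mul, inv_mul_cancel₀ hc, map_one]
    rw [this]
    exact Ideal.mul_mem_left _ _ hf
  | succ d ih =>
    by_cases hbot : q = ⊥
    · refine ⟨d + 1, le_rfl, AlgHom.id k _,
        RingHom.isIntegral_of_surjective _ Function.surjective_id, ?_⟩
      rw [Jge_self, hbot]
      rfl
    · obtain ⟨f, hfq, fne⟩ := Submodule.exists_mem_ne_zero_of_ne_bot hbot
      have hfu : ¬ IsUnit f := fun hu => hq.ne_top (Ideal.eq_top_of_isUnit_mem _ hfq hu)
      have : (q.comap (θ f)).IsPrime := Ideal.comap_isPrime _ _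
      obtain ⟨r, hr, φ', hφ', hcomap⟩ := ih (q.comap (θ f))
      refine ⟨r, by omega, (ψ f).comp (Φ φ'), ?_, comap_step hr q f hfq φ' hcomap⟩
      exact RingHom.IsIntegral.trans _ _ (Φ_isIntegral φ' hφ') (ψ_isIntegral f fne hfu)

section trdeg

variable {n r : ℕ} (hr : r ≤ n)

/-- inclusion of the first `r` variables. -/
noncomputable abbrev α : MvPolynomial (Fin r) k →ₐ[k] MvPolynomial (Fin n) k :=
  rename (Fin.castLE hr)

/-- the retraction killing the variables `X_i`, `i ≥ r`. -/
noncomputable abbrev πr : MvPolynomial (Fin n) k →ₐ[k] MvPolynomial (Fin r) k :=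
  killCompl (Fin.castLE_injective hr)

lemma πr_X_of_le (j : Fin n) (hj : r ≤ (j : ℕ)) : πr (k := k) hr (X j) = 0 := by
  simpa [killCompl] using hj

lemma πr_Jge {g : MvPolynomial (Fin n) k} (hg : g ∈ Jge (k := k) n r) : πr hr g = 0 := by
  have h1 : πr hr g ∈ (Jge (k := k) n r).map (πr (k := k) hr) := Ideal.mem_map_of_mem _ hg
  have : (Jge (k := k) n r).map (πr (k := k) hr) ≤ ⊥ := by
    rw [Jge, Ideal.map_span, Ideal.span_le]
    rintro _ ⟨_, ⟨⟨j, hj⟩, rfl⟩, rfl⟩
    simp only [SetLike.mem_coe, Ideal.mem_bot]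
    exact πr_X_of_le hr j hj
  simpa using this h1

lemma α_πr_sub_mem (c : MvPolynomial (Fin n) k) : α hr (πr hr c) - c ∈ Jge (k := k) n r := by
  set J := Jge (k := k) n r
  have : (Ideal.Quotient.mkₐ k J).comp ((α hr).comp (πr hr)) = Ideal.Quotient.mkₐ k J := by
    apply MvPolynomial.algHom_ext
    intro j
    by_cases hj : r ≤ (j : ℕ)
    · simp only [AlgHom.comp_apply, πr_X_of_le hr j hj, map_zero]
      symm
      rw [Ideal.Quotient.mkₐ_eq_mk, Ideal.Quotient.eq_zero_iff_mem]
      exact X_mem_Jge j hj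
    · have hj' : (j : ℕ) < r := by omega
      have : (X j : MvPolynomial (Fin n) k) = rename (Fin.castLE hr) (X ⟨j, hj'⟩) := by
        simp
      simp only [AlgHom.comp_apply]
      rw [this, killCompl_rename_app]
  have h := congrArg (fun ψ => ψ c) this
  simp only [AlgHom.comp_apply, Ideal.Quotient.mkₐ_eq_mk] at h
  rw [← Ideal.Quotient.eq_zero_iff_mem, map_sub, h, sub_self]

include hr in
lemma trdeg_residueField (q : Ideal (MvPolynomial (Fin n) k)) [q.IsPrime]
    (φ : MvPolynomial (Fin n) k →ₐ[k] MvPolynomial (Fin n) k) (hφ : φ.toRingHom.IsIntegral)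
    (hc : q.comap φ = Jge (k := k) n r) : Algebra.trdeg k q.ResidueField = r := by
  let B := MvPolynomial (Fin n) k ⧸ q
  let L := q.ResidueField
  let β₀ : MvPolynomial (Fin r) k →ₐ[k] B := (Ideal.Quotient.mkₐ k q).comp (φ.comp (α hr))
  -- injectivity
  have hinj : Function.Injective β₀ := by
    rw [injective_iff_map_eq_zero]
    intro p hp
    have h1 : φ (α hr p) ∈ q := by
      rw [← Ideal.Quotient.eq_zero_iff_mem]; exact hp
    have h2 : α hr p ∈ Jge (k := k) n r := by rw [← hc]; exact h1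
    have h3 := πr_Jge hr h2
    rwa [killCompl_rename_app] at h3
  -- integrality
  have hint : β₀.toRingHom.IsIntegral := by
    intro b
    obtain ⟨x, rfl⟩ := Ideal.Quotient.mk_surjective b
    refine isIntegralElem_of_comm φ.toRingHom (πr (k := k) hr).toRingHom
      (Ideal.Quotient.mk q) β₀.toRingHom ?_ (hφ x)
    ext c
    · simp [β₀]
    · simp only [RingHom.comp_apply]
      change Ideal.Quotient.mk q (φ (α hr (πr hr (X c)))) = Ideal.Quotient.mk q (φ (X c))
      rw [Ideal.Quotient.eq, ← map_sub]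
      have := α_πr_sub_mem (k := k) hr (X c)
      rw [← hc] at this
      exact this
  let alg1 : Algebra (MvPolynomial (Fin r) k) B := β₀.toRingHom.toAlgebra
  let alg2 : Algebra (MvPolynomial (Fin r) k) L :=
    ((algebraMap B L).comp β₀.toRingHom).toAlgebra
  have : IsScalarTower (MvPolynomial (Fin r) k) B L := .of_algebraMap_eq fun _ => rfl
  have : IsScalarTower k (MvPolynomial (Fin r) k) L := .of_algebraMap_eq fun c => by
    change algebraMap k L c = algebraMap B L (β₀ (algebraMap k _ c))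
    rw [AlgHom.commutes, ← IsScalarTower.algebraMap_apply]
  have : Algebra.IsIntegral (MvPolynomial (Fin r) k) B := ⟨hint⟩
  have : Algebra.IsAlgebraic B L := IsLocalization.isAlgebraic L (nonZeroDivisors B)
  have : Algebra.IsAlgebraic (MvPolynomial (Fin r) k) L :=
    Algebra.IsIntegral.trans_isAlgebraic (MvPolynomial (Fin r) k) B L
  have : FaithfulSMul (MvPolynomial (Fin r) k) L := by
    rw [faithfulSMul_iff_algebraMap_injective]
    exact (Ideal.injective_algebraMap_quotient_residueField q).comp hinj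
  have h := trdeg_add_eq k (MvPolynomial (Fin r) k) (A := L)
  rw [MvPolynomial.trdeg_of_isDomain, trdeg_eq_zero] at h
  rw [← h]
  simp

end trdeg

end general

/-- Let `k` be a field, `𝔮` a prime of `k[x_1, …, x_n]` and `r` the transcendence degree of `κ(𝔮)` over
`k`. Then there is a finite `k`-algebra map `φ : k[y_1, …, y_n] → k[x_1, …, x_n]` with `φ⁻¹(𝔮) =
(y_{r+1}, …, y_n)`. -/
theorem result {k : Type u} [Field k] (n r : ℕ) (q : Ideal (MvPolynomial (Fin n) k))
    [q.IsPrime] (hr : Algebra.trdeg k q.ResidueField = r) :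
    ∃ φ : MvPolynomial (Fin n) k →ₐ[k] MvPolynomial (Fin n) k, φ.toRingHom.Finite ∧
      q.comap φ = Ideal.span (Set.range fun i : {i : Fin n // r ≤ (i : ℕ)} => MvPolynomial.X (i : Fin n)) := by
  obtain ⟨r', hr', φ, hφ, hc⟩ := exists_integral_comap n q
  have h := trdeg_residueField hr' q φ hφ hc
  have hrr : r' = r := by
    rw [hr] at h
    exact_mod_cast h.symm
  subst hrr
  exact ⟨φ, finite_of_isIntegral φ hφ, hc⟩

end Groth.Agent.S2100
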