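import Groth.Statements.S2102
import Mathlib.Topology.Sheaves.SheafCondition.UniqueGluing

set_option autoImplicit false
universe u
open CategoryTheory AlgebraicGeometry
open Mor

namespace Groth.Agent.S2102

theorem exists_section_of_forall_mem_stalk (X : Scheme.{u}) [IsIntegral X] (f : X.functionField)
    (hf : ∀ x : X, f ∈ Set.range (algebraMap (X.presheaf.stalk x) X.functionField)) :
    ∃ s : Γ(X, ⊤), X.presheaf.germ ⊤ (genericPoint X) trivial s = f := by
  have h1 : ∀ x : X, ∃ (U : X.Opens) (hxU : x ∈ U) (t : Γ(X, U)),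
      haveI : Nonempty U := ⟨⟨x, hxU⟩⟩; X.germToFunctionField U t = f := by
    intro x
    obtain ⟨s, hs⟩ := hf x
    obtain ⟨U, hxU, t, ht⟩ := X.presheaf.exists_germ_eq s
    refine ⟨U, hxU, t, ?_⟩
    have : Nonempty U := ⟨⟨x, hxU⟩⟩
    rw [← hs, ← ht, Scheme.algebraMap_germ_eq_germToFunctionField]
  choose U hxU t ht using h1
  have hgen : ∀ x, genericPoint X ∈ U x := fun x =>
    ((genericPoint_spec X).mem_open_set_iff (U x).isOpen).mpr ⟨x, trivial, hxU x⟩
  have ht' : ∀ x, X.presheaf.germ (U x) (genericPoint X) (hgen x) (t x) = f := fun x => ht x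
  have hcompat : TopCat.Presheaf.IsCompatible X.presheaf U t := by
    intro x y
    have hxy : genericPoint X ∈ U x ⊓ U y := ⟨hgen x, hgen y⟩
    apply germ_injective_of_isIntegral X (genericPoint X) hxy
    rw [TopCat.Presheaf.germ_res_apply, TopCat.Presheaf.germ_res_apply, ht', ht']
  obtain ⟨s, hs, -⟩ := X.sheaf.existsUnique_gluing' U ⊤ (fun x => homOfLE le_top)
    (fun x _ => TopologicalSpace.Opens.mem_iSup.mpr ⟨x, hxU x⟩) t hcompat
  refine ⟨s, ?_⟩
  have := hs (genericPoint X)
  rw [← ht' (genericPoint X), ← this]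
  exact (TopCat.Presheaf.germ_res_apply X.presheaf _ _ _ _).symm

/-- The ring of global sections of an integral normal scheme is an integrally closed domain. -/
theorem result (X : Scheme.{u}) [IsIntegral X] (hX : Pi1.IsNormalScheme X) :
    IsIntegrallyClosed (Γ(X, ⊤) : Type u) := by
  have hne : Nonempty (⊤ : X.Opens) := ⟨⟨genericPoint X, trivial⟩⟩
  rw [isIntegrallyClosed_iff (FractionRing Γ(X, ⊤))]
  intro z hz
  let φ : Γ(X, ⊤) →+* X.functionField := (X.presheaf.germ ⊤ (genericPoint X) trivial).hom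
  have hφ : Function.Injective φ :=
    germ_injective_of_isIntegral X (U := ⊤) (genericPoint X) trivial
  let ι : FractionRing Γ(X, ⊤) →+* X.functionField := IsFractionRing.lift hφ
  have hι : ∀ s, ι (algebraMap Γ(X, ⊤) _ s) = φ s := fun s => IsFractionRing.lift_algebraMap hφ s
  have key : ∀ x : X, ι z ∈ Set.range (algebraMap (X.presheaf.stalk x) X.functionField) := by
    intro x
    obtain ⟨hd, hic⟩ := hX x
    have hint : IsIntegral (X.presheaf.stalk x) (ι z) := by
      obtain ⟨p, hp, hpz⟩ := hz
      refine ⟨p.map (X.presheaf.germ ⊤ x trivial).hom, hp.map _, ?_⟩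
      rw [Polynomial.eval₂_map]
      have hcomp : (algebraMap (X.presheaf.stalk x) X.functionField).comp
          (X.presheaf.germ ⊤ x trivial).hom = ι.comp (algebraMap Γ(X, ⊤) (FractionRing Γ(X, ⊤))) := by
        ext s
        simp only [RingHom.comp_apply, hι]
        exact Scheme.algebraMap_germ_eq_germToFunctionField (X := X) (U := ⊤) trivial s
      rw [hcomp, ← Polynomial.hom_eval₂, hpz, map_zero]
    exact IsIntegrallyClosed.algebraMap_eq_of_integral hint
  obtain ⟨s, hs⟩ := exists_section_of_forall_mem_stalk X (ι z) key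
  refine ⟨s, ?_⟩
  apply ι.injective
  rw [hι]
  exact hs

end Groth.Agent.S2102
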