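import Groth.Statements.S2109
import Mathlib
import Groth.Agent.Lib.H8CM6
import Groth.Agent.Lib.RegularLocal

set_option autoImplicit false
universe u
open Smoothing

namespace Groth.Agent.S2109

section Helpers

set_option autoImplicit false
set_option linter.style.haveILetI false

namespace T1

/-- Spreading out: if `π` is a nonzerodivisor modulo `J` after localizing at `q`, then some multiple
`s π` (`s ∉ q`) has equal annihilators of `s π` and `(s π)²` modulo `J`. -/
theorem exists_mul_ann {Λ : Type u} [CommRing Λ] [IsNoetherianRing Λ] (q : Ideal Λ) [q.IsPrime]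
    (J : Ideal Λ) (π : Λ) (hloc : ∀ x : Λ, π * x ∈ J → ∃ s, s ∉ q ∧ s * x ∈ J) :
    ∃ s, s ∉ q ∧ ∀ x : Λ, (s * π) ^ 2 * x ∈ J → (s * π) * x ∈ J := by
  classical
  -- the ideal `K₂ = (J : π²)`
  let K₂ : Ideal Λ := J.colon {π ^ 2}
  have hK₂ : ∀ x, x ∈ K₂ ↔ π ^ 2 * x ∈ J := by
    intro x
    change x ∈ J.colon {π ^ 2} ↔ _
    rw [Submodule.mem_colon_singleton, smul_eq_mul, mul_comm]
  obtain ⟨S, hS⟩ : K₂.FG := IsNoetherian.noetherian K₂
  have h1 : ∀ k ∈ S, ∃ s, s ∉ q ∧ s * (π * k) ∈ J := by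
    intro k hk
    apply hloc
    have : k ∈ K₂ := hS ▸ Submodule.subset_span hk
    rw [hK₂] at this
    rw [← mul_assoc, ← pow_two]
    exact this
  choose! σ hσq hσJ using h1
  let s₀ : Λ := ∏ k ∈ S, σ k
  have hs₀ : s₀ ∉ q := by
    intro h
    obtain ⟨k, hk, hkq⟩ := (Ideal.IsPrime.prod_mem_iff).mp h
    exact hσq k hk hkq
  have h2 : ∀ x ∈ K₂, s₀ * (π * x) ∈ J := by
    intro x hx
    rw [← hS] at hx
    induction hx using Submodule.span_induction with
    | mem k hk =>
      obtain ⟨c, hc⟩ := Finset.dvd_prod_of_mem σ hk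
      change s₀ * (π * k) ∈ J
      have : s₀ * (π * k) = c * (σ k * (π * k)) := by
        change (∏ k ∈ S, σ k) * (π * k) = _
        rw [hc]; ring
      rw [this]
      exact J.mul_mem_left _ (hσJ k hk)
    | zero => simp
    | add x y _ _ hx hy =>
      have : s₀ * (π * (x + y)) = s₀ * (π * x) + s₀ * (π * y) := by ring
      rw [this]; exact J.add_mem hx hy
    | smul a x _ hx =>
      have : s₀ * (π * (a • x)) = a * (s₀ * (π * x)) := by rw [smul_eq_mul]; ring
      rw [this]; exact J.mul_mem_left _ hx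
  -- stabilization of `(J : s₀^k)`
  let c : ℕ →o Ideal Λ :=
    ⟨fun k => J.colon {s₀ ^ k}, by
      intro a b hab x hx
      rw [Submodule.mem_colon_singleton, smul_eq_mul] at hx ⊢
      obtain ⟨m, rfl⟩ := Nat.exists_eq_add_of_le hab
      have : x * s₀ ^ (a + m) = s₀ ^ m * (x * s₀ ^ a) := by ring
      rw [this]
      exact J.mul_mem_left _ hx⟩
  have hc : ∀ k x, x ∈ c k ↔ s₀ ^ k * x ∈ J := by
    intro k x
    change x ∈ J.colon {s₀ ^ k} ↔ _
    rw [Submodule.mem_colon_singleton, smul_eq_mul, mul_comm]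
  obtain ⟨N, hN⟩ := monotone_stabilizes_iff_noetherian.mpr (inferInstance : IsNoetherian Λ Λ) c
  refine ⟨s₀ ^ (N + 1), fun h => hs₀ (Ideal.IsPrime.mem_of_pow_mem inferInstance _ h), ?_⟩
  intro x hx
  have h3 : (s₀ ^ (N + 1)) ^ 2 * x ∈ K₂ := by
    rw [hK₂]
    have : π ^ 2 * ((s₀ ^ (N + 1)) ^ 2 * x) = (s₀ ^ (N + 1) * π) ^ 2 * x := by ring
    rw [this]; exact hx
  have h4 := h2 _ h3
  have h5 : π * x ∈ c (2 * (N + 1) + 1) := by
    rw [hc]
    have : s₀ ^ (2 * (N + 1) + 1) * (π * x) = s₀ * (π * ((s₀ ^ (N + 1)) ^ 2 * x)) := by ring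
    rw [this]; exact h4
  rw [← hN (2 * (N + 1) + 1) (by omega), hc] at h5
  have : s₀ ^ (N + 1) * π * x = s₀ * (s₀ ^ N * (π * x)) := by ring
  rw [this]
  exact J.mul_mem_left _ h5

end T1

set_option autoImplicit false
set_option linter.style.haveILetI false

namespace T2
open IsLocalRing RingTheory.Sequence

lemma ringKrullDim_quotient_eq_of_radical_eq {R : Type u} [CommRing R] {I J : Ideal R}
    (h : I.radical = J.radical) : ringKrullDim (R ⧸ I) = ringKrullDim (R ⧸ J) := by
  rw [ringKrullDim_quotient, ringKrullDim_quotient, ← PrimeSpectrum.zeroLocus_radical I,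
    ← PrimeSpectrum.zeroLocus_radical J, h]

lemma ofList_ofFn {R : Type u} [CommRing R] {m : ℕ} (f : Fin m → R) :
    Ideal.ofList (List.ofFn f) = Ideal.span (Set.range f) := by
  unfold Ideal.ofList
  congr 1
  ext x
  simp [List.mem_ofFn]

/-- In a regular local ring, a regular parameter is a nonzerodivisor modulo powers of the previous
ones. -/
theorem nzd_mod_powers (R : Type u) [CommRing R] [IsRegularLocalRing R] (d : ℕ)
    (hd : ringKrullDim R = d) (y : Fin d → R) (hy : Ideal.span (Set.range y) = maximalIdeal R)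
    (e : ℕ) (he : 0 < e) (t : Fin d) (z : R)
    (hz : y t * z ∈ Ideal.span (Set.range fun j : {j : Fin d // (j : ℕ) < (t : ℕ)} => y j ^ e)) :
    z ∈ Ideal.span (Set.range fun j : {j : Fin d // (j : ℕ) < (t : ℕ)} => y j ^ e) := by
  haveI : LocCoh.IsCohenMacaulayLocalRing R := Groth.Agent.Lib.H8CM.isCMLocalRing_of_isRegularLocalRing
  have hym : ∀ i, y i ∈ maximalIdeal R := fun i => hy ▸ Ideal.subset_span ⟨i, rfl⟩
  have ht : (t : ℕ) ≤ d := t.isLt.le
  have ht1 : (t : ℕ) + 1 ≤ d := t.isLt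
  -- the lists
  let as : List R := List.ofFn (fun j : Fin t => y (Fin.castLE ht j) ^ e)
  let L : List R := as ++ [y t]
  let L' : List R := List.ofFn (Fin.take ((t : ℕ) + 1) ht1 y)
  have has : Ideal.ofList as =
      Ideal.span (Set.range fun j : {j : Fin d // (j : ℕ) < (t : ℕ)} => y j ^ e) := by
    rw [ofList_ofFn]
    congr 1
    ext x
    constructor
    · rintro ⟨j, rfl⟩
      exact ⟨⟨Fin.castLE ht j, j.isLt⟩, rfl⟩
    · rintro ⟨⟨j, hj⟩, rfl⟩
      exact ⟨⟨j, hj⟩, rfl⟩
  have hL : Ideal.ofList L = Ideal.ofList as ⊔ Ideal.span {y t} := by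
    rw [Ideal.ofList_append, Ideal.ofList_singleton]
  have hL' : Ideal.ofList L' = Ideal.span (Set.range (Fin.take ((t : ℕ) + 1) ht1 y)) :=
    ofList_ofFn _
  -- membership in the maximal ideal
  have hLm : ∀ r ∈ L, r ∈ maximalIdeal R := by
    intro r hr
    rcases List.mem_append.mp hr with h | h
    · obtain ⟨j, rfl⟩ := (List.mem_ofFn' _ _).mp h
      exact Ideal.pow_mem_of_mem _ (hym _) e he
    · rw [List.mem_singleton] at h
      rw [h]; exact hym t
  have hL'm : ∀ r ∈ L', r ∈ maximalIdeal R := by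
    intro r hr
    obtain ⟨j, rfl⟩ := (List.mem_ofFn' _ _).mp hr
    exact hym _
  -- `L'` is weakly regular
  have hreg : IsWeaklyRegular R (List.ofFn y) :=
    (Groth.Agent.Lib.RegularLocal.isRegular_ofFn R d hd y hy).toIsWeaklyRegular
  have hreg' : IsWeaklyRegular R L' := by
    have h1 : List.ofFn y = L' ++ (List.ofFn y).drop ((t : ℕ) + 1) := by
      change _ = List.ofFn (Fin.take ((t : ℕ) + 1) ht1 y) ++ _
      rw [Fin.ofFn_take_eq_take_ofFn, List.take_append_drop]
    rw [h1] at hreg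
    exact ((isWeaklyRegular_append_iff R _ _).mp hreg).1
  have hdim' := (Groth.Agent.Lib.H8CM.isWeaklyRegular_self_iff L' hL'm).mp hreg'
  -- radicals agree
  have hrad : (Ideal.ofList L).radical = (Ideal.ofList L').radical := by
    apply le_antisymm
    · apply Ideal.radical_mono
      rw [hL, has, hL', sup_le_iff, Ideal.span_le, Ideal.span_le]
      constructor
      · rintro _ ⟨⟨j, hj⟩, rfl⟩
        refine Ideal.pow_mem_of_mem _ (Ideal.subset_span ?_) e he
        exact ⟨⟨j, by omega⟩, by simp [Fin.take]⟩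
      · rintro _ rfl
        exact Ideal.subset_span ⟨⟨t, by omega⟩, by simp [Fin.take]⟩
    · rw [Ideal.radical_le_radical_iff, hL', Ideal.span_le]
      rintro _ ⟨j, rfl⟩
      rw [Fin.take_apply]
      by_cases hj : (j : ℕ) < (t : ℕ)
      · refine ⟨e, ?_⟩
        rw [hL, has]
        refine Ideal.mem_sup_left (Ideal.subset_span ⟨⟨Fin.castLE ht1 j, hj⟩, rfl⟩)
      · have hjt : Fin.castLE ht1 j = t := by
          apply Fin.ext
          have := j.isLt
          simp only [Fin.val_castLE]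
          omega
        rw [hjt]
        apply Ideal.le_radical
        rw [hL]
        exact Ideal.mem_sup_right (Ideal.mem_span_singleton_self _)
  have hlen : L.length = L'.length := by
    simp [L, L', as]
  have hdim : ringKrullDim (R ⧸ Ideal.ofList L) + L.length = ringKrullDim R := by
    rw [ringKrullDim_quotient_eq_of_radical_eq hrad, hlen]
    exact hdim'
  have hregL : IsWeaklyRegular R L :=
    (Groth.Agent.Lib.H8CM.isWeaklyRegular_self_iff L hLm).mpr hdim
  have h2 := ((isWeaklyRegular_append_iff R as [y t]).mp hregL).2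
  rw [isWeaklyRegular_singleton_iff, isSMulRegular_quotient_iff_mem_of_smul_mem] at h2
  have h3 := h2 z
  simp only [smul_eq_mul, Ideal.mul_top] at h3
  rw [has] at h3
  exact h3 hz

end T2

set_option autoImplicit false
set_option linter.style.haveILetI false
set_option linter.unusedSectionVars false

namespace T3
open IsLocalRing

section

variable {Λ : Type u} [CommRing Λ] (q : Ideal Λ) [q.IsPrime]

/-- `x/1 ∈ J·Λ_q` iff some `s ∉ q` has `s x ∈ J`. -/
lemma mem_map_iff (J : Ideal Λ) (x : Λ) :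
    algebraMap Λ (Localization.AtPrime q) x ∈ J.map (algebraMap Λ (Localization.AtPrime q)) ↔
      ∃ s, s ∉ q ∧ s * x ∈ J := by
  rw [IsLocalization.mem_map_algebraMap_iff q.primeCompl]
  constructor
  · rintro ⟨⟨a, s⟩, h⟩
    rw [← map_mul, IsLocalization.eq_iff_exists q.primeCompl] at h
    obtain ⟨c, hc⟩ := h
    refine ⟨c * s, q.primeCompl.mul_mem c.2 s.2, ?_⟩
    have : (c : Λ) * s * x = c * (a : Λ) := by rw [← hc]; ring
    rw [this]; exact J.mul_mem_left _ a.2
  · rintro ⟨s, hs, hsx⟩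
    exact ⟨⟨⟨s * x, hsx⟩, ⟨s, hs⟩⟩, by simp [mul_comm]⟩

/-- The images of the `π i` generate the maximal ideal of the local ring. -/
def Gen {d : ℕ} (π : Fin d → Λ) : Prop :=
  Ideal.span (Set.range fun i => algebraMap Λ (Localization.AtPrime q) (π i)) =
    maximalIdeal (Localization.AtPrime q)

lemma gen_mul {d : ℕ} (π : Fin d → Λ) (hπ : Gen q π) (s : Fin d → Λ) (hs : ∀ i, s i ∉ q) :
    Gen q (fun i => s i * π i) := by
  unfold Gen at hπ ⊢
  apply le_antisymm
  · rw [← hπ, Ideal.span_le]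
    rintro _ ⟨i, rfl⟩
    beta_reduce
    rw [map_mul]
    exact Ideal.mul_mem_left _ _ (Ideal.subset_span ⟨i, rfl⟩)
  · rw [← hπ, Ideal.span_le]
    rintro _ ⟨i, rfl⟩
    beta_reduce
    have hu : IsUnit (algebraMap Λ (Localization.AtPrime q) (s i)) :=
      IsLocalization.map_units (Localization.AtPrime q) (⟨s i, hs i⟩ : q.primeCompl)
    obtain ⟨u, hu⟩ := hu
    have : algebraMap Λ (Localization.AtPrime q) (π i) =
        ((u⁻¹ : (Localization.AtPrime q)ˣ) : Localization.AtPrime q) *
          algebraMap Λ (Localization.AtPrime q) (s i * π i) := by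
      rw [map_mul, ← hu, ← mul_assoc, Units.inv_mul, one_mul]
    rw [SetLike.mem_coe, this]
    exact Ideal.mul_mem_left _ _ (Ideal.subset_span ⟨i, rfl⟩)

lemma exists_init [IsNoetherianRing Λ] (I : Ideal Λ) (n d : ℕ) (hn : 0 < n)
    (hpow : (q ^ n).map (algebraMap Λ (Localization.AtPrime q)) ≤
      I.map (algebraMap Λ (Localization.AtPrime q)))
    [IsRegularLocalRing (Localization.AtPrime q)]
    (hd : ringKrullDim (Localization.AtPrime q) = d) :
    ∃ π : Fin d → Λ, Gen q π ∧ ∀ i, π i ^ n ∈ I := by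
  classical
  have hfin := Groth.Agent.Lib.RegularLocal.spanFinrank_maximalIdeal_eq_of_ringKrullDim_eq hd
  obtain ⟨s, hcard, hspan⟩ := Submodule.FG.exists_span_finset_card_eq_spanFinrank
    ((isNoetherianRing_iff_ideal_fg (Localization.AtPrime q)).mp inferInstance
      (maximalIdeal (Localization.AtPrime q)))
  rw [hfin] at hcard
  let e := s.equivFinOfCardEq hcard
  let y : Fin d → Localization.AtPrime q := fun i => (e.symm i : Localization.AtPrime q)
  have hrange : Set.range y = (s : Set (Localization.AtPrime q)) := by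
    ext z
    constructor
    · rintro ⟨i, rfl⟩
      exact (e.symm i).2
    · intro hz
      exact ⟨e ⟨z, hz⟩, by simp [y]⟩
  have hy : Ideal.span (Set.range y) = maximalIdeal (Localization.AtPrime q) := by
    rw [hrange]; exact hspan
  have h1 : ∀ i, ∃ p : Λ × q.primeCompl, IsLocalization.mk' (Localization.AtPrime q) p.1 p.2 = y i :=
    fun i => IsLocalization.mk'_surjective q.primeCompl (y i)
  choose p hp using h1
  let a : Fin d → Λ := fun i => (p i).1
  have ha : ∀ i, algebraMap Λ (Localization.AtPrime q) (a i) =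
      y i * algebraMap Λ (Localization.AtPrime q) ((p i).2 : Λ) := by
    intro i
    rw [← hp i, IsLocalization.mk'_spec]
  have hGa : Gen q a := by
    unfold Gen
    apply le_antisymm
    · rw [← hy, Ideal.span_le]
      rintro _ ⟨i, rfl⟩
      beta_reduce
      rw [SetLike.mem_coe, ha, mul_comm]
      exact Ideal.mul_mem_left _ _ (Ideal.subset_span ⟨i, rfl⟩)
    · rw [← hy, Ideal.span_le]
      rintro _ ⟨i, rfl⟩
      have hu : IsUnit (algebraMap Λ (Localization.AtPrime q) ((p i).2 : Λ)) :=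
        IsLocalization.map_units (Localization.AtPrime q) (p i).2
      obtain ⟨u, hu⟩ := hu
      have : y i = ((u⁻¹ : (Localization.AtPrime q)ˣ) : Localization.AtPrime q) *
          algebraMap Λ (Localization.AtPrime q) (a i) := by
        rw [ha, ← hu, mul_comm (y i), ← mul_assoc, Units.inv_mul, one_mul]
      rw [SetLike.mem_coe, this]
      exact Ideal.mul_mem_left _ _ (Ideal.subset_span ⟨i, rfl⟩)
  have haq : ∀ i, a i ∈ q := by
    intro i
    rw [← IsLocalization.AtPrime.to_map_mem_maximal_iff (Localization.AtPrime q) q (a i)]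
    have hG := hGa
    unfold Gen at hG
    rw [← hG]
    exact Ideal.subset_span ⟨i, rfl⟩
  have h2 : ∀ i, ∃ s', s' ∉ q ∧ s' * a i ^ n ∈ I := by
    intro i
    rw [← mem_map_iff]
    apply hpow
    exact Ideal.mem_map_of_mem _ (Ideal.pow_mem_pow (haq i) n)
  choose τ hτq hτI using h2
  refine ⟨fun i => τ i * a i, gen_mul q a hGa τ hτq, ?_⟩
  intro i
  obtain ⟨m, rfl⟩ : ∃ m, n = m + 1 := ⟨n - 1, by omega⟩
  have : (τ i * a i) ^ (m + 1) = τ i ^ m * (τ i * a i ^ (m + 1)) := by ring
  rw [this]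
  exact I.mul_mem_left _ (hτI i)

theorem main' [IsNoetherianRing Λ] (I : Ideal Λ) (n e d : ℕ) (hn : 0 < n) (he : 0 < e)
    (hpow : (q ^ n).map (algebraMap Λ (Localization.AtPrime q)) ≤
      I.map (algebraMap Λ (Localization.AtPrime q)))
    [IsRegularLocalRing (Localization.AtPrime q)]
    (hd : ringKrullDim (Localization.AtPrime q) = d) :
    ∀ t, t ≤ d → ∃ π : Fin d → Λ, Gen q π ∧ (∀ i, π i ^ n ∈ I) ∧
      ∀ i : Fin d, (i : ℕ) < t → ∀ x : Λ,
        π i ^ 2 * x ∈ Ideal.span (Set.range fun j : {j : Fin d // (j : ℕ) < (i : ℕ)} => π j ^ e) →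
        π i * x ∈ Ideal.span (Set.range fun j : {j : Fin d // (j : ℕ) < (i : ℕ)} => π j ^ e) := by
  classical
  intro t
  induction t with
  | zero =>
    intro _
    obtain ⟨π, h1, h2⟩ := exists_init q I n d hn hpow hd
    exact ⟨π, h1, h2, fun i hi => absurd hi (Nat.not_lt_zero _)⟩
  | succ t ih =>
    intro ht
    obtain ⟨π, hG, hI, hc⟩ := ih (by omega)
    let i₀ : Fin d := ⟨t, by omega⟩
    set J : Ideal Λ :=
      Ideal.span (Set.range fun j : {j : Fin d // (j : ℕ) < (i₀ : ℕ)} => π j ^ e) with hJ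
    have hmap : J.map (algebraMap Λ (Localization.AtPrime q)) =
        Ideal.span (Set.range fun j : {j : Fin d // (j : ℕ) < (i₀ : ℕ)} =>
          (algebraMap Λ (Localization.AtPrime q) (π j)) ^ e) := by
      rw [hJ, Ideal.map_span, ← Set.range_comp]
      congr 2
      funext j
      simp
    have hloc : ∀ x : Λ, π i₀ * x ∈ J → ∃ s, s ∉ q ∧ s * x ∈ J := by
      intro x hx
      rw [← mem_map_iff, hmap]
      refine T2.nzd_mod_powers (Localization.AtPrime q) d hd
        (fun i => algebraMap Λ (Localization.AtPrime q) (π i)) hG e he i₀ _ ?_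
      rw [← hmap, ← map_mul]
      exact Ideal.mem_map_of_mem _ hx
    obtain ⟨s₁, hs₁, hT1⟩ := T1.exists_mul_ann q J (π i₀) hloc
    let π' : Fin d → Λ := Function.update π i₀ (s₁ * π i₀)
    have hπ'ne : ∀ j : Fin d, j ≠ i₀ → π' j = π j := fun j hj => Function.update_of_ne hj _ _
    have hπ'eq : π' i₀ = s₁ * π i₀ := Function.update_self _ _ _
    have hJ' : ∀ i : Fin d, (i : ℕ) ≤ t →
        Ideal.span (Set.range fun j : {j : Fin d // (j : ℕ) < (i : ℕ)} => π' j ^ e) =
          Ideal.span (Set.range fun j : {j : Fin d // (j : ℕ) < (i : ℕ)} => π j ^ e) := by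
      intro i hi
      congr 2
      funext j
      have hj : (j : Fin d) ≠ i₀ := by
        intro h
        have := j.2
        rw [h] at this
        change t < (i : ℕ) at this
        omega
      rw [hπ'ne _ hj]
    refine ⟨π', ?_, ?_, ?_⟩
    · have : π' = fun i => (Function.update (fun _ => (1 : Λ)) i₀ s₁ i) * π i := by
        funext i
        by_cases hi : i = i₀
        · subst hi; simp [π']
        · rw [hπ'ne i hi, Function.update_of_ne hi, one_mul]
      rw [this]
      refine gen_mul q π hG _ ?_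
      intro i
      by_cases hi : i = i₀
      · subst hi; simpa using hs₁
      · rw [Function.update_of_ne hi]
        exact fun h => (Ideal.IsPrime.ne_top inferInstance) ((Ideal.eq_top_iff_one q).mpr h)
    · intro i
      by_cases hi : i = i₀
      · rw [hi, hπ'eq, mul_pow]
        exact I.mul_mem_left _ (hI i₀)
      · rw [hπ'ne i hi]; exact hI i
    · intro i hi x hx
      rcases Nat.lt_succ_iff_lt_or_eq.mp hi with h | h
      · have hne : i ≠ i₀ := by
          intro h'
          rw [h'] at h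
          exact lt_irrefl _ h
        rw [hπ'ne i hne, hJ' i h.le] at hx ⊢
        exact hc i h x hx
      · have hie : i = i₀ := Fin.ext h
        rw [hie, hπ'eq, hJ' i₀ le_rfl] at hx ⊢
        exact hT1 x hx

theorem main [IsNoetherianRing Λ] (I : Ideal Λ) (n e d : ℕ) (hn : 0 < n) (he : 0 < e)
    (hpow : (q ^ n).map (algebraMap Λ (Localization.AtPrime q)) ≤
      I.map (algebraMap Λ (Localization.AtPrime q)))
    [IsRegularLocalRing (Localization.AtPrime q)]
    (hd : ringKrullDim (Localization.AtPrime q) = d) :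
    ∃ (N : ℕ) (π : Fin d → Λ), 0 < N ∧
      Ideal.span (Set.range fun i => algebraMap Λ (Localization.AtPrime q) (π i)) =
        q.map (algebraMap Λ (Localization.AtPrime q)) ∧
      (∀ i, π i ^ N ∈ I) ∧
      ∀ i : Fin d, ∀ x : Λ ⧸ Ideal.span (Set.range fun j : {j : Fin d // (j : ℕ) < (i : ℕ)} => π j ^ e),
        Ideal.Quotient.mk _ (π i) ^ 2 * x = 0 → Ideal.Quotient.mk _ (π i) * x = 0 := by
  obtain ⟨π, hG, hI, hc⟩ := main' q I n e d hn he hpow hd d le_rfl
  refine ⟨n, π, hn, ?_, hI, ?_⟩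
  · rw [Localization.AtPrime.map_eq_maximalIdeal]; exact hG
  · intro i x h
    obtain ⟨x₀, rfl⟩ := Ideal.Quotient.mk_surjective x
    rw [← map_pow, ← map_mul, Ideal.Quotient.eq_zero_iff_mem] at h
    rw [← map_mul, Ideal.Quotient.eq_zero_iff_mem]
    exact hc i i.isLt x₀ h

end

end T3

end Helpers

/-- Let `Λ` be Noetherian, `I ⊆ 𝔮` with `𝔮` prime, `n, e > 0`, such that `𝔮ⁿΛ_𝔮 ⊆ IΛ_𝔮` and `Λ_𝔮` is a
regular local ring of dimension `d`. Then there are `N > 0` and `π_1, …, π_d ∈ Λ` generating `𝔮Λ_𝔮`,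
with `π_i^N ∈ I`, such that for each `i` the annihilators of `π_i` and `π_i²` in `Λ/(π_1^e, …,
π_{i-1}^e)` coincide. -/
theorem result {Λ : Type u} [CommRing Λ] [IsNoetherianRing Λ] (I q : Ideal Λ)
    [q.IsPrime] (hIq : I ≤ q) (n e d : ℕ) (hn : 0 < n) (he : 0 < e)
    (hpow : (q ^ n).map (algebraMap Λ (Localization.AtPrime q)) ≤ I.map (algebraMap Λ (Localization.AtPrime q)))
    [IsRegularLocalRing (Localization.AtPrime q)] (hd : ringKrullDim (Localization.AtPrime q) = d) :
    ∃ (N : ℕ) (π : Fin d → Λ), 0 < N ∧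
      Ideal.span (Set.range fun i => algebraMap Λ (Localization.AtPrime q) (π i)) =
        q.map (algebraMap Λ (Localization.AtPrime q)) ∧
      (∀ i, π i ^ N ∈ I) ∧
      ∀ i : Fin d, ∀ x : Λ ⧸ Ideal.span (Set.range fun j : {j : Fin d // (j : ℕ) < (i : ℕ)} => π j ^ e),
        Ideal.Quotient.mk _ (π i) ^ 2 * x = 0 → Ideal.Quotient.mk _ (π i) * x = 0 := by
  exact T3.main q I n e d hn he hpow hd

end Groth.Agent.S2109
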