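import Groth.Statements.S2110
import Groth.Agent.Lib.H87SymOmega
import Groth.Agent.Lib.SymAlgLoc

set_option autoImplicit false
universe u
open Smoothing

namespace Groth.Agent.S2110


open TensorProduct in
/-- the symmetric algebra of a finite module is of finite type. -/
theorem finiteType_symmetricAlgebra (A M : Type*) [CommRing A] [AddCommGroup M] [Module A M]
    [Module.Finite A M] : Algebra.FiniteType A (SymmetricAlgebra A M) := by
  classical
  obtain ⟨s, hs⟩ := (Module.Finite.fg_top : (⊤ : Submodule A M).FG)
  refine ⟨⟨s.image (SymmetricAlgebra.ι A M), ?_⟩⟩
  rw [eq_top_iff]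
  rintro x -
  induction x using SymmetricAlgebra.induction with
  | algebraMap r => exact Subalgebra.algebraMap_mem _ r
  | ι m =>
    have hm : m ∈ Submodule.span A (s : Set M) := by rw [hs]; trivial
    induction hm using Submodule.span_induction with
    | mem x hx =>
      refine Algebra.subset_adjoin ?_
      rw [Finset.coe_image]
      exact ⟨x, hx, rfl⟩
    | zero => rw [map_zero]; exact Subalgebra.zero_mem _
    | add x y _ _ hx hy => rw [map_add]; exact Subalgebra.add_mem _ hx hy
    | smul a x _ hx => rw [map_smul]; exact Subalgebra.smul_mem _ hx a
  | mul x y hx hy => exact Subalgebra.mul_mem _ hx hy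
  | add x y hx hy => exact Subalgebra.add_mem _ hx hy

open TensorProduct in
/-- transfer of freeness of `Ω` along an isomorphism of `R`-algebras given by a bijective
algebra map. -/
theorem free_kaehler_of_bijective (R D E : Type*) [CommRing R] [CommRing D] [CommRing E]
    [Algebra R D] [Algebra R E] [Algebra D E] [IsScalarTower R D E]
    (h : Function.Bijective (algebraMap D E)) [Module.Free D Ω[D⁄R]] : Module.Free E Ω[E⁄R] := by
  haveI : Algebra.FormallyEtale D E :=
    Algebra.FormallyEtale.of_equiv (AlgEquiv.ofBijective (Algebra.ofId D E) h)
  exact Module.Free.of_equiv (KaehlerDifferential.tensorKaehlerEquivOfFormallyEtale R D E)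

/-- Let `A` be a finitely presented `R`-algebra. There is an `A`-algebra `C` of finite type with an
`A`-algebra retraction `C → A` such that for every `a ∈ A` with `A_a` smooth over `R`, the module of
differentials of `C_a` over `R` is a free `C_a`-module. -/
theorem result {R A : Type u} [CommRing R] [CommRing A] [Algebra R A]
    [Algebra.FinitePresentation R A] :
    ∃ (C : Type u) (_ : CommRing C) (_ : Algebra A C) (_ : Algebra R C) (_ : IsScalarTower R A C),
      Algebra.FiniteType A C ∧ Nonempty (C →ₐ[A] A) ∧
      ∀ a : A, Algebra.Smooth R (Localization.Away a) →
        Module.Free (Localization.Away (algebraMap A C a)) Ω[Localization.Away (algebraMap A C a)⁄R] := by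
  classical
  let P : Algebra.Generators R A (Fin (Algebra.Presentation.ofFinitePresentationVars R A)) :=
    (Algebra.Presentation.ofFinitePresentation R A).toGenerators
  haveI : Module.Finite A P.toExtension.Cotangent :=
    Algebra.Extension.Cotangent.finite P.fg_ker_of_finitePresentation
  refine ⟨SymmetricAlgebra A P.toExtension.Cotangent, inferInstance, inferInstance, inferInstance,
    inferInstance, finiteType_symmetricAlgebra A _, ⟨SymmetricAlgebra.algebraMapInv⟩, ?_⟩
  intro a hsm
  -- the localized symmetric algebra
  let g : P.toExtension.Cotangent →ₗ[A] TensorProduct A (Localization.Away a) P.toExtension.Cotangent :=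
    TensorProduct.mk A (Localization.Away a) P.toExtension.Cotangent 1
  haveI : IsLocalizedModule (Submonoid.powers a) g :=
    (isLocalizedModule_iff_isBaseChange (Submonoid.powers a) (Localization.Away a) g).mpr
      (TensorProduct.isBaseChange A P.toExtension.Cotangent (Localization.Away a))
  let θ₀ : SymmetricAlgebra A P.toExtension.Cotangent →ₐ[A]
      SymmetricAlgebra (Localization.Away a)
        (TensorProduct A (Localization.Away a) P.toExtension.Cotangent) :=
    SymmetricAlgebra.lift (((SymmetricAlgebra.ι (Localization.Away a)
      (TensorProduct A (Localization.Away a) P.toExtension.Cotangent)).restrictScalars A).comp g)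
  have hθι : ∀ m, θ₀.toRingHom (SymmetricAlgebra.ι A P.toExtension.Cotangent m) =
      SymmetricAlgebra.ι (Localization.Away a) _ (g m) := fun m =>
    SymmetricAlgebra.lift_ι_apply _ m
  have hθa : ∀ x, θ₀.toRingHom (algebraMap A (SymmetricAlgebra A P.toExtension.Cotangent) x) =
      algebraMap (Localization.Away a) (SymmetricAlgebra (Localization.Away a)
        (TensorProduct A (Localization.Away a) P.toExtension.Cotangent))
        (algebraMap A (Localization.Away a) x) := fun x => by
    rw [← IsScalarTower.algebraMap_apply]
    exact θ₀.commutes x
  have hloc := Groth.Agent.Lib.SymAlgLoc.isLocalization_away a g θ₀.toRingHom hθι hθa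
  letI : Algebra (SymmetricAlgebra A P.toExtension.Cotangent)
      (SymmetricAlgebra (Localization.Away a)
        (TensorProduct A (Localization.Away a) P.toExtension.Cotangent)) := θ₀.toRingHom.toAlgebra
  haveI : IsLocalization.Away (algebraMap A (SymmetricAlgebra A P.toExtension.Cotangent) a)
      (SymmetricAlgebra (Localization.Away a)
        (TensorProduct A (Localization.Away a) P.toExtension.Cotangent)) := hloc
  -- freeness upstairs
  haveI : Algebra.FormallySmooth R (Localization.Away a) := hsm.formallySmooth
  haveI hfree := Groth.Agent.Lib.H87SymOmega.free_kaehler_symmetricAlgebra P (Localization.Away a)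
    (Submonoid.powers a)
  -- compare the two localizations
  let e := IsLocalization.algEquiv
    (Submonoid.powers (algebraMap A (SymmetricAlgebra A P.toExtension.Cotangent) a))
    (SymmetricAlgebra (Localization.Away a)
      (TensorProduct A (Localization.Away a) P.toExtension.Cotangent))
    (Localization.Away (algebraMap A (SymmetricAlgebra A P.toExtension.Cotangent) a))
  letI : Algebra (SymmetricAlgebra (Localization.Away a)
      (TensorProduct A (Localization.Away a) P.toExtension.Cotangent))
      (Localization.Away (algebraMap A (SymmetricAlgebra A P.toExtension.Cotangent) a)) :=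
    e.toAlgHom.toRingHom.toAlgebra
  haveI : IsScalarTower R (SymmetricAlgebra (Localization.Away a)
      (TensorProduct A (Localization.Away a) P.toExtension.Cotangent))
      (Localization.Away (algebraMap A (SymmetricAlgebra A P.toExtension.Cotangent) a)) := by
    refine IsScalarTower.of_algebraMap_eq fun r => ?_
    have h1 : algebraMap R (SymmetricAlgebra (Localization.Away a)
        (TensorProduct A (Localization.Away a) P.toExtension.Cotangent)) r =
        algebraMap (SymmetricAlgebra A P.toExtension.Cotangent) _
          (algebraMap R (SymmetricAlgebra A P.toExtension.Cotangent) r) := by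
      rw [IsScalarTower.algebraMap_apply R A (SymmetricAlgebra A P.toExtension.Cotangent)]
      change _ = θ₀.toRingHom _
      rw [hθa, ← IsScalarTower.algebraMap_apply R A (Localization.Away a),
        ← IsScalarTower.algebraMap_apply R (Localization.Away a)]
    change _ = e _
    rw [h1, AlgEquiv.commutes, ← IsScalarTower.algebraMap_apply]
  exact free_kaehler_of_bijective R (SymmetricAlgebra (Localization.Away a)
      (TensorProduct A (Localization.Away a) P.toExtension.Cotangent)) _ e.bijective

end Groth.Agent.S2110
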