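import Groth.Statements.S2111
import Mathlib.RingTheory.Ideal.KrullsHeightTheorem
import Mathlib.RingTheory.Ideal.AssociatedPrime.Basic
import Mathlib.RingTheory.IntegralClosure.IsIntegralClosure.Basic

set_option autoImplicit false
universe u
open CAlg

namespace Groth.Agent.S2111

/-- Let `R` be a Noetherian normal domain with fraction field `K`. An element of `K` which lies in `R_𝔭`
for every prime `𝔭` of height one lies in `R`. -/
theorem result {R : Type u} [CommRing R] [IsDomain R] [IsNoetherianRing R]
    [IsIntegrallyClosed R] (x : FractionRing R)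
    (hx : ∀ (p : Ideal R) [p.IsPrime], p.height = 1 →
      x ∈ Set.range (algebraMap (Localization.AtPrime p) (FractionRing R))) :
    x ∈ Set.range (algebraMap R (FractionRing R)) := by
  classical
  by_contra hxR
  let N : Submodule R (FractionRing R) := LinearMap.range (Algebra.linearMap R (FractionRing R))
  have hxN : x ∉ N := by
    intro h
    apply hxR
    obtain ⟨r, hr⟩ := h
    exact ⟨r, hr⟩
  have hx0 : (N.mkQ x) ≠ 0 := by
    intro h
    apply hxN
    simpa using h
  obtain ⟨p, hp, hle⟩ := exists_le_isAssociatedPrime_of_isNoetherianRing R (N.mkQ x) hx0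
  rw [isAssociatedPrime_iff] at hp
  obtain ⟨hpprime, ybar, hpy⟩ := hp
  obtain ⟨y, rfl⟩ := N.mkQ_surjective ybar
  have hmem : ∀ r : R, r ∈ p ↔
      ∃ s : R, algebraMap R (FractionRing R) s = algebraMap R (FractionRing R) r * y := by
    intro r
    rw [hpy, Submodule.mem_colon_singleton, Submodule.mem_bot, ← map_smul, Submodule.mkQ_apply,
      Submodule.Quotient.mk_eq_zero]
    constructor
    · rintro ⟨s, hs⟩
      exact ⟨s, by rw [Algebra.smul_def] at hs; exact hs⟩
    · rintro ⟨s, hs⟩
      exact ⟨s, by rw [Algebra.smul_def]; exact hs⟩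
  have hmemx : ∀ r : R,
      (∃ s : R, algebraMap R (FractionRing R) s = algebraMap R (FractionRing R) r * x) → r ∈ p := by
    intro r hr
    apply hle
    rw [Submodule.mem_colon_singleton, Submodule.mem_bot, ← map_smul, Submodule.mkQ_apply,
      Submodule.Quotient.mk_eq_zero]
    obtain ⟨s, hs⟩ := hr
    exact ⟨s, by rw [Algebra.smul_def]; exact hs⟩
  -- `p` is nonzero
  have hp0 : p ≠ ⊥ := by
    obtain ⟨a, b, hb, rfl⟩ := IsFractionRing.div_surjective (A := R) y
    have hb0 : b ≠ 0 := nonZeroDivisors.ne_zero hb
    have : b ∈ p := by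
      rw [hmem]
      refine ⟨a, ?_⟩
      have : algebraMap R (FractionRing R) b ≠ 0 := by
        simpa using hb0
      rw [mul_div_cancel₀ _ this]
    intro e
    rw [e] at this
    exact hb0 (by simpa using this)
  have hy_notin : ¬ ∃ s : R, algebraMap R (FractionRing R) s = y := by
    rintro ⟨s, hs⟩
    have : (1 : R) ∈ p := by
      rw [hmem]
      exact ⟨s, by simp [hs]⟩
    exact hpprime.ne_top ((Ideal.eq_top_iff_one _).mpr this)
  -- the key dichotomy
  have hex : ∃ z ∈ p, ∃ w : R, w ∉ p ∧
      algebraMap R (FractionRing R) w = algebraMap R (FractionRing R) z * y := by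
    by_contra hcon
    push Not at hcon
    apply hy_notin
    have hint : IsIntegral R y := by
      refine isIntegral_of_smul_mem_submodule (M := FractionRing R)
        (Submodule.map (Algebra.linearMap R (FractionRing R)) p) ?_ ?_ y ?_
      · intro e
        apply hp0
        rw [eq_bot_iff]
        intro z hz
        have : Algebra.linearMap R (FractionRing R) z ∈
            Submodule.map (Algebra.linearMap R (FractionRing R)) p := ⟨z, hz, rfl⟩
        rw [e, Submodule.mem_bot, Algebra.linearMap_apply] at this
        have hz0 : z = 0 := by simpa using this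
        rw [hz0]; exact Submodule.zero_mem _
      · exact Submodule.FG.map _ (IsNoetherian.noetherian p)
      · rintro _ ⟨z, hz, rfl⟩
        obtain ⟨w, hw⟩ := (hmem z).mp hz
        have hwp : w ∈ p := by
          by_contra hwp
          exact hcon z hz w hwp hw
        refine ⟨w, hwp, ?_⟩
        simp only [Algebra.linearMap_apply, smul_eq_mul]
        rw [hw, mul_comm]
    obtain ⟨s, hs⟩ := IsIntegrallyClosed.algebraMap_eq_of_integral hint
    exact ⟨s, hs⟩
  obtain ⟨z, hzp, w, hwp, hwz⟩ := hex
  -- `p` is minimal over `(z)`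
  have hmin : p ∈ (Ideal.span {z}).minimalPrimes := by
    refine ⟨⟨hpprime, (Ideal.span_singleton_le_iff_mem _).mpr hzp⟩, ?_⟩
    rintro q ⟨hqprime, hzq⟩ hqp
    intro u hu
    obtain ⟨v, hv⟩ := (hmem u).mp hu
    have hwu : w * u = z * v := by
      apply IsFractionRing.injective R (FractionRing R)
      rw [map_mul, map_mul, hwz, hv]
      ring
    have : w * u ∈ q := by
      rw [hwu]
      exact Ideal.mul_mem_right _ _ ((Ideal.span_singleton_le_iff_mem _).mp hzq)
    rcases hqprime.mem_or_mem this with h | h
    · exact absurd (hqp h) hwp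
    · exact h
  have hht : p.height ≤ 1 :=
    Ideal.height_le_one_of_isPrincipal_of_mem_minimalPrimes (Ideal.span {z}) p hmin
  have hht0 : p.height ≠ 0 := by
    rw [Ne, Ideal.height_eq_zero_iff_eq_bot]; exact hp0
  have hht1 : p.height = 1 :=
    le_antisymm hht (Order.one_le_iff_pos.mpr (pos_iff_ne_zero.mpr hht0))
  obtain ⟨t, ht⟩ := hx p hht1
  obtain ⟨r, s, rfl⟩ := IsLocalization.exists_mk'_eq p.primeCompl t
  have hs : (s : R) ∈ p := by
    apply hmemx
    refine ⟨r, ?_⟩
    rw [← ht, IsScalarTower.algebraMap_apply R (Localization.AtPrime p) (FractionRing R),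
      IsScalarTower.algebraMap_apply R (Localization.AtPrime p) (FractionRing R), ← map_mul,
      mul_comm, IsLocalization.mk'_spec]
  exact s.2 hs

end Groth.Agent.S2111
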