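import Groth.Statements.S2112
import Groth.Agent.Lib.H71SepClosedGeom
import Mathlib.AlgebraicGeometry.Pullbacks
import Mathlib.RingTheory.Spectrum.Prime.Topology

set_option autoImplicit false
universe u
open CAlg

namespace Groth.Agent.S2112

open AlgebraicGeometry CategoryTheory CategoryTheory.Limits in
/-- A ring has a unique minimal prime iff its nilradical is prime. -/
theorem hasUniqueMinimalPrime_iff (A : Type u) [CommRing A] :
    CAlgX.HasUniqueMinimalPrime A ↔ (nilradical A).IsPrime := by
  constructor
  · rintro ⟨p, hp, huniq⟩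
    have h1 : sInf (minimalPrimes A) = nilradical A := by
      have := Ideal.sInf_minimalPrimes (I := (⊥ : Ideal A))
      rw [minimalPrimes, this]
      rfl
    have h2 : minimalPrimes A = {p} := by
      ext q
      constructor
      · intro hq; exact huniq q hq
      · rintro rfl; exact hp
    rw [← h1, h2, sInf_singleton]
    exact hp.1.1
  · intro h
    refine ⟨nilradical A, ?_, ?_⟩
    · refine ⟨⟨h, bot_le⟩, fun q hq _ => ?_⟩
      exact nilradical_le_prime q (H := hq.1)
    · intro q hq
      have hle : nilradical A ≤ q := nilradical_le_prime q (H := hq.1.1)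
      exact le_antisymm (hq.2 ⟨h, bot_le⟩ hle) hle

open AlgebraicGeometry CategoryTheory CategoryTheory.Limits TensorProduct in
theorem irreducibleSpace_tensor {k R S : Type u} [Field k] [IsSepClosed k] [CommRing R] [CommRing S]
    [Algebra k R] [Algebra k S] [IrreducibleSpace (PrimeSpectrum R)]
    [IrreducibleSpace (PrimeSpectrum S)] : IrreducibleSpace (PrimeSpectrum (R ⊗[k] S)) := by
  let f : Spec (CommRingCat.of R) ⟶ Spec (CommRingCat.of k) :=
    Spec.map (CommRingCat.ofHom (algebraMap k R))
  let g : Spec (CommRingCat.of S) ⟶ Spec (CommRingCat.of k) :=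
    Spec.map (CommRingCat.ofHom (algebraMap k S))
  have hR : IrreducibleSpace ↥(Spec (CommRingCat.of R)) := ‹IrreducibleSpace (PrimeSpectrum R)›
  have hS : IrreducibleSpace ↥(Spec (CommRingCat.of S)) := ‹IrreducibleSpace (PrimeSpectrum S)›
  have hf : GeometricallyIrreducible f :=
    Groth.Agent.Lib.H71SepClosedGeom.geometricallyIrreducible_of_irreducibleSpace f
  have hirr : IrreducibleSpace ↥(pullback f g) := inferInstance
  have e := (pullbackSpecIso k R S).hom.homeomorph
  exact (e.irreducibleSpace_iff).mp hirr

open TensorProduct in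
/-- Let `k` be a separably closed field and `R`, `S` two `k`-algebras each having exactly one minimal
prime ideal. Then `R ⊗_k S` has exactly one minimal prime ideal. -/
theorem result {k R S : Type u} [Field k] [IsSepClosed k] [CommRing R] [CommRing S]
    [Algebra k R] [Algebra k S] (hR : CAlgX.HasUniqueMinimalPrime R) (hS : CAlgX.HasUniqueMinimalPrime S) :
    CAlgX.HasUniqueMinimalPrime (R ⊗[k] S) := by
  rw [hasUniqueMinimalPrime_iff] at hR hS ⊢
  rw [← PrimeSpectrum.irreducibleSpace_iff_isPrime_nilradical] at hR hS ⊢
  exact irreducibleSpace_tensor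

end Groth.Agent.S2112
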