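import Groth.Statements.S2113
import Mathlib.RingTheory.Ideal.KrullsHeightTheorem
import Mathlib.RingTheory.Ideal.MinimalPrime.Noetherian
import Mathlib.RingTheory.Spectrum.Prime.RingHom

set_option autoImplicit false
universe u
open CAlg

namespace Groth.Agent.S2113

/-- In a Noetherian domain, if a nonzero element lies in every nonzero prime, then every
nonzero prime is minimal over the ideal generated by that element. -/
theorem mem_minimalPrimes_of_forall_mem {D : Type u} [CommRing D] [IsDomain D] [IsNoetherianRing D]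
    (x : D) (hx : x ≠ 0) (h : ∀ Q : Ideal D, Q.IsPrime → Q ≠ ⊥ → x ∈ Q)
    (Q : Ideal D) (hQ : Q.IsPrime) (hQ0 : Q ≠ ⊥) : Q ∈ (Ideal.span {x}).minimalPrimes := by
  classical
  have hfin : (Ideal.span {x}).minimalPrimes.Finite :=
    Ideal.finite_minimalPrimes_of_isNoetherianRing D _
  have hxQ : Ideal.span {x} ≤ Q := by
    rw [Ideal.span_singleton_le_iff_mem]; exact h Q hQ hQ0
  obtain ⟨q, hq, hqQ⟩ := Ideal.exists_minimalPrimes_le hxQ
  by_contra hQmin
  have hqne : q ≠ Q := fun e => hQmin (e ▸ hq)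
  have hqlt : q < Q := lt_of_le_of_ne hqQ hqne
  -- prime avoidance
  have hnot : ¬ ((Q : Set D) ⊆ ⋃ i ∈ (↑hfin.toFinset : Set (Ideal D)), (i : Set D)) := by
    intro hsub
    have := (Ideal.subset_union_prime (R := D) (s := hfin.toFinset) (f := fun i => i) q q
      (fun i hi _ _ => by
        have : i ∈ (Ideal.span {x}).minimalPrimes := by simpa using hi
        exact this.1.1) (I := Q)).mp hsub
    obtain ⟨q', hq', hQq'⟩ := this
    have hq'min : q' ∈ (Ideal.span {x}).minimalPrimes := by simpa using hq'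
    have h1 : q ≤ q' := hqQ.trans hQq'
    have h2 : q' ≤ q := hq'min.2 hq.1 h1
    exact absurd (hQq'.trans h2) (not_le_of_gt hqlt)
  rw [Set.not_subset] at hnot
  obtain ⟨y, hyQ, hy⟩ := hnot
  have hy' : ∀ q' ∈ (Ideal.span {x}).minimalPrimes, y ∉ q' := by
    intro q' hq' hyq'
    apply hy
    simp only [Set.mem_iUnion]
    exact ⟨q', by simpa using hq', hyq'⟩
  have hy0 : y ≠ 0 := by
    rintro rfl
    exact hy' q hq (zero_mem _)
  have hyQ' : Ideal.span {y} ≤ Q := by
    rw [Ideal.span_singleton_le_iff_mem]; exact hyQ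
  obtain ⟨Q', hQ', hQ'Q⟩ := Ideal.exists_minimalPrimes_le hyQ'
  have hQ'prime : Q'.IsPrime := hQ'.1.1
  have hyQ'' : y ∈ Q' := by
    have := hQ'.1.2
    rw [Ideal.span_singleton_le_iff_mem] at this; exact this
  have hQ'0 : Q' ≠ ⊥ := by
    intro e
    rw [e] at hyQ''
    exact hy0 (by simpa using hyQ'')
  have hht : Q'.height ≤ 1 :=
    Ideal.height_le_one_of_isPrincipal_of_mem_minimalPrimes (Ideal.span {y}) Q' hQ'
  have hxQ' : Ideal.span {x} ≤ Q' := by
    rw [Ideal.span_singleton_le_iff_mem]; exact h Q' hQ'prime hQ'0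
  obtain ⟨q'', hq'', hq''Q'⟩ := Ideal.exists_minimalPrimes_le hxQ'
  have hq''prime : q''.IsPrime := hq''.1.1
  have hxq'' : x ∈ q'' := by
    have := hq''.1.2
    rw [Ideal.span_singleton_le_iff_mem] at this; exact this
  have hq''0 : q'' ≠ ⊥ := by
    intro e
    rw [e] at hxq''
    exact hx (by simpa using hxq'')
  have hne : q'' ≠ Q' := by
    intro e
    exact hy' q'' hq'' (e ▸ hyQ'')
  have hlt : q'' < Q' := lt_of_le_of_ne hq''Q' hne
  have h1 : q''.height + 1 ≤ Q'.height := Ideal.height_add_one_le_of_lt_of_isPrime hlt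
  have h2 : q''.height ≠ 0 := by
    rw [Ne, Ideal.height_eq_zero_iff_eq_bot]; exact hq''0
  have h3 : 1 ≤ q''.height := Order.one_le_iff_pos.mpr (pos_iff_ne_zero.mpr h2)
  have h4 : (2 : ℕ∞) ≤ 1 := by
    calc (2 : ℕ∞) = 1 + 1 := by norm_num
      _ ≤ q''.height + 1 := by gcongr
      _ ≤ Q'.height := h1
      _ ≤ 1 := hht
  exact absurd h4 (by norm_num)

/-- A Noetherian ring in which each prime is maximal or else lies below infinitely many primes is a
Jacobson ring. -/
theorem result {R : Type u} [CommRing R] [IsNoetherianRing R]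
    (h : ∀ (p : Ideal R) [p.IsPrime], p.IsMaximal ∨ {q : PrimeSpectrum R | p ≤ q.asIdeal}.Infinite) :
    IsJacobsonRing R := by
  rw [isJacobsonRing_iff_prime_eq]
  intro P
  induction P using WellFoundedGT.induction with
  | ind P ih =>
  intro hP
  rcases h P with hmax | hinf
  · exact Ideal.jacobson_eq_self_of_isMaximal
  refine le_antisymm ?_ Ideal.le_jacobson
  intro x hxJ
  by_contra hxP
  apply hinf
  -- pass to the quotient domain
  have hdom : IsDomain (R ⧸ P) := Ideal.Quotient.isDomain P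
  have hx0 : Ideal.Quotient.mk P x ≠ 0 := by
    rwa [Ne, Ideal.Quotient.eq_zero_iff_mem]
  have hall : ∀ Q : Ideal (R ⧸ P), Q.IsPrime → Q ≠ ⊥ → Ideal.Quotient.mk P x ∈ Q := by
    intro Q hQ hQ0
    have hQ' : (Q.comap (Ideal.Quotient.mk P)).IsPrime := Ideal.comap_isPrime _ _
    have hPle : P ≤ Q.comap (Ideal.Quotient.mk P) := by
      intro y hy
      rw [Ideal.mem_comap, Ideal.Quotient.eq_zero_iff_mem.mpr hy]
      exact zero_mem _
    have hPlt : P < Q.comap (Ideal.Quotient.mk P) := by
      refine lt_of_le_of_ne hPle ?_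
      intro e
      apply hQ0
      rw [eq_bot_iff]
      intro z hz
      obtain ⟨z, rfl⟩ := Ideal.Quotient.mk_surjective z
      have : z ∈ P := by rw [e]; exact hz
      rw [Ideal.Quotient.eq_zero_iff_mem.mpr this]
      exact Ideal.zero_mem _
    have hjac := ih _ hPlt hQ'
    have : x ∈ (Q.comap (Ideal.Quotient.mk P)).jacobson := Ideal.jacobson_mono hPle hxJ
    rw [hjac] at this
    exact this
  have hfin : (Ideal.span {Ideal.Quotient.mk P x}).minimalPrimes.Finite :=
    Ideal.finite_minimalPrimes_of_isNoetherianRing _ _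
  have hfin2 : (Set.univ : Set (PrimeSpectrum (R ⧸ P))).Finite := by
    have hsub : (Set.univ : Set (PrimeSpectrum (R ⧸ P))) ⊆
        (PrimeSpectrum.asIdeal ⁻¹' (insert ⊥ (Ideal.span {Ideal.Quotient.mk P x}).minimalPrimes)) := by
      intro Q _
      by_cases hQ0 : Q.asIdeal = ⊥
      · exact Or.inl hQ0
      · exact Or.inr (mem_minimalPrimes_of_forall_mem _ hx0 hall Q.asIdeal Q.isPrime hQ0)
    refine Set.Finite.subset ?_ hsub
    refine Set.Finite.preimage ?_ (hfin.insert _)
    intro a _ b _ hab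
    exact PrimeSpectrum.ext hab
  have hrange : {q : PrimeSpectrum R | P ≤ q.asIdeal} =
      Set.range (PrimeSpectrum.comap (Ideal.Quotient.mk P)) := by
    rw [_root_.range_comap_of_surjective _ _ Ideal.Quotient.mk_surjective, Ideal.mk_ker]
    ext q
    simp [PrimeSpectrum.mem_zeroLocus]
  rw [hrange, ← Set.image_univ]
  exact hfin2.image _

end Groth.Agent.S2113
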