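import Groth.Statements.S2119

set_option autoImplicit false
universe u
open CAlg

namespace Groth.Agent.S2119

section
variable {A : Type u} [CommRing A] [IsDomain A]

theorem closure_le_nzd (P : Set A) (hP : ∀ p ∈ P, Prime p) :
    Submonoid.closure P ≤ nonZeroDivisors A :=
  (Submonoid.closure_le).mpr fun p hp => mem_nonZeroDivisors_of_ne_zero (hP p hp).ne_zero

theorem dvd_of_dvd_mul (P : Set A) (hP : ∀ p ∈ P, Prime p) (x : A) (hx : ∀ p ∈ P, ¬ p ∣ x) :
    ∀ s ∈ Submonoid.closure P, ∀ b, s ∣ x * b → s ∣ b := by
  intro s hs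
  induction hs using Submonoid.closure_induction with
  | mem p hp =>
    intro b hb
    exact ((hP p hp).dvd_or_dvd hb).resolve_left (hx p hp)
  | one => intro b _; exact one_dvd b
  | mul s1 s2 _ _ ih1 ih2 =>
    intro b hb
    obtain ⟨b', rfl⟩ := ih1 b (dvd_trans (dvd_mul_right s1 s2) hb)
    by_cases h1 : s1 = 0
    · subst h1; simp
    · apply mul_dvd_mul_left
      apply ih2
      have : s1 * s2 ∣ s1 * (x * b') := by
        convert hb using 1; ring
      exact (mul_dvd_mul_iff_left h1).mp this

theorem factor_split (P : Set A) (hP : ∀ p ∈ P, Prime p) :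
    ∀ s ∈ Submonoid.closure P, ∀ x a b : A, s * x = a * b →
      ∃ s1 ∈ Submonoid.closure P, ∃ s2 ∈ Submonoid.closure P, ∃ a' b',
        a = s1 * a' ∧ b = s2 * b' ∧ x = a' * b' := by
  intro s hs
  induction hs using Submonoid.closure_induction with
  | mem p hp =>
    intro x a b h
    have hpne := (hP p hp).ne_zero
    rcases (hP p hp).dvd_or_dvd (Dvd.intro x h : p ∣ a * b) with ⟨a', rfl⟩ | ⟨b', rfl⟩
    · refine ⟨p, Submonoid.subset_closure hp, 1, one_mem _, a', b, rfl, (one_mul b).symm, ?_⟩
      apply mul_left_cancel₀ hpne; rw [h]; ring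
    · refine ⟨1, one_mem _, p, Submonoid.subset_closure hp, a, b', (one_mul a).symm, rfl, ?_⟩
      apply mul_left_cancel₀ hpne; rw [h]; ring
  | one =>
    intro x a b h
    exact ⟨1, one_mem _, 1, one_mem _, a, b, (one_mul a).symm, (one_mul b).symm, by simpa using h⟩
  | mul s s' _ _ ih1 ih2 =>
    intro x a b h
    obtain ⟨s1, hs1, s2, hs2, a', b', rfl, rfl, h'⟩ := ih1 (s' * x) a b (by rw [← h]; ring)
    obtain ⟨s3, hs3, s4, hs4, a'', b'', rfl, rfl, h''⟩ := ih2 x a' b' h'
    exact ⟨s1 * s3, mul_mem hs1 hs3, s2 * s4, mul_mem hs2 hs4, a'', b'', by ring, by ring, h''⟩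

theorem prime_of_irreducible (P : Set A) (hP : ∀ p ∈ P, Prime p)
    [IsDomain (Localization (Submonoid.closure P))]
    (hS : UniqueFactorizationMonoid (Localization (Submonoid.closure P))) (x : A)
    (hx : Irreducible x) : Prime x := by
  by_cases hdiv : ∃ p ∈ P, p ∣ x
  · obtain ⟨p, hp, c, rfl⟩ := hdiv
    have hc : IsUnit c := (hx.isUnit_or_isUnit rfl).resolve_left (hP p hp).not_isUnit
    exact (associated_mul_unit_right p c hc).prime (hP p hp)
  · push Not at hdiv
    have hnzd := closure_le_nzd P hP
    have hinj : Function.Injective (algebraMap A (Localization (Submonoid.closure P))) :=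
      IsLocalization.injective _ hnzd
    have hirr : Irreducible (algebraMap A (Localization (Submonoid.closure P)) x) := by
      constructor
      · intro hu
        obtain ⟨y, hy⟩ := hu.exists_right_inv
        obtain ⟨⟨c, s⟩, hcs⟩ := IsLocalization.surj (Submonoid.closure P) y
        have h1 : x * c = s := hinj (by rw [map_mul, ← hcs, ← mul_assoc, hy, one_mul])
        have h2 : (s : A) ∣ c := dvd_of_dvd_mul P hP x hdiv s s.2 c (by rw [h1])
        obtain ⟨c', rfl⟩ := h2
        have hs0 : (s : A) ≠ 0 := nonZeroDivisors.ne_zero (hnzd s.2)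
        have : x * c' = 1 := by
          apply mul_left_cancel₀ hs0
          rw [mul_one]
          conv_rhs => rw [← h1]
          ring
        exact hx.not_isUnit (IsUnit.of_mul_eq_one _ this)
      · intro y z hyz
        obtain ⟨⟨a, s⟩, has⟩ := IsLocalization.surj (Submonoid.closure P) y
        obtain ⟨⟨b, t⟩, hbt⟩ := IsLocalization.surj (Submonoid.closure P) z
        have h1 : ((s : A) * t) * x = a * b := hinj (by
          simp only [map_mul]
          rw [← has, ← hbt, hyz]; ring)
        obtain ⟨s1, hs1, s2, hs2, a', b', rfl, rfl, hx'⟩ :=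
          factor_split P hP _ (mul_mem s.2 t.2) x a b h1
        rcases hx.isUnit_or_isUnit hx' with ha' | hb'
        · left
          have : IsUnit (y * algebraMap A (Localization (Submonoid.closure P)) s) := by
            rw [has, map_mul]
            exact (IsLocalization.map_units _ (⟨s1, hs1⟩ : Submonoid.closure P)).mul (ha'.map _)
          exact isUnit_of_mul_isUnit_left this
        · right
          have : IsUnit (z * algebraMap A (Localization (Submonoid.closure P)) t) := by
            rw [hbt, map_mul]
            exact (IsLocalization.map_units _ (⟨s2, hs2⟩ : Submonoid.closure P)).mul (hb'.map _)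
          exact isUnit_of_mul_isUnit_left this
    have hprime : Prime (algebraMap A (Localization (Submonoid.closure P)) x) :=
      UniqueFactorizationMonoid.irreducible_iff_prime.mp hirr
    have key : ∀ a, algebraMap A (Localization (Submonoid.closure P)) x ∣
        algebraMap A (Localization (Submonoid.closure P)) a → x ∣ a := by
      rintro a ⟨y, hy⟩
      obtain ⟨⟨c, s⟩, hcs⟩ := IsLocalization.surj (Submonoid.closure P) y
      have h1 : (s : A) * a = x * c := hinj (by
        simp only [map_mul]
        rw [hy, ← hcs]; ring)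
      obtain ⟨c', rfl⟩ := dvd_of_dvd_mul P hP x hdiv s s.2 c (Dvd.intro a h1)
      have hs0 : (s : A) ≠ 0 := nonZeroDivisors.ne_zero (hnzd s.2)
      refine ⟨c', ?_⟩
      apply mul_left_cancel₀ hs0
      rw [h1]; ring
    refine ⟨hx.ne_zero, hx.not_isUnit, fun a b hab => ?_⟩
    have hab' : algebraMap A (Localization (Submonoid.closure P)) x ∣
        algebraMap A (Localization (Submonoid.closure P)) a *
          algebraMap A (Localization (Submonoid.closure P)) b := by
      rw [← map_mul]; exact map_dvd _ hab
    rcases hprime.dvd_or_dvd hab' with h | h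
    · left; exact key a h
    · right; exact key b h

end

theorem result {A : Type u} [CommRing A] [IsDomain A]
    (hfac : ∀ a : A, a ≠ 0 → ¬ IsUnit a → ∃ f : Multiset A, (∀ b ∈ f, Irreducible b) ∧ Associated f.prod a) (P : Set A)
    (hP : ∀ p ∈ P, Prime p) [IsDomain (Localization (Submonoid.closure P))]
    (hS : UniqueFactorizationMonoid (Localization (Submonoid.closure P))) : UniqueFactorizationMonoid A := by
  apply UniqueFactorizationMonoid.of_exists_prime_factors
  intro a ha
  by_cases hu : IsUnit a
  · exact ⟨0, by simp, by simpa using (associated_one_iff_isUnit.mpr hu).symm⟩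
  · obtain ⟨f, hf, hfa⟩ := hfac a ha hu
    exact ⟨f, fun b hb => prime_of_irreducible P hP hS b (hf b hb), hfa⟩

end Groth.Agent.S2119
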