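import Groth.Statements.S2120
import Mathlib.AlgebraicGeometry.Morphisms.Proper
import Mathlib.AlgebraicGeometry.Morphisms.Immersion

set_option autoImplicit false
universe u
open CategoryTheory AlgebraicGeometry
open Mor

namespace Groth.Agent.S2120

open Limits in
theorem isSeparated_of_comp_surj {X Y Z : Scheme.{u}} (f : X ⟶ Y) (g : Y ⟶ Z) [Surjective f]
    [UniversallyClosed f] [IsSeparated (f ≫ g)] : IsSeparated g := by
  constructor
  apply IsClosedImmersion.of_isPreimmersion
  have h1 : Set.range (pullback.diagonal g) = Set.range (f ≫ pullback.diagonal g) := by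
    rw [Scheme.Hom.comp_base, TopCat.coe_comp, Set.range_comp, Set.range_eq_univ.mpr f.surjective,
      Set.image_univ]
  rw [h1, pullback.comp_diagonal, Scheme.Hom.comp_base, TopCat.coe_comp, Set.range_comp]
  have hm : UniversallyClosed
      (pullback.map (f ≫ g) (f ≫ g) g g f f (𝟙 Z) (by simp) (by simp)) :=
    MorphismProperty.pullbackMap (P := @UniversallyClosed) inferInstance inferInstance rfl rfl
  exact (Scheme.Hom.isClosedMap _) _ (pullback.diagonal (f ≫ g)).isClosedEmbedding.isClosed_range

theorem result {X Y : Scheme.{u}} (f : X ⟶ Y) [Surjective f] [UniversallyClosed f] :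
    (QuasiSeparatedSpace X → QuasiSeparatedSpace Y) ∧ (X.IsSeparated → Y.IsSeparated) := by
  constructor
  · intro hX
    refine ⟨fun U V hU hUc hV hVc => ?_⟩
    have h1 : IsCompact (f ⁻¹' U ∩ f ⁻¹' V) :=
      hX.inter_isCompact _ _ (hU.preimage f.continuous)
        (QuasiCompact.isCompact_preimage (f := f) U hU hUc) (hV.preimage f.continuous)
        (QuasiCompact.isCompact_preimage (f := f) V hV hVc)
    have h2 : U ∩ V = f '' (f ⁻¹' U ∩ f ⁻¹' V) := by
      rw [← Set.preimage_inter, Set.image_preimage_eq _ f.surjective]
    rw [h2]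
    exact h1.image f.continuous
  · intro hX
    constructor
    have : IsSeparated (f ≫ Limits.terminal.from Y) := by
      rw [Limits.terminal.comp_from]; infer_instance
    exact isSeparated_of_comp_surj f _

end Groth.Agent.S2120
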