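import Groth.Statements.S2121
import Mathlib.AlgebraicGeometry.ValuativeCriterion

set_option autoImplicit false
universe u
open CategoryTheory AlgebraicGeometry
open Mor

namespace Groth.Agent.S2121

theorem exists_specializes_of_mem_closure_spec {R S : CommRingCat.{u}} (φ : S ⟶ R)
    (z : Spec S) (hz : z ∈ closure (Set.range (Spec.map φ))) :
    ∃ q : Spec R, (Spec.map φ) q ⤳ z := by
  change z ∈ closure (Set.range (PrimeSpectrum.comap φ.hom)) at hz
  rw [PrimeSpectrum.closure_range_comap] at hz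
  obtain ⟨Q, -, hQ, hQle⟩ := Ideal.exists_ideal_comap_le_prime (f := φ.hom) z.asIdeal ⊥ hz
  refine ⟨⟨Q, hQ⟩, ?_⟩
  exact (PrimeSpectrum.le_iff_specializes ⟨Q.comap φ.hom, inferInstance⟩ z).mp hQle

theorem exists_specializes_of_mem_closure {X Y : Scheme.{u}} (f : X ⟶ Y) [QuasiCompact f] (z : Y)
    (hz : z ∈ closure (Set.range f.base)) : ∃ x : X, f.base x ⤳ z := by
  obtain ⟨_, ⟨V, hV : IsAffineOpen V, rfl⟩, hzV, -⟩ :=
    (Y.isBasis_affineOpens).exists_subset_of_mem_open (Set.mem_univ z) isOpen_univ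
  have hc : IsCompact ((f ⁻¹ᵁ V : X.Opens) : Set X) :=
    QuasiCompact.isCompact_preimage (f := f) _ V.isOpen hV.isCompact
  obtain ⟨R, g, hg⟩ := isCompact_iff_exists.mp hc
  have hsub : Set.range (g ≫ f) ⊆ Set.range hV.fromSpec := by
    rw [hV.range_fromSpec]
    rintro _ ⟨a, rfl⟩
    have : g a ∈ (f ⁻¹ᵁ V : X.Opens) := by
      rw [← SetLike.mem_coe, ← hg]; exact ⟨a, rfl⟩
    exact this
  let h' : Spec R ⟶ Spec Γ(Y, V) := IsOpenImmersion.lift hV.fromSpec (g ≫ f) hsub
  have hh' : h' ≫ hV.fromSpec = g ≫ f := IsOpenImmersion.lift_fac _ _ _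
  obtain ⟨φ, hφ⟩ : ∃ φ : Γ(Y, V) ⟶ R, Spec.map φ = h' := ⟨Spec.preimage h', Spec.map_preimage h'⟩
  obtain ⟨z', hz'⟩ : z ∈ Set.range hV.fromSpec := by rw [hV.range_fromSpec]; exact hzV
  have hz'cl : z' ∈ closure (Set.range (Spec.map φ)) := by
    rw [hφ, hV.fromSpec.isOpenEmbedding.isInducing.closure_eq_preimage_closure_image,
      Set.mem_preimage, hz', ← Set.range_comp]
    rw [mem_closure_iff] at hz ⊢
    intro W hW hzW
    obtain ⟨_, ⟨hy1, hy2⟩, ⟨x, rfl⟩⟩ := hz (W ∩ V) (hW.inter V.isOpen) ⟨hzW, hzV⟩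
    have hx : x ∈ Set.range g := by rw [hg]; exact hy2
    obtain ⟨a, rfl⟩ := hx
    refine ⟨_, hy1, a, ?_⟩
    have := congr($(hh').base a)
    simpa using this
  obtain ⟨q, hq⟩ := exists_specializes_of_mem_closure_spec φ z' hz'cl
  refine ⟨g q, ?_⟩
  have h1 := hq.map hV.fromSpec.continuous
  rw [hz', hφ] at h1
  have := congr($(hh').base q)
  simp only [Scheme.Hom.comp_base, TopCat.comp_app] at this
  rw [← this]
  exact h1

theorem result {X Y : Scheme.{u}} (f : X ⟶ Y) [QuasiCompact f] (z : Y)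
    (hz : z ∈ closure (Set.range f.base)) :
    ∃ (A : Type u) (_ : CommRing A) (_ : IsDomain A) (_ : ValuationRing A)
      (x : Spec (CommRingCat.of (FractionRing A)) ⟶ X) (y : Spec (CommRingCat.of A) ⟶ Y),
      x ≫ f = Spec.map (CommRingCat.ofHom (algebraMap A (FractionRing A))) ≫ y ∧
      y.base (IsLocalRing.closedPoint A) = z := by
  obtain ⟨x, h⟩ := exists_specializes_of_mem_closure f z hz
  let φ : Y.presheaf.stalk z ⟶ X.residueField x :=
    Y.presheaf.stalkSpecializes h ≫ f.stalkMap x ≫ X.residue x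
  obtain ⟨A, hA, hA_local⟩ := IsLocalRing.exists_factor_valuationRing φ.hom
  let ψ : Y.presheaf.stalk z ⟶ .of A := CommRingCat.ofHom (φ.hom.codRestrict _ hA)
  have w : X.fromSpecResidueField x ≫ f =
      Spec.map (CommRingCat.ofHom (algebraMap A (X.residueField x))) ≫
        Spec.map ψ ≫ Y.fromSpecStalk z := by
    rw [Scheme.fromSpecResidueField, Category.assoc, ← Scheme.SpecMap_stalkMap_fromSpecStalk,
      ← Scheme.SpecMap_stalkSpecializes_fromSpecStalk h]
    simp_rw [← Spec.map_comp_assoc]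
    rfl
  let e : FractionRing A ≃ₐ[A] X.residueField x := FractionRing.algEquiv A (X.residueField x)
  refine ⟨A, inferInstance, inferInstance, inferInstance,
    Spec.map (CommRingCat.ofHom (e.symm : X.residueField x →+* FractionRing A)) ≫
      X.fromSpecResidueField x,
    Spec.map ψ ≫ Y.fromSpecStalk z, ?_, ?_⟩
  · rw [Category.assoc, w, ← Spec.map_comp_assoc]
    congr 2
    ext a
    exact e.symm.commutes a
  · simp only [Scheme.Hom.comp_base, TopCat.coe_comp, Function.comp_apply]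
    have : Spec.map ψ (IsLocalRing.closedPoint A) = IsLocalRing.closedPoint (Y.presheaf.stalk z) :=
      IsLocalRing.comap_closedPoint (S := A) (φ.hom.codRestrict A.toSubring hA)
    rw [this, Y.fromSpecStalk_closedPoint]

end Groth.Agent.S2121
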