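import Groth.Statements.S2122
import Groth.Agent.Lib.H78SecCoord

set_option autoImplicit false
universe u
open CategoryTheory AlgebraicGeometry
open Mor

namespace Groth.Agent.S2122

open CategoryTheory.Limits MonoidalCategory Opposite TopologicalSpace
open AlgebraicGeometry.Scheme AlgebraicGeometry.Scheme.Modules
open Groth.Agent.Lib.H90Invertible Groth.Agent.Lib.StructureModule Groth.Agent.Lib.H78TensorGen
open Groth.Agent.Lib.H78SecCoord

variable {X : Scheme.{u}} {L N : X.Modules}

/-- a section of the structure module as a function -/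
def unSec (V : X.Opens) (a : Γ(Coh.structureModule X, V)) : Γ(X, V) := a

/-- the pairing `L × N → O` induced by a map `L ⊗ N ⟶ O`. -/
noncomputable def pair (φ : CohB1.tensorMod L N ⟶ Coh.structureModule X) (V : X.Opens)
    (l : Γ(L, V)) (n : Γ(N, V)) : Γ(X, V) :=
  unSec V (φ.app V (tmul l n))

variable (φ : CohB1.tensorMod L N ⟶ Coh.structureModule X)

lemma pair_add_left (V : X.Opens) (l l' : Γ(L, V)) (n : Γ(N, V)) :
    pair φ V (l + l') n = pair φ V l n + pair φ V l' n := by
  unfold pair
  rw [tmul_add_left, map_add]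
  rfl

lemma pair_add_right (V : X.Opens) (l : Γ(L, V)) (n n' : Γ(N, V)) :
    pair φ V l (n + n') = pair φ V l n + pair φ V l n' := by
  unfold pair
  rw [tmul_add_right, map_add]
  rfl

lemma pair_smul_left (V : X.Opens) (a : Γ(X, V)) (l : Γ(L, V)) (n : Γ(N, V)) :
    pair φ V (a • l) n = a * pair φ V l n := by
  unfold pair
  rw [smul_tmul, Hom.app_smul]
  rfl

lemma pair_smul_right (V : X.Opens) (a : Γ(X, V)) (l : Γ(L, V)) (n : Γ(N, V)) :
    pair φ V l (a • n) = a * pair φ V l n := by
  unfold pair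
  rw [tmul_smul, Hom.app_smul]
  rfl

lemma pair_rs {V W : X.Opens} (h : W ≤ V) (l : Γ(L, V)) (n : Γ(N, V)) :
    pair φ W (rs L h l) (rs N h n) = X.presheaf.map (homOfLE h).op (pair φ V l n) := by
  unfold pair
  rw [← tmul_rs, app_rs]
  rfl

lemma toRR_add {V : X.Opens} (a b : Γ(X, V)) : toRR (a + b) = toRR a + toRR b := rfl

lemma toRR_mul {V : X.Opens} (a b : Γ(X, V)) : toRR (a * b) = toRR a * toRR b := rfl

/-- the linear map `L(V) ⊗ N(V) → L(V)`, `l ⊗ n ↦ ⟨s, n⟩ • l`. -/
noncomputable def contr (V : X.Opens) (s : Γ(L, V)) :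
    TensorProduct (RR V) (MM L V) (MM N V) →ₗ[RR V] MM L V :=
  TensorProduct.lift (LinearMap.mk₂ (RR V)
    (fun (l : MM L V) (n : MM N V) => (toRR (pair φ V s (show Γ(N, V) from n)) • l : MM L V))
    (fun l l' n => smul_add _ _ _)
    (fun c l n => smul_comm _ _ _)
    (fun l n n' => by
      change toRR (pair φ V s ((show Γ(N, V) from n) + (show Γ(N, V) from n'))) • l = _
      rw [pair_add_right, toRR_add]
      exact add_smul _ _ _)
    (fun c l n => by
      change toRR (pair φ V s ((show Γ(X, V) from c) • (show Γ(N, V) from n))) • l = _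
      rw [pair_smul_right, toRR_mul]
      exact mul_smul _ _ _))

lemma contr_ptmul (V : X.Opens) (s : Γ(L, V)) (l : Γ(L, V)) (n : Γ(N, V)) :
    contr φ V s (ptmul l n) = (pair φ V s n • l : Γ(L, V)) := rfl

lemma pair_sub_left (V : X.Opens) (l l' : Γ(L, V)) (n : Γ(N, V)) :
    pair φ V (l - l') n = pair φ V l n - pair φ V l' n := by
  have := pair_add_left φ V (l - l') l' n
  rw [sub_add_cancel] at this
  rw [this, add_sub_cancel_right]

/-- If `⟨s, t⟩` is a unit and `φ` is injective on sections, then `s` is a free generator of `L`. -/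
theorem isGen_of_isUnit_pair (hφ : ∀ V : X.Opens, Function.Injective (φ.app V))
    {W : X.Opens} (s : Γ(L, W)) (t : Γ(N, W)) (hu : IsUnit (pair φ W s t)) : IsGen L W s := by
  intro V hV
  have huV : IsUnit (pair φ V (rs L hV s) (rs N hV t)) := by
    rw [pair_rs]; exact hu.map _
  constructor
  · intro a b hab
    have hab' : a • rs L hV s = b • rs L hV s := hab
    have h := congrArg (fun l => pair φ V l (rs N hV t)) hab'
    simp only [pair_smul_left] at h
    exact huV.mul_left_injective h
  · intro l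
    obtain ⟨u, hu'⟩ := huV
    refine ⟨↑u⁻¹ * pair φ V l (rs N hV t), ?_⟩
    change (↑u⁻¹ * pair φ V l (rs N hV t)) • rs L hV s = l
    set b := ↑u⁻¹ * pair φ V l (rs N hV t) with hb
    have h0 : pair φ V (l - b • rs L hV s) (rs N hV t) = 0 := by
      rw [pair_sub_left, pair_smul_left, ← hu', hb, mul_assoc, mul_comm _ (u : Γ(X, V)), ← mul_assoc,
        Units.inv_mul, one_mul, sub_self]
    have h1 : tmul (l - b • rs L hV s) (rs N hV t) = 0 := by
      apply hφ V
      rw [map_zero]
      exact h0
    have h2 : l - b • rs L hV s = 0 := by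
      refine sec_ext L _ _ (fun z hz => ?_)
      obtain ⟨V', hV', hzV', hp⟩ := local_inj L N (ptmul (l - b • rs L hV s) (rs N hV t)) 0
        (by rw [map_zero]; exact h1) z hz
      refine ⟨V', hV', hzV', ?_⟩
      rw [ptmul_res, map_zero] at hp
      have h3 : (pair φ V' (rs L hV' (rs L hV s)) (rs N hV' (rs N hV t)) •
          rs L hV' (l - b • rs L hV s) : Γ(L, V')) = 0 := by
        refine (contr_ptmul φ V' (rs L hV' (rs L hV s)) (rs L hV' (l - b • rs L hV s))
          (rs N hV' (rs N hV t))).symm.trans ?_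
        rw [hp]
        exact map_zero _
      have hu'' : IsUnit (pair φ V' (rs L hV' (rs L hV s)) (rs N hV' (rs N hV t))) := by
        rw [pair_rs, ← hu']; exact u.isUnit.map _
      have h4 : rs L hV' (0 : Γ(L, V)) = 0 := map_zero _
      rw [h4]
      exact (hu''.smul_eq_zero).mp h3
    exact (sub_eq_zero.mp h2).symm

/-- the map `L(W) ⊗ N(W) → (L ⊗ N)(W)` as an additive map. -/
noncomputable def toT (W : X.Opens) :
    TensorProduct (RR W) (MM L W) (MM N W) →+ Γ(CohB1.tensorMod L N, W) :=
  AddMonoidHom.mk' (fun p => ((unitT L N).app (op W)).hom p)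
    (fun p q => map_add ((unitT L N).app (op W)).hom p q)

/-- the composite `L(W) ⊗ N(W) → (L ⊗ N)(W) → O(W)`. -/
noncomputable def Phi (W : X.Opens) (p : TensorProduct (RR W) (MM L W) (MM N W)) : Γ(X, W) :=
  unSec W (φ.app W (toT W p))

lemma Phi_zero (W : X.Opens) : Phi φ W 0 = 0 := by
  unfold Phi
  rw [map_zero, map_zero]
  rfl

lemma Phi_add (W : X.Opens) (p q : TensorProduct (RR W) (MM L W) (MM N W)) :
    Phi φ W (p + q) = Phi φ W p + Phi φ W q := by
  unfold Phi
  rw [map_add, map_add]
  rfl

lemma Phi_ptmul (W : X.Opens) (l : Γ(L, W)) (n : Γ(N, W)) :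
    Phi φ W (ptmul l n) = pair φ W l n := rfl

lemma exists_pure_tensor (W : X.Opens) (x : X)
    (p : TensorProduct (RR W) (MM L W) (MM N W)) (hp : x ∈ X.basicOpen (Phi φ W p)) :
    ∃ (l : Γ(L, W)) (n : Γ(N, W)), x ∈ X.basicOpen (pair φ W l n) := by
  by_contra hcon
  push Not at hcon
  have key : ∀ p, x ∉ X.basicOpen (Phi φ W p) := fun p =>
    TensorProduct.induction_on p
      (by rw [Phi_zero, Scheme.basicOpen_zero]; exact fun h => h)
      (fun l n => hcon l n)
      (fun p q hp hq => by
        rw [Phi_add]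
        intro h
        exact (X.basicOpen_add_le _ _ h).elim hp hq)
  exact key p hp


/-- On a scheme X, if an O_X-module L admits an O_X-module N with L ⊗ N ≅ O_X, then L is invertible:
locally on X it is isomorphic to O_X (locally free of rank one). -/
theorem result {X : Scheme.{u}} (L N : X.Modules)
    (e : CohB1.tensorMod L N ≅ Coh.structureModule X) : PicF.IsInvertible L := by
  rw [isInvertible_iff_exists_isGen]
  intro x
  have hbij : ∀ V : X.Opens, Function.Bijective (e.hom.app V) := fun V =>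
    (ConcreteCategory.isIso_iff_bijective (e.hom.app V)).mp inferInstance
  obtain ⟨q, hq⟩ := (hbij ⊤).2 (toSec ⊤ 1)
  obtain ⟨W, hW, hxW, p, hp⟩ := exists_local_rep L N q x (by trivial)
  have hΦp : Phi e.hom W p = 1 := by
    change unSec W (e.hom.app W (((unitT L N).app (op W)).hom p)) = 1
    rw [hp, app_rs, hq, toSec_rs, map_one]
    rfl
  obtain ⟨l, n, hln⟩ := exists_pure_tensor e.hom W x p
    (by rw [hΦp, Scheme.basicOpen_one]; exact hxW)
  refine ⟨X.basicOpen (pair e.hom W l n), hln, rs L (X.basicOpen_le _) l, ?_⟩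
  apply isGen_of_isUnit_pair e.hom (fun V => (hbij V).1) _ (rs N (X.basicOpen_le _) n)
  rw [pair_rs]
  exact RingedSpace.isUnit_res_basicOpen _ _

end Groth.Agent.S2122
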