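import Groth.Statements.S2127
import Groth.Agent.Lib.H78QAffine
import Groth.Agent.Lib.H78AmpleTwist2
import Groth.Agent.Lib.OXModTensor
import Groth.Agent.Lib.H60FinitePointsAffine

set_option autoImplicit false
universe u
open CategoryTheory AlgebraicGeometry
open Mor

namespace Groth.Agent.S2127


set_option backward.isDefEq.respectTransparency.types false in
/-- In a quasi-affine scheme a finite set of points of an open subset lies in an affine basic open
of a global function contained in it. -/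
theorem exists_basicOpen_of_finite_of_isQuasiAffine (X : Scheme.{u}) [X.IsQuasiAffine] (O : X.Opens)
    (F : Set X) (hF : F.Finite) (hFO : F ⊆ O) :
    ∃ r : Γ(X, ⊤), IsAffineOpen (X.basicOpen r) ∧ F ⊆ X.basicOpen r ∧ X.basicOpen r ≤ O := by
  obtain ⟨r, hr1, hr2⟩ := Groth.Agent.Lib.H60FinitePointsAffine.exists_basicOpen_of_finite Γ(X, ⊤)
    (X.toSpecΓ ''ᵁ O) (X.toSpecΓ '' F) (hF.image _) (Set.image_mono hFO)
  refine ⟨r, ?_, ?_, ?_⟩
  · rw [← Scheme.toSpecΓ_preimage_basicOpen, ← Scheme.Hom.isAffineOpen_iff_of_isOpenImmersion X.toSpecΓ,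
      Scheme.Hom.image_preimage_eq_opensRange_inf]
    have h1 : X.toSpecΓ.opensRange ⊓ (PrimeSpectrum.basicOpen r : (Spec Γ(X, ⊤)).Opens) =
        PrimeSpectrum.basicOpen r := by
      apply inf_eq_right.mpr
      intro y hy
      obtain ⟨x, -, rfl⟩ := hr2 hy
      exact ⟨x, rfl⟩
    rw [h1]
    exact IsAffineOpen.Spec_basicOpen r
  · intro x hx
    rw [← Scheme.toSpecΓ_preimage_basicOpen]
    exact hr1 ⟨x, hx, rfl⟩
  · rw [← Scheme.toSpecΓ_preimage_basicOpen]
    exact (Set.preimage_mono hr2).trans_eq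
      (Set.preimage_image_eq _ X.toSpecΓ.isEmbedding.injective)

open TopologicalSpace Groth.Agent.Lib.H90Invertible Groth.Agent.Lib.StructureModule
  Groth.Agent.Lib.H78TensorGen Groth.Agent.Lib.H78SecCoord in
/-- Let `X` be a quasi-affine scheme, `L` an invertible `O_X`-module, `W ⊆ X` open and `E ⊆ W` finite.
Then there is a global section `s` of `L` with `X_s` affine and `E ⊆ X_s ⊆ W`. -/
theorem result {X : Scheme.{u}} [X.IsQuasiAffine] (L : X.Modules) (hL : PicF.IsInvertible L)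
    (W : X.Opens) (E : Set X) (hE : E.Finite) (hEW : E ⊆ W) :
    ∃ s : Coh.structureModule X ⟶ L, IsAffineOpen (CohB1.genLocus L s) ∧ E ⊆ CohB1.genLocus L s ∧
      CohB1.genLocus L s ≤ W := by
  classical
  have hO : CohB1.IsAmple (Coh.structureModule X) :=
    Groth.Agent.Lib.H78QAffine.isAmple_of_isQuasiAffine (isInvertible_structureModule X)
  obtain ⟨N₀, hN⟩ := Groth.Agent.Lib.H78AmpleTwist2.exists_sec_twist_finset hO hL
    hE.toFinset.card hE.toFinset rfl
  obtain ⟨σ, hσ⟩ := hN N₀ le_rfl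
  have hσ' : E ⊆ CohB1.genLocus _ (ofSection σ) := by
    intro x hx
    exact hσ (by simpa using hx)
  let φ : CohB1.tensorMod L (CohB1.tensorPow (Coh.structureModule X) N₀) ≅ L :=
    Groth.Agent.Lib.H78AmpleUnit.tensorModIso (Iso.refl L)
      (Groth.Agent.Lib.H78AmpleUnit.tensorPowUnitIso X N₀) ≪≫
      Groth.Agent.Lib.OXModTensor.rightUnitor L
  have he₀ := isGen_genLocus (ofSection σ)
  have he₁ := he₀.of_iso φ
  obtain ⟨r, hraff, hEr, hrle⟩ := exists_basicOpen_of_finite_of_isQuasiAffine X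
    (W ⊓ CohB1.genLocus _ (ofSection σ)) E hE (fun x hx => ⟨hEW hx, hσ' hx⟩)
  have he₂ := he₁.mono (hrle.trans inf_le_right)
  obtain ⟨t, ht⟩ := Groth.Agent.Lib.H78QAffine.exists_sec_genLocus_eq hL r _ he₂
  refine ⟨ofSection t, ?_, ?_, ?_⟩
  · rw [ht]; exact hraff
  · rw [ht]; exact hEr
  · rw [ht]; exact hrle.trans inf_le_left

end Groth.Agent.S2127
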