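import Groth.Statements.S2130
import Groth.Agent.Lib.SmoothBranches96G

set_option autoImplicit false
universe u
open CAlg

namespace Groth.Agent.S2130

/-- Let `R → S` be smooth, `𝔮` a prime of `S` over `𝔭` with `κ(𝔮)/κ(𝔭)` purely inseparable, and `A = R_𝔭
→ B = S_𝔮`. Then henselizations of `A` and `B` have the same number of minimal prime ideals (the
same number of branches). -/
theorem result {R S Ah Bh : Type u} [CommRing R] [CommRing S]
    [Algebra R S] [Algebra.Smooth R S] (q : Ideal S) [q.IsPrime] (p : Ideal R) [p.IsPrime] [q.LiesOver p]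
    (hpi : @IsPurelyInseparable p.ResidueField q.ResidueField _ _
      (Ideal.ResidueField.mapₐ p q (Algebra.ofId R S) (q.over_def p)).toRingHom.toAlgebra)
    [CommRing Ah] [IsLocalRing Ah] [Algebra (Localization.AtPrime p) Ah]
    [IsLocalHom (algebraMap (Localization.AtPrime p) Ah)] [Hensel.IsHenselization (Localization.AtPrime p) Ah]
    [CommRing Bh] [IsLocalRing Bh] [Algebra (Localization.AtPrime q) Bh]
    [IsLocalHom (algebraMap (Localization.AtPrime q) Bh)] [Hensel.IsHenselization (Localization.AtPrime q) Bh] :
    (minimalPrimes Ah).encard = (minimalPrimes Bh).encard := by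
  obtain rfl : p = q.under R := q.over_def p
  let y : ↥(AlgebraicGeometry.Spec (CommRingCat.of S)) := (⟨q, inferInstance⟩ : PrimeSpectrum S)
  have : AlgebraicGeometry.Smooth (AlgebraicGeometry.Spec.map (CommRingCat.ofHom (algebraMap R S))) :=
    Groth.Agent.Lib.SmoothBranches96.smooth_SpecMap R S
  have hfy : PrimeSpectrum.asIdeal (R := R)
      ((AlgebraicGeometry.Spec.map (CommRingCat.ofHom (algebraMap R S))) y) = q.under R := rfl
  rw [Groth.Agent.Lib.SmoothBranches96.encard_minimalPrimes_eq_numBranchesAt R (q.under R)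
      ((AlgebraicGeometry.Spec.map (CommRingCat.ofHom (algebraMap R S))) y) hfy Ah,
    Groth.Agent.Lib.SmoothBranches96.encard_minimalPrimes_eq_numBranchesAt S q y rfl Bh]
  -- the exponential characteristic
  let e₀ : ℕ := ringExpChar (q.under R).ResidueField
  have he₀ : ExpChar (q.under R).ResidueField e₀ := ringExpChar.expChar _
  have h1 : Groth.Agent.Lib.SmoothBranches96.ResPI
      (Localization.localRingHom (q.under R) q (algebraMap R S) rfl) e₀ :=
    Groth.Agent.Lib.SmoothBranches96.resPI_of_isPurelyInseparable _ e₀ hpi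
  have h2 := Groth.Agent.Lib.SmoothBranches96.resPI_stalkMap_SpecMap R S q (q.under R) rfl e₀ h1
  -- transfer the exponential characteristic to the stalk
  have : ExpChar (IsLocalRing.ResidueField ((AlgebraicGeometry.Spec (CommRingCat.of R)).presheaf.stalk
      ((AlgebraicGeometry.Spec.map (CommRingCat.ofHom (algebraMap R S))) y))) e₀ :=
    Groth.Agent.Lib.SmoothBranches96.expChar_residueField_stalk R (q.under R)
      ((AlgebraicGeometry.Spec.map (CommRingCat.ofHom (algebraMap R S))) y) hfy e₀
  exact (Groth.Agent.Lib.SmoothBranches96.numBranchesAt_eq_of_smooth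
    (AlgebraicGeometry.Spec.map (CommRingCat.ofHom (algebraMap R S))) y e₀ h2).symm

end Groth.Agent.S2130
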