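import Groth.Statements.S2131
import Mathlib.RingTheory.Localization.Module

set_option autoImplicit false
universe u
open CAlg

namespace Groth.Agent.S2131

theorem mk_eq_zero_iff' {R M : Type u} [CommRing R] [AddCommGroup M] [Module R M]
    (S : Submonoid R) (m : M) (s : S) :
    LocalizedModule.mk m s = 0 ↔ ∃ u : S, u • m = 0 := by
  rw [← LocalizedModule.zero_mk s, LocalizedModule.mk_eq]
  constructor
  · rintro ⟨u, hu⟩
    refine ⟨u * s, ?_⟩
    rw [mul_smul]
    simpa using hu
  · rintro ⟨u, hu⟩
    refine ⟨u, ?_⟩
    rw [smul_comm u s m, hu]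
    simp

theorem bijective_of_le {R M N : Type u} [CommRing R] [AddCommGroup M] [Module R M]
    [AddCommGroup N] [Module R N] (φ : M →ₗ[R] N) (S T : Submonoid R) (hST : S ≤ T)
    (h : Function.Bijective (LocalizedModule.map S φ)) :
    Function.Bijective (LocalizedModule.map T φ) := by
  constructor
  · rw [injective_iff_map_eq_zero]
    intro x hx
    induction x using LocalizedModule.induction_on with
    | h m s =>
      rw [LocalizedModule.map_mk, mk_eq_zero_iff'] at hx
      obtain ⟨t, ht⟩ := hx
      have h1 : LocalizedModule.map S φ (LocalizedModule.mk (t.1 • m) 1) = 0 := by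
        rw [LocalizedModule.map_mk, map_smul]
        have : t.1 • φ m = 0 := ht
        rw [this, LocalizedModule.zero_mk]
      have h2 := (injective_iff_map_eq_zero _).mp h.1 _ h1
      rw [mk_eq_zero_iff'] at h2
      obtain ⟨u, hu⟩ := h2
      rw [mk_eq_zero_iff']
      refine ⟨⟨u.1, hST u.2⟩ * t, ?_⟩
      rw [mul_smul]
      exact hu
  · intro y
    induction y using LocalizedModule.induction_on with
    | h n s =>
      obtain ⟨x, hx⟩ := h.2 (LocalizedModule.mk n 1)
      induction x using LocalizedModule.induction_on with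
      | h m u =>
        rw [LocalizedModule.map_mk, LocalizedModule.mk_eq] at hx
        obtain ⟨v, hv⟩ := hx
        refine ⟨LocalizedModule.mk (v.1 • m) (⟨v.1 * u.1, hST (S.mul_mem v.2 u.2)⟩ * s), ?_⟩
        rw [LocalizedModule.map_mk, LocalizedModule.mk_eq]
        refine ⟨1, ?_⟩
        simp only [one_smul] at hv ⊢
        rw [map_smul]
        have hv' : v.1 • φ m = v.1 • u.1 • n := hv
        rw [hv']
        simp only [Submonoid.smul_def, Submonoid.coe_mul, smul_smul]
        congr 1
        ring

theorem result {R M N : Type u} [CommRing R] [AddCommGroup M] [Module R M] [Module.Finite R M]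
    [AddCommGroup N] [Module R N] [Module.FinitePresentation R N] (φ : M →ₗ[R] N) :
    IsOpen {p : PrimeSpectrum R | Function.Bijective (LocalizedModule.map p.asIdeal.primeCompl φ)} := by
  rw [isOpen_iff_forall_mem_open]
  intro p hp
  obtain ⟨g, hg, h⟩ := Module.FinitePresentation.exists_notMem_bijective φ p.asIdeal
    (LocalizedModule.mkLinearMap p.asIdeal.primeCompl M)
    (LocalizedModule.mkLinearMap p.asIdeal.primeCompl N)
    ((IsLocalizedModule.map_bijective_iff_localizedModuleMap_bijective _ _).mpr hp)
  refine ⟨PrimeSpectrum.basicOpen g, ?_, (PrimeSpectrum.basicOpen g).isOpen, hg⟩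
  intro q hq
  have hgq : g ∈ q.asIdeal.primeCompl := hq
  exact bijective_of_le φ _ _ (Submonoid.powers_le.mpr hgq) h

end Groth.Agent.S2131
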