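import Groth.Statements.S2132
import Mathlib.Algebra.Polynomial.Lifts
import Mathlib.Algebra.Category.Ring.FilteredColimits
import Mathlib.CategoryTheory.Limits.ConcreteCategory.Basic

set_option autoImplicit false
universe u
open CategoryTheory
open CAlg

namespace Groth.Agent.S2132

open Limits Polynomial

section
variable {J : Type u} [SmallCategory J] [IsFiltered J] (F : J ⥤ CommRingCat.{u})
  (c : Cocone F) (hc : IsColimit c)

include hc

theorem exists_rep (x : c.pt) : ∃ (j : J) (y : F.obj j), (c.ι.app j).hom y = x :=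
  Concrete.isColimit_exists_rep F hc x

theorem rep_eq {i j : J} (x : F.obj i) (y : F.obj j)
    (h : (c.ι.app i).hom x = (c.ι.app j).hom y) :
    ∃ (k : J) (f : i ⟶ k) (g : j ⟶ k), (F.map f).hom x = (F.map g).hom y :=
  Concrete.isColimit_exists_of_rep_eq F hc x y h

omit hc [IsFiltered J] in
theorem ι_map {i j : J} (f : i ⟶ j) (x : F.obj i) :
    (c.ι.app j).hom ((F.map f).hom x) = (c.ι.app i).hom x := by
  have := c.w f
  rw [← this]
  rfl

omit hc [IsFiltered J] in
theorem range_mono {i j : J} (f : i ⟶ j) :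
    Set.range (c.ι.app i).hom ⊆ Set.range (c.ι.app j).hom := by
  rintro _ ⟨x, rfl⟩
  exact ⟨(F.map f).hom x, ι_map F c f x⟩

theorem exists_stage_finset (s : Finset c.pt) :
    ∃ j, ∀ x ∈ s, x ∈ Set.range (c.ι.app j).hom := by
  classical
  induction s using Finset.induction_on with
  | empty => exact ⟨IsFiltered.nonempty.some, by simp⟩
  | insert a s _ ih =>
    obtain ⟨j, hj⟩ := ih
    obtain ⟨j', y, hy⟩ := exists_rep F c hc a
    refine ⟨IsFiltered.max j j', fun x hx => ?_⟩
    rw [Finset.mem_insert] at hx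
    rcases hx with rfl | hx
    · exact range_mono F c (IsFiltered.rightToMax j j') ⟨y, hy⟩
    · exact range_mono F c (IsFiltered.leftToMax j j') (hj x hx)

theorem isUnit_of_isUnit_ι (hloc : ∀ (i j : J) (a : i ⟶ j), IsLocalHom (F.map a).hom)
    {k : J} (x : F.obj k) (hx : IsUnit ((c.ι.app k).hom x)) : IsUnit x := by
  obtain ⟨w, hw⟩ := hx.exists_right_inv
  obtain ⟨l, w', rfl⟩ := exists_rep F c hc w
  let m := IsFiltered.max k l
  let α : k ⟶ m := IsFiltered.leftToMax k l
  let β : l ⟶ m := IsFiltered.rightToMax k l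
  have h1 : (c.ι.app m).hom ((F.map α).hom x * (F.map β).hom w') = (c.ι.app m).hom 1 := by
    rw [map_mul, ι_map, ι_map, hw, map_one]
  obtain ⟨n, γ, δ, h2⟩ := rep_eq F c hc _ _ h1
  rw [map_mul, map_one] at h2
  have h3 : IsUnit ((F.map γ).hom ((F.map α).hom x)) := IsUnit.of_mul_eq_one _ h2
  have h4 : IsUnit ((F.map α).hom x) := (hloc _ _ γ).map_nonunit _ h3
  exact (hloc _ _ α).map_nonunit _ h4

theorem isLocalRing_pt (hF : ∀ j, IsLocalRing (F.obj j))
    (hloc : ∀ (i j : J) (a : i ⟶ j), IsLocalHom (F.map a).hom) : IsLocalRing c.pt := by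
  classical
  have : ∀ j, Nontrivial (F.obj j) := fun j => inferInstance
  have : Nontrivial c.pt := CommRingCat.FilteredColimits.nontrivial hc
  apply IsLocalRing.of_nonunits_add
  intro a b ha hb hab
  obtain ⟨j, hj⟩ := exists_stage_finset F c hc {a, b}
  obtain ⟨a', rfl⟩ := hj a (by simp)
  obtain ⟨b', rfl⟩ := hj b (by simp)
  have ha' : a' ∈ nonunits (F.obj j) := fun h => ha (h.map _)
  have hb' : b' ∈ nonunits (F.obj j) := fun h => hb (h.map _)
  have hab' : a' + b' ∈ nonunits (F.obj j) := IsLocalRing.nonunits_add ha' hb'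
  apply hab'
  apply isUnit_of_isUnit_ι F c hc hloc
  rw [map_add]
  exact hab

end

theorem result {J : Type u} [SmallCategory J] [IsFiltered J] (F : J ⥤ CommRingCat.{u})
    (hF : ∀ j, HenselianLocalRing (F.obj j)) (hloc : ∀ (i j : J) (a : i ⟶ j), IsLocalHom (F.map a).hom)
    (c : Limits.Cocone F) (hc : Limits.IsColimit c) : HenselianLocalRing c.pt := by
  classical
  have hlocal : IsLocalRing c.pt := isLocalRing_pt F c hc (fun j => inferInstance) hloc
  refine @HenselianLocalRing.mk _ _ hlocal ?_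
  intro f hf a₀ h₁ h₂
  obtain ⟨u, hu⟩ := h₂.exists_right_inv
  obtain ⟨j, hj⟩ := exists_stage_finset F c hc (insert a₀ (insert u f.coeffs))
  have hlifts : f ∈ Polynomial.lifts (c.ι.app j).hom := by
    rw [Polynomial.lifts_iff_coeffs_subset_range]
    intro x hx
    exact hj x (by simp [Finset.mem_coe.mp hx])
  obtain ⟨g, hg, -, hgm⟩ := Polynomial.lifts_and_natDegree_eq_and_monic hlifts hf
  obtain ⟨b₀, hb₀⟩ := hj a₀ (by simp)
  obtain ⟨v, hv⟩ := hj u (by simp)
  have h3 : (c.ι.app j).hom (g.derivative.eval b₀ * v) = (c.ι.app j).hom 1 := by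
    rw [map_mul, hv, map_one, ← hu, ← hg, ← hb₀, Polynomial.derivative_map,
      Polynomial.eval_map_apply]
  obtain ⟨k, α, β, h4⟩ := rep_eq F c hc _ _ h3
  rw [map_mul, map_one] at h4
  set gk : (F.obj k)[X] := g.map (F.map α).hom with hgk
  set bk : F.obj k := (F.map α).hom b₀ with hbk
  have hgkf : gk.map (c.ι.app k).hom = f := by
    rw [hgk, Polynomial.map_map, ← hg]
    congr 1
    ext x
    exact ι_map F c α x
  have hbk0 : (c.ι.app k).hom bk = a₀ := by rw [hbk, ι_map, hb₀]
  have hder : IsUnit (gk.derivative.eval bk) := by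
    apply IsUnit.of_mul_eq_one ((F.map α).hom v)
    rw [← h4, hgk, hbk, Polynomial.derivative_map, Polynomial.eval_map_apply]
  have hmem : gk.eval bk ∈ IsLocalRing.maximalIdeal (F.obj k) := by
    rw [IsLocalRing.mem_maximalIdeal]
    intro hunit
    have : IsUnit (f.eval a₀) := by
      rw [← hgkf, ← hbk0, Polynomial.eval_map_apply]
      exact hunit.map _
    exact h₁ this
  obtain ⟨b, hb1, hb2⟩ := (hF k).is_henselian gk (hgm.map _) bk hmem hder
  refine ⟨(c.ι.app k).hom b, ?_, ?_⟩
  · rw [Polynomial.IsRoot.def, ← hgkf, Polynomial.eval_map_apply, hb1.eq_zero, map_zero]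
  · rw [← hbk0, ← map_sub, IsLocalRing.mem_maximalIdeal]
    intro hunit
    exact hb2 (isUnit_of_isUnit_ι F c hc hloc _ hunit)

end Groth.Agent.S2132
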