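import Groth.Statements.S2133
import Mathlib.RingTheory.Etale.Kaehler
import Mathlib.RingTheory.Localization.Module
import Mathlib.RingTheory.Localization.Away.Basic

set_option autoImplicit false
universe u
open CAlg

namespace Groth.Agent.S2133

open KaehlerDifferential

theorem exists_derivation_extension {R L : Type u} [CommRing R] [CommRing L] [Algebra R L]
    (M : Submonoid R) [IsLocalization M L] (D : Derivation ℤ R R) :
    ∃ D' : Derivation ℤ L L, ∀ r, D' (algebraMap R L r) = algebraMap R L (D r) := by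
  let d : Derivation ℤ R L := (Algebra.linearMap R L).compDer D
  let ℓ : Ω[R⁄ℤ] →ₗ[R] L := d.liftKaehlerDifferential
  let ℓ' : Ω[L⁄ℤ] →ₗ[R] L := IsLocalizedModule.lift M (KaehlerDifferential.map ℤ ℤ R L) ℓ
    (fun x => IsLocalizedModule.map_units (Algebra.linearMap R L) x)
  let ℓ'' : Ω[L⁄ℤ] →ₗ[L] L := LinearMap.extendScalarsOfIsLocalization M L ℓ'
  refine ⟨ℓ''.compDer (KaehlerDifferential.D ℤ L), fun r => ?_⟩
  change ℓ' (KaehlerDifferential.D ℤ L (algebraMap R L r)) = _
  rw [← KaehlerDifferential.map_D ℤ ℤ R L]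
  change IsLocalizedModule.lift M (KaehlerDifferential.map ℤ ℤ R L) ℓ _ _ = _
  rw [IsLocalizedModule.lift_apply]
  change d.liftKaehlerDifferential (KaehlerDifferential.D ℤ R r) = _
  rw [Derivation.liftKaehlerDifferential_comp_D]
  rfl

theorem aux {R R' L : Type u} [CommRing R] [CommRing R'] [Algebra R R'] [Algebra.FiniteType R R']
    [CommRing L] [Algebra R' L] [Algebra R L] [IsScalarTower R R' L]
    (hinj : Function.Injective (algebraMap R R')) (g : R)
    [IsLocalization (Submonoid.powers (algebraMap R R' g)) L]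
    (hinjL : Function.Injective (algebraMap R' L))
    (hloc : ∀ x : R', ∃ n : ℕ, (algebraMap R R' g) ^ n * x ∈ Set.range (algebraMap R R')) (D : Derivation ℤ R R) :
    ∃ (N : ℕ) (D' : Derivation ℤ R' R'), ∀ r : R, D' (algebraMap R R' r) = algebraMap R R' (g ^ N * D r) := by
  classical
  have halg : ∀ r : R, algebraMap R L r = algebraMap R' L (algebraMap R R' r) := fun r =>
    IsScalarTower.algebraMap_apply R R' L r
  have : IsLocalization (Submonoid.powers g) L := by
    rw [isLocalization_iff]
    refine ⟨?_, ?_, ?_⟩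
    · rintro ⟨_, k, rfl⟩
      rw [halg, map_pow]
      exact IsLocalization.map_units L
        (⟨(algebraMap R R' g) ^ k, k, rfl⟩ : Submonoid.powers (algebraMap R R' g))
    · intro z
      obtain ⟨⟨x, ⟨_, k, rfl⟩⟩, hx⟩ := IsLocalization.surj (Submonoid.powers (algebraMap R R' g)) z
      obtain ⟨m, r, hr⟩ := hloc x
      refine ⟨(r, ⟨g ^ (k + m), k + m, rfl⟩), ?_⟩
      simp only at hx ⊢
      rw [halg, halg, hr, map_mul, ← hx]
      simp only [map_pow, pow_add, map_mul]
      ring
    · intro x y hxy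
      refine ⟨1, ?_⟩
      rw [halg, halg] at hxy
      rw [hinj (hinjL hxy)]
  obtain ⟨DL, hDL⟩ := exists_derivation_extension (L := L) (Submonoid.powers g) D
  let D1 : Derivation ℤ R' L := DL.compAlgebraMap R'
  have hD1 : ∀ x, D1 x = DL (algebraMap R' L x) := fun x => rfl
  obtain ⟨s, hs⟩ := (Algebra.FiniteType.out : (⊤ : Subalgebra R R').FG)
  have h1 : ∀ y : L, ∃ n : ℕ,
      algebraMap R' L ((algebraMap R R' g) ^ n) * y ∈ (algebraMap R' L).range := by
    intro y
    obtain ⟨⟨x, ⟨_, k, rfl⟩⟩, hx⟩ := IsLocalization.surj (Submonoid.powers (algebraMap R R' g)) y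
    exact ⟨k, x, by simp only at hx; rw [← hx, mul_comm]⟩
  choose n hn using fun x : R' => h1 (D1 x)
  let N := s.sup n
  have key : ∀ x : R',
      algebraMap R' L ((algebraMap R R' g) ^ N) * D1 x ∈ (algebraMap R' L).range := by
    intro x
    have hx : x ∈ Algebra.adjoin R (s : Set R') := by rw [hs]; trivial
    induction hx using Algebra.adjoin_induction with
    | mem x hx =>
      have hle : n x ≤ N := Finset.le_sup (f := n) hx
      obtain ⟨m, hm⟩ := Nat.exists_eq_add_of_le hle
      rw [hm, pow_add, map_mul, mul_comm (algebraMap R' L _), mul_assoc]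
      exact Subring.mul_mem _ ⟨_, rfl⟩ (hn x)
    | algebraMap r =>
      rw [hD1, ← halg, hDL, halg]
      exact Subring.mul_mem _ ⟨_, rfl⟩ ⟨_, rfl⟩
    | add x y _ _ hx hy =>
      rw [map_add, mul_add]
      exact Subring.add_mem _ hx hy
    | mul x y _ _ hx hy =>
      rw [Derivation.leibniz, mul_add, Algebra.smul_def, Algebra.smul_def, mul_left_comm,
        mul_left_comm _ (algebraMap R' L y)]
      exact Subring.add_mem _ (Subring.mul_mem _ ⟨_, rfl⟩ hy) (Subring.mul_mem _ ⟨_, rfl⟩ hx)
  choose φ hφ using key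
  have hadd : ∀ x y, φ (x + y) = φ x + φ y := by
    intro x y
    apply hinjL
    rw [map_add, hφ, hφ, hφ, map_add, mul_add]
  let φ₀ : R' →+ R' := AddMonoidHom.mk' φ hadd
  have hleib : ∀ a b, φ₀.toIntLinearMap (a * b) = a • φ₀.toIntLinearMap b + b • φ₀.toIntLinearMap a := by
    intro a b
    change φ (a * b) = a • φ b + b • φ a
    apply hinjL
    rw [hφ, Derivation.leibniz, smul_eq_mul, smul_eq_mul, map_add, map_mul (algebraMap R' L),
      map_mul (algebraMap R' L), hφ, hφ, Algebra.smul_def, Algebra.smul_def]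
    ring
  refine ⟨N, Derivation.mk' φ₀.toIntLinearMap hleib, fun r => ?_⟩
  change φ (algebraMap R R' r) = _
  apply hinjL
  rw [hφ, hD1, ← halg, hDL, halg, ← map_mul, map_mul (algebraMap R R'), map_pow]

theorem result {R R' : Type u} [CommRing R] [CommRing R'] [Algebra R R'] [Algebra.FiniteType R R']
    (hinj : Function.Injective (algebraMap R R')) (g : R) (hg : IsSMulRegular R' (algebraMap R R' g))
    (hloc : ∀ x : R', ∃ n : ℕ, (algebraMap R R' g) ^ n * x ∈ Set.range (algebraMap R R')) (D : Derivation ℤ R R) :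
    ∃ (N : ℕ) (D' : Derivation ℤ R' R'), ∀ r : R, D' (algebraMap R R' r) = algebraMap R R' (g ^ N * D r) := by
  have hreg : Submonoid.powers (algebraMap R R' g) ≤ nonZeroDivisors R' := by
    rintro _ ⟨k, rfl⟩
    apply IsRegular.mem_nonZeroDivisors
    apply IsRegular.pow
    exact isLeftRegular_iff_isRegular.mp (isLeftRegular_iff.mpr hg)
  have hinjL : Function.Injective (algebraMap R' (Localization.Away (algebraMap R R' g))) :=
    IsLocalization.injective _ hreg
  exact aux (L := Localization.Away (algebraMap R R' g)) hinj g hinjL hloc D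

end Groth.Agent.S2133
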