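import Groth.Statements.S2134

set_option autoImplicit false
universe u
open CAlg

namespace Groth.Agent.S2134

section
variable {k K : Type u} [Field k] [Field K] [Algebra k K] {ι : Type u}
  (F : ι → IntermediateField k K) {n : ℕ} (V : Submodule K (Fin n → K))

def P (a : ι) (T : Finset (Fin n)) : Prop :=
  ∃ v ∈ V, v ≠ 0 ∧ (∀ i, v i ∈ F a) ∧ (∀ i, v i ≠ 0 → i ∈ T)

theorem P_mono {a b : ι} (h : F b ≤ F a) {T : Finset (Fin n)} (hP : P F V b T) : P F V a T := by
  obtain ⟨v, hv, hv0, hvF, hvT⟩ := hP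
  exact ⟨v, hv, hv0, fun i => h (hvF i), hvT⟩

theorem aux [Nonempty ι] (hdir : ∀ a b : ι, ∃ c, F c ≤ F a ⊓ F b) (hinf : ⨅ a, F a = ⊥)
    (T : Finset (Fin n)) (hT : ∀ a, P F V a T) :
    ∃ v ∈ V, v ≠ 0 ∧ ∀ i, v i ∈ Set.range (algebraMap k K) := by
  induction T using Finset.strongInduction with
  | H T ih =>
    by_cases hcase : ∃ i ∈ T, ∀ a, P F V a (T.erase i)
    · obtain ⟨i, hi, hP⟩ := hcase
      exact ih _ (Finset.erase_ssubset hi) hP
    · push Not at hcase
      obtain ⟨a₁⟩ := ‹Nonempty ι›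
      obtain ⟨v₁, -, hv₁0, -, hv₁T⟩ := hT a₁
      obtain ⟨i0, hi0⟩ : ∃ i, v₁ i ≠ 0 := by
        by_contra hcon
        push Not at hcon
        exact hv₁0 (funext hcon)
      have hi0T : i0 ∈ T := hv₁T i0 hi0
      obtain ⟨a0, ha0⟩ := hcase i0 hi0T
      have key : ∀ c, F c ≤ F a0 → ∀ u ∈ V, u ≠ 0 → (∀ i, u i ∈ F c) → (∀ i, u i ≠ 0 → i ∈ T) →
          u i0 ≠ 0 := by
        intro c hc u hu hu0 huF huT hui0
        apply ha0
        refine P_mono F V hc ⟨u, hu, hu0, huF, fun i hi => ?_⟩
        rw [Finset.mem_erase]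
        refine ⟨?_, huT i hi⟩
        rintro rfl
        exact hi hui0
      obtain ⟨v0, hv0V, hv00, hv0F, hv0T⟩ := hT a0
      have hv0i0 : v0 i0 ≠ 0 := key a0 le_rfl v0 hv0V hv00 hv0F hv0T
      refine ⟨(v0 i0)⁻¹ • v0, V.smul_mem _ hv0V, ?_, ?_⟩
      · intro h0
        have := congr_fun h0 i0
        simp [hv0i0] at this
      · intro i
        have hmem : ∀ a, ((v0 i0)⁻¹ • v0) i ∈ F a := by
          intro a
          obtain ⟨c, hc⟩ := hdir a a0
          have hca : F c ≤ F a := hc.trans inf_le_left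
          have hca0 : F c ≤ F a0 := hc.trans inf_le_right
          obtain ⟨u, huV, hu0, huF, huT⟩ := hT c
          have hui0 : u i0 ≠ 0 := key c hca0 u huV hu0 huF huT
          have hd : (v0 i0)⁻¹ • v0 - (u i0)⁻¹ • u = 0 := by
            by_contra hd
            apply ha0
            refine ⟨(v0 i0)⁻¹ • v0 - (u i0)⁻¹ • u,
              V.sub_mem (V.smul_mem _ hv0V) (V.smul_mem _ huV), hd, fun j => ?_, fun j hj => ?_⟩
            · simp only [Pi.sub_apply, Pi.smul_apply, smul_eq_mul]
              exact (F a0).sub_mem ((F a0).mul_mem ((F a0).inv_mem (hv0F i0)) (hv0F j))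
                ((F a0).mul_mem ((F a0).inv_mem (hca0 (huF i0))) (hca0 (huF j)))
            · rw [Finset.mem_erase]
              constructor
              · rintro rfl
                apply hj
                simp [hv0i0, hui0]
              · by_contra hjT
                apply hj
                have h1 : v0 j = 0 := by
                  by_contra h; exact hjT (hv0T j h)
                have h2 : u j = 0 := by
                  by_contra h; exact hjT (huT j h)
                simp [h1, h2]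
          rw [sub_eq_zero] at hd
          rw [hd]
          simp only [Pi.smul_apply, smul_eq_mul]
          exact hca ((F c).mul_mem ((F c).inv_mem (huF i0)) (huF i))
        have : ((v0 i0)⁻¹ • v0) i ∈ ⨅ a, F a := by
          rw [iInf, IntermediateField.mem_sInf]
          rintro _ ⟨a, rfl⟩
          exact hmem a
        rw [hinf, IntermediateField.mem_bot] at this
        exact this

end

theorem result {k K : Type u} [Field k] [Field K] [Algebra k K] {ι : Type u} [Nonempty ι]
    (F : ι → IntermediateField k K) (hdir : ∀ a b : ι, ∃ c, F c ≤ F a ⊓ F b) (hinf : ⨅ a, F a = ⊥) (n : ℕ) (hn : 1 ≤ n)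
    (V : Submodule K (Fin n → K)) :
    (∃ v ∈ V, v ≠ 0 ∧ ∀ i, v i ∈ Set.range (algebraMap k K)) ↔
      ∀ a, ∃ v ∈ V, v ≠ 0 ∧ ∀ i, v i ∈ F a := by
  constructor
  · rintro ⟨v, hv, hv0, hvk⟩ a
    refine ⟨v, hv, hv0, fun i => ?_⟩
    obtain ⟨c, hc⟩ := hvk i
    rw [← hc]
    exact (F a).algebraMap_mem c
  · intro h
    apply aux F V hdir hinf Finset.univ
    intro a
    obtain ⟨v, hv, hv0, hvF⟩ := h a
    exact ⟨v, hv, hv0, hvF, fun i _ => Finset.mem_univ i⟩

end Groth.Agent.S2134
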