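import Groth.Statements.S2137
import Groth.Agent.Lib.PCohProjRep21
import Groth.Agent.Lib.LBaseChangeKProj

set_option autoImplicit false
universe u
open CategoryTheory
attribute [local instance] HasDerivedCategory.standard
open CAlg

namespace Groth.Agent.S2137

/-- Let `A → B` be a ring map and `K` an `m`-pseudo-coherent object of `D(A)`. Then `K ⊗^L_A B` is
`m`-pseudo-coherent in `D(B)`. (Stated assuming the total left derived functor of base change exists
on `D(A)`, a fact not available as a library result here.) -/
theorem result {A B : Type u} [CommRing A] [CommRing B] (φ : A →+* B) [DRing.HasLBaseChange φ]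
    (K : Dual.D A) (m : ℤ) (hK : DRing.IsPseudoCoherent A m K) :
    DRing.IsPseudoCoherent B m ((DRing.LBaseChange φ).obj K) := by
  refine Groth.Agent.Lib.PCohProjRep21.isPseudoCoherent_LBaseChange_of_key φ ?_ K m hK
  rintro P ⟨b, hb⟩ hP
  have hPb : P.IsStrictlyLE b := by
    rw [CochainComplex.isStrictlyLE_iff]
    exact hb
  have hPp : ∀ i, Projective (P.X i) := fun i => by
    have := hP i
    exact ModuleCat.projective_of_categoryTheory_projective (P.X i)
  exact ⟨Groth.Agent.Lib.LBaseChangeKProj.lbcIsoOfBdd φ P b⟩

end Groth.Agent.S2137
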