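import Groth.Statements.S2139
import Mathlib
import Groth.Agent.Lib.NormalTotFrac97
-- import your own Groth.Agent.* helpers here

set_option autoImplicit false
universe u
open CAlg

namespace Groth.Agent.S2139

/-- Let `R` be a reduced ring with finitely many minimal primes. Then every localization of `R` at a
prime is an integrally closed domain if and only if `R` is integrally closed in its total ring of
fractions. -/
theorem result {R : Type u} [CommRing R] [IsReduced R] (hfin : (minimalPrimes R).Finite) :
    (∀ (p : Ideal R) [p.IsPrime], IsDomain (Localization.AtPrime p) ∧ IsIntegrallyClosed (Localization.AtPrime p)) ↔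
      IsIntegrallyClosedIn R (FractionRing R) := by
  constructor
  · intro h
    exact Groth.Agent.Lib.NormalTotFrac97.isIntegrallyClosedIn_of_localizations
      (nonZeroDivisors R) le_rfl (fun m _ => h m)
  · intro hic p _
    exact Groth.Agent.Lib.NormalTotFrac97.normal_of_isIntegrallyClosedIn (FractionRing R) hfin hic p

end Groth.Agent.S2139
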