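import Groth.Statements.S2140
import Groth.Agent.Lib.H77GenFP
import Mathlib.RingTheory.Localization.BaseChange
import Mathlib.RingTheory.IsTensorProduct

set_option autoImplicit false
universe u
open CAlg

namespace Groth.Agent.S2140

/-- Let `R → S` be an injective ring map of finite type between domains. Then there are nonzero `f ∈ R`
and `g ∈ S` such that `S_{fg}` is a finitely presented `R_f`-algebra. -/
theorem result {R S : Type u} [CommRing R] [IsDomain R] [CommRing S] [IsDomain S]
    [Algebra R S] [Algebra.FiniteType R S] (hinj : Function.Injective (algebraMap R S)) :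
    ∃ (f : R) (g : S), f ≠ 0 ∧ g ≠ 0 ∧
      ∀ (Rf Sfg : Type u) [CommRing Rf] [CommRing Sfg] [Algebra R Rf] [IsLocalization.Away f Rf]
        [Algebra S Sfg] [IsLocalization.Away (algebraMap R S f * g) Sfg] [Algebra Rf Sfg] [Algebra R Sfg]
        [IsScalarTower R S Sfg] [IsScalarTower R Rf Sfg], Algebra.FinitePresentation Rf Sfg := by
  classical
  obtain ⟨n, π, G, f, hf, hpres⟩ := Groth.Agent.Lib.H77GenFree.exists_isGenPres (R := R) S
  refine ⟨f, 1, hf, one_ne_zero, ?_⟩
  intro Rf Sfg _ _ _ _ _ _ _ _ _ _
  have hfp : Algebra.FinitePresentation Rf (TensorProduct R Rf S) :=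
    hpres.finitePresentation_tensor Rf
  have hloc : IsLocalization (Algebra.algebraMapSubmonoid S (Submonoid.powers f)) Sfg := by
    have : Algebra.algebraMapSubmonoid S (Submonoid.powers f) =
        Submonoid.powers (algebraMap R S f * 1) := by
      rw [mul_one, Algebra.algebraMapSubmonoid, Submonoid.map_powers]
    rw [this]
    infer_instance
  have hpo : Algebra.IsPushout R Rf S Sfg :=
    .symm <| Algebra.isPushout_of_isLocalization (Submonoid.powers f) _ _ _
  exact .equiv (Algebra.IsPushout.equiv R Rf S Sfg)

end Groth.Agent.S2140
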