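import Groth.Statements.S2145
import Groth.Agent.Lib.H77SpreadIso

set_option autoImplicit false
universe u
open CAlg

namespace Groth.Agent.S2145

/-- Let `S`, `S'` be finitely presented `R`-algebras and `𝔮 ⊆ S`, `𝔮' ⊆ S'` primes with `S_𝔮 ≅ S'_{𝔮'}`
as `R`-algebras. Then `S_g ≅ S'_{g'}` as `R`-algebras for some `g ∉ 𝔮`, `g' ∉ 𝔮'`. -/
theorem result {R S S' : Type u} [CommRing R] [CommRing S] [CommRing S'] [Algebra R S]
    [Algebra R S'] [Algebra.FinitePresentation R S] [Algebra.FinitePresentation R S'] (q : Ideal S) [q.IsPrime]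
    (q' : Ideal S') [q'.IsPrime] (e : Localization.AtPrime q ≃ₐ[R] Localization.AtPrime q') :
    ∃ (g : S) (g' : S'), g ∉ q ∧ g' ∉ q' ∧ Nonempty (Localization.Away g ≃ₐ[R] Localization.Away g') := by
  let K := Localization.AtPrime q'
  let φ : S →ₐ[R] K := e.toAlgHom.comp (IsScalarTower.toAlgHom R S (Localization.AtPrime q))
  let _ : Algebra S K := φ.toRingHom.toAlgebra
  have : IsScalarTower R S K := IsScalarTower.of_algebraMap_eq fun r => (φ.commutes r).symm
  let eS : Localization.AtPrime q ≃ₐ[S] K := AlgEquiv.ofRingEquiv (f := e.toRingEquiv) fun s => rfl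
  have : IsLocalization q.primeCompl K := IsLocalization.isLocalization_of_algEquiv q.primeCompl eS
  obtain ⟨g, hg, g', hg', e', -⟩ :=
    Groth.Agent.Lib.H77SpreadIso.exists_away_algEquiv (R := R) q.primeCompl q'.primeCompl K
      (fun s hs => (IsLocalization.AtPrime.isUnit_to_map_iff K q s).mp hs)
  exact ⟨g, g', hg, hg', ⟨e'⟩⟩

end Groth.Agent.S2145
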