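import Groth.Statements.S2146
import Groth.Agent.S2145
import Mathlib.RingTheory.Localization.Away.AdjoinRoot

set_option autoImplicit false
universe u
open CAlg

namespace Groth.Agent.S2146

/-- A retraction `σ : B → A` of an `A`-algebra `B` whose kernel is killed by `g ^ n`, with `σ g`
a unit, splits `B` as `A × C`. -/
theorem exists_prod_of_retraction {A B : Type u} [CommRing A] [CommRing B] [Algebra A B]
    (σ : B →ₐ[A] A) (g : B) (n : ℕ) (hu : IsUnit (σ g))
    (hker : ∀ x : B, σ x = 0 → g ^ n * x = 0) :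
    ∃ (C : Type u) (_ : CommRing C) (_ : Algebra A C), Nonempty (B ≃ₐ[A] (A × C)) := by
  let J : Ideal B := Ideal.span {g ^ n}
  refine ⟨B ⧸ J, inferInstance, inferInstance, ?_⟩
  let Φ : B →ₐ[A] A × (B ⧸ J) := σ.prod (Ideal.Quotient.mkₐ A J)
  obtain ⟨w, hw⟩ := (hu.pow n).exists_right_inv
  let v : B := g ^ n * algebraMap A B w
  have hvJ : v ∈ J := Ideal.mul_mem_right _ _ (Ideal.subset_span rfl)
  have hσv : σ v = 1 := by
    simp only [v, map_mul, map_pow, AlgHom.commutes, Algebra.algebraMap_self, RingHom.id_apply]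
    exact hw
  have hmkv : Ideal.Quotient.mk J v = 0 := Ideal.Quotient.eq_zero_iff_mem.mpr hvJ
  refine ⟨AlgEquiv.ofBijective Φ ⟨?_, ?_⟩⟩
  · rw [injective_iff_map_eq_zero]
    intro x hx
    have h1 : σ x = 0 := congrArg Prod.fst hx
    have h2 : Ideal.Quotient.mk J x = 0 := congrArg Prod.snd hx
    obtain ⟨z, rfl⟩ := Ideal.mem_span_singleton'.mp (Ideal.Quotient.eq_zero_iff_mem.mp h2)
    have h3 : σ z = 0 := by
      rw [map_mul, map_pow] at h1
      exact ((hu.pow n).mul_left_eq_zero).mp h1
    rw [mul_comm]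
    exact hker z h3
  · rintro ⟨r, c⟩
    obtain ⟨c, rfl⟩ := Ideal.Quotient.mk_surjective c
    refine ⟨algebraMap A B r * v + c * (1 - v), ?_⟩
    refine Prod.ext ?_ ?_
    · change σ (algebraMap A B r * v + c * (1 - v)) = r
      simp [hσv]
    · change Ideal.Quotient.mk J (algebraMap A B r * v + c * (1 - v)) = Ideal.Quotient.mk J c
      simp [hmkv]

/-- Let `S` be a finitely presented `R`-algebra and `𝔮` a prime of `S` over `𝔭` such that the induced
map `R_𝔭 → S_𝔮` is bijective. Then for some `f ∉ 𝔭` there is an `R_f`-algebra `C` with `S_f ≅ R_f ×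
C` as `R_f`-algebras. -/
theorem result {R S : Type u} [CommRing R] [CommRing S] [Algebra R S]
    [Algebra.FinitePresentation R S] (q : Ideal S) [q.IsPrime] (p : Ideal R) [p.IsPrime] [q.LiesOver p]
    (h : Function.Bijective (Localization.localRingHom p q (algebraMap R S) (q.over_def p))) :
    ∃ f : R, f ∉ p ∧ ∀ (Rf Sf : Type u) [CommRing Rf] [CommRing Sf] [Algebra R Rf] [IsLocalization.Away f Rf]
      [Algebra S Sf] [IsLocalization.Away (algebraMap R S f) Sf] [Algebra Rf Sf] [Algebra R Sf] [IsScalarTower R S Sf]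
      [IsScalarTower R Rf Sf],
      ∃ (C : Type u) (_ : CommRing C) (_ : Algebra Rf C), Nonempty (Sf ≃ₐ[Rf] (Rf × C)) := by
  classical
  -- the isomorphism of local rings as an `R`-algebra isomorphism
  let e₀ : Localization.AtPrime p ≃ₐ[R] Localization.AtPrime q :=
    AlgEquiv.ofRingEquiv (f := RingEquiv.ofBijective _ h) (fun r => by
      simp only [RingEquiv.ofBijective_apply]
      rw [Localization.localRingHom_to_map]
      exact (IsScalarTower.algebraMap_apply R S (Localization.AtPrime q) r).symm)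
  obtain ⟨g, f, hg, hf, ⟨e₁⟩⟩ := Groth.Agent.S2145.result q p e₀.symm
  refine ⟨f, hf, ?_⟩
  intro Rf Sf _ _ _ _ _ _ _ _ _ _
  let T := Localization.Away g
  have hunit : IsUnit (algebraMap R T f) := by
    have h1 : IsUnit (algebraMap R (Localization.Away f) f) :=
      IsLocalization.Away.algebraMap_isUnit f
    have h2 : e₁.symm (algebraMap R (Localization.Away f) f) = algebraMap R T f := e₁.symm.commutes f
    rw [← h2]
    exact h1.map e₁.symm
  have hunit' : IsUnit ((IsScalarTower.toAlgHom R S T) (algebraMap R S f)) := by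
    rw [IsScalarTower.coe_toAlgHom', ← IsScalarTower.algebraMap_apply]
    exact hunit
  let lam : Sf →ₐ[R] T :=
    IsLocalization.Away.liftAlgHom (A := R) (S := Sf) (algebraMap R S f)
      (f := IsScalarTower.toAlgHom R S T) hunit'
  have hlam : ∀ s : S, lam (algebraMap S Sf s) = algebraMap S T s := by
    intro s
    simp [lam]
  let ι : Localization.Away f ≃ₐ[R] Rf := IsLocalization.algEquiv (Submonoid.powers f) _ _
  let σ₀ : Sf →ₐ[R] Rf := (ι.toAlgHom.comp e₁.toAlgHom).comp lam
  let σ : Sf →ₐ[Rf] Rf := σ₀.extendScalarsOfIsLocalization Rf (Submonoid.powers f)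
  have hσ : ∀ x, σ x = ι (e₁ (lam x)) := fun x => rfl
  have hσ0 : ∀ x, σ x = 0 ↔ lam x = 0 := by
    intro x
    rw [hσ, EmbeddingLike.map_eq_zero_iff, EmbeddingLike.map_eq_zero_iff]
  have hσsurj : Function.Surjective σ₀ := fun r => ⟨algebraMap Rf Sf r, by
    change σ (algebraMap Rf Sf r) = r
    rw [σ.commutes]; rfl⟩
  have : Algebra.FinitePresentation R Rf := IsLocalization.Away.finitePresentation f
  have : Algebra.FinitePresentation R Sf :=
    have : Algebra.FinitePresentation S Sf :=
      IsLocalization.Away.finitePresentation (algebraMap R S f)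
    Algebra.FinitePresentation.trans R S Sf
  have hfg : (RingHom.ker σ₀.toRingHom).FG :=
    Algebra.FinitePresentation.ker_fG_of_surjective σ₀ hσsurj
  let gb : Sf := algebraMap S Sf g
  have hgb : IsUnit (σ gb) := by
    rw [hσ, hlam]
    exact ((IsLocalization.Away.algebraMap_isUnit (S := T) g).map e₁).map ι
  -- each element of the kernel is killed by a power of `gb`
  have hkill : ∀ x : Sf, σ x = 0 → ∃ k : ℕ, gb ^ k * x = 0 := by
    intro x hx
    obtain ⟨m, a, ha⟩ := IsLocalization.Away.surj (S := Sf) (algebraMap R S f) x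
    have hfu : IsUnit (algebraMap S Sf (algebraMap R S f)) :=
      IsLocalization.Away.algebraMap_isUnit (S := Sf) (algebraMap R S f)
    have h1 : algebraMap S T a = algebraMap S T 0 := by
      rw [← hlam, ← ha, map_mul, (hσ0 x).mp hx, zero_mul, map_zero]
    obtain ⟨k, hk⟩ := IsLocalization.Away.exists_of_eq (S := T) g h1
    refine ⟨k, ?_⟩
    have h2 : gb ^ k * (x * algebraMap S Sf (algebraMap R S f) ^ m) = 0 := by
      rw [ha, ← map_pow, ← map_mul, hk, mul_zero, map_zero]
    rw [← mul_assoc] at h2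
    exact ((hfu.pow m).mul_left_eq_zero).mp h2
  obtain ⟨s₀, hs₀⟩ := hfg
  choose! k hk using hkill
  let n : ℕ := ∑ x ∈ s₀, k x
  have hspan : ∀ x : Sf, x ∈ Ideal.span (s₀ : Set Sf) → gb ^ n * x = 0 := by
    intro x hxmem
    induction hxmem using Submodule.span_induction with
    | mem y hy =>
      have hy0 : σ y = 0 := by
        have : y ∈ RingHom.ker σ₀.toRingHom := hs₀ ▸ Ideal.subset_span hy
        exact this
      have hle : k y ≤ n := Finset.single_le_sum (f := k) (fun _ _ => Nat.zero_le _) hy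
      obtain ⟨d, hd⟩ := Nat.exists_eq_add_of_le hle
      rw [hd, pow_add, mul_comm (gb ^ k y), mul_assoc, hk y hy0, mul_zero]
    | zero => simp
    | add y z _ _ hy hz => rw [mul_add, hy, hz, add_zero]
    | smul a y _ hy => rw [smul_eq_mul, mul_left_comm, hy, mul_zero]
  have hkerall : ∀ x : Sf, σ x = 0 → gb ^ n * x = 0 := by
    intro x hx
    apply hspan
    rw [hs₀]; exact hx
  exact exists_prod_of_retraction σ gb n hgb hkerall

end Groth.Agent.S2146
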