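import Groth.Statements.S2148
import Mathlib.FieldTheory.KummerPolynomial
import Mathlib.FieldTheory.IntermediateField.Adjoin.Basic
import Mathlib.FieldTheory.IntermediateField.Adjoin.Algebra
import Mathlib.FieldTheory.IntermediateField.Algebraic
import Mathlib.Algebra.CharP.Reduced
import Mathlib.Algebra.Polynomial.Derivation
import Mathlib.Order.Zorn
import Mathlib.Algebra.CharP.Algebra

set_option autoImplicit false
universe u
open CAlg

namespace Groth.Agent.S2148

open Polynomial IntermediateField

section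
variable {K : Type u} [Field K] (p : ℕ) [Fact p.Prime] [CharP K p]

/-- maximal subfield containing all `p`-th powers and avoiding `a` -/
theorem exists_maximal (a : K) (ha : ∀ b : K, b ^ p ≠ a) :
    ∃ M : Subfield K, (∀ x : K, x ^ p ∈ M) ∧ a ∉ M ∧
      ∀ N : Subfield K, M ≤ N → a ∉ N → N ≤ M := by
  let s : Set (Subfield K) := {M | (∀ x : K, x ^ p ∈ M) ∧ a ∉ M}
  have h0 : (frobenius K p).fieldRange ∈ s := by
    refine ⟨fun x => ⟨x, rfl⟩, ?_⟩
    rintro ⟨b, hb⟩
    exact ha b hb
  obtain ⟨M, -, hM⟩ := zorn_le_nonempty₀ s (fun c hcs hc y hy => by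
    refine ⟨sSup c, ⟨fun x => ?_, ?_⟩, fun z hz => le_sSup hz⟩
    · exact (le_sSup hy : y ≤ sSup c) ((hcs hy).1 x)
    · intro hmem
      obtain ⟨N, hN, haN⟩ := (Subfield.mem_sSup_of_directedOn ⟨y, hy⟩ hc.directedOn).mp hmem
      exact (hcs hN).2 haN) _ h0
  refine ⟨M, hM.1.1, hM.1.2, fun N hMN haN => ?_⟩
  exact hM.2 ⟨fun x => hMN (hM.1.1 x), haN⟩ hMN

variable (M : Subfield K) (hM : ∀ x : K, x ^ p ∈ M)

include hM in
theorem minpoly_eq (b : K) (hb : b ∉ M) :
    minpoly M b = X ^ p - C (⟨b ^ p, hM b⟩ : M) := by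
  have hp : p.Prime := Fact.out
  symm
  apply minpoly.eq_of_irreducible_of_monic
  · apply X_pow_sub_C_irreducible_of_prime hp
    intro m hm
    apply hb
    have h1 : (m : K) ^ p = b ^ p := congrArg Subtype.val hm
    have h2 : (m : K) = b := frobenius_inj K p h1
    rw [← h2]
    exact m.2
  · simp only [map_sub, map_pow, aeval_X, aeval_C]
    rw [sub_eq_zero]
    rfl
  · exact monic_X_pow_sub_C _ hp.ne_zero

include hM in
theorem isIntegral_of (b : K) : IsIntegral M b := by
  have hp : p.Prime := Fact.out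
  refine ⟨X ^ p - C (⟨b ^ p, hM b⟩ : M), monic_X_pow_sub_C _ hp.ne_zero, ?_⟩
  simp only [eval₂_sub, eval₂_pow, eval₂_X, eval₂_C]
  rw [sub_eq_zero]
  rfl

include hM in
theorem finrank_adjoin (b : K) (hb : b ∉ M) : Module.finrank M M⟮b⟯ = p := by
  have hp : p.Prime := Fact.out
  rw [adjoin.finrank (isIntegral_of p M hM b), minpoly_eq p M hM b hb]
  exact natDegree_X_pow_sub_C

include hM in
theorem aeval_surjective (a : K) (ha : a ∉ M)
    (hmax : ∀ N : Subfield K, M ≤ N → a ∉ N → N ≤ M) :
    Function.Surjective (aeval (R := M) a) := by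
  have htop : M⟮a⟯ = ⊤ := by
    rw [eq_top_iff]
    intro b _
    by_cases hb : b ∈ M
    · exact IntermediateField.algebraMap_mem M⟮a⟯ (⟨b, hb⟩ : M)
    · have haN : a ∈ M⟮b⟯ := by
        by_contra hcon
        have hle : M⟮b⟯.toSubfield ≤ M := hmax _ (fun x hx => IntermediateField.algebraMap_mem M⟮b⟯ (⟨x, hx⟩ : M)) hcon
        exact hb (hle (mem_adjoin_simple_self M b))
      have hle : M⟮a⟯ ≤ M⟮b⟯ := adjoin_simple_le_iff.mpr haN
      have : FiniteDimensional M M⟮b⟯ := adjoin.finiteDimensional (isIntegral_of p M hM b)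
      have heq : M⟮a⟯ = M⟮b⟯ := eq_of_le_of_finrank_eq hle
        ((finrank_adjoin p M hM a ha).trans (finrank_adjoin p M hM b hb).symm)
      rw [heq]
      exact mem_adjoin_simple_self M b
  have halg : IsAlgebraic M a := (isIntegral_of p M hM a).isAlgebraic
  have h2 : (Algebra.adjoin M {a} : Subalgebra M K) = ⊤ := by
    rw [← adjoin_simple_toSubalgebra_of_isAlgebraic halg, htop]
    rfl
  rw [Algebra.adjoin_singleton_eq_range_aeval] at h2
  exact (AlgHom.range_eq_top _).mp h2

include hM in
theorem exists_derivation (a : K) (ha : a ∉ M)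
    (hmax : ∀ N : Subfield K, M ≤ N → a ∉ N → N ≤ M) :
    ∃ D : Derivation M K K, D a = 1 := by
  have hsurj := aeval_surjective p M hM a ha hmax
  have hd : ∀ g : M[X], aeval a g = 0 → aeval a (derivative' g) = 0 := by
    intro g hg
    obtain ⟨h, rfl⟩ := minpoly.dvd M a hg
    rw [minpoly_eq p M hM a ha]
    simp only [Derivation.leibniz, derivative'_apply, derivative_sub, derivative_X_pow, derivative_C,
      sub_zero, smul_eq_mul, map_add, map_mul, map_sub, map_pow, aeval_X, aeval_C, map_natCast]
    have h1 : (p : K) = 0 := CharP.cast_eq_zero K p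
    have h2 : a ^ p - (algebraMap M K) ⟨a ^ p, hM a⟩ = 0 := by
      rw [sub_eq_zero]; rfl
    rw [h1, h2]
    ring
  refine ⟨Derivation.liftOfSurjective hsurj hd, ?_⟩
  have := Derivation.liftOfSurjective_apply hsurj hd X
  simpa using this

end

/-- Let `k` be a perfect field of characteristic `p > 0` and `K` an extension field of `k`. For `a ∈ K`,
the differential `da` vanishes in `Ω_{K/k}` if and only if `a` is a `p`-th power in `K`. -/
theorem result {k K : Type u} [Field k] [Field K] [Algebra k K] (p : ℕ) [Fact p.Prime]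
    [CharP k p] [PerfectRing k p] (a : K) :
    KaehlerDifferential.D k K a = 0 ↔ ∃ b : K, b ^ p = a := by
  have hcharK : CharP K p := charP_of_injective_algebraMap (algebraMap k K).injective p
  constructor
  · intro hda
    by_contra hcon
    push Not at hcon
    obtain ⟨M, hM, haM, hmax⟩ := exists_maximal p a hcon
    obtain ⟨D, hD⟩ := exists_derivation p M hM a haM hmax
    have hkM : ∀ c : k, algebraMap k K c ∈ M := fun c => by
      obtain ⟨c', hc'⟩ := (PerfectRing.bijective_frobenius (R := k) (p := p)).2 c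
      rw [← hc']
      change algebraMap k K (c' ^ p) ∈ M
      rw [map_pow]
      exact hM _
    let lin : K →ₗ[k] K :=
      { toFun := D
        map_add' := map_add D
        map_smul' := fun c x => by
          have h1 : c • x = (⟨algebraMap k K c, hkM c⟩ : M) • x := by
            rw [Algebra.smul_def]; rfl
          have h2 : c • D x = (⟨algebraMap k K c, hkM c⟩ : M) • D x := by
            rw [Algebra.smul_def]; rfl
          simp only [RingHom.id_apply]
          rw [h1, h2, D.map_smul] }
    let D' : Derivation k K K := Derivation.mk' lin (fun x y => D.leibniz x y)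
    have h3 : D'.liftKaehlerDifferential (KaehlerDifferential.D k K a) = D' a :=
      D'.liftKaehlerDifferential_comp_D a
    rw [hda, map_zero] at h3
    have h4 : D' a = 1 := hD
    rw [h4] at h3
    exact zero_ne_one h3
  · rintro ⟨b, rfl⟩
    rw [Derivation.leibniz_pow, ← Nat.cast_smul_eq_nsmul K, CharP.cast_eq_zero K p, zero_smul]

end Groth.Agent.S2148
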