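import Groth.Statements.S2154
import Groth.Agent.S9200
import Groth.Agent.Lib.LimStructureMapFinite

set_option autoImplicit false
universe u
open CategoryTheory AlgebraicGeometry
open Lim

namespace Groth.Agent.S2154

/-- Let `S` be quasi-compact and quasi-separated and `X = lim X_i` a cofiltered limit of quasi-compact
quasi-separated `S`-schemes locally of finite type over `S`, with finite transition morphisms. If `X
→ S` is integral then `X_i → S` is finite for all `i` beyond some index. -/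
theorem result {I : Type u} [SmallCategory I] [IsCofiltered I] (S : Scheme.{u}) [CompactSpace S]
    [QuasiSeparatedSpace S] (D : I ⥤ Over S) (c : Limits.Cone D) (hc : Limits.IsLimit c)
    [∀ (i j : I) (f : i ⟶ j), IsFinite (D.map f).left] [∀ i, CompactSpace (D.obj i).left]
    [∀ i, QuasiSeparatedSpace (D.obj i).left] [∀ i, LocallyOfFiniteType (D.obj i).hom] [IsIntegralHom c.pt.hom] :
    ∃ i₀ : I, ∀ (i : I) (_ : i ⟶ i₀), IsFinite (D.obj i).hom := by
  classical
  let D' : I ⥤ Scheme.{u} := D ⋙ Over.forget S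
  let t : D' ⟶ (Functor.const I).obj S :=
    { app := fun i => (D.obj i).hom
      naturality := fun i j f => by simp [D'] }
  let c' : Limits.Cone D' := (Over.forget S).mapCone c
  have hc' : Limits.IsLimit c' := Limits.isLimitOfPreserves (Over.forget S) hc
  haveI : ∀ (i j : I) (f : i ⟶ j), IsFinite (D'.map f) := fun i j f =>
    (inferInstance : IsFinite (D.map f).left)
  haveI hfin' : ∀ {i j : I} (f : i ⟶ j), IsFinite (D'.map f) := fun f =>
    (inferInstance : IsFinite (D.map f).left)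
  haveI : ∀ (i j : I) (f : i ⟶ j), IsAffineHom (D'.map f) := fun i j f => inferInstance
  haveI : ∀ i, CompactSpace (D'.obj i) := fun i =>
    (inferInstance : CompactSpace (D.obj i).left)
  haveI : ∀ i, QuasiSeparatedSpace (D'.obj i) := fun i =>
    (inferInstance : QuasiSeparatedSpace (D.obj i).left)
  let τ : ∀ i, D'.obj i ⟶ S := fun i => (D.obj i).hom
  have hτ : ∀ {i j : I} (f : i ⟶ j), D'.map f ≫ τ j = τ i := fun f => Over.w (D.map f)
  have hπ : ∀ i, c'.π.app i ≫ τ i = c.pt.hom := fun i => Over.w (c.π.app i)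
  haveI hint : ∀ i, IsIntegralHom (c'.π.app i ≫ τ i) := fun i => by
    rw [hπ i]
    exact (inferInstanceAs (IsIntegralHom c.pt.hom))
  let i₀ : I := (IsCofiltered.nonempty (C := I)).some
  haveI : IsAffineHom (c'.π.app i₀ ≫ t.app i₀) :=
    (inferInstance : IsAffineHom (c'.π.app i₀ ≫ τ i₀))
  obtain ⟨i₁, hi₁⟩ := Groth.Agent.S9200.result S D' t c' hc' i₀
  haveI hlft : ∀ i, LocallyOfFiniteType (τ i) := fun i =>
    (inferInstance : LocallyOfFiniteType (D.obj i).hom)
  have haff : ∀ (k : I) (_ : k ⟶ i₁) (V : S.Opens), IsAffineOpen V → IsAffineOpen (τ k ⁻¹ᵁ V) :=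
    fun k φ V hV => by
      haveI : IsAffineHom (τ k) := hi₁ k φ
      exact hV.preimage (τ k)
  have key : ∀ V : S.affineOpens, ∃ (j : I) (_ : j ⟶ i₁), ∀ (k : I) (_ : k ⟶ j),
      ((τ k).app V.1).hom.Finite := fun V =>
    Groth.Agent.Lib.LimStructureMap.exists_finite_app_stage D' c' hc' τ hτ i₁ V.1 V.2
      (haff i₁ (𝟙 _) V.1 V.2)
  obtain ⟨s, hs, htop⟩ := isCompact_iff_finite_and_eq_biUnion_affineOpens.mp
    (show IsCompact ((⊤ : S.Opens) : Set S) from isCompact_univ)
  choose j fj hj using key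
  obtain ⟨i₂, hi₂⟩ := IsCofiltered.inf_objs_exists (insert i₁ (hs.toFinset.image j))
  obtain ⟨φ₁⟩ := hi₂ (Finset.mem_insert_self _ _)
  refine ⟨i₂, fun i φ => ?_⟩
  change IsFinite (τ i)
  refine Groth.Agent.Lib.LimStructureMap.isFinite_of_cover (τ i) (fun V : s => V.1.1) ?_
    (fun V => V.1.2) (fun V => haff i (φ ≫ φ₁) _ V.1.2) (fun V => ?_)
  · rw [eq_top_iff]
    intro x _
    have hx : x ∈ (⊤ : S.Opens) := trivial
    rw [htop] at hx
    simp only [TopologicalSpace.Opens.mem_iSup] at hx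
    obtain ⟨V, hV, hxV⟩ := hx
    exact TopologicalSpace.Opens.mem_iSup.mpr ⟨⟨V, hV⟩, hxV⟩
  · obtain ⟨m⟩ := hi₂ (Finset.mem_insert_of_mem
      (Finset.mem_image_of_mem j (hs.mem_toFinset.mpr V.2)))
    exact hj V.1 i (φ ≫ m)

end Groth.Agent.S2154
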