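import Groth.Statements.S2156
import Mathlib
import Groth.Agent.Lib.H80SmoothFiber2

set_option autoImplicit false
universe u
open CategoryTheory AlgebraicGeometry
open Mor

namespace Groth.Agent.S2156

/-- Let `f : X → S` be locally of finite presentation and `x ∈ X` with image `s`. Then `f` is smooth at
`x` if and only if `O_{S,s} → O_{X,x}` is flat and the fibre `X_s → Spec κ(s)` is smooth at the
point corresponding to `x`. -/
theorem result {X S : Scheme.{u}} (f : X ⟶ S) [LocallyOfFinitePresentation f] (x : X)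
    [LocallyOfFinitePresentation (f.fiberToSpecResidueField (f.base x))] :
    x ∈ f.smoothLocus ↔
      (f.stalkMap x).hom.Flat ∧ f.asFiber x ∈ (f.fiberToSpecResidueField (f.base x)).smoothLocus := by
  constructor
  · intro hx
    set W := f.smoothLocus with hW
    have hsm : Smooth (W.ι ≫ f) := by
      rw [← Scheme.Hom.smoothLocus_eq_top_iff, ← Scheme.Hom.preimage_smoothLocus_eq]
      exact Scheme.Opens.ι_preimage_self W
    constructor
    · have hfl : Flat (W.ι ≫ f) := inferInstance
      have h1 := Flat.stalkMap (W.ι ≫ f) ⟨x, hx⟩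
      rw [Scheme.Hom.stalkMap_comp] at h1
      have hiso : IsIso (W.ι.stalkMap ⟨x, hx⟩) := inferInstance
      exact (RingHom.Flat.respectsIso.cancel_right_isIso (f.stalkMap (W.ι ⟨x, hx⟩))
        (W.ι.stalkMap ⟨x, hx⟩)).mp h1
    · set g := f.fiberToSpecResidueField (f x) with hg
      set W' := (f.fiberι (f x)) ⁻¹ᵁ W with hW'
      have hpb : IsPullback ((f.fiberι (f x)) ∣_ W) (W'.ι ≫ g) (W.ι ≫ f)
          (S.fromSpecResidueField (f x)) :=
        (isPullback_morphismRestrict (f.fiberι (f x)) W).paste_vert
          (IsPullback.of_hasPullback f (S.fromSpecResidueField (f x)))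
      have hsm' : Smooth (W'.ι ≫ g) := MorphismProperty.of_isPullback hpb hsm
      have h2 := Scheme.Hom.preimage_smoothLocus_eq W'.ι g
      rw [Scheme.Hom.smoothLocus_eq_top (W'.ι ≫ g)] at h2
      have hmem : f.asFiber x ∈ W' := by
        change (f.fiberι (f x)) (f.asFiber x) ∈ W
        rw [Scheme.Hom.fiberι_asFiber]
        exact hx
      have h3 : (⟨f.asFiber x, hmem⟩ : W') ∈ W'.ι ⁻¹ᵁ g.smoothLocus := by
        rw [h2]; trivial
      exact h3
  · rintro ⟨hflat, hfib⟩
    have key : ∀ (x' : X), x' = x → (f.stalkMap x').hom.Flat := by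
      rintro _ rfl
      exact hflat
    have := Groth.Agent.Lib.H80SmoothFiber.mem_smoothLocus_of_flat_of_fiber f (f x) (f.asFiber x)
      (key _ (f.fiberι_asFiber x)) hfib
    rwa [Scheme.Hom.fiberι_asFiber] at this

end Groth.Agent.S2156
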