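import Groth.Statements.S2157
import Groth.Agent.Lib.H77OmegaAffine
-- import your own Groth.Agent.* helpers here

set_option autoImplicit false
universe u
open CategoryTheory AlgebraicGeometry
open Mor

namespace Groth.Agent.S2157

open TensorProduct CategoryTheory.Limits Groth.Agent.Lib.H77OmegaAffine Groth.Agent.Lib.H77OmegaAlg

section

variable (R A : Type u) [CommRing R] [CommRing A] [Algebra R A]

/-- the structure morphism -/
noncomputable abbrev ff : Spec (CommRingCat.of A) ⟶ Spec (CommRingCat.of R) :=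
  Spec.map (CommRingCat.ofHom (algebraMap R A))

instance : IsAffine (pullback (ff R A) (ff R A)) :=
  IsAffine.of_isIso (pullbackSpecIso R A A).hom

/-- `A ⊗[R] A ≅ Γ(X ×_Y X, ⊤)` -/
noncomputable def betaIso :
    CommRingCat.of (A ⊗[R] A) ≅ Γ(pullback (ff R A) (ff R A), ⊤) where
  hom := (Scheme.ΓSpecIso (CommRingCat.of (A ⊗[R] A))).inv ≫ (pullbackSpecIso R A A).hom.appTop
  inv := (pullbackSpecIso R A A).inv.appTop ≫ (Scheme.ΓSpecIso (CommRingCat.of (A ⊗[R] A))).hom
  hom_inv_id := by
    have h : (pullbackSpecIso R A A).hom.appTop ≫ (pullbackSpecIso R A A).inv.appTop = 𝟙 _ := by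
      rw [← Scheme.Hom.comp_appTop, Iso.inv_hom_id, Scheme.Hom.id_appTop]
    rw [Category.assoc, reassoc_of% h, Iso.inv_hom_id]
  inv_hom_id := by
    have h : (pullbackSpecIso R A A).inv.appTop ≫ (pullbackSpecIso R A A).hom.appTop = 𝟙 _ := by
      rw [← Scheme.Hom.comp_appTop, Iso.hom_inv_id, Scheme.Hom.id_appTop]
    rw [Category.assoc, Iso.hom_inv_id_assoc, h]

lemma diag_comp :
    pullback.diagonal (ff R A) ≫ (pullbackSpecIso R A A).hom =
      Spec.map (CommRingCat.ofHom
        (Algebra.TensorProduct.lmul' R : A ⊗[R] A →ₐ[R] A).toRingHom) := by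
  rw [diagonal_SpecMap R A, Category.assoc, Iso.inv_hom_id, Category.comp_id]

lemma beta_comm :
    (betaIso R A).hom ≫ (pullback.diagonal (ff R A)).appTop =
      CommRingCat.ofHom (Algebra.TensorProduct.lmul' R : A ⊗[R] A →ₐ[R] A).toRingHom ≫
        (Scheme.ΓSpecIso (CommRingCat.of A)).inv := by
  change ((Scheme.ΓSpecIso (CommRingCat.of (A ⊗[R] A))).inv ≫
    (pullbackSpecIso R A A).hom.appTop) ≫ _ = _
  rw [Category.assoc]
  have h1 : (pullbackSpecIso R A A).hom.appTop ≫ (pullback.diagonal (ff R A)).appTop =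
      (pullback.diagonal (ff R A) ≫ (pullbackSpecIso R A A).hom).appTop :=
    (Scheme.Hom.comp_appTop _ _).symm
  rw [h1, diag_comp, Scheme.ΓSpecIso_inv_naturality]

end

/-- For a ring map `R → A`, the sheaf of differentials of `Spec A → Spec R`, defined as the conormal
sheaf of the diagonal, is isomorphic as an `O_{Spec A}`-module to the sheaf associated with the
module of Kähler differentials `Ω_{A/R}` (the source also pins the isomorphism down by compatibility
with the universal derivations, which is not restated here). -/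
theorem result (R A : Type u) [CommRing R] [CommRing A] [Algebra R A] :
    Nonempty (Omega.sheaf (Spec.map (CommRingCat.ofHom (algebraMap R A))) ≅
      tilde (R := CommRingCat.of A) (ModuleCat.of A (Ω[A⁄R]))) := by
  change Nonempty (Omega.conormal (pullback.diagonal (ff R A)) ≅ _)
  have : QuasiCompact (pullback.diagonal (ff R A)) := inferInstance
  refine nonempty_conormal_iso_tilde (A := CommRingCat.of A) (pullback.diagonal (ff R A))
    (ModuleCat.of A Ω[A⁄R]) ?_
  letI := (pullback.diagonal (ff R A)).appTop.hom.toAlgebra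
  let β : A ⊗[R] A ≃+* Γ(pullback (ff R A) (ff R A), ⊤) := (betaIso R A).commRingCatIsoToRingEquiv
  have hcomm : ∀ x, algebraMap Γ(pullback (ff R A) (ff R A), ⊤) Γ(Spec (CommRingCat.of A), ⊤) (β x) =
      (Scheme.ΓSpecIso (CommRingCat.of A)).inv.hom (Algebra.TensorProduct.lmul' R x) :=
    fun x => congr($(beta_comm R A) x)
  have hbij : Function.Bijective (Scheme.ΓSpecIso (CommRingCat.of A)).inv.hom :=
    ConcreteCategory.bijective_of_isIso (Scheme.ΓSpecIso (CommRingCat.of A)).inv
  exact (nonempty_equiv_kaehler' R A Γ(Spec (CommRingCat.of A), ⊤)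
    Γ(pullback (ff R A) (ff R A), ⊤) (Scheme.ΓSpecIso (CommRingCat.of A)).inv.hom hbij β hcomm).some

end Groth.Agent.S2157
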