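import Groth.Statements.S2158
import Groth.Agent.Lib.H77OmegaStalk
-- import your own Groth.Agent.* helpers here

set_option autoImplicit false
universe u
open CategoryTheory AlgebraicGeometry
open Mor

namespace Groth.Agent.S2158

open IsLocalRing Groth.Agent.Lib.H77OmegaStalk in
/-- Let `f : X → S` be locally of finite type and quasi-separated (so that the diagonal is quasi-compact
and the prelude's sheaf of differentials is the conormal sheaf of the diagonal near every point), `x
∈ X`, `s = f(x)`. Then the stalk `Ω_{X/S,x}` vanishes if and only if `𝔪_s O_{X,x} = 𝔪_x` and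
`κ(x)/κ(s)` is a finite separable extension. -/
theorem result {X S : Scheme.{u}} (f : X ⟶ S) [LocallyOfFiniteType f] [QuasiSeparated f] (x : X) :
    Subsingleton ((Omega.sheaf f).presheaf.stalk x) ↔
      ((IsLocalRing.maximalIdeal (S.presheaf.stalk (f.base x))).map (f.stalkMap x).hom =
          IsLocalRing.maximalIdeal (X.presheaf.stalk x) ∧
        (f.residueFieldMap x).hom.Finite ∧
        @Algebra.IsSeparable (S.residueField (f.base x)) (X.residueField x) _ _ (f.residueFieldMap x).hom.toAlgebra) := by
  letI := (f.stalkMap x).hom.toAlgebra
  obtain ⟨hess, hiff⟩ := stalk_main f x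
  rw [hiff]
  have hloc : IsLocalHom (algebraMap (S.presheaf.stalk (f.base x)) (X.presheaf.stalk x)) :=
    inferInstanceAs (IsLocalHom (f.stalkMap x).hom)
  have halg : (f.residueFieldMap x).hom.toAlgebra =
      (inferInstance : Algebra (ResidueField (S.presheaf.stalk (f.base x)))
        (ResidueField (X.presheaf.stalk x))) := by
    apply Algebra.algebra_ext
    intro r
    obtain ⟨y, rfl⟩ := residue_surjective r
    rfl
  constructor
  · intro h
    have hfin : Module.Finite (ResidueField (S.presheaf.stalk (f.base x)))
        (ResidueField (X.presheaf.stalk x)) := inferInstance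
    have hsep : Algebra.IsSeparable (ResidueField (S.presheaf.stalk (f.base x)))
        (ResidueField (X.presheaf.stalk x)) := inferInstance
    refine ⟨Algebra.FormallyUnramified.map_maximalIdeal, ?_, ?_⟩
    · exact (congrArg (fun I : Algebra (ResidueField (S.presheaf.stalk (f.base x)))
          (ResidueField (X.presheaf.stalk x)) =>
        @Module.Finite (ResidueField (S.presheaf.stalk (f.base x)))
          (ResidueField (X.presheaf.stalk x)) _ _ (@Algebra.toModule _ _ _ _ I)) halg).mpr hfin
    · exact (congrArg (fun I : Algebra (ResidueField (S.presheaf.stalk (f.base x)))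
          (ResidueField (X.presheaf.stalk x)) =>
        @Algebra.IsSeparable (ResidueField (S.presheaf.stalk (f.base x)))
          (ResidueField (X.presheaf.stalk x)) _ _ I) halg).mpr hsep
  · rintro ⟨h1, -, h3⟩
    have h3' : Algebra.IsSeparable (ResidueField (S.presheaf.stalk (f.base x)))
        (ResidueField (X.presheaf.stalk x)) :=
      (congrArg (fun I : Algebra (ResidueField (S.presheaf.stalk (f.base x)))
          (ResidueField (X.presheaf.stalk x)) =>
        @Algebra.IsSeparable (ResidueField (S.presheaf.stalk (f.base x)))
          (ResidueField (X.presheaf.stalk x)) _ _ I) halg).mp h3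
    exact Algebra.FormallyUnramified.of_map_maximalIdeal h1

end Groth.Agent.S2158
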