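import Groth.Statements.S2159

set_option autoImplicit false
universe u
open CAlg

namespace Groth.Agent.S2159

/-- A surjection onto a projective module splits its source as kernel times target. -/
theorem splitKer {R X P : Type u} [CommRing R] [AddCommGroup X] [Module R X] [AddCommGroup P] [Module R P]
    [Module.Projective R P] (f : X →ₗ[R] P) (hf : Function.Surjective f) :
    Nonempty (X ≃ₗ[R] (LinearMap.ker f × P)) := by
  obtain ⟨s, hs⟩ := f.exists_rightInverse_of_surjective (LinearMap.range_eq_top.mpr hf)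
  have hs' : ∀ p, f (s p) = p := fun p => by
    have := congrArg (fun g => g p) hs
    simpa using this
  refine ⟨LinearEquiv.ofLinearMap
    ((LinearMap.id - s.comp f).codRestrict (LinearMap.ker f) (fun x => by simp [hs'])
      |>.prod f)
    ((LinearMap.ker f).subtype.coprod s) ?_ ?_⟩
  · ext x
    · simp
    · simp
    · simp [hs']
    · simp [hs']
  · ext x
    simp

/-- Given surjections `p₁ : P₁ → M` and `p₂ : P₂ → M` from projective modules, with kernels `K` and `L`,
there is an isomorphism `K ⊕ P₂ ≅ L ⊕ P₁`. -/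
theorem result {R M P₁ P₂ : Type u} [CommRing R] [AddCommGroup M] [Module R M] [AddCommGroup P₁] [Module R P₁]
    [Module.Projective R P₁] [AddCommGroup P₂] [Module R P₂] [Module.Projective R P₂] (p₁ : P₁ →ₗ[R] M) (p₂ : P₂ →ₗ[R] M)
    (h₁ : Function.Surjective p₁) (h₂ : Function.Surjective p₂) :
    Nonempty ((LinearMap.ker p₁ × P₂) ≃ₗ[R] (LinearMap.ker p₂ × P₁)) := by
  -- the pullback
  let X : Submodule R (P₁ × P₂) := LinearMap.ker (p₁.coprod (-p₂))
  have hX : ∀ x : P₁ × P₂, x ∈ X ↔ p₁ x.1 = p₂ x.2 := fun x => by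
    simp [X, sub_eq_zero, ← sub_eq_add_neg]
  let f₁ : X →ₗ[R] P₁ := (LinearMap.fst R P₁ P₂).comp X.subtype
  let f₂ : X →ₗ[R] P₂ := (LinearMap.snd R P₁ P₂).comp X.subtype
  have hf₁ : Function.Surjective f₁ := fun a => by
    obtain ⟨b, hb⟩ := h₂ (p₁ a)
    exact ⟨⟨(a, b), (hX _).mpr hb.symm⟩, rfl⟩
  have hf₂ : Function.Surjective f₂ := fun b => by
    obtain ⟨a, ha⟩ := h₁ (p₂ b)
    exact ⟨⟨(a, b), (hX _).mpr ha⟩, rfl⟩
  obtain ⟨e₁⟩ := splitKer f₁ hf₁
  obtain ⟨e₂⟩ := splitKer f₂ hf₂
  -- ker f₁ ≃ ker p₂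
  have k₁ : LinearMap.ker f₁ ≃ₗ[R] LinearMap.ker p₂ :=
    LinearEquiv.ofLinearMap
      ((f₂.comp (LinearMap.ker f₁).subtype).codRestrict (LinearMap.ker p₂) (fun x => by
        have h1 : (x.1.1).1 = 0 := x.2
        have h2 := (hX x.1.1).mp x.1.2
        simp only [LinearMap.mem_ker, LinearMap.coe_comp, Function.comp_apply, Submodule.coe_subtype]
        change p₂ (x.1.1).2 = 0
        rw [← h2, h1, map_zero]))
      ((((LinearMap.inr R P₁ P₂).comp (LinearMap.ker p₂).subtype).codRestrict X (fun y => by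
        rw [hX]; simp)).codRestrict (LinearMap.ker f₁) (fun y => by
          simp [f₁]))
      (by ext y; rfl)
      (by
        ext x
        · have h1 : (x.1.1).1 = 0 := x.2
          simp [f₂, h1]
        · rfl)
  have k₂ : LinearMap.ker f₂ ≃ₗ[R] LinearMap.ker p₁ :=
    LinearEquiv.ofLinearMap
      ((f₁.comp (LinearMap.ker f₂).subtype).codRestrict (LinearMap.ker p₁) (fun x => by
        have h1 : (x.1.1).2 = 0 := x.2
        have h2 := (hX x.1.1).mp x.1.2
        simp only [LinearMap.mem_ker, LinearMap.coe_comp, Function.comp_apply, Submodule.coe_subtype]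
        change p₁ (x.1.1).1 = 0
        rw [h2, h1, map_zero]))
      ((((LinearMap.inl R P₁ P₂).comp (LinearMap.ker p₁).subtype).codRestrict X (fun y => by
        rw [hX]; simp)).codRestrict (LinearMap.ker f₂) (fun y => by
          simp [f₂]))
      (by ext y; rfl)
      (by
        ext x
        · rfl
        · have h1 : (x.1.1).2 = 0 := x.2
          simp [f₁, h1])
  exact ⟨(k₂.symm.prodCongr (LinearEquiv.refl R P₂)) ≪≫ₗ e₂.symm ≪≫ₗ e₁ ≪≫ₗ
    (k₁.prodCongr (LinearEquiv.refl R P₁))⟩

end Groth.Agent.S2159
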