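import Groth.Statements.S2160
import Mathlib.RingTheory.Ideal.KrullsHeightTheorem

set_option autoImplicit false
universe u
open CAlg

namespace Groth.Agent.S2160

/-- Let `R` be a Noetherian local domain of Krull dimension at least `2`. Then every nonempty open
subset of `Spec R` is infinite. -/
theorem result {R : Type u} [CommRing R] [IsDomain R] [IsLocalRing R] [IsNoetherianRing R]
    (hdim : 2 ≤ ringKrullDim R) (U : Set (PrimeSpectrum R)) (hU : IsOpen U) (hne : U.Nonempty) : U.Infinite := by
  classical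
  intro hfin
  obtain ⟨x, hx⟩ := hne
  obtain ⟨_, ⟨f, rfl⟩, hxf, hfU⟩ :=
    PrimeSpectrum.isTopologicalBasis_basic_opens.exists_subset_of_mem_open hx hU
  have hf0 : f ≠ 0 := by
    rintro rfl
    simp at hxf
  -- the set of primes of height at most one
  let S : Set (Ideal R) := {P | P.IsPrime ∧ P.height ≤ 1}
  have hSsub : S ⊆ (PrimeSpectrum.asIdeal '' U) ∪ (Ideal.span {f}).minimalPrimes := by
    rintro P ⟨hP, hht⟩
    by_cases hfP : f ∈ P
    · right
      have hle : Ideal.span {f} ≤ P := (Ideal.span_singleton_le_iff_mem P).mpr hfP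
      obtain ⟨q, hq, hqP⟩ := Ideal.exists_minimalPrimes_le hle
      have hqprime : q.IsPrime := hq.1.1
      have hfq : f ∈ q := hq.1.2 (Ideal.mem_span_singleton_self f)
      have hqne : q ≠ ⊥ := fun h => hf0 (by simpa [h] using hfq)
      have hq1 : 1 ≤ q.height := by
        rw [Order.one_le_iff_pos, pos_iff_ne_zero, Ne, Ideal.height_eq_zero_iff_eq_bot]
        exact hqne
      have : q = P := Ideal.eq_of_le_of_height_le q hqP (hht.trans hq1)
      exact this ▸ hq
    · left
      exact ⟨⟨P, hP⟩, hfU hfP, rfl⟩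
  have hSfin : S.Finite :=
    ((hfin.image _).union (Ideal.finite_minimalPrimes_of_isNoetherianRing R _)).subset hSsub
  have hcover : ((IsLocalRing.maximalIdeal R : Ideal R) : Set R) ⊆
      ⋃ P ∈ (↑hSfin.toFinset : Set (Ideal R)), ((id P : Ideal R) : Set R) := by
    intro g hg
    simp only [Set.Finite.coe_toFinset, id, Set.mem_iUnion, SetLike.mem_coe, exists_prop]
    by_cases hg0 : g = 0
    · refine ⟨⊥, ⟨Ideal.isPrime_bot, ?_⟩, by simp [hg0]⟩
      rw [Ideal.height_bot]; exact zero_le_one
    · have hgtop : Ideal.span {g} ≠ ⊤ := by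
        rw [Ne, Ideal.span_singleton_eq_top]
        exact hg
      obtain ⟨P, hP⟩ := Ideal.nonempty_minimalPrimes hgtop
      refine ⟨P, ⟨hP.1.1, Ideal.height_le_one_of_isPrincipal_of_mem_minimalPrimes _ P hP⟩,
        hP.1.2 (Ideal.mem_span_singleton_self g)⟩
  obtain ⟨P, hPS, hmP⟩ := (Ideal.subset_union_prime (f := id) ⊥ ⊥ (fun P hP _ _ => by
    have : P ∈ S := by simpa using hP
    exact this.1)).mp hcover
  have hPS' : P ∈ S := by simpa using hPS
  have h1 : (IsLocalRing.maximalIdeal R).height ≤ 1 := (Ideal.height_mono hmP).trans hPS'.2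
  have h2 : ringKrullDim R ≤ 1 := by
    rw [← IsLocalRing.maximalIdeal_height_eq_ringKrullDim]
    exact_mod_cast h1
  have := hdim.trans h2
  norm_num at this

end Groth.Agent.S2160
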