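import Groth.Statements.S2161
import Mathlib.Algebra.Polynomial.Lifts
import Mathlib.RingTheory.Ideal.GoingUp
import Mathlib.RingTheory.Flat.Basic
import Mathlib.RingTheory.LocalRing.ResidueField.Ideal
import Mathlib.RingTheory.IntegralClosure.Algebra.Basic
import Mathlib.FieldTheory.IsAlgClosed.AlgebraicClosure

set_option autoImplicit false
universe u
open CAlg

namespace Groth.Agent.S2161

open Polynomial TensorProduct

section
variable {R S : Type u} [CommRing R] [CommRing S] [Algebra R S]
    (G : Set S) (hG : Algebra.adjoin R G = ⊤)
    (hpow : ∀ x ∈ G, ∃ (n : ℕ) (P : Polynomial R), 0 < n ∧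
      Polynomial.map (algebraMap R S) P = (Polynomial.X - Polynomial.C x) ^ n)

include hG hpow in
/-- two maps to a field which agree on `R` are equal -/
theorem hom_unique {Ω : Type*} [Field Ω] (ψ ψ' : S →+* Ω)
    (h : ψ.comp (algebraMap R S) = ψ'.comp (algebraMap R S)) : ψ = ψ' := by
  let : Algebra R Ω := (ψ.comp (algebraMap R S)).toAlgebra
  let Ψ : S →ₐ[R] Ω := { ψ with commutes' := fun r => rfl }
  let Ψ' : S →ₐ[R] Ω := { ψ' with commutes' := fun r => (RingHom.congr_fun h r).symm }
  have key : Ψ = Ψ' := by
    apply AlgHom.ext_of_adjoin_eq_top hG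
    intro x hx
    obtain ⟨n, P, hn, hP⟩ := hpow x hx
    have h1 : P.map (ψ.comp (algebraMap R S)) = (X - C (ψ x)) ^ n := by
      rw [← Polynomial.map_map, hP]; simp
    have h2 : P.map (ψ'.comp (algebraMap R S)) = (X - C (ψ' x)) ^ n := by
      rw [← Polynomial.map_map, hP]; simp
    rw [h] at h1
    have h3 := congrArg (Polynomial.eval (ψ x)) (h1.symm.trans h2)
    simp only [eval_pow, eval_sub, eval_X, eval_C, sub_self] at h3
    rw [zero_pow hn.ne'] at h3
    have h4 : ψ x - ψ' x = 0 := pow_eq_zero_iff hn.ne' |>.mp h3.symm
    exact sub_eq_zero.mp h4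
  ext s
  exact congrArg (fun f : S →ₐ[R] Ω => f s) key

include hG hpow in
theorem isIntegral_all : Algebra.IsIntegral R S := by
  have hint : ∀ x ∈ G, IsIntegral R x := by
    intro x hx
    obtain ⟨n, P, hn, hP⟩ := hpow x hx
    rcases subsingleton_or_nontrivial S with hS | hS
    · exact ⟨1, monic_one, Subsingleton.elim _ _⟩
    have hmonic : ((X - C x) ^ n : S[X]).Monic := (monic_X_sub_C x).pow n
    have hl : ((X - C x) ^ n : S[X]) ∈ lifts (algebraMap R S) := by
      rw [← hP]; exact ⟨P, rfl⟩
    obtain ⟨q, hq, -, hqm⟩ := lifts_and_degree_eq_and_monic hl hmonic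
    refine ⟨q, hqm, ?_⟩
    rw [← Polynomial.eval_map, hq]
    simp [hn.ne']
  have : (⊤ : Subalgebra R S) ≤ integralClosure R S := hG ▸ Algebra.adjoin_le hint
  exact ⟨fun x => this Algebra.mem_top⟩

/-- ring maps out of a residue field are determined on the ring -/
theorem residueField_hom_ext (q : Ideal S) [q.IsPrime] {L : Type*} [Field L]
    (f g : q.ResidueField →+* L)
    (h : f.comp (algebraMap S q.ResidueField) = g.comp (algebraMap S q.ResidueField)) : f = g := by
  apply IsLocalization.ringHom_ext (nonZeroDivisors (S ⧸ q))
  apply Ideal.Quotient.ringHom_ext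
  ext s
  exact RingHom.congr_fun h s

end

/-- Let R → S be a ring map whose kernel consists of nilpotent elements, and suppose S is generated as
an R-algebra by elements x for which some power (T − x)ⁿ, n > 0, is the image of a polynomial over
R. Then Spec S → Spec R is a homeomorphism, and for every prime 𝔮 of S over 𝔭 the extension
κ(𝔮)/κ(𝔭) is purely inseparable. -/
theorem result {R S : Type u} [CommRing R] [CommRing S] [Algebra R S]
    (hker : ∀ r : R, algebraMap R S r = 0 → IsNilpotent r) (G : Set S) (hG : Algebra.adjoin R G = ⊤)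
    (hpow : ∀ x ∈ G, ∃ (n : ℕ) (P : Polynomial R), 0 < n ∧
      Polynomial.map (algebraMap R S) P = (Polynomial.X - Polynomial.C x) ^ n) :
    IsHomeomorph (PrimeSpectrum.comap (algebraMap R S)) ∧
      ∀ (q : Ideal S) [q.IsPrime] (p : Ideal R) [p.IsPrime] [q.LiesOver p],
        @IsPurelyInseparable p.ResidueField q.ResidueField _ _
          (Ideal.ResidueField.mapₐ p q (Algebra.ofId R S) (q.over_def p)).toRingHom.toAlgebra := by
  have hint : Algebra.IsIntegral R S := isIntegral_all G hG hpow
  refine ⟨?_, ?_⟩
  · rw [isHomeomorph_iff_continuous_isClosedMap_bijective]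
    refine ⟨PrimeSpectrum.continuous_comap _,
      PrimeSpectrum.isClosedMap_comap_of_isIntegral _ (algebraMap_isIntegral_iff.mpr hint), ?_, ?_⟩
    · -- injective
      intro x y hxy
      have hp : x.asIdeal.comap (algebraMap R S) = y.asIdeal.comap (algebraMap R S) :=
        congrArg PrimeSpectrum.asIdeal hxy
      set q := x.asIdeal with hq
      set q' := y.asIdeal with hq'
      let p : Ideal R := q.comap (algebraMap R S)
      let i₁ : p.ResidueField →+* q.ResidueField :=
        Ideal.ResidueField.map p q (algebraMap R S) rfl
      let i₂ : p.ResidueField →+* q'.ResidueField :=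
        Ideal.ResidueField.map p q' (algebraMap R S) hp
      let : Algebra p.ResidueField q.ResidueField := i₁.toAlgebra
      let : Algebra p.ResidueField q'.ResidueField := i₂.toAlgebra
      have hnt : Nontrivial (q.ResidueField ⊗[p.ResidueField] q'.ResidueField) :=
        Algebra.TensorProduct.nontrivial_of_algebraMap_injective_of_flat_left _ _ _
          (algebraMap p.ResidueField q'.ResidueField).injective
      obtain ⟨𝔪, h𝔪⟩ := Ideal.exists_maximal (q.ResidueField ⊗[p.ResidueField] q'.ResidueField)
      let : Field ((q.ResidueField ⊗[p.ResidueField] q'.ResidueField) ⧸ 𝔪) :=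
        Ideal.Quotient.field 𝔪
      let j₁ : q.ResidueField →+* (q.ResidueField ⊗[p.ResidueField] q'.ResidueField) ⧸ 𝔪 :=
        (Ideal.Quotient.mk 𝔪).comp Algebra.TensorProduct.includeLeftRingHom
      let j₂ : q'.ResidueField →+* (q.ResidueField ⊗[p.ResidueField] q'.ResidueField) ⧸ 𝔪 :=
        (Ideal.Quotient.mk 𝔪).comp
          (Algebra.TensorProduct.includeRight (R := p.ResidueField) (A := q.ResidueField)
            (B := q'.ResidueField)).toRingHom
      have hj : j₁.comp (algebraMap p.ResidueField q.ResidueField) =
          j₂.comp (algebraMap p.ResidueField q'.ResidueField) := by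
        ext c
        simp only [j₁, j₂, RingHom.comp_apply, Algebra.TensorProduct.includeLeftRingHom_apply,
          AlgHom.toRingHom_eq_coe, RingHom.coe_coe, Algebra.TensorProduct.includeRight_apply]
        congr 1
        rw [Algebra.algebraMap_eq_smul_one, Algebra.algebraMap_eq_smul_one (A := q'.ResidueField),
          TensorProduct.smul_tmul]
      have hψ : (j₁.comp (algebraMap S q.ResidueField)).comp (algebraMap R S) =
          (j₂.comp (algebraMap S q'.ResidueField)).comp (algebraMap R S) := by
        ext r
        have e1 : algebraMap S q.ResidueField (algebraMap R S r) =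
            algebraMap p.ResidueField q.ResidueField (algebraMap R p.ResidueField r) :=
          (Ideal.ResidueField.map_algebraMap p q (algebraMap R S) rfl r).symm
        have e2 : algebraMap S q'.ResidueField (algebraMap R S r) =
            algebraMap p.ResidueField q'.ResidueField (algebraMap R p.ResidueField r) :=
          (Ideal.ResidueField.map_algebraMap p q' (algebraMap R S) hp r).symm
        simp only [RingHom.comp_apply]
        rw [e1, e2]
        exact RingHom.congr_fun hj _
      have huniq := hom_unique G hG hpow _ _ hψ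
      apply PrimeSpectrum.ext
      change q = q'
      ext s
      rw [← Ideal.algebraMap_residueField_eq_zero (I := q),
        ← Ideal.algebraMap_residueField_eq_zero (I := q'),
        ← map_eq_zero_iff j₁ j₁.injective, ← map_eq_zero_iff j₂ j₂.injective]
      have := RingHom.congr_fun huniq s
      simp only [RingHom.comp_apply] at this
      rw [this]
    · -- surjective
      intro p'
      have hle : (⊥ : Ideal S).comap (algebraMap R S) ≤ p'.asIdeal := by
        intro r hr
        have h0 : algebraMap R S r = 0 := by simpa using hr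
        obtain ⟨n, hn⟩ := hker r h0
        exact p'.isPrime.mem_of_pow_mem n (hn ▸ p'.asIdeal.zero_mem)
      obtain ⟨Q, -, hQ, hQp⟩ := Ideal.exists_ideal_over_prime_of_isIntegral p'.asIdeal ⊥ hle
      exact ⟨⟨Q, hQ⟩, PrimeSpectrum.ext hQp⟩
  · intro q _ p _ _
    let : Algebra p.ResidueField q.ResidueField :=
      (Ideal.ResidueField.mapₐ p q (Algebra.ofId R S) (q.over_def p)).toRingHom.toAlgebra
    have : Nonempty (q.ResidueField →+* AlgebraicClosure q.ResidueField) := ⟨algebraMap _ _⟩
    apply IsPurelyInseparable.of_injective_comp_algebraMap p.ResidueField q.ResidueField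
      (AlgebraicClosure q.ResidueField)
    intro f g hfg
    apply residueField_hom_ext q
    apply hom_unique G hG hpow
    ext r
    have e1 : algebraMap S q.ResidueField (algebraMap R S r) =
        algebraMap p.ResidueField q.ResidueField (algebraMap R p.ResidueField r) :=
      (Ideal.ResidueField.map_algebraMap p q (algebraMap R S) (q.over_def p) r).symm
    simp only [RingHom.comp_apply]
    rw [e1]
    exact RingHom.congr_fun hfg _

end Groth.Agent.S2161
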