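import Groth.Statements.S2163
import Mathlib.RingTheory.Flat.EquationalCriterion

set_option autoImplicit false
universe u
open CAlg

namespace Groth.Agent.S2163

section
variable {R : Type u} [CommRing R]

/-- the canonical surjection onto the ideal spanned by a finite family -/
noncomputable def proj {n : ℕ} (a : Fin n → R) : (Fin n → R) →ₗ[R] (Ideal.span (Set.range a)) :=
  (Fintype.linearCombination R a).codRestrict (Ideal.span (Set.range a)) (fun c => by
    have : Fintype.linearCombination R a c ∈ LinearMap.range (Fintype.linearCombination R a) :=
      ⟨c, rfl⟩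
    rwa [Fintype.range_linearCombination] at this)

theorem proj_surjective {n : ℕ} (a : Fin n → R) : Function.Surjective (proj a) := by
  rintro ⟨x, hx⟩
  have hx' : x ∈ LinearMap.range (Fintype.linearCombination R a) := by
    rwa [Fintype.range_linearCombination]
  obtain ⟨c, hc⟩ := hx'
  exact ⟨c, Subtype.ext hc⟩

theorem mem_ker_proj {n : ℕ} (a : Fin n → R) (c : Fin n → R) :
    c ∈ LinearMap.ker (proj a) ↔ ∑ i, a i * c i = 0 := by
  rw [LinearMap.mem_ker, Subtype.ext_iff]
  simp [proj, Fintype.linearCombination_apply, mul_comm]

end

/-- A ring `R` is coherent — every finitely generated ideal is a finitely presented module — if and only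
if for every index set `A` (in the same universe) the product module `R^A` is flat. -/
theorem result {R : Type u} [CommRing R] :
    (∀ I : Ideal R, I.FG → Module.FinitePresentation R I) ↔ ∀ (A : Type u), Module.Flat R (A → R) := by
  constructor
  · intro hcoh A
    apply Module.Flat.of_forall_isTrivialRelation
    intro l f x h
    have hfp : Module.FinitePresentation R (Ideal.span (Set.range f)) :=
      hcoh _ (Submodule.fg_span (Set.finite_range f))
    have hK : (LinearMap.ker (proj f)).FG :=
      Module.FinitePresentation.fg_ker (proj f) (proj_surjective f)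
    obtain ⟨m, b, hb⟩ := Submodule.fg_iff_exists_fin_generating_family.mp hK
    have hbK : ∀ j, b j ∈ LinearMap.ker (proj f) := fun j => by
      rw [← hb]; exact Submodule.subset_span ⟨j, rfl⟩
    have hv : ∀ α : A, (fun i => x i α) ∈ Submodule.span R (Set.range b) := fun α => by
      rw [hb, mem_ker_proj]
      have := congrFun h α
      simpa using this
    choose y hy using fun α => (Submodule.mem_span_range_iff_exists_fun R).mp (hv α)
    refine ⟨m, fun i j => b j i, fun j α => y α j, fun i => ?_, fun j => ?_⟩
    · ext α
      have := congrFun (hy α) i
      simp only [Finset.sum_apply, Pi.smul_apply, smul_eq_mul] at this ⊢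
      rw [← this]
      exact Finset.sum_congr rfl fun j _ => mul_comm _ _
    · exact (mem_ker_proj f (b j)).mp (hbK j)
  · intro hflat I hI
    obtain ⟨n, a, rfl⟩ := Submodule.fg_iff_exists_fin_generating_family.mp hI
    refine Module.finitePresentation_of_free_of_surjective (proj a) (proj_surjective a) ?_
    set K := LinearMap.ker (proj a) with hKdef
    have : Module.Flat R (K → R) := hflat K
    have hrel : ∑ i, a i • (fun k : K => (k : Fin n → R) i) = 0 := by
      ext k
      have := (mem_ker_proj a k.1).mp k.2
      simpa using this
    obtain ⟨m, b, y, hx, hb⟩ := Module.Flat.isTrivialRelation_of_sum_smul_eq_zero hrel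
    refine Submodule.fg_iff_exists_fin_generating_family.mpr ⟨m, fun j i => b i j, ?_⟩
    apply le_antisymm
    · rw [Submodule.span_le]
      rintro _ ⟨j, rfl⟩
      exact (mem_ker_proj a _).mpr (hb j)
    · intro k hk
      rw [Submodule.mem_span_range_iff_exists_fun]
      refine ⟨fun j => y j ⟨k, hk⟩, ?_⟩
      ext i
      have := congrFun (hx i) ⟨k, hk⟩
      simp only [Finset.sum_apply, Pi.smul_apply, smul_eq_mul] at this ⊢
      rw [this]
      exact Finset.sum_congr rfl fun j _ => mul_comm _ _

end Groth.Agent.S2163
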