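import Groth.Statements.S2165
import Groth.Agent.Lib.FormalFibreQuotient96
import Groth.Agent.Lib.AdicDim
import Mathlib.RingTheory.Regular.Flat

set_option autoImplicit false
universe u
open LCI

namespace Groth.Agent.S2165

open IsLocalRing Groth.Agent.Lib TensorProduct

/-- Let R be a regular ring, p a prime ideal of R and f_1, ..., f_r a regular sequence of R contained in
p. Then the local ring R_p/(f_1, ..., f_r) is a complete intersection: its completion is a regular
local ring modulo a regular sequence. The instance hypothesis that the quotient is local always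
holds. -/
theorem result {R : Type u} [CommRing R] [IsRegularRing R]
    (p : Ideal R) [p.IsPrime] (rs : List R) (hmem : ∀ r ∈ rs, r ∈ p)
    (hreg : RingTheory.Sequence.IsRegular R rs)
    [IsLocalRing (Localization.AtPrime p ⧸
      Ideal.map (algebraMap R (Localization.AtPrime p)) (Ideal.ofList rs))] :
    Pi1.IsCompleteIntersection (Localization.AtPrime p ⧸
      Ideal.map (algebraMap R (Localization.AtPrime p)) (Ideal.ofList rs)) := by
  have hN : IsNoetherianRing (Localization.AtPrime p) := inferInstance
  have hB : IsRegularLocalRing (AdicCompletion (maximalIdeal (Localization.AtPrime p))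
      (Localization.AtPrime p)) :=
    (AdicDim.isRegularLocalRing_adicCompletion_iff (A := Localization.AtPrime p)).mp inferInstance
  have hflat1 : Module.Flat (Localization.AtPrime p)
      (AdicCompletion (maximalIdeal (Localization.AtPrime p)) (Localization.AtPrime p)) :=
    AdicCompletion.flat_of_isNoetherian _
  -- the regular sequence in the localization and in the completion
  have hreg1 : RingTheory.Sequence.IsRegular (Localization.AtPrime p)
      (rs.map (algebraMap R (Localization.AtPrime p))) :=
    hreg.toIsWeaklyRegular.isRegular_of_isLocalization_of_mem (Localization.AtPrime p) p hmem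
  have hmem1 : ∀ r ∈ rs.map (algebraMap R (Localization.AtPrime p)),
      r ∈ maximalIdeal (Localization.AtPrime p) := by
    intro r hr
    obtain ⟨a, ha, rfl⟩ := List.mem_map.mp hr
    exact (IsLocalization.AtPrime.to_map_mem_maximal_iff _ p _).mpr (hmem a ha)
  set rs1 := rs.map (algebraMap R (Localization.AtPrime p)) with hrs1
  set rs2 := rs1.map (algebraMap (Localization.AtPrime p)
    (AdicCompletion (maximalIdeal (Localization.AtPrime p)) (Localization.AtPrime p))) with hrs2
  have hmem2 : ∀ r ∈ rs2, r ∈ maximalIdeal
      (AdicCompletion (maximalIdeal (Localization.AtPrime p)) (Localization.AtPrime p)) := by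
    intro r hr
    obtain ⟨a, ha, rfl⟩ := List.mem_map.mp hr
    exact map_nonunit _ a (hmem1 a ha)
  have hreg2 : RingTheory.Sequence.IsRegular
      (AdicCompletion (maximalIdeal (Localization.AtPrime p)) (Localization.AtPrime p)) rs2 :=
    (IsLocalRing.isRegular_iff_isWeaklyRegular_of_subset_maximalIdeal hmem2).mpr
      hreg1.toIsWeaklyRegular.of_flat
  refine ⟨_, inferInstance, hB, rs2, hmem2, hreg2, ?_⟩
  -- the ideal
  have hI : Ideal.map (algebraMap R (Localization.AtPrime p)) (Ideal.ofList rs) =
      Ideal.ofList rs1 := Ideal.map_ofList _ _
  have hI2 : (Ideal.ofList rs1).map (algebraMap (Localization.AtPrime p)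
      (AdicCompletion (maximalIdeal (Localization.AtPrime p)) (Localization.AtPrime p))) =
      Ideal.span {r | r ∈ rs2} := Ideal.map_ofList _ _
  have hnt : Nontrivial (Localization.AtPrime p ⧸
      Ideal.map (algebraMap R (Localization.AtPrime p)) (Ideal.ofList rs)) := inferInstance
  obtain ⟨alg, tower, hpush⟩ := FormalFibreQuotient96.exists_isPushout (Localization.AtPrime p)
    (Ideal.map (algebraMap R (Localization.AtPrime p)) (Ideal.ofList rs))
  let e1 := (Algebra.IsPushout.equiv (Localization.AtPrime p)
    (Localization.AtPrime p ⧸ Ideal.map (algebraMap R (Localization.AtPrime p)) (Ideal.ofList rs))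
    (AdicCompletion (maximalIdeal (Localization.AtPrime p)) (Localization.AtPrime p))
    (EGA4.Cpl (Localization.AtPrime p ⧸
      Ideal.map (algebraMap R (Localization.AtPrime p)) (Ideal.ofList rs)))).symm.toRingEquiv
  let e2 := (Algebra.TensorProduct.quotIdealMapEquivQuotTensor
    (AdicCompletion (maximalIdeal (Localization.AtPrime p)) (Localization.AtPrime p))
    (Ideal.map (algebraMap R (Localization.AtPrime p)) (Ideal.ofList rs))).symm.toRingEquiv
  let e3 := Ideal.quotEquivOfEq ((congrArg (Ideal.map (algebraMap (Localization.AtPrime p)
      (AdicCompletion (maximalIdeal (Localization.AtPrime p)) (Localization.AtPrime p)))) hI).trans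
        hI2)
  exact ⟨(e1.trans e2).trans e3⟩

end Groth.Agent.S2165
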