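import Groth.Statements.S2174
-- import your own Groth.Agent.* helpers here

set_option autoImplicit false
open Finset
open Models Models.NumericalType

namespace Groth.Agent.S2174

/-- If a numerical type has n > 1 indices then every diagonal entry a i i of its matrix is negative. -/
theorem result {n : ℕ} (T : Models.NumericalType n) (hn : 1 < n) (i : Fin n) : T.a i i < 0 := by
  have hne : ({i} : Finset (Fin n)) ≠ univ := by
    intro h
    have := congrArg Finset.card h
    simp at this
    omega
  obtain ⟨i', hi', j, hj, hij⟩ := T.connected {i} (singleton_nonempty i) hne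
  rw [mem_singleton] at hi'
  subst hi'
  rw [mem_singleton] at hj
  have hjpos : 0 < T.a i' j := lt_of_le_of_ne (T.offDiag_nonneg i' j (Ne.symm hj)) (Ne.symm hij)
  have hrow : ∑ k, T.a i' k * T.m k = 0 := by
    have := congrFun T.mulVec_m i'
    simpa [Matrix.mulVec, dotProduct] using this
  rw [← Finset.add_sum_erase _ _ (mem_univ i')] at hrow
  have hsum : 0 < ∑ k ∈ univ.erase i', T.a i' k * T.m k := by
    apply Finset.sum_pos'
    · intro k hk
      exact mul_nonneg (T.offDiag_nonneg i' k (Ne.symm (ne_of_mem_erase hk))) (T.m_pos k).le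
    · exact ⟨j, mem_erase.mpr ⟨hj, mem_univ j⟩, mul_pos hjpos (T.m_pos j)⟩
  have hmi := T.m_pos i'
  nlinarith

end Groth.Agent.S2174
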