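import Groth.Statements.S2181
import Groth.Agent.Lib.NumTypePerm
import Groth.Agent.S2175
import Groth.Agent.S2180

set_option autoImplicit false
open Finset
open Models Models.NumericalType

namespace Groth.Agent.S2181

open Finset
open Models Models.NumericalType
open Groth.Agent.Lib Groth.Agent.Lib.NumTypePerm

theorem main : ∀ (n : ℕ) (T : Models.NumericalType n), T.genus ≤ 0 → Nonempty (T.Pic ≃+ ℤ)
  | 0, T, _ => absurd T.pos (lt_irrefl 0)
  | 1, T, _ => by
    have h0 : T.a 0 0 = 0 := by
      have h1 := NumType.row_sum T 0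
      rw [Fin.sum_univ_one] at h1
      have := T.m_pos 0
      rcases mul_eq_zero.1 h1 with h | h
      · exact h
      · omega
    have hpic : T.picMatrix = 0 := by
      ext i j
      have hi : i = 0 := Subsingleton.elim _ _
      have hj : j = 0 := Subsingleton.elim _ _
      subst hi; subst hj
      show T.a 0 0 / T.w 0 = 0
      rw [h0, Int.zero_ediv]
    have hbot : LinearMap.range (Matrix.mulVecLin T.picMatrix) = ⊥ := by
      rw [hpic]
      simp
    exact ⟨((Submodule.quotEquivOfEqBot _ hbot).trans
      (LinearEquiv.funUnique (Fin 1) ℤ ℤ)).toAddEquiv⟩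
  | (n + 2), T, hg => by
    have hnotmin : ¬ T.IsMinimal := fun hmin => by
      have := NumType.one_le_genus_of_isMinimal T hmin (by omega)
      omega
    unfold NumericalType.IsMinimal at hnotmin
    push Not at hnotmin
    obtain ⟨i, hi⟩ := hnotmin
    let σ : Equiv.Perm (Fin (n + 2)) := Equiv.swap i (Fin.last (n + 1))
    let T₁ := permType T σ
    have h1 : T₁.IsMinusOne (Fin.last (n + 1)) := by
      rw [isMinusOne_permType]
      have : σ (Fin.last (n + 1)) = i := Equiv.swap_apply_right _ _
      rw [this]
      exact hi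
    obtain ⟨⟨T', hT'⟩, hgen⟩ := Groth.Agent.S2175.result T₁ h1
    have hg' : T'.genus ≤ 0 := by
      rw [hgen T' hT', genus_permType]
      exact hg
    obtain ⟨e'⟩ := main (n + 1) T' hg'
    obtain ⟨f, hf, hcok⟩ := Groth.Agent.S2180.result T₁ h1 T' hT'
    have key : Nonempty (T₁.Pic ≃+ ℤ) := by
      apply equiv_int_of_injective (e'.toAddMonoidHom.comp f)
      · exact e'.injective.comp hf
      · obtain ⟨x, hx⟩ := hcok (e'.symm 1)
        refine ⟨x, ?_⟩
        show e' (f x) = 2
        rw [← hx, map_nsmul, AddEquiv.apply_symm_apply]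
        rfl
    obtain ⟨e₁⟩ := key
    exact ⟨(picEquiv_permType T σ).toAddEquiv.trans e₁⟩

/-- If the genus of a numerical type is at most 0 then its Picard group is infinite cyclic. -/
theorem result {n : ℕ} (T : Models.NumericalType n) (hg : T.genus ≤ 0) : Nonempty (T.Pic ≃+ ℤ) := by
  exact main n T hg

end Groth.Agent.S2181
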