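import Groth.Statements.S2190

set_option autoImplicit false
open Finset
open Models Models.NumericalType

namespace Groth.Agent.S2190

theorem row_sum {n : ℕ} (T : Models.NumericalType n) (i : Fin n) :
    ∑ j, T.a i j * T.m j = 0 := by
  have := congrFun T.mulVec_m i
  simpa [Matrix.mulVec, dotProduct] using this

theorem diag_neg {n : ℕ} (T : Models.NumericalType n) (hn : 1 < n) (i : Fin n) :
    T.a i i < 0 := by
  have hrow := row_sum T i
  rw [← Finset.add_sum_erase _ _ (Finset.mem_univ i)] at hrow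
  have hnonneg : ∀ j ∈ univ.erase i, 0 ≤ T.a i j * T.m j := by
    intro j hj
    have hji : j ≠ i := (Finset.mem_erase.mp hj).1
    exact mul_nonneg (T.offDiag_nonneg i j hji.symm) (T.m_pos j).le
  have hsum_nonneg : 0 ≤ ∑ j ∈ univ.erase i, T.a i j * T.m j := Finset.sum_nonneg hnonneg
  by_contra hcon
  push Not at hcon
  have h1 : 0 ≤ T.a i i * T.m i := mul_nonneg hcon (T.m_pos i).le
  have hsum0 : ∑ j ∈ univ.erase i, T.a i j * T.m j = 0 := by linarith
  have hall : ∀ j ∈ univ.erase i, T.a i j * T.m j = 0 :=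
    (Finset.sum_eq_zero_iff_of_nonneg hnonneg).mp hsum0
  obtain ⟨i', hi', j, hj, hij⟩ := T.connected {i} (Finset.singleton_nonempty i) (by
    intro h
    have : (univ : Finset (Fin n)).card = 1 := by rw [← h]; simp
    simp at this
    omega)
  rw [Finset.mem_singleton] at hi'
  subst hi'
  have hji : j ≠ i' := by simpa using hj
  have := hall j (Finset.mem_erase.mpr ⟨hji, Finset.mem_univ j⟩)
  rcases mul_eq_zero.mp this with h | h
  · exact hij h
  · exact (T.m_pos j).ne' h

theorem term_nonneg {n : ℕ} (T : Models.NumericalType n) (hmin : T.IsMinimal) (hn : 1 < n)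
    (i : Fin n) : 0 ≤ T.m i * (2 * (T.w i * (T.g i - 1)) - T.a i i) := by
  apply mul_nonneg (T.m_pos i).le
  have hneg := diag_neg T hn i
  obtain ⟨k, hk⟩ := T.w_dvd i i
  have hw := T.w_pos i
  have hg := T.g_nonneg i
  have hk_neg : k < 0 := by
    by_contra h
    push Not at h
    have : 0 ≤ T.w i * k := mul_nonneg hw.le h
    omega
  rcases eq_or_lt_of_le hg with hg0 | hgpos
  · have hne : T.a i i ≠ -T.w i := fun h => hmin i ⟨hg0.symm, h⟩
    have hk2 : k ≤ -2 := by
      by_contra h
      push Not at h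
      have hk1 : k = -1 := by omega
      apply hne
      rw [hk, hk1]; ring
    rw [← hg0, hk]
    nlinarith
  · have : 0 ≤ T.w i * (T.g i - 1) := mul_nonneg hw.le (by omega)
    omega

/-- A minimal numerical type of genus zero has a single index, with m = 1, a = 0, w = 1 and g = 0. -/
theorem result {n : ℕ} (T : Models.NumericalType n) (hmin : T.IsMinimal) (hg : T.genus = 0) :
    n = 1 ∧ ∀ i, T.m i = 1 ∧ T.a i i = 0 ∧ T.w i = 1 ∧ T.g i = 0 := by
  have hpos := T.pos
  have hn1 : n = 1 := by
    by_contra hne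
    have hn : 1 < n := by omega
    have hsum : 0 ≤ ∑ i, T.m i * (2 * (T.w i * (T.g i - 1)) - T.a i i) :=
      Finset.sum_nonneg fun i _ => term_nonneg T hmin hn i
    have hexp : ∑ i, T.m i * (2 * (T.w i * (T.g i - 1)) - T.a i i) =
        2 * (∑ i, T.m i * T.w i * (T.g i - 1)) - ∑ i, T.m i * T.a i i := by
      rw [Finset.mul_sum, ← Finset.sum_sub_distrib]
      apply Finset.sum_congr rfl
      intro i _
      ring
    rw [hexp] at hsum
    unfold Models.NumericalType.genus at hg
    have hdiv := Int.ediv_mul_le (∑ i, T.m i * T.a i i) (b := 2) (by norm_num)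
    omega
  subst hn1
  refine ⟨rfl, ?_⟩
  intro i
  have hi : i = 0 := Subsingleton.elim _ _
  subst hi
  have hrow := row_sum T 0
  simp only [Fin.sum_univ_one, Fin.isValue] at hrow
  have ha : T.a 0 0 = 0 := by
    rcases mul_eq_zero.mp hrow with h | h
    · exact h
    · exact absurd h (T.m_pos 0).ne'
  unfold Models.NumericalType.genus at hg
  simp only [Fin.sum_univ_one, Fin.isValue, ha, mul_zero, Int.zero_ediv, sub_zero] at hg
  have hm := T.m_pos 0
  have hw := T.w_pos 0
  have hgn := T.g_nonneg 0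
  have hprod : T.m 0 * T.w 0 * (1 - T.g 0) = 1 := by linarith
  have hmw : 0 < T.m 0 * T.w 0 := mul_pos hm hw
  have h1g : 0 < 1 - T.g 0 := by
    by_contra h
    push Not at h
    have : T.m 0 * T.w 0 * (1 - T.g 0) ≤ 0 := mul_nonpos_of_nonneg_of_nonpos hmw.le h
    omega
  have hg0 : T.g 0 = 0 := by omega
  rw [hg0] at hprod
  have hmw1 : T.m 0 * T.w 0 = 1 := by linarith
  have hm1 : T.m 0 = 1 := Int.eq_one_of_mul_eq_one_right hm.le hmw1
  rw [hm1] at hmw1
  exact ⟨hm1, ha, by linarith, hg0⟩

end Groth.Agent.S2190
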