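import Groth.Statements.S2192
import Groth.Agent.Lib.DPPoly58

set_option autoImplicit false
universe u
open DPow

namespace Groth.Agent.S2192

open Groth.Agent.Lib.DPPoly58 in
/-- Additivity step: if the product and composition rules hold for `x` and `y`, they hold for
`x + y` (via the universal divided power algebra `ℤ⟨u,v⟩`). -/
theorem good_add {A : Type u} [CommRing A] (I : Ideal A) (d : ℕ → A → A)
    (h_zero : ∀ x ∈ I, d 0 x = 1) (h_one : ∀ x ∈ I, d 1 x = x)
    (h_mem : ∀ (n : ℕ) (x : A), n ≠ 0 → x ∈ I → d n x ∈ I)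
    (h_add : ∀ (n : ℕ) (x y : A), x ∈ I → y ∈ I →
      d n (x + y) = (Finset.antidiagonal n).sum fun k => d k.1 x * d k.2 y)
    (h_mul : ∀ (n : ℕ) (a x : A), x ∈ I → d n (a * x) = a ^ n * d n x)
    {x y : A} (hx : x ∈ I) (hy : y ∈ I)
    (hxm : ∀ m n : ℕ, d m x * d n x = (m + n).choose m * d (m + n) x)
    (hxc : ∀ m n : ℕ, n ≠ 0 → d m (d n x) = Nat.uniformBell m n * d (m * n) x)
    (hym : ∀ m n : ℕ, d m y * d n y = (m + n).choose m * d (m + n) y)
    (hyc : ∀ m n : ℕ, n ≠ 0 → d m (d n y) = Nat.uniformBell m n * d (m * n) y) :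
    (∀ m n : ℕ, d m (x + y) * d n (x + y) = (m + n).choose m * d (m + n) (x + y)) ∧
    (∀ m n : ℕ, n ≠ 0 → d m (d n (x + y)) = Nat.uniformBell m n * d (m * n) (x + y)) := by
  let a : Fin 2 → ℕ → A := fun i n => d n (if i = 0 then x else y)
  have hz : ∀ i : Fin 2, (if i = 0 then x else y) ∈ I := fun i => by split_ifs <;> assumption
  have h0 : ∀ i, a i 0 = 1 := fun i => h_zero _ (hz i)
  have hmul : ∀ i m n, a i m * a i n = ((m + n).choose m : A) * a i (m + n) := by
    intro i m n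
    show d m _ * d n _ = _ * d (m + n) _
    split_ifs
    · exact hxm m n
    · exact hym m n
  let φ : D ℤ ℚ (Fin 2) →ₐ[ℤ] A := phi ℤ ℚ (Fin 2) h0 hmul
  have hφ : ∀ i n, φ (dp ℤ ℚ (Fin 2) i n) = a i n := fun i n => phi_dp ℤ ℚ (Fin 2) h0 hmul i n
  have hgen : ∀ (i : Fin 2) (m : ℕ), 1 ≤ m → (φ : D ℤ ℚ (Fin 2) →+* A) (dp ℤ ℚ (Fin 2) i m) ∈ I ∧
      ∀ n, d n ((φ : D ℤ ℚ (Fin 2) →+* A) (dp ℤ ℚ (Fin 2) i m)) =
        (Nat.uniformBell n m : A) * (φ : D ℤ ℚ (Fin 2) →+* A) (dp ℤ ℚ (Fin 2) i (n * m)) := by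
    intro i m hm
    show φ _ ∈ I ∧ ∀ n, d n (φ _) = _ * φ _
    rw [hφ]
    refine ⟨h_mem m _ (by omega) (hz i), fun n => ?_⟩
    rw [hφ]
    show d n (d m _) = _ * d (n * m) _
    split_ifs
    · exact hxc n m (by omega)
    · exact hyc n m (by omega)
  have key := fun {z : D ℤ ℚ (Fin 2)} (hz : z ∈ Iplus ℤ ℚ (Fin 2)) =>
    hom_dpow ℤ ℚ (Fin 2) (φ : D ℤ ℚ (Fin 2) →+* A) I d h_zero h_add h_mul hgen hz
  set w : D ℤ ℚ (Fin 2) := dp ℤ ℚ (Fin 2) 0 1 + dp ℤ ℚ (Fin 2) 1 1 with hw
  have hwI : w ∈ Iplus ℤ ℚ (Fin 2) :=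
    Ideal.add_mem _ (dp_mem_Iplus ℤ ℚ (Fin 2) 0 le_rfl) (dp_mem_Iplus ℤ ℚ (Fin 2) 1 le_rfl)
  have hφw : φ w = x + y := by
    rw [hw, map_add, hφ, hφ]
    show d 1 _ + d 1 _ = _
    rw [if_pos rfl, if_neg (by decide), h_one x hx, h_one y hy]
  have hk : ∀ n, φ ((eps ℤ ℚ (Fin 2)).dpow n w) = d n (x + y) := by
    intro n
    have := (key hwI).2 n
    rw [← hφw]; exact this
  constructor
  · intro m n
    rw [← hk, ← hk, ← hk, ← map_mul, (eps ℤ ℚ (Fin 2)).mul_dpow hwI, map_mul, map_natCast]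
  · intro m n hn
    have hmem : (eps ℤ ℚ (Fin 2)).dpow n w ∈ Iplus ℤ ℚ (Fin 2) :=
      (eps ℤ ℚ (Fin 2)).dpow_mem hn hwI
    have := (key hmem).2 m
    rw [← hk n, ← hk (m * n)]
    show d m ((φ : D ℤ ℚ (Fin 2) →+* A) _) = _
    rw [← this, (eps ℤ ℚ (Fin 2)).dpow_comp hn hwI, map_mul, map_natCast]
    rfl


/-- Let I be an ideal of a ring A generated by a set S, and let d n : A -> A (n a natural number) be
maps with d 0 = 1 and d 1 = id on I, d n mapping I into I for n > 0, vanishing off I, additive in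
the divided-power sense and satisfying d n (a x) = a^n d n x for all x in I. If the product rule d m
x * d n x = C(m+n, m) d (m+n) x and the composition rule for d m (d n x) hold for all x in S, then
the d n form a divided power structure on I. -/
theorem result {A : Type u} [CommRing A] (I : Ideal A) (S : Set A)
    (hS : Ideal.span S = I) (d : ℕ → A → A) (h_null : ∀ (n : ℕ) (x : A), x ∉ I → d n x = 0)
    (h_zero : ∀ x ∈ I, d 0 x = 1) (h_one : ∀ x ∈ I, d 1 x = x)
    (h_mem : ∀ (n : ℕ) (x : A), n ≠ 0 → x ∈ I → d n x ∈ I)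
    (h_add : ∀ (n : ℕ) (x y : A), x ∈ I → y ∈ I →
      d n (x + y) = (Finset.antidiagonal n).sum fun k => d k.1 x * d k.2 y)
    (h_mul : ∀ (n : ℕ) (a x : A), x ∈ I → d n (a * x) = a ^ n * d n x)
    (h_mul_dpow : ∀ (m n : ℕ) (x : A), x ∈ S → d m x * d n x = (m + n).choose m * d (m + n) x)
    (h_comp : ∀ (m n : ℕ) (x : A), n ≠ 0 → x ∈ S →
      d m (d n x) = Nat.uniformBell m n * d (m * n) x) :
    ∃ γ : DividedPowers I, γ.dpow = d := by
  classical
  have hSI : S ⊆ I := by rw [← hS]; exact Ideal.subset_span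
  -- `d k 0 = 0` for `k ≠ 0`
  have hd0 : ∀ k : ℕ, k ≠ 0 → d k 0 = 0 := by
    intro k hk
    have := h_mul k 0 0 I.zero_mem
    rw [mul_zero, zero_pow hk, zero_mul] at this
    exact this
  -- all elements of `I` are good
  have good : ∀ x ∈ I, (∀ m n : ℕ, d m x * d n x = (m + n).choose m * d (m + n) x) ∧
      (∀ m n : ℕ, n ≠ 0 → d m (d n x) = Nat.uniformBell m n * d (m * n) x) := by
    intro x hx
    have hx' : x ∈ Ideal.span S := by rw [hS]; exact hx
    induction hx' using Submodule.span_induction with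
    | mem x h => exact ⟨fun m n => h_mul_dpow m n x h, fun m n hn => h_comp m n x hn h⟩
    | zero =>
      constructor
      · intro m n
        rcases Nat.eq_zero_or_pos m with rfl | hm
        · rw [h_zero 0 I.zero_mem, zero_add, Nat.choose_zero_right, Nat.cast_one, one_mul]
        · rw [hd0 m hm.ne', zero_mul, hd0 (m + n) (by omega), mul_zero]
      · intro m n hn
        rw [hd0 n hn]
        rcases Nat.eq_zero_or_pos m with rfl | hm
        · rw [h_zero 0 I.zero_mem, zero_mul, h_zero 0 I.zero_mem, Nat.uniformBell_zero_left,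
            Nat.cast_one, one_mul]
        · rw [hd0 m hm.ne', hd0 (m * n) (Nat.mul_ne_zero hm.ne' hn), mul_zero]
    | add x y hx1 hy1 ihx ihy =>
      have hxI : x ∈ I := by rw [← hS]; exact hx1
      have hyI : y ∈ I := by rw [← hS]; exact hy1
      obtain ⟨hxm, hxc⟩ := ihx hxI
      obtain ⟨hym, hyc⟩ := ihy hyI
      exact good_add I d h_zero h_one h_mem h_add h_mul hxI hyI hxm hxc hym hyc
    | smul a x hx1 ih =>
      have hxI : x ∈ I := by rw [← hS]; exact hx1
      obtain ⟨hxm, hxc⟩ := ih hxI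
      constructor
      · intro m n
        rw [smul_eq_mul, h_mul m a x hxI, h_mul n a x hxI, h_mul (m + n) a x hxI]
        have := hxm m n
        calc a ^ m * d m x * (a ^ n * d n x) = a ^ (m + n) * (d m x * d n x) := by
              rw [pow_add]; ring
          _ = _ := by rw [this]; ring
      · intro m n hn
        rw [smul_eq_mul, h_mul n a x hxI, h_mul m _ _ (h_mem n x hn hxI), hxc m n hn,
          h_mul (m * n) a x hxI, ← pow_mul, mul_comm n m]
        ring
  refine ⟨{ dpow := d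
            dpow_null := fun {n x} hx => h_null n x hx
            dpow_zero := fun {x} hx => h_zero x hx
            dpow_one := fun {x} hx => h_one x hx
            dpow_mem := fun {n x} hn hx => h_mem n x hn hx
            dpow_add := fun {n x y} hx hy => h_add n x y hx hy
            dpow_mul := fun {n a x} hx => h_mul n a x hx
            mul_dpow := fun {m n x} hx => (good x hx).1 m n
            dpow_comp := fun {m n x} hn hx => (good x hx).2 m n hn }, rfl⟩

end Groth.Agent.S2192
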