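import Groth.Statements.S2191
import Groth.Agent.S2192
import Mathlib.RingTheory.PowerSeries.Basic

set_option autoImplicit false
universe u v
open DPow

namespace Groth.Agent.S2191

open PowerSeries in
/-- The exponential generating series `∑ γ_n(a) t^n`. -/
noncomputable def ex {A : Type u} [CommRing A] {I : Ideal A} (γ : DividedPowers I) (a : A) :
    PowerSeries A := PowerSeries.mk fun n => γ.dpow n a

section

variable {A : Type u} [CommRing A] {I J : Ideal A} (γ : DividedPowers I) (δ : DividedPowers J)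

theorem ex_add {a a' : A} (ha : a ∈ I) (ha' : a' ∈ I) : ex γ (a + a') = ex γ a * ex γ a' := by
  ext n
  rw [ex, PowerSeries.coeff_mk, PowerSeries.coeff_mul, γ.dpow_add ha ha']
  refine Finset.sum_congr rfl fun k _ => ?_
  rw [ex, ex, PowerSeries.coeff_mk, PowerSeries.coeff_mk]

theorem ex_zero : ex γ 0 = 1 := by
  ext n
  rw [ex, PowerSeries.coeff_mk, PowerSeries.coeff_one]
  split_ifs with h
  · subst h; exact γ.dpow_zero I.zero_mem
  · exact γ.dpow_eval_zero h

theorem ex_mul (c : A) {a : A} (ha : a ∈ I) : ex γ (c * a) = PowerSeries.rescale c (ex γ a) := by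
  ext n
  rw [PowerSeries.coeff_rescale, ex, ex, PowerSeries.coeff_mk, PowerSeries.coeff_mk,
    γ.dpow_mul ha]

theorem ex_eq_of_mem_inf (h : ∀ (n : ℕ) (x : A), x ∈ I ⊓ J → γ.dpow n x = δ.dpow n x) {c : A}
    (hc : c ∈ I ⊓ J) : ex γ c = ex δ c := by
  ext n
  rw [ex, ex, PowerSeries.coeff_mk, PowerSeries.coeff_mk, h n c hc]

/-- Well-definedness of the product series. -/
theorem ex_mul_ex_eq (h : ∀ (n : ℕ) (x : A), x ∈ I ⊓ J → γ.dpow n x = δ.dpow n x)
    {a a' b b' : A} (ha : a ∈ I) (ha' : a' ∈ I) (hb : b ∈ J) (hb' : b' ∈ J)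
    (hab : a + b = a' + b') : ex γ a * ex δ b = ex γ a' * ex δ b' := by
  have hc : a - a' ∈ I ⊓ J := by
    refine ⟨I.sub_mem ha ha', ?_⟩
    have : a - a' = b' - b := by linear_combination hab
    rw [this]; exact J.sub_mem hb' hb
  have e1 : a = a' + (a - a') := by ring
  have e2 : b' = b + (a - a') := by linear_combination (-1 : A) * hab
  rw [e1, ex_add γ ha' hc.1, e2, ex_add δ hb hc.2, ex_eq_of_mem_inf γ δ h hc]
  ring

open Classical in
/-- The candidate divided powers on `I ⊔ J`. -/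
noncomputable def dsup (n : ℕ) (z : A) : A :=
  if hz : z ∈ I ⊔ J then
    PowerSeries.coeff n (ex γ (Submodule.mem_sup.mp hz).choose *
      ex δ (Submodule.mem_sup.mp hz).choose_spec.2.choose)
  else 0

theorem dsup_eq (h : ∀ (n : ℕ) (x : A), x ∈ I ⊓ J → γ.dpow n x = δ.dpow n x)
    {a b : A} (ha : a ∈ I) (hb : b ∈ J) (n : ℕ) :
    dsup γ δ n (a + b) = PowerSeries.coeff n (ex γ a * ex δ b) := by
  have hz : a + b ∈ I ⊔ J := Submodule.add_mem_sup ha hb
  rw [dsup, dif_pos hz]
  have h1 := (Submodule.mem_sup.mp hz).choose_spec.1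
  have h2 := (Submodule.mem_sup.mp hz).choose_spec.2.choose_spec.1
  have h3 := (Submodule.mem_sup.mp hz).choose_spec.2.choose_spec.2
  rw [ex_mul_ex_eq γ δ h h1 ha h2 hb h3]

theorem dsup_left (h : ∀ (n : ℕ) (x : A), x ∈ I ⊓ J → γ.dpow n x = δ.dpow n x)
    {a : A} (ha : a ∈ I) (n : ℕ) : dsup γ δ n a = γ.dpow n a := by
  have := dsup_eq γ δ h ha J.zero_mem n
  rw [add_zero, ex_zero, mul_one, ex, PowerSeries.coeff_mk] at this
  exact this

theorem dsup_right (h : ∀ (n : ℕ) (x : A), x ∈ I ⊓ J → γ.dpow n x = δ.dpow n x)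
    {b : A} (hb : b ∈ J) (n : ℕ) : dsup γ δ n b = δ.dpow n b := by
  have := dsup_eq γ δ h I.zero_mem hb n
  rw [zero_add, ex_zero, one_mul, ex, PowerSeries.coeff_mk] at this
  exact this

end


/-- Part (2): if two ideals I and J of a ring carry divided power structures agreeing on their
intersection, then exactly one divided power structure on the ideal I + J restricts to the given
ones on I and on J. -/
theorem result {A : Type u} [CommRing A] {I J : Ideal A} (γ : DividedPowers I)
    (δ : DividedPowers J) (h : ∀ (n : ℕ) (x : A), x ∈ I ⊓ J → γ.dpow n x = δ.dpow n x) :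
    ∃! ε : DividedPowers (I ⊔ J),
      (∀ (n : ℕ) (x : A), x ∈ I → ε.dpow n x = γ.dpow n x) ∧
        (∀ (n : ℕ) (x : A), x ∈ J → ε.dpow n x = δ.dpow n x) := by
  classical
  -- the candidate satisfies the hypotheses of S2192 with `S = I ∪ J`
  have hd := Groth.Agent.S2192.result (I ⊔ J) ((I : Set A) ∪ (J : Set A))
    (by rw [Ideal.span_union, Ideal.span_eq, Ideal.span_eq]) (dsup γ δ)
    (fun n x hx => by rw [dsup, dif_neg hx])
    (fun x hx => by
      obtain ⟨a, ha, b, hb, rfl⟩ := Submodule.mem_sup.mp hx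
      rw [dsup_eq γ δ h ha hb, PowerSeries.coeff_mul, Finset.Nat.antidiagonal_zero,
        Finset.sum_singleton, ex, ex, PowerSeries.coeff_mk, PowerSeries.coeff_mk,
        γ.dpow_zero ha, δ.dpow_zero hb, mul_one])
    (fun x hx => by
      obtain ⟨a, ha, b, hb, rfl⟩ := Submodule.mem_sup.mp hx
      rw [dsup_eq γ δ h ha hb, PowerSeries.coeff_mul]
      rw [show Finset.antidiagonal 1 = {(0, 1), (1, 0)} from rfl,
        Finset.sum_pair (by decide)]
      simp only [ex, PowerSeries.coeff_mk]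
      rw [γ.dpow_zero ha, δ.dpow_zero hb, γ.dpow_one ha, δ.dpow_one hb]
      ring)
    (fun n x hn hx => by
      obtain ⟨a, ha, b, hb, rfl⟩ := Submodule.mem_sup.mp hx
      rw [dsup_eq γ δ h ha hb, PowerSeries.coeff_mul]
      refine Ideal.sum_mem _ fun k hk => ?_
      simp only [ex, PowerSeries.coeff_mk]
      by_cases hk1 : k.1 = 0
      · have hk2 : k.2 ≠ 0 := by
          rw [Finset.mem_antidiagonal] at hk; omega
        exact Ideal.mul_mem_left _ _ (Ideal.mem_sup_right (δ.dpow_mem hk2 hb))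
      · exact Ideal.mul_mem_right _ _ (Ideal.mem_sup_left (γ.dpow_mem hk1 ha)))
    (fun n x y hx hy => by
      obtain ⟨a, ha, b, hb, rfl⟩ := Submodule.mem_sup.mp hx
      obtain ⟨a', ha', b', hb', rfl⟩ := Submodule.mem_sup.mp hy
      have e : a + b + (a' + b') = (a + a') + (b + b') := by ring
      rw [e, dsup_eq γ δ h (I.add_mem ha ha') (J.add_mem hb hb'), ex_add γ ha ha',
        ex_add δ hb hb']
      have e2 : ex γ a * ex γ a' * (ex δ b * ex δ b') = (ex γ a * ex δ b) * (ex γ a' * ex δ b') := by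
        ring
      rw [e2, PowerSeries.coeff_mul]
      refine Finset.sum_congr rfl fun k _ => ?_
      rw [dsup_eq γ δ h ha hb, dsup_eq γ δ h ha' hb'])
    (fun n c x hx => by
      obtain ⟨a, ha, b, hb, rfl⟩ := Submodule.mem_sup.mp hx
      rw [mul_add, dsup_eq γ δ h (I.mul_mem_left c ha) (J.mul_mem_left c hb), ex_mul γ c ha,
        ex_mul δ c hb, ← map_mul, PowerSeries.coeff_rescale, dsup_eq γ δ h ha hb])
    (fun m n x hx => by
      rcases hx with hx | hx
      · rw [dsup_left γ δ h hx, dsup_left γ δ h hx, dsup_left γ δ h hx]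
        exact γ.mul_dpow hx
      · rw [dsup_right γ δ h hx, dsup_right γ δ h hx, dsup_right γ δ h hx]
        exact δ.mul_dpow hx)
    (fun m n x hn hx => by
      rcases hx with hx | hx
      · rw [dsup_left γ δ h hx, dsup_left γ δ h (γ.dpow_mem hn hx), dsup_left γ δ h hx]
        exact γ.dpow_comp hn hx
      · rw [dsup_right γ δ h hx, dsup_right γ δ h (δ.dpow_mem hn hx), dsup_right γ δ h hx]
        exact δ.dpow_comp hn hx)
  obtain ⟨ε, hε⟩ := hd
  refine ⟨ε, ⟨fun n x hx => by rw [hε]; exact dsup_left γ δ h hx n,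
    fun n x hx => by rw [hε]; exact dsup_right γ δ h hx n⟩, ?_⟩
  rintro ε' ⟨h1', h2'⟩
  refine DividedPowers.ext _ _ fun n x hx => ?_
  obtain ⟨a, ha, b, hb, rfl⟩ := Submodule.mem_sup.mp hx
  rw [hε, dsup_eq γ δ h ha hb, PowerSeries.coeff_mul,
    ε'.dpow_add (Ideal.mem_sup_left ha) (Ideal.mem_sup_right hb)]
  refine Finset.sum_congr rfl fun k _ => ?_
  rw [h1' _ _ ha, h2' _ _ hb, ex, ex, PowerSeries.coeff_mk, PowerSeries.coeff_mk]

end Groth.Agent.S2191
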