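import Groth.Statements.S2194
import Groth.Agent.Lib.DPPolyExt75
-- import your own Groth.Agent.* helpers here

set_option autoImplicit false
universe u
open DPow

namespace Groth.Agent.S2194

open Groth.Agent.Lib.DPPoly75 TensorProduct

/-- the divided power envelope, constructed from a presentation of `B⟨x_j : j ∈ J⟩` -/
theorem of_presentation {A B : Type u} [CommRing A] [CommRing B] [Algebra A B] {I : Ideal A}
    (γ : DividedPowers I) (J : Ideal B) (hIJ : I.map (algebraMap A B) ≤ J)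
    (F : Type u) [CommRing F] [Algebra B F] (xx : ↥J → ℕ → F)
    (hx0 : ∀ i, xx i 0 = 1)
    (hxmul : ∀ i n m, xx i n * xx i m = ((n + m).choose n : F) * xx i (n + m))
    (b : Module.Basis (↥J →₀ ℕ) B F) (hb : ∀ e : ↥J →₀ ℕ, b e = e.prod (fun i k => xx i k)) :
    ∃ (D : Type u) (_ : CommRing D) (_ : Algebra B D) (JD : Ideal D) (γD : DividedPowers JD),
      J.map (algebraMap B D) ≤ JD ∧
      γ.IsDPMorphism γD ((algebraMap B D).comp (algebraMap A B)) ∧
      ∀ (C : Type u) [CommRing C] [Algebra A C] (K : Ideal C) (δ : DividedPowers K),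
        γ.IsDPMorphism δ (algebraMap A C) →
        ∀ ψ : B →ₐ[A] C, J.map ψ ≤ K →
          ∃! χ : D →+* C, χ.comp (algebraMap B D) = ψ ∧ γD.IsDPMorphism δ χ := by
  classical
  obtain ⟨δp, hδp⟩ := exists_dp xx hx0 hxmul b hb
  have hmemJ : ∀ a ∈ I, algebraMap A B a ∈ J := fun a ha => hIJ (Ideal.mem_map_of_mem _ ha)
  have hx1 : ∀ j, xx j 1 ∈ aug xx := fun j => Ideal.subset_span ⟨j, 1, le_rfl, rfl⟩
  -- the admissible ideals
  let 𝒮 : Set (Ideal F) := {K |
    (∀ j : ↥J, xx j 1 - algebraMap B F j ∈ K) ∧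
    (∀ (a : A) (ha : a ∈ I) (n : ℕ), 1 ≤ n →
      xx ⟨algebraMap A B a, hmemJ a ha⟩ n - algebraMap B F (algebraMap A B (γ.dpow n a)) ∈ K) ∧
    δp.IsSubDPIdeal (K ⊓ aug xx)}
  have h𝒦 : sInf 𝒮 ∈ 𝒮 := by
    refine ⟨fun j => ?_, fun a ha n hn => ?_, ⟨inf_le_right, fun n hn y hy => ⟨?_, ?_⟩⟩⟩
    · exact Ideal.mem_sInf.mpr (fun K hK => hK.1 j)
    · exact Ideal.mem_sInf.mpr (fun K hK => hK.2.1 a ha n hn)
    · refine Ideal.mem_sInf.mpr (fun K hK => ?_)
      exact (hK.2.2.dpow_mem n hn ⟨Ideal.mem_sInf.mp hy.1 hK, hy.2⟩).1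
    · exact δp.dpow_mem hn hy.2
  obtain ⟨𝒦, ⟨h1, h2, h3⟩, hle⟩ : ∃ 𝒦, 𝒦 ∈ 𝒮 ∧ ∀ K ∈ 𝒮, 𝒦 ≤ K :=
    ⟨sInf 𝒮, h𝒦, fun K hK => sInf_le hK⟩
  have hmk : ∀ {y : F}, y ∈ aug xx → ∀ n, (DividedPowers.Quotient.dividedPowers δp h3).dpow n
      (Ideal.Quotient.mk 𝒦 y) = Ideal.Quotient.mk 𝒦 (δp.dpow n y) :=
    fun hy n => DividedPowers.Quotient.dpow_apply δp h3 hy
  have hxj : ∀ j : ↥J, Ideal.Quotient.mk 𝒦 (algebraMap B F j) = Ideal.Quotient.mk 𝒦 (xx j 1) := by
    intro j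
    rw [eq_comm, Ideal.Quotient.eq]
    exact h1 j
  refine ⟨F ⧸ 𝒦, inferInstance, inferInstance, (aug xx).map (Ideal.Quotient.mk 𝒦),
    DividedPowers.Quotient.dividedPowers δp h3, ?_, ⟨?_, ?_⟩, ?_⟩
  · -- J D ⊆ JD
    rw [Ideal.map_le_iff_le_comap]
    intro j hj
    rw [Ideal.mem_comap]
    show Ideal.Quotient.mk 𝒦 (algebraMap B F j) ∈ _
    rw [hxj ⟨j, hj⟩]
    exact Ideal.mem_map_of_mem _ (hx1 _)
  · rw [Ideal.map_le_iff_le_comap]
    intro a ha
    rw [Ideal.mem_comap]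
    show Ideal.Quotient.mk 𝒦 (algebraMap B F (algebraMap A B a)) ∈ _
    rw [hxj ⟨_, hmemJ a ha⟩]
    exact Ideal.mem_map_of_mem _ (hx1 _)
  · intro n a ha
    show (DividedPowers.Quotient.dividedPowers δp h3).dpow n
      (Ideal.Quotient.mk 𝒦 (algebraMap B F (algebraMap A B a)))
      = Ideal.Quotient.mk 𝒦 (algebraMap B F (algebraMap A B (γ.dpow n a)))
    rw [hxj ⟨_, hmemJ a ha⟩, hmk (hx1 _), hδp]
    by_cases hn : n = 0
    · subst hn
      rw [hx0, γ.dpow_zero ha]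
      simp only [map_one]
    · rw [Ideal.Quotient.eq]
      exact h2 a ha n (Nat.one_le_iff_ne_zero.mpr hn)
  · -- the universal property
    intro C _ _ K δ hC ψ hψ
    letI : Algebra B C := ψ.toRingHom.toAlgebra
    have hk : ∀ j : ↥J, ψ (j : B) ∈ K := fun j => hψ (Ideal.mem_map_of_mem _ j.2)
    have hχ₀dp := liftDP_isDPMorphism xx hx0 hxmul b hb δ (fun j : ↥J => ψ (j : B)) hk δp hδp
    have hχ₀x := liftDP_x xx hx0 hxmul b hb δ (fun j : ↥J => ψ (j : B)) hk
    have hχ₀alg : ∀ y : B, liftDP xx hx0 hxmul b hb δ (fun j : ↥J => ψ (j : B)) hk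
        (algebraMap B F y) = ψ y := fun y => AlgHom.commutes _ y
    generalize liftDP xx hx0 hxmul b hb δ (fun j : ↥J => ψ (j : B)) hk = χ₀ at hχ₀dp hχ₀x hχ₀alg
    have hψA : ∀ a : A, ψ (algebraMap A B a) = algebraMap A C a := fun a => ψ.commutes a
    -- the kernel of `χ₀` is admissible
    have hker : 𝒦 ≤ RingHom.ker χ₀.toRingHom := by
      have hmem : RingHom.ker χ₀.toRingHom ∈ 𝒮 := by
        refine ⟨fun j => ?_, fun a ha n hn => ?_, DividedPowers.isSubDPIdeal_ker δp δ hχ₀dp⟩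
        · rw [RingHom.mem_ker]
          show χ₀ (xx j 1 - algebraMap B F j) = 0
          rw [map_sub, hχ₀x, hχ₀alg, δ.dpow_one (hk j), sub_self]
        · rw [RingHom.mem_ker]
          show χ₀ (xx ⟨algebraMap A B a, hmemJ a ha⟩ n
            - algebraMap B F (algebraMap A B (γ.dpow n a))) = 0
          rw [map_sub, hχ₀x, hχ₀alg, hψA, hψA, hC.dpow_comp a ha, sub_self]
      exact hle _ hmem
    have hlift : ∀ a ∈ 𝒦, χ₀.toRingHom a = 0 := fun a ha => hker ha
    have hχmk : ∀ y : F, Ideal.Quotient.lift 𝒦 χ₀.toRingHom hlift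
        (Ideal.Quotient.mk 𝒦 y) = χ₀ y := fun y => Ideal.Quotient.lift_mk _ _ _
    refine ⟨Ideal.Quotient.lift 𝒦 χ₀.toRingHom hlift, ⟨?_, ⟨?_, ?_⟩⟩, ?_⟩
    · ext y
      show Ideal.Quotient.lift 𝒦 χ₀.toRingHom hlift (Ideal.Quotient.mk 𝒦 (algebraMap B F y)) = ψ y
      rw [hχmk, hχ₀alg]
    · rw [Ideal.map_map]
      have : (Ideal.Quotient.lift 𝒦 χ₀.toRingHom hlift).comp
          (Ideal.Quotient.mk 𝒦) = χ₀.toRingHom := by
        ext y; exact hχmk y
      rw [this]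
      exact hχ₀dp.ideal_comp
    · intro n d hd
      obtain ⟨y, hy, rfl⟩ := (Ideal.mem_map_iff_of_surjective _ Ideal.Quotient.mk_surjective).mp hd
      rw [hmk hy, hχmk, hχmk]
      exact hχ₀dp.dpow_comp y hy
    · rintro χ' ⟨hχ'1, hχ'2⟩
      apply Ideal.Quotient.ringHom_ext
      have hχ'alg : ∀ y : B, χ' (Ideal.Quotient.mk 𝒦 (algebraMap B F y)) = ψ y := by
        intro y
        have := RingHom.congr_fun hχ'1 y
        exact this
      let φ' : F →ₐ[B] C :=
        { toRingHom := χ'.comp (Ideal.Quotient.mk 𝒦)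
          commutes' := fun y => hχ'alg y }
      have hφ' : φ' = χ₀ := by
        refine algHom_ext_x xx b hb (fun j n => ?_)
        show χ' (Ideal.Quotient.mk 𝒦 (xx j n)) = χ₀ (xx j n)
        rw [hχ₀x, ← hδp j n, ← hmk (hx1 j), ← hxj j,
          ← hχ'2.dpow_comp _ (by rw [hxj j]; exact Ideal.mem_map_of_mem _ (hx1 j)), hχ'alg]
      ext y
      show χ' (Ideal.Quotient.mk 𝒦 y) = Ideal.Quotient.lift 𝒦 χ₀.toRingHom hlift (Ideal.Quotient.mk 𝒦 y)
      rw [hχmk, ← hφ']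
      rfl

/-- Let (A, I) be a ring with a divided power structure on I, B an A-algebra and J an ideal of B
containing I B. Then there is a divided power ring (D, J') with a ring map B -> D carrying J into J'
whose composite with A -> B is a homomorphism of divided power rings, universal for such data: for
every divided power ring (C, K) with a divided power homomorphism A -> C and every A-algebra map B
-> C carrying J into K there is exactly one divided power homomorphism D -> C compatible with the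
maps from B. -/
theorem result {A B : Type u} [CommRing A] [CommRing B] [Algebra A B] {I : Ideal A}
    (γ : DividedPowers I) (J : Ideal B) (hIJ : I.map (algebraMap A B) ≤ J) :
    ∃ (D : Type u) (_ : CommRing D) (_ : Algebra B D) (JD : Ideal D) (γD : DividedPowers JD),
      J.map (algebraMap B D) ≤ JD ∧
      γ.IsDPMorphism γD ((algebraMap B D).comp (algebraMap A B)) ∧
      ∀ (C : Type u) [CommRing C] [Algebra A C] (K : Ideal C) (δ : DividedPowers K),
        γ.IsDPMorphism δ (algebraMap A C) →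
        ∀ ψ : B →ₐ[A] C, J.map ψ ≤ K →
          ∃! χ : D →+* C, χ.comp (algebraMap B D) = ψ ∧ γD.IsDPMorphism δ χ := by
  obtain ⟨S₀, π₀, -⟩ := exists_subring_surjective B
  letI : Algebra S₀ B := π₀.toAlgebra
  have h0 := xBC_zero (S := S₀) (xS (σ := ↥J) S₀) (xS_zero S₀) B
  have h1 := xBC_mul (S := S₀) (xS (σ := ↥J) S₀) (xS_mul S₀) B
  have h2 := bBC_eq_prod (S := S₀) (xS (σ := ↥J) S₀) (basisS S₀) (basisS_eq_prod S₀) B
  generalize hxx : xBC S₀ (xS (σ := ↥J) S₀) B = xx at h0 h1 h2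
  generalize hbb : bBC (basisS (σ := ↥J) S₀) B = bb at h2
  exact of_presentation γ J hIJ (B ⊗[S₀] model ↥J S₀) xx h0 h1 bb h2

end Groth.Agent.S2194
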