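import Groth.Statements.S2196
import Mathlib.RingTheory.Kaehler.Basic
import Mathlib.RingTheory.Support
import Mathlib.LinearAlgebra.Matrix.Charpoly.LinearMap

set_option autoImplicit false
universe u v
open Disc

namespace Groth.Agent.S2196

open TensorProduct

variable {A : Type u} {B : Type v} [CommRing A] [CommRing B] [Algebra A B]

theorem lmul'_surj : Function.Surjective (Algebra.TensorProduct.lmul' (S := B) A) := by
  intro b
  exact ⟨b ⊗ₜ[A] 1, by simp⟩

theorem fromIdeal_eq_zero (j : KaehlerDifferential.ideal A B) :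
    KaehlerDifferential.fromIdeal A B j = 0 ↔
      (j : B ⊗[A] B) ∈ (KaehlerDifferential.ideal A B) ^ 2 :=
  Ideal.toCotangent_eq_zero _ j

theorem smul_fromIdeal (b : B) (j : KaehlerDifferential.ideal A B) :
    b • KaehlerDifferential.fromIdeal A B j =
      KaehlerDifferential.fromIdeal A B ((b ⊗ₜ[A] (1 : B)) • j) := by
  rw [map_smul]
  have : b ⊗ₜ[A] (1 : B) = b • (1 : B ⊗[A] B) := by
    rw [Algebra.TensorProduct.one_def, TensorProduct.smul_tmul', smul_eq_mul, mul_one]
  rw [this, smul_one_smul]

theorem different_le_annihilator :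
    Disc.noetherDifferent A B ≤ Module.annihilator B (Ω[B⁄A]) := by
  intro b hb
  unfold Disc.noetherDifferent at hb
  rw [Ideal.mem_map_iff_of_surjective _ lmul'_surj] at hb
  obtain ⟨τ, hτ, rfl⟩ := hb
  rw [Module.mem_annihilator]
  intro ω
  obtain ⟨j, rfl⟩ := KaehlerDifferential.fromIdeal_surjective A B ω
  rw [smul_fromIdeal, fromIdeal_eq_zero, pow_two]
  have hτj : τ * (j : B ⊗[A] B) = 0 := by
    have := (Submodule.mem_annihilator.mp hτ) (j : B ⊗[A] B) j.2
    simpa using this
  have hmem : ((Algebra.TensorProduct.lmul' (S := B) A) τ ⊗ₜ[A] (1 : B)) - τ ∈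
      KaehlerDifferential.ideal A B := by
    simp [KaehlerDifferential.ideal, RingHom.mem_ker]
  have : ((((Algebra.TensorProduct.lmul' (S := B) A) τ ⊗ₜ[A] (1 : B)) • j : KaehlerDifferential.ideal A B) : B ⊗[A] B)
      = (((Algebra.TensorProduct.lmul' (S := B) A) τ ⊗ₜ[A] (1 : B)) - τ) * (j : B ⊗[A] B) := by
    rw [sub_mul, hτj, sub_zero]
    rfl
  rw [this]
  exact Ideal.mul_mem_mul hmem j.2

theorem exists_pow_mem_different [Algebra.FiniteType A B] (b : B)
    (hb : b ∈ Module.annihilator B (Ω[B⁄A])) : ∃ n : ℕ, b ^ n ∈ Disc.noetherDifferent A B := by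
  have hfin : Module.Finite (B ⊗[A] B) (KaehlerDifferential.ideal A B) :=
    Module.Finite.iff_fg.mpr (KaehlerDifferential.ideal_fg A B)
  set f : Module.End (B ⊗[A] B) (KaehlerDifferential.ideal A B) :=
    algebraMap (B ⊗[A] B) (Module.End (B ⊗[A] B) (KaehlerDifferential.ideal A B))
      (b ⊗ₜ[A] (1 : B)) with hf
  have hrange : LinearMap.range f ≤ (KaehlerDifferential.ideal A B) •
      (⊤ : Submodule (B ⊗[A] B) (KaehlerDifferential.ideal A B)) := by
    rintro _ ⟨j, rfl⟩
    have h0 : KaehlerDifferential.fromIdeal A B ((b ⊗ₜ[A] (1 : B)) • j) = 0 := by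
      rw [← smul_fromIdeal]
      exact Module.mem_annihilator.mp hb _
    have : f j = (b ⊗ₜ[A] (1 : B)) • j := by
      rw [hf, Module.algebraMap_end_apply]
    rw [this]
    exact (Submodule.Quotient.mk_eq_zero _).mp h0
  obtain ⟨p, hmonic, -, hcoeff, hp⟩ :=
    LinearMap.exists_monic_and_natDegree_eq_and_coeff_mem_pow_and_aeval_eq_zero
      (B ⊗[A] B) f (KaehlerDifferential.ideal A B) hrange
  refine ⟨p.natDegree, ?_⟩
  rw [hf, Polynomial.aeval_algebraMap_apply] at hp
  set τ : B ⊗[A] B := Polynomial.aeval (b ⊗ₜ[A] (1 : B)) p with hτ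
  have hτann : τ ∈ Submodule.annihilator (RingHom.ker (Algebra.TensorProduct.lmul' (S := B) A)) := by
    rw [Submodule.mem_annihilator]
    intro j hj
    have := LinearMap.congr_fun hp ⟨j, hj⟩
    rw [Module.algebraMap_end_apply] at this
    exact congrArg Subtype.val this
  have hμτ : (Algebra.TensorProduct.lmul' (S := B) A) τ = b ^ p.natDegree := by
    rw [hτ, Polynomial.aeval_eq_sum_range, map_sum, Finset.sum_range_succ]
    rw [Finset.sum_eq_zero, zero_add]
    · have : p.coeff p.natDegree = 1 := hmonic
      rw [this]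
      simp
    · intro k hk
      have hk' : k < p.natDegree := Finset.mem_range.mp hk
      have h1 := hcoeff k
      have h2 : (KaehlerDifferential.ideal A B) ^ (p.natDegree - k) ≤
          KaehlerDifferential.ideal A B := Ideal.pow_le_self (by omega)
      have h3 := h2 h1
      have h4 : (Algebra.TensorProduct.lmul' (S := B) A) (p.coeff k) = 0 := h3
      simp [h4]
  unfold Disc.noetherDifferent
  rw [← hμτ]
  exact Ideal.mem_map_of_mem _ hτann

/-- Let A -> B be a ring map of finite type and D its Noether different (the image in B of the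
annihilator of the kernel of B tensor_A B -> B). Then a prime q of B contains D exactly when A -> B
is not unramified at q. -/
theorem result {A : Type u} {B : Type v}
    [CommRing A] [CommRing B] [Algebra A B] [Algebra.FiniteType A B] :
    {q : PrimeSpectrum B | Disc.noetherDifferent A B ≤ q.asIdeal} =
      (Algebra.unramifiedLocus A B)ᶜ := by
  rw [Algebra.unramifiedLocus_eq_compl_support, compl_compl, Module.support_eq_zeroLocus]
  ext q
  simp only [Set.mem_ofPred_eq, PrimeSpectrum.mem_zeroLocus, SetLike.coe_subset_coe]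
  constructor
  · intro h b hb
    obtain ⟨n, hn⟩ := exists_pow_mem_different b hb
    exact q.2.mem_of_pow_mem n (h hn)
  · intro h
    exact different_le_annihilator.trans h

end Groth.Agent.S2196
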