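import Groth.Statements.S3822
-- import your own Groth.Agent.* helpers here
import Groth.Agent.S3820
import Mathlib.RingTheory.Finiteness.Descent
import Mathlib.RingTheory.Flat.EquationalCriterion
import Mathlib.RingTheory.Flat.FaithfullyFlat.Algebra
import Mathlib.RingTheory.Flat.Tensor
import Mathlib.RingTheory.Kaehler.TensorProduct

set_option autoImplicit false
universe u
open scoped TensorProduct
open PP16

namespace Groth.Agent.S3822

open Groth.Agent.S3817 Groth.Agent.S3816 Groth.Agent.S3819 Groth.Agent.S3820

noncomputable section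

/-! Descent of finite projective modules along faithfully flat maps
(same argument as in `Groth.Agent.Lib.Azumaya16Descent`, reproduced here to keep imports light). -/
section ffdescent
universe v w
variable (R : Type u) [CommRing R] (S : Type v) [CommRing S] [Algebra R S] [Module.FaithfullyFlat R S]
  (M : Type w) [AddCommGroup M] [Module R M]

theorem flat_of_flat_baseChange [Module.Flat S (S ⊗[R] M)] : Module.Flat R M := by
  have hflat : Module.Flat R (S ⊗[R] M) := Module.Flat.trans R S (S ⊗[R] M)
  rw [Module.Flat.iff_rTensor_injective']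
  intro I
  rw [← Module.FaithfullyFlat.lTensor_injective_iff_injective R S]
  have h1 : Function.Injective (LinearMap.rTensor (S ⊗[R] M) I.subtype) :=
    Module.Flat.rTensor_preserves_injective_linearMap _ (Submodule.subtype_injective _)
  have h2 : (LinearMap.rTensor M I.subtype).lTensor S =
      (TensorProduct.leftComm R S R M).symm.toLinearMap ∘ₗ
        (LinearMap.rTensor (S ⊗[R] M) I.subtype) ∘ₗ (TensorProduct.leftComm R S I M).toLinearMap := by
    apply TensorProduct.ext'
    intro s x
    induction x using TensorProduct.induction_on with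
    | zero => simp
    | add x y hx hy => simp only [TensorProduct.tmul_add, map_add, hx, hy]
    | tmul i m => simp
  rw [h2]
  simpa using h1

theorem finitePresentation_of_baseChange [Module.FinitePresentation S (S ⊗[R] M)] :
    Module.FinitePresentation R M := by
  have hfin : Module.Finite R M := Module.Finite.of_finite_tensorProduct_of_faithfullyFlat S
  obtain ⟨n, f, hf⟩ := Module.Finite.exists_fin' R M
  have hker : (LinearMap.ker (f.baseChange S)).FG :=
    Module.FinitePresentation.fg_ker (f.baseChange S) (LinearMap.lTensor_surjective S hf)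
  have hexact : Function.Exact (LinearMap.ker f).subtype f := LinearMap.exact_subtype_ker_map f
  have hexact' : Function.Exact ((LinearMap.ker f).subtype.baseChange S) (f.baseChange S) :=
    Module.Flat.lTensor_exact S hexact
  have hinj : Function.Injective ((LinearMap.ker f).subtype.baseChange S) :=
    Module.Flat.lTensor_preserves_injective_linearMap _ (Submodule.subtype_injective _)
  have hrange : LinearMap.range ((LinearMap.ker f).subtype.baseChange S) =
      LinearMap.ker (f.baseChange S) := hexact'.linearMap_ker_eq.symm
  have hfinS : Module.Finite S (S ⊗[R] LinearMap.ker f) := by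
    have hfk : Module.Finite S (LinearMap.ker (f.baseChange S)) := Module.Finite.iff_fg.2 hker
    let e : (S ⊗[R] LinearMap.ker f) ≃ₗ[S] LinearMap.ker (f.baseChange S) :=
      (LinearEquiv.ofInjective _ hinj).trans (LinearEquiv.ofEq _ _ hrange)
    exact Module.Finite.equiv e.symm
  have hfinK : Module.Finite R (LinearMap.ker f) :=
    Module.Finite.of_finite_tensorProduct_of_faithfullyFlat S
  exact Module.finitePresentation_of_surjective f hf (Module.Finite.iff_fg.1 hfinK)

theorem finite_projective_of_baseChange [Module.Finite S (S ⊗[R] M)]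
    [Module.Projective S (S ⊗[R] M)] :
    Module.Finite R M ∧ Module.Projective R M := by
  have h1 : Module.FinitePresentation S (S ⊗[R] M) := Module.finitePresentation_of_projective S _
  have h2 : Module.FinitePresentation R M := finitePresentation_of_baseChange R S M
  have h3 : Module.Flat R M := flat_of_flat_baseChange R S M
  exact ⟨inferInstance, Module.Flat.projective_of_finitePresentation⟩

end ffdescent

section setup
variable (A B A' B' : Type u) [CommRing A] [CommRing B] [Algebra A B]
    [CommRing A'] [CommRing B'] [Algebra A' B'] [Algebra A A'] [Algebra B B'] [Algebra A B']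
    [IsScalarTower A A' B'] [IsScalarTower A B B'] [Algebra.IsPushout A B A' B']

lemma ff_B_B' [Module.FaithfullyFlat A A'] : Module.FaithfullyFlat B B' :=
  Module.FaithfullyFlat.of_linearEquiv B (B ⊗[A] A')
    ((Algebra.IsPushout.equiv A B A' B').symm.toLinearEquiv)

/-- `Ω' ≅ B' ⊗ Ω`. -/
def kEquiv : B' ⊗[B] KaehlerDifferential A B ≃ₗ[B'] KaehlerDifferential A' B' :=
  haveI : Algebra.IsPushout A A' B B' := Algebra.IsPushout.symm inferInstance
  KaehlerDifferential.tensorKaehlerEquiv A A' B B'

lemma kEquiv_tmul_D (b' : B') (b : B) :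
    kEquiv A B A' B' (b' ⊗ₜ KaehlerDifferential.D A B b) =
      b' • KaehlerDifferential.D A' B' (algebraMap B B' b) := by
  have : Algebra.IsPushout A A' B B' := Algebra.IsPushout.symm inferInstance
  exact KaehlerDifferential.tensorKaehlerEquiv_tmul_D A A' B B' b' b

lemma finite_projective [Module.FaithfullyFlat A A']
    (hP : Module.Projective B' (KaehlerDifferential A' B'))
    (hfin : Module.Finite B' (KaehlerDifferential A' B')) :
    Module.Finite B (KaehlerDifferential A B) ∧ Module.Projective B (KaehlerDifferential A B) := by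
  have := ff_B_B' A B A' B'
  have : Module.Finite B' (B' ⊗[B] KaehlerDifferential A B) :=
    Module.Finite.equiv (kEquiv A B A' B').symm
  have : Module.Projective B' (B' ⊗[B] KaehlerDifferential A B) :=
    Module.Projective.of_equiv (kEquiv A B A' B').symm
  exact finite_projective_of_baseChange B B' (KaehlerDifferential A B)

end setup

section main
variable {A B A' B' : Type u} [CommRing A] [CommRing B] [Algebra A B]
    [CommRing A'] [CommRing B'] [Algebra A' B'] [Algebra A A'] [Algebra B B'] [Algebra A B']
    [IsScalarTower A A' B'] [IsScalarTower A B B'] [Algebra.IsPushout A B A' B']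

variable (A B B') in
/-- base change of polynomials. -/
def fP : MvPolynomial (KaehlerDifferential A B) B →ₐ[B] MvPolynomial (KaehlerDifferential A B) B' :=
  MvPolynomial.mapAlgHom (Algebra.ofId B B')

lemma fP_apply (p : MvPolynomial (KaehlerDifferential A B) B) :
    fP A B B' p = MvPolynomial.map (algebraMap B B') p := rfl

lemma fP_injective (hf : Function.Injective (algebraMap B B')) :
    Function.Injective (fP A B B') := by
  intro p q hpq
  rw [fP_apply, fP_apply] at hpq
  exact MvPolynomial.map_injective _ hf hpq

variable (σ : KaehlerDifferential A B →ₗ[B] (KaehlerDifferential A B →₀ B))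

variable (A') in
/-- the base-changed linear form. -/
def L' : KaehlerDifferential A' B' →ₗ[B'] MvPolynomial (KaehlerDifferential A B) B' :=
  (LinearMap.liftBaseChange B' ((fP A B B').toLinearMap ∘ₗ ell σ)) ∘ₗ
    (kEquiv A B A' B').symm.toLinearMap

lemma L'_D (b : B) :
    L' A' σ (KaehlerDifferential.D A' B' (algebraMap B B' b)) =
      fP A B B' (ell σ (KaehlerDifferential.D A B b)) := by
  have h1 : (kEquiv A B A' B').symm (KaehlerDifferential.D A' B' (algebraMap B B' b)) =
      (1 : B') ⊗ₜ[B] KaehlerDifferential.D A B b := by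
    rw [LinearEquiv.symm_apply_eq, kEquiv_tmul_D, one_smul]
  unfold L'
  rw [LinearMap.comp_apply, LinearEquiv.coe_coe, h1, LinearMap.liftBaseChange_tmul, one_smul]
  rfl

variable (ι' : Type u) [Fintype ι']

variable (A') in
/-- product of base-changed linear forms. -/
def Psi'M : MultilinearMap B' (fun _ : ι' => KaehlerDifferential A' B')
    (MvPolynomial (KaehlerDifferential A B) B') :=
  (MultilinearMap.mkPiAlgebra B' ι' (MvPolynomial (KaehlerDifferential A B) B')).compLinearMap
    (fun _ => L' A' σ)

lemma Psi'M_apply (ω : ι' → KaehlerDifferential A' B') :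
    Psi'M A' σ ι' ω = ∏ j, L' A' σ (ω j) := by
  unfold Psi'M
  rw [MultilinearMap.compLinearMap_apply, MultilinearMap.mkPiAlgebra_apply]

lemma Psi'M_symm (e : Equiv.Perm ι') (ω : ι' → KaehlerDifferential A' B') :
    Psi'M A' σ ι' (fun j => ω (e j)) = Psi'M A' σ ι' ω := by
  rw [Psi'M_apply, Psi'M_apply]
  exact Equiv.prod_comp e (fun j => L' A' σ (ω j))

variable (A') in
/-- the induced map on the symmetric power. -/
def Psi' : SymmetricPower B' ι' (KaehlerDifferential A' B') →ₗ[B']
    MvPolynomial (KaehlerDifferential A B) B' :=
  symLift (Psi'M A' σ ι') (Psi'M_symm σ ι')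

lemma Psi'_tprod (ω : ι' → KaehlerDifferential A' B') :
    Psi' A' σ ι' (SymmetricPower.tprod B' ω) = ∏ j, L' A' σ (ω j) := by
  unfold Psi'
  rw [symLift_tprod, Psi'M_apply]

omit [CommRing A'] [CommRing B'] [Algebra A' B'] [Algebra A A'] [Algebra B B'] [Algebra A B']
  [IsScalarTower A A' B'] [IsScalarTower A B B'] [Algebra.IsPushout A B A' B'] in
lemma sym_span_D (X : SymmetricPower B ι' (KaehlerDifferential A B)) :
    X ∈ Submodule.span B (Set.range fun b : ι' → B =>
      SymmetricPower.tprod B (fun j => KaehlerDifferential.D A B (b j))) := by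
  classical
  have hX : X ∈ Submodule.span B (Set.range (SymmetricPower.tprod B (ι := ι')
      (M := KaehlerDifferential A B))) := by
    rw [SymmetricPower.span_tprod_eq_top]; trivial
  refine Submodule.span_le.mpr ?_ hX
  rintro _ ⟨ω, rfl⟩
  have hω : ∀ j, ∃ c : B →₀ B, (c.sum fun b a => a • KaehlerDifferential.D A B b) = ω j := by
    intro j
    apply Finsupp.mem_span_range_iff_exists_finsupp.mp
    rw [KaehlerDifferential.span_range_derivation]
    trivial
  choose c hc using hω
  have h1 : ω = fun j => ∑ b ∈ (c j).support, (c j b) • KaehlerDifferential.D A B b := by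
    funext j
    rw [← hc j]
    rfl
  rw [h1, MultilinearMap.map_sum_finset]
  apply Submodule.sum_mem
  intro f _
  rw [MultilinearMap.map_smul_univ]
  exact Submodule.smul_mem _ _ (Submodule.subset_span ⟨f, rfl⟩)

end main

section inj
variable {A B A' B' : Type u} [CommRing A] [CommRing B] [Algebra A B]
    [CommRing A'] [CommRing B'] [Algebra A' B'] [Algebra A A'] [Algebra B B'] [Algebra A B']
    [IsScalarTower A A' B'] [IsScalarTower A B B'] [Algebra.IsPushout A B A' B']
variable (s : KaehlerDifferential A B →ₗ[B] ↥(KaehlerDifferential.ideal A B))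
  (hs : ∀ ω, KaehlerDifferential.fromIdeal A B (s ω) = ω)
variable (σ : KaehlerDifferential A B →ₗ[B] (KaehlerDifferential A B →₀ B))
  (hσ : ∀ p, Finsupp.linearCombination B id (σ p) = p)
variable (ι' : Type u) [Fintype ι']
variable (φ' : SymmetricPower B' ι' (KaehlerDifferential A' B') →ₗ[B']
    PP16.grI A' B' (Fintype.card ι'))
  (hφ' : ∀ b' : ι' → B', φ' (SymmetricPower.tprod B'
    (fun i => KaehlerDifferential.D A' B' (b' i))) = PP16.zetaProd A' B' b')
  (hφ'inj : Function.Injective φ')
  (hf : Function.Injective (algebraMap B B'))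

include hs hσ hφ' hφ'inj hf in
lemma phi_inj_descent : Function.Injective (phi s ι') := by
  classical
  rw [injective_iff_map_eq_zero]
  intro X hX
  obtain ⟨c, hc⟩ := Finsupp.mem_span_range_iff_exists_finsupp.mp (sym_span_D ι' X)
  rw [Finsupp.sum] at hc
  -- (1)
  have h1 : ∑ b ∈ c.support, c b • ∏ j, zeta A B (b j) ∈
      (KaehlerDifferential.ideal A B) ^ (Fintype.card ι' + 1) := by
    have hφ : phi s ι' X = cls A B (Fintype.card ι')
        (∑ b ∈ c.support, c b • ⟨∏ j, zeta A B (b j), prod_zeta_mem A B ι' b⟩) := by
      rw [← hc, map_sum, map_sum]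
      apply Finset.sum_congr rfl
      intro b _
      rw [map_smul, map_smul, phi_D s ι' hs b, zetaProd_eq_cls]
    rw [hφ, ← map_zero (cls A B (Fintype.card ι')), cls_eq_iff, Submodule.coe_sum] at hX
    simpa using hX
  -- (2)
  have h2 : ∑ b ∈ c.support, algebraMap B B' (c b) • ∏ j, zeta A' B' (algebraMap B B' (b j)) ∈
      (KaehlerDifferential.ideal A' B') ^ (Fintype.card ι' + 1) := by
    have hmap : PP16.tensorMap A B A' B' (∑ b ∈ c.support, c b • ∏ j, zeta A B (b j)) =
        ∑ b ∈ c.support, algebraMap B B' (c b) • ∏ j, zeta A' B' (algebraMap B B' (b j)) := by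
      rw [map_sum]
      apply Finset.sum_congr rfl
      intro b _
      rw [Algebra.smul_def, map_mul, map_prod, Algebra.smul_def]
      congr 1
      · rw [Algebra.TensorProduct.algebraMap_apply, PP16.tensorMap_tmul, map_one,
          Algebra.TensorProduct.algebraMap_apply]
        rfl
      · apply Finset.prod_congr rfl
        intro j _
        unfold zeta
        rw [map_sub, PP16.tensorMap_tmul, PP16.tensorMap_tmul, map_one]
    rw [← hmap]
    have hle := Ideal.pow_right_mono (PP16.ideal_map_tensorMap_le A B A' B') (Fintype.card ι' + 1)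
    rw [← Ideal.map_pow] at hle
    exact hle (Ideal.mem_map_of_mem _ h1)
  -- (3)
  have h3 : ∑ b ∈ c.support, algebraMap B B' (c b) • SymmetricPower.tprod B'
      (fun j => KaehlerDifferential.D A' B' (algebraMap B B' (b j))) = 0 := by
    apply hφ'inj
    rw [map_zero]
    have h31 : φ' (∑ b ∈ c.support, algebraMap B B' (c b) • SymmetricPower.tprod B'
        (fun j => KaehlerDifferential.D A' B' (algebraMap B B' (b j)))) =
        cls A' B' (Fintype.card ι') (∑ b ∈ c.support, algebraMap B B' (c b) •
          ⟨∏ j, zeta A' B' (algebraMap B B' (b j)),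
            prod_zeta_mem A' B' ι' (fun j => algebraMap B B' (b j))⟩) := by
      rw [map_sum, map_sum]
      apply Finset.sum_congr rfl
      intro b _
      rw [map_smul, map_smul, hφ', zetaProd_eq_cls]
    rw [h31, ← map_zero (cls A' B' (Fintype.card ι')), cls_eq_iff, Submodule.coe_sum]
    simpa using h2
  -- (4)
  have h4 : fP A B B' (∑ b ∈ c.support, c b •
      PsiM ι' σ (fun j => KaehlerDifferential.D A B (b j))) = 0 := by
    have h41 := congrArg (Psi' A' σ ι') h3
    rw [map_zero] at h41
    rw [← h41, map_sum, map_sum]
    apply Finset.sum_congr rfl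
    intro b _
    rw [map_smul, map_smul, Psi'_tprod, PsiM_apply, algebraMap_smul, map_prod]
    congr 1
    apply Finset.prod_congr rfl
    intro j _
    rw [L'_D]
  -- (5)
  have h5 := fP_injective hf (h4.trans (map_zero _).symm)
  have h6 : ∑ b ∈ c.support, c b • SymmetricPower.tprod B
      (fun j => KaehlerDifferential.D A B (b j)) =
      retr ι' (∑ b ∈ c.support, c b • PsiM ι' σ (fun j => KaehlerDifferential.D A B (b j))) := by
    rw [map_sum]
    apply Finset.sum_congr rfl
    intro b _
    rw [map_smul, retr_PsiM ι' σ hσ]
  rw [← hc, h6, h5, map_zero]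

end inj

end

/-- Let B be an A-algebra, A → A' a faithfully flat ring map and B' = B ⊗_A A'. If B' is differentially
smooth over A' and its module of differentials is finitely generated, then B is differentially
smooth over A and its module of differentials is finitely generated. -/
theorem result (A B A' B' : Type u) [CommRing A] [CommRing B] [Algebra A B]
    [CommRing A'] [CommRing B'] [Algebra A' B'] [Algebra A A'] [Algebra B B'] [Algebra A B']
    [IsScalarTower A A' B'] [IsScalarTower A B B'] [Algebra.IsPushout A B A' B'] [Module.FaithfullyFlat A A']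
    (h : PP16.IsDiffSmooth A' B') (hfin : Module.Finite B' (KaehlerDifferential A' B')) :
    PP16.IsDiffSmooth A B ∧ Module.Finite B (KaehlerDifferential A B) := by
  obtain ⟨hP', hφ'⟩ := h
  obtain ⟨hfinB, hprojB⟩ := finite_projective A B A' B' hP' hfin
  have hff := ff_B_B' A B A' B'
  have hf : Function.Injective (algebraMap B B') := FaithfulSMul.algebraMap_injective B B'
  obtain ⟨s, hs⟩ := exists_sec A B
  obtain ⟨σ, hσ⟩ := Module.projective_def'.mp hprojB
  refine ⟨⟨hprojB, fun ι' _ => ?_⟩, hfinB⟩
  obtain ⟨φ', hφ'1, hφ'2⟩ := hφ' ι'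
  exact ⟨phi s ι', fun b => phi_D s ι' hs b,
    phi_inj_descent s hs σ (fun p => LinearMap.congr_fun hσ p) ι' φ' hφ'1 hφ'2.1 hf,
    phi_surj s hs ι'⟩

end Groth.Agent.S3822
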