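import Groth.Statements.S3821
-- import your own Groth.Agent.* helpers here
import Groth.Agent.S3822

set_option autoImplicit false
universe u
open scoped TensorProduct
open PP16

namespace Groth.Agent.S3821

open Groth.Agent.S3817 Groth.Agent.S3816 Groth.Agent.S3819 Groth.Agent.S3820 Groth.Agent.S3822

noncomputable section

section symproj
variable {B : Type u} [CommRing B] {P : Type u} [AddCommGroup P] [Module B P]
variable (ι' : Type u) [Fintype ι']
variable (σ : P →ₗ[B] (P →₀ B)) (hσ : ∀ p, Finsupp.linearCombination B id (σ p) = p)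

lemma PsiM_symm (e : Equiv.Perm ι') (ω : ι' → P) :
    PsiM ι' σ (fun j => ω (e j)) = PsiM ι' σ ω := by
  rw [PsiM_apply, PsiM_apply]
  exact Equiv.prod_comp e (fun j => ell σ (ω j))

/-- the embedding of the symmetric power into the polynomial ring. -/
def Psi : SymmetricPower B ι' P →ₗ[B] MvPolynomial P B :=
  symLift (PsiM ι' σ) (PsiM_symm ι' σ)

lemma Psi_tprod (ω : ι' → P) : Psi ι' σ (SymmetricPower.tprod B ω) = PsiM ι' σ ω :=
  symLift_tprod _ _ ω

include hσ in
lemma retr_Psi (X : SymmetricPower B ι' P) : retr ι' (Psi ι' σ X) = X := by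
  have hX : X ∈ Submodule.span B (Set.range (SymmetricPower.tprod B (ι := ι') (M := P))) := by
    rw [SymmetricPower.span_tprod_eq_top]; trivial
  induction hX using Submodule.span_induction with
  | mem Y h =>
    obtain ⟨ω, rfl⟩ := h
    rw [Psi_tprod, retr_PsiM ι' σ hσ]
  | zero => simp
  | add x y _ _ hx hy => rw [map_add, map_add, hx, hy]
  | smul a x _ hx => rw [map_smul, map_smul, hx]

lemma sym_projective [Module.Projective B P] : Module.Projective B (SymmetricPower B ι' P) := by
  obtain ⟨σ, hσ⟩ := Module.projective_def'.mp (inferInstance : Module.Projective B P)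
  exact Module.Projective.of_split (Psi ι' σ) (retr ι')
    (LinearMap.ext fun X => retr_Psi ι' σ (fun p => LinearMap.congr_fun hσ p) X)

end symproj

section retraction
variable (A B : Type u) [CommRing A] [CommRing B] [Algebra A B]

lemma exists_retr (n : ℕ)
    (hsec : ∀ k < n, ∃ u : PP16.grI A B k →ₗ[B]
      ↥(((KaehlerDifferential.ideal A B) ^ k).restrictScalars B), ∀ g, cls A B k (u g) = g) :
    ∃ r : B ⊗[A] B →ₗ[B] B ⊗[A] B,
      (∀ t, r t ∈ ((KaehlerDifferential.ideal A B) ^ n).restrictScalars B) ∧
      (∀ t ∈ (KaehlerDifferential.ideal A B) ^ n, r t = t) := by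
  induction n with
  | zero =>
    refine ⟨LinearMap.id, fun t => ?_, fun t _ => rfl⟩
    rw [Submodule.restrictScalars_mem, pow_zero, Ideal.one_eq_top]
    trivial
  | succ n ih =>
    obtain ⟨r, hr1, hr2⟩ := ih (fun k hk => hsec k (Nat.lt_succ_of_lt hk))
    obtain ⟨u, hu⟩ := hsec n (Nat.lt_succ_self n)
    let rc : B ⊗[A] B →ₗ[B] ↥(((KaehlerDifferential.ideal A B) ^ n).restrictScalars B) :=
      r.codRestrict _ hr1
    let r' : B ⊗[A] B →ₗ[B] B ⊗[A] B :=
      r - (Submodule.subtype _).comp (u.comp ((cls A B n).comp rc))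
    refine ⟨r', fun t => ?_, fun t ht => ?_⟩
    · have h1 : cls A B n (rc t) = cls A B n (u (cls A B n (rc t))) := (hu _).symm
      rw [cls_eq_iff] at h1
      exact h1
    · have htn : t ∈ (KaehlerDifferential.ideal A B) ^ n :=
        Ideal.pow_le_pow_right (Nat.le_succ n) ht
      have h1 : cls A B n (rc t) = 0 := by
        rw [← map_zero (cls A B n), cls_eq_iff]
        change r t - 0 ∈ _
        rw [hr2 t htn, sub_zero]
        exact ht
      change r t - ((u (cls A B n (rc t)) :
        ↥(((KaehlerDifferential.ideal A B) ^ n).restrictScalars B)) : B ⊗[A] B) = t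
      rw [h1, map_zero, hr2 t htn]
      simp

end retraction

section Qn
variable {A B : Type u} [CommRing A] [CommRing B] [Algebra A B]

lemma exists_sec_cls (h : PP16.IsDiffSmooth A B) (k : ℕ) :
    ∃ u : PP16.grI A B k →ₗ[B] ↥(((KaehlerDifferential.ideal A B) ^ k).restrictScalars B),
      ∀ g, cls A B k (u g) = g := by
  obtain ⟨hP, hφ⟩ := h
  have key : ∀ (ι : Type u) [Fintype ι], Fintype.card ι = k →
      ∃ u : PP16.grI A B k →ₗ[B] ↥(((KaehlerDifferential.ideal A B) ^ k).restrictScalars B),
        ∀ g, cls A B k (u g) = g := by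
    intro ι _ hk
    subst hk
    obtain ⟨φ, _, hφb⟩ := hφ ι
    have : Module.Projective B (SymmetricPower B ι (KaehlerDifferential A B)) :=
      sym_projective ι
    have : Module.Projective B (PP16.grI A B (Fintype.card ι)) :=
      Module.Projective.of_equiv (LinearEquiv.ofBijective φ hφb)
    obtain ⟨u, hu⟩ := Module.projective_lifting_property (cls A B (Fintype.card ι)) LinearMap.id
      (Submodule.mkQ_surjective _)
    exact ⟨u, fun g => LinearMap.congr_fun hu g⟩
  exact key (ULift (Fin k)) (by simp)

lemma exists_Q (h : PP16.IsDiffSmooth A B) (n : ℕ) :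
    ∃ Q : B ⊗[A] B →ₗ[B] PP16.grI A B n,
      ∀ (t : B ⊗[A] B) (ht : t ∈ ((KaehlerDifferential.ideal A B) ^ n).restrictScalars B),
        Q t = cls A B n ⟨t, ht⟩ := by
  obtain ⟨r, hr1, hr2⟩ := exists_retr A B n (fun k _ => exists_sec_cls h k)
  refine ⟨(cls A B n).comp (r.codRestrict _ hr1), fun t ht => ?_⟩
  rw [LinearMap.comp_apply]
  congr 1
  apply Subtype.ext
  exact hr2 t ht

end Qn

section baseChange
variable (A B A' B' : Type u) [CommRing A] [CommRing B] [Algebra A B]
    [CommRing A'] [CommRing B'] [Algebra A' B'] [Algebra A A'] [Algebra B B'] [Algebra A B']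
    [IsScalarTower A A' B'] [IsScalarTower A B B'] [Algebra.IsPushout A B A' B']

/-- `B' ⊗_B (B ⊗_A B) ≃ B' ⊗_{A'} B'`. -/
def eT : B' ⊗[B] (B ⊗[A] B) ≃ₗ[B'] B' ⊗[A'] B' :=
  haveI : Algebra.IsPushout A A' B B' := Algebra.IsPushout.symm inferInstance
  (TensorProduct.AlgebraTensorModule.cancelBaseChange A B B' B' B) ≪≫ₗ
    (TensorProduct.AlgebraTensorModule.cancelBaseChange A A' B' B' B).symm ≪≫ₗ
    (TensorProduct.AlgebraTensorModule.congr (LinearEquiv.refl B' B')
      (Algebra.IsPushout.equiv A A' B B').toLinearEquiv)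

lemma eT_tmul (c' : B') (t : B ⊗[A] B) :
    eT A B A' B' (c' ⊗ₜ t) = c' • PP16.tensorMap A B A' B' t := by
  have : Algebra.IsPushout A A' B B' := Algebra.IsPushout.symm inferInstance
  induction t using TensorProduct.induction_on with
  | zero => simp
  | tmul b d =>
    unfold eT
    rw [LinearEquiv.trans_apply, LinearEquiv.trans_apply,
      TensorProduct.AlgebraTensorModule.cancelBaseChange_tmul,
      TensorProduct.AlgebraTensorModule.cancelBaseChange_symm_tmul,
      TensorProduct.AlgebraTensorModule.congr_tmul, PP16.tensorMap_tmul]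
    simp only [LinearEquiv.refl_apply, AlgEquiv.toLinearEquiv_apply,
      Algebra.IsPushout.equiv_tmul, map_one, one_mul]
    rw [TensorProduct.smul_tmul', Algebra.smul_def, smul_eq_mul, mul_comm]
  | add x y hx hy => rw [TensorProduct.tmul_add, map_add, map_add, smul_add, hx, hy]

end baseChange

section idealW
variable (A B A' B' : Type u) [CommRing A] [CommRing B] [Algebra A B]
    [CommRing A'] [CommRing B'] [Algebra A' B'] [Algebra A A'] [Algebra B B'] [Algebra A B']
    [IsScalarTower A A' B'] [IsScalarTower A B B'] [Algebra.IsPushout A B A' B']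

/-- the `B'`-span of the image of an ideal of `B ⊗ B`. -/
def W (J : Ideal (B ⊗[A] B)) : Submodule B' (B' ⊗[A'] B') :=
  Submodule.span B' ((PP16.tensorMap A B A' B') '' (J : Set (B ⊗[A] B)))

lemma mul_mem_W (J : Ideal (B ⊗[A] B)) (t' x : B' ⊗[A'] B') (hx : x ∈ W A B A' B' J) :
    t' * x ∈ W A B A' B' J := by
  obtain ⟨y, rfl⟩ := (eT A B A' B').surjective t'
  induction y using TensorProduct.induction_on with
  | zero => rw [map_zero, zero_mul]; exact zero_mem _
  | add y z hy hz => rw [map_add, add_mul]; exact add_mem hy hz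
  | tmul c' s =>
    rw [eT_tmul]
    unfold W at hx ⊢
    induction hx using Submodule.span_induction with
    | mem x h =>
      obtain ⟨t, ht, rfl⟩ := h
      rw [smul_mul_assoc, ← map_mul]
      exact Submodule.smul_mem _ _ (Submodule.subset_span ⟨s * t, J.mul_mem_left s ht, rfl⟩)
    | zero => rw [mul_zero]; exact zero_mem _
    | add x y _ _ hx hy => rw [mul_add]; exact add_mem hx hy
    | smul c x _ hx => rw [mul_smul_comm]; exact Submodule.smul_mem _ _ hx

lemma map_le_W (J : Ideal (B ⊗[A] B)) (x : B' ⊗[A'] B')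
    (hx : x ∈ Ideal.map (PP16.tensorMap A B A' B') J) : x ∈ W A B A' B' J := by
  unfold Ideal.map at hx
  induction hx using Submodule.span_induction with
  | mem x h => exact Submodule.subset_span h
  | zero => exact zero_mem _
  | add x y _ _ hx hy => exact add_mem hx hy
  | smul c x _ hx => rw [smul_eq_mul]; exact mul_mem_W A B A' B' J c x hx

lemma zeta'_mem (b' : B') :
    zeta A' B' b' ∈ Ideal.map (PP16.tensorMap A B A' B') (KaehlerDifferential.ideal A B) := by
  obtain ⟨y, rfl⟩ := (Algebra.IsPushout.equiv A B A' B').surjective b'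
  induction y using TensorProduct.induction_on with
  | zero =>
    rw [map_zero]
    unfold zeta
    simp
  | add y z hy hz =>
    rw [map_add]
    have : zeta A' B' ((Algebra.IsPushout.equiv A B A' B') y + (Algebra.IsPushout.equiv A B A' B') z) =
        zeta A' B' ((Algebra.IsPushout.equiv A B A' B') y) +
          zeta A' B' ((Algebra.IsPushout.equiv A B A' B') z) := by
      unfold zeta
      rw [TensorProduct.tmul_add, TensorProduct.add_tmul]
      ring
    rw [this]
    exact Ideal.add_mem _ hy hz
  | tmul b a' =>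
    rw [Algebra.IsPushout.equiv_tmul]
    have h1 : zeta A' B' (algebraMap B B' b * algebraMap A' B' a') =
        (algebraMap A' B' a' ⊗ₜ[A'] (1 : B')) * PP16.tensorMap A B A' B' (zeta A B b) := by
      unfold zeta
      rw [map_sub, PP16.tensorMap_tmul, PP16.tensorMap_tmul, map_one, mul_sub,
        Algebra.TensorProduct.tmul_mul_tmul, Algebra.TensorProduct.tmul_mul_tmul, mul_one, one_mul,
        mul_one, mul_comm (algebraMap B B' b)]
      congr 1
      rw [Algebra.algebraMap_eq_smul_one, smul_mul_assoc, one_mul, TensorProduct.tmul_smul,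
        TensorProduct.smul_tmul']
    rw [h1]
    exact Ideal.mul_mem_left _ _ (Ideal.mem_map_of_mem _ (zeta_mem A B b))

lemma pow_le_W (m : ℕ) (x : B' ⊗[A'] B') (hx : x ∈ (KaehlerDifferential.ideal A' B') ^ m) :
    x ∈ W A B A' B' ((KaehlerDifferential.ideal A B) ^ m) := by
  apply map_le_W
  have h1 : KaehlerDifferential.ideal A' B' ≤
      Ideal.map (PP16.tensorMap A B A' B') (KaehlerDifferential.ideal A B) := by
    rw [← KaehlerDifferential.span_range_eq_ideal, Ideal.span_le]
    rintro _ ⟨b', rfl⟩
    exact zeta'_mem A B A' B' b'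
  have h2 := Ideal.pow_right_mono h1 m
  rw [← Ideal.map_pow] at h2
  exact h2 hx

end idealW

section kappa
variable (A B A' B' : Type u) [CommRing A] [CommRing B] [Algebra A B]
    [CommRing A'] [CommRing B'] [Algebra A' B'] [Algebra A A'] [Algebra B B'] [Algebra A B']
    [IsScalarTower A A' B'] [IsScalarTower A B B'] [Algebra.IsPushout A B A' B']
variable (ι' : Type u) [Fintype ι']

/-- `B`-module structure on the symmetric power over `B'`, through `B → B'`. -/
@[reducible] def symModule : Module B (SymmetricPower B' ι' (KaehlerDifferential A' B')) :=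
  Module.compHom _ (algebraMap B B')

attribute [local instance] symModule

lemma symTower : IsScalarTower B B' (SymmetricPower B' ι' (KaehlerDifferential A' B')) :=
  IsScalarTower.of_algebraMap_smul (fun _ _ => rfl)

attribute [local instance] symTower

/-- the multilinear map `ω ↦ ∏ κ(ω_j)`. -/
def kappaM : MultilinearMap B (fun _ : ι' => KaehlerDifferential A B)
    (SymmetricPower B' ι' (KaehlerDifferential A' B')) :=
  ((SymmetricPower.tprod B' (ι := ι') (M := KaehlerDifferential A' B')).restrictScalars B).compLinearMap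
    (fun _ => KaehlerDifferential.map A A' B B')

lemma kappaM_apply (ω : ι' → KaehlerDifferential A B) :
    kappaM A B A' B' ι' ω =
      SymmetricPower.tprod B' (fun j => KaehlerDifferential.map A A' B B' (ω j)) := rfl

lemma kappaM_symm (e : Equiv.Perm ι') (ω : ι' → KaehlerDifferential A B) :
    kappaM A B A' B' ι' (fun j => ω (e j)) = kappaM A B A' B' ι' ω := by
  rw [kappaM_apply, kappaM_apply]
  exact SymmetricPower.tprod_equiv e (fun j => KaehlerDifferential.map A A' B B' (ω j))

/-- the induced map on symmetric powers. -/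
def kappaN : SymmetricPower B ι' (KaehlerDifferential A B) →ₗ[B]
    SymmetricPower B' ι' (KaehlerDifferential A' B') :=
  symLift (kappaM A B A' B' ι') (kappaM_symm A B A' B' ι')

lemma kappaN_tprod_D (b : ι' → B) :
    kappaN A B A' B' ι' (SymmetricPower.tprod B (fun j => KaehlerDifferential.D A B (b j))) =
      SymmetricPower.tprod B' (fun j => KaehlerDifferential.D A' B' (algebraMap B B' (b j))) := by
  unfold kappaN
  rw [symLift_tprod, kappaM_apply]
  congr 1
  funext j
  rw [KaehlerDifferential.map_D]

variable {A B}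
variable (φ : SymmetricPower B ι' (KaehlerDifferential A B) →ₗ[B] PP16.grI A B (Fintype.card ι'))
  (hφ : ∀ b : ι' → B, φ (SymmetricPower.tprod B (fun i => KaehlerDifferential.D A B (b i))) =
    PP16.zetaProd A B b)
  (hφb : Function.Bijective φ)

/-- the comparison map `B' ⊗ gr^n → Sym^n Ω'`. -/
def beta : B' ⊗[B] PP16.grI A B (Fintype.card ι') →ₗ[B']
    SymmetricPower B' ι' (KaehlerDifferential A' B') :=
  LinearMap.liftBaseChange B'
    ((kappaN A B A' B' ι').comp (LinearEquiv.ofBijective φ hφb).symm.toLinearMap)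

include hφ in
lemma beta_tmul (c' : B') (b : ι' → B) :
    beta A' B' ι' φ hφb (c' ⊗ₜ cls A B (Fintype.card ι')
      ⟨∏ j, zeta A B (b j), prod_zeta_mem A B ι' b⟩) =
      c' • SymmetricPower.tprod B'
        (fun j => KaehlerDifferential.D A' B' (algebraMap B B' (b j))) := by
  unfold beta
  rw [LinearMap.liftBaseChange_tmul, LinearMap.comp_apply, LinearEquiv.coe_coe,
    ← zetaProd_eq_cls, ← hφ b]
  have : (LinearEquiv.ofBijective φ hφb).symm
      (φ (SymmetricPower.tprod B (fun i => KaehlerDifferential.D A B (b i)))) =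
      SymmetricPower.tprod B (fun i => KaehlerDifferential.D A B (b i)) :=
    (LinearEquiv.ofBijective φ hφb).symm_apply_apply _
  rw [this, kappaN_tprod_D]

end kappa

section spanD
variable (A B A' B' : Type u) [CommRing A] [CommRing B] [Algebra A B]
    [CommRing A'] [CommRing B'] [Algebra A' B'] [Algebra A A'] [Algebra B B'] [Algebra A B']
    [IsScalarTower A A' B'] [IsScalarTower A B B']
variable (ι' : Type u) [Fintype ι']

lemma span_D' [Algebra.IsPushout A B A' B'] : Submodule.span B' (Set.range fun b : B =>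
    KaehlerDifferential.D A' B' (algebraMap B B' b)) = ⊤ := by
  rw [eq_top_iff, ← KaehlerDifferential.span_range_derivation, Submodule.span_le]
  rintro _ ⟨b', rfl⟩
  obtain ⟨y, rfl⟩ := (Algebra.IsPushout.equiv A B A' B').surjective b'
  induction y using TensorProduct.induction_on with
  | zero => rw [map_zero, map_zero]; exact zero_mem _
  | add y z hy hz => rw [map_add, map_add]; exact add_mem hy hz
  | tmul b a' =>
    rw [Algebra.IsPushout.equiv_tmul, Derivation.leibniz, Derivation.map_algebraMap, smul_zero,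
      zero_add]
    exact Submodule.smul_mem _ _ (Submodule.subset_span ⟨b, rfl⟩)

lemma sym_span_D' [Algebra.IsPushout A B A' B']
    (X : SymmetricPower B' ι' (KaehlerDifferential A' B')) :
    X ∈ Submodule.span B' (Set.range fun b : ι' → B =>
      SymmetricPower.tprod B' (fun j => KaehlerDifferential.D A' B' (algebraMap B B' (b j)))) := by
  classical
  have hX : X ∈ Submodule.span B' (Set.range (SymmetricPower.tprod B' (ι := ι')
      (M := KaehlerDifferential A' B'))) := by
    rw [SymmetricPower.span_tprod_eq_top]; trivial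
  refine Submodule.span_le.mpr ?_ hX
  rintro _ ⟨ω, rfl⟩
  have hω : ∀ j, ∃ c : B →₀ B',
      (c.sum fun b a => a • KaehlerDifferential.D A' B' (algebraMap B B' b)) = ω j := by
    intro j
    apply Finsupp.mem_span_range_iff_exists_finsupp.mp
    rw [span_D' A B A' B']
    trivial
  choose c hc using hω
  have h1 : ω = fun j => ∑ b ∈ (c j).support,
      (c j b) • KaehlerDifferential.D A' B' (algebraMap B B' b) := by
    funext j
    rw [← hc j]
    rfl
  rw [h1, MultilinearMap.map_sum_finset]
  apply Submodule.sum_mem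
  intro f _
  rw [MultilinearMap.map_smul_univ]
  exact Submodule.smul_mem _ _ (Submodule.subset_span ⟨f, rfl⟩)

end spanD

section main
variable {A B A' B' : Type u} [CommRing A] [CommRing B] [Algebra A B]
    [CommRing A'] [CommRing B'] [Algebra A' B'] [Algebra A A'] [Algebra B B'] [Algebra A B']
    [IsScalarTower A A' B'] [IsScalarTower A B B'] [Algebra.IsPushout A B A' B']
variable (ι' : Type u) [Fintype ι']

variable (s' : KaehlerDifferential A' B' →ₗ[B'] ↥(KaehlerDifferential.ideal A' B'))
  (hs' : ∀ ω, KaehlerDifferential.fromIdeal A' B' (s' ω) = ω)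

include hs' in
lemma phi_inj_bc (h : PP16.IsDiffSmooth A B) : Function.Injective (phi s' ι') := by
  classical
  obtain ⟨φ, hφ, hφb⟩ := h.2 ι'
  obtain ⟨Q, hQ⟩ := exists_Q h (Fintype.card ι')
  rw [injective_iff_map_eq_zero]
  intro X hX
  obtain ⟨c, hc⟩ := Finsupp.mem_span_range_iff_exists_finsupp.mp (sym_span_D' A B A' B' ι' X)
  rw [Finsupp.sum] at hc
  -- (1)
  have h1 : ∑ b ∈ c.support, c b • ∏ j, zeta A' B' (algebraMap B B' (b j)) ∈
      (KaehlerDifferential.ideal A' B') ^ (Fintype.card ι' + 1) := by
    have hφ' : phi s' ι' X = cls A' B' (Fintype.card ι')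
        (∑ b ∈ c.support, c b • ⟨∏ j, zeta A' B' (algebraMap B B' (b j)),
          prod_zeta_mem A' B' ι' (fun j => algebraMap B B' (b j))⟩) := by
      rw [← hc, map_sum, map_sum]
      apply Finset.sum_congr rfl
      intro b _
      rw [map_smul, map_smul, phi_D s' ι' hs' (fun j => algebraMap B B' (b j)), zetaProd_eq_cls]
    rw [hφ', ← map_zero (cls A' B' (Fintype.card ι')), cls_eq_iff, Submodule.coe_sum] at hX
    simpa using hX
  -- (2)
  have hz : ∀ b : ι' → B, ∏ j, zeta A' B' (algebraMap B B' (b j)) =
      PP16.tensorMap A B A' B' (∏ j, zeta A B (b j)) := by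
    intro b
    rw [map_prod]
    apply Finset.prod_congr rfl
    intro j _
    unfold zeta
    rw [map_sub, PP16.tensorMap_tmul, PP16.tensorMap_tmul, map_one]
  have h2 := pow_le_W A B A' B' _ _ h1
  -- Q'
  let Q' : B' ⊗[A'] B' →ₗ[B'] B' ⊗[B] PP16.grI A B (Fintype.card ι') :=
    (Q.baseChange B').comp (eT A B A' B').symm.toLinearMap
  have hQ' : ∀ (c' : B') (t : B ⊗[A] B),
      Q' (c' • PP16.tensorMap A B A' B' t) = c' ⊗ₜ Q t := by
    intro c' t
    simp only [Q', LinearMap.comp_apply, LinearEquiv.coe_coe]
    rw [← eT_tmul, LinearEquiv.symm_apply_apply, LinearMap.baseChange_tmul]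
  have hkill : ∀ x ∈ W A B A' B' ((KaehlerDifferential.ideal A B) ^ (Fintype.card ι' + 1)),
      Q' x = 0 := by
    intro x hx
    unfold W at hx
    induction hx using Submodule.span_induction with
    | mem x h =>
      obtain ⟨t, ht, rfl⟩ := h
      have htn : t ∈ ((KaehlerDifferential.ideal A B) ^ (Fintype.card ι')).restrictScalars B :=
        Ideal.pow_le_pow_right (Nat.le_succ _) ht
      have h0 : Q t = 0 := by
        rw [hQ t htn, ← map_zero (cls A B (Fintype.card ι')), cls_eq_iff]
        simpa using ht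
      have := hQ' 1 t
      rw [one_smul] at this
      rw [this, h0, TensorProduct.tmul_zero]
    | zero => exact map_zero _
    | add x y _ _ hx hy => rw [map_add, hx, hy, add_zero]
    | smul c x _ hx => rw [map_smul, hx, smul_zero]
  have h3 : ∑ b ∈ c.support, c b ⊗ₜ[B] cls A B (Fintype.card ι')
      ⟨∏ j, zeta A B (b j), prod_zeta_mem A B ι' b⟩ = 0 := by
    have h31 := hkill _ h2
    rw [map_sum] at h31
    rw [← h31]
    apply Finset.sum_congr rfl
    intro b _
    rw [hz b, hQ', hQ _ (prod_zeta_mem A B ι' b)]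
  have h4 := congrArg (beta A' B' ι' φ hφb) h3
  rw [map_sum, map_zero] at h4
  rw [← hc, ← h4]
  apply Finset.sum_congr rfl
  intro b _
  rw [beta_tmul A' B' ι' φ hφ hφb]

end main

end

/-- Let B be an A-algebra, A → A' a ring map and B' = B ⊗_A A'. If B is differentially smooth over A,
then B' is differentially smooth over A'. -/
theorem result (A B A' B' : Type u) [CommRing A] [CommRing B] [Algebra A B]
    [CommRing A'] [CommRing B'] [Algebra A' B'] [Algebra A A'] [Algebra B B'] [Algebra A B']
    [IsScalarTower A A' B'] [IsScalarTower A B B'] [Algebra.IsPushout A B A' B']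
    (h : PP16.IsDiffSmooth A B) : PP16.IsDiffSmooth A' B' := by
  have hP : Module.Projective B (KaehlerDifferential A B) := h.1
  have hP' : Module.Projective B' (KaehlerDifferential A' B') :=
    Module.Projective.of_equiv (kEquiv A B A' B')
  obtain ⟨s', hs'⟩ := exists_sec A' B'
  exact ⟨hP', fun ι' _ => ⟨phi s' ι', fun b => phi_D s' ι' hs' b,
    phi_inj_bc ι' s' hs' h, phi_surj s' hs' ι'⟩⟩

end Groth.Agent.S3821
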