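import Groth.Statements.S2197
-- import your own Groth.Agent.* helpers here
import Groth.Agent.S3821
import Mathlib

set_option autoImplicit false
set_option linter.style.haveILetI false
universe u
open Disc

namespace Groth.Agent.S2197

open scoped TensorProduct
open Groth.Agent.S3821 Groth.Agent.S3817

section
variable (A B A' B' : Type u) [CommRing A] [CommRing B]
    [CommRing A'] [CommRing B'] [Algebra A B] [Algebra A A'] [Algebra A B'] [Algebra B B']
    [Algebra A' B'] [IsScalarTower A B B'] [IsScalarTower A A' B']
    [Algebra.IsPushout A B A' B']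

lemma ideal_eq : KaehlerDifferential.ideal A' B' =
    Ideal.map (PP16.tensorMap A B A' B') (KaehlerDifferential.ideal A B) := by
  apply le_antisymm
  · rw [← KaehlerDifferential.span_range_eq_ideal, Ideal.span_le]
    rintro _ ⟨b', rfl⟩
    exact zeta'_mem A B A' B' b'
  · exact PP16.ideal_map_tensorMap_le A B A' B'

lemma tensorMap_smul (b : B) (t : B ⊗[A] B) :
    PP16.tensorMap A B A' B' (b • t) = b • PP16.tensorMap A B A' B' t := by
  induction t using TensorProduct.induction_on with
  | zero => simp
  | tmul c d =>
    rw [TensorProduct.smul_tmul', PP16.tensorMap_tmul, PP16.tensorMap_tmul, smul_eq_mul, map_mul,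
      ← smul_eq_mul, ← TensorProduct.smul_tmul', algebraMap_smul]
  | add x y hx hy => rw [smul_add, map_add, map_add, hx, hy, smul_add]

/-- the structure of `T`-algebra on `T'`. -/
@[instance_reducible]
def algT : Algebra (B ⊗[A] B) (B' ⊗[A'] B') := (PP16.tensorMap A B A' B').toRingHom.toAlgebra

lemma flat_T [Module.Flat A A'] :
    @Module.Flat (B ⊗[A] B) (B' ⊗[A'] B') _ _ (algT A B A' B').toModule := by
  letI := algT A B A' B'
  have hsm : ∀ (t : B ⊗[A] B) (x : B' ⊗[A'] B'), t • x = PP16.tensorMap A B A' B' t * x :=
    fun t x => rfl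
  haveI : Module.Flat B B' :=
    Module.Flat.of_linearEquiv (Algebra.IsPushout.equiv A B A' B').toLinearEquiv.symm
  haveI : IsScalarTower B (B ⊗[A] B) (B' ⊗[A'] B') := ⟨fun b t x => by
    rw [hsm, hsm, tensorMap_smul, smul_mul_assoc]⟩
  -- the T-linear map
  let f : (B ⊗[A] B) ⊗[B] B' →ₗ[B ⊗[A] B] B' ⊗[A'] B' :=
    TensorProduct.AlgebraTensorModule.lift
      { toFun := fun t =>
          { toFun := fun c' => c' • PP16.tensorMap A B A' B' t
            map_add' := fun c d => add_smul c d _
            map_smul' := fun b c' => by
              simp only [RingHom.id_apply]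
              rw [smul_assoc] }
        map_add' := fun s t => by
          ext c'
          simp [smul_add]
        map_smul' := fun s t => by
          ext c'
          simp only [RingHom.id_apply, LinearMap.coe_mk, AddHom.coe_mk, LinearMap.smul_apply]
          rw [smul_eq_mul, map_mul, hsm, mul_smul_comm] }
  have hf : ∀ x, f x = eT A B A' B' (TensorProduct.comm B _ _ x) := by
    intro x
    induction x using TensorProduct.induction_on with
    | zero => simp
    | tmul t c' =>
      rw [TensorProduct.comm_tmul, eT_tmul]
      simp only [f, TensorProduct.AlgebraTensorModule.lift_tmul, LinearMap.coe_mk, AddHom.coe_mk]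
    | add x y hx hy => rw [map_add, map_add, map_add, hx, hy]
  have hbij : Function.Bijective f := by
    have : (f : _ → _) = (eT A B A' B') ∘ (TensorProduct.comm B _ _) := funext hf
    rw [this]
    exact (eT A B A' B').bijective.comp (TensorProduct.comm B _ _).bijective
  exact Module.Flat.of_linearEquiv (LinearEquiv.ofBijective f hbij).symm

lemma ann_eq [Module.Flat A A'] [Algebra.FiniteType A B] :
    Submodule.annihilator (KaehlerDifferential.ideal A' B') =
      Ideal.map (PP16.tensorMap A B A' B') (Submodule.annihilator (KaehlerDifferential.ideal A B)) := by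
  classical
  letI := algT A B A' B'
  have hsm : ∀ (t : B ⊗[A] B) (x : B' ⊗[A'] B'), t • x = PP16.tensorMap A B A' B' t * x :=
    fun t x => rfl
  haveI : Module.Flat (B ⊗[A] B) (B' ⊗[A'] B') := flat_T A B A' B'
  apply le_antisymm
  · intro t' ht'
    obtain ⟨S, hS⟩ := KaehlerDifferential.ideal_fg A B
    -- the maps
    let f : (S → B ⊗[A] B) →ₗ[B ⊗[A] B] (B ⊗[A] B) :=
      Fintype.linearCombination (B ⊗[A] B) (fun i : S => (i : B ⊗[A] B))
    let x : (B ⊗[A] B) →ₗ[B ⊗[A] B] (B' ⊗[A'] B') := LinearMap.toSpanSingleton _ _ t'
    have hmemS : ∀ i : S, (i : B ⊗[A] B) ∈ KaehlerDifferential.ideal A B := by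
      intro i
      rw [← hS]
      exact Ideal.subset_span i.2
    have hxf : x ∘ₗ f = 0 := by
      apply LinearMap.pi_ext'
      intro i
      ext
      simp only [LinearMap.coe_comp, LinearMap.coe_single, Function.comp_apply, LinearMap.zero_apply,
        f, x, Fintype.linearCombination_apply_single, LinearMap.toSpanSingleton_apply, one_smul]
      rw [hsm, mul_comm]
      have h1 : PP16.tensorMap A B A' B' (i : B ⊗[A] B) ∈ KaehlerDifferential.ideal A' B' :=
        PP16.ideal_map_tensorMap_le A B A' B' (Ideal.mem_map_of_mem _ (hmemS i))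
      have h2 := (Submodule.mem_annihilator.mp ht') _ h1
      rwa [smul_eq_mul] at h2
    obtain ⟨k, a, y, hya, haf⟩ := Module.Flat.exists_factorization_of_comp_eq_zero_of_free hxf
    have ht1 : t' = ∑ j : Fin k, PP16.tensorMap A B A' B' (a 1 j) * y (Finsupp.single j 1) := by
      have h1 : t' = x 1 := by simp [x]
      rw [h1, hya, LinearMap.comp_apply]
      conv_lhs => rw [← Finsupp.sum_single (a 1), Finsupp.sum_fintype _ _ (fun _ => by simp)]
      rw [map_sum]
      apply Finset.sum_congr rfl
      intro j _
      rw [← hsm, ← map_smul, Finsupp.smul_single, smul_eq_mul, mul_one]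
    have hann : ∀ j : Fin k, a 1 j ∈ Submodule.annihilator (KaehlerDifferential.ideal A B) := by
      intro j
      rw [Submodule.mem_annihilator]
      intro n hn
      rw [← hS] at hn
      induction hn using Submodule.span_induction with
      | mem z hz =>
        have h1 := congrArg (fun g => g (Pi.single (⟨z, hz⟩ : S) 1)) haf
        simp only [LinearMap.comp_apply, LinearMap.zero_apply, f,
          Fintype.linearCombination_apply_single, one_smul] at h1
        have h2 := DFunLike.congr_fun h1 j
        rw [Finsupp.zero_apply] at h2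
        have h3 : a z = z • a 1 := by
          conv_lhs => rw [← mul_one z, ← smul_eq_mul, map_smul]
        rw [h3, Finsupp.smul_apply, smul_eq_mul] at h2
        rw [smul_eq_mul, mul_comm]
        exact h2
      | zero => rw [smul_zero]
      | add u v _ _ hu hv => rw [smul_add, hu, hv, add_zero]
      | smul c u _ hu => rw [smul_eq_mul, smul_eq_mul, mul_left_comm, ← smul_eq_mul (a 1 j), hu, mul_zero]
    rw [ht1]
    apply Ideal.sum_mem
    intro j _
    exact Ideal.mul_mem_right _ _ (Ideal.mem_map_of_mem _ (hann j))
  · rw [Ideal.map_le_iff_le_comap]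
    intro s hs
    rw [Ideal.mem_comap, Submodule.mem_annihilator]
    intro n hn
    rw [ideal_eq A B A' B'] at hn
    unfold Ideal.map at hn
    induction hn using Submodule.span_induction with
    | mem z hz =>
      obtain ⟨w, hw, rfl⟩ := hz
      rw [smul_eq_mul, ← map_mul]
      have := (Submodule.mem_annihilator.mp hs) w hw
      rw [smul_eq_mul] at this
      rw [this, map_zero]
    | zero => rw [smul_zero]
    | add u v _ _ hu hv => rw [smul_add, hu, hv, add_zero]
    | smul c u _ hu =>
      rw [smul_eq_mul, smul_eq_mul, mul_left_comm, ← smul_eq_mul (PP16.tensorMap A B A' B' s), hu,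
        mul_zero]

end

/-- Part (2): let A -> B be a ring map of finite type and A -> A' a flat ring map, and let B' = B
tensor_A A'. Then the Noether different of B' over A' is the extension to B' of the Noether
different of B over A. -/
theorem result {A B A' B' : Type u} [CommRing A] [CommRing B]
    [CommRing A'] [CommRing B'] [Algebra A B] [Algebra A A'] [Algebra A B'] [Algebra B B']
    [Algebra A' B'] [IsScalarTower A B B'] [IsScalarTower A A' B']
    [Algebra.IsPushout A B A' B'] [Algebra.FiniteType A B] [Module.Flat A A'] :
    Disc.noetherDifferent A' B' = (Disc.noetherDifferent A B).map (algebraMap B B') := by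
  unfold Disc.noetherDifferent
  have h1 := ann_eq A B A' B'
  have h2 : ∀ t : B ⊗[A] B, (Algebra.TensorProduct.lmul' (S := B') A')
      (PP16.tensorMap A B A' B' t) = algebraMap B B' (Algebra.TensorProduct.lmul' (S := B) A t) := by
    intro t
    induction t using TensorProduct.induction_on with
    | zero => simp
    | tmul c d => simp [PP16.tensorMap_tmul]
    | add x y hx hy => rw [map_add, map_add, map_add, map_add, hx, hy]
  change Ideal.map (Algebra.TensorProduct.lmul' (S := B') A')
      (Submodule.annihilator (KaehlerDifferential.ideal A' B')) =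
    Ideal.map (algebraMap B B') (Ideal.map (Algebra.TensorProduct.lmul' (S := B) A)
      (Submodule.annihilator (KaehlerDifferential.ideal A B)))
  rw [h1]
  apply le_antisymm
  · rw [Ideal.map_le_iff_le_comap, Ideal.map_le_iff_le_comap]
    intro s hs
    rw [Ideal.mem_comap, Ideal.mem_comap, h2]
    exact Ideal.mem_map_of_mem _ (Ideal.mem_map_of_mem _ hs)
  · rw [Ideal.map_le_iff_le_comap, Ideal.map_le_iff_le_comap]
    intro s hs
    rw [Ideal.mem_comap, Ideal.mem_comap, ← h2]
    exact Ideal.mem_map_of_mem _ (Ideal.mem_map_of_mem _ hs)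

end Groth.Agent.S2197
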