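import Groth.Statements.S2203
import Mathlib.CategoryTheory.Center.Localization
import Mathlib.CategoryTheory.Center.Linear
import Mathlib.Algebra.Category.ModuleCat.Basic
import Mathlib.Algebra.Category.ModuleCat.Biproducts
import Mathlib.CategoryTheory.Linear.Basic

set_option autoImplicit false
universe u
open CategoryTheory
open QCohCat

namespace Groth.Agent.S2203

/-- The center of the category of modules over a commutative ring is the ring. -/
theorem toCatCenter_bijective (A : Type u) [CommRing A] :
    Function.Bijective (Linear.toCatCenter A (ModuleCat.{u} A)) := by
  constructor
  · intro a b hab
    have h1 := congrArg (fun z : CatCenter (ModuleCat.{u} A) => (z.app (ModuleCat.of A A)).hom (1 : A)) hab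
    simpa using h1
  · intro z
    refine ⟨(z.app (ModuleCat.of A A)).hom (1 : A), ?_⟩
    ext M m
    have hnat := z.naturality (ModuleCat.ofHom (LinearMap.toSpanSingleton A M m))
    have h2 := congrArg (fun f => f.hom (1 : A)) hnat
    simp only [ModuleCat.hom_comp, LinearMap.comp_apply, ModuleCat.hom_ofHom,
      LinearMap.toSpanSingleton_apply, one_smul] at h2
    simp only [Linear.toCatCenter_apply_app, ModuleCat.hom_smul, ModuleCat.hom_id,
      LinearMap.smul_apply, LinearMap.id_apply]
    exact h2.symm

theorem center_bijective {C D : Type*} [Category C] [Category D] [Preadditive C] [Preadditive D]
    (e : C ≌ D) [e.functor.Additive]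
    [e.functor.IsLocalization (MorphismProperty.isomorphisms C)] :
    Function.Bijective
      (CatCenter.localizationRingHom e.functor (MorphismProperty.isomorphisms C)) := by
  constructor
  · intro r s hrs
    ext X
    apply e.functor.map_injective
    have h := congrArg (fun z : CatCenter D => z.app (e.functor.obj X)) hrs
    simpa [CatCenter.localizationRingHom] using h
  · intro t
    refine ⟨{ app := fun X => e.functor.preimage (t.app (e.functor.obj X))
              naturality := ?_ }, ?_⟩
    · intro X Y f
      apply e.functor.map_injective
      simp only [Functor.id_obj, Functor.id_map, Functor.map_comp, Functor.map_preimage]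
      exact t.naturality (e.functor.map f)
    · apply CatCenter.ext_of_localization e.functor (MorphismProperty.isomorphisms C)
      intro X
      simp only [CatCenter.localizationRingHom, RingHom.coe_mk, MonoidHom.coe_mk, OneHom.coe_mk,
        CatCenter.localization_app]
      exact e.functor.map_preimage _

/-- Ring-isomorphism part of the statement: let A and B be commutative rings whose categories of modules
are equivalent. Then A and B are isomorphic as rings. (The source moreover describes the equivalence
as base change followed by tensoring with an invertible module.) -/
theorem result (A B : Type u) [CommRing A] [CommRing B]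
    (F : ModuleCat.{u} A ≌ ModuleCat.{u} B) : Nonempty (A ≃+* B) := by
  have : F.functor.IsLocalization (MorphismProperty.isomorphisms (ModuleCat.{u} A)) :=
    Functor.IsLocalization.of_isEquivalence F.functor _ le_rfl
  have : F.functor.Additive := Functor.additive_of_preserves_binary_products F.functor
  let e1 := RingEquiv.ofBijective _ (toCatCenter_bijective A)
  let e2 := RingEquiv.ofBijective _ (center_bijective F)
  let e3 := RingEquiv.ofBijective _ (toCatCenter_bijective B)
  exact ⟨(e1.trans e2).trans e3.symm⟩

end Groth.Agent.S2203
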