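import Groth.Statements.S2205
import Groth.Agent.S2196
import Groth.Agent.S2215

set_option autoImplicit false
universe u v
open Disc

namespace Groth.Agent.S2205

open Groth.Agent.Lib.DiscFree

variable {A : Type u} {B : Type v} [CommRing A] [CommRing B] [Algebra A B]

/-- elements in the radical of the trace form are killed by the different -/
theorem mul_eq_zero_of_trace [Module.Finite A B] [Module.Free A B] {b : B}
    (hb : b ∈ Disc.differentSet A B) {n : B} (hn : ∀ x, Algebra.trace A B (n * x) = 0) :
    b * n = 0 := by
  rw [← Module.forall_dual_apply_eq_zero_iff A]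
  intro φ
  obtain ⟨c, hc⟩ := hb φ
  rw [hc n, mul_comm]
  exact hn c

theorem sq_mem_noetherDifferent [IsNoetherianRing A] [Module.Finite A B] [Module.Free A B] {b : B}
    (hb : b ∈ Disc.differentSet A B) : b ^ 2 ∈ Disc.noetherDifferent A B := by
  have hmem : b ^ 2 ∈ (Disc.noetherDifferent A B : Set B) := by
    rw [Groth.Agent.S2215.result]
    choose c hc using hb
    refine ⟨{ toFun := fun l => b * c l.toLinearMap, map_add' := ?_, map_smul' := ?_ }, ?_⟩
    · intro l l'
      rw [← mul_add, ← sub_eq_zero, ← mul_sub]
      apply mul_eq_zero_of_trace (fun φ => ⟨c φ, hc φ⟩)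
      intro x
      rw [sub_mul, add_mul, map_sub, map_add, ← hc, ← hc, ← hc]
      simp
    · intro s l
      rw [RingHom.id_apply, smul_eq_mul, mul_left_comm, ← sub_eq_zero, ← mul_sub]
      apply mul_eq_zero_of_trace (fun φ => ⟨c φ, hc φ⟩)
      intro x
      rw [sub_mul, map_sub, ← hc, mul_assoc, mul_left_comm s, ← hc,
        Disc.Omega.smul_toLinearMap_apply, mul_left_comm, sub_self]
    · change b * c (Algebra.trace A B) = b ^ 2
      rw [pow_two, ← sub_eq_zero, ← mul_sub]
      apply mul_eq_zero_of_trace (fun φ => ⟨c φ, hc φ⟩)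
      intro x
      rw [sub_mul, map_sub, ← hc, sub_self]
  exact hmem

/-- the key trace identity: `Tr(Φ l) = l (Φ τ)` for `B`-linear `Φ : ω → B`. -/
theorem trace_apply_eq [Module.Finite A B] [Module.Free A B]
    (Φ : Disc.Omega A B →ₗ[B] B) (l : Disc.Omega A B) :
    Algebra.trace A B (Φ l) = l.toLinearMap (Φ (Disc.Omega.trace A B)) := by
  classical
  let e := Module.Free.chooseBasis A B
  let R : B →ₗ[A] Module.Dual A B :=
    { toFun := fun x => (x • l).toLinearMap
      map_add' := fun x y => by
        ext z; simp [add_mul]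
      map_smul' := fun a x => by
        ext z; simp }
  let Φ' : Module.Dual A B →ₗ[A] B :=
    { toFun := fun ψ => Φ ⟨ψ⟩
      map_add' := fun ψ ψ' => by
        rw [← map_add]; rfl
      map_smul' := fun a ψ => by
        have : (⟨a • ψ⟩ : Disc.Omega A B) = algebraMap A B a • ⟨ψ⟩ := by
          apply Disc.Omega.ext
          ext z
          simp [← Algebra.smul_def]
        rw [this, map_smul, RingHom.id_apply, smul_eq_mul, Algebra.smul_def] }
  have h1 : Φ' ∘ₗ R = Algebra.lmul A B (Φ l) := by
    ext x
    change Φ (x • l) = Φ l * x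
    rw [map_smul, smul_eq_mul, mul_comm]
  have h2 : LinearMap.trace A (Module.Dual A B) (R ∘ₗ Φ') =
      l.toLinearMap (Φ (Disc.Omega.trace A B)) := by
    rw [LinearMap.trace_eq_matrix_trace A e.dualBasis, Matrix.trace, trace_eq_sum e, map_sum,
      map_sum]
    refine Finset.sum_congr rfl fun j _ => ?_
    rw [Matrix.diag_apply, LinearMap.toMatrix_apply, Module.Basis.dualBasis_repr]
    change l.toLinearMap (Φ ⟨e.dualBasis j⟩ * e j) = _
    rw [map_smul, smul_eq_mul, mul_comm, Module.Basis.coe_dualBasis]
    rfl
  rw [Algebra.trace_apply, ← h1, LinearMap.trace_comp_comm', h2]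

theorem noetherDifferent_subset [IsNoetherianRing A] [Module.Finite A B] [Module.Free A B] :
    (Disc.noetherDifferent A B : Set B) ⊆ Disc.differentSet A B := by
  rw [Groth.Agent.S2215.result]
  rintro _ ⟨Φ, rfl⟩ φ
  refine ⟨Φ ⟨φ⟩, fun x => ?_⟩
  have h := trace_apply_eq Φ (x • ⟨φ⟩)
  rw [map_smul, smul_eq_mul, Disc.Omega.smul_toLinearMap_apply] at h
  rw [mul_comm (Φ ⟨φ⟩), h, mul_comm]


/-- Special case: affine, with B finite free over the Noetherian ring A (the source allows flat
quasi-finite morphisms of Noetherian schemes); then the relative dualizing module is Hom_A(B, A) and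
the trace element is the usual trace. A prime q of B contains the different (the set of b with b
Hom_A(B, A) inside B Trace) if and only if A -> B is not unramified at q; for such maps unramified
and etale at q agree. -/
theorem result {A : Type u} {B : Type v} [CommRing A]
    [CommRing B] [Algebra A B] [IsNoetherianRing A] [Module.Finite A B] [Module.Free A B]
    (q : Ideal B) [q.IsPrime] :
    Disc.differentSet A B ⊆ q ↔ ¬Algebra.IsUnramifiedAt A q := by
  have h96 := Groth.Agent.S2196.result (A := A) (B := B)
  have key : Disc.noetherDifferent A B ≤ q ↔ ¬Algebra.IsUnramifiedAt A q := by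
    have := Set.ext_iff.mp h96 ⟨q, ‹q.IsPrime›⟩
    simpa [Algebra.unramifiedLocus] using this
  rw [← key]
  constructor
  · intro h x hx
    exact h (noetherDifferent_subset hx)
  · intro h b hb
    exact (‹q.IsPrime›).mem_of_pow_mem 2 (h (sq_mem_noetherDifferent hb))

end Groth.Agent.S2205
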