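import Groth.Statements.S2207
import Mathlib.Data.Nat.Choose.Sum

set_option autoImplicit false
universe u v
open DPow

namespace Groth.Agent.S2207

open Finset

section

variable {A : Type u} {B : Type v} [CommRing A] [CommRing B] [Algebra A B]
variable (x : A) (γ : DividedPowers (Ideal.span {x}))

theorem pow_mul_eq (b b' y : B) (h : b * y = b' * y) (n : ℕ) : b ^ n * y = b' ^ n * y := by
  induction n with
  | zero => simp
  | succ n ih =>
    calc b ^ (n + 1) * y = b ^ n * (b * y) := by ring
      _ = b' * (b ^ n * y) := by rw [h]; ring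
      _ = b' ^ (n + 1) * y := by rw [ih]; ring

theorem exists_eq_mul (n : ℕ) (hn : n ≠ 0) : ∃ a : A, γ.dpow n x = a * x := by
  have := γ.dpow_mem hn (Ideal.mem_span_singleton_self x)
  rw [Ideal.mem_span_singleton'] at this
  obtain ⟨a, ha⟩ := this
  exact ⟨a, ha.symm⟩

theorem welldef (b b' : B) (h : b * algebraMap A B x = b' * algebraMap A B x) (n : ℕ) :
    b ^ n * algebraMap A B (γ.dpow n x) = b' ^ n * algebraMap A B (γ.dpow n x) := by
  rcases Nat.eq_zero_or_pos n with rfl | hn
  · simp
  obtain ⟨a, ha⟩ := exists_eq_mul x γ n hn.ne'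
  rw [ha, map_mul]
  calc b ^ n * (algebraMap A B a * algebraMap A B x)
      = algebraMap A B a * (b ^ n * algebraMap A B x) := by ring
    _ = algebraMap A B a * (b' ^ n * algebraMap A B x) := by rw [pow_mul_eq b b' _ h n]
    _ = _ := by ring

theorem mem_map_iff (y : B) :
    y ∈ (Ideal.span {x}).map (algebraMap A B) ↔ ∃ b : B, y = b * algebraMap A B x := by
  rw [Ideal.map_span, Set.image_singleton, Ideal.mem_span_singleton']
  constructor
  · rintro ⟨b, hb⟩; exact ⟨b, hb.symm⟩
  · rintro ⟨b, hb⟩; exact ⟨b, hb.symm⟩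

open Classical in
/-- the extended divided power function -/
noncomputable def dp (n : ℕ) (y : B) : B :=
  if h : ∃ b : B, y = b * algebraMap A B x then
    h.choose ^ n * algebraMap A B (γ.dpow n x) else 0

theorem dp_spec (n : ℕ) (b : B) :
    dp x γ n (b * algebraMap A B x) = b ^ n * algebraMap A B (γ.dpow n x) := by
  have h : ∃ b' : B, b * algebraMap A B x = b' * algebraMap A B x := ⟨b, rfl⟩
  rw [dp, dif_pos h]
  exact welldef x γ _ _ h.choose_spec.symm n

theorem dp_null (n : ℕ) (y : B) (hy : y ∉ (Ideal.span {x}).map (algebraMap A B)) :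
    dp x γ n y = 0 := by
  rw [mem_map_iff] at hy
  rw [dp, dif_neg hy]

/-- the divided power structure on the extended ideal -/
noncomputable def dpB : DividedPowers ((Ideal.span {x}).map (algebraMap A B)) where
  dpow := dp x γ
  dpow_null {n y} hy := dp_null x γ n y hy
  dpow_zero {y} hy := by
    obtain ⟨b, rfl⟩ := (mem_map_iff x y).mp hy
    rw [dp_spec, γ.dpow_zero (Ideal.mem_span_singleton_self x)]
    simp
  dpow_one {y} hy := by
    obtain ⟨b, rfl⟩ := (mem_map_iff x y).mp hy
    rw [dp_spec, γ.dpow_one (Ideal.mem_span_singleton_self x)]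
    simp
  dpow_mem {n y} hn hy := by
    obtain ⟨b, rfl⟩ := (mem_map_iff x y).mp hy
    rw [dp_spec]
    exact Ideal.mul_mem_left _ _
      (Ideal.mem_map_of_mem _ (γ.dpow_mem hn (Ideal.mem_span_singleton_self x)))
  dpow_add {n y y'} hy hy' := by
    obtain ⟨b, rfl⟩ := (mem_map_iff x y).mp hy
    obtain ⟨b', rfl⟩ := (mem_map_iff x y').mp hy'
    rw [← add_mul, dp_spec, (Commute.all b b').add_pow', Finset.sum_mul]
    apply Finset.sum_congr rfl
    intro k hk
    rw [dp_spec, dp_spec]
    have hk' : k.1 + k.2 = n := Finset.mem_antidiagonal.mp hk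
    have := γ.mul_dpow (m := k.1) (n := k.2) (Ideal.mem_span_singleton_self x)
    rw [hk'] at this
    calc n.choose k.1 • (b ^ k.1 * b' ^ k.2) * algebraMap A B (γ.dpow n x)
        = b ^ k.1 * b' ^ k.2 * algebraMap A B ((n.choose k.1 : A) * γ.dpow n x) := by
          rw [map_mul, map_natCast, nsmul_eq_mul]; ring
      _ = b ^ k.1 * b' ^ k.2 * algebraMap A B (γ.dpow k.1 x * γ.dpow k.2 x) := by rw [this]
      _ = _ := by rw [map_mul]; ring
  dpow_mul {n c y} hy := by
    obtain ⟨b, rfl⟩ := (mem_map_iff x y).mp hy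
    rw [← mul_assoc, dp_spec, dp_spec, mul_pow, mul_assoc]
  mul_dpow {m n y} hy := by
    obtain ⟨b, rfl⟩ := (mem_map_iff x y).mp hy
    rw [dp_spec, dp_spec, dp_spec]
    have := γ.mul_dpow (m := m) (n := n) (Ideal.mem_span_singleton_self x)
    calc b ^ m * algebraMap A B (γ.dpow m x) * (b ^ n * algebraMap A B (γ.dpow n x))
        = b ^ (m + n) * algebraMap A B (γ.dpow m x * γ.dpow n x) := by rw [map_mul]; ring
      _ = b ^ (m + n) * algebraMap A B (((m + n).choose m : A) * γ.dpow (m + n) x) := by rw [this]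
      _ = _ := by rw [map_mul, map_natCast]; ring
  dpow_comp {m n y} hn hy := by
    obtain ⟨b, rfl⟩ := (mem_map_iff x y).mp hy
    rw [dp_spec, dp_spec]
    obtain ⟨a, ha⟩ := exists_eq_mul x γ n hn
    have h1 : b ^ n * algebraMap A B (γ.dpow n x) =
        (b ^ n * algebraMap A B a) * algebraMap A B x := by
      rw [ha, map_mul]; ring
    rw [h1, dp_spec]
    have h2 := γ.dpow_mul (n := m) (a := a) (Ideal.mem_span_singleton_self x)
    have h3 := γ.dpow_comp (m := m) hn (Ideal.mem_span_singleton_self x)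
    calc (b ^ n * algebraMap A B a) ^ m * algebraMap A B (γ.dpow m x)
        = b ^ (m * n) * algebraMap A B (a ^ m * γ.dpow m x) := by
          rw [map_mul, map_pow]; ring
      _ = b ^ (m * n) * algebraMap A B (γ.dpow m (γ.dpow n x)) := by rw [← h2, ← ha]
      _ = b ^ (m * n) * algebraMap A B ((Nat.uniformBell m n : A) * γ.dpow (m * n) x) := by
          rw [h3]
      _ = _ := by rw [map_mul, map_natCast]; ring

theorem isDPMorphism_dpB : γ.IsDPMorphism (dpB (B := B) x γ) (algebraMap A B) := by
  refine ⟨le_rfl, ?_⟩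
  intro n a ha
  rw [Ideal.mem_span_singleton'] at ha
  obtain ⟨c, rfl⟩ := ha
  change dp x γ n (algebraMap A B (c * x)) = _
  rw [map_mul, dp_spec, γ.dpow_mul (Ideal.mem_span_singleton_self x), map_mul, map_pow]

end

/-- Existence in case (2): let I = (x) be a principal ideal of A with a divided power structure and B
any A-algebra. Then there is a divided power structure on I B for which A -> B is a homomorphism of
divided power rings. -/
theorem result {A : Type u} {B : Type v} [CommRing A] [CommRing B] [Algebra A B]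
    (x : A) (γ : DividedPowers (Ideal.span {x})) :
    ∃ δ : DividedPowers ((Ideal.span {x}).map (algebraMap A B)), γ.IsDPMorphism δ (algebraMap A B) := by
  exact ⟨dpB x γ, isDPMorphism_dpB x γ⟩

end Groth.Agent.S2207
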