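import Groth.Statements.S2211
import Mathlib.Data.Nat.Choose.Lucas
import Mathlib.Combinatorics.Enumerative.Bell

set_option autoImplicit false
universe u
open DPow

namespace Groth.Agent.S2211

theorem not_dvd_choose_aux (p : ℕ) (hp : p.Prime) (j : ℕ) :
    ¬ p ∣ Nat.choose (j * p + p - 1) (p - 1) := by
  have : Fact p.Prime := ⟨hp⟩
  have hpos := hp.pos
  have h := Choose.choose_modEq_choose_mod_mul_choose_div_nat (p := p)
    (n := j * p + p - 1) (k := p - 1)
  have e1 : (j * p + p - 1) % p = p - 1 := by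
    have : j * p + p - 1 = (p - 1) + p * j := by
      have : 1 ≤ p := hpos
      rw [mul_comm]; omega
    rw [this, Nat.add_mul_mod_self_left, Nat.mod_eq_of_lt (by omega)]
  have e2 : (p - 1) % p = p - 1 := Nat.mod_eq_of_lt (by omega)
  have e3 : (p - 1) / p = 0 := Nat.div_eq_of_lt (by omega)
  rw [e1, e2, e3, Nat.choose_self, Nat.choose_zero_right, mul_one] at h
  intro hdvd
  have h0 : Nat.choose (j * p + p - 1) (p - 1) ≡ 0 [MOD p] := (Nat.modEq_zero_iff_dvd).mpr hdvd
  have h10 : 1 ≡ 0 [MOD p] := h.symm.trans h0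
  have : p ∣ 1 := (Nat.modEq_zero_iff_dvd).mp h10
  exact hp.one_lt.ne' (Nat.dvd_one.mp this)

theorem not_dvd_uniformBell (p : ℕ) (hp : p.Prime) (q : ℕ) : ¬ p ∣ Nat.uniformBell q p := by
  induction q with
  | zero => rw [Nat.uniformBell_zero_left]; exact fun h => hp.one_lt.ne' (Nat.dvd_one.mp h)
  | succ q ih =>
    rw [Nat.uniformBell_succ_left]
    intro h
    rcases (hp.dvd_mul).mp h with h | h
    · exact not_dvd_choose_aux p hp q h
    · exact ih h

theorem key {A : Type u} [CommRing A] (p : ℕ) (hp : p.Prime)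
    (hA : ∀ n : ℕ, ¬ p ∣ n → IsUnit (n : A)) {I : Ideal A} (γ γ' : DividedPowers I)
    (h : ∀ x ∈ I, γ.dpow p x = γ'.dpow p x) :
    ∀ n : ℕ, ∀ x ∈ I, γ.dpow n x = γ'.dpow n x := by
  intro n
  induction n using Nat.strong_induction_on with
  | _ n ih =>
    intro x hx
    rcases Nat.eq_zero_or_pos n with rfl | hn
    · rw [γ.dpow_zero hx, γ'.dpow_zero hx]
    by_cases hpn : p ∣ n
    · obtain ⟨q, rfl⟩ := hpn
      have hq0 : 0 < q := Nat.pos_of_mul_pos_left hn
      have hq : q < p * q := by
        have := hp.two_le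
        nlinarith
      have h1 := γ.dpow_comp (m := q) hp.ne_zero hx
      have h2 := γ'.dpow_comp (m := q) hp.ne_zero hx
      rw [h x hx, ih q hq _ (γ'.dpow_mem hp.ne_zero hx), h2] at h1
      have hu : IsUnit ((Nat.uniformBell q p : ℕ) : A) := hA _ (not_dvd_uniformBell p hp q)
      rw [mul_comm p q]
      exact (hu.mul_left_cancel h1).symm
    · have hu : IsUnit (n : A) := hA n hpn
      have h1 := γ.mul_dpow (m := 1) (n := n - 1) hx
      have h2 := γ'.mul_dpow (m := 1) (n := n - 1) hx
      have e : 1 + (n - 1) = n := by omega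
      rw [e, Nat.choose_one_right, γ.dpow_one hx] at h1
      rw [e, Nat.choose_one_right, γ'.dpow_one hx] at h2
      rw [ih (n - 1) (by omega) x hx, h2] at h1
      exact (hu.mul_left_cancel h1).symm

/-- First part: let p be a prime and A a ring in which every integer prime to p is invertible, I an
ideal of A. Two divided power structures on I coincide exactly when their p-th divided power maps
agree on I. -/
theorem result {A : Type u} [CommRing A] (p : ℕ) (hp : p.Prime)
    (hA : ∀ n : ℕ, ¬ p ∣ n → IsUnit (n : A)) {I : Ideal A} (γ γ' : DividedPowers I) :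
    γ = γ' ↔ ∀ x ∈ I, γ.dpow p x = γ'.dpow p x := by
  constructor
  · rintro rfl x _
    rfl
  · intro h
    exact DividedPowers.ext _ _ fun n x hx => key p hp hA γ γ' h n x hx

end Groth.Agent.S2211
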