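import Groth.Statements.S2212
import Groth.Agent.Lib.DPPoly58
import Groth.Agent.Lib.DPPrime58

set_option autoImplicit false
universe u
open DPow

namespace Groth.Agent.S2212

open Groth.Agent.Lib.DPPoly58 Groth.Agent.Lib.DPPrime58

section Univ

variable {A : Type u} [CommRing A] {p : ℕ} {I : Ideal A} {d : A → A}

/-- The map from the universal algebra `ℤ⟨u,v⟩` attached to two elements of `I`. -/
noncomputable def uphi (H : Hyp p I d) {x y : A} (hx : x ∈ I) (hy : y ∈ I) :
    D ℤ ℚ (Fin 2) →ₐ[ℤ] A :=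
  phi ℤ ℚ (Fin 2) (a := fun i n => g p d n (if i = 0 then x else y))
    (fun _ => g_zero p d _)
    (fun i m n => by
      have hz : (if i = 0 then x else y) ∈ I := by split_ifs <;> assumption
      exact H.g_mul_g m n hz)

theorem uphi_dp (H : Hyp p I d) {x y : A} (hx : x ∈ I) (hy : y ∈ I) (i : Fin 2) (n : ℕ) :
    uphi H hx hy (dp ℤ ℚ (Fin 2) i n) = g p d n (if i = 0 then x else y) :=
  phi_dp ℤ ℚ (Fin 2) _ _ i n

theorem d_zero (H : Hyp p I d) : d 0 = 0 := by
  have := H.h2 0 0 I.zero_mem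
  rw [mul_zero, zero_pow H.hp.ne_zero, zero_mul] at this
  exact this

theorem isUnit_factorial (H : Hyp p I d) {i : ℕ} (hi : i < p) : IsUnit ((i.factorial : ℕ) : A) := by
  apply H.hA
  rw [Nat.Prime.dvd_factorial H.hp]
  omega

/-- Step B: compatibility with the `p`-th divided power. -/
theorem uphi_p (H : Hyp p I d)
    (h3 : ∀ x ∈ I, ∀ y ∈ I, d (x + y) = d x + d y +
      ((Finset.antidiagonal p).filter fun k => 0 < k.1 ∧ 0 < k.2).sum
        fun k => Ring.inverse ((k.1.factorial * k.2.factorial : ℕ) : A) * x ^ k.1 * y ^ k.2)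
    {x y : A} (hx : x ∈ I) (hy : y ∈ I) {z : D ℤ ℚ (Fin 2)} (hz : z ∈ Iplus ℤ ℚ (Fin 2)) :
    uphi H hx hy z ∈ I ∧ uphi H hx hy ((eps ℤ ℚ (Fin 2)).dpow p z) = d (uphi H hx hy z) := by
  have hp0 := H.hp.ne_zero
  have hz' := hz
  unfold Iplus at hz'
  induction hz' using Submodule.span_induction with
  | mem z h =>
    obtain ⟨i, m, hm, rfl⟩ := h
    have hzi : (if i = 0 then x else y) ∈ I := by split_ifs <;> assumption
    rw [eps_dp ℤ ℚ (Fin 2) i (by omega), map_nsmul, uphi_dp, uphi_dp, H.d_g (by omega) hzi,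
      nsmul_eq_mul]
    exact ⟨H.g_mem (by omega) hzi, rfl⟩
  | zero =>
    rw [map_zero, (eps ℤ ℚ (Fin 2)).dpow_eval_zero hp0, map_zero, d_zero H]
    exact ⟨I.zero_mem, rfl⟩
  | add z w hz1 hw1 ihz ihw =>
    have hzI : z ∈ Iplus ℤ ℚ (Fin 2) := hz1
    have hwI : w ∈ Iplus ℤ ℚ (Fin 2) := hw1
    obtain ⟨hz2, hz3⟩ := ihz hzI
    obtain ⟨hw2, hw3⟩ := ihw hwI
    refine ⟨by rw [map_add]; exact I.add_mem hz2 hw2, ?_⟩
    rw [(eps ℤ ℚ (Fin 2)).dpow_add hzI hwI, map_sum, map_add, h3 _ hz2 _ hw2]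
    rw [← Finset.sum_filter_add_sum_filter_not (Finset.antidiagonal p)
      (fun k => 0 < k.1 ∧ 0 < k.2)]
    have hcompl : (Finset.antidiagonal p).filter (fun k => ¬ (0 < k.1 ∧ 0 < k.2)) =
        {(0, p), (p, 0)} := by
      ext ⟨i, j⟩
      simp only [Finset.mem_filter, Finset.mem_antidiagonal, Finset.mem_insert,
        Finset.mem_singleton, Prod.mk.injEq]
      omega
    have hne : ((0, p) : ℕ × ℕ) ≠ (p, 0) := by
      intro h; exact hp0 (Prod.mk.inj h).1.symm
    rw [hcompl, Finset.sum_pair hne]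
    simp only [map_mul]
    rw [(eps ℤ ℚ (Fin 2)).dpow_zero hzI, (eps ℤ ℚ (Fin 2)).dpow_zero hwI, map_one, one_mul,
      mul_one, hz3, hw3]
    have hterm : ∀ k ∈ (Finset.antidiagonal p).filter (fun k => 0 < k.1 ∧ 0 < k.2),
        uphi H hx hy ((eps ℤ ℚ (Fin 2)).dpow k.1 z) * uphi H hx hy ((eps ℤ ℚ (Fin 2)).dpow k.2 w) =
          Ring.inverse ((k.1.factorial * k.2.factorial : ℕ) : A) * uphi H hx hy z ^ k.1 *
            uphi H hx hy w ^ k.2 := by
      intro k hk
      rw [Finset.mem_filter, Finset.mem_antidiagonal] at hk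
      have hu : IsUnit ((k.1.factorial * k.2.factorial : ℕ) : A) := by
        rw [Nat.cast_mul]
        exact (isUnit_factorial H (by omega)).mul (isUnit_factorial H (by omega))
      have e1 := congrArg (uphi H hx hy) ((eps ℤ ℚ (Fin 2)).factorial_mul_dpow_eq_pow (n := k.1) hzI)
      have e2 := congrArg (uphi H hx hy) ((eps ℤ ℚ (Fin 2)).factorial_mul_dpow_eq_pow (n := k.2) hwI)
      rw [map_mul, map_natCast, map_pow] at e1 e2
      rw [mul_assoc, ← e1, ← e2]
      have : ((k.1.factorial : ℕ) : A) * uphi H hx hy ((eps ℤ ℚ (Fin 2)).dpow k.1 z) *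
          (((k.2.factorial : ℕ) : A) * uphi H hx hy ((eps ℤ ℚ (Fin 2)).dpow k.2 w)) =
          ((k.1.factorial * k.2.factorial : ℕ) : A) *
            (uphi H hx hy ((eps ℤ ℚ (Fin 2)).dpow k.1 z) *
              uphi H hx hy ((eps ℤ ℚ (Fin 2)).dpow k.2 w)) := by
        push_cast; ring
      rw [this, Ring.inverse_mul_cancel_left _ _ hu]
    rw [Finset.sum_congr rfl hterm]
    ring
  | smul c z hz1 ih =>
    have hzI : z ∈ Iplus ℤ ℚ (Fin 2) := hz1
    obtain ⟨hz2, hz3⟩ := ih hzI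
    refine ⟨by rw [smul_eq_mul, map_mul]; exact I.mul_mem_left _ hz2, ?_⟩
    rw [smul_eq_mul, (eps ℤ ℚ (Fin 2)).dpow_mul hzI, map_mul, map_mul, map_pow, hz3, H.h2 _ _ hz2]

/-- Step C: compatibility with all divided powers. -/
theorem uphi_all (H : Hyp p I d)
    (h3 : ∀ x ∈ I, ∀ y ∈ I, d (x + y) = d x + d y +
      ((Finset.antidiagonal p).filter fun k => 0 < k.1 ∧ 0 < k.2).sum
        fun k => Ring.inverse ((k.1.factorial * k.2.factorial : ℕ) : A) * x ^ k.1 * y ^ k.2)
    {x y : A} (hx : x ∈ I) (hy : y ∈ I) (n : ℕ) {z : D ℤ ℚ (Fin 2)}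
    (hz : z ∈ Iplus ℤ ℚ (Fin 2)) :
    uphi H hx hy ((eps ℤ ℚ (Fin 2)).dpow n z) = g p d n (uphi H hx hy z) := by
  induction n using Nat.strong_induction_on generalizing z with
  | _ n ih =>
    rcases Nat.eq_zero_or_pos n with rfl | hn
    · rw [(eps ℤ ℚ (Fin 2)).dpow_zero hz, map_one, g_zero]
    have hp2 := H.hp.two_le
    by_cases hpn : p ∣ n
    · obtain ⟨m, rfl⟩ := hpn
      have hm : 0 < m := Nat.pos_of_mul_pos_left hn
      have hlt : m < p * m := by nlinarith
      apply (H.isUnit_uB m).mul_left_cancel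
      have hpz : (eps ℤ ℚ (Fin 2)).dpow p z ∈ Iplus ℤ ℚ (Fin 2) :=
        (eps ℤ ℚ (Fin 2)).dpow_mem H.hp.ne_zero hz
      have e := congrArg (uphi H hx hy) ((eps ℤ ℚ (Fin 2)).dpow_comp (m := m) H.hp.ne_zero hz)
      rw [map_mul, map_natCast, ih m hlt hpz, (uphi_p H h3 hx hy hz).2] at e
      rw [H.uB_g, e, mul_comm m p]
    · apply (H.hA n hpn).mul_left_cancel
      have e := congrArg (uphi H hx hy) ((eps ℤ ℚ (Fin 2)).mul_dpow (m := 1) (n := n - 1) hz)
      rw [show 1 + (n - 1) = n by omega, Nat.choose_one_right, (eps ℤ ℚ (Fin 2)).dpow_one hz,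
        map_mul, map_mul, map_natCast, ih (n - 1) (by omega) hz] at e
      rw [H.nmul_g hpn, ← e]

end Univ

/-- Two divided power structures with the same `p`-th power agree (copy of the argument of the
first part). -/
theorem dp_unique {A : Type u} [CommRing A] (p : ℕ) (hp : p.Prime)
    (hA : ∀ n : ℕ, ¬ p ∣ n → IsUnit (n : A)) {I : Ideal A} (γ γ' : DividedPowers I)
    (h : ∀ x ∈ I, γ.dpow p x = γ'.dpow p x) :
    ∀ n : ℕ, ∀ x ∈ I, γ.dpow n x = γ'.dpow n x := by
  intro n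
  induction n using Nat.strong_induction_on with
  | _ n ih =>
    intro x hx
    rcases Nat.eq_zero_or_pos n with rfl | hn
    · rw [γ.dpow_zero hx, γ'.dpow_zero hx]
    by_cases hpn : p ∣ n
    · obtain ⟨q, rfl⟩ := hpn
      have hq0 : 0 < q := Nat.pos_of_mul_pos_left hn
      have hq : q < p * q := by
        have := hp.two_le
        nlinarith
      have h1 := γ.dpow_comp (m := q) hp.ne_zero hx
      have h2 := γ'.dpow_comp (m := q) hp.ne_zero hx
      rw [h x hx, ih q hq _ (γ'.dpow_mem hp.ne_zero hx), h2] at h1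
      have hu : IsUnit ((Nat.uniformBell q p : ℕ) : A) := hA _ (not_dvd_uniformBell p hp q)
      rw [mul_comm p q]
      exact (hu.mul_left_cancel h1).symm
    · have hu : IsUnit (n : A) := hA n hpn
      have h1 := γ.mul_dpow (m := 1) (n := n - 1) hx
      have h2 := γ'.mul_dpow (m := 1) (n := n - 1) hx
      have e : 1 + (n - 1) = n := by omega
      rw [e, Nat.choose_one_right, γ.dpow_one hx] at h1
      rw [e, Nat.choose_one_right, γ'.dpow_one hx] at h2
      rw [ih (n - 1) (by omega) x hx, h2] at h1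
      exact (hu.mul_left_cancel h1).symm


/-- Second part: let p be a prime, A a ring in which every integer prime to p is invertible and I an
ideal. Let d : A -> A send I into I and satisfy p! d(x) = x^p, d(a x) = a^p d(x), and d(x + y) =
d(x) + d(y) + sum over i + j = p with i, j > 0 of x^i y^j / (i! j!), for x, y in I and a in A. Then
there is exactly one divided power structure on I whose p-th divided power is d on I. -/
theorem result {A : Type u} [CommRing A] (p : ℕ) (hp : p.Prime)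
    (hA : ∀ n : ℕ, ¬ p ∣ n → IsUnit (n : A)) {I : Ideal A} (d : A → A)
    (hdI : ∀ x ∈ I, d x ∈ I) (h1 : ∀ x ∈ I, (p.factorial : A) * d x = x ^ p)
    (h2 : ∀ (a x : A), x ∈ I → d (a * x) = a ^ p * d x)
    (h3 : ∀ x ∈ I, ∀ y ∈ I, d (x + y) = d x + d y +
      ((Finset.antidiagonal p).filter fun k => 0 < k.1 ∧ 0 < k.2).sum
        fun k => Ring.inverse ((k.1.factorial * k.2.factorial : ℕ) : A) * x ^ k.1 * y ^ k.2) :
    ∃! γ : DividedPowers I, ∀ x ∈ I, γ.dpow p x = d x := by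
  classical
  have H : Hyp p I d := ⟨hp, hA, hdI, h1, h2⟩
  have hadd : ∀ (n : ℕ) (x y : A), x ∈ I → y ∈ I → g p d n (x + y) =
      (Finset.antidiagonal n).sum fun k => g p d k.1 x * g p d k.2 y := by
    intro n x y hx hy
    have h0I := dp_mem_Iplus ℤ ℚ (Fin 2) 0 (le_refl 1)
    have h1I := dp_mem_Iplus ℤ ℚ (Fin 2) 1 (le_refl 1)
    have hwI : dp ℤ ℚ (Fin 2) 0 1 + dp ℤ ℚ (Fin 2) 1 1 ∈ Iplus ℤ ℚ (Fin 2) :=
      Ideal.add_mem _ h0I h1I
    have hφw : uphi H hx hy (dp ℤ ℚ (Fin 2) 0 1 + dp ℤ ℚ (Fin 2) 1 1) = x + y := by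
      rw [map_add, uphi_dp, uphi_dp, if_pos rfl, if_neg (by decide), H.g_one, H.g_one]
    rw [← hφw, ← uphi_all H h3 hx hy n hwI, (eps ℤ ℚ (Fin 2)).dpow_add h0I h1I, map_sum]
    refine Finset.sum_congr rfl fun k _ => ?_
    rw [map_mul, eps_dp_one, eps_dp_one, uphi_dp, uphi_dp, if_pos rfl, if_neg (by decide)]
  have hcomp : ∀ (m n : ℕ) (x : A), n ≠ 0 → x ∈ I →
      g p d m (g p d n x) = (Nat.uniformBell m n : A) * g p d (m * n) x := by
    intro m n x hn hx
    have e1 : uphi H hx hx (dp ℤ ℚ (Fin 2) 0 n) = g p d n x := by rw [uphi_dp, if_pos rfl]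
    rw [← e1, ← uphi_all H h3 hx hx m (dp_mem_Iplus ℤ ℚ (Fin 2) 0 (Nat.one_le_iff_ne_zero.mpr hn)),
      eps_dp ℤ ℚ (Fin 2) 0 hn, map_nsmul, uphi_dp, if_pos rfl, nsmul_eq_mul]
  let γ : DividedPowers I :=
    { dpow := fun n x => if x ∈ I then g p d n x else 0
      dpow_null := fun {n x} hx => if_neg hx
      dpow_zero := fun {x} hx => by rw [if_pos hx, g_zero]
      dpow_one := fun {x} hx => by rw [if_pos hx, H.g_one]
      dpow_mem := fun {n x} hn hx => by rw [if_pos hx]; exact H.g_mem hn hx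
      dpow_add := fun {n x y} hx hy => by
        rw [if_pos (I.add_mem hx hy), hadd n x y hx hy]
        refine Finset.sum_congr rfl fun k _ => ?_
        rw [if_pos hx, if_pos hy]
      dpow_mul := fun {n a x} hx => by
        rw [if_pos (I.mul_mem_left a hx), if_pos hx, H.g_smul n a hx]
      mul_dpow := fun {m n x} hx => by
        simp only [if_pos hx]
        exact H.g_mul_g m n hx
      dpow_comp := fun {m n x} hn hx => by
        simp only [if_pos hx, if_pos (H.g_mem hn hx)]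
        exact hcomp m n x hn hx }
  have hγ : ∀ x ∈ I, γ.dpow p x = d x := by
    intro x hx
    show (if x ∈ I then g p d p x else 0) = d x
    rw [if_pos hx]
    have := H.uB_g 1 x
    rw [Nat.uniformBell_one_left, Nat.cast_one, one_mul, mul_one, H.g_one] at this
    exact this
  refine ⟨γ, hγ, fun γ' h' => ?_⟩
  refine DividedPowers.ext _ _ fun n x hx => ?_
  exact dp_unique p hp hA γ' γ (fun x hx => by rw [h' x hx, hγ x hx]) n x hx

end Groth.Agent.S2212
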