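import Groth.Statements.S2213
import Groth.Agent.Lib.DPPolyExt75
-- import your own Groth.Agent.* helpers here

set_option autoImplicit false
universe u
open DPow

namespace Groth.Agent.S2213

open Groth.Agent.Lib.DPPoly75 TensorProduct

/-- the divided power polynomial algebra over `(A, I, γ)`, given any presentation -/
theorem of_presentation {A : Type u} [CommRing A] {I : Ideal A} (γ : DividedPowers I) (t : ℕ)
    (D : Type u) [CommRing D] [Algebra A D] (xx : Fin t → ℕ → D)
    (hx0 : ∀ i, xx i 0 = 1)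
    (hxmul : ∀ i n m, xx i n * xx i m = ((n + m).choose n : D) * xx i (n + m))
    (b : Module.Basis (Fin t →₀ ℕ) A D) (hb : ∀ e : Fin t →₀ ℕ, b e = e.prod (fun i k => xx i k)) :
    ∃ (J : Ideal D) (δ : DividedPowers J)
      (x : Fin t → D), (∀ i, x i ∈ J) ∧ γ.IsDPMorphism δ (algebraMap A D) ∧
      ∀ (C : Type u) [CommRing C] [Algebra A C] (K : Ideal C) (ε : DividedPowers K),
        γ.IsDPMorphism ε (algebraMap A C) → ∀ k : Fin t → C, (∀ i, k i ∈ K) →
          ∃! φ : D →ₐ[A] C, (∀ i, φ (x i) = k i) ∧ δ.IsDPMorphism ε φ.toRingHom := by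
  obtain ⟨δ, hδ1, hδ2⟩ := exists_dp₂ γ xx hx0 hxmul b hb
  have hδx : ∀ i n, δ.dpow n (xx i 1) = xx i n := by
    intro i n
    rw [hδ2 i n 1 le_rfl, Nat.uniformBell_one_right, Nat.cast_one, one_mul, mul_one]
  have hx1 : ∀ i, xx i 1 ∈ I.map (algebraMap A D) ⊔ aug xx :=
    fun i => Ideal.mem_sup_right (Ideal.subset_span ⟨i, 1, le_rfl, rfl⟩)
  refine ⟨I.map (algebraMap A D) ⊔ aug xx, δ, fun i => xx i 1, hx1,
    ⟨le_sup_left, fun a ha => hδ1 a ha _⟩, ?_⟩
  intro C _ _ K ε hC k hk
  refine ⟨liftDP xx hx0 hxmul b hb ε k hk, ⟨fun i => liftDP_x_one xx hx0 hxmul b hb ε k hk i, ?_⟩,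
    ?_⟩
  · refine DividedPowers.IsDPMorphism.on_span δ ε
      (S := (algebraMap A D) '' I ∪ {y : D | ∃ (l : Fin t) (n : ℕ), 1 ≤ n ∧ y = xx l n}) ?_ ?_ ?_
    · rw [Ideal.span_union]; rfl
    · rintro _ (⟨a, ha, rfl⟩ | ⟨i, m, hm, rfl⟩)
      · show liftDP xx hx0 hxmul b hb ε k hk (algebraMap A D a) ∈ K
        rw [AlgHom.commutes]
        exact hC.ideal_comp (Ideal.mem_map_of_mem _ ha)
      · show liftDP xx hx0 hxmul b hb ε k hk (xx i m) ∈ K
        rw [liftDP_x]
        exact ε.dpow_mem (by omega) (hk i)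
    · rintro n _ (⟨a, ha, rfl⟩ | ⟨i, m, hm, rfl⟩)
      · show liftDP xx hx0 hxmul b hb ε k hk (δ.dpow n (algebraMap A D a))
          = ε.dpow n (liftDP xx hx0 hxmul b hb ε k hk (algebraMap A D a))
        rw [hδ1 a ha, AlgHom.commutes, AlgHom.commutes, hC.dpow_comp a ha]
      · show liftDP xx hx0 hxmul b hb ε k hk (δ.dpow n (xx i m))
          = ε.dpow n (liftDP xx hx0 hxmul b hb ε k hk (xx i m))
        rw [hδ2 i n m hm, map_mul, map_natCast, liftDP_x, liftDP_x,
          ε.dpow_comp (by omega) (hk i)]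
  · rintro φ' ⟨h1, h2⟩
    refine algHom_ext_x xx b hb (fun i n => ?_)
    rw [liftDP_x, ← hδx i n]
    have := h2.dpow_comp (n := n) (xx i 1) (hx1 i)
    rw [AlgHom.toRingHom_eq_coe, RingHom.coe_coe] at this
    rw [← this, h1]

/-- Let (A, I) be a ring with divided powers and t a natural number. There is a divided power ring (D,
J) with an A-algebra structure making A -> D a divided power homomorphism and elements x_1, ..., x_t
of J, such that for every divided power ring (C, K) with a divided power homomorphism A -> C and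
every choice of k_1, ..., k_t in K there is exactly one divided power homomorphism D -> C over A
sending x_i to k_i (the divided power polynomial algebra). -/
theorem result {A : Type u} [CommRing A] {I : Ideal A} (γ : DividedPowers I) (t : ℕ) :
    ∃ (D : Type u) (_ : CommRing D) (_ : Algebra A D) (J : Ideal D) (δ : DividedPowers J)
      (x : Fin t → D), (∀ i, x i ∈ J) ∧ γ.IsDPMorphism δ (algebraMap A D) ∧
      ∀ (C : Type u) [CommRing C] [Algebra A C] (K : Ideal C) (ε : DividedPowers K),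
        γ.IsDPMorphism ε (algebraMap A C) → ∀ k : Fin t → C, (∀ i, k i ∈ K) →
          ∃! φ : D →ₐ[A] C, (∀ i, φ (x i) = k i) ∧ δ.IsDPMorphism ε φ.toRingHom := by
  obtain ⟨S₀, π₀, -⟩ := exists_subring_surjective A
  letI : Algebra S₀ A := π₀.toAlgebra
  have h0 := xBC_zero (S := S₀) (xS (σ := Fin t) S₀) (xS_zero S₀) A
  have h1 := xBC_mul (S := S₀) (xS (σ := Fin t) S₀) (xS_mul S₀) A
  have h2 := bBC_eq_prod (S := S₀) (xS (σ := Fin t) S₀) (basisS S₀) (basisS_eq_prod S₀) A
  generalize hxx : xBC S₀ (xS (σ := Fin t) S₀) A = xx at h0 h1 h2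
  generalize hbb : bBC (basisS (σ := Fin t) S₀) A = bb at h2
  have h := of_presentation γ t (A ⊗[S₀] model (Fin t) S₀) xx h0 h1 bb h2
  exact ⟨_, _, _, h⟩

end Groth.Agent.S2213
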