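import Groth.Statements.S2218
-- import your own Groth.Agent.* helpers here
import Mathlib.RingTheory.Ideal.AssociatedPrime.Basic
import Mathlib.RingTheory.Ideal.GoingUp
import Mathlib.RingTheory.Localization.Integer
import Mathlib.RingTheory.Localization.FractionRing
import Mathlib.RingTheory.Flat.Basic
import Mathlib.RingTheory.Flat.Localization
import Mathlib.LinearAlgebra.Dual.Lemmas
import Mathlib.RingTheory.Ideal.Colon

set_option autoImplicit false
universe u v
open Disc

namespace Groth.Agent.S2218

open TensorProduct

lemma mem_ass_iff {R M : Type*} [CommRing R] [IsNoetherianRing R] [AddCommGroup M] [Module R M]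
    (I : Ideal R) :
    I ∈ associatedPrimes R M ↔ I.IsPrime ∧ ∃ x : M, ∀ r : R, r ∈ I ↔ r • x = 0 := by
  rw [AssociatedPrimes.mem_iff, isAssociatedPrime_iff]
  constructor
  · rintro ⟨hI, x, rfl⟩
    exact ⟨hI, x, fun r => by rw [Submodule.mem_colon_singleton, Submodule.mem_bot]⟩
  · rintro ⟨hI, x, hx⟩
    refine ⟨hI, x, ?_⟩
    ext r
    rw [Submodule.mem_colon_singleton, Submodule.mem_bot]
    exact hx r

lemma exists_functional {D E : Type*} [CommRing D] [IsDomain D] [CommRing E]
    [Algebra D E] [Module.Finite D E] (hinj : Function.Injective (algebraMap D E)) :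
    ∃ lam : E →ₗ[D] D, lam 1 ≠ 0 := by
  classical
  let K := FractionRing D
  have hv0 : (1 : K) ⊗ₜ[D] (1 : E) ≠ 0 := by
    have h1 : Function.Injective (LinearMap.lTensor K (Algebra.linearMap D E)) :=
      Module.Flat.lTensor_preserves_injective_linearMap _ hinj
    intro h0
    have h2 : LinearMap.lTensor K (Algebra.linearMap D E) ((1 : K) ⊗ₜ[D] (1 : D)) = 0 := by
      rw [LinearMap.lTensor_tmul, Algebra.linearMap_apply, map_one, h0]
    have h3 := h1 (h2.trans (map_zero _).symm)
    have h4 := congrArg (TensorProduct.rid D K) h3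
    rw [TensorProduct.rid_tmul, one_smul, map_zero] at h4
    exact one_ne_zero h4
  obtain ⟨μ, hμ⟩ : ∃ μ : Module.Dual K (K ⊗[D] E), μ ((1 : K) ⊗ₜ[D] (1 : E)) ≠ 0 := by
    by_contra hcon
    push Not at hcon
    exact hv0 ((Module.forall_dual_apply_eq_zero_iff K _).mp hcon)
  obtain ⟨S, hS⟩ := (Module.Finite.fg_top : (⊤ : Submodule D E).FG)
  obtain ⟨d, hd⟩ := IsLocalization.exist_integer_multiples (nonZeroDivisors D) S
    (fun e => μ ((1 : K) ⊗ₜ[D] e))
  let μE : E →ₗ[D] K :=
    (d : D) • ((μ.restrictScalars D).comp (TensorProduct.mk D K E 1))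
  have hμE : ∀ e, μE e = (d : D) • μ ((1 : K) ⊗ₜ[D] e) := fun e => rfl
  have hint : ∀ e : E, μE e ∈ LinearMap.range (Algebra.linearMap D K) := by
    intro e
    have he : e ∈ Submodule.span D (S : Set E) := by rw [hS]; trivial
    induction he using Submodule.span_induction with
    | mem e h =>
      obtain ⟨a, ha⟩ := hd e h
      exact ⟨a, by rw [hμE]; exact ha⟩
    | zero => rw [map_zero]; exact zero_mem _
    | add x y _ _ hx hy => rw [map_add]; exact add_mem hx hy
    | smul c x _ hx => rw [map_smul]; exact Submodule.smul_mem _ _ hx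
  let lam : E →ₗ[D] D :=
    (LinearEquiv.ofInjective (Algebra.linearMap D K) (IsFractionRing.injective D K)).symm.toLinearMap.comp
      (μE.codRestrict _ hint)
  refine ⟨lam, ?_⟩
  intro h0
  have h1 : (LinearEquiv.ofInjective (Algebra.linearMap D K) (IsFractionRing.injective D K))
      (lam 1) = 0 := by rw [h0, map_zero]
  simp only [lam, LinearMap.comp_apply, LinearEquiv.coe_coe, LinearEquiv.apply_symm_apply] at h1
  have h2 := congrArg Subtype.val h1
  simp only [LinearMap.codRestrict_apply, ZeroMemClass.coe_zero] at h2
  rw [hμE, Algebra.smul_def, mul_eq_zero] at h2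
  rcases h2 with h2 | h2
  · have := (IsFractionRing.injective D K) (h2.trans (map_zero _).symm)
    exact nonZeroDivisors.coe_ne_zero d this
  · exact hμ h2

/-- Special case: A -> B finite (the source allows quasi-finite maps). For a finite map of Noetherian
rings and omega = Hom_A(B, A) with its B-module structure through the argument, the associated
primes of the B-module omega are exactly the primes of B whose contraction to A is an associated
prime of A. -/
theorem result {A : Type u} {B : Type v} [CommRing A] [CommRing B]
    [Algebra A B] [IsNoetherianRing A] [IsNoetherianRing B] [Module.Finite A B] :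
    associatedPrimes B (Disc.Omega A B) =
      {q : Ideal B | q.IsPrime ∧ q.comap (algebraMap A B) ∈ associatedPrimes A A} := by
  classical
  ext q
  rw [mem_ass_iff, Set.mem_ofPred_eq]
  constructor
  · rintro ⟨hq, l, hl⟩
    refine ⟨hq, ?_⟩
    rw [mem_ass_iff]
    have hp : (q.comap (algebraMap A B)).IsPrime := Ideal.comap_isPrime _ _
    refine ⟨hp, ?_⟩
    -- the image of l
    have hfg : (LinearMap.range l.toLinearMap).FG := by
      rw [LinearMap.range_eq_map]
      exact Submodule.FG.map _ Module.Finite.fg_top
    obtain ⟨S, hS⟩ := hfg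
    have hmem : ∀ r : A, r ∈ q.comap (algebraMap A B) ↔ ∀ a ∈ S, r * a = 0 := by
      intro r
      rw [Ideal.mem_comap, hl]
      constructor
      · intro h a ha
        have ha' : a ∈ LinearMap.range l.toLinearMap := by
          rw [← hS]; exact Submodule.subset_span ha
        obtain ⟨x, rfl⟩ := ha'
        have := congrArg (fun m : Disc.Omega A B => m.toLinearMap x) h
        simp only [Disc.Omega.smul_toLinearMap_apply, Disc.Omega.zero_toLinearMap,
          LinearMap.zero_apply] at this
        rw [← Algebra.smul_def, map_smul, smul_eq_mul] at this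
        exact this
      · intro h
        apply Disc.Omega.ext
        apply LinearMap.ext
        intro x
        rw [Disc.Omega.smul_toLinearMap_apply, ← Algebra.smul_def, map_smul, smul_eq_mul]
        have hx : l.toLinearMap x ∈ Submodule.span A (S : Set A) := by
          rw [hS]; exact ⟨x, rfl⟩
        change r * l.toLinearMap x = 0
        generalize l.toLinearMap x = y0 at hx ⊢
        induction hx using Submodule.span_induction with
        | mem a ha => exact h a ha
        | zero => rw [mul_zero]
        | add y z _ _ hy hz => rw [mul_add, hy, hz, add_zero]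
        | smul c y _ hy => rw [smul_eq_mul, mul_left_comm, hy, mul_zero]
    have hinf : S.inf (fun a => (Submodule.colon (⊥ : Submodule A A) {a})) ≤
        q.comap (algebraMap A B) := by
      intro r hr
      rw [hmem]
      intro a ha
      have := (Finset.inf_le ha : S.inf (fun a => (Submodule.colon (⊥ : Submodule A A) {a})) ≤ _) hr
      rw [Submodule.mem_colon_singleton, Submodule.mem_bot, smul_eq_mul] at this
      exact this
    obtain ⟨a, ha, hle⟩ := (Ideal.IsPrime.inf_le' hp).mp hinf
    refine ⟨a, fun r => ?_⟩
    constructor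
    · intro hr
      rw [smul_eq_mul]
      exact (hmem r).mp hr a ha
    · intro hr
      apply hle
      rw [Submodule.mem_colon_singleton, Submodule.mem_bot]
      exact hr
  · rintro ⟨hq, hp⟩
    refine ⟨hq, ?_⟩
    rw [mem_ass_iff] at hp
    obtain ⟨hpp, a0, ha0⟩ := hp
    have hfinE : Module.Finite (A ⧸ q.comap (algebraMap A B)) (B ⧸ q) :=
      Module.Finite.of_restrictScalars_finite A _ _
    have hinj : Function.Injective (algebraMap (A ⧸ q.comap (algebraMap A B)) (B ⧸ q)) :=
      Ideal.algebraMap_quotient_injective
    have hdomD : IsDomain (A ⧸ q.comap (algebraMap A B)) := Ideal.Quotient.isDomain _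
    have hdomE : IsDomain (B ⧸ q) := Ideal.Quotient.isDomain _
    obtain ⟨lam, hlam⟩ := exists_functional (D := A ⧸ q.comap (algebraMap A B)) (E := B ⧸ q) hinj
    -- multiplication by a0
    let ψ : (A ⧸ q.comap (algebraMap A B)) →ₗ[A] A :=
      Submodule.liftQ (q.comap (algebraMap A B)) (LinearMap.toSpanSingleton A A a0) (by
        intro r hr
        rw [LinearMap.mem_ker, LinearMap.toSpanSingleton_apply]
        exact (ha0 r).mp hr)
    have hψ : ∀ r : A, ψ (Ideal.Quotient.mk _ r) = r * a0 := fun r => rfl
    have hψinj : ∀ x, ψ x = 0 → x = 0 := by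
      intro x hx
      obtain ⟨r, rfl⟩ := Ideal.Quotient.mk_surjective x
      rw [hψ] at hx
      rw [Ideal.Quotient.eq_zero_iff_mem]
      exact (ha0 r).mpr hx
    let l : Disc.Omega A B :=
      ⟨ψ.comp ((lam.restrictScalars A).comp (Ideal.Quotient.mkₐ A q).toLinearMap)⟩
    have hl : ∀ x : B, l.toLinearMap x = ψ (lam (Ideal.Quotient.mk q x)) := fun x => rfl
    refine ⟨l, fun b => ?_⟩
    constructor
    · intro hb
      apply Disc.Omega.ext
      apply LinearMap.ext
      intro x
      rw [Disc.Omega.smul_toLinearMap_apply, hl]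
      have : Ideal.Quotient.mk q (b * x) = 0 :=
        Ideal.Quotient.eq_zero_iff_mem.mpr (q.mul_mem_right x hb)
      rw [this, map_zero, map_zero]
      rfl
    · intro hb
      by_contra hbq
      have he : Ideal.Quotient.mk q b ≠ 0 := fun h => hbq (Ideal.Quotient.eq_zero_iff_mem.mp h)
      have hint : IsIntegral (A ⧸ q.comap (algebraMap A B)) (Ideal.Quotient.mk q b) :=
        Algebra.IsIntegral.isIntegral _
      have hne := Ideal.comap_ne_bot_of_integral_mem (I := Ideal.span {Ideal.Quotient.mk q b}) he
        (Ideal.subset_span rfl) hint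
      obtain ⟨d, hd, hd0⟩ := Submodule.exists_mem_ne_zero_of_ne_bot hne
      rw [Ideal.mem_comap, Ideal.mem_span_singleton'] at hd
      obtain ⟨y, hy⟩ := hd
      obtain ⟨y0, rfl⟩ := Ideal.Quotient.mk_surjective y
      have h1 := congrArg (fun m : Disc.Omega A B => m.toLinearMap y0) hb
      simp only [Disc.Omega.smul_toLinearMap_apply, Disc.Omega.zero_toLinearMap,
        LinearMap.zero_apply] at h1
      rw [hl, map_mul, mul_comm, hy] at h1
      have h2 := hψinj _ h1
      rw [Algebra.algebraMap_eq_smul_one, map_smul, smul_eq_mul, mul_eq_zero] at h2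
      rcases h2 with h2 | h2
      · exact hd0 h2
      · exact hlam h2

end Groth.Agent.S2218
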