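import Groth.Statements.S2219
-- import your own Groth.Agent.* helpers here
import Mathlib

set_option autoImplicit false
set_option linter.style.haveILetI false
universe u
open Disc

namespace Groth.Agent.S2219

open Module.Basis in
theorem trace_eq_add {R V : Type*} [Field R] [AddCommGroup V]
    [Module R V] [Module.Finite R V]
    (W : Submodule R V) (e : V →ₗ[R] V) (he : W ≤ W.comap e) :
    LinearMap.trace R V e = LinearMap.trace R W (e.restrict he)
      + LinearMap.trace R (V ⧸ W) (W.mapQ W e he) := by
  let m := Module.Free.ChooseBasisIndex R W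
  let bW : Module.Basis m R W := Module.Free.chooseBasis R W
  let n := Module.Free.ChooseBasisIndex R (V ⧸ W)
  let bQ : Module.Basis n R (V ⧸ W) := Module.Free.chooseBasis R (V ⧸ W)
  let b := sumQuot bW bQ
  let A : Matrix m m R := LinearMap.toMatrix bW bW (e.restrict he)
  let B : Matrix m n R := Matrix.of fun i l ↦
    ((sumQuot bW bQ).repr (e ((sumQuot bW bQ) (Sum.inr l)))) (Sum.inl i)
  let D : Matrix n n R := LinearMap.toMatrix bQ bQ (W.mapQ W e he)
  suffices LinearMap.toMatrix b b e = Matrix.fromBlocks A B 0 D by
    rw [LinearMap.trace_eq_matrix_trace R b, this, LinearMap.trace_eq_matrix_trace R bW,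
      LinearMap.trace_eq_matrix_trace R bQ]
    simp [Matrix.trace, Fintype.sum_sum_type, A, D]
  ext u v
  cases u with
  | inl i =>
    cases v with
    | inl k =>
      simp only [b, sumQuot_inl, Matrix.fromBlocks_apply₁₁, A, LinearMap.toMatrix_apply]
      apply sumQuot_repr_inl_of_mem
    | inr l => simp [b, LinearMap.toMatrix_apply, Matrix.fromBlocks_apply₁₂, B]
  | inr j =>
    cases v with
    | inl k =>
      suffices W.mkQ (e (bW k)) = 0 by simp [LinearMap.toMatrix_apply, b, this]
      rw [← LinearMap.mem_ker, Submodule.ker_mkQ]
      exact he (Submodule.coe_mem (bW k))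
    | inr l =>
      simp only [LinearMap.toMatrix_apply, sumQuot_repr_inr,
        Matrix.fromBlocks_apply₂₂, b, D]
      rw [← sumQuot_inr bW bQ l, W.mapQ_apply]
      simp

/-- trace additivity along a short exact sequence with compatible endomorphisms -/
theorem trace_exact {R N M Q : Type*} [Field R] [AddCommGroup N] [AddCommGroup M] [AddCommGroup Q]
    [Module R N] [Module R M] [Module R Q] [Module.Finite R M]
    (i : N →ₗ[R] M) (p : M →ₗ[R] Q) (hi : Function.Injective i) (hp : Function.Surjective p)
    (hex : Function.Exact i p)
    (fN : N →ₗ[R] N) (fM : M →ₗ[R] M) (fQ : Q →ₗ[R] Q)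
    (h1 : ∀ x, fM (i x) = i (fN x)) (h2 : ∀ x, p (fM x) = fQ (p x)) :
    LinearMap.trace R M fM = LinearMap.trace R N fN + LinearMap.trace R Q fQ := by
  have hW : LinearMap.range i = LinearMap.ker p := (LinearMap.exact_iff.mp hex).symm
  have he : LinearMap.range i ≤ (LinearMap.range i).comap fM := by
    rintro _ ⟨x, rfl⟩
    exact ⟨fN x, (h1 x).symm⟩
  rw [trace_eq_add (LinearMap.range i) fM he]
  congr 1
  · let e1 : N ≃ₗ[R] LinearMap.range i := LinearEquiv.ofInjective i hi
    have : fM.restrict he = e1.conj fN := by
      ext w
      obtain ⟨n, rfl⟩ := e1.surjective w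
      simp only [LinearEquiv.conj_apply, LinearMap.coe_comp, LinearEquiv.coe_coe,
        Function.comp_apply, LinearEquiv.symm_apply_apply, LinearMap.coe_restrict_apply]
      simp [e1, h1]
    rw [this, LinearMap.trace_conj']
  · let e2 : (M ⧸ LinearMap.range i) ≃ₗ[R] Q :=
      (Submodule.quotEquivOfEq _ _ hW).trans (p.quotKerEquivOfSurjective hp)
    have he2 : ∀ m : M, e2 (Submodule.Quotient.mk m) = p m := by
      intro m
      simp [e2]
    have : fQ = e2.conj ((LinearMap.range i).mapQ (LinearMap.range i) fM he) := by
      ext q
      obtain ⟨x, rfl⟩ := e2.surjective q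
      simp only [LinearEquiv.conj_apply, LinearMap.coe_comp, LinearEquiv.coe_coe,
        Function.comp_apply, LinearEquiv.symm_apply_apply]
      induction x using Submodule.Quotient.induction_on with
      | _ m =>
        rw [he2]
        erw [Submodule.mapQ_apply]
        rw [he2, h2]
    rw [this, LinearMap.trace_conj']

open IsLocalRing in
theorem traceT (k A : Type u) [Field k] [CommRing A] [Algebra k A] [FiniteDimensional k A]
    [IsLocalRing A] (n : ℕ) :
    ∀ (M : Type u) [AddCommGroup M] [Module k M] [Module A M] [IsScalarTower k A M]
      [Module.Finite k M],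
      Module.length A M = (n : ℕ∞) → ∀ a : A,
      LinearMap.trace k M (Algebra.lsmul k k M a) =
        (n : k) * Algebra.trace k (ResidueField A) (residue A a) := by
  induction n with
  | zero =>
    intro M _ _ _ _ _ hM a
    have : Subsingleton M := Module.length_eq_zero_iff.mp (by simpa using hM)
    have h0 : (Algebra.lsmul k k M a) = 0 := Subsingleton.elim _ _
    rw [h0]; simp
  | succ n ih =>
    intro M _ _ _ _ _ hM a
    have hnt : Nontrivial M := by
      rw [← Module.length_pos_iff (R := A), hM]
      exact_mod_cast Nat.succ_pos n
    haveI : IsArtinian k M := inferInstance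
    haveI : IsArtinian A M := isArtinian_of_tower k inferInstance
    haveI : IsNoetherian A M := isNoetherian_of_tower k inferInstance
    obtain ⟨N, hN⟩ := IsAtomic.exists_atom (Submodule A M)
    haveI hsimp : IsSimpleModule A N := isSimpleModule_iff_isAtom.mpr hN
    obtain ⟨I, hI, ⟨e⟩⟩ := isSimpleModule_iff_quot_maximal.mp hsimp
    have hIm : I = IsLocalRing.maximalIdeal A := IsLocalRing.eq_maximalIdeal hI
    subst hIm
    have hlen : Module.length A M = Module.length A N + Module.length A (M ⧸ N) :=
      Module.length_eq_add_of_exact N.subtype N.mkQ N.injective_subtype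
        (Submodule.mkQ_surjective N) (LinearMap.exact_subtype_mkQ N)
    rw [Module.length_eq_one A N, hM] at hlen
    have hQ : Module.length A (M ⧸ N) = n := by
      have hne : Module.length A (M ⧸ N) ≠ ⊤ := Module.length_ne_top
      lift Module.length A (M ⧸ N) to ℕ using hne with l hl
      norm_cast at hlen ⊢
      omega
    haveI : Module.Finite k N :=
      Module.Finite.of_injective (N.subtype.restrictScalars k) N.injective_subtype
    haveI : Module.Finite k (M ⧸ N) :=
      Module.Finite.of_surjective (N.mkQ.restrictScalars k) (Submodule.mkQ_surjective N)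
    have key := trace_exact (N.subtype.restrictScalars k) (N.mkQ.restrictScalars k)
      N.injective_subtype (Submodule.mkQ_surjective N) (LinearMap.exact_subtype_mkQ N)
      (Algebra.lsmul k k N a) (Algebra.lsmul k k M a) (Algebra.lsmul k k (M ⧸ N) a)
      (fun x => rfl) (fun x => rfl)
    rw [key, ih (M ⧸ N) hQ a]
    have hN1 : LinearMap.trace k N (Algebra.lsmul k k N a) =
        Algebra.trace k (ResidueField A) (residue A a) := by
      let e' : N ≃ₗ[k] IsLocalRing.ResidueField A := e.restrictScalars k
      have : Algebra.lmul k (ResidueField A) (residue A a) = e'.conj (Algebra.lsmul k k N a) := by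
        ext x
        obtain ⟨y, rfl⟩ := e'.surjective x
        simp only [LinearEquiv.conj_apply, LinearMap.coe_comp, LinearEquiv.coe_coe,
          Function.comp_apply, LinearEquiv.symm_apply_apply]
        have h3 : ∀ z : ResidueField A, a • z = residue A a * z := fun z => by
          rw [Algebra.smul_def, ResidueField.algebraMap_eq]
        exact (h3 (e y)).symm.trans (map_smul e a y).symm
      rw [Algebra.trace_apply, this, LinearMap.trace_conj']
    rw [hN1]; push_cast; ring

open IsLocalRing in
/-- Equivalence of (1) and (3): let k be a field and A a finite-dimensional local k-algebra with residue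
field k'. Then the trace map Tr_{A/k} is not identically zero if and only if k' is separable over k
and the length of A as a module over itself is not divisible by the characteristic of k (no
condition in characteristic zero). -/
theorem result (k A : Type u) [Field k] [CommRing A]
    [Algebra k A] [FiniteDimensional k A] [IsLocalRing A] :
    Algebra.trace k A ≠ 0 ↔
      (Algebra.IsSeparable k (IsLocalRing.ResidueField A) ∧
        ∀ p : ℕ, p.Prime → CharP k p → ¬ p ∣ (Module.length A A).toNat) := by
  haveI : IsArtinianRing A := IsArtinianRing.of_finite k A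
  haveI : IsNoetherianRing A := inferInstance
  have hne : Module.length A A ≠ ⊤ := Module.length_ne_top
  set l := (Module.length A A).toNat with hl
  have hlen : Module.length A A = (l : ℕ∞) := (ENat.natCast_toNat hne).symm
  have hl0 : l ≠ 0 := by
    intro h0
    rw [h0] at hlen
    have : Subsingleton A := Module.length_eq_zero_iff.mp (by simpa using hlen)
    exact not_subsingleton A this
  have hT : ∀ a : A, Algebra.trace k A a =
      (l : k) * Algebra.trace k (ResidueField A) (residue A a) := by
    intro a
    rw [← traceT k A l A hlen a, Algebra.trace_apply]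
    congr 1
  haveI : FiniteDimensional k (ResidueField A) := inferInstance
  have hcast : ∀ p : ℕ, CharP k p → ((l : k) = 0 ↔ p ∣ l) := fun p hp =>
    CharP.cast_eq_zero_iff k p l
  constructor
  · intro h
    obtain ⟨a, ha⟩ : ∃ a, Algebra.trace k A a ≠ 0 := by
      by_contra hcon
      push Not at hcon
      exact h (LinearMap.ext hcon)
    rw [hT a] at ha
    have h1 : (l : k) ≠ 0 := left_ne_zero_of_mul ha
    have h2 : Algebra.trace k (ResidueField A) (residue A a) ≠ 0 := right_ne_zero_of_mul ha
    refine ⟨?_, ?_⟩
    · by_contra hsep
      rw [Algebra.trace_eq_zero_of_not_isSeparable hsep] at h2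
      exact h2 rfl
    · intro p _ hp hdvd
      exact h1 ((hcast p hp).mpr hdvd)
  · rintro ⟨hsep, hp⟩
    have h1 : (l : k) ≠ 0 := by
      obtain ⟨p, hpc⟩ := CharP.exists k
      intro h0
      have hd := (hcast p hpc).mp h0
      rcases CharP.char_is_prime_or_zero k p with hprime | hzero
      · exact hp p hprime hpc hd
      · rw [hzero, zero_dvd_iff] at hd
        exact hl0 hd
    have h2 : Algebra.trace k (ResidueField A) ≠ 0 := Algebra.trace_ne_zero k (ResidueField A)
    obtain ⟨x, hx⟩ : ∃ x, Algebra.trace k (ResidueField A) x ≠ 0 := by
      by_contra hcon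
      push Not at hcon
      exact h2 (LinearMap.ext hcon)
    obtain ⟨a, rfl⟩ := residue_surjective x
    intro h0
    have := hT a
    rw [h0] at this
    exact mul_ne_zero h1 hx this.symm

end Groth.Agent.S2219
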