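import Groth.Statements.S3809
import Groth.Agent.Lib.QuotPow
import Mathlib.LinearAlgebra.TensorProduct.Quotient

set_option autoImplicit false
universe u
open scoped TensorProduct
open PP16

namespace Groth.Agent.S3809

theorem tensorMap_eq (A B C : Type u) [CommRing A] [CommRing B] [CommRing C]
    [Algebra A B] [Algebra B C] [Algebra A C] [IsScalarTower A B C] (x : C ⊗[A] C) :
    PP16.tensorMap A C B C x = TensorProduct.mapOfCompatibleSMul B A B C C x := by
  induction x with
  | zero => simp
  | tmul b c =>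
    rw [PP16.tensorMap_tmul]
    rfl
  | add x y hx hy => rw [map_add, map_add, hx, hy]

theorem ker_tensorMap (A B C : Type u) [CommRing A] [CommRing B] [CommRing C]
    [Algebra A B] [Algebra B C] [Algebra A C] [IsScalarTower A B C] :
    RingHom.ker (PP16.tensorMap A C B C) =
      (KaehlerDifferential.ideal A B).map (PP16.tensorMap A B A C) := by
  apply le_antisymm
  · intro x hx
    rw [RingHom.mem_ker, tensorMap_eq] at hx
    have hx' : x ∈ LinearMap.ker (TensorProduct.mapOfCompatibleSMul B A B C C) := hx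
    rw [TensorProduct.AlgebraTensorModule.ker_mapOfCompatibleSMul] at hx'
    have hle : Submodule.span B {x | ∃ (a : B) (m : C) (n : C),
        (a • m) ⊗ₜ[A] n - m ⊗ₜ[A] (a • n) = x} ≤
        ((KaehlerDifferential.ideal A B).map (PP16.tensorMap A B A C)).restrictScalars B := by
      rw [Submodule.span_le]
      rintro _ ⟨a, m, n, rfl⟩
      have h1 : (a • m) ⊗ₜ[A] n - m ⊗ₜ[A] (a • n) =
          (m ⊗ₜ[A] n) * (- PP16.tensorMap A B A C ((1 : B) ⊗ₜ[A] a - a ⊗ₜ[A] (1 : B))) := by
        rw [map_sub, PP16.tensorMap_tmul, PP16.tensorMap_tmul, map_one, neg_sub, mul_sub,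
          Algebra.TensorProduct.tmul_mul_tmul, Algebra.TensorProduct.tmul_mul_tmul, mul_one, mul_one,
          Algebra.smul_def, Algebra.smul_def, mul_comm m, mul_comm n]
      rw [h1]
      apply Ideal.mul_mem_left
      apply neg_mem
      exact Ideal.mem_map_of_mem _ (KaehlerDifferential.one_smul_sub_smul_one_mem_ideal A a)
    exact hle hx'
  · rw [← KaehlerDifferential.span_range_eq_ideal, Ideal.map_span, Ideal.span_le]
    rintro _ ⟨_, ⟨s, rfl⟩, rfl⟩
    rw [SetLike.mem_coe, RingHom.mem_ker, map_sub, PP16.tensorMap_tmul, PP16.tensorMap_tmul, map_one,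
      map_sub, PP16.tensorMap_tmul, PP16.tensorMap_tmul, map_one, sub_eq_zero]
    simp only [Algebra.algebraMap_self, RingHom.id_apply]
    rw [Algebra.algebraMap_eq_smul_one, TensorProduct.smul_tmul]

/-- Let A → B → C be ring maps. Then the canonical map P^n_{C/A} → P^n_{C/B} is surjective, and its
kernel is the ideal generated by the image, under the canonical map P^n_{B/A} → P^n_{C/A}, of the
augmentation ideal of P^n_{B/A}. -/
theorem result (n : ℕ) (A B C : Type u) [CommRing A] [CommRing B] [CommRing C]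
    [Algebra A B] [Algebra B C] [Algebra A C] [IsScalarTower A B C] :
    Function.Surjective (PP16.map n A C B C) ∧
      RingHom.ker (PP16.map n A C B C) = (PP16.augIdeal n A B).map (PP16.map n A B A C) := by
  have hφsurj : Function.Surjective (PP16.tensorMap A C B C) := by
    intro y
    obtain ⟨x, rfl⟩ := TensorProduct.mapOfCompatibleSMul_surjective B A B C C y
    exact ⟨x, tensorMap_eq A B C x⟩
  have hIJ : (KaehlerDifferential.ideal A C).map (PP16.tensorMap A C B C) =
      KaehlerDifferential.ideal B C := by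
    apply le_antisymm (PP16.ideal_map_tensorMap_le A C B C)
    rw [← KaehlerDifferential.span_range_eq_ideal B C, Ideal.span_le]
    rintro _ ⟨s, rfl⟩
    have h1 : (1 : C) ⊗ₜ[B] s - s ⊗ₜ[B] (1 : C) =
        PP16.tensorMap A C B C ((1 : C) ⊗ₜ[A] s - s ⊗ₜ[A] (1 : C)) := by
      rw [map_sub, PP16.tensorMap_tmul, PP16.tensorMap_tmul, map_one]
      rfl
    change (1 : C) ⊗ₜ[B] s - s ⊗ₜ[B] (1 : C) ∈ _
    rw [h1]
    exact Ideal.mem_map_of_mem _ (KaehlerDifferential.one_smul_sub_smul_one_mem_ideal A s)
  have hIJ' : ((KaehlerDifferential.ideal A C) ^ (n + 1)).map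
      (PP16.tensorMap A C B C).toRingHom = (KaehlerDifferential.ideal B C) ^ (n + 1) := by
    rw [Ideal.map_pow]
    congr 1
  obtain ⟨h1, h2⟩ := Groth.Agent.Lib.QuotPow.surjective_and_ker
    (PP16.tensorMap A C B C).toRingHom hφsurj _ _ hIJ'
    (PP16.map n A C B C).toRingHom (fun x => rfl)
  refine ⟨h1, ?_⟩
  change RingHom.ker (PP16.map n A C B C).toRingHom = _
  rw [h2]
  change Ideal.map _ (RingHom.ker (PP16.tensorMap A C B C)) = _
  rw [ker_tensorMap, PP16.augIdeal]
  rw [Groth.Agent.Lib.QuotPow.map_map_of_eq (PP16.tensorMap A B A C)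
    (Ideal.Quotient.mk (KaehlerDifferential.ideal A C ^ (n + 1)))
    ((Ideal.Quotient.mk (KaehlerDifferential.ideal A C ^ (n + 1))).comp
      (PP16.tensorMap A B A C).toRingHom) (fun x => rfl)]
  rw [Groth.Agent.Lib.QuotPow.map_map_of_eq
    (Ideal.Quotient.mk (KaehlerDifferential.ideal A B ^ (n + 1)))
    (PP16.map n A B A C)
    ((Ideal.Quotient.mk (KaehlerDifferential.ideal A C ^ (n + 1))).comp
      (PP16.tensorMap A B A C).toRingHom) (fun x => rfl)]

end Groth.Agent.S3809
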