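import Groth.Statements.S2220
-- import your own Groth.Agent.* helpers here
import Groth.Agent.S3809
import Mathlib.AlgebraicGeometry.Morphisms.Flat
import Mathlib.Algebra.Category.Ring.Epi
import Mathlib.RingTheory.Flat.Equalizer
import Mathlib.RingTheory.EssentialFiniteness

set_option autoImplicit false
universe u
open AlgebraicGeometry
open Disc

namespace Groth.Agent.S2220

open scoped TensorProduct

section flatann

variable {T' T : Type u} [CommRing T'] [CommRing T]

lemma ann_map_of_flat (τ : T' →+* T) (hτ : τ.Flat) (I' : Ideal T') (hfg : I'.FG) :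
    Submodule.annihilator (I'.map τ) = (Submodule.annihilator I').map τ := by
  classical
  algebraize [τ]
  obtain ⟨s, hs⟩ := hfg
  apply le_antisymm
  · intro t ht
    have ht' : ∀ g ∈ s, t * τ g = 0 := by
      intro g hg
      have h1 : τ g ∈ I'.map τ := Ideal.mem_map_of_mem τ (hs ▸ Ideal.subset_span hg)
      have := Submodule.mem_annihilator.mp ht (τ g) h1
      simpa [smul_eq_mul] using this
    -- the map ψ
    let ψ : T' →ₗ[T'] (s → T') := LinearMap.pi (fun g => LinearMap.mulRight T' (g : T'))
    have hψ : ∀ t' : T', t' ∈ LinearMap.ker ψ ↔ t' ∈ Submodule.annihilator I' := by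
      intro t'
      rw [LinearMap.mem_ker, ← hs, Ideal.span, Submodule.mem_annihilator_span]
      constructor
      · intro h g
        have := congrFun h g
        simpa [ψ, smul_eq_mul] using this
      · intro h
        funext g
        have := h g
        simpa [ψ, smul_eq_mul] using this
    have hex : Function.Exact (LinearMap.ker ψ).subtype ψ := LinearMap.exact_subtype_ker_map ψ
    have hex' := Module.Flat.lTensor_exact T hex
    have hx : (LinearMap.lTensor T ψ) (t ⊗ₜ[T'] (1 : T')) = 0 := by
      rw [LinearMap.lTensor_tmul]
      have h1 : ψ 1 = ∑ g : s, (g : T') • (Pi.single g (1 : T') : s → T') := by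
        funext g
        rw [Finset.sum_apply]
        simp only [Pi.smul_apply, Pi.single_apply, smul_eq_mul, mul_ite, mul_one, mul_zero]
        rw [Finset.sum_ite_eq Finset.univ g]
        simp [ψ]
      rw [h1, TensorProduct.tmul_sum]
      apply Finset.sum_eq_zero
      intro g _
      rw [TensorProduct.tmul_smul, TensorProduct.smul_tmul', Algebra.smul_def,
        RingHom.algebraMap_toAlgebra, mul_comm, ht' g g.2, TensorProduct.zero_tmul]
    obtain ⟨y, hy⟩ := (hex' _).mp hx
    have hclaim : ∀ y : T ⊗[T'] (LinearMap.ker ψ),
        (TensorProduct.rid T' T) (LinearMap.lTensor T (LinearMap.ker ψ).subtype y) ∈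
          (Submodule.annihilator I').map τ := by
      intro y
      induction y with
      | zero => simp
      | add a b ha hb =>
        rw [map_add, map_add]
        exact Ideal.add_mem _ ha hb
      | tmul t0 a =>
        rw [LinearMap.lTensor_tmul, TensorProduct.rid_tmul, Submodule.subtype_apply,
          Algebra.smul_def, RingHom.algebraMap_toAlgebra]
        exact Ideal.mul_mem_right _ _ (Ideal.mem_map_of_mem τ ((hψ a.1).mp a.2))
    have := hclaim y
    rw [hy, TensorProduct.rid_tmul, one_smul] at this
    exact this
  · rw [Ideal.map_le_iff_le_comap]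
    intro a ha
    rw [Ideal.mem_comap, Submodule.mem_annihilator]
    intro x hx
    rw [smul_eq_mul]
    induction hx using Submodule.span_induction with
    | mem x hx =>
      obtain ⟨x', hx', rfl⟩ := hx
      rw [← map_mul]
      have := Submodule.mem_annihilator.mp ha x' hx'
      rw [smul_eq_mul] at this
      rw [this, map_zero]
    | zero => simp
    | add x y _ _ hx hy => rw [mul_add, hx, hy, add_zero]
    | smul r x _ hx => rw [smul_eq_mul, mul_left_comm, hx, mul_zero]

end flatann

open CategoryTheory in
/-- Part (2): for ring maps A -> B' -> B with B' of finite type over A and Spec B -> Spec B' an open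
immersion, the Noether different of B over A is the ideal generated by the image of that of B'. -/
theorem result {A B' B : Type u} [CommRing A] [CommRing B']
    [CommRing B] [Algebra A B'] [Algebra A B] [Algebra B' B] [IsScalarTower A B' B]
    [Algebra.FiniteType A B']
    (h : IsOpenImmersion (Spec.map (CommRingCat.ofHom (algebraMap B' B)))) :
    Disc.noetherDifferent A B = (Disc.noetherDifferent A B').map (algebraMap B' B) := by
  -- flat
  have hflat : (algebraMap B' B).Flat := by
    have h1 : Flat (Spec.map (CommRingCat.ofHom (algebraMap B' B))) := inferInstance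
    exact Flat.SpecMap_iff.mp h1
  -- epi
  have hepi : Algebra.IsEpi B' B := by
    rw [← CommRingCat.epi_iff_epi]
    constructor
    intro T g g' e
    apply Spec.map_injective
    rw [← cancel_mono (Spec.map (CommRingCat.ofHom (algebraMap B' B))), ← Spec.map_comp,
      ← Spec.map_comp, e]
  let φ : B' →ₐ[A] B := IsScalarTower.toAlgHom A B' B
  have hφ : φ.toRingHom.Flat := hflat
  have hτeq : (PP16.tensorMap A B' A B : B' ⊗[A] B' →ₐ[A] B ⊗[A] B) =
      Algebra.TensorProduct.map φ φ := by
    apply Algebra.TensorProduct.ext'
    intro b c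
    rw [PP16.tensorMap_tmul, Algebra.TensorProduct.map_tmul]
    rfl
  have hτ : (PP16.tensorMap A B' A B : B' ⊗[A] B' →ₐ[A] B ⊗[A] B).toRingHom.Flat := by
    rw [hτeq]
    exact RingHom.Flat.tensorProductMap hφ hφ
  -- I = I' T
  have hI : KaehlerDifferential.ideal A B =
      (KaehlerDifferential.ideal A B').map (PP16.tensorMap A B' A B).toRingHom := by
    apply le_antisymm
    · rw [← KaehlerDifferential.span_range_eq_ideal, Ideal.span_le]
      rintro _ ⟨s, rfl⟩
      have hk := Groth.Agent.S3809.ker_tensorMap A B' B
      change _ ∈ (KaehlerDifferential.ideal A B').map (PP16.tensorMap A B' A B)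
      rw [← hk]
      change (1 : B) ⊗ₜ[A] s - s ⊗ₜ[A] (1 : B) ∈ RingHom.ker (PP16.tensorMap A B B' B)
      rw [RingHom.mem_ker, map_sub, PP16.tensorMap_tmul,
        PP16.tensorMap_tmul, map_one, Algebra.algebraMap_self_apply,
        (Algebra.isEpi_iff_forall_one_tmul_eq B' B).mp hepi s, sub_self]
    · exact PP16.ideal_map_tensorMap_le A B' A B
  unfold Disc.noetherDifferent
  change Ideal.map (Algebra.TensorProduct.lmul' (S := B) A).toRingHom
      (Submodule.annihilator (KaehlerDifferential.ideal A B)) =
    Ideal.map (algebraMap B' B) (Ideal.map (Algebra.TensorProduct.lmul' (S := B') A).toRingHom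
      (Submodule.annihilator (KaehlerDifferential.ideal A B')))
  rw [hI, ann_map_of_flat _ hτ _ (KaehlerDifferential.ideal_fg A B'), Ideal.map_map, Ideal.map_map]
  congr 1
  apply RingHom.ext
  intro x
  induction x with
  | zero => simp
  | add x y hx hy => rw [map_add, map_add, hx, hy]
  | tmul b c =>
    simp only [RingHom.comp_apply, AlgHom.toRingHom_eq_coe, RingHom.coe_coe]
    rw [PP16.tensorMap_tmul, Algebra.TensorProduct.lmul'_apply_tmul,
      Algebra.TensorProduct.lmul'_apply_tmul, map_mul]

end Groth.Agent.S2220
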