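import Groth.Statements.S2229
-- import your own Groth.Agent.* helpers here
import Groth.Agent.S2216
import Groth.Agent.S2221
import Mathlib.RingTheory.PicardGroup
import Mathlib.RingTheory.Artinian.Module
import Mathlib.RingTheory.Ideal.Over
import Mathlib.RingTheory.Norm.Basic
import Mathlib.RingTheory.Discriminant

set_option autoImplicit false
universe u
open Disc

namespace Groth.Agent.S2229

open TensorProduct

section
variable {A B : Type u} [CommRing A] [CommRing B] [Algebra A B]

/-- over a maximal ideal, an invertible module admits a functional which is onto modulo `𝔪`. -/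
lemma exists_hom_surj_mod [Module.Finite A B] (M : Type u) [AddCommGroup M] [Module B M]
    [Module.Invertible B M] (m : Ideal A) [hm : m.IsMaximal] :
    ∃ Φ : M →ₗ[B] B, ∀ b' : B, ∃ w : M, b' - Φ w ∈ m.map (algebraMap A B) := by
  letI := Ideal.Quotient.field m
  have h1 : Module.Finite (A ⧸ m) (B ⧸ m.map (algebraMap A B)) :=
    Module.Finite.of_restrictScalars_finite A (A ⧸ m) (B ⧸ m.map (algebraMap A B))
  have h2 : IsArtinianRing (B ⧸ m.map (algebraMap A B)) :=
    IsArtinianRing.of_finite (A ⧸ m) (B ⧸ m.map (algebraMap A B))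
  have h3 : Module.Free (B ⧸ m.map (algebraMap A B)) ((B ⧸ m.map (algebraMap A B)) ⊗[B] M) :=
    inferInstance
  obtain ⟨ψ⟩ := Module.Invertible.free_iff_linearEquiv.mp h3
  let g : M →ₗ[B] (B ⧸ m.map (algebraMap A B)) :=
    (ψ.toLinearMap.restrictScalars B).comp
      ((TensorProduct.mk B (B ⧸ m.map (algebraMap A B)) M 1))
  obtain ⟨Φ, hΦ⟩ := Module.projective_lifting_property
    (Algebra.linearMap B (B ⧸ m.map (algebraMap A B))) g Ideal.Quotient.mk_surjective
  have hone : ∀ y : (B ⧸ m.map (algebraMap A B)) ⊗[B] M,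
      ∃ w : M, (1 : B ⧸ m.map (algebraMap A B)) ⊗ₜ[B] w = y := by
    intro y
    induction y using TensorProduct.induction_on with
    | zero => exact ⟨0, by simp⟩
    | tmul c w =>
      obtain ⟨c, rfl⟩ := Ideal.Quotient.mk_surjective c
      refine ⟨c • w, ?_⟩
      rw [TensorProduct.tmul_smul, TensorProduct.smul_tmul', Algebra.smul_def, mul_one]
      rfl
    | add y z hy hz =>
      obtain ⟨w1, h1⟩ := hy
      obtain ⟨w2, h2⟩ := hz
      exact ⟨w1 + w2, by rw [TensorProduct.tmul_add, h1, h2]⟩
  refine ⟨Φ, fun b' => ?_⟩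
  obtain ⟨y, hy⟩ := ψ.surjective (Ideal.Quotient.mk _ b')
  obtain ⟨w, rfl⟩ := hone y
  refine ⟨w, ?_⟩
  rw [← Ideal.Quotient.eq, ← hy]
  have := LinearMap.congr_fun hΦ w
  exact this.symm

end

section mat
variable {A B : Type u} [CommRing A] [CommRing B] [Algebra A B]
variable {ι : Type} [Fintype ι] [DecidableEq ι] (b : Module.Basis ι A B)

/-- `toLinearMap` as an additive map. -/
def toLM : Disc.Omega A B →+ (B →ₗ[A] A) where
  toFun := Disc.Omega.toLinearMap
  map_zero' := rfl
  map_add' _ _ := rfl

/-- the matrix of a `B`-linear map `ω → B` in the dual basis and the basis. -/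
noncomputable def Cmat (Φ : Disc.Omega A B →ₗ[B] B) : Matrix ι ι A :=
  Matrix.of fun i k => b.repr (Φ ⟨b.coord i⟩) k

lemma omega_expand (w : Disc.Omega A B) :
    w = ∑ i, (algebraMap A B (w.toLinearMap (b i))) • (⟨b.coord i⟩ : Disc.Omega A B) := by
  apply Disc.Omega.ext
  apply LinearMap.ext
  intro y
  change w.toLinearMap y = toLM (∑ i, (algebraMap A B (w.toLinearMap (b i))) •
    (⟨b.coord i⟩ : Disc.Omega A B)) y
  rw [map_sum, LinearMap.sum_apply]
  conv_lhs => rw [← b.sum_repr y, map_sum]
  apply Finset.sum_congr rfl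
  intro i _
  change _ = (b.coord i) (algebraMap A B (w.toLinearMap (b i)) * y)
  rw [map_smul, smul_eq_mul, ← Algebra.smul_def, map_smul, smul_eq_mul, Module.Basis.coord_apply,
    mul_comm]

lemma repr_Phi (Φ : Disc.Omega A B →ₗ[B] B) (w : Disc.Omega A B) (k : ι) :
    b.repr (Φ w) k = ∑ i, w.toLinearMap (b i) * Cmat b Φ i k := by
  conv_lhs => rw [omega_expand b w, map_sum, map_sum, Finsupp.finsetSum_apply]
  apply Finset.sum_congr rfl
  intro i _
  rw [map_smul, smul_eq_mul, ← Algebra.smul_def, map_smul, Finsupp.smul_apply, smul_eq_mul]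
  rfl

lemma repr_mem_of_mem_map (m : Ideal A) (x : B) (hx : x ∈ m.map (algebraMap A B)) :
    ∀ k : ι, b.repr x k ∈ m := by
  unfold Ideal.map at hx
  induction hx using Submodule.span_induction with
  | mem x h =>
    obtain ⟨a, ha, rfl⟩ := h
    intro k
    rw [Algebra.algebraMap_eq_smul_one, map_smul, Finsupp.smul_apply, smul_eq_mul]
    exact Ideal.mul_mem_right _ _ ha
  | zero => intro k; simp
  | add x y _ _ hx hy =>
    intro k
    rw [map_add, Finsupp.add_apply]
    exact Ideal.add_mem _ (hx k) (hy k)
  | smul c x _ hx =>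
    intro k
    have h1 : c • x = ∑ i, (b.repr x i) • (c * b i) := by
      conv_lhs => rw [← b.sum_repr x, smul_eq_mul, Finset.mul_sum]
      apply Finset.sum_congr rfl
      intro i _
      rw [mul_smul_comm]
    rw [h1, map_sum, Finsupp.finsetSum_apply]
    apply Ideal.sum_mem
    intro i _
    rw [map_smul, Finsupp.smul_apply, smul_eq_mul]
    exact Ideal.mul_mem_right _ _ (hx i)

lemma det_not_mem (m : Ideal A) [hm : m.IsMaximal] (Φ : Disc.Omega A B →ₗ[B] B)
    (hΦ : ∀ b' : B, ∃ w : Disc.Omega A B, b' - Φ w ∈ m.map (algebraMap A B)) :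
    (Cmat b Φ).det ∉ m := by
  choose w hw using fun j => hΦ (b j)
  let Q : Matrix ι ι A := Matrix.of fun j i => (w j).toLinearMap (b i)
  have h1 : ∀ j k, (1 : Matrix ι ι A) j k - (Q * Cmat b Φ) j k ∈ m := by
    intro j k
    have := repr_mem_of_mem_map b m _ (hw j) k
    rw [map_sub, Finsupp.sub_apply, Module.Basis.repr_self, repr_Phi] at this
    rw [Matrix.mul_apply, Matrix.one_apply]
    convert this using 2
    · rw [Finsupp.single_apply]
    · rfl
  intro hdet
  have h2 : (Ideal.Quotient.mk m).mapMatrix (Q * Cmat b Φ) = 1 := by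
    ext j k
    rw [RingHom.mapMatrix_apply, Matrix.map_apply]
    have := h1 j k
    rw [← Ideal.Quotient.eq] at this
    rw [← this, Matrix.one_apply, Matrix.one_apply]
    split_ifs <;> simp
  have h3 := congrArg Matrix.det h2
  rw [← RingHom.map_det, Matrix.det_mul, map_mul, Matrix.det_one,
    Ideal.Quotient.eq_zero_iff_mem.mpr hdet, mul_zero] at h3
  have : Nontrivial (A ⧸ m) := Ideal.Quotient.nontrivial_iff.mpr hm.ne_top
  exact zero_ne_one h3

lemma norm_Phi_trace [Module.Finite A B] [Module.Free A B] [Module.Invertible B (Disc.Omega A B)]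
    (Φ : Disc.Omega A B →ₗ[B] B) :
    Algebra.norm A (Φ (Disc.Omega.trace A B)) = (Cmat b Φ).det * Algebra.discr A b := by
  have hc : ∀ (i : ι) (y : B), b.coord i (Φ (Disc.Omega.trace A B) * y) =
      Algebra.trace A B (Φ ⟨b.coord i⟩ * y) := by
    intro i y
    have h := Groth.Agent.S2221.dual_swap Φ (Disc.Omega.trace A B) ⟨b.coord i⟩
    have h2 := congrArg (fun l : Disc.Omega A B => l.toLinearMap y) h
    simp only [Disc.Omega.smul_toLinearMap_apply] at h2
    exact h2
  have hmat : Algebra.leftMulMatrix b (Φ (Disc.Omega.trace A B)) =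
      Cmat b Φ * Algebra.traceMatrix A b := by
    ext i j
    rw [Algebra.leftMulMatrix_eq_repr_mul, Matrix.mul_apply]
    have h1 : b.repr (Φ (Disc.Omega.trace A B) * b j) i =
        Algebra.trace A B (Φ ⟨b.coord i⟩ * b j) := hc i (b j)
    rw [h1]
    conv_lhs => rw [← b.sum_repr (Φ ⟨b.coord i⟩)]
    rw [Finset.sum_mul, map_sum]
    refine Finset.sum_congr rfl fun k _ => ?_
    rw [Cmat, Matrix.of_apply, Algebra.traceMatrix_apply, Algebra.traceForm_apply, smul_mul_assoc,
      map_smul, smul_eq_mul]
  rw [Algebra.norm_eq_matrix_det b, hmat, Matrix.det_mul, Algebra.discr_def]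

end mat

/-- Part (2), special case: affine with B finite free over the Noetherian ring A (basis b) and omega =
Hom_A(B, A) an invertible B-module. Then the ideal of A generated by the norms of all elements of
the different of B over A equals the ideal generated by the discriminant of the basis b (the norm of
the ramification locus is the discriminant). -/
theorem result {A B : Type u} [CommRing A] [CommRing B]
    [Algebra A B] [IsNoetherianRing A] {ι : Type} [Fintype ι] [DecidableEq ι]
    (b : Module.Basis ι A B) [Module.Invertible B (Disc.Omega A B)] :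
    Ideal.span (Algebra.norm A '' Disc.differentSet A B) = Ideal.span {Algebra.discr A b} := by
  have hfin : Module.Finite A B := Module.Finite.of_basis b
  have hfree : Module.Free A B := Module.Free.of_basis b
  apply le_antisymm
  · rw [Ideal.span_le]
    rintro _ ⟨x, hx, rfl⟩
    exact Groth.Agent.S2216.result b x hx
  · rw [Ideal.span_le, Set.singleton_subset_iff]
    have htop : Ideal.span (Set.range fun Φ : Disc.Omega A B →ₗ[B] B => (Cmat b Φ).det) = ⊤ := by
      by_contra hne
      obtain ⟨m, hm, hle⟩ := Ideal.exists_le_maximal _ hne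
      obtain ⟨Φ, hΦ⟩ := exists_hom_surj_mod (A := A) (B := B) (Disc.Omega A B) m
      exact det_not_mem b m Φ hΦ (hle (Ideal.subset_span ⟨Φ, rfl⟩))
    have h1 : (1 : A) ∈ Ideal.span
        (Set.range fun Φ : Disc.Omega A B →ₗ[B] B => (Cmat b Φ).det) := by
      rw [htop]; trivial
    have key : ∀ a ∈ Ideal.span (Set.range fun Φ : Disc.Omega A B →ₗ[B] B => (Cmat b Φ).det),
        a * Algebra.discr A b ∈ Ideal.span (Algebra.norm A '' Disc.differentSet A B) := by
      intro a ha
      induction ha using Submodule.span_induction with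
      | mem a h =>
        obtain ⟨Φ, rfl⟩ := h
        rw [← norm_Phi_trace b Φ]
        apply Ideal.subset_span
        refine ⟨Φ (Disc.Omega.trace A B), ?_, rfl⟩
        rw [Groth.Agent.S2221.result, Groth.Agent.S2215.result]
        exact ⟨Φ, rfl⟩
      | zero => simp
      | add x y _ _ hx hy => rw [add_mul]; exact Ideal.add_mem _ hx hy
      | smul c x _ hx => rw [smul_eq_mul, mul_assoc]; exact Ideal.mul_mem_left _ _ hx
    simpa using key 1 h1

end Groth.Agent.S2229
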