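import Groth.Statements.S2234
import Groth.Agent.Lib.NLFibre32
import Groth.Agent.Lib.SyntLCI3

set_option autoImplicit false
universe u
attribute [local instance] HasDerivedCategory.standard
open LCI

namespace Groth.Agent.S2234

/-- Equivalence of (1) and (4): take a ring map A -> B that is flat and of finite presentation. The
naive cotangent complex NL_{B/A} has tor-amplitude in [-1, 0] (it is isomorphic in D(B) to a
two-term complex of flat modules in those degrees) if and only if A -> B is a local complete
intersection homomorphism (some presentation has Koszul-regular kernel ideal). -/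
theorem result {A B : Type u} [CommRing A] [CommRing B] [Algebra A B]
    [Module.Flat A B] [Algebra.FinitePresentation A B] :
    DRing.HasTorAmplitudeIn B (-1) 0 (LCI.NL A B) ↔ LCI.IsLCI A B := by
  refine ⟨fun h => ?_, fun h => (Groth.Agent.S7072.result h).2⟩
  have hft : Algebra.FiniteType A B := inferInstance
  obtain ⟨n, f, hf⟩ := Algebra.FiniteType.iff_quotient_mvPolynomial''.mp hft
  have hfe : (MvPolynomial.aeval (R := A) fun i : Fin n => f (MvPolynomial.X i)) = f := by
    apply MvPolynomial.algHom_ext
    intro i
    simp
  let G : Algebra.Generators A B (Fin n) :=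
    Algebra.Generators.ofSurjective (fun i => f (MvPolynomial.X i)) (by rw [hfe]; exact hf)
  have hflat : Module.Flat B G.toExtension.Cotangent :=
    Groth.Agent.Lib.NLTorAmp32.flat_cotangent_of_hasTorAmplitudeIn G h
  refine Groth.Agent.Lib.SyntLCI.isLCI_of_isSyntomic ⟨inferInstance, inferInstance, fun p => ?_⟩
  exact Groth.Agent.Lib.SyntLCI.isLCIOver_of_isLCI _
    (Groth.Agent.Lib.NLFibre32.isLCI_tensor_field G p.asIdeal.ResidueField)

end Groth.Agent.S2234
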