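import Groth.Statements.S7072
import Groth.Agent.Lib.NLIndep32
import Groth.Agent.Lib.ConormalKoszul32

set_option autoImplicit false
universe u
attribute [local instance] HasDerivedCategory.standard
open LCI

namespace Groth.Agent.S7072

/-- For a local complete intersection homomorphism of commutative rings A → B, the naive cotangent
complex NL_{B/A} is a perfect object of D(B) and has tor amplitude in [-1, 0]. -/
theorem result {A B : Type u} [CommRing A] [CommRing B] [Algebra A B]
    (h : LCI.IsLCI A B) :
    DRing.IsPerfect B (LCI.NL A B) ∧ DRing.HasTorAmplitudeIn B (-1) 0 (LCI.NL A B) := by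
  obtain ⟨-, n, f, hf, hK⟩ := h
  have hfe : (MvPolynomial.aeval (R := A) fun i : Fin n => f (MvPolynomial.X i)) = f := by
    apply MvPolynomial.algHom_ext
    intro i
    simp
  let G : Algebra.Generators A B (Fin n) :=
    Algebra.Generators.ofSurjective (fun i => f (MvPolynomial.X i)) (by rw [hfe]; exact hf)
  have hker : G.toExtension.ker = RingHom.ker f.toRingHom := by
    ext x
    change algebraMap G.Ring B x = 0 ↔ f x = 0
    rw [Algebra.Generators.algebraMap_apply]
    change (MvPolynomial.aeval (R := A) fun i : Fin n => f (MvPolynomial.X i)) x = 0 ↔ f x = 0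
    rw [hfe]
  have hK' : LCI.IsKoszulRegularIdeal G.toExtension.ker := by
    rw [hker]
    exact hK
  obtain ⟨hfin, hproj⟩ := Groth.Agent.Lib.ConormalKoszul32.finite_projective_cotangent G.toExtension hK'
  obtain ⟨e⟩ := Groth.Agent.Lib.NLIndep32.nonempty_toD_tt_iso_NL_fin G
  have hvan : DRing.VanishesOutside (Groth.Agent.Lib.NLIndep32.tt G.toExtension) (-1) 0 := by
    intro i hi
    exact Groth.Agent.Lib.QuasiIsoElem.twoTerm_isZero _ i (by omega) (by omega)
  have hfp : DRing.TermwiseFiniteProjective (Groth.Agent.Lib.NLIndep32.tt G.toExtension) := by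
    intro i
    by_cases h1 : i = -1
    · subst h1
      exact ⟨hfin, hproj⟩
    · by_cases h0 : i = 0
      · subst h0
        change Module.Finite B G.toExtension.CotangentSpace ∧
          Module.Projective B G.toExtension.CotangentSpace
        have hfree : Module.Free B G.toExtension.CotangentSpace :=
          Module.Free.of_basis G.cotangentSpaceBasis
        exact ⟨Module.Finite.of_basis G.cotangentSpaceBasis, inferInstance⟩
      · have hs : Subsingleton ((Groth.Agent.Lib.NLIndep32.tt G.toExtension).X i) :=
          Groth.Agent.Lib.NLIndep32.subsingleton_tt_X _ i h1 h0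
        exact ⟨inferInstance, inferInstance⟩
  refine ⟨⟨_, -1, 0, hvan, hfp, ⟨e⟩⟩, ⟨_, hvan, ?_, ⟨e⟩⟩⟩
  intro i
  have := (hfp i).2
  infer_instance

end Groth.Agent.S7072
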