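import Groth.Statements.S2236
import Groth.Agent.S7072
import Groth.Agent.S2189
import Groth.Agent.Lib.NLTorAmp32
import Groth.Agent.Lib.TorDimPoly

set_option autoImplicit false
universe u
attribute [local instance] HasDerivedCategory.standard
open LCI

namespace Groth.Agent.S2236

open Algebra in
/-- transport of projectivity of the conormal module from `P.Cotangent` over `S` to `P.ker.Cotangent` over
`P.Ring ⧸ P.ker` -/
theorem projective_ker_cotangent {A S : Type u} [CommRing A] [CommRing S] [Algebra A S]
    (P : Extension.{u} A S) [Module.Projective S P.Cotangent] :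
    Module.Projective (P.Ring ⧸ P.ker) P.ker.Cotangent := by
  obtain ⟨e, he⟩ : ∃ e : S ≃+* (P.Ring ⧸ P.ker),
      ∀ r, e (algebraMap P.Ring S r) = Ideal.Quotient.mk P.ker r :=
    ⟨(RingHom.quotientKerEquivOfSurjective (f := algebraMap P.Ring S)
      P.algebraMap_surjective).symm, fun r => by
        rw [RingEquiv.symm_apply_eq]
        rfl⟩
  have i1 : RingHomInvPair (e : S →+* P.Ring ⧸ P.ker) (e.symm : P.Ring ⧸ P.ker →+* S) :=
    RingHomInvPair.of_ringEquiv e
  have i2 : RingHomInvPair (e.symm : P.Ring ⧸ P.ker →+* S) (e : S →+* P.Ring ⧸ P.ker) :=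
    RingHomInvPair.of_ringEquiv_symm e
  let e₂ : P.Cotangent ≃ₛₗ[(e : S →+* P.Ring ⧸ P.ker)] P.ker.Cotangent :=
    { toFun := Extension.Cotangent.val
      invFun := Extension.Cotangent.of
      map_add' := fun _ _ => rfl
      map_smul' := fun b x => by
        obtain ⟨r, rfl⟩ := P.algebraMap_surjective b
        have h1 : e (algebraMap P.Ring S r) = Ideal.Quotient.mk P.ker r := he r
        simp only [RingEquiv.coe_toRingHom]
        rw [h1, algebraMap_smul, Extension.Cotangent.val_smul']
        rfl
      left_inv := fun _ => rfl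
      right_inv := fun _ => rfl }
  exact Module.Projective.of_equiv e₂

/-- Equivalence of (1) and (3): let A be a Noetherian ring and B an A-algebra of finite type which has
finite Tor-dimension as an A-module (so that A -> B is a perfect ring map). Then NL_{B/A} has
tor-amplitude in [-1, 0] if and only if A -> B is a local complete intersection homomorphism (some
presentation has Koszul-regular kernel ideal). -/
theorem result {A B : Type u} [CommRing A] [CommRing B]
    [Algebra A B] [IsNoetherianRing A] [Algebra.FiniteType A B] (hB : DRing.HasFiniteTorDim A B) :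
    DRing.HasTorAmplitudeIn B (-1) 0 (LCI.NL A B) ↔ LCI.IsLCI A B := by
  refine ⟨fun h => ?_, fun h => (Groth.Agent.S7072.result h).2⟩
  have hft : Algebra.FiniteType A B := inferInstance
  obtain ⟨n, f, hf⟩ := Algebra.FiniteType.iff_quotient_mvPolynomial''.mp hft
  have hfe : (MvPolynomial.aeval (R := A) fun i : Fin n => f (MvPolynomial.X i)) = f := by
    apply MvPolynomial.algHom_ext
    intro i
    simp
  let G : Algebra.Generators A B (Fin n) :=
    Algebra.Generators.ofSurjective (fun i => f (MvPolynomial.X i)) (by rw [hfe]; exact hf)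
  have hker : G.toExtension.ker = RingHom.ker f.toRingHom := by
    ext x
    change algebraMap G.Ring B x = 0 ↔ f x = 0
    rw [Algebra.Generators.algebraMap_apply]
    change (MvPolynomial.aeval (R := A) fun i : Fin n => f (MvPolynomial.X i)) x = 0 ↔ f x = 0
    rw [hfe]
  refine ⟨hft, n, f, hf, ?_⟩
  rw [← hker]
  -- Noetherian rings
  have hNP : IsNoetherianRing (MvPolynomial (Fin n) A) := inferInstance
  have hNB : IsNoetherianRing B := Algebra.FiniteType.isNoetherianRing A B
  -- the conormal module is finite projective
  have hflat : Module.Flat B G.toExtension.Cotangent :=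
    Groth.Agent.Lib.NLTorAmp32.flat_cotangent_of_hasTorAmplitudeIn G h
  have hfg : G.toExtension.ker.FG :=
    (isNoetherianRing_iff_ideal_fg (MvPolynomial (Fin n) A)).mp hNP _
  have hfin : Module.Finite B G.toExtension.Cotangent := Algebra.Extension.Cotangent.finite hfg
  have hfp : Module.FinitePresentation B G.toExtension.Cotangent :=
    Module.finitePresentation_of_finite B _
  have hproj : Module.Projective B G.toExtension.Cotangent :=
    Module.Flat.projective_of_finitePresentation
  -- finite projective dimension
  let _ : Algebra (MvPolynomial (Fin n) A) B := G.algebra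
  have : IsScalarTower A (MvPolynomial (Fin n) A) B := inferInstanceAs (IsScalarTower A G.Ring B)
  have hsurj : Function.Surjective (algebraMap (MvPolynomial (Fin n) A) B) :=
    G.toExtension.algebraMap_surjective
  have hproj' : Module.Projective
      (MvPolynomial (Fin n) A ⧸ RingHom.ker (algebraMap (MvPolynomial (Fin n) A) B))
      (RingHom.ker (algebraMap (MvPolynomial (Fin n) A) B)).Cotangent :=
    projective_ker_cotangent G.toExtension
  change LCI.IsKoszulRegularIdeal (RingHom.ker (algebraMap (MvPolynomial (Fin n) A) B))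
  obtain ⟨d, hd⟩ := hB
  have hd' : DRing.HasTorDimLE (MvPolynomial (Fin n) A) (d + n) B :=
    Groth.Agent.Lib.TorDimPoly.hasTorDimLE_mvPolynomial A n B d hd
  have hfinB : Module.Finite (MvPolynomial (Fin n) A) B :=
    Module.Finite.of_surjective (Algebra.linearMap (MvPolynomial (Fin n) A) B) hsurj
  have hpdB := Groth.Agent.Lib.NLTorAmp32.hasProjectiveDimensionLT_of_hasTorDimLE
    (R := MvPolynomial (Fin n) A) B (d + n) hd'
  let Ssc : CategoryTheory.ShortComplex (ModuleCat.{u} (MvPolynomial (Fin n) A)) :=
    CategoryTheory.ShortComplex.mk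
      (ModuleCat.ofHom (RingHom.ker (algebraMap (MvPolynomial (Fin n) A) B)).subtype)
      (ModuleCat.ofHom (Algebra.linearMap (MvPolynomial (Fin n) A) B)) (by
        ext x
        exact x.2)
  have hS : Ssc.ShortExact := by
    refine ModuleCat.shortComplex_shortExact Ssc ?_ Subtype.val_injective hsurj
    intro x
    constructor
    · intro hx
      exact ⟨⟨x, hx⟩, rfl⟩
    · rintro ⟨z, rfl⟩
      exact z.2
  have hprojR : CategoryTheory.Projective Ssc.X₂ := by
    have : Module.Projective (MvPolynomial (Fin n) A) Ssc.X₂ :=
      inferInstanceAs (Module.Projective (MvPolynomial (Fin n) A) (MvPolynomial (Fin n) A))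
    exact Ssc.X₂.projective_of_categoryTheory_projective
  have hpdB' : CategoryTheory.HasProjectiveDimensionLT Ssc.X₃ (d + n + 2) :=
    CategoryTheory.hasProjectiveDimensionLT_of_ge Ssc.X₃ (d + n + 1) (d + n + 2) (by omega)
  have hpdI : CategoryTheory.HasProjectiveDimensionLT
      (ModuleCat.of (MvPolynomial (Fin n) A) (RingHom.ker (algebraMap (MvPolynomial (Fin n) A) B)))
      (d + n + 1) := (hS.hasProjectiveDimensionLT_X₃_iff (d + n) hprojR).mp hpdB'
  intro 𝔭 h𝔭
  obtain ⟨g, hg, rs, hreg, hrs⟩ := Groth.Agent.S2189.result (R := MvPolynomial (Fin n) A)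
    (RingHom.ker (algebraMap (MvPolynomial (Fin n) A) B)) (d + n + 1) hpdI 𝔭.asIdeal h𝔭
  exact ⟨g, hg, rs, Groth.Agent.Lib.NLTorAmp32.isKoszulRegularSeq_of_isWeaklyRegular rs
    hreg.toIsWeaklyRegular, hrs.symm⟩

end Groth.Agent.S2236
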