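import Groth.Statements.S2237
import Groth.Agent.Lib.SyntRelGCI89
import Mathlib.RingTheory.QuasiFinite.Basic
import Mathlib.RingTheory.HopkinsLevitzki

set_option autoImplicit false
universe u
attribute [local instance] HasDerivedCategory.standard
open LCI

namespace Groth.Agent.S2237

/-- Implication (2) to (5), affine form: let A -> B be flat, quasi-finite and a local complete
intersection homomorphism (finite type with a Koszul-regular presentation). Then for every prime q
of B there are g in B outside q, a natural number n and polynomials f_1, ..., f_n in A[x_1, ...,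
x_n] such that B_g is isomorphic as an A-algebra to A[x_1, ..., x_n]/(f_1, ..., f_n). -/
theorem result {A B : Type u} [CommRing A]
    [CommRing B] [Algebra A B] [Module.Flat A B] [Algebra.QuasiFinite A B] (hlci : LCI.IsLCI A B)
    (q : Ideal B) [q.IsPrime] :
    ∃ g : B, g ∉ q ∧ ∃ (n : ℕ) (f : Fin n → MvPolynomial (Fin n) A),
      Nonempty (Localization.Away g ≃ₐ[A]
        (MvPolynomial (Fin n) A ⧸ Ideal.span (Set.range f))) := by
  have hsynt : Synt.IsSyntomic A B := Groth.Agent.Lib.SyntLCI.isSyntomic_of_isLCI_of_flat hlci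
  obtain ⟨g, hg, n, c, F, hF, ⟨e⟩⟩ :=
    Groth.Agent.Lib.SyntRelGCI89.exists_relGCI_of_isSyntomic hsynt q
  refine ⟨g, hg, ?_⟩
  -- the prime of `B_g` over `q`
  let Q : Ideal (Localization.Away g) := q.map (algebraMap B (Localization.Away g))
  have hdisj : Disjoint (Submonoid.powers g : Set B) (q : Set B) := by
    rw [Set.disjoint_left]
    rintro x ⟨k, rfl⟩ hx
    exact hg (Ideal.IsPrime.mem_of_pow_mem inferInstance k hx)
  have hQprime : Q.IsPrime :=
    IsLocalization.isPrime_of_isPrime_disjoint (Submonoid.powers g) _ q inferInstance hdisj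
  have hQcomap : Q.comap (algebraMap B (Localization.Away g)) = q :=
    IsLocalization.under_map_of_isPrime_disjoint (Submonoid.powers g) _ inferInstance hdisj
  -- the prime of `A` below
  let p : PrimeSpectrum A := ⟨q.comap (algebraMap A B), inferInstance⟩
  -- the corresponding prime of the relative global complete intersection
  let Q' : PrimeSpectrum (Synt.RelGCIRing A n c F) :=
    ⟨Q.comap (e.symm : Synt.RelGCIRing A n c F →+* Localization.Away g), Ideal.IsPrime.comap _⟩
  have hp : p ∈ Set.range (PrimeSpectrum.comap (algebraMap A (Synt.RelGCIRing A n c F))) := by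
    refine ⟨Q', ?_⟩
    ext a
    change algebraMap A (Synt.RelGCIRing A n c F) a ∈ Q'.asIdeal ↔ algebraMap A B a ∈ q
    change e.symm (algebraMap A (Synt.RelGCIRing A n c F) a) ∈ Q ↔ _
    rw [e.symm.commutes, ← hQcomap, Ideal.mem_comap, ← IsScalarTower.algebraMap_apply]
  have hnt : Nontrivial (p.asIdeal.Fiber (Synt.RelGCIRing A n c F)) :=
    (PrimeSpectrum.nontrivial_iff_mem_rangeComap p).mpr hp
  obtain ⟨hcn, hdim⟩ := hF p hnt
  -- quasi-finiteness gives fibre dimension zero
  have hqf : Algebra.QuasiFinite A (Synt.RelGCIRing A n c F) :=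
    Algebra.QuasiFinite.of_surjective_algHom (e : Localization.Away g →ₐ[A] _) e.surjective
  have hart : IsArtinianRing (p.asIdeal.Fiber (Synt.RelGCIRing A n c F)) := inferInstance
  have hk0 : Ring.KrullDimLE 0 (p.asIdeal.Fiber (Synt.RelGCIRing A n c F)) :=
    ((isArtinianRing_iff_isNoetherianRing_krullDimLE_zero
      (R := p.asIdeal.Fiber (Synt.RelGCIRing A n c F))).mp hart).2
  have hd0 : ringKrullDim (p.asIdeal.Fiber (Synt.RelGCIRing A n c F)) = 0 :=
    ringKrullDimZero_iff_ringKrullDim_eq_zero.mp hk0
  rw [hd0] at hdim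
  have hnc : n - c = 0 := by
    have : ((0 : ℕ) : WithBot ℕ∞) = ((n - c : ℕ) : WithBot ℕ∞) := by exact_mod_cast hdim
    exact_mod_cast this.symm
  have hceq : c = n := by omega
  subst hceq
  exact ⟨c, F, ⟨e⟩⟩

end Groth.Agent.S2237
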