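import Groth.Statements.S2326
import Groth.Agent.Lib.AmpleIdealTwist
import Groth.Agent.Lib.LocFreeCrit

set_option autoImplicit false
universe u
open CategoryTheory CategoryTheory.Limits AlgebraicGeometry
open EGA2

namespace Groth.Agent.S2326

/-- Let X be a quasi-compact separated scheme (the source also allows a prescheme with Noetherian
underlying space) and L an invertible module. Suppose that for every quasi-coherent ideal sheaf I of
finite type there are n > 0 and k > 0 with I ⊗ L^{⊗n} a quotient of O_X^k. Then L is ample. -/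
theorem result (X : Scheme.{u}) [CompactSpace X] [X.IsSeparated] (L : X.Modules) (hL : PicF.IsInvertible L)
    (h : ∀ I : X.IdealSheafData, BlowUp.IsFiniteTypeIdeal I →
      ∃ (n k : ℕ) (p : FlatMod.freeMod X k ⟶ CohB1.tensorMod (ClSub.idealMod I) (CohB1.tensorPow L (n + 1))), 0 < k ∧ Epi p) :
    CohB1.IsAmple L := by
  classical
  haveI : QuasiSeparatedSpace X := inferInstance
  refine ⟨hL, inferInstance, fun x => ?_⟩
  obtain ⟨U, hU, e₁, 𝓚, hxU, -, he₁, hft, hsupp, h1⟩ :=
    Groth.Agent.Lib.AmpleIdealTwist.exists_ideal_data hL ⊤ x trivial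
  obtain ⟨n, k, p, -, hp⟩ := h 𝓚 hft
  haveI := hp
  let G := Groth.Agent.Lib.LocFreeCrit.generatingSectionsOfEpi p
  have hgg : Curv2.IsGloballyGenerated (CohB1.tensorMod (ClSub.idealMod 𝓚) (CohB1.tensorPow L (n + 1))) :=
    ⟨G.I, G.π, G.epi⟩
  obtain ⟨τ, hxτ, haff⟩ := Groth.Agent.Lib.AmpleIdealTwist.exists_affine_genOn
    (Groth.Agent.Lib.H78TensorGen.isInvertible_tensorPow hL (n + 1)) ⊤ U hU le_top
    (Groth.Agent.Lib.H78TensorGen.isGen_epow he₁ (n + 1)) 𝓚 (fun z _ hz => hsupp z hz) h1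
    (Groth.Agent.Lib.AmpleIdealTwist.isGloballyGenerated_restrict_top hgg ⊤) x hxU
  have hloc : CohB1.genLocus _ (Groth.Agent.Lib.H90Invertible.ofSection τ) =
      Groth.Agent.Lib.H78GenOn.genOn _ ⊤ τ := by
    rw [Groth.Agent.Lib.H78GenOn.genLocus_eq_genOn, Groth.Agent.Lib.H78SecCoord.sec_ofSection]
  refine ⟨n, Groth.Agent.Lib.H90Invertible.ofSection τ ≫
    (Groth.Agent.Lib.OXModTensor.leftUnitor (CohB1.tensorPow L (n + 1))).hom, ?_, ?_⟩
  · rw [Groth.Agent.Lib.H78AmpleUnit.genLocus_comp_iso, hloc]; exact hxτ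
  · rw [Groth.Agent.Lib.H78AmpleUnit.genLocus_comp_iso, hloc]; exact haff

end Groth.Agent.S2326
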