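import Groth.Statements.S2328
import Groth.Agent.Lib.H78AtlasOps

set_option autoImplicit false
universe u
open CategoryTheory CategoryTheory.Limits AlgebraicGeometry
open EGA2

namespace Groth.Agent.S2328

open Groth.Agent.Lib.H90Invertible Groth.Agent.Lib.H78TensorGen Groth.Agent.Lib.H78SecCoord
  Groth.Agent.Lib.H78Atlas Groth.Agent.Lib.H78AtlasOps

/-- Let X be a quasi-compact separated scheme, L an ample invertible module and L' an invertible module
such that every point of X lies in the generating locus X_{s'} of some global section s' of some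
positive power of L'. Then L ⊗ L' is ample. -/
theorem result (X : Scheme.{u}) [CompactSpace X] [X.IsSeparated] (L L' : X.Modules) (hL : CohB1.IsAmple L) (hL' : PicF.IsInvertible L')
    (h : ∀ x : X, ∃ (n : ℕ) (s' : Coh.structureModule X ⟶ CohB1.tensorPow L' (n + 1)), x ∈ CohB1.genLocus _ s') :
    CohB1.IsAmple (CohB1.tensorMod L L') := by
  obtain ⟨V, hxV, -, ⟨A⟩, ⟨A'⟩⟩ := exists_atlas₂ hL.1 hL'
  have hV := iSup_eq_top_of_mem hxV
  refine ⟨isInvertible_tensorMod hL.1 hL', inferInstance, fun x => ?_⟩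
  obtain ⟨m, s, hx, haff⟩ := hL.2.2 x
  obtain ⟨n, s', hx'⟩ := h x
  obtain ⟨k, hk⟩ : ∃ k, k + 1 = (m + 1) * (n + 1) := ⟨(m + 1) * (n + 1) - 1, by
    have : 0 < (m + 1) * (n + 1) := Nat.mul_pos (Nat.succ_pos m) (Nat.succ_pos n)
    omega⟩
  obtain ⟨τ, -, hτ⟩ := exists_sec_mul hV (A.pow (m + 1)) (A'.pow (n + 1)) ((A.tmul A').pow (k + 1))
    (n + 1) (m + 1) (by
      intro i j
      rw [Atlas.pow_trans, Atlas.pow_trans, Atlas.pow_trans, Atlas.tmul_trans, ← pow_mul, ← pow_mul, hk,
        mul_pow, mul_comm (n + 1) (m + 1)]) (sec s) (sec s')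
  have hτ' := hτ (Nat.succ_pos n) (Nat.succ_pos m)
  rw [ofSection_sec, ofSection_sec] at hτ'
  refine ⟨k, ofSection τ, ?_, ?_⟩
  · rw [hτ']
    exact ⟨hx, hx'⟩
  · rw [hτ', inf_comm]
    exact isAffineOpen_genLocus_inf (isInvertible_tensorPow hL' (n + 1)) s' haff

end Groth.Agent.S2328
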