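import Groth.Statements.S2333
import Groth.Agent.Lib.H78RelAmple

set_option autoImplicit false
universe u
open CategoryTheory CategoryTheory.Limits AlgebraicGeometry
open EGA2

namespace Groth.Agent.S2333

/-- Let f : X → Y and g : Y → Z be morphisms of schemes with f quasi-compact, and L an O_X-module which
is ample relative to the composite g ∘ f. Then L is ample relative to f. (No separatedness
hypothesis on g is imposed.) -/
theorem result {X Y Z : Scheme.{u}} (f : X ⟶ Y) (g : Y ⟶ Z) [QuasiCompact f]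
    (L : X.Modules) (hL : RelAmple.IsRelAmple (f ≫ g) L) : RelAmple.IsRelAmple f L := by
  refine Groth.Agent.Lib.H78RelAmple.isRelAmple_of_local f L
    {D : Y.Opens | IsAffineOpen D ∧ ∃ W : Z.affineOpens, D ≤ g ⁻¹ᵁ W.1} ?_ ?_
  · rintro D ⟨hD, W, hDW⟩
    haveI : CompactSpace ↥((f ⁻¹ᵁ D : X.Opens) : Scheme.{u}) :=
      isCompact_iff_compactSpace.1 (QuasiCompact.isCompact_preimage (f := f) _ D.2 hD.isCompact)
    refine Groth.Agent.Lib.H78RelAmple.isAmple_restrict_of_range_subset (f ⁻¹ᵁ D).ι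
      ((f ≫ g) ⁻¹ᵁ W.1).ι ?_ (hL.2 W)
    rw [Scheme.Opens.range_ι, Scheme.Opens.range_ι]
    intro x hx
    exact hDW hx
  · intro V hV y hyV
    obtain ⟨W, hW, hyW, -⟩ := TopologicalSpace.Opens.isBasis_iff_nbhd.1 Z.isBasis_affineOpens
      (show g y ∈ (⊤ : Z.Opens) from trivial)
    obtain ⟨h, hle, hyh⟩ := hV.exists_basicOpen_le (V := g ⁻¹ᵁ W) ⟨y, hyW⟩ hyV
    exact ⟨h, hyh, hV.basicOpen h, ⟨W, hW⟩, hle⟩

end Groth.Agent.S2333
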