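import Groth.Statements.S2334
import Groth.Agent.S4450
import Mathlib.AlgebraicGeometry.ValuativeCriterion

set_option autoImplicit false
universe u
open CategoryTheory CategoryTheory.Limits AlgebraicGeometry
open EGA2

namespace Groth.Agent.S2334

/-- Locally Noetherian case of the valuative criterion of separatedness: let Y be a locally Noetherian
scheme and f : X → Y locally of finite type. Then f is separated if and only if for every discrete
valuation ring A with fraction field K, any two morphisms Spec A → X with the same composite to Y
which agree on Spec K are equal. (In the general criterion the diagonal must be assumed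
quasi-compact; that is automatic here.) -/
theorem result {X Y : Scheme.{u}} [IsLocallyNoetherian Y] (f : X ⟶ Y) [LocallyOfFiniteType f] :
    IsSeparated f ↔ ∀ (A : Type u) [CommRing A] [IsDomain A] [IsDiscreteValuationRing A] (g₁ g₂ : (Spec (CommRingCat.of A)) ⟶ X),
      g₁ ≫ f = g₂ ≫ f → (Spec.map (CommRingCat.ofHom (algebraMap A (FractionRing A)))) ≫ g₁ = (Spec.map (CommRingCat.ofHom (algebraMap A (FractionRing A)))) ≫ g₂ → g₁ = g₂ := by
  constructor
  · intro hsep A _ _ _ g₁ g₂ hf hK
    have hU := IsSeparated.valuativeCriterion f
    let S : ValuativeCommSq f :=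
      { R := A
        K := FractionRing A
        i₁ := Spec.map (CommRingCat.ofHom (algebraMap A (FractionRing A))) ≫ g₁
        i₂ := g₁ ≫ f
        commSq := ⟨by simp⟩ }
    have hsub : Subsingleton S.commSq.LiftStruct := hU S
    let l₁ : S.commSq.LiftStruct := ⟨g₁, rfl, rfl⟩
    let l₂ : S.commSq.LiftStruct := ⟨g₂, hK.symm, hf.symm⟩
    exact congrArg CommSq.LiftStruct.l (Subsingleton.elim l₁ l₂)
  · intro H
    have hXn : IsLocallyNoetherian X := LocallyOfFiniteType.isLocallyNoetherian f
    refine ⟨?_⟩
    let Δ := pullback.diagonal f
    have hΔlft : LocallyOfFiniteType Δ := by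
      have : LocallyOfFiniteType (Δ ≫ pullback.fst f f) := by
        rw [pullback.diagonal_fst]; infer_instance
      exact locallyOfFiniteType_of_comp Δ (pullback.fst f f)
    have hΔqc : QuasiCompact Δ := inferInstance
    apply IsClosedImmersion.of_isPreimmersion
    apply IsClosedMap.isClosed_range
    rw [isClosedMap_iff_specializingMap]
    intro x z₁ hsp
    by_cases hne : z₁ = Δ.base x
    · exact ⟨x, specializes_rfl, hne.symm⟩
    obtain ⟨A, h, hA, hcl, hcomm⟩ := Groth.Agent.S4450.result Δ x z₁ hsp hne
    let g₁ : Spec (CommRingCat.of A) ⟶ X := h ≫ pullback.fst f f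
    let g₂ : Spec (CommRingCat.of A) ⟶ X := h ≫ pullback.snd f f
    have hg : g₁ ≫ f = g₂ ≫ f := by
      simp only [g₁, g₂, Category.assoc, pullback.condition]
    -- the two maps agree on `Spec κ(x)`
    have hκ : Spec.map (CommRingCat.ofHom A.subtype) ≫ g₁ =
        Spec.map (CommRingCat.ofHom A.subtype) ≫ g₂ := by
      simp only [g₁, g₂, ← Category.assoc, hcomm]
      simp only [Category.assoc, Δ, pullback.diagonal_fst, pullback.diagonal_snd]
    -- transport to the abstract fraction field
    let e : FractionRing A ≃ₐ[A] X.residueField x := FractionRing.algEquiv A (X.residueField x)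
    have hsub : CommRingCat.ofHom (algebraMap A (FractionRing A)) =
        CommRingCat.ofHom A.subtype ≫ CommRingCat.ofHom (e.symm : X.residueField x →+* FractionRing A) := by
      ext a
      show algebraMap A (FractionRing A) a = e.symm (a : X.residueField x)
      exact (e.symm.commutes a).symm
    have hK : Spec.map (CommRingCat.ofHom (algebraMap A (FractionRing A))) ≫ g₁ =
        Spec.map (CommRingCat.ofHom (algebraMap A (FractionRing A))) ≫ g₂ := by
      rw [hsub, Spec.map_comp, Category.assoc, Category.assoc, hκ]
    have hg12 : g₁ = g₂ := H A g₁ g₂ hg hK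
    have hfac : h = g₁ ≫ Δ := by
      apply pullback.hom_ext
      · simp only [Category.assoc, Δ, pullback.diagonal_fst, Category.comp_id, g₁]
      · simp only [Category.assoc, Δ, pullback.diagonal_snd, Category.comp_id]
        exact hg12.symm
    refine ⟨g₁.base (IsLocalRing.closedPoint A), ?_, ?_⟩
    · -- `x` specializes to the image of the closed point
      let η : Spec (CommRingCat.of A) :=
        (Spec.map (CommRingCat.ofHom A.subtype)).base (IsLocalRing.closedPoint (X.residueField x))
      have hη : g₁.base η = x := by
        have h1 : (Spec.map (CommRingCat.ofHom A.subtype) ≫ g₁).base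
            (IsLocalRing.closedPoint (X.residueField x)) = x := by
          have h2 : Spec.map (CommRingCat.ofHom A.subtype) ≫ g₁ = X.fromSpecResidueField x := by
            simp only [g₁, ← Category.assoc, hcomm]
            simp only [Category.assoc, Δ, pullback.diagonal_fst, Category.comp_id]
          rw [h2]
          exact Scheme.fromSpecResidueField_apply x _
        exact h1
      have hsp' : η ⤳ IsLocalRing.closedPoint A := IsLocalRing.specializes_closedPoint η
      have := hsp'.map g₁.continuous
      rwa [hη] at this
    · rw [← hcl, hfac]
      rfl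

end Groth.Agent.S2334
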