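import Groth.Statements.S2337
import Groth.Agent.Lib.H78AmpleUnit

set_option autoImplicit false
universe u
open CategoryTheory CategoryTheory.Limits AlgebraicGeometry
open EGA2

namespace Groth.Agent.S2337

/-- Let f : X → Y be quasi-compact. Then f is quasi-affine (preimages of affine opens are quasi-affine)
if and only if O_X is ample relative to f. -/
theorem result {X Y : Scheme.{u}} (f : X ⟶ Y) [QuasiCompact f] :
    Mor2.IsQuasiAffine f ↔ RelAmple.IsRelAmple f (Coh.structureModule X) := by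
  have hcompact : ∀ V : Y.Opens, IsAffineOpen V → CompactSpace ((f ⁻¹ᵁ V : X.Opens) : Scheme.{u}) := by
    intro V hV
    exact isCompact_iff_compactSpace.mp (QuasiCompact.isCompact_preimage (f := f) _ V.isOpen hV.isCompact)
  have key : ∀ V : Y.Opens, IsAffineOpen V →
      (CohB1.IsAmple ((Coh.structureModule X).restrict (f ⁻¹ᵁ V).ι) ↔ Scheme.IsQuasiAffine (f ⁻¹ᵁ V : Scheme.{u})) := by
    intro V hV
    have := hcompact V hV
    rw [← Groth.Agent.Lib.H78AmpleUnit.isAmple_unit_iff]
    exact ⟨Groth.Agent.Lib.H78AmpleUnit.isAmple_of_iso (Scheme.Modules.restrictUnitIso _),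
      Groth.Agent.Lib.H78AmpleUnit.isAmple_of_iso (Scheme.Modules.restrictUnitIso _).symm⟩
  constructor
  · rintro ⟨hqc, h⟩
    exact ⟨hqc, fun V => (key V.1 V.2).2 (h V.1 V.2)⟩
  · rintro ⟨hqc, h⟩
    exact ⟨hqc, fun V hV => (key V hV).1 (h ⟨V, hV⟩)⟩

end Groth.Agent.S2337
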