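import Groth.Statements.S2341

set_option autoImplicit false
universe u
open CategoryTheory CategoryTheory.Limits AlgebraicGeometry
open EGA2

namespace Groth.Agent.S2341

open TopologicalSpace

/-- A compact scheme with a topological embedding into an affine scheme is quasi-affine. -/
theorem isQuasiAffine_of_isEmbedding_of_isAffine {X Y : Scheme.{u}} (g : X ⟶ Y) [IsAffine Y]
    [CompactSpace X] (hg : Topology.IsEmbedding g.base) : X.IsQuasiAffine := by
  refine Scheme.IsQuasiAffine.of_forall_exists_mem_basicOpen X fun x ↦ ?_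
  obtain ⟨_, ⟨W, hW, rfl⟩, hxW, -⟩ :=
    (X.isBasis_affineOpens).exists_subset_of_mem_open (Set.mem_univ x) isOpen_univ
  obtain ⟨W', hW'o, hW'⟩ := hg.isInducing.isOpen_iff.mp W.isOpen
  have hgx : g.base x ∈ (⟨W', hW'o⟩ : Y.Opens) := by
    change x ∈ g.base ⁻¹' W'
    rw [hW']
    exact hxW
  obtain ⟨_, ⟨_, ⟨r, rfl⟩, rfl⟩, hxr, hrW'⟩ :=
    (isBasis_basicOpen Y).exists_subset_of_mem_open hgx hW'o
  refine ⟨g.appTop r, ?_, ?_⟩
  · have hle : X.basicOpen (g.appTop r) ≤ W := by
      rw [← Scheme.preimage_basicOpen_top]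
      intro y hy
      have : y ∈ g.base ⁻¹' W' := hrW' hy
      rw [hW'] at this
      exact this
    have h2 : X.basicOpen (X.presheaf.map (homOfLE le_top : W ⟶ ⊤).op (g.appTop r)) =
        X.basicOpen (g.appTop r) := by
      rw [Scheme.basicOpen_res]
      exact inf_eq_right.mpr hle
    rw [← h2]
    exact hW.basicOpen _
  · rw [← Scheme.preimage_basicOpen_top]
    exact hxr

/-- A quasi-compact morphism X → Y whose underlying map is a homeomorphism onto its image (for instance
a closed immersion) is quasi-affine. -/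
theorem result {X Y : Scheme.{u}} (f : X ⟶ Y) [QuasiCompact f]
    (hf : Topology.IsEmbedding f.base) : Mor2.IsQuasiAffine f := by
  refine ⟨inferInstance, fun V hV ↦ ?_⟩
  have : IsAffine (V : Scheme.{u}) := hV
  have : CompactSpace ((f ⁻¹ᵁ V : X.Opens) : Scheme.{u}) :=
    QuasiCompact.compactSpace_of_compactSpace (f ∣_ V)
  refine isQuasiAffine_of_isEmbedding_of_isAffine (f ∣_ V) ?_
  have h := morphismRestrict_base f V
  rw [show ⇑(f ∣_ V).base = V.1.restrictPreimage f.base from h]
  exact hf.restrictPreimage _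

end Groth.Agent.S2341
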