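import Groth.Statements.S2342
import Mathlib

set_option autoImplicit false
universe u
open CategoryTheory CategoryTheory.Limits AlgebraicGeometry
open EGA2

namespace Groth.Agent.S2342

open AlgebraicGeometry CategoryTheory

noncomputable def τ (A : Type u) [CommRing A] (y : Spec (CommRingCat.of A)) :
    CommRingCat.of A ⟶ (Spec (CommRingCat.of A)).presheaf.stalk y :=
  (Scheme.ΓSpecIso (CommRingCat.of A)).inv ≫ (Spec (CommRingCat.of A)).presheaf.germ ⊤ y (TopologicalSpace.Opens.mem_top y)

theorem τ_eq (A : Type u) [CommRing A] (y : Spec (CommRingCat.of A)) :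
    τ A y = StructureSheaf.toStalk A y := rfl

theorem τ_spec (A : Type u) [CommRing A] {y y' : Spec (CommRingCat.of A)} (h : y ⤳ y') :
    τ A y' ≫ (Spec (CommRingCat.of A)).presheaf.stalkSpecializes h = τ A y := by
  simp only [τ, Category.assoc]
  rw [TopCat.Presheaf.germ_stalkSpecializes]

theorem fromSpecStalk_eq_τ (A : Type u) [CommRing A] (y : Spec (CommRingCat.of A)) :
    (Spec (CommRingCat.of A)).fromSpecStalk y = Spec.map (τ A y) :=
  Spec.fromSpecStalk_eq _ _

theorem isLocalHom_τ (A : Type u) [CommRing A] [IsLocalRing A] (y : Spec (CommRingCat.of A))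
    (hy : y = IsLocalRing.closedPoint A) : IsLocalHom (τ A y).hom := by
  subst hy
  have := stalkClosedPointIso_inv (CommRingCat.of A)
  have h2 : IsLocalHom ((stalkClosedPointIso (CommRingCat.of A)).inv).hom := isLocalHom_of_isIso _
  rw [this] at h2
  exact h2

theorem τ_surj (A : Type u) [CommRing A] (y : Spec (CommRingCat.of A))
    (z : (Spec (CommRingCat.of A)).presheaf.stalk y) :
    ∃ a b : A, b ∉ (show PrimeSpectrum A from y).asIdeal ∧
      z * (τ A y).hom b = (τ A y).hom a := by
  let y' : PrimeSpectrum A := y
  have : y'.asIdeal.IsPrime := y'.isPrime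
  let k : Algebra A ((Spec (CommRingCat.of A)).presheaf.stalk y) := StructureSheaf.stalkAlgebra A y
  have : IsLocalization.AtPrime ((Spec (CommRingCat.of A)).presheaf.stalk y) y'.asIdeal :=
    StructureSheaf.IsLocalization.to_stalk A y'
  obtain ⟨⟨a, b⟩, h⟩ := IsLocalization.surj y'.asIdeal.primeCompl z
  exact ⟨a, b.1, b.2, h⟩

theorem τ_injective (A : Type u) [CommRing A] [IsDomain A] (y : Spec (CommRingCat.of A)) :
    Function.Injective (τ A y).hom := by
  let y' : PrimeSpectrum A := y
  have : y'.asIdeal.IsPrime := y'.isPrime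
  let k : Algebra A ((Spec (CommRingCat.of A)).presheaf.stalk y) := StructureSheaf.stalkAlgebra A y
  have : IsLocalization.AtPrime ((Spec (CommRingCat.of A)).presheaf.stalk y) y'.asIdeal :=
    StructureSheaf.IsLocalization.to_stalk A y'
  exact IsLocalization.injective ((Spec (CommRingCat.of A)).presheaf.stalk y)
    (M := y'.asIdeal.primeCompl) y'.asIdeal.primeCompl_le_nonZeroDivisors

theorem bijective_of_dominates {A S K : Type u} [CommRing A] [IsDomain A] [ValuationRing A]
    [CommRing S] [IsLocalRing S] [Field K] (f₀ : A →+* S) [IsLocalHom f₀] (g : S →+* K)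
    (hg : Function.Injective g) (hinj : Function.Injective (g.comp f₀))
    (hsurj : ∀ z : K, ∃ a b : A, z = g (f₀ a) / g (f₀ b)) : Function.Bijective f₀ := by
  let _ : Algebra A K := (g.comp f₀).toAlgebra
  have : FaithfulSMul A K := (faithfulSMul_iff_algebraMap_injective A K).mpr hinj
  have hfr : IsFractionRing A K := IsFractionRing.of_field A K hsurj
  have hb := bijective_rangeRestrict_comp_of_valuationRing (R := A) (K := K) f₀ g rfl
  have hr : Function.Bijective g.rangeRestrict :=
    ⟨fun a b h => hg (congrArg Subtype.val h), g.rangeRestrict_surjective⟩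
  have : (g.rangeRestrict.comp f₀ : A → g.range) = g.rangeRestrict ∘ f₀ := rfl
  rw [this] at hb
  exact (Function.Bijective.of_comp_iff' hr f₀).mp hb

theorem residue_bijective_of_isField {R : Type*} [CommRing R] [IsLocalRing R] (hR : IsField R) :
    Function.Bijective (IsLocalRing.residue R) := by
  refine ⟨?_, IsLocalRing.residue_surjective⟩
  rw [RingHom.injective_iff_ker_eq_bot, IsLocalRing.ker_residue]
  exact IsLocalRing.isField_iff_maximalIdeal_eq.mp hR

theorem main (A : Type u) [CommRing A] [IsDomain A] [ValuationRing A]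
    (X : Scheme.{u}) [IsIntegral X] [X.IsSeparated] (f : X ⟶ Spec (CommRingCat.of A)) (hf : IsClosedMap f.base)
    (x : X) (hx : f.base ⁻¹' {genericPoint (Spec (CommRingCat.of A))} = {x})
    (hres : Function.Bijective (f.residueFieldMap x).hom) : IsIso f := by
  let Y := Spec (CommRingCat.of A)
  let ξ := genericPoint X
  let η := genericPoint Y
  have hfx : f x = η := by
    have : x ∈ f.base ⁻¹' {η} := by rw [hx]; rfl
    exact this
  have hfξ : f ξ = η := by
    have h1 : ξ ⤳ x := (genericPoint_spec X).specializes (Set.mem_univ x)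
    have h2 : f ξ ⤳ η := hfx ▸ h1.map f.continuous
    have h3 : η ⤳ f ξ := (genericPoint_spec Y).specializes (Set.mem_univ _)
    exact (h2.antisymm h3).eq
  have hξx : ξ = x := by
    have : ξ ∈ f.base ⁻¹' {η} := hfξ
    rw [hx] at this
    exact this
  have hsurj : ∀ y : Y, ∃ x' : X, f x' = y := by
    intro y
    have hcl : IsClosed (f.base '' Set.univ) := hf _ isClosed_univ
    have hη : η ∈ f.base '' Set.univ := ⟨x, trivial, hfx⟩
    have : y ∈ closure ({η} : Set Y) := by
      rw [(genericPoint_spec Y).def]; trivial
    have h4 := closure_minimal (Set.singleton_subset_iff.mpr hη) hcl this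
    obtain ⟨x', -, hx'⟩ := h4
    exact ⟨x', hx'⟩
  have hresξ : Function.Bijective (f.residueFieldMap ξ).hom := by rw [hξx]; exact hres
  have hfU : IsField (X.presheaf.stalk ξ) := Field.toIsField (X.functionField)
  have hfV : IsField (Y.presheaf.stalk (f ξ)) := by
    rw [hfξ]
    exact Field.toIsField (Y.functionField)
  have hstalk : Function.Bijective (f.stalkMap ξ).hom := by
    have hsq := Scheme.residue_residueFieldMap f ξ
    have h1 := residue_bijective_of_isField hfU
    have h2 := residue_bijective_of_isField hfV
    have hcomp : Function.Bijective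
        ((IsLocalRing.residue (X.presheaf.stalk ξ)) ∘ (f.stalkMap ξ).hom) := by
      have : (IsLocalRing.residue (X.presheaf.stalk ξ)) ∘ (f.stalkMap ξ).hom =
          (f.residueFieldMap ξ).hom ∘ (IsLocalRing.residue (Y.presheaf.stalk (f ξ))) := by
        funext a
        exact (congr($(hsq) a)).symm
      rw [this]
      exact hresξ.comp h2
    refine ⟨Function.Injective.of_comp hcomp.1, ?_⟩
    intro b
    obtain ⟨a, ha⟩ := hcomp.2 (IsLocalRing.residue _ b)
    exact ⟨a, h1.1 ha⟩
  -- a point over the closed point
  obtain ⟨x', hx'⟩ := hsurj (IsLocalRing.closedPoint A)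
  let f₀ : CommRingCat.of A ⟶ X.presheaf.stalk x' := τ A (f x') ≫ f.stalkMap x'
  have hloc : IsLocalHom f₀.hom := by
    have h1 : IsLocalHom (τ A (f x')).hom := isLocalHom_τ A _ hx'
    exact RingHom.isLocalHom_comp (f.stalkMap x').hom (τ A (f x')).hom
  have hspec : ξ ⤳ x' := (genericPoint_spec X).specializes (Set.mem_univ x')
  let g : X.presheaf.stalk x' ⟶ X.presheaf.stalk ξ := X.presheaf.stalkSpecializes hspec
  have hg : Function.Injective g.hom := IsFractionRing.injective (X.presheaf.stalk x') X.functionField
  have hf₀g : f₀ ≫ g = τ A (f ξ) ≫ f.stalkMap ξ := by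
    simp only [f₀, g, Category.assoc]
    rw [← Scheme.Hom.stalkSpecializes_stalkMap f ξ x' hspec, ← Category.assoc, τ_spec]
  have hcomp_eq : ∀ a : A, g.hom (f₀.hom a) = (f.stalkMap ξ).hom ((τ A (f ξ)).hom a) := by
    intro a
    exact congr($(hf₀g) a)
  have hb : Function.Bijective f₀.hom := by
    refine bijective_of_dominates (K := X.functionField) f₀.hom g.hom hg ?_ ?_
    · intro a b hab
      apply τ_injective A (f ξ)
      apply hstalk.1
      rw [← hcomp_eq, ← hcomp_eq]
      exact hab
    · intro z
      obtain ⟨w, rfl⟩ := hstalk.2 z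
      obtain ⟨a, b, hb, hw⟩ := τ_surj A (f ξ) w
      refine ⟨a, b, ?_⟩
      have hb0 : b ≠ 0 := by
        rintro rfl
        exact hb (Ideal.zero_mem _)
      have hne : g.hom (f₀.hom b) ≠ 0 := by
        rw [hcomp_eq]
        intro h0
        have : (τ A (f ξ)).hom b = 0 := hstalk.1 (by rw [h0, map_zero])
        exact hb0 (τ_injective A (f ξ) (by rw [this, map_zero]))
      rw [eq_div_iff hne, hcomp_eq, hcomp_eq, ← map_mul, hw]
  let e : A ≃+* X.presheaf.stalk x' := RingEquiv.ofBijective f₀.hom hb
  let einv : X.presheaf.stalk x' ⟶ CommRingCat.of A := CommRingCat.ofHom e.symm.toRingHom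
  have he : f₀ ≫ einv = 𝟙 _ := by
    ext a
    exact e.symm_apply_apply a
  let s : Y ⟶ X := Spec.map einv ≫ X.fromSpecStalk x'
  have hs : s ≫ f = 𝟙 Y := by
    simp only [s, Category.assoc]
    rw [← Scheme.SpecMap_stalkMap_fromSpecStalk, fromSpecStalk_eq_τ, ← Spec.map_comp,
      ← Spec.map_comp]
    change Spec.map (f₀ ≫ einv) = _
    rw [he, Spec.map_id]
  have hsepf : IsSeparated f := by
    have : IsSeparated (f ≫ Limits.terminal.from Y) := by
      rw [Limits.terminal.comp_from]; infer_instance
    exact IsSeparated.of_comp f (Limits.terminal.from Y)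
  have hid : IsClosedImmersion (s ≫ f) := by rw [hs]; infer_instance
  have hcs : IsClosedImmersion s := IsClosedImmersion.of_comp s f
  have hsη : s η = ξ := by
    have h1 : f (s η) = η := by
      have := congrArg (fun g : Y ⟶ Y => g η) hs
      simpa using this
    have : s η ∈ f.base ⁻¹' {η} := h1
    rw [hx] at this
    rw [hξx]
    exact this
  have hssurj : Surjective s := by
    constructor
    rw [← Set.range_eq_univ]
    have hcl : IsClosed (Set.range s) := s.isClosedEmbedding.isClosed_range
    apply Set.eq_univ_of_univ_subset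
    rw [← (genericPoint_spec X).def]
    exact closure_minimal (Set.singleton_subset_iff.mpr ⟨η, hsη⟩) hcl
  have hsiso : IsIso s := isIso_of_isClosedImmersion_of_surjective s
  have : IsIso (s ≫ f) := by rw [hs]; infer_instance
  exact IsIso.of_isIso_comp_left s f

/-- Let A be a valuation ring with Y = Spec A, X an integral separated scheme and f : X → Y a morphism
which is closed as a map of topological spaces, such that the fibre over the generic point of Y
consists of exactly one point x and the induced map from the residue field of the generic point of Y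
to that of x is bijective. Then f is an isomorphism. -/
theorem result (A : Type u) [CommRing A] [IsDomain A] [ValuationRing A]
    (X : Scheme.{u}) [IsIntegral X] [X.IsSeparated] (f : X ⟶ Spec (CommRingCat.of A)) (hf : IsClosedMap f.base)
    (x : X) (hx : f.base ⁻¹' {genericPoint (Spec (CommRingCat.of A))} = {x})
    (hres : Function.Bijective (f.residueFieldMap x).hom) : IsIso f := by
  exact main A X f hf x hx hres

end Groth.Agent.S2342
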