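import Groth.Statements.S2344
import Groth.Agent.Lib.ExtVal2

set_option autoImplicit false
universe u
open CategoryTheory CategoryTheory.Limits AlgebraicGeometry
open EGA2

namespace Groth.Agent.S2344

/-- Let X be a normal algebraic curve over k (separated, of finite type, nonempty, local rings at closed
points of dimension one, all local rings integrally closed domains), Y proper over k, U a dense open
of X and g : U → Y a k-morphism. Then g extends uniquely to a k-morphism X → Y. -/
theorem result (k : Type u) [Field k] (X Y : Scheme.{u}) [X.Over (Spec (CommRingCat.of k))] [Y.Over (Spec (CommRingCat.of k))]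
    [LocallyOfFiniteType (X ↘ (Spec (CommRingCat.of k)))] [QuasiCompact (X ↘ (Spec (CommRingCat.of k)))] [IsSeparated (X ↘ (Spec (CommRingCat.of k)))] [Nonempty X] (hcurve : (∀ x : X, IsClosed ({x} : Set X) → ringKrullDim (X.presheaf.stalk x) = 1)) (hnorm : Pi1.IsNormalScheme X)
    [IsProper (Y ↘ (Spec (CommRingCat.of k)))] (U : X.Opens) (hU : Dense (U : Set X)) (g : (U : Scheme.{u}) ⟶ Y)
    (hg : g ≫ (Y ↘ (Spec (CommRingCat.of k))) = U.ι ≫ (X ↘ (Spec (CommRingCat.of k)))) :
    ∃! g' : X ⟶ Y, U.ι ≫ g' = g ∧ g' ≫ (Y ↘ (Spec (CommRingCat.of k))) = X ↘ (Spec (CommRingCat.of k)) := by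
  have hq : ValuativeCriterion.Existence (Y ↘ (Spec (CommRingCat.of k))) := by
    have h : UniversallyClosed (Y ↘ (Spec (CommRingCat.of k))) := inferInstance
    rw [UniversallyClosed.eq_valuativeCriterion] at h
    exact h.1
  have hLN : IsLocallyNoetherian X :=
    LocallyOfFiniteType.isLocallyNoetherian (X ↘ (Spec (CommRingCat.of k)))
  have hcpt : CompactSpace X :=
    QuasiCompact.compactSpace_of_compactSpace (X ↘ (Spec (CommRingCat.of k)))
  have hred : IsReduced X := by
    have : ∀ x : X, _root_.IsReduced (X.presheaf.stalk x) := fun x => by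
      have := (hnorm x).1
      infer_instance
    exact isReduced_of_isReduced_stalk X
  have hval : ∀ x : X, ∃ hdom : IsDomain (X.presheaf.stalk x),
      @ValuationRing (X.presheaf.stalk x) _ hdom := fun x => by
    obtain ⟨hdom, hic⟩ := hnorm x
    exact ⟨hdom, Groth.Agent.Lib.ExtVal.valuationRing_of_isIntegrallyClosed_of_dim_le_one _
      (Groth.Agent.Lib.ExtVal.dim_stalk_le_one_of_closed hcurve x)⟩
  exact Groth.Agent.Lib.ExtVal.existsUnique_extension_of_forall_valuationRing
    (Y ↘ (Spec (CommRingCat.of k))) hq (X ↘ (Spec (CommRingCat.of k))) hval U hU g hg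

end Groth.Agent.S2344
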