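import Groth.Statements.S2345
import Groth.Agent.Lib.P1Curve85
import Groth.Agent.Lib.CurveNormFin85
import Groth.Agent.Lib.H71GeomRedAt

set_option autoImplicit false
universe u
open CategoryTheory CategoryTheory.Limits AlgebraicGeometry
attribute [local instance] Curv2.stalkAlgebra
open EGA2

namespace Groth.Agent.S2345

/-- Let K be a finitely generated field extension of k of transcendence degree one. Then there is an
integral normal algebraic curve X, proper over k, whose function field is isomorphic to K compatibly
with the maps from k. -/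
theorem result (k : Type u) [Field k] (K : Type u) [Field K] [Algebra k K]
    (hfg : (⊤ : IntermediateField k K).FG) (htr : Algebra.trdeg k K = 1) :
    ∃ (X : Scheme.{u}) (_ : X.Over (Spec (CommRingCat.of k))) (_ : IsIntegral X), IsProper (X ↘ (Spec (CommRingCat.of k))) ∧ Pi1.IsNormalScheme X ∧
      (∀ x : X, IsClosed ({x} : Set X) → ringKrullDim (X.presheaf.stalk x) = 1) ∧
      ∃ e : X.presheaf.stalk (genericPoint X) ≃+* K, ∀ c : k, e (algebraMap k (X.presheaf.stalk (genericPoint X)) c) = algebraMap k K c := by
  classical
  -- a transcendental element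
  have htrans : Algebra.Transcendental k K :=
    trdeg_ne_zero_iff.mp (by rw [htr]; exact one_ne_zero)
  obtain ⟨t, ht⟩ := htrans.transcendental
  -- the projective line
  have hPint : IsIntegral (Proj (CohB1.polyGrading 1 k)) :=
    Groth.Agent.Lib.P1Curve85.isIntegral_projSpace k 1
  let sP : Proj (CohB1.polyGrading 1 k) ⟶ Spec (CommRingCat.of k) := CohB1.ProjSpace.toSpec 1 k
  have hsP : IsProper sP := Groth.Agent.Lib.ProjSpaceProper.isProper_toSpec 1 k
  let j : Spec (CommRingCat.of K) ⟶ Proj (CohB1.polyGrading 1 k) :=
    Groth.Agent.Lib.AffineFTImm.imm k 1 (![t] : Fin 1 → K)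
  have hjs : j ≫ sP = Spec.map (CommRingCat.ofHom (algebraMap k K)) :=
    Groth.Agent.Lib.AffineFTImm.imm_toSpec k 1 (![t] : Fin 1 → K)
  have hj : j (IsLocalRing.closedPoint K) = genericPoint (Proj (CohB1.polyGrading 1 k)) :=
    Groth.Agent.Lib.P1Curve85.imm_closedPoint k ht
  obtain ⟨ψ, hg, hrange⟩ := Groth.Agent.Lib.P1Curve85.exists_hom_of_closedPoint_eq j hj
  have hsub : Set.range (Groth.Agent.Lib.AffineFTImm.chartHom k 1 (![t] : Fin 1 → K)) ⊆
      Set.range ψ.hom := by
    rw [hrange]
    exact Groth.Agent.Lib.P1Curve85.range_chartHom_le k t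
  have hψfin : ψ.hom.Finite := by
    refine Groth.Agent.Lib.P1Curve85.finite_of_transcendental_mem_range hfg htr ht ψ.hom ?_ ?_
    · intro c
      obtain ⟨x, hx⟩ := Groth.Agent.Lib.P1Curve85.chartHom_C k t c
      exact hsub ⟨x, hx⟩
    · obtain ⟨x, hx⟩ := Groth.Agent.Lib.P1Curve85.chartHom_X k t
      exact hsub ⟨x, hx⟩
  have hR : IsField (CommRingCat.of K) := Field.toIsField K
  have hqc : QuasiCompact j := inferInstance
  have hqs : QuasiSeparated j := inferInstance
  have hint : IsIntegral j.normalization :=
    Groth.Agent.Lib.NormField85.isIntegral_normalization hR j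
  have hlft : LocallyOfFiniteType sP := inferInstance
  have hfin : IsFinite j.fromNormalization :=
    Groth.Agent.Lib.NormFieldFin85.isFinite_fromNormalization hR ψ j hg hψfin
      fun V hV _ L _ _ _ _ hfd ↦
        Groth.Agent.Lib.CurveNormFin85.finite_integralClosure_of_lft_field k sP V hV L hfd
  have hgen : j.fromNormalization (genericPoint j.normalization) =
      genericPoint (Proj (CohB1.polyGrading 1 k)) :=
    Groth.Agent.Lib.NormField85.fromNormalization_genericPoint hR ψ j hg
  have hdimP : topologicalKrullDim (Proj (CohB1.polyGrading 1 k)) = 1 := by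
    have := Groth.Agent.Lib.H8ProjPoly.topologicalKrullDim_proj 1 k
    exact_mod_cast this
  refine ⟨j.normalization, ⟨j.fromNormalization ≫ sP⟩, hint, ?_, ?_, ?_, ?_⟩
  · change IsProper (j.fromNormalization ≫ sP)
    infer_instance
  · exact fun z ↦ ⟨inferInstance,
      Groth.Agent.Lib.NormField85.isIntegrallyClosed_stalk hR ψ j hg z⟩
  · exact Groth.Agent.Lib.NormFieldFin85.ringKrullDim_stalk_eq_one_of_isClosed j.fromNormalization
      hgen (Groth.Agent.Lib.P1Curve85.ringKrullDim_stalk_eq_one_of_topologicalKrullDim hdimP)
  · have hinj := Groth.Agent.Lib.NormField85.injective_stalkClosedPointTo hR j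
    have hrg := Groth.Agent.Lib.NormField85.range_stalkClosedPointTo hR ψ j hg
    have hsurj : Function.Surjective (Scheme.stalkClosedPointTo j.toNormalization).hom := by
      intro y
      have hy : y ∈ {y : K | ψ.hom.IsIntegralElem y} := hψfin.to_isIntegral y
      rw [← hrg] at hy
      exact hy
    have H : ∀ z : j.normalization, z = j.toNormalization (IsLocalRing.closedPoint K) →
        ∃ θ' : j.normalization.presheaf.stalk z ⟶ CommRingCat.of K,
          Function.Bijective θ'.hom ∧
            Spec.map θ' ≫ j.normalization.fromSpecStalk z = j.toNormalization := by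
      rintro z rfl
      exact ⟨Scheme.stalkClosedPointTo j.toNormalization, ⟨hinj, hsurj⟩,
        Scheme.Spec_stalkClosedPointTo_fromSpecStalk j.toNormalization⟩
    obtain ⟨θ', hb, hθ'⟩ := H (genericPoint j.normalization)
      (Groth.Agent.Lib.NormField85.toNormalization_apply hR j _).symm
    refine ⟨RingEquiv.ofBijective θ'.hom hb, fun c ↦ ?_⟩
    let _ : j.normalization.Over (Spec (CommRingCat.of k)) := ⟨j.fromNormalization ≫ sP⟩
    have h1 : Spec.map θ' ≫ j.normalization.fromSpecStalk (genericPoint j.normalization) ≫
        (j.normalization ↘ Spec (CommRingCat.of k)) =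
        Spec.map (CommRingCat.ofHom (algebraMap k K)) := by
      rw [← Category.assoc, hθ']
      change j.toNormalization ≫ j.fromNormalization ≫ sP = _
      rw [← Category.assoc, j.toNormalization_fromNormalization, hjs]
    rw [Groth.Agent.Lib.H71GeomRedAt.fromSpecStalk_comp k j.normalization
      (genericPoint j.normalization), ← Spec.map_comp] at h1
    have h2 := Spec.map_injective h1
    exact congr($(h2).hom c)

end Groth.Agent.S2345
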