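import Groth.Statements.S2348
import Groth.Agent.Lib.BlowUpUniv5

set_option autoImplicit false
universe u
open CategoryTheory CategoryTheory.Limits AlgebraicGeometry
open EGA2

namespace Groth.Agent.S2348

open Groth.Agent.Lib.BlowUpUniv TopologicalSpace

theorem compl_nonempty {Y : Scheme.{u}} [IsIntegral Y] (I : Y.IdealSheafData) (hI : I ≠ ⊥) :
    ((I.support.compl : Y.Opens) : Set Y).Nonempty := by
  rw [Set.nonempty_iff_ne_empty]
  intro h
  apply hI
  rw [← Scheme.IdealSheafData.support_eq_top_iff]
  ext x
  simp only [Closeds.coe_top, Set.mem_univ, iff_true]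
  by_contra hx
  have : x ∈ ((I.support.compl : Y.Opens) : Set Y) := hx
  rw [h] at this
  exact this

theorem bijective_residueFieldMap {X Y : Scheme.{u}} (I : Y.IdealSheafData)
    (b : X ⟶ Y) (hb : BlowUp.IsBlowUp b I) (x : X) (hx : x ∈ b ⁻¹ᵁ I.support.compl) :
    Function.Bijective (b.residueFieldMap x).hom := by
  haveI hiso := isIso_morphismRestrict_compl hb
  set W : Y.Opens := I.support.compl
  set O : X.Opens := b ⁻¹ᵁ W
  have e : O.ι ≫ b = (b ∣_ W) ≫ W.ι := (morphismRestrict_ι b W).symm
  haveI : IsOpenImmersion (O.ι ≫ b) := by rw [e]; infer_instance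
  let o : (O : Scheme) := ⟨x, hx⟩
  have h1 : (O.ι ≫ b).residueFieldMap o = b.residueFieldMap (O.ι o) ≫ O.ι.residueFieldMap o :=
    Scheme.residueFieldMap_comp _ _ _
  have h5 : IsIso ((O.ι ≫ b).residueFieldMap o) := inferInstance
  haveI : IsIso (b.residueFieldMap (O.ι o) ≫ O.ι.residueFieldMap o) := by
    rw [← h1]; exact h5
  haveI : IsIso (b.residueFieldMap (O.ι o)) := IsIso.of_isIso_comp_right _ (O.ι.residueFieldMap o)
  exact ConcreteCategory.bijective_of_isIso (b.residueFieldMap (O.ι o))

/-- For an ideal of O_Y: let Y be an integral scheme, I a nonzero quasi-coherent ideal sheaf and b : X →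
Y a blowing up of Y in I (characterised by its universal property). Then X is integral, b sends the
generic point of X to that of Y and induces a bijection on their residue fields (b is birational).
The printed statement also asserts that b is surjective; the proof does not show this and it fails
when I is not of finite type, so it is left out. -/
theorem result {X Y : Scheme.{u}} [IsIntegral Y] (I : Y.IdealSheafData) (hI : I ≠ ⊥)
    (b : X ⟶ Y) (hb : BlowUp.IsBlowUp b I) :
    ∃ (_ : IsIntegral X), ∃ hgen : b.base (genericPoint X) = genericPoint Y,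
      Function.Bijective (b.residueFieldMap (genericPoint X)).hom := by
  have hne := compl_nonempty I hI
  haveI : IsReduced X := isReduced_of_isBlowUp hb
  haveI : IrreducibleSpace X := irreducibleSpace_of_isBlowUp hb hne
  haveI hint : IsIntegral X := isIntegral_of_irreducibleSpace_of_isReduced X
  refine ⟨hint, ?_, ?_⟩
  · haveI hiso := isIso_morphismRestrict_compl hb
    have h1 : IsGenericPoint (b (genericPoint X)) (closure (b '' Set.univ)) :=
      (genericPoint_spec X).image b.continuous
    have h2 : closure (b '' Set.univ) = Set.univ := by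
      rw [Set.eq_univ_iff_forall]
      have hdense : Dense ((I.support.compl : Y.Opens) : Set Y) :=
        (I.support.compl).2.dense hne
      intro y
      refine closure_mono ?_ (hdense y)
      intro w hw
      -- `w ∈ W` is in the range of `b`
      let o := (inv (b ∣_ I.support.compl)) ⟨w, hw⟩
      refine ⟨o.1, trivial, ?_⟩
      have h3 : (b ∣_ I.support.compl) o = ⟨w, hw⟩ := by
        change ((inv (b ∣_ I.support.compl)) ≫ (b ∣_ I.support.compl)) ⟨w, hw⟩ = _
        rw [IsIso.inv_hom_id]
        rfl
      have h4 := congrArg (fun z => Scheme.Opens.ι (I.support.compl : Y.Opens) z) h3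
      change ((b ∣_ I.support.compl) ≫ Scheme.Opens.ι (I.support.compl : Y.Opens)) o = w at h4
      rw [morphismRestrict_ι] at h4
      exact h4
    rw [h2] at h1
    exact h1.eq (genericPoint_spec Y)
  · apply bijective_residueFieldMap I b hb
    have hξgen : IsGenericPoint (genericPoint X) (⊤ : Set X) := genericPoint_spec X
    refine (hξgen.mem_open_set_iff (b ⁻¹ᵁ I.support.compl).2).mpr ?_
    obtain ⟨y, hy1, hy2⟩ := inter_preimage_compl_nonempty hb ⊤ ⟨genericPoint X, trivial⟩
    exact ⟨y, trivial, hy2⟩

end Groth.Agent.S2348
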