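import Groth.Statements.S2349

set_option autoImplicit false
universe u
open CategoryTheory CategoryTheory.Limits AlgebraicGeometry
open EGA2

namespace Groth.Agent.S2349

/-- A morphism is universally closed if it becomes so after precomposition with each member of a
finite jointly surjective family. -/
theorem universallyClosed_of_jointly_surjective {S T : Scheme.{u}} {ι : Type*} [Finite ι]
    (g : T ⟶ S) (U : ι → Scheme.{u}) (j : ∀ k, U k ⟶ T)
    (hsurj : ∀ t : T, ∃ k, t ∈ Set.range (j k).base)
    (hprop : ∀ k, UniversallyClosed (j k ≫ g)) : UniversallyClosed g := by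
  constructor
  intro X' Y' i₁ i₂ f' H
  have hk : ∀ k, IsClosedMap (pullback.fst i₁ (j k) ≫ f').base := fun k =>
    (hprop k).universally_isClosedMap _ _ _ ((IsPullback.of_hasPullback i₁ (j k)).paste_horiz H)
  intro C hC
  have : f'.base '' C =
      ⋃ k, (pullback.fst i₁ (j k) ≫ f').base '' ((pullback.fst i₁ (j k)).base ⁻¹' C) := by
    ext y
    simp only [Set.mem_image, Set.mem_iUnion, Set.mem_preimage]
    constructor
    · rintro ⟨x, hx, rfl⟩
      obtain ⟨k, hk'⟩ := hsurj (i₁.base x)
      have : x ∈ Set.range (pullback.fst i₁ (j k)).base := by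
        rw [Scheme.Pullback.range_fst]; exact hk'
      obtain ⟨z, rfl⟩ := this
      exact ⟨k, z, hx, by simp⟩
    · rintro ⟨k, z, hz, rfl⟩
      exact ⟨_, hz, by simp⟩
  rw [this]
  exact isClosed_iUnion_of_finite fun k =>
    hk k _ (hC.preimage (pullback.fst i₁ (j k)).continuous)

/-- Let f : X → Y be separated and of finite type, and let j_i : X_i → X and h_i : Y_i → Y (i in a
finite index type) be closed immersions with morphisms f_i : X_i → Y_i satisfying j_i ≫ f = f_i ≫
h_i, such that the images of the j_i cover X. Then f is proper if and only if every f_i is proper. -/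
theorem result {X Y : Scheme.{u}} (f : X ⟶ Y) [IsSeparated f] [LocallyOfFiniteType f] [QuasiCompact f]
    (ι : Type u) [Finite ι] (Xi Yi : ι → Scheme.{u}) (j : ∀ i, Xi i ⟶ X) (h : ∀ i, Yi i ⟶ Y) (fi : ∀ i, Xi i ⟶ Yi i)
    [∀ i, IsClosedImmersion (j i)] [∀ i, IsClosedImmersion (h i)] (hcomm : ∀ i, j i ≫ f = fi i ≫ h i)
    (hcov : ∀ x : X, ∃ i, x ∈ Set.range (j i).base) : IsProper f ↔ ∀ i, IsProper (fi i) := by
  constructor
  · intro hf i
    have : IsProper (fi i ≫ h i) := by
      rw [← hcomm i]
      infer_instance
    exact IsProper.of_comp (fi i) (h i)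
  · intro hfi
    have huc : UniversallyClosed f := by
      refine universallyClosed_of_jointly_surjective f Xi j hcov fun i ↦ ?_
      rw [hcomm i]
      have := hfi i
      infer_instance
    exact { }

end Groth.Agent.S2349
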