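import Groth.Statements.S2454
import Groth.Agent.Lib.CohenSmoothLocal
import Groth.Agent.S2451

set_option autoImplicit false
universe u
open EGA41

namespace Groth.Agent.S2454

open IsLocalRing in
/-- Let A → B be a local homomorphism of Noetherian local rings making B a Cohen A-algebra. Then B, with
its adic topology, is formally smooth over A with its adic topology. -/
theorem result {A B : Type u} [CommRing A] [IsLocalRing A] [CommRing B] [IsLocalRing B]
    [Algebra A B] [IsLocalHom (algebraMap A B)] (h : EGA41.IsCohenAlgebra A B) :
    EGA41.IsFormallySmoothAdic A (maximalIdeal A) B (maximalIdeal B) := by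
  obtain ⟨-, -, -, hflat, hmax, hgr⟩ := h
  have hfs : Algebra.FormallySmooth (ResidueField A) (ResidueField B) :=
    Groth.Agent.S2451.result.mpr hgr
  exact Groth.Agent.Lib.CohenSmooth.isFormallySmoothAdic_of_flat
    (Groth.Agent.Lib.CohenSmooth.liftKilled_of_formallySmooth_residueField hmax) _

end Groth.Agent.S2454
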