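import Groth.Statements.S2455
import Groth.Agent.S2454
import Groth.Agent.S2462
import Groth.Agent.Lib.ResExtNoeth
import Groth.Agent.Lib.CompleteBij

set_option autoImplicit false
universe u
open EGA41

namespace Groth.Agent.S2455

open IsLocalRing

/-- Two Cohen `A`-algebras with isomorphic residue fields are isomorphic, compatibly with the
given isomorphism of residue fields. -/
theorem exists_algEquiv_of_isCohenAlgebra {A B B' : Type u} [CommRing A] [IsLocalRing A]
    [CommRing B] [IsLocalRing B] [Algebra A B] [IsLocalHom (algebraMap A B)]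
    [CommRing B'] [IsLocalRing B'] [Algebra A B'] [IsLocalHom (algebraMap A B')]
    (hB : EGA41.IsCohenAlgebra A B) (hB' : EGA41.IsCohenAlgebra A B')
    (σ : ResidueField B ≃ₐ[ResidueField A] ResidueField B') :
    ∃ v : B ≃ₐ[A] B', ∀ b, residue B' (v b) = σ (residue B b) := by
  have hfs := Groth.Agent.S2454.result hB
  obtain ⟨-, -, hcB, -, hmaxB, -⟩ := hB
  obtain ⟨-, hNB', hcB', hflatB', hmaxB', -⟩ := hB'
  -- the map to the residue field of `B'`
  let u : B →ₐ[A] B' ⧸ maximalIdeal B' :=
    (σ.toAlgHom.restrictScalars A).comp (IsScalarTower.toAlgHom A B (ResidueField B))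
  have hu : ∀ b, u b = σ (residue B b) := fun b => rfl
  have hA : (maximalIdeal A).map (algebraMap A B') ≤ maximalIdeal B' := hmaxB'.le
  have hJ : maximalIdeal B' ≠ ⊤ := Ideal.IsPrime.ne_top'
  have hu' : (maximalIdeal B).map u.toRingHom ≤
      (maximalIdeal B').map (Ideal.Quotient.mk (maximalIdeal B')) := by
    rw [Ideal.map_le_iff_le_comap]
    intro b hb
    rw [Ideal.mem_comap]
    have : u b = 0 := by
      rw [hu, (residue_eq_zero_iff b).mpr hb, map_zero]
      rfl
    show u b ∈ _
    rw [this]
    exact zero_mem _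
  obtain ⟨v, -, hv⟩ := Groth.Agent.S2462.result (maximalIdeal A) (maximalIdeal B) hfs hA
    (maximalIdeal B') hJ u hu'
  have hvb : ∀ b, residue B' (v b) = σ (residue B b) := fun b => AlgHom.congr_fun hv b
  -- completeness as `A`-modules
  have hcB2 : IsAdicComplete (maximalIdeal A) B := by
    rw [← hmaxB] at hcB
    exact (IsAdicComplete.map_algebraMap_iff _ _).mp hcB
  have hcB'2 : IsAdicComplete (maximalIdeal A) B' := by
    rw [← hmaxB'] at hcB'
    exact (IsAdicComplete.map_algebraMap_iff _ _).mp hcB'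
  have hmemB : ∀ b : B, b ∈ (maximalIdeal A • ⊤ : Submodule A B) ↔ b ∈ maximalIdeal B := by
    intro b
    rw [Ideal.smul_top_eq_map, hmaxB]
    rfl
  have hmemB' : ∀ b : B', b ∈ (maximalIdeal A • ⊤ : Submodule A B') ↔ b ∈ maximalIdeal B' := by
    intro b
    rw [Ideal.smul_top_eq_map, hmaxB']
    rfl
  have hbij : Function.Bijective v.toLinearMap := by
    apply Groth.Agent.Lib.CompleteBij.bijective_of_flat (maximalIdeal A)
    · intro y'
      obtain ⟨y, rfl⟩ := Submodule.mkQ_surjective _ y'
      obtain ⟨b, hb⟩ := residue_surjective (σ.symm (residue B' y))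
      refine ⟨b, ?_⟩
      show Submodule.mkQ _ (v b) = Submodule.mkQ _ y
      rw [Submodule.mkQ_apply, Submodule.mkQ_apply, Submodule.Quotient.eq, hmemB',
        ← residue_eq_zero_iff, map_sub, hvb, hb, AlgEquiv.apply_symm_apply, sub_self]
    · intro x hx
      have hx' : v x ∈ maximalIdeal B' := (hmemB' _).mp hx
      rw [hmemB, ← residue_eq_zero_iff]
      rw [← residue_eq_zero_iff, hvb] at hx'
      exact (map_eq_zero_iff σ σ.injective).mp hx'
  exact ⟨AlgEquiv.ofBijective v hbij, hvb⟩

/-- Let A be a Noetherian local ring with residue field k and K a separable extension field of k. Then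
there is a Cohen A-algebra B whose residue field is k-isomorphic to K; and two Cohen A-algebras
whose residue fields are k-isomorphic to K are isomorphic as A-algebras. -/
theorem result {A : Type u} [CommRing A] [IsLocalRing A] [IsNoetherianRing A]
    (K : Type u) [Field K] [Algebra (ResidueField A) K] [Algebra.IsGeometricallyReduced (ResidueField A) K] :
    (∃ (B : Type u) (_ : CommRing B) (_ : IsLocalRing B) (_ : Algebra A B) (_ : IsLocalHom (algebraMap A B)),
      EGA41.IsCohenAlgebra A B ∧ Nonempty (ResidueField B ≃ₐ[ResidueField A] K)) ∧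
    ∀ (B B' : Type u) [CommRing B] [IsLocalRing B] [Algebra A B] [IsLocalHom (algebraMap A B)]
      [CommRing B'] [IsLocalRing B'] [Algebra A B'] [IsLocalHom (algebraMap A B')],
      EGA41.IsCohenAlgebra A B → EGA41.IsCohenAlgebra A B' →
      Nonempty (ResidueField B ≃ₐ[ResidueField A] K) → Nonempty (ResidueField B' ≃ₐ[ResidueField A] K) →
      Nonempty (B ≃ₐ[A] B') := by
  constructor
  · obtain ⟨B, i1, i2, i3, i4, hN, hc, hflat, hmax, ⟨e⟩⟩ :=
      Groth.Agent.Lib.ResExt.exists_complete_flat_local_algebra A K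
    refine ⟨B, i1, i2, i3, i4, ⟨inferInstance, hN, hc, hflat, hmax, ?_⟩, ⟨e⟩⟩
    exact Algebra.IsGeometricallyReduced.of_injective e.toAlgHom e.injective
  · intro B B' _ _ _ _ _ _ _ _ hB hB' ⟨e⟩ ⟨e'⟩
    obtain ⟨v, -⟩ := exists_algEquiv_of_isCohenAlgebra hB hB' (e.trans e'.symm)
    exact ⟨v⟩

end Groth.Agent.S2455
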