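import Groth.Statements.S2457
import Groth.Agent.S2456
import Groth.Agent.Lib.CompleteBij

set_option autoImplicit false
universe u
open EGA41

namespace Groth.Agent.S2457

open IsLocalRing Groth.Agent.Lib.CohenRing

/-- For a local ring which is a field, the residue map is bijective. -/
theorem residue_bijective_of_isField {W : Type u} [CommRing W] [IsLocalRing W] (h : IsField W) :
    Function.Bijective (residue W) := by
  refine ⟨?_, residue_surjective⟩
  rw [injective_iff_map_eq_zero]
  intro x hx
  rw [residue_eq_zero_iff, isField_iff_maximalIdeal_eq.mp h] at hx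
  exact hx

/-- The residue field of a characteristic zero field has characteristic zero. -/
theorem natCast_residue_ne_zero {W : Type u} [CommRing W] [IsLocalRing W] (h : IsField W)
    [CharZero W] {n : ℕ} (hn : n ≠ 0) : ((n : ℕ) : ResidueField W) ≠ 0 := by
  intro h0
  have h1 : residue W ((n : ℕ) : W) = 0 := by rw [map_natCast]; exact h0
  have h2 := (residue_bijective_of_isField h).1 (h1.trans (map_zero _).symm)
  exact hn (Nat.cast_eq_zero.mp h2)

/-- The case of two fields. -/
theorem result_field {W W' : Type u} [CommRing W] [IsLocalRing W] [CommRing W'] [IsLocalRing W']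
    (h : IsField W) (h' : IsField W') (u : ResidueField W ≃+* ResidueField W') :
    ∃ v : W ≃+* W', ∀ x : W, residue W' (v x) = u (residue W x) := by
  let e : W ≃+* ResidueField W := RingEquiv.ofBijective (residue W) (residue_bijective_of_isField h)
  let e' : W' ≃+* ResidueField W' :=
    RingEquiv.ofBijective (residue W') (residue_bijective_of_isField h')
  refine ⟨(e.trans u).trans e'.symm, fun x => ?_⟩
  show e' (e'.symm (u (e x))) = u (residue W x)
  rw [RingEquiv.apply_symm_apply]
  rfl

/-- The case of two Cohen rings of the same residue characteristic. -/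
theorem result_cohen {W W' : Type u} [CommRing W] [IsLocalRing W] [IsDomain W]
    [IsDiscreteValuationRing W] [CommRing W'] [IsLocalRing W'] [IsDomain W']
    [IsDiscreteValuationRing W'] {p : ℕ} (hp : p.Prime)
    (hmax : maximalIdeal W = Ideal.span {(p : W)})
    (hmax' : maximalIdeal W' = Ideal.span {(p : W')})
    [hc : IsAdicComplete (maximalIdeal W) W] [hc' : IsAdicComplete (maximalIdeal W') W']
    (u : ResidueField W ≃+* ResidueField W') :
    ∃ v : W ≃+* W', ∀ x : W, residue W' (v x) = u (residue W x) := by
  have hloc : IsLocalRing (W' ⧸ maximalIdeal W') := inferInstanceAs (IsLocalRing (ResidueField W'))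
  let u' : W →+* W' ⧸ maximalIdeal W' := u.toRingHom.comp (residue W)
  have hu' : ∀ x, u' x = u (residue W x) := fun x => rfl
  have hlocu : IsLocalHom u' := by
    refine ⟨fun x hx => ?_⟩
    rw [hu'] at hx
    have h1 : IsUnit (residue W x) := by
      have h2 : IsUnit (u.symm (u (residue W x))) := hx.map u.symm
      rwa [RingEquiv.symm_apply_apply] at h2
    exact (isUnit_map_iff (residue W) x).mp h1
  obtain ⟨v, hvloc, hv⟩ := Groth.Agent.S2456.result_cohen hp hmax (maximalIdeal W')
    Ideal.IsPrime.ne_top' u'
  have hvx : ∀ x, residue W' (v x) = u (residue W x) := fun x => RingHom.congr_fun hv x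
  -- bijectivity
  let algW : Algebra ZU.{u} W := zuAlgebra W
  let algW' : Algebra ZU.{u} W' := zuAlgebra W'
  have hflat : Module.Flat ZU.{u} W' := flat_ulift_int hp hmax'
  have hmapW : (Ideal.span {((p : ℕ) : ZU.{u})}).map (algebraMap ZU.{u} W) = maximalIdeal W := by
    rw [Ideal.map_span, Set.image_singleton, map_natCast, hmax]
  have hmapW' : (Ideal.span {((p : ℕ) : ZU.{u})}).map (algebraMap ZU.{u} W') =
      maximalIdeal W' := by
    rw [Ideal.map_span, Set.image_singleton, map_natCast, hmax']
  have hcW : IsAdicComplete (Ideal.span {((p : ℕ) : ZU.{u})}) W := by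
    rw [← hmapW] at hc
    exact (IsAdicComplete.map_algebraMap_iff _ _).mp hc
  have hcW' : IsAdicComplete (Ideal.span {((p : ℕ) : ZU.{u})}) W' := by
    rw [← hmapW'] at hc'
    exact (IsAdicComplete.map_algebraMap_iff _ _).mp hc'
  have hmemW : ∀ b : W, b ∈ (Ideal.span {((p : ℕ) : ZU.{u})} • ⊤ : Submodule ZU.{u} W) ↔
      b ∈ maximalIdeal W := by
    intro b
    rw [Ideal.smul_top_eq_map, hmapW]
    rfl
  have hmemW' : ∀ b : W', b ∈ (Ideal.span {((p : ℕ) : ZU.{u})} • ⊤ : Submodule ZU.{u} W') ↔
      b ∈ maximalIdeal W' := by
    intro b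
    rw [Ideal.smul_top_eq_map, hmapW']
    rfl
  have hbij : Function.Bijective (toZAlgHom v).toLinearMap := by
    apply Groth.Agent.Lib.CompleteBij.bijective_of_flat (Ideal.span {((p : ℕ) : ZU.{u})})
    · intro y'
      obtain ⟨y, rfl⟩ := Submodule.mkQ_surjective _ y'
      obtain ⟨b, hb⟩ := residue_surjective (u.symm (residue W' y))
      refine ⟨b, ?_⟩
      show Submodule.mkQ _ (v b) = Submodule.mkQ _ y
      rw [Submodule.mkQ_apply, Submodule.mkQ_apply, Submodule.Quotient.eq, hmemW',
        ← residue_eq_zero_iff, map_sub, hvx, hb, RingEquiv.apply_symm_apply, sub_self]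
    · intro x hx
      have hx' : v x ∈ maximalIdeal W' := (hmemW' _).mp hx
      rw [hmemW, ← residue_eq_zero_iff]
      rw [← residue_eq_zero_iff, hvx] at hx'
      exact (map_eq_zero_iff u u.injective).mp hx'
  exact ⟨RingEquiv.ofBijective v hbij, hvx⟩

/-- Let W and W' be Cohen rings with residue fields K and K' and u : K ≅ K' an isomorphism. Then u is
induced by some isomorphism v : W ≅ W'. -/
theorem result {W W' : Type u} [CommRing W] [IsLocalRing W] [CommRing W'] [IsLocalRing W']
    (hW : EGA41.IsCohenRingEGA W) (hW' : EGA41.IsCohenRingEGA W') (u : ResidueField W ≃+* ResidueField W') :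
    ∃ v : W ≃+* W', ∀ x : W, residue W' (v x) = u (residue W x) := by
  rcases hW with ⟨hfield, hchar⟩ | ⟨hdom, hdvr, hc, p, hp, hmax⟩
  · rcases hW' with ⟨hfield', hchar'⟩ | ⟨hdom', hdvr', hc', p', hp', hmax'⟩
    · exact result_field hfield hfield' u
    · exfalso
      have hK' := charP_residueField hp' hmax'
      have h1 : ((p' : ℕ) : ResidueField W) ≠ 0 := natCast_residue_ne_zero hfield hp'.ne_zero
      apply h1
      have h2 : u ((p' : ℕ) : ResidueField W) = 0 := by
        rw [map_natCast]
        exact CharP.cast_eq_zero _ p'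
      exact (map_eq_zero_iff u u.injective).mp h2
  · rcases hW' with ⟨hfield', hchar'⟩ | ⟨hdom', hdvr', hc', p', hp', hmax'⟩
    · exfalso
      have hK := charP_residueField hp hmax
      have h1 : ((p : ℕ) : ResidueField W') ≠ 0 := natCast_residue_ne_zero hfield' hp.ne_zero
      apply h1
      have h2 : u.symm ((p : ℕ) : ResidueField W') = 0 := by
        rw [map_natCast]
        exact CharP.cast_eq_zero _ p
      exact (map_eq_zero_iff u.symm u.symm.injective).mp h2
    · have hK := charP_residueField hp hmax
      have hK' := charP_residueField hp' hmax'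
      have hK2 : CharP (ResidueField W) p' := by
        rw [CharP.charP_iff_prime_eq_zero hp']
        have h2 : u ((p' : ℕ) : ResidueField W) = 0 := by
          rw [map_natCast]
          exact CharP.cast_eq_zero _ p'
        exact (map_eq_zero_iff u u.injective).mp h2
      have hpp : p = p' := CharP.eq (ResidueField W) hK hK2
      subst hpp
      exact result_cohen hp hmax hmax' u

end Groth.Agent.S2457
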