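import Groth.Statements.S2458
import Groth.Agent.S0580
import Groth.Agent.Lib.PSRegular33
import Groth.Agent.Lib.RegularLocal

set_option autoImplicit false
universe u
open EGA41

namespace Groth.Agent.S2458

section helpers

open IsLocalRing

/-- a ring is complete for the adic topology of a nilpotent ideal. -/
lemma isAdicComplete_of_pow_eq_bot {R : Type*} [CommRing R] (I : Ideal R) (N : ℕ)
    (h : I ^ N = ⊥) : IsAdicComplete I R := by
  have hH : IsHausdorff I R := by
    refine ⟨fun x hx => ?_⟩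
    have h1 := hx N
    rw [SModEq.zero, smul_eq_mul, Ideal.mul_top, h, Ideal.mem_bot] at h1
    exact h1
  have hP : IsPrecomplete I R := by
    refine ⟨fun f hf => ⟨f N, fun n => ?_⟩⟩
    rcases le_total n N with hn | hn
    · exact hf hn
    · have h1 := hf hn
      rw [SModEq.sub_mem, smul_eq_mul, Ideal.mul_top, h, Ideal.mem_bot, sub_eq_zero] at h1
      rw [h1]
  exact { toIsHausdorff := hH, toIsPrecomplete := hP }

/-- In a regular local ring, an ideal `I` between `𝔪²` and `𝔪` is of the form `J + 𝔪²` with `R/J`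
regular. -/
theorem exists_regular_quotient (d : ℕ) : ∀ (R : Type u) [CommRing R] [IsRegularLocalRing R]
    (I : Ideal R), (maximalIdeal R).spanFinrank = d → maximalIdeal R ^ 2 ≤ I →
    I ≤ maximalIdeal R →
    ∃ J : Ideal R, J ≤ I ∧ J ⊔ maximalIdeal R ^ 2 = I ∧ IsRegularLocalRing (R ⧸ J) := by
  induction d with
  | zero =>
    intro R _ _ I hd h2 hI
    by_cases hI2 : I = maximalIdeal R ^ 2
    · refine ⟨⊥, bot_le, by rw [bot_sup_eq, hI2], ?_⟩
      exact IsRegularLocalRing.of_ringEquiv (RingEquiv.quotientBot R).symm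
    · exfalso
      obtain ⟨x, hxI, hx2⟩ : ∃ x ∈ I, x ∉ maximalIdeal R ^ 2 := by
        by_contra hcon
        push Not at hcon
        exact hI2 (le_antisymm hcon h2)
      have := Groth.Agent.Lib.RegularLocal.spanFinrank_map_mk_add_one_le (hI hxI) hx2
      omega
  | succ d ih =>
    intro R _ _ I hd h2 hI
    by_cases hI2 : I = maximalIdeal R ^ 2
    · refine ⟨⊥, bot_le, by rw [bot_sup_eq, hI2], ?_⟩
      exact IsRegularLocalRing.of_ringEquiv (RingEquiv.quotientBot R).symm
    · obtain ⟨x, hxI, hx2⟩ : ∃ x ∈ I, x ∉ maximalIdeal R ^ 2 := by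
        by_contra hcon
        push Not at hcon
        exact hI2 (le_antisymm hcon h2)
      have hxm : x ∈ maximalIdeal R := hI hxI
      have h1 := Groth.Agent.Lib.RegularLocal.spanFinrank_map_mk_add_one_le hxm hx2
      obtain ⟨hreg, hfr⟩ :=
        Groth.Agent.Lib.RegularLocal.isRegularLocalRing_quotient_of_spanFinrank hxm h1
      set mk := Ideal.Quotient.mk (Ideal.span ({x} : Set R)) with hmk
      have hsurj : Function.Surjective mk := Ideal.Quotient.mk_surjective
      have hmap : (maximalIdeal R).map mk = maximalIdeal (R ⧸ Ideal.span ({x} : Set R)) :=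
        IsLocalRing.map_maximalIdeal_of_surjective _ hsurj
      have hd' : (maximalIdeal (R ⧸ Ideal.span ({x} : Set R))).spanFinrank = d := by omega
      have h2' : maximalIdeal (R ⧸ Ideal.span ({x} : Set R)) ^ 2 ≤ I.map mk := by
        rw [← hmap, ← Ideal.map_pow]
        exact Ideal.map_mono h2
      have hI' : I.map mk ≤ maximalIdeal (R ⧸ Ideal.span ({x} : Set R)) := by
        rw [← hmap]
        exact Ideal.map_mono hI
      obtain ⟨J', hJ'I, hJ'sup, hJ'reg⟩ := ih (R ⧸ Ideal.span ({x} : Set R)) (I.map mk) hd' h2' hI'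
      let φ : R →+* (R ⧸ Ideal.span ({x} : Set R)) ⧸ J' := (Ideal.Quotient.mk J').comp mk
      have hφ : Function.Surjective φ := Ideal.Quotient.mk_surjective.comp hsurj
      have hmemJ : ∀ a : R, a ∈ RingHom.ker φ ↔ mk a ∈ J' := by
        intro a
        rw [RingHom.mem_ker]
        exact Ideal.Quotient.eq_zero_iff_mem
      have hcomap : (I.map mk).comap mk = I := by
        rw [Ideal.comap_map_of_surjective mk hsurj, ← RingHom.ker_eq_comap_bot, Ideal.mk_ker]
        exact sup_eq_left.mpr ((Ideal.span_singleton_le_iff_mem I).mpr hxI)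
      have hJI : RingHom.ker φ ≤ I := by
        intro a ha
        rw [← hcomap, Ideal.mem_comap]
        exact hJ'I ((hmemJ a).1 ha)
      refine ⟨RingHom.ker φ, hJI, le_antisymm (sup_le hJI h2) ?_, ?_⟩
      · intro a ha
        have h3 : mk a ∈ J' ⊔ maximalIdeal (R ⧸ Ideal.span ({x} : Set R)) ^ 2 := by
          rw [hJ'sup]
          exact Ideal.mem_map_of_mem _ ha
        obtain ⟨j, hj, m', hm', hjm⟩ := Submodule.mem_sup.1 h3
        rw [← hmap, ← Ideal.map_pow, Ideal.mem_map_iff_of_surjective mk hsurj] at hm'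
        obtain ⟨m, hm, rfl⟩ := hm'
        have h4 : a - m ∈ RingHom.ker φ := by
          rw [hmemJ, map_sub, ← hjm, add_sub_cancel_right]
          exact hj
        have : a = (a - m) + m := by ring
        rw [this]
        exact Submodule.add_mem_sup h4 hm
      · exact IsRegularLocalRing.of_ringEquiv (RingHom.quotientKerEquivOfSurjective hφ).symm

end helpers

open IsLocalRing in
/-- Let A be an Artinian local ring whose maximal ideal 𝔪 satisfies 𝔪² = 0. Then there is a regular
local ring B with maximal ideal 𝔫 such that A ≅ B/𝔫². -/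
theorem result {A : Type u} [CommRing A] [IsLocalRing A] [IsArtinianRing A]
    (h : maximalIdeal A ^ 2 = ⊥) :
    ∃ (B : Type u) (_ : CommRing B) (_ : IsRegularLocalRing B), Nonempty (A ≃+* B ⧸ IsLocalRing.maximalIdeal B ^ 2) := by
  classical
  have hcompl : IsAdicComplete (maximalIdeal A) A := isAdicComplete_of_pow_eq_bot _ 2 h
  have hfg : (maximalIdeal A).FG := Ideal.fg_of_isNoetherianRing _
  obtain ⟨Λ, _, n, f, hΛ, hf⟩ := Groth.Agent.S0580.result A hfg
  have hregΛ : IsRegularLocalRing Λ := by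
    rcases hΛ with hΛ | hΛ
    · letI := hΛ.toField
      infer_instance
    · obtain ⟨_, _, -⟩ := hΛ
      infer_instance
  have hregR : IsRegularLocalRing (MvPowerSeries (Fin n) Λ) :=
    Groth.Agent.Lib.PSRegular33.isRegularLocalRing_mvPowerSeries_fin Λ n
  have hmap : (maximalIdeal (MvPowerSeries (Fin n) Λ)).map f = maximalIdeal A :=
    IsLocalRing.map_maximalIdeal_of_surjective _ hf
  have h2 : maximalIdeal (MvPowerSeries (Fin n) Λ) ^ 2 ≤ RingHom.ker f := by
    rw [← Ideal.map_eq_bot_iff_le_ker, Ideal.map_pow, hmap, h]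
  have hI : RingHom.ker f ≤ maximalIdeal (MvPowerSeries (Fin n) Λ) :=
    IsLocalRing.le_maximalIdeal (RingHom.ker_ne_top f)
  obtain ⟨J, hJI, hJsup, hJreg⟩ := exists_regular_quotient _ (MvPowerSeries (Fin n) Λ)
    (RingHom.ker f) rfl h2 hI
  refine ⟨MvPowerSeries (Fin n) Λ ⧸ J, inferInstance, hJreg, ?_⟩
  set R := MvPowerSeries (Fin n) Λ with hR
  let ψ : R →+* (R ⧸ J) ⧸ maximalIdeal (R ⧸ J) ^ 2 :=
    (Ideal.Quotient.mk (maximalIdeal (R ⧸ J) ^ 2)).comp (Ideal.Quotient.mk J)
  have hψ : Function.Surjective ψ :=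
    Ideal.Quotient.mk_surjective.comp Ideal.Quotient.mk_surjective
  have hmapJ : (maximalIdeal R).map (Ideal.Quotient.mk J) = maximalIdeal (R ⧸ J) :=
    IsLocalRing.map_maximalIdeal_of_surjective _ Ideal.Quotient.mk_surjective
  have hker : RingHom.ker f = RingHom.ker ψ := by
    have h1 : RingHom.ker ψ = (maximalIdeal (R ⧸ J) ^ 2).comap (Ideal.Quotient.mk J) := by
      ext a
      rw [RingHom.mem_ker, Ideal.mem_comap]
      exact Ideal.Quotient.eq_zero_iff_mem
    rw [h1, ← hmapJ, ← Ideal.map_pow,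
      Ideal.comap_map_of_surjective _ Ideal.Quotient.mk_surjective, ← RingHom.ker_eq_comap_bot,
      Ideal.mk_ker, sup_comm, hJsup]
  exact ⟨(RingHom.quotientKerEquivOfSurjective hf).symm.trans
    ((Ideal.quotEquivOfEq hker).trans (RingHom.quotientKerEquivOfSurjective hψ))⟩

end Groth.Agent.S2458
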