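import Groth.Statements.S2459
import Groth.Agent.S0578
import Groth.Agent.S2456
import Mathlib.RingTheory.AdicCompletion.Noetherian
import Mathlib.RingTheory.AdicCompletion.Functoriality

set_option autoImplicit false
universe u
open EGA41

namespace Groth.Agent.S2459

open IsLocalRing Groth.Agent.Lib.CohenRing

/-- Forward direction. -/
theorem forward {A : Type u} [CommRing A] [IsLocalRing A]
    (p : ℕ) [hpA : CharP (ResidueField A) p]
    (W : Type u) [CommRing W] (I : Ideal W) (hW : EGA41.IsCohenRingEGA W) (e : A ≃+* W ⧸ I) :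
    maximalIdeal A = Ideal.span {(p : A)} := by
  let φ : W →+* A := e.symm.toRingHom.comp (Ideal.Quotient.mk I)
  have hφ : Function.Surjective φ := e.symm.surjective.comp Ideal.Quotient.mk_surjective
  rcases hW with ⟨hfield, hchar⟩ | ⟨hdom, hdvr, -, q, hq, hmax⟩
  · let _ := hfield.toField
    have h1 := map_maximalIdeal_of_surjective φ hφ
    rw [IsLocalRing.maximalIdeal_eq_bot, Ideal.map_bot] at h1
    have hinj : Function.Injective ((residue A).comp φ) := RingHom.injective _
    have hcz : CharZero (ResidueField A) := charZero_of_injective_ringHom hinj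
    have hp0 : p = 0 := CharP.eq (ResidueField A) hpA (CharP.ofCharZero _)
    rw [← h1, hp0, Nat.cast_zero, Ideal.span_singleton_eq_bot.mpr rfl]
  · have h1 := map_maximalIdeal_of_surjective φ hφ
    rw [hmax, Ideal.map_span, Set.image_singleton, map_natCast] at h1
    have hqA : ((q : ℕ) : A) ∈ maximalIdeal A := by
      rw [← h1]
      exact Ideal.mem_span_singleton_self _
    have hq0 : ((q : ℕ) : ResidueField A) = 0 := by
      rw [← map_natCast (residue A), residue_eq_zero_iff]
      exact hqA
    rw [CharP.cast_eq_zero_iff (ResidueField A) p] at hq0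
    have hpq : p = q := by
      rcases (Nat.dvd_prime hq).mp hq0 with h | h
      · exact absurd h (CharP.char_ne_one (ResidueField A) p)
      · exact h
    rw [← h1, hpq]

/-- Backward direction, positive residue characteristic. -/
theorem backward_prime {A : Type u} [CommRing A] [IsLocalRing A] [IsArtinianRing A]
    (p : ℕ) (hp : p.Prime) [hpA : CharP (ResidueField A) p]
    (hA : maximalIdeal A = Ideal.span {(p : A)}) :
    ∃ (W : Type u) (_ : CommRing W) (I : Ideal W), EGA41.IsCohenRingEGA W ∧
      Nonempty (A ≃+* W ⧸ I) := by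
  have hfact : Fact p.Prime := ⟨hp⟩
  obtain ⟨W, _, _, hW, ⟨e⟩⟩ := Groth.Agent.S0578.result p (ResidueField A)
  obtain ⟨hdom, hdvr, hc, q, hq, hmax⟩ := hW
  have hloc : IsLocalRing (A ⧸ maximalIdeal A) := inferInstanceAs (IsLocalRing (ResidueField A))
  let u' : W →+* A ⧸ maximalIdeal A := e.toRingHom.comp (residue W)
  have hu' : ∀ x, u' x = e (residue W x) := fun x => rfl
  have hlocu : IsLocalHom u' := by
    refine ⟨fun x hx => ?_⟩
    rw [hu'] at hx
    have h1 : IsUnit (residue W x) := by
      have h2 : IsUnit (e.symm (e (residue W x))) := hx.map e.symm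
      rwa [RingEquiv.symm_apply_apply] at h2
    exact (isUnit_map_iff (residue W) x).mp h1
  obtain ⟨v, hvloc, hv⟩ := Groth.Agent.S2456.result_cohen hq hmax (maximalIdeal A)
    Ideal.IsPrime.ne_top' u'
  have hvx : ∀ x, residue A (v x) = e (residue W x) := fun x => RingHom.congr_fun hv x
  -- `q = p`
  have hKq := charP_residueField hq hmax
  have hqp : q = p := by
    have h1 : ((p : ℕ) : ResidueField W) = 0 := by
      have h2 : e ((p : ℕ) : ResidueField W) = 0 := by
        rw [map_natCast]
        exact CharP.cast_eq_zero _ p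
      exact (map_eq_zero_iff e e.injective).mp h2
    rw [CharP.cast_eq_zero_iff (ResidueField W) q] at h1
    exact (Nat.prime_dvd_prime_iff_eq hq hp).mp h1
  subst hqp
  have hmap : (maximalIdeal W).map v = maximalIdeal A := by
    rw [hmax, Ideal.map_span, Set.image_singleton, map_natCast, hA]
  have hH : IsHausdorff ((maximalIdeal W).map v) A := by
    rw [hmap]
    infer_instance
  have hsurj : Function.Surjective v := by
    apply surjective_of_mk_map_comp_surjective (I := maximalIdeal W) v
    intro y'
    obtain ⟨y, rfl⟩ := Ideal.Quotient.mk_surjective y'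
    obtain ⟨a, ha⟩ := residue_surjective (e.symm (residue A y))
    refine ⟨a, ?_⟩
    show Ideal.Quotient.mk _ (v a) = Ideal.Quotient.mk _ y
    rw [Ideal.Quotient.eq, hmap, ← residue_eq_zero_iff, map_sub, hvx, ha,
      RingEquiv.apply_symm_apply, sub_self]
  exact ⟨W, inferInstance, RingHom.ker v, Or.inr ⟨hdom, hdvr, hc, q, hq, hmax⟩,
    ⟨(RingHom.quotientKerEquivOfSurjective hsurj).symm⟩⟩

/-- Let A be an Artinian local ring with maximal ideal 𝔪 and residue field of characteristic p (p = 0
allowed). Then A is isomorphic to a quotient of a Cohen ring if and only if 𝔪 is generated by p·1. -/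
theorem result {A : Type u} [CommRing A] [IsLocalRing A] [IsArtinianRing A]
    (p : ℕ) [CharP (ResidueField A) p] :
    (∃ (W : Type u) (_ : CommRing W) (I : Ideal W), EGA41.IsCohenRingEGA W ∧ Nonempty (A ≃+* W ⧸ I)) ↔
      maximalIdeal A = Ideal.span {(p : A)} := by
  constructor
  · rintro ⟨W, _, I, hW, ⟨e⟩⟩
    exact forward p W I hW e
  · intro hA
    rcases CharP.char_is_prime_or_zero (ResidueField A) p with hp | hp0
    · exact backward_prime p hp hA
    · subst hp0
      rw [Nat.cast_zero, Ideal.span_singleton_eq_bot.mpr rfl] at hA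
      have hfield : IsField A := isField_iff_maximalIdeal_eq.mpr hA
      have hcz : CharZero A := by
        refine charZero_of_inj_zero fun n hn => ?_
        have h1 : ((n : ℕ) : ResidueField A) = 0 := by
          rw [← map_natCast (residue A), hn, map_zero]
        exact (CharP.cast_eq_zero_iff (ResidueField A) 0 n).mp h1 |> Nat.eq_zero_of_zero_dvd
      exact ⟨A, inferInstance, ⊥, Or.inl ⟨hfield, hcz⟩, ⟨(RingEquiv.quotientBot A).symm⟩⟩

end Groth.Agent.S2459
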