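import Groth.Statements.S2460
import Groth.Agent.S11741
import Groth.Agent.Lib.PowerSeriesLift50
import Groth.Agent.Lib.AdicPi
import Mathlib

set_option autoImplicit false
universe u
open EGA41

namespace Groth.Agent.S2460

section helpers

/-- integral ring maps do not raise dimension -/
lemma dim_le_of_integral {R S : Type*} [CommRing R] [CommRing S] (f : R →+* S)
    (hf : f.IsIntegral) : ringKrullDim S ≤ ringKrullDim R := by
  algebraize [f]
  have : Algebra.IsIntegral R S := ⟨hf⟩
  exact Order.krullDim_le_of_strictMono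
    (fun I ↦ ⟨Ideal.comap (algebraMap R S) I.asIdeal, inferInstance⟩)
    (fun I J hIJ ↦ by
      have : I.asIdeal < J.asIdeal := hIJ
      exact Ideal.IsIntegral.comap_lt_comap (R := R) this)

/-- a local Noetherian `k₀`-algebra with residue field finite over `k₀`: the quotient by an
ideal whose radical is the maximal ideal is finite over `k₀`. -/
lemma finite_quot {k₀ A : Type*} [Field k₀] [CommRing A] [IsLocalRing A] [IsNoetherianRing A]
    [Algebra k₀ A] [Module.Finite k₀ (IsLocalRing.ResidueField A)] (q : Ideal A)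
    (hq : IsLocalRing.maximalIdeal A ≤ q.radical) (hq' : q ≤ IsLocalRing.maximalIdeal A) :
    Module.Finite k₀ (A ⧸ q) := by
  let f : (A ⧸ q) →ₐ[k₀] IsLocalRing.ResidueField A :=
    Ideal.Quotient.liftₐ q (IsScalarTower.toAlgHom k₀ A (IsLocalRing.ResidueField A))
      (fun a ha => by
        change IsLocalRing.residue A a = 0
        rw [IsLocalRing.residue_eq_zero_iff]
        exact hq' ha)
  have hf : ∀ a : A, f (Ideal.Quotient.mk q a) = IsLocalRing.residue A a := fun a => rfl
  have hker : RingHom.ker f = (IsLocalRing.maximalIdeal A).map (Ideal.Quotient.mk q) := by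
    ext y
    obtain ⟨a, rfl⟩ := Ideal.Quotient.mk_surjective y
    rw [RingHom.mem_ker, hf, IsLocalRing.residue_eq_zero_iff]
    constructor
    · intro ha
      exact Ideal.mem_map_of_mem _ ha
    · intro ha
      rw [Ideal.mem_map_iff_of_surjective _ Ideal.Quotient.mk_surjective] at ha
      obtain ⟨b, hb, hba⟩ := ha
      rw [Ideal.Quotient.eq] at hba
      have : a = b - (b - a) := by ring
      rw [this]
      exact Ideal.sub_mem _ hb (hq' hba)
  refine Module.finite_of_surjective_of_ker_le_nilradical f ?_ ?_ ?_
  · intro y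
    obtain ⟨a, rfl⟩ := IsLocalRing.residue_surjective y
    exact ⟨Ideal.Quotient.mk q a, hf a⟩
  · rw [hker, Ideal.map_le_iff_le_comap]
    intro a ha
    obtain ⟨n, hn⟩ := hq ha
    rw [Ideal.mem_comap, mem_nilradical]
    refine ⟨n, ?_⟩
    rw [← map_pow]
    exact Ideal.Quotient.eq_zero_iff_mem.mpr hn
  · rw [hker]
    exact Ideal.FG.map (IsNoetherian.noetherian _) _

end helpers

open IsLocalRing in
/-- Let A be a complete Noetherian local domain containing a field k₀ such that the residue field of A
is a finite extension of k₀. Then there are n and an injective local k₀-algebra homomorphism from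
the power series ring k₀[[T_1, …, T_n]] into A making A a finite module over it. -/
theorem result {k₀ A : Type u} [Field k₀] [CommRing A] [IsDomain A] [IsLocalRing A] [IsNoetherianRing A]
    [IsAdicComplete (maximalIdeal A) A] [Algebra k₀ A] [Module.Finite k₀ (ResidueField A)] :
    ∃ (n : ℕ) (w : MvPowerSeries (Fin n) k₀ →ₐ[k₀] A), Function.Injective w ∧ IsLocalHom w.toRingHom ∧ w.toRingHom.Finite := by
  classical
  obtain ⟨s, hs, hcard⟩ := (maximalIdeal A).exists_finset_card_eq_height_of_isNoetherianRing
  let x : Fin s.card → A := fun i => (s.equivFin.symm i : A)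
  have hrange : Set.range x = (s : Set A) := by
    ext a
    constructor
    · rintro ⟨i, rfl⟩
      exact (s.equivFin.symm i).2
    · intro ha
      exact ⟨s.equivFin ⟨a, ha⟩, by simp [x]⟩
  have hqm : Ideal.span (s : Set A) ≤ maximalIdeal A := hs.1.2
  have hxm : ∀ i, x i ∈ maximalIdeal A := fun i =>
    hqm (Ideal.subset_span (s.equivFin.symm i).2)
  have hrad : maximalIdeal A ≤ (Ideal.span (s : Set A)).radical := by
    rw [Ideal.radical_eq_sInf]
    refine le_sInf ?_
    rintro p ⟨hp1, hp2⟩
    have hpm : p ≤ maximalIdeal A := IsLocalRing.le_maximalIdeal hp2.ne_top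
    exact hs.2 ⟨hp2, hp1⟩ hpm
  have hdimA : ringKrullDim A = (s.card : ℕ) := by
    rw [← IsLocalRing.maximalIdeal_height_eq_ringKrullDim, ← hcard]
    rfl
  obtain ⟨w, hwX, -⟩ := Groth.Agent.Lib.PowerSeriesLift50.exists_algHom (k := k₀)
    (maximalIdeal A) x hxm
  have hmap : (Ideal.span (Set.range (MvPowerSeries.X : Fin s.card → MvPowerSeries (Fin s.card) k₀))).map
      w.toRingHom = Ideal.span (s : Set A) := by
    rw [Ideal.map_span, ← Set.range_comp, ← hrange]
    congr 2
    ext i
    simp [hwX]
  -- finiteness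
  have hfin : w.toRingHom.Finite := by
    have hfq : Module.Finite k₀ (A ⧸ Ideal.span (s : Set A)) := finite_quot _ hrad hqm
    algebraize [w.toRingHom]
    have hST : IsScalarTower k₀ (MvPowerSeries (Fin s.card) k₀) A :=
      IsScalarTower.of_algebraMap_eq (fun c => (w.commutes c).symm)
    have hJ : (Ideal.span (Set.range (MvPowerSeries.X :
        Fin s.card → MvPowerSeries (Fin s.card) k₀)) • ⊤ : Submodule (MvPowerSeries (Fin s.card) k₀) A) =
        (Ideal.span (s : Set A)).restrictScalars (MvPowerSeries (Fin s.card) k₀) := by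
      rw [Ideal.smul_top_eq_map]
      congr 1
    have hne : Ideal.span (s : Set A) ≠ ⊤ := fun h => by
      rw [h] at hqm
      exact (IsLocalRing.maximalIdeal.isMaximal A).ne_top (top_le_iff.mp hqm)
    have hH : IsHausdorff (Ideal.span (Set.range (MvPowerSeries.X :
        Fin s.card → MvPowerSeries (Fin s.card) k₀))) A := by
      rw [← IsHausdorff.map_algebraMap_iff (S := A)]
      change IsHausdorff ((Ideal.span (Set.range (MvPowerSeries.X :
        Fin s.card → MvPowerSeries (Fin s.card) k₀))).map w.toRingHom) A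
      rw [hmap]
      exact IsHausdorff.of_isLocalRing _ _ hne
    apply Groth.Agent.Lib.AdicPi.finite_of_finite_quotient (Ideal.span (Set.range (MvPowerSeries.X :
        Fin s.card → MvPowerSeries (Fin s.card) k₀))) A
    have e1 := Submodule.Quotient.restrictScalarsEquiv k₀ (Ideal.span (s : Set A))
    have hf1 : Module.Finite k₀ (A ⧸ ((Ideal.span (s : Set A)).restrictScalars k₀)) :=
      Module.Finite.equiv e1.symm
    have hN : (Ideal.span (Set.range (MvPowerSeries.X :
        Fin s.card → MvPowerSeries (Fin s.card) k₀)) • ⊤ :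
          Submodule (MvPowerSeries (Fin s.card) k₀) A).restrictScalars k₀ =
        (Ideal.span (s : Set A)).restrictScalars k₀ := by
      rw [hJ]; rfl
    have e2 := Submodule.Quotient.restrictScalarsEquiv k₀ (Ideal.span (Set.range (MvPowerSeries.X :
        Fin s.card → MvPowerSeries (Fin s.card) k₀)) • ⊤ :
          Submodule (MvPowerSeries (Fin s.card) k₀) A)
    have e3 := Submodule.quotEquivOfEq _ _ hN
    have hf3 : Module.Finite k₀ (A ⧸ (Ideal.span (Set.range (MvPowerSeries.X :
        Fin s.card → MvPowerSeries (Fin s.card) k₀)) • ⊤ :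
          Submodule (MvPowerSeries (Fin s.card) k₀) A)) :=
      Module.Finite.equiv (e3.symm.trans e2)
    exact Module.Finite.of_restrictScalars_finite k₀ (MvPowerSeries (Fin s.card) k₀) _
  refine ⟨s.card, w, ?_, ?_, hfin⟩
  · -- injective
    rw [injective_iff_map_eq_zero]
    intro r hr
    by_contra hr0
    have hle : Ideal.span {r} ≤ RingHom.ker w.toRingHom := by
      rw [Ideal.span_singleton_le_iff_mem]; exact hr
    let g : (MvPowerSeries (Fin s.card) k₀ ⧸ Ideal.span {r}) →+* A :=
      Ideal.Quotient.lift (Ideal.span {r}) w.toRingHom (fun a ha => hle ha)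
    have hg : g.comp (Ideal.Quotient.mk _) = w.toRingHom := Ideal.Quotient.lift_comp_mk ..
    have hint : g.IsIntegral := RingHom.IsIntegral.tower_top _ _ (hg ▸ hfin.to_isIntegral)
    have h1 := dim_le_of_integral g hint
    have h2 := ringKrullDim_quotient_succ_le_of_nonZeroDivisor (r := r)
      (mem_nonZeroDivisors_of_ne_zero hr0)
    have h3 := Groth.Agent.S11741.ringKrullDim_le k₀ s.card
    rw [hdimA] at h1
    have h4 : ((s.card : ℕ) : WithBot ℕ∞) + 1 ≤ (s.card : ℕ) :=
      le_trans (add_le_add_left h1 1) (le_trans h2 h3)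
    norm_cast at h4
    omega
  · -- local
    refine ⟨fun p hp => ?_⟩
    by_contra hnu
    have hpm : p ∈ maximalIdeal (MvPowerSeries (Fin s.card) k₀) := hnu
    rw [Groth.Agent.S11741.maximalIdeal_eq_span] at hpm
    have h1 : w.toRingHom p ∈ (Ideal.span (Set.range (MvPowerSeries.X :
        Fin s.card → MvPowerSeries (Fin s.card) k₀))).map w.toRingHom :=
      Ideal.mem_map_of_mem _ hpm
    rw [hmap] at h1
    exact (hqm h1) hp

end Groth.Agent.S2460
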