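import Groth.Statements.S2461
import Mathlib.RingTheory.AdicCompletion.Completeness
import Mathlib.RingTheory.AdicCompletion.Algebra

set_option autoImplicit false
universe u
open EGA41

namespace Groth.Agent.S2461

variable (A : Type u) {B : Type u} [CommRing A] [CommRing B] [Algebra A B] (𝔟 : Ideal B)

instance towerCompl : IsScalarTower A B (AdicCompletion 𝔟 B) :=
  IsScalarTower.of_algebraMap_eq (fun _ => rfl)

/-- the evaluation map as an `A`-algebra map -/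
noncomputable def evA (n : ℕ) : AdicCompletion 𝔟 B →ₐ[A] B ⧸ 𝔟 ^ n :=
  (AdicCompletion.evalₐ 𝔟 n).restrictScalars A

/-- the canonical map as an `A`-algebra map -/
noncomputable def ofA : B →ₐ[A] AdicCompletion 𝔟 B :=
  IsScalarTower.toAlgHom A B (AdicCompletion 𝔟 B)

lemma evA_ofA (n : ℕ) (b : B) : evA A 𝔟 n (ofA A 𝔟 b) = Ideal.Quotient.mk _ b := by
  change AdicCompletion.evalₐ 𝔟 n (AdicCompletion.of 𝔟 B b) = _
  simp

lemma map_pow_le_ker (n : ℕ) :
    (𝔟.map (algebraMap B (AdicCompletion 𝔟 B))) ^ n ≤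
      RingHom.ker (AdicCompletion.evalₐ 𝔟 n).toRingHom := by
  rw [← Ideal.map_pow, Ideal.map_le_iff_le_comap]
  intro b hb
  rw [Ideal.mem_comap, RingHom.mem_ker]
  change AdicCompletion.evalₐ 𝔟 n (AdicCompletion.of 𝔟 B b) = 0
  rw [AdicCompletion.evalₐ_of]
  exact Ideal.Quotient.eq_zero_iff_mem.mpr hb

lemma ker_le_map_pow (h : 𝔟.FG) (n : ℕ) (x : AdicCompletion 𝔟 B)
    (hx : AdicCompletion.evalₐ 𝔟 n x = 0) :
    x ∈ (𝔟.map (algebraMap B (AdicCompletion 𝔟 B))) ^ n := by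
  have h1 : x ∈ (AdicCompletion.eval 𝔟 B n).ker := by
    rw [LinearMap.mem_ker]
    have h0 : (𝔟 ^ n • ⊤ : Ideal B) = 𝔟 ^ n := by ext x; simp
    have h2 : (Ideal.quotientEquivAlgOfEq B h0) (AdicCompletion.eval 𝔟 B n x) = 0 := hx
    exact (Ideal.quotientEquivAlgOfEq B h0).injective (by rw [h2, map_zero])
  rw [← AdicCompletion.pow_smul_top_eq_ker_eval h] at h1
  rw [← Ideal.map_pow]
  refine Submodule.smul_induction_on h1 ?_ ?_
  · intro r hr y _
    rw [Algebra.smul_def]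
    exact Ideal.mul_mem_right _ _ (Ideal.mem_map_of_mem _ hr)
  · intro y z hy hz
    exact Ideal.add_mem _ hy hz

/-- Let A carry the 𝔞-adic topology and let B be a Noetherian A-algebra with the 𝔟-adic topology. Then B
is formally smooth over A if and only if the 𝔟-adic completion of B, with the adic topology of the
extended ideal, is formally smooth over A. -/
theorem result {A B : Type u} [CommRing A] (𝔞 : Ideal A) [CommRing B] [IsNoetherianRing B] [Algebra A B] (𝔟 : Ideal B) :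
    EGA41.IsFormallySmoothAdic A 𝔞 B 𝔟 ↔
      EGA41.IsFormallySmoothAdic A 𝔞 (AdicCompletion 𝔟 B) (𝔟.map (algebraMap B (AdicCompletion 𝔟 B))) := by
  have hfg : 𝔟.FG := IsNoetherian.noetherian 𝔟
  constructor
  · intro hB C _ _ J hJ ha u hu
    obtain ⟨k, hk⟩ := hu
    obtain ⟨m, hm⟩ := hJ
    -- restrict to B
    have hu0 : ∃ k' : ℕ, ∀ x ∈ 𝔟 ^ k', (u.comp (ofA A 𝔟)) x = 0 := by
      refine ⟨k, fun x hx => ?_⟩
      apply hk
      rw [← Ideal.map_pow]
      exact Ideal.mem_map_of_mem _ hx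
    obtain ⟨v0, hv0⟩ := hB C J ⟨m, hm⟩ ha (u.comp (ofA A 𝔟)) hu0
    have hv0J : ∀ x ∈ 𝔟 ^ k, v0 x ∈ J := by
      intro x hx
      have h1 : (Ideal.Quotient.mkₐ A J) (v0 x) = (u.comp (ofA A 𝔟)) x := by
        rw [← hv0]; rfl
      have h2 : (u.comp (ofA A 𝔟)) x = 0 := by
        apply hk
        rw [← Ideal.map_pow]
        exact Ideal.mem_map_of_mem _ hx
      rw [h2] at h1
      exact Ideal.Quotient.eq_zero_iff_mem.mp h1
    have hv0N : ∀ x ∈ 𝔟 ^ (k * m + k), v0 x = 0 := by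
      intro x hx
      have hx' : x ∈ (𝔟 ^ k) ^ m := by
        rw [← pow_mul]
        exact Ideal.pow_le_pow_right (Nat.le_add_right _ _) hx
      have h3 : (𝔟 ^ k).map v0.toRingHom ≤ J := by
        rw [Ideal.map_le_iff_le_comap]
        intro y hy
        exact hv0J y hy
      have h4 : v0 x ∈ ((𝔟 ^ k).map v0.toRingHom) ^ m := by
        rw [← Ideal.map_pow]
        exact Ideal.mem_map_of_mem _ hx'
      have h5 : v0 x ∈ J ^ m := Ideal.pow_right_mono h3 m h4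
      rw [hm] at h5
      simpa using h5
    let w : B ⧸ 𝔟 ^ (k * m + k) →ₐ[A] C := Ideal.Quotient.liftₐ (𝔟 ^ (k * m + k)) v0 hv0N
    refine ⟨w.comp (evA A 𝔟 (k * m + k)), ?_⟩
    ext x
    obtain ⟨b, hb⟩ := Ideal.Quotient.mk_surjective (AdicCompletion.evalₐ 𝔟 (k * m + k) x)
    have hxb : x - ofA A 𝔟 b ∈ (𝔟.map (algebraMap B (AdicCompletion 𝔟 B))) ^ (k * m + k) := by
      apply ker_le_map_pow 𝔟 hfg
      rw [map_sub]
      have : AdicCompletion.evalₐ 𝔟 (k * m + k) (ofA A 𝔟 b) = Ideal.Quotient.mk _ b :=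
        evA_ofA A 𝔟 _ b
      rw [this, hb, sub_self]
    have hxb' : u (x - ofA A 𝔟 b) = 0 :=
      hk _ (Ideal.pow_le_pow_right (Nat.le_add_left _ _) hxb)
    have hux : u x = u (ofA A 𝔟 b) := by
      rw [map_sub, sub_eq_zero] at hxb'
      exact hxb'
    have hwx : w (evA A 𝔟 (k * m + k) x) = v0 b := by
      have : evA A 𝔟 (k * m + k) x = Ideal.Quotient.mk _ b := hb.symm
      rw [this]
      exact Ideal.Quotient.liftₐ_apply _ _ _ _
    have h6 : (Ideal.Quotient.mkₐ A J) (v0 b) = u (ofA A 𝔟 b) := by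
      have := congrArg (fun f => f b) hv0
      exact this
    change (Ideal.Quotient.mkₐ A J) (w (evA A 𝔟 (k * m + k) x)) = u x
    rw [hwx, h6, hux]
  · intro hB C _ _ J hJ ha u hu
    obtain ⟨k, hk⟩ := hu
    let w : B ⧸ 𝔟 ^ k →ₐ[A] C ⧸ J := Ideal.Quotient.liftₐ (𝔟 ^ k) u hk
    have hu' : ∃ k' : ℕ, ∀ x ∈ (𝔟.map (algebraMap B (AdicCompletion 𝔟 B))) ^ k',
        (w.comp (evA A 𝔟 k)) x = 0 := by
      refine ⟨k, fun x hx => ?_⟩
      have := map_pow_le_ker 𝔟 k hx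
      rw [RingHom.mem_ker] at this
      change w (AdicCompletion.evalₐ 𝔟 k x) = 0
      have h2 : AdicCompletion.evalₐ 𝔟 k x = 0 := this
      rw [h2, map_zero]
    obtain ⟨v, hv⟩ := hB C J hJ ha (w.comp (evA A 𝔟 k)) hu'
    refine ⟨v.comp (ofA A 𝔟), ?_⟩
    ext b
    have h1 : (Ideal.Quotient.mkₐ A J) (v (ofA A 𝔟 b)) = (w.comp (evA A 𝔟 k)) (ofA A 𝔟 b) := by
      rw [← hv]; rfl
    change (Ideal.Quotient.mkₐ A J) (v (ofA A 𝔟 b)) = u b
    rw [h1]
    change w (evA A 𝔟 k (ofA A 𝔟 b)) = u b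
    rw [evA_ofA]
    exact Ideal.Quotient.liftₐ_apply _ _ _ _

end Groth.Agent.S2461
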