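import Groth.Statements.S2463
import Groth.Agent.Lib.LocalSplitH44

set_option autoImplicit false
universe u
open EGA41

namespace Groth.Agent.S2463

open TensorProduct KaehlerDifferential in
/-- Let B be a formally smooth A-algebra (discrete topologies), B → C a surjection with kernel J such
that J/J² is a finitely generated module (over B, equivalently over C), and p a prime of C. The
following are equivalent: the local ring C_p is formally smooth over A; the map κ(p) ⊗ J/J² → κ(p) ⊗
(C ⊗_B Ω_{B/A}) induced by d is injective (tensor products over B, which agree with those over C =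
B/J); there is f ∈ C outside p with C_f formally smooth over A. -/
theorem result {A B C : Type u} [CommRing A] [CommRing B] [CommRing C] [Algebra A B] [Algebra B C] [Algebra A C]
    [IsScalarTower A B C] [Algebra.FormallySmooth A B] (hsurj : Function.Surjective (algebraMap B C))
    [Module.Finite B (RingHom.ker (algebraMap B C)).Cotangent] (p : Ideal C) [p.IsPrime] :
    [Algebra.FormallySmooth A (Localization.AtPrime p),
     Function.Injective ((kerCotangentToTensor A B C).lTensor p.ResidueField),
     ∃ f : C, f ∉ p ∧ Algebra.FormallySmooth A (Localization.Away f)].TFAE := by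
  let P : Algebra.Extension.{u} A C := ⟨B, _, Function.surjInv_eq hsurj⟩
  haveI : Algebra.FormallySmooth A P.Ring := ‹_›
  haveI hfin : Module.Finite C P.Cotangent := by
    have h1 : Module.Finite B P.Cotangent :=
      Module.Finite.equiv (R := B) (M := (RingHom.ker (algebraMap B C)).Cotangent)
        P.cotangentEquivCotangentKer.symm
    exact Module.Finite.of_restrictScalars_finite B C P.Cotangent
  haveI hproj : Module.Projective C P.CotangentSpace := by
    haveI : Module.Projective B Ω[B⁄A] := inferInstance
    exact inferInstanceAs (Module.Projective C (TensorProduct B C Ω[B⁄A]))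
  -- tensoring over `B` or over `C`
  have h22 : Function.Injective ((kerCotangentToTensor A B C).lTensor p.ResidueField) ↔
      Function.Injective (P.cotangentComplex.lTensor p.ResidueField) :=
    Groth.Agent.Lib.LocalSplitH44.injective_lTensor_iff_of_surjective hsurj p.ResidueField
      (kerCotangentToTensor A B C) P.cotangentComplex P.cotangentEquivCotangentKer.symm
      (LinearEquiv.refl B _) (fun m => rfl)
  tfae_have 1 → 2 := by
    intro hp'
    obtain ⟨f, hf, l, hl⟩ : ∃ f ∈ p.primeCompl, ∃ l : P.CotangentSpace →ₗ[C] P.Cotangent,
        l ∘ₗ P.cotangentComplex = f • LinearMap.id := by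
      have htors : ∀ x : P.Cotangent, P.cotangentComplex x = 0 →
          ∃ s ∈ p.primeCompl, s • x = 0 := by
        intro x hx
        let x' : P.H1Cotangent := ⟨x, hx⟩
        have h0 : Algebra.H1Cotangent.map A A C (Localization.AtPrime p)
            (P.equivH1CotangentOfFormallySmooth x') = 0 := Subsingleton.elim _ _
        rw [IsLocalizedModule.eq_zero_iff p.primeCompl] at h0
        obtain ⟨s, hs⟩ := h0
        refine ⟨s, s.2, ?_⟩
        rw [Submonoid.smul_def] at hs
        have h1 : P.equivH1CotangentOfFormallySmooth ((s : C) • x') = 0 := by
          rw [map_smul]; exact hs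
        have h2 : (s : C) • x' = 0 :=
          P.equivH1CotangentOfFormallySmooth.injective (by rw [h1, map_zero])
        exact congrArg Subtype.val h2
      obtain ⟨lam, hlam⟩ := Groth.Agent.S4576.exists_retract_loc p.primeCompl P.cotangentComplex
        P.toKaehler P.exact_cotangentComplex_toKaehler P.toKaehler_surjective
        (KaehlerDifferential.map A A C (Localization.AtPrime p)) htors
      exact Groth.Agent.S4576.exists_retract_up_to _ _ lam hlam
    rw [h22, injective_iff_map_eq_zero]
    intro x hx
    have h1 : (l.lTensor p.ResidueField) ((P.cotangentComplex.lTensor p.ResidueField) x) =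
        f • x := by
      rw [← LinearMap.comp_apply, ← LinearMap.lTensor_comp, hl, LinearMap.lTensor_smul,
        LinearMap.lTensor_id, LinearMap.smul_apply, LinearMap.id_apply]
    rw [hx, map_zero] at h1
    have h2 : algebraMap C p.ResidueField f ≠ 0 := by
      rw [Ne, Ideal.algebraMap_residueField_eq_zero]
      exact hf
    have h3 : algebraMap C p.ResidueField f • x = 0 := by
      rw [algebraMap_smul]; exact h1.symm
    exact (smul_eq_zero.1 h3).resolve_left h2
  tfae_have 2 → 3 := by
    intro h
    rw [h22] at h
    obtain ⟨f, hf, l, hl⟩ :=
      Groth.Agent.Lib.LocalSplitH44.exists_retract_up_to_of_injective p P.cotangentComplex h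
    exact ⟨f, hf, Groth.Agent.S4576.formallySmooth_of_retract P f l hl (Submonoid.powers f)
      (Submonoid.mem_powers f) (Localization.Away f)⟩
  tfae_have 3 → 1 := by
    rintro ⟨f, hf, hfs⟩
    have hunit : IsUnit (algebraMap C (Localization.AtPrime p) f) :=
      IsLocalization.map_units (Localization.AtPrime p) (⟨f, hf⟩ : p.primeCompl)
    letI : Algebra (Localization.Away f) (Localization.AtPrime p) :=
      (IsLocalization.Away.lift f hunit).toAlgebra
    haveI : IsScalarTower C (Localization.Away f) (Localization.AtPrime p) :=
      IsScalarTower.of_algebraMap_eq' (IsLocalization.Away.lift_comp f hunit).symm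
    haveI : IsScalarTower A (Localization.Away f) (Localization.AtPrime p) :=
      IsScalarTower.of_algebraMap_eq (fun a => by
        rw [IsScalarTower.algebraMap_apply A C (Localization.AtPrime p),
          IsScalarTower.algebraMap_apply A C (Localization.Away f),
          ← IsScalarTower.algebraMap_apply C (Localization.Away f) (Localization.AtPrime p)])
    have hle : Submonoid.powers f ≤ p.primeCompl :=
      Submonoid.powers_le.2 hf
    haveI : IsLocalization (p.primeCompl.map (algebraMap C (Localization.Away f)))
        (Localization.AtPrime p) :=
      IsLocalization.isLocalization_of_submonoid_le (Localization.Away f)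
        (Localization.AtPrime p) (Submonoid.powers f) p.primeCompl hle
    haveI : Algebra.FormallyEtale (Localization.Away f) (Localization.AtPrime p) :=
      Algebra.FormallyEtale.of_isLocalization (p.primeCompl.map (algebraMap C (Localization.Away f)))
    exact Algebra.FormallySmooth.comp A (Localization.Away f) (Localization.AtPrime p)
  tfae_finish

end Groth.Agent.S2463
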