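import Groth.Statements.S2464
import Groth.Agent.Lib.PBasisH44

set_option autoImplicit false
universe u
open EGA41

namespace Groth.Agent.S2464

open Groth.Agent.Lib.PBasisH44

section Helpers

variable (p : ℕ) [Fact p.Prime] {A B : Type u} [CommRing A] [CommRing B] [Algebra A B] [CharP B p]
  (hinj : Function.Injective (algebraMap A B))
  (hpow : ∀ b : B, b ^ p ∈ Set.range (algebraMap A B))

omit [Fact (Nat.Prime p)] [CharP B p] in
include hpow in
theorem mem_range_of_mem (c : pPowerSubalgebra p A B) : ∃ a : A, algebraMap A B a = c := by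
  have hle : pPowerSubalgebra p A B ≤ ⊥ := by
    refine Algebra.adjoin_le ?_
    rintro _ ⟨b, rfl⟩
    exact Algebra.mem_bot.2 (hpow b)
  exact Algebra.mem_bot.1 (hle c.2)

omit [CharP B p] in
include hinj hpow in
theorem main {ι : Type u} (x : ι → B) (hx : EGA41.IsPBasis p A x)
    {E : Type u} [CommRing E] [Algebra A E] (q : E →ₐ[A] B)
    (hstar : ∀ (z : E) (a : A), algebraMap A B a = q z ^ p → algebraMap A E a = z ^ p)
    (z : ι → E) (hz : ∀ i, q (z i) = x i) :
    (∃! v : B →ₐ[A] E, ∀ i, v (x i) = z i) ∧
      ∀ v : B →ₐ[A] E, (∀ i, v (x i) = z i) → q.comp v = AlgHom.id A B := by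
  classical
  have hbij : Function.Bijective (algebraMap A (pPowerSubalgebra p A B)) := by
    constructor
    · intro a a' h
      exact hinj (congrArg Subtype.val h)
    · intro c
      obtain ⟨a, ha⟩ := mem_range_of_mem p hpow c
      exact ⟨a, Subtype.ext ha⟩
  let e : A ≃+* pPowerSubalgebra p A B := RingEquiv.ofBijective _ hbij
  let g : pPowerSubalgebra p A B →+* E := (algebraMap A E).comp e.symm.toRingHom
  have hg : ∀ a : A, g (algebraMap A (pPowerSubalgebra p A B) a) = algebraMap A E a := by
    intro a
    change algebraMap A E (e.symm (e a)) = _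
    rw [e.symm_apply_apply]
  have hg' : ∀ (c : pPowerSubalgebra p A B) (a : A), algebraMap A B a = c → g c = algebraMap A E a := by
    intro c a h
    rw [← hg a]
    congr 1
    exact Subtype.ext h.symm
  have hzp : ∀ i, z i ^ p = g ⟨x i ^ p, pow_mem p (x i)⟩ := by
    intro i
    obtain ⟨a, ha⟩ := hpow (x i)
    rw [hg' ⟨x i ^ p, pow_mem p (x i)⟩ a ha]
    exact (hstar (z i) a (by rw [ha, hz])).symm
  obtain ⟨v₀, hv₀C, hv₀x⟩ := exists_ringHom p hx g z hzp
  have hcomm : ∀ a : A, v₀ (algebraMap A B a) = algebraMap A E a := by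
    intro a
    have := hv₀C (algebraMap A (pPowerSubalgebra p A B) a)
    rw [hg a] at this
    exact this
  let v : B →ₐ[A] E := { v₀ with commutes' := hcomm }
  have huniq : ∀ v' : B →ₐ[A] E, (∀ i, v' (x i) = z i) → v' = v := by
    intro v' hv'
    have : (v' : B →+* E) = (v : B →+* E) := by
      refine ringHom_ext p hx _ _ ?_ ?_
      · intro c
        obtain ⟨a, ha⟩ := mem_range_of_mem p hpow c
        rw [← ha]
        simp
      · intro i
        change v' (x i) = v₀ (x i)
        rw [hv' i, hv₀x i]
    exact AlgHom.coe_ringHom_injective this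
  refine ⟨⟨v, hv₀x, huniq⟩, ?_⟩
  intro v' hv'
  have : ((q.comp v' : B →ₐ[A] B) : B →+* B) = ((AlgHom.id A B : B →ₐ[A] B) : B →+* B) := by
    refine ringHom_ext p hx _ _ ?_ ?_
    · intro c
      obtain ⟨a, ha⟩ := mem_range_of_mem p hpow c
      rw [← ha]
      simp
    · intro i
      change q (v' (x i)) = x i
      rw [hv' i, hz i]
  exact AlgHom.coe_ringHom_injective this

end Helpers

/-- Let p be a prime, B a ring of characteristic p and A → B an injective ring map whose image contains
every p-th power, and (x_α) a p-basis of B over A. Let E be an A-algebra and q : E → B a surjective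
A-algebra homomorphism whose kernel K has K^p = 0. (i) q admits an A-algebra right inverse if and
only if, for all z ∈ E and a ∈ A with a ↦ q(z)^p in B, the image of a in E is z^p. (ii) When this
holds, for every family (z_α) in E with q(z_α) = x_α there is a unique A-algebra homomorphism v : B
→ E with v(x_α) = z_α for all α, and q ∘ v is the identity. -/
theorem result (p : ℕ) [Fact p.Prime] {A B : Type u} [CommRing A] [CommRing B] [Algebra A B] [CharP B p]
    (hinj : Function.Injective (algebraMap A B)) (hpow : ∀ b : B, b ^ p ∈ Set.range (algebraMap A B))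
    {ι : Type u} (x : ι → B) (hx : EGA41.IsPBasis p A x)
    {E : Type u} [CommRing E] [Algebra A E] (q : E →ₐ[A] B) (hq : Function.Surjective q) (hK : RingHom.ker q.toRingHom ^ p = ⊥) :
    ((∃ v : B →ₐ[A] E, q.comp v = AlgHom.id A B) ↔ ∀ (z : E) (a : A), algebraMap A B a = q z ^ p → algebraMap A E a = z ^ p) ∧
    ((∀ (z : E) (a : A), algebraMap A B a = q z ^ p → algebraMap A E a = z ^ p) →
      ∀ z : ι → E, (∀ i, q (z i) = x i) →
        (∃! v : B →ₐ[A] E, ∀ i, v (x i) = z i) ∧ ∀ v : B →ₐ[A] E, (∀ i, v (x i) = z i) → q.comp v = AlgHom.id A B) := by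
  classical
  refine ⟨⟨?_, ?_⟩, fun hstar z hz => main p hinj hpow x hx q hstar z hz⟩
  · rintro ⟨v, hv⟩ z a ha
    have hqv : ∀ b, q (v b) = b := fun b => AlgHom.congr_fun hv b
    have : CharP A p := RingHom.charP (algebraMap A B) hinj p
    have hinjE : Function.Injective (algebraMap A E) := by
      have : (fun a => q (algebraMap A E a)) = algebraMap A B := by
        funext a
        exact q.commutes a
      have h2 : Function.Injective (fun a => q (algebraMap A E a)) := by
        rw [this]; exact hinj
      exact Function.Injective.of_comp (f := q) h2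
    have : CharP E p := charP_of_injective_algebraMap hinjE p
    have hk : z - v (q z) ∈ RingHom.ker q.toRingHom := by
      rw [RingHom.mem_ker]
      change q (z - v (q z)) = 0
      rw [map_sub, hqv, sub_self]
    have hkp : (z - v (q z)) ^ p = 0 := by
      have := Ideal.pow_mem_pow hk p
      rw [hK] at this
      exact this
    have hz : z = v (q z) + (z - v (q z)) := by ring
    rw [hz, add_pow_char, hkp, add_zero, ← map_pow, ← ha, AlgHom.commutes]
  · intro hstar
    obtain ⟨⟨v, hv, -⟩, h2⟩ := main p hinj hpow x hx q hstar (fun i => Function.surjInv hq (x i))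
      (fun i => Function.surjInv_eq hq (x i))
    exact ⟨v, h2 v hv⟩

end Groth.Agent.S2464
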