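import Groth.Statements.S2465
import Groth.Agent.Lib.PBasisH44

set_option autoImplicit false
universe u
open EGA41

namespace Groth.Agent.S2465

open Groth.Agent.Lib.PBasisH44

section Helpers

variable (p : ℕ) [Fact p.Prime] {A B : Type u} [CommRing A] [CommRing B] [Algebra A B] [CharP B p]
  (hinj : Function.Injective (algebraMap A B))
  (hpow : ∀ b : B, b ^ p ∈ Set.range (algebraMap A B))

omit [Fact (Nat.Prime p)] [CharP B p] in
include hpow in
theorem mem_range_of_mem (c : pPowerSubalgebra p A B) : ∃ a : A, algebraMap A B a = c := by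
  have hle : pPowerSubalgebra p A B ≤ ⊥ := by
    refine Algebra.adjoin_le ?_
    rintro _ ⟨b, rfl⟩
    exact Algebra.mem_bot.2 (hpow b)
  exact Algebra.mem_bot.1 (hle c.2)

include hinj hpow in
theorem main {ι : Type u} (x : ι → B) (hx : EGA41.IsPBasis p A x)
    (L : Type u) [AddCommGroup L] [Module B L] [Module A L] [IsScalarTower A B L]
    (D : Derivation ℤ A L)
    (hstar : ∀ (a : A) (b : B), algebraMap A B a = b ^ p → D a = 0) (y : ι → L) :
    ∃! D' : Derivation ℤ B L, (∀ a : A, D' (algebraMap A B a) = D a) ∧ ∀ i, D' (x i) = y i := by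
  classical
  have hbij : Function.Bijective (algebraMap A (pPowerSubalgebra p A B)) := by
    constructor
    · intro a a' h
      exact hinj (congrArg Subtype.val h)
    · intro c
      obtain ⟨a, ha⟩ := mem_range_of_mem p hpow c
      exact ⟨a, Subtype.ext ha⟩
  let e : A ≃+* pPowerSubalgebra p A B := RingEquiv.ofBijective _ hbij
  have he : ∀ c : pPowerSubalgebra p A B, algebraMap A B (e.symm c) = c := by
    intro c
    have : e (e.symm c) = c := e.apply_symm_apply c
    exact congrArg Subtype.val this
  let D₀ : pPowerSubalgebra p A B →+ L :=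
    (D : A →+ L).comp (e.symm : pPowerSubalgebra p A B →+* A).toAddMonoidHom
  have hD₀ : ∀ c, D₀ c = D (e.symm c) := fun c => rfl
  have hD₀e : ∀ a : A, D₀ (algebraMap A (pPowerSubalgebra p A B) a) = D a := by
    intro a
    rw [hD₀]
    congr 1
    exact e.symm_apply_apply a
  have hleib : ∀ c c' : pPowerSubalgebra p A B,
      D₀ (c * c') = (c : B) • D₀ c' + (c' : B) • D₀ c := by
    intro c c'
    rw [hD₀, hD₀, hD₀, map_mul, Derivation.leibniz, ← he c, ← he c', algebraMap_smul,
      algebraMap_smul]
  have hD₀p : ∀ i, D₀ ⟨x i ^ p, pow_mem p (x i)⟩ = 0 := by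
    intro i
    rw [hD₀]
    exact hstar _ (x i) (he _)
  obtain ⟨D', hD'C, hD'x⟩ := exists_derivation p hx D₀ hleib hD₀p y
  refine ⟨D', ⟨?_, hD'x⟩, ?_⟩
  · intro a
    have := hD'C (algebraMap A (pPowerSubalgebra p A B) a)
    rw [hD₀e] at this
    exact this
  · rintro D'' ⟨h1, h2⟩
    refine derivation_ext p hx D'' D' ?_ ?_
    · intro c
      obtain ⟨a, ha⟩ := mem_range_of_mem p hpow c
      rw [← ha, h1]
      have := hD'C (algebraMap A (pPowerSubalgebra p A B) a)
      rw [hD₀e] at this
      exact this.symm
    · intro i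
      rw [h2, hD'x]

end Helpers

/-- Let p be a prime, B a ring of characteristic p, A → B injective with image containing all p-th
powers, (x_α) a p-basis of B over A, and L a B-module. (i) An additive derivation D : A → L extends
to a derivation of B if and only if D vanishes on the elements of A mapping to p-th powers. (ii) In
that case, for every family (y_α) in L there is a unique derivation D' of B into L extending D with
D'(x_α) = y_α for all α. -/
theorem result (p : ℕ) [Fact p.Prime] {A B : Type u} [CommRing A] [CommRing B] [Algebra A B] [CharP B p]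
    (hinj : Function.Injective (algebraMap A B)) (hpow : ∀ b : B, b ^ p ∈ Set.range (algebraMap A B))
    {ι : Type u} (x : ι → B) (hx : EGA41.IsPBasis p A x)
    (L : Type u) [AddCommGroup L] [Module B L] [Module A L] [IsScalarTower A B L] (D : Derivation ℤ A L) :
    ((∃ D' : Derivation ℤ B L, ∀ a : A, D' (algebraMap A B a) = D a) ↔ ∀ (a : A) (b : B), algebraMap A B a = b ^ p → D a = 0) ∧
    ((∀ (a : A) (b : B), algebraMap A B a = b ^ p → D a = 0) →
      ∀ y : ι → L, ∃! D' : Derivation ℤ B L, (∀ a : A, D' (algebraMap A B a) = D a) ∧ ∀ i, D' (x i) = y i) := by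
  refine ⟨⟨?_, ?_⟩, fun hstar y => main p hinj hpow x hx L D hstar y⟩
  · rintro ⟨D', hD'⟩ a b hab
    rw [← hD', hab, Derivation.leibniz_pow, ← Nat.cast_smul_eq_nsmul B, CharP.cast_eq_zero B p,
      zero_smul]
  · intro hstar
    obtain ⟨D', ⟨h1, -⟩, -⟩ := main p hinj hpow x hx L D hstar (fun _ => 0)
    exact ⟨D', h1⟩

end Groth.Agent.S2465
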