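import Groth.Statements.S4523
import Groth.Agent.Lib.MacLane4H44

set_option autoImplicit false
universe u
open EGA41

namespace Groth.Agent.S4523

section Helpers

open TensorProduct

variable {k K : Type u} [Field k] [Field K] [Algebra k K]

theorem ext_tensor_kaehler {W : Type*} [AddCommGroup W] [Module K W]
    (g h : K ⊗[k] Ω[k⁄ℤ] →ₗ[K] W)
    (H : ∀ a : k, g (1 ⊗ₜ KaehlerDifferential.D ℤ k a) = h (1 ⊗ₜ KaehlerDifferential.D ℤ k a)) :
    g = h := by
  have key : ∀ y : Ω[k⁄ℤ], g ((1 : K) ⊗ₜ[k] y) = h ((1 : K) ⊗ₜ[k] y) := by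
    intro y
    have hy : y ∈ Submodule.span k (Set.range (KaehlerDifferential.D ℤ k)) := by
      rw [KaehlerDifferential.span_range_derivation]; trivial
    induction hy using Submodule.span_induction with
    | mem y hy =>
      obtain ⟨a, rfl⟩ := hy
      exact H a
    | zero => simp
    | add a b _ _ ha hb => rw [TensorProduct.tmul_add, map_add, map_add, ha, hb]
    | smul c a _ ha =>
      have : (1 : K) ⊗ₜ[k] (c • a) = (algebraMap k K c) • ((1 : K) ⊗ₜ[k] a) := by
        rw [TensorProduct.tmul_smul, TensorProduct.smul_tmul', TensorProduct.smul_tmul',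
          Algebra.smul_def, smul_eq_mul]
      rw [this, map_smul, map_smul, ha]
  apply LinearMap.ext
  intro z
  induction z using TensorProduct.induction_on with
  | zero => simp
  | add a b ha hb => rw [map_add, map_add, ha, hb]
  | tmul x y =>
    have hxy : x ⊗ₜ[k] y = x • ((1 : K) ⊗ₜ[k] y) := by
      rw [TensorProduct.smul_tmul', smul_eq_mul, mul_one]
    rw [hxy, map_smul, map_smul, key y]

theorem injective_iff_derivations_extend :
    Function.Injective (KaehlerDifferential.mapBaseChange ℤ k K) ↔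
      ∀ D : Derivation ℤ k K, ∃ D' : Derivation ℤ K K, ∀ a : k, D' (algebraMap k K a) = D a := by
  constructor
  · intro hinj D
    let φ : Ω[k⁄ℤ] →ₗ[k] K := D.liftKaehlerDifferential
    let ψ : K ⊗[k] Ω[k⁄ℤ] →ₗ[K] K := LinearMap.liftBaseChange K φ
    obtain ⟨g, hg⟩ := LinearMap.exists_leftInverse_of_injective
      (KaehlerDifferential.mapBaseChange ℤ k K) (LinearMap.ker_eq_bot.2 hinj)
    let χ : Ω[K⁄ℤ] →ₗ[K] K := ψ ∘ₗ g
    refine ⟨χ.compDer (KaehlerDifferential.D ℤ K), fun a => ?_⟩
    have h1 : KaehlerDifferential.D ℤ K (algebraMap k K a) =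
        KaehlerDifferential.mapBaseChange ℤ k K (1 ⊗ₜ KaehlerDifferential.D ℤ k a) := by
      rw [KaehlerDifferential.mapBaseChange_tmul, one_smul, KaehlerDifferential.map_D]
    change ψ (g (KaehlerDifferential.D ℤ K (algebraMap k K a))) = D a
    rw [h1]
    have h2 := LinearMap.congr_fun hg (1 ⊗ₜ KaehlerDifferential.D ℤ k a)
    simp only [LinearMap.comp_apply, LinearMap.id_apply] at h2
    rw [h2]
    simp only [ψ, LinearMap.liftBaseChange_tmul, one_smul, φ,
      Derivation.liftKaehlerDifferential_comp_D]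
  · intro hext
    rw [injective_iff_map_eq_zero]
    intro x hx
    by_contra hx0
    obtain ⟨ψ, hψ⟩ : ∃ ψ : Module.Dual K (K ⊗[k] Ω[k⁄ℤ]), ψ x ≠ 0 := by
      by_contra hcon
      simp only [not_exists, not_not] at hcon
      exact hx0 ((Module.forall_dual_apply_eq_zero_iff K x).1 hcon)
    let φ : Ω[k⁄ℤ] →ₗ[k] K :=
      (ψ.restrictScalars k) ∘ₗ (TensorProduct.mk k K Ω[k⁄ℤ] 1)
    obtain ⟨D', hD'⟩ := hext (φ.compDer (KaehlerDifferential.D ℤ k))
    let χ : Ω[K⁄ℤ] →ₗ[K] K := D'.liftKaehlerDifferential
    have hcomp : χ ∘ₗ (KaehlerDifferential.mapBaseChange ℤ k K) = ψ := by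
      apply ext_tensor_kaehler
      intro a
      rw [LinearMap.comp_apply, KaehlerDifferential.mapBaseChange_tmul, one_smul,
        KaehlerDifferential.map_D]
      change D'.liftKaehlerDifferential (KaehlerDifferential.D ℤ K (algebraMap k K a)) = _
      rw [Derivation.liftKaehlerDifferential_comp_D, hD']
      rfl
    apply hψ
    rw [← hcomp, LinearMap.comp_apply, hx, map_zero]

end Helpers

/-- Let k ⊆ K be fields. Then K is a separable extension of k if and only if the imperfection module
Υ_{K/k} vanishes, i.e. the canonical map Ω_{k/ℤ} ⊗_k K → Ω_{K/ℤ} is injective, and if and only if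
every derivation of k into K extends to a derivation of K into itself. (No hypothesis on the
characteristic.) -/
theorem result {k K : Type u} [Field k] [Field K] [Algebra k K] :
    (Algebra.IsGeometricallyReduced k K ↔ EGA41.imperfection ℤ k K = ⊥) ∧
    (Algebra.IsGeometricallyReduced k K ↔
      ∀ D : Derivation ℤ k K, ∃ D' : Derivation ℤ K K, ∀ a : k, D' (algebraMap k K a) = D a) := by
  have h1 := Groth.Agent.Lib.MacLane4H44.isGeometricallyReduced_iff_mapBaseChange_injective k K
  refine ⟨?_, ?_⟩
  · rw [h1]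
    unfold EGA41.imperfection
    rw [LinearMap.ker_eq_bot]
  · rw [h1]
    exact injective_iff_derivations_extend

end Groth.Agent.S4523
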