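import Groth.Statements.S2469
import Groth.Agent.Lib.CartierH44
import Groth.Agent.S4523

set_option autoImplicit false
universe u
open EGA41

namespace Groth.Agent.S2469

open Algebra KaehlerDifferential TensorProduct Groth.Agent.Lib.SixTermH44
  Groth.Agent.Lib.CartierH44 Groth.Agent.Lib.MacLane3H44 Groth.Agent.Lib.MacLane4H44

/-- Over a base `F` (a quotient of `ℤ`) over which `L` is formally smooth, the absolute
imperfection module of `L/K` has the dimension of `H¹(L_{L/K})`. -/
theorem imperfection_finrank (F K L : Type u) [Field F] [Field K] [Field L] [Algebra F K]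
    [Algebra F L] [Algebra K L] [IsScalarTower F K L] [Algebra.FormallySmooth F L]
    (hs : Function.Surjective (algebraMap ℤ F)) [Module.Finite L (H1Cotangent K L)] :
    Module.Finite L (EGA41.imperfection ℤ K L) ∧
      Module.finrank L (EGA41.imperfection ℤ K L) = Module.finrank L (H1Cotangent K L) := by
  -- the comparison isomorphism on the source
  have hbij : Function.Bijective (KaehlerDifferential.map ℤ F K K) :=
    ⟨map_self_injective_of_surjective ℤ F K hs, KaehlerDifferential.map_surjective ℤ F K⟩
  let T₀ : Ω[K⁄ℤ] ≃ₗ[K] Ω[K⁄F] := LinearEquiv.ofBijective (KaehlerDifferential.map ℤ F K K) hbij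
  let T : L ⊗[K] Ω[K⁄ℤ] ≃ₗ[L] L ⊗[K] Ω[K⁄F] := T₀.baseChange K L _ _
  have hS : Function.Injective (KaehlerDifferential.map ℤ F L L) :=
    map_self_injective_of_surjective ℤ F L hs
  have hcomm : ∀ z, KaehlerDifferential.map ℤ F L L (mapBaseChange ℤ K L z) =
      mapBaseChange F K L (T z) := by
    intro z
    rw [map_comp_mapBaseChange ℤ F K L z]
    congr 1
  have hδ : Function.Injective (H1Cotangent.δ F K L) := Groth.Agent.S9319.δ_injective F K L
  have hex : LinearMap.ker (mapBaseChange F K L) = LinearMap.range (H1Cotangent.δ F K L) :=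
    LinearMap.exact_iff.1 (H1Cotangent.exact_δ_mapBaseChange F K L)
  have hker : EGA41.imperfection ℤ K L =
      (LinearMap.range (H1Cotangent.δ F K L)).comap T.toLinearMap := by
    ext z
    rw [EGA41.imperfection, LinearMap.mem_ker, Submodule.mem_comap, ← hex, LinearMap.mem_ker]
    change _ ↔ mapBaseChange F K L (T z) = 0
    rw [← hcomm]
    exact ⟨fun h => by rw [h, map_zero], fun h => hS (h.trans (map_zero _).symm)⟩
  -- linear equivalence with `H¹`
  let e1 : H1Cotangent K L ≃ₗ[L] LinearMap.range (H1Cotangent.δ F K L) :=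
    LinearEquiv.ofInjective _ hδ
  let e2 : ((LinearMap.range (H1Cotangent.δ F K L)).comap T.toLinearMap) ≃ₗ[L]
      LinearMap.range (H1Cotangent.δ F K L) :=
    T.ofSubmodule' (LinearMap.range (H1Cotangent.δ F K L))
  rw [hker]
  exact ⟨Module.Finite.equiv (e1.trans e2.symm), (e2.trans e1.symm).finrank_eq⟩


/-- Let L be a finitely generated extension field of K. Then Ω_{L/K} and the imperfection module Υ_{L/K}
(kernel of Ω_{K/ℤ} ⊗_K L → Ω_{L/ℤ}) are finite-dimensional L-vector spaces and rank Ω_{L/K} − rank
Υ_{L/K} equals the transcendence degree of L over K. -/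
theorem result {K L : Type u} [Field K] [Field L] [Algebra K L] [Algebra.EssFiniteType K L] :
    Module.Finite L (Ω[L⁄K]) ∧ Module.Finite L (EGA41.imperfection ℤ K L) ∧
      (Module.finrank L (Ω[L⁄K]) : ℤ) - Module.finrank L (EGA41.imperfection ℤ K L) = Cardinal.toNat (Algebra.trdeg K L) := by
  obtain ⟨c1, c2, c3⟩ := cartier K L
  have key : Module.Finite L (EGA41.imperfection ℤ K L) ∧
      Module.finrank L (EGA41.imperfection ℤ K L) = Module.finrank L (H1Cotangent K L) := by
    obtain h0 | ⟨p, hp, hchar⟩ := CharP.exists' K
    · have hgr : Algebra.IsGeometricallyReduced K L := isGeometricallyReduced_of_charZero K L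
      have hbot : EGA41.imperfection ℤ K L = ⊥ := (Groth.Agent.S4523.result (k := K) (K := L)).1.1 hgr
      have hsm : Algebra.FormallySmooth K L := formallySmooth_of_charZero K L
      have hsub : Subsingleton (H1Cotangent K L) := inferInstance
      rw [hbot]
      refine ⟨inferInstance, ?_⟩
      rw [finrank_bot, Module.finrank_zero_of_subsingleton]
    · have hL : CharP L p := charP_of_injective_algebraMap (algebraMap K L).injective p
      let _ : Algebra (PF.{u} p) K := (toField p K).toAlgebra
      let _ : Algebra (PF.{u} p) L := (toField p L).toAlgebra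
      have t1 : IsScalarTower (PF.{u} p) K L := by
        apply IsScalarTower.of_algebraMap_eq'
        exact (toField_unique p L ((algebraMap K L).comp (algebraMap (PF.{u} p) K))).symm
      have : Algebra.FormallySmooth (PF.{u} p) L :=
        Groth.Agent.Lib.PBasisField3H44.formallySmooth_of_perfectRing p _ L
      exact imperfection_finrank (PF.{u} p) K L (int_surjective p)
  refine ⟨c1, key.1, ?_⟩
  rw [key.2, ← c3]
  rfl

end Groth.Agent.S2469
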