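import Groth.Statements.S2472
import Groth.Agent.Lib.ImperfTwist3
import Groth.Agent.Lib.ImperfTwist4

set_option autoImplicit false
universe u
open EGA41

namespace Groth.Agent.S2472

open IsLocalRing in
/-- Existence part and the range of dimensions: let k ⊆ K be fields. There is a Noetherian local
k-algebra A, formally smooth over k for its adic topology, whose residue field is k-isomorphic to K,
if and only if Υ_{K/k} is a finite-dimensional K-vector space. When this holds, for every integer n
≥ rank Υ_{K/k} there is such an A which is moreover complete and of dimension n. (The source's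
uniqueness-up-to-isomorphism clause for a given dimension is not stated.) -/
theorem result {k K : Type u} [Field k] [Field K] [Algebra k K] :
    ((∃ (A : Type u) (_ : CommRing A) (_ : IsLocalRing A) (_ : IsNoetherianRing A) (_ : Algebra k A),
        CAlgX.IsAdicFormallySmooth k A (maximalIdeal A) ∧ Nonempty (ResidueField A ≃ₐ[k] K)) ↔
      Module.Finite K (EGA41.imperfection ℤ k K)) ∧
    (Module.Finite K (EGA41.imperfection ℤ k K) → ∀ n : ℕ, Module.finrank K (EGA41.imperfection ℤ k K) ≤ n →
      ∃ (A : Type u) (_ : CommRing A) (_ : IsLocalRing A) (_ : IsNoetherianRing A) (_ : Algebra k A),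
        IsAdicComplete (maximalIdeal A) A ∧ CAlgX.IsAdicFormallySmooth k A (maximalIdeal A) ∧
        Nonempty (ResidueField A ≃ₐ[k] K) ∧ ringKrullDim A = n) := by
  have part2 : Module.Finite K (EGA41.imperfection ℤ k K) → ∀ n : ℕ,
      Module.finrank K (EGA41.imperfection ℤ k K) ≤ n →
      ∃ (A : Type u) (_ : CommRing A) (_ : IsLocalRing A) (_ : IsNoetherianRing A) (_ : Algebra k A),
        IsAdicComplete (maximalIdeal A) A ∧ CAlgX.IsAdicFormallySmooth k A (maximalIdeal A) ∧
        Nonempty (ResidueField A ≃ₐ[k] K) ∧ ringKrullDim A = n := by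
    intro hfin n hn
    have hn' : Module.finrank K (EGA41.imperfection ℤ k K) ≤ Module.finrank K (Fin n → K) := by
      rw [Module.finrank_fin_fun]
      exact hn
    have hfree : Module.Free K (EGA41.imperfection ℤ k K) :=
      Module.Free.of_divisionRing K ↥(EGA41.imperfection ℤ k K)
    obtain ⟨j, hj⟩ := (finrank_le_iff_exists_linearMap (R := K)
      (M := EGA41.imperfection ℤ k K) (M' := Fin n → K)).1 hn'
    obtain ⟨δ, hδ⟩ := LinearMap.exists_extend (p := EGA41.imperfection ℤ k K) j
    obtain ⟨alg, h1, h2, h3, h4⟩ := Groth.Agent.Lib.ImperfTwist.exists_complete n δ (fun z hz hδz => by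
      have hz' : z ∈ EGA41.imperfection ℤ k K := hz
      have h5 : j ⟨z, hz'⟩ = 0 := by
        rw [← hδ]
        exact hδz
      have h6 : (⟨z, hz'⟩ : EGA41.imperfection ℤ k K) = 0 := by
        apply hj
        rw [h5, map_zero]
      exact congrArg Subtype.val h6)
    exact ⟨MvPowerSeries (Fin n) K, inferInstance, inferInstance, inferInstance, alg, h1, h2, h3, h4⟩
  refine ⟨⟨?_, ?_⟩, part2⟩
  · rintro ⟨A, _, _, _, _, hfs, ⟨e⟩⟩
    exact Groth.Agent.Lib.ImperfTwist.finite_imperfection_of_injective
      ((Groth.Agent.S2471.result).1 hfs).2 e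
  · intro hfin
    obtain ⟨A, i1, i2, i3, i4, -, hfs, he, -⟩ := part2 hfin _ le_rfl
    exact ⟨A, i1, i2, i3, i4, hfs, he⟩

end Groth.Agent.S2472
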