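import Groth.Statements.S2475
import Groth.Agent.Lib.FilteredIndepH44
import Groth.Agent.Lib.PBasisField3H44
import Groth.Agent.S2468

set_option autoImplicit false
universe u
open EGA41

namespace Groth.Agent.S2475

open EGA41 Groth.Agent.Lib.PBasisH44 Groth.Agent.Lib.PBasisFieldH44
  Groth.Agent.Lib.PBasisField3H44 Groth.Agent.Lib.FilteredIndepH44

section Helpers

variable (p : ℕ) [hp : Fact p.Prime] {k₀ K : Type u} [Field k₀] [Field K] [Algebra k₀ K]

/-- `k'[K^p]` is closed under inverses -/
theorem inv_mem_pPower {k' : Type u} [Field k'] [Algebra k' K] {s : K}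
    (hs : s ∈ pPowerSubalgebra p k' K) : s⁻¹ ∈ pPowerSubalgebra p k' K := by
  have h1 : s ∈ (⊥ : Subalgebra (pPowerSubalgebra p k' K) K) :=
    Subalgebra.algebraMap_mem _ (⟨s, hs⟩ : pPowerSubalgebra p k' K)
  obtain ⟨c, hc⟩ := Algebra.mem_bot.1 (inv_mem p _ h1)
  rw [← hc]
  exact c.2

theorem mem_pPower_base (c : K) : c ∈ pPowerSubalgebra p k₀ K ↔
    c ∈ IntermediateField.adjoin k₀ (Set.range fun y : K => y ^ p) := by
  constructor
  · intro hc
    induction hc using Algebra.adjoin_induction with
    | mem s hs => exact IntermediateField.subset_adjoin k₀ _ hs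
    | algebraMap a => exact IntermediateField.algebraMap_mem _ a
    | add s t _ _ hs ht => exact add_mem hs ht
    | mul s t _ _ hs ht => exact mul_mem hs ht
  · intro hc
    let F' : IntermediateField k₀ K :=
      { (pPowerSubalgebra p k₀ K) with inv_mem' := fun _ hs => inv_mem_pPower p hs }
    have hle : IntermediateField.adjoin k₀ (Set.range fun y : K => y ^ p) ≤ F' := by
      rw [IntermediateField.adjoin_le_iff]
      rintro _ ⟨y, rfl⟩
      exact pow_mem p y
    exact hle hc

theorem mem_pPower_iff (F : IntermediateField k₀ K) (c : K) :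
    c ∈ pPowerSubalgebra p ↥F K ↔
      c ∈ F ⊔ IntermediateField.adjoin k₀ (Set.range fun y : K => y ^ p) := by
  constructor
  · intro hc
    induction hc using Algebra.adjoin_induction with
    | mem s hs => exact (le_sup_right : _ ≤ F ⊔ _) (IntermediateField.subset_adjoin k₀ _ hs)
    | algebraMap a => exact (le_sup_left : F ≤ F ⊔ _) a.2
    | add s t _ _ hs ht => exact add_mem hs ht
    | mul s t _ _ hs ht => exact mul_mem hs ht
  · intro hc
    let F' : IntermediateField k₀ K :=
      { ((pPowerSubalgebra p ↥F K).restrictScalars k₀) with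
        inv_mem' := fun _ hs => inv_mem_pPower p hs }
    have hle : F ⊔ IntermediateField.adjoin k₀ (Set.range fun y : K => y ^ p) ≤ F' := by
      apply sup_le
      · intro a ha
        exact (pPowerSubalgebra p ↥F K).algebraMap_mem (⟨a, ha⟩ : F)
      · rw [IntermediateField.adjoin_le_iff]
        rintro _ ⟨y, rfl⟩
        exact pow_mem p y
    exact hle hc

variable [CharP K p]

theorem D_eq_zero_of_mem_sup (F : IntermediateField k₀ K) (x : K)
    (hx : x ∈ F ⊔ IntermediateField.adjoin k₀ (Set.range fun y : K => y ^ p)) :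
    KaehlerDifferential.D F K x = 0 :=
  Groth.Agent.S2466.D_eq_zero_of_mem p x ((mem_pPower_iff p F x).2 hx)

theorem mem_of_D_eq_zero (x : K) (hx : KaehlerDifferential.D k₀ K x = 0) :
    x ∈ IntermediateField.adjoin k₀ (Set.range fun y : K => y ^ p) := by
  rw [← mem_pPower_base]
  by_contra hmem
  obtain ⟨d, -, hd⟩ := Groth.Agent.S2468.exists_derivation_of_notMem p (k := k₀)
    (fun e : PEmpty.{u+1} => (e.elim : K)) x (by
      rw [Set.range_eq_empty, Algebra.adjoin_empty]
      rintro ⟨c, hc⟩
      exact hmem (hc ▸ c.2))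
  have := Derivation.liftKaehlerDifferential_comp_D d x
  rw [hx, map_zero, hd] at this
  exact zero_ne_one this

theorem transfer {ι : Type u} [Preorder ι] [IsDirected ι (· ≤ ·)] [Nonempty ι]
    (k : ι → IntermediateField k₀ K) (hk : Antitone k)
    (H : (⨅ i, k i ⊔ IntermediateField.adjoin k₀ (Set.range fun y : K => y ^ p)) =
      IntermediateField.adjoin k₀ (Set.range fun y : K => y ^ p))
    {σ : Type u} [Finite σ] (x : σ → K) (h0 : IsPIndependent p k₀ x) :
    ∃ i, IsPIndependent p (k i) x := by
  classical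
  have hfin : Finite {e : σ →₀ ℕ // ∀ j, e j < p} :=
    Finite.of_injective (fun e => fun j => (⟨e.1 j, e.2 j⟩ : Fin p)) (by
      intro e e' h
      apply Subtype.ext
      ext j
      exact congrArg (fun f => ((f j : Fin p) : ℕ)) h)
  have : Fintype {e : σ →₀ ℕ // ∀ j, e j < p} := Fintype.ofFinite _
  let E : ι → Subfield K := fun i =>
    (k i ⊔ IntermediateField.adjoin k₀ (Set.range fun y : K => y ^ p)).toSubfield
  have hE : Antitone E := by
    intro i j hij c hc
    exact (sup_le_sup_right (hk hij) _ : k j ⊔ _ ≤ k i ⊔ _) hc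
  have hInf : ∀ c : K, c ∈ ⨅ i, E i ↔
      c ∈ IntermediateField.adjoin k₀ (Set.range fun y : K => y ^ p) := by
    intro c
    rw [← H, ← IntermediateField.mem_toSubfield, IntermediateField.iInf_toSubfield]
  have h1 : IndOn (⨅ i, E i) (fun e : {e : σ →₀ ℕ // ∀ j, e j < p} => pMonomial x e.1)
      Finset.univ := by
    intro c hc hsum
    have h2 := Fintype.linearIndependent_iff.1 h0
      (fun e => ⟨c e, (mem_pPower_base p (c e)).2 ((hInf _).1 (hc e (Finset.mem_univ e)))⟩) (by
        simp only [Subalgebra.smul_def, smul_eq_mul]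
        exact hsum)
    intro e _
    exact congrArg Subtype.val (h2 e)
  obtain ⟨i, hi⟩ := exists_indOn E hE _ _ h1
  refine ⟨i, ?_⟩
  unfold IsPIndependent
  rw [Fintype.linearIndependent_iff]
  intro g hg e
  have := hi (fun e => (g e : K)) (fun e _ => (mem_pPower_iff p (k i) _).1 (g e).2) (by
    simp only [Subalgebra.smul_def, smul_eq_mul] at hg
    exact hg) e (Finset.mem_univ e)
  exact Subtype.ext this

theorem forward {ι : Type u} [Preorder ι] [IsDirected ι (· ≤ ·)] [Nonempty ι]
    (k : ι → IntermediateField k₀ K) (hk : Antitone k)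
    (H : (⨅ i, k i ⊔ IntermediateField.adjoin k₀ (Set.range fun y : K => y ^ p)) =
      IntermediateField.adjoin k₀ (Set.range fun y : K => y ^ p))
    (ω : Ω[K⁄k₀]) (hω : ∀ i, KaehlerDifferential.map k₀ (k i) K K ω = 0) : ω = 0 := by
  classical
  obtain ⟨B, hB⟩ := exists_pBasis p k₀ K
  obtain ⟨bΩ, hbΩ⟩ := Groth.Agent.S2466.result p (Subtype.val : B → K) hB
  let S : Finset ↥B := (bΩ.repr ω).support
  let xS : ↥S → K := fun s => ((s.1 : ↥B) : K)
  have hind0 : IsPIndependent p k₀ xS := by
    apply ((Groth.Agent.S2468.result p xS).1).2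
    have := bΩ.linearIndependent.comp (fun s : ↥S => s.1) Subtype.val_injective
    have heq : (fun s : ↥S => KaehlerDifferential.D k₀ K (xS s)) =
        bΩ ∘ (fun s : ↥S => s.1) := by
      funext s
      exact (hbΩ s.1).symm
    rw [heq]
    exact this
  obtain ⟨i, hi⟩ := transfer p k hk H xS hind0
  have hlin := ((Groth.Agent.S2468.result p (k := k i) xS).1).1 hi
  have hω' : ω = ∑ b ∈ S, (bΩ.repr ω b) • KaehlerDifferential.D k₀ K (b : K) := by
    conv_lhs => rw [← bΩ.linearCombination_repr ω]
    rw [Finsupp.linearCombination_apply, Finsupp.sum]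
    apply Finset.sum_congr rfl
    intro b _
    rw [hbΩ]
  have h0 := hω i
  rw [hω', map_sum] at h0
  simp only [map_smul, KaehlerDifferential.map_D, Algebra.algebraMap_self, RingHom.id_apply] at h0
  rw [← Finset.sum_coe_sort] at h0
  have hz := Fintype.linearIndependent_iff.1 hlin (fun s => bΩ.repr ω s.1) h0
  have hrepr : bΩ.repr ω = 0 := by
    ext b
    by_contra hb
    exact hb (hz ⟨b, Finsupp.mem_support_iff.2 hb⟩)
  exact (LinearEquiv.map_eq_zero_iff _).1 hrepr

end Helpers

/-- Let K be a field of characteristic p > 0, k₀ ⊆ K a subfield and (k_α) a decreasing filtered family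
of subfields of K containing k₀. Then ⋂_α k_α(K^p) = k₀(K^p) if and only if the canonical map
Ω_{K/k₀} → lim_α Ω_{K/k_α} is injective (an element of Ω_{K/k₀} whose image in every Ω_{K/k_α}
vanishes is zero). (Conditions (b), (b') of the source, on admissible subfields, are not stated.) -/
theorem result (p : ℕ) [Fact p.Prime] {k₀ K : Type u} [Field k₀] [Field K] [Algebra k₀ K] [CharP K p]
    {ι : Type u} [Preorder ι] [IsDirected ι (· ≤ ·)] [Nonempty ι] (k : ι → IntermediateField k₀ K) (hk : Antitone k) :
    (⨅ i, k i ⊔ IntermediateField.adjoin k₀ (Set.range fun y : K => y ^ p)) = IntermediateField.adjoin k₀ (Set.range fun y : K => y ^ p) ↔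
      ∀ ω : Ω[K⁄k₀], (∀ i, KaehlerDifferential.map k₀ (k i) K K ω = 0) → ω = 0 := by
  constructor
  · intro H ω hω
    exact forward p k hk H ω hω
  · intro H
    apply le_antisymm
    · intro x hx
      have hx' : ∀ i, x ∈ k i ⊔ IntermediateField.adjoin k₀ (Set.range fun y : K => y ^ p) := by
        intro i
        exact (iInf_le (fun i => k i ⊔
          IntermediateField.adjoin k₀ (Set.range fun y : K => y ^ p)) i) hx
      apply mem_of_D_eq_zero p x
      apply H
      intro i
      rw [KaehlerDifferential.map_D k₀ (↥(k i)) K K x]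
      exact D_eq_zero_of_mem_sup p (k i) x (hx' i)
    · exact le_iInf fun i => le_sup_right

end Groth.Agent.S2475
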