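import Groth.Statements.S4570
-- import your own Groth.Agent.* helpers here
import Mathlib
import Groth.Agent.Lib.AdicSym83
import Groth.Agent.Lib.AdicSym83b

set_option autoImplicit false
set_option linter.style.haveILetI false
universe u
open TensorProduct KaehlerDifferential
open EGA41

namespace Groth.Agent.S4570

open Groth.Agent.Lib.AdicSym83

noncomputable section

section Trans
variable {Λ A B : Type u} [CommRing Λ] [CommRing A] [CommRing B] [Algebra Λ A] [Algebra A B]
  [Algebra Λ B] [IsScalarTower Λ A B] (J : Ideal B)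

lemma adic_trans [Algebra.FormallySmooth Λ A] (h : CAlgX.IsAdicFormallySmooth A B J) :
    CAlgX.IsAdicFormallySmooth Λ B J := by
  intro E _ _ I hI ψ hk
  obtain ⟨g, hg⟩ := Algebra.FormallySmooth.exists_lift I ⟨2, hI⟩
    (ψ.comp (IsScalarTower.toAlgHom Λ A B))
  letI : Algebra A E := g.toRingHom.toAlgebra
  haveI : IsScalarTower Λ A E := IsScalarTower.of_algebraMap_eq (fun a => (g.commutes a).symm)
  let ψA : B →ₐ[A] E ⧸ I :=
    { ψ.toRingHom with
      commutes' := fun a => by
        have := AlgHom.congr_fun hg a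
        exact this.symm }
  obtain ⟨χ, hχ⟩ := h E I hI ψA hk
  refine ⟨χ.restrictScalars Λ, ?_⟩
  ext b
  exact AlgHom.congr_fun hχ b

end Trans

section DerLift
open TrivSqZeroExt
variable {A B : Type u} [CommRing A] [CommRing B] [Algebra A B] (J : Ideal B)
variable {M N : Type u} [AddCommGroup M] [Module (B ⧸ J) M] [Module (B ⧸ J)ᵐᵒᵖ M]
  [IsCentralScalar (B ⧸ J) M] [AddCommGroup N] [Module (B ⧸ J) N]
variable (u : M →ₗ[B ⧸ J] N)

lemma snd_mul'' (x y : TrivSqZeroExt (B ⧸ J) M) :
    (x * y).snd = x.fst • y.snd + y.fst • x.snd := by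
  rw [TrivSqZeroExt.snd_mul]
  simp

/-- the square-zero ideal. -/
def IIu : Ideal (TrivSqZeroExt (B ⧸ J) M) where
  carrier := {x | x.fst = 0 ∧ u x.snd = 0}
  add_mem' := by
    rintro x y ⟨h1, h2⟩ ⟨h3, h4⟩
    exact ⟨by rw [fst_add, h1, h3, add_zero], by rw [snd_add, map_add, h2, h4, add_zero]⟩
  zero_mem' := ⟨fst_zero, by rw [snd_zero, map_zero]⟩
  smul_mem' := by
    rintro c x ⟨h1, h2⟩
    refine ⟨by rw [smul_eq_mul, fst_mul, h1, mul_zero], ?_⟩
    rw [smul_eq_mul, snd_mul'', h1, zero_smul, add_zero, map_smul, h2, smul_zero]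

lemma mem_IIu (x : TrivSqZeroExt (B ⧸ J) M) : x ∈ IIu J u ↔ x.fst = 0 ∧ u x.snd = 0 := Iff.rfl

lemma IIu_sq : IIu J u ^ 2 = ⊥ := by
  rw [eq_bot_iff, pow_two, Ideal.mul_le]
  rintro x ⟨h1, _⟩ y ⟨h3, _⟩
  rw [Ideal.mem_bot]
  ext
  · rw [fst_mul, h1, zero_mul, fst_zero]
  · rw [snd_mul'', h1, h3, zero_smul, zero_smul, add_zero, snd_zero]

variable (d0 : A → M)
  (hd0_add : ∀ a a', d0 (a + a') = d0 a + d0 a')
  (hd0_mul : ∀ a a', d0 (a * a') = (Ideal.Quotient.mk J (algebraMap A B a)) • d0 a' +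
    (Ideal.Quotient.mk J (algebraMap A B a')) • d0 a)

include hd0_add in
lemma d0_zero : d0 0 = 0 := by
  have := hd0_add 0 0
  rw [add_zero] at this
  exact left_eq_add.mp this

include hd0_mul in
lemma d0_one : d0 1 = 0 := by
  have := hd0_mul 1 1
  rw [mul_one, map_one, map_one, one_smul] at this
  exact left_eq_add.mp this

/-- the twisted structure map. -/
def tw : A →+* TrivSqZeroExt (B ⧸ J) M where
  toFun a := inl (Ideal.Quotient.mk J (algebraMap A B a)) + inr (d0 a)
  map_one' := by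
    rw [d0_one J d0 hd0_mul, map_one, map_one, inr_zero, add_zero, inl_one]
  map_mul' a a' := by
    ext
    · simp
    · simp only [snd_add, snd_inl, snd_inr, zero_add, snd_mul'', fst_add, fst_inl, fst_inr, add_zero]
      exact hd0_mul a a'
  map_zero' := by
    rw [d0_zero d0 hd0_add, map_zero, map_zero, inr_zero, add_zero, inl_zero]
  map_add' a a' := by
    ext
    · simp
    · simp only [snd_add, snd_inl, snd_inr, zero_add]
      exact hd0_add a a'

variable (hu : Function.Surjective u)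
variable (DN : B → N)
  (hDN_add : ∀ b b', DN (b + b') = DN b + DN b')
  (hDN_mul : ∀ b b', DN (b * b') = (Ideal.Quotient.mk J b) • DN b' + (Ideal.Quotient.mk J b') • DN b)
  (hDN_comp : ∀ a, DN (algebraMap A B a) = u (d0 a))

include hDN_add in
lemma DN_zero : DN 0 = 0 := by
  have := hDN_add 0 0
  rw [add_zero] at this
  exact left_eq_add.mp this

include hDN_add hDN_mul in
lemma DN_kill : ∀ x ∈ J ^ 2, DN x = 0 := by
  intro x hx
  rw [pow_two] at hx
  refine Submodule.mul_induction_on hx ?_ ?_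
  · intro m hm n hn
    rw [hDN_mul, Ideal.Quotient.eq_zero_iff_mem.mpr hm, Ideal.Quotient.eq_zero_iff_mem.mpr hn,
      zero_smul, zero_smul, add_zero]
  · intro x y hx hy
    rw [hDN_add, hx, hy, add_zero]

include hd0_add hd0_mul hu hDN_add hDN_mul hDN_comp in
theorem exists_der_lift (h : CAlgX.IsAdicFormallySmooth A B J) :
    ∃ DM : B → M, (∀ b b', DM (b + b') = DM b + DM b') ∧
      (∀ b b', DM (b * b') = (Ideal.Quotient.mk J b) • DM b' + (Ideal.Quotient.mk J b') • DM b) ∧
      (∀ a, DM (algebraMap A B a) = d0 a) ∧ (∀ b, u (DM b) = DN b) := by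
  letI : Algebra A (TrivSqZeroExt (B ⧸ J) M) := (tw J d0 hd0_add hd0_mul).toAlgebra
  have halg : ∀ a, algebraMap A (TrivSqZeroExt (B ⧸ J) M) a =
      inl (Ideal.Quotient.mk J (algebraMap A B a)) + inr (d0 a) := fun a => rfl
  let v : N → M := Function.surjInv hu
  have hv : ∀ n, u (v n) = n := Function.surjInv_eq hu
  let ψ : B →ₐ[A] TrivSqZeroExt (B ⧸ J) M ⧸ IIu J u :=
    { toFun := fun b => Ideal.Quotient.mk _ (inl (Ideal.Quotient.mk J b) + inr (v (DN b)))
      map_one' := by
        rw [← map_one (Ideal.Quotient.mk (IIu J u)), Ideal.Quotient.eq, mem_IIu]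
        have h1 : DN 1 = 0 := by
          have := hDN_mul 1 1
          rw [mul_one, map_one, one_smul] at this
          exact left_eq_add.mp this
        constructor
        · simp
        · simp [hv, h1]
      map_mul' := fun b c => by
        rw [← map_mul, Ideal.Quotient.eq, mem_IIu]
        constructor
        · simp
        · simp only [snd_sub, snd_add, snd_inl, snd_inr, snd_mul'', fst_add, fst_inl, fst_inr,
            add_zero, zero_add, map_sub, map_add, map_smul, hv, hDN_mul]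
          abel
      map_zero' := by
        rw [← map_zero (Ideal.Quotient.mk (IIu J u)), Ideal.Quotient.eq, mem_IIu]
        constructor
        · simp
        · simp [hv, DN_zero DN hDN_add]
      map_add' := fun b c => by
        rw [← map_add, Ideal.Quotient.eq, mem_IIu]
        constructor
        · simp
        · simp only [snd_sub, snd_add, snd_inl, snd_inr, zero_add, map_sub, map_add, hv, hDN_add]
          abel
      commutes' := fun a => by
        change _ = Ideal.Quotient.mk (IIu J u) (algebraMap A (TrivSqZeroExt (B ⧸ J) M) a)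
        rw [Ideal.Quotient.eq, mem_IIu, halg]
        constructor
        · simp
        · simp [hv, hDN_comp] }
  have hψ : ∀ b, ψ b = Ideal.Quotient.mk _ (inl (Ideal.Quotient.mk J b) + inr (v (DN b))) :=
    fun b => rfl
  have hk : ∀ x ∈ J ^ 2, ψ x = 0 := by
    intro x hx
    have hxJ : x ∈ J := Ideal.pow_le_self two_ne_zero hx
    rw [hψ, Ideal.Quotient.eq_zero_iff_mem, mem_IIu, DN_kill J DN hDN_add hDN_mul x hx,
      Ideal.Quotient.eq_zero_iff_mem.mpr hxJ]
    constructor
    · simp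
    · simp [hv]
  obtain ⟨χ, hχ⟩ := h (TrivSqZeroExt (B ⧸ J) M) (IIu J u) (IIu_sq J u) ψ ⟨2, hk⟩
  have hspec : ∀ b, (χ b).fst = Ideal.Quotient.mk J b ∧ u (χ b).snd = DN b := by
    intro b
    have h1 : Ideal.Quotient.mk (IIu J u) (χ b) = ψ b := by
      rw [← hχ]; rfl
    rw [hψ, Ideal.Quotient.eq, mem_IIu] at h1
    obtain ⟨h2, h3⟩ := h1
    constructor
    · simpa [sub_eq_zero] using h2
    · simpa [hv, sub_eq_zero] using h3
  refine ⟨fun b => (χ b).snd, ?_, ?_, ?_, ?_⟩
  · intro b b'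
    beta_reduce
    rw [map_add, snd_add]
  · intro b b'
    beta_reduce
    rw [map_mul, snd_mul'', (hspec b).1, (hspec b').1]
  · intro a
    beta_reduce
    rw [χ.commutes, halg]
    simp
  · intro b
    exact (hspec b).2

end DerLift

section Delta
variable {A B : Type u} [CommRing A] [CommRing B] [Algebra A B] (J : Ideal B)

/-- a function with additivity and Leibniz rule into a `B/J`-module, as a derivation. -/
def mkDer {Λ : Type u} [CommRing Λ] [Algebra Λ B] {F : Type*} [AddCommGroup F]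
    [Module (B ⧸ J) F] [Module B F] [IsScalarTower B (B ⧸ J) F] [Module Λ F] [IsScalarTower Λ B F]
    (DM : B → F) (h1 : ∀ b b', DM (b + b') = DM b + DM b')
    (h2 : ∀ b b', DM (b * b') = (Ideal.Quotient.mk J b) • DM b' + (Ideal.Quotient.mk J b') • DM b)
    (h3 : ∀ l : Λ, DM (algebraMap Λ B l) = 0) : Derivation Λ B F :=
  Derivation.mk'
    { toFun := DM
      map_add' := h1
      map_smul' := fun a b => by
        rw [RingHom.id_apply, Algebra.smul_def, h2, h3, smul_zero, add_zero, mk_smul' J,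
          algebraMap_smul] }
    (fun b b' => by
      change DM (b * b') = b • DM b' + b' • DM b
      rw [h2, mk_smul' J, mk_smul' J])

lemma mkDer_apply {Λ : Type u} [CommRing Λ] [Algebra Λ B] {F : Type*} [AddCommGroup F]
    [Module (B ⧸ J) F] [Module B F] [IsScalarTower B (B ⧸ J) F] [Module Λ F] [IsScalarTower Λ B F]
    (DM : B → F) (h1 : ∀ b b', DM (b + b') = DM b + DM b')
    (h2 : ∀ b b', DM (b * b') = (Ideal.Quotient.mk J b) • DM b' + (Ideal.Quotient.mk J b') • DM b)
    (h3 : ∀ l : Λ, DM (algebraMap Λ B l) = 0) (b : B) : mkDer J DM h1 h2 h3 b = DM b := rfl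

lemma mk_smul_tmul {X : Type*} [AddCommGroup X] [Module B X] (b : B) (x : (B ⧸ J) ⊗[B] X) :
    (Ideal.Quotient.mk J b) • x = b • x := mk_smul' J b x

lemma one_tmul_D_mul (b b' : B) :
    (1 : B ⧸ J) ⊗ₜ[B] D A B (b * b') =
      (Ideal.Quotient.mk J b) • ((1 : B ⧸ J) ⊗ₜ[B] D A B b') +
        (Ideal.Quotient.mk J b') • ((1 : B ⧸ J) ⊗ₜ[B] D A B b) := by
  rw [Derivation.leibniz, tmul_add, tmul_smul, tmul_smul, mk_smul_tmul J, mk_smul_tmul J]

theorem projective_of_adic (h : CAlgX.IsAdicFormallySmooth A B J) :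
    Module.Projective (B ⧸ J) ((B ⧸ J) ⊗[B] (Ω[B⁄A])) := by
  rw [Module.projective_def']
  obtain ⟨DM, h1, h2, h3, h4⟩ := exists_der_lift J
    (M := ((B ⧸ J) ⊗[B] (Ω[B⁄A])) →₀ (B ⧸ J)) (N := (B ⧸ J) ⊗[B] (Ω[B⁄A]))
    (Finsupp.linearCombination (B ⧸ J) id) (fun _ : A => 0) (by simp) (by simp)
    (Finsupp.linearCombination_id_surjective _ _) (fun b => (1 : B ⧸ J) ⊗ₜ[B] D A B b)
    (fun b b' => by rw [map_add, tmul_add]) (one_tmul_D_mul J)
    (fun a => by rw [Derivation.map_algebraMap, tmul_zero, map_zero]) h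
  let Der : Derivation A B (((B ⧸ J) ⊗[B] (Ω[B⁄A])) →₀ (B ⧸ J)) := mkDer J DM h1 h2 h3
  refine ⟨LinearMap.liftBaseChange (B ⧸ J) Der.liftKaehlerDifferential, ?_⟩
  have key : ∀ ω : Ω[B⁄A], Finsupp.linearCombination (B ⧸ J) id
      (Der.liftKaehlerDifferential ω) = (1 : B ⧸ J) ⊗ₜ[B] ω := by
    intro ω
    have hω : ω ∈ Submodule.span B (Set.range (D A B)) := by
      rw [KaehlerDifferential.span_range_derivation]; trivial
    induction hω using Submodule.span_induction with
    | mem ω hω =>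
      obtain ⟨b, rfl⟩ := hω
      rw [Derivation.liftKaehlerDifferential_comp_D]
      exact h4 b
    | zero => rw [map_zero, map_zero, tmul_zero]
    | add x y _ _ hx hy => rw [map_add, map_add, hx, hy, tmul_add]
    | smul b x _ hx =>
      rw [map_smul, ← mk_smul' J, map_smul, hx, mk_smul_tmul J, tmul_smul]
  apply LinearMap.ext
  intro x
  induction x using TensorProduct.induction_on with
  | zero => simp
  | tmul c ω =>
    rw [LinearMap.comp_apply, LinearMap.liftBaseChange_tmul, map_smul, key, LinearMap.id_apply,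
      smul_tmul', smul_eq_mul, mul_one]
  | add x y hx hy => rw [map_add, hx, hy]; rfl

end Delta

section Gamma
variable {Λ A B : Type u} [CommRing Λ] [CommRing A] [CommRing B] [Algebra Λ A] [Algebra A B]
  [Algebra Λ B] [IsScalarTower Λ A B] (J : Ideal B)

/-- the source of the characteristic map. -/
abbrev SS : Type u := (B ⧸ J) ⊗[B] (B ⊗[A] Ω[A⁄Λ])

/-- the universal derivation into `SS`. -/
def d0' : A → SS (Λ := Λ) (A := A) J := fun a => (1 : B ⧸ J) ⊗ₜ[B] ((1 : B) ⊗ₜ[A] D Λ A a)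

lemma one_tmul_smul (a : A) (ω : Ω[A⁄Λ]) :
    (1 : B ⧸ J) ⊗ₜ[B] ((1 : B) ⊗ₜ[A] (a • ω)) =
      (Ideal.Quotient.mk J (algebraMap A B a)) • ((1 : B ⧸ J) ⊗ₜ[B] ((1 : B) ⊗ₜ[A] ω)) := by
  rw [tmul_smul, ← algebraMap_smul B a ((1 : B) ⊗ₜ[A] ω), tmul_smul, mk_smul_tmul J]

lemma d0'_mul (a a' : A) : d0' (Λ := Λ) J (a * a') =
    (Ideal.Quotient.mk J (algebraMap A B a)) • d0' (Λ := Λ) J a' +
      (Ideal.Quotient.mk J (algebraMap A B a')) • d0' (Λ := Λ) J a := by
  unfold d0'
  rw [Derivation.leibniz, tmul_add, tmul_add, one_tmul_smul, one_tmul_smul]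

theorem injective_of_adic (h : CAlgX.IsAdicFormallySmooth A B J) :
    Function.Injective ((mapBaseChange Λ A B).lTensor (B ⧸ J)) := by
  obtain ⟨DM, h1, h2, h3, -⟩ := exists_der_lift J
    (M := SS (Λ := Λ) (A := A) J) (N := PUnit.{u+1})
    (0 : SS (Λ := Λ) (A := A) J →ₗ[B ⧸ J] PUnit.{u+1}) (d0' (Λ := Λ) J)
    (fun a a' => by unfold d0'; rw [map_add, tmul_add, tmul_add]) (d0'_mul J)
    (fun _ => ⟨0, rfl⟩) (fun _ => 0) (fun _ _ => rfl) (fun _ _ => rfl) (fun _ => rfl) h
  have h3' : ∀ l : Λ, DM (algebraMap Λ B l) = 0 := by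
    intro l
    rw [IsScalarTower.algebraMap_apply Λ A B, h3]
    unfold d0'
    rw [Derivation.map_algebraMap, tmul_zero, tmul_zero]
  let Der : Derivation Λ B (SS (Λ := Λ) (A := A) J) := mkDer J DM h1 h2 h3'
  let r : (B ⧸ J) ⊗[B] (Ω[B⁄Λ]) →ₗ[B ⧸ J] SS (Λ := Λ) (A := A) J :=
    LinearMap.liftBaseChange (B ⧸ J) Der.liftKaehlerDifferential
  have key1 : ∀ ω : Ω[A⁄Λ], Der.liftKaehlerDifferential (KaehlerDifferential.map Λ Λ A B ω) =
      (1 : B ⧸ J) ⊗ₜ[B] ((1 : B) ⊗ₜ[A] ω) := by
    intro ω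
    have hω : ω ∈ Submodule.span A (Set.range (D Λ A)) := by
      rw [KaehlerDifferential.span_range_derivation]; trivial
    induction hω using Submodule.span_induction with
    | mem ω hω =>
      obtain ⟨a, rfl⟩ := hω
      rw [KaehlerDifferential.map_D, Derivation.liftKaehlerDifferential_comp_D]
      exact h3 a
    | zero => rw [map_zero, map_zero, tmul_zero, tmul_zero]
    | add x y _ _ hx hy => rw [map_add, map_add, hx, hy, tmul_add, tmul_add]
    | smul a x _ hx =>
      rw [map_smul, ← algebraMap_smul B a (KaehlerDifferential.map Λ Λ A B x), map_smul, hx,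
        one_tmul_smul, mk_smul_tmul J]
  have key2 : ∀ y : B ⊗[A] Ω[A⁄Λ], Der.liftKaehlerDifferential (mapBaseChange Λ A B y) =
      (1 : B ⧸ J) ⊗ₜ[B] y := by
    intro y
    induction y using TensorProduct.induction_on with
    | zero => rw [map_zero, map_zero, tmul_zero]
    | tmul b ω =>
      rw [KaehlerDifferential.mapBaseChange_tmul, map_smul, key1, ← tmul_smul, smul_tmul',
        smul_eq_mul, mul_one]
    | add x y hx hy => rw [map_add, map_add, hx, hy, tmul_add]
  have key3 : ∀ x : SS (Λ := Λ) (A := A) J, r ((mapBaseChange Λ A B).lTensor (B ⧸ J) x) = x := by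
    intro x
    induction x using TensorProduct.induction_on with
    | zero => rw [map_zero, map_zero]
    | tmul c y =>
      rw [LinearMap.lTensor_tmul, LinearMap.liftBaseChange_tmul, key2, smul_tmul', smul_eq_mul,
        mul_one]
    | add x y hx hy => rw [map_add, map_add, hx, hy]
  exact Function.LeftInverse.injective key3

end Gamma

section Retr
variable {Λ A B : Type u} [CommRing Λ] [CommRing A] [CommRing B] [Algebra Λ A] [Algebra A B]
  [Algebra Λ B] [IsScalarTower Λ A B] (J : Ideal B)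

lemma exists_retraction
    (hγ : Function.Injective ((mapBaseChange Λ A B).lTensor (B ⧸ J)))
    (hδ : Module.Projective (B ⧸ J) ((B ⧸ J) ⊗[B] (Ω[B⁄A]))) :
    ∃ ρ : (B ⧸ J) ⊗[B] (Ω[B⁄Λ]) →ₗ[B ⧸ J] SS (Λ := Λ) (A := A) J,
      ∀ x, ρ ((mapBaseChange Λ A B).lTensor (B ⧸ J) x) = x := by
  let f : SS (Λ := Λ) (A := A) J →ₗ[B ⧸ J] (B ⧸ J) ⊗[B] (Ω[B⁄Λ]) :=
    (mapBaseChange Λ A B).baseChange (B ⧸ J)
  let g : (B ⧸ J) ⊗[B] (Ω[B⁄Λ]) →ₗ[B ⧸ J] (B ⧸ J) ⊗[B] (Ω[B⁄A]) :=
    (KaehlerDifferential.map Λ A B B).baseChange (B ⧸ J)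
  have hf : ∀ x, f x = (mapBaseChange Λ A B).lTensor (B ⧸ J) x := fun x => rfl
  have hg : ∀ x, g x = (KaehlerDifferential.map Λ A B B).lTensor (B ⧸ J) x := fun x => rfl
  have hsurj : Function.Surjective (KaehlerDifferential.map Λ A B B) :=
    KaehlerDifferential.map_surjective Λ A B
  have hex : Function.Exact f g := by
    have := lTensor_exact (B ⧸ J) (KaehlerDifferential.exact_mapBaseChange_map Λ A B) hsurj
    intro y
    rw [hg, this y]
    constructor
    · rintro ⟨x, hx⟩; exact ⟨x, by rw [hf, hx]⟩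
    · rintro ⟨x, hx⟩; exact ⟨x, by rw [← hf, hx]⟩
  have hfinj : Function.Injective f := fun x y hxy => hγ (by rw [← hf, ← hf, hxy])
  have hgsurj : Function.Surjective g := by
    intro y
    obtain ⟨x, hx⟩ := LinearMap.lTensor_surjective (B ⧸ J) hsurj y
    exact ⟨x, by rw [hg, hx]⟩
  obtain ⟨s, hs⟩ := Module.projective_lifting_property g LinearMap.id hgsurj
  have htfae := (hex.split_tfae hfinj hgsurj).out 0 1 rfl rfl
  obtain ⟨ρ, hρ⟩ := htfae.mp ⟨s, hs⟩
  exact ⟨ρ, fun x => by rw [← hf]; exact LinearMap.congr_fun hρ x⟩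

end Retr

section KPrime
variable {Λ A B : Type u} [CommRing Λ] [CommRing A] [CommRing B] [Algebra Λ A] [Algebra A B]
  [Algebra Λ B] [IsScalarTower Λ A B] (J : Ideal B)
variable {M : Type u} [AddCommGroup M] [Module (B ⧸ J) M]

theorem exists_der_ext
    (hγ : Function.Injective ((mapBaseChange Λ A B).lTensor (B ⧸ J)))
    (hδ : Module.Projective (B ⧸ J) ((B ⧸ J) ⊗[B] (Ω[B⁄A])))
    (δ₀ : A → M) (hadd : ∀ a a', δ₀ (a + a') = δ₀ a + δ₀ a')
    (hmul : ∀ a a', δ₀ (a * a') = (Ideal.Quotient.mk J (algebraMap A B a)) • δ₀ a' +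
      (Ideal.Quotient.mk J (algebraMap A B a')) • δ₀ a)
    (hΛ : ∀ l : Λ, δ₀ (algebraMap Λ A l) = 0) :
    ∃ DD : B → M, (∀ b b', DD (b + b') = DD b + DD b') ∧
      (∀ b b', DD (b * b') = (Ideal.Quotient.mk J b) • DD b' + (Ideal.Quotient.mk J b') • DD b) ∧
      (∀ a, DD (algebraMap A B a) = δ₀ a) := by
  letI mB : Module B M := Module.compHom M (Ideal.Quotient.mk J)
  have hB : ∀ (b : B) (m : M), b • m = (Ideal.Quotient.mk J b) • m := fun _ _ => rfl
  haveI : IsScalarTower B (B ⧸ J) M := ⟨fun b c m => by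
    rw [hB, Algebra.smul_def, mul_smul]; rfl⟩
  letI mA : Module A M := Module.compHom M (algebraMap A B)
  have hA : ∀ (a : A) (m : M), a • m = (algebraMap A B a) • m := fun _ _ => rfl
  haveI : IsScalarTower A B M := ⟨fun a b m => by
    rw [hA, Algebra.smul_def, mul_smul]⟩
  letI mΛ : Module Λ M := Module.compHom M (algebraMap Λ A)
  have hL : ∀ (l : Λ) (m : M), l • m = (algebraMap Λ A l) • m := fun _ _ => rfl
  haveI : IsScalarTower Λ A M := ⟨fun l a m => by
    rw [hL, Algebra.smul_def, mul_smul]⟩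
  let δDer : Derivation Λ A M := Derivation.mk'
    { toFun := δ₀
      map_add' := hadd
      map_smul' := fun l a => by
        rw [RingHom.id_apply, Algebra.smul_def, hmul, hΛ, smul_zero, add_zero, hL, hA, hB] }
    (fun a a' => by
      change δ₀ (a * a') = a • δ₀ a' + a' • δ₀ a
      rw [hmul, hA, hA, hB, hB])
  have hδDer : ∀ a, δDer a = δ₀ a := fun a => rfl
  let lift₁ : Ω[A⁄Λ] →ₗ[A] M := δDer.liftKaehlerDifferential
  let lift₂ : B ⊗[A] Ω[A⁄Λ] →ₗ[B] M := LinearMap.liftBaseChange B lift₁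
  let ℓ : SS (Λ := Λ) (A := A) J →ₗ[B ⧸ J] M := LinearMap.liftBaseChange (B ⧸ J) lift₂
  obtain ⟨ρ, hρ⟩ := exists_retraction J hγ hδ
  refine ⟨fun b => ℓ (ρ ((1 : B ⧸ J) ⊗ₜ[B] D Λ B b)), ?_, ?_, ?_⟩
  · intro b b'
    beta_reduce
    rw [map_add, tmul_add, map_add, map_add]
  · intro b b'
    beta_reduce
    rw [one_tmul_D_mul, map_add, map_add, map_smul, map_smul, map_smul, map_smul]
  · intro a
    beta_reduce
    have h1 : (1 : B ⧸ J) ⊗ₜ[B] D Λ B (algebraMap A B a) =
        (mapBaseChange Λ A B).lTensor (B ⧸ J) ((1 : B ⧸ J) ⊗ₜ[B] ((1 : B) ⊗ₜ[A] D Λ A a)) := by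
      rw [LinearMap.lTensor_tmul, KaehlerDifferential.mapBaseChange_tmul, one_smul,
        KaehlerDifferential.map_D]
    rw [h1, hρ, LinearMap.liftBaseChange_tmul, one_smul, LinearMap.liftBaseChange_tmul, one_smul,
      Derivation.liftKaehlerDifferential_comp_D, hδDer]

end KPrime

section LemK
variable {Λ A B : Type u} [CommRing Λ] [CommRing A] [CommRing B] [Algebra Λ A] [Algebra A B]
  [Algebra Λ B] [IsScalarTower Λ A B] (J : Ideal B)

/-- lifting against square-zero ideals killed by `J`. -/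
def LiftsKilled (A B : Type u) [CommRing A] [CommRing B] [Algebra A B] (J : Ideal B) : Prop :=
  ∀ (E : Type u) [CommRing E] [Algebra A E] (I : Ideal E), I ^ 2 = ⊥ →
    ∀ ψ : B →ₐ[A] E ⧸ I,
      (∀ x ∈ J, ∀ e : E, Ideal.Quotient.mk I e = ψ x → ∀ i ∈ I, e * i = 0) →
      (∃ k : ℕ, ∀ x ∈ J ^ k, ψ x = 0) →
        ∃ χ : B →ₐ[A] E, (Ideal.Quotient.mkₐ A I).comp χ = ψ

/-- the derivation extension property. -/
def DerExt (Λ A B : Type u) [CommRing Λ] [CommRing A] [CommRing B] [Algebra Λ A] [Algebra A B]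
    (J : Ideal B) : Prop :=
  ∀ (M : Type u) [AddCommGroup M] [Module (B ⧸ J) M] (δ₀ : A → M),
    (∀ a a', δ₀ (a + a') = δ₀ a + δ₀ a') →
    (∀ a a', δ₀ (a * a') = (Ideal.Quotient.mk J (algebraMap A B a)) • δ₀ a' +
      (Ideal.Quotient.mk J (algebraMap A B a')) • δ₀ a) →
    (∀ l : Λ, δ₀ (algebraMap Λ A l) = 0) →
    ∃ DD : B → M, (∀ b b', DD (b + b') = DD b + DD b') ∧
      (∀ b b', DD (b * b') = (Ideal.Quotient.mk J b) • DD b' + (Ideal.Quotient.mk J b') • DD b) ∧
      (∀ a, DD (algebraMap A B a) = δ₀ a)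

lemma mul_eq_zero_of_sq {E : Type*} [CommRing E] (I : Ideal E) (hI : I ^ 2 = ⊥) {x y : E}
    (hx : x ∈ I) (hy : y ∈ I) : x * y = 0 := by
  have := mul_mem_sq I hx hy
  rwa [hI, Ideal.mem_bot] at this

theorem lifts_killed (hΛ : CAlgX.IsAdicFormallySmooth Λ B J) (hext : DerExt Λ A B J) :
    LiftsKilled A B J := by
  intro E _ _ I hI ψ hcond hk
  letI : Algebra Λ E := ((algebraMap A E).comp (algebraMap Λ A)).toAlgebra
  haveI : IsScalarTower Λ A E := IsScalarTower.of_algebraMap_eq (fun _ => rfl)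
  obtain ⟨χ₀, hχ₀⟩ := hΛ E I hI (ψ.restrictScalars Λ) hk
  have hχ₀' : ∀ b, Ideal.Quotient.mk I (χ₀ b) = ψ b := fun b => AlgHom.congr_fun hχ₀ b
  letI mBI : Module B ↥I := Module.compHom ↥I (χ₀ : B →+* E)
  have hBI : ∀ (b : B) (i : ↥I), ((b • i : ↥I) : E) = χ₀ b * (i : E) := fun _ _ => rfl
  have htor : Module.IsTorsionBySet B ↥I (J : Set B) := by
    rintro i ⟨j, hj⟩
    apply Subtype.ext
    change ((j • i : ↥I) : E) = 0
    rw [hBI]
    exact hcond j hj (χ₀ j) (hχ₀' j) i i.2
  letI mCI : Module (B ⧸ J) ↥I := htor.module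
  have hCI : ∀ (b : B) (i : ↥I), (((Ideal.Quotient.mk J b) • i : ↥I) : E) = χ₀ b * (i : E) :=
    fun _ _ => rfl
  have hmem : ∀ a : A, algebraMap A E a - χ₀ (algebraMap A B a) ∈ I := by
    intro a
    rw [← Ideal.Quotient.eq, hχ₀', ψ.commutes]
    rfl
  let δ₀ : A → ↥I := fun a => ⟨algebraMap A E a - χ₀ (algebraMap A B a), hmem a⟩
  have hδ₀ : ∀ a, ((δ₀ a : ↥I) : E) = algebraMap A E a - χ₀ (algebraMap A B a) := fun _ => rfl
  obtain ⟨DD, hadd, hmul, hcomp⟩ := hext ↥I δ₀
    (fun a a' => by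
      apply Subtype.ext
      rw [Submodule.coe_add, hδ₀, hδ₀, hδ₀, map_add, map_add, map_add]
      ring)
    (fun a a' => by
      apply Subtype.ext
      rw [Submodule.coe_add, hCI, hCI, hδ₀, hδ₀, hδ₀, map_mul, map_mul, map_mul]
      have := mul_eq_zero_of_sq I hI (hmem a) (hmem a')
      linear_combination this)
    (fun l => by
      apply Subtype.ext
      rw [hδ₀, ← IsScalarTower.algebraMap_apply Λ A B, ← IsScalarTower.algebraMap_apply Λ A E,
        χ₀.commutes, sub_self]
      rfl)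
  have hDD1 : DD 1 = 0 := by
    have := hmul 1 1
    rw [mul_one, map_one, one_smul] at this
    exact left_eq_add.mp this
  have hDD0 : DD 0 = 0 := by
    have := hadd 0 0
    rw [add_zero] at this
    exact left_eq_add.mp this
  let χ : B →ₐ[A] E :=
    { toFun := fun b => χ₀ b + (DD b : E)
      map_one' := by rw [hDD1, map_one, Submodule.coe_zero, add_zero]
      map_mul' := fun b b' => by
        rw [hmul, Submodule.coe_add, hCI, hCI, map_mul]
        have := mul_eq_zero_of_sq I hI (DD b).2 (DD b').2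
        linear_combination (-1 : E) * this
      map_zero' := by rw [hDD0, map_zero, Submodule.coe_zero, add_zero]
      map_add' := fun b b' => by
        rw [hadd, Submodule.coe_add, map_add]
        ring
      commutes' := fun a => by
        rw [hcomp, hδ₀]
        ring }
  refine ⟨χ, ?_⟩
  ext b
  change Ideal.Quotient.mk I (χ₀ b + (DD b : E)) = ψ b
  rw [map_add, hχ₀', Ideal.Quotient.eq_zero_iff_mem.mpr (DD b).2, add_zero]

end LemK

section LemL
variable {A B : Type u} [CommRing A] [CommRing B] [Algebra A B] (J : Ideal B)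

theorem adic_of_liftsKilled (hL : LiftsKilled A B J) : CAlgX.IsAdicFormallySmooth A B J := by
  have claim : ∀ k : ℕ, ∀ (E : Type u) [CommRing E] [Algebra A E] (I : Ideal E), I ^ 2 = ⊥ →
      ∀ ψ : B →ₐ[A] E ⧸ I,
        (∀ x ∈ J ^ (k + 1), ∀ e : E, Ideal.Quotient.mk I e = ψ x → ∀ i ∈ I, e * i = 0) →
        (∃ n : ℕ, ∀ x ∈ J ^ n, ψ x = 0) →
          ∃ χ : B →ₐ[A] E, (Ideal.Quotient.mkₐ A I).comp χ = ψ := by
    intro k
    induction k with
    | zero =>
      intro E _ _ I hI ψ hcond hn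
      rw [zero_add, pow_one] at hcond
      exact hL E I hI ψ hcond hn
    | succ k ih =>
      intro E _ _ I hI ψ hcond hn
      obtain ⟨n, hn⟩ := hn
      let I' : Ideal E := Ideal.span
        {z | ∃ x ∈ J, ∃ e : E, Ideal.Quotient.mk I e = ψ x ∧ ∃ i ∈ I, z = e * i}
      have hI'I : I' ≤ I := by
        apply Ideal.span_le.mpr
        rintro _ ⟨x, _, e, _, i, hi, rfl⟩
        exact I.mul_mem_left e hi
      have hI'sq : I' ^ 2 = ⊥ := by
        rw [eq_bot_iff, ← hI]
        exact Ideal.pow_right_mono hI'I 2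
      have hI₁sq : (I.map (Ideal.Quotient.mk I')) ^ 2 = ⊥ := by
        rw [← Ideal.map_pow, hI, Ideal.map_bot]
      let iso : ((E ⧸ I') ⧸ I.map (Ideal.Quotient.mk I')) ≃ₐ[A] E ⧸ I :=
        { (DoubleQuot.quotQuotEquivQuotSup I' I).trans
            (Ideal.quotEquivOfEq (sup_eq_right.mpr hI'I)) with
          commutes' := fun x => rfl }
      have hiso : ∀ e : E, iso (Ideal.Quotient.mk _ (Ideal.Quotient.mk I' e)) =
          Ideal.Quotient.mk I e := fun e => rfl
      let ψ₁ : B →ₐ[A] (E ⧸ I') ⧸ I.map (Ideal.Quotient.mk I') := iso.symm.toAlgHom.comp ψ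
      have hψ₁ : ∀ b, iso (ψ₁ b) = ψ b := fun b => iso.apply_symm_apply (ψ b)
      obtain ⟨ψ', hψ'⟩ := hL (E ⧸ I') (I.map (Ideal.Quotient.mk I')) hI₁sq ψ₁
        (by
          intro x hx e₁ he₁ i₁ hi₁
          obtain ⟨e, rfl⟩ := Ideal.Quotient.mk_surjective e₁
          rw [Ideal.mem_map_iff_of_surjective _ Ideal.Quotient.mk_surjective] at hi₁
          obtain ⟨i, hi, rfl⟩ := hi₁
          have h1 : Ideal.Quotient.mk I e = ψ x := by
            rw [← hiso, he₁, hψ₁]
          rw [← map_mul, Ideal.Quotient.eq_zero_iff_mem]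
          exact Ideal.subset_span ⟨x, hx, e, h1, i, hi, rfl⟩)
        ⟨n, fun x hx => by
          change iso.symm (ψ x) = 0
          rw [hn x hx, map_zero]⟩
      have hψ'' : ∀ b, Ideal.Quotient.mk (I.map (Ideal.Quotient.mk I')) (ψ' b) = ψ₁ b :=
        fun b => AlgHom.congr_fun hψ' b
      have hrel : ∀ (b : B) (e : E), Ideal.Quotient.mk I' e = ψ' b → Ideal.Quotient.mk I e = ψ b := by
        intro b e he
        rw [← hiso, he, hψ'', hψ₁]
      obtain ⟨χ, hχ⟩ := ih E I' hI'sq ψ'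
        (by
          intro x hx e he i' hi'
          have hex := hrel x e he
          induction hi' using Submodule.span_induction with
          | mem z hz =>
            obtain ⟨xj, hxj, ej, hej, ij, hij, rfl⟩ := hz
            rw [← mul_assoc]
            refine hcond (x * xj) ?_ (e * ej) (by rw [map_mul, map_mul, hex, hej]) ij hij
            rw [pow_succ]
            exact Ideal.mul_mem_mul hx hxj
          | zero => exact mul_zero _
          | add y z _ _ hy hz => rw [mul_add, hy, hz, add_zero]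
          | smul r z _ hz => rw [smul_eq_mul, mul_left_comm, hz, mul_zero])
        ⟨n * 2, fun x hx => by
          rw [pow_mul] at hx
          have := map_pow_mem ψ'.toRingHom (J ^ n) (I.map (Ideal.Quotient.mk I'))
            (fun y hy => by
              rw [← Ideal.Quotient.eq_zero_iff_mem]
              change Ideal.Quotient.mk _ (ψ' y) = 0
              rw [hψ'']
              change iso.symm (ψ y) = 0
              rw [hn y hy, map_zero]) 2 x hx
          rw [hI₁sq, Ideal.mem_bot] at this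
          exact this⟩
      refine ⟨χ, ?_⟩
      ext b
      exact hrel b (χ b) (AlgHom.congr_fun hχ b)
  intro E _ _ I hI ψ hk
  obtain ⟨k, hk⟩ := hk
  refine claim k E I hI ψ ?_ ⟨k, hk⟩
  intro x hx e he i hi
  have hx' : x ∈ J ^ k := Ideal.pow_le_pow_right (Nat.le_succ k) hx
  rw [hk x hx', Ideal.Quotient.eq_zero_iff_mem] at he
  exact mul_eq_zero_of_sq I hI he hi

end LemL

end

/-- Let Λ → A → B be ring homomorphisms, J an ideal of B and C = B/J, with C formally smooth over Λ for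
the discrete topologies. Consider the conditions: (α) J/J² is a projective C-module; (β) the
canonical maps Sym^n_C(J/J²) → J^n/J^(n+1) are bijective for n ≥ 1; (γ') Ω_{A/Λ} ⊗_A C → Ω_{B/Λ} ⊗_B
C is injective (equivalent to the injectivity of the characteristic homomorphism used in the
published (γ)); (δ) Ω_{B/A} ⊗_B C is a projective C-module. (i) If they hold then B, with the J-adic
topology, is formally smooth over the discrete ring A. (ii) Conversely if B is formally smooth over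
A for the J-adic topology and A is formally smooth over Λ for the discrete topology, the four
conditions hold. -/
theorem result {Λ A B : Type u} [CommRing Λ]
    [CommRing A] [CommRing B] [Algebra Λ A] [Algebra A B] [Algebra Λ B] [IsScalarTower Λ A B] (J : Ideal B)
    [Algebra.FormallySmooth Λ (B ⧸ J)] :
    ((Module.Projective (B ⧸ J) J.Cotangent ∧ PP16.SymGrBijective B J ∧
        Function.Injective ((mapBaseChange Λ A B).lTensor (B ⧸ J)) ∧
        Module.Projective (B ⧸ J) ((B ⧸ J) ⊗[B] (Ω[B⁄A]))) →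
      CAlgX.IsAdicFormallySmooth A B J) ∧
    (Algebra.FormallySmooth Λ A → CAlgX.IsAdicFormallySmooth A B J →
      (Module.Projective (B ⧸ J) J.Cotangent ∧ PP16.SymGrBijective B J ∧
        Function.Injective ((mapBaseChange Λ A B).lTensor (B ⧸ J)) ∧
        Module.Projective (B ⧸ J) ((B ⧸ J) ⊗[B] (Ω[B⁄A])))) := by
  constructor
  · rintro ⟨hα, hβ, hγ, hδ⟩
    have hΛ : CAlgX.IsAdicFormallySmooth Λ B J :=
      Groth.Agent.Lib.AdicSym83b.backward (A := Λ) J hα hβ
    apply adic_of_liftsKilled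
    apply lifts_killed (Λ := Λ) J hΛ
    intro M _ _ δ₀ h1 h2 h3
    exact exists_der_ext J hγ hδ δ₀ h1 h2 h3
  · intro hA h
    have hΛ := adic_trans (Λ := Λ) J h
    obtain ⟨hα, hβ⟩ := Groth.Agent.Lib.AdicSym83.forward (A := Λ) J hΛ
    exact ⟨hα, hβ, injective_of_adic J h, projective_of_adic J h⟩

end Groth.Agent.S4570
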