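import Groth.Statements.S2476
import Groth.Agent.Lib.ComplDiff2
import Groth.Agent.Lib.ComplDiff3
import Groth.Agent.Lib.AdicFSField50
import Groth.Agent.S2471
import Groth.Agent.S2469
import Groth.Agent.S4570

set_option autoImplicit false
universe u
open EGA41 TensorProduct

namespace Groth.Agent.S2476

open IsLocalRing in
/-- Let k₀ be a field and A a complete Noetherian local k₀-algebra, formally smooth over k₀ for the adic
topology, whose residue field K is a finitely generated extension of k₀. Then the 𝔪-adic completion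
Ω̂_{A/k₀} of Ω_{A/k₀} is a free A-module of rank dim A + trdeg_{k₀} K. -/
theorem result {k₀ A : Type u} [Field k₀] [CommRing A] [IsLocalRing A] [IsNoetherianRing A] [Algebra k₀ A]
    [IsAdicComplete (maximalIdeal A) A] (hfs : CAlgX.IsAdicFormallySmooth k₀ A (maximalIdeal A))
    [Algebra.EssFiniteType k₀ (ResidueField A)] :
    Module.Finite A (AdicCompletion (maximalIdeal A) (Ω[A⁄k₀])) ∧ Module.Free A (AdicCompletion (maximalIdeal A) (Ω[A⁄k₀])) ∧
      (Module.finrank A (AdicCompletion (maximalIdeal A) (Ω[A⁄k₀])) : WithBot ℕ∞) =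
        ringKrullDim A + (Cardinal.toNat (Algebra.trdeg k₀ (ResidueField A)) : WithBot ℕ∞) := by
  classical
  obtain ⟨hreg, hinj⟩ := (Groth.Agent.S2471.result).1 hfs
  -- injectivity of the conormal map, via a perfect subfield
  obtain ⟨P, _, algP, hP⟩ := Groth.Agent.Lib.AdicFSField50.exists_perfect_subfield k₀
  let algPA : Algebra P A := Algebra.compHom A (algebraMap P k₀)
  have hPK : Algebra.FormallySmooth P (ResidueField A) := (hP (ResidueField A)).1
  have hγ := Groth.Agent.Lib.ComplDiff.kerCotangentToTensor_injective (A := A) P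
  -- Cartier's equality
  obtain ⟨hΩfin, hΥfin, hcart⟩ := Groth.Agent.S2469.result (K := k₀) (L := ResidueField A)
  obtain ⟨hTfin, hcount⟩ := Groth.Agent.Lib.ComplDiff.finrank_tensor_kaehler hinj hγ hΩfin
  -- transfer to the quotient `Ω/𝔪Ω`
  have hTfin' : Module.Finite (A ⧸ maximalIdeal A) ((A ⧸ maximalIdeal A) ⊗[A] Ω[A⁄k₀]) := hTfin
  let e : (A ⧸ maximalIdeal A) ⊗[A] Ω[A⁄k₀] ≃ₗ[A ⧸ maximalIdeal A]
      Ω[A⁄k₀] ⧸ (maximalIdeal A • ⊤ : Submodule A (Ω[A⁄k₀])) :=
    (TensorProduct.quotTensorEquivQuotSMul (Ω[A⁄k₀]) (maximalIdeal A)).extendScalarsOfSurjective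
      Ideal.Quotient.mk_surjective
  have hVfin : Module.Finite (A ⧸ maximalIdeal A)
      (Ω[A⁄k₀] ⧸ (maximalIdeal A • ⊤ : Submodule A (Ω[A⁄k₀]))) := Module.Finite.equiv e
  have hVrank : Module.finrank (A ⧸ maximalIdeal A)
      (Ω[A⁄k₀] ⧸ (maximalIdeal A • ⊤ : Submodule A (Ω[A⁄k₀]))) =
      Module.finrank (ResidueField A) (ResidueField A ⊗[A] Ω[A⁄k₀]) := e.finrank_eq.symm
  -- projectivity of the levels
  have hproj : ∀ n : ℕ, n ≠ 0 → Module.Projective (A ⧸ maximalIdeal A ^ n)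
      (Ω[A⁄k₀] ⧸ (maximalIdeal A ^ n • ⊤ : Submodule A (Ω[A⁄k₀]))) := by
    intro n hn
    have hfsn : CAlgX.IsAdicFormallySmooth k₀ A (maximalIdeal A ^ n) := by
      intro E _ _ I hI ψ hψ
      obtain ⟨k, hk⟩ := hψ
      exact hfs E I hI ψ ⟨n * k, fun x hx => hk x (by rw [← pow_mul]; exact hx)⟩
    have hp := Groth.Agent.S4570.projective_of_adic (maximalIdeal A ^ n) hfsn
    let en : (A ⧸ maximalIdeal A ^ n) ⊗[A] Ω[A⁄k₀] ≃ₗ[A ⧸ maximalIdeal A ^ n]
        Ω[A⁄k₀] ⧸ (maximalIdeal A ^ n • ⊤ : Submodule A (Ω[A⁄k₀])) :=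
      (TensorProduct.quotTensorEquivQuotSMul (Ω[A⁄k₀])
        (maximalIdeal A ^ n)).extendScalarsOfSurjective Ideal.Quotient.mk_surjective
    exact Module.Projective.of_equiv en
  obtain ⟨E⟩ := Groth.Agent.Lib.ComplDiff.nonempty_equiv_adicCompletion
    (Module.finrank (ResidueField A) (ResidueField A ⊗[A] Ω[A⁄k₀])) hVfin hVrank hproj
  refine ⟨Module.Finite.equiv E, Module.Free.of_equiv E, ?_⟩
  rw [← E.finrank_eq, Module.finrank_fin_fun]
  have h1 : (maximalIdeal A).spanFinrank = Module.finrank (ResidueField A) (CotangentSpace A) :=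
    IsLocalRing.spanFinrank_maximalIdeal_eq_finrank_cotangentSpace A
  have h2 := hreg.spanFinrank_maximalIdeal
  rw [← h2, h1]
  have h3 : Module.finrank (ResidueField A) (ResidueField A ⊗[A] Ω[A⁄k₀]) =
      Module.finrank (ResidueField A) (CotangentSpace A) +
        Cardinal.toNat (Algebra.trdeg k₀ (ResidueField A)) := by
    have key : ∀ (a b c d e : ℤ), e - c = a → b + c = d + e → b = d + a := by
      intro a b c d e h₁ h₂
      linarith
    zify at hcount ⊢
    exact key _ _ _ _ _ hcart hcount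
  rw [h3]
  push_cast
  rfl

end Groth.Agent.S2476
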