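import Groth.Statements.S2477
import Groth.Agent.S11741
import Groth.Agent.Lib.AdicPi
import Mathlib

set_option autoImplicit false
universe u
open EGA41

namespace Groth.Agent.S2477

section helpers

open Submodule

/-- two linear maps that agree modulo every `I ^ n • ⊤` induce the same map on completions. -/
lemma map_eq_of_sub_mem {R M N : Type*} [CommRing R] [AddCommGroup M] [Module R M]
    [AddCommGroup N] [Module R N] (I : Ideal R) (h₁ h₂ : M →ₗ[R] N)
    (h : ∀ x n, h₁ x - h₂ x ∈ (I ^ n • ⊤ : Submodule R N)) :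
    AdicCompletion.map I h₁ = AdicCompletion.map I h₂ := by
  ext a n
  simp only [AdicCompletion.map_mk, AdicCompletion.mk_apply_coe, AdicCompletion.AdicCauchySequence.map_apply_coe]
  exact (Submodule.Quotient.eq _).mpr (h _ _)

/-- a module with maps to and from a complete module `M`, inverse up to `⋂ I ^ n`, has completion
isomorphic to `M`. -/
lemma exists_equiv {R M N : Type*} [CommRing R] [AddCommGroup M] [Module R M]
    [AddCommGroup N] [Module R N] (I : Ideal R) [IsAdicComplete I M]
    (f : M →ₗ[R] N) (g : N →ₗ[R] M) (hgf : g ∘ₗ f = LinearMap.id)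
    (hfg : ∀ x n, f (g x) - x ∈ (I ^ n • ⊤ : Submodule R N)) :
    Nonempty (M ≃ₗ[R] AdicCompletion I N) := by
  have h1 : AdicCompletion.map I g ∘ₗ AdicCompletion.map I f = LinearMap.id := by
    rw [AdicCompletion.map_comp, hgf, AdicCompletion.map_id]
  have h2 : AdicCompletion.map I f ∘ₗ AdicCompletion.map I g = LinearMap.id := by
    rw [AdicCompletion.map_comp, ← AdicCompletion.map_id]
    exact map_eq_of_sub_mem I _ _ (fun x n => by simpa using hfg x n)
  let e : AdicCompletion I M ≃ₗ[R] AdicCompletion I N :=
    LinearEquiv.ofLinearMap ((AdicCompletion.map I f).restrictScalars R)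
      ((AdicCompletion.map I g).restrictScalars R)
      (LinearMap.ext fun x => LinearMap.congr_fun h2 x)
      (LinearMap.ext fun x => LinearMap.congr_fun h1 x)
  exact ⟨(AdicCompletion.ofLinearEquiv I M).trans e⟩

/-- a derivation maps `J ^ (n + 1)` into `J ^ n • ⊤`. -/
lemma der_mem {R A M : Type*} [CommRing R] [CommRing A] [Algebra R A] [AddCommGroup M]
    [Module A M] [Module R M] [IsScalarTower R A M]
    (δ : Derivation R A M) (J : Ideal A) (n : ℕ) :
    ∀ a ∈ J ^ (n + 1), δ a ∈ (J ^ n • ⊤ : Submodule A M) := by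
  induction n with
  | zero => intro a _; simp
  | succ n ih =>
    intro a ha
    rw [pow_succ] at ha
    refine Submodule.mul_induction_on ha ?_ ?_
    · intro x hx y hy
      rw [δ.leibniz]
      apply add_mem
      · exact Submodule.smul_mem_smul hx trivial
      · have h1 := ih x hx
        rw [pow_succ', mul_smul]
        exact Submodule.smul_mem_smul hy h1
    · intro x y hx hy
      rw [map_add]
      exact add_mem hx hy

open MvPowerSeries in
/-- the chain rule modulo `m ^ n` in `Ω[k[[T]]/k]`. -/
lemma chain_rule_mod (k : Type u) [Field k] (r : ℕ) (a : MvPowerSeries (Fin r) k) (n : ℕ) :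
    KaehlerDifferential.D k (MvPowerSeries (Fin r) k) a -
      ∑ i, (pderiv k i a) • KaehlerDifferential.D k (MvPowerSeries (Fin r) k) (X i) ∈
      (IsLocalRing.maximalIdeal (MvPowerSeries (Fin r) k) ^ n • ⊤ :
        Submodule (MvPowerSeries (Fin r) k) (Ω[MvPowerSeries (Fin r) k⁄k])) := by
  classical
  let D := KaehlerDifferential.D k (MvPowerSeries (Fin r) k)
  let δ : Derivation k (MvPowerSeries (Fin r) k) (Ω[MvPowerSeries (Fin r) k⁄k]) :=
    D - ∑ i, (LinearMap.toSpanSingleton (MvPowerSeries (Fin r) k) _ (D (X i))).compDer (pderiv k i)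
  have hδ : ∀ b, δ b = D b - ∑ i, (pderiv k i b) • D (X i) := by
    intro b
    have hsum : ∀ (t : Finset (Fin r)) (E : Fin r → Derivation k (MvPowerSeries (Fin r) k)
        (Ω[MvPowerSeries (Fin r) k⁄k])), (∑ i ∈ t, E i) b = ∑ i ∈ t, E i b := by
      intro t E
      induction t using Finset.induction_on with
      | empty => simp
      | insert j t hj ih => rw [Finset.sum_insert hj, Finset.sum_insert hj, Derivation.add_apply, ih]
    simp only [δ, Derivation.sub_apply, hsum]
    congr 1
  rw [← hδ]
  have hX : ∀ j, δ (X j) = 0 := by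
    intro j
    rw [hδ, Finset.sum_eq_single j]
    · simp [pderiv_X_self]
    · intro i _ hij
      rw [pderiv_X_of_ne (Ne.symm hij), zero_smul]
    · intro h; exact absurd (Finset.mem_univ j) h
  have hpoly : ∀ p : MvPolynomial (Fin r) k, δ (p : MvPowerSeries (Fin r) k) = 0 := by
    intro p
    have h1 : Set.EqOn δ (0 : Derivation k (MvPowerSeries (Fin r) k) (Ω[MvPowerSeries (Fin r) k⁄k]))
        (Set.range (X : Fin r → MvPowerSeries (Fin r) k)) := by
      rintro _ ⟨j, rfl⟩
      simpa using hX j
    have h2 := Derivation.eqOn_adjoin h1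
    have h3 : (p : MvPowerSeries (Fin r) k) ∈ Algebra.adjoin k
        (Set.range (X : Fin r → MvPowerSeries (Fin r) k)) := by
      rw [Algebra.adjoin_range_eq_range_aeval]
      refine ⟨p, ?_⟩
      have h4 : MvPolynomial.aeval (X : Fin r → MvPowerSeries (Fin r) k) =
          (MvPolynomial.coeToMvPowerSeries.algHom k :
            MvPolynomial (Fin r) k →ₐ[k] MvPowerSeries (Fin r) k) := by
        apply MvPolynomial.algHom_ext
        intro i
        simp [MvPolynomial.coeToMvPowerSeries.algHom_apply]
      rw [h4]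
      simp [MvPolynomial.coeToMvPowerSeries.algHom_apply]
    simpa using h2 h3
  have hsplit : a = (truncTotal (n + 1) a : MvPolynomial (Fin r) k) +
      (a - (truncTotal (n + 1) a : MvPolynomial (Fin r) k)) := by ring
  rw [hsplit, map_add, hpoly, zero_add]
  apply der_mem δ _ n
  have hord : ((n + 1 : ℕ) : ℕ∞) ≤
      (a - (truncTotal (n + 1) a : MvPolynomial (Fin r) k)).order := by
    apply le_order
    intro d hd
    rw [map_sub, MvPolynomial.coeff_coe, coeff_truncTotal _ (by exact_mod_cast hd), sub_self]
  have h5 := Groth.Agent.S11740.map_mem_pow_of_le_order (RingHom.id (MvPowerSeries (Fin r) k))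
    (IsLocalRing.maximalIdeal (MvPowerSeries (Fin r) k))
    (fun i => Groth.Agent.S11740.X_mem_maximalIdeal i) (n + 1) _ hord
  simpa using h5

end helpers

open IsLocalRing in
/-- Let k be a field and A = k[[T_1, …, T_r]] with its usual k-algebra structure. Then the adic
completion Ω̂_{A/k} of Ω_{A/k} is a free A-module of rank r. -/
theorem result (k : Type u) [Field k] (r : ℕ) :
    Module.Finite (MvPowerSeries (Fin r) k) (AdicCompletion (maximalIdeal (MvPowerSeries (Fin r) k)) (Ω[MvPowerSeries (Fin r) k⁄k])) ∧
    Module.Free (MvPowerSeries (Fin r) k) (AdicCompletion (maximalIdeal (MvPowerSeries (Fin r) k)) (Ω[MvPowerSeries (Fin r) k⁄k])) ∧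
      Module.finrank (MvPowerSeries (Fin r) k) (AdicCompletion (maximalIdeal (MvPowerSeries (Fin r) k)) (Ω[MvPowerSeries (Fin r) k⁄k])) = r := by
  classical
  have hm : maximalIdeal (MvPowerSeries (Fin r) k) =
      Ideal.span (Set.range (MvPowerSeries.X : Fin r → MvPowerSeries (Fin r) k)) :=
    Groth.Agent.S11741.maximalIdeal_eq_span k r
  have hcA : IsAdicComplete (maximalIdeal (MvPowerSeries (Fin r) k)) (MvPowerSeries (Fin r) k) := by
    rw [hm]; infer_instance
  have hpre : IsPrecomplete (maximalIdeal (MvPowerSeries (Fin r) k))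
      (Fin r → MvPowerSeries (Fin r) k) :=
    Groth.Agent.Lib.AdicPi.isPrecomplete_pi _ _
  have hH : IsHausdorff (maximalIdeal (MvPowerSeries (Fin r) k))
      (Fin r → MvPowerSeries (Fin r) k) := inferInstance
  have hc : IsAdicComplete (maximalIdeal (MvPowerSeries (Fin r) k))
      (Fin r → MvPowerSeries (Fin r) k) := { toIsHausdorff := hH, toIsPrecomplete := hpre }
  let f : (Fin r → MvPowerSeries (Fin r) k) →ₗ[MvPowerSeries (Fin r) k]
      (Ω[MvPowerSeries (Fin r) k⁄k]) :=
    Fintype.linearCombination (MvPowerSeries (Fin r) k)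
      (fun i => KaehlerDifferential.D k (MvPowerSeries (Fin r) k) (MvPowerSeries.X i))
  let g : (Ω[MvPowerSeries (Fin r) k⁄k]) →ₗ[MvPowerSeries (Fin r) k]
      (Fin r → MvPowerSeries (Fin r) k) :=
    LinearMap.pi (fun i => (MvPowerSeries.pderiv k i).liftKaehlerDifferential)
  have hgD : ∀ (a : MvPowerSeries (Fin r) k) (i : Fin r),
      g (KaehlerDifferential.D k _ a) i = MvPowerSeries.pderiv k i a := by
    intro a i
    simp [g, Derivation.liftKaehlerDifferential_comp_D]
  have hgf : g ∘ₗ f = LinearMap.id := by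
    apply LinearMap.pi_ext'
    intro j
    ext i
    simp only [LinearMap.coe_comp, Function.comp_apply, LinearMap.coe_single, LinearMap.id_coe, id_eq, f,
      Fintype.linearCombination_apply_single, one_smul, hgD]
    by_cases hij : i = j
    · subst hij
      simp [MvPowerSeries.pderiv_X_self]
    · rw [MvPowerSeries.pderiv_X_of_ne (Ne.symm hij)]
      simp [hij]
  have hfg : ∀ (ω : Ω[MvPowerSeries (Fin r) k⁄k]) (n : ℕ), f (g ω) - ω ∈
      (maximalIdeal (MvPowerSeries (Fin r) k) ^ n • ⊤ :
        Submodule (MvPowerSeries (Fin r) k) (Ω[MvPowerSeries (Fin r) k⁄k])) := by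
    intro ω n
    have hspan : ω ∈ Submodule.span (MvPowerSeries (Fin r) k)
        (Set.range (KaehlerDifferential.D k (MvPowerSeries (Fin r) k))) := by
      rw [KaehlerDifferential.span_range_derivation]; trivial
    have hcomap : Submodule.span (MvPowerSeries (Fin r) k)
        (Set.range (KaehlerDifferential.D k (MvPowerSeries (Fin r) k))) ≤
        Submodule.comap (f ∘ₗ g - LinearMap.id)
          (maximalIdeal (MvPowerSeries (Fin r) k) ^ n • ⊤ :
            Submodule (MvPowerSeries (Fin r) k) (Ω[MvPowerSeries (Fin r) k⁄k])) := by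
      rw [Submodule.span_le]
      rintro _ ⟨a, rfl⟩
      simp only [SetLike.mem_coe, Submodule.mem_comap, LinearMap.sub_apply, LinearMap.coe_comp,
        Function.comp_apply, LinearMap.id_coe, id_eq]
      have h1 := chain_rule_mod k r a n
      have h2 : f (g (KaehlerDifferential.D k (MvPowerSeries (Fin r) k) a)) =
          ∑ i, (MvPowerSeries.pderiv k i a) •
            KaehlerDifferential.D k (MvPowerSeries (Fin r) k) (MvPowerSeries.X i) := by
        simp only [f, Fintype.linearCombination_apply, hgD]
      rw [h2, ← neg_sub]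
      exact neg_mem h1
    have := hcomap hspan
    simpa using this
  obtain ⟨e⟩ := exists_equiv (maximalIdeal (MvPowerSeries (Fin r) k)) f g hgf hfg
  refine ⟨Module.Finite.equiv e, Module.Free.of_equiv e, ?_⟩
  rw [← e.finrank_eq]
  simp

end Groth.Agent.S2477
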