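import Groth.Statements.S2478
import Mathlib.RingTheory.Spectrum.Prime.ConstructibleSet
import Mathlib.RingTheory.LocalRing.ResidueField.Ideal

set_option autoImplicit false
universe u
open EGA41

namespace Groth.Agent.S2478

open PrimeSpectrum Topology

/-- The map from `A` to the product of the residue fields at the points of `E`. -/
noncomputable def toProd {A : Type*} [CommRing A] (E : Set (PrimeSpectrum A)) :
    A →+* (Π P : E, P.1.asIdeal.ResidueField) :=
  RingHom.pi fun P => algebraMap A P.1.asIdeal.ResidueField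

lemma toProd_apply {A : Type*} [CommRing A] (E : Set (PrimeSpectrum A)) (a : A) (P : E) :
    toProd E a P = algebraMap A P.1.asIdeal.ResidueField a := rfl

lemma toProd_mem {A : Type*} [CommRing A] (E : Set (PrimeSpectrum A))
    (C : BasicConstructibleSetData A) (hE : ∀ P ∈ E, P ∉ C.toSet)
    (q : Ideal (Π P : E, P.1.asIdeal.ResidueField)) [q.IsPrime]
    (hg : ∀ j, toProd E (C.g j) ∈ q) : toProd E C.f ∈ q := by
  classical
  let v : Fin C.n → (Π P : E, P.1.asIdeal.ResidueField) :=
    fun j P => (algebraMap A P.1.asIdeal.ResidueField (C.g j))⁻¹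
  have key : toProd E C.f * ∏ j, (1 - toProd E (C.g j) * v j) = 0 := by
    funext P
    simp only [Pi.mul_apply, Finset.prod_apply, Pi.sub_apply, Pi.one_apply, Pi.zero_apply,
      toProd_apply]
    by_cases hall : ∀ j, algebraMap A P.1.asIdeal.ResidueField (C.g j) = 0
    · have hPC : P.1 ∉ C.toSet := hE P.1 P.2
      have hPf : algebraMap A P.1.asIdeal.ResidueField C.f = 0 := by
        rw [Ideal.algebraMap_residueField_eq_zero]
        by_contra hf
        apply hPC
        refine ⟨?_, ?_⟩
        · rintro _ ⟨j, rfl⟩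
          exact Ideal.algebraMap_residueField_eq_zero.mp (hall j)
        · intro h
          exact hf (h (Set.mem_singleton _))
      rw [hPf, zero_mul]
    · push Not at hall
      obtain ⟨j, hj⟩ := hall
      apply mul_eq_zero_of_right
      apply Finset.prod_eq_zero (Finset.mem_univ j)
      have : algebraMap A P.1.asIdeal.ResidueField (C.g j) * v j P = 1 := mul_inv_cancel₀ hj
      rw [this, sub_self]
  rw [← Ideal.Quotient.eq_zero_iff_mem]
  have h1 : ∀ j, Ideal.Quotient.mk q (toProd E (C.g j)) = 0 := fun j =>
    Ideal.Quotient.eq_zero_iff_mem.mpr (hg j)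
  have := congr(Ideal.Quotient.mk q $key)
  simpa [map_mul, map_prod, map_sub, h1] using this

lemma mem_range_toProd {A : Type*} [CommRing A] (E : Set (PrimeSpectrum A))
    (P : PrimeSpectrum A) (hP : P ∈ E) : P ∈ Set.range (comap (toProd E)) := by
  let ev : (Π P : E, P.1.asIdeal.ResidueField) →+* P.asIdeal.ResidueField :=
    Pi.evalRingHom (fun P : E => P.1.asIdeal.ResidueField) ⟨P, hP⟩
  refine ⟨comap ev ⟨⊥, Ideal.isPrime_bot⟩, ?_⟩
  ext1
  change Ideal.comap (toProd E) (Ideal.comap ev ⊥) = P.asIdeal
  rw [Ideal.comap_comap, ← RingHom.ker_eq_comap_bot]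
  exact Ideal.ker_algebraMap_residueField _

/-- The range of `Spec B → Spec A` is an intersection of constructible sets. -/
lemma exists_isConstructible_of_notMem_range {A B : Type*} [CommRing A] [CommRing B]
    (f : A →+* B) (P : PrimeSpectrum A) (hP : P ∉ Set.range (comap f)) :
    ∃ s : Set (PrimeSpectrum A), IsConstructible s ∧ Set.range (comap f) ⊆ s ∧ P ∉ s := by
  classical
  rw [mem_range_comap_iff] at hP
  have hne : ¬ (P.asIdeal.map f).comap f ≤ P.asIdeal :=
    fun h => hP (le_antisymm h Ideal.le_comap_map)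
  obtain ⟨a, ha, haP⟩ := SetLike.not_le_iff_exists.mp hne
  rw [Ideal.mem_comap, Ideal.map, Ideal.span] at ha
  obtain ⟨T, hT, haT⟩ := Submodule.mem_span_finite_of_mem_span ha
  obtain ⟨T', hT', rfl⟩ := Finset.subset_set_image_iff.mp hT
  refine ⟨(zeroLocus (T' : Set A) \ zeroLocus {a})ᶜ, ?_, ?_, ?_⟩
  · refine (IsConstructible.sdiff ?_ ?_).compl
    · rw [← isConstructible_compl]
      exact (isRetrocompact_zeroLocus_compl T'.finite_toSet).isConstructible
        (isClosed_zeroLocus _).isOpen_compl
    · rw [← isConstructible_compl]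
      exact (isRetrocompact_zeroLocus_compl (Set.finite_singleton _)).isConstructible
        (isClosed_zeroLocus _).isOpen_compl
  · rintro _ ⟨q, rfl⟩ ⟨h1, h2⟩
    apply h2
    rw [mem_zeroLocus, Set.singleton_subset_iff]
    change f a ∈ q.asIdeal
    have hle : Submodule.span B ((T'.image f : Finset B) : Set B) ≤ q.asIdeal := by
      apply Submodule.span_le.mpr
      intro b hb
      rw [Finset.coe_image] at hb
      obtain ⟨t, ht, rfl⟩ := hb
      exact h1 ht
    exact hle haT
  · intro h
    apply h
    refine ⟨?_, ?_⟩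
    · rw [mem_zeroLocus]
      exact hT'
    · rw [mem_zeroLocus, Set.singleton_subset_iff]
      exact haP

open Topology in
/-- Equivalence of (a'') and (b) for X = Spec A affine: a subset E of Spec A is the image of the map
Spec B → Spec A induced by some ring homomorphism A → B if and only if E is an intersection of a
family of constructible subsets of Spec A. -/
theorem result {A : Type u} [CommRing A] (E : Set (PrimeSpectrum A)) :
    (∃ (B : Type u) (_ : CommRing B) (f : A →+* B), Set.range (PrimeSpectrum.comap f) = E) ↔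
      ∃ S : Set (Set (PrimeSpectrum A)), (∀ s ∈ S, IsConstructible s) ∧ E = ⋂₀ S := by
  constructor
  · rintro ⟨B, _, f, rfl⟩
    refine ⟨{s | IsConstructible s ∧ Set.range (comap f) ⊆ s}, fun s hs => hs.1, ?_⟩
    apply Set.Subset.antisymm
    · exact Set.subset_sInter fun s hs => hs.2
    · intro P hP
      by_contra hP'
      obtain ⟨s, hs, hsub, hPs⟩ := exists_isConstructible_of_notMem_range f P hP'
      exact hPs (hP s ⟨hs, hsub⟩)
  · rintro ⟨S, hS, rfl⟩
    refine ⟨Π P : (⋂₀ S : Set (PrimeSpectrum A)), P.1.asIdeal.ResidueField, inferInstance,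
      toProd (⋂₀ S), ?_⟩
    apply Set.Subset.antisymm
    · rintro _ ⟨q, rfl⟩ s hs
      by_contra hQ
      obtain ⟨D, hD⟩ := exists_constructibleSetData_iff.mpr (hS s hs).compl
      have hQ' : comap (toProd (⋂₀ S)) q ∈ D.toSet := hD ▸ hQ
      simp only [ConstructibleSetData.toSet, Set.mem_iUnion] at hQ'
      obtain ⟨C, hC, hQC⟩ := hQ'
      have hsub : C.toSet ⊆ sᶜ := by
        rw [← hD]
        intro x hx
        simp only [ConstructibleSetData.toSet, Set.mem_iUnion]
        exact ⟨C, hC, hx⟩
      obtain ⟨hg, hh⟩ := hQC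
      apply hh
      rw [mem_zeroLocus, Set.singleton_subset_iff]
      exact toProd_mem (⋂₀ S) C (fun P hP h => hsub h (hP s hs)) q.asIdeal
        (fun j => hg (Set.mem_range_self j))
    · intro P hP
      exact mem_range_toProd (⋂₀ S) P hP

end Groth.Agent.S2478
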