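import Groth.Statements.S2479
import Groth.Agent.S2478
import Mathlib.AlgebraicGeometry.PullbackCarrier

set_option autoImplicit false
universe u
open EGA41

namespace Groth.Agent.S2479

open AlgebraicGeometry CategoryTheory Topology

lemma exists_spec_iff {X : Scheme.{u}} [CompactSpace X] [QuasiSeparatedSpace X] (E : Set X) :
    (∃ (X' : Scheme.{u}) (f : X' ⟶ X), QuasiCompact f ∧ Set.range f.base = E) ↔
      ∃ (R : CommRingCat.{u}) (g : Spec R ⟶ X), Set.range g = E := by
  constructor
  · rintro ⟨X', f, hf, rfl⟩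
    have : CompactSpace X' := (quasiCompact_iff_compactSpace f).mp hf
    obtain ⟨R, q, hq⟩ := compactSpace_iff_exists.mp this
    refine ⟨R, q ≫ f, ?_⟩
    rw [Scheme.Hom.comp_base, TopCat.coe_comp, Set.range_comp, hq.range_eq, Set.image_univ]
  · rintro ⟨R, g, rfl⟩
    exact ⟨Spec R, g, inferInstance, rfl⟩

/-- Preimages of constructible sets under a morphism from a quasi-compact scheme to a
quasi-compact quasi-separated scheme are constructible. -/
lemma isConstructible_preimage {X Y : Scheme.{u}} [CompactSpace X] [QuasiSeparatedSpace X]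
    [CompactSpace Y] [QuasiSeparatedSpace Y] (p : Y ⟶ X) (s : Set X) (hs : IsConstructible s) :
    IsConstructible (p ⁻¹' s) := by
  refine hs.preimage p.continuous fun t ht htc => ?_
  rw [QuasiSeparatedSpace.isRetrocompact_iff_isCompact (ht.preimage p.continuous)]
  exact QuasiCompact.isCompact_preimage (f := p) _ ht htc.isCompact

open AlgebraicGeometry CategoryTheory Topology in
lemma exists_isConstructible_of_notMem_range {X : Scheme.{u}} [CompactSpace X]
    [QuasiSeparatedSpace X] {R' : CommRingCat.{u}} (g : Spec R' ⟶ X) {U : X.Opens}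
    (hU : IsAffineOpen U) (x : X) (hxU : x ∈ U) (hx : x ∉ Set.range g) :
    ∃ s : Set X, IsConstructible s ∧ Set.range g ⊆ s ∧ x ∉ s := by
  set j := hU.fromSpec with hj
  have hrange : Set.range j = U := hU.range_fromSpec
  have hcomp : CompactSpace ↑(Limits.pullback j g) := inferInstance
  obtain ⟨R'', q, hq⟩ := compactSpace_iff_exists.mp hcomp
  obtain ⟨φ, hφ⟩ := Spec.map_surjective (q ≫ Limits.pullback.fst j g)
  have hk : Set.range (Spec.map φ) = j ⁻¹' Set.range g := by
    rw [hφ, Scheme.Hom.comp_base, TopCat.coe_comp, Set.range_comp, hq.range_eq, Set.image_univ,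
      Scheme.Pullback.range_fst]
  obtain ⟨x', rfl⟩ : x ∈ Set.range j := hrange ▸ hxU
  have hx' : x' ∉ Set.range (PrimeSpectrum.comap φ.hom) := by
    intro h
    have : x' ∈ Set.range (Spec.map φ) := h
    rw [hk] at this
    exact hx this
  obtain ⟨s', hs', hsub, hx's'⟩ :=
    Groth.Agent.S2478.exists_isConstructible_of_notMem_range φ.hom x' hx'
  have hretro : IsRetrocompact (Set.range j) :=
    (QuasiSeparatedSpace.isRetrocompact_iff_isCompact j.isOpenEmbedding.isOpen_range).mpr
      (isCompact_range j.continuous)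
  refine ⟨j '' s' ∪ (Set.range j)ᶜ, ?_, ?_, ?_⟩
  · exact (hs'.image_of_isOpenEmbedding j.isOpenEmbedding hretro).union
      (hretro.isConstructible j.isOpenEmbedding.isOpen_range).compl
  · rintro y hy
    by_cases hyj : y ∈ Set.range j
    · left
      obtain ⟨z, rfl⟩ := hyj
      refine ⟨z, hsub ?_, rfl⟩
      change z ∈ Set.range (Spec.map φ)
      rw [hk]
      exact hy
    · right
      exact hyj
  · rintro (⟨z, hz, hzx⟩ | h)
    · have : z = x' := j.isOpenEmbedding.injective hzx
      exact hx's' (this ▸ hz)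
    · exact h ⟨x', rfl⟩

/-- Let X be a quasi-compact and quasi-separated scheme and E ⊆ X. Then E = f(X') for some quasi-compact
morphism f : X' → X if and only if E is an intersection of a family of constructible subsets of X. -/
theorem result {X : Scheme.{u}} [CompactSpace X] [QuasiSeparatedSpace X] (E : Set X) :
    (∃ (X' : Scheme.{u}) (f : X' ⟶ X), QuasiCompact f ∧ Set.range f.base = E) ↔
      ∃ S : Set (Set X), (∀ s ∈ S, IsConstructible s) ∧ E = ⋂₀ S := by
  rw [exists_spec_iff]
  constructor
  · rintro ⟨R', g, rfl⟩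
    refine ⟨{s | IsConstructible s ∧ Set.range g ⊆ s}, fun s hs => hs.1, ?_⟩
    apply Set.Subset.antisymm
    · exact Set.subset_sInter fun s hs => hs.2
    · intro x hx
      by_contra hxE
      obtain ⟨U, hU, hxU, -⟩ := exists_isAffineOpen_mem_and_subset (U := ⊤) (x := x) (by simp)
      obtain ⟨s, hs, hsub, hxs⟩ := exists_isConstructible_of_notMem_range g hU x hxU hxE
      exact hxs (hx s ⟨hs, hsub⟩)
  · rintro ⟨S, hS, rfl⟩
    obtain ⟨R, p, hp⟩ := compactSpace_iff_exists.mp (inferInstance : CompactSpace X)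
    have h1 : ∃ (B : Type u) (_ : CommRing B) (f : R →+* B),
        Set.range (PrimeSpectrum.comap f) = p ⁻¹' (⋂₀ S) := by
      rw [Groth.Agent.S2478.result]
      refine ⟨(fun s => p ⁻¹' s) '' S, ?_, ?_⟩
      · rintro _ ⟨s, hs, rfl⟩
        exact isConstructible_preimage p s (hS s hs)
      · rw [Set.sInter_image, Set.preimage_sInter]
        rfl
    obtain ⟨B, _, f, hf⟩ := h1
    refine ⟨CommRingCat.of B, Spec.map (CommRingCat.ofHom f) ≫ p, ?_⟩
    rw [Scheme.Hom.comp_base, TopCat.coe_comp, Set.range_comp]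
    have : Set.range (Spec.map (CommRingCat.ofHom f)) = p ⁻¹' (⋂₀ S) := hf
    rw [this, Set.image_preimage_eq _ hp]

end Groth.Agent.S2479
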