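import Groth.Statements.S2481
import Groth.Agent.S9316
import Groth.Agent.S4537

set_option autoImplicit false
universe u
open EGA41

namespace Groth.Agent.S2481

open IsLocalRing in
/-- Let A → B be a local homomorphism of Noetherian local rings with the adic topologies, K the residue
field of B. Then B is formally smooth over A if and only if: for every Artinian local ring C with a
local homomorphism A → C, every nilpotent ideal J of C and every local A-algebra homomorphism u : B
→ C/J inducing a bijection of residue fields (so that C has residue field K and u induces the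
identity on it), u is induced by a local A-algebra homomorphism B → C. -/
theorem result {A B : Type u} [CommRing A] [IsLocalRing A] [IsNoetherianRing A] [CommRing B] [IsLocalRing B] [IsNoetherianRing B]
    [Algebra A B] [IsLocalHom (algebraMap A B)] :
    EGA41.IsFormallySmoothAdic A (maximalIdeal A) B (maximalIdeal B) ↔
      ∀ (C : Type u) [CommRing C] [IsLocalRing C] [IsArtinianRing C] [Algebra A C] [IsLocalHom (algebraMap A C)]
        (J : Ideal C), IsNilpotent J → ∀ [IsLocalRing (C ⧸ J)] (u : B →ₐ[A] C ⧸ J) [IsLocalHom u.toRingHom],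
        Function.Bijective (ResidueField.map u.toRingHom) →
        ∃ f : B →ₐ[A] C, IsLocalHom f.toRingHom ∧ (Ideal.Quotient.mkₐ A J).comp f = u := by
  constructor
  · intro hfs C _ _ _ _ _ J hJ _ u _ _
    obtain ⟨m, hm⟩ : ∃ m, maximalIdeal C ^ m = ⊥ := by
      have := IsArtinianRing.isNilpotent_jacobson_bot (R := C)
      rw [IsLocalRing.jacobson_eq_maximalIdeal ⊥ bot_ne_top] at this
      exact this
    have h1 : ∃ k : ℕ, (maximalIdeal A ^ k).map (algebraMap A C) = ⊥ := by
      refine ⟨m, ?_⟩
      rw [eq_bot_iff, ← hm, Ideal.map_pow]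
      exact Ideal.pow_right_mono (map_maximalIdeal_le (algebraMap A C)) m
    have h2 : ∃ k : ℕ, ∀ x ∈ maximalIdeal B ^ k, u x = 0 := by
      refine ⟨m, fun x hx => ?_⟩
      have h3 : (maximalIdeal B ^ m).map u.toRingHom ≤ maximalIdeal (C ⧸ J) ^ m := by
        rw [Ideal.map_pow]
        exact Ideal.pow_right_mono (map_maximalIdeal_le u.toRingHom) m
      have h4 : maximalIdeal (C ⧸ J) ^ m = ⊥ := by
        rw [← map_maximalIdeal_of_surjective (Ideal.Quotient.mk J) Ideal.Quotient.mk_surjective,
          ← Ideal.map_pow, hm, Ideal.map_bot]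
      have h5 := h3 (Ideal.mem_map_of_mem _ hx)
      rw [h4] at h5
      simpa using h5
    obtain ⟨v, hv⟩ := hfs C J hJ h1 u h2
    refine ⟨v, ⟨fun b hb => ?_⟩, hv⟩
    have h6 : IsUnit (u b) := by
      rw [← hv]
      exact hb.map (Ideal.Quotient.mk J)
    exact isUnit_of_map_unit u.toRingHom b h6
  · intro H
    have h1 : CAlgX.IsAdicFormallySmooth A B (maximalIdeal B) := by
      rw [Groth.Agent.S9316.result]
      intro C _ _ _ _ _ J hJ2 _ _ ψ _ hbij
      obtain ⟨f, -, hf⟩ := H C J ⟨2, hJ2⟩ ψ hbij
      exact ⟨f, hf⟩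
    have h2 := (Groth.Agent.S4537.result (maximalIdeal B)).mp h1
    intro C _ _ J hJ _ u hu
    exact h2 C J hJ ⟨1, by simp⟩ u hu

end Groth.Agent.S2481
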