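import Groth.Statements.S2482
import Groth.Agent.S2455
import Mathlib.RingTheory.Flat.TorsionFree

set_option autoImplicit false
universe u
open EGA41

namespace Groth.Agent.S2482

open IsLocalRing

/-- A local homomorphism of discrete valuation rings with `m_A B = m_B` makes `B` a Cohen
`A`-algebra, provided `B` is complete and the residue extension is separable. -/
theorem isCohenAlgebra_of_dvr {A B : Type u} [CommRing A] [IsDomain A] [IsDiscreteValuationRing A]
    [CommRing B] [IsDomain B] [IsDiscreteValuationRing B] [IsAdicComplete (maximalIdeal B) B]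
    [Algebra A B] [IsLocalHom (algebraMap A B)]
    (hu : (maximalIdeal A).map (algebraMap A B) = maximalIdeal B)
    [hsep : Algebra.IsGeometricallyReduced (ResidueField A) (ResidueField B)] :
    EGA41.IsCohenAlgebra A B := by
  refine ⟨inferInstance, inferInstance, inferInstance, ?_, hu, hsep⟩
  -- the structure map is injective
  have hinj : Function.Injective (algebraMap A B) := by
    rw [injective_iff_map_eq_zero]
    intro a ha
    by_contra ha0
    obtain ⟨π, hπ⟩ := IsDiscreteValuationRing.exists_irreducible A
    obtain ⟨n, w, hw⟩ := IsDiscreteValuationRing.eq_unit_mul_pow_irreducible ha0 hπ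
    rw [hw, map_mul, map_pow, mul_eq_zero] at ha
    rcases ha with ha | ha
    · exact (w.isUnit.map (algebraMap A B)).ne_zero ha
    · have h1 : algebraMap A B π = 0 := pow_eq_zero_iff (n := n) (by
        rintro rfl
        rw [pow_zero] at ha
        exact one_ne_zero ha) |>.mp ha
      have h2 : maximalIdeal A = Ideal.span {π} := (IsDiscreteValuationRing.irreducible_iff_uniformizer π).mp hπ
      rw [h2, Ideal.map_span, Set.image_singleton, h1, Ideal.span_singleton_eq_bot.mpr rfl] at hu
      exact IsDiscreteValuationRing.not_a_field B hu.symm
  rw [Module.Flat.flat_iff_torsion_eq_bot_of_isBezout, eq_bot_iff]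
  intro x hx
  obtain ⟨a, ha⟩ := hx
  rw [Submodule.mem_bot]
  have h2 : (a : A) • x = 0 := ha
  rw [Algebra.smul_def, mul_eq_zero] at h2
  rcases h2 with h2 | h2
  · exfalso
    have h3 : (a : A) = 0 := (map_eq_zero_iff _ hinj).mp h2
    exact nonZeroDivisors.coe_ne_zero a h3
  · exact h2

/-- (a) ⟹ (b): let A, B be complete discrete valuation rings and u : A → B a ring homomorphism with
u(𝔪_A)B = 𝔪_B, such that the residue field L of B is separable over the residue field K of A. Then
for every complete discrete valuation ring B', every homomorphism u' : A → B' with u'(𝔪_A)B' =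
𝔪_{B'} and every isomorphism σ of residue fields L ≅ L' compatible with the maps from K, there is an
isomorphism w : B ≅ B' with u' = w ∘ u inducing σ on residue fields. -/
theorem result {A B B' : Type u} [CommRing A] [IsDomain A] [IsDiscreteValuationRing A] [IsAdicComplete (maximalIdeal A) A]
    [CommRing B] [IsDomain B] [IsDiscreteValuationRing B] [IsAdicComplete (maximalIdeal B) B]
    [CommRing B'] [IsDomain B'] [IsDiscreteValuationRing B'] [IsAdicComplete (maximalIdeal B') B']
    (u : A →+* B) [IsLocalHom u] (hu : (maximalIdeal A).map u = maximalIdeal B)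
    (hsep : letI := (ResidueField.map u).toAlgebra; Algebra.IsGeometricallyReduced (ResidueField A) (ResidueField B))
    (u' : A →+* B') [IsLocalHom u'] (hu' : (maximalIdeal A).map u' = maximalIdeal B')
    (σ : ResidueField B ≃+* ResidueField B') (hσ : (σ : ResidueField B →+* ResidueField B').comp (ResidueField.map u) = ResidueField.map u') :
    ∃ w : B ≃+* B', (w : B →+* B').comp u = u' ∧ ∀ b : B, residue B' (w b) = σ (residue B b) := by
  let algB : Algebra A B := u.toAlgebra
  let algB' : Algebra A B' := u'.toAlgebra
  have hlocB : IsLocalHom (algebraMap A B) := ‹IsLocalHom u›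
  have hlocB' : IsLocalHom (algebraMap A B') := ‹IsLocalHom u'›
  have halgeq : (ResidueField.map u).toAlgebra =
      (inferInstance : Algebra (ResidueField A) (ResidueField B)) := by
    apply Algebra.algebra_ext
    intro x
    obtain ⟨a, rfl⟩ := residue_surjective x
    rfl
  have hsep' : Algebra.IsGeometricallyReduced (ResidueField A) (ResidueField B) := by
    have := hsep
    rw [halgeq] at this
    exact this
  have hB : EGA41.IsCohenAlgebra A B := isCohenAlgebra_of_dvr hu
  -- `B'` is also a Cohen algebra: its residue field is isomorphic to that of `B`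
  have hσx : ∀ x : ResidueField A, σ (algebraMap (ResidueField A) (ResidueField B) x) =
      algebraMap (ResidueField A) (ResidueField B') x := by
    intro x
    obtain ⟨a, rfl⟩ := residue_surjective x
    exact RingHom.congr_fun hσ (residue A a)
  let σ' : ResidueField B ≃ₐ[ResidueField A] ResidueField B' := AlgEquiv.ofRingEquiv (f := σ) hσx
  have hsepB' : Algebra.IsGeometricallyReduced (ResidueField A) (ResidueField B') :=
    Algebra.IsGeometricallyReduced.of_injective σ'.symm.toAlgHom σ'.symm.injective
  have hB' : EGA41.IsCohenAlgebra A B' := isCohenAlgebra_of_dvr hu'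
  obtain ⟨v, hv⟩ := Groth.Agent.S2455.exists_algEquiv_of_isCohenAlgebra hB hB' σ'
  refine ⟨v.toRingEquiv, RingHom.ext fun a => ?_, hv⟩
  exact v.commutes a

end Groth.Agent.S2482
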