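import Groth.Statements.S2484
import Groth.Agent.Lib.MacLane4H44

set_option autoImplicit false
universe u
open EGA41

namespace Groth.Agent.S2484

/-- Let K ⊆ E ⊆ F be fields. (i) If F is a separable extension of E, then Υ_{F/E/K} = 0, i.e. the
canonical map Ω_{E/K} ⊗_E F → Ω_{F/K} is injective. (ii) Conversely, if F is separable over K and
this map is injective, then F is separable over E. (Separable means geometrically reduced.) -/
theorem result {K E F : Type u} [Field K] [Field E] [Field F] [Algebra K E] [Algebra E F] [Algebra K F] [IsScalarTower K E F] :
    (Algebra.IsGeometricallyReduced E F → Function.Injective (KaehlerDifferential.mapBaseChange K E F)) ∧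
    (Algebra.IsGeometricallyReduced K F → Function.Injective (KaehlerDifferential.mapBaseChange K E F) → Algebra.IsGeometricallyReduced E F) := by
  constructor
  · intro h
    have : Algebra.FormallySmooth E F :=
      (Groth.Agent.Lib.MacLane4H44.formallySmooth_iff_isGeometricallyReduced E F).2 h
    exact Groth.Agent.Lib.MacLane3H44.mapBaseChange_injective_of_subsingleton_h1 K E F
  · intro h hinj
    have : Algebra.FormallySmooth K F :=
      (Groth.Agent.Lib.MacLane4H44.formallySmooth_iff_isGeometricallyReduced K F).2 h
    have := Groth.Agent.Lib.MacLane3H44.subsingleton_h1_of_mapBaseChange_injective K E F hinj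
    have hfs : Algebra.FormallySmooth E F := ⟨inferInstance, inferInstance⟩
    exact (Groth.Agent.Lib.MacLane4H44.formallySmooth_iff_isGeometricallyReduced E F).1 hfs

end Groth.Agent.S2484
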