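import Groth.Statements.S2485
import Mathlib.Algebra.Algebra.Epi
import Mathlib.RingTheory.Unramified.Basic
import Mathlib.RingTheory.Noetherian.Nilpotent
import Mathlib.RingTheory.IntegralClosure.IsIntegralClosure.Basic
import Mathlib.Algebra.CharP.Lemmas
import Mathlib.Algebra.CharP.Algebra

set_option autoImplicit false
universe u
open EGA41

namespace Groth.Agent.S2485

open TensorProduct

/-- Exponent one case: if `B` is of finite type over `C`, all `p`-th powers of `B` come from `C`
and `Ω[B⁄C] = 0`, then `C → B` is surjective. -/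
lemma surjective_of_pow_mem (p : ℕ) [Fact p.Prime] {C B : Type*} [CommRing C] [CommRing B]
    [Algebra C B] [CharP B p] [Algebra.FiniteType C B]
    (hpow : ∀ b : B, b ^ p ∈ Set.range (algebraMap C B)) [Subsingleton (Ω[B⁄C])] :
    Function.Surjective (algebraMap C B) := by
  have hint : Algebra.IsIntegral C B := by
    refine ⟨fun b => ?_⟩
    obtain ⟨c, hc⟩ := hpow b
    exact IsIntegral.of_pow (Fact.out : p.Prime).pos (hc ▸ isIntegral_algebraMap)
  have hfin : Module.Finite C B := Algebra.IsIntegral.finite
  rw [← Algebra.isEpi_iff_surjective_algebraMap_of_finite, Algebra.isEpi_iff_forall_one_tmul_eq]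
  -- the diagonal ideal
  set I := KaehlerDifferential.ideal C B with hI
  have hsub : Subsingleton (KaehlerDifferential.ideal C B).Cotangent := ‹Subsingleton (Ω[B⁄C])›
  have hidem : IsIdempotentElem I := (Ideal.cotangent_subsingleton_iff _).mp hsub
  have hfg : I.FG := KaehlerDifferential.ideal_fg C B
  have hchar : CharP (B ⊗[C] B) p :=
    charP_of_injective_ringHom (f := (Algebra.TensorProduct.includeLeft : B →ₐ[C] B ⊗[C] B).toRingHom)
      (fun x y hxy => by
        have := congr(Algebra.TensorProduct.lmul' C $hxy)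
        simpa using this) p
  have hnil : I ≤ nilradical (B ⊗[C] B) := by
    rw [hI, ← KaehlerDifferential.span_range_eq_ideal, Ideal.span_le]
    rintro _ ⟨b, rfl⟩
    obtain ⟨c, hc⟩ := hpow b
    refine ⟨p, ?_⟩
    rw [sub_pow_char, Algebra.TensorProduct.tmul_pow, Algebra.TensorProduct.tmul_pow, one_pow,
      ← hc, Algebra.algebraMap_eq_smul_one, ← TensorProduct.smul_tmul, sub_self]
    exact zero_mem _
  obtain ⟨n, hn⟩ := hfg.isNilpotent_iff_le_nilradical.mpr hnil
  have hbot : I = ⊥ := by
    cases n with
    | zero =>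
      rw [pow_zero, Ideal.one_eq_top] at hn
      rw [eq_bot_iff]; exact le_top.trans hn.le
    | succ n => rw [← hidem.pow_succ_eq n, hn]; rfl
  intro b
  have : (1 : B) ⊗ₜ[C] b - b ⊗ₜ[C] (1 : B) ∈ I :=
    KaehlerDifferential.one_smul_sub_smul_one_mem_ideal C b
  rw [hbot, Ideal.mem_bot, sub_eq_zero] at this
  exact this

/-- Let p be a prime and A → B a ring homomorphism making B an A-algebra of finite type, with B of
characteristic p, such that for some s ≥ 0 every p^s-th power of an element of B lies in the image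
of A. If Ω_{B/A} = 0 then A → B is surjective. -/
theorem result (p : ℕ) [Fact p.Prime] {A B : Type u} [CommRing A] [CommRing B] [Algebra A B] [CharP B p]
    [Algebra.FiniteType A B] (s : ℕ) (hpow : ∀ b : B, b ^ p ^ s ∈ Set.range (algebraMap A B)) [Subsingleton (Ω[B⁄A])] :
    Function.Surjective (algebraMap A B) := by
  -- the subalgebras `A[B^(p^n)]`
  let Cn : ℕ → Subalgebra A B := fun n => Algebra.adjoin A (Set.range fun b : B => b ^ p ^ n)
  have hfu : Algebra.FormallyUnramified A B := ⟨inferInstance⟩
  -- `A[B^p] = B`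
  have hC1 : Cn 1 = ⊤ := by
    have : Algebra.FormallyUnramified (Cn 1) B := Algebra.FormallyUnramified.of_restrictScalars A (Cn 1) B
    have : Algebra.FiniteType (Cn 1) B := Algebra.FiniteType.of_restrictScalars_finiteType A (Cn 1) B
    have hsurj : Function.Surjective (algebraMap (Cn 1) B) := by
      apply surjective_of_pow_mem p
      intro b
      exact ⟨⟨b ^ p, Algebra.subset_adjoin ⟨b, by simp⟩⟩, rfl⟩
    rw [eq_top_iff]
    intro b _
    obtain ⟨c, rfl⟩ := hsurj b
    exact c.2
  -- `b ^ (p^n) ∈ A[B^(p^(n+1))]`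
  have hstep : ∀ n : ℕ, ∀ b : B, b ^ p ^ n ∈ Cn (n + 1) := by
    intro n b
    have hb : b ∈ Cn 1 := hC1 ▸ Algebra.mem_top
    induction hb using Algebra.adjoin_induction with
    | mem x hx =>
      obtain ⟨y, rfl⟩ := hx
      apply Algebra.subset_adjoin
      exact ⟨y, by rw [pow_one, ← pow_mul, pow_succ']⟩
    | algebraMap r =>
      rw [← map_pow]
      exact Subalgebra.algebraMap_mem _ _
    | add x y _ _ hx hy =>
      rw [add_pow_char_pow]
      exact add_mem hx hy
    | mul x y _ _ hx hy =>
      rw [mul_pow]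
      exact mul_mem hx hy
  have htop : ∀ n : ℕ, Cn n = ⊤ := by
    intro n
    induction n with
    | zero =>
      rw [eq_top_iff]
      intro b _
      exact Algebra.subset_adjoin ⟨b, by simp⟩
    | succ n ih =>
      rw [eq_top_iff, ← ih]
      apply Algebra.adjoin_le
      rintro _ ⟨b, rfl⟩
      exact hstep n b
  have hbot : Cn s ≤ ⊥ := by
    apply Algebra.adjoin_le
    rintro _ ⟨b, rfl⟩
    obtain ⟨a, ha⟩ := hpow b
    exact Algebra.mem_bot.mpr ⟨a, ha⟩
  intro b
  have : b ∈ (⊥ : Subalgebra A B) := hbot (htop s ▸ Algebra.mem_top)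
  exact Algebra.mem_bot.mp this

end Groth.Agent.S2485
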