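import Groth.Statements.S2486
import Groth.Agent.S2485

set_option autoImplicit false
universe u
open EGA41

namespace Groth.Agent.S2486

section

variable (p : ℕ) {A B : Type u} [CommRing A] [CommRing B] [Algebra A B]
  {ι : Type u} (x : ι → B)

/-- The span of the reduced monomials over `A[B^p]`. -/
noncomputable def redSpan : Submodule (EGA41.pPowerSubalgebra p A B) B :=
  Submodule.span (EGA41.pPowerSubalgebra p A B)
    (Set.range fun e : {e : ι →₀ ℕ // ∀ i, e i < p} => EGA41.pMonomial x e.1)

lemma pow_p_mem (b : B) : b ^ p ∈ EGA41.pPowerSubalgebra p A B :=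
  Algebra.subset_adjoin ⟨b, rfl⟩

lemma pMonomial_mem_redSpan (e : ι →₀ ℕ) (he : ∀ i, e i < p) :
    EGA41.pMonomial x e ∈ redSpan (A := A) p x :=
  Submodule.subset_span ⟨⟨e, he⟩, rfl⟩

variable [Fact p.Prime]

lemma one_mem_redSpan : (1 : B) ∈ redSpan (A := A) p x := by
  have := pMonomial_mem_redSpan (A := A) p x 0 (fun i => (Fact.out : p.Prime).pos)
  simpa [EGA41.pMonomial] using this

lemma pMonomial_add_single (e : ι →₀ ℕ) (i : ι) :
    EGA41.pMonomial x (e + Finsupp.single i 1) = x i * EGA41.pMonomial x e := by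
  unfold EGA41.pMonomial
  rw [Finsupp.prod_add_index' (h := fun i n => x i ^ n) (fun _ => pow_zero _)
    (fun _ _ _ => pow_add _ _ _),
    Finsupp.prod_single_index (h := fun i n => x i ^ n) (pow_zero _), pow_one, mul_comm]

lemma mul_pMonomial_mem_redSpan (i : ι) (e : ι →₀ ℕ) (he : ∀ i, e i < p) :
    x i * EGA41.pMonomial x e ∈ redSpan (A := A) p x := by
  classical
  by_cases h : e i + 1 < p
  · rw [← pMonomial_add_single]
    apply pMonomial_mem_redSpan
    intro j
    by_cases hj : j = i
    · subst hj; simpa using h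
    · simpa [Finsupp.single_eq_of_ne hj] using he j
  · have hp : e i + 1 = p := le_antisymm (he i) (not_lt.mp h)
    have h1 : EGA41.pMonomial x e = x i ^ e i * EGA41.pMonomial x (e.erase i) := by
      unfold EGA41.pMonomial
      rw [Finsupp.mul_prod_erase' e i (fun i n => x i ^ n) (fun _ => pow_zero _)]
    have h2 : x i * EGA41.pMonomial x e =
        (⟨x i ^ p, pow_p_mem p (x i)⟩ : EGA41.pPowerSubalgebra p A B) •
          EGA41.pMonomial x (e.erase i) := by
      rw [h1, ← mul_assoc, ← pow_succ', hp]
      rfl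
    rw [h2]
    apply Submodule.smul_mem
    apply pMonomial_mem_redSpan
    intro j
    by_cases hj : j = i
    · subst hj; simpa using (Fact.out : p.Prime).pos
    · simpa [Finsupp.erase_ne hj] using he j

lemma mul_mem_redSpan (i : ι) (m : B) (hm : m ∈ redSpan (A := A) p x) :
    x i * m ∈ redSpan (A := A) p x := by
  induction hm using Submodule.span_induction with
  | mem y hy =>
    obtain ⟨e, rfl⟩ := hy
    exact mul_pMonomial_mem_redSpan p x i e.1 e.2
  | zero => simp
  | add y z _ _ hy hz => rw [mul_add]; exact add_mem hy hz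
  | smul c y _ hy =>
    rw [mul_smul_comm]
    exact Submodule.smul_mem _ _ hy

lemma mem_redSpan_of_mem_adjoin (b : B)
    (hb : b ∈ Algebra.adjoin (EGA41.pPowerSubalgebra p A B) (Set.range x)) :
    b ∈ redSpan (A := A) p x := by
  have hb' : b ∈ Subalgebra.toSubmodule
      (Algebra.adjoin (EGA41.pPowerSubalgebra p A B) (Set.range x)) := hb
  rw [Algebra.adjoin_eq_span] at hb'
  refine Submodule.span_le.mpr ?_ hb'
  intro y hy
  induction hy using Submonoid.closure_induction_left with
  | one => exact one_mem_redSpan p x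
  | mul_left z hz y _ hy =>
    obtain ⟨i, rfl⟩ := hz
    exact mul_mem_redSpan p x i y hy

lemma pMonomial_mem_adjoin (e : ι →₀ ℕ) :
    EGA41.pMonomial x e ∈ Algebra.adjoin (EGA41.pPowerSubalgebra p A B) (Set.range x) := by
  unfold EGA41.pMonomial Finsupp.prod
  exact Subalgebra.prod_mem _ fun i _ =>
    Subalgebra.pow_mem _ (Algebra.subset_adjoin (Set.mem_range_self i)) _

lemma adjoin_eq_top_iff :
    Algebra.adjoin (EGA41.pPowerSubalgebra p A B) (Set.range x) = ⊤ ↔
      EGA41.IsPGenerating p A x := by
  change _ ↔ redSpan (A := A) p x = ⊤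
  constructor
  · intro h
    rw [eq_top_iff]
    intro b _
    exact mem_redSpan_of_mem_adjoin p x b (h ▸ Algebra.mem_top)
  · intro h
    rw [eq_top_iff]
    intro b _
    have hb : b ∈ redSpan (A := A) p x := h ▸ Submodule.mem_top
    have hle : redSpan (A := A) p x ≤ Subalgebra.toSubmodule
        (Algebra.adjoin (EGA41.pPowerSubalgebra p A B) (Set.range x)) := by
      apply Submodule.span_le.mpr
      rintro _ ⟨e, rfl⟩
      exact pMonomial_mem_adjoin p x e.1
    exact hle hb

/-- The subalgebra of elements whose differential lies in the span of the `d x_i`. -/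
noncomputable def dSub : Subalgebra A B where
  carrier := {b | KaehlerDifferential.D A B b ∈
    Submodule.span B (Set.range fun i => KaehlerDifferential.D A B (x i))}
  mul_mem' := by
    intro a b ha hb
    simp only [Set.mem_ofPred_eq] at *
    rw [Derivation.leibniz]
    exact add_mem (Submodule.smul_mem _ _ hb) (Submodule.smul_mem _ _ ha)
  add_mem' := by
    intro a b ha hb
    simp only [Set.mem_ofPred_eq] at *
    rw [map_add]
    exact add_mem ha hb
  one_mem' := by simp
  zero_mem' := by simp
  algebraMap_mem' := by intro r; simp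

lemma mem_dSub_iff (b : B) : b ∈ dSub (A := A) x ↔ KaehlerDifferential.D A B b ∈
    Submodule.span B (Set.range fun i => KaehlerDifferential.D A B (x i)) := Iff.rfl

variable [CharP B p]

lemma D_pow_p (b : B) : KaehlerDifferential.D A B (b ^ p) = 0 := by
  rw [Derivation.leibniz_pow, ← Nat.cast_smul_eq_nsmul B, CharP.cast_eq_zero B p, zero_smul]

lemma span_D_eq_top_of_adjoin
    (h : Algebra.adjoin (EGA41.pPowerSubalgebra p A B) (Set.range x) = ⊤) :
    Submodule.span B (Set.range fun i => KaehlerDifferential.D A B (x i)) = ⊤ := by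
  have h1 : Algebra.adjoin A ((Set.range fun b : B => b ^ p) ∪ Set.range x) = ⊤ := by
    unfold EGA41.pPowerSubalgebra at h
    rw [Algebra.adjoin_union_eq_adjoin_adjoin, h, Subalgebra.restrictScalars_top]
  have h2 : Algebra.adjoin A ((Set.range fun b : B => b ^ p) ∪ Set.range x) ≤ dSub (A := A) x := by
    apply Algebra.adjoin_le
    rintro _ (⟨b, rfl⟩ | ⟨i, rfl⟩)
    · rw [SetLike.mem_coe, mem_dSub_iff, D_pow_p p]
      exact zero_mem _
    · exact Submodule.subset_span ⟨i, rfl⟩
  rw [h1] at h2
  rw [eq_top_iff, ← KaehlerDifferential.span_range_derivation A B]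
  apply Submodule.span_le.mpr
  rintro _ ⟨b, rfl⟩
  exact h2 (Algebra.mem_top : b ∈ (⊤ : Subalgebra A B))

lemma adjoin_eq_top_of_span_D
    (hft : Algebra.FiniteType (EGA41.pPowerSubalgebra p A B) B)
    (h : Submodule.span B (Set.range fun i => KaehlerDifferential.D A B (x i)) = ⊤) :
    Algebra.adjoin (EGA41.pPowerSubalgebra p A B) (Set.range x) = ⊤ := by
  set B' := Algebra.adjoin (EGA41.pPowerSubalgebra p A B) (Set.range x) with hB'
  have hft' : Algebra.FiniteType B' B :=
    Algebra.FiniteType.of_restrictScalars_finiteType (EGA41.pPowerSubalgebra p A B) B' B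
  have hsub : Subsingleton (Ω[B⁄B']) := by
    have hsurj := KaehlerDifferential.map_surjective A B' B
    have hzero : KaehlerDifferential.map A B' B B = 0 := by
      apply LinearMap.ext_on h
      rintro _ ⟨i, rfl⟩
      rw [KaehlerDifferential.map_D, LinearMap.zero_apply]
      have : algebraMap B B (x i) =
          algebraMap B' B ⟨x i, Algebra.subset_adjoin (Set.mem_range_self i)⟩ := rfl
      rw [this, Derivation.map_algebraMap]
    refine ⟨fun a b => ?_⟩
    obtain ⟨a', rfl⟩ := hsurj a
    obtain ⟨b', rfl⟩ := hsurj b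
    rw [hzero]
    rfl
  have hsurj : Function.Surjective (algebraMap B' B) := by
    apply Groth.Agent.S2485.surjective_of_pow_mem p
    intro b
    exact ⟨⟨b ^ p, Subalgebra.algebraMap_mem B' ⟨b ^ p, pow_p_mem p b⟩⟩, rfl⟩
  rw [eq_top_iff]
  intro b _
  obtain ⟨c, rfl⟩ := hsurj b
  exact c.2

end

/-- Let p be a prime, B an A-algebra of characteristic p and (x_α) a family of elements of B. Then (a) B
is generated as an A[B^p]-algebra by the x_α if and only if (b) (x_α) is a system of p-generators of
B over A; these imply (c) Ω_{B/A} is generated by the d x_α; and if B is an A[B^p]-algebra of finite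
type, (c) implies (a). -/
theorem result (p : ℕ) [Fact p.Prime] {A B : Type u} [CommRing A] [CommRing B] [Algebra A B] [CharP B p]
    {ι : Type u} (x : ι → B) :
    (Algebra.adjoin (EGA41.pPowerSubalgebra p A B) (Set.range x) = ⊤ ↔ EGA41.IsPGenerating p A x) ∧
    (EGA41.IsPGenerating p A x → Submodule.span B (Set.range fun i => KaehlerDifferential.D A B (x i)) = ⊤) ∧
    (Algebra.FiniteType (EGA41.pPowerSubalgebra p A B) B →
      Submodule.span B (Set.range fun i => KaehlerDifferential.D A B (x i)) = ⊤ → EGA41.IsPGenerating p A x) := by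
  refine ⟨adjoin_eq_top_iff p x, fun h => ?_, fun hft h => ?_⟩
  · exact span_D_eq_top_of_adjoin p x ((adjoin_eq_top_iff p x).mpr h)
  · exact (adjoin_eq_top_iff p x).mp (adjoin_eq_top_of_span_D p x hft h)

end Groth.Agent.S2486
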