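import Groth.Statements.S2487
import Groth.Agent.Lib.FSLift89

set_option autoImplicit false
universe u
open EGA41

namespace Groth.Agent.S2487

open IsLocalRing TensorProduct in
/-- Let A be a Noetherian local ring, J an ideal contained in the maximal ideal, A₀ = A/J, and B₀ a
complete Noetherian local ring with a local homomorphism A₀ → B₀ making B₀ formally smooth over A₀
(adic topologies). Then (existence) there are a complete Noetherian local ring B, a local
homomorphism A → B making B a flat A-module, and an A₀-algebra isomorphism u : A₀ ⊗_A B ≅ B₀;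
(uniqueness) if (B', u') is another such pair, there is an A-algebra isomorphism v : B ≅ B' with u'
∘ (1 ⊗ v) = u. -/
theorem result {A : Type u} [CommRing A] [IsLocalRing A] [IsNoetherianRing A]
    (J : Ideal A) (hJ : J ≤ maximalIdeal A) [IsLocalRing (A ⧸ J)]
    (B₀ : Type u) [CommRing B₀] [IsLocalRing B₀] [IsNoetherianRing B₀] [IsAdicComplete (maximalIdeal B₀) B₀]
    [Algebra (A ⧸ J) B₀] [IsLocalHom (algebraMap (A ⧸ J) B₀)]
    (hfs : EGA41.IsFormallySmoothAdic (A ⧸ J) (maximalIdeal (A ⧸ J)) B₀ (maximalIdeal B₀)) :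
    (∃ (B : Type u) (_ : CommRing B) (_ : IsLocalRing B) (_ : IsNoetherianRing B) (_ : Algebra A B) (_ : IsLocalHom (algebraMap A B)),
      IsAdicComplete (maximalIdeal B) B ∧ Module.Flat A B ∧ Nonempty ((A ⧸ J) ⊗[A] B ≃ₐ[A ⧸ J] B₀)) ∧
    ∀ (B B' : Type u) [CommRing B] [IsLocalRing B] [IsNoetherianRing B] [Algebra A B] [IsLocalHom (algebraMap A B)]
      [CommRing B'] [IsLocalRing B'] [IsNoetherianRing B'] [Algebra A B'] [IsLocalHom (algebraMap A B')],
      IsAdicComplete (maximalIdeal B) B → Module.Flat A B → IsAdicComplete (maximalIdeal B') B' → Module.Flat A B' →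
      ∀ (u : (A ⧸ J) ⊗[A] B ≃ₐ[A ⧸ J] B₀) (u' : (A ⧸ J) ⊗[A] B' ≃ₐ[A ⧸ J] B₀),
      ∃ v : B ≃ₐ[A] B', (u' : (A ⧸ J) ⊗[A] B' →ₐ[A ⧸ J] B₀).comp
          (Algebra.TensorProduct.map (AlgHom.id (A ⧸ J) (A ⧸ J)) (v : B →ₐ[A] B')) = (u : (A ⧸ J) ⊗[A] B →ₐ[A ⧸ J] B₀) := by
  classical
  have hfs' : CAlgX.IsAdicFormallySmooth (A ⧸ J) B₀ (IsLocalRing.maximalIdeal B₀) :=
    Groth.Agent.S7134.adic_of_formallySmoothAdic hfs
  have hmk : Function.Surjective (algebraMap A (A ⧸ J)) := Ideal.Quotient.mk_surjective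
  have hkmk : RingHom.ker (algebraMap A (A ⧸ J)) = J := by
    rw [Ideal.Quotient.algebraMap_eq, Ideal.mk_ker]
  refine ⟨?_, ?_⟩
  · obtain ⟨B, _, _, hBn, ψ, π, hψloc, hBc, hψflat, hπ, hkπ, hπψ⟩ :=
      Groth.Agent.Lib.FSLift89.exists_flat_complete_lift J B₀ hfs'
    let algAB : Algebra A B := ψ.toAlgebra
    refine ⟨B, inferInstance, inferInstance, hBn, algAB, hψloc, hBc, hψflat, ?_⟩
    refine Groth.Agent.Lib.FSFibre.nonempty_tensor_algEquiv (k := A ⧸ J) hmk π hπ ?_ ?_
    · rw [hkπ, hkmk]; rfl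
    · intro a; exact hπψ a
  · intro B B' _ _ _ _ _ _ _ _ _ _ hBc hBflat hB'c hB'flat u u'
    -- the surjections onto `B₀`
    have key : ∀ (C : Type u) [CommRing C] [Algebra A C] (w : (A ⧸ J) ⊗[A] C ≃ₐ[A ⧸ J] B₀),
        ∃ π : C →+* B₀, (∀ c, π c = w (1 ⊗ₜ c)) ∧ Function.Surjective π ∧
          RingHom.ker π = J.map (algebraMap A C) ∧
          ∀ a, π (algebraMap A C a) = algebraMap (A ⧸ J) B₀ (Ideal.Quotient.mk J a) := by
      intro C _ _ w
      let ι : C →ₐ[A] (A ⧸ J) ⊗[A] C := Algebra.TensorProduct.includeRight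
      have hι : Function.Surjective ι :=
        Algebra.TensorProduct.includeRight_surjective (R := A) (S := A ⧸ J) C hmk
      refine ⟨(w : (A ⧸ J) ⊗[A] C →+* B₀).comp ι.toRingHom, fun c => rfl, ?_, ?_, ?_⟩
      · exact w.surjective.comp hι
      · have h1 := Groth.Agent.Lib.FSFibre.ker_includeRight_of_surjective (k := A ⧸ J) C hmk
        rw [hkmk] at h1
        rw [← h1]
        ext c
        rw [RingHom.mem_ker, RingHom.mem_ker]
        change w (ι c) = 0 ↔ ι c = 0
        exact map_eq_zero_iff w w.injective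
      · intro a
        change w (ι (algebraMap A C a)) = _
        rw [ι.commutes, IsScalarTower.algebraMap_apply A (A ⧸ J) ((A ⧸ J) ⊗[A] C), w.commutes]
        rfl
    obtain ⟨π, hπdef, hπ, hkπ, hπA⟩ := key B u
    obtain ⟨π', hπ'def, hπ', hkπ', hπ'A⟩ := key B' u'
    -- `B` is formally smooth over `A`
    have hfsB : CAlgX.IsAdicFormallySmooth A B (maximalIdeal B) := by
      let algAB₀ : Algebra A B₀ :=
        ((algebraMap (A ⧸ J) B₀).comp (Ideal.Quotient.mk J)).toAlgebra
      have towAB₀ : IsScalarTower A (A ⧸ J) B₀ := IsScalarTower.of_algebraMap_eq (fun _ => rfl)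
      let algBB₀ : Algebra B B₀ := π.toAlgebra
      have towABB₀ : IsScalarTower A B B₀ := IsScalarTower.of_algebraMap_eq (fun a =>
        (hπA a).symm)
      have hJB : J.map (algebraMap A B) ≤ maximalIdeal B := by
        rw [← hkπ]
        exact IsLocalRing.le_maximalIdeal (RingHom.ker_ne_top π)
      exact Groth.Agent.Lib.FSFibre.isAdicFormallySmooth_of_flat_of_fibre (A := A)
        (m := J) (B := B) (𝔟 := maximalIdeal B) (k := A ⧸ J) (F := B₀)
        hmk hkmk.le hπ hkπ (map_maximalIdeal_of_surjective π hπ).ge hJB hfs'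
    obtain ⟨v, hv⟩ := Groth.Agent.Lib.FSLift89.exists_algEquiv_of_lifts J hfsB π π' hπ hπ'
      hkπ hkπ' (fun a => by rw [hπA, hπ'A])
    refine ⟨v, ?_⟩
    refine AlgHom.ext fun t => ?_
    induction t using TensorProduct.induction_on with
    | zero => rw [map_zero, map_zero]
    | tmul x b =>
      have h1 : ∀ (C : Type u) [CommRing C] [Algebra A C] (c : C),
          x ⊗ₜ[A] c = x • ((1 : A ⧸ J) ⊗ₜ[A] c) := fun C _ _ c => by
        rw [TensorProduct.smul_tmul', smul_eq_mul, mul_one]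
      change u' (x ⊗ₜ[A] v b) = u (x ⊗ₜ[A] b)
      rw [h1 B' (v b), h1 B b, map_smul, map_smul, ← hπ'def, ← hπdef, hv]
    | add s t hs ht => rw [map_add, map_add, hs, ht]

end Groth.Agent.S2487
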