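import Groth.Statements.S4630
import Groth.Agent.Lib.GeomFieldExt
import Mathlib

set_option autoImplicit false
open CategoryTheory AlgebraicGeometry
universe u
open FBase

namespace Groth.Agent.S4630

open Limits


theorem backward {k K : Type u} [Field k] [Field K] [Algebra k K]
    {X : Scheme.{u}} (f : X ⟶ Spec (CommRingCat.of k)) (x' : ↥(FBase.bc f K))
    (H : FBase.IsGeomPtIntegralAt (FBase.bcStr f K) x') :
    FBase.IsGeomPtIntegralAt f ((FBase.bcπ f K) x') := by
  intro L _ _ y hy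
  -- common point
  obtain ⟨t, ht1, ht2⟩ := Scheme.Pullback.exists_preimage_pullback
    (f := FBase.bcπ f K) (g := FBase.bcπ f L) x' y hy.symm
  obtain ⟨T, hT⟩ : ∃ T : Scheme.{u}, T = pullback (FBase.bcπ f K) (FBase.bcπ f L) := ⟨_, rfl⟩
  subst hT
  obtain ⟨a, ha⟩ : ∃ a : Spec ((pullback (FBase.bcπ f K) (FBase.bcπ f L)).residueField t) ⟶
      pullback (FBase.bcπ f K) (FBase.bcπ f L),
      a = (pullback (FBase.bcπ f K) (FBase.bcπ f L)).fromSpecResidueField t := ⟨_, rfl⟩
  obtain ⟨aK, haK⟩ : ∃ aK : Spec ((pullback (FBase.bcπ f K) (FBase.bcπ f L)).residueField t) ⟶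
      FBase.bc f K, aK = a ≫ pullback.fst _ _ := ⟨_, rfl⟩
  obtain ⟨aL, haL⟩ : ∃ aL : Spec ((pullback (FBase.bcπ f K) (FBase.bcπ f L)).residueField t) ⟶
      FBase.bc f L, aL = a ≫ pullback.snd _ _ := ⟨_, rfl⟩
  obtain ⟨φK, hφK⟩ : ∃ φK : K →+* (pullback (FBase.bcπ f K) (FBase.bcπ f L)).residueField t,
      Spec.map (CommRingCat.ofHom φK) = aK ≫ FBase.bcStr f K :=
    ⟨(Spec.preimage (aK ≫ FBase.bcStr f K)).hom, by simp⟩
  obtain ⟨φL, hφL⟩ : ∃ φL : L →+* (pullback (FBase.bcπ f K) (FBase.bcπ f L)).residueField t,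
      Spec.map (CommRingCat.ofHom φL) = aL ≫ FBase.bcStr f L :=
    ⟨(Spec.preimage (aL ≫ FBase.bcStr f L)).hom, by simp⟩
  let _ : Algebra K ((pullback (FBase.bcπ f K) (FBase.bcπ f L)).residueField t) := φK.toAlgebra
  -- the point `z` of `(X_K)_Ω`
  have hl : aK ≫ FBase.bcStr f K =
      𝟙 _ ≫ Spec.map (CommRingCat.ofHom
        (algebraMap K ((pullback (FBase.bcπ f K) (FBase.bcπ f L)).residueField t))) := by
    rw [Category.id_comp]
    exact hφK.symm
  obtain ⟨ℓ, hℓ1, hℓ2⟩ : ∃ ℓ : Spec ((pullback (FBase.bcπ f K) (FBase.bcπ f L)).residueField t) ⟶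
      FBase.bc (FBase.bcStr f K) ((pullback (FBase.bcπ f K) (FBase.bcπ f L)).residueField t),
      ℓ ≫ FBase.bcπ (FBase.bcStr f K) _ = aK ∧ ℓ ≫ FBase.bcStr (FBase.bcStr f K) _ = 𝟙 _ :=
    ⟨pullback.lift aK (𝟙 _) hl, pullback.lift_fst _ _ _, pullback.lift_snd _ _ _⟩
  let pt : Spec ((pullback (FBase.bcπ f K) (FBase.bcπ f L)).residueField t) :=
    IsLocalRing.closedPoint _
  have hapt : a pt = t := by
    rw [ha]
    exact Scheme.fromSpecResidueField_apply t pt
  have hz : (FBase.bcπ (FBase.bcStr f K) _) (ℓ pt) = x' := by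
    have : (FBase.bcπ (FBase.bcStr f K) _) (ℓ pt) = (ℓ ≫ FBase.bcπ (FBase.bcStr f K) _) pt := rfl
    rw [this, hℓ1, haK]
    change (pullback.fst (FBase.bcπ f K) (FBase.bcπ f L)) (a pt) = x'
    rw [hapt, ht1]
  have hdom : IsDomain ((FBase.bc (FBase.bcStr f K) _).presheaf.stalk (ℓ pt)) := H _ (ℓ pt) hz
  have hφK' : Spec.map (CommRingCat.ofHom
      (algebraMap K ((pullback (FBase.bcπ f K) (FBase.bcπ f L)).residueField t))) =
      aK ≫ FBase.bcStr f K := hφK
  -- the flat map to `X_L`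
  have hc : pullback.fst (FBase.bcπ f K) (FBase.bcπ f L) ≫ FBase.bcπ f K ≫ f =
      pullback.snd (FBase.bcπ f K) (FBase.bcπ f L) ≫ FBase.bcπ f L ≫ f := by
    rw [← Category.assoc, ← Category.assoc, pullback.condition]
  have hφ' : Spec.map (CommRingCat.ofHom (algebraMap K ((pullback (FBase.bcπ f K) (FBase.bcπ f L)).residueField t))) ≫ Spec.map (CommRingCat.ofHom (algebraMap k K)) =
      Spec.map (CommRingCat.ofHom φL) ≫ Spec.map (CommRingCat.ofHom (algebraMap k L)) := by
    rw [hφK', hφL]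
    have h1 : FBase.bcStr f K ≫ Spec.map (CommRingCat.ofHom (algebraMap k K)) =
        FBase.bcπ f K ≫ f := pullback.condition.symm
    have h2 : FBase.bcStr f L ≫ Spec.map (CommRingCat.ofHom (algebraMap k L)) =
        FBase.bcπ f L ≫ f := pullback.condition.symm
    rw [Category.assoc, Category.assoc, h1, h2, haK, haL, Category.assoc, Category.assoc, hc]
  have S1 : IsPullback (FBase.bcπ (FBase.bcStr f K) ((pullback (FBase.bcπ f K) (FBase.bcπ f L)).residueField t))
      (FBase.bcStr (FBase.bcStr f K) ((pullback (FBase.bcπ f K) (FBase.bcπ f L)).residueField t))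
      (FBase.bcStr f K) (Spec.map (CommRingCat.ofHom (algebraMap K ((pullback (FBase.bcπ f K) (FBase.bcπ f L)).residueField t)))) :=
    IsPullback.of_hasPullback _ _
  have S2 : IsPullback (FBase.bcπ f K) (FBase.bcStr f K) f
      (Spec.map (CommRingCat.ofHom (algebraMap k K))) := IsPullback.of_hasPullback _ _
  have S12 := S1.paste_horiz S2
  have hpb : IsPullback (FBase.bcπ f L) (FBase.bcStr f L) f
      (Spec.map (CommRingCat.ofHom (algebraMap k L))) := IsPullback.of_hasPullback _ _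
  have hw : (FBase.bcπ (FBase.bcStr f K) ((pullback (FBase.bcπ f K) (FBase.bcπ f L)).residueField t) ≫ FBase.bcπ f K) ≫ f =
      (FBase.bcStr (FBase.bcStr f K) ((pullback (FBase.bcπ f K) (FBase.bcπ f L)).residueField t) ≫
        Spec.map (CommRingCat.ofHom φL)) ≫ Spec.map (CommRingCat.ofHom (algebraMap k L)) := by
    rw [Category.assoc (FBase.bcStr (FBase.bcStr f K) _), ← hφ']
    exact S12.w
  obtain ⟨q, hq1, hq2⟩ : ∃ q : FBase.bc (FBase.bcStr f K) ((pullback (FBase.bcπ f K) (FBase.bcπ f L)).residueField t) ⟶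
      FBase.bc f L,
      q ≫ FBase.bcπ f L = FBase.bcπ (FBase.bcStr f K) ((pullback (FBase.bcπ f K) (FBase.bcπ f L)).residueField t) ≫
        FBase.bcπ f K ∧
      q ≫ FBase.bcStr f L = FBase.bcStr (FBase.bcStr f K) ((pullback (FBase.bcπ f K) (FBase.bcπ f L)).residueField t) ≫
        Spec.map (CommRingCat.ofHom φL) :=
    ⟨hpb.lift _ _ hw, hpb.lift_fst _ _ hw, hpb.lift_snd _ _ hw⟩
  have Sq : IsPullback q (FBase.bcStr (FBase.bcStr f K) ((pullback (FBase.bcπ f K) (FBase.bcπ f L)).residueField t))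
      (FBase.bcStr f L) (Spec.map (CommRingCat.ofHom φL)) := by
    refine IsPullback.of_right ?_ hq2 hpb
    rw [hq1, ← hφ']
    exact S12
  have : Flat q := MorphismProperty.of_isPullback Sq.flip inferInstance
  -- `q z = y`
  have hℓq : ℓ ≫ q = aL := by
    apply hpb.hom_ext
    · rw [Category.assoc, hq1]
      have : ℓ ≫ FBase.bcπ (FBase.bcStr f K) ((pullback (FBase.bcπ f K) (FBase.bcπ f L)).residueField t) = aK := hℓ1
      rw [← Category.assoc, this, haK, haL, Category.assoc, Category.assoc, pullback.condition]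
    · rw [Category.assoc, hq2]
      have : ℓ ≫ FBase.bcStr (FBase.bcStr f K) ((pullback (FBase.bcπ f K) (FBase.bcπ f L)).residueField t) = 𝟙 _ := hℓ2
      rw [← Category.assoc, this, Category.id_comp, hφL]
  have hqz : q (ℓ pt) = y := by
    have : q (ℓ pt) = (ℓ ≫ q) pt := rfl
    rw [this, hℓq, haL]
    change (pullback.snd (FBase.bcπ f K) (FBase.bcπ f L)) (a pt) = y
    rw [hapt, ht2]
  subst hqz
  exact (Groth.Agent.Lib.GeomFieldExt.stalkMap_injective_of_flat q (ℓ pt)).isDomain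


theorem forward {k K : Type u} [Field k] [Field K] [Algebra k K]
    {X : Scheme.{u}} (f : X ⟶ Spec (CommRingCat.of k)) (x' : ↥(FBase.bc f K))
    (H : FBase.IsGeomPtIntegralAt f ((FBase.bcπ f K) x')) :
    FBase.IsGeomPtIntegralAt (FBase.bcStr f K) x' := by
  intro L _ _ y hy
  let _ : Algebra k L := ((algebraMap K L).comp (algebraMap k K)).toAlgebra
  have S1 : IsPullback (FBase.bcπ (FBase.bcStr f K) L) (FBase.bcStr (FBase.bcStr f K) L)
      (FBase.bcStr f K) (Spec.map (CommRingCat.ofHom (algebraMap K L))) :=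
    IsPullback.of_hasPullback _ _
  have S2 : IsPullback (FBase.bcπ f K) (FBase.bcStr f K) f
      (Spec.map (CommRingCat.ofHom (algebraMap k K))) := IsPullback.of_hasPullback _ _
  have S12 := S1.paste_horiz S2
  have hcomp : Spec.map (CommRingCat.ofHom (algebraMap K L)) ≫
      Spec.map (CommRingCat.ofHom (algebraMap k K)) =
      Spec.map (CommRingCat.ofHom (algebraMap k L)) := by
    rw [← Spec.map_comp, ← CommRingCat.ofHom_comp]
  rw [hcomp] at S12
  have hpb : IsPullback (FBase.bcπ f L) (FBase.bcStr f L) f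
      (Spec.map (CommRingCat.ofHom (algebraMap k L))) := IsPullback.of_hasPullback _ _
  obtain ⟨e, he⟩ : ∃ e : FBase.bc f L ≅ FBase.bc (FBase.bcStr f K) L,
      e.inv ≫ FBase.bcπ f L = FBase.bcπ (FBase.bcStr f K) L ≫ FBase.bcπ f K :=
    ⟨hpb.isoIsPullback _ _ S12, hpb.isoIsPullback_inv_fst _ _ S12⟩
  obtain ⟨y', rfl⟩ : ∃ y', y = e.hom y' := by
    refine ⟨e.inv y, ?_⟩
    have : e.hom (e.inv y) = (e.inv ≫ e.hom) y := rfl
    rw [this, e.inv_hom_id]
    rfl
  have hy' : (FBase.bcπ f L) y' = (FBase.bcπ f K) x' := by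
    have h1 : (FBase.bcπ f L) y' = (e.hom ≫ e.inv ≫ FBase.bcπ f L) y' := by
      rw [e.hom_inv_id_assoc]
    rw [h1, he, ← hy]
    rfl
  have hdom : IsDomain ((FBase.bc f L).presheaf.stalk y') := H L y' hy'
  exact (Groth.Agent.Lib.GeomFieldExt.stalkMap_injective_of_flat e.hom y').isDomain



/-- Let X be a scheme over a field k, k' an extension field of k, and x' a point of X' = X ⊗_k k' lying
over the point x of X. Then X is geometrically pointwise integral at x over k if and only if X' is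
geometrically pointwise integral at x' over k'. -/
theorem result {k K : Type u} [Field k] [Field K] [Algebra k K]
    {X : Scheme.{u}} (f : X ⟶ Spec (CommRingCat.of k)) (x' : ↥(FBase.bc f K)) :
    FBase.IsGeomPtIntegralAt f ((FBase.bcπ f K) x') ↔ FBase.IsGeomPtIntegralAt (FBase.bcStr f K) x' :=
  ⟨forward f x', backward f x'⟩


end Groth.Agent.S4630
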