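-- Statement S4631.
import Groth.Statements.S4631
import Groth.Agent.Lib.H30GeomNormalPt
import Groth.Agent.Lib.AlgClosedTensor2
import Mathlib

set_option autoImplicit false
open CategoryTheory AlgebraicGeometry
universe u
open FBase

namespace Groth.Agent.S4631

section Helpers
open TensorProduct
open Groth.Agent.Lib.H71GeomRedAt Groth.Agent.Lib.H30GeomNormalPt
attribute [local instance] Curv2.stalkAlgebra

/-- If `k' ⊗ O_{X,x}` is a domain then so are the local rings of `X_{k'}` over `x`. -/
theorem domain_of_tensor (k : Type u) [Field k] (X : Scheme.{u}) [X.Over (Spec (CommRingCat.of k))] (x : ↥X)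
    (k' : Type u) [Field k'] [Algebra k k']
    (h3 : IsDomain (↥(X.presheaf.stalk x) ⊗[k] k'))
    (x' : ↥(Curv2.bc k X k')) (hx' : Curv2.bcFst k X k' x' = x) :
    IsDomain ↥((Curv2.bc k X k').presheaf.stalk x') := by
  obtain ⟨w, hw1, hw2⟩ := Scheme.Pullback.exists_preimage_pullback
    (f := X.fromSpecStalk x) (g := Curv2.bcFst k X k')
    (IsLocalRing.closedPoint (X.presheaf.stalk x)) x'
    (by rw [Scheme.fromSpecStalk_closedPoint, hx'])
  subst hw2
  let p : PrimeSpectrum (X.presheaf.stalk x ⊗[k] k') := (isoSpecTensor k X x k').hom w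
  haveI := p.isPrime
  obtain ⟨eq⟩ := nonempty_stalk_equiv k X x k' w p.asIdeal rfl
  haveI : IsDomain (Localization.AtPrime p.asIdeal) :=
    IsLocalization.isDomain_localization p.asIdeal.primeCompl_le_nonZeroDivisors
  exact eq.toMulEquiv.isDomain _

theorem main (k : Type u) [Field k] [IsAlgClosed k] (X : Scheme.{u}) [X.Over (Spec (CommRingCat.of k))]
    (x : X) (hd : IsDomain ↑(X.presheaf.stalk x)) (K : Type u) [Field K] [Algebra k K]
    (x' : ↥(Curv2.bc k X K)) (hx' : Curv2.bcFst k X K x' = x) :
    IsDomain ↥((Curv2.bc k X K).presheaf.stalk x') := by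
  have h3 : IsDomain (↥(X.presheaf.stalk x) ⊗[k] K) :=
    Groth.Agent.Lib.AlgClosedTensor2.isDomain_tensorProduct
  exact domain_of_tensor k X x K h3 x' hx'

theorem converse (k : Type u) [Field k] (X : Scheme.{u}) [X.Over (Spec (CommRingCat.of k))]
    (x : X) (h : ∀ (x' : ↥(Curv2.bc k X k)), Curv2.bcFst k X k x' = x →
      IsDomain ↥((Curv2.bc k X k).presheaf.stalk x')) : IsDomain ↑(X.presheaf.stalk x) := by
  haveI : IsIso (Spec.map (CommRingCat.ofHom (algebraMap k k))) := by
    have : algebraMap k k = RingHom.id k := rfl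
    rw [this]
    change IsIso (Spec.map (𝟙 _))
    rw [Spec.map_id]
    infer_instance
  haveI : IsIso (Curv2.bcFst k X k) := inferInstance
  let x' : ↥(Curv2.bc k X k) := (inv (Curv2.bcFst k X k)) x
  have hx' : Curv2.bcFst k X k x' = x := by
    rw [← Scheme.Hom.comp_apply, IsIso.inv_hom_id]
    rfl
  have hD := h x' hx'
  have hiso : IsIso ((Curv2.bcFst k X k).stalkMap x') := inferInstance
  have e : (X.presheaf.stalk (Curv2.bcFst k X k x')) ≃+* ((Curv2.bc k X k).presheaf.stalk x') :=
    (asIso ((Curv2.bcFst k X k).stalkMap x')).commRingCatIsoToRingEquiv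
  have hD' : IsDomain (X.presheaf.stalk (Curv2.bcFst k X k x')) := e.toMulEquiv.isDomain _
  rw [hx'] at hD'
  exact hD'

end Helpers

/-- Let X be a scheme over an algebraically closed field k and x a point of X. Then X is geometrically
pointwise integral at x over k if and only if the local ring of X at x is a domain. -/
theorem result {k : Type u} [Field k] [IsAlgClosed k] {X : Scheme.{u}}
    (f : X ⟶ Spec (CommRingCat.of k)) (x : X) :
    FBase.IsGeomPtIntegralAt f x ↔ IsDomain ↑(X.presheaf.stalk x) := by
  letI : X.Over (Spec (CommRingCat.of k)) := ⟨f⟩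
  constructor
  · intro h
    exact converse k X x (fun x' hx' => h k x' hx')
  · intro hd K _ _ x' hx'
    exact main k X x hd K x' hx'

end Groth.Agent.S4631
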