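import Groth.Statements.S4940
import Groth.Agent.Lib.H80GUCover4
import Groth.Agent.S4934
import Groth.Agent.S4942

set_option autoImplicit false
open CategoryTheory AlgebraicGeometry
universe u v w
open EGA43

namespace Groth.Agent.S4940

open CategoryTheory.Limits in
/-- Let Y be a Noetherian scheme, f : X ⟶ Y a morphism locally of finite type, y a point of Y and x a
maximal point of the fibre X_y. Then f is universally open at x if and only if, for every finite
morphism g : Y' ⟶ Y, the base change X ×_Y Y' ⟶ Y' is open at every point of X ×_Y Y' lying over x. -/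
theorem result {X Y : Scheme.{u}} [IsNoetherian Y] (f : X ⟶ Y)
    [LocallyOfFiniteType f] (x : X) (hmax : ∀ x' : X, f.base x' = f.base x → x ∈ closure {x'} → x' = x) :
    EGA43.IsUnivOpenAt f x ↔
      ∀ (Y' : Scheme.{u}) (g : Y' ⟶ Y) [IsFinite g], ∀ x' : ↥(pullback f g), (pullback.fst f g).base x' = x →
        EGA43.IsOpenAt (pullback.snd f g).base x' := by
  constructor
  · intro h Y' g _ x' hx'
    exact h Y' g x' hx'
  · intro H
    obtain ⟨Y', g, hgfin, hgsurj, hGU⟩ :=
      Groth.Agent.Lib.H80GUCover.exists_finite_surjective_isGeomUnibranch Y (f.base x)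
    refine Groth.Agent.S4942.result g f x ?_
    intro x₁ hx₁
    have hlft : LocallyOfFiniteType g := inferInstance
    have hYN : IsLocallyNoetherian Y' := LocallyOfFiniteType.isLocallyNoetherian g
    have hf'lft : LocallyOfFiniteType (pullback.snd f g) :=
      MorphismProperty.pullback_snd (P := @LocallyOfFiniteType) f g inferInstance
    have hfstfin : IsFinite (pullback.fst f g) :=
      MorphismProperty.pullback_fst (P := @IsFinite) f g hgfin
    have hcond : g.base ((pullback.snd f g).base x₁) = f.base x := by
      rw [← hx₁, ← Scheme.Hom.comp_apply, ← Scheme.Hom.comp_apply, pullback.condition]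
    have hmax' : ∀ x'' : ↥(pullback f g), (pullback.snd f g).base x'' = (pullback.snd f g).base x₁ →
        x₁ ∈ closure {x''} → x'' = x₁ := by
      intro x'' he hcl
      have hsp : x'' ⤳ x₁ := specializes_iff_mem_closure.mpr hcl
      have hsp' : (pullback.fst f g).base x'' ⤳ x := by
        rw [← hx₁]
        exact hsp.map (pullback.fst f g).continuous
      have hfx : f.base ((pullback.fst f g).base x'') = f.base x := by
        rw [← hcond, ← he, ← Scheme.Hom.comp_apply, ← Scheme.Hom.comp_apply, pullback.condition]
      have hx'' : (pullback.fst f g).base x'' = x :=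
        hmax _ hfx (specializes_iff_mem_closure.mp hsp')
      have hd := (pullback.fst f g).isDiscrete_preimage_singleton ((pullback.fst f g).base x₁)
      have : DiscreteTopology ↥((pullback.fst f g) ⁻¹' {(pullback.fst f g).base x₁}) := hd.to_subtype
      let a : ↥((pullback.fst f g) ⁻¹' {(pullback.fst f g).base x₁}) := ⟨x₁, rfl⟩
      let b : ↥((pullback.fst f g) ⁻¹' {(pullback.fst f g).base x₁}) := ⟨x'', hx''.trans hx₁.symm⟩
      have hs : b ⤳ a := (subtype_specializes_iff b a).2 hsp
      exact congrArg Subtype.val hs.eq
    have hGU' : CAlg2.IsGeomUnibranch (Y'.presheaf.stalk ((pullback.snd f g).base x₁)) :=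
      hGU _ hcond
    have tfae := Groth.Agent.S4934.result (pullback.snd f g) x₁ hmax' hGU'
    exact (tfae.out 3 0).mp (H Y' g x₁ hx₁)

end Groth.Agent.S4940
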