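import Groth.Statements.S2557
import Groth.Agent.S4940
import Groth.Agent.Lib.H80UnivOpenSpecialize
import Groth.Agent.Lib.H80DvrUnivOpen2
import Groth.Agent.Lib.H56OpenComp
import Groth.Agent.Lib.UnivOpenAt

set_option autoImplicit false
open CategoryTheory AlgebraicGeometry
universe u
open EGA43

namespace Groth.Agent.S2557

open CategoryTheory.Limits in
/-- Let Y be a Noetherian scheme and f : X ⟶ Y locally of finite type. Then f is universally open if and
only if, for every finite morphism Y₁ ⟶ Y, the base change X ×_Y Y₁ ⟶ Y₁ is an open map. -/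
theorem result {X Y : Scheme.{u}} [IsNoetherian Y] (f : X ⟶ Y)
    [LocallyOfFiniteType f] :
    UniversallyOpen f ↔
      ∀ (Y₁ : Scheme.{u}) (g : Y₁ ⟶ Y) [IsFinite g], IsOpenMap (pullback.snd f g).base := by
  constructor
  · intro hf Y₁ g _
    have : UniversallyOpen (pullback.snd f g) := inferInstance
    exact (pullback.snd f g).isOpenMap
  · intro H
    rw [Groth.Agent.Lib.H80DvrUnivOpen.universallyOpen_iff_forall_isUnivOpenAt]
    intro x
    have hlfp : LocallyOfFinitePresentation f :=
      LocallyOfFinitePresentation.iff_locallyOfFiniteType.mpr inferInstance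
    obtain ⟨ζ, hζ1, hζ2⟩ :=
      Groth.Agent.Lib.H56OpenDim.exists_maximal_generization (f.asFiber x)
    obtain ⟨ξ, hξdef⟩ : ∃ ξ : X, ξ = f.fiberι (f x) ζ := ⟨_, rfl⟩
    have hfξ : f ξ = f x := by
      have : f.fiberι (f x) ζ ∈ f ⁻¹' {f x} := by
        rw [← Scheme.Hom.range_fiberι]; exact ⟨ζ, rfl⟩
      rw [hξdef]; exact this
    have hsp : ξ ⤳ x := by
      have := hζ1.map (f.fiberι (f x)).continuous
      rwa [Scheme.Hom.fiberι_asFiber, ← hξdef] at this
    have hmax : ∀ x' : X, f.base x' = f.base ξ → ξ ∈ closure {x'} → x' = ξ := by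
      intro x' he hcl
      have hx' : x' ∈ f ⁻¹' {f x} := he.trans hfξ
      rw [← Scheme.Hom.range_fiberι] at hx'
      obtain ⟨ζ', hζ'⟩ := hx'
      have hsp' : ζ' ⤳ ζ := by
        rw [← (f.fiberι (f x)).isEmbedding.isInducing.specializes_iff, hζ', ← hξdef]
        exact specializes_iff_mem_closure.mpr hcl
      rw [← hζ', hζ2 ζ' hsp', hξdef]
    have hU : EGA43.IsUnivOpenAt f ξ :=
      (Groth.Agent.S4940.result f ξ hmax).mpr (fun Y' g _ x' _ =>
        Groth.Agent.Lib.UnivOpenAt.isOpenAt_of_isOpenMap (H Y' g) x')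
    exact Groth.Agent.Lib.H80UnivOpenSpecialize.isUnivOpenAt_of_specializes f ξ x hsp hfξ hU

end Groth.Agent.S2557
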