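import Groth.Statements.S2559
import Mathlib
import Groth.Agent.Lib.H56OpenDimSch

set_option autoImplicit false
open CategoryTheory AlgebraicGeometry
universe u
open EGA43

namespace Groth.Agent.S2559

/-- Let f : X ⟶ Y be a morphism of locally Noetherian schemes, x a point of X and y = f x. Suppose f is
open at the generic point of every irreducible component of the fibre over y passing through x. Then
dim O_{X,x} = dim O_{Y,y} + dim O_{X_y,x}. -/
theorem result {X Y : Scheme.{u}} [IsLocallyNoetherian X] [IsLocallyNoetherian Y]
    (f : X ⟶ Y) (x : X)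
    (h : ∀ z : ↥(f.fiber (f.base x)), f.asFiber x ∈ closure {z} →
      (∀ z' : ↥(f.fiber (f.base x)), z ∈ closure {z'} → z' = z) →
      EGA43.IsOpenAt f.base ((f.fiberι (f.base x)).base z)) :
    ringKrullDim (X.presheaf.stalk x) =
      ringKrullDim (Y.presheaf.stalk (f.base x)) +
        ringKrullDim ((f.fiber (f.base x)).presheaf.stalk (f.asFiber x)) := by
  apply Groth.Agent.Lib.H56OpenDim.ringKrullDim_stalk_eq_add_of_isOpenAt f x
  intro z hzx hfz h0
  have hzr : z ∈ Set.range (f.fiberι (f.base x)) := by
    rw [Scheme.Hom.range_fiberι]; exact hfz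
  obtain ⟨z₀, rfl⟩ := hzr
  have hmem : ∀ w : ↥(f.fiber (f.base x)), f.base ((f.fiberι (f.base x)).base w) = f.base x := by
    intro w
    have : (f.fiberι (f.base x)).base w ∈ Set.range (f.fiberι (f.base x)) := Set.mem_range_self w
    rw [Scheme.Hom.range_fiberι] at this
    exact this
  apply h z₀
  · rw [← specializes_iff_mem_closure,
      ← (f.fiberι (f.base x)).isEmbedding.isInducing.specializes_iff, f.fiberι_asFiber]
    exact hzx
  · intro z' hz'
    rw [← specializes_iff_mem_closure,
      ← (f.fiberι (f.base x)).isEmbedding.isInducing.specializes_iff] at hz'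
    have := Groth.Agent.Lib.H56OpenDim.eq_of_specializes_of_fibre_stalk_dim_zero f _ h0
      ((f.fiberι (f.base x)).base z') hz' ((hmem z').trans (hmem z₀).symm)
    exact (f.fiberι (f.base x)).isEmbedding.injective this

end Groth.Agent.S2559
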