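import Groth.Statements.S2563
import Mathlib.LinearAlgebra.TensorProduct.Quotient
import Mathlib.LinearAlgebra.TensorProduct.Tower
import Mathlib.Algebra.Module.Projective
import Mathlib.RingTheory.Ideal.Maps
import Mathlib.RingTheory.Ideal.Quotient.Operations
import Mathlib.LinearAlgebra.Basis.Basic

set_option autoImplicit false
open TensorProduct
universe u
open EGA43

namespace Groth.Agent.S2563

theorem eq_top_of_sup_smul_top {R N : Type*} [CommRing R] [AddCommGroup N] [Module R N]
    (I : Ideal R) (hI : IsNilpotent I) (S : Submodule R N)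
    (h : S ⊔ I • (⊤ : Submodule R N) = ⊤) : S = ⊤ := by
  obtain ⟨n, hn⟩ := hI
  have key : ∀ k : ℕ, S ⊔ (I ^ k) • (⊤ : Submodule R N) = ⊤ := by
    intro k
    induction k with
    | zero => simp [Ideal.one_eq_top]
    | succ k ih =>
      rw [eq_top_iff]
      calc (⊤ : Submodule R N) = S ⊔ I • (⊤ : Submodule R N) := h.symm
        _ = S ⊔ I • (S ⊔ (I ^ k) • (⊤ : Submodule R N)) := by rw [ih]
        _ = S ⊔ (I • S ⊔ I • (I ^ k) • (⊤ : Submodule R N)) := by rw [Submodule.smul_sup]
        _ ≤ S ⊔ (I ^ (k + 1)) • (⊤ : Submodule R N) := by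
            rw [← Submodule.mul_smul, ← pow_succ']
            exact sup_le le_sup_left
              (sup_le (le_sup_of_le_left Submodule.smul_le_right) le_sup_right)
  have := key n
  rw [hn] at this
  simpa using this

theorem linearIndependent_of_nilpotent {R N κ : Type*} [CommRing R] [AddCommGroup N] [Module R N]
    [Module.Projective R N] (I : Ideal R) (hI : IsNilpotent I) (n : κ → N)
    (hspan : Submodule.span R (Set.range n) = ⊤)
    (hker : ∀ c : κ →₀ R, Finsupp.linearCombination R n c = 0 → ∀ k, c k ∈ I) :
    LinearIndependent R n := by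
  classical
  rw [linearIndependent_iff]
  intro c hc
  set ψ := Finsupp.linearCombination R n with hψ
  have hsurj : Function.Surjective ψ := by
    rw [← LinearMap.range_eq_top, hψ, Finsupp.range_linearCombination]; exact hspan
  obtain ⟨s, hs⟩ := Module.projective_lifting_property ψ LinearMap.id hsurj
  obtain ⟨d, hd⟩ := hI
  let T : (κ →₀ R) →ₗ[R] (κ →₀ R) := LinearMap.id - s ∘ₗ ψ
  have hT : ∀ c, ψ (T c) = 0 := by
    intro c
    have : ψ (s (ψ c)) = ψ c := by
      have := LinearMap.congr_fun hs (ψ c)
      simpa using this
    simp [T, this]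
  have key : ∀ j : ℕ, ∀ c : κ →₀ R, ψ c = 0 → ∀ k, c k ∈ I ^ j := by
    intro j
    induction j with
    | zero => intro c _ k; simp [Ideal.one_eq_top]
    | succ j ih =>
      intro c hc k
      have h0 : T c = c := by simp [T, hc]
      have h1 : c = c.sum (fun k' a => a • T (Finsupp.single k' 1)) := by
        conv_lhs => rw [← h0, ← Finsupp.sum_single c]
        rw [map_finsuppSum]
        refine Finsupp.sum_congr (fun k' _ => ?_)
        rw [← map_smul, Finsupp.smul_single_one]
      rw [h1, Finsupp.sum, Finsupp.finsetSum_apply]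
      refine Submodule.sum_mem _ (fun k' _ => ?_)
      rw [Finsupp.smul_apply, smul_eq_mul, pow_succ']
      exact Ideal.mul_mem_mul (hker c hc k') (ih _ (hT _) k)
  ext k
  have := key d c hc k
  rw [hd] at this
  simpa using this

/-- Let A be a commutative ring, J a nilpotent ideal of A, and (B_i) a family of commutative A-algebras
such that an element of A vanishing in every B_i is zero. Let M be an A-module such that each B_i
⊗_A M is a free B_i-module and (A/J) ⊗_A M is a free (A/J)-module. Then M is a free A-module. -/
theorem result {A : Type u} [CommRing A] (J : Ideal A) (hJ : IsNilpotent J)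
    {ι : Type u} (B : ι → Type u) [∀ i, CommRing (B i)] [∀ i, Algebra A (B i)]
    (hB : ∀ a : A, (∀ i, algebraMap A (B i) a = 0) → a = 0)
    (M : Type u) [AddCommGroup M] [Module A M]
    (hfree : ∀ i, Module.Free (B i) (B i ⊗[A] M)) (hfreeJ : Module.Free (A ⧸ J) ((A ⧸ J) ⊗[A] M)) :
    Module.Free A M := by
  classical
  obtain ⟨⟨κ, b⟩⟩ := hfreeJ
  have hmk : Function.Surjective (TensorProduct.mk A (A ⧸ J) M 1) := by
    intro z
    induction z using TensorProduct.induction_on with
    | zero => exact ⟨0, by simp⟩
    | tmul q x =>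
      obtain ⟨a, rfl⟩ := Ideal.Quotient.mk_surjective q
      refine ⟨a • x, ?_⟩
      rw [TensorProduct.mk_apply, TensorProduct.tmul_smul, TensorProduct.smul_tmul',
        ← Algebra.algebraMap_eq_smul_one]
      rfl
    | add z w hz hw =>
      obtain ⟨x, rfl⟩ := hz
      obtain ⟨y, rfl⟩ := hw
      exact ⟨x + y, map_add _ _ _⟩
  choose m hm using fun k => hmk (b k)
  have hspan : Submodule.span A (Set.range m) = ⊤ := by
    apply eq_top_of_sup_smul_top J hJ
    rw [eq_top_iff]
    intro x _
    have h1 : (TensorProduct.mk A (A ⧸ J) M 1) x ∈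
        Submodule.span A (Set.range fun k => (TensorProduct.mk A (A ⧸ J) M 1) (m k)) := by
      have : (fun k => (TensorProduct.mk A (A ⧸ J) M 1) (m k)) = b := funext hm
      rw [this, ← Submodule.restrictScalars_span A (A ⧸ J) Ideal.Quotient.mk_surjective,
        b.span_eq]
      trivial
    rw [show (fun k => (TensorProduct.mk A (A ⧸ J) M 1) (m k)) =
      (TensorProduct.mk A (A ⧸ J) M 1) ∘ m from rfl, Set.range_comp, ← Submodule.map_span] at h1
    obtain ⟨y, hy, hxy⟩ := h1
    have h2 : x - y ∈ J • (⊤ : Submodule A M) := by
      have h3 : (TensorProduct.mk A (A ⧸ J) M 1) (x - y) = 0 := by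
        rw [map_sub, hxy, sub_self]
      have h4 := congrArg (TensorProduct.quotTensorEquivQuotSMul M J) h3
      rw [TensorProduct.mk_apply, TensorProduct.quotTensorEquivQuotSMul_mk_one_tmul, map_zero] at h4
      exact (Submodule.Quotient.mk_eq_zero _).mp h4
    have : x = y + (x - y) := by abel
    rw [this]
    exact Submodule.add_mem_sup hy h2
  have hli : LinearIndependent A m := by
    rw [linearIndependent_iff]
    intro c hc
    ext k
    apply hB
    intro i
    set I' : Ideal (B i) := J.map (algebraMap A (B i)) with hI'
    have hI'nil : IsNilpotent I' := by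
      obtain ⟨d, hd⟩ := hJ
      refine ⟨d, ?_⟩
      rw [hI', ← Ideal.map_pow, hd]
      exact Ideal.map_bot
    let n : κ → (B i) ⊗[A] M := fun k => (1 : B i) ⊗ₜ[A] m k
    have hspan' : Submodule.span (B i) (Set.range n) = ⊤ := by
      have := Submodule.baseChange_span (R := A) (M := M) (B i) (Set.range m)
      rw [hspan, Submodule.baseChange_top, ← Set.range_comp] at this
      exact this.symm
    have hle : (J : Submodule A A) ≤ LinearMap.ker (Algebra.linearMap A (B i ⧸ I')) := by
      intro a ha
      rw [LinearMap.mem_ker, Algebra.linearMap_apply, IsScalarTower.algebraMap_apply A (B i) (B i ⧸ I')]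
      exact Ideal.Quotient.eq_zero_iff_mem.mpr (Ideal.mem_map_of_mem _ ha)
    let ρ : κ → (M →ₗ[A] (B i ⧸ I')) := fun k =>
      (Submodule.liftQ (J : Submodule A A) (Algebra.linearMap A (B i ⧸ I')) hle) ∘ₗ
        ((b.coord k).restrictScalars A) ∘ₗ (TensorProduct.mk A (A ⧸ J) M 1)
    have hρ : ∀ k k', ρ k (m k') = if k' = k then 1 else 0 := by
      intro k k'
      simp only [ρ, LinearMap.comp_apply, LinearMap.restrictScalars_apply, hm, Module.Basis.coord_apply,
        Module.Basis.repr_self, Finsupp.single_apply]
      split_ifs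
      · exact map_one (algebraMap A (B i ⧸ I'))
      · exact map_zero _
    have hker' : ∀ c : κ →₀ (B i), Finsupp.linearCombination (B i) n c = 0 → ∀ k, c k ∈ I' := by
      intro c hc k
      have h1 := congrArg (LinearMap.liftBaseChange (B i) (ρ k)) hc
      rw [map_zero, Finsupp.apply_linearCombination, Finsupp.linearCombination_apply,
        Finsupp.sum] at h1
      have h2 : ∀ k' ∈ c.support, c k' • ((LinearMap.liftBaseChange (B i) (ρ k)) ∘ n) k' =
          if k' = k then Ideal.Quotient.mk I' (c k) else 0 := by
        intro k' _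
        simp only [Function.comp_apply, n, LinearMap.liftBaseChange_tmul, one_smul, hρ]
        split_ifs with h
        · subst h
          rw [Algebra.smul_def, mul_one]
          rfl
        · exact smul_zero _
      rw [Finset.sum_congr rfl h2, Finset.sum_ite_eq'] at h1
      by_cases hk : k ∈ c.support
      · rw [if_pos hk] at h1
        exact Ideal.Quotient.eq_zero_iff_mem.mp h1
      · rw [Finsupp.notMem_support_iff.mp hk]
        exact zero_mem _
    have hi : LinearIndependent (B i) n :=
      linearIndependent_of_nilpotent I' hI'nil n hspan' hker'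
    have h3 : Finsupp.linearCombination (B i) n
        (c.mapRange (algebraMap A (B i)) (map_zero _)) = 0 := by
      have h4 := congrArg (TensorProduct.mk A (B i) M 1) hc
      rw [map_zero, Finsupp.apply_linearCombination] at h4
      rw [← h4, Finsupp.linearCombination_apply, Finsupp.linearCombination_apply,
        Finsupp.sum_mapRange_index (h := fun k' (a : B i) => a • n k') (fun _ => zero_smul _ _)]
      refine Finsupp.sum_congr (fun k' _ => ?_)
      rw [algebraMap_smul]
      rfl
    have h5 := linearIndependent_iff.mp hi _ h3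
    have h6 := DFunLike.congr_fun h5 k
    simpa using h6
  exact Module.Free.of_basis (Module.Basis.mk hli hspan.ge)

end Groth.Agent.S2563
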