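-- Statement S2569.
import Groth.Statements.S2569
import Groth.Agent.Lib.H30PropDvr2
import Groth.Agent.Lib.H30PropNbhd
import Groth.Agent.Lib.H71CompGeomConn
import Groth.Agent.Lib.LocProper85d
import Mathlib

set_option autoImplicit false
open CategoryTheory AlgebraicGeometry
universe u
open EGA43

namespace Groth.Agent.S2569

open CategoryTheory.Limits TopologicalSpace IsLocalRing
open Groth.Agent.Lib.LocProper85 Groth.Agent.Lib.H30PropDvr

theorem main {X Y : Scheme.{u}} [IsLocallyNoetherian Y] (f : X ⟶ Y)
    [IsSeparated f] [LocallyOfFiniteType f] [QuasiCompact f]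
    (hsub : MorphismProperty.universally (topologically fun g => Topology.IsQuotientMap g) f)
    (hconn : ∀ y : Y, GeometricallyConnected (f.fiberToSpecResidueField y))
    (y : Y) (hy : IsProper (f.fiberToSpecResidueField y)) :
    ∃ U : Y.Opens, y ∈ U ∧ IsProper (f ∣_ U) := by
  apply exists_isProper_restrict f y
  intro κ _ t A hA g hg hcomm
  haveI : IsDiscreteValuationRing A := hA
  obtain ⟨sA, hsA⟩ : ∃ sA : ↥(Spec (CommRingCat.of A)), sA = closedPoint A := ⟨_, rfl⟩
  let ηA : ↥(Spec (CommRingCat.of A)) := (⟨⊥, Ideal.isPrime_bot⟩ : PrimeSpectrum A)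
  have hηA : ∀ y : ↥(Spec (CommRingCat.of A)), ηA ⤳ y := fun y =>
    (PrimeSpectrum.le_iff_specializes (R := A) ηA y).mp (bot_le : (⊥ : Ideal A) ≤ y.asIdeal)
  have hgs : g sA = y := by rw [hsA]; exact hg
  subst hgs
  -- points of `Spec A`
  have hpts : ∀ z : ↥(Spec (CommRingCat.of A)), z = sA ∨ z = ηA := by
    intro z
    by_cases hz : z = sA
    · exact Or.inl hz
    · right
      have hz' : (z : PrimeSpectrum A) ≠ closedPoint A := by rw [← hsA]; exact hz
      exact PrimeSpectrum.ext
        (Groth.Agent.Lib.H80DvrUnivOpen.asIdeal_eq_bot_of_ne_closedPoint (A := A) z hz')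
  have hne_sη : sA ≠ ηA := by
    intro h
    have h1 : (closedPoint A).asIdeal = ⊥ := by
      rw [← hsA, h]
    exact IsDiscreteValuationRing.not_a_field A h1
  -- the base change
  have hPB := IsPullback.of_hasPullback f g
  have hquot : Topology.IsQuotientMap (pullback.snd f g) :=
    hsub (pullback.fst f g) g (pullback.snd f g) hPB.flip
  have hPBs := isPullback_fiberToSpecResidueField_of_isPullback hPB sA
  have hPBη := isPullback_fiberToSpecResidueField_of_isPullback hPB ηA
  have hs0 : IsProper ((pullback.snd f g).fiberToSpecResidueField sA) :=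
    MorphismProperty.of_isPullback (P := @IsProper) hPBs hy
  have hconn0 : GeometricallyConnected ((pullback.snd f g).fiberToSpecResidueField ηA) :=
    MorphismProperty.of_isPullback (P := @GeometricallyConnected) hPBη (hconn (g ηA))
  -- `X'` is Noetherian
  haveI : IsLocallyNoetherian (pullback f g) :=
    LocallyOfFiniteType.isLocallyNoetherian (pullback.snd f g)
  haveI : CompactSpace ↥(pullback f g) :=
    QuasiCompact.compactSpace_of_compactSpace (pullback.snd f g)
  haveI : IsNoetherian (pullback f g) := { }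
  have hfin : (irreducibleComponents ↥(pullback f g)).Finite :=
    NoetherianSpace.finite_irreducibleComponents
  haveI : Finite ↥(irreducibleComponents ↥(pullback f g)) := hfin.to_subtype
  have hZcl : ∀ Z : ↥(irreducibleComponents ↥(pullback f g)), IsClosed Z.1 := fun Z =>
    isClosed_of_mem_irreducibleComponents Z.1 Z.2
  -- generic points of components
  have hgenpt : ∀ Z : ↥(irreducibleComponents ↥(pullback f g)),
      ∃ ξ : ↥(pullback f g), IsGenericPoint ξ Z.1 := fun Z =>
    ⟨Z.2.1.genericPoint, Z.2.1.isGenericPoint_genericPoint (hZcl Z)⟩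
  choose gp hgp using hgenpt
  have hgp_mem : ∀ Z, gp Z ∈ Z.1 := fun Z => by
    have : gp Z ∈ closure ({gp Z} : Set ↥(pullback f g)) := subset_closure rfl
    rw [(hgp Z).def] at this
    exact this
  have hgp_sp : ∀ Z, ∀ x ∈ Z.1, gp Z ⤳ x := fun Z x hx => by
    rw [specializes_iff_mem_closure, (hgp Z).def]; exact hx
  let C : Set ↥(pullback f g) :=
    ⋃ Z ∈ {Z : ↥(irreducibleComponents ↥(pullback f g)) | (pullback.snd f g) (gp Z) = ηA}, Z.1
  have hCcl : IsClosed C := Set.Finite.isClosed_biUnion (Set.toFinite _) fun Z _ => hZcl Z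
  -- (a) the generic fibre lies in `C`
  have hgenC : (pullback.snd f g) ⁻¹' {ηA} ⊆ C := by
    intro x hx
    obtain ⟨Z, hZ, hxZ⟩ := exists_mem_irreducibleComponents_subset_of_isIrreducible {x}
      isIrreducible_singleton
    have hsp := hgp_sp ⟨Z, hZ⟩ x (hxZ rfl)
    have h1 : (pullback.snd f g) (gp ⟨Z, hZ⟩) ⤳ (pullback.snd f g) x :=
      hsp.map (pullback.snd f g).continuous
    have hx' : (pullback.snd f g) x = ηA := hx
    rw [hx'] at h1
    have h2 : (pullback.snd f g) (gp ⟨Z, hZ⟩) = ηA := (h1.antisymm (hηA _)).eq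
    exact Set.mem_biUnion (show (⟨Z, hZ⟩ : ↥(irreducibleComponents ↥(pullback f g))) ∈ _ from h2)
      (hxZ rfl)
  -- the closed subscheme
  let Cc : Closeds ↥(pullback f g) := ⟨C, hCcl⟩
  let W : Scheme.{u} := (Scheme.IdealSheafData.vanishingIdeal Cc).subscheme
  let ι : W ⟶ pullback f g := (Scheme.IdealSheafData.vanishingIdeal Cc).subschemeι
  have hrange : Set.range ι = C := by
    change Set.range (Scheme.IdealSheafData.vanishingIdeal Cc).subschemeι = _
    rw [Scheme.IdealSheafData.range_subschemeι, Scheme.IdealSheafData.coe_support_vanishingIdeal]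
    rfl
  haveI : IsClosedImmersion ι := inferInstanceAs
    (IsClosedImmersion (Scheme.IdealSheafData.vanishingIdeal Cc).subschemeι)
  -- (b) maximal points of `W` lie over `ηA`
  have hdom : ∀ ξ : W, (∀ ξ' : W, ξ' ⤳ ξ → ξ' = ξ) → (ι ≫ pullback.snd f g) ξ = ηA := by
    intro w hw
    have hwC : ι w ∈ C := by rw [← hrange]; exact ⟨w, rfl⟩
    obtain ⟨Z, hZS, hwZ⟩ := Set.mem_iUnion₂.mp hwC
    have hξC : gp Z ∈ C := Set.mem_biUnion hZS (hgp_mem Z)
    rw [← hrange] at hξC
    obtain ⟨w', hw'⟩ := hξC
    have hsp : ι w' ⤳ ι w := by rw [hw']; exact hgp_sp Z _ hwZ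
    have hsp' : w' ⤳ w := (ι.isEmbedding.isInducing.specializes_iff).mp hsp
    have hww := hw w' hsp'
    have : (ι ≫ pullback.snd f g) w = (pullback.snd f g) (ι w) := Scheme.Hom.comp_apply _ _ _
    rw [this, ← hww, hw']
    exact hZS
  -- (c) the closed fibre of `W` is nonempty
  have hne : ((ι ≫ pullback.snd f g) ⁻¹' {sA}).Nonempty := by
    by_contra hempty
    rw [Set.not_nonempty_iff_eq_empty] at hempty
    have hCeq : C = (pullback.snd f g) ⁻¹' {ηA} := by
      apply Set.Subset.antisymm _ hgenC
      intro x hx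
      rcases hpts ((pullback.snd f g) x) with h | h
      · exfalso
        rw [← hrange] at hx
        obtain ⟨w, rfl⟩ := hx
        have : w ∈ (ι ≫ pullback.snd f g) ⁻¹' {sA} := by
          change (ι ≫ pullback.snd f g) w = sA
          exact (Scheme.Hom.comp_apply _ _ _).trans h
        rw [hempty] at this
        exact this
      · exact h
    have hopen : IsOpen ((pullback.snd f g) ⁻¹' {sA}) := by
      have : (pullback.snd f g) ⁻¹' {sA} = Cᶜ := by
        rw [hCeq]
        ext x
        simp only [Set.mem_preimage, Set.mem_singleton_iff, Set.mem_compl_iff]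
        constructor
        · intro h h'
          exact hne_sη (h.symm.trans h')
        · intro h
          rcases hpts ((pullback.snd f g) x) with h' | h'
          · exact h'
          · exact absurd h' h
      rw [this]
      exact hCcl.isOpen_compl
    have hopen' : IsOpen ({sA} : Set ↥(Spec (CommRingCat.of A))) :=
      hquot.isOpen_preimage.mp hopen
    have := (hηA sA).mem_open hopen' rfl
    exact hne_sη (Set.mem_singleton_iff.mp this).symm
  have hs' : IsProper ((ι ≫ pullback.snd f g).fiberToSpecResidueField sA) :=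
    isProper_fiber_comp ι (pullback.snd f g) sA hs0
  have hgc : GeometricallyConnected ((ι ≫ pullback.snd f g).fiberToSpecResidueField ηA) :=
    geometricallyConnected_fiber_comp ι (pullback.snd f g) ηA (by rw [hrange]; exact hgenC) hconn0
  haveI : IsProper (ι ≫ pullback.snd f g) :=
    isProper_of_dvr' A (ι ≫ pullback.snd f g) sA hsA hs' hne ηA hηA hdom hgc
  -- lifting
  let σ : Spec (.of κ) ⟶ pullback f g :=
    pullback.lift t (Spec.map (CommRingCat.ofHom A.subtype)) hcomm.symm
  have hσ1 : σ ≫ pullback.fst f g = t := pullback.lift_fst _ _ _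
  have hσ2 : σ ≫ pullback.snd f g = Spec.map (CommRingCat.ofHom A.subtype) :=
    pullback.lift_snd _ _ _
  have hσC : Set.range σ ⊆ (Cc : Set ↥(pullback f g)) := by
    rintro _ ⟨p, rfl⟩
    apply hgenC
    change (pullback.snd f g) (σ p) = ηA
    have h1 : (pullback.snd f g) (σ p) = (Spec.map (CommRingCat.ofHom A.subtype)) p := by
      rw [← hσ2]; rfl
    rw [h1]
    apply PrimeSpectrum.ext
    change Ideal.comap A.subtype p.asIdeal = ⊥
    haveI : (p : PrimeSpectrum κ).asIdeal.IsPrime := (p : PrimeSpectrum κ).isPrime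
    have h0 : (p : PrimeSpectrum κ).asIdeal = ⊥ := Ideal.eq_bot_of_prime _
    rw [h0, ← RingHom.ker_eq_comap_bot]
    exact (RingHom.injective_iff_ker_eq_bot _).mp A.subtype_injective
  obtain ⟨σW, hσW⟩ := Groth.Agent.Lib.H71CompGeomConn.exists_lift_subscheme σ Cc hσC
  obtain ⟨l, hl1, hl2⟩ := exists_lift_of_universallyClosed (ι ≫ pullback.snd f g) A σW (𝟙 _)
    (by
      rw [Category.comp_id, ← Category.assoc]
      change _ = (σW ≫ (Scheme.IdealSheafData.vanishingIdeal Cc).subschemeι) ≫ _
      rw [hσW, hσ2])
  refine ⟨l ≫ ι ≫ pullback.fst f g, ?_, ?_⟩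
  · rw [← Category.assoc, hl1, ← Category.assoc]
    change (σW ≫ (Scheme.IdealSheafData.vanishingIdeal Cc).subschemeι) ≫ _ = _
    rw [hσW, hσ1]
  · rw [Category.assoc, Category.assoc, pullback.condition, ← Category.assoc ι, ← Category.assoc l,
      hl2, Category.id_comp]

/-- Let Y be locally Noetherian and f : X ⟶ Y separated, of finite type and universally submersive
(every base change is a topological quotient map onto its target), with all fibres geometrically
connected. If the fibre over a point y is proper over the residue field of y, then f is proper over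
some open neighbourhood of y. -/
theorem result {X Y : Scheme.{u}} [IsLocallyNoetherian Y] (f : X ⟶ Y)
    [IsSeparated f] [LocallyOfFiniteType f] [QuasiCompact f]
    (hsub : MorphismProperty.universally (topologically fun g => Topology.IsQuotientMap g) f)
    (hconn : ∀ y : Y, GeometricallyConnected (f.fiberToSpecResidueField y))
    (y : Y) (hy : IsProper (f.fiberToSpecResidueField y)) :
    ∃ U : Y.Opens, y ∈ U ∧ IsProper (f ∣_ U) := by
  exact main f hsub hconn y hy

end Groth.Agent.S2569
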