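import Groth.Statements.S2572
import Groth.Agent.Lib.H80DedekindOpen1

set_option autoImplicit false
open CategoryTheory AlgebraicGeometry
universe u
open EGA43

namespace Groth.Agent.S2572

open Groth.Agent.Lib.H69RedInduced in
theorem aux {X Y : Scheme.{u}} [IsLocallyNoetherian Y] [IrreducibleSpace Y]
    (hY : ∀ y : Y, IsRegularLocalRing (Y.presheaf.stalk y) ∧ ringKrullDim (Y.presheaf.stalk y) ≤ 1)
    (f : X ⟶ Y) [LocallyOfFiniteType f] (U : X.Opens)
    (hU : ∀ ξ : X, ξ ∈ U → (∀ z : X, z ⤳ ξ → z = ξ) → f.base ξ = genericPoint Y) :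
    UniversallyOpen (U.ι ≫ f) := by
  obtain ⟨j, hj⟩ : ∃ j : redSub (⊤ : TopologicalSpace.Closeds U) ⟶ U, j = redSubι ⊤ := ⟨_, rfl⟩
  have hjcl : IsClosedImmersion j := hj ▸ inferInstance
  have hjrange : Set.range j = Set.univ := by
    rw [hj, range_redSubι]; rfl
  have hjsurj : Surjective j := ⟨Set.range_eq_univ.mp hjrange⟩
  have hflat : Flat (j ≫ U.ι ≫ f) := by
    apply Groth.Agent.Lib.H80DedekindOpen.flat_of_forall_maximal hY
    intro ζ hζ
    have hemb : Topology.IsEmbedding (j ≫ U.ι) :=
      U.ι.isOpenEmbedding.isEmbedding.comp j.isClosedEmbedding.isEmbedding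
    refine hU ((j ≫ U.ι) ζ) (by exact (j ζ).2) ?_
    intro z hz
    have hzU : z ∈ U := hz.mem_open U.isOpen (j ζ).2
    obtain ⟨z₀, hz₀⟩ := hjsurj.surj ⟨z, hzU⟩
    have hz' : (j ≫ U.ι) z₀ = z := by
      change U.ι (j z₀) = z
      rw [hz₀]; rfl
    have h1 : z₀ ⤳ ζ := by
      rw [← hemb.isInducing.specializes_iff, hz']
      exact hz
    rw [← hz', hζ z₀ h1]
  have hlfp : LocallyOfFinitePresentation (j ≫ U.ι ≫ f) :=
    LocallyOfFinitePresentation.iff_locallyOfFiniteType.mpr inferInstance
  have hopen : UniversallyOpen (j ≫ U.ι ≫ f) := UniversallyOpen.of_flat _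
  exact Groth.Agent.Lib.H80DedekindOpen.universallyOpen_of_comp_surjective j (U.ι ≫ f)

/-- Let Y be an irreducible locally Noetherian scheme whose local rings are regular of dimension at most
one, f : X ⟶ Y locally of finite type, and y a point of Y. If every irreducible component of X
meeting the fibre over y has dense image in Y, then there is an open subset U of X containing that
fibre such that the restriction of f to U is universally open. -/
theorem result {X Y : Scheme.{u}} [IsLocallyNoetherian Y]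
    [IrreducibleSpace Y]
    (hY : ∀ y : Y, IsRegularLocalRing (Y.presheaf.stalk y) ∧ ringKrullDim (Y.presheaf.stalk y) ≤ 1)
    (f : X ⟶ Y) [LocallyOfFiniteType f] (y : Y)
    (h : ∀ Z ∈ irreducibleComponents (X : Type u), (Z ∩ f.base ⁻¹' {y}).Nonempty → Dense (f.base '' Z)) :
    ∃ U : X.Opens, f.base ⁻¹' {y} ⊆ (U : Set X) ∧ UniversallyOpen (U.ι ≫ f) := by
  have hXN : IsLocallyNoetherian X := LocallyOfFiniteType.isLocallyNoetherian f
  have hcl := Groth.Agent.Lib.H80DedekindOpen.isClosed_setOf_exists_maximal_specializes (X := X)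
    (fun ξ => f.base ξ ≠ genericPoint Y)
  obtain ⟨U, hUdef⟩ : ∃ U : X.Opens, (U : Set X) =
      {x : X | ∃ ξ : X, (∀ z : X, z ⤳ ξ → z = ξ) ∧ f.base ξ ≠ genericPoint Y ∧ ξ ⤳ x}ᶜ :=
    ⟨⟨_, hcl.isOpen_compl⟩, rfl⟩
  refine ⟨U, ?_, ?_⟩
  · intro x hx
    rw [hUdef]
    rintro ⟨ξ, hξmax, hfξ, hξx⟩
    apply hfξ
    -- `closure {ξ}` is an irreducible component
    obtain ⟨ξ', hξ'⟩ := QuasiSober.sober (isIrreducible_irreducibleComponent (x := ξ))
      isClosed_irreducibleComponent
    have h1 : ξ' ⤳ ξ := by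
      rw [specializes_iff_mem_closure, hξ'.def]; exact mem_irreducibleComponent
    have h2 : ξ' = ξ := hξmax ξ' h1
    subst h2
    have hZ : closure {ξ'} ∈ irreducibleComponents (X : Type u) :=
      hξ'.def ▸ irreducibleComponent_mem_irreducibleComponents ξ'
    have hdense : Dense (f.base '' closure {ξ'}) :=
      h _ hZ ⟨x, specializes_iff_mem_closure.mp hξx, hx⟩
    have h3 : f.base '' closure {ξ'} ⊆ closure {f.base ξ'} := by
      refine (image_closure_subset_closure_image f.continuous).trans ?_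
      rw [Set.image_singleton]
    have h4 : IsGenericPoint (f.base ξ') (⊤ : Set Y) := by
      refine le_antisymm (Set.subset_univ _) ?_
      intro z _
      have hz : z ∈ closure (f.base '' closure {ξ'}) := hdense z
      exact (closure_minimal h3 isClosed_closure) hz
    exact h4.eq (genericPoint_spec Y)
  · apply aux hY f U
    intro ξ hξU hξmax
    by_contra hne
    have : ξ ∈ (U : Set X) := hξU
    rw [hUdef] at this
    exact this ⟨ξ, hξmax, hne, specializes_rfl⟩

end Groth.Agent.S2572
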