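import Groth.Statements.S2574
import Groth.Agent.Lib.FlatNilAss88

set_option autoImplicit false
open TensorProduct
universe u
open EGA43

namespace Groth.Agent.S2574

/-- Let A be a Noetherian ring, J a nilpotent ideal of A and M an A-module. Then M is flat over A if and
only if (A/J) ⊗_A M is flat over A/J and, for every associated prime p of A, the localization M_p is
flat over A_p. -/
theorem result {A : Type u} [CommRing A] [IsNoetherianRing A]
    (J : Ideal A) (hJ : IsNilpotent J) (M : Type u) [AddCommGroup M] [Module A M] :
    Module.Flat A M ↔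
      Module.Flat (A ⧸ J) ((A ⧸ J) ⊗[A] M) ∧
        ∀ p : associatedPrimes A A,
          haveI : p.1.IsPrime := IsAssociatedPrime.isPrime p.2
          Module.Flat (Localization.AtPrime p.1) (LocalizedModule p.1.primeCompl M) := by
  constructor
  · intro h
    refine ⟨inferInstance, fun p => ?_⟩
    have : p.1.IsPrime := IsAssociatedPrime.isPrime p.2
    infer_instance
  · rintro ⟨hq, hp⟩
    obtain ⟨n, hn⟩ := hJ
    rw [Ideal.zero_eq_bot] at hn
    apply Groth.Agent.Lib.FlatNilAss88.flat_of_pow_eq_bot n A J hn M hq
    apply Groth.Agent.Lib.FlatNilAss88.flat_frac_of_flat_at_ass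
    intro p _ hpass
    have h1 := hp ⟨p, hpass⟩
    exact Module.Flat.of_linearEquiv
      (IsLocalizedModule.isBaseChange p.primeCompl (Localization.AtPrime p)
        (LocalizedModule.mkLinearMap p.primeCompl M)).equiv

end Groth.Agent.S2574
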