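import Groth.Statements.S2592
import Groth.Agent.Lib.LimDescentQAff

set_option autoImplicit false
universe u
open CategoryTheory AlgebraicGeometry
open EGA43

namespace Groth.Agent.S2592

/-- Let S = lim S_i be a cofiltered limit of schemes with affine transition morphisms, S_{i₀} a
quasi-compact quasi-separated stage (the source needs S_{i₀} only quasi-compact; quasi-separatedness
is assumed here), f₀ : X₀ ⟶ Y₀ an S_{i₀}-morphism between schemes of finite presentation over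
S_{i₀}, and f : X ⟶ Y its base change to S (base changes expressed by pullback squares). If f is
quasi-affine, then the base change f_i : X_i ⟶ Y_i of f₀ to some stage S_i is quasi-affine. -/
theorem result {I : Type u} [SmallCategory I] [IsCofiltered I]
    (D : I ⥤ Scheme.{u}) (c : Limits.Cone D) (hc : Limits.IsLimit c)
    [∀ (i j : I) (f : i ⟶ j), IsAffineHom (D.map f)] (i₀ : I) [CompactSpace (D.obj i₀)]
    [QuasiSeparatedSpace (D.obj i₀)] {X₀ Y₀ : Scheme.{u}} (f₀ : X₀ ⟶ Y₀) (g₀ : Y₀ ⟶ D.obj i₀)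
    [LocallyOfFinitePresentation g₀] [QuasiCompact g₀] [QuasiSeparated g₀]
    [LocallyOfFinitePresentation (f₀ ≫ g₀)] [QuasiCompact (f₀ ≫ g₀)] [QuasiSeparated (f₀ ≫ g₀)]
    {X Y : Scheme.{u}} (f : X ⟶ Y) (g : Y ⟶ c.pt) (qY : Y ⟶ Y₀) (qX : X ⟶ X₀)
    (hY : IsPullback qY g g₀ (c.π.app i₀)) (hX : IsPullback qX f f₀ qY) (hf : Mor2.IsQuasiAffine f) :
    ∃ (i : I) (φ : i ⟶ i₀) (Xi Yi : Scheme.{u}) (fi : Xi ⟶ Yi) (gi : Yi ⟶ D.obj i) (pY : Yi ⟶ Y₀)
      (pX : Xi ⟶ X₀), IsPullback pY gi g₀ (D.map φ) ∧ IsPullback pX fi f₀ pY ∧ Mor2.IsQuasiAffine fi := by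
  haveI : ∀ {i j : I} (f : i ⟶ j), IsAffineHom (D.map f) := fun f => inferInstance
  have hlim : Mor2.IsQuasiAffine (Groth.Agent.Lib.LimDescent.bcMap f₀ g₀ (c.π.app i₀)) := by
    obtain ⟨eX, eY, h, -⟩ :=
      Groth.Agent.Lib.LimDescent.exists_arrow_iso f₀ g₀ (c.π.app i₀) f g qY qX hY hX
    have : Groth.Agent.Lib.LimDescent.bcMap f₀ g₀ (c.π.app i₀) = eX.inv ≫ f ≫ eY.hom := by
      rw [← h, Iso.inv_hom_id_assoc]
    rw [this]
    exact Groth.Agent.Lib.LimDescent.isQuasiAffine_iso_comp eX.inv f eY.hom hf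
  obtain ⟨j, hj⟩ := Groth.Agent.Lib.LimDescent.exists_isQuasiAffine_stage D c hc f₀ g₀ hlim
  exact Groth.Agent.Lib.LimDescent.conclude D (fun _ _ f => Mor2.IsQuasiAffine f) f₀ g₀ j hj

end Groth.Agent.S2592
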