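-- Statement S2595.
import Groth.Statements.S2595
import Groth.Agent.Lib.CMQF33l
import Groth.Agent.Lib.H30EquidimAt2
import Groth.Agent.Lib.ValPoint
import Mathlib

set_option autoImplicit false
open CategoryTheory AlgebraicGeometry
universe u
open EGA43

namespace Groth.Agent.S2595

open Groth.Agent.Lib.H30GenFib Groth.Agent.Lib.H30EquidimAt Groth.Agent.S2594
  Groth.Agent.Lib.CMQF33

theorem main {X Y : Scheme.{u}} [IsLocallyNoetherian Y] (f : X ⟶ Y)
    [LocallyOfFiniteType f] (x : X) (hflat : (f.stalkMap x).hom.Flat)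
    (hCM : LocCoh.IsCohenMacaulayLocalRing ((f.fiber (f.base x)).presheaf.stalk (f.asFiber x))) :
    EGA43.IsEquidimAt f x := by
  obtain ⟨n, U, hxU, g, hg, hqf, hfl⟩ :=
    HasQFChart.exists_opens f x (hasQFChart f x ⟨hflat, hCM⟩)
  haveI : IsLocallyNoetherian X := LocallyOfFiniteType.isLocallyNoetherian f
  obtain ⟨U', hxU', hU'U, hsp⟩ := exists_open_all_max_specialize x U hxU
  rw [isEquidimAt_iff]
  refine ⟨n, U', hxU', ?_, ?_⟩
  · intro ζ hζU' hζmax
    obtain ⟨ζU, rfl⟩ : ζ ∈ Set.range U.ι := by rw [Scheme.Opens.range_ι]; exact hU'U hζU'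
    have hζUmax := isMax_of_ι U ζU hζmax
    haveI := Groth.Agent.Lib.ValPoint.flat_affineSpace_over (ULift.{u} (Fin n)) Y
    have h1 : IsMaxPt ((g ≫ (𝔸(ULift.{u} (Fin n); Y) ↘ Y)) ζU) :=
      isMax_of_flat (g ≫ (𝔸(ULift.{u} (Fin n); Y) ↘ Y)) ζU hζUmax
    rw [hg] at h1
    exact ⟨h1, (hsp _ hζU' hζmax).map f.continuous⟩
  · intro z hz
    exact chart_dim_eq f z n U (hU'U hz) g hg (Flat.stalkMap g _)

/-- Let Y be locally Noetherian, f : X ⟶ Y locally of finite type and x a point of X. If O_{Y,f x} ⟶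
O_{X,x} is flat and the local ring at x of the fibre through x is Cohen–Macaulay, then f is
equidimensional at x. -/
theorem result {X Y : Scheme.{u}} [IsLocallyNoetherian Y] (f : X ⟶ Y)
    [LocallyOfFiniteType f] (x : X) (hflat : (f.stalkMap x).hom.Flat)
    (hCM : LocCoh.IsCohenMacaulayLocalRing ((f.fiber (f.base x)).presheaf.stalk (f.asFiber x))) :
    EGA43.IsEquidimAt f x := by
  exact main f x hflat hCM

end Groth.Agent.S2595
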