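import Groth.Statements.S4750
import Groth.Agent.Lib.H56SkFibre

set_option autoImplicit false
universe u
open EGA4

namespace Groth.Agent.S4750

/-- Let A → B → C be homomorphisms of Noetherian rings, both flat and with (S_n) fibres. Then the
composite A → C is flat with (S_n) fibres. -/
theorem result (n : ℕ) (A B C : Type u) [CommRing A] [CommRing B] [CommRing C] [IsNoetherianRing A]
    [IsNoetherianRing B] [IsNoetherianRing C] [Algebra A B] [Algebra B C] [Algebra A C] [IsScalarTower A B C]
    [Module.Flat A B] [Module.Flat B C]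
    (hAB : ∀ (p : Ideal A) [p.IsPrime], LocCoh.HasSk n (p.Fiber B) (p.Fiber B))
    (hBC : ∀ (q : Ideal B) [q.IsPrime], LocCoh.HasSk n (q.Fiber C) (q.Fiber C)) :
    Module.Flat A C ∧ ∀ (p : Ideal A) [p.IsPrime], LocCoh.HasSk n (p.Fiber C) (p.Fiber C) := by
  open Groth.Agent.Lib.H56SkFibre in
  refine ⟨Module.Flat.trans A B C, ?_⟩
  intro p hp
  rw [hasSk_self_iff']
  intro Q'' hQ''
  -- the primes `r` of `C` and `q` of `B`
  set r := Q''.comap (Algebra.TensorProduct.includeRight
    (R := A) (A := p.ResidueField) (B := C)) with hr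
  have hrp : r.LiesOver p := inferInstance
  have hrq : r.LiesOver (r.under B) := ⟨rfl⟩
  have hqp : (r.under B).LiesOver p := by
    constructor
    rw [Ideal.under_under]
    exact hrp.over
  obtain ⟨Q', hQ'prime, hQ'⟩ := exists_fiber_prime p (r.under B)
  obtain ⟨Q''', hQ'''prime, hQ'''⟩ := exists_fiber_prime (r.under B) r
  have hl1 := isLocalRing_fibreQuot p (r.under B)
  have hl2 := isLocalRing_fibreQuot (r.under B) r
  have hl3 := isLocalRing_fibreQuot p r
  have h1 := (skIneq_fiber_iff (k := n) p Q' (r.under B) hQ').1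
    ((hasSk_self_iff' n _).1 (hAB p) Q')
  have h2 := (skIneq_fiber_iff (k := n) (r.under B) Q''' r hQ''').1
    ((hasSk_self_iff' n _).1 (hBC (r.under B)) Q''')
  have h3 := skIneq_tower (k := n) p (r.under B) r h1 h2
  exact (skIneq_fiber_iff (k := n) p Q'' r rfl).2 h3

end Groth.Agent.S4750
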