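import Groth.Statements.S4751
import Groth.Agent.Lib.H56SkFibre
import Groth.Agent.Lib.WeaklyEtale

set_option autoImplicit false
universe u
open EGA4

namespace Groth.Agent.S4751

/-- Let A → B → C be homomorphisms of Noetherian rings such that B → C is faithfully flat with (S_n)
fibres and the composite A → C is flat with (S_n) fibres. Then A → B is flat with (S_n) fibres. -/
theorem result (n : ℕ) (A B C : Type u) [CommRing A] [CommRing B] [CommRing C]
    [IsNoetherianRing A] [IsNoetherianRing B] [IsNoetherianRing C] [Algebra A B] [Algebra B C] [Algebra A C]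
    [IsScalarTower A B C] [Module.FaithfullyFlat B C] [Module.Flat A C]
    (hBC : ∀ (q : Ideal B) [q.IsPrime], LocCoh.HasSk n (q.Fiber C) (q.Fiber C))
    (hAC : ∀ (p : Ideal A) [p.IsPrime], LocCoh.HasSk n (p.Fiber C) (p.Fiber C)) :
    Module.Flat A B ∧ ∀ (p : Ideal A) [p.IsPrime], LocCoh.HasSk n (p.Fiber B) (p.Fiber B) := by
  open Groth.Agent.Lib.H56SkFibre in
  have hAB : Module.Flat A B := Groth.Agent.Lib.WeaklyEtale.flat_of_flat_of_faithfullyFlat A B C
  refine ⟨hAB, ?_⟩
  intro p hp
  rw [hasSk_self_iff']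
  intro Q' hQ'
  -- the prime `q` of `B` and a prime `r` of `C` minimal over `qC`
  set q := Q'.comap (Algebra.TensorProduct.includeRight
    (R := A) (A := p.ResidueField) (B := B)) with hq
  have hqp : q.LiesOver p := inferInstance
  obtain ⟨r, hrmin, hrprime, hrq⟩ :=
    Groth.Agent.Lib.H56SerreFlat.exists_mem_minimalPrimes_liesOver (S := C) q
  have hrp : r.LiesOver p := Ideal.LiesOver.trans r q p
  obtain ⟨Q'', hQ''prime, hQ''⟩ := exists_fiber_prime p r
  have hl1 := isLocalRing_fibreQuot p q
  have hl3 := isLocalRing_fibreQuot p r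
  have h3 := (skIneq_fiber_iff (k := n) p Q'' r hQ'').1
    ((hasSk_self_iff' n _).1 (hAC p) Q'')
  have h1 := skIneq_tower_descent (k := n) p q r hrmin h3
  exact (skIneq_fiber_iff (k := n) p Q' q rfl).2 h1

end Groth.Agent.S4751
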