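import Groth.Statements.S5060
import Groth.Agent.Lib.H94NF5
import Mathlib

set_option autoImplicit false
universe u
open CInt

namespace Groth.Agent.S5060

open Function RingTheory.Sequence Groth.Agent.S2612 Groth.Agent.Lib.H94NF4 Groth.Agent.Lib.H94NF5
  Pointwise

/-- `(A/R)/x(A/R) ≃ A/(R + xA)`. -/
noncomputable def quotEquivSup {A : Type u} [CommRing A] (R : Ideal A) (x : A) :
    QuotSMulTop x (A ⧸ R) ≃ₗ[A] A ⧸ Qx R x :=
  (Submodule.quotEquivOfEq _ _ (by
    rw [← Submodule.ideal_span_singleton_smul x (⊤ : Submodule A (A ⧸ R)),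
      ← Submodule.range_mkQ R, ← Submodule.map_top, ← Submodule.map_smul'', smul_eq_mul,
      Ideal.mul_top])).trans
    (Submodule.quotientQuotientEquivQuotientSup R (Ideal.span {x}))

/-- a) ⇒ first half of d), for lists. -/
theorem isNormallyFlat_sup_ofList {A : Type u} [CommRing A] (M : Type u) [AddCommGroup M]
    [Module A M] : ∀ (fs : List A) (R : Ideal A), IsWeaklyRegular (A ⧸ R) fs →
      EGA4.IsNormallyFlat R M → EGA4.IsNormallyFlat (R ⊔ Ideal.ofList fs) M := by
  intro fs
  induction fs with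
  | nil =>
    intro R _ h
    rw [Ideal.ofList_nil, sup_bot_eq]
    exact h
  | cons x fs ih =>
    intro R hreg h
    rw [isWeaklyRegular_cons_iff] at hreg
    obtain ⟨hx, hfs⟩ := hreg
    have h1 := isNormallyFlat_step R x M hx h
    have h2 := ih (Qx R x) (((quotEquivSup R x).isWeaklyRegular_congr fs).mp hfs) h1
    rw [Ideal.ofList_cons, ← sup_assoc]
    exact h2


/-- a) iff d) in the Noetherian case: let A be a Noetherian ring, R an ideal, f_1, …, f_n elements of
the Jacobson radical of A forming a regular sequence on A/R and on every R^k/R^(k+1), Q = R + (f_1,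
…, f_n), and M a finitely generated A-module. Then every R^k M / R^(k+1) M is flat over A/R if and
only if every Q^k M / Q^(k+1) M is flat over A/Q and, for every associated prime p of A/Q viewed as
an (A/R)-module, every localized piece (R^k M / R^(k+1) M)_p is flat over (A/R)_p. -/
theorem result (A : Type u) [CommRing A] [IsNoetherianRing A]
    (R : Ideal A) {n : ℕ} (f : Fin n → A) (hrad : ∀ i, f i ∈ (⊥ : Ideal A).jacobson)
    (hreg : RingTheory.Sequence.IsWeaklyRegular (A ⧸ R) (List.ofFn f))
    (hreggr : ∀ k : ℕ, RingTheory.Sequence.IsWeaklyRegular (↥(R ^ k • (⊤ : Submodule A A)) ⧸ (R • (⊤ : Submodule A ↥(R ^ k • (⊤ : Submodule A A))))) (List.ofFn f))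
    (M : Type u) [AddCommGroup M] [Module A M] [Module.Finite A M] :
    EGA4.IsNormallyFlat R M ↔
      EGA4.IsNormallyFlat (R ⊔ Ideal.span (Set.range f)) M ∧
        ∀ (p : Ideal (A ⧸ R)) [p.IsPrime],
          p ∈ associatedPrimes (A ⧸ R) ((A ⧸ R) ⧸ Ideal.map (Ideal.Quotient.mk R) (R ⊔ Ideal.span (Set.range f))) →
            ∀ k : ℕ, Module.Flat (Localization.AtPrime p) (LocalizedModule p.primeCompl (↥(R ^ k • (⊤ : Submodule A M)) ⧸ (R • (⊤ : Submodule A ↥(R ^ k • (⊤ : Submodule A M)))))) := by
  constructor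
  · intro h
    refine ⟨?_, ?_⟩
    · have := isNormallyFlat_sup_ofList M (List.ofFn f) R hreg h
      rwa [Groth.Agent.Lib.QuasiReg97.ofList_ofFn] at this
    · intro p _ _ k
      haveI : Module.Flat (A ⧸ R) (N R M k) := h k
      infer_instance
  · rintro ⟨h1, h2⟩
    exact isNormallyFlat_of_d A R f hrad hreg M h1 h2

end Groth.Agent.S5060
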