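import Groth.Statements.S2904
-- import your own Groth.Agent.* helpers here
import Groth.Agent.Lib.EffDescChartsH52
import Groth.Agent.Lib.QuasiSectionUnivOpenH52

set_option autoImplicit false
open CategoryTheory CategoryTheory.Limits AlgebraicGeometry Opposite
universe u
open SGA1

namespace Groth.Agent.S2904

/-- Let S be locally Noetherian and g : S' ⟶ S of finite type, surjective and universally open. Then
every descent datum relative to g whose underlying scheme is etale, separated and quasi-compact over
S' is isomorphic to the canonical descent datum of a scheme etale, separated and quasi-compact over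
S. (Descent data relative to g are taken in functor-of-points form.) -/
theorem result {S' S : Scheme.{u}} [IsLocallyNoetherian S] (g : S' ⟶ S)
    [LocallyOfFiniteType g] [QuasiCompact g] [Surjective g] [UniversallyOpen g]
    (D : Desc.SchDD g) [QuasiCompact D.obj.hom] [IsSeparated D.obj.hom] [Etale D.obj.hom] :
    ∃ U : Over S, QuasiCompact U.hom ∧ IsSeparated U.hom ∧ Etale U.hom ∧ Nonempty ((Desc.toDD g).obj U ≅ D) := by
  classical
  have hg : SGA1.UnivSubmersive g := by
    intro X' Y' i₁ i₂ f' hpb
    have h1 : UniversallyOpen f' :=
      MorphismProperty.of_isPullback (P := @UniversallyOpen) hpb.flip inferInstance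
    have h2 : Surjective f' :=
      MorphismProperty.of_isPullback (P := @Surjective) hpb.flip inferInstance
    exact f'.isOpenMap.isQuotientMap f'.continuous f'.surjective
  let D₁ : Desc.SchDDFam (fun _ : PUnit.{u + 1} => g) := (Desc.SchDDFam.ofSchDD.{u, u} g).obj D
  have : Etale (D₁.obj PUnit.unit).hom := inferInstanceAs (Etale D.obj.hom)
  have : QuasiCompact (D₁.obj PUnit.unit).hom := inferInstanceAs (QuasiCompact D.obj.hom)
  have : IsSeparated (D₁.obj PUnit.unit).hom := inferInstanceAs (IsSeparated D.obj.hom)
  obtain ⟨U, hU, hqc, hsep, ⟨e⟩⟩ :=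
    Groth.Agent.Lib.EffDescFamH52.exists_etale_iso_of_charts g hg D₁
      (fun B _ _ _ hB h =>
        Groth.Agent.Lib.QuasiSectionUnivOpenH52.exists_finCharts_of_universallyOpen B hB
          (pullback.snd g h))
  exact ⟨U, hqc, hsep, hU, ⟨(Desc.SchDDFam.toSchDD.{u, u} g).mapIso e⟩⟩

end Groth.Agent.S2904
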