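import Groth.Statements.S2905
-- import your own Groth.Agent.* helpers here
import Groth.Agent.Lib.EffDescQFinH52

set_option autoImplicit false
open CategoryTheory CategoryTheory.Limits AlgebraicGeometry Opposite
universe u
open SGA1

namespace Groth.Agent.S2905

/-- Let S be locally Noetherian and g : S' ⟶ S universally submersive, of finite type and quasi-finite.
Then every descent datum relative to g whose underlying scheme is etale, separated and quasi-compact
over S' is isomorphic to the canonical descent datum of a scheme etale, separated and quasi-compact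
over S. (Descent data relative to g are taken in functor-of-points form.) -/
theorem result {S' S : Scheme.{u}} [IsLocallyNoetherian S] (g : S' ⟶ S)
    (hg : SGA1.UnivSubmersive g) [LocallyOfFiniteType g] [QuasiCompact g] [LocallyQuasiFinite g]
    (D : Desc.SchDD g) [QuasiCompact D.obj.hom] [IsSeparated D.obj.hom] [Etale D.obj.hom] :
    ∃ U : Over S, QuasiCompact U.hom ∧ IsSeparated U.hom ∧ Etale U.hom ∧ Nonempty ((Desc.toDD g).obj U ≅ D) := by
  classical
  let D₁ : Desc.SchDDFam (fun _ : PUnit.{u + 1} => g) := (Desc.SchDDFam.ofSchDD.{u, u} g).obj D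
  have : Etale (D₁.obj PUnit.unit).hom := inferInstanceAs (Etale D.obj.hom)
  have : QuasiCompact (D₁.obj PUnit.unit).hom := inferInstanceAs (QuasiCompact D.obj.hom)
  have : IsSeparated (D₁.obj PUnit.unit).hom := inferInstanceAs (IsSeparated D.obj.hom)
  obtain ⟨U, hU, hqc, hsep, ⟨e⟩⟩ :=
    Groth.Agent.Lib.EffDescFamH52.exists_etale_iso_of_quasiFinite g hg D₁
  exact ⟨U, hqc, hsep, hU, ⟨(Desc.SchDDFam.toSchDD.{u, u} g).mapIso e⟩⟩

end Groth.Agent.S2905
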