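import Groth.Statements.S2910
import Groth.Agent.Lib.H8Rigidity
import Groth.Agent.Lib.H8FinGrpFree
import Groth.Agent.Lib.QuotGeomPts37

set_option autoImplicit false
open CategoryTheory CategoryTheory.Limits AlgebraicGeometry
universe u
open SGA1

namespace Groth.Agent.S2910


/-- Let a finite group G act faithfully on a connected scheme X, let p : X ⟶ Y be a quotient of X by G
with Y locally Noetherian and p finite, and suppose p is etale. Then G acts freely on the geometric
points of X (all inertia groups are trivial), and every automorphism of X over Y is the action of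
exactly one element of G. -/
theorem result {X Y : Scheme.{u}} {G : Type u} [Group G] [Finite G] (ρ : G →* Aut X)
    (p : X ⟶ Y) (hp : SGA1.IsQuot ρ p) [IsLocallyNoetherian Y] [IsFinite p] [ConnectedSpace X]
    (hfaith : Function.Injective ρ) [Etale p] :
    (∀ (K : Type u) [Field K] [IsAlgClosed K] (ξ : Spec (CommRingCat.of K) ⟶ X) (g : G), ξ ≫ (ρ g).hom = ξ → g = 1) ∧
    ∀ u : Aut X, u.hom ≫ p = p → ∃! g : G, ρ g = u := by
  have hρp : ∀ g : G, (ρ g).hom ≫ p = p := hp.inv
  have hrig : ∀ (φ ψ : X ⟶ X) (h : φ ≫ p = ψ ≫ p) (K : Type u) [Field K]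
      (ξ : Spec (CommRingCat.of K) ⟶ X), ξ ≫ φ = ξ ≫ ψ → φ = ψ := by
    intro φ ψ h K _ ξ hξ
    exact Groth.Agent.Lib.H8Rigidity.eq_of_comp_eq p φ ψ h ξ hξ
  have hfaith' : ∀ g g' : G, (ρ g).hom = (ρ g').hom → g = g' := by
    intro g g' hgg'
    apply hfaith
    exact Iso.ext hgg'
  constructor
  · intro K _ _ ξ g hg
    have h1 : (ρ g).hom = (ρ 1).hom := by
      refine hrig _ _ ?_ K ξ ?_
      · rw [hρp, hρp]
      · rw [hg, Groth.Agent.Lib.H8ActGrpd.rho_one_hom, Category.comp_id]
    exact hfaith' g 1 h1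
  · intro u hu
    obtain ⟨x⟩ : Nonempty X := inferInstance
    let ξ := Groth.Agent.Lib.H8FinGrpFree.geomPt x
    obtain ⟨g, hg⟩ := Groth.Agent.Lib.QuotGeomPts37.exists_eq_comp_of_comp_eq hp _ ξ (ξ ≫ u.hom)
      (by rw [Category.assoc, hu])
    have h1 : u.hom = (ρ g).hom := by
      refine hrig _ _ ?_ _ ξ hg
      rw [hu, hρp]
    refine ⟨g, Iso.ext h1.symm, ?_⟩
    intro g' hg'
    apply hfaith
    rw [hg']
    exact Iso.ext h1

end Groth.Agent.S2910
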