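import Groth.Statements.S2914
import Groth.Agent.Lib.DescendMor45
import Mathlib.AlgebraicGeometry.PullbackCarrier
import Mathlib.CategoryTheory.EffectiveEpi.Basic

set_option autoImplicit false
open CategoryTheory CategoryTheory.Limits AlgebraicGeometry Opposite
universe u
open SGA1

namespace Groth.Agent.S2914

/-- Let g : S' ⟶ S be a morphism of schemes whose underlying map is a quotient map, and such that for
every open U of S the sequence O_S(U) → O_{S'}(g⁻¹U) ⇉ O_{S''}(h⁻¹U) is an equalizer, where S'' = S'
×_S S' with structure map h and the two arrows are restriction along the projections. Then g is an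
effective epimorphism in the category of schemes. -/
theorem result {S' S : Scheme.{u}} (g : S' ⟶ S) (hq : Topology.IsQuotientMap g.base)
    (hinj : ∀ U : S.Opens, Function.Injective (g.app U).hom)
    (heq : ∀ (U : S.Opens) (s' : Γ(S', g ⁻¹ᵁ U)), (SGA1.overlapFstApp g U).hom s' = (SGA1.overlapSndApp g U).hom s' →
      s' ∈ Set.range (g.app U).hom) :
    EffectiveEpi g := by
  have hsurj : Function.Surjective g := hq.surjective
  have : Surjective g := ⟨hsurj⟩
  have hepi : Epi g := Groth.Agent.S2913.result g hinj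
  have key : ∀ {W : Scheme.{u}} (e : S' ⟶ W),
      (∀ {T : Scheme.{u}} (g₁ g₂ : T ⟶ S'), g₁ ≫ g = g₂ ≫ g → g₁ ≫ e = g₂ ≫ e) →
        ∃ m : S ⟶ W, g ≫ m = e := by
    intro W e he
    have h12 : pullback.fst g g ≫ e = pullback.snd g g ≫ e := he _ _ pullback.condition
    apply Groth.Agent.Lib.DescendMor45.exists_descend g e hq hinj
    · intro x x' hxx'
      obtain ⟨t, rfl, rfl⟩ := Scheme.Pullback.exists_preimage_pullback x x' hxx'
      rw [← Scheme.Hom.comp_apply, ← Scheme.Hom.comp_apply, h12]
    · intro U V e' s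
      apply heq
      unfold SGA1.overlapFstApp SGA1.overlapSndApp
      have h1 : e.appLE V (g ⁻¹ᵁ U) e' ≫ (pullback.fst g g).app (g ⁻¹ᵁ U) =
          e.appLE V (g ⁻¹ᵁ U) e' ≫ (pullback.snd g g).appLE (g ⁻¹ᵁ U)
            ((pullback.fst g g) ⁻¹ᵁ (g ⁻¹ᵁ U)) (SGA1.fst_preimage_eq_snd_preimage g U).le := by
        rw [Scheme.Hom.app_eq_appLE, Scheme.Hom.appLE_comp_appLE, Scheme.Hom.appLE_comp_appLE]
        have : ∀ {f f' : pullback g g ⟶ W} (hff' : f = f') (A : W.Opens)
            (B : (pullback g g).Opens) (e1 : B ≤ f ⁻¹ᵁ A) (e2 : B ≤ f' ⁻¹ᵁ A),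
            f.appLE A B e1 = f'.appLE A B e2 := by
          intro f f' hff' A B e1 e2
          subst hff'
          rfl
        exact this h12 _ _ _ _
      exact congrArg (fun ψ => ψ.hom s) h1
  exact ⟨⟨{ desc := fun e he => (key e he).choose
            fac := fun e he => (key e he).choose_spec
            uniq := fun e he m hm =>
              (cancel_epi g).mp (hm.trans (key e he).choose_spec.symm) }⟩⟩

end Groth.Agent.S2914
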