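import Groth.Statements.S2916
-- import your own Groth.Agent.* helpers here
import Groth.Agent.Lib.EtDescH52b

set_option autoImplicit false
open CategoryTheory CategoryTheory.Limits AlgebraicGeometry Opposite
universe u
open SGA1

namespace Groth.Agent.S2916

/-- Let g : S' ⟶ S be universally submersive with geometrically connected fibres (the base change of S'
to any algebraically closed field valued point of S is connected). Then S' is connected whenever S
is, and for schemes X, Y etale over S every S'-morphism between their base changes comes from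
exactly one S-morphism X ⟶ Y. -/
theorem result {S' S : Scheme.{u}} (g : S' ⟶ S)
    (hg : SGA1.UnivSubmersive g)
    (hconn : ∀ (K : Type u) [Field K] [IsAlgClosed K] (ξ : Spec (CommRingCat.of K) ⟶ S), ConnectedSpace ↑(pullback g ξ)) :
    (ConnectedSpace S → ConnectedSpace S') ∧
    ∀ (X Y : Over S) [Etale X.hom] [Etale Y.hom], Function.Bijective ((Over.pullback g).map : (X ⟶ Y) → _) := by
  have hgq : Topology.IsQuotientMap g :=
    hg _ _ _ (IsPullback.of_vert_isIso (snd := 𝟙 S') (f := 𝟙 S) ⟨by simp⟩)
  have hgs : Surjective g := ⟨hgq.surjective⟩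
  refine ⟨fun hS => Groth.Agent.Lib.EtDescH52.connectedSpace_of_geometricallyConnected g hgq hconn,
    ?_⟩
  intro X Y _ _
  have hdiag : IsOpenImmersion (pullback.diagonal Y.hom) := inferInstance
  let π : pullback X.hom g ⟶ X.left := pullback.fst X.hom g
  have hπs : Surjective π := inferInstanceAs (Surjective (pullback.fst X.hom g))
  constructor
  · intro u₁ u₂ hu
    have h1 : ((Over.pullback g).map u₁).left ≫ pullback.fst Y.hom g =
        ((Over.pullback g).map u₂).left ≫ pullback.fst Y.hom g := by rw [hu]
    have h2 : ∀ u : X ⟶ Y, ((Over.pullback g).map u).left ≫ pullback.fst Y.hom g = π ≫ u.left :=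
      fun u => pullback.lift_fst _ _ _
    rw [h2, h2] at h1
    apply Over.OverMorphism.ext
    exact Groth.Agent.Lib.EtDescH52.eq_of_surjective_comp Y.hom u₁.left u₂.left
      ((Over.w u₁).trans (Over.w u₂).symm) π h1
  · intro f'
    obtain ⟨fl, hfl⟩ : ∃ fl : pullback X.hom g ⟶ pullback Y.hom g, fl = f'.left := ⟨_, rfl⟩
    have hfw : fl ≫ pullback.snd Y.hom g = pullback.snd X.hom g := by
      rw [hfl]; exact Over.w f'
    let h : pullback X.hom g ⟶ Y.left := fl ≫ pullback.fst Y.hom g
    have hq : h ≫ Y.hom = π ≫ X.hom := by
      show (fl ≫ pullback.fst Y.hom g) ≫ Y.hom = pullback.fst X.hom g ≫ X.hom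
      rw [Category.assoc, pullback.condition, ← Category.assoc, hfw, pullback.condition]
    have hquot : Topology.IsQuotientMap (pullback.snd π (pullback.fst X.hom Y.hom)) := by
      have top : IsPullback (pullback.snd π (pullback.fst X.hom Y.hom))
          (pullback.fst π (pullback.fst X.hom Y.hom))
          (pullback.fst X.hom Y.hom) π := (IsPullback.of_hasPullback π (pullback.fst X.hom Y.hom)).flip
      have bot : IsPullback π (pullback.snd X.hom g) X.hom g := IsPullback.of_hasPullback X.hom g
      exact hg _ _ _ (top.paste_vert bot)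
    have hcoc : pullback.fst π π ≫ h = pullback.snd π π ≫ h :=
      Groth.Agent.Lib.EtDescH52.cocycle_of_geometricallyConnected g hconn X.hom Y.hom h hq
    obtain ⟨u, hu1, hu2⟩ :=
      Groth.Agent.Lib.EtDescH52.exists_desc_of_isQuotientMap X.hom Y.hom π hquot h hq hcoc
    refine ⟨Over.homMk u hu1, ?_⟩
    apply Over.OverMorphism.ext
    have key : ((Over.pullback g).map (Over.homMk u hu1 : X ⟶ Y)).left = fl := by
      apply pullback.hom_ext
      · have : ((Over.pullback g).map (Over.homMk u hu1 : X ⟶ Y)).left ≫ pullback.fst Y.hom g =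
            π ≫ u := pullback.lift_fst _ _ _
        rw [this]; exact hu2
      · have : ((Over.pullback g).map (Over.homMk u hu1 : X ⟶ Y)).left ≫ pullback.snd Y.hom g =
            pullback.snd X.hom g := pullback.lift_snd _ _ _
        rw [this, hfw]
    rw [hfl] at key
    exact key

end Groth.Agent.S2916
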