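import Groth.Statements.S2917
import Mathlib.CategoryTheory.MorphismProperty.Descent
import Mathlib.AlgebraicGeometry.PullbackCarrier
import Mathlib.AlgebraicGeometry.Morphisms.Proper
import Mathlib.AlgebraicGeometry.Morphisms.UniversallyOpen
import Mathlib.AlgebraicGeometry.Morphisms.Immersion

set_option autoImplicit false
open CategoryTheory CategoryTheory.Limits AlgebraicGeometry Opposite
universe u
open SGA1

namespace Groth.Agent.S2917

open MorphismProperty

instance univSubmersive_isStableUnderBaseChange :
    (SGA1.UnivSubmersive : MorphismProperty Scheme.{u}).IsStableUnderBaseChange := by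
  unfold SGA1.UnivSubmersive
  infer_instance

theorem isQuotientMap_of_univSubmersive {X Y : Scheme.{u}} {f : X ⟶ Y}
    (hf : SGA1.UnivSubmersive f) : Topology.IsQuotientMap f :=
  hf _ _ _ IsPullback.of_id_snd

instance isOpenMap_descendsAlong :
    (topologically @IsOpenMap).DescendsAlong (SGA1.UnivSubmersive : MorphismProperty Scheme.{u}) where
  of_isPullback {A X Y Z fst snd f g} h hf hfst := by
    intro s hs
    rw [← (isQuotientMap_of_univSubmersive hf).isOpen_preimage,
      ← Scheme.image_preimage_eq_of_isPullback h.flip]
    exact hfst _ (hs.preimage snd.continuous)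

instance isClosedMap_descendsAlong :
    (topologically @IsClosedMap).DescendsAlong (SGA1.UnivSubmersive : MorphismProperty Scheme.{u}) where
  of_isPullback {A X Y Z fst snd f g} h hf hfst := by
    intro s hs
    rw [← (isQuotientMap_of_univSubmersive hf).isClosed_preimage,
      ← Scheme.image_preimage_eq_of_isPullback h.flip]
    exact hfst _ (hs.preimage snd.continuous)

/-- `universally P` descends along a base-change-stable class along which `P` descends. -/
theorem universally_descendsAlong (P Q : MorphismProperty Scheme.{u}) [P.DescendsAlong Q]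
    [Q.IsStableUnderBaseChange] : (universally P).DescendsAlong Q where
  of_isPullback {A X Y Z fst snd f g} h hf hfst := by
    intro Y' Z' i₁ i₂ g' hpb
    -- base change of `f` along `i₂`
    have hf' : Q (pullback.snd f i₂) := Q.pullback_snd _ _ hf
    refine DescendsAlong.of_isPullback (P := P) (Q := Q)
      (IsPullback.of_hasPullback (pullback.snd f i₂) g') hf' ?_
    have hw : (pullback.fst (pullback.snd f i₂) g' ≫ pullback.fst f i₂) ≫ f =
        (pullback.snd (pullback.snd f i₂) g' ≫ i₁) ≫ g := by
      rw [Category.assoc, pullback.condition, ← Category.assoc, pullback.condition, Category.assoc,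
        hpb.w, Category.assoc]
    -- the comparison map to `A`
    let a := h.lift (pullback.fst (pullback.snd f i₂) g' ≫ pullback.fst f i₂)
      (pullback.snd (pullback.snd f i₂) g' ≫ i₁) hw
    have ha1 : a ≫ fst = pullback.fst (pullback.snd f i₂) g' ≫ pullback.fst f i₂ := h.lift_fst _ _ _
    have ha2 : a ≫ snd = pullback.snd (pullback.snd f i₂) g' ≫ i₁ := h.lift_snd _ _ _
    have hbig : IsPullback (pullback.snd (pullback.snd f i₂) g' ≫ i₁)
        (pullback.fst (pullback.snd f i₂) g') g (pullback.snd f i₂ ≫ i₂) :=
      (IsPullback.of_hasPullback (pullback.snd f i₂) g').flip.paste_horiz hpb.flip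
    have hbig' : IsPullback (a ≫ snd) (pullback.fst (pullback.snd f i₂) g') g
        (pullback.fst f i₂ ≫ f) := by
      rw [ha2, pullback.condition]
      exact hbig
    have hleft : IsPullback a (pullback.fst (pullback.snd f i₂) g') fst (pullback.fst f i₂) :=
      IsPullback.of_right hbig' ha1 h.flip
    exact hfst _ _ _ hleft.flip

theorem universallyOpen_descends {A X Y Z : Scheme.{u}} {fst : A ⟶ X} {snd : A ⟶ Y} {f : X ⟶ Z}
    {g : Y ⟶ Z} (h : IsPullback fst snd f g) (hf : SGA1.UnivSubmersive f)
    (hfst : UniversallyOpen fst) : UniversallyOpen g := by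
  rw [UniversallyOpen.eq] at hfst ⊢
  haveI := universally_descendsAlong (topologically @IsOpenMap)
    (SGA1.UnivSubmersive : MorphismProperty Scheme.{u})
  exact DescendsAlong.of_isPullback (Q := (SGA1.UnivSubmersive : MorphismProperty Scheme.{u})) h hf hfst

theorem universallyClosed_descends {A X Y Z : Scheme.{u}} {fst : A ⟶ X} {snd : A ⟶ Y} {f : X ⟶ Z}
    {g : Y ⟶ Z} (h : IsPullback fst snd f g) (hf : SGA1.UnivSubmersive f)
    (hfst : UniversallyClosed fst) : UniversallyClosed g := by
  rw [universallyClosed_eq] at hfst ⊢
  haveI := universally_descendsAlong (topologically @IsClosedMap)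
    (SGA1.UnivSubmersive : MorphismProperty Scheme.{u})
  exact DescendsAlong.of_isPullback (Q := (SGA1.UnivSubmersive : MorphismProperty Scheme.{u})) h hf hfst

/-- morphisms with closed range -/
def closedRange : MorphismProperty Scheme.{u} := fun _ _ f => IsClosed (Set.range f)

instance closedRange_respectsIso : (closedRange : MorphismProperty Scheme.{u}).RespectsIso := by
  apply MorphismProperty.RespectsIso.mk
  · intro X Y Z e f hf
    show IsClosed (Set.range (e.hom ≫ f))
    have : Set.range (e.hom ≫ f) = Set.range f := by
      rw [Scheme.Hom.comp_base, TopCat.coe_comp, Set.range_comp,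
        Set.range_eq_univ.mpr e.hom.surjective, Set.image_univ]
    rw [this]; exact hf
  · intro X Y Z e f hf
    show IsClosed (Set.range (f ≫ e.hom))
    have : Set.range (f ≫ e.hom) = e.hom '' Set.range f := by
      rw [Scheme.Hom.comp_base, TopCat.coe_comp, Set.range_comp]
    rw [this]
    exact e.hom.homeomorph.isClosedMap _ hf

instance closedRange_descendsAlong :
    (closedRange : MorphismProperty Scheme.{u}).DescendsAlong
      (SGA1.UnivSubmersive : MorphismProperty Scheme.{u}) where
  of_isPullback {A X Y Z fst snd f g} h hf hfst := by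
    show IsClosed (Set.range g)
    rw [← (isQuotientMap_of_univSubmersive hf).isClosed_preimage, ← Set.image_univ,
      ← Scheme.image_preimage_eq_of_isPullback h.flip, Set.preimage_univ, Set.image_univ]
    exact hfst

theorem isSeparated_iff_closedRange_diagonal {X Y : Scheme.{u}} (f : X ⟶ Y) :
    IsSeparated f ↔ (closedRange : MorphismProperty Scheme.{u}).diagonal f := by
  rw [isSeparated_iff]
  constructor
  · intro h
    exact (pullback.diagonal f).isClosedEmbedding.isClosed_range
  · intro h
    exact IsClosedImmersion.of_isPreimmersion _ h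

theorem isSeparated_descends {A X Y Z : Scheme.{u}} {fst : A ⟶ X} {snd : A ⟶ Y} {f : X ⟶ Z}
    {g : Y ⟶ Z} (h : IsPullback fst snd f g) (hf : SGA1.UnivSubmersive f)
    (hfst : IsSeparated fst) : IsSeparated g := by
  rw [isSeparated_iff_closedRange_diagonal] at hfst ⊢
  exact DescendsAlong.of_isPullback (Q := (SGA1.UnivSubmersive : MorphismProperty Scheme.{u})) h hf hfst


/-- Let g : S' ⟶ S be universally submersive, f : X ⟶ Y a morphism of S-schemes (Y ⟶ S the structure
map) and f' its base change along S' ⟶ S, realised as X ×_S S' ⟶ Y ×_S S'. If f' is open (resp.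
closed) then so is f; if f' is universally open (resp. universally closed, resp. separated) then so
is f; and if moreover g is quasi-compact and f locally of finite type, then f is proper as soon as
f' is. -/
theorem result {S' S X Y : Scheme.{u}} (g : S' ⟶ S) (hg : SGA1.UnivSubmersive g)
    (f : X ⟶ Y) (q : Y ⟶ S) :
    (IsOpenMap (pullback.map (f ≫ q) g q g f (𝟙 S') (𝟙 S) (Category.comp_id _) ((Category.comp_id _).trans (Category.id_comp _).symm)).base → IsOpenMap f.base) ∧
    (IsClosedMap (pullback.map (f ≫ q) g q g f (𝟙 S') (𝟙 S) (Category.comp_id _) ((Category.comp_id _).trans (Category.id_comp _).symm)).base → IsClosedMap f.base) ∧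
    (UniversallyOpen (pullback.map (f ≫ q) g q g f (𝟙 S') (𝟙 S) (Category.comp_id _) ((Category.comp_id _).trans (Category.id_comp _).symm)) → UniversallyOpen f) ∧
    (UniversallyClosed (pullback.map (f ≫ q) g q g f (𝟙 S') (𝟙 S) (Category.comp_id _) ((Category.comp_id _).trans (Category.id_comp _).symm)) → UniversallyClosed f) ∧
    (IsSeparated (pullback.map (f ≫ q) g q g f (𝟙 S') (𝟙 S) (Category.comp_id _) ((Category.comp_id _).trans (Category.id_comp _).symm)) → IsSeparated f) ∧
    (QuasiCompact g → LocallyOfFiniteType f →
      IsProper (pullback.map (f ≫ q) g q g f (𝟙 S') (𝟙 S) (Category.comp_id _) ((Category.comp_id _).trans (Category.id_comp _).symm)) → IsProper f) := by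
  have hQ : SGA1.UnivSubmersive (pullback.fst q g) := MorphismProperty.pullback_fst _ _ hg
  have hsq : IsPullback
      (pullback.map (f ≫ q) g q g f (𝟙 S') (𝟙 S) (Category.comp_id _)
        ((Category.comp_id _).trans (Category.id_comp _).symm))
      (pullback.fst (f ≫ q) g) (pullback.fst q g) f := by
    have hbig : IsPullback (pullback.snd (f ≫ q) g) (pullback.fst (f ≫ q) g) g (f ≫ q) :=
      (IsPullback.of_hasPullback (f ≫ q) g).flip
    have hright : IsPullback (pullback.snd q g) (pullback.fst q g) g q :=
      (IsPullback.of_hasPullback q g).flip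
    have h1 : pullback.map (f ≫ q) g q g f (𝟙 S') (𝟙 S) (Category.comp_id _)
        ((Category.comp_id _).trans (Category.id_comp _).symm) ≫ pullback.snd q g
        = pullback.snd (f ≫ q) g := by
      rw [pullback.lift_snd, Category.comp_id]
    have h2 : pullback.map (f ≫ q) g q g f (𝟙 S') (𝟙 S) (Category.comp_id _)
        ((Category.comp_id _).trans (Category.id_comp _).symm) ≫ pullback.fst q g
        = pullback.fst (f ≫ q) g ≫ f := by
      rw [pullback.lift_fst]
    exact IsPullback.of_right (by rw [h1]; exact hbig) h2 hright
  refine ⟨?_, ?_, ?_, ?_, ?_, ?_⟩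
  · intro h
    exact MorphismProperty.DescendsAlong.of_isPullback (P := topologically @IsOpenMap)
      (Q := (SGA1.UnivSubmersive : MorphismProperty Scheme.{u})) hsq hQ h
  · intro h
    exact MorphismProperty.DescendsAlong.of_isPullback (P := topologically @IsClosedMap)
      (Q := (SGA1.UnivSubmersive : MorphismProperty Scheme.{u})) hsq hQ h
  · intro h
    exact universallyOpen_descends hsq hQ h
  · intro h
    exact universallyClosed_descends hsq hQ h
  · intro h
    exact isSeparated_descends hsq hQ h
  · intro _ hlft h
    haveI := hlft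
    haveI : IsSeparated f := isSeparated_descends hsq hQ h.toIsSeparated
    haveI : UniversallyClosed f := universallyClosed_descends hsq hQ h.toUniversallyClosed
    exact {}

end Groth.Agent.S2917
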