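import Groth.Statements.S2926
import Groth.Agent.Lib.H43ExtSheafHomLin
import Groth.Agent.Lib.H43SheafHomLocFree
import Groth.Agent.Lib.H90InvertibleFP
import Groth.Agent.S15516

set_option autoImplicit false
universe u
open CategoryTheory AlgebraicGeometry
attribute [local instance] HasDerivedCategory.standard
open ProjDual

namespace Groth.Agent.S2926

/-- Serre duality on projective space, for a finite locally free module: let k be a field, X = P^r_k and
F a finite locally free O_X-module; assume the internal Hom functor Hom_{O_X}(F, −) exists as the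
right adjoint of − ⊗ F (an instance binder). For every i ≤ r the k-dual of H^i(X, F) is k-linearly
isomorphic to H^{r−i}(X, Hom_{O_X}(F, O_X(−r−1))). (The published statement is for coherent F, with
Ext^{r−i}(F, O_X(−r−1)) on the right; stated here in the locally free case.) -/
theorem result (k : Type u) [Field k] (r : ℕ) (F : (CohB1.ProjSpace r k).Modules) (hF : FlatMod.IsFinLocFree F) [DCoh.HasSheafHom F] (i : ℕ) (hi : i ≤ r) : Nonempty (Module.Dual k (Coh.HH (CohB1.ProjSpace r k) F i) ≃ₗ[k] Coh.HH (CohB1.ProjSpace r k) ((DCoh.sheafHom F).obj (Twist.twistProjSpace r k (-((r : ℤ) + 1)))) (r - i)) := by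
  have hinj : EnoughInjectives (CohB1.ProjSpace r k).Modules :=
    Groth.Agent.S0485.result _ (CohB1.ProjSpace r k).ringCatSheaf
  have hext : HasExt.{u} (CohB1.ProjSpace r k).Modules := hasExt_of_enoughInjectives _
  have hcoh : Coh.IsCoh F := Groth.Agent.Lib.H90Invertible.isCoh_of_isFinLocFree hF
  obtain ⟨e1⟩ := (Groth.Agent.S15516.result k r F hcoh).1 (r - i) (Nat.sub_le r i)
  have hri : r - (r - i) = i := by omega
  rw [hri] at e1
  -- exactness of the internal hom
  let τ : (DCoh.tensorBi (X := CohB1.ProjSpace r k)).obj F ≅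
      (ModSite.tensorBi (CohB1.ProjSpace r k).sheaf).obj F :=
    NatIso.ofComponents (fun N => Iso.refl _) (by
      intro N N' f
      simp only [Iso.refl_hom]
      exact (Category.comp_id _).trans (Category.id_comp _).symm)
  let adj : (ModSite.tensorBi (CohB1.ProjSpace r k).sheaf).obj F ⊣ DCoh.sheafHom F :=
    (DCoh.sheafHomAdj F).ofNatIsoLeft τ
  have hS : ModSite.HasSheafHom (O := (CohB1.ProjSpace r k).sheaf) F :=
    Groth.Agent.Lib.ModSiteTensor.hasSheafHom (CohB1.ProjSpace r k).sheaf F
  have h1 : Limits.PreservesFiniteColimits (ModSite.sheafHom (O := (CohB1.ProjSpace r k).sheaf) F) :=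
    Groth.Agent.Lib.H43SheafHomLocFree.preservesFiniteColimits_sheafHom F hF
  have h2 : Limits.PreservesFiniteColimits (DCoh.sheafHom F) :=
    @Limits.preservesFiniteColimits_of_natIso _ _ _ _ _ _
      (Groth.Agent.Lib.H43ExtSheafHom.rightAdjIso (CohB1.ProjSpace r k).sheaf F adj).symm h1
  obtain ⟨e2⟩ := Groth.Agent.Lib.H43ExtSheafHomLin.nonempty_ext_linearEquiv_HH k F (DCoh.sheafHom F)
    (DCoh.sheafHomAdj F) (Twist.twistProjSpace r k (-((r : ℤ) + 1))) (r - i)
  exact ⟨e1.symm.trans e2⟩

end Groth.Agent.S2926
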