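import Groth.Statements.S2933
import Groth.Agent.Lib.HartshorneConn
-- import your own Groth.Agent.* helpers here

set_option autoImplicit false
universe u
open LocCoh

namespace Groth.Agent.S2933

/-- Let A be a Noetherian ring with connected spectrum and d ≥ 1 an integer such that every prime p with
dim A_p ≥ d has depth A_p ≥ 2. Then for any two minimal primes p', p'' of A there is a finite
sequence of minimal primes starting at p' and ending at p'' such that any two consecutive members
are both contained in some prime of height at most d − 1 (Spec A is connected in codimension d − 1). -/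
theorem result (A : Type u) [CommRing A] [IsNoetherianRing A] [ConnectedSpace (PrimeSpectrum A)] (d : ℕ) (hd : 1 ≤ d) (h : ∀ p : PrimeSpectrum A, (d : ℕ∞) ≤ p.asIdeal.height → (2 : ℕ∞) ≤ LocCoh.depth (Localization.AtPrime p.asIdeal) (Localization.AtPrime p.asIdeal)) (p' p'' : PrimeSpectrum A) (hp' : p'.asIdeal ∈ minimalPrimes A) (hp'' : p''.asIdeal ∈ minimalPrimes A) : ∃ l : List (PrimeSpectrum A), l.head? = some p' ∧ l.getLast? = some p'' ∧ (∀ p ∈ l, p.asIdeal ∈ minimalPrimes A) ∧ List.IsChain (fun p q => ∃ r : PrimeSpectrum A, p ≤ r ∧ q ≤ r ∧ r.asIdeal.height ≤ (d - 1 : ℕ)) l := by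
  classical
  let P : Ideal A → Prop := fun q => q.height ≤ ((d - 1 : ℕ) : ℕ∞)
  have hP : ∀ (p : Ideal A) [p.IsPrime], ¬ P p →
      (2 : ℕ∞) ≤ LocCoh.depth (Localization.AtPrime p) (Localization.AtPrime p) := by
    intro p hp hnP
    apply h ⟨p, hp⟩
    have hnP' : ¬ (p.height ≤ ((d - 1 : ℕ) : ℕ∞)) := hnP
    change (d : ℕ∞) ≤ p.height
    cases hh : p.height with
    | top => exact le_top
    | coe n =>
      rw [hh] at hnP'
      have : ¬ (n ≤ d - 1) := fun hle => hnP' (by exact_mod_cast hle)
      exact_mod_cast (by omega : d ≤ n)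
  have hpath := Groth.Agent.Lib.HartshorneConn.reflTransGen_rel A P hP p'.asIdeal p''.asIdeal hp' hp''
  -- convert the path into a list of points of the spectrum
  have key : ∀ a : Ideal A, Relation.ReflTransGen (Groth.Agent.Lib.HartshorneConn.Rel A P) a p''.asIdeal →
      ∀ (ha : a.IsPrime), a ∈ minimalPrimes A → ∃ l : List (PrimeSpectrum A),
        List.IsChain (fun p q => ∃ r : PrimeSpectrum A, p ≤ r ∧ q ≤ r ∧
          r.asIdeal.height ≤ (d - 1 : ℕ)) ((⟨a, ha⟩ : PrimeSpectrum A) :: l) ∧
        List.getLast ((⟨a, ha⟩ : PrimeSpectrum A) :: l) (List.cons_ne_nil _ _) = p'' ∧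
        ∀ p ∈ ((⟨a, ha⟩ : PrimeSpectrum A) :: l), p.asIdeal ∈ minimalPrimes A := by
    intro a hpa
    refine Relation.ReflTransGen.head_induction_on hpa ?_ ?_
    · intro ha hamin
      refine ⟨[], List.IsChain.singleton _, rfl, ?_⟩
      intro p hp
      rw [List.mem_singleton] at hp
      rw [hp]
      exact hamin
    · intro x y hxy _ ih hx hxmin
      obtain ⟨hxm, hym, r, hr, hxr, hyr, hPr⟩ := hxy
      obtain ⟨l, hl1, hl2, hl3⟩ := ih hym.1.1 hym
      refine ⟨(⟨y, hym.1.1⟩ : PrimeSpectrum A) :: l, List.IsChain.cons_cons ?_ hl1, ?_, ?_⟩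
      · exact ⟨⟨r, hr⟩, hxr, hyr, hPr⟩
      · rw [List.getLast_cons_cons]
        exact hl2
      · intro p hp
        rcases List.mem_cons.mp hp with hp | hp
        · rw [hp]; exact hxmin
        · exact hl3 p hp
  obtain ⟨l, hl1, hl2, hl3⟩ := key p'.asIdeal hpath p'.isPrime hp'
  refine ⟨p' :: l, rfl, ?_, hl3, hl1⟩
  rw [List.getLast?_eq_some_getLast (List.cons_ne_nil _ _)]
  exact congrArg some hl2

end Groth.Agent.S2933
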