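import Groth.Statements.S2936
import Groth.Agent.Lib.MatlisLC9b

set_option autoImplicit false
universe u
open LocCoh

namespace Groth.Agent.S2936

/-- (iii), for a complete local ring. Let A be a complete Noetherian local ring with maximal ideal m, κ
→ E an injective hull of the residue field, and M a nonzero finite A-module whose support has
dimension n. Then for every i the A-module Hom_A(H^i_m(M), E) is finite with support of dimension at
most i; for i = n its support has dimension exactly n and its associated primes are exactly the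
associated primes p of M with dim A/p = n. -/
theorem result (A : Type u) [CommRing A] [IsLocalRing A] [IsNoetherianRing A] [IsAdicComplete (IsLocalRing.maximalIdeal A) A] (E : Type u) [AddCommGroup E] [Module A E] (f : IsLocalRing.ResidueField A →ₗ[A] E) (hf : InjHull.IsInjectiveHull f) (M : Type u) [AddCommGroup M] [Module A M] [Module.Finite A M] [Nontrivial M] (n : ℕ) (hn : Module.supportDim A M = n) : (∀ i : ℕ, Module.Finite A (LocCoh.H (IsLocalRing.maximalIdeal A) i M →ₗ[A] E) ∧ Module.supportDim A (LocCoh.H (IsLocalRing.maximalIdeal A) i M →ₗ[A] E) ≤ (i : WithBot ℕ∞)) ∧ Module.supportDim A (LocCoh.H (IsLocalRing.maximalIdeal A) n M →ₗ[A] E) = n ∧ associatedPrimes A (LocCoh.H (IsLocalRing.maximalIdeal A) n M →ₗ[A] E) = {p | p ∈ associatedPrimes A M ∧ ringKrullDim (A ⧸ p) = n} := by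
  refine ⟨fun i => ⟨Groth.Agent.Lib.MatlisLC9.finite_D E f hf i M,
    Groth.Agent.Lib.MatlisLC9.supportDim_D_le E f hf i M⟩, ?_⟩
  obtain ⟨N, -, -, hdimN, -, hassN, hbij⟩ := Groth.Agent.S11639.result A M n hn
  have e : Groth.Agent.Lib.MatlisLC9.D A E n M ≃ₗ[A] Groth.Agent.Lib.MatlisLC9.D A E n (M ⧸ N) :=
    LinearEquiv.congrLeft E A (LinearEquiv.ofBijective
      (Groth.Agent.Lib.LocCohLES.Hmap (IsLocalRing.maximalIdeal A) N.mkQ n) hbij)
  have hA : ∀ q ∈ associatedPrimes A (M ⧸ N), ringKrullDim (A ⧸ q) = (n : WithBot ℕ∞) := by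
    rw [hassN]
    intro q hq
    exact hq.2
  have hass : associatedPrimes A (LocCoh.H (IsLocalRing.maximalIdeal A) n M →ₗ[A] E) =
      {p | p ∈ associatedPrimes A M ∧ ringKrullDim (A ⧸ p) = n} := by
    rw [LinearEquiv.AssociatedPrimes.eq e]
    refine Eq.trans ?_ hassN
    exact Set.Subset.antisymm (Groth.Agent.Lib.MatlisLC9.ass_D_subset E n _ hdimN hA)
      (Groth.Agent.Lib.MatlisLC9.ass_subset_ass_D E f hf n _ hdimN hA)
  refine ⟨?_, hass⟩
  apply le_antisymm (Groth.Agent.Lib.MatlisLC9.supportDim_D_le E f hf n M)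
  haveI hnt := (Groth.Agent.Lib.NonVanish9.main n M hn).1
  haveI : Nontrivial (LocCoh.H (IsLocalRing.maximalIdeal A) n M →ₗ[A] E) := by
    obtain ⟨y, hy⟩ := exists_ne (0 : LocCoh.H (IsLocalRing.maximalIdeal A) n M)
    obtain ⟨φ, hφ⟩ := Groth.Agent.Lib.H29Matlis.exists_dual_ne_zero f hf y hy
    exact ⟨⟨φ, 0, fun h => hφ (by rw [h]; rfl)⟩⟩
  haveI := Groth.Agent.Lib.MatlisLC9.finite_D E f hf n M
  obtain ⟨p, hp⟩ := associatedPrimes.nonempty A (LocCoh.H (IsLocalRing.maximalIdeal A) n M →ₗ[A] E)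
  have hp' := hp
  rw [hass] at hp'
  have hpS : (⟨p, hp.isPrime⟩ : PrimeSpectrum A) ∈
      Module.support A (LocCoh.H (IsLocalRing.maximalIdeal A) n M →ₗ[A] E) := by
    rw [Module.mem_support_iff_of_finite, ← Submodule.annihilator_top]
    exact hp.annihilator_le
  rw [← hp'.2]
  exact Groth.Agent.Lib.DepthRees.ringKrullDim_quotient_le_supportDim ⟨p, hp.isPrime⟩ hpS

end Groth.Agent.S2936
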