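-- Statement S2938.
import Groth.Statements.S2938
import Groth.Agent.Lib.DepthRees
import Groth.Agent.Lib.H47Reflexive
import Mathlib

set_option autoImplicit false
universe u
open scoped TensorProduct
open LocCoh

namespace Groth.Agent.S2938

open RingTheory.Sequence Groth.Agent.Lib.DepthRees Groth.Agent.Lib.H47Reflexive

section Helpers

variable {A B : Type u} [CommRing A] [CommRing B] [Algebra A B]

theorem map_mem_smul_top {M N : Type u} [AddCommGroup M] [Module A M] [AddCommGroup N]
    [Module A N] [Module B N] [IsScalarTower A B N] (f : M →ₗ[A] N) (I : Ideal A) (m : M)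
    (hm : m ∈ I • (⊤ : Submodule A M)) :
    f m ∈ I.map (algebraMap A B) • (⊤ : Submodule B N) := by
  refine Submodule.smul_induction_on hm ?_ ?_
  · intro a ha m' _
    rw [map_smul, ← algebraMap_smul B a (f m')]
    exact Submodule.smul_mem_smul (Ideal.mem_map_of_mem _ ha) Submodule.mem_top
  · intro x y hx hy
    rw [map_add]
    exact Submodule.add_mem _ hx hy

theorem smul_top_eq_top_of_isBaseChange {M N : Type u} [AddCommGroup M] [Module A M]
    [AddCommGroup N] [Module A N] [Module B N] [IsScalarTower A B N] {f : M →ₗ[A] N}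
    (hf : IsBaseChange B f) (I : Ideal A) (h : I • (⊤ : Submodule A M) = ⊤) :
    I.map (algebraMap A B) • (⊤ : Submodule B N) = ⊤ := by
  rw [eq_top_iff]
  rintro n -
  refine hf.inductionOn n (fun n => n ∈ I.map (algebraMap A B) • (⊤ : Submodule B N))
    (Submodule.zero_mem _) ?_ ?_ ?_
  · intro m
    exact map_mem_smul_top f I m (by rw [h]; exact Submodule.mem_top)
  · intro s n hn
    exact Submodule.smul_mem _ s hn
  · intro n₁ n₂ h₁ h₂
    exact Submodule.add_mem _ h₁ h₂

theorem idealDepth_eq_top_of_smul_top {R : Type u} [CommRing R] (I : Ideal R) (M : Type u)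
    [AddCommGroup M] [Module R M] (h : I • (⊤ : Submodule R M) = ⊤) :
    LocCoh.idealDepth I M = ⊤ := by
  unfold LocCoh.idealDepth
  rw [if_pos h]

theorem le_of_flat [Module.Flat A B] {M N : Type u} [AddCommGroup M] [Module A M]
    [AddCommGroup N] [Module A N] [Module B N] [IsScalarTower A B N] {f : M →ₗ[A] N}
    (hf : IsBaseChange B f) (I : Ideal A) :
    LocCoh.idealDepth I M ≤ LocCoh.idealDepth (I.map (algebraMap A B)) N := by
  by_cases hIM : I • (⊤ : Submodule A M) = ⊤
  · rw [idealDepth_eq_top_of_smul_top _ N (smul_top_eq_top_of_isBaseChange hf I hIM)]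
    exact le_top
  by_cases hJN : I.map (algebraMap A B) • (⊤ : Submodule B N) = ⊤
  · rw [idealDepth_eq_top_of_smul_top _ N hJN]
    exact le_top
  rw [← ENat.forall_natCast_le_iff_le]
  intro n hn
  rw [natCast_le_idealDepth_iff I M hIM] at hn
  obtain ⟨rs, hlen, hmem, hreg⟩ := hn
  rw [natCast_le_idealDepth_iff _ N hJN]
  refine ⟨rs.map (algebraMap A B), by rw [List.length_map, hlen], ?_,
    hreg.of_flat_of_isBaseChange hf⟩
  intro r hr
  obtain ⟨a, ha, rfl⟩ := List.mem_map.1 hr
  exact Ideal.mem_map_of_mem _ (hmem a ha)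


theorem injective_of_isBaseChange [Module.FaithfullyFlat A B] {M N : Type u} [AddCommGroup M]
    [Module A M] [AddCommGroup N] [Module A N] [Module B N] [IsScalarTower A B N]
    {f : M →ₗ[A] N} (hf : IsBaseChange B f) : Function.Injective f := by
  have h1 : Function.Injective (TensorProduct.mk A B M 1) :=
    Module.FaithfullyFlat.tensorProduct_mk_injective (A := A) (B := B) M
  have h2 : ∀ m, f m = hf.equiv (TensorProduct.mk A B M 1 m) := by
    intro m
    rw [TensorProduct.mk_apply, hf.equiv_tmul, one_smul]
  intro m m' h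
  apply h1
  apply hf.equiv.injective
  rw [← h2, ← h2, h]

theorem finite_of_isBaseChange {M N : Type u} [AddCommGroup M]
    [Module A M] [Module.Finite A M] [AddCommGroup N] [Module A N] [Module B N]
    [IsScalarTower A B N] {f : M →ₗ[A] N} (hf : IsBaseChange B f) : Module.Finite B N :=
  Module.Finite.equiv hf.equiv

theorem le_of_faithfullyFlat [IsNoetherianRing A] [IsNoetherianRing B]
    [Module.FaithfullyFlat A B] (I : Ideal A) (d : ℕ) :
    ∀ (M : Type u) [AddCommGroup M] [Module A M] [Module.Finite A M] (N : Type u)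
      [AddCommGroup N] [Module A N] [Module B N] [IsScalarTower A B N] (f : M →ₗ[A] N)
      (_ : IsBaseChange B f), I • (⊤ : Submodule A M) ≠ ⊤ → LocCoh.idealDepth I M = d →
      LocCoh.idealDepth (I.map (algebraMap A B)) N ≤ d := by
  induction d with
  | zero =>
    intro M _ _ _ N _ _ _ _ f hf hIM hd
    have : Module.Finite B N := finite_of_isBaseChange hf
    have h1 : ¬ (1 ≤ LocCoh.idealDepth I M) := by
      rw [hd]; simp
    rw [one_le_idealDepth_iff] at h1
    unfold TF at h1
    push Not at h1
    obtain ⟨m, hm, hm0⟩ := h1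
    have h2 : ¬ TF (I.map (algebraMap A B)) N := by
      intro hTF
      have hfm : f m = 0 := by
        apply hTF
        intro b hb
        refine Submodule.span_induction ?_ ?_ ?_ ?_ hb
        · rintro _ ⟨a, ha, rfl⟩
          rw [algebraMap_smul, ← map_smul, hm a ha, map_zero]
        · exact zero_smul _ _
        · intro x y _ _ hx hy
          rw [add_smul, hx, hy, add_zero]
        · intro c x _ hx
          rw [smul_eq_mul, mul_smul, hx, smul_zero]
      exact hm0 (injective_of_isBaseChange hf (by rw [hfm, map_zero]))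
    rw [← one_le_idealDepth_iff] at h2
    have h3 : LocCoh.idealDepth (I.map (algebraMap A B)) N < 1 := not_le.1 h2
    rw [Order.lt_one_iff] at h3
    rw [h3]
    simp
  | succ d ih =>
    intro M _ _ _ N _ _ _ _ f hf hIM hd
    have : Module.Finite B N := finite_of_isBaseChange hf
    have h1 : ((1 : ℕ) : ℕ∞) ≤ LocCoh.idealDepth I M := by
      rw [hd]; simp
    rw [natCast_le_idealDepth_iff I M hIM] at h1
    obtain ⟨rs, hlen, hmem, hreg⟩ := h1
    obtain ⟨x, rfl⟩ := List.length_eq_one_iff.1 hlen
    have hxI : x ∈ I := hmem x (by simp)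
    have hx : IsSMulRegular M x := by
      simpa using (isWeaklyRegular_cons_iff M x []).1 hreg |>.1
    have hJN : I.map (algebraMap A B) • (⊤ : Submodule B N) ≠ ⊤ :=
      (hf.map_smul_top_ne_top_iff_of_faithfullyFlat A M I).2 hIM
    have hx' : IsSMulRegular N (algebraMap A B x) := hx.of_flat_of_isBaseChange hf
    have hxJ : algebraMap A B x ∈ I.map (algebraMap A B) := Ideal.mem_map_of_mem _ hxI
    have hR1 := idealDepth_quotSMulTop_add_one I M hIM hxI hx
    have hR2 := idealDepth_quotSMulTop_add_one (I.map (algebraMap A B)) N hJN hxJ hx'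
    have e := (QuotSMulTop.algebraMapTensorEquivTensorQuotSMulTop x M B).symm ≪≫ₗ
      QuotSMulTop.congr ((algebraMap A B) x) hf.equiv
    have hg : IsBaseChange B <|
        e.toLinearMap.restrictScalars A ∘ₗ TensorProduct.mk A B (QuotSMulTop x M) 1 :=
      IsBaseChange.of_equiv e (fun _ ↦ by simp)
    have hd' : LocCoh.idealDepth I (QuotSMulTop x M) = d := by
      rw [hd] at hR1
      have : LocCoh.idealDepth I (QuotSMulTop x M) + 1 = (d : ℕ∞) + 1 := by
        rw [hR1]; push_cast; rfl
      exact (ENat.add_left_injective_of_ne_top ENat.one_ne_top) this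
    have hIM' := smul_top_quotSMulTop_ne_top hxI hIM
    have := ih (QuotSMulTop x M) (QuotSMulTop (algebraMap A B x) N) _ hg hIM' hd'
    rw [← hR2]
    push_cast
    exact add_le_add_left this 1

end Helpers

/-- Suppose A and B are Noetherian rings with a ring map A → B, I is an ideal of A and M is a finitely
generated A-module. When B is A-flat, depth_{IB}(B ⊗_A M) ≥ depth_I(M); when B is faithfully flat
over A, the two depths are equal. -/
theorem result (A B : Type u) [CommRing A] [CommRing B] [Algebra A B] [IsNoetherianRing A] [IsNoetherianRing B] (I : Ideal A) (M : Type u) [AddCommGroup M] [Module A M] [Module.Finite A M] : (Module.Flat A B → LocCoh.idealDepth I M ≤ LocCoh.idealDepth (I.map (algebraMap A B)) (B ⊗[A] M)) ∧ (Module.FaithfullyFlat A B → LocCoh.idealDepth (I.map (algebraMap A B)) (B ⊗[A] M) = LocCoh.idealDepth I M) := by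
  have hbc : IsBaseChange B (TensorProduct.mk A B M 1) := TensorProduct.isBaseChange A M B
  constructor
  · intro _
    exact le_of_flat hbc I
  · intro hff
    have hflat : Module.Flat A B := inferInstance
    refine le_antisymm ?_ (le_of_flat hbc I)
    by_cases hIM : I • (⊤ : Submodule A M) = ⊤
    · rw [idealDepth_eq_top_of_smul_top I M hIM]
      exact le_top
    · rcases h : LocCoh.idealDepth I M with _ | d
      · exact le_top
      · exact le_of_faithfullyFlat I d M _ _ hbc hIM h

end Groth.Agent.S2938
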