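import Groth.Statements.S2954
import Groth.Agent.Lib.RootDZc58
import Groth.Agent.S2953

set_option autoImplicit false
open RootPairing
open scoped Pointwise
universe u
open RootD

namespace Groth.Agent.S2954

/-- For a finite crystallographic reduced root pairing (over a domain of characteristic zero), the Weyl
group acts freely and transitively on bases: for two bases b, b' there is exactly one element of the
Weyl group carrying the set of simple roots of b onto that of b'. -/
theorem result {ι R M N : Type*} [CommRing R] [CharZero R] [IsDomain R] [AddCommGroup M] [Module R M]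
    [AddCommGroup N] [Module R N] (P : RootPairing ι R M N) [Finite ι] [P.IsCrystallographic] [P.IsReduced]
    (b b' : P.Base) :
    ∃! g : P.weylGroup, (fun i : ι => (g : P.Aut) • i) '' (b.support : Set ι) = (b'.support : Set ι) := by
  obtain ⟨l, hl⟩ := Groth.Agent.Lib.RootDZ58.exists_wprod_image_support_eq P b b'
  refine ⟨⟨Groth.Agent.S2953.wprod P l, Groth.Agent.Lib.RootDZ58.wprod_mem_weylGroup' P l⟩, hl, ?_⟩
  intro g hg
  obtain ⟨m, -, hmg⟩ := Groth.Agent.S2953.exists_list_of_mem P b (g : P.Aut) g.2
  set w₀ := Groth.Agent.S2953.wprod P l with hw₀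
  have hword : Groth.Agent.S2953.wprod P (l.reverse ++ m) = w₀⁻¹ * (g : P.Aut) := by
    rw [Groth.Agent.S2953.wprod_append, ← Groth.Agent.S2953.wprod_inv, hmg]
  have himg : (fun i : ι => Groth.Agent.S2953.wprod P (l.reverse ++ m) • i) '' (b.support : Set ι) =
      (b.support : Set ι) := by
    rw [hword]
    have h1 : (fun i : ι => (w₀⁻¹ * (g : P.Aut)) • i) =
        (fun i : ι => w₀⁻¹ • i) ∘ (fun i : ι => (g : P.Aut) • i) := by
      funext i; exact mul_smul w₀⁻¹ (g : P.Aut) i
    rw [h1, Set.image_comp, hg, ← hl, ← Set.image_comp]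
    have h2 : ((fun i : ι => w₀⁻¹ • i) ∘ fun i : ι => w₀ • i) = id := by
      funext i; exact inv_smul_smul w₀ i
    rw [h2, Set.image_id]
  have hfix := Groth.Agent.Lib.RootDZ58.wprod_smul_eq_self_of_image_eq P b _ himg
  have hone : w₀⁻¹ * (g : P.Aut) = 1 := by
    apply Groth.Agent.S2953.result P b _
      (Subgroup.mul_mem _ (Subgroup.inv_mem _ (Groth.Agent.Lib.RootDZ58.wprod_mem_weylGroup' P l)) g.2)
    intro i hi
    rw [← hword, hfix]
    exact hi
  apply Subtype.ext
  show (g : P.Aut) = w₀
  have := congrArg (fun x => w₀ * x) hone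
  simp only [mul_inv_cancel_left, mul_one] at this
  exact this

end Groth.Agent.S2954
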