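import Groth.Statements.S2955
-- import your own Groth.Agent.* helpers here

set_option autoImplicit false
open RootPairing
open scoped Pointwise Classical
universe u
open RootD

namespace Groth.Agent.S2955

/-- Let P be a finite crystallographic reduced root pairing over a domain of characteristic zero, with a
base b, and write 2ρ for the sum of the positive roots with respect to b. Then for every simple root
β (an index in the support of b) the reflection in β sends 2ρ to 2ρ − 2β (equivalently, the coroot
of β pairs to 1 with ρ; only the reflection identity is asserted). -/
theorem result {ι R M N : Type*} [CommRing R] [CharZero R] [IsDomain R] [AddCommGroup M] [Module R M]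
    [AddCommGroup N] [Module R N] (P : RootPairing ι R M N) [Finite ι] [P.IsCrystallographic] [P.IsReduced]
    [Fintype ι] (b : P.Base) (j : ι) (hj : j ∈ b.support) :
    P.reflection j (∑ i, if b.IsPos i then P.root i else 0) =
      (∑ i, if b.IsPos i then P.root i else 0) - (2 : R) • P.root j := by
  set s := P.reflectionPerm j with hs
  have hss : ∀ k, s (s k) = k := fun k => P.reflectionPerm_self j k
  have hposj : b.IsPos j := RootPairing.Base.isPos_of_mem_support hj
  have hnegj : ¬ b.IsPos (s j) := by
    have := RootPairing.Base.IsPos.neg_iff_not b j
    simp only [indexNeg_neg] at this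
    rw [hs, this]
    exact not_not.mpr hposj
  have hrootneg : P.root (s j) = - P.root j := by
    rw [hs, root_reflectionPerm, reflection_apply_self]
  have hne : j ≠ s j := fun h => hnegj (h ▸ hposj)
  have key : ∀ k, k ≠ j → k ≠ s j → (b.IsPos (s k) ↔ b.IsPos k) := by
    intro k hk1 hk2
    constructor
    · intro h
      have h2 : s k ≠ j := fun h3 => hk2 (by rw [← h3, hss])
      have := RootPairing.Base.IsPos.reflectionPerm h hj h2
      rwa [← hs, hss] at this
    · intro h
      exact RootPairing.Base.IsPos.reflectionPerm h hj hk1
  -- step 1: push the reflection inside and reindex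
  have step1 : P.reflection j (∑ i, if b.IsPos i then P.root i else 0) =
      ∑ k, if b.IsPos (s k) then P.root k else 0 := by
    rw [map_sum]
    rw [← Equiv.sum_comp s (fun k => if b.IsPos (s k) then P.root k else 0)]
    refine Finset.sum_congr rfl fun i _ => ?_
    rw [hss]
    split_ifs
    · rw [hs, root_reflectionPerm]
    · simp
  rw [step1, eq_sub_iff_add_eq, ← eq_sub_iff_add_eq', ← Finset.sum_sub_distrib]
  have hsub : ∑ k, ((if b.IsPos k then P.root k else 0) -
      (if b.IsPos (s k) then P.root k else 0)) =
      ∑ k ∈ ({j, s j} : Finset ι), ((if b.IsPos k then P.root k else 0) -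
      (if b.IsPos (s k) then P.root k else 0)) := by
    symm
    apply Finset.sum_subset (Finset.subset_univ _)
    intro k _ hk
    simp only [Finset.mem_insert, Finset.mem_singleton, not_or] at hk
    have := key k hk.1 hk.2
    by_cases hp : b.IsPos k
    · simp [hp, this.mpr hp]
    · simp [hp, mt this.mp hp]
  rw [hsub, Finset.sum_pair hne, hss]
  simp only [hposj, hnegj, if_true, if_false, hrootneg, sub_zero, zero_sub, neg_neg, two_smul]

end Groth.Agent.S2955
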