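import Groth.Statements.S2965
import Mathlib.LinearAlgebra.Charpoly.Basic
import Mathlib.RingTheory.Polynomial.Basic
-- import your own Groth.Agent.* helpers here

set_option autoImplicit false
universe u
open SGA3t2b

namespace Groth.Agent.S2965

open Polynomial in
theorem aeval_comm_apply {A : Type u} [CommRing A] {M : Type u} [AddCommGroup M] [Module A M]
    (u : M →ₗ[A] M) (p q : A[X]) (x : M) :
    aeval u p (aeval u q x) = aeval u q (aeval u p x) := by
  rw [← Module.End.mul_apply, ← Module.End.mul_apply, ← map_mul, ← map_mul, mul_comm]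

open Polynomial in
theorem ker_aeval_stable {A : Type u} [CommRing A] {M : Type u} [AddCommGroup M] [Module A M]
    (u : M →ₗ[A] M) (p q : A[X]) (x : M) (hx : x ∈ LinearMap.ker (aeval u p)) :
    aeval u q x ∈ LinearMap.ker (aeval u p) := by
  rw [LinearMap.mem_ker] at hx ⊢
  rw [aeval_comm_apply, hx, map_zero]

open Polynomial in
/-- Implication (iv) ⇒ (i) (global form, finite free module): let u be an endomorphism of a finite free
module M over a commutative ring A whose characteristic polynomial is X^r · Q with Q(0) invertible.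
Then M is the direct sum of two u-stable submodules M', M'' such that u is nilpotent on M' and
bijective on M''. -/
theorem result {A : Type u} [CommRing A] {M : Type u} [AddCommGroup M] [Module A M]
    [Module.Free A M] [Module.Finite A M] (u : M →ₗ[A] M) (r : ℕ) (Q : A[X]) (hQ : IsUnit (Q.coeff 0))
    (h : u.charpoly = X ^ r * Q) :
    ∃ M' M'' : Submodule A M, IsCompl M' M'' ∧ (∀ x ∈ M', u x ∈ M') ∧ (∀ x ∈ M'', u x ∈ M'') ∧
      (∃ n : ℕ, ∀ x ∈ M', (u ^ n) x = 0) ∧ Set.BijOn u M'' M'' := by
  obtain ⟨c, hc⟩ := hQ.exists_left_inv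
  -- X and Q are coprime
  have hQdecomp : Q.divX * X + C (Q.coeff 0) = Q := Polynomial.divX_mul_X_add Q
  have hcop1 : IsCoprime (X : A[X]) Q := by
    refine ⟨- (C c * Q.divX), C c, ?_⟩
    have : C c * C (Q.coeff 0) = (1 : A[X]) := by rw [← C_mul, hc, C_1]
    calc -(C c * Q.divX) * X + C c * Q
        = -(C c * Q.divX) * X + C c * (Q.divX * X + C (Q.coeff 0)) := by rw [hQdecomp]
      _ = C c * C (Q.coeff 0) := by ring
      _ = 1 := this
  have hcop : IsCoprime (X ^ r : A[X]) Q := hcop1.pow_left
  have hu : ∀ x, aeval u (X : A[X]) x = u x := fun x => by rw [aeval_X]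
  refine ⟨LinearMap.ker (aeval u (X ^ r : A[X])), LinearMap.ker (aeval u Q), ?_, ?_, ?_, ?_, ?_⟩
  · refine ⟨disjoint_ker_aeval_of_isCoprime u hcop, ?_⟩
    rw [codisjoint_iff, sup_ker_aeval_eq_ker_aeval_mul_of_coprime u hcop, ← h,
      LinearMap.aeval_self_charpoly, LinearMap.ker_zero]
  · intro x hx
    rw [← hu]
    exact ker_aeval_stable u _ _ x hx
  · intro x hx
    rw [← hu]
    exact ker_aeval_stable u _ _ x hx
  · refine ⟨r, fun x hx => ?_⟩
    rw [LinearMap.mem_ker, map_pow, aeval_X] at hx
    exact hx
  · -- key identity: Q(u) z = u (Q₁(u) z) + Q(0) z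
    have hkey : ∀ z, aeval u Q z = u (aeval u Q.divX z) + Q.coeff 0 • z := by
      intro z
      conv_lhs => rw [← hQdecomp]
      rw [map_add, map_mul, aeval_X, aeval_C, LinearMap.add_apply, Module.End.mul_apply,
        Module.algebraMap_end_apply, ← hu, aeval_comm_apply, hu]
    refine ⟨?_, ?_, ?_⟩
    · intro x hx
      rw [← hu]
      exact ker_aeval_stable u _ _ x hx
    · intro x hx y hy hxy
      have hz : x - y ∈ LinearMap.ker (aeval u Q) := Submodule.sub_mem _ hx hy
      have huz : u (x - y) = 0 := by rw [map_sub, hxy, sub_self]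
      rw [LinearMap.mem_ker, hkey, ← hu, ← aeval_comm_apply, hu, huz, map_zero, zero_add] at hz
      have : x - y = 0 := by
        calc x - y = (c * Q.coeff 0) • (x - y) := by rw [hc, one_smul]
          _ = c • (Q.coeff 0 • (x - y)) := by rw [mul_smul]
          _ = 0 := by rw [hz, smul_zero]
      exact sub_eq_zero.mp this
    · intro y hy
      have hy' := hy
      rw [SetLike.mem_coe, LinearMap.mem_ker, hkey] at hy'
      refine ⟨-(c • aeval u Q.divX y), ?_, ?_⟩
      · exact Submodule.neg_mem _ (Submodule.smul_mem _ _ (ker_aeval_stable u _ _ y hy))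
      · have h1 : Q.coeff 0 • y = - u (aeval u Q.divX y) := by
          rw [eq_neg_iff_add_eq_zero, add_comm]; exact hy'
        calc u (-(c • aeval u Q.divX y)) = c • (- u (aeval u Q.divX y)) := by
              rw [map_neg, map_smul, smul_neg]
          _ = c • (Q.coeff 0 • y) := by rw [h1]
          _ = (c * Q.coeff 0) • y := by rw [mul_smul]
          _ = y := by rw [hc, one_smul]

end Groth.Agent.S2965
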