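import Groth.Statements.S2966
import Groth.Agent.S7966
import Groth.Agent.Lib.UnipGroupLike

set_option autoImplicit false
universe u
open scoped TensorProduct
open SGA3t2b

namespace Groth.Agent.S2966

theorem result {k : Type u} [Field k] {AM AU : Type u} [CommRing AM] [CommRing AU]
    [HopfAlgebra k AM] [HopfAlgebra k AU] [Algebra.FiniteType k AM] [Algebra.FiniteType k AU]
    (hM : HopfRep.IsDiagonalizable (AlgebraicClosure k) (AlgebraicClosure k ⊗[k] AM)) (hU : HopfRep.IsUnipotent k AU) :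
    (∀ φ : AU →ₐc[k] AM, SGA3t2b.IsTrivialBialgHom φ) ∧ (∀ ψ : AM →ₐc[k] AU, SGA3t2b.IsTrivialBialgHom ψ) := by
  constructor
  · intro φ c
    let φ' : k ⊗[k] AU →ₐc[k] k ⊗[k] AM := Bialgebra.TensorProduct.map (BialgHom.id k k) φ
    have h := Groth.Agent.S7966.result k AM AU hM hU k φ' ((1 : k) ⊗ₜ[k] c)
    have h1 : φ' ((1 : k) ⊗ₜ[k] c) = (1 : k) ⊗ₜ[k] φ c := rfl
    rw [h1, TensorProduct.counit_tmul] at h
    have h2 := congrArg (TensorProduct.lid k AM) h
    rw [TensorProduct.lid_tmul, one_smul] at h2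
    rw [h2, Algebra.algebraMap_eq_smul_one, Algebra.algebraMap_eq_smul_one, map_smul,
      Algebra.TensorProduct.one_def, TensorProduct.lid_tmul, one_smul]
    have : CoalgebraStruct.counit (R := k) (1 : k) = 1 := rfl
    rw [this, smul_eq_mul, mul_one]
  · intro ψ a
    let K := AlgebraicClosure k
    let ψK : K ⊗[k] AM →ₐc[K] K ⊗[k] AU := Bialgebra.TensorProduct.map (BialgHom.id K K) ψ
    have hgl : ∀ χ : K ⊗[k] AM, IsGroupLikeElem K χ → ψK χ = 1 := fun χ hχ =>
      Groth.Agent.Lib.UnipGroupLike.groupLike_eq_one K hU (ψK χ) (hχ.map ψK)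
    have hall : ∀ y : K ⊗[k] AM, ψK y = CoalgebraStruct.counit (R := K) y • (1 : K ⊗[k] AU) := by
      intro y
      have hy : y ∈ Submodule.span K {a : K ⊗[k] AM | IsGroupLikeElem K a} := by
        rw [show Submodule.span K {a : K ⊗[k] AM | IsGroupLikeElem K a} = ⊤ from hM]
        trivial
      refine Submodule.span_induction ?_ ?_ ?_ ?_ hy
      · intro χ hχ
        rw [hgl χ hχ, hχ.counit_eq_one, one_smul]
      · simp
      · intro x y _ _ hx hy
        rw [map_add, map_add, add_smul, hx, hy]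
      · intro r x _ hx
        rw [map_smul, map_smul, hx, smul_assoc]
    have h := hall ((1 : K) ⊗ₜ[k] a)
    have h1 : ψK ((1 : K) ⊗ₜ[k] a) = (1 : K) ⊗ₜ[k] ψ a := rfl
    rw [h1, TensorProduct.counit_tmul] at h
    have hinj : Function.Injective (fun a : AU => (1 : K) ⊗ₜ[k] a) :=
      Algebra.TensorProduct.includeRight_injective
        (FaithfulSMul.algebraMap_injective k (AlgebraicClosure k))
    apply hinj
    change (1 : K) ⊗ₜ[k] ψ a = (1 : K) ⊗ₜ[k] (algebraMap k AU (CoalgebraStruct.counit (R := k) a))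
    rw [h, Algebra.algebraMap_eq_smul_one, TensorProduct.tmul_smul, Algebra.TensorProduct.one_def]
    have : CoalgebraStruct.counit (R := K) (1 : K) = 1 := rfl
    rw [this, TensorProduct.smul_tmul', TensorProduct.smul_tmul']
    simp

end Groth.Agent.S2966
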