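import Groth.Statements.S2967
-- import your own Groth.Agent.* helpers here

set_option autoImplicit false
universe u
open SGA3t2b

namespace Groth.Agent.S2967

section
variable {k : Type u} [Field k] (p : ℕ) [Fact p.Prime] [CharP k p]
    {V : Type u} [AddCommGroup V] [Module k V] (φ : V →ₛₗ[frobenius k p] V)

theorem iter_zero (n : ℕ) : φ^[n] 0 = 0 := by
  induction n with
  | zero => rfl
  | succ n ih => rw [Function.iterate_succ_apply, map_zero, ih]

theorem iter_add (n : ℕ) (x y : V) : φ^[n] (x + y) = φ^[n] x + φ^[n] y := by
  induction n generalizing x y with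
  | zero => rfl
  | succ n ih => rw [Function.iterate_succ_apply, map_add, ih, ← Function.iterate_succ_apply,
      ← Function.iterate_succ_apply]

theorem iter_smul (n : ℕ) (c : k) (x : V) : φ^[n] (c • x) = ((frobenius k p)^[n] c) • φ^[n] x := by
  induction n generalizing c x with
  | zero => rfl
  | succ n ih =>
    rw [Function.iterate_succ_apply, LinearMap.map_smulₛₗ, ih, ← Function.iterate_succ_apply,
      ← Function.iterate_succ_apply]

/-- the kernel of the `n`-th iterate, as a subspace -/
def iterKer (n : ℕ) : Submodule k V where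
  carrier := {x | φ^[n] x = 0}
  zero_mem' := iter_zero p φ n
  add_mem' := by
    intro x y hx hy
    change φ^[n] x = 0 at hx
    change φ^[n] y = 0 at hy
    change φ^[n] (x + y) = 0
    rw [iter_add, hx, hy, add_zero]
  smul_mem' := by
    intro c x hx
    change φ^[n] x = 0 at hx
    change φ^[n] (c • x) = 0
    rw [iter_smul, hx, smul_zero]

theorem mem_iterKer (n : ℕ) (x : V) : x ∈ iterKer p φ n ↔ φ^[n] x = 0 := Iff.rfl

theorem iterKer_mono {m n : ℕ} (h : m ≤ n) : iterKer p φ m ≤ iterKer p φ n := by
  intro x hx
  rw [mem_iterKer] at hx ⊢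
  obtain ⟨d, rfl⟩ := Nat.exists_eq_add_of_le h
  rw [add_comm, Function.iterate_add_apply, hx, iter_zero]

end

/-- A commutative p-Lie algebra over a field k of characteristic p is recorded as a k-vector space g
together with its p-th power map φ, which is additive and Frobenius-semilinear. Let g be
finite-dimensional and non-zero, and assume every element of g is killed by some iterate of φ (g is
unipotent). Then the k-subspace of g spanned by the image φ(g) is a proper subspace. -/
theorem result {k : Type u} [Field k] (p : ℕ) [Fact p.Prime] [CharP k p]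
    {V : Type u} [AddCommGroup V] [Module k V] [FiniteDimensional k V] [Nontrivial V]
    (φ : V →ₛₗ[frobenius k p] V) (hφ : ∀ x : V, ∃ n : ℕ, φ^[n] x = 0) :
    Submodule.span k (Set.range φ) ≠ ⊤ := by
  classical
  -- some iterate kills everything
  have hex : ∃ N : ℕ, iterKer p φ N = ⊤ := by
    obtain ⟨S, hS⟩ := (Module.Finite.fg_top : (⊤ : Submodule k V).FG)
    choose f hf using hφ
    refine ⟨S.sup f, ?_⟩
    rw [eq_top_iff, ← hS, Submodule.span_le]
    intro s hs
    exact iterKer_mono p φ (Finset.le_sup hs) ((mem_iterKer p φ _ _).mpr (hf s))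
  have hN := Nat.find_spec hex
  have hmin := fun m => Nat.find_min hex (m := m)
  set N := Nat.find hex with hNdef
  intro htop
  -- N is positive
  have hNpos : N ≠ 0 := by
    intro h0
    obtain ⟨x, hx⟩ := exists_ne (0 : V)
    have : x ∈ iterKer p φ N := by rw [hN]; trivial
    rw [mem_iterKer, h0] at this
    exact hx this
  obtain ⟨M, hM⟩ := Nat.exists_eq_succ_of_ne_zero hNpos
  apply hmin M (by omega)
  rw [eq_top_iff, ← htop, Submodule.span_le]
  rintro _ ⟨x, rfl⟩
  have : x ∈ iterKer p φ N := by rw [hN]; trivial
  rw [SetLike.mem_coe, mem_iterKer, ← Function.iterate_succ_apply, ← hM]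
  exact this

end Groth.Agent.S2967
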