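import Groth.Statements.S2971
import Groth.Agent.Lib.MTBase55c

set_option autoImplicit false
universe u
open TensorProduct SGA3b
open SGA3b

namespace Groth.Agent.S2971

open Groth.Agent.Lib.GLLift55 Groth.Agent.Lib.MTBase55

/-- Let R be a ring, I an ideal consisting of nilpotent elements and H = Spec A an R-group of
multiplicative type. If the base change of H to R/I is isotrivial (resp. quasi-isotrivial), so is H.
(Affine group schemes over an affine base are taken in Hopf-algebra form; base change is the tensor
product.) -/
theorem result (R : Type u) [CommRing R] (A : Type u) [CommRing A] [HopfAlgebra R A] (I : Ideal R) (hI : ∀ x ∈ I, IsNilpotent x) (h : IsMultType R A) :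
    (IsIsotrivial (R ⧸ I) ((R ⧸ I) ⊗[R] A) → IsIsotrivial R A) ∧
    (IsQuasiIsotrivial (R ⧸ I) ((R ⧸ I) ⊗[R] A) → IsQuasiIsotrivial R A) := by
  have hsR : Function.Surjective (algebraMap R (R ⧸ I)) := Ideal.Quotient.mk_surjective
  have hnR : ∀ x ∈ RingHom.ker (algebraMap R (R ⧸ I)), IsNilpotent x := by
    intro x hx
    apply hI
    rw [Ideal.Quotient.algebraMap_eq, Ideal.mk_ker] at hx
    exact hx
  constructor
  · -- isotrivial
    rintro ⟨R₀', _, _, het, hfin, hff, hd⟩
    letI algRR₀' : Algebra R R₀' :=
      ((algebraMap (R ⧸ I) R₀').comp (algebraMap R (R ⧸ I))).toAlgebra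
    haveI : IsScalarTower R (R ⧸ I) R₀' := IsScalarTower.of_algebraMap_eq' rfl
    have hD : IsDiag R₀' (R₀' ⊗[R] A) := (isDiag_cancel_iff R (R ⧸ I) R₀' A).1 hd
    obtain ⟨T, i1, algST, algRT, tow, het', hff', hfin', hdT⟩ :=
      exists_etale_diag_lift h R (R ⧸ I) hsR hnR R₀' hD
    obtain rfl : algRT = algST := by
      apply Algebra.algebra_ext
      intro r
      exact @IsScalarTower.algebraMap_apply R R T _ _ _ (Algebra.id R) algST algRT tow r
    exact ⟨T, i1, algRT, het', hfin' hfin, hff', hdT⟩
  · -- quasi-isotrivial
    rintro ⟨s₀, hs₀, hf₀⟩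
    refine ⟨(Ideal.Quotient.mk I) ⁻¹' s₀, ?_, ?_⟩
    · by_contra hne
      obtain ⟨m, hm, hle⟩ := Ideal.exists_le_maximal _ hne
      have hIm : I ≤ m := by
        intro x hx
        obtain ⟨N, hN⟩ := hI x hx
        exact hm.isPrime.mem_of_pow_mem N (hN ▸ m.zero_mem)
      have h1 : Ideal.span s₀ ≤ m.map (Ideal.Quotient.mk I) := by
        rw [Ideal.span_le]
        intro a ha
        obtain ⟨r, rfl⟩ := Ideal.Quotient.mk_surjective a
        exact Ideal.mem_map_of_mem _ (hle (Ideal.subset_span ha))
      rw [hs₀, top_le_iff] at h1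
      have h2 : m = ⊤ := by
        have h3 := Ideal.comap_map_of_surjective' (Ideal.Quotient.mk I)
          Ideal.Quotient.mk_surjective m
        rw [h1, Ideal.comap_top] at h3
        rw [h3, eq_comm, sup_eq_left]
        intro x hx
        rw [Ideal.mk_ker] at hx
        exact hIm hx
      exact hm.ne_top h2
    · intro f hf
      have hf' : Ideal.Quotient.mk I f ∈ s₀ := hf
      obtain ⟨T₀, _, _, het, hff, hd⟩ := hf₀ _ hf'
      letI algSS₀ : Algebra (Localization.Away f) (Localization.Away (Ideal.Quotient.mk I f)) :=
        (Localization.awayMap (Ideal.Quotient.mk I) f).toAlgebra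
      have hcomp : ∀ r : R, Localization.awayMap (Ideal.Quotient.mk I) f
          (algebraMap R (Localization.Away f) r) =
          algebraMap (R ⧸ I) (Localization.Away (Ideal.Quotient.mk I f))
            (Ideal.Quotient.mk I r) := fun r => IsLocalization.map_eq _ _
      have hs : Function.Surjective (algebraMap (Localization.Away f)
          (Localization.Away (Ideal.Quotient.mk I f))) := by
        show Function.Surjective (Localization.awayMap (Ideal.Quotient.mk I) f)
        rw [Localization.awayMap_surjective_iff]
        intro a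
        obtain ⟨b, rfl⟩ := Ideal.Quotient.mk_surjective a
        exact ⟨b, 0, by rw [pow_zero, one_mul]⟩
      have hn : ∀ x ∈ RingHom.ker (algebraMap (Localization.Away f)
          (Localization.Away (Ideal.Quotient.mk I f))), IsNilpotent x := by
        have hk := IsLocalization.ker_map (S := Localization.Away f)
          (Localization.Away (Ideal.Quotient.mk I f)) (Ideal.Quotient.mk I)
          (M := Submonoid.powers f) (T := Submonoid.powers (Ideal.Quotient.mk I f))
          (Submonoid.map_powers _ f)
        intro x hx
        have hx' : x ∈ (RingHom.ker (Ideal.Quotient.mk I)).map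
            (algebraMap R (Localization.Away f)) := by
          rw [← hk]
          exact hx
        rw [Ideal.mk_ker] at hx'
        exact map_nil I hI x hx'
      letI algR₀T₀ : Algebra (R ⧸ I) T₀ :=
        ((algebraMap (Localization.Away (Ideal.Quotient.mk I f)) T₀).comp
          (algebraMap (R ⧸ I) (Localization.Away (Ideal.Quotient.mk I f)))).toAlgebra
      haveI : IsScalarTower (R ⧸ I) (Localization.Away (Ideal.Quotient.mk I f)) T₀ :=
        IsScalarTower.of_algebraMap_eq' rfl
      letI algRT₀ : Algebra R T₀ :=
        ((algebraMap (R ⧸ I) T₀).comp (algebraMap R (R ⧸ I))).toAlgebra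
      haveI : IsScalarTower R (R ⧸ I) T₀ := IsScalarTower.of_algebraMap_eq' rfl
      have hd1 : IsDiag T₀ (T₀ ⊗[R ⧸ I] ((R ⧸ I) ⊗[R] A)) :=
        (isDiag_cancel_iff (R ⧸ I) (Localization.Away (Ideal.Quotient.mk I f)) T₀
          ((R ⧸ I) ⊗[R] A)).1 hd
      have hD : IsDiag T₀ (T₀ ⊗[R] A) := (isDiag_cancel_iff R (R ⧸ I) T₀ A).1 hd1
      letI algST₀ : Algebra (Localization.Away f) T₀ :=
        ((algebraMap (Localization.Away (Ideal.Quotient.mk I f)) T₀).comp
          (algebraMap (Localization.Away f) (Localization.Away (Ideal.Quotient.mk I f)))).toAlgebra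
      haveI : IsScalarTower (Localization.Away f) (Localization.Away (Ideal.Quotient.mk I f)) T₀ :=
        IsScalarTower.of_algebraMap_eq' rfl
      haveI : IsScalarTower R (Localization.Away f) T₀ := by
        apply IsScalarTower.of_algebraMap_eq
        intro r
        show algebraMap (Localization.Away (Ideal.Quotient.mk I f)) T₀
            (algebraMap (R ⧸ I) (Localization.Away (Ideal.Quotient.mk I f))
              (Ideal.Quotient.mk I r)) =
          algebraMap (Localization.Away (Ideal.Quotient.mk I f)) T₀
            (Localization.awayMap (Ideal.Quotient.mk I) f (algebraMap R (Localization.Away f) r))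
        rw [hcomp]
      obtain ⟨T, i1, algST, algRT, tow, het', hff', _, hdT⟩ :=
        exists_etale_diag_lift h (Localization.Away f) (Localization.Away (Ideal.Quotient.mk I f))
          hs hn T₀ hD
      exact ⟨T, i1, algST, het', hff', (isDiag_cancel_iff R (Localization.Away f) T A).2 hdT⟩

end Groth.Agent.S2971
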