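import Groth.Statements.S2978
import Mathlib.RingTheory.Noetherian.Basic
import Mathlib.LinearAlgebra.Pi

set_option autoImplicit false
universe u
open SGA3b

namespace Groth.Agent.S2978

/-- Let A be a Noetherian ring, M a set and a : M × M → A a family vanishing off the diagonal which is a
finite sum of decomposable families: a(m, m') = Σ_i b_i(m) c_i(m') for finitely many b_i, c_i : M →
A. Then a has finite support. -/
theorem result (A : Type u) [CommRing A] [IsNoetherianRing A] (M : Type u)
    (a : M × M → A) (hdiag : ∀ m m', m ≠ m' → a (m, m') = 0)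
    (ι : Type u) [Fintype ι] (b c : ι → M → A) (hdec : ∀ m m', a (m, m') = ∑ i, b i m * c i m') :
    Set.Finite {p : M × M | a p ≠ 0} := by
  classical
  rcases isEmpty_or_nonempty M with hM | hM
  · exact Set.toFinite _
  let B : M → (ι → A) := fun m i => b i m
  have hfg : (Submodule.span A (Set.range B)).FG := IsNoetherian.noetherian _
  obtain ⟨s', hs', hspan⟩ := (Submodule.fg_span_iff_fg_span_finset_subset _).mp hfg
  have hex : ∀ v : ι → A, v ∈ s' → ∃ m, B m = v := fun v hv => hs' hv
  choose! g hg using hex
  let F : Finset M := s'.image g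
  apply Set.Finite.subset ((F ×ˢ F : Finset (M × M)).finite_toSet)
  rintro ⟨m, m'⟩ hmm'
  have hmm'' : a (m, m') ≠ 0 := hmm'
  by_cases hne : m = m'
  · subst hne
    by_contra hF
    have hmF : m ∉ F := by
      intro hm
      apply hF
      simp [hm]
    apply hmm''
    let φ : (ι → A) →ₗ[A] A := ∑ i, (c i m) • (LinearMap.proj i : (ι → A) →ₗ[A] A)
    have hφ : ∀ m0, φ (B m0) = a (m0, m) := by
      intro m0
      rw [hdec]
      simp only [φ, B, LinearMap.sum_apply, LinearMap.smul_apply, LinearMap.proj_apply, smul_eq_mul]
      exact Finset.sum_congr rfl (fun i _ => mul_comm _ _)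
    have hker : Submodule.span A (s' : Set (ι → A)) ≤ LinearMap.ker φ := by
      rw [Submodule.span_le]
      intro v hv
      have hv' : v ∈ s' := hv
      rw [SetLike.mem_coe, LinearMap.mem_ker, ← hg v hv', hφ]
      apply hdiag
      intro h
      apply hmF
      rw [← h]
      exact Finset.mem_image_of_mem g hv'
    have hB : B m ∈ Submodule.span A (Set.range B) := Submodule.subset_span ⟨m, rfl⟩
    rw [hspan] at hB
    have h0 := hker hB
    rw [LinearMap.mem_ker, hφ] at h0
    exact h0
  · exact absurd (hdiag m m' hne) hmm''

end Groth.Agent.S2978
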