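import Groth.Statements.S2987
import Groth.Agent.Lib.SqZero55d

set_option autoImplicit false
universe u
open TensorProduct SGA3b
open SGA3b

namespace Groth.Agent.S2987

open Groth.Agent.Lib.GLLift55 Groth.Agent.Lib.MTBase55 Groth.Agent.Lib.SqZero55

/-- Let R be a ring, I a nilpotent ideal, and H = Spec A an affine R-group with A flat over R. If the
base change of H to R/I is a quasi-isotrivial group of multiplicative type, then so is H. (Affine
group schemes over an affine base are taken in Hopf-algebra form; base change is the tensor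
product.) -/
theorem result (R : Type u) [CommRing R] (A : Type u) [CommRing A] [HopfAlgebra R A] [Module.Flat R A] (I : Ideal R) (hI : IsNilpotent I)
    (h0 : IsQuasiIsotrivial (R ⧸ I) ((R ⧸ I) ⊗[R] A)) : IsQuasiIsotrivial R A := by
  obtain ⟨n, hIn⟩ := hI
  have hIel : ∀ x ∈ I, IsNilpotent x := by
    intro x hx
    refine ⟨n, ?_⟩
    have : x ^ n ∈ I ^ n := Ideal.pow_mem_pow hx n
    rw [hIn] at this
    exact this
  obtain ⟨s₀, hs₀, hf₀⟩ := h0
  refine ⟨(Ideal.Quotient.mk I) ⁻¹' s₀, ?_, ?_⟩
  · by_contra hne
    obtain ⟨m, hm, hle⟩ := Ideal.exists_le_maximal _ hne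
    have hIm : I ≤ m := by
      intro x hx
      obtain ⟨N, hN⟩ := hIel x hx
      exact hm.isPrime.mem_of_pow_mem N (hN ▸ m.zero_mem)
    have h1 : Ideal.span s₀ ≤ m.map (Ideal.Quotient.mk I) := by
      rw [Ideal.span_le]
      intro a ha
      obtain ⟨r, rfl⟩ := Ideal.Quotient.mk_surjective a
      exact Ideal.mem_map_of_mem _ (hle (Ideal.subset_span ha))
    rw [hs₀, top_le_iff] at h1
    have h2 : m = ⊤ := by
      have h3 := Ideal.comap_map_of_surjective' (Ideal.Quotient.mk I)
        Ideal.Quotient.mk_surjective m
      rw [h1, Ideal.comap_top] at h3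
      rw [h3, eq_comm, sup_eq_left]
      intro x hx
      rw [Ideal.mk_ker] at hx
      exact hIm hx
    exact hm.ne_top h2
  · intro f hf
    have hf' : Ideal.Quotient.mk I f ∈ s₀ := hf
    obtain ⟨T₀, _, _, het, hff, hd⟩ := hf₀ _ hf'
    letI algSS₀ : Algebra (Localization.Away f) (Localization.Away (Ideal.Quotient.mk I f)) :=
      (Localization.awayMap (Ideal.Quotient.mk I) f).toAlgebra
    have hcomp : ∀ r : R, Localization.awayMap (Ideal.Quotient.mk I) f
        (algebraMap R (Localization.Away f) r) =
        algebraMap (R ⧸ I) (Localization.Away (Ideal.Quotient.mk I f))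
          (Ideal.Quotient.mk I r) := fun r => IsLocalization.map_eq _ _
    have hs : Function.Surjective (algebraMap (Localization.Away f)
        (Localization.Away (Ideal.Quotient.mk I f))) := by
      show Function.Surjective (Localization.awayMap (Ideal.Quotient.mk I) f)
      rw [Localization.awayMap_surjective_iff]
      intro a
      obtain ⟨b, rfl⟩ := Ideal.Quotient.mk_surjective a
      exact ⟨b, 0, by rw [pow_zero, one_mul]⟩
    have hn : IsNilpotent (RingHom.ker (algebraMap (Localization.Away f)
        (Localization.Away (Ideal.Quotient.mk I f)))) := by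
      have hk := IsLocalization.ker_map (S := Localization.Away f)
        (Localization.Away (Ideal.Quotient.mk I f)) (Ideal.Quotient.mk I)
        (M := Submonoid.powers f) (T := Submonoid.powers (Ideal.Quotient.mk I f))
        (Submonoid.map_powers _ f)
      have hk' : RingHom.ker (algebraMap (Localization.Away f)
          (Localization.Away (Ideal.Quotient.mk I f))) =
          I.map (algebraMap R (Localization.Away f)) := by
        rw [Ideal.mk_ker] at hk
        rw [← hk]
        rfl
      refine ⟨n, ?_⟩
      rw [hk', ← Ideal.map_pow, hIn, Ideal.zero_eq_bot, Ideal.map_bot]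
      rfl
    letI algR₀T₀ : Algebra (R ⧸ I) T₀ :=
      ((algebraMap (Localization.Away (Ideal.Quotient.mk I f)) T₀).comp
        (algebraMap (R ⧸ I) (Localization.Away (Ideal.Quotient.mk I f)))).toAlgebra
    haveI : IsScalarTower (R ⧸ I) (Localization.Away (Ideal.Quotient.mk I f)) T₀ :=
      IsScalarTower.of_algebraMap_eq' rfl
    letI algRT₀ : Algebra R T₀ :=
      ((algebraMap (R ⧸ I) T₀).comp (algebraMap R (R ⧸ I))).toAlgebra
    haveI : IsScalarTower R (R ⧸ I) T₀ := IsScalarTower.of_algebraMap_eq' rfl
    have hd1 : IsDiag T₀ (T₀ ⊗[R ⧸ I] ((R ⧸ I) ⊗[R] A)) :=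
      (isDiag_cancel_iff (R ⧸ I) (Localization.Away (Ideal.Quotient.mk I f)) T₀
        ((R ⧸ I) ⊗[R] A)).1 hd
    have hD : IsDiag T₀ (T₀ ⊗[R] A) := (isDiag_cancel_iff R (R ⧸ I) T₀ A).1 hd1
    letI algST₀ : Algebra (Localization.Away f) T₀ :=
      ((algebraMap (Localization.Away (Ideal.Quotient.mk I f)) T₀).comp
        (algebraMap (Localization.Away f) (Localization.Away (Ideal.Quotient.mk I f)))).toAlgebra
    haveI : IsScalarTower (Localization.Away f) (Localization.Away (Ideal.Quotient.mk I f)) T₀ :=
      IsScalarTower.of_algebraMap_eq' rfl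
    haveI : IsScalarTower R (Localization.Away f) T₀ := by
      apply IsScalarTower.of_algebraMap_eq
      intro r
      show algebraMap (Localization.Away (Ideal.Quotient.mk I f)) T₀
          (algebraMap (R ⧸ I) (Localization.Away (Ideal.Quotient.mk I f))
            (Ideal.Quotient.mk I r)) =
        algebraMap (Localization.Away (Ideal.Quotient.mk I f)) T₀
          (Localization.awayMap (Ideal.Quotient.mk I) f (algebraMap R (Localization.Away f) r))
      rw [hcomp]
    obtain ⟨T, i1, algST, algRT, tow, het', hff', _, hdT⟩ :=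
      exists_etale_diag_lift_flat (R := R) (A := A) (Localization.Away f)
        (Localization.Away (Ideal.Quotient.mk I f)) hs hn T₀ hD
    exact ⟨T, i1, algST, het', hff', (isDiag_cancel_iff R (Localization.Away f) T A).2 hdT⟩

end Groth.Agent.S2987
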