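import Groth.Statements.S3019
import Groth.Agent.S16476
import Mathlib.RingTheory.HopfAlgebra.Quotient

set_option autoImplicit false
universe u
open CategoryTheory MonoidalCategory CartesianMonoidalCategory MonObj GrpObj AlgebraicGeometry TensorProduct
open SGA3

namespace Groth.Agent.S3019

open Groth.Agent.Lib.LineIdeal

/-- Let A be a finitely generated commutative Hopf algebra over a field k (an affine algebraic k-group
G) and I a Hopf ideal (a closed subgroup scheme H). Then there are a finite-dimensional A-comodule V
and a nonzero vector v ∈ V such that, for every k-algebra R, an R-point of G kills I exactly when it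
carries v to an R-multiple of v: H is the stabilizer of the line through v. -/
theorem result (k : Type u) [Field k] (A : Type u) [CommRing A] [HopfAlgebra k A]
    [Algebra.FiniteType k A] (I : Ideal A) [I.IsHopfIdeal k] :
    ∃ (V : Type u) (_ : AddCommGroup V) (_ : Module k V) (_ : HopfRep.Comod k A V) (_ : Module.Finite k V) (v : V),
      v ≠ 0 ∧ Dyn.Represents k A I (fun R _ _ g => SGA3.StabilizesLine k A v R g) := by
  classical
  let π : A →ₐc[k] A ⧸ I := Bialgebra.Quotient.mkBialgHom I
  have hπ : ∀ a : A, π a = Ideal.Quotient.mk I a := fun _ => rfl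
  obtain ⟨V, i1, i2, c, hfin, v, χ, hv, hle, heig⟩ :=
    Groth.Agent.S16476.exists_semiinvariant π
  have hIle : ∀ a ∈ I, a ∈ lineIdeal c v := by
    intro a ha
    apply hle
    rw [RingHom.mem_ker]
    change π a = 0
    rw [hπ]
    exact Ideal.Quotient.eq_zero_iff_mem.2 ha
  have hge : ∀ a ∈ lineIdeal c v, a ∈ I := by
    intro a ha
    have h := lineIdeal_le_ker c v (π : A →ₐ[k] A ⧸ I) χ heig ha
    rw [RingHom.mem_ker] at h
    change π a = 0 at h
    rw [hπ] at h
    exact Ideal.Quotient.eq_zero_iff_mem.1 h
  refine ⟨V, i1, i2, c, hfin, v, hv, ?_⟩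
  intro R _ _ g
  change (∀ a ∈ I, g a = 0) ↔
    ∃ r : R, LinearMap.lTensor V g.toLinearMap (c.coact v) = v ⊗ₜ[k] r
  rw [stabilizesLine_iff c hv g]
  constructor
  · intro h a ha
    exact h a (hge a ha)
  · intro h a ha
    exact h a (hIle a ha)

end Groth.Agent.S3019
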