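import Groth.Statements.S3021
import Mathlib
-- import your own Groth.Agent.* helpers here

set_option autoImplicit false
universe u
open CategoryTheory MonoidalCategory CartesianMonoidalCategory MonObj GrpObj AlgebraicGeometry TensorProduct
open SGA3

namespace Groth.Agent.S3021

section

attribute [local instance] Classical.propDecidable
set_option linter.unusedSectionVars false

variable {A : Type u} [CommRing A] {C : Type u} [AddCommGroup C] [Module A C]
  {V : Type u} [AddCommGroup V] [Module A V]

/-- contraction against a functional. -/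
noncomputable def contr (ψ : C →ₗ[A] A) : V ⊗[A] C →ₗ[A] V :=
  (TensorProduct.rid A V).toLinearMap ∘ₗ ψ.lTensor V

theorem contr_tmul (ψ : C →ₗ[A] A) (v : V) (c : C) : contr ψ (v ⊗ₜ[A] c) = ψ c • v := by
  simp [contr]

/-- the "coefficients" of an element of `V ⊗ C` w.r.t. a projective coordinate system. -/
noncomputable def coeffs (s : C →ₗ[A] C →₀ A) : V ⊗[A] C →ₗ[A] C →₀ V :=
  (TensorProduct.finsuppScalarRight A A V C).toLinearMap ∘ₗ s.lTensor V

theorem coeffs_apply (s : C →ₗ[A] C →₀ A) (z : V ⊗[A] C) (j : C) :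
    coeffs s z j = contr (Finsupp.lapply j ∘ₗ s) z := by
  induction z using TensorProduct.induction_on with
  | zero => simp
  | tmul v c =>
    rw [contr_tmul]
    simp [coeffs]
  | add z z' hz hz' => simp only [map_add, Finsupp.add_apply, hz, hz']

/-- reassembling. -/
noncomputable def assemble : (C →₀ V) →ₗ[A] V ⊗[A] C :=
  Finsupp.lsum A fun j => (TensorProduct.mk A V C).flip j

theorem assemble_apply (g : C →₀ V) : assemble (A := A) g = g.sum fun j v => v ⊗ₜ[A] j := by
  simp only [assemble, Finsupp.lsum_apply]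
  rfl

theorem assemble_coeffs (s : C →ₗ[A] C →₀ A) (hs : Finsupp.linearCombination A id ∘ₗ s = LinearMap.id)
    (z : V ⊗[A] C) : assemble (coeffs s z) = z := by
  induction z using TensorProduct.induction_on with
  | zero => simp
  | tmul v c =>
    have h1 : coeffs s (v ⊗ₜ[A] c) = (s c).sum fun i n => Finsupp.single i (n • v) := by
      simp only [coeffs, LinearMap.comp_apply, LinearMap.lTensor_tmul, LinearEquiv.coe_coe]
      exact TensorProduct.finsuppScalarRight_apply_tmul _ _
    rw [h1, map_finsuppSum]
    simp only [assemble, Finsupp.lsum_single, LinearMap.flip_apply, TensorProduct.mk_apply]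
    have h2 : c = (s c).sum fun i n => n • i := by
      conv_lhs => rw [← LinearMap.id_apply (R := A) c, ← hs, LinearMap.comp_apply,
        Finsupp.linearCombination_apply]
      rfl
    conv_rhs => rw [h2, Finsupp.sum, TensorProduct.tmul_sum]
    rw [Finsupp.sum]
    refine Finset.sum_congr rfl fun j _ => ?_
    rw [TensorProduct.smul_tmul]
  | add z z' hz hz' => simp only [map_add, hz, hz']

theorem mem_range_of_contr (s : C →ₗ[A] C →₀ A)
    (hs : Finsupp.linearCombination A id ∘ₗ s = LinearMap.id) (W : Submodule A V) (z : V ⊗[A] C)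
    (h : ∀ ξ : C →ₗ[A] A, contr ξ z ∈ W) : z ∈ LinearMap.range (W.subtype.rTensor C) := by
  rw [← assemble_coeffs s hs z, assemble_apply]
  refine Submodule.sum_mem _ fun j _ => ?_
  refine ⟨(⟨coeffs s z j, ?_⟩ : W) ⊗ₜ[A] j, by simp⟩
  rw [coeffs_apply]
  exact h _

theorem contr_rTensor_mem (W : Submodule A V) (ψ : C →ₗ[A] A) (y : W ⊗[A] C) :
    contr ψ (W.subtype.rTensor C y) ∈ W := by
  induction y using TensorProduct.induction_on with
  | zero => simp
  | tmul w c =>
    rw [LinearMap.rTensor_tmul, contr_tmul]
    exact W.smul_mem _ w.2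
  | add y y' hy hy' =>
    rw [map_add, map_add]
    exact W.add_mem hy hy'

theorem contr_eq_sum (s : C →ₗ[A] C →₀ A)
    (hs : Finsupp.linearCombination A id ∘ₗ s = LinearMap.id) (ψ : C →ₗ[A] A) (z : V ⊗[A] C) :
    contr ψ z = ∑ j ∈ (coeffs s z).support, ψ j • contr (Finsupp.lapply j ∘ₗ s) z := by
  conv_lhs => rw [← assemble_coeffs s hs z, assemble_apply, Finsupp.sum, map_sum]
  refine Finset.sum_congr rfl fun j _ => ?_
  rw [contr_tmul, coeffs_apply]

variable [Coalgebra A C] [HopfRep.Comod A C V]

/-- the operator `T_ψ = (id ⊗ ψ) ∘ ρ`. -/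
noncomputable def T (ψ : C →ₗ[A] A) : V →ₗ[A] V :=
  contr ψ ∘ₗ HopfRep.Comod.coact (k := A) (A := C)

theorem T_counit (v : V) : T (Coalgebra.counit (R := A) (A := C)) v = v := by
  have hc := LinearMap.congr_fun (HopfRep.Comod.counit_comp (k := A) (A := C) (V := V)) v
  simp only [LinearMap.comp_apply, LinearMap.flip_apply, TensorProduct.mk_apply] at hc
  show (TensorProduct.rid A V) ((Coalgebra.counit (R := A) (A := C)).lTensor V
    (HopfRep.Comod.coact (k := A) (A := C) v)) = v
  have : (CoalgebraStruct.counit (R := A) (A := C)) = Coalgebra.counit (R := A) (A := C) := rfl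
  rw [this] at hc
  rw [hc, TensorProduct.rid_tmul, one_smul]

theorem assoc_functional (α β : C →ₗ[A] A) (y : V ⊗[A] C) (a : C) :
    (TensorProduct.rid A V) ((LinearMap.mul' A A ∘ₗ TensorProduct.map α β).lTensor V
      ((TensorProduct.assoc A V C C) (y ⊗ₜ[A] a))) = β a • (TensorProduct.rid A V) (α.lTensor V y) := by
  induction y using TensorProduct.induction_on with
  | zero => simp
  | tmul w a' =>
    simp only [TensorProduct.assoc_tmul, LinearMap.lTensor_tmul, LinearMap.comp_apply,
      TensorProduct.map_tmul, LinearMap.mul'_apply, TensorProduct.rid_tmul]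
    rw [mul_comm, mul_smul]
  | add y y' hy hy' =>
    simp only [TensorProduct.add_tmul, map_add, hy, hy', smul_add]

theorem T_comp (α β : C →ₗ[A] A) (v : V) :
    T α (T β v) = T (LinearMap.mul' A A ∘ₗ TensorProduct.map α β ∘ₗ
      Coalgebra.comul (R := A) (A := C)) v := by
  have hco := LinearMap.congr_fun (HopfRep.Comod.coassoc (k := A) (A := C) (V := V)) v
  simp only [LinearMap.comp_apply, LinearEquiv.coe_coe] at hco
  have key : ∀ x : V ⊗[A] C,
      (TensorProduct.rid A V) ((LinearMap.mul' A A ∘ₗ TensorProduct.map α β).lTensor V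
        ((TensorProduct.assoc A V C C)
          ((HopfRep.Comod.coact (k := A) (A := C)).rTensor C x))) =
      T α ((TensorProduct.rid A V) (β.lTensor V x)) := by
    intro x
    induction x using TensorProduct.induction_on with
    | zero => simp
    | tmul w a =>
      rw [LinearMap.rTensor_tmul, assoc_functional, LinearMap.lTensor_tmul, TensorProduct.rid_tmul,
        map_smul]
      rfl
    | add x x' hx hx' => simp only [map_add, hx, hx']
  have h1 := key (HopfRep.Comod.coact (k := A) (A := C) v)
  rw [hco] at h1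
  show T α ((TensorProduct.rid A V) (β.lTensor V (HopfRep.Comod.coact (k := A) (A := C) v))) = _
  rw [← h1, ← LinearMap.comp_apply (LinearMap.lTensor V _) (LinearMap.lTensor V _),
    ← LinearMap.lTensor_comp, LinearMap.comp_assoc]
  rfl

end

/-- Let A be a commutative ring, C an A-coalgebra which is projective as an A-module, V a C-comodule and
M an A-submodule of V. Then there is a smallest subcomodule of V containing M, and it is finitely
generated over A when M is. -/
theorem result (A : Type u) [CommRing A] (C : Type u) [AddCommGroup C] [Module A C]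
    [Coalgebra A C] [Module.Projective A C] (V : Type u) [AddCommGroup V] [Module A V] [HopfRep.Comod A C V]
    (M : Submodule A V) :
    ∃ W : Submodule A V, HopfRep.IsSubcomod (k := A) (A := C) W ∧ M ≤ W ∧
      (∀ W' : Submodule A V, HopfRep.IsSubcomod (k := A) (A := C) W' → M ≤ W' → W ≤ W') ∧
      (M.FG → W.FG) := by
  classical
  obtain ⟨s, hs⟩ := (Module.projective_def'.mp (inferInstance : Module.Projective A C))
  let W : Submodule A V := ⨆ ψ : C →ₗ[A] A, M.map (T (V := V) ψ)
  have hTW : ∀ (ψ : C →ₗ[A] A) (m : V), m ∈ M → T ψ m ∈ W := by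
    intro ψ m hm
    exact (le_iSup (fun ψ : C →ₗ[A] A => M.map (T (V := V) ψ)) ψ) (Submodule.mem_map_of_mem hm)
  refine ⟨W, ?_, ?_, ?_, ?_⟩
  · -- subcomodule
    intro w hw
    refine Submodule.iSup_induction (p := fun ψ : C →ₗ[A] A => M.map (T (V := V) ψ))
      (motive := fun w => HopfRep.Comod.coact (k := A) (A := C) w ∈
        LinearMap.range (W.subtype.rTensor C)) hw ?_ ?_ ?_
    · intro ψ x hx
      obtain ⟨m, hm, rfl⟩ := hx
      refine mem_range_of_contr s hs W _ fun ξ => ?_
      have : contr ξ (HopfRep.Comod.coact (k := A) (A := C) (T ψ m)) = T ξ (T ψ m) := rfl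
      rw [this, T_comp]
      exact hTW _ m hm
    · rw [map_zero]; exact Submodule.zero_mem _
    · intro x y hx hy
      rw [map_add]; exact Submodule.add_mem _ hx hy
  · intro m hm
    have := hTW (Coalgebra.counit (R := A) (A := C)) m hm
    rwa [T_counit] at this
  · intro W' hW' hM
    refine iSup_le fun ψ => ?_
    rintro x ⟨m, hm, rfl⟩
    obtain ⟨y, hy⟩ := hW' m (hM hm)
    show contr ψ (HopfRep.Comod.coact (k := A) (A := C) m) ∈ W'
    rw [← hy]
    exact contr_rTensor_mem W' ψ y
  · rintro ⟨S, hS⟩
    let gen : Finset V := S.biUnion fun m =>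
      (coeffs s (HopfRep.Comod.coact (k := A) (A := C) m)).support.image
        fun j => T (V := V) (Finsupp.lapply j ∘ₗ s) m
    refine ⟨gen, le_antisymm ?_ ?_⟩
    · rw [Submodule.span_le]
      intro x hx
      simp only [gen, Finset.coe_biUnion, Finset.coe_image, Set.mem_iUnion, Set.mem_image,
        Finset.mem_coe] at hx
      obtain ⟨m, hm, j, _, rfl⟩ := hx
      exact hTW _ m (hS ▸ Submodule.subset_span hm)
    · refine iSup_le fun ψ => ?_
      rw [← hS, Submodule.map_span, Submodule.span_le]
      rintro x ⟨m, hm, rfl⟩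
      show contr ψ (HopfRep.Comod.coact (k := A) (A := C) m) ∈ _
      rw [contr_eq_sum s hs]
      refine Submodule.sum_mem _ fun j hj => Submodule.smul_mem _ _ (Submodule.subset_span ?_)
      simp only [gen, Finset.coe_biUnion, Finset.coe_image, Set.mem_iUnion, Set.mem_image,
        Finset.mem_coe]
      exact ⟨m, hm, j, hj, rfl⟩

end Groth.Agent.S3021
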