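import Groth.Statements.S3024
import Groth.Agent.Lib.GrpMaxPts45
import Groth.Agent.Lib.ProjCompl84

set_option autoImplicit false
universe u
open CategoryTheory MonoidalCategory CartesianMonoidalCategory MonObj GrpObj AlgebraicGeometry TensorProduct
open SGA3

namespace Groth.Agent.S3024

/-- Let f : H → G be a quasi-compact homomorphism of group schemes over a field k. Then f factors as a
homomorphism f' : H → H' followed by a homomorphism i : H' → G which is a closed immersion (H' is
the schematic image of f, a closed subgroup scheme of G), with f' schematically dominant,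
quasi-compact and surjective. -/
theorem result (k : Type u) [Field k] (H G : Over (Spec (CommRingCat.of k))) [GrpObj H] [GrpObj G]
    (f : H ⟶ G) [IsMonHom f] [QuasiCompact f.left] :
    ∃ (H' : Over (Spec (CommRingCat.of k))) (_ : GrpObj H') (i : H' ⟶ G) (f' : H ⟶ H'),
      IsMonHom i ∧ IsMonHom f' ∧ f' ≫ i = f ∧ IsClosedImmersion i.left ∧
      f'.left.ker = ⊥ ∧ QuasiCompact f'.left ∧ Surjective f'.left := by
  let H' : Over (Spec (CommRingCat.of k)) := Over.mk (f.left.imageι ≫ G.hom)
  let i : H' ⟶ G := Over.homMk f.left.imageι rfl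
  let f' : H ⟶ H' := Over.homMk f.left.toImage (by
    change f.left.toImage ≫ f.left.imageι ≫ G.hom = H.hom
    rw [← Category.assoc, Scheme.Hom.toImage_imageι, Over.w])
  have hfi : f' ≫ i = f := by
    ext1
    exact Scheme.Hom.toImage_imageι f.left
  have hci : IsClosedImmersion i.left := inferInstanceAs (IsClosedImmersion f.left.imageι)
  have hqc : QuasiCompact f'.left := inferInstanceAs (QuasiCompact f.left.toImage)
  have hsd : IsSchemeTheoreticallyDominant f'.left :=
    Groth.Agent.Lib.ProjCompl84.isSchemeTheoreticallyDominant_toImage f.left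
  have hdom : IsDominant f'.left := inferInstanceAs (IsDominant f.left.toImage)
  obtain ⟨str, hi, hg⟩ := Groth.Agent.Lib.SchImageGrp45.exists_grpObj f i f' hfi
  refine ⟨H', str, i, f', hi, hg, hfi, hci, hsd.ker_eq_bot, hqc, ?_⟩
  exact ⟨Groth.Agent.Lib.GrpMaxPts45.surjective_of_isDominant f'⟩

end Groth.Agent.S3024
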