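-- Statement S3032: a finitely generated submodule of a comodule lies in a finitely generated subcomodule.
import Groth.Statements.S3032
import Mathlib.LinearAlgebra.TensorProduct.Finiteness
import Mathlib.RingTheory.Flat.Basic

set_option autoImplicit false
universe u
open CategoryTheory MonoidalCategory CartesianMonoidalCategory MonObj GrpObj AlgebraicGeometry TensorProduct
open SGA3

namespace Groth.Agent.S3032

/-- Let R be a Noetherian commutative ring, C an R-coalgebra which is flat as an R-module, V a
C-comodule and M a finitely generated R-submodule of V. Then M is contained in a subcomodule of V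
which is finitely generated over R. -/
theorem result (R : Type u) [CommRing R] [IsNoetherianRing R] (C : Type u) [AddCommGroup C]
    [Module R C] [Coalgebra R C] [Module.Flat R C] (V : Type u) [AddCommGroup V] [Module R V] [HopfRep.Comod R C V]
    (M : Submodule R V) (hM : M.FG) :
    ∃ W : Submodule R V, HopfRep.IsSubcomod (k := R) (A := C) W ∧ M ≤ W ∧ W.FG := by
  classical
  let ρ : V →ₗ[R] V ⊗[R] C := HopfRep.Comod.coact (k := R) (A := C)
  obtain ⟨S, hS⟩ := hM
  -- a finitely generated N with ρ(S) inside N ⊗ C
  obtain ⟨N, hNfin, hN⟩ := TensorProduct.exists_finite_submodule_left_of_setFinite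
    (ρ '' (S : Set V)) (S.finite_toSet.image ρ)
  let q : V →ₗ[R] V ⧸ N := N.mkQ
  let φ : V →ₗ[R] (V ⧸ N) ⊗[R] C := q.rTensor C ∘ₗ ρ
  have hqN : q.rTensor C ∘ₗ N.subtype.rTensor C = 0 := by
    rw [← LinearMap.rTensor_comp]
    have : q ∘ₗ N.subtype = 0 := by
      ext n
      simp [q]
    rw [this, LinearMap.rTensor_zero]
  refine ⟨LinearMap.ker φ, ?_, ?_, ?_⟩
  · -- subcomodule
    intro w hw
    have hex : Function.Exact ((LinearMap.ker φ).subtype.rTensor C) (φ.rTensor C) :=
      Module.Flat.rTensor_exact C (LinearMap.exact_subtype_ker_map φ)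
    rw [← (LinearMap.exact_iff.mp hex)]
    rw [LinearMap.mem_ker]
    have hφw : (q.rTensor C) (ρ w) = 0 := hw
    have hco : (ρ.rTensor C) (ρ w) =
        (TensorProduct.assoc R V C C).symm ((Coalgebra.comul.lTensor V) (ρ w)) := by
      have := LinearMap.congr_fun (HopfRep.Comod.coassoc (k := R) (A := C) (V := V)) w
      simp only [LinearMap.comp_apply, LinearEquiv.coe_coe] at this
      rw [← this, LinearEquiv.symm_apply_apply]
    have key : ∀ z : V ⊗[R] (C ⊗[R] C), ((q.rTensor C).rTensor C)
        ((TensorProduct.assoc R V C C).symm z) =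
        (TensorProduct.assoc R (V ⧸ N) C C).symm ((q.rTensor (C ⊗[R] C)) z) := by
      intro z
      rw [LinearMap.rTensor_tensor]
      simp
    have h2 : (q.rTensor (C ⊗[R] C)) ((Coalgebra.comul.lTensor V) (ρ w)) =
        (Coalgebra.comul.lTensor (V ⧸ N)) ((q.rTensor C) (ρ w)) := by
      have e1 := LinearMap.congr_fun (LinearMap.rTensor_comp_lTensor (f := q)
        (g := Coalgebra.comul (R := R) (A := C))) (ρ w)
      have e2 := LinearMap.congr_fun (LinearMap.lTensor_comp_rTensor (f := q)
        (g := Coalgebra.comul (R := R) (A := C))) (ρ w)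
      simp only [LinearMap.comp_apply] at e1 e2
      rw [e1, e2]
    show (φ.rTensor C) (ρ w) = 0
    have : φ.rTensor C = (q.rTensor C).rTensor C ∘ₗ ρ.rTensor C := by
      rw [← LinearMap.rTensor_comp]
    rw [this, LinearMap.comp_apply, hco, key, h2, hφw, map_zero, map_zero]
  · -- contains M
    rw [← hS, Submodule.span_le]
    intro s hs
    obtain ⟨t, ht⟩ := hN ⟨s, hs, rfl⟩
    show (q.rTensor C) (ρ s) = 0
    rw [← ht, ← LinearMap.comp_apply, hqN, LinearMap.zero_apply]
  · -- finitely generated: contained in N
    have hle : LinearMap.ker φ ≤ N := by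
      intro w hw
      have hφw : (q.rTensor C) (ρ w) = 0 := hw
      have h1 : (Coalgebra.counit.lTensor V) (ρ w) = w ⊗ₜ[R] (1 : R) := by
        have := LinearMap.congr_fun (HopfRep.Comod.counit_comp (k := R) (A := C) (V := V)) w
        simpa using this
      have h2 : (q.rTensor R) ((Coalgebra.counit.lTensor V) (ρ w)) =
          (Coalgebra.counit.lTensor (V ⧸ N)) ((q.rTensor C) (ρ w)) := by
        have e1 := LinearMap.congr_fun (LinearMap.rTensor_comp_lTensor (f := q)
          (g := Coalgebra.counit (R := R) (A := C))) (ρ w)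
        have e2 := LinearMap.congr_fun (LinearMap.lTensor_comp_rTensor (f := q)
          (g := Coalgebra.counit (R := R) (A := C))) (ρ w)
        simp only [LinearMap.comp_apply] at e1 e2
        rw [e1, e2]
      rw [h1, hφw, map_zero, LinearMap.rTensor_tmul] at h2
      have h3 := congrArg (TensorProduct.rid R (V ⧸ N)) h2
      simp only [TensorProduct.rid_tmul, one_smul, map_zero] at h3
      exact (Submodule.Quotient.mk_eq_zero N).mp h3
    have hNfg : N.FG := Module.Finite.iff_fg.mp hNfin
    have : IsNoetherian R N := isNoetherian_of_fg_of_noetherian N hNfg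
    have hcomap : (Submodule.comap N.subtype (LinearMap.ker φ)).FG := IsNoetherian.noetherian _
    have := hcomap.map N.subtype
    rwa [Submodule.map_comap_subtype, inf_eq_right.mpr hle] at this

end Groth.Agent.S3032
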