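-- Statement S3043: a point-injective morphism with a section is integral.
import Groth.Statements.S3043

set_option autoImplicit false
universe u
open CategoryTheory MonoidalCategory CartesianMonoidalCategory MonObj GrpObj AlgebraicGeometry TensorProduct
open SGA3

namespace Groth.Agent.S3043

/-- Let π : X → S be a morphism of schemes admitting a section ε (ε followed by π is the identity). If π
is injective on underlying points, then π is an integral morphism. -/
theorem result (X S : Scheme.{u}) (π : X ⟶ S) (ε : S ⟶ X) (hε : ε ≫ π = 𝟙 S)
    (hinj : Function.Injective π.base) : IsIntegralHom π := by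
  have hπε : ∀ s : S, π (ε s) = s := fun s => by
    have := congr($(hε).base s)
    simpa using this
  have hεπ : ∀ x : X, ε (π x) = x := fun x => hinj (hπε (π x))
  have hsurj : Surjective ε := ⟨fun x => ⟨π x, hεπ x⟩⟩
  have hiso : IsIso (ε ≫ π) := hε ▸ inferInstance
  -- ε is a closed immersion
  have hclosed : IsClosedImmersion ε := by
    refine { stalkMap_surjective := ?_, isClosedEmbedding := ?_ }
    · intro s
      have h2 := (ConcreteCategory.bijective_of_isIso ((ε ≫ π).stalkMap s)).2
      rw [Scheme.Hom.stalkMap_comp] at h2
      intro y
      obtain ⟨z, hz⟩ := h2 y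
      exact ⟨π.stalkMap (ε s) z, hz⟩
    · refine Topology.IsClosedEmbedding.of_continuous_injective_isClosedMap ε.continuous ?_ ?_
      · intro a b hab
        have := congrArg (fun x => π x) hab
        simpa [hπε] using this
      · intro C hC
        have : ε '' C = π ⁻¹' C := by
          ext x
          constructor
          · rintro ⟨c, hc, rfl⟩
            simpa [hπε] using hc
          · intro hx
            exact ⟨π x, hx, hεπ x⟩
        rw [this]
        exact hC.preimage π.continuous
  have haff : IsAffineHom π := by
    apply isAffineHom_of_forall_exists_isAffineOpen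
    intro s
    obtain ⟨W, hW, hsW, -⟩ := (TopologicalSpace.Opens.isBasis_iff_nbhd.mp X.isBasis_affineOpens)
      (show ε s ∈ (⊤ : X.Opens) from trivial)
    refine ⟨ε ⁻¹ᵁ W, hsW, hW.preimage ε, ?_⟩
    have : π ⁻¹ᵁ (ε ⁻¹ᵁ W) = W := by
      ext x
      simp [hεπ]
    rw [this]
    exact hW
  have hcl : UniversallyClosed π := UniversallyClosed.of_comp_surjective ε π
  exact IsIntegralHom.iff_universallyClosed_and_isAffineHom.mpr ⟨hcl, haff⟩

end Groth.Agent.S3043
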