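-- Statement S3045: the group law induces addition on tangent vectors at the identity.
import Groth.Statements.S3045
import Groth.Agent.Lib.Conv3

set_option autoImplicit false
universe u
open TensorProduct
open SGA3

namespace Groth.Agent.S3045

lemma snd_aux (k : Type u) [CommRing k] (A : Type u) [CommRing A] [HopfAlgebra k A]
    (φ ψ : LieHopf.LiePts k A) (x : A ⊗[k] A) :
    TrivSqZeroExt.snd (Algebra.TensorProduct.lmul' (S := DualNumber k) k
      (Algebra.TensorProduct.map φ.1 ψ.1 x)) =
    TrivSqZeroExt.snd (φ.1 (TensorProduct.rid k A (LinearMap.lTensor A Coalgebra.counit x))) +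
      TrivSqZeroExt.snd (ψ.1 (TensorProduct.lid k A (LinearMap.rTensor A Coalgebra.counit x))) := by
  induction x using TensorProduct.induction_on with
  | zero => simp
  | tmul p q =>
    have hφ := φ.2 p
    have hψ := ψ.2 q
    simp only [Bialgebra.counitAlgHom_apply] at hφ hψ
    simp only [Algebra.TensorProduct.map_tmul, Algebra.TensorProduct.lmul'_apply_tmul,
      LinearMap.lTensor_tmul, LinearMap.rTensor_tmul, TensorProduct.rid_tmul,
      TensorProduct.lid_tmul, map_smul, TrivSqZeroExt.snd_mul, TrivSqZeroExt.snd_smul, hφ, hψ]
    simp only [MulOpposite.smul_eq_mul_unop, MulOpposite.unop_op, smul_eq_mul]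
    ring
  | add x y hx hy =>
    simp only [map_add, TrivSqZeroExt.snd_add, hx, hy]
    ring

/-- Let A be a commutative Hopf algebra over a commutative ring k (the coordinate ring of an affine
group G = Spec A) and φ, ψ two k[ε]-valued points of G reducing to the unit point modulo ε (tangent
vectors at the identity). Then for every a ∈ A the ε-component of the product point φ · ψ at a — the
product of points being convolution, formed here as the triple convolution of φ, ψ and the unit
point — is the sum of the ε-components of φ(a) and ψ(a): on tangent vectors at the identity the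
group law of G induces addition. -/
theorem result (k : Type u) [CommRing k] (A : Type u) [CommRing A] [HopfAlgebra k A]
    (φ ψ : LieHopf.LiePts k A) (a : A) :
    TrivSqZeroExt.snd (Dyn.conv3 k A φ.1 ψ.1 ((Algebra.ofId k (DualNumber k)).comp (Bialgebra.counitAlgHom k A)) a) =
      LieHopf.LiePts.tangent k A φ a + LieHopf.LiePts.tangent k A ψ a := by
  rw [Groth.Agent.Lib.Conv3.conv3_counit]
  have h := snd_aux k A φ ψ (Coalgebra.comul a)
  rw [Coalgebra.lTensor_counit_comul, Coalgebra.rTensor_counit_comul] at h
  simpa [Groth.Agent.Lib.Conv3.conv2, LieHopf.LiePts.tangent] using h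

end Groth.Agent.S3045
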