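-- Statement S3046: the commutator of the points e + tD and e + t'E is e + tt'[D, E].
import Groth.Statements.S3046
import Mathlib.Tactic.NoncommRing

set_option autoImplicit false
universe u
open TensorProduct
open SGA3

namespace Groth.Agent.S3046

open WithConv

variable (k : Type u) [CommRing k] (A : Type u) [CommRing A] [HopfAlgebra k A]
variable {R : Type u} [CommRing R] [Algebra k R]

/-- The triple convolution is the product in the convolution group of points. -/
lemma toConv_conv3 (f g h : A →ₐ[k] R) :
    (toConv (Dyn.conv3 k A f g h) : WithConv (A →ₐ[k] R)) = toConv f * toConv g * toConv h := by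
  apply WithConv.ofConv_injective
  simp only [AlgHom.convMul_def, Dyn.conv3, WithConv.ofConv_toConv]
  have : Algebra.TensorProduct.map ((Algebra.TensorProduct.lmul' (S := R) k).comp
      ((Algebra.TensorProduct.map f g).comp (Bialgebra.comulAlgHom k A))) h =
      (Algebra.TensorProduct.map ((Algebra.TensorProduct.lmul' (S := R) k).comp
        (Algebra.TensorProduct.map f g)) h).comp
        (Algebra.TensorProduct.map (Bialgebra.comulAlgHom k A) (AlgHom.id k A)) := by
    rw [← Algebra.TensorProduct.map_comp, AlgHom.comp_id, AlgHom.comp_assoc]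
  rw [this, AlgHom.comp_assoc]

/-- The linear functional attached to an ε-derivation, with values in `R`. -/
noncomputable def delta (D : LieHopf.Lie k A) : WithConv (A →ₗ[k] R) :=
  toConv ((Algebra.linearMap k R) ∘ₗ LieHopf.dlin D)

/-- The embedding of the group of points into the convolution ring. -/
noncomputable def emb (f : WithConv (A →ₐ[k] R)) : WithConv (A →ₗ[k] R) :=
  toConv f.ofConv.toLinearMap

lemma emb_mul (f g : WithConv (A →ₐ[k] R)) : emb k A (f * g) = emb k A f * emb k A g :=
  AlgHom.toLinearMap_convMul f g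

lemma emb_one : emb k A (1 : WithConv (A →ₐ[k] R)) = 1 := AlgHom.toLinearMap_convOne

lemma emb_pt (D : LieHopf.Lie k A) (t : R) (ht : t * t = 0) :
    emb k A (toConv (LieHopf.ptOfLie D R t ht)) = 1 + t • delta k A D := by
  apply WithConv.ofConv_injective
  ext a
  simp only [emb, delta, WithConv.ofConv_toConv, AlgHom.toLinearMap_apply]
  change algebraMap k R (Bialgebra.counitAlgHom k A a) + algebraMap k R (LieHopf.dlin D a) * t = _
  simp [mul_comm]

lemma smul_delta_sq (D : LieHopf.Lie k A) (t : R) (ht : t * t = 0) :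
    (t • delta (R := R) k A D) * (t • delta k A D) = 0 := by
  rw [smul_mul_smul_comm, ht, zero_smul]

lemma emb_pt_inv (D : LieHopf.Lie k A) (t : R) (ht : t * t = 0) :
    emb k A (toConv ((LieHopf.ptOfLie D R t ht).comp (HopfAlgebra.antipodeAlgHom k A))) =
      1 - t • delta k A D := by
  have h1 : emb k A (toConv ((LieHopf.ptOfLie D R t ht).comp (HopfAlgebra.antipodeAlgHom k A))) *
      emb k A (toConv (LieHopf.ptOfLie D R t ht)) = 1 := by
    have := LinearMap.algHom_comp_convMul_distrib (R := k) (LieHopf.ptOfLie D R t ht)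
      (toConv (HopfAlgebra.antipode k (A := A))) (toConv LinearMap.id)
    rw [LinearMap.antipode_mul_id] at this
    apply WithConv.ofConv_injective
    refine Eq.trans ?_ (this.symm.trans ?_)
    · rfl
    · ext a
      simp [LinearMap.convOne_def]
  have h2 : emb k A (toConv (LieHopf.ptOfLie D R t ht)) * (1 - t • delta k A D) = 1 := by
    rw [emb_pt, add_mul, mul_sub, mul_sub, smul_delta_sq k A D t ht]
    simp
  exact left_inv_eq_right_inv h1 h2

lemma delta_mul (D E : LieHopf.Lie k A) :
    delta (R := R) k A D * delta k A E =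
      toConv ((Algebra.linearMap k R) ∘ₗ LieHopf.conv (LieHopf.dlin D) (LieHopf.dlin E)) := by
  have := LinearMap.algHom_comp_convMul_distrib (R := k) (Algebra.ofId k R)
    (toConv (LieHopf.dlin D)) (toConv (LieHopf.dlin E))
  apply WithConv.ofConv_injective
  exact this.symm

lemma commutator_aux {𝒜 : Type*} [Ring 𝒜] (P Q : 𝒜) (hPP : P * P = 0) (hQQ : Q * Q = 0)
    (hPQP : P * Q * P = 0) (hQPQ : Q * P * Q = 0) :
    (1 + P) * (1 + Q) * (1 - P) * (1 - Q) = 1 + P * Q - Q * P := by
  have e : (1 + P) * (1 + Q) * (1 - P) * (1 - Q) =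
      1 + P * Q - Q * P - P * P + P * P * Q - Q * Q + Q * P * Q - P * Q * P - P * (Q * Q)
        + P * Q * P * Q := by noncomm_ring
  rw [e, hPP, hQQ, hPQP, hQPQ]
  simp

theorem result (k : Type u) [CommRing k] (A : Type u) [CommRing A] [HopfAlgebra k A]
    (D E : LieHopf.Lie k A) (R : Type u) [CommRing R] [Algebra k R] (t t' : R) (ht : t * t = 0) (ht' : t' * t' = 0)
    (a : A) :
    Dyn.conv3 k A
        (Dyn.conv3 k A (LieHopf.ptOfLie D R t ht) (LieHopf.ptOfLie E R t' ht')
          ((LieHopf.ptOfLie D R t ht).comp (HopfAlgebra.antipodeAlgHom k A)))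
        ((LieHopf.ptOfLie E R t' ht').comp (HopfAlgebra.antipodeAlgHom k A))
        ((Algebra.ofId k R).comp (Bialgebra.counitAlgHom k A)) a =
      algebraMap k R (Bialgebra.counitAlgHom k A a) + algebraMap k R (LieHopf.bracketLin D E a) * (t * t') := by
  set x : A →ₐ[k] R := LieHopf.ptOfLie D R t ht with hx
  set y : A →ₐ[k] R := LieHopf.ptOfLie E R t' ht' with hy
  set P : WithConv (A →ₗ[k] R) := t • delta k A D with hP
  set Q : WithConv (A →ₗ[k] R) := t' • delta k A E with hQ
  have hPP : P * P = 0 := smul_delta_sq k A D t ht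
  have hQQ : Q * Q = 0 := smul_delta_sq k A E t' ht'
  have hPQP : P * Q * P = 0 := by
    rw [hP, hQ, smul_mul_smul_comm, smul_mul_smul_comm, mul_right_comm, ht, zero_mul, zero_smul]
  have hQPQ : Q * P * Q = 0 := by
    rw [hP, hQ, smul_mul_smul_comm, smul_mul_smul_comm, mul_right_comm, ht', zero_mul, zero_smul]
  have key : emb k A (toConv (Dyn.conv3 k A
        (Dyn.conv3 k A x y (x.comp (HopfAlgebra.antipodeAlgHom k A)))
        (y.comp (HopfAlgebra.antipodeAlgHom k A))
        ((Algebra.ofId k R).comp (Bialgebra.counitAlgHom k A)))) = 1 + P * Q - Q * P := by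
    rw [toConv_conv3, toConv_conv3, emb_mul, emb_mul, emb_mul, emb_mul, hx, hy,
      emb_pt, emb_pt, emb_pt_inv, emb_pt_inv, ← hP, ← hQ]
    have h1 : emb k A (toConv ((Algebra.ofId k R).comp (Bialgebra.counitAlgHom k A))) = 1 :=
      emb_one k A
    rw [h1, mul_one]
    exact commutator_aux P Q hPP hQQ hPQP hQPQ
  have key2 := congrArg (fun F : WithConv (A →ₗ[k] R) => F a) key
  simp only [emb, WithConv.ofConv_toConv] at key2
  change Dyn.conv3 k A _ _ _ a = _ at key2
  rw [key2, hP, hQ, smul_mul_smul_comm, smul_mul_smul_comm, delta_mul, delta_mul]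
  simp [LieHopf.bracketLin, LieHopf.dlin]
  ring

end Groth.Agent.S3046
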