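import Groth.Statements.S3047
import Groth.Agent.Lib.EtPullShFaithful95

set_option autoImplicit false
open CategoryTheory CategoryTheory.Limits AlgebraicGeometry Opposite
universe u
open EtDesc

namespace Groth.Agent.S3047

/-- For a surjective morphism of schemes f : X' -> X, the inverse image functor f^* on sheaves of sets
for the small etale sites is faithful and reflects isomorphisms. -/
theorem result {X' X : Scheme.{u}} (f : X' ⟶ X) [Surjective f] :
    (EtDesc.pullSh f).Faithful ∧ (EtDesc.pullSh f).ReflectsIsomorphisms := by
  exact ⟨Groth.Agent.Lib.EtPullShFaithful95.pullSh_faithful f,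
    Groth.Agent.Lib.EtPullShFaithful95.pullSh_reflectsIsos f⟩

end Groth.Agent.S3047
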