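import Groth.Statements.S3055
import Groth.Agent.Lib.EtHensSect
import Groth.Prelude.Def_EtShriek2

set_option autoImplicit false
open CategoryTheory CategoryTheory.Limits AlgebraicGeometry Opposite
universe u
open EtDesc

namespace Groth.Agent.S3055

open Groth.Agent.Lib.EtGerm Groth.Agent.Lib.EtHensSect Groth.Agent.Lib.EtStalkPullGerm

lemma isSepClosed_of_ringEquiv {K L : Type u} [Field K] [Field L] [IsSepClosed K] (e : K ≃+* L) :
    IsSepClosed L := by
  constructor
  intro p hp
  have h1 : (p.map (e.symm : L →+* K)).Separable := hp.map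
  have h2 := IsSepClosed.splits_of_separable _ h1
  have h3 := h2.map (e : K →+* L)
  rw [Polynomial.map_map] at h3
  simpa using h3

section

variable (k : Type u) [Field k] [IsSepClosed k]

instance isSepClosed_residueField : IsSepClosed (IsLocalRing.ResidueField k) :=
  isSepClosed_of_ringEquiv (RingEquiv.ofBijective (IsLocalRing.residue k)
    ⟨(IsLocalRing.residue k).injective, IsLocalRing.residue_surjective⟩)

local notation "X" => Spec (CommRingCat.of k)
local notation "T" => EtCoh.top (Spec (CommRingCat.of k))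

variable {k}

/-- through every point of an etale scheme over a separably closed field passes a section -/
lemma exists_pt_section (U : (X).Etale) (u : U.left) :
    ∃ g : T ⟶ U, u ∈ Set.range g.left := by
  have hsub : Subsingleton ↥(Spec (CommRingCat.of k)) :=
    inferInstanceAs (Subsingleton (PrimeSpectrum k))
  have h : U.hom u = (clPt k) default :=
    @Subsingleton.elim ↥(Spec (CommRingCat.of k)) hsub _ _
  obtain ⟨y, hy⟩ := exists_nbhd_of_pt (clPt k) U u h
  obtain ⟨g, hg⟩ := exists_section U y
  refine ⟨g, Nbhd.pt (clPt k) (topNbhd k), ?_⟩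
  rw [← hy, ← hg]
  rfl

omit [IsSepClosed k] in
/-- covering sieves are jointly surjective -/
lemma exists_of_mem {U : (X).Etale} (S : Sieve U) (hS : S ∈ (X).smallEtaleTopology U) (u : U.left) :
    ∃ (V : (X).Etale) (g : V ⟶ U), S g ∧ u ∈ Set.range g.left := by
  have eX : (X).smallEtaleTopology =
      ((X).smallPretopology (P := EtCoh.etaleMP) (Q := EtCoh.etaleMP)).toGrothendieck :=
    Scheme.smallGrothendieckTopology_eq_toGrothendieck_smallPretopology (X) le_rfl
  rw [eX] at hS
  obtain ⟨W, g, w, hg, -, hw⟩ := (Scheme.mem_toGrothendieck_smallPretopology U S).1 hS u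
  exact ⟨W, g, hg, w, hw⟩

/-- every covering sieve contains all the rational points -/
lemma sieve_apply_pt {U : (X).Etale} (S : Sieve U) (hS : S ∈ (X).smallEtaleTopology U)
    (σ : T ⟶ U) : S σ := by
  have h1 : S.pullback σ ∈ (X).smallEtaleTopology T := (X).smallEtaleTopology.pullback_stable σ hS
  let t0 : (T).left := Nbhd.pt (clPt k) (topNbhd k)
  obtain ⟨V, g, hg, v, -⟩ := exists_of_mem (S.pullback σ) h1 t0
  obtain ⟨τ, -⟩ := exists_pt_section V v
  have h2 : (S.pullback σ) (τ ≫ g) := (S.pullback σ).downward_closed hg τ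
  have h3 : τ ≫ g = 𝟙 _ := top_endo_eq_id _
  rw [h3] at h2
  have h4 : S (𝟙 _ ≫ σ) := h2
  rwa [Category.id_comp] at h4

omit [IsSepClosed k] in
/-- sections of a sheaf of sets over an empty etale scheme -/
lemma subsingleton_of_isEmpty (F : EtDesc.Sh (X)) (W : (X).Etale) [IsEmpty W.left] :
    Subsingleton (F.obj.obj (op W)) := by
  have hT : IsTerminal (F.obj.obj (op W)) :=
    Sheaf.isTerminalOfBotCover F W (Groth.Agent.Lib.EtGerm.bot_mem_of_isEmpty W)
  have := (Types.isTerminalEquivUnique _).toFun hT
  infer_instance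

/-- the sieve generated by the rational points -/
lemma generate_pts_mem (U : (X).Etale) :
    Sieve.generate (Presieve.ofArrows (fun _ : T ⟶ U => T) (fun σ => σ)) ∈
      (X).smallEtaleTopology U := by
  apply sieve_mem_of_forall_pt
  intro u
  obtain ⟨g, hg⟩ := exists_pt_section U u
  exact ⟨T, g, ⟨_, 𝟙 _, _, Presieve.ofArrows.mk (f := fun σ : T ⟶ U => σ) g,
    Category.id_comp _⟩, hg⟩

/-- a section of a sheaf is determined by its values at the rational points -/
lemma sect_ext (F : EtDesc.Sh (X)) (U : (X).Etale) (s s' : F.obj.obj (op U))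
    (h : ∀ σ : T ⟶ U, F.obj.map σ.op s = F.obj.map σ.op s') : s = s' := by
  have hsh : Presieve.IsSheaf (X).smallEtaleTopology F.obj :=
    (isSheaf_iff_isSheaf_of_type _ _).1 F.2
  refine (hsh.isSeparated _ (generate_pts_mem U)).ext ?_
  rintro W f ⟨V, a, b, ⟨σ⟩, rfl⟩
  rw [op_comp, Functor.map_comp]
  exact congrArg (F.obj.map a.op) (h σ)

/-- values at the rational points can be prescribed arbitrarily -/
lemma exists_sect (F : EtDesc.Sh (X)) (U : (X).Etale) (x : (T ⟶ U) → F.obj.obj (op T)) :
    ∃ s : F.obj.obj (op U), ∀ σ : T ⟶ U, F.obj.map σ.op s = x σ := by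
  have hsh : Presieve.IsSheaf (X).smallEtaleTopology F.obj :=
    (isSheaf_iff_isSheaf_of_type _ _).1 F.2
  have h1 := hsh.isSheafFor _ (generate_pts_mem U)
  rw [Presieve.isSheafFor_arrows_iff] at h1
  have hx : Presieve.Arrows.Compatible F.obj (fun σ : T ⟶ U => σ) x := by
    intro σ σ' W a b hab
    have hab' : a = b := (EtCore.topIsTerminal (X)).hom_ext _ _
    subst hab'
    by_cases hW : IsEmpty W.left
    · exact (subsingleton_of_isEmpty F W).elim _ _
    · rw [not_isEmpty_iff] at hW
      obtain ⟨w⟩ := hW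
      obtain ⟨τ, -⟩ := exists_pt_section W w
      have h3 : τ ≫ a = 𝟙 _ := top_endo_eq_id _
      have h4 : σ = σ' := by
        calc σ = (τ ≫ a) ≫ σ := by rw [h3, Category.id_comp]
          _ = τ ≫ (a ≫ σ') := by rw [Category.assoc, hab]
          _ = σ' := by rw [← Category.assoc, h3, Category.id_comp]
      rw [h4]
  obtain ⟨s, hs, -⟩ := h1 x hx
  exact ⟨s, hs⟩

variable (k) in
/-- the presheaf `U ↦ (rational points of U → S)` -/
noncomputable def ptsPresheaf (S : Type (u + 1)) : (X).Etaleᵒᵖ ⥤ Type (u + 1) where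
  obj U := (T ⟶ U.unop) → S
  map g := TypeCat.ofHom (fun h σ => h (σ ≫ g.unop))
  map_id U := by
    apply ConcreteCategory.hom_ext
    intro h
    funext σ
    show h (σ ≫ 𝟙 _) = h σ
    rw [Category.comp_id]
  map_comp f g := by
    apply ConcreteCategory.hom_ext
    intro h
    funext σ
    show h (σ ≫ (g.unop ≫ f.unop)) = h ((σ ≫ g.unop) ≫ f.unop)
    rw [Category.assoc]

omit [IsSepClosed k] in
lemma ptsPresheaf_map_apply (S : Type (u + 1)) {U V : (X).Etale} (g : V ⟶ U)
    (h : (T ⟶ U) → S) (σ : T ⟶ V) : (ptsPresheaf k S).map g.op h σ = h (σ ≫ g) := rfl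

lemma isSheaf_ptsPresheaf (S : Type (u + 1)) :
    Presheaf.IsSheaf (X).smallEtaleTopology (ptsPresheaf k S) := by
  rw [isSheaf_iff_isSheaf_of_type]
  intro U R hR x hx
  refine ⟨fun σ => x σ (sieve_apply_pt R hR σ) (𝟙 _), ?_, ?_⟩
  · intro V g hg
    funext τ
    rw [ptsPresheaf_map_apply]
    have h1 := hx (𝟙 T) τ (sieve_apply_pt R hR (τ ≫ g)) hg (Category.id_comp _)
    have h2 := congrFun h1 (𝟙 _)
    rw [ptsPresheaf_map_apply, ptsPresheaf_map_apply] at h2
    rw [Category.id_comp, Category.id_comp] at h2
    exact h2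
  · intro h hh
    funext σ
    have h1 := hh σ (sieve_apply_pt R hR σ)
    have h2 := congrFun h1 (𝟙 _)
    rw [ptsPresheaf_map_apply, Category.id_comp] at h2
    exact h2

end

/-- For a separably closed field k and X = Spec k, the global sections functor from sheaves of sets on
X_et (valued one universe up) to sets is an equivalence of categories. -/
theorem result (k : Type u) [Field k] [IsSepClosed k] :
    ((sheafSections (Spec (CommRingCat.of k)).smallEtaleTopology (Type (u + 1))).obj
      (op (EtCoh.top (Spec (CommRingCat.of k))))).IsEquivalence := by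
  refine { faithful := ⟨?_⟩, full := ⟨?_⟩, essSurj := ⟨?_⟩ }
  · -- faithful
    intro F G f f' hff'
    have h0 : f.hom.app (op (EtCoh.top (Spec (CommRingCat.of k)))) =
        f'.hom.app (op (EtCoh.top (Spec (CommRingCat.of k)))) := hff'
    apply Sheaf.hom_ext
    apply NatTrans.ext
    funext U
    apply ConcreteCategory.hom_ext
    intro s
    apply sect_ext G U.unop
    intro σ
    have e1 := ConcreteCategory.congr_hom (f.hom.naturality σ.op) s
    have e2 := ConcreteCategory.congr_hom (f'.hom.naturality σ.op) s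
    simp only [ConcreteCategory.comp_apply] at e1 e2
    exact e1.symm.trans ((congrArg (fun t => (ConcreteCategory.hom t) (F.obj.map σ.op s)) h0).trans e2)
  · -- full
    intro F G φ
    have hex := fun (U : (Spec (CommRingCat.of k)).Etale) (s : F.obj.obj (op U)) =>
      exists_sect G U (fun σ => φ (F.obj.map σ.op s))
    let fU : ∀ (U : (Spec (CommRingCat.of k)).Etaleᵒᵖ), F.obj.obj U → G.obj.obj U :=
      fun U s => (hex U.unop s).choose
    have hfU : ∀ (U : (Spec (CommRingCat.of k)).Etaleᵒᵖ) (s : F.obj.obj U)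
        (σ : EtCoh.top (Spec (CommRingCat.of k)) ⟶ U.unop),
        G.obj.map σ.op (fU U s) = φ (F.obj.map σ.op s) :=
      fun U s σ => (hex U.unop s).choose_spec σ
    refine ⟨⟨{ app := fun U => TypeCat.ofHom (fU U), naturality := ?_ }⟩, ?_⟩
    · intro U V g
      apply ConcreteCategory.hom_ext
      intro s
      show fU V (F.obj.map g s) = G.obj.map g (fU U s)
      apply sect_ext G V.unop
      intro τ
      rw [hfU V _ τ]
      have e1 : G.obj.map τ.op (G.obj.map g (fU U s)) = G.obj.map (τ ≫ g.unop).op (fU U s) := by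
        rw [op_comp, Functor.map_comp]
        rfl
      have e2 : F.obj.map τ.op (F.obj.map g s) = F.obj.map (τ ≫ g.unop).op s := by
        rw [op_comp, Functor.map_comp]
        rfl
      rw [e1, e2, hfU U s (τ ≫ g.unop)]
    · apply ConcreteCategory.hom_ext
      intro s
      have h1 := hfU (op (EtCoh.top (Spec (CommRingCat.of k)))) s (𝟙 _)
      rw [op_id, CategoryTheory.Functor.map_id, CategoryTheory.Functor.map_id] at h1
      exact h1
  · -- essentially surjective
    intro S
    refine ⟨⟨ptsPresheaf k S, isSheaf_ptsPresheaf S⟩, ⟨Equiv.toIso ?_⟩⟩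
    exact
      { toFun := fun h => h (𝟙 _)
        invFun := fun s _ => s
        left_inv := fun h => by
          funext σ
          rw [Groth.Agent.Lib.EtHensSect.top_endo_eq_id σ]
        right_inv := fun s => rfl }

end Groth.Agent.S3055
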