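import Groth.Statements.S3067
import Groth.Agent.Lib.TFin

set_option autoImplicit false
open CategoryTheory CategoryTheory.Limits Opposite
universe u
open ToposFin

namespace Groth.Agent.S3067

/-- In the topos of sheaves of sets on a small site that admits a generating family of quasi-compact
objects, let (g_i : Y_i → Y) be a jointly epimorphic family of morphisms with every Y_i coherent.
Then Y is quasi-separated if and only if every g_i is quasi-compact, and Y is quasi-separated if and
only if every fibre product Y_i ×_Y Y_j is quasi-compact. -/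
theorem result {C : Type u} [SmallCategory C] {J : GrothendieckTopology C} (hE : ToposFin.HasQCGenerators J) {Y : ToposFin.Sh J} {ι : Type u}
    (Yi : ι → ToposFin.Sh J) (g : ∀ i, Yi i ⟶ Y) (hg : Epi (Sigma.desc g)) (hY : ∀ i, ToposFin.IsCoherent (Yi i)) :
    (ToposFin.IsQS Y ↔ ∀ i, ToposFin.IsQCHom (g i)) ∧
    (ToposFin.IsQS Y ↔ ∀ i j, ToposFin.IsQC (pullback (g i) (g j))) := by
  have hg' := (Groth.Agent.Lib.TFin.epi_sigmaDesc_iff_cov g).1 hg
  refine ⟨⟨fun h i => ?_, fun h => ?_⟩, ⟨fun h i j => ?_, fun h => ?_⟩⟩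
  · exact (Groth.Agent.Lib.TFin.isQS_iff Y).1 h (Yi i) (g i) (hY i).1
  · exact Groth.Agent.Lib.TFin.isQS_of_cov_isQCHom Yi g hg' hY h
  · exact h (Yi i) (Yi j) (g i) (g j) (hY i).1 (hY j).1
  · refine Groth.Agent.Lib.TFin.isQS_of_cov_isQCHom Yi g hg' hY (fun i => ?_)
    exact Groth.Agent.Lib.TFin.isQCHom_of_cover_target hE (g i) Yi g hg'
      (fun j => (Groth.Agent.Lib.TFin.isQS_iff (Yi j)).1 (hY j).2 _ _ (h i j))

end Groth.Agent.S3067
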