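import Groth.Statements.S3068
import Groth.Agent.Lib.TFin

set_option autoImplicit false
open CategoryTheory CategoryTheory.Limits Opposite
universe u
open ToposFin

namespace Groth.Agent.S3068

/-- For a topos of sheaves of sets on a small site: given a generating family of quasi-compact objects
G_a, an object Y is quasi-separated if and only if every morphism G_a -> Y is quasi-compact. -/
theorem result {C : Type u} [SmallCategory C] {J : GrothendieckTopology C} {α : Type u} (G : α → ToposFin.Sh J) (hG : ∀ a, ToposFin.IsQC (G a))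
    (hgen : ∀ X : ToposFin.Sh J, ∃ (ι : Type u) (a : ι → α) (π : ∀ i, G (a i) ⟶ X), Epi (Sigma.desc π))
    (Y : ToposFin.Sh J) :
    ToposFin.IsQS Y ↔ ∀ (a : α) (s : G a ⟶ Y), ToposFin.IsQCHom s := by
  rw [Groth.Agent.Lib.TFin.isQS_iff]
  constructor
  · intro h a s
    exact h (G a) s (hG a)
  · intro h A t hA
    obtain ⟨ι, a, π, hπ⟩ := hgen A
    obtain ⟨s, hs⟩ := (Groth.Agent.Lib.TFin.isQC_iff_cov A).1 hA ι _ π
      ((Groth.Agent.Lib.TFin.epi_sigmaDesc_iff_cov π).1 hπ)
    exact Groth.Agent.Lib.TFin.isQCHom_of_cov_finite_source t (fun i : s => G (a i))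
      (fun i : s => π i) hs (fun i => h (a i) (π i ≫ t))

end Groth.Agent.S3068
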