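import Groth.Statements.S3079
import Groth.Agent.Lib.CanonLim2

set_option autoImplicit false
universe w v u
open CategoryTheory
open SGA4

namespace Groth.Agent.S3079

open CategoryTheory.Limits in
/-- For the topos of sheaves of sets on a small site (C, J): a presheaf F on the topos with values in an
arbitrary category E' is a sheaf for the canonical topology of the topos if and only if F, as a
functor on the opposite category, preserves all u-small limits (i.e. turns u-small colimits of
sheaves into limits in E'). -/
theorem result {C : Type u} [SmallCategory C] (J : GrothendieckTopology C)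
    {E' : Type v} [Category.{w} E'] (F : (Sheaf J (Type u))ᵒᵖ ⥤ E') :
    Presheaf.IsSheaf (Sheaf.canonicalTopology (Sheaf J (Type u))) F ↔ PreservesLimitsOfSize.{u, u} F := by
  constructor
  · intro hF
    refine ⟨fun {I} _ => ⟨fun {D} => ⟨fun {c} hc => ⟨?_⟩⟩⟩⟩
    apply CategoryTheory.coyonedaJointlyReflectsLimits
    intro E
    have := Groth.Agent.Lib.CanonLim.preservesLimitsOfSize_of_isSheaf (F ⋙ coyoneda.obj E)
      (hF E.unop)
    exact Limits.isLimitOfPreserves (F ⋙ coyoneda.obj E) hc
  · intro hF E
    exact Groth.Agent.Lib.CanonLim.isSheaf_of_preservesLimits (F ⋙ coyoneda.obj (Opposite.op E))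

end Groth.Agent.S3079
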