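import Groth.Statements.S3082
-- import your own Groth.Agent.* helpers here

set_option autoImplicit false
universe u
open CategoryTheory
open SGA4

namespace Groth.Agent.S3082

open Opposite

variable {C : Type u} [SmallCategory C] (J : GrothendieckTopology C)

/-- Sections of a sheaf over `X` as morphisms from the sheafified representable. -/
noncomputable def homEquivSections (X : C) (F : Sheaf J (Type u)) :
    ((presheafToSheaf J (Type u)).obj (yoneda.obj X) ⟶ F) ≃ F.obj.obj (op X) :=
  ((sheafificationAdjunction J (Type u)).homEquiv (yoneda.obj X) F).trans yonedaEquiv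

theorem homEquivSections_naturality (X : C) {F F' : Sheaf J (Type u)} (f : F ⟶ F')
    (h : (presheafToSheaf J (Type u)).obj (yoneda.obj X) ⟶ F) :
    homEquivSections J X F' (h ≫ f) = f.hom.app (op X) (homEquivSections J X F h) := by
  simp only [homEquivSections, Equiv.trans_apply]
  rw [Adjunction.homEquiv_naturality_right]
  rfl

theorem bijective_app_of_unique_lift (X : C) {F F' : Sheaf J (Type u)} (f : F ⟶ F')
    (hf : ∀ h : (presheafToSheaf J (Type u)).obj (yoneda.obj X) ⟶ F',
      ∃! h' : (presheafToSheaf J (Type u)).obj (yoneda.obj X) ⟶ F, h' ≫ f = h) :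
    Function.Bijective (f.hom.app (op X)) := by
  constructor
  · intro s t hst
    obtain ⟨h', -, huniq⟩ := hf ((homEquivSections J X F').symm (f.hom.app (op X) s))
    have hs : (homEquivSections J X F).symm s = h' := by
      apply huniq
      apply (homEquivSections J X F').injective
      rw [homEquivSections_naturality]
      simp
    have ht : (homEquivSections J X F).symm t = h' := by
      apply huniq
      apply (homEquivSections J X F').injective
      rw [homEquivSections_naturality]
      simp [hst]
    exact (homEquivSections J X F).symm.injective (hs.trans ht.symm)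
  · intro t
    obtain ⟨h', hh', -⟩ := hf ((homEquivSections J X F').symm t)
    refine ⟨homEquivSections J X F h', ?_⟩
    rw [← homEquivSections_naturality, hh']
    simp

/-- Let (C, J) be a small site and G a set of objects of C such that each object of C has a covering
family whose members all lie in G. Then the sheafifications of the presheaves represented by the
members of G form a detecting family in the category Sh(C, J) of set-valued sheaves on (C, J): any
morphism of sheaves that is bijective on sections over each member of G is an isomorphism. -/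
theorem result {C : Type u} [SmallCategory C] (J : GrothendieckTopology C) (G : Set C)
    (hG : ∀ X : C, ∃ (ι : Type u) (Y : ι → C) (f : ∀ i, Y i ⟶ X), Sieve.ofArrows Y f ∈ J X ∧ ∀ i, Y i ∈ G) :
    (ObjectProperty.ofObj fun X : G => (presheafToSheaf J (Type u)).obj (yoneda.obj (X : C))).IsDetecting := by
  intro F F' f hf
  have hbij : ∀ X : C, X ∈ G → Function.Bijective (f.hom.app (op X)) := by
    intro X hX
    apply bijective_app_of_unique_lift
    intro h
    exact hf _ (ObjectProperty.ofObj_apply _ (⟨X, hX⟩ : G)) h
  have hFs : Presieve.IsSheaf J F.obj := (isSheaf_iff_isSheaf_of_type J F.obj).mp F.2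
  have hF's : Presieve.IsSheaf J F'.obj := (isSheaf_iff_isSheaf_of_type J F'.obj).mp F'.2
  have hnat : ∀ {X Z : C} (g : Z ⟶ X) (s : F.obj.obj (op X)),
      f.hom.app (op Z) (F.obj.map g.op s) = F'.obj.map g.op (f.hom.app (op X) s) := by
    intro X Z g s
    exact congr($(f.hom.naturality g.op) s)
  have hinj : ∀ X : C, Function.Injective (f.hom.app (op X)) := by
    intro X s t hst
    obtain ⟨ι, Y, φ, hcov, hYG⟩ := hG X
    refine (hFs _ hcov).isSeparatedFor.ext ?_
    rintro Z g ⟨W, h, k, ⟨i⟩, rfl⟩
    have : F.obj.map (φ i).op s = F.obj.map (φ i).op t := by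
      apply (hbij _ (hYG i)).1
      rw [hnat, hnat, hst]
    rw [op_comp, F.obj.map_comp]
    change F.obj.map h.op (F.obj.map (φ i).op s) = F.obj.map h.op (F.obj.map (φ i).op t)
    rw [this]
  have hsurj : ∀ X : C, Function.Surjective (f.hom.app (op X)) := by
    intro X t
    obtain ⟨ι, Y, φ, hcov, hYG⟩ := hG X
    have hex : ∀ (Z : C) (g : Z ⟶ X), Sieve.ofArrows Y φ g →
        ∃ x : F.obj.obj (op Z), f.hom.app (op Z) x = F'.obj.map g.op t := by
      rintro Z g ⟨W, h, k, ⟨i⟩, rfl⟩
      obtain ⟨si, hsi⟩ := (hbij _ (hYG i)).2 (F'.obj.map (φ i).op t)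
      refine ⟨F.obj.map h.op si, ?_⟩
      rw [hnat, hsi, op_comp, F'.obj.map_comp]
      rfl
    let x : Presieve.FamilyOfElements F.obj (Sieve.ofArrows Y φ).arrows :=
      fun Z g hg => (hex Z g hg).choose
    have hx : ∀ (Z : C) (g : Z ⟶ X) (hg : Sieve.ofArrows Y φ g),
        f.hom.app (op Z) (x g hg) = F'.obj.map g.op t := fun Z g hg => (hex Z g hg).choose_spec
    have hcompat : x.Compatible := by
      rw [Presieve.compatible_iff_sieveCompatible]
      intro Z W g k hg
      apply hinj
      rw [hx _ _ (Sieve.downward_closed _ hg k), hnat, hx _ _ hg, op_comp, F'.obj.map_comp]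
      rfl
    obtain ⟨s, hs, -⟩ := (hFs _ hcov) x hcompat
    refine ⟨s, ?_⟩
    refine (hF's _ hcov).isSeparatedFor.ext ?_
    intro Z g hg
    rw [← hnat, hs g hg, hx _ _ hg]
  have : ∀ X : Cᵒᵖ, IsIso (f.hom.app X) := by
    intro X
    rw [isIso_iff_bijective]
    exact ⟨hinj X.unop, hsurj X.unop⟩
  have h1 : IsIso f.hom := NatIso.isIso_of_isIso_app _
  have : IsIso ((sheafToPresheaf J (Type u)).map f) := h1
  exact isIso_of_reflects_iso f (sheafToPresheaf J (Type u))

end Groth.Agent.S3082
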