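import Groth.Statements.S3886
import Mathlib.AlgebraicTopology.SimplicialObject.ChainHomotopy

set_option autoImplicit false
universe u
open CategoryTheory
open Hyper

namespace Groth.Agent.S3886

section Aux
open Opposite CategoryTheory.Limits AlgebraicTopology Simplicial

variable {D : Type*} [Category D] {A : Type*} [Category A] [Preadditive A]

noncomputable abbrev cosimp (K : SimplicialObject D) (G : Dᵒᵖ ⥤ A) : CosimplicialObject A :=
  K.rightOp ⋙ G

noncomputable abbrev cosimpMap {K L : SimplicialObject D} (a : L ⟶ K) (G : Dᵒᵖ ⥤ A) :
    cosimp K G ⟶ cosimp L G :=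
  Functor.whiskerRight (NatTrans.rightOp a) G

lemma objD_eq (K : SimplicialObject D) (G : Dᵒᵖ ⥤ A) (n : ℕ) :
    AlternatingCofaceMapComplex.objD (cosimp K G) n =
      (AlternatingFaceMapComplex.objD
        (((SimplicialObject.whiskering D Aᵒᵖ).obj G.rightOp).obj K) n).unop := by
  simp only [AlternatingCofaceMapComplex.objD, AlternatingFaceMapComplex.objD, unop_sum, unop_zsmul]
  rfl

lemma acmc_d (Z : CosimplicialObject A) (n : ℕ) :
    ((alternatingCofaceMapComplex A).obj Z).d n (n + 1) =
      AlternatingCofaceMapComplex.objD Z n := by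
  show (AlternatingCofaceMapComplex.obj Z).d n (n + 1) = _
  exact CochainComplex.of_d (V := A) (α := ℕ) (fun n => Z.obj ⦋n⦌) (AlternatingCofaceMapComplex.objD Z) n

noncomputable def hHom {K L : SimplicialObject D} {a b : L ⟶ K}
    (H : SimplicialObject.Homotopy a b) (G : Dᵒᵖ ⥤ A) (i j : ℕ) :
    ((alternatingCofaceMapComplex A).obj (cosimp K G)).X i ⟶
      ((alternatingCofaceMapComplex A).obj (cosimp L G)).X j :=
  ((H.whiskerRight G.rightOp).toChainHomotopy.hom j i).unop

noncomputable def cochainHomotopy {K L : SimplicialObject D} {a b : L ⟶ K}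
    (H : SimplicialObject.Homotopy a b) (G : Dᵒᵖ ⥤ A) :
    Homotopy ((alternatingCofaceMapComplex A).map (cosimpMap a G))
      ((alternatingCofaceMapComplex A).map (cosimpMap b G)) where
  hom := hHom H G
  zero i j hij := by
    have := (H.whiskerRight G.rightOp).toChainHomotopy.zero j i (by simpa using hij)
    exact congrArg Quiver.Hom.unop this
  comm i := by
    have hc := (H.whiskerRight G.rightOp).toChainHomotopy.comm i
    cases i with
    | zero =>
      rw [prevD_eq (j' := 1) (w := by simp), dNext_eq_zero _ _ (by simp), zero_add] at hc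
      rw [dNext_eq (i' := 1) (w := by simp), prevD_eq_zero _ _ (by simp), add_zero]
      have := congrArg Quiver.Hom.unop hc
      rw [unop_add, unop_comp] at this
      exact this
    | succ n =>
      rw [dNext_eq (i' := n) (w := by simp), prevD_eq (j' := n + 2) (w := by simp)] at hc
      rw [dNext_eq (i' := n + 2) (w := by simp), prevD_eq (j' := n) (w := by simp)]
      have := congrArg Quiver.Hom.unop hc
      have f1 : ((alternatingFaceMapComplex Aᵒᵖ).obj
          (((SimplicialObject.whiskering D Aᵒᵖ).obj G.rightOp).obj K)).d (n + 2) (n + 1) =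
          AlternatingFaceMapComplex.objD
            (((SimplicialObject.whiskering D Aᵒᵖ).obj G.rightOp).obj K) (n + 1) :=
        alternatingFaceMapComplex_obj_d _ _
      have f2 : ((alternatingFaceMapComplex Aᵒᵖ).obj
          (((SimplicialObject.whiskering D Aᵒᵖ).obj G.rightOp).obj L)).d (n + 1) n =
          AlternatingFaceMapComplex.objD
            (((SimplicialObject.whiskering D Aᵒᵖ).obj G.rightOp).obj L) n :=
        alternatingFaceMapComplex_obj_d _ _
      rw [unop_add, unop_add, unop_comp, unop_comp, add_comm (_ ≫ _) (_ ≫ _), f1, f2] at this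
      have e1 : ((alternatingCofaceMapComplex A).obj (cosimp K G)).d (n + 1) (n + 2) =
          AlternatingCofaceMapComplex.objD (cosimp K G) (n + 1) := acmc_d _ _
      have e2 : ((alternatingCofaceMapComplex A).obj (cosimp L G)).d n (n + 1) =
          AlternatingCofaceMapComplex.objD (cosimp L G) n := acmc_d _ _
      rw [e1, e2, objD_eq, objD_eq]
      exact this

end Aux

open Opposite CategoryTheory.Limits in
/-- Let a, b : L -> K be two morphisms of simplicial semi-representable objects over an object X of a
small category (simplicial objects in formal coproducts of objects over X), homotopic in the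
combinatorial (simplicial) sense. Then for every presheaf of abelian groups P and every p, a and b
induce the same map from the p-th Cech cohomology group of P with respect to K to that with respect
to L. -/
theorem result {C : Type u} [SmallCategory C] (X : C)
    {K L : SimplicialObject (FormalCoproduct.{u} (Over X))} (a b : L ⟶ K)
    (h : Nonempty (SimplicialObject.Homotopy a b)) (P : Cᵒᵖ ⥤ AddCommGrpCat.{u}) (p : ℕ) :
    Hyper.cechHMap X a P p = Hyper.cechHMap X b P p := by
  obtain ⟨H⟩ := h
  have key := (cochainHomotopy H
    ((FormalCoproduct.evalOp.{u} (Over X) AddCommGrpCat.{u}).obj ((Over.forget X).op ⋙ P))).homologyMap_eq p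
  have e : ∀ c : L ⟶ K, Hyper.cechMap X c P = (AlgebraicTopology.alternatingCofaceMapComplex AddCommGrpCat.{u}).map
      (cosimpMap c ((FormalCoproduct.evalOp.{u} (Over X) AddCommGrpCat.{u}).obj ((Over.forget X).op ⋙ P))) :=
    fun c => rfl
  show (HomologicalComplex.homologyMap (cechMap X a P) p).hom =
    (HomologicalComplex.homologyMap (cechMap X b P) p).hom
  exact congrArg AddCommGrpCat.Hom.hom key

end Groth.Agent.S3886
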