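import Groth.Statements.S3088
import Groth.Agent.S3886

set_option autoImplicit false
universe u
open CategoryTheory
open CohSite

namespace Groth.Agent.S3088

section Aux
open Opposite CategoryTheory.Limits AlgebraicTopology Simplicial FormalCoproduct

universe w v' u'

lemma sA_val {n : ℕ} (i : Fin (n + 2)) (k : Fin (n + 1)) :
    (i.succAbove k : ℕ) = if (k : ℕ) < i then (k : ℕ) else k + 1 := by
  simp only [Fin.succAbove, Fin.lt_def, Fin.val_castSucc]
  split_ifs <;> simp

lemma pA_val {n : ℕ} (j : Fin (n + 1)) (k : Fin (n + 2)) :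
    (j.predAbove k : ℕ) = if (j : ℕ) < k then (k : ℕ) - 1 else k := by
  simp only [Fin.predAbove, Fin.lt_def, Fin.val_castSucc]
  split_ifs <;> simp

/-- Decide `Fin` (in)equalities involving `succAbove` and `predAbove`. -/
macro "fin_tac" : tactic => `(tactic|
  (simp only [Fin.ext_iff, Fin.le_def, Fin.lt_def, sA_val, pA_val, Fin.val_succ,
      Fin.val_castSucc, Fin.val_last, Fin.val_zero] at *
   split_ifs <;> omega))

variable {D : Type u'} [Category.{v'} D] [HasFiniteProducts D]
  {U V : FormalCoproduct.{w} D}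

/-- The projections of the Čech object. -/
noncomputable abbrev pr (U : FormalCoproduct.{w} D) {n : ℕ} (k : Fin (n + 1)) : (cechFunctor.obj U) _⦋n⦌ ⟶ U :=
  U.powerπ k

@[reassoc]
lemma δ_pr {n : ℕ} (i : Fin (n + 2)) (k : Fin (n + 1)) :
    (cechFunctor.obj U).δ i ≫ pr U k = pr U (i.succAbove k) :=
  U.mapPower_π _ _

@[reassoc]
lemma σ_pr {n : ℕ} (i : Fin (n + 1)) (k : Fin (n + 2)) :
    (cechFunctor.obj U).σ i ≫ pr U k = pr U (i.predAbove k) :=
  U.mapPower_π _ _

lemma ext_cech {Z : FormalCoproduct.{w} D} {n : ℕ} (a b : Z ⟶ (cechFunctor.obj U) _⦋n⦌)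
    (hπ : ∀ k, a ≫ pr U k = b ≫ pr U k) : a = b :=
  Fan.IsLimit.hom_ext (U.isLimitPowerFan (Fin (n + 1))) a b hπ

variable (f g : U ⟶ V)

/-- The homotopy operators. -/
noncomputable def hh {n : ℕ} (j : Fin (n + 1)) : (cechFunctor.obj U) _⦋n⦌ ⟶ (cechFunctor.obj V) _⦋n + 1⦌ :=
  Fan.IsLimit.lift (V.isLimitPowerFan (Fin (n + 2)))
    (fun k : Fin (n + 2) => pr U (j.predAbove k) ≫ (if (k : ℕ) ≤ (j : ℕ) then f else g))

lemma hh_pr {n : ℕ} (j : Fin (n + 1)) (k : Fin (n + 2)) :
    hh f g j ≫ pr V k = pr U (j.predAbove k) ≫ (if (k : ℕ) ≤ (j : ℕ) then f else g) :=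
  Fan.IsLimit.fac (V.isLimitPowerFan (Fin (n + 2))) _ k

lemma pr_ite_congr {n : ℕ} {x x' : Fin (n + 1)} {P P' : Prop} [Decidable P] [Decidable P']
    (hx : x = x') (hP : P ↔ P') :
    pr U x ≫ (if P then f else g) = pr U x' ≫ (if P' then f else g) := by
  subst hx
  congr 1
  exact if_congr hP rfl rfl

set_option backward.defeqAttrib.useBackward true in
set_option backward.isDefEq.respectTransparency false in
omit [HasFiniteProducts D] in
lemma powerMap_π' (φ : U ⟶ V) (α : Type) [HasProductsOfShape α D] (a : α) :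
    powerMap φ α ≫ V.powerπ a = U.powerπ a ≫ φ := by
  ext <;> simp

lemma map_pr (φ : U ⟶ V) {n : ℕ} (k : Fin (n + 1)) :
    (cechFunctor.map φ).app (op ⦋n⦌) ≫ pr V k = pr U k ≫ φ :=
  powerMap_π' φ _ k

/-- The homotopy. -/
noncomputable def homotopy : SimplicialObject.Homotopy (cechFunctor.map f) (cechFunctor.map g) where
  h j := hh f g j
  h_zero_comp_δ_zero n := by
    apply ext_cech
    intro k
    simp only [Category.assoc, δ_pr, hh_pr, map_pr]
    have hx : Fin.predAbove 0 (Fin.succAbove 0 k) = k := by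
      rw [Fin.succAbove_zero, Fin.ext_iff, pA_val]
      simp
    have hy : ¬ ((Fin.succAbove 0 k : Fin (n + 2)) : ℕ) ≤ ((0 : Fin (n + 1)) : ℕ) := by
      rw [Fin.succAbove_zero]
      simp
    rw [hx, if_neg hy]
  h_last_comp_δ_last n := by
    apply ext_cech
    intro k
    simp only [Category.assoc, δ_pr, hh_pr, map_pr]
    have hx : (Fin.last n).predAbove ((Fin.last (n + 1)).succAbove k) = k := by fin_tac
    rw [hx, if_pos (by fin_tac)]
  h_succ_comp_δ_castSucc_of_lt i j hij := by
    apply ext_cech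
    intro k
    simp only [Category.assoc, δ_pr, hh_pr, δ_pr_assoc]
    exact pr_ite_congr f g (by fin_tac) (by fin_tac)
  h_succ_comp_δ_castSucc_succ j := by
    apply ext_cech
    intro k
    simp only [Category.assoc, δ_pr, hh_pr]
    exact pr_ite_congr f g (by fin_tac) (by fin_tac)
  h_castSucc_comp_δ_succ_of_lt i j hji := by
    apply ext_cech
    intro k
    simp only [Category.assoc, δ_pr, hh_pr, δ_pr_assoc]
    exact pr_ite_congr f g (by fin_tac) (by fin_tac)
  h_comp_σ_castSucc_of_le i j hij := by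
    apply ext_cech
    intro k
    simp only [Category.assoc, σ_pr, hh_pr, σ_pr_assoc]
    exact pr_ite_congr f g (by fin_tac) (by fin_tac)
  h_comp_σ_succ_of_lt i j hji := by
    apply ext_cech
    intro k
    simp only [Category.assoc, σ_pr, hh_pr, σ_pr_assoc]
    exact pr_ite_congr f g (by fin_tac) (by fin_tac)

end Aux

open CategoryTheory.Limits in
/-- With A = Z: let C be a u-small category with fibre products, 𝒰 and 𝒰' two families of objects over U
(formal coproducts in the over category) and f, g : 𝒰 -> 𝒰' two refinement morphisms. Then for every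
presheaf of abelian groups M and every q, the maps induced by f and g on the q-th Cech cohomology
groups (from that of 𝒰' to that of 𝒰) coincide. -/
theorem result {C : Type u} [SmallCategory C] [HasPullbacks C] (M : Cᵒᵖ ⥤ AddCommGrpCat.{u})
    {U : C} {𝒰 𝒰' : FormalCoproduct.{u} (Over U)} (f g : 𝒰 ⟶ 𝒰') (q : ℕ) :
    HomologicalComplex.homologyMap (CohCx.cechRefine M f) q = HomologicalComplex.homologyMap (CohCx.cechRefine M g) q := by
  exact (Groth.Agent.S3886.cochainHomotopy (homotopy f g)
    ((FormalCoproduct.evalOp.{u} (Over U) AddCommGrpCat.{u}).obj ((Over.forget U).op ⋙ M))).homologyMap_eq q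

end Groth.Agent.S3088
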