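import Groth.Statements.S3129
import Mathlib

set_option autoImplicit false
set_option linter.unusedSectionVars false
set_option linter.unusedVariables false

namespace Groth.Agent.S3129

open Finset

section
variable {F : Type} [Field F] [Fintype F] [DecidableEq F] {R : Type} [CommRing R] [IsDomain R]

lemma sum_eq_add_sum_units (g : F → R) : ∑ y : F, g y = g 0 + ∑ y : Fˣ, g (y : F) := by
  rw [← Finset.add_sum_erase Finset.univ g (Finset.mem_univ 0)]
  congr 1
  rw [Finset.sum_subtype (p := fun a : F => a ≠ 0) (Finset.univ.erase 0) (by simp)]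
  exact (Fintype.sum_equiv unitsEquivNeZero _ _ (fun y => rfl)).symm

lemma sum_eq_sum_units (g : F → R) (h0 : g 0 = 0) : ∑ y : F, g y = ∑ y : Fˣ, g (y : F) := by
  rw [sum_eq_add_sum_units, h0, zero_add]

lemma addChar_sum (Ψ : AddChar F R) {ι : Type} (s : Finset ι) (f : ι → F) :
    Ψ (∑ i ∈ s, f i) = ∏ i ∈ s, Ψ (f i) := by
  classical
  induction s using Finset.induction_on with
  | empty => simp
  | insert a s ha ih => rw [Finset.sum_insert ha, Finset.prod_insert ha, AddChar.map_add_eq_mul, ih]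

lemma sum_units_addChar (Ψ : AddChar F R) (hΨ : Ψ ≠ 1) (c : F) :
    ∑ a : Fˣ, Ψ ((a : F) * c) = if c = 0 then (Fintype.card F : R) - 1 else -1 := by
  split_ifs with hc
  · subst hc
    have hcard : (Fintype.card Fˣ : R) = (Fintype.card F : R) - 1 := by
      rw [Fintype.card_units, Nat.cast_sub Fintype.card_pos, Nat.cast_one]
    simp [hcard]
  · have h1 : ∑ a : F, Ψ (a * c) = 0 := by
      rw [← AddChar.sum_eq_zero_of_ne_one hΨ]
      exact Fintype.sum_equiv (Equiv.mulRight₀ c hc) _ _ (fun a => rfl)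
    rw [sum_eq_add_sum_units (fun a => Ψ (a * c))] at h1
    simp only [zero_mul, AddChar.map_zero_eq_one] at h1
    linear_combination h1

/-- evaluation of multiplicative characters at a unit, as a monoid hom -/
def evalHom (a : Fˣ) : MulChar F R →* R where
  toFun χ := χ (a : F)
  map_one' := MulChar.one_apply_coe a
  map_mul' χ χ' := MulChar.mul_apply χ χ' _

/-- change of variables -/
def cov (N : ℕ) : (Fin (N + 1) → Fˣ) ≃ Fˣ × (Fin N → Fˣ) where
  toFun y := (y 0, fun i => (y 0)⁻¹ * y i.succ)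
  invFun p := Fin.cons p.1 (fun i => p.1 * p.2 i)
  left_inv y := by
    funext i
    refine Fin.cases ?_ (fun j => ?_) i
    · simp
    · simp
  right_inv p := by
    obtain ⟨a, x⟩ := p
    simp

end

theorem result (F : Type) [Field F] [Fintype F] [DecidableEq F] (R : Type) [CommRing R] [IsDomain R]
    (N : ℕ) (hN : 1 ≤ N) (χ : Fin (N + 1) → MulChar F R) (hprod : ∏ i, χ i = 1) (hnt : ∃ i, χ i ≠ 1)
    (Ψ : AddChar F R) (hΨ : Ψ ≠ 1) :
    (Fintype.card F : R) * ((-1) ^ (N - 1) *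
        ∑ x ∈ (Finset.univ : Finset (Fin N → Fˣ)).filter (fun x => ∑ i, ((x i : Fˣ) : F) = -1),
          ∏ i : Fin N, (χ i.succ)⁻¹ ((x i : Fˣ) : F)) =
      ∏ i : Fin (N + 1), (-(∑ y : F, Ψ y * (χ i)⁻¹ y)) := by
  -- (A)
  have hA : ∏ i : Fin (N + 1), (-(∑ y : F, Ψ y * (χ i)⁻¹ y)) =
      (-1) ^ (N + 1) * ∑ y : Fin (N + 1) → Fˣ,
        Ψ (∑ i, ((y i : Fˣ) : F)) * ∏ i, (χ i)⁻¹ ((y i : Fˣ) : F) := by
    have h1 : ∀ i : Fin (N + 1), (-(∑ y : F, Ψ y * (χ i)⁻¹ y)) =
        (-1) * ∑ y : Fˣ, Ψ (y : F) * (χ i)⁻¹ (y : F) := by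
      intro i
      rw [sum_eq_sum_units (fun y => Ψ y * (χ i)⁻¹ y) (by simp [MulChar.map_zero]), neg_one_mul]
    simp_rw [h1]
    rw [Finset.prod_mul_distrib, Finset.prod_const, Finset.card_univ, Fintype.card_fin,
      Finset.prod_univ_sum, Fintype.piFinset_univ]
    congr 1
    refine Finset.sum_congr rfl (fun y _ => ?_)
    rw [Finset.prod_mul_distrib, addChar_sum]
  -- product of all inverse characters at a unit is 1
  have hone : ∀ a : Fˣ, ∏ i : Fin (N + 1), (χ i)⁻¹ (a : F) = 1 := by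
    intro a
    have h2 : ∏ i : Fin (N + 1), (χ i)⁻¹ = (1 : MulChar F R) := by
      rw [Finset.prod_inv_distrib, hprod, inv_one]
    have h3 := congrArg (evalHom (R := R) a) h2
    rw [map_prod, map_one] at h3
    exact h3
  -- (B)+(C)
  have hBC : ∑ y : Fin (N + 1) → Fˣ,
        Ψ (∑ i, ((y i : Fˣ) : F)) * ∏ i, (χ i)⁻¹ ((y i : Fˣ) : F) =
      ∑ x : Fin N → Fˣ, (∏ i : Fin N, (χ i.succ)⁻¹ ((x i : Fˣ) : F)) *
        ∑ a : Fˣ, Ψ ((a : F) * (1 + ∑ i, ((x i : Fˣ) : F))) := by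
    rw [← Equiv.sum_comp (cov (F := F) N).symm, Fintype.sum_prod_type, Finset.sum_comm]
    refine Finset.sum_congr rfl (fun x _ => ?_)
    rw [Finset.mul_sum]
    refine Finset.sum_congr rfl (fun a _ => ?_)
    have hs : ∑ i : Fin (N + 1), (((cov (F := F) N).symm (a, x) i : Fˣ) : F) =
        (a : F) * (1 + ∑ i, ((x i : Fˣ) : F)) := by
      rw [Fin.sum_univ_succ]
      simp only [cov, Equiv.coe_fn_symm_mk, Fin.cons_zero, Fin.cons_succ, Units.val_mul]
      rw [mul_add, mul_one, Finset.mul_sum]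
    have hp : ∏ i : Fin (N + 1), (χ i)⁻¹ (((cov (F := F) N).symm (a, x) i : Fˣ) : F) =
        ∏ i : Fin N, (χ i.succ)⁻¹ ((x i : Fˣ) : F) := by
      rw [Fin.prod_univ_succ]
      simp only [cov, Equiv.coe_fn_symm_mk, Fin.cons_zero, Fin.cons_succ, Units.val_mul, map_mul]
      rw [Finset.prod_mul_distrib, ← mul_assoc]
      have := hone a
      rw [Fin.prod_univ_succ] at this
      rw [this, one_mul]
    rw [hs, hp, mul_comm]
  -- (E)
  have hE : ∑ x : Fin N → Fˣ, ∏ i : Fin N, (χ i.succ)⁻¹ ((x i : Fˣ) : F) = 0 := by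
    have hex : ∃ i : Fin N, χ i.succ ≠ 1 := by
      by_contra hcon
      push Not at hcon
      have h0 : χ 0 = 1 := by
        have := hprod
        rw [Fin.prod_univ_succ] at this
        simpa [hcon] using this
      obtain ⟨i, hi⟩ := hnt
      rcases Fin.eq_zero_or_eq_succ i with rfl | ⟨j, rfl⟩
      · exact hi h0
      · exact hi (hcon j)
    obtain ⟨i₀, hi₀⟩ := hex
    have h1 : ∑ x : Fin N → Fˣ, ∏ i : Fin N, (χ i.succ)⁻¹ ((x i : Fˣ) : F) =
        ∏ i : Fin N, ∑ a : Fˣ, (χ i.succ)⁻¹ (a : F) := by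
      rw [Finset.prod_univ_sum, Fintype.piFinset_univ]
    rw [h1]
    apply Finset.prod_eq_zero (Finset.mem_univ i₀)
    rw [← sum_eq_sum_units (fun a => (χ i₀.succ)⁻¹ a) (by simp [MulChar.map_zero])]
    exact MulChar.sum_eq_zero_of_ne_one (inv_ne_one.mpr hi₀)
  -- (D)
  have hD : ∑ x : Fin N → Fˣ, (∏ i : Fin N, (χ i.succ)⁻¹ ((x i : Fˣ) : F)) *
        ∑ a : Fˣ, Ψ ((a : F) * (1 + ∑ i, ((x i : Fˣ) : F))) =
      (Fintype.card F : R) *
        ∑ x ∈ (Finset.univ : Finset (Fin N → Fˣ)).filter (fun x => ∑ i, ((x i : Fˣ) : F) = -1),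
          ∏ i : Fin N, (χ i.succ)⁻¹ ((x i : Fˣ) : F) := by
    have h1 : ∀ x : Fin N → Fˣ, (∏ i : Fin N, (χ i.succ)⁻¹ ((x i : Fˣ) : F)) *
        ∑ a : Fˣ, Ψ ((a : F) * (1 + ∑ i, ((x i : Fˣ) : F))) =
        (if ∑ i, ((x i : Fˣ) : F) = -1 then
          (Fintype.card F : R) * ∏ i : Fin N, (χ i.succ)⁻¹ ((x i : Fˣ) : F) else 0) -
          ∏ i : Fin N, (χ i.succ)⁻¹ ((x i : Fˣ) : F) := by
      intro x
      rw [sum_units_addChar Ψ hΨ]
      have hiff : (1 + ∑ i, ((x i : Fˣ) : F) = 0) ↔ (∑ i, ((x i : Fˣ) : F) = -1) := by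
        constructor
        · intro h; linear_combination h
        · intro h; rw [h]; ring
      by_cases hx : ∑ i, ((x i : Fˣ) : F) = -1
      · rw [if_pos (hiff.mpr hx), if_pos hx]; ring
      · rw [if_neg (fun h => hx (hiff.mp h)), if_neg hx]; ring
    simp_rw [h1]
    rw [Finset.sum_sub_distrib, hE, sub_zero, ← Finset.sum_filter, Finset.mul_sum]
  rw [hA, hBC, hD]
  have hpow : (-1 : R) ^ (N + 1) = (-1) ^ (N - 1) := by
    have : N + 1 = (N - 1) + 2 := by omega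
    rw [this, pow_add]; simp
  rw [hpow]; ring

end Groth.Agent.S3129
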