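import Groth.Statements.S3133
import Mathlib

set_option autoImplicit false
open Polynomial
open SGA4h

namespace Groth.Agent.S3133


variable {S : Type*} [CommRing S] {m : Type*} [Fintype m] [DecidableEq m]

/-- the cyclic block matrix -/
def B (n : ℕ) (A : Matrix m m S) : Matrix (Fin n × m) (Fin n × m) S :=
  Matrix.of fun (p q : Fin n × m) =>
    if p.1.val = 0 then (if q.1.val = n - 1 then A p.2 q.2 else 0)
    else (if q.1.val + 1 = p.1.val ∧ p.2 = q.2 then 1 else 0)

/-- splitting off the first block -/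
def e (n : ℕ) (m : Type*) : m ⊕ (Fin n × m) ≃ Fin (n + 1) × m where
  toFun := Sum.elim (fun i => (0, i)) (fun p => (p.1.succ, p.2))
  invFun p := if h : p.1 = 0 then Sum.inl p.2 else Sum.inr (p.1.pred h, p.2)
  left_inv := by
    rintro (i | ⟨k, i⟩)
    · simp
    · simp [Fin.succ_ne_zero]
  right_inv := by
    rintro ⟨k, i⟩
    by_cases h : k = 0
    · simp [h]
    · simp [h]

lemma base (t : S) (A : Matrix m m S) :
    (1 - t • B 1 A).det = (1 - t ^ 1 • A).det := by
  let e1 : m ≃ Fin 1 × m :=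
    { toFun := fun i => (0, i)
      invFun := fun p => p.2
      left_inv := fun i => rfl
      right_inv := by rintro ⟨k, i⟩; simp [Subsingleton.elim k 0] }
  rw [← Matrix.det_submatrix_equiv_self e1 (1 - t • B 1 A)]
  congr 1
  ext i j
  simp [B, e1, Matrix.one_apply]

lemma step (n : ℕ) (hn : 1 ≤ n) (t : S) (A : Matrix m m S) :
    (1 - t • B (n + 1) A).det = (1 - t • B n (t • A)).det := by
  rw [← Matrix.det_submatrix_equiv_self (e n m) (1 - t • B (n + 1) A),
    ← Matrix.fromBlocks_toBlocks ((1 - t • B (n + 1) A).submatrix (e n m) (e n m))]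
  have h11 : ((1 - t • B (n + 1) A).submatrix (e n m) (e n m)).toBlocks₁₁ = 1 := by
    ext i j
    have : ¬ (0 = n) := by omega
    simp [Matrix.toBlocks₁₁, e, B, Matrix.one_apply, this]
  rw [h11, Matrix.det_fromBlocks_one₁₁]
  congr 1
  ext p q
  obtain ⟨k, i⟩ := p
  obtain ⟨l, j⟩ := q
  simp only [Matrix.sub_apply, Matrix.mul_apply, Matrix.toBlocks₂₂, Matrix.toBlocks₂₁,
    Matrix.toBlocks₁₂, Matrix.submatrix_apply, Matrix.of_apply, e, Equiv.coe_fn_mk, Sum.elim_inr,
    Sum.elim_inl, Matrix.smul_apply, B, Matrix.one_apply, smul_eq_mul]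
  have hk1 : ¬ ((k.succ : Fin (n + 1)) : ℕ) = 0 := by simp
  have hk2 : ∀ x : m, ¬ ((k.succ, i) : Fin (n + 1) × m) = (0, x) := by
    intro x h
    exact Fin.succ_ne_zero k (Prod.mk.inj h).1
  have hl2 : ∀ x : m, ¬ ((0, x) : Fin (n + 1) × m) = (l.succ, j) := by
    intro x h
    exact Fin.succ_ne_zero l (Prod.mk.inj h).1.symm
  have hkl : (((k.succ, i) : Fin (n + 1) × m) = (l.succ, j)) ↔ ((k, i) = (l, j)) := by
    simp [Prod.mk.injEq, Fin.succ_inj]
  have hk3 : ¬ ((k : ℕ) + 1 = 0) := Nat.succ_ne_zero _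
  simp only [hk2, hl2, hkl, if_false, Fin.val_zero, if_true, Fin.val_succ, zero_sub,
    Nat.add_sub_cancel, Nat.add_right_cancel_iff, zero_add, hk3]
  have hsum : ∑ x : m, -(t * if (1 : ℕ) = ↑k + 1 ∧ i = x then (1 : S) else 0) *
      -(t * if (l : ℕ) + 1 = n then A x j else 0) =
      if (k : ℕ) = 0 then (if (l : ℕ) = n - 1 then t * (t * A i j) else 0) else 0 := by
    by_cases hk : (k : ℕ) = 0
    · rw [Finset.sum_eq_single i]
      · have hln : ((l : ℕ) + 1 = n) ↔ ((l : ℕ) = n - 1) := by omega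
        simp only [hk, hln, and_self, if_true]
        split_ifs <;> ring
      · intro x _ hx
        have : ¬ ((1 : ℕ) = ↑k + 1 ∧ i = x) := fun h => hx h.2.symm
        rw [if_neg this]; simp
      · intro h; exact absurd (Finset.mem_univ i) h
    · have : ∀ x : m, ¬ ((1 : ℕ) = ↑k + 1 ∧ i = x) := fun x h => hk (by omega)
      simp only [if_neg (this _), if_neg hk]; simp
  rw [hsum]
  by_cases hk : (k : ℕ) = 0
  · have : ¬ ((l : ℕ) + 1 = ↑k ∧ i = j) := by
      intro h; omega
    simp only [if_neg this, if_pos hk, mul_zero, sub_zero]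
    split_ifs <;> ring
  · simp only [if_neg hk, sub_zero]


lemma main (n : ℕ) (hn : 1 ≤ n) : ∀ (t : S) (A : Matrix m m S),
    (1 - t • B n A).det = (1 - t ^ n • A).det := by
  induction n, hn using Nat.le_induction with
  | base => exact base
  | succ n hn ih =>
    intro t A
    rw [step n hn, ih, smul_smul, ← pow_succ]



/-- Let A be a square matrix over a commutative ring and n ≥ 1, and let B be the matrix on n blocks of
the endomorphism (x_1, …, x_n) ↦ (A x_n, x_1, …, x_{n-1}). Then det(1 − B·T) = det(1 − A·Tⁿ), i.e.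
the reverse characteristic polynomial of B is that of A expanded by n. -/
theorem result (R : Type) [CommRing R] (m : Type) [Fintype m] [DecidableEq m]
    (A : Matrix m m R) (n : ℕ) (hn : 1 ≤ n) :
    (Matrix.of fun (p q : Fin n × m) =>
        if p.1.val = 0 then (if q.1.val = n - 1 then A p.2 q.2 else 0)
        else (if q.1.val + 1 = p.1.val ∧ p.2 = q.2 then 1 else 0)).charpolyRev =
      Polynomial.expand R n A.charpolyRev := by
  have h1 : (Matrix.of fun (p q : Fin n × m) =>
        if p.1.val = 0 then (if q.1.val = n - 1 then A p.2 q.2 else 0)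
        else (if q.1.val + 1 = p.1.val ∧ p.2 = q.2 then 1 else 0)).map (C : R → R[X]) =
      B n (A.map C) := by
    ext p q : 1
    simp only [B, Matrix.map_apply, Matrix.of_apply]
    split_ifs <;> simp
  rw [Matrix.charpolyRev, h1, main n hn, Matrix.charpolyRev]
  have h2 := RingHom.map_det (expand R n : R[X] →ₐ[R] R[X]).toRingHom
    (1 - (X : R[X]) • A.map C)
  rw [AlgHom.toRingHom_eq_coe, RingHom.coe_coe] at h2
  rw [h2]
  congr 1
  ext i j : 1
  simp [Matrix.one_apply]


end Groth.Agent.S3133
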