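import Groth.Statements.S3134
import Mathlib

set_option autoImplicit false
open Polynomial
open SGA4h

namespace Groth.Agent.S3134


variable {R : Type} [CommRing R] {m : Type} [Fintype m] [DecidableEq m]

/-- geometric series matrix `Σ Tⁿ Aⁿ`. -/
noncomputable def G (A : Matrix m m R) : Matrix m m (PowerSeries R) :=
  Matrix.of fun i j => PowerSeries.mk fun n => (A ^ n) i j

lemma N_mul_G (A : Matrix m m R) :
    (1 - (PowerSeries.X : PowerSeries R) • A.map (PowerSeries.C)) * G A = 1 := by
  ext i j n
  rw [Matrix.sub_mul, Matrix.one_mul, Matrix.sub_apply, map_sub, Matrix.smul_mul,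
    Matrix.smul_apply, Matrix.mul_apply, smul_eq_mul]
  simp only [G, Matrix.of_apply, PowerSeries.coeff_mk, Matrix.map_apply]
  cases n with
  | zero =>
    simp [Matrix.one_apply]
  | succ k =>
    rw [PowerSeries.coeff_succ_X_mul, map_sum]
    simp only [PowerSeries.coeff_C_mul, PowerSeries.coeff_mk]
    rw [pow_succ', Matrix.mul_apply, sub_self]
    simp [Matrix.one_apply]
    split_ifs <;> simp

lemma trace_G_mul (A : Matrix m m R) :
    (G A * A.map (PowerSeries.C)).trace = PowerSeries.mk fun n => (A ^ (n + 1)).trace := by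
  ext n
  simp only [Matrix.trace, Matrix.diag_apply, Matrix.mul_apply, G, Matrix.of_apply,
    Matrix.map_apply, map_sum, PowerSeries.coeff_mk, pow_succ]
  refine Finset.sum_congr rfl fun i _ => Finset.sum_congr rfl fun k _ => ?_
  rw [mul_comm, PowerSeries.coeff_C_mul, PowerSeries.coeff_mk, mul_comm]


lemma charpolyRev_map (A : Matrix m m R) :
    (A.map (PowerSeries.C (R := R))).charpolyRev = A.charpolyRev.map (PowerSeries.C) := by
  unfold Matrix.charpolyRev
  rw [← Polynomial.coe_mapRingHom, RingHom.map_det]
  congr 1
  ext i j : 1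
  simp [Matrix.one_apply, Matrix.map_apply]
  split_ifs <;> simp


lemma matrix_factor (A : Matrix m m R) :
    (1 - ((X : (PowerSeries R)[X]) + C (PowerSeries.X : PowerSeries R)) •
        (A.map (PowerSeries.C (R := R))).map C : Matrix m m (PowerSeries R)[X]) =
      (1 - (PowerSeries.X : PowerSeries R) • A.map (PowerSeries.C)).map C *
        (1 + (X : (PowerSeries R)[X]) • (-(G A * A.map PowerSeries.C)).map C) := by
  have h1 : ((1 - (PowerSeries.X : PowerSeries R) • A.map (PowerSeries.C)).map
      (C : PowerSeries R → (PowerSeries R)[X])) *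
      (G A * A.map PowerSeries.C).map (C : PowerSeries R → (PowerSeries R)[X]) =
      (A.map (PowerSeries.C (R := R))).map C := by
    have := congrArg (fun M : Matrix m m (PowerSeries R) =>
      (M * A.map (PowerSeries.C (R := R))).map (C : PowerSeries R → (PowerSeries R)[X]))
      (N_mul_G A)
    simp only [Matrix.one_mul] at this
    rw [← this, Matrix.mul_assoc]
    exact (Matrix.map_mul (f := (C : PowerSeries R →+* (PowerSeries R)[X]))).symm
  have h2 : ((1 - (PowerSeries.X : PowerSeries R) • A.map (PowerSeries.C)).map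
      (C : PowerSeries R → (PowerSeries R)[X])) =
      1 - C (PowerSeries.X : PowerSeries R) • (A.map (PowerSeries.C (R := R))).map C := by
    ext i j : 1
    simp [Matrix.one_apply, Matrix.map_apply]
  have h3 : (-(G A * A.map PowerSeries.C)).map (C : PowerSeries R → (PowerSeries R)[X]) =
      - (G A * A.map PowerSeries.C).map (C : PowerSeries R → (PowerSeries R)[X]) := by
    ext i j : 1
    simp only [Matrix.map_apply, Matrix.neg_apply, C_neg]
  rw [h3, Matrix.mul_add, Matrix.mul_one, Matrix.mul_smul, Matrix.mul_neg, h1, h2, add_smul]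
  simp only [smul_neg]
  abel


lemma taylor_charpolyRev (A : Matrix m m R) :
    Polynomial.taylor (PowerSeries.X : PowerSeries R)
        (A.map (PowerSeries.C (R := R))).charpolyRev =
      (1 - ((X : (PowerSeries R)[X]) + C (PowerSeries.X : PowerSeries R)) •
        (A.map (PowerSeries.C (R := R))).map C : Matrix m m (PowerSeries R)[X]).det := by
  rw [Polynomial.taylor_apply, Matrix.charpolyRev, ← Polynomial.coe_compRingHom_apply,
    RingHom.map_det]
  congr 1
  ext i j : 1
  simp [Matrix.one_apply]
  split_ifs <;> simp <;> ring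

lemma det_N (A : Matrix m m R) :
    (1 - (PowerSeries.X : PowerSeries R) • A.map (PowerSeries.C)).det =
      (A.charpolyRev : PowerSeries R) := by
  rw [← Polynomial.eval₂_C_X_eq_coe, Matrix.charpolyRev, ← Polynomial.coe_eval₂RingHom,
    RingHom.map_det]
  congr 1
  ext i j : 1
  simp [Matrix.one_apply]
  split_ifs <;> simp <;> ring

lemma coe_derivative_charpolyRev (A : Matrix m m R) :
    ((Polynomial.derivative A.charpolyRev : R[X]) : PowerSeries R) =
      -((A.charpolyRev : PowerSeries R) * PowerSeries.mk fun n => (A ^ (n + 1)).trace) := by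
  have h := congrArg (fun q : (PowerSeries R)[X] => q.coeff 1)
    ((taylor_charpolyRev A).trans (congrArg Matrix.det (matrix_factor A)))
  simp only [Polynomial.taylor_coeff_one] at h
  have hdet : ((1 - (PowerSeries.X : PowerSeries R) • A.map (PowerSeries.C)).map
      (C : PowerSeries R → (PowerSeries R)[X])).det =
      C (1 - (PowerSeries.X : PowerSeries R) • A.map (PowerSeries.C)).det :=
    (RingHom.map_det C _).symm
  rw [Matrix.det_mul, hdet, Polynomial.coeff_C_mul,
    Matrix.coeff_det_one_add_X_smul_one, det_N, Matrix.trace_neg, trace_G_mul,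
    charpolyRev_map, Polynomial.derivative_map, Polynomial.eval_map,
    Polynomial.eval₂_C_X_eq_coe] at h
  rw [h, mul_neg]



/-- For a square matrix A over a commutative ring, with P(T) = det(1 − A·T), one has −T·P′(T) = P(T) ·
Σ_{n ≥ 1} Tr(Aⁿ) Tⁿ as formal power series (equivalently T d/dT log P(T)⁻¹ = Σ_{n≥1} Tr(Aⁿ) Tⁿ). -/
theorem result (R : Type) [CommRing R] (m : Type) [Fintype m] [DecidableEq m]
    (A : Matrix m m R) :
    ((-(X * Polynomial.derivative A.charpolyRev) : R[X]) : PowerSeries R) =
      (A.charpolyRev : PowerSeries R) * PowerSeries.mk (fun n => if n = 0 then 0 else (A ^ n).trace) := by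
  rw [Polynomial.coe_neg, Polynomial.coe_mul, Polynomial.coe_X, coe_derivative_charpolyRev]
  have h : (PowerSeries.mk fun n => if n = 0 then 0 else (A ^ n).trace : PowerSeries R) =
      PowerSeries.X * PowerSeries.mk fun n => (A ^ (n + 1)).trace := by
    ext n
    cases n with
    | zero => simp
    | succ k => rw [PowerSeries.coeff_succ_X_mul]; simp
  rw [h]
  ring

end Groth.Agent.S3134
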