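import Groth.Statements.S3139
import Groth.Agent.Lib.CharSeries75

set_option autoImplicit false
universe u
open CategoryTheory
attribute [local instance] HasDerivedCategory.standard
open SGA4h

namespace Groth.Agent.S3139

/-- Let A be a commutative ring, K and K' bounded cochain complexes of finite free A-modules with
endomorphisms u and u', and suppose (K, u) and (K', u') are isomorphic in the derived category D(A):
there is an isomorphism K ≅ K' in D(A) intertwining the images of u and u'. Then det(1 - u t, K) =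
det(1 - u' t, K'), where det(1 - u t, K) = ∏ᵢ det(1 - u t, Kⁱ)^{(-1)^i}; the equality is stated
cross-multiplied, as ∏_{i even} det(1 - u t, Kⁱ) · ∏_{i odd} det(1 - u' t, K'ⁱ) = ∏_{i odd} det(1 -
u t, Kⁱ) · ∏_{i even} det(1 - u' t, K'ⁱ) in A[t]. (The source works with finite projective modules;
finite free is the special case stated here.) -/
theorem result (A : Type u) [CommRing A]
    (K K' : CochainComplex (ModuleCat.{u} A) ℤ) (a b : ℤ) [K.IsStrictlyGE a] [K.IsStrictlyLE b] [K'.IsStrictlyGE a] [K'.IsStrictlyLE b]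
    (hK : ∀ i : ℤ, Module.Finite A (K.X i) ∧ Module.Free A (K.X i)) (hK' : ∀ i : ℤ, Module.Finite A (K'.X i) ∧ Module.Free A (K'.X i))
    (u : K ⟶ K) (u' : K' ⟶ K') (φ : DerivedCategory.Q.obj K ≅ DerivedCategory.Q.obj K')
    (hφ : DerivedCategory.Q.map u ≫ φ.hom = φ.hom ≫ DerivedCategory.Q.map u') :
    SGA4h.detEven K u * SGA4h.detOdd K' u' = SGA4h.detOdd K u * SGA4h.detEven K' u' := by
  classical
  obtain ⟨f, ⟨H⟩, ⟨Hc⟩⟩ := Groth.Agent.Lib.CharSeries75.exists_cone_data K K' b
    (fun i => (hK i).2) (fun i => (hK' i).2) u u' φ hφ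
  have key := Groth.Agent.Lib.CharSeries75.detEven_eq_detOdd_of_contractible
    (CochainComplex.mappingCone f) (Groth.Agent.Lib.CharSeries75.cone_finite_free f hK hK')
    (a - 1) b
    (fun i hi => by
      rw [CochainComplex.mappingCone.isZero_X_iff]
      exact ⟨K.isZero_of_isStrictlyGE a _ (by omega), K'.isZero_of_isStrictlyGE a _ (by omega)⟩)
    (fun i hi => by
      rw [CochainComplex.mappingCone.isZero_X_iff]
      exact ⟨K.isZero_of_isStrictlyLE b _ (by omega), K'.isZero_of_isStrictlyLE b _ (by omega)⟩)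
    Hc (CochainComplex.mappingCone.mapOfHomotopy H)
  have hb : (Function.mulSupport fun i : ℤ => SGA4h.detOneSub (K.X i) (u.f i)).Finite :=
    Groth.Agent.Lib.DetCone75.finite_mulSupport_of_bounds _ a b
      (fun i hi => Groth.Agent.Lib.CharSeries75.detOneSub_eq_one_of_isZero _ _
        (K.isZero_of_isStrictlyGE a _ hi))
      (fun i hi => Groth.Agent.Lib.CharSeries75.detOneSub_eq_one_of_isZero _ _
        (K.isZero_of_isStrictlyLE b _ hi))
  have hc : (Function.mulSupport fun i : ℤ => SGA4h.detOneSub (K'.X i) (u'.f i)).Finite :=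
    Groth.Agent.Lib.DetCone75.finite_mulSupport_of_bounds _ a b
      (fun i hi => Groth.Agent.Lib.CharSeries75.detOneSub_eq_one_of_isZero _ _
        (K'.isZero_of_isStrictlyGE a _ hi))
      (fun i hi => Groth.Agent.Lib.CharSeries75.detOneSub_eq_one_of_isZero _ _
        (K'.isZero_of_isStrictlyLE b _ hi))
  have hE : SGA4h.detEven (CochainComplex.mappingCone f)
      (CochainComplex.mappingCone.mapOfHomotopy H) =
      SGA4h.detOdd K u * SGA4h.detEven K' u' :=
    Groth.Agent.Lib.DetCone75.finprod_even_mul _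
      (fun i : ℤ => SGA4h.detOneSub (K.X i) (u.f i))
      (fun i : ℤ => SGA4h.detOneSub (K'.X i) (u'.f i))
      (Groth.Agent.Lib.CharSeries75.detOneSub_cone f H hK hK') hb hc
  have hO : SGA4h.detOdd (CochainComplex.mappingCone f)
      (CochainComplex.mappingCone.mapOfHomotopy H) =
      SGA4h.detEven K u * SGA4h.detOdd K' u' :=
    Groth.Agent.Lib.DetCone75.finprod_odd_mul _
      (fun i : ℤ => SGA4h.detOneSub (K.X i) (u.f i))
      (fun i : ℤ => SGA4h.detOneSub (K'.X i) (u'.f i))
      (Groth.Agent.Lib.CharSeries75.detOneSub_cone f H hK hK') hb hc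
  rw [hE, hO] at key
  exact key.symm

end Groth.Agent.S3139
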