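import Groth.Statements.S3140
import Mathlib

set_option autoImplicit false
universe u
open RingTheory.Sequence
open SGA4h

namespace Groth.Agent.S3140

section helpers

variable {A : Type u} [CommRing A] [IsLocalRing A] [IsNoetherianRing A]

/-- the quotient module `A / (rs)A` in the form used by Mathlib's regular sequence API -/
abbrev Q (rs : List A) : Type u := A ⧸ (Ideal.ofList rs • ⊤ : Submodule A A)

theorem smul_eq_zero_of_mem (rs : List A) {x : A} (hx : x ∈ Ideal.ofList rs) (m : Q rs) :
    x • m = 0 := by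
  obtain ⟨a, rfl⟩ := Submodule.Quotient.mk_surjective _ m
  rw [← Submodule.Quotient.mk_smul, Submodule.Quotient.mk_eq_zero]
  exact Submodule.smul_mem_smul hx Submodule.mem_top

/-- if `x ∈ (rs)` is regular on `A/(rs)` then `(rs) • ⊤ = ⊤` -/
theorem top_eq_of_regular_of_mem (rs : List A) {x : A} (hx : x ∈ Ideal.ofList rs)
    (hreg : IsSMulRegular (Q rs) x) : (⊤ : Submodule A A) = Ideal.ofList rs • ⊤ := by
  have hsub : Subsingleton (Q rs) := by
    refine ⟨fun a b => hreg ?_⟩
    simp only [smul_eq_zero_of_mem rs hx]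
  exact ((Submodule.Quotient.subsingleton_iff).1 hsub).symm

/-- Nakayama -/
theorem nakayama_le {I J : Ideal A} (h : I ≤ IsLocalRing.maximalIdeal A * I ⊔ J) : I ≤ J := by
  have hfg : (I : Submodule A A).FG := IsNoetherian.noetherian I
  have h2 : (I : Submodule A A) ≤ (J : Submodule A A) ⊔
      (IsLocalRing.maximalIdeal A) • (I : Submodule A A) := by
    rw [sup_comm]; exact h
  exact @Submodule.le_of_le_smul_of_le_jacobson_bot A A _ _ _ (IsLocalRing.maximalIdeal A) J I hfg
    (IsLocalRing.maximalIdeal_le_jacobson ⊥) h2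

def Good (I : Ideal A) (w : List A) : Prop := IsRegular A w ∧ Ideal.ofList w = I

def Step (I : Ideal A) (w w' : List A) : Prop :=
  (w.Perm w' ∨ (w.length = w'.length ∧ w.dropLast = w'.dropLast)) ∧ Good I w'

theorem good_perm {I : Ideal A} {w w' : List A} (h : Good I w) (hp : w.Perm w') : Good I w' := by
  refine ⟨IsLocalRing.isRegular_of_perm h.1 hp, ?_⟩
  rw [← h.2]
  show Ideal.span _ = Ideal.span _
  congr 1
  ext x
  exact hp.symm.mem_iff

/-- regular element on the quotient by the initial part -/
theorem last_regular {L : List A} {x : A} (h : IsRegular A (L ++ [x])) :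
    IsSMulRegular (Q L) x := by
  have := ((isWeaklyRegular_append_iff A L [x]).1 h.toIsWeaklyRegular).2
  exact (isWeaklyRegular_singleton_iff _ x).1 this

theorem first_regular {L : List A} {y : A} {v : List A} (h : IsRegular A (L ++ y :: v)) :
    IsSMulRegular (Q L) y := by
  have := ((isWeaklyRegular_append_iff A L (y :: v)).1 h.toIsWeaklyRegular).2
  exact ((isWeaklyRegular_cons_iff _ y v).1 this).1

/-- key lemma: replacing the last element -/
theorem good_replace_last {I : Ideal A} {L : List A} {x w : A} (h : Good I (L ++ [x]))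
    (hwI : w ∈ I) (hw2 : w ∉ IsLocalRing.maximalIdeal A * I ⊔ Ideal.ofList L)
    (hw3 : IsSMulRegular (Q L) w) : Good I (L ++ [w]) := by
  obtain ⟨hreg, hI⟩ := h
  have hLI : Ideal.ofList L ≤ I := by
    rw [← hI, Ideal.ofList_append]; exact le_sup_left
  have hxI : x ∈ I := by
    rw [← hI]; exact Ideal.subset_span (List.mem_append_right _ (List.mem_singleton_self x))
  have hI' : Ideal.ofList (L ++ [w]) = I := by
    rw [Ideal.ofList_append, Ideal.ofList_singleton]
    apply le_antisymm
    · exact sup_le hLI ((Ideal.span_singleton_le_iff_mem _).2 hwI)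
    · rw [← hI, Ideal.ofList_append, Ideal.ofList_singleton]
      refine sup_le le_sup_left ?_
      rw [Ideal.span_singleton_le_iff_mem]
      -- x ∈ (L) + (w)
      have hw' : w ∈ Ideal.ofList L ⊔ Ideal.span {x} := by
        rw [← Ideal.ofList_singleton, ← Ideal.ofList_append, hI]; exact hwI
      rw [Submodule.mem_sup] at hw'
      obtain ⟨j, hj, z, hz, hjz⟩ := hw'
      rw [Ideal.mem_span_singleton'] at hz
      obtain ⟨a, rfl⟩ := hz
      by_cases ha : IsUnit a
      · obtain ⟨a', rfl⟩ := ha
        have : x = (↑a'⁻¹ : A) * w - (↑a'⁻¹ : A) * j := by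
          rw [← hjz, mul_add, add_sub_cancel_left, ← mul_assoc, Units.inv_mul, one_mul]
        rw [this]
        exact Ideal.sub_mem _ (Ideal.mul_mem_left _ _ (Ideal.mem_sup_right (Ideal.subset_span rfl)))
          (Ideal.mul_mem_left _ _ (Ideal.mem_sup_left hj))
      · exfalso
        apply hw2
        rw [← hjz]
        refine Ideal.add_mem _ (Ideal.mem_sup_right hj) (Ideal.mem_sup_left ?_)
        exact Ideal.mul_mem_mul ((IsLocalRing.mem_maximalIdeal a).2 ha) hxI
  refine ⟨⟨?_, ?_⟩, hI'⟩
  · rw [isWeaklyRegular_append_iff]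
    exact ⟨((isWeaklyRegular_append_iff A L [x]).1 hreg.toIsWeaklyRegular).1,
      (isWeaklyRegular_singleton_iff _ w).2 hw3⟩
  · rw [hI', ← hI]
    exact hreg.top_ne_smul

/-- existence of a common good last element -/
theorem exists_w {I : Ideal A} {L₁ L₂ : List A} {x y : A} (h₁ : Good I (L₁ ++ [x]))
    (h₂ : Good I (L₂ ++ [y])) :
    ∃ w ∈ I, (w ∉ IsLocalRing.maximalIdeal A * I ⊔ Ideal.ofList L₁ ∧ IsSMulRegular (Q L₁) w) ∧
      (w ∉ IsLocalRing.maximalIdeal A * I ⊔ Ideal.ofList L₂ ∧ IsSMulRegular (Q L₂) w) := by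
  classical
  by_contra hcon
  push Not at hcon
  have hfin₁ : (associatedPrimes A (Q L₁)).Finite := associatedPrimes.finite A (Q L₁)
  have hfin₂ : (associatedPrimes A (Q L₂)).Finite := associatedPrimes.finite A (Q L₂)
  let s : Finset (Ideal A) := hfin₁.toFinset ∪ hfin₂.toFinset
  have hs : ∀ i ∈ s, (id i : Ideal A).IsPrime := by
    intro i hi
    rcases Finset.mem_union.1 hi with h | h
    · exact ((hfin₁.mem_toFinset).1 h).isPrime
    · exact ((hfin₂.mem_toFinset).1 h).isPrime
  have hsub : (I : Set A) ⊆ (id (IsLocalRing.maximalIdeal A * I ⊔ Ideal.ofList L₁) : Ideal A) ∪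
      (id (IsLocalRing.maximalIdeal A * I ⊔ Ideal.ofList L₂) : Ideal A) ∪
      ⋃ i ∈ (↑s : Set (Ideal A)), ((id i : Ideal A) : Set A) := by
    intro w hw
    by_cases h1 : w ∈ IsLocalRing.maximalIdeal A * I ⊔ Ideal.ofList L₁
    · exact Or.inl (Or.inl h1)
    by_cases h2 : w ∈ IsLocalRing.maximalIdeal A * I ⊔ Ideal.ofList L₂
    · exact Or.inl (Or.inr h2)
    right
    by_cases h3 : IsSMulRegular (Q L₁) w
    · have h4 := hcon w hw ⟨h1, h3⟩ h2
      have : w ∈ ⋃ p ∈ associatedPrimes A (Q L₂), (p : Set A) := by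
        rw [biUnion_associatedPrimes_eq_compl_regular]; exact h4
      simp only [Set.mem_iUnion] at this ⊢
      obtain ⟨p, hp, hwp⟩ := this
      exact ⟨p, Finset.mem_coe.2 (Finset.mem_union_right _ ((hfin₂.mem_toFinset).2 hp)), hwp⟩
    · have : w ∈ ⋃ p ∈ associatedPrimes A (Q L₁), (p : Set A) := by
        rw [biUnion_associatedPrimes_eq_compl_regular]; exact h3
      simp only [Set.mem_iUnion] at this ⊢
      obtain ⟨p, hp, hwp⟩ := this
      exact ⟨p, Finset.mem_coe.2 (Finset.mem_union_left _ ((hfin₁.mem_toFinset).2 hp)), hwp⟩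
  rw [Ideal.subset_union_prime' hs] at hsub
  -- general facts
  have nak : ∀ (L : List A) (z : A), Good I (L ++ [z]) →
      ¬ I ≤ IsLocalRing.maximalIdeal A * I ⊔ Ideal.ofList L := by
    intro L z hG hle
    have hle' : I ≤ Ideal.ofList L := nakayama_le hle
    have hz : z ∈ Ideal.ofList L := hle' (by
      rw [← hG.2]; exact Ideal.subset_span (List.mem_append_right _ (List.mem_singleton_self z)))
    have htop := top_eq_of_regular_of_mem L hz (last_regular hG.1)
    have hmono : (Ideal.ofList L • ⊤ : Submodule A A) ≤ Ideal.ofList (L ++ [z]) • ⊤ :=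
      Submodule.smul_mono_left (by rw [Ideal.ofList_append]; exact le_sup_left)
    exact hG.1.top_ne_smul (le_antisymm (htop.le.trans hmono) le_top)
  have ass : ∀ (L : List A) (z : A), Good I (L ++ [z]) → ∀ p ∈ associatedPrimes A (Q L),
      ¬ I ≤ p := by
    intro L z hG p hp hle
    have hz : z ∈ p := hle (by
      rw [← hG.2]; exact Ideal.subset_span (List.mem_append_right _ (List.mem_singleton_self z)))
    have : z ∈ ⋃ p ∈ associatedPrimes A (Q L), (p : Set A) := by
      simp only [Set.mem_iUnion]; exact ⟨p, hp, hz⟩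
    rw [biUnion_associatedPrimes_eq_compl_regular] at this
    exact this (last_regular hG.1)
  rcases hsub with h | h | ⟨i, hi, h⟩
  · exact nak L₁ x h₁ h
  · exact nak L₂ y h₂ h
  · rcases Finset.mem_union.1 hi with h' | h'
    · exact ass L₁ x h₁ i ((hfin₁.mem_toFinset).1 h') h
    · exact ass L₂ y h₂ i ((hfin₂.mem_toFinset).1 h') h

theorem eq_nil_of_good {I : Ideal A} {c v' : List A} (h₁ : Good I c) (h₂ : Good I (c ++ v')) :
    v' = [] := by
  rcases v' with _ | ⟨y, v⟩
  · rfl
  · exfalso
    have hy : y ∈ Ideal.ofList c := by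
      rw [h₁.2, ← h₂.2]
      exact Ideal.subset_span (List.mem_append_right _ List.mem_cons_self)
    exact h₁.1.top_ne_smul (top_eq_of_regular_of_mem c hy (first_regular h₂.1))

theorem main (I : Ideal A) : ∀ (n : ℕ) (c u' v' : List A), u'.length = n → Good I (c ++ u') →
    Good I (c ++ v') → Relation.ReflTransGen (Step I) (c ++ u') (c ++ v') := by
  intro n
  induction n with
  | zero =>
    intro c u' v' hn hu hv
    have hu' : u' = [] := List.length_eq_zero_iff.1 hn
    subst hu'
    rw [List.append_nil] at hu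
    have := eq_nil_of_good hu hv
    subst this
    exact Relation.ReflTransGen.refl
  | succ n ih =>
    intro c u' v' hn hu hv
    have hu'ne : u' ≠ [] := by
      intro h; rw [h] at hn; simp at hn
    have hv'ne : v' ≠ [] := by
      intro h
      subst h
      rw [List.append_nil] at hv
      exact hu'ne (eq_nil_of_good hv hu)
    obtain ⟨u0, x, rfl⟩ : ∃ u0 x, u' = u0 ++ [x] :=
      ⟨u'.dropLast, u'.getLast hu'ne, (List.dropLast_append_getLast hu'ne).symm⟩
    obtain ⟨v0, y, rfl⟩ : ∃ v0 y, v' = v0 ++ [y] :=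
      ⟨v'.dropLast, v'.getLast hv'ne, (List.dropLast_append_getLast hv'ne).symm⟩
    have hlen : u0.length = n := by
      rw [List.length_append, List.length_singleton] at hn; omega
    rw [← List.append_assoc] at hu hv
    rw [← List.append_assoc, ← List.append_assoc]
    obtain ⟨w, hwI, ⟨hw1, hw1'⟩, ⟨hw2, hw2'⟩⟩ := exists_w hu hv
    have g1 : Good I (c ++ u0 ++ [w]) := good_replace_last hu hwI hw1 hw1'
    have g2 : Good I (c ++ v0 ++ [w]) := good_replace_last hv hwI hw2 hw2'
    have p1 : (c ++ u0 ++ [w]).Perm ((c ++ [w]) ++ u0) := by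
      rw [List.append_assoc, List.append_assoc]
      exact List.Perm.append_left c List.perm_append_comm
    have p2 : (c ++ v0 ++ [w]).Perm ((c ++ [w]) ++ v0) := by
      rw [List.append_assoc, List.append_assoc]
      exact List.Perm.append_left c List.perm_append_comm
    have g1' := good_perm g1 p1
    have g2' := good_perm g2 p2
    have mid := ih (c ++ [w]) u0 v0 hlen g1' g2'
    have s1 : Step I (c ++ u0 ++ [x]) (c ++ u0 ++ [w]) :=
      ⟨Or.inr ⟨by simp, by simp⟩, g1⟩
    have s2 : Step I (c ++ u0 ++ [w]) ((c ++ [w]) ++ u0) := ⟨Or.inl p1, g1'⟩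
    have s3 : Step I ((c ++ [w]) ++ v0) (c ++ v0 ++ [w]) := ⟨Or.inl p2.symm, g2⟩
    have s4 : Step I (c ++ v0 ++ [w]) (c ++ v0 ++ [y]) :=
      ⟨Or.inr ⟨by simp, by simp⟩, hv⟩
    exact ((Relation.ReflTransGen.single s1).trans (Relation.ReflTransGen.single s2)).trans
      (mid.trans ((Relation.ReflTransGen.single s3).trans (Relation.ReflTransGen.single s4)))

end helpers

/-- Let A be a Noetherian local ring and u, v two regular sequences of elements of A generating the same
ideal. Then there is a finite chain of regular sequences generating that same ideal, starting at u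
and ending at v, in which each sequence is obtained from the previous one either by a permutation or
by changing only its last element. -/
theorem result (A : Type u) [CommRing A] [IsLocalRing A] [IsNoetherianRing A]
    (u v : List A) (hu : IsRegular A u) (hv : IsRegular A v) (huv : Ideal.span {x | x ∈ u} = Ideal.span {x | x ∈ v}) :
    ∃ ws : List (List A), ws.head? = some u ∧ ws.getLast? = some v ∧
      (∀ w ∈ ws, IsRegular A w ∧ Ideal.span {x | x ∈ w} = Ideal.span {x | x ∈ u}) ∧
      List.IsChain (fun w w' : List A => w.Perm w' ∨ (w.length = w'.length ∧ w.dropLast = w'.dropLast)) ws := by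
  have gu : Good (Ideal.span {x | x ∈ u}) ([] ++ u) := ⟨hu, rfl⟩
  have gv : Good (Ideal.span {x | x ∈ u}) ([] ++ v) := ⟨hv, huv.symm⟩
  have h := main (Ideal.span {x | x ∈ u}) u.length [] u v rfl gu gv
  rw [List.nil_append, List.nil_append] at h
  obtain ⟨l, hl1, hl2⟩ := List.exists_isChain_cons_of_relationReflTransGen h
  refine ⟨u :: l, rfl, ?_, ?_, ?_⟩
  · rw [List.getLast?_eq_getLast_of_ne_nil (List.cons_ne_nil _ _), hl2]
  · intro w hw
    rcases List.mem_cons.1 hw with rfl | hw'
    · exact ⟨hu, rfl⟩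
    · exact hl1.cons_induction (fun w => IsRegular A w ∧ Ideal.span {x | x ∈ w} = Ideal.span {x | x ∈ u}) l
        (fun x y hxy _ => hxy.2) ⟨hu, rfl⟩ w hw'
  · exact hl1.imp (fun a b hab => hab.1)

end Groth.Agent.S3140
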