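import Groth.Statements.S3194
import Groth.Agent.Lib.KZeroSub
import Mathlib.Algebra.Homology.ShortComplex.ModuleCat
import Mathlib.LinearAlgebra.Dimension.Localization
import Mathlib.LinearAlgebra.Dimension.RankNullity
import Mathlib.LinearAlgebra.Dimension.StrongRankCondition
import Mathlib.LinearAlgebra.Dimension.Finrank
import Mathlib.LinearAlgebra.Span.Basic
import Mathlib.RingTheory.Finiteness.Basic
import Mathlib.LinearAlgebra.Isomorphisms

set_option autoImplicit false
universe u
open CategoryTheory
open SGA6

namespace Groth.Agent.S3194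

open Groth.Agent.Lib.KZeroSub

variable (A : Type u) [CommRing A]

/-- The property of being a finite module. -/
abbrev Pfin : ObjectProperty (ModuleCat.{u} A) := fun M : ModuleCat.{u} A => Module.Finite A M

/-- The class of a module. -/
noncomputable abbrev cls (M : Type u) [AddCommGroup M] [Module A M] : KZero.K0sub (Pfin A) :=
  KZero.clSub (Pfin A) (ModuleCat.of A M)

variable {A}

theorem cls_exact {M N L : Type u} [AddCommGroup M] [Module A M] [AddCommGroup N] [Module A N]
    [AddCommGroup L] [Module A L] [Module.Finite A M] [Module.Finite A N] [Module.Finite A L]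
    (f : M →ₗ[A] N) (g : N →ₗ[A] L) (hex : Function.Exact f g) (hinj : Function.Injective f)
    (hsurj : Function.Surjective g) : cls A N = cls A M + cls A L := by
  let S : ShortComplex (ModuleCat.{u} A) :=
    ShortComplex.mk (ModuleCat.ofHom f) (ModuleCat.ofHom g) (by
      ext x
      exact hex.apply_apply_eq_zero x)
  have hS : S.ShortExact := ModuleCat.shortComplex_shortExact S hex hinj hsurj
  exact clSub_shortExact (Pfin A) S hS (inferInstanceAs (Module.Finite A M))
    (inferInstanceAs (Module.Finite A N)) (inferInstanceAs (Module.Finite A L))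

theorem cls_subsingleton (M : Type u) [AddCommGroup M] [Module A M] [Subsingleton M] :
    cls A M = 0 := by
  have h := cls_exact (A := A) (0 : M →ₗ[A] M) (0 : M →ₗ[A] M)
    (fun x => ⟨fun _ => ⟨0, Subsingleton.elim _ _⟩, fun _ => Subsingleton.elim _ _⟩)
    (fun x y _ => Subsingleton.elim _ _) (fun x => ⟨0, Subsingleton.elim _ _⟩)
  have h3 : cls A M = cls A M + cls A M - cls A M := by abel
  rw [← h] at h3
  rw [h3, sub_self]

theorem cls_equiv {M N : Type u} [AddCommGroup M] [Module A M] [AddCommGroup N] [Module A N]
    [Module.Finite A M] [Module.Finite A N] (e : M ≃ₗ[A] N) : cls A M = cls A N := by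
  have h := cls_exact (A := A) (0 : PUnit.{u + 1} →ₗ[A] M) e.toLinearMap
    (fun x => ⟨fun hx => ⟨0, by
        have : x = 0 := e.injective (by simpa using hx)
        simp [this]⟩, fun ⟨y, hy⟩ => by simp [← hy]⟩)
    (fun x y _ => Subsingleton.elim _ _) e.surjective
  rw [h, cls_subsingleton, zero_add]

variable [IsDomain A]

theorem cls_quot_span_singleton (a : A) : ∃ k : ℤ, cls A (A ⧸ Ideal.span {a}) = k • cls A A := by
  by_cases ha : a = 0
  · subst ha
    refine ⟨1, ?_⟩
    rw [one_smul]
    have hbot : Ideal.span {(0 : A)} = ⊥ := by simp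
    exact (cls_equiv ((Submodule.quotEquivOfEqBot _ hbot))).trans rfl
  · refine ⟨0, ?_⟩
    rw [zero_smul]
    have h := cls_exact (A := A) (LinearMap.mulLeft A a) (Submodule.mkQ (Ideal.span {a}))
      (fun x => by
        rw [Submodule.mkQ_apply, Submodule.Quotient.mk_eq_zero, Ideal.mem_span_singleton']
        constructor
        · rintro ⟨y, rfl⟩
          exact ⟨y, by simp [mul_comm]⟩
        · rintro ⟨y, rfl⟩
          exact ⟨y, by simp [mul_comm]⟩)
      (fun x y hxy => by
        simp only [LinearMap.mulLeft_apply] at hxy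
        exact mul_left_cancel₀ ha hxy)
      (Submodule.mkQ_surjective _)
    have h3 : cls A (A ⧸ Ideal.span {a}) = cls A A + cls A (A ⧸ Ideal.span {a}) - cls A A := by abel
    rw [← h] at h3
    rw [h3, sub_self]

variable [IsPrincipalIdealRing A]

theorem cls_span_singleton {M : Type u} [AddCommGroup M] [Module A M] (m : M) :
    ∃ k : ℤ, cls A (Submodule.span A {m}) = k • cls A A := by
  let f : A →ₗ[A] M := LinearMap.toSpanSingleton A M m
  have hr : LinearMap.range f = Submodule.span A {m} := LinearMap.range_toSpanSingleton m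
  obtain ⟨a, ha⟩ := (IsPrincipalIdealRing.principal (LinearMap.ker f)).principal
  obtain ⟨k, hk⟩ := cls_quot_span_singleton a
  refine ⟨k, ?_⟩
  rw [← hk]
  have e1 : (A ⧸ LinearMap.ker f) ≃ₗ[A] LinearMap.range f := f.quotKerEquivRange
  have e2 : (A ⧸ Ideal.span {a}) ≃ₗ[A] (A ⧸ LinearMap.ker f) :=
    Submodule.quotEquivOfEq _ _ (by rw [ha])
  have e3 : LinearMap.range f ≃ₗ[A] Submodule.span A {m} := LinearEquiv.ofEq _ _ hr
  exact (cls_equiv ((e2.trans e1).trans e3)).symm

theorem cls_of_generators : ∀ (n : ℕ) (M : Type u) [AddCommGroup M] [Module A M] (s : Fin n → M),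
    Submodule.span A (Set.range s) = ⊤ → ∃ k : ℤ, cls A M = k • cls A A := by
  intro n
  induction n with
  | zero =>
    intro M _ _ s hs
    have : Subsingleton M := by
      have : (⊤ : Submodule A M) = ⊥ := by
        rw [← hs]
        simp
      exact (Submodule.subsingleton_iff A).mp (subsingleton_of_bot_eq_top this.symm)
    exact ⟨0, by rw [zero_smul, cls_subsingleton]⟩
  | succ n ih =>
    intro M _ _ s hs
    have hfin : Module.Finite A M :=
      ⟨Submodule.fg_def.mpr ⟨Set.range s, Set.finite_range s, hs⟩⟩
    let N : Submodule A M := Submodule.span A {s 0}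
    obtain ⟨k₁, hk₁⟩ := cls_span_singleton (A := A) (s 0)
    have hq : Submodule.span A (Set.range (fun i : Fin n => N.mkQ (s i.succ))) = ⊤ := by
      rw [eq_top_iff]
      rintro x -
      obtain ⟨y, rfl⟩ := N.mkQ_surjective x
      have hy : y ∈ Submodule.span A (Set.range s) := by rw [hs]; trivial
      induction hy using Submodule.span_induction with
      | mem z hz =>
        obtain ⟨i, rfl⟩ := hz
        refine Fin.cases ?_ (fun j => ?_) i
        · have : N.mkQ (s 0) = 0 := by
            rw [Submodule.mkQ_apply, Submodule.Quotient.mk_eq_zero]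
            exact Submodule.mem_span_singleton_self _
          rw [this]
          exact Submodule.zero_mem _
        · exact Submodule.subset_span ⟨j, rfl⟩
      | zero => rw [map_zero]; exact Submodule.zero_mem _
      | add a b _ _ ha hb => rw [map_add]; exact Submodule.add_mem _ ha hb
      | smul c a _ ha => rw [map_smul]; exact Submodule.smul_mem _ c ha
    obtain ⟨k₂, hk₂⟩ := ih (M ⧸ N) _ hq
    have h := cls_exact (A := A) N.subtype N.mkQ (LinearMap.exact_subtype_mkQ N)
      N.injective_subtype N.mkQ_surjective
    exact ⟨k₁ + k₂, by rw [h, hk₁, hk₂, add_smul]⟩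

/-- The rank homomorphism on the free abelian group. -/
noncomputable def rankFree : FreeAbelianGroup (Subtype (Pfin A)) →+ ℤ :=
  FreeAbelianGroup.lift (fun M : Subtype (Pfin A) => (Module.finrank A M.1 : ℤ))

theorem relSub_le_ker : KZero.relSub (Pfin A) ≤ (rankFree (A := A)).ker := by
  unfold KZero.relSub
  rw [AddSubgroup.closure_le]
  rintro x ⟨S, h₁, h₂, h₃, hS, rfl⟩
  have : Module.Finite A S.X₁ := h₁
  have : Module.Finite A S.X₂ := h₂
  have : Module.Finite A S.X₃ := h₃
  have hinj := hS.moduleCat_injective_f
  have hsurj := hS.moduleCat_surjective_g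
  have hex := hS.exact.moduleCat_range_eq_ker
  have hrk := (LinearMap.ker S.g.hom).finrank_quotient_add_finrank
  have e1 : Module.finrank A (S.X₂ ⧸ LinearMap.ker S.g.hom) = Module.finrank A S.X₃ := by
    have e := S.g.hom.quotKerEquivRange
    rw [e.finrank_eq, LinearMap.range_eq_top.mpr hsurj, finrank_top]
  have e2 : Module.finrank A (LinearMap.ker S.g.hom) = Module.finrank A S.X₁ := by
    rw [← hex]
    exact LinearMap.finrank_range_of_inj hinj
  rw [e1, e2] at hrk
  simp only [SetLike.mem_coe, AddMonoidHom.mem_ker, rankFree, map_sub, FreeAbelianGroup.lift_apply_of]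
  omega

/-- The rank homomorphism on `K₀`. -/
noncomputable def rankHom : KZero.K0sub (Pfin A) →+ ℤ :=
  QuotientAddGroup.lift (KZero.relSub (Pfin A)) (rankFree (A := A)) relSub_le_ker

theorem rankHom_cls_self : rankHom (A := A) (cls A A) = 1 := by
  have hA : Pfin A (ModuleCat.of A A) := inferInstanceAs (Module.Finite A A)
  change rankHom (A := A) (KZero.clSub (Pfin A) (ModuleCat.of A A)) = 1
  rw [clSub_of_mem (Pfin A) hA]
  change rankFree (A := A) (FreeAbelianGroup.of ⟨ModuleCat.of A A, hA⟩) = 1
  simp only [rankFree, FreeAbelianGroup.lift_apply_of]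
  have : Module.finrank A (ModuleCat.of A A) = 1 := Module.finrank_self A
  rw [this]
  rfl

/-- Let A be a principal ideal domain and K_•(Spec A) = K₀ of the category of finitely generated
A-modules (free abelian group on finitely generated modules modulo short exact sequences). The
homomorphism ℤ ⟶ K_•(Spec A) sending k to k·[A] is bijective. -/
theorem result (A : Type u) [CommRing A] [IsDomain A] [IsPrincipalIdealRing A] :
    Function.Bijective (fun k : ℤ => k • KZero.clSub (fun M : ModuleCat.{u} A => Module.Finite A M) (ModuleCat.of A A)) := by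
  constructor
  · intro k₁ k₂ h
    have h' : k₁ • cls A A = k₂ • cls A A := h
    have := congrArg (rankHom (A := A)) h'
    rw [map_zsmul, map_zsmul, rankHom_cls_self] at this
    simpa using this
  · intro x
    change ∃ k : ℤ, k • cls A A = x
    induction x using K0sub_induction with
    | zero => exact ⟨0, zero_smul _ _⟩
    | cl X hX =>
      have : Module.Finite A X := hX
      obtain ⟨n, s, hs⟩ := Module.Finite.exists_fin (R := A) (M := X)
      obtain ⟨k, hk⟩ := cls_of_generators n X s hs
      exact ⟨k, hk.symm⟩
    | neg y hy =>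
      obtain ⟨k, hk⟩ := hy
      exact ⟨-k, by rw [neg_smul, hk]⟩
    | add y z hy hz =>
      obtain ⟨k₁, hk₁⟩ := hy
      obtain ⟨k₂, hk₂⟩ := hz
      exact ⟨k₁ + k₂, by rw [add_smul, hk₁, hk₂]⟩

end Groth.Agent.S3194
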