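import Groth.Statements.S3206
import Mathlib
-- import your own Groth.Agent.* helpers here

set_option autoImplicit false
open SGA7

namespace Groth.Agent.S3206

section morse
open Finsupp

variable {k : Type} [Field k] {n : ℕ}

/-- order at least `d` -/
def Lo (d : ℕ) (a : MvPowerSeries (Fin n) k) : Prop :=
  ∀ m : Fin n →₀ ℕ, m.degree < d → MvPowerSeries.coeff m a = 0

theorem Lo.mono {d e : ℕ} {a : MvPowerSeries (Fin n) k} (h : Lo d a) (hed : e ≤ d) : Lo e a :=
  fun m hm => h m (lt_of_lt_of_le hm hed)

theorem Lo_zero (d : ℕ) : Lo d (0 : MvPowerSeries (Fin n) k) := fun m _ => by simp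

theorem Lo.add {d : ℕ} {a b : MvPowerSeries (Fin n) k} (ha : Lo d a) (hb : Lo d b) :
    Lo d (a + b) :=
  fun m hm => by rw [map_add, ha m hm, hb m hm, add_zero]

theorem Lo.sub {d : ℕ} {a b : MvPowerSeries (Fin n) k} (ha : Lo d a) (hb : Lo d b) :
    Lo d (a - b) :=
  fun m hm => by rw [map_sub, ha m hm, hb m hm, sub_zero]

theorem Lo.neg {d : ℕ} {a : MvPowerSeries (Fin n) k} (ha : Lo d a) : Lo d (-a) :=
  fun m hm => by rw [map_neg, ha m hm, neg_zero]

theorem Lo.smul {d : ℕ} {a : MvPowerSeries (Fin n) k} (ha : Lo d a) (c : k) : Lo d (c • a) :=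
  fun m hm => by rw [MvPowerSeries.coeff_smul, ha m hm, mul_zero]

theorem Lo.sum {ι : Type*} (s : Finset ι) (g : ι → MvPowerSeries (Fin n) k) {d : ℕ}
    (h : ∀ i ∈ s, Lo d (g i)) : Lo d (∑ i ∈ s, g i) :=
  fun m hm => by rw [map_sum]; exact Finset.sum_eq_zero fun i hi => h i hi m hm

theorem Lo.mul {p q : ℕ} {a b : MvPowerSeries (Fin n) k} (ha : Lo p a) (hb : Lo q b) :
    Lo (p + q) (a * b) := by
  classical
  intro m hm
  rw [MvPowerSeries.coeff_mul]
  apply Finset.sum_eq_zero
  rintro ⟨u, v⟩ huv
  rw [Finset.HasAntidiagonal.mem_antidiagonal] at huv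
  have hdeg : u.degree + v.degree = m.degree := by
    have := congrArg Finsupp.degree huv
    rw [map_add] at this
    exact this
  by_cases hu : u.degree < p
  · rw [ha u hu, zero_mul]
  · have hv : v.degree < q := by omega
    rw [hb v hv, mul_zero]

theorem eq_zero_of_Lo {a : MvPowerSeries (Fin n) k} (h : ∀ d, Lo d a) : a = 0 := by
  ext m
  rw [h (m.degree + 1) m (Nat.lt_succ_self _)]
  simp

theorem Lo_one_of_const {a : MvPowerSeries (Fin n) k}
    (h : MvPowerSeries.constantCoeff a = 0) : Lo 1 a := by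
  intro m hm
  have hm0 : m = 0 := by
    rw [← Finsupp.degree_eq_zero_iff]
    omega
  subst hm0
  rw [MvPowerSeries.coeff_zero_eq_constantCoeff_apply, h]

theorem Lo.const {d : ℕ} {a : MvPowerSeries (Fin n) k} (h : Lo (d + 1) a) :
    MvPowerSeries.constantCoeff a = 0 := by
  have := h 0 (by simp)
  rwa [MvPowerSeries.coeff_zero_eq_constantCoeff_apply] at this

theorem Lo_pderiv {d : ℕ} {a : MvPowerSeries (Fin n) k} (h : Lo (d + 1) a) (i : Fin n) :
    Lo d (MvPowerSeries.pderiv k i a) := by
  intro m hm
  rw [MvPowerSeries.coeff_pderiv, h, zero_mul]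
  rw [map_add, Finsupp.degree_single]
  omega

/-- vector version -/
def LoV (d : ℕ) (ε : Fin n → MvPowerSeries (Fin n) k) : Prop := ∀ i, Lo d (ε i)

/-! ### division operators -/

noncomputable def Dv (j : Fin n) (h : MvPowerSeries (Fin n) k) : MvPowerSeries (Fin n) k :=
  fun m => if (m + Finsupp.single j 1).support.min = (j : WithTop (Fin n)) then
    MvPowerSeries.coeff (m + Finsupp.single j 1) h else 0

theorem coeff_Dv (j : Fin n) (h : MvPowerSeries (Fin n) k) (m : Fin n →₀ ℕ) :
    MvPowerSeries.coeff m (Dv j h) =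
      if (m + Finsupp.single j 1).support.min = (j : WithTop (Fin n)) then
        MvPowerSeries.coeff (m + Finsupp.single j 1) h else 0 := rfl

theorem Dv_sub (j : Fin n) (h h' : MvPowerSeries (Fin n) k) :
    Dv j (h - h') = Dv j h - Dv j h' := by
  ext m
  simp only [coeff_Dv, map_sub]
  split_ifs <;> simp

theorem Lo_Dv {d : ℕ} {h : MvPowerSeries (Fin n) k} (hh : Lo (d + 1) h) (j : Fin n) :
    Lo d (Dv j h) := by
  intro m hm
  rw [coeff_Dv]
  split_ifs
  · apply hh
    rw [map_add, Finsupp.degree_single]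
    omega
  · rfl

theorem sum_X_mul_Dv (h : MvPowerSeries (Fin n) k) (h0 : MvPowerSeries.constantCoeff h = 0) :
    ∑ j, MvPowerSeries.X j * Dv j h = h := by
  classical
  ext m
  rw [map_sum]
  by_cases hm : m = 0
  · subst hm
    rw [Finset.sum_eq_zero (fun j _ => MvPowerSeries.coeff_zero_X_mul _ _)]
    rw [MvPowerSeries.coeff_zero_eq_constantCoeff_apply, h0]
  · have hne : m.support.Nonempty := by rwa [Finsupp.support_nonempty_iff]
    obtain ⟨j0, hj0⟩ := Finset.min_of_nonempty hne
    have hj0m : j0 ∈ m.support := Finset.mem_of_min hj0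
    have hle : Finsupp.single j0 1 ≤ m := by
      rw [Finsupp.single_le_iff]
      exact Nat.one_le_iff_ne_zero.2 (Finsupp.mem_support_iff.1 hj0m)
    rw [Finset.sum_eq_single j0]
    · rw [show (MvPowerSeries.X j0 : MvPowerSeries (Fin n) k)
        = MvPowerSeries.monomial (Finsupp.single j0 1) 1 from rfl,
        MvPowerSeries.coeff_monomial_mul, if_pos hle, one_mul, coeff_Dv,
        tsub_add_cancel_of_le hle, if_pos hj0]
    · intro j _ hj
      rw [show (MvPowerSeries.X j : MvPowerSeries (Fin n) k)
        = MvPowerSeries.monomial (Finsupp.single j 1) 1 from rfl,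
        MvPowerSeries.coeff_monomial_mul]
      split_ifs with hle'
      · rw [one_mul, coeff_Dv, tsub_add_cancel_of_le hle', if_neg]
        intro hmin
        apply hj
        rw [hj0] at hmin
        exact (WithTop.coe_injective hmin).symm
      · rfl
    · intro hnot
      exact absurd (Finset.mem_univ _) hnot

/-! ### quadratic forms in coordinates -/

noncomputable def Qf (c : Fin n → Fin n → k) (y : Fin n → MvPowerSeries (Fin n) k) :
    MvPowerSeries (Fin n) k := ∑ a, ∑ b, c a b • (y a * y b)

noncomputable def Lf (c : Fin n → Fin n → k) (i : Fin n) (y : Fin n → MvPowerSeries (Fin n) k) :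
    MvPowerSeries (Fin n) k := ∑ a, (c a i + c i a) • y a

theorem Qf_add (c : Fin n → Fin n → k) (y z : Fin n → MvPowerSeries (Fin n) k) :
    Qf c (y + z) = Qf c y + ∑ i, Lf c i y * z i + Qf c z := by
  have h1 : ∑ i, Lf c i y * z i = ∑ a, ∑ b, (c a b • (y a * z b) + c a b • (z a * y b)) := by
    have e : ∀ i, Lf c i y * z i = ∑ a, (c a i • (y a * z i) + c i a • (y a * z i)) := by
      intro i
      rw [Lf, Finset.sum_mul]
      refine Finset.sum_congr rfl fun a _ => ?_
      rw [smul_mul_assoc, add_smul]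
    simp only [e, Finset.sum_add_distrib]
    refine congrArg₂ (· + ·) ?_ ?_
    · exact Finset.sum_comm
    · refine Finset.sum_congr rfl fun i _ => Finset.sum_congr rfl fun a _ => ?_
      rw [mul_comm]
  rw [h1]
  simp only [Qf, Pi.add_apply, ← Finset.sum_add_distrib]
  refine Finset.sum_congr rfl fun a _ => Finset.sum_congr rfl fun b _ => ?_
  simp only [← smul_add]
  congr 1
  ring

theorem Lo_Qf (c : Fin n → Fin n → k) {d : ℕ} {y : Fin n → MvPowerSeries (Fin n) k}
    (hy : LoV d y) : Lo (d + d) (Qf c y) := by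
  apply Lo.sum
  intro a _
  apply Lo.sum
  intro b _
  exact ((hy a).mul (hy b)).smul _

theorem Lo_Lf (c : Fin n → Fin n → k) {d : ℕ} {y : Fin n → MvPowerSeries (Fin n) k}
    (hy : LoV d y) (i : Fin n) : Lo d (Lf c i y) := by
  apply Lo.sum
  intro a _
  exact (hy a).smul _

theorem pderiv_Qf (c : Fin n → Fin n → k) (i : Fin n) :
    MvPowerSeries.pderiv k i (Qf c (fun a => MvPowerSeries.X a))
      = Lf c i (fun a => MvPowerSeries.X a) := by
  classical
  have e1 : ∀ a b : Fin n, MvPowerSeries.pderiv k i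
      (c a b • ((MvPowerSeries.X a : MvPowerSeries (Fin n) k) * MvPowerSeries.X b))
      = (if b = i then c a b • (MvPowerSeries.X a : MvPowerSeries (Fin n) k) else 0)
        + (if a = i then c a b • (MvPowerSeries.X b : MvPowerSeries (Fin n) k) else 0) := by
    intro a b
    rw [Derivation.map_smul, Derivation.leibniz, MvPowerSeries.pderiv_X, MvPowerSeries.pderiv_X,
      Pi.single_apply, Pi.single_apply, smul_eq_mul, smul_eq_mul, smul_add]
    split_ifs <;> simp
  simp only [Qf, Lf, map_sum, e1, Finset.sum_add_distrib, add_smul]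
  congr 1
  · refine Finset.sum_congr rfl fun a _ => ?_
    rw [Finset.sum_ite_eq' Finset.univ i (fun b => c a b • (MvPowerSeries.X a : MvPowerSeries (Fin n) k)),
      if_pos (Finset.mem_univ _)]
  · rw [Finset.sum_eq_single i]
    · simp
    · intro a _ ha
      simp [ha]
    · intro hnot
      exact absurd (Finset.mem_univ _) hnot

/-! ### linear forms -/

theorem lin_zero (a : MvPowerSeries (Fin n) k)
    (ha : a ∈ Submodule.span k (Set.range (fun t : Fin n => (MvPowerSeries.X t : MvPowerSeries (Fin n) k))))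
    (h2 : Lo 2 a) : a = 0 := by
  classical
  obtain ⟨b, rfl⟩ := (Submodule.mem_span_range_iff_exists_fun k).1 ha
  have hb : ∀ t, b t = 0 := by
    intro t
    have := h2 (Finsupp.single t 1) (by rw [Finsupp.degree_single]; norm_num)
    rw [map_sum] at this
    simp only [MvPowerSeries.coeff_smul, MvPowerSeries.coeff_index_single_X, mul_ite, mul_one,
      mul_zero] at this
    rw [Finset.sum_ite_eq Finset.univ t b, if_pos (Finset.mem_univ _)] at this
    exact this
  simp [hb]

theorem mem_max_iff (a : MvPowerSeries (Fin n) k) :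
    a ∈ IsLocalRing.maximalIdeal (MvPowerSeries (Fin n) k)
      ↔ MvPowerSeries.constantCoeff a = 0 := by
  rw [IsLocalRing.mem_maximalIdeal, mem_nonunits_iff, MvPowerSeries.isUnit_iff_constantCoeff,
    isUnit_iff_ne_zero, not_not]

/-! ### monomials of degree two -/

theorem exists_split (m : Fin n →₀ ℕ) (hm : m.degree = 2) :
    ∃ a b : Fin n, m = Finsupp.single a 1 + Finsupp.single b 1 := by
  obtain ⟨g, hg, hg1⟩ := Finsupp.exists_le_degree_eq m 1 (by omega)
  have hmg : g + (m - g) = m := add_tsub_cancel_of_le hg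
  have h1 : (m - g).degree = 1 := by
    have h2 := congrArg Finsupp.degree hmg
    rw [map_add] at h2
    omega
  have e1 : g ∈ Set.range (fun a : Fin n => Finsupp.single a 1) := by
    rw [Finsupp.range_single_one]; exact hg1
  have e2 : (m - g) ∈ Set.range (fun a : Fin n => Finsupp.single a 1) := by
    rw [Finsupp.range_single_one]; exact h1
  obtain ⟨a, ha⟩ := e1
  obtain ⟨b, hb⟩ := e2
  refine ⟨a, b, ?_⟩
  simp only at ha hb
  rw [ha, hb]
  exact hmg.symm

theorem exists_c (p : MvPolynomial (Fin n) k) (hp : p.IsHomogeneous 2) :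
    ∃ c : Fin n → Fin n → k,
      p = ∑ a, ∑ b, c a b • (MvPolynomial.X a * MvPolynomial.X b) := by
  classical
  have key : ∀ m ∈ p.support, ∃ c : Fin n → Fin n → k,
      MvPolynomial.monomial m (MvPolynomial.coeff m p)
        = ∑ a, ∑ b, c a b • (MvPolynomial.X a * MvPolynomial.X b) := by
    intro m hm
    have hdeg : m.degree = 2 := by
      by_contra hne
      exact (MvPolynomial.mem_support_iff.1 hm) (hp.coeff_eq_zero hne)
    obtain ⟨a, b, rfl⟩ := exists_split m hdeg
    refine ⟨fun a' b' => if a' = a then (if b' = b then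
      MvPolynomial.coeff (Finsupp.single a 1 + Finsupp.single b 1) p else 0) else 0, ?_⟩
    rw [Finset.sum_eq_single a, Finset.sum_eq_single b]
    · beta_reduce
      rw [if_pos rfl, if_pos rfl]
      simp only [MvPolynomial.X, MvPolynomial.monomial_mul, MvPolynomial.smul_monomial, mul_one,
        smul_eq_mul]
    · intro b' _ hb'
      beta_reduce
      rw [if_pos rfl, if_neg hb', zero_smul]
    · intro hnot
      exact absurd (Finset.mem_univ _) hnot
    · intro a' _ ha'
      apply Finset.sum_eq_zero
      intro b' _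
      beta_reduce
      rw [if_neg ha', zero_smul]
    · intro hnot
      exact absurd (Finset.mem_univ _) hnot
  have hind : ∃ c : Fin n → Fin n → k,
      ∑ m ∈ p.support, MvPolynomial.monomial m (MvPolynomial.coeff m p)
        = ∑ a, ∑ b, c a b • (MvPolynomial.X a * MvPolynomial.X b) := by
    refine Finset.sum_induction (fun m => MvPolynomial.monomial m (MvPolynomial.coeff m p))
      (fun P => ∃ c : Fin n → Fin n → k,
        P = ∑ a, ∑ b, c a b • (MvPolynomial.X a * MvPolynomial.X b)) ?_ ?_ key
    · rintro P P' ⟨c, rfl⟩ ⟨c', rfl⟩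
      exact ⟨fun a b => c a b + c' a b, by simp only [add_smul, Finset.sum_add_distrib]⟩
    · exact ⟨fun _ _ => 0, by simp⟩
  rwa [MvPolynomial.support_sum_monomial_coeff] at hind

/-! ### fixed points of contractions -/

theorem fixpt (T : (Fin n → MvPowerSeries (Fin n) k) → (Fin n → MvPowerSeries (Fin n) k))
    (hT2 : ∀ ε, LoV 2 ε → LoV 2 (T ε))
    (hTc : ∀ ε ε' d, LoV 2 ε → LoV 2 ε' → LoV (d + 2) (ε - ε') → LoV (d + 3) (T ε - T ε')) :
    ∃ ε, LoV 2 ε ∧ T ε = ε := by
  set seq : ℕ → (Fin n → MvPowerSeries (Fin n) k) := fun j => T^[j] 0 with hseq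
  have seq0 : seq 0 = 0 := rfl
  have seqS : ∀ j, seq (j + 1) = T (seq j) := fun j => Function.iterate_succ_apply' T j 0
  have h2 : ∀ j, LoV 2 (seq j) := by
    intro j
    induction j with
    | zero => intro i; exact Lo_zero 2
    | succ j ih => rw [seqS]; exact hT2 _ ih
  have hstep : ∀ j, LoV (j + 2) (seq (j + 1) - seq j) := by
    intro j
    induction j with
    | zero =>
      rw [seqS, seq0, sub_zero]
      exact hT2 _ (fun i => Lo_zero 2)
    | succ j ih =>
      have := hTc (seq (j + 1)) (seq j) j (h2 _) (h2 _) ih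
      rw [← seqS, ← seqS] at this
      exact this
  have hstab : ∀ j j', j ≤ j' → LoV (j + 2) (seq j' - seq j) := by
    intro j j' hjj'
    induction j', hjj' using Nat.le_induction with
    | base => rw [sub_self]; intro i; exact Lo_zero _
    | succ j' hj' ih =>
      have : seq (j' + 1) - seq j = (seq (j' + 1) - seq j') + (seq j' - seq j) := by abel
      rw [this]
      intro i
      exact ((hstep j' i).mono (by omega)).add (ih i)
  let ε : Fin n → MvPowerSeries (Fin n) k := fun i m => seq (m.degree) i m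
  have hεc : ∀ i m, MvPowerSeries.coeff m (ε i) = MvPowerSeries.coeff m (seq m.degree i) :=
    fun i m => rfl
  have hlim : ∀ j, LoV (j + 2) (ε - seq j) := by
    intro j i m hm
    rw [Pi.sub_apply, map_sub, hεc]
    rcases le_or_gt m.degree j with h | h
    · have := hstab m.degree j h i m (by omega)
      rw [Pi.sub_apply, map_sub] at this
      rw [sub_eq_zero] at this ⊢
      exact this.symm
    · have := hstab j m.degree h.le i m hm
      rw [Pi.sub_apply, map_sub] at this
      exact this
  have hε2 : LoV 2 ε := by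
    intro i
    have : ε i = (ε - seq 0) i + seq 0 i := by rw [Pi.sub_apply]; abel
    rw [this]
    exact (hlim 0 i).add (h2 0 i)
  refine ⟨ε, hε2, ?_⟩
  funext i
  rw [← sub_eq_zero]
  apply eq_zero_of_Lo
  intro d
  have hA : Lo (d + 3) ((T ε - T (seq d)) i) := hTc ε (seq d) d hε2 (h2 d) (hlim d) i
  have hB : Lo (d + 3) ((ε - seq (d + 1)) i) := hlim (d + 1) i
  have : T ε i - ε i = (T ε - T (seq d)) i - (ε - seq (d + 1)) i := by
    rw [Pi.sub_apply, Pi.sub_apply, seqS]; abel
  rw [this]
  exact (hA.sub hB).mono (by omega)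

end morse

/-- Let k be a field and f a formal power series in n variables over k without constant term whose
partial derivatives ∂f/∂x_1, …, ∂f/∂x_n generate the maximal ideal of k[[x_1, …, x_n]]. Then there
are power series ε_1, …, ε_n with no terms of degree < 2 and a quadratic form q such that f = q(x_1
+ ε_1, …, x_n + ε_n). -/
theorem result (k : Type) [Field k] (n : ℕ) (f : MvPowerSeries (Fin n) k)
    (hf0 : MvPowerSeries.constantCoeff f = 0)
    (hJ : Ideal.span (Set.range fun i : Fin n => MvPowerSeries.pderiv k i f) = IsLocalRing.maximalIdeal (MvPowerSeries (Fin n) k)) :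
    ∃ (ε : Fin n → MvPowerSeries (Fin n) k) (_ : ∀ i (m : Fin n →₀ ℕ), m.degree < 2 → MvPowerSeries.coeff m (ε i) = 0)
      (q : MvPolynomial (Fin n) k) (_ : q.IsHomogeneous 2)
      (_ : MvPowerSeries.HasSubst (fun i : Fin n => MvPowerSeries.X i + ε i)),
      f = MvPowerSeries.subst (fun i : Fin n => MvPowerSeries.X i + ε i) (q : MvPowerSeries (Fin n) k) := by
  classical
  set Xv : Fin n → MvPowerSeries (Fin n) k := fun i => MvPowerSeries.X i with hXv
  have hP0 : ∀ i, MvPowerSeries.constantCoeff (MvPowerSeries.pderiv k i f) = 0 := by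
    intro i
    rw [← mem_max_iff, ← hJ]
    exact Ideal.subset_span ⟨i, rfl⟩
  -- the quadratic part
  set S : Finset (Fin n →₀ ℕ) := (Finsupp.finite_of_degree_eq (σ := Fin n) 2).toFinset with hS
  have hSmem : ∀ m, m ∈ S ↔ m.degree = 2 := by
    intro m
    rw [hS, Set.Finite.mem_toFinset]
    rfl
  set q : MvPolynomial (Fin n) k := MvPowerSeries.truncFinset k S f with hq
  have hqhom : q.IsHomogeneous 2 := by
    rw [hq, MvPowerSeries.truncFinset_apply]
    exact MvPolynomial.IsHomogeneous.sum _ _ _
      (fun m hm => MvPolynomial.isHomogeneous_monomial _ ((hSmem m).1 hm))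
  have hqcoeff : ∀ m, MvPowerSeries.coeff m (q : MvPowerSeries (Fin n) k)
      = if m.degree = 2 then MvPowerSeries.coeff m f else 0 := by
    intro m
    rw [MvPolynomial.coeff_coe, hq, MvPowerSeries.coeff_truncFinset]
    simp only [hSmem]
  obtain ⟨c, hc⟩ := exists_c q hqhom
  have haeval : ∀ y : Fin n → MvPowerSeries (Fin n) k, MvPolynomial.aeval y q = Qf c y := by
    intro y
    rw [hc]
    simp only [map_sum, map_smul, map_mul, MvPolynomial.aeval_X, Qf]
  have hqX : (q : MvPowerSeries (Fin n) k) = Qf c Xv := by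
    rw [← haeval, ← MvPowerSeries.subst_coe]
    exact (congrFun MvPowerSeries.subst_self _).symm
  have hg3 : Lo 3 (f - Qf c Xv) := by
    rw [← hqX]
    intro m hm
    rw [map_sub, hqcoeff]
    have h012 : m.degree = 0 ∨ m.degree = 1 ∨ m.degree = 2 := by omega
    rcases h012 with h | h | h
    · have hm0 : m = 0 := (Finsupp.degree_eq_zero_iff m).1 h
      subst hm0
      rw [if_neg (by simp), sub_zero, MvPowerSeries.coeff_zero_eq_constantCoeff_apply, hf0]
    · have hmr : m ∈ Set.range (fun a : Fin n => Finsupp.single a 1) := by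
        rw [Finsupp.range_single_one]; exact h
      obtain ⟨t, rfl⟩ := hmr
      rw [if_neg (by rw [h]; norm_num), sub_zero]
      have := hP0 t
      rw [← MvPowerSeries.coeff_zero_eq_constantCoeff_apply, MvPowerSeries.coeff_pderiv] at this
      simpa using this
    · rw [if_pos h, sub_self]
  -- the linear forms `∂q/∂x_i` span all linear forms
  have hex : ∀ j : Fin n, ∃ G : Fin n → MvPowerSeries (Fin n) k,
      ∑ i, G i * MvPowerSeries.pderiv k i f = MvPowerSeries.X j := by
    intro j
    have hmem : (MvPowerSeries.X j : MvPowerSeries (Fin n) k)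
        ∈ Ideal.span (Set.range fun i : Fin n => MvPowerSeries.pderiv k i f) := by
      rw [hJ, mem_max_iff]
      exact MvPowerSeries.constantCoeff_X j
    exact (Ideal.mem_span_range_iff_exists_fun).1 hmem
  choose G hG using hex
  set A : Fin n → Fin n → k := fun j i => MvPowerSeries.constantCoeff (G j i) with hA
  have hAX : ∀ j, ∑ i, A j i • Lf c i Xv = MvPowerSeries.X j := by
    intro j
    have hE : MvPowerSeries.X j - ∑ i, A j i • Lf c i Xv = 0 := by
      apply lin_zero
      · exact Submodule.sub_mem _ (Submodule.subset_span ⟨j, rfl⟩)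
          (Submodule.sum_mem _ fun i _ => Submodule.smul_mem _ _
            (Submodule.sum_mem _ fun a _ => Submodule.smul_mem _ _
              (Submodule.subset_span ⟨a, rfl⟩)))
      · rw [← hG j, ← Finset.sum_sub_distrib]
        apply Lo.sum
        intro i _
        have hsplit : G j i * MvPowerSeries.pderiv k i f - A j i • Lf c i Xv
            = (G j i - A j i • 1) * MvPowerSeries.pderiv k i f
              + A j i • (MvPowerSeries.pderiv k i f - Lf c i Xv) := by
          rw [sub_mul, smul_mul_assoc, one_mul, smul_sub]; abel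
        rw [hsplit]
        apply Lo.add
        · have h1 : Lo 1 (G j i - A j i • (1 : MvPowerSeries (Fin n) k)) :=
            Lo_one_of_const (by simp [hA])
          have h2 : Lo 1 (MvPowerSeries.pderiv k i f) := Lo_one_of_const (hP0 i)
          exact h1.mul h2
        · apply Lo.smul
          rw [← pderiv_Qf, ← map_sub]
          exact Lo_pderiv hg3 i
    exact (sub_eq_zero.1 hE).symm
  -- the contraction
  set g : MvPowerSeries (Fin n) k := f - Qf c Xv with hg
  set T : (Fin n → MvPowerSeries (Fin n) k) → (Fin n → MvPowerSeries (Fin n) k) :=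
    fun ε i => ∑ j, A j i • Dv j (g - Qf c ε) with hT
  have hT2 : ∀ ε, LoV 2 ε → LoV 2 (T ε) := by
    intro ε hε i
    apply Lo.sum
    intro j _
    apply Lo.smul
    apply Lo_Dv
    exact hg3.sub ((Lo_Qf c hε).mono (by norm_num))
  have hTc : ∀ ε ε' d, LoV 2 ε → LoV 2 ε' → LoV (d + 2) (ε - ε') → LoV (d + 3) (T ε - T ε') := by
    intro ε ε' d hε hε' hδ i
    have hTs : T ε i - T ε' i = ∑ j, A j i • Dv j (Qf c ε' - Qf c ε) := by
      rw [hT]
      beta_reduce
      rw [← Finset.sum_sub_distrib]
      refine Finset.sum_congr rfl fun j _ => ?_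
      rw [← smul_sub, ← Dv_sub]
      congr 2
      abel
    rw [Pi.sub_apply, hTs]
    apply Lo.sum
    intro j _
    apply Lo.smul
    apply Lo_Dv
    have hεeq : Qf c ε = Qf c (ε' + (ε - ε')) := by
      congr 1
      abel
    rw [hεeq, Qf_add]
    have hneg : Qf c ε' - (Qf c ε' + ∑ i, Lf c i ε' * (ε - ε') i + Qf c (ε - ε'))
        = -(∑ i, Lf c i ε' * (ε - ε') i + Qf c (ε - ε')) := by abel
    rw [hneg]
    apply Lo.neg
    apply Lo.add
    · apply Lo.sum
      intro i' _
      exact ((Lo_Lf c hε' i').mul (hδ i')).mono (by omega)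
    · exact (Lo_Qf c hδ).mono (by omega)
  obtain ⟨ε, hε2, hfix⟩ := fixpt T hT2 hTc
  have hε0 : ∀ i, MvPowerSeries.constantCoeff (ε i) = 0 := fun i => (hε2 i).const
  have hsub : MvPowerSeries.HasSubst (fun i : Fin n => MvPowerSeries.X i + ε i) :=
    MvPowerSeries.hasSubst_of_constantCoeff_zero (fun s => by simp [hε0 s])
  refine ⟨ε, hε2, q, hqhom, hsub, ?_⟩
  rw [MvPowerSeries.subst_coe, haeval]
  have hfun : (fun i : Fin n => MvPowerSeries.X i + ε i) = Xv + ε := rfl
  rw [hfun, Qf_add]
  have hlin : ∑ i, Lf c i Xv * ε i = g - Qf c ε := by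
    have hLo3 : Lo 3 (g - Qf c ε) := hg3.sub ((Lo_Qf c hε2).mono (by norm_num))
    have h0 : MvPowerSeries.constantCoeff (g - Qf c ε) = 0 := hLo3.const
    calc ∑ i, Lf c i Xv * ε i
        = ∑ i, Lf c i Xv * ∑ j, A j i • Dv j (g - Qf c ε) := by
          refine Finset.sum_congr rfl fun i _ => ?_
          exact congrArg (Lf c i Xv * ·) (congrFun hfix i).symm
      _ = ∑ j, (∑ i, A j i • Lf c i Xv) * Dv j (g - Qf c ε) := by
          simp only [Finset.mul_sum, Finset.sum_mul]
          rw [Finset.sum_comm]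
          refine Finset.sum_congr rfl fun j _ => Finset.sum_congr rfl fun i _ => ?_
          rw [mul_smul_comm, smul_mul_assoc]
      _ = ∑ j, MvPowerSeries.X j * Dv j (g - Qf c ε) := by simp only [hAX]
      _ = g - Qf c ε := sum_X_mul_Dv _ h0
  rw [hlin, hg]
  abel

end Groth.Agent.S3206
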