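import Groth.Statements.S3208
import Mathlib.Algebra.Ring.GeomSum
import Mathlib.RingTheory.Filtration
import Mathlib.Data.Nat.Factorization.Basic
import Mathlib.Tactic

set_option autoImplicit false
open SGA7

namespace Groth.Agent.S3208

variable {E : Type} [CommRing E]

/-- second order expansion of a geometric sum -/
theorem geom_expand (y : E) (n : ℕ) :
    ∃ z : E, ∑ i ∈ Finset.range n, (1 + y) ^ i = n + y * ((∑ i ∈ Finset.range n, i : ℕ) : E) + y ^ 2 * z := by
  have hpow : ∀ i : ℕ, ∃ z : E, (1 + y) ^ i = 1 + i * y + y ^ 2 * z := by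
    intro i
    induction i with
    | zero => exact ⟨0, by simp⟩
    | succ i ih =>
      obtain ⟨z, hz⟩ := ih
      refine ⟨i + z + y * z, ?_⟩
      rw [pow_succ, hz]
      push_cast
      ring
  induction n with
  | zero => exact ⟨0, by simp⟩
  | succ n ih =>
    obtain ⟨z, hz⟩ := ih
    obtain ⟨z', hz'⟩ := hpow n
    refine ⟨z + z', ?_⟩
    rw [Finset.sum_range_succ, Finset.sum_range_succ, hz, hz']
    push_cast
    ring

/-- The separation and cancellation hypotheses for a prime `p`. -/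
structure Good (p : ℕ) : Prop where
  cancel : ∀ x : E, (p : E) * x = 0 → x = 0
  sep : ∀ x : E, x ≠ 0 → ∃ N : ℕ, ∀ w : E, x ≠ (p : E) ^ N * w

theorem Good.cancel_pow {p : ℕ} (h : Good (E := E) p) (a : ℕ) (x : E) (hx : (p : E) ^ a * x = 0) : x = 0 := by
  induction a with
  | zero => simpa using hx
  | succ a ih =>
    apply ih
    apply h.cancel
    rw [← hx]
    ring

theorem Good.extract {p : ℕ} (h : Good (E := E) p) (a₀ : ℕ) (x w₀ : E) (hx : x ≠ 0) (hx0 : x = (p : E) ^ a₀ * w₀) :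
    ∃ a : ℕ, a₀ ≤ a ∧ ∃ w : E, x = (p : E) ^ a * w ∧ ∀ w' : E, w ≠ (p : E) * w' := by
  classical
  have hex := h.sep x hx
  have hQ := Nat.find_spec hex
  have hmin := fun k hk => Nat.find_min hex (m := k) hk
  set k₀ := Nat.find hex with hk₀
  have hk0 : k₀ ≠ 0 := by
    intro h0
    apply hQ x
    rw [h0]
    simp
  have hlt : k₀ - 1 < k₀ := by omega
  have hnot := hmin (k₀ - 1) hlt
  obtain ⟨w, hw⟩ : ∃ w, x = (p : E) ^ (k₀ - 1) * w := by
    by_contra hcon
    exact hnot (fun w hw => hcon ⟨w, hw⟩)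
  refine ⟨k₀ - 1, ?_, w, hw, ?_⟩
  · by_contra hcon
    have hle : k₀ ≤ a₀ := by omega
    apply hQ ((p : E) ^ (a₀ - k₀) * w₀)
    rw [hx0, ← mul_assoc, ← pow_add]
    congr 2
    omega
  · intro w' hw'
    apply hQ w'
    rw [hw, hw', ← mul_assoc, ← pow_succ]
    congr 2
    omega

/-- core case: prime order -/
theorem core {p : ℕ} (hp : p.Prime) (h : Good (E := E) p) (ℓ : ℕ) (hℓ : ℓ.Prime) (w : E) (b : ℕ)
    (h2 : p = 2 → 1 ≤ b)
    (hpow : (1 + (p : E) ^ (b + 1) * w) ^ ℓ = 1) (hw : ∀ w' : E, w ≠ (p : E) * w') : False := by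
  obtain ⟨P, hP⟩ : ∃ P : E, P = (p : E) := ⟨_, rfl⟩
  rw [← hP] at hpow hw
  obtain ⟨y, hy⟩ : ∃ y : E, y = P ^ (b + 1) * w := ⟨_, rfl⟩
  rw [← hy] at hpow
  obtain ⟨z, hz⟩ := geom_expand y ℓ
  have hgeom : y * ∑ i ∈ Finset.range ℓ, (1 + y) ^ i = 0 := by
    have := mul_geom_sum (1 + y) ℓ
    rw [hpow, sub_self] at this
    rw [← this]
    ring
  have hcancel : ∀ x : E, P * x = 0 → x = 0 := by rw [hP]; exact h.cancel
  have hcancel_pow : ∀ (a : ℕ) (x : E), P ^ a * x = 0 → x = 0 := by rw [hP]; exact h.cancel_pow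
  by_cases hℓp : ℓ = p
  · subst hℓp
    by_cases hp2 : ℓ = 2
    · -- p = 2
      have hb : 1 ≤ b := h2 hp2
      have hsum : ∑ i ∈ Finset.range ℓ, (1 + y) ^ i = 2 + y := by
        rw [hp2]
        simp [Finset.sum_range_succ]
        ring
      rw [hsum] at hgeom
      have hP2 : P = 2 := by rw [hP, hp2]; norm_num
      have h1 : P ^ (b + 1) * (w * (2 + y)) = 0 := by rw [← hgeom, hy]; ring
      have h2' := hcancel_pow _ _ h1
      obtain ⟨c, rfl⟩ : ∃ c, b = c + 1 := ⟨b - 1, by omega⟩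
      have h3 : P * (w + P ^ (c + 1) * w ^ 2) = 0 := by
        rw [← h2', hy, hP2]
        ring
      have h4 := hcancel _ h3
      apply hw (-(P ^ c * w ^ 2))
      linear_combination h4
    · -- p odd
      have hodd : Odd ℓ := hp.odd_of_ne_two hp2
      obtain ⟨c, hc⟩ := hodd
      have hsumid : (∑ i ∈ Finset.range ℓ, i : ℕ) = ℓ * c := by
        have := Finset.sum_range_id_mul_two ℓ
        have h' : ℓ - 1 = 2 * c := by omega
        rw [h'] at this
        have : (∑ i ∈ Finset.range ℓ, i) * 2 = (ℓ * c) * 2 := by rw [this]; ring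
        exact Nat.eq_of_mul_eq_mul_right (by norm_num) this
      rw [hz, hsumid] at hgeom
      push_cast at hgeom
      rw [← hP] at hgeom
      have h1 : P ^ (b + 1) * (w * (P + y * (P * c) + y ^ 2 * z)) = 0 := by
        rw [← hgeom, hy]; ring
      have h2' := hcancel_pow _ _ h1
      have h3 : P * (w * (1 + y * c) + P ^ (2 * b + 1) * w ^ 3 * z) = 0 := by
        rw [← h2', hy]
        ring
      have h4 := hcancel _ h3
      apply hw (-(P ^ b * w ^ 2 * c) - P ^ (2 * b) * w ^ 3 * z)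
      rw [hy] at h4
      linear_combination h4
  · -- ℓ ≠ p
    have hcop : Nat.Coprime ℓ p := (Nat.coprime_primes hℓ hp).2 hℓp
    have hbez : (ℓ : ℤ) * Nat.gcdA ℓ p + p * Nat.gcdB ℓ p = 1 := by
      have := Nat.gcd_eq_gcd_ab ℓ p
      rw [hcop] at this
      push_cast at this
      linarith
    have hbezE : (ℓ : E) * ((Nat.gcdA ℓ p : ℤ) : E) + P * ((Nat.gcdB ℓ p : ℤ) : E) = 1 := by
      rw [hP]
      exact_mod_cast congrArg (Int.cast : ℤ → E) hbez
    rw [hz] at hgeom
    have h1 : P ^ (b + 1) * (w * ((ℓ : E) + y * ((∑ i ∈ Finset.range ℓ, i : ℕ) : E) + y ^ 2 * z)) = 0 := by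
      rw [← hgeom, hy]; ring
    have h2' := hcancel_pow _ _ h1
    rw [hy] at h2'
    set s : E := ((∑ i ∈ Finset.range ℓ, i : ℕ) : E) with hs
    apply hw (((Nat.gcdA ℓ p : ℤ) : E) * (-(P ^ b * w ^ 2 * s) - P ^ (2 * b + 1) * w ^ 3 * z) +
      ((Nat.gcdB ℓ p : ℤ) : E) * w)
    linear_combination (-(w : E)) * hbezE + ((Nat.gcdA ℓ p : ℤ) : E) * h2'

/-- finite order and congruent to one modulo a suitable prime power forces equality with one -/
theorem eq_one_of_pow {p : ℕ} (hp : p.Prime) (h : Good (E := E) p) (b : ℕ) (h2 : p = 2 → 1 ≤ b) :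
    ∀ (m : ℕ), 0 < m → ∀ u : E, u ^ m = 1 → (∃ w₀ : E, u = 1 + (p : E) ^ (b + 1) * w₀) → u = 1 := by
  intro m
  induction m using Nat.strong_induction_on with
  | _ m ih =>
    intro hm u hu hcong
    by_cases hm1 : m = 1
    · rw [hm1, pow_one] at hu; exact hu
    have hm2 : 2 ≤ m := by omega
    set ℓ := m.minFac with hℓdef
    have hℓ : ℓ.Prime := Nat.minFac_prime hm1
    obtain ⟨k, hk⟩ : ℓ ∣ m := Nat.minFac_dvd m
    have hkpos : 0 < k := by
      rcases Nat.eq_zero_or_pos k with h0 | h0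
      · rw [h0, mul_zero] at hk; omega
      · exact h0
    have hklt : k < m := by
      rw [hk]
      have := hℓ.two_le
      nlinarith
    -- u' = u^k has order dividing ℓ
    have hu' : (u ^ k) ^ ℓ = 1 := by rw [← pow_mul, mul_comm, ← hk, hu]
    have hcong' : ∃ w₀ : E, u ^ k = 1 + (p : E) ^ (b + 1) * w₀ := by
      obtain ⟨w₀, hw₀⟩ := hcong
      have := mul_geom_sum u k
      refine ⟨w₀ * ∑ i ∈ Finset.range k, u ^ i, ?_⟩
      have h1 : u - 1 = (p : E) ^ (b + 1) * w₀ := by rw [hw₀]; ring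
      rw [h1] at this
      linear_combination -this
    have hone : u ^ k = 1 := by
      by_contra hne
      obtain ⟨w₀, hw₀⟩ := hcong'
      have hx : u ^ k - 1 ≠ 0 := sub_ne_zero.mpr hne
      have hx0 : u ^ k - 1 = (p : E) ^ (b + 1) * w₀ := by rw [hw₀]; ring
      obtain ⟨a, ha, w, hw, hwp⟩ := h.extract (b + 1) (u ^ k - 1) w₀ hx hx0
      obtain ⟨b', rfl⟩ : ∃ b', a = b' + 1 := ⟨a - 1, by omega⟩
      have huk : u ^ k = 1 + (p : E) ^ (b' + 1) * w := by rw [← hw]; ring
      rw [huk] at hu'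
      exact core hp h ℓ hℓ w b' (fun h2' => le_trans (h2 h2') (by omega)) hu' hwp
    exact ih k hklt hkpos u hone hcong

theorem good_of (E : Type) [CommRing E] [NoZeroSMulDivisors ℤ E] [Module.Finite ℤ E] {p : ℕ} (hp : p.Prime) :
    Good (E := E) p := by
  constructor
  · intro x hx
    have hx' : (p : ℤ) • x = 0 := by
      rw [zsmul_eq_mul]
      exact_mod_cast hx
    rcases smul_eq_zero.mp hx' with h0 | h0
    · exfalso
      exact hp.ne_zero (by exact_mod_cast h0)
    · exact h0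
  · intro x hx
    have hI : Ideal.span {(p : ℤ)} ≠ ⊤ := by
      rw [Ne, Ideal.span_singleton_eq_top]
      intro hunit
      have := Int.isUnit_iff.mp hunit
      have h2 := hp.two_le
      omega
    have hkrull := Ideal.iInf_pow_smul_eq_bot_of_isTorsionFree (R := ℤ) (M := E) (I := Ideal.span {(p : ℤ)}) hI
    have hxnot : x ∉ (⨅ i : ℕ, Ideal.span {(p : ℤ)} ^ i • ⊤ : Submodule ℤ E) := by
      rw [hkrull]
      exact hx
    rw [Submodule.mem_iInf] at hxnot
    obtain ⟨N, hN⟩ := not_forall.mp hxnot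
    refine ⟨N, fun w hw => hN ?_⟩
    have : x = ((p : ℤ) ^ N) • w := by
      rw [zsmul_eq_mul, hw]
      push_cast
      rfl
    rw [this]
    exact Submodule.smul_mem_smul (Ideal.pow_mem_pow (Ideal.mem_span_singleton_self _) N) Submodule.mem_top

/-- the case of congruence modulo an odd prime or modulo four -/
theorem eq_one_of_three_le (E : Type) [CommRing E] [NoZeroSMulDivisors ℤ E] [Module.Finite ℤ E] (u : E) (m : ℕ)
    (hm : 0 < m) (hu : u ^ m = 1) (n : ℕ) (hn : 3 ≤ n) (hcong : ∃ v : E, 1 - u = (n : E) * v) : u = 1 := by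
  obtain ⟨v, hv⟩ := hcong
  obtain ⟨k, q, hq, hnk⟩ := Nat.exists_eq_two_pow_mul_odd (n := n) (by omega)
  by_cases hq1 : q = 1
  · -- n is a power of two, at least four
    rw [hq1, mul_one] at hnk
    have hk2 : 2 ≤ k := by
      by_contra hcon
      have : k = 0 ∨ k = 1 := by omega
      rcases this with h0 | h0 <;> rw [h0] at hnk <;> omega
    obtain ⟨k', rfl⟩ : ∃ k', k = k' + 2 := ⟨k - 2, by omega⟩
    refine eq_one_of_pow Nat.prime_two (good_of E Nat.prime_two) 1 (fun _ => le_refl _) m hm u hu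
      ⟨-((2 : E) ^ k' * v), ?_⟩
    have : (n : E) = 2 ^ (k' + 2) := by rw [hnk]; push_cast; rfl
    rw [this] at hv
    push_cast
    linear_combination -hv
  · -- n has an odd prime factor
    have hq2 : q ≠ 1 := hq1
    obtain ⟨p, hp, hpq⟩ := Nat.exists_prime_and_dvd hq2
    have hpodd : p ≠ 2 := by
      intro h2
      rw [h2] at hpq
      exact (Nat.not_even_iff_odd.mpr hq) (even_iff_two_dvd.mpr hpq)
    obtain ⟨r, hr⟩ := hpq
    refine eq_one_of_pow hp (good_of E hp) 0 (fun h => absurd h hpodd) m hm u hu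
      ⟨-((2 : E) ^ k * r * v), ?_⟩
    have : (n : E) = 2 ^ k * (p * r) := by rw [hnk, hr]; push_cast; rfl
    rw [this] at hv
    linear_combination -hv

/-- Let E be a commutative ring which is finitely generated and torsion-free as an additive group, u an
element of E of finite multiplicative order (u^m = 1 for some m > 0), and n ≥ 2 an integer with u ≡
1 modulo nE (i.e. 1 - u = n·v for some v ∈ E). Then u² = 1, and if n ≥ 3 then u = 1. -/
theorem result (E : Type) [CommRing E] [NoZeroSMulDivisors ℤ E] [Module.Finite ℤ E] (u : E) (m : ℕ) (hm : 0 < m)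
    (hu : u ^ m = 1) (n : ℕ) (hn : 2 ≤ n) (hcong : ∃ v : E, 1 - u = (n : E) * v) :
    u ^ 2 = 1 ∧ (3 ≤ n → u = 1) := by
  have h3 : 3 ≤ n → u = 1 := fun h => eq_one_of_three_le E u m hm hu n h hcong
  refine ⟨?_, h3⟩
  by_cases hn3 : 3 ≤ n
  · rw [h3 hn3, one_pow]
  · have hn2 : n = 2 := by omega
    obtain ⟨v, hv⟩ := hcong
    rw [hn2] at hv
    refine eq_one_of_three_le E (u ^ 2) m hm (by rw [← pow_mul, mul_comm, pow_mul, hu, one_pow]) 4 (by norm_num)
      ⟨v * (1 - v), ?_⟩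
    push_cast at hv ⊢
    have hu' : u = 1 - 2 * v := by linear_combination -hv
    rw [hu']
    ring

end Groth.Agent.S3208
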