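import Groth.Statements.S3209
import Mathlib.LinearAlgebra.TensorProduct.RightExactness

set_option autoImplicit false
universe u
open TensorProduct
open SGA7

namespace Groth.Agent.S3209

theorem map_id_eq_lTensor {R S M N : Type u} [CommRing R] [CommRing S] [CommRing M] [CommRing N]
    [Algebra R S] [Algebra R M] [Algebra R N] (h : M →ₐ[R] N) (z : S ⊗[R] M) :
    Algebra.TensorProduct.map (AlgHom.id R S) h z = LinearMap.lTensor S h.toLinearMap z := by
  induction z using TensorProduct.induction_on with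
  | zero => simp
  | tmul s m => simp
  | add a b ha hb => simp only [map_add, ha, hb]

/-- Let f : B' → B be a surjective map of R-algebras with kernel J, g : C → B a map of R-algebras, P =
B' ×_B C their fibre product (the equalizer of f ∘ pr₁ and g ∘ pr₂ in B' × C) and S an R-algebra
such that S ⊗_R J → S ⊗_R B' is injective (this holds when Tor_1^R(B, S) = 0, the published
hypothesis, and in particular when S is flat). Then the canonical map S ⊗_R P → (S ⊗_R B') ×_{S ⊗_R
B} (S ⊗_R C) is bijective: it is injective, and every pair with the same image in S ⊗_R B comes from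
S ⊗_R P. -/
theorem result (R B' B C S : Type u) [CommRing R] [CommRing B'] [CommRing B] [CommRing C]
    [CommRing S] [Algebra R B'] [Algebra R B] [Algebra R C] [Algebra R S]
    (f : B' →ₐ[R] B) (hf : Function.Surjective f) (g : C →ₐ[R] B)
    (hJ : Function.Injective (LinearMap.lTensor S (LinearMap.ker f.toLinearMap).subtype)) :
    letI P := AlgHom.equalizer (f.comp (AlgHom.fst R B' C)) (g.comp (AlgHom.snd R B' C))
    letI φ₁ := Algebra.TensorProduct.map (AlgHom.id R S) ((AlgHom.fst R B' C).comp P.val)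
    letI φ₂ := Algebra.TensorProduct.map (AlgHom.id R S) ((AlgHom.snd R B' C).comp P.val)
    Function.Injective (fun z : S ⊗[R] ↥P => (φ₁ z, φ₂ z)) ∧
    ∀ (x : S ⊗[R] B') (y : S ⊗[R] C),
      Algebra.TensorProduct.map (AlgHom.id R S) f x = Algebra.TensorProduct.map (AlgHom.id R S) g y →
        ∃ z : S ⊗[R] ↥P, φ₁ z = x ∧ φ₂ z = y := by
  set P := AlgHom.equalizer (f.comp (AlgHom.fst R B' C)) (g.comp (AlgHom.snd R B' C)) with hPdef
  set φ₁ := Algebra.TensorProduct.map (AlgHom.id R S) ((AlgHom.fst R B' C).comp P.val) with hφ₁def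
  set φ₂ := Algebra.TensorProduct.map (AlgHom.id R S) ((AlgHom.snd R B' C).comp P.val) with hφ₂def
  set J := LinearMap.ker f.toLinearMap with hJdef
  let p₁ : P →ₗ[R] B' := ((AlgHom.fst R B' C).comp P.val).toLinearMap
  let p₂ : P →ₗ[R] C := ((AlgHom.snd R B' C).comp P.val).toLinearMap
  have hP : ∀ z : P, f (z : B' × C).1 = g (z : B' × C).2 := fun z => z.2
  let ι : J →ₗ[R] P :=
    { toFun := fun j => ⟨((j : B'), 0), by
        have : f (j : B') = 0 := j.2
        change f (j : B') = g 0
        rw [this, map_zero]⟩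
      map_add' := fun a b => by
        apply Subtype.ext
        simp
      map_smul' := fun r a => by
        apply Subtype.ext
        simp }
  have hι₁ : p₁ ∘ₗ ι = J.subtype := by
    ext j; rfl
  have hι₂ : p₂ ∘ₗ ι = 0 := by
    ext j; rfl
  have hex : Function.Exact ι p₂ := by
    intro z
    constructor
    · intro hz
      have hz2 : (z : B' × C).2 = 0 := hz
      have hz1 : f (z : B' × C).1 = 0 := by rw [hP z, hz2, map_zero]
      refine ⟨⟨(z : B' × C).1, hz1⟩, ?_⟩
      apply Subtype.ext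
      apply Prod.ext
      · rfl
      · exact hz2.symm
    · rintro ⟨j, rfl⟩
      rfl
  have hp₂ : Function.Surjective p₂ := by
    intro c
    obtain ⟨b', hb'⟩ := hf (g c)
    exact ⟨⟨(b', c), hb'⟩, rfl⟩
  have hexf : Function.Exact J.subtype f.toLinearMap := LinearMap.exact_subtype_ker_map _
  have hfs : Function.Surjective f.toLinearMap := hf
  have hex' := lTensor_exact S hex hp₂
  have hexf' := lTensor_exact S hexf hfs
  have hφ₁ : ∀ z, φ₁ z = LinearMap.lTensor S p₁ z := fun z => map_id_eq_lTensor _ z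
  have hφ₂ : ∀ z, φ₂ z = LinearMap.lTensor S p₂ z := fun z => map_id_eq_lTensor _ z
  have hcomp₁ : ∀ w, LinearMap.lTensor S p₁ (LinearMap.lTensor S ι w) = LinearMap.lTensor S J.subtype w := by
    intro w
    rw [← LinearMap.comp_apply, ← LinearMap.lTensor_comp, hι₁]
  have hcomp₂ : ∀ w, LinearMap.lTensor S p₂ (LinearMap.lTensor S ι w) = 0 := by
    intro w
    rw [← LinearMap.comp_apply, ← LinearMap.lTensor_comp, hι₂]
    simp
  have hsq : f.toLinearMap ∘ₗ p₁ = g.toLinearMap ∘ₗ p₂ := by
    ext z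
    exact hP z
  refine ⟨?_, ?_⟩
  · intro z₁ z₂ h
    have h1 : φ₁ z₁ = φ₁ z₂ := congrArg Prod.fst h
    have h2 : φ₂ z₁ = φ₂ z₂ := congrArg Prod.snd h
    rw [hφ₁, hφ₁] at h1
    rw [hφ₂, hφ₂] at h2
    have h2' : LinearMap.lTensor S p₂ (z₁ - z₂) = 0 := by rw [map_sub, h2, sub_self]
    obtain ⟨w, hw⟩ := (hex' (z₁ - z₂)).1 h2'
    have h1' : LinearMap.lTensor S p₁ (z₁ - z₂) = 0 := by rw [map_sub, h1, sub_self]
    rw [← hw, hcomp₁] at h1'
    have hw0 : w = 0 := hJ (by rw [h1', map_zero])
    rw [hw0, map_zero] at hw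
    exact sub_eq_zero.mp hw.symm
  · intro x y hxy
    rw [map_id_eq_lTensor, map_id_eq_lTensor] at hxy
    obtain ⟨z₀, hz₀⟩ := LinearMap.lTensor_surjective S hp₂ y
    have hk : LinearMap.lTensor S f.toLinearMap (x - LinearMap.lTensor S p₁ z₀) = 0 := by
      rw [map_sub, hxy, ← hz₀, ← LinearMap.comp_apply, ← LinearMap.comp_apply,
        ← LinearMap.lTensor_comp, ← LinearMap.lTensor_comp, hsq, sub_self]
    obtain ⟨w, hw⟩ := (hexf' _).1 hk
    refine ⟨z₀ + LinearMap.lTensor S ι w, ?_, ?_⟩
    · rw [hφ₁, map_add, hcomp₁, hw]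
      abel
    · rw [hφ₂, map_add, hcomp₂, hz₀, add_zero]

end Groth.Agent.S3209
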