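import Groth.Statements.S3214
import Mathlib.RingTheory.Polynomial.Vieta

set_option autoImplicit false
open Polynomial
universe u
open SGA7II

namespace Groth.Agent.S3214

theorem vieta (a : ℕ) :
    (∏ i : Fin a, (X - C (MvPolynomial.X i)) : (MvPolynomial (Fin a) ℤ)[X]) =
      ∑ i ∈ Finset.range (a + 1),
        C ((-1 : MvPolynomial (Fin a) ℤ) ^ i * MvPolynomial.esymm (Fin a) ℤ i) * X ^ (a - i) := by
  have h := Multiset.prod_X_sub_X_eq_sum_esymm
    (Finset.univ.val.map fun i : Fin a => (MvPolynomial.X i : MvPolynomial (Fin a) ℤ))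
  rw [Multiset.map_map, Multiset.card_map] at h
  have hc : Multiset.card (Finset.univ : Finset (Fin a)).val = a := by simp
  rw [hc] at h
  rw [Finset.prod_eq_multiset_prod]
  refine Eq.trans ?_ (h.trans ?_)
  · rfl
  · refine Finset.sum_congr rfl fun i _ => ?_
    rw [MvPolynomial.esymm_eq_multiset_esymm]
    simp only [map_mul, map_pow, map_neg, map_one]
    ring

/-- In the recursive form established in its proof: let A = Z[X_1, ..., X_a] (a >= 1), P = prod_i (T -
X_i) in A[T] and S_i the i-th elementary symmetric function. Writing a_j for the coefficient of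
T^{a-1} in the remainder of T^{a-1+j} modulo P, one has a_0 = 1 and sum_{i=0}^{a} (-1)^i S_i a_{j-i}
= 0 for every j > 0 (with a_m = 0 for m < 0); equivalently sum_j (-1)^j a_j is the inverse of sum_i
S_i. (The source works in formal power series; the identity involves only polynomials.) -/
theorem result (a : ℕ) (ha : 0 < a) :
    let P : (MvPolynomial (Fin a) ℤ)[X] := ∏ i : Fin a, (X - C (MvPolynomial.X i))
    let coef : ℤ → MvPolynomial (Fin a) ℤ := fun j =>
      if j < 0 then 0 else ((X : (MvPolynomial (Fin a) ℤ)[X]) ^ (a - 1 + j.toNat) %ₘ P).coeff (a - 1)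
    coef 0 = 1 ∧ ∀ j : ℕ, 0 < j →
      (∑ i ∈ Finset.range (a + 1), (-1 : MvPolynomial (Fin a) ℤ) ^ i * MvPolynomial.esymm (Fin a) ℤ i *
        coef ((j : ℤ) - i)) = 0 := by
  intro P coef
  have hPmonic : P.Monic := monic_prod_of_monic _ _ fun i _ => monic_X_sub_C _
  have hPdeg : P.natDegree = a := by
    rw [natDegree_prod_of_monic _ _ fun i _ => monic_X_sub_C _]
    simp
  have hsmall : ∀ k : ℕ, k < a → (X : (MvPolynomial (Fin a) ℤ)[X]) ^ k %ₘ P = X ^ k := by
    intro k hk
    rw [modByMonic_eq_self_iff hPmonic, degree_eq_natDegree hPmonic.ne_zero, hPdeg, degree_X_pow]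
    exact_mod_cast hk
  -- the linear functional
  let lam : (MvPolynomial (Fin a) ℤ)[X] →ₗ[MvPolynomial (Fin a) ℤ] MvPolynomial (Fin a) ℤ :=
    (lcoeff _ (a - 1)) ∘ₗ (modByMonicHom P)
  have hlam : ∀ p, lam p = (p %ₘ P).coeff (a - 1) := fun p => rfl
  refine ⟨?_, ?_⟩
  · change (if (0 : ℤ) < 0 then 0 else _) = _
    rw [if_neg (lt_irrefl _)]
    simp only [Int.toNat_zero, add_zero]
    rw [hsmall (a - 1) (by omega)]
    simp
  · intro j hj
    have hcoef : ∀ i ∈ Finset.range (a + 1), coef ((j : ℤ) - i) = lam (X ^ (a - 1 + j - i)) := by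
      intro i hi
      rw [Finset.mem_range] at hi
      rw [hlam]
      change (if (j : ℤ) - i < 0 then 0 else _) = _
      by_cases hij : (j : ℤ) - i < 0
      · rw [if_pos hij]
        have hk : a - 1 + j - i < a - 1 := by omega
        rw [hsmall _ (by omega), coeff_X_pow, if_neg (by omega)]
      · rw [if_neg hij]
        have : a - 1 + ((j : ℤ) - i).toNat = a - 1 + j - i := by omega
        rw [this]
    rw [Finset.sum_congr rfl fun i hi => by rw [hcoef i hi]]
    have : ∑ i ∈ Finset.range (a + 1), (-1 : MvPolynomial (Fin a) ℤ) ^ i * MvPolynomial.esymm (Fin a) ℤ i *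
        lam (X ^ (a - 1 + j - i)) = lam (X ^ (j - 1) * P) := by
      rw [show P = _ from vieta a, Finset.mul_sum, map_sum]
      refine Finset.sum_congr rfl fun i hi => ?_
      rw [Finset.mem_range] at hi
      rw [← smul_eq_mul (a := _ * _), ← map_smul]
      congr 1
      rw [smul_eq_C_mul]
      have : a - 1 + j - i = (j - 1) + (a - i) := by omega
      rw [this, pow_add]
      ring
    rw [this, hlam]
    have hdvd : P ∣ X ^ (j - 1) * P := dvd_mul_left _ _
    rw [(modByMonic_eq_zero_iff_dvd hPmonic).2 hdvd]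
    simp

end Groth.Agent.S3214
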