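import Groth.Statements.S3243
import Groth.Agent.Lib.EtHofPushOne95
import Groth.Agent.Lib.EtOnePtConstH1_95
import Groth.Agent.Lib.EtFieldTors65
import Groth.Agent.Lib.EtPullExact95

set_option autoImplicit false
universe u
open CategoryTheory AlgebraicGeometry
open Dix

namespace Groth.Agent.S3243

/-- Let X be quasi-compact and quasi-separated, x a point of X and M a torsion-free abelian group, M_x
the constant sheaf on Spec κ(x). Then H¹(X_ét, i_{x*} M_x) = 0. -/
theorem result (X : Scheme.{u}) [CompactSpace X] [QuasiSeparatedSpace X] (x : X) (M : Type) [AddCommGroup M] [IsAddTorsionFree M] : Subsingleton (EtCoh.H X ((Dix.skyPush X x).obj (EtCoh.const (Spec (X.residueField x)) M)) 1) := by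
  have hex : CategoryTheory.Limits.PreservesFiniteLimits
      (EtCoh.pull (X.fromSpecResidueField x)) :=
    Groth.Agent.Lib.EtPullExact95.preservesFiniteLimits_pull _
  have hM : ∀ n : ℕ, 0 < n → Function.Injective
      (fun a : (AddCommGrpCat.of (ULift.{u + 1} M)) => n • a) := by
    intro n hn a b hab
    apply ULift.down_injective
    have h1 : n • a.down = n • b.down := congrArg ULift.down hab
    exact (nsmul_right_injective (Nat.pos_iff_ne_zero.1 hn)) h1
  have key : ∀ α : EtCoh.H X ((Dix.skyPush X x).obj
      (EtCoh.const (Spec (X.residueField x)) M)) 1, α = 0 := by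
    intro α
    apply Groth.Agent.Lib.EtHofPushOne95.HofPush_injective_one (X.fromSpecResidueField x)
    refine Eq.trans ?_ (map_zero (EtLim.HofPush (X.fromSpecResidueField x)
      (EtCoh.const (Spec (X.residueField x)) M) 1)).symm
    have : Subsingleton ↥(Spec (X.residueField x)) :=
      inferInstanceAs (Subsingleton (PrimeSpectrum (X.residueField x)))
    have : Nonempty ↥(Spec (X.residueField x)) :=
      inferInstanceAs (Nonempty (PrimeSpectrum (X.residueField x)))
    apply Groth.Agent.Lib.EtOnePtConstH1_95.H1_const_eq_zero_of_isOfFinAddOrder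
      (Y := Spec (X.residueField x)) (AddCommGrpCat.of (ULift.{u + 1} M)) hM
    exact Groth.Agent.Lib.EtFieldTors65.isOfFinAddOrder (X.residueField x) _ 1 Nat.one_pos _
  exact ⟨fun a b => (key a).trans (key b).symm⟩

end Groth.Agent.S3243
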