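import Groth.Statements.S3248
import Groth.Agent.Lib.Azumaya16Hom
set_option autoImplicit false
universe u
open TensorProduct
open Dix

namespace Groth.Agent.S3248

/-- Stated for a commutative subalgebra: let A be a central simple algebra of dimension r² over a field
k and L a commutative k-algebra embedded in A by an injective k-algebra homomorphism ι, such that A
is free of rank r for the right L-module structure a · l = a ι(l) (given here as a module structure
together with that compatibility). Then L ⊗_k A is isomorphic as an L-algebra to the matrix algebra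
M_r(L). (Only the existence of an isomorphism is stated; the text names the map a ⊗ l ↦ (y ↦ a y
l).) -/
theorem result (k : Type u) [Field k] (A : Type u) [Ring A] [Algebra k A] [Algebra.IsCentral k A] [IsSimpleRing A] [FiniteDimensional k A] (L : Type u) [CommRing L] [Algebra k L] (ι : L →ₐ[k] A) (hι : Function.Injective ι) [Module L A] (hmod : ∀ (l : L) (a : A), l • a = a * ι l) [Module.Free L A] (r : ℕ) (hr : 0 < r) (hA : Module.finrank k A = r ^ 2) (hrank : Module.finrank L A = r) : Nonempty ((L ⊗[k] A) ≃ₐ[L] Matrix (Fin r) (Fin r) L) := by
  have hntA : Nontrivial A := inferInstance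
  have hntL : Nontrivial L := by
    refine ⟨⟨0, 1, fun h => ?_⟩⟩
    have : ι 0 = ι 1 := congrArg ι h
    rw [map_zero, map_one] at this
    exact zero_ne_one this
  -- compatibility instances
  have hst : IsScalarTower k L A := ⟨fun c l a => by
    rw [hmod, hmod, map_smul, mul_smul_comm]⟩
  have hcomm : SMulCommClass L k A := ⟨fun l c a => by
    rw [hmod, hmod, smul_mul_assoc]⟩
  have hfaith : FaithfulSMul L A := ⟨fun {l₁ l₂} h => by
    have h1 := h 1
    rw [hmod, hmod, one_mul, one_mul] at h1
    exact hι h1⟩
  have hfinL : Module.Finite L A := Module.finite_of_finrank_pos (by rw [hrank]; exact hr)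
  -- left multiplication as an L-linear endomorphism
  let g : A →ₐ[k] Module.End L A :=
    { toFun := fun a =>
        { toFun := fun y => a * y
          map_add' := fun y z => mul_add a y z
          map_smul' := fun l y => by
            simp only [RingHom.id_apply]
            rw [hmod, hmod, mul_assoc] }
      map_one' := by ext y; simp
      map_mul' := fun a b => by ext y; simp [mul_assoc]
      map_zero' := by ext y; simp
      map_add' := fun a b => by ext y; simp [add_mul]
      commutes' := fun c => by
        ext y
        simp [Algebra.algebraMap_eq_smul_one] }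
  have hg : ∀ a y, g a y = a * y := fun a y => rfl
  let φ : L ⊗[k] A →ₐ[L] Module.End L A :=
    Algebra.TensorProduct.lift (Algebra.ofId L (Module.End L A)) g (fun l a => by
      ext y
      simp only [Module.End.mul_apply, Algebra.ofId_apply, Module.algebraMap_end_apply, hg]
      rw [hmod, hmod, mul_assoc])
  have hAzA : IsAzumaya k A := Groth.Agent.Lib.Azumaya16.isAzumaya_of_csa k A
  have hAz1 : IsAzumaya L (L ⊗[k] A) := Groth.Agent.Lib.Azumaya16.isAzumaya_baseChange k L A
  have hproj : Module.Projective L A := inferInstance
  have hAz2 : IsAzumaya L (Module.End L A) := Groth.Agent.Lib.Azumaya16.isAzumaya_end L A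
  -- both are free of rank r²
  have hrk1 : Module.finrank L (L ⊗[k] A) = r ^ 2 := by
    rw [Module.finrank_baseChange, hA]
  have hrk2 : Module.finrank L (Module.End L A) = r ^ 2 := by
    rw [Module.finrank_linearMap, hrank, pow_two]
  let e0 : (L ⊗[k] A) ≃ₗ[L] Module.End L A := LinearEquiv.ofFinrankEq _ _ (hrk1.trans hrk2.symm)
  have hbij := Groth.Agent.Lib.Azumaya16.algHom_bijective_of_linearEquiv L (L ⊗[k] A)
    (Module.End L A) φ e0
  let b : Module.Basis (Fin r) L A := Module.finBasisOfFinrankEq L A hrank
  exact ⟨(AlgEquiv.ofBijective φ hbij).trans (LinearMap.toMatrixAlgEquiv b)⟩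

end Groth.Agent.S3248
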