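import Groth.Statements.S3296
import Groth.Agent.Lib.LambdaGamma6
import Groth.Agent.S3292
import Mathlib.LinearAlgebra.Eigenspace.Basic
import Mathlib.RingTheory.Polynomial.Basic

set_option autoImplicit false
universe u
open Finset
open TensorProduct
open LambdaRing

namespace Groth.Agent.S3296

section LinAlg

open Polynomial

variable {k V : Type*} [Field k] [AddCommGroup V] [Module k V]

lemma ker_aeval_X_sub_C (f : Module.End k V) (a : k) :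
    LinearMap.ker (aeval f (X - C a : k[X])) = Module.End.eigenspace f a := by
  rw [Module.End.eigenspace_def, map_sub, aeval_X, aeval_C, Algebra.algebraMap_eq_smul_one]

lemma ker_aeval_prod_le {ι : Type*} (f : Module.End k V) (a : ι → k) (s : Finset ι)
    (ha : Set.InjOn a s) :
    LinearMap.ker (aeval f (∏ i ∈ s, (X - C (a i)) : k[X])) ≤
      ⨆ i ∈ s, Module.End.eigenspace f (a i) := by
  classical
  induction s using Finset.induction_on with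
  | empty =>
    intro v hv
    simpa using hv
  | insert i s hi ih =>
    rw [Finset.prod_insert hi, Finset.iSup_insert]
    have hcop : IsCoprime (X - C (a i) : k[X]) (∏ i ∈ s, (X - C (a i))) := by
      refine IsCoprime.prod_right fun t ht => ?_
      apply isCoprime_X_sub_C_of_isUnit_sub
      rw [isUnit_iff_ne_zero, sub_ne_zero]
      intro h
      have := ha (Finset.mem_insert_self i s) (Finset.mem_insert_of_mem ht) h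
      exact hi (this ▸ ht)
    rw [← sup_ker_aeval_eq_ker_aeval_mul_of_coprime f hcop, ker_aeval_X_sub_C]
    exact sup_le_sup le_rfl (ih (ha.mono (by simp)))

end LinAlg


section Main

open Groth.Agent.Lib.LambdaGamma6 Groth.Agent.Lib.LambdaRing

variable {K : Type u} [CommRing K] [LambdaRing.LambdaOps K] (P : LambdaRing.PosStructure K)

/-- the image of `ℚ ⊗ F^n` in `ℚ ⊗ K`. -/
def W (n : ℕ) : Submodule ℚ (ℚ ⊗[ℤ] K) :=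
  Submodule.span ℚ {v | ∃ x ∈ gammaFiltration P n, v = (1 : ℚ) ⊗ₜ[ℤ] x}

lemma W_zero : W P 0 = ⊤ := by
  rw [eq_top_iff]
  intro v hvtop
  clear hvtop
  induction v using TensorProduct.induction_on with
  | zero => exact zero_mem _
  | tmul q x =>
    have : q ⊗ₜ[ℤ] x = q • ((1 : ℚ) ⊗ₜ[ℤ] x) := by
      rw [TensorProduct.smul_tmul', smul_eq_mul, mul_one]
    rw [this]
    exact Submodule.smul_mem _ _ (Submodule.subset_span ⟨x, mem_gF_zero P x, rfl⟩)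
  | add a b ha hb => exact add_mem ha hb

lemma W_eq_bot {d : ℕ} (hd : gammaFiltration P (d + 1) = ⊥) {N : ℕ} (hN : d + 1 ≤ N) :
    W P N = ⊥ := by
  rw [W, Submodule.span_eq_bot]
  rintro v ⟨x, hx, rfl⟩
  have hx' := gammaFiltration_anti P hN hx
  rw [hd, AddSubgroup.mem_bot] at hx'
  rw [hx', TensorProduct.tmul_zero]

omit [LambdaRing.LambdaOps K] in
lemma natCast_pow_smul_tmul (j n : ℕ) (x : K) :
    ((j : ℚ) ^ n) • ((1 : ℚ) ⊗ₜ[ℤ] x) = (1 : ℚ) ⊗ₜ[ℤ] ((j : K) ^ n * x) := by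
  have h1 : ((j : ℚ) ^ n) • ((1 : ℚ) ⊗ₜ[ℤ] x) = ((((j ^ n : ℕ) : ℤ)) • (1 : ℚ)) ⊗ₜ[ℤ] x := by
    rw [TensorProduct.smul_tmul', smul_eq_mul, mul_one, zsmul_eq_mul, mul_one]
    push_cast
    rfl
  rw [h1, TensorProduct.smul_tmul, zsmul_eq_mul]
  push_cast
  rfl

variable {P}

lemma shift (hK : LambdaRing.HasSplitting K P) {j : ℕ} (hj : 1 ≤ j)
    (Ψ : ℚ ⊗[ℤ] K →ₗ[ℚ] ℚ ⊗[ℤ] K)
    (hΨ : ∀ x : K, Ψ (1 ⊗ₜ[ℤ] x) = 1 ⊗ₜ[ℤ] LambdaRing.adams P j x) (n : ℕ)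
    {v : ℚ ⊗[ℤ] K} (hv : v ∈ W P n) : Ψ v - ((j : ℚ) ^ n) • v ∈ W P (n + 1) := by
  set T : ℚ ⊗[ℤ] K →ₗ[ℚ] ℚ ⊗[ℤ] K := Ψ - ((j : ℚ) ^ n) • LinearMap.id with hT
  have hle : W P n ≤ (W P (n + 1)).comap T := by
    rw [W, Submodule.span_le]
    rintro v ⟨x, hx, rfl⟩
    change T _ ∈ W P (n + 1)
    rw [hT, LinearMap.sub_apply, LinearMap.smul_apply, LinearMap.id_apply, hΨ,
      natCast_pow_smul_tmul, ← TensorProduct.tmul_sub]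
    exact Submodule.subset_span ⟨_, Groth.Agent.S3292.result K P hK j hj n x hx, rfl⟩
  exact hle hv

lemma pow_sub_pow_ne_zero {j : ℕ} (hj : 2 ≤ j) {m n : ℕ} (h : n ≠ m) :
    ((j : ℚ) ^ m - (j : ℚ) ^ n) ≠ 0 := by
  rw [sub_ne_zero]
  intro h'
  have : j ^ m = j ^ n := by exact_mod_cast h'
  exact h (Nat.pow_right_injective hj this).symm

lemma step_up (hK : LambdaRing.HasSplitting K P) {j : ℕ} (hj : 2 ≤ j)
    (Ψ : ℚ ⊗[ℤ] K →ₗ[ℚ] ℚ ⊗[ℤ] K)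
    (hΨ : ∀ x : K, Ψ (1 ⊗ₜ[ℤ] x) = 1 ⊗ₜ[ℤ] LambdaRing.adams P j x) {m n : ℕ} (hnm : n ≠ m)
    {v : ℚ ⊗[ℤ] K} (hv : Ψ v = ((j : ℚ) ^ m) • v) (hvn : v ∈ W P n) : v ∈ W P (n + 1) := by
  have h := shift hK (by omega) Ψ hΨ n hvn
  rw [hv, ← sub_smul] at h
  have hc := pow_sub_pow_ne_zero hj hnm
  have : v = ((j : ℚ) ^ m - (j : ℚ) ^ n)⁻¹ • (((j : ℚ) ^ m - (j : ℚ) ^ n) • v) := by
    rw [smul_smul, inv_mul_cancel₀ hc, one_smul]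
  rw [this]
  exact Submodule.smul_mem _ _ h

lemma mem_W_of_eigen (hK : LambdaRing.HasSplitting K P) {j : ℕ} (hj : 2 ≤ j)
    (Ψ : ℚ ⊗[ℤ] K →ₗ[ℚ] ℚ ⊗[ℤ] K)
    (hΨ : ∀ x : K, Ψ (1 ⊗ₜ[ℤ] x) = 1 ⊗ₜ[ℤ] LambdaRing.adams P j x) {m : ℕ}
    {v : ℚ ⊗[ℤ] K} (hv : Ψ v = ((j : ℚ) ^ m) • v) : ∀ n, n ≤ m → v ∈ W P n := by
  intro n
  induction n with
  | zero => intro _; rw [W_zero]; trivial
  | succ n ih =>
    intro hn
    exact step_up hK hj Ψ hΨ (by omega) hv (ih (by omega))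

lemma eq_zero_of_eigen_of_mem (hK : LambdaRing.HasSplitting K P) {d : ℕ}
    (hd : gammaFiltration P (d + 1) = ⊥) {j : ℕ} (hj : 2 ≤ j)
    (Ψ : ℚ ⊗[ℤ] K →ₗ[ℚ] ℚ ⊗[ℤ] K)
    (hΨ : ∀ x : K, Ψ (1 ⊗ₜ[ℤ] x) = 1 ⊗ₜ[ℤ] LambdaRing.adams P j x) {m : ℕ}
    {v : ℚ ⊗[ℤ] K} (hv : Ψ v = ((j : ℚ) ^ m) • v) (hvm : v ∈ W P (m + 1)) : v = 0 := by
  have h : ∀ N, m + 1 ≤ N → v ∈ W P N := by
    intro N hN
    induction N, hN using Nat.le_induction with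
    | base => exact hvm
    | succ N hN ih => exact step_up hK hj Ψ hΨ (by omega) hv ih
  have := h (max (m + 1) (d + 1)) (le_max_left _ _)
  rw [W_eq_bot P hd (le_max_right _ _)] at this
  exact (Submodule.mem_bot ℚ).1 this

lemma Ψ_comm (hK : LambdaRing.HasSplitting K P) {j l : ℕ}
    (Ψj Ψl : ℚ ⊗[ℤ] K →ₗ[ℚ] ℚ ⊗[ℤ] K)
    (hΨj : ∀ x : K, Ψj (1 ⊗ₜ[ℤ] x) = 1 ⊗ₜ[ℤ] LambdaRing.adams P j x)
    (hΨl : ∀ x : K, Ψl (1 ⊗ₜ[ℤ] x) = 1 ⊗ₜ[ℤ] LambdaRing.adams P l x) (v : ℚ ⊗[ℤ] K) :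
    Ψj (Ψl v) = Ψl (Ψj v) := by
  induction v using TensorProduct.induction_on with
  | zero => simp
  | tmul q x =>
    have : q ⊗ₜ[ℤ] x = q • ((1 : ℚ) ⊗ₜ[ℤ] x) := by
      rw [TensorProduct.smul_tmul', smul_eq_mul, mul_one]
    rw [this, map_smul, map_smul, map_smul, map_smul, hΨl, hΨj, hΨj, hΨl, adams_adams P hK,
      adams_adams P hK, mul_comm]
  | add a b ha hb => rw [map_add, map_add, map_add, map_add, ha, hb]

lemma eigen_le (hK : LambdaRing.HasSplitting K P) {d : ℕ}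
    (hd : gammaFiltration P (d + 1) = ⊥) {j l : ℕ} (hj : 2 ≤ j) (hl : 2 ≤ l)
    (Ψj Ψl : ℚ ⊗[ℤ] K →ₗ[ℚ] ℚ ⊗[ℤ] K)
    (hΨj : ∀ x : K, Ψj (1 ⊗ₜ[ℤ] x) = 1 ⊗ₜ[ℤ] LambdaRing.adams P j x)
    (hΨl : ∀ x : K, Ψl (1 ⊗ₜ[ℤ] x) = 1 ⊗ₜ[ℤ] LambdaRing.adams P l x) (m : ℕ) :
    Module.End.eigenspace Ψj ((j : ℚ) ^ m) ≤ Module.End.eigenspace Ψl ((l : ℚ) ^ m) := by
  intro v hv
  rw [Module.End.mem_eigenspace_iff] at hv ⊢
  have hvm : v ∈ W P m := mem_W_of_eigen hK hj Ψj hΨj hv m le_rfl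
  have hw := shift hK (by omega) Ψl hΨl m hvm
  have hw' : Ψj (Ψl v - ((l : ℚ) ^ m) • v) = ((j : ℚ) ^ m) • (Ψl v - ((l : ℚ) ^ m) • v) := by
    rw [map_sub, map_smul, Ψ_comm hK Ψj Ψl hΨj hΨl, hv, map_smul, smul_sub, smul_comm]
  exact sub_eq_zero.1 (eq_zero_of_eigen_of_mem hK hd hj Ψj hΨj hw' hw)

open Polynomial in
lemma aeval_prod_mem (hK : LambdaRing.HasSplitting K P) {j : ℕ} (hj : 1 ≤ j)
    (Ψ : ℚ ⊗[ℤ] K →ₗ[ℚ] ℚ ⊗[ℤ] K)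
    (hΨ : ∀ x : K, Ψ (1 ⊗ₜ[ℤ] x) = 1 ⊗ₜ[ℤ] LambdaRing.adams P j x) (n : ℕ) (v : ℚ ⊗[ℤ] K) :
    aeval Ψ (∏ k ∈ Finset.range n, (X - C ((j : ℚ) ^ k)) : ℚ[X]) v ∈ W P n := by
  induction n with
  | zero => rw [W_zero]; trivial
  | succ n ih =>
    rw [Finset.prod_range_succ, mul_comm, map_mul, Module.End.mul_apply, map_sub, aeval_X, aeval_C,
      LinearMap.sub_apply, Module.algebraMap_end_apply]
    exact shift hK hj Ψ hΨ n ih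

end Main

/-- Let K be a λ-ring with positive structure having the splitting property, whose γ-filtration
satisfies F^(d+1) K = 0. For j ≥ 2 let Ψ_j be the ℚ-linear endomorphism of ℚ ⊗ K induced by ψ^j.
Then ℚ ⊗ K is the sum of the eigenspaces of Ψ_j for the eigenvalues j^m, 0 ≤ m ≤ d, and the
eigenspace for j^m does not depend on j. -/
theorem result (K : Type u) [CommRing K] [LambdaRing.LambdaOps K] (P : LambdaRing.PosStructure K) (hK : LambdaRing.HasSplitting K P) (d : ℕ)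
    (hd : LambdaRing.gammaFiltration P (d + 1) = ⊥)
    (j l : ℕ) (hj : 2 ≤ j) (hl : 2 ≤ l)
    (Ψj Ψl : ℚ ⊗[ℤ] K →ₗ[ℚ] ℚ ⊗[ℤ] K)
    (hΨj : ∀ x : K, Ψj (1 ⊗ₜ[ℤ] x) = 1 ⊗ₜ[ℤ] LambdaRing.adams P j x)
    (hΨl : ∀ x : K, Ψl (1 ⊗ₜ[ℤ] x) = 1 ⊗ₜ[ℤ] LambdaRing.adams P l x) :
    (⨆ m ∈ range (d + 1), Module.End.eigenspace Ψj ((j : ℚ) ^ m)) = ⊤ ∧
    ∀ m : ℕ, Module.End.eigenspace Ψj ((j : ℚ) ^ m) = Module.End.eigenspace Ψl ((l : ℚ) ^ m) := by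
  refine ⟨?_, fun m => le_antisymm (eigen_le hK hd hj hl Ψj Ψl hΨj hΨl m)
    (eigen_le hK hd hl hj Ψl Ψj hΨl hΨj m)⟩
  rw [eq_top_iff]
  refine le_trans ?_ (ker_aeval_prod_le Ψj (fun m : ℕ => (j : ℚ) ^ m) (range (d + 1)) ?_)
  · intro v _
    rw [LinearMap.mem_ker]
    have := aeval_prod_mem hK (by omega : 1 ≤ j) Ψj hΨj (d + 1) v
    rw [W_eq_bot P hd le_rfl] at this
    exact (Submodule.mem_bot ℚ).1 this
  · intro a _ b _ hab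
    have hab' : (j : ℚ) ^ a = (j : ℚ) ^ b := hab
    have : j ^ a = j ^ b := by exact_mod_cast hab'
    exact Nat.pow_right_injective hj this

end Groth.Agent.S3296
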