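import Groth.Statements.S3350
-- import your own Groth.Agent.* helpers here

set_option autoImplicit false
open Finset
open Models Models.NumericalType

namespace Groth.Agent.S3350

/-- Classification of proper subgraphs with two vertices: Let T be a numerical type on n > 2 indices and
i ≠ j two (-2)-indices (g = 0 and a_ii = -2 w_i, a_jj = -2 w_j) with a_ij > 0. Then, after possibly
exchanging i and j, one of the following holds with w = w_i: (A2) w_j = w, a_ij = w, 2 m_i ≥ m_j and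
2 m_j ≥ m_i; (B2) w_j = 2w, a_ij = 2w, m_i ≥ m_j and 2 m_j ≥ m_i; (G2) w_j = 3w, a_ij = 3w, 2 m_i ≥
3 m_j and 2 m_j ≥ m_i. -/
theorem result {n : ℕ} (T : Models.NumericalType n) (hn : 2 < n) (i j : Fin n)
    (hij : i ≠ j) (hi : T.IsMinusTwo i) (hj : T.IsMinusTwo j) (hpos : 0 < T.a i j) :
    ∃ i' j' : Fin n, ((i' = i ∧ j' = j) ∨ (i' = j ∧ j' = i)) ∧
      ((T.w j' = T.w i' ∧ T.a i' j' = T.w i' ∧ T.m j' ≤ 2 * T.m i' ∧ T.m i' ≤ 2 * T.m j') ∨
        (T.w j' = 2 * T.w i' ∧ T.a i' j' = 2 * T.w i' ∧ T.m j' ≤ T.m i' ∧ T.m i' ≤ 2 * T.m j') ∨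
        (T.w j' = 3 * T.w i' ∧ T.a i' j' = 3 * T.w i' ∧ 3 * T.m j' ≤ 2 * T.m i' ∧ T.m i' ≤ 2 * T.m j')) := by
  obtain ⟨_, hii⟩ := hi
  obtain ⟨_, hjj⟩ := hj
  have hmi := T.m_pos i
  have hmj := T.m_pos j
  have hwi := T.w_pos i
  have hwj := T.w_pos j
  have hsymm : T.a j i = T.a i j := T.symm.apply i j
  have hrow : ∀ p : Fin n, ∑ k, T.a p k * T.m k = 0 := by
    intro p
    have := congrFun T.mulVec_m p
    simpa [Matrix.mulVec, dotProduct] using this
  have hsplit : ∀ p q : Fin n, p ≠ q →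
      T.a p p * T.m p + (T.a p q * T.m q + ∑ k ∈ (univ.erase p).erase q, T.a p k * T.m k) = 0 := by
    intro p q hpq
    rw [Finset.add_sum_erase _ (fun k => T.a p k * T.m k)
      (Finset.mem_erase.mpr ⟨hpq.symm, Finset.mem_univ q⟩),
      Finset.add_sum_erase _ (fun k => T.a p k * T.m k) (Finset.mem_univ p)]
    exact hrow p
  have hterm : ∀ p q : Fin n, ∀ k ∈ (univ.erase p).erase q, 0 ≤ T.a p k * T.m k := by
    intro p q k hk
    have hkp : k ≠ p := (Finset.mem_erase.mp (Finset.mem_erase.mp hk).2).1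
    exact mul_nonneg (T.offDiag_nonneg p k hkp.symm) (le_of_lt (T.m_pos k))
  have hrest : ∀ p q : Fin n, 0 ≤ ∑ k ∈ (univ.erase p).erase q, T.a p k * T.m k :=
    fun p q => Finset.sum_nonneg (hterm p q)
  obtain ⟨x, hx⟩ := T.w_dvd i j
  obtain ⟨y, hy⟩ := T.w_dvd j i
  have hxpos : 0 < x := by
    by_contra h
    rw [not_lt] at h
    nlinarith
  have hypos : 0 < y := by
    by_contra h
    rw [not_lt] at h
    nlinarith
  have e1 := hsplit i j hij
  have e2 := hsplit j i hij.symm
  have r1 := hrest i j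
  have r2 := hrest j i
  rw [hii, hx] at e1
  rw [hjj, hy] at e2
  -- rest_i = w_i * (2 m_i - x m_j)
  have f1 : ∑ k ∈ (univ.erase i).erase j, T.a i k * T.m k = T.w i * (2 * T.m i - x * T.m j) := by
    linarith
  have f2 : ∑ k ∈ (univ.erase j).erase i, T.a j k * T.m k = T.w j * (2 * T.m j - y * T.m i) := by
    linarith
  have g1 : 0 ≤ 2 * T.m i - x * T.m j := by
    by_contra h
    rw [not_le] at h
    nlinarith
  have g2 : 0 ≤ 2 * T.m j - y * T.m i := by
    by_contra h
    rw [not_le] at h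
    nlinarith
  have hxy : x * y ≤ 4 := by
    by_contra h
    rw [not_le] at h
    have h5 : 5 ≤ x * y := h
    have hmm : 0 < T.m i * T.m j := mul_pos hmi hmj
    nlinarith [mul_le_mul g1 g2, mul_nonneg (le_of_lt hxpos) (le_of_lt hmj),
      mul_nonneg (le_of_lt hypos) (le_of_lt hmi)]
  have hx4 : x ≤ 4 := by nlinarith
  have hy4 : y ≤ 4 := by nlinarith
  have hww : T.w i * x = T.w j * y := by rw [← hx, ← hy, hsymm]
  -- the degenerate case
  have hdeg : 2 * T.m i - x * T.m j = 0 → 2 * T.m j - y * T.m i = 0 → False := by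
    intro z1 z2
    rw [z1, mul_zero] at f1
    rw [z2, mul_zero] at f2
    have t1 := (Finset.sum_eq_zero_iff_of_nonneg (hterm i j)).mp f1
    have t2 := (Finset.sum_eq_zero_iff_of_nonneg (hterm j i)).mp f2
    have hne : ({i, j} : Finset (Fin n)) ≠ univ := by
      intro h
      have hc := congrArg Finset.card h
      rw [Finset.card_univ, Fintype.card_fin, Finset.card_pair hij] at hc
      omega
    obtain ⟨p, hp, q, hq, hpq⟩ := T.connected {i, j} ⟨i, by simp⟩ hne
    have hqi : q ≠ i := fun h => hq (by simp [h])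
    have hqj : q ≠ j := fun h => hq (by simp [h])
    have hmq := T.m_pos q
    rcases Finset.mem_insert.mp hp with rfl | hp
    · have := t1 q (Finset.mem_erase.mpr ⟨hqj, Finset.mem_erase.mpr ⟨hqi, Finset.mem_univ q⟩⟩)
      rcases mul_eq_zero.mp this with h | h
      · exact hpq h
      · omega
    · rw [Finset.mem_singleton] at hp
      subst hp
      have := t2 q (Finset.mem_erase.mpr ⟨hqi, Finset.mem_erase.mpr ⟨hqj, Finset.mem_univ q⟩⟩)
      rcases mul_eq_zero.mp this with h | h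
      · exact hpq h
      · omega
  have hyi : T.a j i = T.w j * y := hy
  clear f1 f2 e1 e2 r1 r2 hrest hterm hsplit hrow hy
  interval_cases x <;> interval_cases y <;>
    first
    | omega
    | (exfalso; apply hdeg <;> omega)
    | (refine ⟨i, j, Or.inl ⟨rfl, rfl⟩, ?_⟩; omega)
    | (refine ⟨j, i, Or.inr ⟨rfl, rfl⟩, ?_⟩; omega)

end Groth.Agent.S3350
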