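import Groth.Statements.S3351
import Mathlib.LinearAlgebra.FreeModule.PID
import Mathlib.LinearAlgebra.FreeModule.Finite.Quotient
import Mathlib.LinearAlgebra.FreeModule.Finite.Matrix
import Mathlib.LinearAlgebra.Dimension.Free
import Mathlib.Algebra.Module.Projective

set_option autoImplicit false
open Models

namespace Groth.Agent.S3351

/-- Functionals on a saturated submodule of a finite free `ℤ`-module extend to the whole module. -/
theorem exists_extension {L : Type} [AddCommGroup L] [Module.Finite ℤ L] [Module.Free ℤ L]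
    (N : Submodule ℤ L) (hsat : ∀ (c : ℤ) (x : L), c ≠ 0 → c • x ∈ N → x ∈ N)
    (ψ : Module.Dual ℤ N) : ∃ φ : Module.Dual ℤ L, φ ∘ₗ N.subtype = ψ := by
  have : Module.IsTorsionFree ℤ (L ⧸ N) := by
    constructor
    intro r hr x y hxy
    have hr0 : r ≠ 0 := hr.ne_zero
    obtain ⟨x, rfl⟩ := Submodule.Quotient.mk_surjective _ x
    obtain ⟨y, rfl⟩ := Submodule.Quotient.mk_surjective _ y
    have hxy' : (Submodule.Quotient.mk (r • x) : L ⧸ N) = Submodule.Quotient.mk (r • y) := hxy
    rw [Submodule.Quotient.eq] at hxy' ⊢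
    apply hsat r _ hr0
    rwa [smul_sub]
  have : Module.Free ℤ (L ⧸ N) := Module.free_of_finite_type_torsion_free'
  obtain ⟨s, hs⟩ := Module.projective_lifting_property N.mkQ LinearMap.id
    (Submodule.mkQ_surjective N)
  have hmem : ∀ x : L, ((LinearMap.id : L →ₗ[ℤ] L) - s ∘ₗ N.mkQ) x ∈ N := by
    intro x
    rw [← Submodule.Quotient.mk_eq_zero]
    have h1 := LinearMap.congr_fun hs (N.mkQ x)
    simp only [LinearMap.coe_comp, Function.comp_apply, LinearMap.id_coe, id_eq,
      Submodule.mkQ_apply] at h1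
    simp only [LinearMap.sub_apply, LinearMap.id_coe, id_eq, LinearMap.coe_comp,
      Function.comp_apply, Submodule.mkQ_apply, Submodule.Quotient.mk_sub, h1, sub_self]
  let r : L →ₗ[ℤ] N := ((LinearMap.id : L →ₗ[ℤ] L) - s ∘ₗ N.mkQ).codRestrict N hmem
  refine ⟨ψ ∘ₗ r, ?_⟩
  ext n
  have hn : r (N.subtype n) = n := by
    apply Subtype.ext
    have h0 : N.mkQ (n : L) = 0 := by
      rw [Submodule.mkQ_apply, Submodule.Quotient.mk_eq_zero]; exact n.2
    simp [r, h0]
  simp only [LinearMap.coe_comp, Function.comp_apply, hn]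

/-- `A ⊕ A^⊥` has finite index for a positive definite form. -/
theorem exists_smul_mem_sup {L : Type} [AddCommGroup L] [Module.Finite ℤ L] [Module.Free ℤ L]
    (B : LinearMap.BilinForm ℤ L) (hsymm : B.IsSymm) (hpos : ∀ x, x ≠ 0 → 0 < B x x)
    (A : Submodule ℤ L) (y : L) : ∃ c : ℤ, c ≠ 0 ∧ c • y ∈ A ⊔ B.orthogonal A := by
  let φ : A →ₗ[ℤ] Module.Dual ℤ A := B.restrict A
  have hφ : ∀ a a' : A, φ a a' = B a a' := fun a a' => rfl
  have hinj : Function.Injective φ := by
    rw [← LinearMap.ker_eq_bot, LinearMap.ker_eq_bot']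
    intro a ha
    by_contra hne
    have hne' : (a : L) ≠ 0 := fun h => hne (Subtype.ext h)
    have h1 := hpos a hne'
    have h2 : φ a a = 0 := by rw [ha]; rfl
    rw [hφ] at h2
    omega
  have hrank : Module.finrank ℤ (LinearMap.range φ) = Module.finrank ℤ (Module.Dual ℤ A) := by
    rw [LinearMap.finrank_range_of_inj hinj, Module.finrank_linearMap, Module.finrank_self, mul_one]
  have : Finite (Module.Dual ℤ A ⧸ LinearMap.range φ) :=
    Submodule.finiteQuotientOfFreeOfRankEq _ hrank
  let ψ : Module.Dual ℤ A := (B y) ∘ₗ A.subtype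
  have hn : (Nat.card (Module.Dual ℤ A ⧸ LinearMap.range φ)) • ψ ∈ LinearMap.range φ := by
    rw [← Submodule.Quotient.mk_eq_zero, Submodule.Quotient.mk_smul]
    exact card_nsmul_eq_zero'
  obtain ⟨a, ha⟩ := hn
  refine ⟨(Nat.card (Module.Dual ℤ A ⧸ LinearMap.range φ) : ℤ), ?_, ?_⟩
  · exact_mod_cast Nat.card_pos.ne'
  · set c : ℕ := Nat.card (Module.Dual ℤ A ⧸ LinearMap.range φ) with hc
    have hdecomp : (c : ℤ) • y = (a : L) + ((c : ℤ) • y - a) := by abel
    rw [hdecomp]
    apply Submodule.add_mem_sup a.2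
    rw [LinearMap.BilinForm.mem_orthogonal_iff]
    intro a' ha'
    have h1 := LinearMap.congr_fun ha ⟨a', ha'⟩
    rw [hφ] at h1
    simp only [ψ, LinearMap.smul_apply, LinearMap.coe_comp, Function.comp_apply,
      Submodule.subtype_apply] at h1
    rw [hsymm.eq a' ((c : ℤ) • y - ↑a)]
    simp only [map_sub, map_smul, LinearMap.sub_apply, LinearMap.smul_apply, smul_eq_mul]
    rw [h1]
    simp

/-- Let L be a finite free Z-module with a positive definite symmetric integral bilinear form, A ⊆ L a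
submodule with L/A torsion free and B the orthogonal complement of A. Write M^# for the dual lattice
of a sublattice M, identified here with the Z-dual Hom(M, Z) through the form. Then the natural maps
L/(A ⊕ B) → B^#/B and L/(A ⊕ B) → A^#/A are injective: an element x of L whose functional ⟨x, -⟩ on
B (resp. on A) is represented by an element of B (resp. of A) lies in A ⊕ B. Moreover the
restriction maps L^# → B^# and L^# → A^# are surjective, so that the cokernels of the two injections
are quotients of L^#/L. -/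
theorem result {L : Type} [AddCommGroup L] [Module.Finite ℤ L] [Module.Free ℤ L]
    (B : LinearMap.BilinForm ℤ L) (hsymm : B.IsSymm) (hpos : ∀ x, x ≠ 0 → 0 < B x x)
    (A : Submodule ℤ L) (htf : ∀ (c : ℤ) (x : L), c ≠ 0 → c • x ∈ A → x ∈ A) :
    (∀ x : L, (∃ b ∈ B.orthogonal A, ∀ b' ∈ B.orthogonal A, B x b' = B b b') → x ∈ A ⊔ B.orthogonal A) ∧
      (∀ x : L, (∃ a ∈ A, ∀ a' ∈ A, B x a' = B a a') → x ∈ A ⊔ B.orthogonal A) ∧
      (∀ ψ : Module.Dual ℤ ↥(B.orthogonal A), ∃ φ : Module.Dual ℤ L, φ ∘ₗ (B.orthogonal A).subtype = ψ) ∧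
      (∀ ψ : Module.Dual ℤ ↥A, ∃ φ : Module.Dual ℤ L, φ ∘ₗ A.subtype = ψ) := by
  refine ⟨?_, ?_, ?_, ?_⟩
  · rintro x ⟨b, hb, hxb⟩
    have hy : ∀ b' ∈ B.orthogonal A, B (x - b) b' = 0 := by
      intro b' hb'
      rw [map_sub, LinearMap.sub_apply, hxb b' hb', sub_self]
    obtain ⟨c, hc0, hc⟩ := exists_smul_mem_sup B hsymm hpos A (x - b)
    obtain ⟨a, ha, b₀, hb₀, hab⟩ := Submodule.mem_sup.mp hc
    have h1 : B (c • (x - b)) b₀ = 0 := by
      rw [map_smul, LinearMap.smul_apply, hy b₀ hb₀, smul_zero]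
    have h2 : B (a + b₀) b₀ = B b₀ b₀ := by
      rw [map_add, LinearMap.add_apply]
      have : B a b₀ = 0 := (LinearMap.BilinForm.mem_orthogonal_iff.mp hb₀) a ha
      rw [this, zero_add]
    rw [← hab, h2] at h1
    have hb₀0 : b₀ = 0 := by
      by_contra hne
      have := hpos b₀ hne
      omega
    rw [hb₀0, add_zero] at hab
    have hxbA : x - b ∈ A := htf c _ hc0 (hab ▸ ha)
    have hx : x = (x - b) + b := by abel
    rw [hx]
    exact Submodule.add_mem_sup hxbA hb
  · rintro x ⟨a, ha, hxa⟩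
    have hx : x = a + (x - a) := by abel
    rw [hx]
    apply Submodule.add_mem_sup ha
    rw [LinearMap.BilinForm.mem_orthogonal_iff]
    intro a' ha'
    rw [hsymm.eq a' (x - a), map_sub, LinearMap.sub_apply, hxa a' ha', sub_self]
  · intro ψ
    apply exists_extension
    intro c x hc hcx
    rw [LinearMap.BilinForm.mem_orthogonal_iff] at hcx ⊢
    intro n hn
    have := hcx n hn
    rw [map_smul, smul_eq_mul] at this
    rcases mul_eq_zero.mp this with h | h
    · exact absurd h hc
    · exact h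
  · intro ψ
    exact exists_extension A htf ψ

end Groth.Agent.S3351
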