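import Groth.Statements.S3352
import Mathlib.LinearAlgebra.FreeModule.PID
import Mathlib.LinearAlgebra.FreeModule.Finite.Quotient
import Mathlib.LinearAlgebra.Dimension.Free
import Mathlib.LinearAlgebra.Dual.Lemmas

set_option autoImplicit false
open Models

namespace Groth.Agent.S3352

/-- An injective map between finite free `ℤ`-modules of the same rank has finite index range. -/
theorem exists_smul_mem_range {M M' : Type} [AddCommGroup M] [AddCommGroup M']
    [Module.Finite ℤ M] [Module.Free ℤ M] [Module.Finite ℤ M'] [Module.Free ℤ M']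
    (hrk : Module.finrank ℤ M = Module.finrank ℤ M') (f : M →ₗ[ℤ] M') (hf : Function.Injective f)
    (y : M') : ∃ c : ℤ, c ≠ 0 ∧ c • y ∈ LinearMap.range f := by
  have hrank : Module.finrank ℤ (LinearMap.range f) = Module.finrank ℤ M' := by
    rw [LinearMap.finrank_range_of_inj hf, hrk]
  have : Finite (M' ⧸ LinearMap.range f) := Submodule.finiteQuotientOfFreeOfRankEq _ hrank
  refine ⟨(Nat.card (M' ⧸ LinearMap.range f) : ℤ), ?_, ?_⟩
  · exact_mod_cast Nat.card_pos.ne'
  · rw [← Submodule.Quotient.mk_eq_zero, Submodule.Quotient.mk_smul, natCast_zsmul]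
    exact card_nsmul_eq_zero'

/-- Let L₀, L₁ be finite free ℤ-modules with positive definite symmetric integral bilinear forms, the
form on L₀ unimodular (x ↦ ⟨x, −⟩ is a bijection L₀ → Hom(L₀, ℤ)), and let d : L₀ → L₁ and d* : L₁ →
L₀ be adjoint. Identify Im(d)^# (the dual lattice of Im(d)) with Hom(Im(d), ℤ) through the form on
L₁. Then there is an isomorphism Φ from the torsion subgroup of Coker(d* d) onto Im(d)^#/Im(d),
determined by: for x ∈ L₀ whose class is torsion, Φ[x] is the class of the functional d(y') ↦ ⟨x,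
y'⟩ (equivalently the class of (1/a)·d(y) when a·x = d* d(y)). -/
theorem result {L₀ L₁ : Type} [AddCommGroup L₀] [AddCommGroup L₁]
    [Module.Finite ℤ L₀] [Module.Free ℤ L₀] [Module.Finite ℤ L₁] [Module.Free ℤ L₁]
    (B₀ : LinearMap.BilinForm ℤ L₀) (B₁ : LinearMap.BilinForm ℤ L₁) (h₀s : B₀.IsSymm) (h₁s : B₁.IsSymm)
    (h₀p : ∀ x, x ≠ 0 → 0 < B₀ x x) (h₁p : ∀ x, x ≠ 0 → 0 < B₁ x x) (huni : Function.Bijective B₀)
    (d : L₀ →ₗ[ℤ] L₁) (ds : L₁ →ₗ[ℤ] L₀) (hadj : ∀ x y, B₁ (d x) y = B₀ x (ds y)) :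
    ∃ Φ : ↥(Submodule.torsion ℤ (L₀ ⧸ LinearMap.range (ds ∘ₗ d))) ≃ₗ[ℤ]
        (Module.Dual ℤ ↥(LinearMap.range d) ⧸
          LinearMap.range ((B₁.compl₂ (LinearMap.range d).subtype) ∘ₗ (LinearMap.range d).subtype)),
      ∀ (x : L₀) (hx : Submodule.Quotient.mk x ∈ Submodule.torsion ℤ (L₀ ⧸ LinearMap.range (ds ∘ₗ d)))
        (ψ : Module.Dual ℤ ↥(LinearMap.range d)),
        (∀ y' : L₀, ψ ⟨d y', LinearMap.mem_range_self d y'⟩ = B₀ x y') →
          Φ ⟨Submodule.Quotient.mk x, hx⟩ = Submodule.Quotient.mk ψ := by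
  classical
  -- notation
  set D : L₀ →ₗ[ℤ] L₀ := ds ∘ₗ d with hD
  set d' : L₀ →ₗ[ℤ] LinearMap.range d := d.rangeRestrict with hd'
  have hd'surj : Function.Surjective d' := by
    rw [← LinearMap.range_eq_top, LinearMap.range_rangeRestrict]
  set β : LinearMap.range d →ₗ[ℤ] Module.Dual ℤ (LinearMap.range d) :=
    (B₁.compl₂ (LinearMap.range d).subtype) ∘ₗ (LinearMap.range d).subtype with hβ
  have hβapp : ∀ u v : LinearMap.range d, β u v = B₁ u v := fun u v => rfl
  -- basic identities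
  have hDform : ∀ x y, B₀ (D x) y = B₁ (d x) (d y) := by
    intro x y
    rw [h₀s.eq (D x) y, hD, LinearMap.comp_apply, ← hadj y (d x), h₁s.eq]
  have hkerD : ∀ x, D x = 0 → d x = 0 := by
    intro x hx
    by_contra hne
    have h1 := h₁p (d x) hne
    rw [← hDform, hx] at h1
    simp at h1
  -- the orthogonal of the kernel
  let P : Submodule ℤ L₀ := B₀.orthogonal (LinearMap.ker d)
  have hPmem : ∀ x, x ∈ P ↔ ∀ k, d k = 0 → B₀ x k = 0 := by
    intro x
    rw [LinearMap.BilinForm.mem_orthogonal_iff]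
    constructor
    · intro h k hk
      rw [h₀s.eq x k]; exact h k (LinearMap.mem_ker.mpr hk)
    · intro h k hk
      rw [h₀s.eq k x]; exact h k (LinearMap.mem_ker.mp hk)
  have hDP : ∀ x, D x ∈ P := by
    intro x
    rw [hPmem]
    intro k hk
    rw [hDform, hk, map_zero]
  -- Lemma A : range D has finite index in P
  have hA : ∀ x ∈ P, ∃ c : ℤ, c ≠ 0 ∧ c • x ∈ LinearMap.range D := by
    intro x hx
    let D' : P →ₗ[ℤ] P := (D ∘ₗ P.subtype).codRestrict P (fun p => hDP _)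
    have hD'inj : Function.Injective D' := by
      rw [← LinearMap.ker_eq_bot, LinearMap.ker_eq_bot']
      intro p hp
      have h1 : D (p : L₀) = 0 := by
        have := congrArg Subtype.val hp
        simpa [D'] using this
      have h2 : d (p : L₀) = 0 := hkerD _ h1
      have h3 : B₀ (p : L₀) (p : L₀) = 0 := (hPmem _).mp p.2 _ h2
      by_contra hne
      have hne' : (p : L₀) ≠ 0 := fun h => hne (Subtype.ext h)
      have := h₀p _ hne'
      omega
    obtain ⟨c, hc0, hc⟩ := exists_smul_mem_range rfl D' hD'inj ⟨x, hx⟩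
    refine ⟨c, hc0, ?_⟩
    obtain ⟨p, hp⟩ := hc
    refine ⟨(p : L₀), ?_⟩
    have := congrArg Subtype.val hp
    simpa [D'] using this
  -- Lemma B : torsion classes come from P
  have hB : ∀ x : L₀, (Submodule.Quotient.mk x : L₀ ⧸ LinearMap.range D) ∈
      Submodule.torsion ℤ (L₀ ⧸ LinearMap.range D) → x ∈ P := by
    intro x hx
    rw [Submodule.mem_torsion_iff] at hx
    obtain ⟨⟨c, hc⟩, hcx⟩ := hx
    have hc0 : c ≠ 0 := nonZeroDivisors.ne_zero hc
    have hcx' : c • x ∈ LinearMap.range D := by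
      rw [← Submodule.Quotient.mk_eq_zero, Submodule.Quotient.mk_smul]; exact hcx
    obtain ⟨y, hy⟩ := hcx'
    rw [hPmem]
    intro k hk
    have h1 : B₀ (c • x) k = 0 := by
      rw [← hy, hDform, hk, map_zero]
    rw [map_smul, LinearMap.smul_apply, smul_eq_mul] at h1
    rcases mul_eq_zero.mp h1 with h | h
    · exact absurd h hc0
    · exact h
  -- the map Ψ
  let E : L₀ ≃ₗ[ℤ] Module.Dual ℤ L₀ := LinearEquiv.ofBijective B₀ huni
  let Ψ : Module.Dual ℤ (LinearMap.range d) →ₗ[ℤ] L₀ := E.symm.toLinearMap ∘ₗ d'.dualMap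
  have hΨ : ∀ ψ y, B₀ (Ψ ψ) y = ψ (d' y) := by
    intro ψ y
    have h1 : E (Ψ ψ) = d'.dualMap ψ := by simp [Ψ]
    have h2 : E (Ψ ψ) y = B₀ (Ψ ψ) y := rfl
    rw [← h2, h1]; rfl
  have hB₀inj : ∀ x x', (∀ y, B₀ x y = B₀ x' y) → x = x' := by
    intro x x' h
    apply huni.1
    ext y; exact h y
  have hΨinj : Function.Injective Ψ := by
    intro ψ ψ' h
    apply LinearMap.dualMap_injective_of_surjective hd'surj
    ext y
    change ψ (d' y) = ψ' (d' y)
    rw [← hΨ, ← hΨ, h]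
  have hΨβ : ∀ y, Ψ (β (d' y)) = D y := by
    intro y
    apply hB₀inj
    intro y'
    rw [hΨ, hDform]; rfl
  have hΨP : ∀ ψ, Ψ ψ ∈ P := by
    intro ψ
    rw [hPmem]
    intro k hk
    rw [hΨ]
    have : d' k = 0 := Subtype.ext hk
    rw [this, map_zero]
  -- induced map on quotients
  have hle : LinearMap.range β ≤ (LinearMap.range D).comap Ψ := by
    rintro _ ⟨u, rfl⟩
    obtain ⟨y, rfl⟩ := hd'surj u
    rw [Submodule.mem_comap, hΨβ]
    exact LinearMap.mem_range_self D y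
  let Ψb : (Module.Dual ℤ (LinearMap.range d) ⧸ LinearMap.range β) →ₗ[ℤ] (L₀ ⧸ LinearMap.range D) :=
    Submodule.mapQ _ _ Ψ hle
  have hΨb : ∀ ψ, Ψb (Submodule.Quotient.mk ψ) = Submodule.Quotient.mk (Ψ ψ) := fun ψ => rfl
  have hΨbinj : Function.Injective Ψb := by
    rw [← LinearMap.ker_eq_bot, LinearMap.ker_eq_bot']
    intro q hq
    obtain ⟨ψ, rfl⟩ := Submodule.Quotient.mk_surjective _ q
    rw [hΨb, Submodule.Quotient.mk_eq_zero] at hq
    obtain ⟨y, hy⟩ := hq
    rw [← hΨβ] at hy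
    have := hΨinj hy
    rw [Submodule.Quotient.mk_eq_zero, ← this]
    exact LinearMap.mem_range_self β _
  have hrange : Submodule.torsion ℤ (L₀ ⧸ LinearMap.range D) = LinearMap.range Ψb := by
    apply le_antisymm
    · intro q hq
      obtain ⟨x, rfl⟩ := Submodule.Quotient.mk_surjective _ q
      have hxP := hB x hq
      have hann : B₀ x ∈ (LinearMap.ker d').dualAnnihilator := by
        rw [Submodule.mem_dualAnnihilator]
        intro k hk
        have hk' : d k = 0 := by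
          have := congrArg Subtype.val (LinearMap.mem_ker.mp hk)
          simpa [d'] using this
        exact (hPmem x).mp hxP k hk'
      rw [← LinearMap.range_dualMap_eq_dualAnnihilator_ker_of_surjective d' hd'surj] at hann
      obtain ⟨ψ, hψ⟩ := hann
      refine ⟨Submodule.Quotient.mk ψ, ?_⟩
      rw [hΨb]
      congr 1
      apply hB₀inj
      intro y
      rw [hΨ, ← hψ]; rfl
    · rintro _ ⟨q, rfl⟩
      obtain ⟨ψ, rfl⟩ := Submodule.Quotient.mk_surjective _ q
      rw [hΨb]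
      obtain ⟨c, hc0, hc⟩ := hA _ (hΨP ψ)
      rw [Submodule.mem_torsion_iff]
      refine ⟨⟨c, mem_nonZeroDivisors_of_ne_zero hc0⟩, ?_⟩
      change c • (Submodule.Quotient.mk (Ψ ψ) : L₀ ⧸ LinearMap.range D) = 0
      rw [← Submodule.Quotient.mk_smul, Submodule.Quotient.mk_eq_zero]
      exact hc
  let Φ : ↥(Submodule.torsion ℤ (L₀ ⧸ LinearMap.range D)) ≃ₗ[ℤ]
      (Module.Dual ℤ ↥(LinearMap.range d) ⧸ LinearMap.range β) :=
    (LinearEquiv.ofEq _ _ hrange) ≪≫ₗ (LinearEquiv.ofInjective Ψb hΨbinj).symm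
  refine ⟨Φ, ?_⟩
  intro x hx ψ hψ
  have hΨx : Ψ ψ = x := by
    apply hB₀inj
    intro y
    rw [hΨ]
    exact hψ y
  change (LinearEquiv.ofInjective Ψb hΨbinj).symm (LinearEquiv.ofEq _ _ hrange ⟨_, hx⟩) = _
  rw [LinearEquiv.symm_apply_eq]
  apply Subtype.ext
  rw [LinearEquiv.ofInjective_apply, hΨb, hΨx]
  rfl

end Groth.Agent.S3352
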