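-- Statement S3386.
import Groth.Statements.S3386
import Groth.Agent.Lib.H30QFChart
import Groth.Agent.Lib.H30EquidimAt2
import Groth.Agent.Lib.H30LowerBound
import Groth.Agent.Lib.H79FibDimComp
import Groth.Agent.Lib.H86RelDimZero
import Groth.Agent.Lib.ValPoint
import Groth.Agent.Lib.FibreDimStrata
import Mathlib

set_option autoImplicit false
open CategoryTheory AlgebraicGeometry
universe u
open EGA43

namespace Groth.Agent.S3386

open Groth.Agent.Lib.H30GenFib Groth.Agent.Lib.H30DimField Groth.Agent.Lib.H30DimRel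
  Groth.Agent.Lib.H30IrrFib Groth.Agent.Lib.H30EquidimAt Groth.Agent.Lib.H30LowerBound
  Groth.Agent.Lib.H30QFChart Groth.Agent.S2594

/-- relative transcendence degree vanishes for locally quasi-finite morphisms -/
theorem rt_eq_zero_of_locallyQuasiFinite {X Y : Scheme.{u}} (g : X ⟶ Y) [LocallyOfFiniteType g]
    [LocallyQuasiFinite g] (z : X) : rt g z = 0 := by
  have h1 : FlatMor.fibreDimAt g z = 0 :=
    (Groth.Agent.Lib.H86RelDimZero.fibreDimAt_eq_zero_iff g z).mpr (g.quasiFiniteAt z)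
  have h2 := Groth.Agent.Lib.FibreDimStrata.rt_le_fibreDimAt g z
  rw [h1] at h2
  have h3 : ((rt g z : ℕ) : WithBot ℕ∞) ≤ ((0 : ℕ) : WithBot ℕ∞) := by simpa using h2
  have h4 : rt g z ≤ 0 := by exact_mod_cast h3
  omega

/-- key computation: for a locally quasi-finite `Y`-morphism `g : U → 𝔸^e_Y`, the relative
transcendence degree of `f` at a point equals that of the affine space at its image -/
theorem rt_chart {X Y : Scheme.{u}} (f : X ⟶ Y) [LocallyOfFiniteType f] (e : ℕ) (U : X.Opens)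
    (g : (U : Scheme.{u}) ⟶ 𝔸(ULift.{u} (Fin e); Y))
    (hg : g ≫ (𝔸(ULift.{u} (Fin e); Y) ↘ Y) = U.ι ≫ f) [LocallyQuasiFinite g] (z : U.toScheme) :
    rt f (U.ι z) = rt (𝔸(ULift.{u} (Fin e); Y) ↘ Y) (g z) := by
  haveI : LocallyOfFiniteType (g ≫ (𝔸(ULift.{u} (Fin e); Y) ↘ Y)) := by
    rw [hg]; infer_instance
  haveI : LocallyOfFiniteType g :=
    locallyOfFiniteType_of_comp g (𝔸(ULift.{u} (Fin e); Y) ↘ Y)
  have h1 : rt (U.ι ≫ f) z = rt f (U.ι z) + rt U.ι z := rt_comp U.ι f z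
  have h2 : rt (g ≫ (𝔸(ULift.{u} (Fin e); Y) ↘ Y)) z =
      rt (𝔸(ULift.{u} (Fin e); Y) ↘ Y) (g z) + rt g z :=
    rt_comp g (𝔸(ULift.{u} (Fin e); Y) ↘ Y) z
  have h3 : rt U.ι z = 0 := rt_of_isPreimmersion U.ι z
  have h4 : rt g z = 0 := rt_eq_zero_of_locallyQuasiFinite g z
  have h5 : rt (g ≫ (𝔸(ULift.{u} (Fin e); Y) ↘ Y)) z = rt (U.ι ≫ f) z := by
    congr 1
  omega

/-- maximal points of the affine space over `Y` -/
theorem isMaxPt_affineSpace_iff (e : ℕ) (Y : Scheme.{u}) (w : 𝔸(ULift.{u} (Fin e); Y)) :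
    IsMaxPt w ↔ IsMaxPt ((𝔸(ULift.{u} (Fin e); Y) ↘ Y) w) ∧
      rt (𝔸(ULift.{u} (Fin e); Y) ↘ Y) w = e := by
  haveI := Groth.Agent.Lib.ValPoint.flat_affineSpace_over (ULift.{u} (Fin e)) Y
  constructor
  · intro hmax
    refine ⟨isMax_of_flat _ w hmax, ?_⟩
    have h1 := fibreDimAt_of_maximal (𝔸(ULift.{u} (Fin e); Y) ↘ Y) w hmax
    rw [Groth.Agent.Lib.CMQF33.fibreDimAt_affineSpace_over] at h1
    exact_mod_cast h1.symm
  · rintro ⟨hmax, hrt⟩ w' hw'
    have hz : (𝔸(ULift.{u} (Fin e); Y) ↘ Y) w' = (𝔸(ULift.{u} (Fin e); Y) ↘ Y) w :=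
      hmax _ (hw'.map (𝔸(ULift.{u} (Fin e); Y) ↘ Y).continuous)
    by_contra hne
    have h1 := rt_lt_of_specializes_ne (𝔸(ULift.{u} (Fin e); Y) ↘ Y) w w' hz hw' hne
    have h2 := Groth.Agent.Lib.FibreDimStrata.rt_le_fibreDimAt (𝔸(ULift.{u} (Fin e); Y) ↘ Y) w'
    rw [Groth.Agent.Lib.CMQF33.fibreDimAt_affineSpace_over] at h2
    have h3 : rt (𝔸(ULift.{u} (Fin e); Y) ↘ Y) w' ≤ e := by exact_mod_cast h2
    omega

/-- the image of an irreducible component with generic point `ζ` -/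
theorem closure_image_eq {A B : Type*} [TopologicalSpace A] [TopologicalSpace B] (g : A → B)
    (hg : Continuous g) (Z : Set A) (ζ : A) (hζ : IsGenericPoint ζ Z) :
    closure (g '' Z) = closure {g ζ} := by
  rw [← hζ.def, closure_image_closure hg, Set.image_singleton]

theorem dir1 {X Y : Scheme.{u}} (f : X ⟶ Y) [LocallyOfFiniteType f] (x : X)
    (h : EGA43.IsEquidimAt f x) :
    ∃ (e : ℕ) (U : X.Opens) (g : (U : Scheme.{u}) ⟶ 𝔸(ULift.{u} (Fin e); Y)),
        x ∈ U ∧ g ≫ (𝔸(ULift.{u} (Fin e); Y) ↘ Y) = U.ι ≫ f ∧ LocallyQuasiFinite g ∧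
        ∀ Z ∈ irreducibleComponents (↥U : Type u),
          closure (g.base '' Z) ∈ irreducibleComponents (↥𝔸(ULift.{u} (Fin e); Y) : Type u) := by
  obtain ⟨e, U₀, hxU₀, hmax, hfib⟩ := (isEquidimAt_iff f x).mp h
  obtain ⟨U, hxU, hUU₀, g, hg, hqf⟩ := exists_chart_le f x e (hfib x hxU₀) U₀ hxU₀
  refine ⟨e, U, g, hxU, hg, hqf, ?_⟩
  intro Z hZ
  have hZ' : Z ∈ irreducibleComponents (U.toScheme : Type u) := hZ
  obtain ⟨ζU, hζU⟩ : ∃ z : U.toScheme, IsGenericPoint z Z :=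
    QuasiSober.sober hZ'.1 (isClosed_of_mem_irreducibleComponents Z hZ')
  have hζUmax : IsMaxPt ζU := by
    rw [← hζU.def] at hZ'
    exact (closure_mem_irreducibleComponents_iff ζU).mp hZ'
  have hζmax : IsMaxPt (U.ι ζU) := isMax_ι U ζU hζUmax
  obtain ⟨h1, -⟩ := hmax _ (hUU₀ ζU.2) hζmax
  have he : FlatMor.fibreDimAt f (U.ι ζU) = e := hfib _ (hUU₀ ζU.2)
  have hrt : rt f (U.ι ζU) = e := by
    have h2 := fibreDimAt_of_maximal f _ hζmax
    rw [he] at h2
    exact_mod_cast h2.symm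
  have hrt' := rt_chart f e U g hg ζU
  have hπ : (𝔸(ULift.{u} (Fin e); Y) ↘ Y) (g ζU) = f (U.ι ζU) := by
    rw [← Scheme.Hom.comp_apply, hg, Scheme.Hom.comp_apply]
  have hgmax : IsMaxPt (g ζU) := by
    rw [isMaxPt_affineSpace_iff, hπ]
    exact ⟨h1, by rw [← hrt', hrt]⟩
  have hcl := closure_image_eq g g.continuous Z ζU hζU
  show closure (g '' Z) ∈ _
  rw [hcl]
  exact (closure_mem_irreducibleComponents_iff _).mpr hgmax

theorem dir2 {X Y : Scheme.{u}} (f : X ⟶ Y) [LocallyOfFiniteType f] (x : X)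
    [IsLocallyNoetherian Y]
    (h : ∃ (e : ℕ) (U : X.Opens) (g : (U : Scheme.{u}) ⟶ 𝔸(ULift.{u} (Fin e); Y)),
        x ∈ U ∧ g ≫ (𝔸(ULift.{u} (Fin e); Y) ↘ Y) = U.ι ≫ f ∧ LocallyQuasiFinite g ∧
        ∀ Z ∈ irreducibleComponents (↥U : Type u),
          closure (g.base '' Z) ∈ irreducibleComponents (↥𝔸(ULift.{u} (Fin e); Y) : Type u)) :
    EGA43.IsEquidimAt f x := by
  obtain ⟨e, U, g, hxU, hg, hqf, hcomp⟩ := h
  haveI : IsLocallyNoetherian X := LocallyOfFiniteType.isLocallyNoetherian f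
  obtain ⟨U', hxU', hU'U, hsp⟩ := exists_open_all_max_specialize x U hxU
  haveI : LocallyOfFiniteType (g ≫ (𝔸(ULift.{u} (Fin e); Y) ↘ Y)) := by
    rw [hg]; infer_instance
  haveI : LocallyOfFiniteType g :=
    locallyOfFiniteType_of_comp g (𝔸(ULift.{u} (Fin e); Y) ↘ Y)
  have hπ : ∀ zU : U.toScheme, (𝔸(ULift.{u} (Fin e); Y) ↘ Y) (g zU) = f (U.ι zU) := by
    intro zU
    rw [← Scheme.Hom.comp_apply, hg, Scheme.Hom.comp_apply]
  have key : ∀ ζU : U.toScheme, IsMaxPt (U.ι ζU) → IsMaxPt (g ζU) := by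
    intro ζU hζ
    have hζUmax := isMax_of_ι U ζU hζ
    have hZ : closure ({ζU} : Set U.toScheme) ∈ irreducibleComponents (U.toScheme : Type u) :=
      (closure_mem_irreducibleComponents_iff ζU).mpr hζUmax
    have h1 := hcomp _ hZ
    have h2 := closure_image_eq g g.continuous _ ζU (isGenericPoint_closure (x := ζU))
    have h3 : closure ({g ζU} : Set ↥𝔸(ULift.{u} (Fin e); Y)) ∈
        irreducibleComponents (↥𝔸(ULift.{u} (Fin e); Y) : Type u) := by
      rw [← h2]; exact h1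
    exact (closure_mem_irreducibleComponents_iff _).mp h3
  rw [isEquidimAt_iff]
  refine ⟨e, U', hxU', ?_, ?_⟩
  · intro ζ hζU' hζmax
    obtain ⟨ζU, rfl⟩ : ζ ∈ Set.range U.ι := by rw [Scheme.Opens.range_ι]; exact hU'U hζU'
    have h1 := key ζU hζmax
    rw [isMaxPt_affineSpace_iff, hπ] at h1
    exact ⟨h1.1, (hsp _ hζU' hζmax).map f.continuous⟩
  · intro z hzU'
    obtain ⟨zU, rfl⟩ : z ∈ Set.range U.ι := by rw [Scheme.Opens.range_ι]; exact hU'U hzU'
    apply le_antisymm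
    · have h1 := (Groth.Agent.Lib.H79FibDimComp.fibreDimAt_comp g
        (𝔸(ULift.{u} (Fin e); Y) ↘ Y) zU).1
      rw [hg, fibreDimAt_comp_of_isOpenImmersion,
        Groth.Agent.Lib.CMQF33.fibreDimAt_affineSpace_over,
        (Groth.Agent.Lib.H86RelDimZero.fibreDimAt_eq_zero_iff g zU).mpr (g.quasiFiniteAt zU),
        zero_add] at h1
      exact h1
    · obtain ⟨ζ, hζmax, hζz⟩ := exists_isMaxPt_specializes (U.ι zU)
      have hζU' : ζ ∈ U' := hζz.mem_open U'.isOpen hzU'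
      obtain ⟨ζU, rfl⟩ : ζ ∈ Set.range U.ι := by rw [Scheme.Opens.range_ι]; exact hU'U hζU'
      have h1 := key ζU hζmax
      rw [isMaxPt_affineSpace_iff] at h1
      have hrt : rt f (U.ι ζU) = e := by
        rw [rt_chart f e U g hg ζU]; exact h1.2
      obtain ⟨z', -, h2, h3, h4⟩ := exists_specialization_rt_ge f (U.ι zU) (U.ι ζU) hζz
      have h5 := rt_le_fibreDimAt_of_specializes f (U.ι zU) z' h3 h2
      refine le_trans ?_ h5
      rw [hrt] at h4
      exact_mod_cast h4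

open CategoryTheory.Limits in
theorem main {X Y : Scheme.{u}}
    (f : X ⟶ Y) [LocallyOfFiniteType f] (x : X) :
    (EGA43.IsEquidimAt f x → (∃ (e : ℕ) (U : X.Opens) (g : (U : Scheme.{u}) ⟶ 𝔸(ULift.{u} (Fin e); Y)),
        x ∈ U ∧ g ≫ (𝔸(ULift.{u} (Fin e); Y) ↘ Y) = U.ι ≫ f ∧ LocallyQuasiFinite g ∧
        ∀ Z ∈ irreducibleComponents (↥U : Type u),
          closure (g.base '' Z) ∈ irreducibleComponents (↥𝔸(ULift.{u} (Fin e); Y) : Type u))) ∧
    (IsLocallyNoetherian Y → (∃ (e : ℕ) (U : X.Opens) (g : (U : Scheme.{u}) ⟶ 𝔸(ULift.{u} (Fin e); Y)),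
        x ∈ U ∧ g ≫ (𝔸(ULift.{u} (Fin e); Y) ↘ Y) = U.ι ≫ f ∧ LocallyQuasiFinite g ∧
        ∀ Z ∈ irreducibleComponents (↥U : Type u),
          closure (g.base '' Z) ∈ irreducibleComponents (↥𝔸(ULift.{u} (Fin e); Y) : Type u)) → EGA43.IsEquidimAt f x) := by
  exact ⟨dir1 f x, fun hY h => @dir2 _ _ f _ x hY h⟩

open CategoryTheory.Limits in
/-- Conditions a) and b): let f : X ⟶ Y be locally of finite type and fix a point x of X. Condition a)
is equidimensionality of f at x (the definition used here); condition b): there are a natural number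
e, an open neighbourhood U of x and a Y-morphism g from U to the affine space of dimension e over Y
which is locally quasi-finite and sends the generic point of every irreducible component of U to the
generic point of an irreducible component of the affine space. Then a) implies b); and b) implies a)
when Y is locally Noetherian. (The source states the equivalence over an arbitrary base; the
implication b) ⟹ a) uses that irreducible components are locally finite and fails without some such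
hypothesis.) -/
theorem result {X Y : Scheme.{u}}
    (f : X ⟶ Y) [LocallyOfFiniteType f] (x : X) :
    (EGA43.IsEquidimAt f x → (∃ (e : ℕ) (U : X.Opens) (g : (U : Scheme.{u}) ⟶ 𝔸(ULift.{u} (Fin e); Y)),
        x ∈ U ∧ g ≫ (𝔸(ULift.{u} (Fin e); Y) ↘ Y) = U.ι ≫ f ∧ LocallyQuasiFinite g ∧
        ∀ Z ∈ irreducibleComponents (↥U : Type u),
          closure (g.base '' Z) ∈ irreducibleComponents (↥𝔸(ULift.{u} (Fin e); Y) : Type u))) ∧
    (IsLocallyNoetherian Y → (∃ (e : ℕ) (U : X.Opens) (g : (U : Scheme.{u}) ⟶ 𝔸(ULift.{u} (Fin e); Y)),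
        x ∈ U ∧ g ≫ (𝔸(ULift.{u} (Fin e); Y) ↘ Y) = U.ι ≫ f ∧ LocallyQuasiFinite g ∧
        ∀ Z ∈ irreducibleComponents (↥U : Type u),
          closure (g.base '' Z) ∈ irreducibleComponents (↥𝔸(ULift.{u} (Fin e); Y) : Type u)) → EGA43.IsEquidimAt f x) := by
  exact main f x

end Groth.Agent.S3386
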