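import Groth.Statements.S3387
import Mathlib
import Groth.Agent.Lib.H56FibDimSup
import Groth.Agent.S0402

set_option autoImplicit false
open CategoryTheory AlgebraicGeometry
universe u
open EGA43

namespace Groth.Agent.S3387

/-- Let f : X ⟶ Y be locally of finite type and closed (as a map of underlying spaces). Then for every
natural number n the set of points y of Y whose fibre has dimension at least n is closed; that is,
the dimension of the fibre is upper semicontinuous on Y. -/
theorem result {X Y : Scheme.{u}} (f : X ⟶ Y) [LocallyOfFiniteType f]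
    (hf : IsClosedMap f.base) (n : ℕ) :
    IsClosed {y : Y | (n : WithBot ℕ∞) ≤ topologicalKrullDim ↥(f.fiber y)} := by
  have hset : {y : Y | (n : WithBot ℕ∞) ≤ topologicalKrullDim ↥(f.fiber y)} =
      f.base '' {x : X | (n : WithBot ℕ∞) ≤ FlatMor.fibreDimAt f x} := by
    ext y
    constructor
    · intro hy
      obtain ⟨x, hx, hn⟩ := (Groth.Agent.Lib.H56LocDim.le_dim_fiber_iff f y n).mp hy
      exact ⟨x, hn, hx⟩
    · rintro ⟨x, hn, hx⟩
      exact (Groth.Agent.Lib.H56LocDim.le_dim_fiber_iff f y n).mpr ⟨x, hx, hn⟩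
  rw [hset]
  apply hf
  cases n with
  | zero =>
    have : {x : X | ((0 : ℕ) : WithBot ℕ∞) ≤ FlatMor.fibreDimAt f x} = Set.univ := by
      ext x
      simp only [Set.mem_univ, iff_true]
      exact_mod_cast Groth.Agent.Lib.H56LocDim.fibreDimAt_nonneg f x
    rw [this]
    exact isClosed_univ
  | succ m =>
    have : {x : X | ((m + 1 : ℕ) : WithBot ℕ∞) ≤ FlatMor.fibreDimAt f x} =
        {x : X | FlatMor.fibreDimAt f x ≤ (m : WithBot ℕ∞)}ᶜ := by
      ext x
      change ((m + 1 : ℕ) : WithBot ℕ∞) ≤ FlatMor.fibreDimAt f x ↔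
        ¬ (FlatMor.fibreDimAt f x ≤ (m : WithBot ℕ∞))
      rw [← Groth.Agent.Lib.H56LocDim.lt_succ_iff_le, not_lt]
    rw [this]
    exact (Groth.Agent.S0402.result f m).isClosed_compl

end Groth.Agent.S3387
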