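import Groth.Statements.S3389
import Mathlib
import Groth.Agent.Lib.H56FibDimSup
import Groth.Agent.S0402

set_option autoImplicit false
open CategoryTheory AlgebraicGeometry
universe u
open EGA43

namespace Groth.Agent.S3389

/-- Let Y be a quasi-compact scheme and f : X ⟶ Y a morphism of finite type. Then there is a natural
number n bounding the dimension of every fibre of f. -/
theorem result {X Y : Scheme.{u}} [CompactSpace Y] (f : X ⟶ Y)
    [LocallyOfFiniteType f] [QuasiCompact f] :
    ∃ n : ℕ, ∀ y : Y, topologicalKrullDim ↥(f.fiber y) ≤ n := by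
  have hX : CompactSpace X := QuasiCompact.compactSpace_of_compactSpace f
  let U : ℕ → Set X := fun n => {x : X | FlatMor.fibreDimAt f x ≤ (n : WithBot ℕ∞)}
  have hUo : ∀ n, IsOpen (U n) := fun n => Groth.Agent.S0402.result f n
  have hcov : (Set.univ : Set X) ⊆ ⋃ n, U n := by
    intro x _
    obtain ⟨n, hn⟩ := Groth.Agent.Lib.H56LocDim.exists_nat_fibreDimAt_le f x
    exact Set.mem_iUnion.mpr ⟨n, hn⟩
  have hmono : Monotone U := by
    intro a b hab x hx
    have hx' : FlatMor.fibreDimAt f x ≤ (a : WithBot ℕ∞) := hx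
    have hab' : (a : WithBot ℕ∞) ≤ (b : WithBot ℕ∞) := by exact_mod_cast hab
    exact hx'.trans hab'
  obtain ⟨N, hN⟩ := isCompact_univ.elim_directed_cover U hUo hcov
    (directed_of_isDirected_le hmono)
  refine ⟨N, fun y => ?_⟩
  rw [Groth.Agent.Lib.H56LocDim.dim_fiber_le_iff]
  intro x _
  exact hN (Set.mem_univ x)

end Groth.Agent.S3389
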