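import Groth.Statements.S3393
import Groth.Agent.Lib.DimIneqComponent
import Groth.Agent.Lib.FibreDimAtFormula
import Groth.Agent.Lib.DimFibre33
import Groth.Agent.S1553
import Groth.Agent.S0402

set_option autoImplicit false
open CategoryTheory AlgebraicGeometry
universe u
open EGA43

namespace Groth.Agent.S3393

theorem topologicalKrullDim_eq_bot_of_isEmpty (T : Type*) [TopologicalSpace T] [IsEmpty T] :
    topologicalKrullDim T = ⊥ := by
  haveI : IsEmpty (TopologicalSpace.IrreducibleCloseds T) :=
    ⟨fun Z => by
      obtain ⟨t, -⟩ := Z.isIrreducible.nonempty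
      exact isEmptyElim t⟩
  unfold topologicalKrullDim
  exact Order.krullDim_eq_bot

/-- Let Y be an irreducible locally Noetherian scheme with generic point η, f : X ⟶ Y a morphism of
finite type and y a point of Y. Condition (b): for every point z of the fibre over y at which the
local ring of the fibre has dimension 0, dim O_{X,z} = dim O_{Y,y}. Condition (c): for every such z
there is an irreducible component X' of X containing z such that the dimension of X' ∩ f⁻¹(η)
(topology induced from X) equals the local dimension at z of the fibre over y (the dimension of the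
irreducible component of the fibre with generic point z). Then (b) implies (c), and (c) implies (b)
if O_{Y,y} is universally catenary. -/
theorem result {X Y : Scheme.{u}} [IrreducibleSpace Y] [IsLocallyNoetherian Y]
    (f : X ⟶ Y) [LocallyOfFiniteType f] [QuasiCompact f] (y : Y) :
    ((∀ z : X, f.base z = y → ringKrullDim ((f.fiber (f.base z)).presheaf.stalk (f.asFiber z)) = 0 →
        ringKrullDim (X.presheaf.stalk z) = ringKrullDim (Y.presheaf.stalk (f.base z))) →
      (∀ z : X, f.base z = y → ringKrullDim ((f.fiber (f.base z)).presheaf.stalk (f.asFiber z)) = 0 →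
        ∃ X' ∈ irreducibleComponents (X : Type u), z ∈ X' ∧
          topologicalKrullDim ↥(X' ∩ f.base ⁻¹' {genericPoint Y}) = FlatMor.fibreDimAt f z)) ∧
    (CAlg.IsUniversallyCatenary (Y.presheaf.stalk y) →
      (∀ z : X, f.base z = y → ringKrullDim ((f.fiber (f.base z)).presheaf.stalk (f.asFiber z)) = 0 →
        ∃ X' ∈ irreducibleComponents (X : Type u), z ∈ X' ∧
          topologicalKrullDim ↥(X' ∩ f.base ⁻¹' {genericPoint Y}) = FlatMor.fibreDimAt f z) →
      (∀ z : X, f.base z = y → ringKrullDim ((f.fiber (f.base z)).presheaf.stalk (f.asFiber z)) = 0 →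
        ringKrullDim (X.presheaf.stalk z) = ringKrullDim (Y.presheaf.stalk (f.base z)))) := by
  refine ⟨fun hb z hz hc => ?_, fun hUC hcc z hz hc => ?_⟩
  · -- (b) ⇒ (c)
    subst hz
    obtain ⟨ξ, hirr, hξz, a, b, c, ha, hb', hc', hineq⟩ :=
      Groth.Agent.Lib.DimIneqComponent.stalk_ineq_component f z
    have hab := hb z rfl hc
    rw [ha, hb'] at hab
    have hab' : a = b := by exact_mod_cast hab
    obtain ⟨n, hn⟩ := Groth.Agent.Lib.GenericFibrePoint.exists_nat_trdeg_residueField f z
    obtain ⟨m, hm⟩ := Groth.Agent.Lib.GenericFibrePoint.exists_nat_trdeg_residueField f ξ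
    rw [hn, hm] at hineq
    have h1 : a + n + c ≤ b + m := by exact_mod_cast hineq
    have hFz : FlatMor.fibreDimAt f z = (n : WithBot ℕ∞) := by
      rw [Groth.Agent.Lib.FibreDimAtFormula.fibreDimAt_eq_add f z n hn, hc, zero_add]
    have hFξ : FlatMor.fibreDimAt f ξ = (m : WithBot ℕ∞) := by
      rw [Groth.Agent.Lib.FibreDimAtFormula.fibreDimAt_eq_add f ξ m hm,
        Groth.Agent.S1553.fibre_stalk_dim_zero f ξ
          (Groth.Agent.S1553.stalk_dim_zero_of_irreducibleComponent ξ hirr), zero_add]
    have hmn : m ≤ n := by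
      have hopen := Groth.Agent.S0402.result f n
      have hzmem : z ∈ {x : X | FlatMor.fibreDimAt f x ≤ n} := le_of_eq hFz
      have hξmem := hξz.mem_open hopen hzmem
      change FlatMor.fibreDimAt f ξ ≤ n at hξmem
      rw [hFξ] at hξmem
      exact_mod_cast hξmem
    have hc0 : c = 0 := by omega
    have hnm : n = m := by omega
    -- `f ξ` is the generic point of `Y`
    have hgen : f ξ = genericPoint Y := by
      rw [hc0] at hc'
      have h2 := Groth.Agent.S1553.irreducibleComponent_of_stalk_dim_zero (f ξ) hc'
      rw [irreducibleComponents_eq_singleton, Set.mem_singleton_iff] at h2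
      exact IsGenericPoint.eq h2 (genericPoint_spec Y)
    refine ⟨closure {ξ}, hirr, hξz.mem_closure, ?_⟩
    rw [hFz, hnm, ← hgen]
    exact Groth.Agent.Lib.DimIneqComponent.topologicalKrullDim_closure_inter_fibre f ξ m hm
  · -- (c) ⇒ (b)
    subst hz
    haveI : IsLocallyNoetherian X := LocallyOfFiniteType.isLocallyNoetherian f
    obtain ⟨X', hX', hzX', hdim⟩ := hcc z rfl hc
    obtain ⟨ξ, hξ⟩ := QuasiSober.sober hX'.1 (isClosed_of_mem_irreducibleComponents X' hX')
    have hξX' : closure {ξ} = X' := hξ.def
    have hξz : ξ ⤳ z := hξ.specializes hzX'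
    obtain ⟨n, hn⟩ := Groth.Agent.Lib.GenericFibrePoint.exists_nat_trdeg_residueField f z
    obtain ⟨m, hm⟩ := Groth.Agent.Lib.GenericFibrePoint.exists_nat_trdeg_residueField f ξ
    have hFz : FlatMor.fibreDimAt f z = (n : WithBot ℕ∞) := by
      rw [Groth.Agent.Lib.FibreDimAtFormula.fibreDimAt_eq_add f z n hn, hc, zero_add]
    rw [hFz] at hdim
    -- the intersection is nonempty
    obtain ⟨w, hwX', hwη⟩ : ∃ w : X, w ∈ X' ∧ f w = genericPoint Y := by
      by_contra hcon
      push Not at hcon
      haveI : IsEmpty ↥(X' ∩ f.base ⁻¹' {genericPoint Y}) :=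
        ⟨fun w => hcon w.1 w.2.1 w.2.2⟩
      rw [topologicalKrullDim_eq_bot_of_isEmpty] at hdim
      exact absurd hdim (by simp)
    have hgen : f ξ = genericPoint Y := by
      have h1 : f ξ ⤳ f w := (hξ.specializes hwX').map f.continuous
      rw [hwη] at h1
      exact (h1.antisymm (genericPoint_specializes (f ξ))).eq
    have hCl := Groth.Agent.Lib.DimIneqComponent.topologicalKrullDim_closure_inter_fibre f ξ m hm
    rw [hξX', hgen, hdim] at hCl
    have hnm : n = m := by exact_mod_cast hCl
    obtain ⟨a, b, ha, hb', hle⟩ := Groth.Agent.Lib.DimIneqComponent.stalk_formula_local_le f z hUC ξ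
      hξz (fun y' => by rw [hgen]; exact genericPoint_specializes y')
    rw [hn, hm] at hle
    have h1 : b + m ≤ a + n := by exact_mod_cast hle
    have hba : b ≤ a := by omega
    have hab : ringKrullDim (X.presheaf.stalk z) ≤ ringKrullDim (Y.presheaf.stalk (f z)) := by
      have h1 := Groth.Agent.Lib.DimFibre33.ringKrullDim_le_add' (f.stalkMap z).hom
      have h2 : ringKrullDim (X.presheaf.stalk z ⧸ Ideal.map (f.stalkMap z).hom
          (IsLocalRing.maximalIdeal (Y.presheaf.stalk (f z)))) =
          ringKrullDim ((f.fiber (f z)).presheaf.stalk (f.asFiber z)) :=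
        ringKrullDim_eq_of_ringEquiv (Groth.Agent.Lib.FibreStalk33.fibreStalkEquiv f z)
      rw [h2, hc, add_zero] at h1
      exact h1
    apply le_antisymm hab
    rw [ha, hb']
    exact_mod_cast hba

end Groth.Agent.S3393
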