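-- Statement S3394.
import Groth.Statements.S3394
import Groth.Agent.Lib.H30FibNorm
import Groth.Agent.Lib.H56LocDimRing
import Mathlib

set_option autoImplicit false
open CategoryTheory AlgebraicGeometry
universe u
open EGA43

namespace Groth.Agent.S3394

open Limits TensorProduct Groth.Agent.Lib.H30FibNorm in
theorem main {X Y : Scheme.{u}} [IsAffine X] [IsAffine Y] (f : X ⟶ Y)
    [LocallyOfFiniteType f] (y : Y) (hy : y ∈ Set.range f.base) (e : ℕ)
    (he : topologicalKrullDim ↥(f.fiber y) = e) :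
    ∃ g : X ⟶ 𝔸(ULift.{u} (Fin e); Y), g ≫ (𝔸(ULift.{u} (Fin e); Y) ↘ Y) = f ∧
      IsFinite (pullback.snd g ((𝔸(ULift.{u} (Fin e); Y) ↘ Y).fiberι y)) := by
  letI : Algebra Γ(Y, ⊤) Γ(X, ⊤) := f.appTop.hom.toAlgebra
  let eX : X ≅ Spec (.of Γ(X, ⊤)) := X.isoSpec
  let eY : Y ≅ Spec (.of Γ(Y, ⊤)) := Y.isoSpec
  have hf : f ≫ eY.hom = eX.hom ≫ Spec.map (CommRingCat.ofHom (algebraMap Γ(Y, ⊤) Γ(X, ⊤))) :=
    (Scheme.isoSpec_hom_naturality f).symm
  have hft : Algebra.FiniteType Γ(Y, ⊤) Γ(X, ⊤) := by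
    have h1 : f.appTop.hom.FiniteType :=
      (HasRingHomProperty.iff_of_isAffine (P := @LocallyOfFiniteType)).mp inferInstance
    exact h1
  -- nontriviality of the fibre ring
  have hnt : Nontrivial (Cf Γ(Y, ⊤) Γ(X, ⊤) eY y) := by
    obtain ⟨x, rfl⟩ := hy
    obtain ⟨ε⟩ := nonempty_fiber_iso Γ(Y, ⊤) Γ(X, ⊤) eX eY f hf (f.base x)
    let z : Spec (.of (Cf Γ(Y, ⊤) Γ(X, ⊤) eY (f.base x))) := ε.inv.base (f.asFiber x)
    exact (PrimeSpectrum.nonempty_iff_nontrivial.mp ⟨z⟩)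
  have hdim := dim_fiber_eq Γ(Y, ⊤) Γ(X, ⊤) eX eY f hf y
  obtain ⟨d, Ψ, hd, hΨ⟩ := Groth.Agent.Lib.H56LocDim.exists_algHom_fiber_finite
    (R := Γ(Y, ⊤)) (B := Γ(X, ⊤)) (pt Γ(Y, ⊤) eY y).asIdeal
  have hde : d = e := by
    have h1 : ((e : ℕ) : WithBot ℕ∞) = (d : ℕ) := by rw [← he, hdim]; exact hd
    exact_mod_cast h1.symm
  subst hde
  let n := ULift.{u} (Fin d)
  let v : n → Γ(X, ⊤) := fun i =>
    eX.hom.appTop ((Scheme.ΓSpecIso (.of Γ(X, ⊤))).inv (Ψ (MvPolynomial.X i.down)))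
  let g : X ⟶ 𝔸(n; Y) := AffineSpace.homOfVector f v
  have hg : g ≫ (𝔸(n; Y) ↘ Y) = f := AffineSpace.homOfVector_over f v
  refine ⟨g, hg, ?_⟩
  rw [isFinite_iff Γ(Y, ⊤) Γ(X, ⊤) eX eY f hf y n g hg]
  have hcoords : ∀ i : n, coords Γ(X, ⊤) eX n g i = Ψ (MvPolynomial.X i.down) := by
    intro i
    unfold coords
    rw [Scheme.Hom.comp_appTop, CommRingCat.comp_apply]
    have h1 : g.appTop (AffineSpace.coord Y i) = v i := AffineSpace.homOfVector_appTop_coord f v i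
    rw [h1]
    change (Scheme.ΓSpecIso _).hom (eX.inv.appTop (eX.hom.appTop _)) = _
    rw [← CommRingCat.comp_apply (eX.hom.appTop), ← Scheme.Hom.comp_appTop, Iso.inv_hom_id]
    simp
  let K := Kp Γ(Y, ⊤) eY y
  let ω : MvPolynomial n K ≃ₐ[K] K ⊗[Γ(Y, ⊤)] MvPolynomial (Fin d) Γ(Y, ⊤) :=
    (MvPolynomial.renameEquiv K Equiv.ulift).trans
      (MvPolynomial.algebraTensorAlgEquiv Γ(Y, ⊤) K).symm
  have hchi : chi Γ(Y, ⊤) Γ(X, ⊤) eX eY y n g =
      (Algebra.TensorProduct.map (AlgHom.id K K) Ψ).comp ω.toAlgHom := by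
    apply MvPolynomial.algHom_ext
    intro i
    simp only [chi, MvPolynomial.aeval_X, hcoords, AlgHom.comp_apply]
    simp [ω]
  rw [hchi]
  exact RingHom.Finite.comp hΨ (RingHom.Finite.of_surjective _ ω.surjective)

open CategoryTheory.Limits in
/-- Let X and Y be affine schemes, f : X ⟶ Y a morphism of finite type, y a point of f(X) and e the
dimension of the fibre of f over y. Then there is a Y-morphism g from X to the affine space of
dimension e over Y such that the morphism induced by g on the fibres over y is finite (here written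
as the base change of g along the inclusion of the fibre of the affine space over y). -/
theorem result {X Y : Scheme.{u}} [IsAffine X] [IsAffine Y] (f : X ⟶ Y)
    [LocallyOfFiniteType f] (y : Y) (hy : y ∈ Set.range f.base) (e : ℕ)
    (he : topologicalKrullDim ↥(f.fiber y) = e) :
    ∃ g : X ⟶ 𝔸(ULift.{u} (Fin e); Y), g ≫ (𝔸(ULift.{u} (Fin e); Y) ↘ Y) = f ∧
      IsFinite (pullback.snd g ((𝔸(ULift.{u} (Fin e); Y) ↘ Y).fiberι y)) := by
  exact main f y hy e he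

end Groth.Agent.S3394
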