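-- Statement S3395.
import Groth.Statements.S3395
import Groth.Agent.Lib.H30FibNorm
import Groth.Agent.Lib.H30FibBC
import Groth.Agent.Lib.H86RelDimZero
import Mathlib

set_option autoImplicit false
open CategoryTheory AlgebraicGeometry
universe u
open EGA43

namespace Groth.Agent.S3395

open Limits TensorProduct Groth.Agent.Lib.H30FibNorm in
theorem main {X Y : Scheme.{u}} [IsAffine X] [IsAffine Y]
    (f : X ⟶ Y) [LocallyOfFiniteType f] (y : Y) (hy : y ∈ Set.range f.base) (e : ℕ)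
    (he : topologicalKrullDim ↥(f.fiber y) = e) (g : X ⟶ 𝔸(ULift.{u} (Fin e); Y)) (hg : g ≫ (𝔸(ULift.{u} (Fin e); Y) ↘ Y) = f)
    (hfin : IsFinite (pullback.snd g ((𝔸(ULift.{u} (Fin e); Y) ↘ Y).fiberι y))) :
    Function.Surjective (pullback.snd g ((𝔸(ULift.{u} (Fin e); Y) ↘ Y).fiberι y)).base ∧
      ∃ U : X.Opens, f.base ⁻¹' {y} ⊆ (U : Set X) ∧ LocallyQuasiFinite (U.ι ≫ g) := by
  letI : Algebra Γ(Y, ⊤) Γ(X, ⊤) := f.appTop.hom.toAlgebra
  let eX : X ≅ Spec (.of Γ(X, ⊤)) := X.isoSpec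
  let eY : Y ≅ Spec (.of Γ(Y, ⊤)) := Y.isoSpec
  have hf : f ≫ eY.hom = eX.hom ≫ Spec.map (CommRingCat.ofHom (algebraMap Γ(Y, ⊤) Γ(X, ⊤))) :=
    (Scheme.isoSpec_hom_naturality f).symm
  let n := ULift.{u} (Fin e)
  have hdim := dim_fiber_eq Γ(Y, ⊤) Γ(X, ⊤) eX eY f hf y
  have hχfin := (isFinite_iff Γ(Y, ⊤) Γ(X, ⊤) eX eY f hf y n g hg).mp hfin
  have hcard : Nat.card n = e := by simp [n]
  have hχinj : Function.Injective (chi Γ(Y, ⊤) Γ(X, ⊤) eX eY y n g).toRingHom := by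
    apply injective_of_finite_of_dim _ hχfin
    rw [← hdim, he, hcard]
  have hglft : LocallyOfFiniteType g := by
    have : LocallyOfFiniteType (g ≫ (𝔸(ULift.{u} (Fin e); Y) ↘ Y)) := by rw [hg]; infer_instance
    exact locallyOfFiniteType_of_comp g (𝔸(ULift.{u} (Fin e); Y) ↘ Y)
  refine ⟨surjective_of_comap_surjective Γ(Y, ⊤) Γ(X, ⊤) eX eY f hf y n g hg
    (RingHom.IsIntegral.comap_surjective hχfin.to_isIntegral hχinj), g.quasiFiniteLocus, ?_,
    Groth.Agent.Lib.H86RelDimZero.locallyQuasiFinite_quasiFiniteLocus_ι_comp g⟩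
  intro x hx
  have hx' : f.base x = y := hx
  change g.QuasiFiniteAt x
  rw [← Groth.Agent.Lib.H86RelDimZero.fibreDimAt_eq_zero_iff]
  -- a point of the pullback above x
  have hgx : g.base x ∈ Set.range ((𝔸(ULift.{u} (Fin e); Y) ↘ Y).fiberι y).base := by
    rw [Scheme.Hom.range_fiberι]
    change (𝔸(ULift.{u} (Fin e); Y) ↘ Y).base (g.base x) = y
    rw [← hx', ← hg]; rfl
  obtain ⟨t, ht⟩ := hgx
  obtain ⟨x', hx'1, hx'2⟩ := Scheme.Pullback.exists_preimage_pullback (f := g)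
    (g := (𝔸(ULift.{u} (Fin e); Y) ↘ Y).fiberι y) x t ht.symm
  have hsq := Groth.Agent.Lib.H30FibBC.fibreDimAt_eq_of_isPullback g
    ((𝔸(ULift.{u} (Fin e); Y) ↘ Y).fiberι y) (pullback.fst _ _) (pullback.snd _ _)
    (IsPullback.of_hasPullback _ _) x'
  rw [hx'1] at hsq
  rw [← hsq, Groth.Agent.Lib.H86RelDimZero.fibreDimAt_eq_zero_iff]
  exact Scheme.Hom.quasiFiniteAt _ x'

open CategoryTheory.Limits in
/-- Let X and Y be affine schemes, f : X ⟶ Y of finite type, y a point of f(X), e the dimension of the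
fibre over y, and g a Y-morphism from X to the affine space of dimension e over Y whose base change
to the fibre of the affine space over y is finite. Then that base change is surjective, and g is
locally quasi-finite on some open U ⊆ X that contains the fibre f⁻¹(y). -/
theorem result {X Y : Scheme.{u}} [IsAffine X] [IsAffine Y]
    (f : X ⟶ Y) [LocallyOfFiniteType f] (y : Y) (hy : y ∈ Set.range f.base) (e : ℕ)
    (he : topologicalKrullDim ↥(f.fiber y) = e) (g : X ⟶ 𝔸(ULift.{u} (Fin e); Y)) (hg : g ≫ (𝔸(ULift.{u} (Fin e); Y) ↘ Y) = f)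
    (hfin : IsFinite (pullback.snd g ((𝔸(ULift.{u} (Fin e); Y) ↘ Y).fiberι y))) :
    Function.Surjective (pullback.snd g ((𝔸(ULift.{u} (Fin e); Y) ↘ Y).fiberι y)).base ∧
      ∃ U : X.Opens, f.base ⁻¹' {y} ⊆ (U : Set X) ∧ LocallyQuasiFinite (U.ι ≫ g) := by
  exact main f y hy e he g hg hfin

end Groth.Agent.S3395
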