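-- Statement S3396.
import Groth.Statements.S3396
import Groth.Agent.Lib.H30EquidimAt
import Groth.Agent.S3391
import Mathlib

set_option autoImplicit false
open CategoryTheory AlgebraicGeometry
universe u
open EGA43

namespace Groth.Agent.S3396

open Groth.Agent.Lib.H30EquidimAt Groth.Agent.Lib.H30DimRel

theorem main {X Y : Scheme.{u}} [IsLocallyNoetherian Y] (f : X ⟶ Y)
    [LocallyOfFiniteType f] (x : X) (h : EGA43.IsEquidimAt f x)
    (hcat : CAlg.IsUniversallyCatenary (Y.presheaf.stalk (f.base x)))
    (hY : EGA4.IsEquidim (Y.presheaf.stalk (f.base x))) :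
    EGA4.IsEquidim (X.presheaf.stalk x) := by
  haveI : IsLocallyNoetherian X := LocallyOfFiniteType.isLocallyNoetherian f
  obtain ⟨e, he, hmin⟩ := dim_quot_add f x hY hcat h
  obtain ⟨p₀, hp₀, hpdim⟩ := exists_minimalPrimes_dim_eq (X.presheaf.stalk x) ringKrullDim_lt_top
  intro p hp
  have h1 := hmin p hp
  have h0 := hmin p₀ hp₀
  rw [← h0, hpdim] at h1
  exact Groth.Agent.S3391.withBot_add_nat_cancel _ h1

/-- Let Y be locally Noetherian, f : X ⟶ Y locally of finite type and equidimensional at the point x,
and suppose the local ring O_{Y,f x} is universally catenary. If O_{Y,f x} is equidimensional, then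
so is O_{X,x}. -/
theorem result {X Y : Scheme.{u}} [IsLocallyNoetherian Y] (f : X ⟶ Y)
    [LocallyOfFiniteType f] (x : X) (h : EGA43.IsEquidimAt f x)
    (hcat : CAlg.IsUniversallyCatenary (Y.presheaf.stalk (f.base x)))
    (hY : EGA4.IsEquidim (Y.presheaf.stalk (f.base x))) :
    EGA4.IsEquidim (X.presheaf.stalk x) := by
  exact main f x h hcat hY

end Groth.Agent.S3396
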