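import Groth.Statements.S3399

set_option autoImplicit false
open CategoryTheory AlgebraicGeometry
universe u
open EGA41

namespace Groth.Agent.S3399

open Topology in
/-- Let f : X' ⟶ X be a morphism locally of finite presentation and E' an ind-constructible subset of
X'. Then f(E') is ind-constructible in X; in particular f(X') is ind-constructible. -/
theorem result {X' X : Scheme.{u}} (f : X' ⟶ X)
    [LocallyOfFinitePresentation f] (E' : Set X') (hE' : ProCons.IsIndConstructible E') :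
    ProCons.IsIndConstructible (f.base '' E') := by
  intro x
  obtain ⟨U, hU, hxU, -⟩ := exists_isAffineOpen_mem_and_subset (U := ⊤) (x := x) (by simp)
  refine ⟨(U : Set X), U.2, hxU,
    {T | IsLocallyConstructible T ∧ T ⊆ (Subtype.val ⁻¹' (f.base '' E') : Set ↥(U : Set X))},
    fun T hT => hT.1, ?_⟩
  apply Set.Subset.antisymm
  · rintro ⟨z, hzU⟩ ⟨x', hx'E, rfl⟩
    -- local description of E' around x'
    obtain ⟨U', hU'open, hx'U', S', hS', hES'⟩ := hE' x'
    have hmem : (⟨x', hx'U'⟩ : ↥U') ∈ (Subtype.val ⁻¹' E' : Set ↥U') := hx'E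
    rw [hES'] at hmem
    obtain ⟨T', hT'S', hx'T'⟩ := hmem
    have hT'lc := hS' T' hT'S'
    have hT'E : ∀ w : ↥U', w ∈ T' → w.1 ∈ E' := fun w hw => by
      have : w ∈ (Subtype.val ⁻¹' E' : Set ↥U') := by rw [hES']; exact ⟨T', hT'S', hw⟩
      exact this
    -- an affine open neighbourhood of x' inside U' ∩ f⁻¹ U
    obtain ⟨W', hW', hx'W', hW'le⟩ := exists_isAffineOpen_mem_and_subset
      (U := (⟨U', hU'open⟩ : X'.Opens) ⊓ f ⁻¹ᵁ U) (x := x') ⟨hx'U', hzU⟩
    have e : W' ≤ f ⁻¹ᵁ U := fun w hw => (hW'le hw).2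
    have eU' : (W' : Set X') ⊆ U' := fun w hw => (hW'le hw).1
    let g : W'.toScheme ⟶ U.toScheme := f.resLE U W' e
    have : IsAffine W'.toScheme := hW'
    have : IsAffine U.toScheme := hU
    have : QuasiCompact g := inferInstance
    let ι : ↥(W' : Set X') → ↥U' := Set.inclusion eU'
    have hι : IsOpenEmbedding ι :=
      IsOpenEmbedding.inclusion eU' (W'.2.preimage continuous_subtype_val)
    have hs : IsLocallyConstructible (ι ⁻¹' T') := hT'lc.preimage_of_isOpenEmbedding hι
    have hgs : IsLocallyConstructible (g.base '' (ι ⁻¹' T')) := g.isLocallyConstructible_image hs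
    refine ⟨g.base '' (ι ⁻¹' T'), ⟨hgs, ?_⟩, ?_⟩
    · rintro _ ⟨w, hw, rfl⟩
      refine ⟨w.1, hT'E _ hw, ?_⟩
      exact (Scheme.Hom.coe_resLE_apply f e w).symm
    · refine ⟨⟨x', hx'W'⟩, hx'T', ?_⟩
      apply Subtype.ext
      exact Scheme.Hom.coe_resLE_apply f e ⟨x', hx'W'⟩
  · rintro z ⟨T, ⟨-, hT⟩, hzT⟩
    exact hT hzT

end Groth.Agent.S3399
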