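import Groth.Statements.S3400
import Groth.Agent.Lib.ConsTop5
import Groth.Agent.S3398
import Mathlib.AlgebraicGeometry.Limits
import Mathlib.AlgebraicGeometry.Morphisms.QuasiSeparated

set_option autoImplicit false
open CategoryTheory AlgebraicGeometry
universe u
open EGA41

namespace Groth.Agent.S3400

open Groth.Agent.Lib.ConsTop CategoryTheory.Limits in
/-- Let X be a quasi-compact and quasi-separated scheme. A subset E of X is pro-constructible if and
only if there are an affine scheme X' and a morphism f : X' ⟶ X with f(X') = E. -/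
theorem result (X : Scheme.{u}) [CompactSpace X] [QuasiSeparatedSpace X]
    (E : Set X) :
    ProCons.IsProConstructible E ↔ ∃ (X' : Scheme.{u}) (f : X' ⟶ X), IsAffine X' ∧ Set.range f.base = E := by
  constructor
  · intro hE
    obtain ⟨s, hs, hcov⟩ := (isCompact_and_isOpen_iff_finite_and_eq_biUnion_affineOpens
      (X := X) (U := Set.univ)).mp ⟨isCompact_univ, isOpen_univ⟩
    have : Finite ↥s := hs
    -- for each affine open of the cover, the affine scheme mapping onto `E ∩ U`
    let EU : ∀ U : ↥s, Set (PrimeSpectrum Γ(X, (U.1 : X.Opens))) :=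
      fun U => U.1.2.fromSpec.base ⁻¹' E
    have hEU : ∀ U : ↥s, ProCons.IsProConstructible
        (X := (Spec Γ(X, (U.1 : X.Opens)) : Scheme.{u})) (EU U) :=
      fun U => isProConstructible_preimage U.1.2.fromSpec hE
    let Y : ↥s → Scheme.{u} := fun U =>
      Spec (CommRingCat.of (PiResidue Γ(X, (U.1 : X.Opens)) (EU U)))
    let g : ∀ U : ↥s, Y U ⟶ X := fun U =>
      Spec.map (CommRingCat.ofHom (piResidueMap Γ(X, (U.1 : X.Opens)) (EU U))) ≫ U.1.2.fromSpec
    have hg : ∀ U : ↥s, Set.range (g U).base = E ∩ (U.1 : X.Opens) := by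
      intro U
      have h1 := range_specMap_piResidueMap Γ(X, (U.1 : X.Opens)) (EU U) (hEU U)
      have h2 : Set.range U.1.2.fromSpec.base = (U.1 : X.Opens) := U.1.2.range_fromSpec
      simp only [g, Scheme.Hom.comp_base, TopCat.hom_comp, ContinuousMap.coe_comp,
        Set.range_comp]
      rw [h1]
      change U.1.2.fromSpec.base '' (U.1.2.fromSpec.base ⁻¹' E) = _
      rw [Set.image_preimage_eq_inter_range, h2]
    have : ∀ U, IsAffine (Y U) := fun U => inferInstanceAs (IsAffine (Spec _))
    refine ⟨∐ Y, Sigma.desc g, inferInstance, ?_⟩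
    apply Set.Subset.antisymm
    · rintro _ ⟨y, rfl⟩
      obtain ⟨⟨U, w⟩, rfl⟩ := (sigmaMk Y).surjective y
      rw [sigmaMk_mk, ← Scheme.Hom.comp_apply, Sigma.ι_desc]
      exact ((hg U).le ⟨w, rfl⟩).1
    · intro x hxE
      have hx : x ∈ (Set.univ : Set X) := trivial
      rw [hcov] at hx
      obtain ⟨U, hUs, hxU⟩ := Set.mem_iUnion₂.mp hx
      obtain ⟨w, rfl⟩ := (hg ⟨U, hUs⟩).ge ⟨hxE, hxU⟩
      refine ⟨Sigma.ι Y ⟨U, hUs⟩ w, ?_⟩
      rw [← Scheme.Hom.comp_apply, Sigma.ι_desc]
  · rintro ⟨X', f, hX', rfl⟩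
    have := Groth.Agent.S3398.result f Set.univ isProConstructible_univ
    rwa [Set.image_univ] at this

end Groth.Agent.S3400
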