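import Groth.Statements.S3401
import Groth.Agent.Lib.ConsTop2
import Mathlib.AlgebraicGeometry.Noetherian

set_option autoImplicit false
open CategoryTheory AlgebraicGeometry
universe u
open EGA41

namespace Groth.Agent.S3401

open Topology in
/-- Around each point, a constructible set or its complement contains a locally closed
neighbourhood piece. -/
theorem exists_open_closed_of_isConstructible {X : Type*} [TopologicalSpace X] {C : Set X}
    (hC : IsConstructible C) : ∀ x : X,
      (x ∈ C → ∃ O K : Set X, IsOpen O ∧ IsClosed K ∧ x ∈ O ∧ x ∈ K ∧ O ∩ K ⊆ C) ∧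
      (x ∉ C → ∃ O K : Set X, IsOpen O ∧ IsClosed K ∧ x ∈ O ∧ x ∈ K ∧ O ∩ K ⊆ Cᶜ) := by
  induction hC using IsConstructible.empty_union_induction with
  | open_retrocompact U hUo hUc =>
    intro x
    refine ⟨fun hx => ⟨U, Set.univ, hUo, isClosed_univ, hx, trivial, Set.inter_subset_left⟩,
      fun hx => ⟨Set.univ, Uᶜ, isOpen_univ, hUo.isClosed_compl, trivial, hx,
        Set.inter_subset_right⟩⟩
  | union s hs t ht hs' ht' =>
    intro x
    constructor
    · rintro (hx | hx)
      · obtain ⟨O, K, hO, hK, hxO, hxK, hOK⟩ := (hs' x).1 hx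
        exact ⟨O, K, hO, hK, hxO, hxK, hOK.trans Set.subset_union_left⟩
      · obtain ⟨O, K, hO, hK, hxO, hxK, hOK⟩ := (ht' x).1 hx
        exact ⟨O, K, hO, hK, hxO, hxK, hOK.trans Set.subset_union_right⟩
    · intro hx
      have hxs : x ∉ s := fun h => hx (Or.inl h)
      have hxt : x ∉ t := fun h => hx (Or.inr h)
      obtain ⟨O₁, K₁, hO₁, hK₁, hxO₁, hxK₁, hOK₁⟩ := (hs' x).2 hxs
      obtain ⟨O₂, K₂, hO₂, hK₂, hxO₂, hxK₂, hOK₂⟩ := (ht' x).2 hxt
      refine ⟨O₁ ∩ O₂, K₁ ∩ K₂, hO₁.inter hO₂, hK₁.inter hK₂, ⟨hxO₁, hxO₂⟩, ⟨hxK₁, hxK₂⟩, ?_⟩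
      rintro y ⟨⟨hy1, hy2⟩, hy3, hy4⟩ (hy | hy)
      · exact hOK₁ ⟨hy1, hy3⟩ hy
      · exact hOK₂ ⟨hy2, hy4⟩ hy
  | compl s hs hs' =>
    intro x
    refine ⟨fun hx => (hs' x).2 hx, fun hx => ?_⟩
    have hx' : x ∈ s := by simpa using hx
    obtain ⟨O, K, hO, hK, hxO, hxK, hOK⟩ := (hs' x).1 hx'
    exact ⟨O, K, hO, hK, hxO, hxK, by simpa using hOK⟩

open Topology Groth.Agent.Lib.ConsTop in
/-- Let X be a scheme and E a subset of X. If E is ind-constructible then for every point x of E the set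
E ∩ cl{x} is a neighbourhood of x in cl{x}; when X is locally Noetherian the converse holds. (As
published, the necessity clause quantifies over all points x of X; for x outside E the condition
cannot hold, and the argument uses x ∈ E, so it is stated here for x ∈ E.) Stated as an equivalence
for X locally Noetherian. -/
theorem result (X : Scheme.{u}) [IsLocallyNoetherian X]
    (E : Set X) :
    ProCons.IsIndConstructible E ↔
      ∀ x ∈ E, (Subtype.val ⁻¹' E : Set ↥(closure ({x} : Set X))) ∈ nhds (⟨x, subset_closure rfl⟩ : ↥(closure ({x} : Set X))) := by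
  constructor
  · intro hE x hxE
    obtain ⟨U, hU, hxU, S, hS, hES⟩ := hE x
    have hmem : (⟨x, hxU⟩ : ↥U) ∈ (Subtype.val ⁻¹' E : Set ↥U) := hxE
    rw [hES] at hmem
    obtain ⟨T, hTS, hxT⟩ := hmem
    obtain ⟨V, hVo, hVc, hxV, hVU, hVT⟩ := exists_isConstructible_nhd hU T (hS T hTS) x hxU
    have hCE : V ∩ Subtype.val '' T ⊆ E := by
      rintro _ ⟨-, w, hwT, rfl⟩
      have : w ∈ (Subtype.val ⁻¹' E : Set ↥U) := by rw [hES]; exact ⟨T, hTS, hwT⟩
      exact this
    obtain ⟨O, K, hO, hK, hxO, hxK, hOK⟩ :=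
      (exists_open_closed_of_isConstructible hVT x).1 ⟨hxV, ⟨x, hxU⟩, hxT, rfl⟩
    rw [mem_nhds_iff]
    refine ⟨Subtype.val ⁻¹' O, ?_, hO.preimage continuous_subtype_val, hxO⟩
    rintro ⟨y, hy⟩ hyO
    apply hCE
    apply hOK
    refine ⟨hyO, ?_⟩
    exact (closure_minimal (Set.singleton_subset_iff.mpr hxK) hK) hy
  · intro h x₀
    obtain ⟨U, hU, hxU, -⟩ := exists_isAffineOpen_mem_and_subset (U := ⊤) (x := x₀) (by simp)
    refine ⟨(U : Set X), U.2, hxU,
      {T | IsLocallyConstructible T ∧ T ⊆ (Subtype.val ⁻¹' E : Set ↥(U : Set X))},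
      fun T hT => hT.1, ?_⟩
    apply Set.Subset.antisymm
    · rintro ⟨z, hzU⟩ hzE
      have hz := h z hzE
      rw [mem_nhds_iff] at hz
      obtain ⟨N, hNE, hNo, hzN⟩ := hz
      obtain ⟨O, hO, rfl⟩ := isOpen_induced_iff.mp hNo
      have : IsAffine U.toScheme := hU
      have : IsNoetherian U.toScheme := { }
      have hns : TopologicalSpace.NoetherianSpace U.toScheme := inferInstance
      let T : Set U.toScheme := U.ι.base ⁻¹' O ∩ U.ι.base ⁻¹' closure ({z} : Set X)
      have hT1 : IsConstructible (U.ι.base ⁻¹' O : Set U.toScheme) :=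
        IsRetrocompact.isConstructible (hO.preimage U.ι.continuous)
          (fun _ _ _ => TopologicalSpace.NoetherianSpace.isCompact _)
      have hT2 : IsConstructible (U.ι.base ⁻¹' closure ({z} : Set X) : Set U.toScheme) := by
        have : IsConstructible ((U.ι.base ⁻¹' closure ({z} : Set X))ᶜ : Set U.toScheme) :=
          IsRetrocompact.isConstructible
            (isClosed_closure.preimage U.ι.continuous).isOpen_compl
            (fun _ _ _ => TopologicalSpace.NoetherianSpace.isCompact _)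
        exact this.of_compl
      refine ⟨T, ⟨(hT1.inter hT2).isLocallyConstructible, ?_⟩, ?_⟩
      · rintro ⟨y, hyU⟩ ⟨hyO, hycl⟩
        exact hNE (a := ⟨y, hycl⟩) hyO
      · exact ⟨hzN, subset_closure rfl⟩
    · rintro z ⟨T, ⟨-, hT⟩, hzT⟩
      exact hT hzT

end Groth.Agent.S3401
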