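import Groth.Statements.S3402
import Groth.Agent.Lib.ConsTop2

set_option autoImplicit false
open CategoryTheory AlgebraicGeometry
universe u
open EGA41

namespace Groth.Agent.S3402

open Topology Groth.Agent.Lib.ConsTop in
/-- A subset E of a scheme X is locally constructible if and only if it is both ind-constructible and
pro-constructible. -/
theorem result (X : Scheme.{u}) (E : Set X) :
    Topology.IsLocallyConstructible E ↔ ProCons.IsIndConstructible E ∧ ProCons.IsProConstructible E := by
  constructor
  · intro h
    exact ⟨isIndConstructible_of_isLocallyConstructible h,
      isProConstructible_of_isLocallyConstructible h⟩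
  · rintro ⟨hind, hpro⟩ x
    obtain ⟨U, hU, hxU, -⟩ := exists_isAffineOpen_mem_and_subset (U := ⊤) (x := x) (by simp)
    refine ⟨(U : Set X), U.2.mem_nhds hxU, U.2, ?_⟩
    have : IsAffine U.toScheme := hU
    have h1 : IsOpen[constructibleTopology U.toScheme] (U.ι.base ⁻¹' E) :=
      isOpen_constructibleTopology_of_isIndConstructible (isIndConstructible_preimage U.ι hind)
    have h2 : IsClosed[constructibleTopology U.toScheme] (U.ι.base ⁻¹' E) :=
      isClosed_constructibleTopology_of_isProConstructible (isProConstructible_preimage U.ι hpro)
    have h3 : IsConstructible (U.ι.base ⁻¹' E) :=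
      isConstructible_of_isClopen_constructibleTopology (X := U.toScheme) h2 h1
    exact h3

end Groth.Agent.S3402
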