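import Groth.Statements.S3403
import Groth.Agent.Lib.ConsTop3

set_option autoImplicit false
open CategoryTheory AlgebraicGeometry
universe u
open EGA41

namespace Groth.Agent.S3403

open Topology Groth.Agent.Lib.ConsTop in
/-- Let X be a scheme, E an ind-constructible subset of X and x a point of X. Then x is an interior
point of E if and only if every generization of x belongs to E. -/
theorem result (X : Scheme.{u}) (E : Set X)
    (hE : ProCons.IsIndConstructible E) (x : X) :
    x ∈ interior E ↔ ∀ x' : X, x' ⤳ x → x' ∈ E := by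
  constructor
  · intro hx x' hx'
    exact interior_subset (hx'.mem_open isOpen_interior hx)
  · intro h
    obtain ⟨U, hU, hxU, -⟩ := exists_isAffineOpen_mem_and_subset (U := ⊤) (x := x) (by simp)
    have : IsAffine U.toScheme := hU
    let w : U.toScheme := ⟨x, hxU⟩
    -- the family of compact open neighbourhoods of `w`
    let ι := {V : Set U.toScheme // IsOpen V ∧ IsCompact V ∧ w ∈ V}
    have hF : ∀ V : ι, ProCons.IsProConstructible (V.1 : Set U.toScheme) := fun V =>
      isProConstructible_of_isLocallyConstructible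
        ((V.2.2.1.isConstructible V.2.1).isLocallyConstructible)
    have hsub : ⋂ V : ι, (V.1 : Set U.toScheme) ⊆ U.ι.base ⁻¹' E := by
      intro w' hw'
      apply h
      have hspec : w' ⤳ w := by
        rw [specializes_iff_forall_open]
        intro O hO hwO
        obtain ⟨V, ⟨hVo, hVc⟩, hwV, hVO⟩ :=
          (PrespectralSpace.isTopologicalBasis (X := U.toScheme)).exists_subset_of_mem_open hwO hO
        exact hVO (Set.mem_iInter.mp hw' ⟨V, hVo, hVc, hwV⟩)
      exact hspec.map U.ι.continuous
    obtain ⟨J, hJ⟩ := exists_finset_biInter_subset_of_spectral (W := U.toScheme)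
      (isIndConstructible_preimage U.ι hE) (fun V : ι => (V.1 : Set U.toScheme)) hF hsub
    have hopen : IsOpen (⋂ V ∈ J, (V.1 : Set U.toScheme)) :=
      isOpen_biInter_finset fun V _ => V.2.1
    have hw : w ∈ ⋂ V ∈ J, (V.1 : Set U.toScheme) :=
      Set.mem_iInter₂.mpr fun V _ => V.2.2.2
    rw [mem_interior]
    refine ⟨U.ι.base '' (⋂ V ∈ J, (V.1 : Set U.toScheme)), ?_,
      U.ι.isOpenEmbedding.isOpenMap _ hopen, ⟨w, hw, rfl⟩⟩
    rintro _ ⟨w', hw', rfl⟩
    exact hJ hw'

end Groth.Agent.S3403
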