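import Groth.Statements.S3406
import Mathlib
import Groth.Agent.S5768

set_option autoImplicit false
universe u
open EGA41

namespace Groth.Agent.S3406

section Helpers

open Module PrimeSpectrum Groth.Agent.S5768

theorem ofList_ofFn {A : Type u} [CommRing A] {n : ℕ} (x : Fin n → A) :
    Ideal.ofList (List.ofFn x) = Ideal.span (Set.range x) := by
  unfold Ideal.ofList
  congr 1
  ext a
  simp [List.mem_ofFn]

theorem main (A : Type u) [CommRing A] [IsNoetherianRing A]
    [Finite (MaximalSpectrum A)] (M : Type u) [AddCommGroup M] [Module A M] [Module.Finite A M] [Nontrivial M] :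
    Module.supportDim A M =
      sInf {k : WithBot ℕ∞ | ∃ (n : ℕ) (x : Fin n → A), k = n ∧ (∀ i, x i ∈ Ring.jacobson A) ∧
        IsFiniteLength A (M ⧸ (Ideal.span (Set.range x) • (⊤ : Submodule A M)))} := by
  apply le_antisymm
  · apply le_sInf
    rintro k ⟨n, x, rfl, hx, hfl⟩
    have h1 := supportDim_le_list A (List.ofFn x) (by
      intro y hy
      obtain ⟨i, rfl⟩ := (List.mem_ofFn' x y).mp hy
      exact hx i) M
    rw [ofList_ofFn, List.length_ofFn] at h1
    have h2 := (isFiniteLength_iff_supportDim_le_zero A _).mp hfl
    calc supportDim A M ≤ _ := h1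
      _ ≤ 0 + (n : WithBot ℕ∞) := by gcongr
      _ = n := zero_add _
  · obtain ⟨n, hn⟩ := exists_nat_eq_supportDim A M
    obtain ⟨ys, hys, hlen, hfl⟩ := exists_sop A n M hn
    apply sInf_le
    refine ⟨ys.length, ys.get, by rw [hn, hlen], fun i => hys _ (List.get_mem ys i), ?_⟩
    have : Ideal.span (Set.range ys.get) = Ideal.ofList ys := by
      unfold Ideal.ofList
      rw [Set.range_list_get]
    rw [this]
    exact hfl

end Helpers


/-- The equality s(M) = dim(M): let A be a Noetherian ring with finitely many maximal ideals, r its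
Jacobson radical and M a nonzero finitely generated A-module. Then the dimension of M (the Krull
dimension of its support) is the least n for which there are elements x_1, …, x_n of r such that
M/(x_1 M + ⋯ + x_n M) has finite length. -/
theorem result (A : Type u) [CommRing A] [IsNoetherianRing A]
    [Finite (MaximalSpectrum A)] (M : Type u) [AddCommGroup M] [Module A M] [Module.Finite A M] [Nontrivial M] :
    Module.supportDim A M =
      sInf {k : WithBot ℕ∞ | ∃ (n : ℕ) (x : Fin n → A), k = n ∧ (∀ i, x i ∈ Ring.jacobson A) ∧
        IsFiniteLength A (M ⧸ (Ideal.span (Set.range x) • (⊤ : Submodule A M)))} := by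
  exact main A M

end Groth.Agent.S3406
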