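import Groth.Statements.S3411
import Groth.Agent.Lib.H59NGeom4

set_option autoImplicit false
open CategoryTheory AlgebraicGeometry
universe u
open EGA43

namespace Groth.Agent.S3411

/-- Let Y be locally Noetherian and f : X ⟶ Y separated and quasi-finite; for z in Y let n(z) be the
geometric number of points of the fibre over z (equivalently, since the fibres are finite, the
geometric number of its connected components). If y is a point such that f is universally open at
every point of the fibre over y, then n is lower semicontinuous at y: n(y) ≤ n(z) for all z in a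
neighbourhood of y. -/
theorem result {X Y : Scheme.{u}} [IsLocallyNoetherian Y] (f : X ⟶ Y)
    [IsSeparated f] [LocallyQuasiFinite f] [LocallyOfFiniteType f] [QuasiCompact f] (y : Y)
    (h : ∀ x : X, f.base x = y → EGA43.IsUnivOpenAt f x) :
    ∃ V ∈ nhds y, ∀ z ∈ V, MoreMor.nGeomConnComp f y ≤ MoreMor.nGeomConnComp f z := by
  have hopenAt : ∀ {E : Scheme.{u}} (e : E ⟶ Y) (z : ↑(Limits.pullback f e)),
      f (Limits.pullback.fst f e z) = y → ∀ U ∈ nhds z,
        (Limits.pullback.snd f e) '' U ∈ nhds (Limits.pullback.snd f e z) :=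
    fun {E} e z hz U hU => h _ hz E e z rfl U hU
  obtain ⟨O, hO, hyO, hle⟩ :=
    Groth.Agent.Lib.H59NGeom.exists_nhds_fibreIntegral_one_le_of_openAt f y hopenAt
  refine ⟨O, hO.mem_nhds hyO, fun z hz => ?_⟩
  rw [Groth.Agent.Lib.H59NGeom.nGeomConnComp_eq, Groth.Agent.Lib.H59NGeom.nGeomConnComp_eq]
  exact_mod_cast Int.toNat_le_toNat (hle z hz)

end Groth.Agent.S3411
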