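import Groth.Statements.S3412
import Groth.Agent.Lib.H59NGeom4

set_option autoImplicit false
open CategoryTheory AlgebraicGeometry
universe u
open EGA43

namespace Groth.Agent.S3412

/-- Let Y be locally Noetherian, f : X ⟶ Y separated and quasi-finite, n(z) the geometric number of
points of the fibre over z, and y a point such that f is universally open at every point of the
fibre over y. If n is constant on a neighbourhood of y, then f is proper at y: there is an open
neighbourhood U of y such that the restriction of f over U is proper. -/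
theorem result {X Y : Scheme.{u}} [IsLocallyNoetherian Y] (f : X ⟶ Y)
    [IsSeparated f] [LocallyQuasiFinite f] [LocallyOfFiniteType f] [QuasiCompact f] (y : Y)
    (h : ∀ x : X, f.base x = y → EGA43.IsUnivOpenAt f x)
    (hc : ∃ V ∈ nhds y, ∀ z ∈ V, MoreMor.nGeomConnComp f z = MoreMor.nGeomConnComp f y) :
    ∃ U : Y.Opens, y ∈ U ∧ IsProper (f ∣_ U) := by
  have hopenAt : ∀ {E : Scheme.{u}} (e : E ⟶ Y) (z : ↑(Limits.pullback f e)),
      f (Limits.pullback.fst f e z) = y → ∀ U ∈ nhds z,
        (Limits.pullback.snd f e) '' U ∈ nhds (Limits.pullback.snd f e z) :=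
    fun {E} e z hz U hU => h _ hz E e z rfl U hU
  obtain ⟨V₀, hV₀, hconst⟩ := hc
  obtain ⟨O₀, hO₀V, hO₀open, hyO₀⟩ := mem_nhds_iff.mp hV₀
  have hI : ∀ z ∈ O₀, MoreMor.fibreIntegral f (fun _ => 1) z =
      MoreMor.fibreIntegral f (fun _ => 1) y := by
    intro z hz
    have h1 := hconst z (hO₀V hz)
    rw [Groth.Agent.Lib.H59NGeom.nGeomConnComp_eq, Groth.Agent.Lib.H59NGeom.nGeomConnComp_eq] at h1
    have h2 : (MoreMor.fibreIntegral f (fun _ => 1) z).toNat =
        (MoreMor.fibreIntegral f (fun _ => 1) y).toNat := by exact_mod_cast h1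
    have h3 := Int.toNat_of_nonneg (Groth.Agent.Lib.H59NGeom.fibreIntegral_one_nonneg f z)
    have h4 := Int.toNat_of_nonneg (Groth.Agent.Lib.H59NGeom.fibreIntegral_one_nonneg f y)
    omega
  obtain ⟨U, hyU, hUfin⟩ := Groth.Agent.Lib.H59NGeom.exists_isFinite_of_const_of_openAt f y
    hopenAt O₀ hO₀open hyO₀ hI
  exact ⟨U, hyU, inferInstance⟩

end Groth.Agent.S3412
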