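-- S3415: helper5: EGA IV 15.5.9(i): lower semicontinuity of the geometric number of connected components for proper f universally open along the fibre, via Stein factorisation (S0002+S0058) and spreading out n distinct geometric points by induction through (T x_Y T minus diagonal) -> T (Lib/GeomCompLSC5A-C)
import Groth.Statements.S3415
import Groth.Agent.S0002
import Groth.Agent.S0058
import Groth.Agent.Lib.GeomCompLSC5C

set_option autoImplicit false
open CategoryTheory AlgebraicGeometry
universe u
open EGA43

namespace Groth.Agent.S3415

/-- Let Y be locally Noetherian, f : X ⟶ Y proper and n(z) the geometric number of connected components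
of the fibre over z. If y is a point such that f is universally open at every point of the fibre
over y, then n is lower semicontinuous at y. -/
theorem result {X Y : Scheme.{u}} [IsLocallyNoetherian Y] (f : X ⟶ Y)
    [IsProper f] (y : Y) (h : ∀ x : X, f.base x = y → EGA43.IsUnivOpenAt f x) :
    ∃ V ∈ nhds y, ∀ z ∈ V, MoreMor.nGeomConnComp f y ≤ MoreMor.nGeomConnComp f z := by
  exact Groth.Agent.Lib.GeomCompLSC5.exists_nhds_nGeomConnComp_le
    (fun A _ _ X _ _ M hM n => Groth.Agent.S0002.result A X M hM n)
    (fun A _ _ I X _ _ M hM p => Groth.Agent.S0058.result A I X M hM p) f y h

end Groth.Agent.S3415
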