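-- S3416: helper5: EGA IV 15.5.9(ii): n_geom locally constant near y when f proper is universally open along X_y and X_y geometrically reduced. Lower bound = S3415; upper bound: constructibility of level sets (S1339, helper77) reduces to generizations z of y, DVR through z~>y (S4950, helper80), over the DVR X is flat (helper80 S4948-type), Gamma(X,O) finite free with Gamma/t geometrically reduced (gluing + saturation), count primes of K tensor Gamma via Stein factorisation (Lib/LocConst5A-E)
import Groth.Statements.S3416
import Groth.Agent.S0002
import Groth.Agent.S0058
import Groth.Agent.Lib.LocConst5E

set_option autoImplicit false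
open CategoryTheory AlgebraicGeometry
universe u
open EGA43

namespace Groth.Agent.S3416

/-- Let Y be locally Noetherian, f : X ⟶ Y proper and n(z) the geometric number of connected components
of the fibre over z. Let y be a point such that f is universally open at every point of the fibre
over y and that fibre is geometrically reduced over the residue field of y. Then n is constant on a
neighbourhood of y. -/
theorem result {X Y : Scheme.{u}} [IsLocallyNoetherian Y]
    (f : X ⟶ Y) [IsProper f] (y : Y) (h : ∀ x : X, f.base x = y → EGA43.IsUnivOpenAt f x)
    (hred : GeometricallyReduced (f.fiberToSpecResidueField y)) :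
    ∃ V ∈ nhds y, ∀ z ∈ V, MoreMor.nGeomConnComp f z = MoreMor.nGeomConnComp f y := by
  exact Groth.Agent.Lib.LocConst5.exists_nhds_nGeomConnComp_eq
    (fun A _ _ X _ _ M hM n => Groth.Agent.S0002.result A X M hM n)
    (fun A _ _ I X _ _ M hM p => Groth.Agent.S0058.result A I X M hM p) f y h hred

end Groth.Agent.S3416
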