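import Groth.Statements.S3417
import Groth.Agent.Lib.H80DvrOpenFlat2
import Groth.Agent.S0421

set_option autoImplicit false
open CategoryTheory AlgebraicGeometry
universe u
open EGA43

namespace Groth.Agent.S3417

/-- Let A be a discrete valuation ring, Y = Spec A with closed point a and generic point b, and f : X ⟶
Y a morphism locally of finite type which is open (as a map of spaces). If X is connected and the
fibre over a is a reduced scheme, then the fibre over b is connected. (Stated with 'preconnected',
which also covers the empty case; a is the closed point and b the point specialising to every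
point.) -/
theorem result (A : Type u) [CommRing A] [IsDomain A]
    [IsDiscreteValuationRing A] {X : Scheme.{u}} (f : X ⟶ Spec (CommRingCat.of A)) [LocallyOfFiniteType f]
    (hopen : IsOpenMap f.base) [PreconnectedSpace X]
    (a b : ↥(Spec (CommRingCat.of A))) (ha : IsClosed ({a} : Set ↥(Spec (CommRingCat.of A))))
    (hb : ∀ z : ↥(Spec (CommRingCat.of A)), b ⤳ z)
    (hred : AlgebraicGeometry.IsReduced (f.fiber a)) :
    PreconnectedSpace ↥(f.fiber b) := by
  have ha' : a = IsLocalRing.closedPoint A := by
    have h1 : a.asIdeal.IsMaximal := (PrimeSpectrum.isClosed_singleton_iff_isMaximal a).mp ha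
    exact PrimeSpectrum.ext (IsLocalRing.eq_maximalIdeal h1)
  subst ha'
  have hb' : b = (⟨⊥, Ideal.isPrime_bot⟩ : PrimeSpectrum A) := by
    have h1 := hb (⟨⊥, Ideal.isPrime_bot⟩ : PrimeSpectrum A)
    have h2 : b.asIdeal ≤ ⊥ := (PrimeSpectrum.le_iff_specializes b _).mpr h1
    exact PrimeSpectrum.ext (le_bot_iff.mp h2)
  subst hb'
  have hflat : Flat f := Groth.Agent.Lib.H80DvrOpenFlat2.flat_of_isOpenMap_of_isReduced A f hopen hred
  rcases isEmpty_or_nonempty X with hX | hX
  · have : IsEmpty ↥(f.fiber (⟨⊥, Ideal.isPrime_bot⟩ : PrimeSpectrum A)) :=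
      Function.isEmpty (f.fiberι _).base
    infer_instance
  · have : ConnectedSpace X := { toPreconnectedSpace := inferInstance, toNonempty := hX }
    have := Groth.Agent.S0421.result f hred
    infer_instance

end Groth.Agent.S3417
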