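import Groth.Statements.S3418
import Groth.Agent.Lib.H59NGeom2

set_option autoImplicit false
open CategoryTheory AlgebraicGeometry
universe u
open EGA43

namespace Groth.Agent.S3418

/-- Let f : X ⟶ Y be flat, locally of finite presentation, separated and quasi-finite, and let n(y) be
the geometric number of points of the fibre over y. Then n is lower semicontinuous on Y, and if n is
constant on a neighbourhood of a point y₀ then f is proper over some open neighbourhood of y₀. -/
theorem result {X Y : Scheme.{u}} (f : X ⟶ Y) [Flat f]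
    [LocallyOfFinitePresentation f] [IsSeparated f] [LocallyQuasiFinite f] [QuasiCompact f] :
    LowerSemicontinuous (fun z : Y => MoreMor.nGeomConnComp f z) ∧
      ∀ y₀ : Y, (∃ V ∈ nhds y₀, ∀ z ∈ V, MoreMor.nGeomConnComp f z = MoreMor.nGeomConnComp f y₀) →
        ∃ U : Y.Opens, y₀ ∈ U ∧ IsProper (f ∣_ U) := by
  classical
  have hfin : ∀ v : Y, (f ⁻¹' {v}).Finite := fun v => f.finite_preimage_singleton v
  have hn : ∀ z, MoreMor.nGeomConnComp f z =
      ((MoreMor.fibreIntegral f (fun _ => 1) z).toNat : ℕ∞) :=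
    Groth.Agent.Lib.H59NGeom.nGeomConnComp_eq f
  have hnonneg : ∀ z, 0 ≤ MoreMor.fibreIntegral f (fun _ => 1) z := by
    intro z
    unfold MoreMor.fibreIntegral
    exact finsum_nonneg fun u => mul_nonneg zero_le_one (Int.natCast_nonneg _)
  -- the partial count is at most the full one
  have hmono : ∀ {E : Scheme.{u}} (e : E ⟶ Y) (U : (Limits.pullback f e).Opens) (ε' : E),
      Groth.Agent.Lib.H59FibInt.J (Limits.pullback.snd f e) (U : Set ↑(Limits.pullback f e))
        (fun _ => 1) ε' ≤ MoreMor.fibreIntegral f (fun _ => 1) (e ε') := by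
    intro E e U ε'
    rw [Groth.Agent.Lib.H59Weight.fibreIntegral_eq_J_pullback f hfin (fun _ => 1) e ε']
    refine Groth.Agent.Lib.H59FibInt.J_mono _ _ ε' (fun _ => zero_le_one)
      (fun _ _ _ => Set.mem_univ _) ?_
    have := Groth.Agent.Lib.H59FibInt.finite_fibre_of_isPullback
      (IsPullback.of_hasPullback f e) ε' (hfin (e ε'))
    refine this.subset ?_
    rintro z ⟨hz, -⟩
    exact hz
  constructor
  · intro y₀ c hc
    obtain ⟨E, e, ε, N, U, he, heε, hN, hεN, hU, hle⟩ :=
      Groth.Agent.Lib.H59NGeom.exists_etale_chart_of_flat f y₀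
    refine Filter.mem_of_superset ((e.isOpenMap _ hN).mem_nhds ⟨ε, hεN, heε⟩) ?_
    rintro _ ⟨ε', hε', rfl⟩
    change c < MoreMor.nGeomConnComp f (e ε')
    refine lt_of_lt_of_le hc ?_
    change MoreMor.nGeomConnComp f y₀ ≤ MoreMor.nGeomConnComp f (e ε')
    rw [hn, hn]
    exact_mod_cast Int.toNat_le_toNat ((hle ε' hε').trans (hmono e U ε'))
  · rintro y₀ ⟨V₀, hV₀, hconst⟩
    obtain ⟨E, e, ε, N, U, he, heε, hN, hεN, hU, hle⟩ :=
      Groth.Agent.Lib.H59NGeom.exists_etale_chart_of_flat f y₀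
    obtain ⟨O₀, hO₀V, hO₀open, hy₀O₀⟩ := mem_nhds_iff.mp hV₀
    have hN'open : IsOpen (N ∩ e ⁻¹' O₀) := hN.inter (hO₀open.preimage e.continuous)
    have hεN' : ε ∈ N ∩ e ⁻¹' O₀ := ⟨hεN, by change e ε ∈ O₀; rw [heε]; exact hy₀O₀⟩
    have hI : ∀ ε' ∈ N ∩ e ⁻¹' O₀, MoreMor.fibreIntegral f (fun _ => 1) (e ε') =
        MoreMor.fibreIntegral f (fun _ => 1) y₀ := by
      rintro ε' ⟨-, hε'O⟩
      have h1 := hconst (e ε') (hO₀V hε'O)
      rw [hn, hn] at h1
      have h2 : (MoreMor.fibreIntegral f (fun _ => 1) (e ε')).toNat =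
          (MoreMor.fibreIntegral f (fun _ => 1) y₀).toNat := by exact_mod_cast h1
      have h3 := Int.toNat_of_nonneg (hnonneg (e ε'))
      have h4 := Int.toNat_of_nonneg (hnonneg y₀)
      omega
    have hsub : ∀ z : ↑(Limits.pullback f e), Limits.pullback.snd f e z ∈ N ∩ e ⁻¹' O₀ → z ∈ U := by
      intro z hz
      have hfib : {z' : ↑(Limits.pullback f e) | Limits.pullback.snd f e z' =
          Limits.pullback.snd f e z ∧ z' ∈ Set.univ}.Finite := by
        have := Groth.Agent.Lib.H59FibInt.finite_fibre_of_isPullback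
          (IsPullback.of_hasPullback f e) (Limits.pullback.snd f e z)
          (hfin (e (Limits.pullback.snd f e z)))
        refine this.subset ?_
        rintro z' ⟨hz', -⟩
        exact hz'
      refine Groth.Agent.Lib.H59Weight.mem_of_J_univ_le (Limits.pullback.snd f e)
        (U : Set ↑(Limits.pullback f e)) (fun _ => 1) (Limits.pullback.snd f e z)
        (fun _ => zero_lt_one) (fun z' => Groth.Agent.Lib.H59Weight.sepDeg_pos _ z') hfib ?_ z rfl
      rw [← Groth.Agent.Lib.H59Weight.fibreIntegral_eq_J_pullback f hfin (fun _ => 1) e, hI _ hz]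
      exact hle _ hz.1
    refine ⟨⟨e '' (N ∩ e ⁻¹' O₀), e.isOpenMap _ hN'open⟩, ⟨ε, hεN', heε⟩, ?_⟩
    have : IsFinite (f ∣_ (⟨e '' (N ∩ e ⁻¹' O₀), e.isOpenMap _ hN'open⟩ : Y.Opens)) :=
      Groth.Agent.Lib.H59Weight.isFinite_morphismRestrict_of_etale f e
        ⟨N ∩ e ⁻¹' O₀, hN'open⟩ _ rfl
        (Groth.Agent.Lib.H59Weight.isFinite_morphismRestrict_of_le (Limits.pullback.snd f e) U hU
          ⟨N ∩ e ⁻¹' O₀, hN'open⟩ (fun z hz => hsub z hz))
    infer_instance

end Groth.Agent.S3418
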