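import Groth.Statements.S4954
import Groth.Agent.S0402
import Groth.Agent.Lib.H30IrrFib
import Groth.Agent.Lib.DimIneqComponent

set_option autoImplicit false
open CategoryTheory AlgebraicGeometry
universe u v w
open EGA43

namespace Groth.Agent.S4954


open Groth.Agent.Lib.H30DimRel in
/-- The dimension of an irreducible connected component of a fibre (as a subspace of `X`) is the
local fibre dimension at any of its points. -/
theorem dim_connectedComponentIn_eq {X Y : Scheme.{u}} (f : X ⟶ Y) [LocallyOfFiniteType f]
    (x₀ : X)
    (hC : IsIrreducible (connectedComponentIn (f.base ⁻¹' {f.base x₀}) x₀)) :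
    topologicalKrullDim ↥(connectedComponentIn (f.base ⁻¹' {f.base x₀}) x₀) =
      FlatMor.fibreDimAt f x₀ := by
  set y := f.base x₀ with hy
  set F : Set X := f.base ⁻¹' {y} with hF
  set C : Set X := connectedComponentIn F x₀ with hCdef
  have hx₀F : x₀ ∈ F := rfl
  have hx₀C : x₀ ∈ C := mem_connectedComponentIn hx₀F
  have hCF : C ⊆ F := connectedComponentIn_subset F x₀
  -- `C` is closed in `F`
  have hCcl : C = F ∩ closure C := by
    apply Set.Subset.antisymm
    · exact fun c hc => ⟨hCF hc, subset_closure hc⟩
    · rintro c ⟨hcF, hcC⟩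
      have hpre : _root_.IsPreconnected (closure C ∩ F) := by
        have h1 : _root_.IsPreconnected C := isPreconnected_connectedComponentIn
        refine h1.subset_closure (fun c hc => ⟨subset_closure hc, hCF hc⟩) ?_
        exact Set.inter_subset_left
      have := hpre.subset_connectedComponentIn (x := x₀) ⟨subset_closure hx₀C, hx₀F⟩
        Set.inter_subset_right
      exact this ⟨hcC, hcF⟩
  -- generic point of `closure C`
  have hirr : IsIrreducible (closure C) := hC.closure
  obtain ⟨ξ, hξ⟩ := QuasiSober.sober hirr isClosed_closure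
  have hξcl : closure {ξ} = closure C := hξ.def
  have hfξ : f.base ξ = y := by
    have h1 : ξ ⤳ x₀ := by
      rw [specializes_iff_mem_closure, hξcl]; exact subset_closure hx₀C
    have h2 : f.base ξ ⤳ y := h1.map f.base.hom.continuous
    have h3 : y ⤳ f.base ξ := by
      rw [specializes_iff_mem_closure]
      have h4 : ξ ∈ closure C := by rw [← hξcl]; exact subset_closure rfl
      have h5 : f.base '' closure C ⊆ closure (f.base '' C) :=
        image_closure_subset_closure_image f.base.hom.continuous
      have h6 : f.base '' C ⊆ {y} := by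
        rintro _ ⟨c, hc, rfl⟩
        exact hCF hc
      exact closure_mono h6 (h5 ⟨ξ, h4, rfl⟩)
    exact (h2.antisymm h3).eq
  have hξC : ξ ∈ C := by
    rw [hCcl]
    refine ⟨hfξ, ?_⟩
    rw [← hξcl]; exact subset_closure rfl
  have hCeq : C = closure {ξ} ∩ f.base ⁻¹' {f.base ξ} := by
    rw [hfξ, hξcl, Set.inter_comm]
    exact hCcl
  -- the maximal fibre point computing the fibre dimension is `ξ`
  obtain ⟨w, hw1, hw2, hw3, hw4⟩ := Groth.Agent.Lib.H30IrrFib.exists_rt_eq_fibreDimAt f x₀
  have hwC : w ∈ C := by
    have hpre : _root_.IsPreconnected (closure {w} ∩ F) := by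
      have h1 : _root_.IsPreconnected ({w} : Set X) := isPreconnected_singleton
      refine h1.subset_closure ?_ Set.inter_subset_left
      rintro _ rfl
      exact ⟨subset_closure rfl, hw1⟩
    have hx₀w : x₀ ∈ closure {w} ∩ F := ⟨specializes_iff_mem_closure.mp hw2, hx₀F⟩
    have := hpre.subset_connectedComponentIn (x := x₀) hx₀w Set.inter_subset_right
    exact this ⟨subset_closure rfl, hw1⟩
  have hξw : ξ ⤳ w := by
    rw [specializes_iff_mem_closure, hξcl]; exact subset_closure hwC
  have hwξ : ξ = w := hw3 ξ (hfξ.trans hy) hξw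
  rw [← hw4, ← hwξ]
  show topologicalKrullDim ↥C = _
  rw [hCeq]
  exact Groth.Agent.Lib.DimIneqComponent.topologicalKrullDim_closure_inter_fibre f ξ (rt f ξ)
    (trdeg_eq_rt f ξ)

/-- Let f : X ⟶ Y be a morphism of finite presentation with a section g : Y ⟶ X, and for y in Y let
X_y^0 be the connected component of f⁻¹(y) containing g y. Suppose that every X_y^0 is geometrically
irreducible over κ(y) (its preimage in X_y ⊗ K is irreducible for every field extension K of κ(y)).
Then the function y ↦ dim X_y^0 is upper semicontinuous on Y. -/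
theorem result {X Y : Scheme.{u}} (f : X ⟶ Y)
    [LocallyOfFinitePresentation f] [QuasiCompact f] [QuasiSeparated f] (g : Y ⟶ X) (hg : g ≫ f = 𝟙 Y)
    (hirr : ∀ y : Y, (∀ (K : Type u) [Field K] [Algebra (IsLocalRing.ResidueField (Y.presheaf.stalk y)) K],
        IsIrreducible ((FBase.bcπ (f.fiberToSpecResidueField y) K ≫ f.fiberι y).base ⁻¹' connectedComponentIn (f.base ⁻¹' {y}) (g.base y)))) :
    UpperSemicontinuous (fun y : Y => topologicalKrullDim ↥(connectedComponentIn (f.base ⁻¹' {y}) (g.base y))) := by
  haveI : LocallyOfFiniteType f := inferInstance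
  have hfg : ∀ y : Y, f.base (g.base y) = y := by
    intro y
    have := congrArg (fun φ : Y ⟶ Y => φ.base y) hg
    simpa using this
  -- irreducibility of the section components
  have hC : ∀ y : Y, IsIrreducible (connectedComponentIn (f.base ⁻¹' {y}) (g.base y)) := by
    intro y
    have h := hirr y (IsLocalRing.ResidueField (Y.presheaf.stalk y))
    obtain ⟨π, hπ⟩ : ∃ π, π = (FBase.bcπ (f.fiberToSpecResidueField y)
      (IsLocalRing.ResidueField (Y.presheaf.stalk y)) ≫ f.fiberι y) := ⟨_, rfl⟩
    rw [← hπ] at h
    have hsurj : Function.Surjective (FBase.bcπ (f.fiberToSpecResidueField y)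
        (IsLocalRing.ResidueField (Y.presheaf.stalk y))).base := by
      unfold FBase.bcπ
      haveI : IsIso (Spec.map (CommRingCat.ofHom (algebraMap
          (IsLocalRing.ResidueField (Y.presheaf.stalk y))
          (IsLocalRing.ResidueField (Y.presheaf.stalk y))))) := by
        have : CommRingCat.ofHom (algebraMap (IsLocalRing.ResidueField (Y.presheaf.stalk y))
          (IsLocalRing.ResidueField (Y.presheaf.stalk y))) = 𝟙 _ := rfl
        rw [this]; infer_instance
      exact (inferInstance : Surjective (Limits.pullback.fst (f.fiberToSpecResidueField y)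
        (Spec.map (CommRingCat.ofHom (algebraMap
          (IsLocalRing.ResidueField (Y.presheaf.stalk y))
          (IsLocalRing.ResidueField (Y.presheaf.stalk y))))))).surj
    have hrange : Set.range π.base = f.base ⁻¹' {y} := by
      rw [hπ, Scheme.Hom.comp_base, TopCat.coe_comp, Set.range_comp, hsurj.range_eq,
        Set.image_univ, Scheme.Hom.range_fiberι]
    have hsub : connectedComponentIn (f.base ⁻¹' {y}) (g.base y) ⊆ Set.range π.base := by
      rw [hrange]; exact connectedComponentIn_subset _ _
    have := h.image π.base π.base.hom.continuous.continuousOn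
    rwa [Set.image_preimage_eq_of_subset hsub] at this
  have key : ∀ y : Y, topologicalKrullDim ↥(connectedComponentIn (f.base ⁻¹' {y}) (g.base y)) =
      FlatMor.fibreDimAt f (g.base y) := by
    intro y
    have h1 : IsIrreducible (connectedComponentIn (f.base ⁻¹' {f.base (g.base y)}) (g.base y)) := by
      rw [hfg y]; exact hC y
    have h2 := dim_connectedComponentIn_eq f (g.base y) h1
    rw [hfg y] at h2
    exact h2
  intro y₀ a ha
  simp only [key] at ha ⊢
  obtain ⟨w, -, -, -, hw4⟩ := Groth.Agent.Lib.H30IrrFib.exists_rt_eq_fibreDimAt f (g.base y₀)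
  have hopen := Groth.Agent.S0402.result f (Groth.Agent.Lib.H30DimRel.rt f w)
  have hmem : g.base y₀ ∈ {x : X | FlatMor.fibreDimAt f x ≤
      ((Groth.Agent.Lib.H30DimRel.rt f w : ℕ) : WithBot ℕ∞)} := le_of_eq hw4.symm
  have hpre := hopen.preimage g.base.hom.continuous
  filter_upwards [hpre.mem_nhds hmem] with y' hy'
  exact lt_of_le_of_lt hy' (hw4 ▸ ha)

end Groth.Agent.S4954
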