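import Groth.Statements.S3419
import Groth.Agent.S4954
import Groth.Agent.S4952

set_option autoImplicit false
open CategoryTheory AlgebraicGeometry
universe u
open EGA43

namespace Groth.Agent.S3419

/-- Let Y be locally Noetherian, f : X ⟶ Y locally of finite type and g a section of f; for y in Y let
X⁰_y be the connected component of the fibre f⁻¹(y) containing g(y). Suppose every X⁰_y is
irreducible. Then y ↦ dim X⁰_y is upper semicontinuous on Y; and if this function is constant on a
neighbourhood of a point y, then X⁰_y is contained in the closure of X⁰_{y'} for every generization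
y' of y. -/
theorem result {X Y : Scheme.{u}} [IsLocallyNoetherian Y] (f : X ⟶ Y)
    [LocallyOfFiniteType f] (g : Y ⟶ X) (hg : g ≫ f = 𝟙 Y)
    (hirr : ∀ y : Y, IsIrreducible (connectedComponentIn (f.base ⁻¹' {y}) (g.base y))) :
    UpperSemicontinuous (fun y : Y => topologicalKrullDim ↥(connectedComponentIn (f.base ⁻¹' {y}) (g.base y))) ∧
      ∀ y : Y, (∃ V ∈ nhds y, ∀ z ∈ V, topologicalKrullDim ↥(connectedComponentIn (f.base ⁻¹' {z}) (g.base z)) = topologicalKrullDim ↥(connectedComponentIn (f.base ⁻¹' {y}) (g.base y))) →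
        ∀ y' : Y, y' ⤳ y → connectedComponentIn (f.base ⁻¹' {y}) (g.base y) ⊆ closure (connectedComponentIn (f.base ⁻¹' {y'}) (g.base y')) := by
  have hfg : ∀ y : Y, f.base (g.base y) = y := by
    intro y
    have := congrArg (fun φ : Y ⟶ Y => φ.base y) hg
    simpa using this
  have key : ∀ y : Y, topologicalKrullDim ↥(connectedComponentIn (f.base ⁻¹' {y}) (g.base y)) =
      FlatMor.fibreDimAt f (g.base y) := by
    intro y
    have h1 : IsIrreducible (connectedComponentIn (f.base ⁻¹' {f.base (g.base y)}) (g.base y)) := by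
      rw [hfg y]; exact hirr y
    have h2 := Groth.Agent.S4954.dim_connectedComponentIn_eq f (g.base y) h1
    rw [hfg y] at h2
    exact h2
  refine ⟨?_, ?_⟩
  · intro y₀ a ha
    simp only [key] at ha ⊢
    obtain ⟨w, -, -, -, hw4⟩ := Groth.Agent.Lib.H30IrrFib.exists_rt_eq_fibreDimAt f (g.base y₀)
    have hopen := Groth.Agent.S0402.result f (Groth.Agent.Lib.H30DimRel.rt f w)
    have hmem : g.base y₀ ∈ {x : X | FlatMor.fibreDimAt f x ≤
        ((Groth.Agent.Lib.H30DimRel.rt f w : ℕ) : WithBot ℕ∞)} := le_of_eq hw4.symm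
    have hpre := hopen.preimage g.base.hom.continuous
    filter_upwards [hpre.mem_nhds hmem] with y' hy'
    exact lt_of_le_of_lt hy' (hw4 ▸ ha)
  · intro y hV y' hy'
    obtain ⟨V, hVn, hVc⟩ := hV
    have hy'V : y' ∈ V := by
      obtain ⟨U, hUV, hUo, hyU⟩ := mem_nhds_iff.mp hVn
      exact hUV (hy'.mem_open hUo hyU)
    have hdim := hVc y' hy'V
    have hmem' : g.base y' ∈ f.base ⁻¹' {y'} := hfg y'
    have hZ : ∃ Z : Set X, Z ⊆ f.base ⁻¹' {y'} ∧ IsIrreducible Z ∧
        (∀ Z' : Set X, IsIrreducible Z' → Z' ⊆ f.base ⁻¹' {y'} → Z ⊆ Z' → Z' = Z) ∧ g.base y' ∈ Z ∧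
        topologicalKrullDim ↥Z =
          topologicalKrullDim ↥(connectedComponentIn (f.base ⁻¹' {y'}) (g.base y')) := by
      refine ⟨connectedComponentIn (f.base ⁻¹' {y'}) (g.base y'), connectedComponentIn_subset _ _,
        hirr y', ?_, mem_connectedComponentIn hmem', rfl⟩
      intro Z' hZ'irr hZ'sub hle
      refine Set.Subset.antisymm ?_ hle
      exact hZ'irr.isConnected.isPreconnected.subset_connectedComponentIn
        (hle (mem_connectedComponentIn hmem')) hZ'sub
    exact (Groth.Agent.S4952.result f g hg y y' hy' hZ).2 (hirr y) hdim.symm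

end Groth.Agent.S3419
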