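import Groth.Statements.S3420
import Groth.Agent.Lib.H80SecOpenGen
import Groth.Agent.Lib.H80DvrUnivOpen2

set_option autoImplicit false
open CategoryTheory AlgebraicGeometry
universe u
open EGA43

namespace Groth.Agent.S3420

/-- Let Y be locally Noetherian, f : X ⟶ Y locally of finite type, g a section of f, X⁰_y the connected
component of f⁻¹(y) containing g(y) and X⁰ the union of the X⁰_y. If y is a point such that the
fibre over y is geometrically reduced at every point of X⁰_y and f is universally open at every
point of X⁰_y, then X⁰ is a neighbourhood of X⁰_y in X. In particular, if f is universally open and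
every fibre is geometrically reduced at the points of X⁰, then X⁰ is open in X. -/
theorem result {X Y : Scheme.{u}} [IsLocallyNoetherian Y] (f : X ⟶ Y)
    [LocallyOfFiniteType f] (g : Y ⟶ X) (hg : g ≫ f = 𝟙 Y) :
    (∀ y : Y, (∀ x ∈ connectedComponentIn (f.base ⁻¹' {y}) (g.base y), EGA43.IsUnivOpenAt f x ∧
        FBase.IsGeomReducedAt (f.fiberToSpecResidueField (f.base x)) (f.asFiber x)) →
      connectedComponentIn (f.base ⁻¹' {y}) (g.base y) ⊆ interior (MoreMor.sectionComponents f g)) ∧
    (UniversallyOpen f → (∀ x ∈ MoreMor.sectionComponents f g,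
        FBase.IsGeomReducedAt (f.fiberToSpecResidueField (f.base x)) (f.asFiber x)) →
      IsOpen (MoreMor.sectionComponents f g)) := by
  refine ⟨?_, ?_⟩
  · intro y hyp x hx
    rw [mem_interior_iff_mem_nhds]
    exact Groth.Agent.Lib.H80SecOpenGen.sectionComponents_mem_nhds_of_univOpen_geomReduced
      f g hg y hyp x hx
  · intro hUO hGR
    rw [isOpen_iff_mem_nhds]
    intro x hx
    have hfg : ∀ z : Y, f (g z) = z := fun z => by
      have := congrArg (fun φ : Y ⟶ Y => φ.base z) hg
      simpa using this
    apply Groth.Agent.Lib.H80SecOpenGen.sectionComponents_mem_nhds_of_univOpen_geomReduced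
      f g hg (f x) ?_ x hx
    intro ξ hξ
    have hfξ : f ξ = f x := (connectedComponentIn_subset _ _ hξ : ξ ∈ f ⁻¹' {f x})
    refine ⟨(Groth.Agent.Lib.H80DvrUnivOpen.universallyOpen_iff_forall_isUnivOpenAt f).mp hUO ξ,
      hGR ξ ?_⟩
    show ξ ∈ connectedComponentIn (f ⁻¹' {f ξ}) (g (f ξ))
    rw [hfξ]
    exact hξ

end Groth.Agent.S3420
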