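import Groth.Statements.S3429
import Groth.Agent.Lib.QuasiFlatGen
import Groth.Agent.Lib.H72FlatBaseChange
import Groth.Agent.Lib.ConsLocusMod
import Groth.Agent.Lib.SupportPullback

set_option autoImplicit false
open CategoryTheory AlgebraicGeometry
universe u
open EGA42

namespace Groth.Agent.S3429


/-- quasi-flatness is stable under base change -/
theorem isQuasiFlat_of_isPullback {X Y X' Y' : Scheme.{u}} {f : X ⟶ Y} {f' : X' ⟶ Y'}
    {g' : X' ⟶ X} {g : Y' ⟶ Y} (hc : IsPullback g' f' f g) (hf : FDesc.IsQuasiFlat f) :
    FDesc.IsQuasiFlat f' := by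
  obtain ⟨M, hcoh, hflat, hnt⟩ := hf
  haveI : M.IsQuasicoherent := hcoh.1
  haveI : M.IsFiniteType := hcoh.2
  refine ⟨(Scheme.Modules.pullback g').obj M,
    Groth.Agent.Lib.ConsLocusMod.isCoh_pullback g' M hcoh, ?_, ?_⟩
  · intro x'
    exact Groth.Agent.Lib.H72FlatBaseChange.isFlatOverAt_pullback_of_isPullback hc M x'
      (hflat (g' x'))
  · intro x'
    by_contra hcon
    rw [not_nontrivial_iff_subsingleton] at hcon
    have := (Groth.Agent.Lib.SupportPullback.subsingleton_stalk_pullback_iff g' M x').mp hcon
    exact not_subsingleton _ this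

/-- A morphism of schemes which is quasi-flat (some quasi-coherent module of finite type on the source,
flat over the base, has support the whole source) and locally of finite presentation is universally
open. -/
theorem result {X Y : Scheme.{u}} (f : X ⟶ Y)
    (hf : FDesc.IsQuasiFlat f) [LocallyOfFinitePresentation f] : UniversallyOpen f := by
  refine ⟨MorphismProperty.universally_mk' _ _ fun {T} g _ => ?_⟩
  have hc : IsPullback (Limits.pullback.snd g f) (Limits.pullback.fst g f) f g :=
    (IsPullback.of_hasPullback g f).flip
  have hqf := isQuasiFlat_of_isPullback hc hf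
  exact isOpenMap_of_generalizingMap _
    (Groth.Agent.Lib.QuasiFlatGen.generalizingMap_of_isQuasiFlat _ hqf)

end Groth.Agent.S3429
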