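import Groth.Statements.S3430
import Groth.Agent.Lib.H8NoetherSch
import Groth.Agent.Lib.H8DenseDim
import Groth.Agent.Lib.H87DenseAffine
import Groth.Agent.Lib.H30FlatDim

set_option autoImplicit false
open CategoryTheory AlgebraicGeometry
universe u
open EGA42

namespace Groth.Agent.S3430


open AlgebraicGeometry CategoryTheory
open Groth.Agent.Lib.H30DimField Groth.Agent.Lib.H30DimRel Groth.Agent.Lib.H30FlatDim
  Groth.Agent.Lib.H8NoetherSch Groth.Agent.Lib.H8DenseDim TopologicalSpace Groth.Agent.S7577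

/-- an integral extension does not raise the Krull dimension -/
theorem ringKrullDim_le_of_isIntegral (R S : Type*) [CommRing R] [CommRing S] [Algebra R S]
    [Algebra.IsIntegral R S] : ringKrullDim S ≤ ringKrullDim R := by
  refine Order.krullDim_le_of_strictMono (f := PrimeSpectrum.comap (algebraMap R S)) ?_
  intro a b hab
  exact Ideal.IsIntegral.comap_lt_comap (R := R) hab

section

variable (k : Type u) [Field k] (X : Scheme.{u}) [X.Over (Spec (CommRingCat.of k))]
  [LocallyOfFiniteType (X ↘ Spec (CommRingCat.of k))]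

/-- bound for the dimension by the transcendence degrees of the points -/
theorem dim_le_of_td_le (D : WithBot ℕ∞)
    (h : ∀ x : X, (((td k X x).toNat : ℕ) : WithBot ℕ∞) ≤ D) : topologicalKrullDim X ≤ D := by
  have hδ := isDimensionFunction_of_isDimFun (isDimFun k X)
  unfold topologicalKrullDim Order.krullDim
  refine iSup_le fun p => ?_
  have h1 := series_lower _ (Groth.Agent.S6462.strictMono_gp (td k X) hδ) p (Fin.last _)
  simp only [Fin.val_last] at h1
  have h3 := td_nonneg k X (gp (p 0))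
  refine le_trans ?_ (h (gp (p (Fin.last _))))
  have h8 : p.length ≤ (td k X (gp (p (Fin.last _)))).toNat := by omega
  exact_mod_cast h8

theorem td_le_dim (x : X) : (((td k X x).toNat : ℕ) : WithBot ℕ∞) ≤ topologicalKrullDim X := by
  have h5 := le_dim_open k X x Set.univ isOpen_univ trivial
  have h6 : (0 : WithBot ℕ∞) ≤ ringKrullDim (X.presheaf.stalk x) :=
    ringKrullDim_nonneg_of_nontrivial
  have h7 := le_trans (le_add_of_nonneg_left h6) h5
  refine le_trans h7 ?_
  exact Topology.IsInducing.subtypeVal.topologicalKrullDim_le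

end


section Conv

variable (k : Type u) [Field k] {X : Scheme.{u}}
    (f : X ⟶ Spec (CommRingCat.of k)) [LocallyOfFiniteType f] (n : ℕ)

theorem F1 (U : X.Opens)
    (g : (U : Scheme.{u}) ⟶ 𝔸(ULift.{u} (Fin n); Spec (CommRingCat.of k)))
    (hg : g ≫ (𝔸(ULift.{u} (Fin n); Spec (CommRingCat.of k)) ↘ Spec (CommRingCat.of k)) = U.ι ≫ f)
    (hs : Function.Surjective g.base) : (n : WithBot ℕ∞) ≤ topologicalKrullDim (X : Type u) := by
  letI : (U : Scheme.{u}).Over (Spec (CommRingCat.of k)) := ⟨U.ι ≫ f⟩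
  haveI : LocallyOfFiniteType ((U : Scheme.{u}) ↘ Spec (CommRingCat.of k)) :=
    inferInstanceAs (LocallyOfFiniteType (U.ι ≫ f))
  haveI : LocallyOfFiniteType
      (𝔸(ULift.{u} (Fin n); Spec (CommRingCat.of k)) ↘ Spec (CommRingCat.of k)) := inferInstance
  have h1 : topologicalKrullDim (U : Scheme.{u}) ≤ topologicalKrullDim (X : Type u) :=
    Topology.IsInducing.subtypeVal.topologicalKrullDim_le
  refine le_trans ?_ h1
  rw [← dim_affineSpace k n]
  apply dim_le_of_td_le k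
  intro a
  obtain ⟨u, rfl⟩ := hs a
  refine le_trans ?_ (td_le_dim k (U : Scheme.{u}) u)
  have h2 := td_eq_add k (U : Scheme.{u}) 𝔸(ULift.{u} (Fin n); Spec (CommRingCat.of k)) g hg u
  have h3 : (td k 𝔸(ULift.{u} (Fin n); Spec (CommRingCat.of k)) (g u)).toNat ≤
      (td k (U : Scheme.{u}) u).toNat := by
    have : td k 𝔸(ULift.{u} (Fin n); Spec (CommRingCat.of k)) (g.base u) =
      td k 𝔸(ULift.{u} (Fin n); Spec (CommRingCat.of k)) (g u) := rfl
    omega
  exact_mod_cast h3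

include f in
theorem F2 (U : X.Opens) (hd : Dense (U : Set X))
    (g : (U : Scheme.{u}) ⟶ 𝔸(ULift.{u} (Fin n); Spec (CommRingCat.of k)))
    [IsFinite g] : topologicalKrullDim (X : Type u) ≤ (n : WithBot ℕ∞) := by
  letI : X.Over (Spec (CommRingCat.of k)) := ⟨f⟩
  haveI : LocallyOfFiniteType (X ↘ Spec (CommRingCat.of k)) := ‹LocallyOfFiniteType f›
  rw [← dim_dense_open k X U U.2 hd]
  haveI : IsAffine (U : Scheme.{u}) := isAffine_of_isAffineHom g
  have h1 : topologicalKrullDim (U : Scheme.{u}) = ringKrullDim Γ((U : Scheme.{u}), ⊤) :=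
    dim_affine _
  have h2 := dim_affine 𝔸(ULift.{u} (Fin n); Spec (CommRingCat.of k))
  rw [dim_affineSpace k n] at h2
  show topologicalKrullDim (U : Scheme.{u}) ≤ _
  rw [h1, h2]
  have hfin : g.appTop.hom.Finite := g.finite_appTop
  letI := g.appTop.hom.toAlgebra
  haveI : Module.Finite Γ(𝔸(ULift.{u} (Fin n); Spec (CommRingCat.of k)), ⊤)
    Γ((U : Scheme.{u}), ⊤) := hfin
  haveI : Algebra.IsIntegral Γ(𝔸(ULift.{u} (Fin n); Spec (CommRingCat.of k)), ⊤)
    Γ((U : Scheme.{u}), ⊤) := Algebra.IsIntegral.of_finite _ _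
  exact ringKrullDim_le_of_isIntegral _ _

end Conv

/-- Let X be a scheme of finite type over a field k and n a natural number. Then: dim X ≥ n if and only
if there are a dense open subscheme U of X and a surjective k-morphism from U to affine n-space over
k; dim X ≤ n if and only if there are such U and g with g finite; dim X = n if and only if there are
such U and g with g finite and surjective. -/
theorem result (k : Type u) [Field k] {X : Scheme.{u}}
    (f : X ⟶ Spec (CommRingCat.of k)) [LocallyOfFiniteType f] [QuasiCompact f] (n : ℕ) :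
    ((n : WithBot ℕ∞) ≤ topologicalKrullDim (X : Type u) ↔
      ∃ (U : X.Opens) (g : (U : Scheme.{u}) ⟶ 𝔸(ULift.{u} (Fin n); Spec (CommRingCat.of k))),
        Dense (U : Set X) ∧ g ≫ (𝔸(ULift.{u} (Fin n); Spec (CommRingCat.of k)) ↘ Spec (CommRingCat.of k)) = U.ι ≫ f ∧ Function.Surjective g.base) ∧
    (topologicalKrullDim (X : Type u) ≤ n ↔
      ∃ (U : X.Opens) (g : (U : Scheme.{u}) ⟶ 𝔸(ULift.{u} (Fin n); Spec (CommRingCat.of k))),
        Dense (U : Set X) ∧ g ≫ (𝔸(ULift.{u} (Fin n); Spec (CommRingCat.of k)) ↘ Spec (CommRingCat.of k)) = U.ι ≫ f ∧ IsFinite g) ∧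
    (topologicalKrullDim (X : Type u) = n ↔
      ∃ (U : X.Opens) (g : (U : Scheme.{u}) ⟶ 𝔸(ULift.{u} (Fin n); Spec (CommRingCat.of k))),
        Dense (U : Set X) ∧ g ≫ (𝔸(ULift.{u} (Fin n); Spec (CommRingCat.of k)) ↘ Spec (CommRingCat.of k)) = U.ι ≫ f ∧ IsFinite g ∧ Function.Surjective g.base) := by
  letI : X.Over (Spec (CommRingCat.of k)) := ⟨f⟩
  haveI : LocallyOfFiniteType (X ↘ Spec (CommRingCat.of k)) := ‹LocallyOfFiniteType f›
  haveI := isLocallyNoetherian k X
  haveI : CompactSpace X := QuasiCompact.compactSpace_of_compactSpace f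
  haveI : IsNoetherian X := {}
  obtain ⟨U₀, hU₀, hd₀⟩ := Groth.Agent.Lib.H87DenseAffine.exists_isAffineOpen_dense X
  haveI : IsAffine (U₀ : Scheme.{u}) := hU₀
  have hdim₀ : topologicalKrullDim (X : Type u) = ringKrullDim Γ((U₀ : Scheme.{u}), ⊤) := by
    rw [← dim_dense_open k X U₀ U₀.2 hd₀]
    exact dim_affine (U₀ : Scheme.{u})
  letI : Algebra k Γ((U₀ : Scheme.{u}), ⊤) := (structMap k (U₀.ι ≫ f)).toAlgebra
  haveI : Algebra.FiniteType k Γ((U₀ : Scheme.{u}), ⊤) := finiteType_structMap k (U₀.ι ≫ f)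
  have hcomp : ∀ φ : MvPolynomial (ULift.{u} (Fin n)) k →ₐ[k] Γ((U₀ : Scheme.{u}), ⊤),
      φ.toRingHom.comp MvPolynomial.C = structMap k (U₀.ι ≫ f) := by
    intro φ
    ext a
    exact φ.commutes a
  refine ⟨⟨fun hn => ?_, ?_⟩, ⟨fun hn => ?_, ?_⟩, ⟨fun hn => ?_, ?_⟩⟩
  · rw [hdim₀] at hn
    obtain ⟨φ, hφ, -⟩ := exists_algHom_of_le k Γ((U₀ : Scheme.{u}), ⊤) n hn
    exact ⟨U₀, toAffineSpace k _ φ.toRingHom, hd₀,
      toAffineSpace_over k (U₀.ι ≫ f) _ _ (hcomp φ), surjective_toAffineSpace k _ _ hφ⟩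
  · rintro ⟨U, g, -, hg, hs⟩
    exact F1 k f n U g hg hs
  · rw [hdim₀] at hn
    obtain ⟨φ, hφ⟩ := exists_algHom_of_ge k Γ((U₀ : Scheme.{u}), ⊤) n hn
    exact ⟨U₀, toAffineSpace k _ φ.toRingHom, hd₀,
      toAffineSpace_over k (U₀.ι ≫ f) _ _ (hcomp φ), isFinite_toAffineSpace k _ _ hφ⟩
  · rintro ⟨U, g, hd, -, hfin⟩
    exact F2 k f n U hd g
  · rw [hdim₀] at hn
    obtain ⟨φ, hφ, hφ'⟩ := exists_algHom_of_le k Γ((U₀ : Scheme.{u}), ⊤) n (le_of_eq hn.symm)
    exact ⟨U₀, toAffineSpace k _ φ.toRingHom, hd₀,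
      toAffineSpace_over k (U₀.ι ≫ f) _ _ (hcomp φ), isFinite_toAffineSpace k _ _ (hφ' hn),
      surjective_toAffineSpace k _ _ hφ⟩
  · rintro ⟨U, g, hd, hg, hfin, hs⟩
    exact le_antisymm (F2 k f n U hd g) (F1 k f n U g hg hs)

end Groth.Agent.S3430
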