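import Groth.Statements.S3431
import Groth.Agent.Lib.GenOpen45
import Mathlib.RingTheory.Jacobson.Ring
import Mathlib.RingTheory.KrullDimension.Field

set_option autoImplicit false
universe u
open EGA43

namespace Groth.Agent.S3431

/-- Let A be a Noetherian ring. Then A is a Jacobson ring if and only if there is no prime ideal p of A
such that A/p is semi-local (finitely many maximal ideals) of Krull dimension 1. -/
theorem result (A : Type u) [CommRing A] [IsNoetherianRing A] :
    IsJacobsonRing A ↔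
      ∀ (p : Ideal A) [p.IsPrime], ¬ (Finite (MaximalSpectrum (A ⧸ p)) ∧ ringKrullDim (A ⧸ p) = 1) := by
  classical
  constructor
  · intro hJ p hp ⟨hfin, hdim⟩
    -- `A ⧸ p` is a Jacobson semilocal domain, hence a field
    have hJB : IsJacobsonRing (A ⧸ p) := inferInstance
    have hbot : (⊥ : Ideal (A ⧸ p)).jacobson = ⊥ :=
      hJB.out (Ideal.isRadical_bot_iff.mpr inferInstance |> fun h => h)
    have := Fintype.ofFinite (MaximalSpectrum (A ⧸ p))
    have hinf : (Finset.univ : Finset (MaximalSpectrum (A ⧸ p))).inf (fun m => m.asIdeal) ≤ ⊥ := by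
      rw [← hbot, Ideal.jacobson]
      refine le_sInf ?_
      rintro J ⟨-, hJmax⟩
      exact Finset.inf_le (f := fun m : MaximalSpectrum (A ⧸ p) => m.asIdeal)
        (Finset.mem_univ (⟨J, hJmax⟩ : MaximalSpectrum (A ⧸ p)))
    obtain ⟨m, -, hm⟩ := (Ideal.IsPrime.inf_le' (Ideal.isPrime_bot (α := A ⧸ p))).mp hinf
    have hfield : IsField (A ⧸ p) := by
      by_contra hnf
      exact Ring.ne_bot_of_isMaximal_of_not_isField m.isMaximal hnf (le_bot_iff.mp hm)
    rw [ringKrullDim_eq_zero_of_isField hfield] at hdim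
    exact zero_ne_one hdim
  · intro H
    rw [isJacobsonRing_iff_prime_eq]
    intro P hP
    by_contra hne
    obtain ⟨f, hfJ, hfP⟩ : ∃ f ∈ P.jacobson, f ∉ P := by
      by_contra hcon
      push Not at hcon
      exact hne (le_antisymm hcon Ideal.le_jacobson)
    let S : Set (Ideal A) := {q | q.IsPrime ∧ P ≤ q ∧ f ∉ q}
    have hSne : S.Nonempty := ⟨P, hP, le_rfl, hfP⟩
    obtain ⟨q, ⟨hq, hPq, hfq⟩, hqmax⟩ :=
      WellFounded.has_min (wellFounded_gt (α := Ideal A)) S hSne
    have h : ∀ q' : Ideal A, q'.IsPrime → q ≤ q' → f ∉ q' → q' = q := by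
      intro q' hq' hqq' hfq'
      by_contra hne'
      exact hqmax q' ⟨hq', hPq.trans hqq', hfq'⟩ (lt_of_le_of_ne hqq' (Ne.symm hne'))
    have hnm : ¬ q.IsMaximal := by
      intro hmax
      apply hfq
      have : P.jacobson ≤ q := sInf_le ⟨hPq, hmax⟩
      exact this hfJ
    exact H q ⟨Groth.Agent.Lib.GenOpen45.finite_maximalSpectrum_quotient hfq h,
      Groth.Agent.Lib.GenOpen45.ringKrullDim_quotient_eq_one hfq h hnm⟩

end Groth.Agent.S3431
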