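import Groth.Statements.S3432
import Groth.Agent.Lib.GenOpenSch45

set_option autoImplicit false
open CategoryTheory AlgebraicGeometry
universe u
open EGA43

namespace Groth.Agent.S3432

/-- Let X be a locally Noetherian scheme and Y a closed subset of X such that every nonempty closed
subset of X meets Y. Then the open subscheme X ∖ Y (equivalently, the subspace X ∖ Y) is a Jacobson
space. -/
theorem result (X : Scheme.{u}) [IsLocallyNoetherian X] (Y : Set X)
    (hY : IsClosed Y) (hmeet : ∀ Z : Set X, IsClosed Z → Z.Nonempty → (Z ∩ Y).Nonempty) :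
    JacobsonSpace ↥(Yᶜ) := by
  refine Groth.Agent.Lib.GenOpen45.jacobsonSpace_subtype_of_forall hY.isOpen_compl ?_ ?_
  · intro Z _ hZ hne
    exact Groth.Agent.Lib.GenOpen45.exists_isLocallyClosed_singleton_scheme hZ hne
  · rintro x hxU hx x'' ⟨hcl, hx''U⟩
    by_contra hne
    have hsp : x ⤳ x'' := specializes_iff_mem_closure.mpr hcl
    have hclosed : IsClosed ({x''} : Set X) :=
      Groth.Agent.Lib.GenOpen45.isClosed_singleton_of_specializes hx hsp
        (fun h => hne (h ▸ rfl))
    obtain ⟨y, hy1, hy2⟩ := hmeet {x''} hclosed (Set.singleton_nonempty x'')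
    rw [Set.mem_singleton_iff] at hy1
    exact hx''U (hy1 ▸ hy2)

end Groth.Agent.S3432
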