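import Groth.Statements.S3433
import Groth.Agent.Lib.GenOpenTop45
import Mathlib.RingTheory.KrullDimension.Zero

set_option autoImplicit false
universe u
open EGA43

namespace Groth.Agent.S3433

/-- Let A be a Noetherian local ring with maximal ideal m and let Y be the punctured spectrum Spec A ∖
{m}. Then Y is a Jacobson space, and a point p of Y is closed in Y if and only if dim A/p = 1. -/
theorem result (A : Type u) [CommRing A] [IsNoetherianRing A] [IsLocalRing A] :
    JacobsonSpace ↥({IsLocalRing.closedPoint A}ᶜ : Set (PrimeSpectrum A)) ∧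
      ∀ p : ↥({IsLocalRing.closedPoint A}ᶜ : Set (PrimeSpectrum A)),
        IsClosed ({p} : Set ↥({IsLocalRing.closedPoint A}ᶜ : Set (PrimeSpectrum A))) ↔
          ringKrullDim (A ⧸ p.1.asIdeal) = 1 := by
  classical
  have hset : ({IsLocalRing.closedPoint A}ᶜ : Set (PrimeSpectrum A)) =
      (PrimeSpectrum.zeroLocus ((IsLocalRing.maximalIdeal A : Ideal A) : Set A))ᶜ := by
    ext q
    simp only [Set.mem_compl_iff, Set.mem_singleton_iff, PrimeSpectrum.mem_zeroLocus,
      SetLike.coe_subset_coe]
    constructor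
    · intro h hle
      apply h
      have : q.asIdeal = IsLocalRing.maximalIdeal A :=
        le_antisymm (IsLocalRing.le_maximalIdeal q.2.ne_top) hle
      exact PrimeSpectrum.ext this
    · rintro h rfl
      exact h le_rfl
  refine ⟨?_, ?_⟩
  · rw [hset]
    exact Groth.Agent.Lib.GenOpen45.jacobsonSpace_compl_zeroLocus _
      (by rw [IsLocalRing.jacobson_eq_maximalIdeal ⊥ bot_ne_top])
  · intro p
    have hpm : p.1 ≠ IsLocalRing.closedPoint A := p.2
    have hpne : p.1.asIdeal ≠ IsLocalRing.maximalIdeal A := fun h => hpm (PrimeSpectrum.ext h)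
    have hple : p.1.asIdeal ≤ IsLocalRing.maximalIdeal A := IsLocalRing.le_maximalIdeal p.1.2.ne_top
    have hnm : ¬ p.1.asIdeal.IsMaximal := fun h => hpne (IsLocalRing.eq_maximalIdeal h)
    constructor
    · intro hcl
      -- primes above `p` other than `m` equal `p`
      have key : ∀ q : Ideal A, q.IsPrime → p.1.asIdeal ≤ q → q ≠ IsLocalRing.maximalIdeal A →
          q = p.1.asIdeal := by
        intro q hq hpq hqm
        let q' : PrimeSpectrum A := ⟨q, hq⟩
        have hq'Y : q' ∈ ({IsLocalRing.closedPoint A}ᶜ : Set (PrimeSpectrum A)) := by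
          intro h
          exact hqm (congrArg PrimeSpectrum.asIdeal (Set.mem_singleton_iff.mp h))
        have hsp : p ⤳ (⟨q', hq'Y⟩ : ↥({IsLocalRing.closedPoint A}ᶜ : Set (PrimeSpectrum A))) := by
          refine (Topology.IsInducing.subtypeVal.specializes_iff (x := p)
            (y := (⟨q', hq'Y⟩ : ↥({IsLocalRing.closedPoint A}ᶜ : Set (PrimeSpectrum A))))).mp ?_
          exact (PrimeSpectrum.le_iff_specializes p.1 q').mp hpq
        have := hsp.mem_closed hcl (Set.mem_singleton p)
        exact congrArg (fun z => z.1.asIdeal) (Set.mem_singleton_iff.mp this)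
      obtain ⟨f, hfm, hfp⟩ : ∃ f ∈ IsLocalRing.maximalIdeal A, f ∉ p.1.asIdeal := by
        by_contra hcon
        push Not at hcon
        exact hpne (le_antisymm hple hcon)
      exact Groth.Agent.Lib.GenOpen45.ringKrullDim_quotient_eq_one hfp
        (fun q hq hpq hfq => key q hq hpq (fun h => hfq (h ▸ hfm))) hnm
    · intro hdim
      apply Groth.Agent.Lib.GenOpen45.isClosed_singleton_subtype
      rintro q ⟨hq, hqY⟩
      by_contra hne
      have hpq : p.1 ≤ q := (PrimeSpectrum.le_iff_specializes p.1 q).mpr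
        (specializes_iff_mem_closure.mpr hq)
      have hlt : p.1.asIdeal < q.asIdeal := lt_of_le_of_ne hpq
        (fun h => hne (PrimeSpectrum.ext h.symm ▸ rfl))
      have hK : Ring.KrullDimLE 1 (A ⧸ p.1.asIdeal) :=
        Ring.krullDimLE_iff.mpr (by rw [hdim]; rfl)
      have hker : RingHom.ker (Ideal.Quotient.mk p.1.asIdeal) ≤ q.asIdeal := by
        rw [Ideal.mk_ker]; exact hlt.le
      have hP : (q.asIdeal.map (Ideal.Quotient.mk p.1.asIdeal)).IsPrime :=
        Ideal.map_isPrime_of_surjective Ideal.Quotient.mk_surjective hker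
      have hcm : (q.asIdeal.map (Ideal.Quotient.mk p.1.asIdeal)).comap
          (Ideal.Quotient.mk p.1.asIdeal) = q.asIdeal := by
        rw [Ideal.comap_map_of_surjective _ Ideal.Quotient.mk_surjective,
          ← RingHom.ker_eq_comap_bot, sup_eq_left.mpr hker]
      have hP0 : q.asIdeal.map (Ideal.Quotient.mk p.1.asIdeal) ≠ ⊥ := by
        intro h0
        rw [h0, ← RingHom.ker_eq_comap_bot, Ideal.mk_ker] at hcm
        exact hlt.ne hcm
      have hmax : (q.asIdeal.map (Ideal.Quotient.mk p.1.asIdeal)).IsMaximal :=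
        Ideal.IsPrime.isMaximal_of_ne_bot hP hP0
      have hqmax : q.asIdeal.IsMaximal := by
        rw [← hcm]
        exact Ideal.comap_isMaximal_of_surjective _ Ideal.Quotient.mk_surjective
      exact hqY (PrimeSpectrum.ext (IsLocalRing.eq_maximalIdeal hqmax))

end Groth.Agent.S3433
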