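import Groth.Statements.S3435

set_option autoImplicit false
universe u
open EGA41

namespace Groth.Agent.S3435

open TensorProduct

section

variable (Λ A B C : Type u) [CommRing Λ] [CommRing A] [CommRing B] [CommRing C]
    [Algebra Λ A] [Algebra Λ B] [Algebra Λ C] [Algebra A B] [Algebra A C] [Algebra B C]
    [IsScalarTower Λ A B] [IsScalarTower Λ A C] [IsScalarTower Λ B C] [IsScalarTower A B C]

/-- Every element of `Ω[A⁄Λ]` satisfying a predicate closed under linear combinations. -/
theorem kaehler_induction {R S : Type u} [CommRing R] [CommRing S] [Algebra R S]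
    (p : Ω[S⁄R] → Prop) (h0 : p 0) (hadd : ∀ x y, p x → p y → p (x + y))
    (hsmul : ∀ (s : S) x, p x → p (s • x)) (hD : ∀ s, p (KaehlerDifferential.D R S s))
    (x : Ω[S⁄R]) : p x := by
  have hx : x ∈ Submodule.span S (Set.range (KaehlerDifferential.D R S)) := by
    rw [KaehlerDifferential.span_range_derivation]; trivial
  induction hx using Submodule.span_induction with
  | mem x hx => obtain ⟨s, rfl⟩ := hx; exact hD s
  | zero => exact h0
  | add x y _ _ hx hy => exact hadd x y hx hy
  | smul a x _ hx => exact hsmul a x hx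

theorem map_map_eq (ω : Ω[A⁄Λ]) :
    KaehlerDifferential.map Λ Λ B C (KaehlerDifferential.map Λ Λ A B ω) =
      KaehlerDifferential.map Λ Λ A C ω := by
  induction ω using kaehler_induction with
  | h0 => simp
  | hadd x y hx hy => simp [hx, hy]
  | hsmul s x hx =>
    rw [map_smul, LinearMap.map_smul_of_tower, hx, map_smul]
  | hD s => simp [← IsScalarTower.algebraMap_apply]

theorem map_map_zero (ω : Ω[A⁄Λ]) :
    KaehlerDifferential.map Λ A B B (KaehlerDifferential.map Λ Λ A B ω) = 0 := by
  induction ω using kaehler_induction with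
  | h0 => simp
  | hadd x y hx hy => simp [hx, hy]
  | hsmul s x hx =>
    rw [map_smul, LinearMap.map_smul_of_tower, hx, smul_zero]
  | hD s => simp

theorem square (x : C ⊗[B] Ω[B⁄Λ]) :
    KaehlerDifferential.mapBaseChange A B C ((KaehlerDifferential.map Λ A B B).baseChange C x) =
      KaehlerDifferential.map Λ A C C (KaehlerDifferential.mapBaseChange Λ B C x) := by
  induction x using TensorProduct.induction_on with
  | zero => simp
  | add x y hx hy => simp [hx, hy]
  | tmul c ω =>
    simp only [LinearMap.baseChange_tmul, KaehlerDifferential.mapBaseChange_tmul, map_smul]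
    congr 1
    induction ω using kaehler_induction with
    | h0 => simp
    | hadd x y hx hy => simp [hx, hy]
    | hsmul s x hx =>
      rw [map_smul, map_smul, map_smul, hx, LinearMap.map_smul_of_tower]
    | hD s => simp

theorem exists_lift_of_tensor (ξ : C ⊗[A] Ω[A⁄Λ]) :
    ∃ ξ' : C ⊗[B] Ω[B⁄Λ],
      KaehlerDifferential.mapBaseChange Λ B C ξ' = KaehlerDifferential.mapBaseChange Λ A C ξ ∧
      (KaehlerDifferential.map Λ A B B).baseChange C ξ' = 0 := by
  induction ξ using TensorProduct.induction_on with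
  | zero => exact ⟨0, by simp, by simp⟩
  | add x y hx hy =>
    obtain ⟨x', hx1, hx2⟩ := hx
    obtain ⟨y', hy1, hy2⟩ := hy
    exact ⟨x' + y', by simp [hx1, hy1], by simp [hx2, hy2]⟩
  | tmul c ω =>
    refine ⟨c ⊗ₜ KaehlerDifferential.map Λ Λ A B ω, ?_, ?_⟩
    · simp only [KaehlerDifferential.mapBaseChange_tmul, map_map_eq]
    · simp only [LinearMap.baseChange_tmul, map_map_zero, tmul_zero]

end

open TensorProduct in
/-- Let Λ → A → B → C be ring homomorphisms. The homomorphism Ω_{B/Λ} ⊗_B C → Ω_{B/A} ⊗_B C maps the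
imperfection module Υ_{C/B/Λ} (the kernel of Ω_{B/Λ} ⊗_B C → Ω_{C/Λ}) onto the imperfection module
Υ_{C/B/A} (the kernel of Ω_{B/A} ⊗_B C → Ω_{C/A}): every element of Υ_{C/B/A} is the image of some
element of Υ_{C/B/Λ}. -/
theorem result (Λ A B C : Type u) [CommRing Λ] [CommRing A] [CommRing B] [CommRing C]
    [Algebra Λ A] [Algebra Λ B] [Algebra Λ C] [Algebra A B] [Algebra A C] [Algebra B C]
    [IsScalarTower Λ A B] [IsScalarTower Λ A C] [IsScalarTower Λ B C] [IsScalarTower A B C] :
    ∀ ω ∈ EGA41.imperfection A B C, ∃ η ∈ EGA41.imperfection Λ B C,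
      (KaehlerDifferential.map Λ A B B).baseChange C η = ω := by
  intro ω hω
  have hsurj : Function.Surjective ((KaehlerDifferential.map Λ A B B).baseChange C) :=
    LinearMap.lTensor_surjective _ (KaehlerDifferential.map_surjective Λ A B)
  obtain ⟨ω', rfl⟩ := hsurj ω
  have h1 : KaehlerDifferential.map Λ A C C (KaehlerDifferential.mapBaseChange Λ B C ω') = 0 := by
    rw [← square]; exact hω
  obtain ⟨ξ, hξ⟩ := (KaehlerDifferential.exact_mapBaseChange_map Λ A C _).mp h1
  obtain ⟨ξ', hξ1, hξ2⟩ := exists_lift_of_tensor Λ A B C ξ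
  refine ⟨ω' - ξ', ?_, ?_⟩
  · change KaehlerDifferential.mapBaseChange Λ B C (ω' - ξ') = 0
    rw [map_sub, hξ1, hξ, sub_self]
  · rw [map_sub, hξ2, sub_zero]

end Groth.Agent.S3435
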