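import Groth.Statements.S3437
import Groth.Agent.Lib.CMCons33c

set_option autoImplicit false
open CategoryTheory AlgebraicGeometry
universe u
open EGA43

namespace Groth.Agent.S3437

/-- Let f : X ⟶ S be of finite presentation (locally of finite presentation, quasi-compact and
quasi-separated). Then the set of points s of S such that every local ring of the fibre X_s is
Cohen–Macaulay is locally constructible in S. -/
theorem result {X S : Scheme.{u}} (f : X ⟶ S)
    [LocallyOfFinitePresentation f] [QuasiCompact f] [QuasiSeparated f] :
    Topology.IsLocallyConstructible {s : S |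
      ∀ z : ↥(f.fiber s), LocCoh.IsCohenMacaulayLocalRing ((f.fiber s).presheaf.stalk z)} := by
  have h1 := Groth.Agent.Lib.CMCons33.isLocallyConstructible_cmFib f
  have h2 : Topology.IsLocallyConstructible {x : X | Groth.Agent.Lib.CMCons33.CMFib f x}ᶜ := by
    intro x
    obtain ⟨U, hxU, hU, hsU⟩ := h1 x
    exact ⟨U, hxU, hU, by simpa using hsU.compl⟩
  have h3 := f.isLocallyConstructible_image h2
  have h4 : Topology.IsLocallyConstructible
      (f '' {x : X | Groth.Agent.Lib.CMCons33.CMFib f x}ᶜ)ᶜ := by
    intro x
    obtain ⟨U, hxU, hU, hsU⟩ := h3 x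
    exact ⟨U, hxU, hU, by simpa using hsU.compl⟩
  convert h4 using 1
  ext s
  simp only [Set.mem_ofPred_eq, Set.mem_compl_iff, Set.mem_image, not_exists, not_and]
  constructor
  · intro h x hx hxs
    apply hx
    subst hxs
    exact h (f.asFiber x)
  · intro h z
    have hz : f (f.fiberι s z) = s := by
      have : f.fiberι s z ∈ Set.range (f.fiberι s) := ⟨z, rfl⟩
      rw [f.range_fiberι s] at this
      exact this
    have hcm : Groth.Agent.Lib.CMCons33.CMFib f (f.fiberι s z) := by
      by_contra hne
      exact h _ hne hz
    exact (Groth.Agent.Lib.CMBaseChange33.cm_stalk_fiber_iff f (f.fiberι s z) s z rfl).mpr hcm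

end Groth.Agent.S3437
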