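-- Statement S3438.
import Groth.Statements.S3438
import Groth.Agent.Lib.H30EquidimAt
import Groth.Agent.S3391
import Mathlib

set_option autoImplicit false
open CategoryTheory AlgebraicGeometry
universe u
open EGA43

namespace Groth.Agent.S3438

open Groth.Agent.Lib.H30EquidimAt Groth.Agent.Lib.H30DimRel

theorem main {X Y : Scheme.{u}} [IsLocallyNoetherian Y] (f : X ⟶ Y)
    [LocallyOfFiniteType f] (x : X) (hY : EGA4.IsEquidim (Y.presheaf.stalk (f.base x)))
    (hcat : CAlg.IsUniversallyCatenary (Y.presheaf.stalk (f.base x))) (h : EGA43.IsEquidimAt f x) :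
    ringKrullDim (X.presheaf.stalk x) =
        ringKrullDim (Y.presheaf.stalk (f.base x)) +
          ringKrullDim ((f.fiber (f.base x)).presheaf.stalk (f.asFiber x)) := by
  haveI : IsLocallyNoetherian X := LocallyOfFiniteType.isLocallyNoetherian f
  obtain ⟨e, he, hmin⟩ := dim_quot_add f x hY hcat h
  obtain ⟨p, hp, hpdim⟩ := exists_minimalPrimes_dim_eq (X.presheaf.stalk x) ringKrullDim_lt_top
  have h1 := hmin p hp
  rw [hpdim] at h1
  have h2 := Groth.Agent.Lib.FibreDimAtFormula.fibreDimAt_eq_add f x (rt f x) (trdeg_eq_rt f x)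
  rw [he] at h2
  rw [h2, ← add_assoc] at h1
  exact Groth.Agent.S3391.withBot_add_nat_cancel _ h1

/-- Let Y be locally Noetherian, f : X ⟶ Y locally of finite type, x a point of X with y = f x, and
suppose O_{Y,y} is equidimensional and universally catenary. If f is equidimensional at x, then dim
O_{X,x} = dim O_{Y,y} + dim O_{X_y,x}. (That O_{X,x} is then also equidimensional is a separate
result, not asserted here.) -/
theorem result {X Y : Scheme.{u}} [IsLocallyNoetherian Y] (f : X ⟶ Y)
    [LocallyOfFiniteType f] (x : X) (hY : EGA4.IsEquidim (Y.presheaf.stalk (f.base x)))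
    (hcat : CAlg.IsUniversallyCatenary (Y.presheaf.stalk (f.base x))) (h : EGA43.IsEquidimAt f x) :
    ringKrullDim (X.presheaf.stalk x) =
        ringKrullDim (Y.presheaf.stalk (f.base x)) + ringKrullDim ((f.fiber (f.base x)).presheaf.stalk (f.asFiber x)) := by
  exact main f x hY hcat h

end Groth.Agent.S3438
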