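import Groth.Statements.S3440
import Mathlib
import Groth.Agent.S2559
import Groth.Agent.S2082
import Groth.Agent.S0386
import Groth.Agent.Lib.CMFlat33
import Groth.Agent.Lib.CMRingEquiv96
import Groth.Agent.Lib.FibreStalk33

set_option autoImplicit false
open CategoryTheory AlgebraicGeometry
universe u
open EGA43

namespace Groth.Agent.S3440

/-- Let Y be locally Noetherian, f : X ⟶ Y locally of finite type, x a point of X and y = f x; suppose
O_{Y,y} is regular and O_{X,x} is Cohen–Macaulay. The following are equivalent: a) O_{Y,y} ⟶ O_{X,x}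
is flat and the local ring of X_y at x is Cohen–Macaulay; b) O_{Y,y} ⟶ O_{X,x} is flat; c) the
restriction of f to some open neighbourhood of x is universally open; d) f is open at the generic
point of every irreducible component of X_y through x; e') dim O_{X,x} = dim O_{Y,y} + dim
O_{X_y,x}. -/
theorem result {X Y : Scheme.{u}} [IsLocallyNoetherian Y] (f : X ⟶ Y)
    [LocallyOfFiniteType f] (x : X) (hreg : IsRegularLocalRing (Y.presheaf.stalk (f.base x)))
    (hCM : LocCoh.IsCohenMacaulayLocalRing (X.presheaf.stalk x)) :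
    List.TFAE [
      (f.stalkMap x).hom.Flat ∧ LocCoh.IsCohenMacaulayLocalRing ((f.fiber (f.base x)).presheaf.stalk (f.asFiber x)),
      (f.stalkMap x).hom.Flat,
      ∃ U : X.Opens, x ∈ U ∧ UniversallyOpen (U.ι ≫ f),
      (∀ z : ↥(f.fiber (f.base x)), f.asFiber x ∈ closure {z} →
          (∀ z' : ↥(f.fiber (f.base x)), z ∈ closure {z'} → z' = z) →
          EGA43.IsOpenAt f.base ((f.fiberι (f.base x)).base z)),
      ringKrullDim (X.presheaf.stalk x) =
        ringKrullDim (Y.presheaf.stalk (f.base x)) + ringKrullDim ((f.fiber (f.base x)).presheaf.stalk (f.asFiber x)) ] := by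
  have hXN : IsLocallyNoetherian X := LocallyOfFiniteType.isLocallyNoetherian f
  tfae_have 1 → 2 := fun h => h.1
  tfae_have 2 → 3 := by
    intro hflat
    let U : X.Opens := ⟨{x' : X | (f.stalkMap x').hom.Flat}, Groth.Agent.S0386.result f⟩
    refine ⟨U, hflat, ?_⟩
    have hfl : Flat (U.ι ≫ f) := by
      apply Flat.of_stalkMap
      intro u
      rw [Scheme.Hom.stalkMap_comp]
      change ((U.ι.stalkMap u).hom.comp (f.stalkMap (U.ι.base u)).hom).Flat
      refine RingHom.Flat.comp u.2 (RingHom.Flat.of_bijective ?_)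
      exact ConcreteCategory.bijective_of_isIso (U.ι.stalkMap u)
    infer_instance
  tfae_have 3 → 4 := by
    rintro ⟨U, hxU, hUO⟩ z hz _
    have hsp : (f.fiberι (f.base x)).base z ⤳ x := by
      have h1 : z ⤳ f.asFiber x := specializes_iff_mem_closure.mpr hz
      have h2 := h1.map (f.fiberι (f.base x)).continuous
      rwa [f.fiberι_asFiber] at h2
    have hζU : (f.fiberι (f.base x)).base z ∈ U := hsp.mem_open U.isOpen hxU
    intro N hN
    have hom : IsOpenMap (U.ι ≫ f).base := (U.ι ≫ f).isOpenMap
    have hN' : U.ι.base ⁻¹' N ∈ nhds (⟨_, hζU⟩ : U) :=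
      U.ι.continuous.continuousAt.preimage_mem_nhds hN
    have h3 := hom.image_mem_nhds hN'
    refine Filter.mem_of_superset h3 ?_
    rintro _ ⟨u, hu, rfl⟩
    exact ⟨U.ι.base u, hu, rfl⟩
  tfae_have 4 → 5 := Groth.Agent.S2559.result f x
  tfae_have 5 → 1 := by
    intro hdim
    let φ := (f.stalkMap x).hom
    let _ : Algebra (Y.presheaf.stalk (f.base x)) (X.presheaf.stalk x) := φ.toAlgebra
    have hloc : IsLocalHom (algebraMap (Y.presheaf.stalk (f.base x)) (X.presheaf.stalk x)) :=
      inferInstanceAs (IsLocalHom (f.stalkMap x).hom)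
    have hdim' : ringKrullDim (X.presheaf.stalk x) =
        ringKrullDim (Y.presheaf.stalk (f.base x)) +
          ringKrullDim (X.presheaf.stalk x ⧸ (IsLocalRing.maximalIdeal
            (Y.presheaf.stalk (f.base x))).map
              (algebraMap (Y.presheaf.stalk (f.base x)) (X.presheaf.stalk x))) := by
      rw [hdim]
      congr 1
      exact (ringKrullDim_eq_of_ringEquiv
        (Groth.Agent.Lib.FibreStalk33.fibreStalkEquiv f x)).symm
    have hflat : Module.Flat (Y.presheaf.stalk (f.base x)) (X.presheaf.stalk x) :=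
      Groth.Agent.S2082.result hdim'
    have hφ : φ.Flat := hflat
    refine ⟨hφ, ?_⟩
    have hCMq := ((Groth.Agent.Lib.CMFlat33.isCohenMacaulayLocalRing_iff φ hφ).mp hCM).2
    exact Groth.Agent.Lib.CMRingEquiv96.isCohenMacaulayLocalRing_of_ringEquiv
      (Groth.Agent.Lib.FibreStalk33.fibreStalkEquiv f x)
  tfae_finish

end Groth.Agent.S3440
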