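import Groth.Statements.S3441
import Mathlib.Algebra.TrivSqZeroExt.Ideal
import Mathlib.RingTheory.Derivation.ToSquareZero

set_option autoImplicit false
set_option linter.unusedSectionVars false
universe u
open EGA41

namespace Groth.Agent.S3441


open TensorProduct KaehlerDifferential

theorem kaehler_induction {R S : Type u} [CommRing R] [CommRing S] [Algebra R S]
    (p : Ω[S⁄R] → Prop) (h0 : p 0) (hadd : ∀ x y, p x → p y → p (x + y))
    (hsmul : ∀ (s : S) x, p x → p (s • x)) (hD : ∀ s, p (KaehlerDifferential.D R S s))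
    (x : Ω[S⁄R]) : p x := by
  have hx : x ∈ Submodule.span S (Set.range (KaehlerDifferential.D R S)) := by
    rw [KaehlerDifferential.span_range_derivation]; trivial
  induction hx using Submodule.span_induction with
  | mem x hx => obtain ⟨s, rfl⟩ := hx; exact hD s
  | zero => exact h0
  | add x y _ _ hx hy => exact hadd x y hx hy
  | smul a x _ hx => exact hsmul a x hx

section Forward

variable (A B C : Type u) [CommRing A] [CommRing B]
    [CommRing C] [Algebra A B] [Algebra B C] [Algebra A C] [IsScalarTower A B C]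

/-- The trivial square zero extension of `C` by `C ⊗[B] Ω[B⁄A]`, as a bare ring. -/
def Tw : Type u := TrivSqZeroExt C (C ⊗[B] Ω[B⁄A])

noncomputable instance : CommRing (Tw A B C) :=
  inferInstanceAs (CommRing (TrivSqZeroExt C (C ⊗[B] Ω[B⁄A])))

noncomputable def twInl : C →+* Tw A B C := TrivSqZeroExt.inlHom C (C ⊗[B] Ω[B⁄A])

noncomputable def twFst : Tw A B C →+* C :=
  (TrivSqZeroExt.fstHom C C (C ⊗[B] Ω[B⁄A]) : TrivSqZeroExt C (C ⊗[B] Ω[B⁄A]) →+* C)

noncomputable def twSnd : Tw A B C →+ C ⊗[B] Ω[B⁄A] :=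
  (TrivSqZeroExt.sndHom C (C ⊗[B] Ω[B⁄A])).toAddMonoidHom

@[simp] theorem twFst_twInl (c : C) : twFst A B C (twInl A B C c) = c := rfl

@[simp] theorem twSnd_twInl (c : C) : twSnd A B C (twInl A B C c) = 0 := rfl

theorem twSnd_mul (x y : Tw A B C) :
    twSnd A B C (x * y) = twFst A B C x • twSnd A B C y + twFst A B C y • twSnd A B C x := by
  refine (TrivSqZeroExt.snd_mul (R := C) (M := C ⊗[B] Ω[B⁄A]) x y).trans ?_
  rw [op_smul_eq_smul]
  rfl

theorem twSnd_one : twSnd A B C 1 = 0 := rfl

/-- The twisted ring map `b ↦ (b, 1 ⊗ d b)`. -/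
noncomputable def twHom : B →+* Tw A B C where
  toFun b := (TrivSqZeroExt.inl (algebraMap B C b) + TrivSqZeroExt.inr ((1 : C) ⊗ₜ[B] D A B b) :
    TrivSqZeroExt C (C ⊗[B] Ω[B⁄A]))
  map_one' := by
    change (_ : TrivSqZeroExt C (C ⊗[B] Ω[B⁄A])) = 1
    simp
  map_mul' x y := by
    change (_ : TrivSqZeroExt C (C ⊗[B] Ω[B⁄A])) = (_ * _ : TrivSqZeroExt C (C ⊗[B] Ω[B⁄A]))
    ext
    · simp
    · simp [tmul_add, tmul_smul, add_comm]
  map_zero' := by
    change (_ : TrivSqZeroExt C (C ⊗[B] Ω[B⁄A])) = 0
    simp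
  map_add' x y := by
    change (_ : TrivSqZeroExt C (C ⊗[B] Ω[B⁄A])) = (_ + _ : TrivSqZeroExt C (C ⊗[B] Ω[B⁄A]))
    ext
    · simp
    · simp [tmul_add]

noncomputable instance algB : Algebra B (Tw A B C) := (twHom A B C).toAlgebra

noncomputable instance algA : Algebra A (Tw A B C) :=
  ((twHom A B C).comp (algebraMap A B)).toAlgebra

instance : IsScalarTower A B (Tw A B C) := .of_algebraMap_eq' rfl

theorem twFst_algebraMap (b : B) : twFst A B C (algebraMap B (Tw A B C) b) = algebraMap B C b := by
  change TrivSqZeroExt.fst (TrivSqZeroExt.inl (algebraMap B C b) +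
    TrivSqZeroExt.inr ((1 : C) ⊗ₜ[B] D A B b) : TrivSqZeroExt C (C ⊗[B] Ω[B⁄A])) = _
  simp

theorem twSnd_algebraMap (b : B) :
    twSnd A B C (algebraMap B (Tw A B C) b) = (1 : C) ⊗ₜ[B] D A B b := by
  change TrivSqZeroExt.snd (TrivSqZeroExt.inl (algebraMap B C b) +
    TrivSqZeroExt.inr ((1 : C) ⊗ₜ[B] D A B b) : TrivSqZeroExt C (C ⊗[B] Ω[B⁄A])) = _
  simp

theorem tw_ext (x y : Tw A B C) (h1 : twFst A B C x = twFst A B C y)
    (h2 : twSnd A B C x = twSnd A B C y) : x = y :=
  TrivSqZeroExt.ext h1 h2

theorem algebraMap_A_apply (a : A) :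
    algebraMap A (Tw A B C) a = twInl A B C (algebraMap A C a) := by
  apply tw_ext
  · change twFst A B C (algebraMap B (Tw A B C) (algebraMap A B a)) = _
    rw [twFst_algebraMap, twFst_twInl, ← IsScalarTower.algebraMap_apply]
  · change twSnd A B C (algebraMap B (Tw A B C) (algebraMap A B a)) = _
    rw [twSnd_algebraMap, twSnd_twInl, Derivation.map_algebraMap, tmul_zero]

/-- The square zero ideal. -/
noncomputable def twJ : Ideal (Tw A B C) := RingHom.ker (twFst A B C)

theorem twJ_sq : twJ A B C ^ 2 = ⊥ := TrivSqZeroExt.kerIdeal_sq C (C ⊗[B] Ω[B⁄A])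

theorem mem_twJ_iff (x : Tw A B C) : x ∈ twJ A B C ↔ twFst A B C x = 0 := Iff.rfl

/-- The untwisted lift. -/
noncomputable def twU : C →ₐ[A] Tw A B C where
  __ := twInl A B C
  commutes' a := (algebraMap_A_apply A B C a).symm

/-- The map to the quotient, which is `B`-linear. -/
noncomputable def twU₀ : C →ₐ[B] Tw A B C ⧸ twJ A B C where
  __ := (Ideal.Quotient.mk (twJ A B C)).comp (twInl A B C)
  commutes' b := by
    change Ideal.Quotient.mk (twJ A B C) _ = Ideal.Quotient.mk (twJ A B C) _
    rw [Ideal.Quotient.eq, mem_twJ_iff, map_sub, twFst_algebraMap, twFst_twInl, sub_self]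

theorem twU_comp : (Ideal.Quotient.mkₐ A (twJ A B C)).comp (twU A B C) =
    (twU₀ A B C).restrictScalars A := rfl

variable {A B C} in
theorem exists_l_of_rel (h : EGA41.IsFormallySmoothRel A B C) :
    ∃ l : Ω[C⁄A] →ₗ[C] C ⊗[B] Ω[B⁄A],
      l ∘ₗ KaehlerDifferential.mapBaseChange A B C = LinearMap.id := by
  obtain ⟨v, hv⟩ := h (Tw A B C) (twJ A B C) (twJ_sq A B C) (twU₀ A B C)
    ⟨twU A B C, twU_comp A B C⟩
  have hfst : ∀ c, twFst A B C (v c) = c := by
    intro c
    have := congr($hv c)
    change Ideal.Quotient.mk (twJ A B C) (v c) = Ideal.Quotient.mk (twJ A B C) (twInl A B C c) at this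
    rw [Ideal.Quotient.eq, mem_twJ_iff, map_sub, twFst_twInl, sub_eq_zero] at this
    exact this
  let δ₀ : C →ₗ[A] C ⊗[B] Ω[B⁄A] :=
    { toFun := fun c => twSnd A B C (v c)
      map_add' := fun x y => by rw [map_add, map_add]
      map_smul' := fun a x => by
        have hva : v (algebraMap A C a) = twInl A B C (algebraMap A C a) := by
          rw [IsScalarTower.algebraMap_apply A B C, v.commutes,
            ← IsScalarTower.algebraMap_apply A B (Tw A B C), algebraMap_A_apply,
            ← IsScalarTower.algebraMap_apply]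
        rw [RingHom.id_apply, Algebra.smul_def, map_mul, hva, twSnd_mul, twSnd_twInl,
          twFst_twInl, smul_zero, add_zero, algebraMap_smul] }
  let δ : Derivation A C (C ⊗[B] Ω[B⁄A]) := Derivation.mk' δ₀ (fun x y => by
    change twSnd A B C (v (x * y)) = x • twSnd A B C (v y) + y • twSnd A B C (v x)
    rw [map_mul, twSnd_mul, hfst, hfst])
  have hδ : ∀ b : B, δ (algebraMap B C b) = (1 : C) ⊗ₜ[B] D A B b := by
    intro b
    change twSnd A B C (v (algebraMap B C b)) = _
    rw [v.commutes, twSnd_algebraMap]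
  refine ⟨δ.liftKaehlerDifferential, ?_⟩
  ext x
  simp [hδ]

end Forward




section Backward

variable {A B C : Type u} [CommRing A] [CommRing B]
    [CommRing C] [Algebra A B] [Algebra B C] [Algebra A C] [IsScalarTower A B C]

theorem rel_of_exists_l (l : Ω[C⁄A] →ₗ[C] C ⊗[B] Ω[B⁄A])
    (hl : l ∘ₗ KaehlerDifferential.mapBaseChange A B C = LinearMap.id) :
    EGA41.IsFormallySmoothRel A B C := by
  intro C' _ _ _ _ J hJ u₀ ⟨u, hu⟩
  let algCC' : Algebra C C' := u.toRingHom.toAlgebra
  have : IsScalarTower A C C' := .of_algebraMap_eq (fun a => (u.commutes a).symm)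
  have hu' : ∀ c : C, Ideal.Quotient.mk J (u c) = u₀ c := fun c => congr($hu c)
  let f : B →ₐ[A] C' := u.comp (IsScalarTower.toAlgHom A B C)
  have e : (Ideal.Quotient.mkₐ A J).comp f = IsScalarTower.toAlgHom A B (C' ⧸ J) := by
    ext b
    change Ideal.Quotient.mk J (u (algebraMap B C b)) = algebraMap B (C' ⧸ J) b
    rw [hu', u₀.commutes]
  let D₁ : Derivation A B J := derivationToSquareZeroOfLift J hJ f e
  have hD₁ : ∀ b : B, (D₁ b : C') = u (algebraMap B C b) - algebraMap B C' b := fun b => rfl
  have hJJ : ∀ x y : C', x ∈ J → y ∈ J → x * y = 0 := by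
    intro x y hx hy
    rw [← Ideal.mem_bot, ← hJ, pow_two]
    exact Ideal.mul_mem_mul hx hy
  have : IsScalarTower B C J := by
    constructor
    intro b c j
    ext
    rw [Submodule.coe_smul_of_tower, Submodule.coe_smul_of_tower, Submodule.coe_smul_of_tower,
      Algebra.smul_def (b • c), Algebra.smul_def b, Algebra.smul_def c,
      Algebra.smul_def b ((algebraMap C C') c * (j : C'))]
    change u (algebraMap B C b * c) * (j : C') = algebraMap B C' b * (u c * j)
    rw [map_mul, mul_assoc]
    have := hJJ _ _ (D₁ b).2 (J.mul_mem_left (u c) j.2)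
    rw [hD₁, sub_mul, sub_eq_zero] at this
    exact this
  let φ : C ⊗[B] Ω[B⁄A] →ₗ[C] J := D₁.liftKaehlerDifferential.liftBaseChange C
  let δ : Derivation A C J := (φ ∘ₗ l).compDer (KaehlerDifferential.D A C)
  have hδ : ∀ b : B, (δ (algebraMap B C b) : C') = u (algebraMap B C b) - algebraMap B C' b := by
    intro b
    have h1 : KaehlerDifferential.D A C (algebraMap B C b) =
        KaehlerDifferential.mapBaseChange A B C ((1 : C) ⊗ₜ[B] KaehlerDifferential.D A B b) := by
      rw [mapBaseChange_tmul, one_smul, map_D]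
    have h2 : l (KaehlerDifferential.D A C (algebraMap B C b)) =
        (1 : C) ⊗ₜ[B] KaehlerDifferential.D A B b := by
      rw [h1]
      exact congr($hl _)
    change ((φ (l (KaehlerDifferential.D A C (algebraMap B C b))) : J) : C') = _
    rw [h2, LinearMap.liftBaseChange_tmul, one_smul, Derivation.liftKaehlerDifferential_comp_D, hD₁]
  let v₀ : C →ₐ[A] C' := liftOfDerivationToSquareZero J hJ (-δ)
  have hv₀ : ∀ c, v₀ c = -(δ c : C') + u c := fun c => rfl
  let v : C →ₐ[B] C' :=
    { v₀.toRingHom with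
      commutes' := fun b => by
        change v₀ (algebraMap B C b) = algebraMap B C' b
        rw [hv₀, hδ]
        ring }
  refine ⟨v, ?_⟩
  ext c
  change Ideal.Quotient.mk J (v₀ c) = u₀ c
  rw [hv₀, map_add, map_neg, Ideal.Quotient.eq_zero_iff_mem.mpr (δ c).2, neg_zero, zero_add, hu']

end Backward


open TensorProduct in
/-- Let A → B → C be ring homomorphisms. The canonical C-linear map Ω_{B/A} ⊗_B C → Ω_{C/A} is left
invertible (has a C-linear left inverse) if and only if C is a formally smooth B-algebra relative to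
A for the discrete topologies: every B-algebra homomorphism from C to a quotient C'/J of a B-algebra
C' by an ideal J of square zero that lifts to C' as an A-algebra homomorphism also lifts to C' as a
B-algebra homomorphism. (The published definition of relative formal smoothness tests every
nilpotent ideal J; its reduction to ideals of square zero does not carry over to the relative
setting, and the square-zero form, which is what the published proof of this statement uses, is the
one taken here.) -/
theorem result (A B C : Type u) [CommRing A] [CommRing B]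
    [CommRing C] [Algebra A B] [Algebra B C] [Algebra A C] [IsScalarTower A B C] :
    (∃ l : Ω[C⁄A] →ₗ[C] C ⊗[B] Ω[B⁄A], l ∘ₗ KaehlerDifferential.mapBaseChange A B C = LinearMap.id) ↔
      EGA41.IsFormallySmoothRel A B C := by
  constructor
  · rintro ⟨l, hl⟩
    exact rel_of_exists_l l hl
  · exact exists_l_of_rel

end Groth.Agent.S3441
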