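import Groth.Statements.S3450
import Mathlib
import Groth.Agent.Lib.DvrQuot7

set_option autoImplicit false
universe u
open EGA43

namespace Groth.Agent.S3450

section helpers

open Groth.Agent.Lib.DvrQuot7 IsLocalRing

theorem main (A : Type u) [CommRing A] [IsNoetherianRing A]
    [IsLocalRing A] [IsReduced A] [IsAdicComplete (IsLocalRing.maximalIdeal A) A] (hA : ¬ IsField A) (n : ℕ) :
    ∃ (k : ℕ) (V : Fin k → Type u) (_ : ∀ i, CommRing (V i)) (_ : ∀ i, IsDomain (V i))
      (_ : ∀ i, IsDiscreteValuationRing (V i)) (φ : ∀ i, A →+* V i),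
      (∀ i, IsLocalHom (φ i) ∧ (φ i).Finite) ∧
        ⨅ i, RingHom.ker (φ i) ≤ IsLocalRing.maximalIdeal A ^ n := by
  classical
  let Q : Set (Ideal A) := {q | q.IsPrime ∧ q ≠ maximalIdeal A ∧
    ∀ P : Ideal A, P.IsPrime → q < P → P = maximalIdeal A}
  -- the intersection of `Q` is zero
  have h0 : ∀ x : A, (∀ q ∈ Q, x ∈ q) → x = 0 := by
    intro x hx
    by_contra hx0
    -- a non-maximal prime avoiding `x`
    have hp : ∃ p : Ideal A, p.IsPrime ∧ p ≠ maximalIdeal A ∧ x ∉ p := by
      by_cases hxu : IsUnit x
      · -- some prime is not maximal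
        by_contra hcon
        push_neg at hcon
        have hall : ∀ p : Ideal A, p.IsPrime → p = maximalIdeal A := by
          intro p hp
          by_contra hne
          exact (hcon p hp hne) |> fun hxp => hp.ne_top (Ideal.eq_top_of_isUnit_mem _ hxp hxu)
        have hnil : nilradical A = maximalIdeal A := by
          rw [nilradical_eq_sInf]
          apply le_antisymm
          · exact sInf_le (show maximalIdeal A ∈ {J : Ideal A | J.IsPrime} from
              (inferInstance : (maximalIdeal A).IsPrime))
          · refine le_sInf fun J hJ => ?_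
            rw [hall J hJ]
        rw [nilradical_eq_zero] at hnil
        exact hA (IsLocalRing.isField_iff_maximalIdeal_eq.mpr hnil.symm)
      · have hxnil : x ∉ nilradical A := by
          rw [nilradical_eq_zero]
          exact hx0
        rw [nilradical_eq_sInf, Submodule.mem_sInf] at hxnil
        push_neg at hxnil
        obtain ⟨p, hp, hxp⟩ := hxnil
        refine ⟨p, hp, ?_, hxp⟩
        rintro rfl
        exact hxp ((IsLocalRing.mem_maximalIdeal x).mpr hxu)
    obtain ⟨p, hpp, hpm, hxp⟩ := hp
    haveI := hpp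
    obtain ⟨q, hq1, -, hxq, hq2, hq3⟩ := exists_prime_dim_one p hpm x hxp
    exact hxq (hx q ⟨hq1, hq2, hq3⟩)
  obtain ⟨s, hsQ, hs⟩ := exists_finset_inf_le_pow Q h0 n
  have H : ∀ q : {q : Ideal A // q ∈ s}, ∃ (V : Type u) (_ : CommRing V) (_ : IsDomain V)
      (_ : IsDiscreteValuationRing V) (φ : A →+* V),
      IsLocalHom φ ∧ φ.Finite ∧ RingHom.ker φ = q.1 := by
    rintro ⟨q, hq⟩
    obtain ⟨h1, h2, h3⟩ := hsQ hq
    haveI := h1
    exact exists_dvr A q h2 h3
  choose V i1 i2 i3 φ h1 h2 h3 using H
  let e : Fin s.card ≃ {q : Ideal A // q ∈ s} := s.equivFin.symm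
  refine ⟨s.card, fun i => V (e i), fun i => i1 (e i), fun i => i2 (e i), fun i => i3 (e i),
    fun i => φ (e i), fun i => ⟨h1 (e i), h2 (e i)⟩, ?_⟩
  refine le_trans ?_ hs
  refine Finset.le_inf fun q hq => ?_
  have := iInf_le (fun i => RingHom.ker (φ (e i))) (e.symm ⟨q, hq⟩)
  simp only [Equiv.apply_symm_apply, h3] at this
  simp only [h3, id]
  exact this

end helpers

/-- Let A be a Noetherian local ring which is reduced, complete (for the topology defined by its maximal
ideal m) and not a field. Then for every n there are finitely many local homomorphisms φ_i : A → V_i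
into discrete valuation rings, each making V_i a finite A-algebra, such that the intersection of
their kernels is contained in mⁿ. (Equivalently: such finite intersections form a base of
neighbourhoods of 0 for the m-adic topology.) -/
theorem result (A : Type u) [CommRing A] [IsNoetherianRing A]
    [IsLocalRing A] [IsReduced A] [IsAdicComplete (IsLocalRing.maximalIdeal A) A] (hA : ¬ IsField A) (n : ℕ) :
    ∃ (k : ℕ) (V : Fin k → Type u) (_ : ∀ i, CommRing (V i)) (_ : ∀ i, IsDomain (V i))
      (_ : ∀ i, IsDiscreteValuationRing (V i)) (φ : ∀ i, A →+* V i),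
      (∀ i, IsLocalHom (φ i) ∧ (φ i).Finite) ∧
        ⨅ i, RingHom.ker (φ i) ≤ IsLocalRing.maximalIdeal A ^ n := by
  exact main A hA n

end Groth.Agent.S3450
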