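-- Statement S4985.
import Groth.Statements.S4985
import Groth.Agent.Lib.H30SubschemeDim2
import Mathlib

set_option autoImplicit false
open CategoryTheory AlgebraicGeometry
universe u v w
open EGA43

namespace Groth.Agent.S4985

open Groth.Agent.Lib.H30SubschemeDim Groth.Agent.S3448 Scheme.IdealSheafData

theorem main {X Y : Scheme.{u}} [IsLocallyNoetherian Y] (f : X ⟶ Y)
    [LocallyOfFiniteType f] [QuasiCompact f] (x : X) (X' : TopologicalSpace.Closeds X) (hirr : IsIrreducible (X' : Set X))
    (hx : x ∈ X') (w : ↥(Scheme.IdealSheafData.vanishingIdeal X').subscheme)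
    (hw : (Scheme.IdealSheafData.vanishingIdeal X').subschemeι.base w = x)
    (v : ↥(Scheme.IdealSheafData.vanishingIdeal
      (⟨closure (f.base '' (X' : Set X)), isClosed_closure⟩ : TopologicalSpace.Closeds Y)).subscheme)
    (hv : (Scheme.IdealSheafData.vanishingIdeal
      (⟨closure (f.base '' (X' : Set X)), isClosed_closure⟩ : TopologicalSpace.Closeds Y)).subschemeι.base v = f.base x)
    (η' : Y) (hη' : closure ({η'} : Set Y) = closure (f.base '' (X' : Set X))) :
    letI ιX := (Scheme.IdealSheafData.vanishingIdeal X').subschemeι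
    letI dA := ringKrullDim (Y.presheaf.stalk (f.base x))
    letI dB := ringKrullDim (X.presheaf.stalk x)
    letI dA' := ringKrullDim ((Scheme.IdealSheafData.vanishingIdeal
      (⟨closure (f.base '' (X' : Set X)), isClosed_closure⟩ : TopologicalSpace.Closeds Y)).subscheme.presheaf.stalk v)
    letI dB' := ringKrullDim ((Scheme.IdealSheafData.vanishingIdeal X').subscheme.presheaf.stalk w)
    letI dBk := ringKrullDim ((f.fiber (f.base x)).presheaf.stalk (f.asFiber x))
    letI dB'k := ringKrullDim (((ιX ≫ f).fiber ((ιX ≫ f).base w)).presheaf.stalk ((ιX ≫ f).asFiber w))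
    letI e' := topologicalKrullDim ↥((X' : Set X) ∩ f.base ⁻¹' {η'})
    (dB' = dA + dBk ↔
      (dA' = dA ∧ dB'k = dBk ∧ FlatMor.fibreDimAt (ιX ≫ f) w = e' ∧ dB' = dA' + dB'k)) := by
  obtain ⟨f', hfac, hirrX, hirrY, hdom⟩ := exists_restriction f X' hirr
  haveI := hirrX
  haveI := hirrY
  subst hw
  haveI : IsLocallyNoetherian X := LocallyOfFiniteType.isLocallyNoetherian f
  haveI : IsLocallyNoetherian (vanishingIdeal X').subscheme :=
    LocallyOfFiniteType.isLocallyNoetherian (vanishingIdeal X').subschemeι
  haveI : IsLocallyNoetherian (vanishingIdeal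
      (⟨closure (f.base '' (X' : Set X)), isClosed_closure⟩ : TopologicalSpace.Closeds Y)).subscheme :=
    LocallyOfFiniteType.isLocallyNoetherian (vanishingIdeal
      (⟨closure (f.base '' (X' : Set X)), isClosed_closure⟩ : TopologicalSpace.Closeds Y)).subschemeι
  have ha := core_a f (vanishingIdeal X').subschemeι _ f' hfac w v hv
  have hb := core_b f (vanishingIdeal X').subschemeι (vanishingIdeal
      (⟨closure (f.base '' (X' : Set X)), isClosed_closure⟩ : TopologicalSpace.Closeds Y)).subschemeι w v hv
  have hc := core_c f (vanishingIdeal X').subschemeι w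
  have hd := core_d f (vanishingIdeal X').subschemeι _ f' hfac w v hv hdom
  have hrX : Set.range (vanishingIdeal X').subschemeι = (X' : Set X) := by
    rw [range_subschemeι, coe_support_vanishingIdeal]
  have hrY : Set.range (vanishingIdeal
      (⟨closure (f.base '' (X' : Set X)), isClosed_closure⟩ : TopologicalSpace.Closeds Y)).subschemeι =
      closure (f.base '' (X' : Set X)) := by
    rw [range_subschemeι, coe_support_vanishingIdeal]
    rfl
  have hgen := dim_generic_fiber_eq f (vanishingIdeal X').subschemeι _ f' hfac η'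
    (hη'.trans hrY.symm)
  rw [hrX] at hgen
  rw [hgen] at hd
  clear hgen
  obtain ⟨dA, hdA⟩ := nat_dim (Y.presheaf.stalk (f.base ((vanishingIdeal X').subschemeι.base w)))
  obtain ⟨dA', hdA'⟩ := nat_dim ((vanishingIdeal
      (⟨closure (f.base '' (X' : Set X)), isClosed_closure⟩ : TopologicalSpace.Closeds Y)).subscheme.presheaf.stalk v)
  obtain ⟨dB', hdB'⟩ := nat_dim ((vanishingIdeal X').subscheme.presheaf.stalk w)
  obtain ⟨dBk, hdBk⟩ := exists_nat_fibreStalk_dim f ((vanishingIdeal X').subschemeι.base w)
  obtain ⟨dB'k, hdB'k⟩ := exists_nat_fibreStalk_dim ((vanishingIdeal X').subschemeι ≫ f) w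
  have hdB'k' : ringKrullDim ((((vanishingIdeal X').subschemeι ≫ f).fiber
      (((vanishingIdeal X').subschemeι ≫ f).base w)).presheaf.stalk
      (((vanishingIdeal X').subschemeι ≫ f).asFiber w)) = dB'k := hdB'k
  rw [hdB'k', hdA', hdB'] at ha hd
  rw [hdA', hdA] at hb
  rw [hdB'k', hdBk] at hc
  rw [hdB'k', hdA', hdB', hdA, hdBk]
  have ha' : dB' ≤ dA' + dB'k := by exact_mod_cast ha
  have hb' : dA' ≤ dA := by exact_mod_cast hb
  have hc' : dB'k ≤ dBk := by exact_mod_cast hc
  constructor
  · intro h
    have h' : dB' = dA + dBk := by exact_mod_cast h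
    have e1 : dA' = dA := by omega
    have e2 : dB'k = dBk := by omega
    have e3 : dB' = dA' + dB'k := by omega
    refine ⟨by exact_mod_cast e1, by exact_mod_cast e2, hd (by exact_mod_cast e3),
      by exact_mod_cast e3⟩
  · rintro ⟨h1, h2, -, h4⟩
    have e1 : dA' = dA := by exact_mod_cast h1
    have e2 : dB'k = dBk := by exact_mod_cast h2
    have e3 : dB' = dA' + dB'k := by exact_mod_cast h4
    have : dB' = dA + dBk := by omega
    exact_mod_cast this

/-- Let Y be a locally Noetherian scheme, f : X ⟶ Y a morphism of finite type, x a point of X with y = f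
x, X' an irreducible closed subset of X containing x, regarded as a reduced closed subscheme, and Y'
the closure of f(X') regarded as a reduced closed subscheme of Y, with generic point η'. Write A, B,
A', B' for the local rings of Y at y, of X at x, of Y' at y and of X' at x, and B ⊗ κ(y), B' ⊗ κ(y)
for the local rings at x of the fibres over y of X and of X'. Then dim B' = dim A + dim(B ⊗ κ(y)) if
and only if all of the following hold: (i) dim A' = dim A; (ii) dim(B' ⊗ κ(y)) = dim(B ⊗ κ(y));
(iii) X' is equidimensional over Y' at x, i.e. the local dimension at x of the fibre of X' over y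
equals dim(X' ∩ f⁻¹(η')); (iv) dim B' = dim A' + dim(B' ⊗ κ(y)) (the published (iv) carries the
correction term dim_x − dim of (iii), which vanishes under (iii)). -/
theorem result {X Y : Scheme.{u}} [IsLocallyNoetherian Y] (f : X ⟶ Y)
    [LocallyOfFiniteType f] [QuasiCompact f] (x : X) (X' : TopologicalSpace.Closeds X) (hirr : IsIrreducible (X' : Set X))
    (hx : x ∈ X') (w : ↥(Scheme.IdealSheafData.vanishingIdeal X').subscheme)
    (hw : (Scheme.IdealSheafData.vanishingIdeal X').subschemeι.base w = x)
    (v : ↥(Scheme.IdealSheafData.vanishingIdeal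
      (⟨closure (f.base '' (X' : Set X)), isClosed_closure⟩ : TopologicalSpace.Closeds Y)).subscheme)
    (hv : (Scheme.IdealSheafData.vanishingIdeal
      (⟨closure (f.base '' (X' : Set X)), isClosed_closure⟩ : TopologicalSpace.Closeds Y)).subschemeι.base v = f.base x)
    (η' : Y) (hη' : closure ({η'} : Set Y) = closure (f.base '' (X' : Set X))) :
    letI ιX := (Scheme.IdealSheafData.vanishingIdeal X').subschemeι
    letI dA := ringKrullDim (Y.presheaf.stalk (f.base x))
    letI dB := ringKrullDim (X.presheaf.stalk x)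
    letI dA' := ringKrullDim ((Scheme.IdealSheafData.vanishingIdeal
      (⟨closure (f.base '' (X' : Set X)), isClosed_closure⟩ : TopologicalSpace.Closeds Y)).subscheme.presheaf.stalk v)
    letI dB' := ringKrullDim ((Scheme.IdealSheafData.vanishingIdeal X').subscheme.presheaf.stalk w)
    letI dBk := ringKrullDim ((f.fiber (f.base x)).presheaf.stalk (f.asFiber x))
    letI dB'k := ringKrullDim (((ιX ≫ f).fiber ((ιX ≫ f).base w)).presheaf.stalk ((ιX ≫ f).asFiber w))
    letI e' := topologicalKrullDim ↥((X' : Set X) ∩ f.base ⁻¹' {η'})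
    (dB' = dA + dBk ↔
      (dA' = dA ∧ dB'k = dBk ∧ FlatMor.fibreDimAt (ιX ≫ f) w = e' ∧ dB' = dA' + dB'k)) := by
  exact main f x X' hirr hx w hw v hv η' hη'

end Groth.Agent.S4985
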