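-- Statement S4986.
import Groth.Statements.S4986
import Groth.Agent.S4985
import Mathlib

set_option autoImplicit false
open CategoryTheory AlgebraicGeometry
universe u v w
open EGA43

namespace Groth.Agent.S4986

open Groth.Agent.Lib.H30SubschemeDim Groth.Agent.S3448 Scheme.IdealSheafData
  Groth.Agent.Lib.H30DimRel Groth.Agent.Lib.H30IrrFib Groth.Agent.Lib.H56LocDim

theorem localDim_inter_fiber_eq {X Y Xr : Scheme.{u}} (f : X ⟶ Y) (ιX : Xr ⟶ X)
    (hemb : Topology.IsEmbedding ιX) (S : Set X) (hS : Set.range ιX = S) (w : Xr)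
    (hx : ιX w ∈ S) :
    FlatMor.localDim ↥(S ∩ f ⁻¹' {f (ιX w)}) ⟨ιX w, ⟨hx, rfl⟩⟩ =
      FlatMor.fibreDimAt (ιX ≫ f) w := by
  rw [fibreDimAt_eq_fibLocDim]
  unfold fibLocDim
  have hmem : ∀ a : ((ιX ≫ f) ⁻¹' {(ιX ≫ f) w}), ιX a.1 ∈ S ∩ f ⁻¹' {f (ιX w)} := by
    intro a
    refine ⟨hS ▸ ⟨a.1, rfl⟩, ?_⟩
    exact a.2
  let J : ((ιX ≫ f) ⁻¹' {(ιX ≫ f) w}) → ↥(S ∩ f ⁻¹' {f (ιX w)}) := fun a => ⟨ιX a.1, hmem a⟩
  have hJemb : Topology.IsEmbedding J := by
    have h1 : Topology.IsEmbedding (fun a : ((ιX ≫ f) ⁻¹' {(ιX ≫ f) w}) => ιX a.1) :=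
      hemb.comp Topology.IsEmbedding.subtypeVal
    exact Topology.IsEmbedding.of_comp (Continuous.subtype_mk h1.continuous _)
      continuous_subtype_val h1
  have hJsurj : Function.Surjective J := by
    rintro ⟨p, hp1, hp2⟩
    rw [← hS] at hp1
    obtain ⟨a, rfl⟩ := hp1
    exact ⟨⟨a, hp2⟩, rfl⟩
  exact (localDim_eq_of_homeomorph (hJemb.toHomeomorphOfSurjective hJsurj) ⟨w, rfl⟩).symm

theorem main {X Y : Scheme.{u}} [IsLocallyNoetherian Y] (f : X ⟶ Y)
    [LocallyOfFiniteType f] [QuasiCompact f] (x : X) (X' : TopologicalSpace.Closeds X) (hirr : IsIrreducible (X' : Set X))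
    (hx : x ∈ X') (w : ↥(Scheme.IdealSheafData.vanishingIdeal X').subscheme)
    (hw : (Scheme.IdealSheafData.vanishingIdeal X').subschemeι.base w = x)
    (v : ↥(Scheme.IdealSheafData.vanishingIdeal
      (⟨closure (f.base '' (X' : Set X)), isClosed_closure⟩ : TopologicalSpace.Closeds Y)).subscheme)
    (hv : (Scheme.IdealSheafData.vanishingIdeal
      (⟨closure (f.base '' (X' : Set X)), isClosed_closure⟩ : TopologicalSpace.Closeds Y)).subschemeι.base v = f.base x)
    (η' : Y) (hη' : closure ({η'} : Set Y) = closure (f.base '' (X' : Set X))) :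
    letI ιX := (Scheme.IdealSheafData.vanishingIdeal X').subschemeι
    letI dA := ringKrullDim (Y.presheaf.stalk (f.base x))
    letI dB := ringKrullDim (X.presheaf.stalk x)
    letI dA' := ringKrullDim ((Scheme.IdealSheafData.vanishingIdeal
      (⟨closure (f.base '' (X' : Set X)), isClosed_closure⟩ : TopologicalSpace.Closeds Y)).subscheme.presheaf.stalk v)
    letI dB' := ringKrullDim ((Scheme.IdealSheafData.vanishingIdeal X').subscheme.presheaf.stalk w)
    letI dBk := ringKrullDim ((f.fiber (f.base x)).presheaf.stalk (f.asFiber x))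
    letI dB'k := ringKrullDim (((ιX ≫ f).fiber ((ιX ≫ f).base w)).presheaf.stalk ((ιX ≫ f).asFiber w))
    letI e' := topologicalKrullDim ↥((X' : Set X) ∩ f.base ⁻¹' {η'})
    dB = dA + dBk →
      ((dA' = dA ∧ FlatMor.localDim ↥((X' : Set X) ∩ f.base ⁻¹' {f.base x}) ⟨x, ⟨hx, rfl⟩⟩ = FlatMor.fibreDimAt f x ∧
        FlatMor.fibreDimAt (ιX ≫ f) w = e' ∧ dB' = dA' + dB'k) ↔ dB' = dB) := by
  intro hB
  have key := Groth.Agent.S4985.main f x X' hirr hx w hw v hv η' hη'
  subst hw
  have hrX : Set.range (vanishingIdeal X').subschemeι = (X' : Set X) := by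
    rw [range_subschemeι, coe_support_vanishingIdeal]
  have hT := localDim_inter_fiber_eq f (vanishingIdeal X').subschemeι
    (vanishingIdeal X').subschemeι.isEmbedding (X' : Set X) hrX w hx
  haveI : IsLocallyNoetherian X := LocallyOfFiniteType.isLocallyNoetherian f
  haveI : IsLocallyNoetherian (vanishingIdeal X').subscheme :=
    LocallyOfFiniteType.isLocallyNoetherian (vanishingIdeal X').subschemeι
  haveI : IsLocallyNoetherian (vanishingIdeal
      (⟨closure (f.base '' (X' : Set X)), isClosed_closure⟩ : TopologicalSpace.Closeds Y)).subscheme :=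
    LocallyOfFiniteType.isLocallyNoetherian (vanishingIdeal
      (⟨closure (f.base '' (X' : Set X)), isClosed_closure⟩ : TopologicalSpace.Closeds Y)).subschemeι
  have h1 := Groth.Agent.Lib.FibreDimAtFormula.fibreDimAt_eq_add
    ((vanishingIdeal X').subschemeι ≫ f) w (rt ((vanishingIdeal X').subschemeι ≫ f) w)
    (trdeg_eq_rt ((vanishingIdeal X').subschemeι ≫ f) w)
  have h2 := Groth.Agent.Lib.FibreDimAtFormula.fibreDimAt_eq_add f
    ((vanishingIdeal X').subschemeι w) (rt f ((vanishingIdeal X').subschemeι w))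
    (trdeg_eq_rt f ((vanishingIdeal X').subschemeι w))
  rw [rt_comp_of_isPreimmersion f (vanishingIdeal X').subschemeι w] at h1
  obtain ⟨dA, hdA⟩ := nat_dim (Y.presheaf.stalk (f.base ((vanishingIdeal X').subschemeι.base w)))
  obtain ⟨dB, hdB⟩ := nat_dim (X.presheaf.stalk ((vanishingIdeal X').subschemeι.base w))
  obtain ⟨dA', hdA'⟩ := nat_dim ((vanishingIdeal
      (⟨closure (f.base '' (X' : Set X)), isClosed_closure⟩ : TopologicalSpace.Closeds Y)).subscheme.presheaf.stalk v)
  obtain ⟨dB', hdB'⟩ := nat_dim ((vanishingIdeal X').subscheme.presheaf.stalk w)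
  obtain ⟨dBk, hdBk⟩ := exists_nat_fibreStalk_dim f ((vanishingIdeal X').subschemeι.base w)
  obtain ⟨dB'k, hdB'k⟩ := exists_nat_fibreStalk_dim ((vanishingIdeal X').subschemeι ≫ f) w
  have hdB'k' : ringKrullDim ((((vanishingIdeal X').subschemeι ≫ f).fiber
      (((vanishingIdeal X').subschemeι ≫ f).base w)).presheaf.stalk
      (((vanishingIdeal X').subschemeι ≫ f).asFiber w)) = dB'k := hdB'k
  have hT' : FlatMor.localDim ↥((X' : Set X) ∩ f.base ⁻¹' {f.base ((vanishingIdeal X').subschemeι.base w)})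
      ⟨(vanishingIdeal X').subschemeι.base w, ⟨hx, rfl⟩⟩ =
      FlatMor.fibreDimAt ((vanishingIdeal X').subschemeι ≫ f) w := hT
  rw [hdB'k'] at h1
  rw [hdBk] at h2
  rw [hT', h1, h2]
  rw [hdB'k', hdA', hdB', hdA, hdBk] at key
  rw [hdB, hdA, hdBk] at hB
  rw [hdB'k', hdA', hdB', hdA, hdB]
  have hB' : dB = dA + dBk := by exact_mod_cast hB
  constructor
  · rintro ⟨e1, e2, -, e4⟩
    have e1' : dA' = dA := by exact_mod_cast e1
    have e2' : dB'k + rt f ((vanishingIdeal X').subschemeι w) =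
        dBk + rt f ((vanishingIdeal X').subschemeι w) := by exact_mod_cast e2
    have e4' : dB' = dA' + dB'k := by exact_mod_cast e4
    have : dB' = dB := by omega
    exact_mod_cast this
  · intro h
    have h' : dB' = dB := by exact_mod_cast h
    have h3 : ((dB' : ℕ) : WithBot ℕ∞) = (dA : WithBot ℕ∞) + (dBk : WithBot ℕ∞) := by
      have : dB' = dA + dBk := by omega
      exact_mod_cast this
    obtain ⟨k1, k2, k3, k4⟩ := key.mp h3
    refine ⟨k1, ?_, ?_, k4⟩
    · rw [k2]
    · rw [h1] at k3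
      exact k3

/-- Let Y be locally Noetherian, f : X ⟶ Y of finite type, x ∈ X, y = f x, X' an irreducible closed
subset containing x with its reduced structure, Y' the closure of f(X') with its reduced structure
and generic point η', and A, B, A', B' the local rings of Y at y, of X at x, of Y' at y and of X' at
x. Suppose dim B = dim A + dim(B ⊗ κ(y)). Then X' satisfies the four conditions (i) dim A' = dim A,
(ii) dim_x(X' ∩ X_y) = dim_x(X_y), (iii) X' equidimensional over Y' at x, (iv) dim B' = dim A' +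
dim(B' ⊗ κ(y)), if and only if dim B' = dim B. -/
theorem result {X Y : Scheme.{u}} [IsLocallyNoetherian Y] (f : X ⟶ Y)
    [LocallyOfFiniteType f] [QuasiCompact f] (x : X) (X' : TopologicalSpace.Closeds X) (hirr : IsIrreducible (X' : Set X))
    (hx : x ∈ X') (w : ↥(Scheme.IdealSheafData.vanishingIdeal X').subscheme)
    (hw : (Scheme.IdealSheafData.vanishingIdeal X').subschemeι.base w = x)
    (v : ↥(Scheme.IdealSheafData.vanishingIdeal
      (⟨closure (f.base '' (X' : Set X)), isClosed_closure⟩ : TopologicalSpace.Closeds Y)).subscheme)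
    (hv : (Scheme.IdealSheafData.vanishingIdeal
      (⟨closure (f.base '' (X' : Set X)), isClosed_closure⟩ : TopologicalSpace.Closeds Y)).subschemeι.base v = f.base x)
    (η' : Y) (hη' : closure ({η'} : Set Y) = closure (f.base '' (X' : Set X))) :
    letI ιX := (Scheme.IdealSheafData.vanishingIdeal X').subschemeι
    letI dA := ringKrullDim (Y.presheaf.stalk (f.base x))
    letI dB := ringKrullDim (X.presheaf.stalk x)
    letI dA' := ringKrullDim ((Scheme.IdealSheafData.vanishingIdeal
      (⟨closure (f.base '' (X' : Set X)), isClosed_closure⟩ : TopologicalSpace.Closeds Y)).subscheme.presheaf.stalk v)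
    letI dB' := ringKrullDim ((Scheme.IdealSheafData.vanishingIdeal X').subscheme.presheaf.stalk w)
    letI dBk := ringKrullDim ((f.fiber (f.base x)).presheaf.stalk (f.asFiber x))
    letI dB'k := ringKrullDim (((ιX ≫ f).fiber ((ιX ≫ f).base w)).presheaf.stalk ((ιX ≫ f).asFiber w))
    letI e' := topologicalKrullDim ↥((X' : Set X) ∩ f.base ⁻¹' {η'})
    dB = dA + dBk →
      ((dA' = dA ∧ FlatMor.localDim ↥((X' : Set X) ∩ f.base ⁻¹' {f.base x}) ⟨x, ⟨hx, rfl⟩⟩ = FlatMor.fibreDimAt f x ∧
        FlatMor.fibreDimAt (ιX ≫ f) w = e' ∧ dB' = dA' + dB'k) ↔ dB' = dB) := by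
  exact main f x X' hirr hx w hw v hv η' hη'

end Groth.Agent.S4986
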