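-- Statement S3456.
import Groth.Statements.S3456
import Groth.Agent.Lib.H30EquidimAt2
import Groth.Agent.Lib.H30LowerBound
import Groth.Agent.S4986
import Mathlib

set_option autoImplicit false
open CategoryTheory AlgebraicGeometry
universe u
open EGA43

namespace Groth.Agent.S3456

open Groth.Agent.Lib.H30EquidimAt Groth.Agent.Lib.H30DimRel Groth.Agent.Lib.H30LowerBound
  Groth.Agent.Lib.H30GenFib Groth.Agent.Lib.H30IrrFib Groth.Agent.Lib.H30DimField
  Groth.Agent.Lib.H30SubschemeDim Groth.Agent.Lib.H56LocDim Groth.Agent.Lib.H30FibRes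

variable {X Y : Scheme.{u}}

/-- (L1) the fibre of `closure {ζ}` over `f ζ` has dimension `trdeg κ(ζ)/κ(f ζ)` -/
theorem dim_closure_inter_fiber (f : X ⟶ Y) [LocallyOfFiniteType f] (ζ : X) :
    topologicalKrullDim ↥(closure ({ζ} : Set X) ∩ f ⁻¹' {f ζ}) = ((rt f ζ : ℕ) : WithBot ℕ∞) := by
  rw [← krullDim_closure_asFiber f ζ (rt f ζ) (trdeg_eq_rt f ζ)]
  symm
  have hemb := (f.fiberι (f ζ)).isEmbedding
  have hmem : ∀ t : ↥(closure ({f.asFiber ζ} : Set (f.fiber (f ζ)))),
      f.fiberι (f ζ) t.1 ∈ closure ({ζ} : Set X) ∩ f ⁻¹' {f ζ} := by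
    intro t
    constructor
    · have h1 : f.asFiber ζ ⤳ t.1 := specializes_iff_mem_closure.mpr t.2
      have h2 := h1.map (f.fiberι (f ζ)).continuous
      rw [f.fiberι_asFiber] at h2
      exact specializes_iff_mem_closure.mp h2
    · have : f.fiberι (f ζ) t.1 ∈ Set.range (f.fiberι (f ζ)) := ⟨_, rfl⟩
      rw [f.range_fiberι] at this
      exact this
  let F : ↥(closure ({f.asFiber ζ} : Set (f.fiber (f ζ)))) →
      ↥(closure ({ζ} : Set X) ∩ f ⁻¹' {f ζ}) := fun t => ⟨f.fiberι (f ζ) t.1, hmem t⟩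
  have hFemb : Topology.IsEmbedding F := by
    have h1 : Topology.IsEmbedding (fun t : ↥(closure ({f.asFiber ζ} : Set (f.fiber (f ζ)))) =>
        f.fiberι (f ζ) t.1) := hemb.comp Topology.IsEmbedding.subtypeVal
    exact Topology.IsEmbedding.of_comp (Continuous.subtype_mk h1.continuous _)
      continuous_subtype_val h1
  have hFsurj : Function.Surjective F := by
    rintro ⟨p, hp1, hp2⟩
    obtain ⟨t, rfl⟩ : p ∈ Set.range (f.fiberι (f ζ)) := by
      rw [f.range_fiberι]; exact hp2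
    have ht : t ∈ closure ({f.asFiber ζ} : Set (f.fiber (f ζ))) := by
      rw [← specializes_iff_mem_closure, ← hemb.isInducing.specializes_iff, f.fiberι_asFiber]
      exact specializes_iff_mem_closure.mpr hp1
    exact ⟨⟨t, ht⟩, rfl⟩
  exact IsHomeomorph.topologicalKrullDim_eq F
    (isHomeomorph_iff_isEmbedding_surjective.mpr ⟨hFemb, hFsurj⟩)

/-- (L2a) -/
theorem localDim_inter_le (f : X ⟶ Y) (S : Set X) (x : X) (hx : x ∈ S) :
    FlatMor.localDim ↥(S ∩ f ⁻¹' {f x}) ⟨x, ⟨hx, rfl⟩⟩ ≤ FlatMor.fibreDimAt f x := by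
  rw [fibreDimAt_eq_fibLocDim]
  unfold fibLocDim
  let J : ↥(S ∩ f ⁻¹' {f x}) → ↥(f ⁻¹' {f x}) := fun t => ⟨t.1, t.2.2⟩
  have hJ : Topology.IsInducing J := by
    have h1 : Topology.IsInducing (fun t : ↥(S ∩ f ⁻¹' {f x}) => (t.1 : X)) :=
      Topology.IsInducing.subtypeVal
    exact Topology.IsInducing.of_comp (Continuous.subtype_mk h1.continuous _)
      continuous_subtype_val h1
  exact localDim_le_of_isInducing hJ ⟨x, ⟨hx, rfl⟩⟩

/-- (L2c) -/
theorem rt_le_localDim_closure_inter (f : X ⟶ Y) [LocallyOfFiniteType f] (x ζ : X)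
    (hx : x ∈ closure ({ζ} : Set X)) (w : X) (hζw : ζ ⤳ w) (hwx : w ⤳ x) (hfw : f w = f x) :
    ((rt f w : ℕ) : WithBot ℕ∞) ≤
      FlatMor.localDim ↥(closure ({ζ} : Set X) ∩ f ⁻¹' {f x}) ⟨x, ⟨hx, rfl⟩⟩ := by
  let W : TopologicalSpace.Closeds X := ⟨closure {ζ}, isClosed_closure⟩
  have hrange : Set.range (Groth.Agent.Lib.H69RedInduced.redSubι W) = closure {ζ} :=
    Groth.Agent.Lib.H69RedInduced.range_redSubι W
  obtain ⟨w₀, rfl⟩ : x ∈ Set.range (Groth.Agent.Lib.H69RedInduced.redSubι W) := by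
    rw [hrange]; exact hx
  obtain ⟨w₁, rfl⟩ : w ∈ Set.range (Groth.Agent.Lib.H69RedInduced.redSubι W) := by
    rw [hrange]; exact specializes_iff_mem_closure.mp hζw
  have hsp : w₁ ⤳ w₀ :=
    (Groth.Agent.Lib.H69RedInduced.redSubι W).isEmbedding.isInducing.specializes_iff.mp hwx
  have h1 := rt_le_fibreDimAt_of_specializes (Groth.Agent.Lib.H69RedInduced.redSubι W ≫ f)
    w₀ w₁ hfw hsp
  rw [rt_comp_of_isPreimmersion] at h1
  rw [Groth.Agent.S4986.localDim_inter_fiber_eq f (Groth.Agent.Lib.H69RedInduced.redSubι W)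
    (Groth.Agent.Lib.H69RedInduced.redSubι W).isEmbedding (closure {ζ}) hrange w₀ hx]
  exact h1

/-- (L2b) -/
theorem rt_le_localDim_closure_inter' (f : X ⟶ Y) [LocallyOfFiniteType f] (x ζ : X)
    (hx : x ∈ closure ({ζ} : Set X)) :
    ((rt f ζ : ℕ) : WithBot ℕ∞) ≤
      FlatMor.localDim ↥(closure ({ζ} : Set X) ∩ f ⁻¹' {f x}) ⟨x, ⟨hx, rfl⟩⟩ := by
  obtain ⟨z, hζz, hzx, hfz, hrt⟩ :=
    exists_specialization_rt_ge f x ζ (specializes_iff_mem_closure.mpr hx)
  refine le_trans ?_ (rt_le_localDim_closure_inter f x ζ hx z hζz hzx hfz)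
  exact_mod_cast hrt

theorem main [IsLocallyNoetherian Y] (f : X ⟶ Y)
    [LocallyOfFiniteType f] (x : X) :
    EGA43.IsEquidimAt f x ↔
      ∃ e : ℕ, ∀ Xj ∈ irreducibleComponents (X : Type u), ∀ hx : x ∈ Xj,
        closure (f.base '' Xj) ∈ irreducibleComponents (Y : Type u) ∧
        (∀ η : Y, closure ({η} : Set Y) = closure (f.base '' Xj) →
          topologicalKrullDim ↥(Xj ∩ f.base ⁻¹' {η}) = e) ∧
        FlatMor.localDim ↥(Xj ∩ f.base ⁻¹' {f.base x})
          ⟨x, ⟨hx, Set.mem_singleton (f.base x)⟩⟩ = e := by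
  haveI : IsLocallyNoetherian X := LocallyOfFiniteType.isLocallyNoetherian f
  rw [isEquidimAt_iff]
  constructor
  · rintro ⟨e, U, hxU, hmax, hfib⟩
    refine ⟨e, ?_⟩
    intro Xj hXj hx
    obtain ⟨ζ, hζ⟩ : ∃ z, IsGenericPoint z Xj :=
      QuasiSober.sober hXj.1 (isClosed_of_mem_irreducibleComponents Xj hXj)
    obtain rfl : closure {ζ} = Xj := hζ.def
    have hζmax : IsMaxPt ζ := (closure_mem_irreducibleComponents_iff ζ).mp hXj
    have hζx : ζ ⤳ x := specializes_iff_mem_closure.mpr hx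
    have hζU : ζ ∈ U := hζx.mem_open U.isOpen hxU
    obtain ⟨hfζmax, hfζx⟩ := hmax ζ hζU hζmax
    have hcl : closure (f.base '' closure {ζ}) = closure {f ζ} := by
      rw [closure_image_closure f.continuous, Set.image_singleton]
    have hrt : rt f ζ = e := by
      have h1 := fibreDimAt_of_maximal f ζ hζmax
      rw [hfib ζ hζU] at h1
      exact_mod_cast h1.symm
    refine ⟨?_, ?_, ?_⟩
    · rw [hcl]
      exact (closure_mem_irreducibleComponents_iff _).mpr hfζmax
    · intro η hη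
      rw [hcl] at hη
      have hηeq : η = f ζ := by
        have h1 : IsGenericPoint η (closure {f ζ}) := hη
        exact h1.eq (isGenericPoint_closure)
      rw [hηeq, dim_closure_inter_fiber f ζ, hrt]
    · apply le_antisymm
      · exact (localDim_inter_le f (closure {ζ}) x hx).trans (hfib x hxU).le
      · rw [← hrt]
        exact rt_le_localDim_closure_inter' f x ζ hx
  · rintro ⟨e, he⟩
    -- the data at maximal points generizing x
    have hkey : ∀ ζ : X, IsMaxPt ζ → ζ ⤳ x → IsMaxPt (f ζ) ∧ rt f ζ = e ∧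
        ∀ w : X, ζ ⤳ w → w ⤳ x → f w = f x → rt f w ≤ e := by
      intro ζ hζmax hζx
      have hXj : closure ({ζ} : Set X) ∈ irreducibleComponents X :=
        (closure_mem_irreducibleComponents_iff ζ).mpr hζmax
      have hx : x ∈ closure ({ζ} : Set X) := specializes_iff_mem_closure.mp hζx
      obtain ⟨h1, h2, h3⟩ := he _ hXj hx
      have hcl : closure (f.base '' closure {ζ}) = closure {f ζ} := by
        rw [closure_image_closure f.continuous, Set.image_singleton]
      refine ⟨?_, ?_, ?_⟩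
      · rw [hcl] at h1
        exact (closure_mem_irreducibleComponents_iff _).mp h1
      · have h4 := h2 (f ζ) hcl.symm
        rw [dim_closure_inter_fiber f ζ] at h4
        exact_mod_cast h4
      · intro w hζw hwx hfw
        have h5 := rt_le_localDim_closure_inter f x ζ hx w hζw hwx hfw
        have h3' : FlatMor.localDim ↥(closure ({ζ} : Set X) ∩ f ⁻¹' {f x}) ⟨x, ⟨hx, rfl⟩⟩ = e := h3
        rw [h3'] at h5
        exact_mod_cast h5
    have hxe : FlatMor.fibreDimAt f x ≤ (e : WithBot ℕ∞) := by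
      obtain ⟨w, hw1, hw2, -, hw4⟩ := exists_rt_eq_fibreDimAt f x
      obtain ⟨ζ, hζmax, hζw⟩ := exists_isMaxPt_specializes w
      have := (hkey ζ hζmax (hζw.trans hw2)).2.2 w hζw hw2 hw1
      rw [← hw4]
      exact_mod_cast this
    have hopen := Groth.Agent.S0402.result f e
    obtain ⟨U₀, hU₀⟩ : ∃ U₀ : X.Opens, (U₀ : Set X) = {z : X | FlatMor.fibreDimAt f z ≤ e} :=
      ⟨⟨_, hopen⟩, rfl⟩
    have hxU₀ : x ∈ U₀ := by
      show x ∈ (U₀ : Set X)
      rw [hU₀]
      exact hxe
    obtain ⟨U, hxU, hUU₀, hUmax⟩ := exists_open_all_max_specialize x U₀ hxU₀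
    refine ⟨e, U, hxU, ?_, ?_⟩
    · intro ζ hζU hζmax
      have hζx := hUmax ζ hζU hζmax
      exact ⟨(hkey ζ hζmax hζx).1, hζx.map f.continuous⟩
    · intro z hzU
      apply le_antisymm
      · have : z ∈ (U₀ : Set X) := hUU₀ hzU
        rw [hU₀] at this
        exact this
      · obtain ⟨ζ, hζmax, hζz⟩ := exists_isMaxPt_specializes z
        have hζU : ζ ∈ U := hζz.mem_open U.isOpen hzU
        have hζx := hUmax ζ hζU hζmax
        obtain ⟨z₁, -, hz₁z, hfz₁, hrt⟩ := exists_specialization_rt_ge f z ζ hζz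
        rw [(hkey ζ hζmax hζx).2.1] at hrt
        have h1 := rt_le_fibreDimAt_of_specializes f z z₁ hfz₁ hz₁z
        refine le_trans ?_ h1
        exact_mod_cast hrt

/-- Let Y be locally Noetherian, f : X ⟶ Y locally of finite type and x a point of X; let X_j run over
the (finitely many) irreducible components of X containing x. Then f is equidimensional at x if and
only if there is a natural number e such that for every X_j: the closure Y_j of f(X_j) is an
irreducible component of Y; for every point η of Y whose closure equals Y_j (i.e. the generic point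
of Y_j), the fibre X_j ∩ f⁻¹(η) has topological Krull dimension e; and the local dimension at x of
X_j ∩ f⁻¹(f x) is e. All subsets of X carry the induced topology. -/
theorem result {X Y : Scheme.{u}} [IsLocallyNoetherian Y] (f : X ⟶ Y)
    [LocallyOfFiniteType f] (x : X) :
    EGA43.IsEquidimAt f x ↔
      ∃ e : ℕ, ∀ Xj ∈ irreducibleComponents (X : Type u), ∀ hx : x ∈ Xj,
        closure (f.base '' Xj) ∈ irreducibleComponents (Y : Type u) ∧
        (∀ η : Y, closure ({η} : Set Y) = closure (f.base '' Xj) →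
          topologicalKrullDim ↥(Xj ∩ f.base ⁻¹' {η}) = e) ∧
        FlatMor.localDim ↥(Xj ∩ f.base ⁻¹' {f.base x}) ⟨x, ⟨hx, Set.mem_singleton (f.base x)⟩⟩ = e := by
  exact main f x

end Groth.Agent.S3456
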