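-- Statement S3457.
import Groth.Statements.S3457
import Groth.Agent.Lib.H30EquidimAt
import Mathlib

set_option autoImplicit false
open CategoryTheory AlgebraicGeometry
universe u
open EGA43

namespace Groth.Agent.S3457

open Groth.Agent.Lib.H30EquidimAt Groth.Agent.Lib.H30DimRel Groth.Agent.Lib.H30DimFormulaGen
  Groth.Agent.Lib.H30GenFib Groth.Agent.Lib.H30IrrFib

/-- the prime of `f ζ` in `O_{Y,f x}` is the contraction of the prime of `ζ` in `O_{X,x}` -/
theorem comap_ker_specMap {X Y : Scheme.{u}} (f : X ⟶ Y) (x ζ : X) (h : ζ ⤳ x) :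
    (RingHom.ker (Cyc.specMap x ζ h)).comap (f.stalkMap x).hom =
      RingHom.ker (Cyc.specMap (f x) (f ζ) (h.map f.continuous)) := by
  haveI hp : (RingHom.ker (Cyc.specMap x ζ h)).IsPrime := RingHom.ker_isPrime _
  have h0 := congrArg (fun φ : Spec (X.presheaf.stalk x) ⟶ Y =>
      φ (⟨RingHom.ker (Cyc.specMap x ζ h), hp⟩ : PrimeSpectrum (X.presheaf.stalk x)))
    (Scheme.SpecMap_stalkMap_fromSpecStalk f (x := x))
  have h1 : Y.fromSpecStalk (f x) ((Spec.map (f.stalkMap x))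
      (⟨RingHom.ker (Cyc.specMap x ζ h), hp⟩ : PrimeSpectrum (X.presheaf.stalk x))) = f ζ := by
    refine h0.trans ?_
    show f (X.fromSpecStalk x _) = f ζ
    rw [fromSpecStalk_ker]
  have h2 := fromSpecStalk_ker (f x) (f ζ) (h.map f.continuous)
  have h3 := (Y.fromSpecStalk (f x)).isEmbedding.injective (h1.trans h2.symm)
  exact congrArg PrimeSpectrum.asIdeal h3

theorem main {X Y : Scheme.{u}} [IsLocallyNoetherian Y] (f : X ⟶ Y)
    [LocallyOfFiniteType f] (x : X) (h : EGA43.IsEquidimAt f x)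
    (hcat : CAlg.IsUniversallyCatenary (Y.presheaf.stalk (f x))) :
    ∀ 𝔭 ∈ minimalPrimes (X.presheaf.stalk x),
      ringKrullDim (X.presheaf.stalk x ⧸ 𝔭) + ((rt f x : ℕ) : WithBot ℕ∞) =
        ringKrullDim (Y.presheaf.stalk (f x) ⧸ 𝔭.comap (f.stalkMap x).hom) +
          FlatMor.fibreDimAt f x := by
  obtain ⟨e, U, hxU, hmax, hfib⟩ := (isEquidimAt_iff f x).mp h
  intro p hp
  haveI : p.IsPrime := hp.1.1
  obtain ⟨ζ, hζ, rfl⟩ := exists_specializes_ker_eq x p
  have hζmax : IsMaxPt ζ := (ker_mem_minimalPrimes_iff x ζ hζ).mp hp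
  have hζU : ζ ∈ U := hζ.mem_open U.isOpen hxU
  obtain ⟨a, b, ha, hb, hab⟩ := gen_formula f x hcat ζ hζ
  have hrt : rt f ζ = e := by
    have h1 := fibreDimAt_of_maximal f ζ hζmax
    rw [hfib ζ hζU] at h1
    exact_mod_cast h1.symm
  rw [hrt] at hab
  have ha' : ringKrullDim (X.presheaf.stalk x ⧸ RingHom.ker (Cyc.specMap x ζ hζ)) = a := ha
  have hb' : ringKrullDim (Y.presheaf.stalk (f x) ⧸
      RingHom.ker (Cyc.specMap (f x) (f ζ) (hζ.map f.continuous))) = b := hb
  rw [comap_ker_specMap f x ζ hζ, ha', hb', hfib x hxU]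
  exact_mod_cast hab

/-- Let Y be locally Noetherian, f : X ⟶ Y locally of finite type, x a point of X with y = f x, and
suppose f is equidimensional at x and O_{Y,y} is universally catenary. Let e be the local dimension
at x of the fibre X_y. Then for every minimal prime 𝔭 of O_{X,x} (that is, for every irreducible
component X_j of X through x, with O_{X_j,x} = O_{X,x}/𝔭 and O_{Y_j,y} = O_{Y,y}/(𝔭 ∩ O_{Y,y})) one
has dim(O_{X,x}/𝔭) + trdeg_{κ(y)} κ(x) = dim(O_{Y,y}/(𝔭 ∩ O_{Y,y})) + e. -/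
theorem result {X Y : Scheme.{u}} [IsLocallyNoetherian Y] (f : X ⟶ Y)
    [LocallyOfFiniteType f] (x : X) (h : EGA43.IsEquidimAt f x)
    (hcat : CAlg.IsUniversallyCatenary (Y.presheaf.stalk (f.base x))) :
    letI : Algebra (Y.residueField (f.base x)) (X.residueField x) := (f.residueFieldMap x).hom.toAlgebra
    ∀ 𝔭 ∈ minimalPrimes (X.presheaf.stalk x),
      ringKrullDim (X.presheaf.stalk x ⧸ 𝔭) +
          (Cardinal.toNat (Algebra.trdeg (Y.residueField (f.base x)) (X.residueField x)) : WithBot ℕ∞) =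
        ringKrullDim (Y.presheaf.stalk (f.base x) ⧸ 𝔭.comap (f.stalkMap x).hom) + FlatMor.fibreDimAt f x := by
  exact main f x h hcat

end Groth.Agent.S3457
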