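import Groth.Statements.S3458
import Groth.Agent.Lib.H80SecCompBC
import Groth.Agent.Lib.H80DvrUnivOpen

set_option autoImplicit false
open CategoryTheory AlgebraicGeometry
universe u
open EGA43

namespace Groth.Agent.S3458

/-- Let Y be locally Noetherian, f : X ⟶ Y locally of finite type, g a section of f, and X⁰_y the
connected component of f⁻¹(y) containing g(y). Suppose that every X⁰_y is geometrically irreducible:
for every field extension K of κ(y), the preimage of X⁰_y in the base change of the fibre X_y to K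
is irreducible. Then for every point y such that z ↦ dim X⁰_z is constant on a neighbourhood of y, f
is universally open at every point of X⁰_y. -/
theorem result {X Y : Scheme.{u}} [IsLocallyNoetherian Y]
    (f : X ⟶ Y) [LocallyOfFiniteType f] (g : Y ⟶ X) (hg : g ≫ f = 𝟙 Y)
    (hgi : ∀ (y : Y) (K : Type u) [Field K] [Algebra (IsLocalRing.ResidueField (Y.presheaf.stalk y)) K],
      IsIrreducible ((FBase.bcπ (f.fiberToSpecResidueField y) K ≫ f.fiberι y).base ⁻¹' (connectedComponentIn (f.base ⁻¹' {y}) (g.base y))))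
    (y : Y)
    (hc : ∃ V ∈ nhds y, ∀ z ∈ V, topologicalKrullDim ↥(connectedComponentIn (f.base ⁻¹' {z}) (g.base z)) = topologicalKrullDim ↥(connectedComponentIn (f.base ⁻¹' {y}) (g.base y))) :
    ∀ x ∈ connectedComponentIn (f.base ⁻¹' {y}) (g.base y), EGA43.IsUnivOpenAt f x := by
  intro x hx
  have hfx : f.base x = y := (connectedComponentIn_subset _ _ hx : x ∈ f.base ⁻¹' {y})
  apply Groth.Agent.Lib.H80DvrUnivOpen.isUnivOpenAt_of_dvrCond f x
  intro A _ _ _ h hcl x' hx' hs
  have hsy : h.base (IsLocalRing.closedPoint A) = y := hcl.trans hfx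
  let η : Spec (CommRingCat.of A) := (⟨⊥, Ideal.isPrime_bot⟩ : PrimeSpectrum A)
  have hη : η ⤳ IsLocalRing.closedPoint A :=
    IsLocalRing.specializes_closedPoint (R := A) η
  have hηgen : ∀ t : Spec (CommRingCat.of A), t ⤳ η → t = η := by
    intro t ht
    have h1 : t.asIdeal ≤ (⊥ : Ideal A) := (PrimeSpectrum.le_iff_specializes (R := A) t η).mpr ht
    apply PrimeSpectrum.ext
    exact le_bot_iff.mp h1
  obtain ⟨V, hV, hVdim⟩ := hc
  obtain ⟨U, hUV, hUo, hyU⟩ := mem_nhds_iff.mp hV
  have hηV : h.base η ∈ V := by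
    apply hUV
    have h1 : h.base η ⤳ h.base (IsLocalRing.closedPoint A) := hη.map h.continuous
    rw [hsy] at h1
    exact h1.mem_open hUo hyU
  have hdim : topologicalKrullDim ↥(connectedComponentIn (f.base ⁻¹' {h.base η}) (g.base (h.base η))) =
      topologicalKrullDim ↥(connectedComponentIn (f.base ⁻¹' {h.base (IsLocalRing.closedPoint A)})
        (g.base (h.base (IsLocalRing.closedPoint A)))) := by
    rw [hsy]
    exact hVdim _ hηV
  have hx'C : (Limits.pullback.fst f h).base x' ∈ connectedComponentIn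
      (f.base ⁻¹' {h.base (IsLocalRing.closedPoint A)})
      (g.base (h.base (IsLocalRing.closedPoint A))) := by
    rw [hsy, hx']
    exact hx
  obtain ⟨ζ, hζ1, hζ2⟩ := Groth.Agent.Lib.H80SecCompBC.exists_generization_over f h
    (Limits.pullback.fst f h) (Limits.pullback.snd f h) (IsPullback.of_hasPullback f h) g hg hgi
    (IsLocalRing.closedPoint A) η hη hηgen hdim x' hs hx'C
  refine ⟨ζ, hζ1, ?_⟩
  rw [hζ2]
  intro hcon
  have : (⊥ : Ideal A) = IsLocalRing.maximalIdeal A := congrArg PrimeSpectrum.asIdeal hcon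
  exact IsDiscreteValuationRing.not_a_field A this.symm

end Groth.Agent.S3458
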