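import Groth.Statements.S3473
import Groth.Agent.Lib.EtMinusOneAcyc95

set_option autoImplicit false
universe u
open CategoryTheory CategoryTheory.Limits AlgebraicGeometry Opposite
open EtAcyc

namespace Groth.Agent.S3473

/-- Let g : X → Y be a morphism of schemes. If g is surjective then g is (-1)-acyclic (for every etale V
→ Y and every sheaf of sets F on V, F → g'_* g'^* F is a monomorphism, g' the projection X ×_Y V →
V); conversely, if g is quasi-compact, quasi-separated and (-1)-acyclic then g is surjective. -/
theorem result {X Y : Scheme.{u}} (g : X ⟶ Y) :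
    (Function.Surjective g.base → EtAcyc.IsMinusOneAcyclic g) ∧
      (∀ [QuasiCompact g] [QuasiSeparated g], EtAcyc.IsMinusOneAcyclic g → Function.Surjective g.base) := by
  constructor
  · intro hs V F
    have h1 : Surjective g := ⟨hs⟩
    have h2 : Surjective (EtAcyc.prj g V) :=
      MorphismProperty.pullback_fst _ _ h1
    have := Groth.Agent.Lib.EtPullShFaithful95.pullSh_faithful (EtAcyc.prj g V)
    exact (EtDesc.adjSh (EtAcyc.prj g V)).unit_mono_of_L_faithful F
  · intro _ _ h
    have hqc : QuasiCompact (EtAcyc.prj g (EtCoh.top Y)) :=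
      MorphismProperty.pullback_fst _ _ (inferInstance : QuasiCompact g)
    have hs := Groth.Agent.Lib.EtMinusOneAcyc95.surjective_of_mono_unit
      (EtAcyc.prj g (EtCoh.top Y)) (h (EtCoh.top Y))
    intro y
    obtain ⟨z, hz⟩ := hs y
    refine ⟨pullback.snd (EtCoh.top Y).hom g z, ?_⟩
    rw [← hz]
    have hc : pullback.fst (EtCoh.top Y).hom g ≫ (EtCoh.top Y).hom =
        pullback.snd (EtCoh.top Y).hom g ≫ g := pullback.condition
    have h1 : (pullback.fst (EtCoh.top Y).hom g ≫ (EtCoh.top Y).hom) z =
        (pullback.snd (EtCoh.top Y).hom g ≫ g) z := by rw [hc]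
    exact h1.symm

end Groth.Agent.S3473
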