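import Groth.Statements.S3501
import Groth.Agent.S8550
import Groth.Agent.S17961
import Groth.Agent.Lib.PoleGlue42

set_option autoImplicit false
universe u
open CategoryTheory CategoryTheory.Limits AlgebraicGeometry Opposite
open EtCd

namespace Groth.Agent.S3501

/-- Let A be a Noetherian henselian local ring, f : X → Spec A a proper morphism all of whose fibres
have dimension at most 1, and i : X₀' → X a closed immersion whose image is exactly the closed fibre
of f. Then Pic(X) → Pic(X₀') is surjective: every invertible module on X₀' is isomorphic to the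
pullback of an invertible module on X. -/
theorem result (A : Type u) [CommRing A] [IsNoetherianRing A]
    [HenselianLocalRing A] (X : Scheme.{u}) (f : X ⟶ Spec (CommRingCat.of A)) [IsProper f]
    (hrel : ∀ s : Spec (CommRingCat.of A),
      topologicalKrullDim ↥(pullback f ((Spec (CommRingCat.of A)).fromSpecResidueField s)) ≤ 1)
    (X₀' : Scheme.{u}) (i : X₀' ⟶ X) [IsClosedImmersion i]
    (hi : Set.range i.base = f.base ⁻¹' {IsLocalRing.closedPoint A})
    (c : PicF.Cl X₀') (hc : PicF.IsInvertibleCl c) :
    ∃ d : PicF.Cl X, PicF.IsInvertibleCl d ∧ PicF.pullCl i d = c := by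
  have h1 : IsLocallyNoetherian X := LocallyOfFiniteType.isLocallyNoetherian f
  have h2 : CompactSpace X := QuasiCompact.compactSpace_of_compactSpace f
  have h3 : IsNoetherian X := {}
  have h1' : IsLocallyNoetherian X₀' := LocallyOfFiniteType.isLocallyNoetherian i
  have h2' : CompactSpace X₀' := QuasiCompact.compactSpace_of_compactSpace i
  have h3' : IsNoetherian X₀' := {}
  have h4 : X₀'.IsSeparated := by
    have : IsSeparated (terminal.from X₀') := by
      rw [← terminal.comp_from (i ≫ f)]
      infer_instance
    exact ⟨this⟩
  -- dimension of X₀'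
  have ha : topologicalKrullDim X₀' ≤ 1 := by
    let s₀ : Spec (CommRingCat.of A) := IsLocalRing.closedPoint A
    have e1 : X₀' ≃ₜ Set.range i.base := i.isClosedEmbedding.isEmbedding.toHomeomorph
    have e2 : f.fiber s₀ ≃ₜ (f.base ⁻¹' {s₀} : Set X) := f.fiberHomeo s₀
    have hi' : Set.range i.base = (f.base ⁻¹' {s₀} : Set X) := hi
    have e : X₀' ≃ₜ f.fiber s₀ := (e1.trans (Homeomorph.setCongr hi')).trans e2.symm
    rw [e.isHomeomorph.topologicalKrullDim_eq]
    exact hrel s₀
  -- the closed fibre as a pullback
  let 𝔪 : Ideal A := IsLocalRing.maximalIdeal A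
  let q : Spec (CommRingCat.of (A ⧸ 𝔪)) ⟶ Spec (CommRingCat.of A) :=
    Spec.map (CommRingCat.ofHom (Ideal.Quotient.mk 𝔪))
  let p : pullback f q ⟶ X := pullback.fst f q
  have hp : Set.range p.base = Set.range i.base := by
    rw [hi]
    change Set.range (pullback.fst f q) = _
    rw [Scheme.Pullback.range_fst]
    congr 1
    rw [Groth.Agent.Lib.H15HenselCouple.range_SpecMap_mk]
    ext x
    simp only [PrimeSpectrum.mem_zeroLocus, SetLike.coe_subset_coe]
    constructor
    · intro h
      apply PrimeSpectrum.ext
      exact ((IsLocalRing.maximalIdeal.isMaximal A).eq_of_le x.2.ne_top h).symm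
    · rintro rfl
      exact le_rfl
  -- hypothesis (b)
  have hb : ∀ Y : Set X, IsClosed Y → Y.Nonempty → _root_.IsConnected Y →
      (Y ∩ Set.range i.base).Nonempty ∧ _root_.IsConnected (Y ∩ Set.range i.base) := by
    intro Y hYc hYne hYconn
    let Z : TopologicalSpace.Closeds X := ⟨Y, hYc⟩
    let I := Scheme.IdealSheafData.vanishingIdeal Z
    let g : I.subscheme ⟶ X := I.subschemeι
    have hg : Set.range g.base = Y := by
      change Set.range I.subschemeι = Y
      rw [Scheme.IdealSheafData.range_subschemeι]
      exact Scheme.IdealSheafData.coe_support_vanishingIdeal Z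
    have eY : I.subscheme ≃ₜ Y := by
      have e := g.isClosedEmbedding.isEmbedding.toHomeomorph
      exact e.trans (Homeomorph.setCongr hg)
    have hconnY : ConnectedSpace I.subscheme := by
      have : ConnectedSpace Y := isConnected_iff_connectedSpace.mp hYconn
      exact eY.symm.surjective.connectedSpace eY.symm.continuous
    have key := Groth.Agent.S17961.result A 𝔪 f I.subscheme g inferInstance
    let P := pullback g p
    let π : P ⟶ I.subscheme := pullback.fst g p
    have hrange : Set.range (π ≫ g).base = Y ∩ Set.range i.base := by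
      change Set.range (pullback.fst g p ≫ g) = _
      rw [Scheme.Pullback.range_fst_comp]
      rw [hg, hp]
    have hPne : Nonempty P := by
      by_contra hemp
      rw [not_nonempty_iff] at hemp
      obtain ⟨U, -, hU⟩ := key (∅ : Set P) isClopen_empty
      have h1 := hU ∅ ⟨isClopen_empty, by simp⟩
      have h2 := hU Set.univ ⟨isClopen_univ, Set.eq_empty_of_isEmpty _⟩
      have h3 : (∅ : Set I.subscheme) = Set.univ := h1.trans h2.symm
      exact Set.empty_ne_univ h3
    have hPconn : PreconnectedSpace P := by
      rw [preconnectedSpace_iff_clopen]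
      intro V hV
      obtain ⟨U, ⟨hUc, hUV⟩, -⟩ := key V hV
      rcases isClopen_iff.mp hUc with rfl | rfl
      · left; rw [← hUV]; rfl
      · right; rw [← hUV]; rfl
    have hPc : ConnectedSpace P := { toPreconnectedSpace := hPconn, toNonempty := hPne }
    have hconn : _root_.IsConnected (Set.range (π ≫ g).base) :=
      isConnected_range (π ≫ g).continuous
    rw [hrange] at hconn
    exact ⟨hconn.nonempty, hconn⟩
  have hamp : ∃ L : X₀'.Modules, CohB1.IsAmple L :=
    Groth.Agent.Lib.PoleGlue42.exists_isAmple_of_dim_le_one X₀' ha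
  exact Groth.Agent.S8550.result X X₀' i ha hb hamp c hc

end Groth.Agent.S3501
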