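import Groth.Statements.S3532

set_option autoImplicit false
universe u
open HomAlg3

namespace Groth.Agent.S3532

open CategoryTheory

/-- the transition map `A_k → A_p` -/
noncomputable def phi (F : ℕᵒᵖ ⥤ AddCommGrpCat.{u}) {p k : ℕ} (h : p ≤ k) :
    F.obj (Opposite.op k) →+ F.obj (Opposite.op p) :=
  (F.map (homOfLE h).op).hom

lemma phi_comp (F : ℕᵒᵖ ⥤ AddCommGrpCat.{u}) {p k m : ℕ} (h : p ≤ k) (h' : k ≤ m)
    (y : F.obj (Opposite.op m)) :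
    phi F h (phi F h' y) = phi F (h.trans h') y := by
  unfold phi
  rw [← AddCommGrpCat.comp_apply, ← F.map_comp]
  rfl

lemma range_anti (F : ℕᵒᵖ ⥤ AddCommGrpCat.{u}) {p k m : ℕ} (h : p ≤ k) (h' : k ≤ m) :
    (phi F (h.trans h')).range ≤ (phi F h).range := by
  rintro _ ⟨y, rfl⟩
  exact ⟨phi F h' y, phi_comp F h h' y⟩

/-- reformulation of Mittag-Leffler for sequences -/
def ML' (F : ℕᵒᵖ ⥤ AddCommGrpCat.{u}) : Prop :=
  ∀ p : ℕ, ∃ (k₀ : ℕ) (h₀ : p ≤ k₀), ∀ (k : ℕ) (hk : k₀ ≤ k),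
    (phi F h₀).range ≤ (phi F (h₀.trans hk)).range

lemma map_eq_phi (F : ℕᵒᵖ ⥤ AddCommGrpCat.{u}) {a b : ℕᵒᵖ} (f : a ⟶ b) :
    Set.range ((F ⋙ forget AddCommGrpCat).map f) =
      ((phi F (leOfHom f.unop)).range : Set (F.obj (Opposite.op b.unop))) := by
  rfl

lemma ml_iff (F : ℕᵒᵖ ⥤ AddCommGrpCat.{u}) :
    (F ⋙ forget AddCommGrpCat).IsMittagLeffler ↔ ML' F := by
  constructor
  · intro h p
    obtain ⟨i, f, hf⟩ := h (Opposite.op p)
    refine ⟨i.unop, leOfHom f.unop, fun k hk => ?_⟩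
    have := hf (homOfLE ((leOfHom f.unop).trans hk)).op
    rw [map_eq_phi, map_eq_phi] at this
    exact this
  · intro h j
    obtain ⟨k₀, h₀, hk₀⟩ := h j.unop
    refine ⟨Opposite.op k₀, (homOfLE h₀).op, fun k g => ?_⟩
    rw [map_eq_phi, map_eq_phi]
    rcases le_total k₀ k.unop with hk | hk
    · exact hk₀ k.unop hk
    · exact range_anti F (leOfHom g.unop) hk

theorem result (F : ℕᵒᵖ ⥤ AddCommGrpCat.{u}) :
    (F ⋙ forget AddCommGrpCat).IsMittagLeffler ↔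
      ((∃ k₀ : ℕ, ∀ (k : ℕ) (hk : k₀ ≤ k),
          (F.map (homOfLE (Nat.zero_le k)).op).hom.range = (F.map (homOfLE (Nat.zero_le k₀)).op).hom.range) ∧
        ∀ p : ℕ, ∃ k₀ : ℕ, ∃ h₀ : p + 1 ≤ k₀, ∀ (k : ℕ) (hk : k₀ ≤ k),
          (F.map (homOfLE (h₀.trans hk)).op).hom.range ⊓ (F.map (homOfLE (Nat.le_succ p)).op).hom.ker =
            (F.map (homOfLE h₀).op).hom.range ⊓ (F.map (homOfLE (Nat.le_succ p)).op).hom.ker) := by
  rw [ml_iff]
  change ML' F ↔ ((∃ k₀ : ℕ, ∀ (k : ℕ) (hk : k₀ ≤ k),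
      (phi F (Nat.zero_le k)).range = (phi F (Nat.zero_le k₀)).range) ∧
    ∀ p : ℕ, ∃ k₀ : ℕ, ∃ h₀ : p + 1 ≤ k₀, ∀ (k : ℕ) (hk : k₀ ≤ k),
      (phi F (h₀.trans hk)).range ⊓ (phi F (Nat.le_succ p)).ker =
        (phi F h₀).range ⊓ (phi F (Nat.le_succ p)).ker)
  constructor
  · intro h
    refine ⟨?_, fun p => ?_⟩
    · obtain ⟨k₀, h₀, hk₀⟩ := h 0
      exact ⟨k₀, fun k hk => le_antisymm (range_anti F h₀ hk) (hk₀ k hk)⟩
    · obtain ⟨k₀, h₀, hk₀⟩ := h (p + 1)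
      refine ⟨k₀, h₀, fun k hk => ?_⟩
      rw [le_antisymm (range_anti F h₀ hk) (hk₀ k hk)]
  · rintro ⟨hA, hB⟩ p
    induction p with
    | zero =>
      obtain ⟨k₀, hk₀⟩ := hA
      exact ⟨k₀, Nat.zero_le k₀, fun k hk => (hk₀ k hk).ge⟩
    | succ p ih =>
      obtain ⟨k₁, h₁, hk₁⟩ := ih
      obtain ⟨k₀, h₀, hk₀⟩ := hB p
      have hm0 : k₀ ≤ max k₀ k₁ := le_max_left _ _
      have hm1 : k₁ ≤ max k₀ k₁ := le_max_right _ _
      refine ⟨max k₀ k₁, h₀.trans hm0, fun k hk => ?_⟩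
      rintro _ ⟨y, rfl⟩
      have hpm : p ≤ max k₀ k₁ := h₁.trans hm1
      have hy : phi F hpm y ∈ (phi F (hpm.trans hk)).range := by
        have h1 : phi F hpm y ∈ (phi F h₁).range := range_anti F h₁ hm1 ⟨y, rfl⟩
        exact hk₁ k (hm1.trans hk) h1
      obtain ⟨z, hz⟩ := hy
      have hp1k : p + 1 ≤ k := (h₀.trans hm0).trans hk
      set x := phi F (h₀.trans hm0) y with hx
      set x' := phi F hp1k z with hx'
      have hker : x - x' ∈ (phi F (Nat.le_succ p)).ker := by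
        rw [AddMonoidHom.mem_ker, map_sub, hx, hx', phi_comp, phi_comp, hz, sub_self]
      have hxm : x' ∈ (phi F (h₀.trans hm0)).range :=
        range_anti F (h₀.trans hm0) hk ⟨z, rfl⟩
      have hdiff : x - x' ∈ (phi F (h₀.trans hm0)).range ⊓ (phi F (Nat.le_succ p)).ker :=
        ⟨AddSubgroup.sub_mem _ ⟨y, rfl⟩ hxm, hker⟩
      rw [hk₀ _ hm0, ← hk₀ k (hm0.trans hk)] at hdiff
      have : x = (x - x') + x' := (sub_add_cancel x x').symm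
      rw [this]
      exact AddSubgroup.add_mem _ hdiff.1 ⟨z, rfl⟩

end Groth.Agent.S3532
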