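import Groth.Statements.S3537
import Groth.Agent.Lib.TorBC
-- import your own Groth.Agent.* helpers here

set_option autoImplicit false
universe u
open HTor

namespace Groth.Agent.S3537

open CategoryTheory MonoidalCategory Limits TensorProduct
open Groth.Agent.Lib.TorLES Groth.Agent.Lib.TorBalance Groth.Agent.Lib.TFunCompare
  Groth.Agent.Lib.TorBC

/-- an `A'`-module with compatible `A`-structure is the restriction of scalars -/
noncomputable def restrictIso (A A' : Type u) [CommRing A] [CommRing A'] [Algebra A A']
    (Q' : Type u) [AddCommGroup Q'] [Module A' Q'] [Module A Q'] [IsScalarTower A A' Q'] :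
    ModuleCat.of A Q' ≅ (RB (A := A) A').obj (ModuleCat.of A' Q') :=
  LinearEquiv.toModuleIso (X₁ := Q') (X₂ := ((RB (A := A) A').obj (ModuleCat.of A' Q')))
    ({ toFun := fun x => x
       invFun := fun x => x
       map_add' := fun _ _ => rfl
       map_smul' := fun a x => (algebraMap_smul A' a x).symm
       left_inv := fun _ => rfl
       right_inv := fun _ => rfl } :
      Q' ≃ₗ[A] ((RB (A := A) A').obj (ModuleCat.of A' Q')))


/-- Base change for Tor: let A → A′ be a homomorphism of commutative rings, P an A-module with
Tor_q^A(P, A′) = 0 for all q ≥ 1, and Q′ an A′-module, regarded also as an A-module. Then for every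
n ≥ 0 there is a bijective map Tor_n^A(P, Q′) → Tor_n^{A′}(A′ ⊗_A P, Q′) that is semilinear over A →
A′. Here Tor is the left derived functor of the tensor product in the second variable, and only the
existence of such a bijective semilinear map is asserted. The published statement is the degenerate
case of a base-change spectral sequence for hypertor of modules over schemes; stated here in the
affine case with a single module. -/
theorem result (A A' : Type u) [CommRing A] [CommRing A'] [Algebra A A']
    (P : Type u) [AddCommGroup P] [Module A P] (Q' : Type u) [AddCommGroup Q'] [Module A' Q'] [Module A Q']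
    [IsScalarTower A A' Q'] (hP : ∀ q : ℕ, 0 < q → Subsingleton (DRing.Tor A q P A')) (n : ℕ) :
    ∃ φ : DRing.Tor A n P Q' →ₛₗ[algebraMap A A'] DRing.Tor A' n (TensorProduct A A' P) Q',
      Function.Bijective φ := by
  have hP' : ∀ q : ℕ, 0 < q → IsZero (((Tor (ModuleCat.{u} A) q).obj (ModuleCat.of A P)).obj
      (ModuleCat.of A A')) := fun q hq => by
    have := hP q hq
    exact ModuleCat.isZero_of_subsingleton _
  obtain ⟨e2⟩ := tor_bc A' (ModuleCat.of A P) hP' (ModuleCat.of A' Q') n
  let e1 := ((Tor (ModuleCat.{u} A) n).obj (ModuleCat.of A P)).mapIso (restrictIso A A' Q')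
  let e3 : ((Tor (ModuleCat.{u} A') n).obj ((FB (A := A) A').obj (ModuleCat.of A P))).obj
      (ModuleCat.of A' Q') ≅ ((Tor (ModuleCat.{u} A') n).obj
        (ModuleCat.of A' (TensorProduct A A' P))).obj (ModuleCat.of A' Q') :=
    torMapIso (Groth.Agent.Lib.FlatBaseChangeD.objIso (A := A) (B := A') P) n
  exact exists_semilinear_of_iso A' (e1 ≪≫ e2 ≪≫ (RB (A := A) A').mapIso e3)

end Groth.Agent.S3537
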