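import Groth.Statements.S3534
import Groth.Agent.Lib.TorBC
import Groth.Agent.S3537
import Mathlib.RingTheory.Localization.BaseChange
import Mathlib.RingTheory.Flat.Localization
-- import your own Groth.Agent.* helpers here

set_option autoImplicit false
universe u
open HTor

namespace Groth.Agent.S3534

open CategoryTheory MonoidalCategory Limits TensorProduct
open Groth.Agent.Lib.TorLES Groth.Agent.Lib.TorBalance Groth.Agent.Lib.TFunCompare
  Groth.Agent.Lib.TorBC


/-- Let S be a multiplicative subset of a commutative ring A, A' = S⁻¹A, and P, Q two A'-modules, viewed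
as A-modules by restriction of scalars. Then for every n there is a bijective map Tor_n^A(P, Q) →
Tor_n^{A'}(P, Q) which is semilinear over A → A' (so that, in particular, every s ∈ S acts
bijectively on Tor_n^A(P, Q)). (Tor is taken as the left derived functor of the tensor product in
the second variable. The published statement gives a canonical isomorphism, for hyper-Tor of
complexes; this is the case of single modules.) -/
theorem result (A A' : Type u) [CommRing A] [CommRing A'] [Algebra A A']
    (S : Submonoid A) [IsLocalization S A'] (P Q : Type u) [AddCommGroup P] [Module A' P] [Module A P]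
    [IsScalarTower A A' P] [AddCommGroup Q] [Module A' Q] [Module A Q] [IsScalarTower A A' Q] (n : ℕ) :
    ∃ φ : DRing.Tor A n P Q →ₛₗ[algebraMap A A'] DRing.Tor A' n P Q, Function.Bijective φ := by
  have hflat : Module.Flat A A' := IsLocalization.flat A' S
  have hP' : ∀ q : ℕ, 0 < q → IsZero (((Tor (ModuleCat.{u} A) q).obj (ModuleCat.of A Q)).obj
      (ModuleCat.of A A')) := fun q hq => by
    obtain ⟨m, rfl⟩ : ∃ m, q = m + 1 := ⟨q - 1, by omega⟩
    exact isZero_tor_succ_of_flat_right (ModuleCat.of A A') m (ModuleCat.of A Q)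
  obtain ⟨e2⟩ := tor_bc A' (ModuleCat.of A Q) hP' (ModuleCat.of A' P) n
  obtain ⟨e0⟩ := tor_symm (ModuleCat.of A P) (ModuleCat.of A Q) n
  let e1 := ((Tor (ModuleCat.{u} A) n).obj (ModuleCat.of A Q)).mapIso
    (Groth.Agent.S3537.restrictIso A A' P)
  obtain ⟨e3⟩ := tor_symm ((FB (A := A) A').obj (ModuleCat.of A Q)) (ModuleCat.of A' P) n
  let e4 := ((Tor (ModuleCat.{u} A') n).obj (ModuleCat.of A' P)).mapIso
    (Groth.Agent.Lib.FlatBaseChangeD.objIso (A := A) (B := A') Q)
  have hloc : IsLocalizedModule S (LinearMap.id : Q →ₗ[A] Q) := isLocalizedModule_id S Q A'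
  have hbc : IsBaseChange A' (LinearMap.id : Q →ₗ[A] Q) := IsLocalizedModule.isBaseChange S A' _
  let e5 := ((Tor (ModuleCat.{u} A') n).obj (ModuleCat.of A' P)).mapIso hbc.equiv.toModuleIso
  exact exists_semilinear_of_iso A'
    (e0 ≪≫ e1 ≪≫ e2 ≪≫ (RB (A := A) A').mapIso (e3 ≪≫ e4 ≪≫ e5))

end Groth.Agent.S3534
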