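import Groth.Statements.S3544
import Mathlib

set_option autoImplicit false
universe u
open HomAlg3

namespace Groth.Agent.S3544
namespace H47EP
section Abs
variable {R : Type*} [Ring R] {ι : Type*} (σ : ι ≃ ι) (ε : ι → ℤ)
  {X Z B H : ι → Type*}
  [∀ x, AddCommGroup (X x)] [∀ x, Module R (X x)]
  [∀ x, AddCommGroup (Z x)] [∀ x, Module R (Z x)]
  [∀ x, AddCommGroup (B x)] [∀ x, Module R (B x)]
  [∀ x, AddCommGroup (H x)] [∀ x, Module R (H x)]
theorem ep (hε : ∀ x, ε (σ x) = - ε x)
    (i : ∀ x, Z x →ₗ[R] X x) (p : ∀ x, X x →ₗ[R] B (σ x))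
    (j : ∀ x, B x →ₗ[R] Z x) (q : ∀ x, Z x →ₗ[R] H x)
    (hi : ∀ x, Function.Injective (i x)) (hp : ∀ x, Function.Surjective (p x))
    (hip : ∀ x, Function.Exact (i x) (p x))
    (hj : ∀ x, Function.Injective (j x)) (hq : ∀ x, Function.Surjective (q x))
    (hjq : ∀ x, Function.Exact (j x) (q x))
    (s : Finset ι) (hs : ∀ x, x ∉ s → Subsingleton (X x))
    (hfin : ∀ x, Module.length R (X x) ≠ ⊤) :
    (∀ x, x ∉ s → Subsingleton (H x)) ∧ (∀ x, Module.length R (H x) ≠ ⊤) ∧
    ∑ x ∈ s, ε x * ((Module.length R (X x)).toNat : ℤ) =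
      ∑ x ∈ s, ε x * ((Module.length R (H x)).toNat : ℤ) := by
  have e1 : ∀ x, Module.length R (X x) = Module.length R (Z x) + Module.length R (B (σ x)) :=
    fun x => Module.length_eq_add_of_exact (i x) (p x) (hi x) (hp x) (hip x)
  have e2 : ∀ x, Module.length R (Z x) = Module.length R (B x) + Module.length R (H x) :=
    fun x => Module.length_eq_add_of_exact (j x) (q x) (hj x) (hq x) (hjq x)
  have fZ : ∀ x, Module.length R (Z x) ≠ ⊤ := fun x h => hfin x (by rw [e1, h, top_add])
  have fB' : ∀ x, Module.length R (B (σ x)) ≠ ⊤ := fun x h => hfin x (by rw [e1, h, add_top])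
  have fB : ∀ y, Module.length R (B y) ≠ ⊤ := fun y => by
    have := fB' (σ.symm y); rwa [σ.apply_symm_apply] at this
  have fH : ∀ x, Module.length R (H x) ≠ ⊤ := fun x h => fZ x (by rw [e2, h, add_top])
  have sZ : ∀ x, x ∉ s → Subsingleton (Z x) := fun x hx => by
    haveI := hs x hx; exact (hi x).subsingleton
  have sB : ∀ x, x ∉ s → Subsingleton (B x) := fun x hx => by
    haveI := sZ x hx; exact (hj x).subsingleton
  have sB' : ∀ x, x ∉ s → Subsingleton (B (σ x)) := fun x hx => by
    haveI := hs x hx; exact (hp x).subsingleton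
  have sH : ∀ x, x ∉ s → Subsingleton (H x) := fun x hx => by
    haveI := sZ x hx; exact (hq x).subsingleton
  refine ⟨sH, fH, ?_⟩
  set g : ι → ℤ := fun y => ε y * ((Module.length R (B y)).toNat : ℤ) with hg
  have key : ∀ x, ε x * ((Module.length R (X x)).toNat : ℤ) =
      ε x * ((Module.length R (H x)).toNat : ℤ) + (g x - g (σ x)) := by
    intro x
    have h1 : (Module.length R (X x)).toNat =
        (Module.length R (B x)).toNat + (Module.length R (H x)).toNat +
          (Module.length R (B (σ x))).toNat := by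
      rw [e1, e2, ENat.toNat_add (by simp [fB x, fH x]) (fB' x), ENat.toNat_add (fB x) (fH x)]
    simp only [hg, hε, h1]
    push_cast
    ring
  rw [Finset.sum_congr rfl (fun x _ => key x), Finset.sum_add_distrib, Finset.sum_sub_distrib]
  have s1 : ∑ x ∈ s, g x = ∑ᶠ x, g x := by
    rw [finsum_eq_sum_of_support_subset]
    intro x hx
    by_contra hxs
    apply hx
    haveI := sB x hxs
    simp [hg, Module.length_eq_zero]
  have s2 : ∑ x ∈ s, g (σ x) = ∑ᶠ x, g (σ x) := by
    rw [finsum_eq_sum_of_support_subset]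
    intro x hx
    by_contra hxs
    apply hx
    haveI := sB' x hxs
    simp [hg, Module.length_eq_zero]
  rw [s1, s2, finsum_comp_equiv σ, sub_self, add_zero]
end Abs
end H47EP
open CategoryTheory CategoryTheory.Limits H47EP

section Helpers
variable {A : Type u} [Ring A] {ι : Type*} {c : ComplexShape ι}
  (K : HomologicalComplex (ModuleCat.{u} A) c) (σ : ι ≃ ι) (hσ : ∀ x, c.Rel x (σ x))

lemma iCycles_injective (n : ι) : Function.Injective (K.iCycles n).hom :=
  (ModuleCat.mono_iff_injective _).mp inferInstance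

lemma homologyπ_surjective (n : ι) : Function.Surjective (K.homologyπ n).hom :=
  (ModuleCat.epi_iff_surjective _).mp inferInstance

include hσ in
lemma range_iCycles (n : ι) :
    LinearMap.range (K.iCycles n).hom = LinearMap.ker (K.d n (σ n)).hom := by
  have h := ShortComplex.exact_of_f_is_kernel
    (ShortComplex.mk (K.iCycles n) (K.d n (σ n)) (K.iCycles_d n (σ n)))
    (K.cyclesIsKernel n (σ n) (c.next_eq' (hσ n)))
  exact h.moduleCat_range_eq_ker

include hσ in
lemma range_toCycles (i m : ι) (hi : σ i = m) :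
    LinearMap.range (K.toCycles i m).hom = LinearMap.ker (K.homologyπ m).hom := by
  have h := ShortComplex.exact_of_g_is_cokernel
    (ShortComplex.mk (K.toCycles i m) (K.homologyπ m) (K.toCycles_comp_homologyπ i m))
    (K.homologyIsCokernel i m (by subst hi; exact c.prev_eq' (hσ i)))
  exact h.moduleCat_range_eq_ker

lemma toCycles_i_apply (i j : ι) (x : K.X i) :
    (K.iCycles j).hom ((K.toCycles i j).hom x) = (K.d i j).hom x := by
  rw [← K.toCycles_i i j]; rfl

lemma ker_toCycles (i j : ι) :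
    LinearMap.ker (K.toCycles i j).hom = LinearMap.ker (K.d i j).hom := by
  ext x
  simp only [LinearMap.mem_ker]
  rw [← toCycles_i_apply]
  constructor
  · intro h; rw [h, map_zero]
  · intro h; exact iCycles_injective K j (by rw [h, map_zero])

/-- boundaries, as a submodule of the cycles -/
noncomputable def Bd (n : ι) : Submodule A (K.cycles n) := LinearMap.range (K.toCycles (σ.symm n) n).hom

lemma Bd_eq (i n : ι) (h : σ i = n) : Bd K σ n = LinearMap.range (K.toCycles i n).hom := by
  obtain rfl : i = σ.symm n := by rw [← h, σ.symm_apply_apply]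
  rfl

include hσ in
lemma Bd_eq_ker (n : ι) : Bd K σ n = LinearMap.ker (K.homologyπ n).hom :=
  range_toCycles K σ hσ (σ.symm n) n (σ.apply_symm_apply n)

/-- the map `X n → B (σ n)` -/
noncomputable def pMap (n : ι) : K.X n →ₗ[A] Bd K σ (σ n) :=
  LinearMap.codRestrict (Bd K σ (σ n)) (K.toCycles n (σ n)).hom
    (fun x => by rw [Bd_eq K σ n (σ n) rfl]; exact LinearMap.mem_range_self _ x)

lemma pMap_surjective (n : ι) : Function.Surjective (pMap K σ n) := by
  rintro ⟨y, hy⟩
  rw [Bd_eq K σ n (σ n) rfl] at hy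
  obtain ⟨x, rfl⟩ := hy
  exact ⟨x, rfl⟩

include hσ in
lemma exact_i_p (n : ι) : Function.Exact (K.iCycles n).hom (pMap K σ n) := by
  rw [LinearMap.exact_iff]
  rw [range_iCycles K σ hσ, ← ker_toCycles]
  ext x
  simp only [LinearMap.mem_ker, pMap]
  constructor
  · intro h; exact congrArg Subtype.val h
  · intro h; exact Subtype.ext h

include hσ in
lemma exact_j_q (n : ι) : Function.Exact (Bd K σ n).subtype (K.homologyπ n).hom := by
  rw [LinearMap.exact_iff, Submodule.range_subtype, Bd_eq_ker K σ hσ]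

end Helpers

/-- Euler–Poincaré for one page -/
lemma ep_page {A : Type u} [Ring A] (v : ℤ × ℤ) (hv : v.1 + v.2 = 1)
    (K : HomologicalComplex (ModuleCat.{u} A) (ComplexShape.up' v)) (s : Finset (ℤ × ℤ))
    (hs : ∀ pq : ℤ × ℤ, pq ∉ s → IsZero (K.X pq))
    (hfl : ∀ pq : ℤ × ℤ, IsFiniteLength A (K.X pq)) :
    (∀ pq : ℤ × ℤ, pq ∉ s → IsZero (K.homology pq)) ∧
    (∀ pq : ℤ × ℤ, IsFiniteLength A (K.homology pq)) ∧
    (s.sum fun pq => (((pq.1 + pq.2).negOnePow : ℤˣ) : ℤ) * ((Module.length A (K.X pq)).toNat : ℤ)) =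
      s.sum fun pq => (((pq.1 + pq.2).negOnePow : ℤˣ) : ℤ) * ((Module.length A (K.homology pq)).toNat : ℤ) := by
  have hσ : ∀ x, (ComplexShape.up' v).Rel x (Equiv.addRight v x) := fun x => rfl
  obtain ⟨h1, h2, h3⟩ := ep (R := A) (Equiv.addRight v) (fun pq => (((pq.1 + pq.2).negOnePow : ℤˣ) : ℤ))
    (X := fun x => K.X x) (Z := fun x => K.cycles x) (B := fun x => Bd K (Equiv.addRight v) x)
    (H := fun x => K.homology x)
    (fun x => by
      have : (Equiv.addRight v x).1 + (Equiv.addRight v x).2 = (x.1 + x.2) + 1 := by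
        simp only [Equiv.coe_addRight, Prod.fst_add, Prod.snd_add]; omega
      simp only [this, Int.negOnePow_succ, Units.val_neg])
    (fun x => (K.iCycles x).hom) (fun x => pMap K (Equiv.addRight v) x)
    (fun x => (Bd K (Equiv.addRight v) x).subtype) (fun x => (K.homologyπ x).hom)
    (fun x => iCycles_injective K x) (fun x => pMap_surjective K _ x)
    (fun x => exact_i_p K _ hσ x) (fun x => Submodule.subtype_injective _)
    (fun x => homologyπ_surjective K x) (fun x => exact_j_q K _ hσ x) s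
    (fun x hx => ModuleCat.subsingleton_of_isZero (hs x hx))
    (fun x => Module.length_ne_top_iff.mpr (hfl x))
  exact ⟨fun pq hpq => by haveI := h1 pq hpq; exact ModuleCat.isZero_of_subsingleton _,
    fun pq => Module.length_ne_top_iff.mp (h2 pq), h3⟩


open CategoryTheory CategoryTheory.Limits in
/-- Let E be a cohomological spectral sequence of modules over a ring A, starting at page 2, such that
the E₂ terms have finite length and only finitely many of them (all inside the finite set s of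
bidegrees) are nonzero. Then for every r ≥ 2 the Euler–Poincaré characteristic of page r, the
alternating sum over s of (-1)^{p+q} times the length of E_r^{pq}, equals that of page 2. -/
theorem result {A : Type u} [Ring A]
    (E : E₂CohomologicalSpectralSequence (ModuleCat.{u} A)) (s : Finset (ℤ × ℤ))
    (hs : ∀ pq : ℤ × ℤ, pq ∉ s → IsZero ((E.page 2).X pq))
    (hfl : ∀ pq : ℤ × ℤ, IsFiniteLength A ((E.page 2).X pq)) (r : ℤ) (hr : 2 ≤ r) :
    (s.sum fun pq => (((pq.1 + pq.2).negOnePow : ℤˣ) : ℤ) * ((Module.length A ((E.page r hr).X pq)).toNat : ℤ)) =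
      s.sum fun pq => (((pq.1 + pq.2).negOnePow : ℤˣ) : ℤ) * ((Module.length A ((E.page 2).X pq)).toNat : ℤ) := by
  suffices h : (∀ pq : ℤ × ℤ, pq ∉ s → IsZero ((E.page r hr).X pq)) ∧
      (∀ pq : ℤ × ℤ, IsFiniteLength A ((E.page r hr).X pq)) ∧
      (s.sum fun pq => (((pq.1 + pq.2).negOnePow : ℤˣ) : ℤ) * ((Module.length A ((E.page r hr).X pq)).toNat : ℤ)) =
      s.sum fun pq => (((pq.1 + pq.2).negOnePow : ℤˣ) : ℤ) * ((Module.length A ((E.page 2).X pq)).toNat : ℤ) from h.2.2
  refine Int.le_induction (m := 2) (motive := fun r hr =>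
    (∀ pq : ℤ × ℤ, pq ∉ s → IsZero ((E.page r hr).X pq)) ∧
      (∀ pq : ℤ × ℤ, IsFiniteLength A ((E.page r hr).X pq)) ∧
      (s.sum fun pq => (((pq.1 + pq.2).negOnePow : ℤˣ) : ℤ) * ((Module.length A ((E.page r hr).X pq)).toNat : ℤ)) =
      s.sum fun pq => (((pq.1 + pq.2).negOnePow : ℤˣ) : ℤ) * ((Module.length A ((E.page 2).X pq)).toNat : ℤ))
    ⟨hs, hfl, rfl⟩ ?_ r hr
  intro n hn ⟨ih1, ih2, ih3⟩
  obtain ⟨k1, k2, k3⟩ := ep_page (n, 1 - n) (by simp) (E.page n hn) s ih1 ih2
  have e : ∀ pq, (E.page n hn).homology pq ≃ₗ[A] (E.page (n + 1) (by omega)).X pq :=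
    fun pq => (E.iso n (n + 1) pq rfl hn).toLinearEquiv
  refine ⟨fun pq hpq => (k1 pq hpq).of_iso (E.iso n (n + 1) pq rfl hn).symm, fun pq => ?_, ?_⟩
  · rw [← Module.length_ne_top_iff, ← (e pq).length_eq, Module.length_ne_top_iff]
    exact k2 pq
  · rw [← ih3, k3]
    refine Finset.sum_congr rfl (fun pq _ => ?_)
    rw [(e pq).length_eq]

end Groth.Agent.S3544
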