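import Groth.Statements.S3549
import Mathlib.RingTheory.GradedAlgebra.Radical
import Mathlib.Algebra.Module.Torsion.Basic

set_option autoImplicit false
universe u
open CategoryTheory CategoryTheory.Limits AlgebraicGeometry
open EGA2

namespace Groth.Agent.S3549

section

variable {R A : Type u} [CommRing R] [CommRing A] [Algebra R A] (𝒜 : ℕ → Submodule R A) [GradedAlgebra 𝒜]
  {M : Type u} [AddCommGroup M] [Module R M] [Module A M] (ℳ : ℕ → Submodule R M)
  [DirectSum.Decomposition ℳ] [SetLike.GradedSMul 𝒜 ℳ]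

/-- if `u • z = 0` with `z` homogeneous then every homogeneous component of `u` kills `z` -/
lemma comp_smul_eq_zero {i : ℕ} {z : M} (hz : z ∈ ℳ i) (u : A) (hu : u • z = 0) (j : ℕ) :
    ((DirectSum.decompose 𝒜 u j : 𝒜 j) : A) • z = 0 := by
  classical
  have hsum : u • z = ∑ k ∈ (DirectSum.decompose 𝒜 u).support,
      ((DirectSum.decompose 𝒜 u k : 𝒜 k) : A) • z := by
    conv_lhs => rw [← DirectSum.sum_support_decompose 𝒜 u]
    rw [Finset.sum_smul]
  have hmem : ∀ k, ((DirectSum.decompose 𝒜 u k : 𝒜 k) : A) • z ∈ ℳ (k + i) := fun k =>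
    SetLike.GradedSMul.smul_mem (DirectSum.decompose 𝒜 u k).2 hz
  have h0 : ((DirectSum.decompose ℳ (u • z)) (j + i) : M) = 0 := by
    rw [hu]; simp
  rw [hsum, DirectSum.decompose_sum, DFinsupp.finsetSum_apply, AddSubmonoidClass.coe_finsetSum] at h0
  by_cases hj : j ∈ (DirectSum.decompose 𝒜 u).support
  · rw [Finset.sum_eq_single_of_mem j hj] at h0
    · rwa [DirectSum.decompose_of_mem_same ℳ (hmem j)] at h0
    · intro k _ hkj
      rw [DirectSum.decompose_of_mem_ne ℳ (hmem k)]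
      omega
  · rw [DFinsupp.notMem_support_iff] at hj
    rw [hj]
    simp

omit [DirectSum.Decomposition ℳ] in
open TopologicalSpace Opposite in
lemma sect_eq_zero (h : IsZero (GrTilde.tilde 𝒜 ℳ 0)) (U : Opens (ProjectiveSpectrum.top 𝒜))
    (σ : GrTilde.sect 𝒜 ℳ 0 (op U)) : σ = 0 := by
  have e : 𝟙 (GrTilde.tilde 𝒜 ℳ 0) = 0 := h.eq_of_src _ _
  have e' := congrArg (fun φ => Scheme.Modules.Hom.app φ (U : (Proj 𝒜).Opens)) e
  have e'' := congrArg (fun ψ => (ConcreteCategory.hom ψ) σ) e'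
  exact e''

open TopologicalSpace Opposite in
/-- the homogeneous case -/
lemma homogeneous_case (hgen : (HomogeneousIdeal.irrelevant 𝒜).toIdeal = Ideal.span (𝒜 1 : Set A))
    (h : IsZero (GrTilde.tilde 𝒜 ℳ 0)) {i : ℕ} (z : M) (hz : z ∈ ℳ i) (d : ℕ) (f : A) (hd : 0 < d)
    (hf : f ∈ 𝒜 d) : ∃ k : ℕ, f ^ k • z = 0 := by
  classical
  by_contra hcon
  push Not at hcon
  have hdisj : Disjoint ((Ideal.torsionOf A M z : Ideal A) : Set A) (Submonoid.powers f) := by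
    rw [Set.disjoint_left]
    rintro a ha ⟨k, rfl⟩
    exact hcon k ((Ideal.mem_torsionOf_iff _ _).1 ha)
  obtain ⟨p, hp, hIp, hpS⟩ := Ideal.exists_le_prime_disjoint _ (Submonoid.powers f) hdisj
  have hfp : f ∉ p := fun hfp => Set.disjoint_left.mp hpS hfp ⟨1, pow_one f⟩
  have hq : (p.homogeneousCore 𝒜).toIdeal.IsPrime := hp.homogeneousCore
  have hqp : (p.homogeneousCore 𝒜).toIdeal ≤ p := Ideal.toIdeal_homogeneousCore_le 𝒜 p
  have hfq : f ∉ (p.homogeneousCore 𝒜).toIdeal := fun h => hfp (hqp h)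
  have hirr : ¬ HomogeneousIdeal.irrelevant 𝒜 ≤ p.homogeneousCore 𝒜 := fun hle =>
    hfq (hle (HomogeneousIdeal.mem_irrelevant_of_mem 𝒜 hd hf))
  let x : ProjectiveSpectrum 𝒜 := ⟨p.homogeneousCore 𝒜, hq, hirr⟩
  obtain ⟨g, hg1, hgq⟩ : ∃ g ∈ 𝒜 1, g ∉ (p.homogeneousCore 𝒜).toIdeal := by
    by_contra hall
    push Not at hall
    apply hirr
    change (HomogeneousIdeal.irrelevant 𝒜).toIdeal ≤ (p.homogeneousCore 𝒜).toIdeal
    rw [hgen, Ideal.span_le]
    exact fun g hg => hall g hg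
  have hgi : g ^ i ∈ 𝒜 i := by
    have := SetLike.pow_mem_graded i hg1
    simpa using this
  have hnin : ∀ y : ProjectiveSpectrum.basicOpen 𝒜 g, g ^ i ∉ y.1.asHomogeneousIdeal := fun y hy =>
    y.2 (y.1.isPrime.mem_of_pow_mem i hy)
  let σ : GrTilde.sect 𝒜 ℳ 0 (op (ProjectiveSpectrum.basicOpen 𝒜 g)) :=
    ⟨fun y => ⟨LocalizedModule.mk z ⟨g ^ i, hnin y⟩,
      Submodule.subset_span ⟨i, i, ⟨z, hz⟩, ⟨g ^ i, hgi⟩, hnin y, by simp, rfl⟩⟩,
     fun y => ⟨ProjectiveSpectrum.basicOpen 𝒜 g, y.2, 𝟙 _, i, i, ⟨z, hz⟩, ⟨g ^ i, hgi⟩,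
      hnin, Or.inl (by simp), fun _ => rfl⟩⟩
  have hσ := sect_eq_zero 𝒜 ℳ h _ σ
  have hx : x ∈ ProjectiveSpectrum.basicOpen 𝒜 g := hgq
  have hσx : (σ.1 ⟨x, hx⟩).1 = 0 := by rw [hσ]; rfl
  change LocalizedModule.mk z ⟨g ^ i, hnin ⟨x, hx⟩⟩ = 0 at hσx
  rw [← LocalizedModule.zero_mk (1 : x.asHomogeneousIdeal.toIdeal.primeCompl), LocalizedModule.mk_eq] at hσx
  obtain ⟨u, hu⟩ := hσx
  have hu' : (u : A) • z = 0 := by
    simpa [Submonoid.smul_def] using hu
  have hex : ∃ j, ((DirectSum.decompose 𝒜 (u : A) j : 𝒜 j) : A) ∉ (p.homogeneousCore 𝒜).toIdeal := by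
    by_contra hall
    push Not at hall
    apply u.2
    change (u : A) ∈ (p.homogeneousCore 𝒜).toIdeal
    rw [← DirectSum.sum_support_decompose 𝒜 (u : A)]
    exact Ideal.sum_mem _ fun j _ => hall j
  obtain ⟨j, hj⟩ := hex
  apply hj
  apply Ideal.mem_homogeneousCore_of_homogeneous_of_mem ⟨j, (DirectSum.decompose 𝒜 (u : A) j).2⟩
  apply hIp
  rw [Ideal.mem_torsionOf_iff]
  exact comp_smul_eq_zero 𝒜 ℳ hz _ hu' j

end

/-- Let S be a graded ring whose irrelevant ideal S_+ is generated by the degree-one elements, M a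
graded S-module and X = Proj S. If the O_X-module M~ is zero, then for every z in M and every
homogeneous f of positive degree some power of f annihilates z. -/
theorem result {R A : Type u} [CommRing R] [CommRing A] [Algebra R A] (𝒜 : ℕ → Submodule R A) [GradedAlgebra 𝒜]
    (hgen : (HomogeneousIdeal.irrelevant 𝒜).toIdeal = Ideal.span (𝒜 1 : Set A))
    {M : Type u} [AddCommGroup M] [Module R M] [Module A M] [IsScalarTower R A M] (ℳ : ℕ → Submodule R M) [DirectSum.Decomposition ℳ] [SetLike.GradedSMul 𝒜 ℳ]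
    (h : IsZero (GrTilde.tilde 𝒜 ℳ 0)) (z : M) (d : ℕ) (f : A) (hd : 0 < d) (hf : f ∈ 𝒜 d) :
    ∃ k : ℕ, f ^ k • z = 0 := by
  induction z using DirectSum.Decomposition.inductionOn ℳ with
  | zero => exact ⟨0, by simp⟩
  | homogeneous m => exact homogeneous_case 𝒜 ℳ hgen h m.1 m.2 d f hd hf
  | add a b ha hb =>
    obtain ⟨k1, h1⟩ := ha
    obtain ⟨k2, h2⟩ := hb
    refine ⟨k1 + k2, ?_⟩
    have ea : f ^ (k1 + k2) • a = 0 := by rw [pow_add, mul_comm, mul_smul, h1, smul_zero]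
    have eb : f ^ (k1 + k2) • b = 0 := by rw [pow_add, mul_smul, h2, smul_zero]
    rw [smul_add, ea, eb, add_zero]

end Groth.Agent.S3549
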