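import Groth.Statements.S3547
import Groth.Agent.S3549

set_option autoImplicit false
universe u
open CategoryTheory CategoryTheory.Limits AlgebraicGeometry
open EGA2

namespace Groth.Agent.S3547

open TopologicalSpace Opposite TopCat

section

variable {R A : Type u} [CommRing R] [CommRing A] [Algebra R A] (𝒜 : ℕ → Submodule R A) [GradedAlgebra 𝒜]
  {M : Type u} [AddCommGroup M] [Module R M] [Module A M] (ℳ : ℕ → Submodule R M)
  [DirectSum.Decomposition ℳ] [SetLike.GradedSMul 𝒜 ℳ]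

omit [DirectSum.Decomposition ℳ] in
lemma surj_aux (n : ℤ) (p : ProjectiveSpectrum.top 𝒜) (q : GrTilde.LocMod 𝒜 (M := M) p)
    (hq : q ∈ GrTilde.tildeAt 𝒜 ℳ n p) :
    ∃ (U : OpenNhds p) (f : ∀ y : U.1, GrTilde.tildeAt 𝒜 ℳ n y.1)
      (_ : (GrTilde.isLocFrac 𝒜 ℳ n).pred f), (f ⟨p, U.2⟩).1 = q := by
  induction hq using Submodule.span_induction with
  | mem q hq =>
    obtain ⟨i, j, m, s, hs, hij, rfl⟩ := hq
    refine ⟨⟨ProjectiveSpectrum.basicOpen 𝒜 s.1, hs⟩,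
      fun y => ⟨LocalizedModule.mk m.1 ⟨s.1, y.2⟩, Submodule.subset_span ⟨i, j, m, s, y.2, hij, rfl⟩⟩,
      fun y => ⟨ProjectiveSpectrum.basicOpen 𝒜 s.1, y.2, 𝟙 _, i, j, m, s, fun y' => y'.2, Or.inl hij,
        fun _ => rfl⟩, rfl⟩
  | zero =>
    exact ⟨⟨⊤, trivial⟩, 0, GrTilde.zero_mem' n (op ⊤), rfl⟩
  | add a b _ _ iha ihb =>
    obtain ⟨U, fU, hfU, hU⟩ := iha
    obtain ⟨V, fV, hfV, hV⟩ := ihb
    let W : Opens (ProjectiveSpectrum.top 𝒜) := U.1 ⊓ V.1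
    have iU : W ⟶ U.1 := homOfLE inf_le_left
    have iV : W ⟶ V.1 := homOfLE inf_le_right
    have h1 := (GrTilde.isLocFrac 𝒜 ℳ n).res iU fU hfU
    have h2 := (GrTilde.isLocFrac 𝒜 ℳ n).res iV fV hfV
    refine ⟨⟨W, ⟨U.2, V.2⟩⟩, _, GrTilde.add_mem' n (op W) _ _ h1 h2, ?_⟩
    change ((fU ⟨p, U.2⟩ + fV ⟨p, V.2⟩ : GrTilde.tildeAt 𝒜 ℳ n p) : GrTilde.LocMod 𝒜 (M := M) p) = a + b
    rw [Submodule.coe_add, hU, hV]
  | smul c a _ iha =>
    obtain ⟨U, fU, hfU, hU⟩ := iha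
    obtain ⟨⟨k, num, den, hden⟩, rfl⟩ := HomogeneousLocalization.mk_surjective c
    let s := AlgebraicGeometry.sectionInBasicOpen 𝒜 p ⟨k, num, den, hden⟩
    let W : Opens (ProjectiveSpectrum.top 𝒜) := U.1 ⊓ ProjectiveSpectrum.basicOpen 𝒜 den.1
    have iU : W ⟶ U.1 := homOfLE inf_le_left
    have iD : W ⟶ ProjectiveSpectrum.basicOpen 𝒜 den.1 := homOfLE inf_le_right
    have h1 := (GrTilde.isLocFrac 𝒜 ℳ n).res iU fU hfU
    let c' : Twist.O (𝒜 := 𝒜) (op W) := (ProjectiveSpectrum.Proj.structureSheaf 𝒜).1.map iD.op s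
    refine ⟨⟨W, ⟨U.2, hden⟩⟩, _, GrTilde.smul_mem' n (op W) c' _ h1, ?_⟩
    change ((HomogeneousLocalization.mk ⟨k, num, den, hden⟩ • fU ⟨p, U.2⟩ : GrTilde.tildeAt 𝒜 ℳ n p) :
      GrTilde.LocMod 𝒜 (M := M) p) = _
    rw [Submodule.coe_smul, hU]

lemma exists_comp_notMem (p : ProjectiveSpectrum.top 𝒜) (u : A)
    (hu : u ∉ p.asHomogeneousIdeal.toIdeal) :
    ∃ k, ((DirectSum.decompose 𝒜 u k : 𝒜 k) : A) ∉ p.asHomogeneousIdeal.toIdeal := by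
  classical
  by_contra hall
  push Not at hall
  apply hu
  rw [← DirectSum.sum_support_decompose 𝒜 u]
  exact Ideal.sum_mem _ fun j _ => hall j

lemma inj_aux (n : ℤ) (p : ProjectiveSpectrum.top 𝒜) :
    Function.Injective (TopCat.stalkToFiber (GrTilde.isLocFrac 𝒜 ℳ n) p) := by
  refine TopCat.stalkToFiber_injective _ _ ?_
  intro U V fU hU fV hV e
  obtain ⟨U', mU, iU, i, j, m, s, nin, c, w⟩ := hU ⟨p, U.2⟩
  obtain ⟨V', mV, iV, i', j', m', s', nin', c', w'⟩ := hV ⟨p, V.2⟩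
  have e1 : (fU ⟨p, U.2⟩).1 = LocalizedModule.mk m.1 ⟨s.1, nin ⟨p, mU⟩⟩ := w ⟨p, mU⟩
  have e2 : (fV ⟨p, V.2⟩).1 = LocalizedModule.mk m'.1 ⟨s'.1, nin' ⟨p, mV⟩⟩ := w' ⟨p, mV⟩
  rw [e, e2, LocalizedModule.mk_eq] at e1
  obtain ⟨u, hu⟩ := e1
  have hu' : (u : A) • (s'.1 • m.1 - s.1 • m'.1) = 0 := by
    rw [smul_sub, sub_eq_zero]
    exact hu.symm
  obtain ⟨dg, hdg⟩ : ∃ dg, s'.1 • m.1 - s.1 • m'.1 ∈ ℳ dg := by
    have h1 : s'.1 • m.1 ∈ ℳ (j' + i) := SetLike.GradedSMul.smul_mem s'.2 m.2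
    have h2 : s.1 • m'.1 ∈ ℳ (j + i') := SetLike.GradedSMul.smul_mem s.2 m'.2
    rcases c with c | c
    · rcases c' with c' | c'
      · have : j' + i = j + i' := by omega
        exact ⟨j + i', sub_mem (this ▸ h1) h2⟩
      · exact ⟨j' + i, by rw [c', smul_zero, sub_zero]; exact h1⟩
    · exact ⟨j + i', by rw [c, smul_zero, zero_sub]; exact neg_mem h2⟩
  obtain ⟨k, hk⟩ := exists_comp_notMem 𝒜 p (u : A) u.2
  have hk0 := Groth.Agent.S3549.comp_smul_eq_zero 𝒜 ℳ hdg (u : A) hu' k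
  rw [smul_sub, sub_eq_zero] at hk0
  let W : Opens (ProjectiveSpectrum.top 𝒜) :=
    (U' ⊓ V') ⊓ ProjectiveSpectrum.basicOpen 𝒜 ((DirectSum.decompose 𝒜 (u : A) k : 𝒜 k) : A)
  have hWU : W ≤ U.1 := inf_le_left.trans (inf_le_left.trans iU.le)
  have hWV : W ≤ V.1 := inf_le_left.trans (inf_le_right.trans iV.le)
  refine ⟨⟨W, ⟨⟨mU, mV⟩, hk⟩⟩, homOfLE hWU, homOfLE hWV, fun y => ?_⟩
  apply Subtype.ext
  have a1 := w ⟨y.1, y.2.1.1⟩
  have a2 := w' ⟨y.1, y.2.1.2⟩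
  refine a1.trans (Eq.trans ?_ a2.symm)
  rw [LocalizedModule.mk_eq]
  exact ⟨⟨_, y.2.2⟩, hk0⟩

end

/-- Let S be a graded ring, M a graded S-module, X = Proj S and p a point of X. The stalk of M(n)~ at p
is the module of fractions m/f in M_p with m, f homogeneous, f not in p and deg m = deg f + n:
precisely, evaluation at p is a bijection from the stalk at p of the sheaf of local sections of
M(n)~ onto that module of fractions. -/
theorem result {R A : Type u} [CommRing R] [CommRing A] [Algebra R A] (𝒜 : ℕ → Submodule R A) [GradedAlgebra 𝒜]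
    {M : Type u} [AddCommGroup M] [Module R M] [Module A M] [IsScalarTower R A M] (ℳ : ℕ → Submodule R M) [DirectSum.Decomposition ℳ] [SetLike.GradedSMul 𝒜 ℳ] (n : ℤ)
    (p : ProjectiveSpectrum 𝒜) :
    Function.Bijective (TopCat.stalkToFiber (GrTilde.isLocFrac 𝒜 ℳ n) p) := by
  refine ⟨inj_aux 𝒜 ℳ n p, TopCat.stalkToFiber_surjective _ _ fun t => ?_⟩
  obtain ⟨U, f, hf, h⟩ := surj_aux 𝒜 ℳ n p t.1 t.2
  exact ⟨U, f, hf, Subtype.ext h⟩

end Groth.Agent.S3547
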