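import Groth.Statements.S3548

set_option autoImplicit false
universe u
open CategoryTheory CategoryTheory.Limits AlgebraicGeometry
open EGA2

namespace Groth.Agent.S3548

lemma subsingleton_locMod {R A : Type u} [CommRing R] [CommRing A] [Algebra R A] (𝒜 : ℕ → Submodule R A)
    [GradedAlgebra 𝒜] {M : Type u} [AddCommGroup M] [Module R M] [Module A M]
    (h : ∀ (z : M) (d : ℕ) (f : A), 0 < d → f ∈ 𝒜 d → ∃ k : ℕ, f ^ k • z = 0)
    (x : ProjectiveSpectrum 𝒜) : Subsingleton (GrTilde.LocMod 𝒜 (M := M) x) := by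
  rw [LocalizedModule.subsingleton_iff]
  intro m
  have hx := x.not_irrelevant_le
  rw [HomogeneousIdeal.irrelevant_le] at hx
  push Not at hx
  obtain ⟨i, hi, hle⟩ := hx
  obtain ⟨f, hf, hfx⟩ := SetLike.not_le_iff_exists.1 hle
  obtain ⟨k, hk⟩ := h m i f hi hf
  refine ⟨f ^ k, ?_, hk⟩
  intro hmem
  exact hfx (x.isPrime.mem_of_pow_mem k hmem)

/-- Let S be a graded ring, M a graded S-module and X = Proj S. If for every z in M and every
homogeneous f of positive degree some power of f annihilates z, then the O_X-module M~ is zero. -/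
theorem result {R A : Type u} [CommRing R] [CommRing A] [Algebra R A] (𝒜 : ℕ → Submodule R A) [GradedAlgebra 𝒜]
    {M : Type u} [AddCommGroup M] [Module R M] [Module A M] [IsScalarTower R A M] (ℳ : ℕ → Submodule R M) [DirectSum.Decomposition ℳ] [SetLike.GradedSMul 𝒜 ℳ]
    (h : ∀ (z : M) (d : ℕ) (f : A), 0 < d → f ∈ 𝒜 d → ∃ k : ℕ, f ^ k • z = 0) :
    IsZero (GrTilde.tilde 𝒜 ℳ 0) := by
  rw [IsZero.iff_id_eq_zero]
  apply Scheme.Modules.hom_ext
  intro U
  have hsub : Subsingleton (GrTilde.sect 𝒜 ℳ 0 (Opposite.op U)) := by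
    refine ⟨fun a b => ?_⟩
    apply Subtype.ext
    funext x
    apply Subtype.ext
    have := subsingleton_locMod 𝒜 (M := M) h x.1
    exact Subsingleton.elim _ _
  ext a
  exact hsub.elim _ _

end Groth.Agent.S3548
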