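import Groth.Statements.S3550
import Groth.Agent.Lib.H4GammaStarIso
import Groth.Agent.Lib.H4TwistAmple
import Groth.Agent.Lib.H78AmpleBasis
-- import your own Groth.Agent.* helpers here

set_option autoImplicit false
universe u
open CategoryTheory CategoryTheory.Limits AlgebraicGeometry
open EGA2

namespace Groth.Agent.S3550

/-- Let S be a graded ring whose irrelevant ideal S_+ is generated by finitely many elements of degree
one, and X = Proj S. Then every quasi-coherent O_X-module F is isomorphic to M~ for some graded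
S-module M (graded in nonnegative degrees). -/
theorem result {R A : Type u} [CommRing R] [CommRing A] [Algebra R A] (𝒜 : ℕ → Submodule R A) [GradedAlgebra 𝒜]
    (s : Finset A) (hs1 : ∀ f ∈ s, f ∈ 𝒜 1)
    (hs : (HomogeneousIdeal.irrelevant 𝒜).toIdeal = Ideal.span (s : Set A))
    (F : (Proj 𝒜).Modules) (hF : Coh.IsQCoh F) :
    ∃ (M : Type u) (_ : AddCommGroup M) (_ : Module R M) (_ : Module A M) (_ : IsScalarTower R A M)
      (ℳ : ℕ → Submodule R M) (_ : DirectSum.Decomposition ℳ) (_ : SetLike.GradedSMul 𝒜 ℳ),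
      Nonempty (GrTilde.tilde 𝒜 ℳ 0 ≅ F) := by
  classical
  have hL := Groth.Agent.Lib.H4Twist.isAmple_twist_one 𝒜 s hs1 hs
  have := Groth.Agent.Lib.H78AmpleBasis.quasiSeparatedSpace_of_isAmple hL
  let G : Groth.Agent.Lib.H4GrTilde.Gens 𝒜 := ⟨s, hs1⟩
  have hcov : ⨆ g : G.s, Groth.Agent.Lib.H4GrTilde.GStar.Dp G g = ⊤ := by
    rw [eq_top_iff]
    intro x _
    obtain ⟨f, hf, hfx⟩ := Groth.Agent.Lib.H4Twist.exists_mem_finset_notMem 𝒜 s hs x
    exact TopologicalSpace.Opens.mem_iSup.mpr ⟨⟨f, hf⟩, hfx⟩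
  have : F.IsQuasicoherent := hF
  let S := Groth.Agent.Lib.H4GrTilde.GStar.SubFam.top G F
  exact ⟨Groth.Agent.Lib.H4GrTilde.GStar.M S, inferInstance,
    Groth.Agent.Lib.H4GrTilde.GStar.moduleR S, Groth.Agent.Lib.H4GrTilde.GStar.moduleA S, inferInstance,
    Groth.Agent.Lib.H4GrTilde.GStar.gr S, Groth.Agent.Lib.H4GrTilde.GStar.decomposition S,
    Groth.Agent.Lib.H4GrTilde.GStar.gradedSMul S, Groth.Agent.Lib.H4GrTilde.GStar.nonempty_iso hcov⟩


end Groth.Agent.S3550
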