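import Groth.Statements.S3552
-- import your own Groth.Agent.* helpers here

set_option autoImplicit false
universe u
open CategoryTheory CategoryTheory.Limits AlgebraicGeometry
open EGA2

namespace Groth.Agent.S3552

lemma exists_homogeneous_not_mem {R A : Type u} [CommRing R] [CommRing A] [Algebra R A]
    (𝒜 : ℕ → Submodule R A) [GradedAlgebra 𝒜] (x : Proj 𝒜) :
    ∃ (f : A) (m : ℕ) (_ : f ∈ 𝒜 m) (_ : 0 < m), x ∈ Proj.basicOpen 𝒜 f := by
  classical
  by_contra! H
  refine x.not_irrelevant_le fun z hz ↦ ?_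
  rw [← DirectSum.sum_support_decompose 𝒜 z]
  refine x.1.toIdeal.sum_mem fun k hk ↦ ?_
  by_cases hk0 : k = 0
  · subst hk0
    have := (HomogeneousIdeal.mem_irrelevant_iff 𝒜 z).1 hz
    rw [GradedRing.proj_apply] at this
    rw [this]
    exact Ideal.zero_mem _
  · have := H (DirectSum.decompose 𝒜 z k : A) k (SetLike.coe_mem _) (Nat.pos_of_ne_zero hk0)
    simpa [Proj.mem_basicOpen] using this

/-- In the case where the induced morphism is defined on all of Proj S: let φ : S' → S be a homomorphism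
of graded rings such that S_+ is contained in the ideal generated by φ(S'_+). Then the induced
morphism from Proj S to Proj S' is affine. -/
theorem result {R A : Type u} [CommRing R] [CommRing A] [Algebra R A] (𝒜 : ℕ → Submodule R A) [GradedAlgebra 𝒜]
    {B : Type u} [CommRing B] [Algebra R B] (ℬ : ℕ → Submodule R B) [GradedAlgebra ℬ]
    (φ : 𝒜 →+*ᵍ ℬ) (hφ : HomogeneousIdeal.irrelevant ℬ ≤ (HomogeneousIdeal.irrelevant 𝒜).map φ) :
    IsAffineHom (Proj.map φ hφ) := by
  apply isAffineHom_of_forall_exists_isAffineOpen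
  intro x
  obtain ⟨f, m, hf, hm, hx⟩ := exists_homogeneous_not_mem 𝒜 x
  refine ⟨Proj.basicOpen 𝒜 f, hx, Proj.isAffineOpen_basicOpen 𝒜 f hf hm, ?_⟩
  rw [Proj.map_preimage_basicOpen]
  exact Proj.isAffineOpen_basicOpen ℬ (φ f) (φ.2 hf) hm

end Groth.Agent.S3552
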