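import Groth.Statements.S3553
import Groth.Agent.Lib.ProjNull

set_option autoImplicit false
universe u
open CategoryTheory CategoryTheory.Limits AlgebraicGeometry
open EGA2

namespace Groth.Agent.S3553

/-- In the case where the induced morphism is defined on all of Proj S: let φ : S' → S be a homomorphism
of graded rings such that S_+ is contained in the ideal generated by φ(S'_+), and suppose every
element of the kernel of φ is nilpotent. Then the induced morphism from Proj S to Proj S' has dense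
image. -/
theorem result {R A : Type u} [CommRing R] [CommRing A] [Algebra R A] (𝒜 : ℕ → Submodule R A) [GradedAlgebra 𝒜]
    {B : Type u} [CommRing B] [Algebra R B] (ℬ : ℕ → Submodule R B) [GradedAlgebra ℬ]
    (φ : 𝒜 →+*ᵍ ℬ) (hφ : HomogeneousIdeal.irrelevant ℬ ≤ (HomogeneousIdeal.irrelevant 𝒜).map φ)
    (hker : ∀ a : A, φ a = 0 → IsNilpotent a) :
    DenseRange (Proj.map φ hφ).base := by
  classical
  have hirr : ∀ a' ∈ (HomogeneousIdeal.irrelevant 𝒜).toIdeal,
      φ a' ∈ (HomogeneousIdeal.irrelevant ℬ).toIdeal := by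
    intro a' ha'
    have h0 := (HomogeneousIdeal.mem_irrelevant_iff 𝒜 a').1 ha'
    refine (HomogeneousIdeal.mem_irrelevant_iff ℬ _).2 ?_
    rw [GradedRing.proj_apply] at h0 ⊢
    rw [← GradedRingHom.map_directSumDecompose, h0, map_zero]
  change Dense (Set.range (Proj.map φ hφ).base)
  have hb : TopologicalSpace.IsTopologicalBasis
      (Set.range fun r : A => ((Proj.basicOpen 𝒜 r : (Proj 𝒜).Opens) : Set (Proj 𝒜))) :=
    ProjectiveSpectrum.isTopologicalBasis_basic_opens 𝒜
  rw [hb.dense_iff]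
  rintro _ ⟨a, rfl⟩ ⟨q, hq⟩
  -- it suffices to find a point of `Proj ℬ` in `D₊(φ a)`
  suffices h : ∃ p : ProjectiveSpectrum ℬ, φ a ∉ p.asHomogeneousIdeal by
    obtain ⟨p, hp⟩ := h
    exact ⟨(Proj.map φ hφ).base p, hp, p, rfl⟩
  by_contra! H
  -- choose a' in the irrelevant ideal outside q
  obtain ⟨a', ha', ha'q⟩ : ∃ a' ∈ (HomogeneousIdeal.irrelevant 𝒜).toIdeal,
      a' ∉ q.asHomogeneousIdeal := by
    by_contra! H'
    exact q.not_irrelevant_le fun x hx => H' x hx
  have h1 : φ a' * φ a ∈ (⊥ : Ideal B).radical :=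
    Groth.Agent.Lib.ProjNull.mem_radical_of_forall_point ℬ (Ideal.IsHomogeneous.bot ℬ)
      (Ideal.mul_mem_right _ _ (hirr a' ha'))
      (fun p _ => Ideal.mul_mem_left _ _ (H p))
  obtain ⟨n, hn⟩ := h1
  have h2 : IsNilpotent ((a' * a) ^ n) := by
    apply hker
    rw [map_pow, map_mul]
    simpa using hn
  obtain ⟨m, hm⟩ := h2
  have h3 : a' * a ∈ q.asHomogeneousIdeal.toIdeal := by
    refine q.isPrime.mem_of_pow_mem (n * m) ?_
    rw [pow_mul, hm]
    exact Ideal.zero_mem _
  rcases q.isPrime.mem_or_mem h3 with h | h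
  · exact ha'q h
  · exact hq h

end Groth.Agent.S3553
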