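import Groth.Statements.S3555
-- import your own Groth.Agent.* helpers here

set_option autoImplicit false
universe u
open CategoryTheory CategoryTheory.Limits AlgebraicGeometry
open EGA2

namespace Groth.Agent.S3555

/-- Let S be a graded ring whose irrelevant ideal S_+ is generated by the degree-one elements, X = Proj
S, and f homogeneous of degree d > 0. Then D_+(f) is the set of points p of X at which the global
section f/1 of O_X(d) does not vanish, i.e. at which its value generates the module of degree-d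
fractions at p. -/
theorem result {R A : Type u} [CommRing R] [CommRing A] [Algebra R A] (𝒜 : ℕ → Submodule R A) [GradedAlgebra 𝒜]
    (hgen : (HomogeneousIdeal.irrelevant 𝒜).toIdeal = Ideal.span (𝒜 1 : Set A))
    {d : ℕ} (hd : 0 < d) (f : 𝒜 d) (p : ProjectiveSpectrum 𝒜) :
    p ∈ ProjectiveSpectrum.basicOpen 𝒜 (f : A) ↔
      Submodule.span (Twist.A0 𝒜 p) {(Twist.globalOf 𝒜 f).1 ⟨p, trivial⟩} = ⊤ := by
  classical
  have hone : (1 : A) ∉ p.asHomogeneousIdeal.toIdeal :=
    fun h => p.isPrime.ne_top ((Ideal.eq_top_iff_one _).mpr h)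
  have he : (((Twist.globalOf 𝒜 f).1 ⟨p, trivial⟩ : Twist.twistAt 𝒜 (d : ℤ) p) : Twist.Loc 𝒜 p) =
      Localization.mk f.1 ⟨1, hone⟩ := rfl
  constructor
  · intro hp
    replace hp : f.1 ∉ p.asHomogeneousIdeal.toIdeal := hp
    rw [eq_top_iff]
    rintro ⟨q, hq⟩ -
    unfold Twist.twistAt at hq
    induction hq using Submodule.span_induction with
    | mem q hq =>
      obtain ⟨i, j, a, s, hs, hij, rfl⟩ := hq
      have hsf : s.1 * f.1 ∉ p.asHomogeneousIdeal.toIdeal := fun h =>
        (p.isPrime.mem_or_mem h).elim hs hp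
      have hdeg : s.1 * f.1 ∈ 𝒜 i := by
        have : i = j + d := by exact_mod_cast hij
        rw [this]
        exact SetLike.mul_mem_graded s.2 f.2
      let c : Twist.A0 𝒜 p := HomogeneousLocalization.mk ⟨i, a, ⟨s.1 * f.1, hdeg⟩, hsf⟩
      refine Submodule.mem_span_singleton.2 ⟨c, ?_⟩
      apply Subtype.ext
      rw [Twist.coe_smul_val, he]
      change Localization.mk a.1 ⟨s.1 * f.1, hsf⟩ * _ = _
      rw [Localization.mk_mul, Localization.mk_eq_mk_iff]
      apply Localization.r_of_eq
      simp only [Submonoid.coe_mul, mul_one]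
      ring
    | zero => exact Submodule.zero_mem _
    | add x y hx hy ihx ihy => exact Submodule.add_mem _ ihx ihy
    | smul c x hx ihx => exact Submodule.smul_mem _ c ihx
  · intro htop hfp
    replace hfp : f.1 ∈ p.asHomogeneousIdeal.toIdeal := hfp
    -- choose g of degree one outside p
    obtain ⟨g, hg1, hgp⟩ : ∃ g ∈ 𝒜 1, g ∉ p.asHomogeneousIdeal.toIdeal := by
      by_contra! H
      apply p.not_irrelevant_le
      intro z hz
      have hz' : z ∈ (HomogeneousIdeal.irrelevant 𝒜).toIdeal := hz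
      rw [hgen] at hz'
      exact (Ideal.span_le.2 fun x hx => H x hx) hz'
    have hgd : g ^ d ∈ 𝒜 d := by
      have := SetLike.pow_mem_graded d hg1
      simpa using this
    have hgdp : g ^ d ∉ p.asHomogeneousIdeal.toIdeal := fun h => hgp (p.isPrime.mem_of_pow_mem d h)
    let t : Twist.twistAt 𝒜 (d : ℤ) p := ⟨Localization.mk (g ^ d) ⟨1, hone⟩,
      Submodule.subset_span ⟨d, 0, ⟨g ^ d, hgd⟩, ⟨1, SetLike.GradedOne.one_mem⟩, hone,
        by simp, rfl⟩⟩
    have ht : t ∈ Submodule.span (Twist.A0 𝒜 p) {(Twist.globalOf 𝒜 f).1 ⟨p, trivial⟩} := by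
      rw [htop]; trivial
    obtain ⟨c, hc⟩ := Submodule.mem_span_singleton.1 ht
    obtain ⟨⟨k, a, s, hs⟩, rfl⟩ := HomogeneousLocalization.mk_surjective c
    have h1 := congrArg Subtype.val hc
    rw [Twist.coe_smul_val, he] at h1
    change Localization.mk a.1 ⟨s.1, hs⟩ * _ = Localization.mk (g ^ d) ⟨1, hone⟩ at h1
    rw [Localization.mk_mul, Localization.mk_eq_mk_iff, Localization.r_iff_exists] at h1
    obtain ⟨u, hu⟩ := h1
    simp only [Submonoid.coe_mul, mul_one, one_mul] at hu
    have hL : (u : A) * (a.1 * f.1) ∈ p.asHomogeneousIdeal.toIdeal :=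
      Ideal.mul_mem_left _ _ (Ideal.mul_mem_left _ _ hfp)
    rw [hu] at hL
    rcases p.isPrime.mem_or_mem hL with h | h
    · exact u.2 h
    · rcases p.isPrime.mem_or_mem h with h | h
      · exact hs h
      · exact hgdp h

end Groth.Agent.S3555
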