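import Groth.Statements.S3556
-- import your own Groth.Agent.* helpers here

set_option autoImplicit false
universe u
open CategoryTheory CategoryTheory.Limits AlgebraicGeometry
open EGA2

namespace Groth.Agent.S3556

lemma away_isReduced {R A : Type u} [CommRing R] [CommRing A] [Algebra R A]
    (𝒜 : ℕ → Submodule R A) [GradedAlgebra 𝒜]
    (hred : ∀ f ∈ (HomogeneousIdeal.irrelevant 𝒜).toIdeal, IsNilpotent f → f = 0)
    {f : A} {d : ℕ} (hd : 0 < d) (hf : f ∈ 𝒜 d) :
    _root_.IsReduced (HomogeneousLocalization.Away 𝒜 f) := by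
  constructor
  rintro x ⟨m, hm⟩
  obtain ⟨n, a, ha, rfl⟩ := HomogeneousLocalization.Away.mk_surjective 𝒜 hf x
  have hfirr : f ∈ (HomogeneousIdeal.irrelevant 𝒜).toIdeal :=
    HomogeneousIdeal.mem_irrelevant_of_mem 𝒜 hd hf
  have h1 := congrArg HomogeneousLocalization.val hm
  rw [HomogeneousLocalization.val_pow, HomogeneousLocalization.Away.val_mk,
    HomogeneousLocalization.val_zero, Localization.mk_pow, Localization.mk_eq_mk',
    IsLocalization.mk'_eq_zero_iff] at h1
  obtain ⟨⟨_, k, rfl⟩, hk⟩ := h1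
  dsimp only at hk
  have hfa : f * a = 0 := by
    apply hred _ (Ideal.mul_mem_right _ _ hfirr)
    refine ⟨k + m, ?_⟩
    calc (f * a) ^ (k + m) = f ^ m * a ^ k * (f ^ k * a ^ m) := by ring
      _ = 0 := by rw [hk, mul_zero]
  rw [HomogeneousLocalization.ext_iff_val, HomogeneousLocalization.Away.val_mk,
    HomogeneousLocalization.val_zero, Localization.mk_eq_mk', IsLocalization.mk'_eq_zero_iff]
  exact ⟨⟨f, 1, pow_one f⟩, hfa⟩

/-- Let S be a graded ring which is essentially reduced, i.e. its irrelevant ideal S_+ contains no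
nonzero nilpotent element. Then Proj S is a reduced scheme. -/
theorem result {R A : Type u} [CommRing R] [CommRing A] [Algebra R A] (𝒜 : ℕ → Submodule R A) [GradedAlgebra 𝒜]
    (hred : ∀ f ∈ (HomogeneousIdeal.irrelevant 𝒜).toIdeal, IsNilpotent f → f = 0) :
    AlgebraicGeometry.IsReduced (Proj 𝒜) := by
  have : ∀ i, IsReduced ((Proj.affineOpenCover 𝒜).openCover.X i) := by
    intro i
    have := away_isReduced 𝒜 hred i.1.2 i.2.2
    change IsReduced (Spec (CommRingCat.of (HomogeneousLocalization.Away 𝒜 i.2.1)))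
    infer_instance
  exact IsReduced.of_openCover _ (Proj.affineOpenCover 𝒜).openCover

end Groth.Agent.S3556
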