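import Groth.Statements.S3557
import Groth.Agent.Lib.ProjNull
import Groth.Agent.S3556

set_option autoImplicit false
universe u
open CategoryTheory CategoryTheory.Limits AlgebraicGeometry
open EGA2

namespace Groth.Agent.S3557

/-- Let S be a graded ring which is essentially reduced (S_+ contains no nonzero nilpotent). Then Proj S
is an integral scheme if and only if S is essentially integral, i.e. S_+ is nonzero and the product
of two nonzero elements of S_+ is nonzero. -/
theorem result {R A : Type u} [CommRing R] [CommRing A] [Algebra R A] (𝒜 : ℕ → Submodule R A) [GradedAlgebra 𝒜]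
    (hred : ∀ f ∈ (HomogeneousIdeal.irrelevant 𝒜).toIdeal, IsNilpotent f → f = 0) :
    AlgebraicGeometry.IsIntegral (Proj 𝒜) ↔
      ((∃ f ∈ (HomogeneousIdeal.irrelevant 𝒜).toIdeal, f ≠ 0) ∧
        ∀ f ∈ (HomogeneousIdeal.irrelevant 𝒜).toIdeal, ∀ g ∈ (HomogeneousIdeal.irrelevant 𝒜).toIdeal,
          f * g = 0 → f = 0 ∨ g = 0) := by
  classical
  -- non-nilpotent elements of the irrelevant ideal give points
  have hpt : ∀ f ∈ (HomogeneousIdeal.irrelevant 𝒜).toIdeal, f ≠ 0 →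
      ∃ p : ProjectiveSpectrum 𝒜, f ∉ p.asHomogeneousIdeal := by
    intro f hf hf0
    have hnil : f ∉ (⊥ : Ideal A).radical := by
      rintro ⟨n, hn⟩
      exact hf0 (hred f hf ⟨n, by simpa using hn⟩)
    obtain ⟨p, -, hp⟩ := Groth.Agent.Lib.ProjNull.exists_point_of_not_mem_radical 𝒜
      (Ideal.IsHomogeneous.bot 𝒜) hf hnil
    exact ⟨p, hp⟩
  constructor
  · intro hint
    have hne : Nonempty (ProjectiveSpectrum 𝒜) := hint.nonempty
    refine ⟨?_, ?_⟩
    · by_contra! H
      have : IsEmpty (ProjectiveSpectrum 𝒜) := by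
        rw [Groth.Agent.Lib.ProjNull.isEmpty_projectiveSpectrum_iff]
        intro f hf
        rw [H f hf]
        exact IsNilpotent.zero
      exact this.false hne.some
    · intro f hf g hg hfg
      by_contra! H
      obtain ⟨p, hp⟩ := hpt f hf H.1
      obtain ⟨q, hq⟩ := hpt g hg H.2
      have hirr : IrreducibleSpace (Proj 𝒜) := inferInstance
      obtain ⟨x, hx1, hx2⟩ := nonempty_preirreducible_inter
        (Proj.basicOpen 𝒜 f).2 (Proj.basicOpen 𝒜 g).2 ⟨p, hp⟩ ⟨q, hq⟩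
      have : x ∈ Proj.basicOpen 𝒜 (f * g) := by
        rw [Proj.basicOpen_mul]
        exact ⟨hx1, hx2⟩
      rw [hfg, Proj.basicOpen_zero] at this
      exact this
  · rintro ⟨⟨f₀, hf₀, hf₀0⟩, hdom⟩
    have hredP : IsReduced (Proj 𝒜) := Groth.Agent.S3556.result 𝒜 hred
    have hpow : ∀ f ∈ (HomogeneousIdeal.irrelevant 𝒜).toIdeal, f ≠ 0 → ∀ n : ℕ, f ^ n ≠ 0 := by
      intro f hf hf0 n hn
      exact hf0 (hred f hf ⟨n, hn⟩)
    have hirr : IrreducibleSpace (Proj 𝒜) := by
      have hne : Nonempty (Proj 𝒜) := by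
        obtain ⟨p, -⟩ := hpt f₀ hf₀ hf₀0
        exact ⟨p⟩
      refine @IrreducibleSpace.mk _ _ ⟨?_⟩ hne
      rintro U V hU hV ⟨x, -, hxU⟩ ⟨y, -, hyV⟩
      obtain ⟨_, ⟨a, rfl⟩, hxa, haU⟩ :=
        (ProjectiveSpectrum.isTopologicalBasis_basic_opens 𝒜).exists_subset_of_mem_open hxU hU
      obtain ⟨_, ⟨b, rfl⟩, hyb, hbV⟩ :=
        (ProjectiveSpectrum.isTopologicalBasis_basic_opens 𝒜).exists_subset_of_mem_open hyV hV
      obtain ⟨a', ha', ha'x⟩ : ∃ a' ∈ (HomogeneousIdeal.irrelevant 𝒜).toIdeal,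
          a' ∉ x.asHomogeneousIdeal := by
        by_contra! H'
        exact x.not_irrelevant_le fun z hz => H' z hz
      obtain ⟨b', hb', hb'y⟩ : ∃ b' ∈ (HomogeneousIdeal.irrelevant 𝒜).toIdeal,
          b' ∉ y.asHomogeneousIdeal := by
        by_contra! H'
        exact y.not_irrelevant_le fun z hz => H' z hz
      have h1 : a * a' ∉ x.asHomogeneousIdeal.toIdeal := fun h =>
        (x.isPrime.mem_or_mem h).elim hxa ha'x
      have h2 : b * b' ∉ y.asHomogeneousIdeal.toIdeal := fun h =>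
        (y.isPrime.mem_or_mem h).elim hyb hb'y
      have h1' : a * a' ≠ 0 := fun h => h1 (h ▸ Ideal.zero_mem _)
      have h2' : b * b' ≠ 0 := fun h => h2 (h ▸ Ideal.zero_mem _)
      have hm1 : a * a' ∈ (HomogeneousIdeal.irrelevant 𝒜).toIdeal := Ideal.mul_mem_left _ _ ha'
      have hm2 : b * b' ∈ (HomogeneousIdeal.irrelevant 𝒜).toIdeal := Ideal.mul_mem_left _ _ hb'
      have h3 : (a * a') * (b * b') ≠ 0 := fun h =>
        (hdom _ hm1 _ hm2 h).elim h1' h2'
      obtain ⟨p, hp⟩ := hpt _ (Ideal.mul_mem_left _ _ hm2) h3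
      refine ⟨p, trivial, haU ?_, hbV ?_⟩
      · intro ha
        exact hp (Ideal.mul_mem_right _ _ (Ideal.mul_mem_right _ _ ha))
      · intro hb
        exact hp (Ideal.mul_mem_left _ _ (Ideal.mul_mem_right _ _ hb))
    exact isIntegral_of_irreducibleSpace_of_isReduced (Proj 𝒜)

end Groth.Agent.S3557
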