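import Groth.Statements.S3560
import Groth.Agent.Lib.ProjNull
import Mathlib.RingTheory.Noetherian.Nilpotent

set_option autoImplicit false
universe u
open CategoryTheory CategoryTheory.Limits AlgebraicGeometry
open EGA2

namespace Groth.Agent.S3560

/-- Let S be a graded ring whose irrelevant ideal S_+ is finitely generated. Then Proj S is empty if and
only if there is n such that S_k = 0 for all k ≥ n. -/
theorem result {R A : Type u} [CommRing R] [CommRing A] [Algebra R A] (𝒜 : ℕ → Submodule R A) [GradedAlgebra 𝒜]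
    (hfg : (HomogeneousIdeal.irrelevant 𝒜).toIdeal.FG) :
    IsEmpty (Proj 𝒜) ↔ ∃ n : ℕ, ∀ k : ℕ, n ≤ k → 𝒜 k = ⊥ := by
  classical
  rw [show IsEmpty (Proj 𝒜) ↔ _ from Groth.Agent.Lib.ProjNull.isEmpty_projectiveSpectrum_iff 𝒜]
  constructor
  · intro h
    -- the irrelevant ideal is nilpotent
    have hnil : IsNilpotent (HomogeneousIdeal.irrelevant 𝒜).toIdeal := by
      rw [Ideal.FG.isNilpotent_iff_le_nilradical hfg]
      intro f hf
      exact mem_nilradical.mpr (h f hf)
    obtain ⟨N, hN⟩ := hnil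
    obtain ⟨s, hs, hspan⟩ := Groth.Agent.Lib.ProjNull.exists_finset_homogeneous_span_eq 𝒜
      (HomogeneousIdeal.irrelevant 𝒜).isHomogeneous hfg
    -- remove zero and choose degrees
    have hs' : ∀ x ∈ s.erase 0, ∃ d, 0 < d ∧ x ∈ 𝒜 d := by
      intro x hx
      obtain ⟨hx0, hxs⟩ := Finset.mem_erase.1 hx
      obtain ⟨d, hd⟩ := hs x hxs
      refine ⟨d, Nat.pos_of_ne_zero ?_, hd⟩
      rintro rfl
      have hxirr : x ∈ (HomogeneousIdeal.irrelevant 𝒜).toIdeal := hspan ▸ Ideal.subset_span hxs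
      have := (HomogeneousIdeal.mem_irrelevant_iff 𝒜 x).1 hxirr
      rw [GradedRing.proj_apply, DirectSum.decompose_of_mem_same 𝒜 hd] at this
      exact hx0 this
    have hspan' : Ideal.span ((s.erase 0 : Finset A) : Set A) =
        (HomogeneousIdeal.irrelevant 𝒜).toIdeal := by
      rw [← hspan, Finset.coe_erase, Ideal.span_sdiff_singleton_zero]
    choose! deg hdeg using hs'
    let D := (s.erase 0).sup deg
    refine ⟨D * N + 1, fun k hk => ?_⟩
    rw [eq_bot_iff]
    intro x hx
    have h1 := Groth.Agent.Lib.ProjNull.le_irrelevant_pow 𝒜 (s.erase 0) D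
      (fun y hy => ⟨deg y, (hdeg y hy).1, Finset.le_sup hy, (hdeg y hy).2⟩) hspan' N k
      (by omega) x hx
    have h2 : (HomogeneousIdeal.irrelevant 𝒜).toIdeal ^ (N + 1) = ⊥ := by
      rw [pow_succ, hN]; simp
    rw [h2] at h1
    simpa using h1
  · rintro ⟨n, hn⟩ f hf
    rw [← DirectSum.sum_support_decompose 𝒜 f]
    refine isNilpotent_sum fun k hk => ?_
    have hk0 : k ≠ 0 := by
      rintro rfl
      have := (HomogeneousIdeal.mem_irrelevant_iff 𝒜 f).1 hf
      rw [GradedRing.proj_apply] at this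
      rw [DFinsupp.mem_support_toFun] at hk
      exact hk (Subtype.ext this)
    refine ⟨n, ?_⟩
    have hmem : (DirectSum.decompose 𝒜 f k : A) ^ n ∈ 𝒜 (n • k) :=
      SetLike.pow_mem_graded n (SetLike.coe_mem _)
    have hle : n ≤ n • k := by
      rw [smul_eq_mul]
      exact Nat.le_mul_of_pos_right n (Nat.pos_of_ne_zero hk0)
    rw [hn _ hle] at hmem
    simpa using hmem

end Groth.Agent.S3560
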