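import Groth.Statements.S3563
-- import your own Groth.Agent.* helpers here

set_option autoImplicit false
universe u
open CategoryTheory CategoryTheory.Limits AlgebraicGeometry
open EGA2

namespace Groth.Agent.S3563

open HomogeneousLocalization in
lemma awayMap_surjective {R A : Type u} [CommRing R] [CommRing A] [Algebra R A]
    (𝒜 : ℕ → Submodule R A) [GradedAlgebra 𝒜]
    {B : Type u} [CommRing B] [Algebra R B] (ℬ : ℕ → Submodule R B) [GradedAlgebra ℬ]
    (φ : 𝒜 →+*ᵍ ℬ) (hsurj : Function.Surjective φ) {s : A} {d : ℕ} (hs : s ∈ 𝒜 d) :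
    Function.Surjective (Away.map φ s) := by
  intro x
  obtain ⟨n, b, hb, rfl⟩ := Away.mk_surjective ℬ (φ.2 hs) x
  obtain ⟨a', rfl⟩ := hsurj b
  refine ⟨Away.mk 𝒜 hs n (DirectSum.decompose 𝒜 a' (n • d) : A) (SetLike.coe_mem _), ?_⟩
  rw [Away.map_mk]
  congr 1
  rw [GradedRingHom.map_directSumDecompose, DirectSum.decompose_of_mem_same ℬ hb]

set_option backward.isDefEq.respectTransparency false in
lemma isPullback_away {R A : Type u} [CommRing R] [CommRing A] [Algebra R A]
    (𝒜 : ℕ → Submodule R A) [GradedAlgebra 𝒜]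
    {B : Type u} [CommRing B] [Algebra R B] (ℬ : ℕ → Submodule R B) [GradedAlgebra ℬ]
    (φ : 𝒜 →+*ᵍ ℬ) (hφ : HomogeneousIdeal.irrelevant ℬ ≤ (HomogeneousIdeal.irrelevant 𝒜).map φ)
    {s : A} {d : ℕ} (hd : 0 < d) (hs : s ∈ 𝒜 d) :
    IsPullback (Proj.awayι ℬ (φ s) (φ.2 hs) hd)
      (Spec.map (CommRingCat.ofHom (HomogeneousLocalization.Away.map φ s)))
      (Proj.map φ hφ) (Proj.awayι 𝒜 s hs hd) := by
  refine (IsOpenImmersion.isPullback _ _ _ _ (Proj.awayι_comp_map φ hφ hd s hs) ?_).flip
  rw [Proj.opensRange_awayι, Proj.opensRange_awayι, Proj.map_preimage_basicOpen]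

/-- Let φ : S → S' be a surjective homomorphism of graded rings (graded algebras over a base ring R).
Then the induced morphism Proj S' → Proj S is defined everywhere and is a closed immersion. The
hypothesis that the irrelevant ideal of S' is contained in the extension of the irrelevant ideal of
S, needed to define the morphism on all of Proj S', is carried explicitly; it follows from
surjectivity. This is the case of a surjective φ; the published statement is more general. -/
theorem result {R A : Type u} [CommRing R] [CommRing A] [Algebra R A] (𝒜 : ℕ → Submodule R A) [GradedAlgebra 𝒜]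
    {B : Type u} [CommRing B] [Algebra R B] (ℬ : ℕ → Submodule R B) [GradedAlgebra ℬ]
    (φ : 𝒜 →+*ᵍ ℬ) (hsurj : Function.Surjective φ)
    (hφ : HomogeneousIdeal.irrelevant ℬ ≤ (HomogeneousIdeal.irrelevant 𝒜).map φ) :
    IsClosedImmersion (Proj.map φ hφ) := by
  have key : ∀ (d : ℕ) (hd : 0 < d) (s : A) (hs : s ∈ 𝒜 d),
      IsClosedImmersion (pullback.snd (Proj.map φ hφ) (Proj.awayι 𝒜 s hs hd)) := by
    intro d hd s hs
    have h := isPullback_away 𝒜 ℬ φ hφ hd hs
    have hcl : IsClosedImmersion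
        (Spec.map (CommRingCat.ofHom (HomogeneousLocalization.Away.map φ s))) :=
      IsClosedImmersion.spec_of_surjective _ (awayMap_surjective 𝒜 ℬ φ hsurj hs)
    rw [← h.isoPullback_inv_snd]
    infer_instance
  refine IsZariskiLocalAtTarget.of_openCover (P := @IsClosedImmersion)
    (Proj.affineOpenCover 𝒜).openCover fun i => ?_
  exact key _ (i : Σ n : ℕ+, 𝒜 n).1.2 _ (i : Σ n : ℕ+, 𝒜 n).2.2

end Groth.Agent.S3563
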