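import Groth.Statements.S3565
import Groth.Agent.Lib.NormPullH3
import Groth.Agent.Lib.H78PullAmple3
import Groth.Agent.Lib.FinLocFreeMor

set_option autoImplicit false
universe u
open CategoryTheory CategoryTheory.Limits AlgebraicGeometry
open EGA2

namespace Groth.Agent.S3565

/-- Let f : X → Y be a quasi-compact morphism, g : X' → X a finite surjective morphism such that the
direct image of the structure sheaf of X' is a finite locally free O_X-module, and L an invertible
O_X-module. Then L is ample relative to f if and only if its inverse image on X' is ample relative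
to f ∘ g. -/
theorem result {X X' Y : Scheme.{u}} (f : X ⟶ Y) [QuasiCompact f]
    (g : X' ⟶ X) [IsFinite g] [Surjective g]
    (hfree : FlatMod.IsFinLocFree ((Coh.push g).obj (Coh.structureModule X')))
    (L : X.Modules) (hL : PicF.IsInvertible L) :
    RelAmple.IsRelAmple f L ↔ RelAmple.IsRelAmple (g ≫ f) ((Scheme.Modules.pullback g).obj L) := by
  constructor
  · intro hLamp
    exact Groth.Agent.Lib.H78PullAmple.isRelAmple_comp_pullback_of_quasiAffine f g (fun V hV => by
      haveI : IsAffine (g ⁻¹ᵁ V : Scheme.{u}) := hV.preimage g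
      infer_instance) L hLamp
  · intro hR
    refine ⟨inferInstance, fun V => ?_⟩
    have h1 : CohB1.IsAmple ((Scheme.Modules.pullback (g ∣_ (f ⁻¹ᵁ V.1))).obj
        (L.restrict (f ⁻¹ᵁ V.1).ι)) :=
      Groth.Agent.Lib.H78AmpleUnit.isAmple_of_iso
        (Groth.Agent.Lib.ModPullback.restrictPullbackIso g (f ⁻¹ᵁ V.1) L) (hR.2 V)
    haveI : Surjective (g ∣_ (f ⁻¹ᵁ V.1)) :=
      MorphismProperty.of_isPullback (P := @Surjective)
        (isPullback_morphismRestrict g (f ⁻¹ᵁ V.1)).flip inferInstance
    obtain ⟨-, hflat, hfp⟩ := (Groth.Agent.Lib.FinLocFreeMor.isFinLocFree_mor_iff g).1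
      ⟨inferInstance, hfree⟩
    haveI := hflat
    haveI := hfp
    have hE : FlatMod.IsFinLocFree (Groth.Agent.Lib.NormChartH3.E (g ∣_ (f ⁻¹ᵁ V.1))) :=
      ((Groth.Agent.Lib.FinLocFreeMor.isFinLocFree_mor_iff (g ∣_ (f ⁻¹ᵁ V.1))).2
        ⟨inferInstance, inferInstance, inferInstance⟩).2
    exact Groth.Agent.Lib.NormPullH3.isAmple_of_isAmple_pullback (g ∣_ (f ⁻¹ᵁ V.1)) hE
      (Groth.Agent.Lib.H90Invertible.isInvertible_restrict (f ⁻¹ᵁ V.1).ι hL) h1

end Groth.Agent.S3565
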