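import Groth.Statements.S3568
import Groth.Agent.S4808

set_option autoImplicit false
universe u
open CategoryTheory CategoryTheory.Limits AlgebraicGeometry
open EGA2

namespace Groth.Agent.S3568

theorem residue_bijective_of_isField {R : Type*} [CommRing R] [IsLocalRing R] (hR : IsField R) :
    Function.Bijective (IsLocalRing.residue R) := by
  refine ⟨?_, IsLocalRing.residue_surjective⟩
  rw [RingHom.injective_iff_ker_eq_bot, IsLocalRing.ker_residue]
  exact IsLocalRing.isField_iff_maximalIdeal_eq.mp hR

/-- Let U be an integral scheme, V a normal integral scheme (all local rings integrally closed domains)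
and h : U → V a morphism which is universally closed, radicial (universally injective) and
birational (it sends the generic point of U to that of V and induces an isomorphism of the residue
fields there). Then h is an isomorphism. (The source assumes only V normal; integrality of V, needed
here to speak of its generic point, follows from the other hypotheses.) -/
theorem result {U V : Scheme.{u}} [AlgebraicGeometry.IsIntegral U] [AlgebraicGeometry.IsIntegral V]
    (hN : Pi1.IsNormalScheme V) (h : U ⟶ V) [UniversallyClosed h]
    [UniversallyInjective h] (hgen : h.base (genericPoint U) = genericPoint V)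
    (hbir : Function.Bijective (h.residueFieldMap (genericPoint U)).hom) :
    IsIso h := by
  -- `h` is a closed embedding, hence affine, hence integral
  have hemb : Topology.IsClosedEmbedding h :=
    Topology.IsClosedEmbedding.of_continuous_injective_isClosedMap h.continuous h.injective
      h.isClosedMap
  have haff : IsAffineHom h :=
    isAffineHom_of_isInducing h hemb.isInducing hemb.isClosed_range
  have hint : IsIntegralHom h :=
    IsIntegralHom.iff_universallyClosed_and_isAffineHom.mpr ⟨inferInstance, haff⟩
  have hNic : ∀ y : V, IsIntegrallyClosed (V.presheaf.stalk y) := fun y => (hN y).2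
  -- the stalk map at the generic point is bijective
  have hfU : IsField (U.presheaf.stalk (genericPoint U)) :=
    Field.toIsField (U.functionField)
  have hfV : IsField (V.presheaf.stalk (h (genericPoint U))) := by
    rw [hgen]
    exact Field.toIsField (V.functionField)
  have hstalk : Function.Bijective (h.stalkMap (genericPoint U)).hom := by
    have hsq := Scheme.residue_residueFieldMap h (genericPoint U)
    have h1 := residue_bijective_of_isField hfU
    have h2 := residue_bijective_of_isField hfV
    have hcomp : Function.Bijective
        ((IsLocalRing.residue (U.presheaf.stalk (genericPoint U))) ∘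
          (h.stalkMap (genericPoint U)).hom) := by
      have : (IsLocalRing.residue (U.presheaf.stalk (genericPoint U))) ∘
          (h.stalkMap (genericPoint U)).hom =
          (h.residueFieldMap (genericPoint U)).hom ∘
            (IsLocalRing.residue (V.presheaf.stalk (h (genericPoint U)))) := by
        funext a
        exact (congr($(hsq) a)).symm
      rw [this]
      exact hbir.comp h2
    refine ⟨Function.Injective.of_comp hcomp.1, ?_⟩
    intro b
    obtain ⟨a, ha⟩ := hcomp.2 (IsLocalRing.residue _ b)
    exact ⟨a, h1.1 ha⟩
  -- now the argument of `S4808`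
  rw [← MorphismProperty.isomorphisms.iff]
  let ι := {W : V.affineOpens // Nonempty W.1}
  have hsup : ⨆ W : ι, W.1.1 = ⊤ := by
    rw [eq_top_iff]
    intro x _
    obtain ⟨W, hW, hxW, -⟩ := (TopologicalSpace.Opens.isBasis_iff_nbhd.mp V.isBasis_affineOpens)
      (show x ∈ (⊤ : V.Opens) from trivial)
    exact TopologicalSpace.Opens.mem_iSup.mpr ⟨⟨⟨W, hW⟩, ⟨⟨x, hxW⟩⟩⟩, hxW⟩
  rw [IsZariskiLocalAtTarget.iff_of_iSup_eq_top (P := MorphismProperty.isomorphisms Scheme) _ hsup]
  rintro ⟨⟨W, hW⟩, hWne⟩
  change IsIso (h ∣_ W)
  rw [isIso_morphismRestrict_iff_isIso_app h hW, ConcreteCategory.isIso_iff_bijective]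
  have hyW : h (genericPoint U) ∈ W := by
    rw [hgen]
    exact ((genericPoint_spec V).mem_open_set_iff W.isOpen).mpr (by simpa using hWne)
  let _ := (V.presheaf.germ W _ hyW).hom.toAlgebra
  have hfr : IsFractionRing Γ(V, W) (V.presheaf.stalk (h (genericPoint U))) :=
    Groth.Agent.S4808.isFractionRing_stalk hW _ hgen hyW
  have hic : IsIntegrallyClosed Γ(V, W) := Groth.Agent.S4808.isIntegrallyClosed_of_stalks hNic hW
  refine Groth.Agent.S4808.bijective_of_integral_birational
    (K := V.presheaf.stalk (h (genericPoint U)))
    (K' := U.presheaf.stalk (genericPoint U)) (h.app W).hom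
    (U.presheaf.germ (h ⁻¹ᵁ W) (genericPoint U) hyW).hom (h.stalkMap (genericPoint U)).hom
    (germ_injective_of_isIntegral U _ hyW) hstalk ?_ ?_
  · intro a
    have := Scheme.Hom.germ_stalkMap h W (genericPoint U) hyW
    exact congr($(this) a)
  · exact IsIntegralHom.isIntegral_app h W hW

end Groth.Agent.S3568
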