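import Groth.Statements.S3569
import Groth.Agent.Lib.QCAlgAffine
import Groth.Agent.Lib.OpensGlue

set_option autoImplicit false
universe u
open CategoryTheory CategoryTheory.Limits AlgebraicGeometry
open EGA2

namespace Groth.Agent.S3569

open Groth.Agent.Lib Opposite TopologicalSpace

section helpers

/-- A morphism restricted over an affine open of the target is recovered from its map on sections. -/
lemma toSpecΓ_app_fromSpec {Y S : Scheme.{u}} (g : Y ⟶ S) (U : S.Opens) (hU : IsAffineOpen U) :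
    (g ⁻¹ᵁ U).toSpecΓ ≫ Spec.map (g.app U) ≫ hU.fromSpec = (g ⁻¹ᵁ U).ι ≫ g := by
  rw [← Category.assoc, Scheme.Opens.toSpecΓ_naturality, Category.assoc, hU.toSpecΓ_fromSpec,
    morphismRestrict_ι]

/-- `T.toSpecΓ ≫ Spec.map a` determines `a`. -/
lemma toSpecΓ_SpecMap_injective {Y : Scheme.{u}} (T : Y.Opens) {R : CommRingCat.{u}}
    (a b : R ⟶ Γ(Y, T)) (h : T.toSpecΓ ≫ Spec.map a = T.toSpecΓ ≫ Spec.map b) : a = b := by
  have key : ∀ c : R ⟶ Γ(Y, T), (T.toSpecΓ ≫ Spec.map c).appTop =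
      (Scheme.ΓSpecIso R).hom ≫ c ≫ T.topIso.inv := by
    intro c
    rw [Scheme.Hom.comp_appTop, Scheme.Opens.toSpecΓ_appTop, ← Category.assoc,
      Scheme.ΓSpecIso_naturality, Category.assoc]
  have h2 := congrArg Scheme.Hom.appTop h
  rw [key, key] at h2
  rw [← cancel_epi (Scheme.ΓSpecIso R).hom, ← cancel_mono T.topIso.inv]
  simpa using h2

variable {X Y S : Scheme.{u}} (f : X ⟶ S) [IsAffineHom f] (g : Y ⟶ S)

/-- The component of an algebra map over `U`. -/
def comp (ω : AffAlg.alg f ⟶ AffAlg.alg g) (U : S.Opens) : Γ(X, f ⁻¹ᵁ U) ⟶ Γ(Y, g ⁻¹ᵁ U) :=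
  ω.app (op U)

omit [IsAffineHom f] in
lemma comp_natural (ω : AffAlg.alg f ⟶ AffAlg.alg g) {U V : S.Opens} (h : V ≤ U) :
    X.presheaf.map (homOfLE (f.preimage_mono h)).op ≫ comp f g ω V =
      comp f g ω U ≫ Y.presheaf.map (homOfLE (g.preimage_mono h)).op :=
  ω.naturality (homOfLE h).op

/-- The local piece of the morphism attached to an algebra map. -/
noncomputable def loc (ω : AffAlg.alg f ⟶ AffAlg.alg g) (U : S.Opens) (hU : IsAffineOpen U) :
    ((g ⁻¹ᵁ U : Y.Opens) : Scheme.{u}) ⟶ X :=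
  (g ⁻¹ᵁ U).toSpecΓ ≫ Spec.map (comp f g ω U) ≫ (hU.preimage f).fromSpec

lemma loc_res (ω : AffAlg.alg f ⟶ AffAlg.alg g) (U V : S.Opens) (hU : IsAffineOpen U)
    (hV : IsAffineOpen V) (h : V ≤ U) :
    Y.homOfLE (g.preimage_mono h) ≫ loc f g ω U hU = loc f g ω V hV := by
  unfold loc
  rw [← Scheme.Opens.toSpecΓ_SpecMap_presheaf_map_assoc _ _ (g.preimage_mono h),
    ← Spec.map_comp_assoc, ← comp_natural f g ω h, Spec.map_comp_assoc,
    (hU.preimage f).map_fromSpec (hV.preimage f)]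

omit [IsAffineHom f] in
lemma comp_algHom (h : Y ⟶ X) (U : S.Opens) :
    comp f (h ≫ f) (AffAlg.algHom f (h ≫ f) h rfl) U = h.app (f ⁻¹ᵁ U) := by
  unfold comp AffAlg.algHom
  simp
  rfl

/-- Every morphism over `S` is recovered from its algebra map. -/
lemma ι_comp_eq_loc (h : Y ⟶ X) (w : h ≫ f = g) (U : S.Opens) (hU : IsAffineOpen U) :
    (g ⁻¹ᵁ U).ι ≫ h = loc f g (AffAlg.algHom f g h w) U hU := by
  subst w
  unfold loc
  rw [comp_algHom]
  exact (toSpecΓ_app_fromSpec h (f ⁻¹ᵁ U) (hU.preimage f)).symm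

lemma loc_injective (ω ω' : AffAlg.alg f ⟶ AffAlg.alg g) (U : S.Opens) (hU : IsAffineOpen U)
    (h : loc f g ω U hU = loc f g ω' U hU) : ω.app (op U) = ω'.app (op U) := by
  unfold loc at h
  rw [← Category.assoc, ← Category.assoc, cancel_mono] at h
  exact toSpecΓ_SpecMap_injective _ _ _ h

end helpers

/-- Let f : X → S be an affine morphism and g : Y → S any morphism. Then h ↦ A(h) = f_*(h^♯) is a
bijection from the set of S-morphisms Y → X onto the set of O_S-algebra homomorphisms f_*O_X →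
g_*O_Y (morphisms of sheaves of rings compatible with the structure maps from O_S). -/
theorem result {X Y S : Scheme.{u}} (f : X ⟶ S) [IsAffineHom f] (g : Y ⟶ S) :
    Function.Bijective (AffAlg.algOf f g) := by
  have hcov : ⨆ U : S.affineOpens, g ⁻¹ᵁ (U : S.Opens) = ⊤ := by
    rw [← Scheme.Hom.preimage_iSup, iSup_affineOpens_eq_top, Scheme.Hom.preimage_top]
  have hA : ∀ U : S.affineOpens, IsAffineOpen (U : S.Opens) := fun U => U.2
  constructor
  · rintro ⟨h₁, w₁⟩ ⟨h₂, w₂⟩ e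
    have e' : AffAlg.algHom f g h₁ w₁ = AffAlg.algHom f g h₂ w₂ := congrArg Subtype.val e
    apply Subtype.ext
    change h₁ = h₂
    refine OpensGlue.hom_ext_of_iSup_eq_top (fun U : S.affineOpens => g ⁻¹ᵁ (U : S.Opens)) hcov _ _
      fun U => ?_
    rw [ι_comp_eq_loc f g h₁ w₁ U.1 (hA U), ι_comp_eq_loc f g h₂ w₂ U.1 (hA U), e']
  · rintro ⟨ω, hω⟩
    obtain ⟨h, hh, -⟩ := OpensGlue.existsUnique_glue
      (fun U : S.affineOpens => g ⁻¹ᵁ (U : S.Opens)) hcov (fun U => loc f g ω U.1 (hA U)) (by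
        intro U₁ U₂ y hy₁ hy₂
        obtain ⟨_, ⟨W, hW, rfl⟩, hyW, hWle⟩ := S.isBasis_affineOpens.exists_subset_of_mem_open
          (show g.base y ∈ ((U₁.1 ⊓ U₂.1 : S.Opens) : Set S) from ⟨hy₁, hy₂⟩)
          (U₁.1 ⊓ U₂.1 : S.Opens).2
        have h1 : W ≤ U₁.1 := fun x hx => (hWle hx).1
        have h2 : W ≤ U₂.1 := fun x hx => (hWle hx).2
        refine ⟨g ⁻¹ᵁ W, g.preimage_mono h1, g.preimage_mono h2, hyW, ?_⟩
        rw [loc_res f g ω U₁.1 W (hA U₁) hW h1, loc_res f g ω U₂.1 W (hA U₂) hW h2])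
    have w : h ≫ f = g := by
      refine OpensGlue.hom_ext_of_iSup_eq_top (fun U : S.affineOpens => g ⁻¹ᵁ (U : S.Opens)) hcov
        _ _ fun U => ?_
      rw [reassoc_of% (hh U)]
      unfold loc
      have e1 : ((hA U).preimage f).fromSpec ≫ f = Spec.map (f.app U.1) ≫ (hA U).fromSpec := by
        rw [Scheme.Hom.app_eq_appLE]
        exact ((hA U).SpecMap_appLE_fromSpec f ((hA U).preimage f) le_rfl).symm
      have e2 : f.app U.1 ≫ comp f g ω U.1 = g.app U.1 := NatTrans.congr_app hω (op U.1)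
      simp only [Category.assoc]
      rw [e1, ← Spec.map_comp_assoc, e2]
      exact toSpecΓ_app_fromSpec g U.1 (hA U)
    refine ⟨⟨h, w⟩, Subtype.ext ?_⟩
    change AffAlg.algHom f g h w = ω
    refine QCAlgAffine.presheaf_hom_ext_affine
      (TopCat.Sheaf.pushforward_sheaf_of_sheaf _ Y.sheaf.property) _ _ fun U hU => ?_
    apply loc_injective f g _ _ U hU
    rw [← ι_comp_eq_loc f g h w U hU]
    exact hh ⟨U, hU⟩

end Groth.Agent.S3569
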