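import Groth.Statements.S3570
import Mathlib.AlgebraicGeometry.Morphisms.IsIso

set_option autoImplicit false
universe u
open CategoryTheory CategoryTheory.Limits AlgebraicGeometry
open EGA2

namespace Groth.Agent.S3570

/-- Let f : X → S and g : Y → S be affine morphisms and h : Y → X an S-morphism. Then h is an
isomorphism if and only if A(h) : f_*O_X → g_*O_Y is an isomorphism (of presheaves of rings on S). -/
theorem result {X Y S : Scheme.{u}} (f : X ⟶ S) [IsAffineHom f] (g : Y ⟶ S)
    [IsAffineHom g] (h : Y ⟶ X) (w : h ≫ f = g) :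
    IsIso h ↔ IsIso (AffAlg.algHom f g h w) := by
  subst w
  have key : IsIso (AffAlg.algHom f (h ≫ f) h rfl) ↔
      IsIso ((TopCat.Presheaf.pushforward CommRingCat.{u} f.base).map h.c) := by
    unfold AffAlg.algHom
    exact isIso_comp_right_iff _ _
  rw [key]
  constructor
  · intro _
    have : IsIso h.c := PresheafedSpace.c_isIso_of_iso h.toPshHom
    infer_instance
  · intro hiso
    have happ : ∀ V : S.Opens, IsIso (h.app (f ⁻¹ᵁ V)) := by
      intro V
      have := NatIso.isIso_app_of_isIso
        ((TopCat.Presheaf.pushforward CommRingCat.{u} f.base).map h.c) (Opposite.op V)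
      exact this
    change MorphismProperty.isomorphisms Scheme h
    refine HasAffineProperty.of_iSup_eq_top (P := MorphismProperty.isomorphisms Scheme)
      (fun i : S.affineOpens ↦ ⟨f ⁻¹ᵁ i.1, i.2.preimage f⟩) ?_ (fun i ↦ ⟨?_, ?_⟩)
    · rw [← Scheme.Hom.preimage_iSup, iSup_affineOpens_eq_top]
      rfl
    · have : IsAffineOpen (h ⁻¹ᵁ f ⁻¹ᵁ i.1) := i.2.preimage (h ≫ f)
      exact this
    · simp only [TopologicalSpace.Opens.map_top, morphismRestrict_app]
      have := happ i.1
      refine IsIso.comp_isIso' ?_ (Functor.map_isIso _ _)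
      convert this using 0
      exact congr(IsIso (h.app $(by simp)))

end Groth.Agent.S3570
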