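import Groth.Statements.S3571
import Groth.Agent.S8255
import Groth.Agent.Lib.AssPush

set_option autoImplicit false
universe u
open CategoryTheory AlgebraicGeometry TopologicalSpace
open EGA2
open Opposite

namespace Groth.Agent.S3571

open Groth.Agent.Lib.QCohStalk Groth.Agent.Lib.AssPush

variable {S : Scheme.{u}}
    (B : Sheaf (Opens.grothendieckTopology S) CommRingCat.{u}) (φ : S.sheaf ⟶ B)

/-- The module. -/
noncomputable abbrev modOf : S.Modules :=
  (SheafOfModules.restrictScalars
      ((sheafCompose (Opens.grothendieckTopology S) (forget₂ CommRingCat.{u} RingCat.{u})).map φ)).obj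
      (SheafOfModules.unit ((sheafCompose (Opens.grothendieckTopology S) (forget₂ CommRingCat.{u} RingCat.{u})).obj B))

lemma smul_def (U : S.Opens) (r : Γ(S, U)) (x : B.obj.obj (op U)) :
    (r • (show Γ(modOf B φ, U) from x) : Γ(modOf B φ, U)) = (φ.hom.app (op U) r * x : B.obj.obj (op U)) := rfl

lemma res_def {U V : S.Opens} (h : V ≤ U) (x : B.obj.obj (op U)) :
    res (modOf B φ) h (show Γ(modOf B φ, U) from x) = (B.obj.map (homOfLE h).op x : B.obj.obj (op V)) := rfl

theorem isQC (hB : (modOf B φ).IsQuasicoherent) : RelSpec.IsQC B.obj φ.hom := by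
  intro U hU r
  letI := (B.obj.map (homOfLE (S.basicOpen_le r)).op).hom.toAlgebra
  have hloc : IsLocalizingOn (modOf B φ) U := isLocalizingOn_of_isQuasicoherent (modOf B φ) hU
  let ρ : B.obj.obj (op U) →+* B.obj.obj (op (S.basicOpen r)) :=
    (B.obj.map (homOfLE (S.basicOpen_le r)).op).hom
  let φU : Γ(S, U) →+* B.obj.obj (op U) := (φ.hom.app (op U)).hom
  let φD : Γ(S, S.basicOpen r) →+* B.obj.obj (op (S.basicOpen r)) :=
    (φ.hom.app (op (S.basicOpen r))).hom
  let σ : Γ(S, U) →+* Γ(S, S.basicOpen r) := (S.presheaf.map (homOfLE (S.basicOpen_le r)).op).hom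
  have hnat : ∀ a : Γ(S, U), ρ (φU a) = φD (σ a) := by
    intro a
    have := congrArg (fun f => f.hom a) (φ.hom.naturality (homOfLE (S.basicOpen_le r)).op)
    exact this.symm
  refine IsLocalization.Away.mk _ ?_ ?_ ?_
  · change IsUnit (ρ (φU r))
    rw [hnat]
    exact (RingedSpace.isUnit_res_basicOpen S.toRingedSpace r).map φD
  · intro t
    obtain ⟨n, s, hs⟩ := hloc.surj r (show Γ(modOf B φ, S.basicOpen r) from t)
    refine ⟨n, s, ?_⟩
    change t * (ρ (φU r)) ^ n = ρ s
    have hs' : φD ((σ r) ^ n) * t = ρ s := hs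
    rw [hnat, mul_comm, ← RingHom.map_pow]
    exact hs'
  · intro a b hab
    have hab' : ρ a = ρ b := hab
    obtain ⟨n, hn⟩ := hloc.inj r (show Γ(modOf B φ, U) from a - b) (by
      change ρ (a - b) = 0
      rw [RingHom.map_sub, hab', sub_self])
    refine ⟨n, ?_⟩
    have hn' : φU (r ^ n) * (a - b) = 0 := hn
    rw [RingHom.map_pow, mul_sub, sub_eq_zero] at hn'
    exact hn'



/-- Let S be a scheme and B a sheaf of commutative rings on S with a morphism O_S → B making B a
quasi-coherent O_S-module (a quasi-coherent O_S-algebra). Then there are a scheme X and an affine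
morphism f : X → S together with an isomorphism of sheaves of rings B ≅ f_*O_X compatible with the
two structure maps from O_S (X is the relative spectrum of B; it is in fact unique up to unique
S-isomorphism, but only existence is asserted here). -/
theorem result {S : Scheme.{u}}
    (B : Sheaf (Opens.grothendieckTopology S) CommRingCat.{u}) (φ : S.sheaf ⟶ B)
    (hB : Coh.IsQCoh ((SheafOfModules.restrictScalars
      ((sheafCompose (Opens.grothendieckTopology S) (forget₂ CommRingCat.{u} RingCat.{u})).map φ)).obj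
      (SheafOfModules.unit ((sheafCompose (Opens.grothendieckTopology S) (forget₂ CommRingCat.{u} RingCat.{u})).obj B)))) :
    ∃ (X : Scheme.{u}) (f : X ⟶ S) (_ : IsAffineHom f)
      (e : B ≅ (TopCat.Sheaf.pushforward CommRingCat.{u} f.base).obj X.sheaf),
      (φ ≫ e.hom).hom = f.c := by
  let A : RelSpec.QCAlg S :=
    { presheaf := B.obj
      isSheaf := B.property
      str := φ.hom
      isQC := isQC B φ hB }
  obtain ⟨g, hg1, hg2⟩ := (Groth.Agent.S8255.result A).out
  refine ⟨A.spec, A.π, inferInstance, ⟨⟨g⟩, ⟨A.gammaMap⟩, ?_, ?_⟩, ?_⟩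
  · ext1
    exact hg2
  · ext1
    exact hg1
  · change φ.hom ≫ g = A.π.c
    have h := A.π_c_gammaMap
    change A.π.c ≫ A.gammaMap = φ.hom at h
    rw [← h]
    exact (Category.assoc _ _ _).trans ((congrArg (fun t => A.π.c ≫ t) hg1).trans
      (Category.comp_id _))

end Groth.Agent.S3571
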