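import Groth.Statements.S3576
import Groth.Agent.S3575
import Mathlib.AlgebraicGeometry.Morphisms.FiniteType
import Mathlib.RingTheory.TensorProduct.MonoidAlgebra

set_option autoImplicit false
universe u
open AlgebraicGeometry CategoryTheory Limits

namespace Groth.Agent.S3576

open HomogeneousLocalization LaurentPolynomial

section Alg

variable {R A : Type u} [CommRing R] [CommRing A] [Algebra R A] (𝒜 : ℕ → Submodule R A)
  [GradedAlgebra 𝒜] {g : A} (hg : g ∈ 𝒜 1)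

/-- `a / g ^ i` for `a` of degree `i`. -/
noncomputable def mk1 (i : ℕ) (a : A) (ha : a ∈ 𝒜 i) : Away 𝒜 g :=
  Away.mk 𝒜 hg i a (by rwa [smul_eq_mul, mul_one])

lemma val_mk1 (i : ℕ) (a : A) (ha : a ∈ 𝒜 i) :
    (mk1 𝒜 hg i a ha).val =
      Localization.mk a (⟨g ^ i, i, rfl⟩ : Submonoid.powers g) :=
  rfl

lemma mk1_add (i : ℕ) (a b : A) (ha : a ∈ 𝒜 i) (hb : b ∈ 𝒜 i) :
    mk1 𝒜 hg i (a + b) (add_mem ha hb) = mk1 𝒜 hg i a ha + mk1 𝒜 hg i b hb := by
  apply val_injective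
  rw [val_add, val_mk1, val_mk1, val_mk1, Localization.add_mk_self]

lemma mk1_mul (i j : ℕ) (a b : A) (ha : a ∈ 𝒜 i) (hb : b ∈ 𝒜 j) :
    mk1 𝒜 hg (i + j) (a * b) (SetLike.GradedMul.mul_mem ha hb) =
      mk1 𝒜 hg i a ha * mk1 𝒜 hg j b hb := by
  apply val_injective
  rw [val_mul, val_mk1, val_mk1, val_mk1, Localization.mk_mul]
  congr 1
  ext
  exact pow_add g i j

lemma mk1_one : mk1 𝒜 hg 0 1 SetLike.GradedOne.one_mem = 1 := by
  apply val_injective
  rw [val_mk1, val_one, ← Localization.mk_one]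
  congr 1
  exact Subtype.ext (pow_zero g)

lemma mk1_self : mk1 𝒜 hg 1 g hg = 1 := by
  apply val_injective
  rw [val_mk1, val_one]
  convert Localization.mk_self (⟨g ^ 1, 1, rfl⟩ : Submonoid.powers g)
  exact (pow_one g).symm

/-- the degree-`i` component map. -/
noncomputable def comp (i : ℕ) : 𝒜 i →+ (Away 𝒜 g)[T;T⁻¹] where
  toFun a := C (mk1 𝒜 hg i a.1 a.2) * T i
  map_zero' := by
    have : mk1 𝒜 hg i 0 (zero_mem _) = 0 := by
      apply val_injective
      rw [val_mk1, val_zero, Localization.mk_zero]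
    change C (mk1 𝒜 hg i 0 _) * T i = 0
    rw [this, map_zero, zero_mul]
  map_add' a b := by
    change C (mk1 𝒜 hg i (a.1 + b.1) _) * T i = _
    rw [mk1_add 𝒜 hg i a.1 b.1 a.2 b.2, map_add, add_mul]

/-- The ring hom `A → A_(g)[T;T⁻¹]`, `a ↦ ∑ (a_i / g^i) T^i`. -/
noncomputable def psi : A →+* (Away 𝒜 g)[T;T⁻¹] :=
  (DirectSum.toSemiring (comp 𝒜 hg)
    (by
      change C (mk1 𝒜 hg 0 1 _) * T ((0 : ℕ) : ℤ) = 1
      rw [mk1_one, map_one, one_mul]
      exact T_zero)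
    (by
      intro i j ai aj
      change C (mk1 𝒜 hg (i + j) (ai.1 * aj.1) _) * T ((i + j : ℕ) : ℤ) =
        (C (mk1 𝒜 hg i ai.1 ai.2) * T i) * (C (mk1 𝒜 hg j aj.1 aj.2) * T j)
      rw [mk1_mul 𝒜 hg i j ai.1 aj.1 ai.2 aj.2, map_mul, Nat.cast_add, T_add]
      ring)).comp (DirectSum.decomposeRingEquiv 𝒜).toRingHom

lemma psi_of_mem (i : ℕ) (a : A) (ha : a ∈ 𝒜 i) :
    psi 𝒜 hg a = C (mk1 𝒜 hg i a ha) * T i := by
  unfold psi
  rw [RingHom.comp_apply]
  change DirectSum.toSemiring _ _ _ (DirectSum.decompose 𝒜 a) = _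
  rw [DirectSum.decompose_of_mem 𝒜 ha, DirectSum.toSemiring_of]
  rfl

lemma psi_g : psi 𝒜 hg g = T 1 := by
  rw [psi_of_mem 𝒜 hg 1 g hg, mk1_self, map_one, one_mul]
  rfl

/-- `g` as a unit of `A_g`. -/
noncomputable def gUnit : (Localization.Away g)ˣ :=
  (IsLocalization.Away.algebraMap_isUnit (S := Localization.Away g) g).unit

omit [GradedAlgebra 𝒜] in
lemma gUnit_val : ((gUnit (g := g)) : Localization.Away g) = algebraMap A _ g := rfl

/-- `A_(g)[T;T⁻¹] → A_g`. -/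
noncomputable def Phi : (Away 𝒜 g)[T;T⁻¹] →+* Localization.Away g :=
  LaurentPolynomial.eval₂ (algebraMap (Away 𝒜 g) (Localization.Away g)) gUnit

/-- `A_g → A_(g)[T;T⁻¹]`. -/
noncomputable def Psi : Localization.Away g →+* (Away 𝒜 g)[T;T⁻¹] :=
  Localization.awayLift (psi 𝒜 hg) g (by rw [psi_g]; exact isUnit_T 1)

lemma Psi_algebraMap (a : A) : Psi 𝒜 hg (algebraMap A _ a) = psi 𝒜 hg a :=
  IsLocalization.lift_eq _ _

lemma Phi_C (a : Away 𝒜 g) : Phi 𝒜 (C a) = algebraMap _ _ a := eval₂_C _ _ _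

lemma Phi_T_one : Phi 𝒜 (T 1 : (Away 𝒜 g)[T;T⁻¹]) = algebraMap A _ g := by
  have := eval₂_T_n (algebraMap (Away 𝒜 g) (Localization.Away g)) (gUnit (g := g)) 1
  rw [pow_one] at this
  exact this

lemma Phi_T_nat (n : ℕ) : Phi 𝒜 (T n : (Away 𝒜 g)[T;T⁻¹]) = algebraMap A _ (g ^ n) := by
  have := eval₂_T_n (algebraMap (Away 𝒜 g) (Localization.Away g)) (gUnit (g := g)) n
  rw [map_pow]
  exact this

lemma Psi_algebraMap_away (a : Away 𝒜 g) :
    Psi 𝒜 hg (algebraMap (Away 𝒜 g) (Localization.Away g) a) = C a := by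
  obtain ⟨n, b, hb, rfl⟩ := Away.mk_surjective 𝒜 hg a
  have hb' : b ∈ 𝒜 n := by rwa [smul_eq_mul, mul_one] at hb
  rw [HomogeneousLocalization.algebraMap_apply, Away.val_mk, Localization.mk_eq_mk'_apply]
  unfold Psi Localization.awayLift IsLocalization.Away.lift
  rw [IsLocalization.lift_mk'_spec]
  change psi 𝒜 hg b = psi 𝒜 hg (g ^ n) * _
  rw [map_pow, psi_g, psi_of_mem 𝒜 hg n b hb', T_pow, mul_one, mul_comm]
  rfl

lemma Psi_comp_Phi : (Psi 𝒜 hg).comp (Phi 𝒜) = RingHom.id _ := by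
  apply IsLocalization.ringHom_ext (Submonoid.powers (Polynomial.X : Polynomial (Away 𝒜 g)))
  apply Polynomial.ringHom_ext
  · intro a
    simp only [RingHom.comp_apply, algebraMap_eq_toLaurent, Polynomial.toLaurent_C,
      RingHom.id_apply, Phi_C, Psi_algebraMap_away]
  · simp only [RingHom.comp_apply, algebraMap_eq_toLaurent, Polynomial.toLaurent_X,
      RingHom.id_apply, Phi_T_one, Psi_algebraMap, psi_g]

lemma Phi_comp_Psi : (Phi 𝒜).comp (Psi 𝒜 hg) = RingHom.id _ := by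
  apply IsLocalization.ringHom_ext (Submonoid.powers g)
  ext a
  simp only [RingHom.comp_apply, RingHom.id_apply, Psi_algebraMap]
  induction a using DirectSum.Decomposition.inductionOn 𝒜 with
  | zero => simp
  | @homogeneous i m =>
    rw [psi_of_mem 𝒜 hg i m.1 m.2, map_mul, Phi_C, Phi_T_nat,
      HomogeneousLocalization.algebraMap_apply, val_mk1, Localization.mk_eq_mk'_apply]
    exact IsLocalization.mk'_spec _ _ _
  | add m m' hm hm' => rw [map_add, map_add, map_add, hm, hm']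

/-- `A_g ≃ A_(g)[T;T⁻¹]` for `g` of degree one. -/
noncomputable def laurentEquiv : Localization.Away g ≃+* (Away 𝒜 g)[T;T⁻¹] :=
  RingEquiv.ofRingHom (Psi 𝒜 hg) (Phi 𝒜) (Psi_comp_Phi 𝒜 hg) (Phi_comp_Psi 𝒜 hg)

lemma laurentEquiv_comp :
    (laurentEquiv 𝒜 hg).toRingHom.comp (algebraMap (Away 𝒜 g) (Localization.Away g)) =
      (C : Away 𝒜 g →+* _) := by
  ext a : 1
  exact Psi_algebraMap_away 𝒜 hg a

include hg in
lemma finiteType_algebraMap :
    (algebraMap (Away 𝒜 g) (Localization.Away g)).FiniteType := by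
  have h1 : (C : Away 𝒜 g →+* (Away 𝒜 g)[T;T⁻¹]).FiniteType := by
    have : Algebra.FiniteType (Away 𝒜 g) (Away 𝒜 g)[T;T⁻¹] := inferInstance
    exact RingHom.finiteType_algebraMap.mpr this
  have h2 := h1.comp_surjective (g := (laurentEquiv 𝒜 hg).symm.toRingHom)
    (laurentEquiv 𝒜 hg).symm.surjective
  convert h2 using 1
  ext a : 1
  change _ = (laurentEquiv 𝒜 hg).symm (C a)
  rw [RingEquiv.eq_symm_apply]
  exact Psi_algebraMap_away 𝒜 hg a

end Alg

section PO

open scoped AlgebraMonoidAlgebra in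
lemma isPushout_laurent (R S : Type u) [CommRing R] [CommRing S] (ρ : R →+* S) :
    IsPushout (CommRingCat.ofHom ρ) (CommRingCat.ofHom (C : R →+* R[T;T⁻¹]))
      (CommRingCat.ofHom (C : S →+* S[T;T⁻¹]))
      (CommRingCat.ofHom (AddMonoidAlgebra.mapRingHom ℤ ρ : R[T;T⁻¹] →+* S[T;T⁻¹])) := by
  algebraize [ρ]
  exact CommRingCat.isPushout_of_isPushout R S (R[T;T⁻¹]) (S[T;T⁻¹])

variable {R A : Type u} [CommRing R] [CommRing A] [Algebra R A] (𝒜 : ℕ → Submodule R A)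
  [GradedAlgebra 𝒜] {g : A} (hg : g ∈ 𝒜 1)

/-- The pushout square `A_(g) → A_g`, `A_(g) → K`, for `g` of degree one. -/
lemma isPushout_away {K : Type u} [CommRing K] (ρ : Away 𝒜 g →+* K) :
    IsPushout (CommRingCat.ofHom (algebraMap (Away 𝒜 g) (Localization.Away g)))
      (CommRingCat.ofHom ρ)
      (CommRingCat.ofHom ((AddMonoidAlgebra.mapRingHom ℤ ρ).comp (laurentEquiv 𝒜 hg).toRingHom))
      (CommRingCat.ofHom (C : K →+* K[T;T⁻¹])) := by
  refine (isPushout_laurent (Away 𝒜 g) K ρ).flip.of_iso (Iso.refl _)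
    (laurentEquiv 𝒜 hg).symm.toCommRingCatIso (Iso.refl _) (Iso.refl _) ?_ ?_ ?_ ?_
  · ext a
    change (laurentEquiv 𝒜 hg).symm (C a) = algebraMap _ _ a
    rw [RingEquiv.symm_apply_eq]
    exact (Psi_algebraMap_away 𝒜 hg a).symm
  · simp
  · refine CommRingCat.hom_ext (RingHom.ext fun a => ?_)
    change AddMonoidAlgebra.mapRingHom ℤ ρ a =
      AddMonoidAlgebra.mapRingHom ℤ ρ ((laurentEquiv 𝒜 hg) ((laurentEquiv 𝒜 hg).symm a))
    rw [RingEquiv.apply_symm_apply]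
  · simp

end PO

section Geom

open Groth.Agent.S3574

variable {R A : Type u} [CommRing R] [CommRing A] [Algebra R A] {𝒜 : ℕ → Submodule R A}
  [GradedAlgebra 𝒜]

lemma opensRange_chart {d : ℕ} {f : A} (hf : f ∈ 𝒜 d) (hd : 0 < d) :
    (Cone.chart hf hd).opensRange = (Cone.pointed 𝒜).ι ⁻¹ᵁ Cone.coneOpen f := by
  have hrange : Cone.coneOpen f = (Spec.map (CommRingCat.ofHom
      (algebraMap A (Localization.Away f)))).opensRange := by
    apply TopologicalSpace.Opens.ext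
    exact (PrimeSpectrum.localization_away_comap_range (Localization.Away f) _).symm
  rw [hrange]
  ext z
  constructor
  · rintro ⟨y, rfl⟩
    refine ⟨y, ?_⟩
    rw [← chart_ι hf hd]
    rfl
  · rintro ⟨y, hy⟩
    refine ⟨y, ?_⟩
    apply (Cone.pointed 𝒜).ι.isOpenEmbedding.injective
    rw [← hy, ← chart_ι hf hd]
    rfl

variable (π : (Cone.pointed 𝒜 : Scheme.{u}) ⟶ Proj 𝒜)
  (hπ : ∀ (d : ℕ) (f : A) (hd : 0 < d) (hf : f ∈ 𝒜 d),
    Cone.chart hf hd ≫ π =
      Spec.map (CommRingCat.ofHom (algebraMap (HomogeneousLocalization.Away 𝒜 f) (Localization.Away f))) ≫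
        Proj.awayι 𝒜 f hf hd)

include hπ in
/-- The chart square of the retraction is cartesian. -/
lemma isPullback_chart {d : ℕ} {f : A} (hf : f ∈ 𝒜 d) (hd : 0 < d) :
    IsPullback (Spec.map (CommRingCat.ofHom
        (algebraMap (HomogeneousLocalization.Away 𝒜 f) (Localization.Away f))))
      (Cone.chart hf hd) (Proj.awayι 𝒜 f hf hd) π :=
  IsOpenImmersion.isPullback _ _ _ _ (hπ d f hd hf)
    (by rw [Proj.opensRange_awayι, (Groth.Agent.S3575.result 𝒜 π hπ).2.2.1 d f hd hf,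
      opensRange_chart])

variable (𝒜) in
/-- The cover of `Proj 𝒜` by `D₊(g)`, `g` of degree one. -/
noncomputable def cover1
    (hgen : (HomogeneousIdeal.irrelevant 𝒜).toIdeal = Ideal.span (𝒜 1 : Set A)) :
    (Proj 𝒜).AffineOpenCover :=
  Proj.affineOpenCoverOfIrrelevantLESpan 𝒜 (ι := 𝒜 1) (fun g ↦ g.1) (m := fun _ ↦ 1)
    (fun g ↦ g.2) (fun _ ↦ Nat.one_pos) (by
      rw [hgen]
      exact Ideal.span_mono fun a ha ↦ ⟨⟨a, ha⟩, rfl⟩)

end Geom

theorem result {R A : Type u} [CommRing R] [CommRing A] [Algebra R A] (𝒜 : ℕ → Submodule R A) [GradedAlgebra 𝒜]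
    (hgen : (HomogeneousIdeal.irrelevant 𝒜).toIdeal = Ideal.span (𝒜 1 : Set A))
    (π : (Cone.pointed 𝒜 : Scheme.{u}) ⟶ Proj 𝒜)
    (hπ : ∀ (d : ℕ) (f : A) (hd : 0 < d) (hf : f ∈ 𝒜 d),
        Cone.chart hf hd ≫ π =
          Spec.map (CommRingCat.ofHom (algebraMap (HomogeneousLocalization.Away 𝒜 f) (Localization.Away f))) ≫
            Proj.awayι 𝒜 f hf hd)
    (x : Proj 𝒜) :
    LocallyOfFiniteType π ∧ QuasiCompact π ∧
      ∃ e : pullback π ((Proj 𝒜).fromSpecResidueField x) ≅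
          Spec (CommRingCat.of (LaurentPolynomial ((Proj 𝒜).residueField x))),
        e.hom ≫ Spec.map (CommRingCat.ofHom (algebraMap ((Proj 𝒜).residueField x)
          (LaurentPolynomial ((Proj 𝒜).residueField x)))) = pullback.snd π ((Proj 𝒜).fromSpecResidueField x) := by
  have h75 := Groth.Agent.S3575.result 𝒜 π hπ
  refine ⟨?_, ?_, ?_⟩
  · have : IsZariskiLocalAtTarget @LocallyOfFiniteType.{u} :=
      HasRingHomProperty.instIsZariskiLocalAtTarget _
    apply IsZariskiLocalAtTarget.of_openCover (P := @LocallyOfFiniteType)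
      (cover1 𝒜 hgen).openCover
    intro i
    have sq := (isPullback_chart π hπ i.2 Nat.one_pos).flip
    have h1 : LocallyOfFiniteType (Spec.map (CommRingCat.ofHom
        (algebraMap (Away 𝒜 i.1) (Localization.Away i.1)))) := by
      rw [HasRingHomProperty.Spec_iff (P := @LocallyOfFiniteType)]
      exact finiteType_algebraMap 𝒜 i.2
    have h2 : sq.isoPullback.inv ≫ _ = pullback.snd _ _ := sq.isoPullback_inv_snd
    change LocallyOfFiniteType (pullback.snd π (Proj.awayι 𝒜 i.1 i.2 Nat.one_pos))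
    rw [← h2]
    infer_instance
  · have : IsAffineHom π := h75.1
    infer_instance
  · have hx := (cover1 𝒜 hgen).covers x
    set g := (cover1 𝒜 hgen).idx x with hgdef
    have hx' : x ∈ Set.range (Proj.awayι 𝒜 g.1 g.2 Nat.one_pos).base := hx
    let l : Spec ((Proj 𝒜).residueField x) ⟶ Spec (.of (Away 𝒜 g.1)) :=
      IsOpenImmersion.lift (Proj.awayι 𝒜 g.1 g.2 Nat.one_pos)
        ((Proj 𝒜).fromSpecResidueField x)
        (by rw [Scheme.range_fromSpecResidueField]; simpa using hx')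
    have hl : l ≫ Proj.awayι 𝒜 g.1 g.2 Nat.one_pos = (Proj 𝒜).fromSpecResidueField x :=
      IsOpenImmersion.lift_fac _ _ _
    let ρ : Away 𝒜 g.1 →+* ((Proj 𝒜).residueField x) := (Spec.preimage l).hom
    have hρ : Spec.map (CommRingCat.ofHom ρ) = l := Spec.map_preimage l
    have po := isPushout_away 𝒜 g.2 ρ
    have pb1 := isPullback_SpecMap_of_isPushout _ _ _ _ po
    have pb2 := (isPullback_chart π hπ g.2 Nat.one_pos).flip
    have pb := pb1.paste_horiz pb2
    rw [hρ, hl] at pb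
    exact ⟨pb.isoPullback.symm, pb.isoPullback_inv_snd⟩

end Groth.Agent.S3576
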