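import Groth.Statements.S3578

set_option autoImplicit false
universe u
open EGA2

namespace Groth.Agent.S3578

theorem result {R A : Type u} [CommRing R] [CommRing A] [Algebra R A] (𝒜 : ℕ → Submodule R A) [GradedAlgebra 𝒜]
    (Z : Set (ProjectiveSpectrum 𝒜)) (hZ : IsClosed Z) :
    IsIrreducible Z ↔
      (¬ (HomogeneousIdeal.irrelevant 𝒜).toIdeal ≤ (ProjectiveSpectrum.vanishingIdeal Z).toIdeal ∧
        ∀ f ∈ (HomogeneousIdeal.irrelevant 𝒜).toIdeal, ∀ g ∈ (HomogeneousIdeal.irrelevant 𝒜).toIdeal,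
          f * g ∈ (ProjectiveSpectrum.vanishingIdeal Z).toIdeal →
            f ∈ (ProjectiveSpectrum.vanishingIdeal Z).toIdeal ∨ g ∈ (ProjectiveSpectrum.vanishingIdeal Z).toIdeal) := by
  have hmemI : ∀ a : A, a ∈ (ProjectiveSpectrum.vanishingIdeal Z).toIdeal ↔
      ∀ x ∈ Z, a ∈ x.asHomogeneousIdeal.toIdeal := by
    intro a
    rw [HomogeneousIdeal.mem_iff, ProjectiveSpectrum.mem_vanishingIdeal]
    rfl
  have hexc : ∀ x : ProjectiveSpectrum 𝒜, ∃ c ∈ (HomogeneousIdeal.irrelevant 𝒜).toIdeal,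
      c ∉ x.asHomogeneousIdeal.toIdeal := by
    intro x
    have h := x.not_irrelevant_le
    obtain ⟨c, hc, hcx⟩ := SetLike.not_le_iff_exists.mp h
    exact ⟨c, hc, hcx⟩
  constructor
  · rintro ⟨⟨x, hx⟩, hpre⟩
    refine ⟨?_, ?_⟩
    · intro hle
      obtain ⟨c, hc, hcx⟩ := hexc x
      exact hcx ((hmemI c).mp (hle hc) x hx)
    · intro f _ g _ hfg
      rw [isPreirreducible_iff_isClosed_union_isClosed] at hpre
      have hsub : Z ⊆ ProjectiveSpectrum.zeroLocus 𝒜 {f} ∪ ProjectiveSpectrum.zeroLocus 𝒜 {g} := by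
        intro y hy
        have hy' := (hmemI _).mp hfg y hy
        rcases y.isPrime.mem_or_mem hy' with h | h
        · left
          rw [ProjectiveSpectrum.mem_zeroLocus]
          exact Set.singleton_subset_iff.mpr h
        · right
          rw [ProjectiveSpectrum.mem_zeroLocus]
          exact Set.singleton_subset_iff.mpr h
      rcases hpre _ _ (ProjectiveSpectrum.isClosed_zeroLocus 𝒜 _)
        (ProjectiveSpectrum.isClosed_zeroLocus 𝒜 _) hsub with h | h
      · left
        rw [hmemI]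
        intro y hy
        have := h hy
        rw [ProjectiveSpectrum.mem_zeroLocus] at this
        exact Set.singleton_subset_iff.mp this
      · right
        rw [hmemI]
        intro y hy
        have := h hy
        rw [ProjectiveSpectrum.mem_zeroLocus] at this
        exact Set.singleton_subset_iff.mp this
  · rintro ⟨hne, hprime⟩
    refine ⟨?_, ?_⟩
    · by_contra hempty
      rw [Set.not_nonempty_iff_eq_empty] at hempty
      apply hne
      intro a _
      rw [hmemI]
      intro x hx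
      rw [hempty] at hx
      exact absurd hx (Set.notMem_empty x)
    · rw [isPreirreducible_iff_isClosed_union_isClosed]
      intro Z₁ Z₂ h₁ h₂ hsub
      by_contra hcon
      push Not at hcon
      obtain ⟨hn1, hn2⟩ := hcon
      obtain ⟨x₁, hx₁, hx₁'⟩ := Set.not_subset.mp hn1
      obtain ⟨x₂, hx₂, hx₂'⟩ := Set.not_subset.mp hn2
      obtain ⟨s₁, rfl⟩ := (ProjectiveSpectrum.isClosed_iff_zeroLocus 𝒜 Z₁).mp h₁
      obtain ⟨s₂, rfl⟩ := (ProjectiveSpectrum.isClosed_iff_zeroLocus 𝒜 Z₂).mp h₂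
      rw [ProjectiveSpectrum.mem_zeroLocus, Set.not_subset] at hx₁' hx₂'
      obtain ⟨a, ha, hax⟩ := hx₁'
      obtain ⟨b, hb, hbx⟩ := hx₂'
      obtain ⟨c₁, hc₁, hc₁x⟩ := hexc x₁
      obtain ⟨c₂, hc₂, hc₂x⟩ := hexc x₂
      have ha' : a * c₁ ∉ x₁.asHomogeneousIdeal.toIdeal := fun h ↦
        (x₁.isPrime.mem_or_mem h).elim hax hc₁x
      have hb' : b * c₂ ∉ x₂.asHomogeneousIdeal.toIdeal := fun h ↦
        (x₂.isPrime.mem_or_mem h).elim hbx hc₂x
      have hprod : (a * c₁) * (b * c₂) ∈ (ProjectiveSpectrum.vanishingIdeal Z).toIdeal := by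
        rw [hmemI]
        intro y hy
        rcases hsub hy with h | h
        · rw [ProjectiveSpectrum.mem_zeroLocus] at h
          exact Ideal.mul_mem_right _ _ (Ideal.mul_mem_right _ _ (h ha))
        · rw [ProjectiveSpectrum.mem_zeroLocus] at h
          exact Ideal.mul_mem_left _ _ (Ideal.mul_mem_right _ _ (h hb))
      rcases hprime (a * c₁) (Ideal.mul_mem_left _ _ hc₁) (b * c₂) (Ideal.mul_mem_left _ _ hc₂)
        hprod with h | h
      · exact ha' ((hmemI _).mp h x₁ hx₁)
      · exact hb' ((hmemI _).mp h x₂ hx₂)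

end Groth.Agent.S3578
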