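import Groth.Statements.S3579
import Groth.Agent.Lib.H4SerreGen
import Groth.Agent.Lib.H4TwistAmple
import Groth.Agent.Lib.H4TwistMul
import Groth.Agent.Lib.OXModTensor
-- import your own Groth.Agent.* helpers here

set_option autoImplicit false
universe u
open CategoryTheory CategoryTheory.Limits AlgebraicGeometry
open EGA2

namespace Groth.Agent.S3579

/-- Let S be a graded ring whose irrelevant ideal S_+ is generated by finitely many elements of degree
one, X = Proj S, and let F be an O_X-module that is quasi-coherent and of finite type. Then for some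
n₀ and all n ≥ n₀, the twist F(n) = F ⊗ O_X(n) is a quotient of a finite free module O_X^k (k
depending on n); in particular F(n) is generated by finitely many global sections. -/
theorem result {R A : Type u} [CommRing R] [CommRing A] [Algebra R A] (𝒜 : ℕ → Submodule R A) [GradedAlgebra 𝒜]
    (s : Finset A) (hs1 : ∀ f ∈ s, f ∈ 𝒜 1)
    (hs : (HomogeneousIdeal.irrelevant 𝒜).toIdeal = Ideal.span (s : Set A))
    (F : (Proj 𝒜).Modules) (hF : Coh.IsQCoh F) (hFT : CohB1.IsFT F) :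
    ∃ n₀ : ℕ, ∀ n : ℕ, n₀ ≤ n →
      ∃ (k : ℕ) (p : FlatMod.freeMod (Proj 𝒜) k ⟶ Twist.twistBy 𝒜 F (n : ℤ)), Epi p := by
  classical
  have hgen := Groth.Agent.Lib.H4Twist.irrelevant_eq_span_one 𝒜 s hs1 hs
  have := Groth.Agent.Lib.H4Twist.compactSpace_proj 𝒜 s hs1 hs
  have hL := Groth.Agent.Lib.H4Twist.isAmple_twist_one 𝒜 s hs1 hs
  obtain ⟨n₀, h⟩ := Groth.Agent.Lib.H4SerreGen.exists_finite_epi_twist hL F ⟨hF, hFT⟩
  refine ⟨n₀, fun n hn => ?_⟩
  obtain ⟨K, hK, p, hp⟩ := h n hn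
  obtain ⟨e⟩ := Groth.Agent.Lib.H4Twist.nonempty_twistPowIso 𝒜 hgen n
  let φ : CohB1.tensorMod F (CohB1.tensorPow (Twist.twist 𝒜 1) n) ≅ Twist.twistBy 𝒜 F (n : ℤ) :=
    Groth.Agent.Lib.OXModTensor.tensorModIso (Iso.refl F) e.symm
  let k := Nat.card K
  let ε : Fin k ≃ K := (Finite.equivFin K).symm
  let ψ : FlatMod.freeMod (Proj 𝒜) k ≅ (SheafOfModules.free K : (Proj 𝒜).Modules) :=
    Sigma.reindex ε (fun _ : K => Coh.structureModule (Proj 𝒜))
  refine ⟨k, ψ.hom ≫ p ≫ φ.hom, ?_⟩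
  have : Epi (p ≫ φ.hom) := epi_comp p φ.hom
  exact epi_comp ψ.hom (p ≫ φ.hom)

end Groth.Agent.S3579
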