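import Groth.Statements.S3582
import Mathlib.AlgebraicGeometry.PullbackCarrier

set_option autoImplicit false
universe u
open CategoryTheory CategoryTheory.Limits AlgebraicGeometry
open EGA2

namespace Groth.Agent.S3582

open HomogeneousLocalization CohB1

section Aux

variable (n : ℕ) (R : Type u) [CommRing R]

/-- evaluation at `(1, 0, …, 0)`. -/
noncomputable def ev : MvPolynomial (Fin (n + 1)) R →+* R :=
  (MvPolynomial.aeval (fun i : Fin (n + 1) => if i = 0 then (1 : R) else 0)).toRingHom

lemma ev_X0 : ev n R (MvPolynomial.X 0) = 1 := by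
  simp [ev]

lemma ev_C (r : R) : ev n R (MvPolynomial.C r) = r := by
  simp [ev]

/-- the induced map on the degree-zero localization. -/
noncomputable def evAway :
    Away (polyGrading n R) (MvPolynomial.X 0) →+* R :=
  (Localization.awayLift (ev n R) (MvPolynomial.X 0)
    (by rw [ev_X0]; exact isUnit_one)).comp
    (algebraMap _ (Localization.Away (MvPolynomial.X (0 : Fin (n + 1)) : MvPolynomial (Fin (n + 1)) R)))

lemma evAway_comp :
    (evAway n R).comp ((fromZeroRingHom (polyGrading n R) _).comp
      (algebraMap R (polyGrading n R 0))) = RingHom.id R := by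
  ext r
  simp only [RingHom.comp_apply, RingHom.id_apply]
  unfold evAway
  rw [RingHom.comp_apply, HomogeneousLocalization.algebraMap_apply]
  change Localization.awayLift (ev n R) _ _
    (Localization.mk ((algebraMap R (polyGrading n R 0) r : MvPolynomial (Fin (n + 1)) R)) 1) = r
  rw [Localization.mk_one_eq_algebraMap]
  unfold Localization.awayLift IsLocalization.Away.lift
  rw [IsLocalization.lift_eq]
  exact ev_C n R r

lemma X0_mem : (MvPolynomial.X 0 : MvPolynomial (Fin (n + 1)) R) ∈ polyGrading n R 1 :=
  MvPolynomial.isHomogeneous_X R 0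

/-- a section of the structure morphism. -/
noncomputable def sec' : Spec (CommRingCat.of R) ⟶ Proj (polyGrading n R) :=
  Spec.map (CommRingCat.ofHom (evAway n R)) ≫
    Proj.awayι (polyGrading n R) (MvPolynomial.X 0) (X0_mem n R) Nat.one_pos

lemma sec'_toSpec : sec' n R ≫ (Proj.toSpecZero (polyGrading n R) ≫
    Spec.map (CommRingCat.ofHom (algebraMap R (polyGrading n R 0)))) = 𝟙 _ := by
  unfold sec'
  rw [Category.assoc, Proj.awayι_toSpecZero_assoc, ← Spec.map_comp, ← Spec.map_comp,
    ← CommRingCat.ofHom_comp, ← CommRingCat.ofHom_comp, evAway_comp]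
  exact Spec.map_id _

/-- a section of the structure morphism. -/
noncomputable def sec : Spec (CommRingCat.of R) ⟶ ProjSpace n R := sec' n R

lemma sec_toSpec : sec n R ≫ ProjSpace.toSpec n R = 𝟙 _ := sec'_toSpec n R

lemma surjective_toSpec : Surjective (ProjSpace.toSpec n R) := by
  refine ⟨fun y ↦ ⟨(sec n R).base y, ?_⟩⟩
  rw [← Scheme.Hom.comp_apply, sec_toSpec]
  rfl

end Aux

theorem result (r : ℕ) (Y : Scheme.{u}) :
    Surjective (CohB1.ProjSpaceOver.toBase r Y) := by
  unfold CohB1.ProjSpaceOver.toBase
  exact MorphismProperty.pullback_snd (P := @Surjective) _ _ (surjective_toSpec r _)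

end Groth.Agent.S3582
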