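import Groth.Statements.S3581
import Groth.Agent.S3582

set_option autoImplicit false
universe u
open CategoryTheory CategoryTheory.Limits AlgebraicGeometry
open EGA2

namespace Groth.Agent.S3581

open HomogeneousLocalization CohB1 Groth.Agent.S3582

section Aux

variable (R : Type u) [CommRing R]

lemma homog_eq_monomial (p : MvPolynomial (Fin 1) R) (i : ℕ) (hp : p.IsHomogeneous i) :
    p = MvPolynomial.monomial (Finsupp.single 0 i) (MvPolynomial.coeff (Finsupp.single 0 i) p) := by
  classical
  ext d
  rw [MvPolynomial.coeff_monomial]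
  split_ifs with h
  · rw [h]
  · apply hp.coeff_eq_zero
    intro hdeg
    apply h
    refine Finsupp.ext fun j ↦ ?_
    have hj : j = 0 := Subsingleton.elim _ _
    subst hj
    rw [Finsupp.single_eq_same, ← hdeg, Finsupp.degree_eq_sum]
    simp

lemma basicOpen_X0 :
    Proj.basicOpen (polyGrading 0 R) (MvPolynomial.X 0) = ⊤ := by
  have h := Proj.iSup_basicOpen_eq_top' (polyGrading 0 R)
    (fun i : Fin 1 ↦ (MvPolynomial.X i : MvPolynomial (Fin 1) R))
    (fun i ↦ ⟨1, MvPolynomial.isHomogeneous_X R i⟩)
    (by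
      have : IsScalarTower R (polyGrading 0 R 0) (MvPolynomial (Fin 1) R) :=
        IsScalarTower.of_algebraMap_eq (R := R) (S := polyGrading 0 R 0)
          (A := MvPolynomial (Fin 1) R) fun r ↦ rfl
      have h1 : Algebra.adjoin R (Set.range (MvPolynomial.X : Fin 1 → MvPolynomial (Fin 1) R)) ≤
          (Algebra.adjoin (polyGrading 0 R 0) (Set.range
            (MvPolynomial.X : Fin 1 → MvPolynomial (Fin 1) R))).restrictScalars R :=
        Algebra.adjoin_le Algebra.subset_adjoin
      rw [MvPolynomial.adjoin_range_X] at h1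
      apply top_le_iff.mp
      intro x _
      exact h1 (Algebra.mem_top (R := R)))
  rw [iSup_unique] at h
  exact h

/-- `R → R[X₀]_(X₀)`. -/
noncomputable def psi0 : R →+* Away (polyGrading 0 R) (MvPolynomial.X 0) :=
  (fromZeroRingHom (polyGrading 0 R) _).comp (algebraMap R (polyGrading 0 R 0))

lemma psi0_bijective : Function.Bijective (psi0 R) := by
  constructor
  · intro a b hab
    have := congrArg (evAway 0 R) hab
    have h := evAway_comp 0 R
    change evAway 0 R (psi0 R a) = evAway 0 R (psi0 R b) at this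
    have ha : evAway 0 R (psi0 R a) = a := congrArg (fun f ↦ f a) h
    have hb : evAway 0 R (psi0 R b) = b := congrArg (fun f ↦ f b) h
    rwa [ha, hb] at this
  · intro y
    obtain ⟨n, p, hp, rfl⟩ := Away.mk_surjective (polyGrading 0 R) (X0_mem 0 R) y
    have hp' : p.IsHomogeneous n := by
      have : p ∈ polyGrading 0 R n := by rwa [smul_eq_mul, mul_one] at hp
      exact this
    refine ⟨MvPolynomial.coeff (Finsupp.single 0 n) p, ?_⟩
    apply val_injective
    rw [Away.val_mk]
    change Localization.mk ((algebraMap R (polyGrading 0 R 0)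
      (MvPolynomial.coeff (Finsupp.single 0 n) p) : MvPolynomial (Fin 1) R)) 1 = _
    rw [Localization.mk_eq_mk_iff, Localization.r_iff_exists]
    refine ⟨1, ?_⟩
    simp only [OneMemClass.coe_one, one_mul]
    conv_rhs => rw [homog_eq_monomial R p n hp']
    rw [← MvPolynomial.C_mul_X_pow_eq_monomial]
    change MvPolynomial.X 0 ^ n * MvPolynomial.C (MvPolynomial.coeff (Finsupp.single 0 n) p) = _
    ring

end Aux

theorem result (A : Type u) [CommRing A] :
    IsIso (CohB1.ProjSpace.toSpec 0 A) := by
  have h1 : IsIso (Proj.awayι (polyGrading 0 A) (MvPolynomial.X 0) (X0_mem 0 A) Nat.one_pos) := by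
    apply isIso_of_isOpenImmersion_of_opensRange_eq_top
    rw [Proj.opensRange_awayι, basicOpen_X0]
  have h2 : IsIso (Spec.map (CommRingCat.ofHom (psi0 A))) := by
    have : IsIso (CommRingCat.ofHom (psi0 A)) :=
      (ConcreteCategory.isIso_iff_bijective _).mpr (psi0_bijective A)
    infer_instance
  have h3 : Proj.awayι (polyGrading 0 A) (MvPolynomial.X 0) (X0_mem 0 A) Nat.one_pos ≫
      (Proj.toSpecZero (polyGrading 0 A) ≫
        Spec.map (CommRingCat.ofHom (algebraMap A (polyGrading 0 A 0)))) =
      Spec.map (CommRingCat.ofHom (psi0 A)) := by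
    rw [Proj.awayι_toSpecZero_assoc, ← Spec.map_comp, ← CommRingCat.ofHom_comp]
    rfl
  have h4 : IsIso (Proj.toSpecZero (polyGrading 0 A) ≫
        Spec.map (CommRingCat.ofHom (algebraMap A (polyGrading 0 A 0)))) := by
    rw [← h3] at h2
    exact IsIso.of_isIso_comp_left (Proj.awayι (polyGrading 0 A) (MvPolynomial.X 0)
      (X0_mem 0 A) Nat.one_pos) _
  exact h4

end Groth.Agent.S3581
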