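import Groth.Statements.S3583
import Mathlib.AlgebraicGeometry.Morphisms.ClosedImmersion

set_option autoImplicit false
universe u
open CategoryTheory AlgebraicGeometry Opposite
open EGA2

namespace Groth.Agent.S3583

theorem isIso_map_eqToHom (X : Scheme.{u}) {U V : X.Opens} (e : U = V) :
    IsIso (X.presheaf.map (eqToHom e).op) := by
  subst e
  simp only [eqToHom_refl, op_id, CategoryTheory.Functor.map_id]
  infer_instance

/-- In the form stated after its proof: let f : X → S and f' : X' → S be affine morphisms and h : X' → X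
an S-morphism such that the O_S-algebra homomorphism A(h) : f_*O_X → f'_*O_{X'} is surjective (as a
map of quasi-coherent O_S-modules, i.e. on sections over every affine open of S). Then h is a closed
immersion. -/
theorem result {X X' S : Scheme.{u}} (f : X ⟶ S) [IsAffineHom f]
    (f' : X' ⟶ S) [IsAffineHom f'] (h : X' ⟶ X) (w : h ≫ f = f')
    (hsurj : ∀ U : S.affineOpens, Function.Surjective ((AffAlg.algHom f f' h w).app (op U.1)).hom) :
    IsClosedImmersion h := by
  subst w
  let V : S.affineOpens → X.affineOpens := fun U => ⟨f ⁻¹ᵁ U.1, U.2.preimage f⟩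
  have hV : ⨆ U, (V U : X.Opens) = ⊤ := by
    have h1 : (⨆ U, (V U : X.Opens)) = f ⁻¹ᵁ (⨆ U : S.affineOpens, (U : S.Opens)) := by
      rw [Scheme.Hom.preimage_iSup]
    rw [h1, iSup_affineOpens_eq_top]
    rfl
  rw [HasAffineProperty.iff_of_iSup_eq_top (P := @IsClosedImmersion) V hV]
  intro U
  refine ⟨?_, ?_⟩
  · have : IsAffineOpen ((h ≫ f) ⁻¹ᵁ U.1) := U.2.preimage (h ≫ f)
    exact this
  · rw [morphismRestrict_appTop]
    have e : (V U).1.ι ''ᵁ ⊤ = f ⁻¹ᵁ U.1 := by simp [V]
    rw [Scheme.Hom.app_eq h e]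
    have hs := hsurj U
    have hs' : Function.Surjective (h.app (f ⁻¹ᵁ U.1)).hom := by
      have : (AffAlg.algHom f (h ≫ f) h rfl).app (op U.1) = h.app (f ⁻¹ᵁ U.1) := by
        simp [AffAlg.algHom]
        rfl
      rw [← this]
      exact hs
    have key : ∀ {A B C D E : CommRingCat.{u}} (a : A ⟶ B) (b : B ⟶ C) (c : C ⟶ D) (d : D ⟶ E),
        IsIso a → IsIso c → IsIso d → Function.Surjective b.hom →
        Function.Surjective ⇑(ConcreteCategory.hom ((a ≫ b ≫ c) ≫ d)) := by
      intro A B C D E a b c d _ _ _ hb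
      have ha := (ConcreteCategory.bijective_of_isIso a).2
      have hc := (ConcreteCategory.bijective_of_isIso c).2
      have hd := (ConcreteCategory.bijective_of_isIso d).2
      have : ⇑(ConcreteCategory.hom ((a ≫ b ≫ c) ≫ d)) = ⇑d.hom ∘ ⇑c.hom ∘ ⇑b.hom ∘ ⇑a.hom := by
        ext x; simp
      rw [this]
      exact hd.comp (hc.comp (hb.comp ha))
    exact key _ _ _ _ (isIso_map_eqToHom _ _) (isIso_map_eqToHom _ _) (isIso_map_eqToHom _ _) hs'

end Groth.Agent.S3583
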