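import Groth.Statements.S3588

set_option autoImplicit false
universe u
open AlgebraicGeometry CategoryTheory Limits

namespace Groth.Agent.S3588

section Aux

variable {R A : Type u} [CommRing R] [CommRing A] [Algebra R A] {𝒜 : ℕ → Submodule R A}
  [GradedAlgebra 𝒜] {B : Type u} [CommRing B] [Algebra R B] {ℬ : ℕ → Submodule R B}
  [GradedAlgebra ℬ] (φ : 𝒜 →+*ᵍ ℬ)

lemma away_map_surjective (hsurj : Function.Surjective φ) {d : ℕ} {f : A} (hf : f ∈ 𝒜 d) :
    Function.Surjective (HomogeneousLocalization.Away.map φ f) := by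
  intro x
  obtain ⟨n, b, hb, rfl⟩ := HomogeneousLocalization.Away.mk_surjective ℬ (φ.2 hf) x
  obtain ⟨a, rfl⟩ := hsurj b
  refine ⟨HomogeneousLocalization.Away.mk 𝒜 hf n (DirectSum.decompose 𝒜 a (n • d))
    (SetLike.coe_mem _), ?_⟩
  rw [HomogeneousLocalization.Away.map_mk]
  have e : φ (DirectSum.decompose 𝒜 a (n • d)) = φ a := by
    rw [GradedRingHom.map_directSumDecompose, DirectSum.decompose_of_mem_same ℬ hb]
  simp only [e]

lemma isPullback_awayι (hφ : HomogeneousIdeal.irrelevant ℬ ≤ (HomogeneousIdeal.irrelevant 𝒜).map φ)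
    {d : ℕ} {f : A} (hf : f ∈ 𝒜 d) (hd : 0 < d) :
    IsPullback (Spec.map (CommRingCat.ofHom (HomogeneousLocalization.Away.map φ f)))
      (Proj.awayι ℬ (φ f) (φ.2 hf) hd) (Proj.awayι 𝒜 f hf hd) (Proj.map φ hφ) :=
  IsOpenImmersion.isPullback _ _ _ _ (Proj.awayι_comp_map φ hφ hd f hf)
    (by rw [Proj.opensRange_awayι, Proj.opensRange_awayι, Proj.map_preimage_basicOpen])

lemma isClosedImmersion_map (hφ : HomogeneousIdeal.irrelevant ℬ ≤ (HomogeneousIdeal.irrelevant 𝒜).map φ)
    (hsurj : Function.Surjective φ) : IsClosedImmersion (Proj.map φ hφ) := by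
  apply IsZariskiLocalAtTarget.of_openCover (P := @IsClosedImmersion)
    (Proj.affineOpenCover 𝒜).openCover
  intro i
  have sq := (isPullback_awayι φ hφ i.2.2 i.1.pos).flip
  have h1 : IsClosedImmersion (Spec.map (CommRingCat.ofHom
      (HomogeneousLocalization.Away.map φ (i.2 : A)))) :=
    IsClosedImmersion.spec_of_surjective _ (away_map_surjective φ hsurj i.2.2)
  have h2 : sq.isoPullback.hom ≫ pullback.snd _ _ = _ := sq.isoPullback_hom_snd
  rw [← h2] at h1
  exact (MorphismProperty.cancel_left_of_respectsIso @IsClosedImmersion sq.isoPullback.hom _).mp h1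

lemma map_mem_irrelevant {a : A} (ha : a ∈ (HomogeneousIdeal.irrelevant 𝒜).toIdeal) :
    φ a ∈ (HomogeneousIdeal.irrelevant ℬ).toIdeal := by
  rw [HomogeneousIdeal.mem_iff, HomogeneousIdeal.mem_irrelevant_iff, GradedRing.proj_apply] at ha ⊢
  rw [← GradedRingHom.map_directSumDecompose, ha, map_zero]

/-- surjectivity on points -/
lemma map_surjective_of_ker_le
    (hφ : HomogeneousIdeal.irrelevant ℬ ≤ (HomogeneousIdeal.irrelevant 𝒜).map φ)
    (hsurj : Function.Surjective φ) (hker : ∀ a : A, φ a = 0 → IsNilpotent a) :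
    Function.Surjective (Proj.map φ hφ).base := by
  intro (p : ProjectiveSpectrum 𝒜)
  have hkp : RingHom.ker (φ : A →+* B) ≤ p.asHomogeneousIdeal.toIdeal := by
    intro a ha
    obtain ⟨k, hk⟩ := hker a ha
    exact p.isPrime.mem_of_pow_mem k (hk ▸ Ideal.zero_mem _)
  have hcm : (p.asHomogeneousIdeal.map φ).comap φ = p.asHomogeneousIdeal := by
    apply HomogeneousIdeal.toIdeal_injective
    change (p.asHomogeneousIdeal.toIdeal.map (φ : A →+* B)).comap (φ : A →+* B) = _
    refine (Ideal.comap_map_of_surjective (φ : A →+* B) hsurj _).trans ?_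
    exact sup_eq_left.mpr hkp
  have hprime : (p.asHomogeneousIdeal.map φ).toIdeal.IsPrime :=
    Ideal.map_isPrime_of_surjective (f := (φ : A →+* B)) hsurj hkp
  have hrel : ¬ HomogeneousIdeal.irrelevant ℬ ≤ p.asHomogeneousIdeal.map φ := by
    intro hle
    apply p.not_irrelevant_le
    intro a ha
    have : φ a ∈ (p.asHomogeneousIdeal.map φ).toIdeal := hle (map_mem_irrelevant φ ha)
    have h2 : a ∈ ((p.asHomogeneousIdeal.map φ).comap φ).toIdeal := this
    rwa [hcm] at h2
  refine ⟨⟨p.asHomogeneousIdeal.map φ, hprime, hrel⟩, ?_⟩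
  apply ProjectiveSpectrum.ext
  exact hcm

/-- If `ℬ₊` has no nonzero nilpotents then every `ℬ_(g)`, `g` homogeneous of positive degree, is
reduced. -/
lemma isReduced_away (hB : ∀ y : B, y ∈ (HomogeneousIdeal.irrelevant ℬ).toIdeal → IsNilpotent y → y = 0)
    {d : ℕ} {g : B} (hg : g ∈ ℬ d) (hd : 0 < d) :
    _root_.IsReduced (HomogeneousLocalization.Away ℬ g) := by
  constructor
  intro x hx
  obtain ⟨n, b, hb, rfl⟩ := HomogeneousLocalization.Away.mk_surjective ℬ hg x
  obtain ⟨k, hk⟩ := hx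
  have hval := congrArg HomogeneousLocalization.val hk
  rw [HomogeneousLocalization.val_pow, HomogeneousLocalization.Away.val_mk,
    HomogeneousLocalization.val_zero, Localization.mk_pow, Localization.mk_eq_mk',
    IsLocalization.mk'_eq_zero_iff] at hval
  obtain ⟨⟨_, m, rfl⟩, hm⟩ := hval
  have hgb : g * b = 0 := by
    apply hB
    · have hmem : g * b ∈ ℬ (d + n • d) := SetLike.mul_mem_graded hg hb
      rw [HomogeneousIdeal.mem_iff, HomogeneousIdeal.mem_irrelevant_iff, GradedRing.proj_apply,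
        DirectSum.decompose_of_mem_ne ℬ hmem (by omega)]
    · refine ⟨m + k, ?_⟩
      have : (g * b) ^ (m + k) = (g ^ m * b ^ k) * (g ^ k * b ^ m) := by ring
      rw [this]
      simp only at hm
      rw [hm, zero_mul]
  apply HomogeneousLocalization.val_injective
  rw [HomogeneousLocalization.Away.val_mk, HomogeneousLocalization.val_zero, Localization.mk_eq_mk',
    IsLocalization.mk'_eq_zero_iff]
  exact ⟨⟨g, 1, pow_one g⟩, hgb⟩

end Aux

theorem result {R A : Type u} [CommRing R] [CommRing A] [Algebra R A] (𝒜 : ℕ → Submodule R A) [GradedAlgebra 𝒜]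
    {B : Type u} [CommRing B] [Algebra R B] (ℬ : ℕ → Submodule R B) [GradedAlgebra ℬ]
    (φ : 𝒜 →+*ᵍ ℬ) (hsurj : Function.Surjective φ)
    (hker : ∀ a : A, φ a = 0 ↔ a ∈ (HomogeneousIdeal.irrelevant 𝒜).toIdeal ∧ IsNilpotent a)
    (hφ : HomogeneousIdeal.irrelevant ℬ ≤ (HomogeneousIdeal.irrelevant 𝒜).map φ) :
    IsClosedImmersion (Proj.map φ hφ) ∧ IsHomeomorph (Proj.map φ hφ).base ∧
      AlgebraicGeometry.IsReduced (Proj ℬ) := by
  have hci : IsClosedImmersion (Proj.map φ hφ) := isClosedImmersion_map φ hφ hsurj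
  refine ⟨hci, ?_, ?_⟩
  · rw [isHomeomorph_iff_isEmbedding_surjective]
    exact ⟨(Proj.map φ hφ).isClosedEmbedding.isEmbedding,
      map_surjective_of_ker_le φ hφ hsurj fun a ha ↦ ((hker a).mp ha).2⟩
  · -- `ℬ₊` has no nonzero nilpotents
    have hB : ∀ y : B, y ∈ (HomogeneousIdeal.irrelevant ℬ).toIdeal → IsNilpotent y → y = 0 := by
      intro y hy hnil
      obtain ⟨a, rfl⟩ := hsurj y
      set a' := a - DirectSum.decompose 𝒜 a 0 with ha'
      have hφa' : φ a' = φ a := by
        rw [ha', map_sub, GradedRingHom.map_directSumDecompose]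
        rw [HomogeneousIdeal.mem_iff, HomogeneousIdeal.mem_irrelevant_iff,
          GradedRing.proj_apply] at hy
        rw [hy, sub_zero]
      have ha'irr : a' ∈ (HomogeneousIdeal.irrelevant 𝒜).toIdeal := by
        rw [HomogeneousIdeal.mem_iff, HomogeneousIdeal.mem_irrelevant_iff, GradedRing.proj_apply,
          ha', DirectSum.decompose_sub, DFinsupp.sub_apply, AddSubgroupClass.coe_sub,
          DirectSum.decompose_of_mem_same 𝒜 (SetLike.coe_mem _), sub_self]
      obtain ⟨k, hk⟩ := hnil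
      have h1 : φ (a' ^ k) = 0 := by rw [map_pow, hφa', hk]
      obtain ⟨m, hm⟩ := ((hker _).mp h1).2
      have hnil' : IsNilpotent a' := ⟨k * m, by rw [pow_mul, hm]⟩
      rw [← hφa']
      exact (hker a').mpr ⟨ha'irr, hnil'⟩
    have : ∀ i, IsReduced ((Proj.affineOpenCover ℬ).openCover.X i) := by
      intro i
      have : _root_.IsReduced (HomogeneousLocalization.Away ℬ (i.2 : B)) :=
        isReduced_away hB i.2.2 i.1.pos
      change IsReduced (Spec (CommRingCat.of (HomogeneousLocalization.Away ℬ (i.2 : B))))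
      infer_instance
    exact IsReduced.of_openCover _ (Proj.affineOpenCover ℬ).openCover

end Groth.Agent.S3588
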