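import Groth.Statements.S3589
import Groth.Agent.Lib.SecKernelH3

set_option autoImplicit false
set_option linter.style.haveILetI false
universe u
open CategoryTheory CategoryTheory.Limits AlgebraicGeometry
open EGA2

namespace Groth.Agent.S3589

theorem mem_secKernel_iff {R : Type u} [CommRing R] (n : ℕ)
    (s : Spec (CommRingCat.of R) ⟶ CohB1.ProjSpace n R) (c : Fin (n + 1) → R) :
    c ∈ ProjUP.secKernel n R s ↔
      ∑ k, (Scheme.ΓSpecIso (CommRingCat.of R)).inv.hom (c k) •
        ProjUP.pullSec s (Twist.twistProjSpace n R 1) (ProjUP.coord n R k) = 0 := by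
  letI : Module R (ProjUP.Γm ((Scheme.Modules.pullback s).obj (Twist.twistProjSpace n R 1))) :=
    Module.compHom _ (Scheme.ΓSpecIso (CommRingCat.of R)).inv.hom
  change c ∈ LinearMap.ker (Fintype.linearCombination R
    (fun i => ProjUP.pullSec s (Twist.twistProjSpace n R 1) (ProjUP.coord n R i))) ↔ _
  rw [LinearMap.mem_ker, Fintype.linearCombination_apply]
  rfl

/-- For E = O_Y^{n+1} over an affine base Y = Spec R (injectivity of the correspondence): a section s of
projective n-space over R is determined by the submodule F(s) of R^{n+1} formed by the R-linear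
relations among the pulled-back coordinates s^*T_0, …, s^*T_n in the global sections of s^*O(1). -/
theorem result {R : Type u} [CommRing R] (n : ℕ)
    (s₁ s₂ : Spec (CommRingCat.of R) ⟶ CohB1.ProjSpace n R)
    (h₁ : s₁ ≫ CohB1.ProjSpace.toSpec n R = 𝟙 _) (h₂ : s₂ ≫ CohB1.ProjSpace.toSpec n R = 𝟙 _)
    (h : ProjUP.secKernel n R s₁ = ProjUP.secKernel n R s₂) :
    s₁ = s₂ := by
  refine Groth.Agent.Lib.SecKernelH3.hom_ext_of_relations n R (isAffineOpen_top _) s₁ s₂
    (h₁.trans h₂.symm) (fun c hc => ?_)
  -- translate the relation into membership in `secKernel`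
  let c' : Fin (n + 1) → R := fun k => (Scheme.ΓSpecIso (CommRingCat.of R)).hom.hom (c k)
  have hc' : ∀ k, (Scheme.ΓSpecIso (CommRingCat.of R)).inv.hom (c' k) = c k := fun k => by
    change ((Scheme.ΓSpecIso (CommRingCat.of R)).hom ≫ (Scheme.ΓSpecIso (CommRingCat.of R)).inv).hom (c k) = c k
    rw [Iso.hom_inv_id]
    rfl
  have hmem : c' ∈ ProjUP.secKernel n R s₁ := by
    rw [mem_secKernel_iff]
    refine Eq.trans (Finset.sum_congr rfl (fun k _ => ?_)) hc
    rw [hc' k]
    rfl
  rw [h, mem_secKernel_iff] at hmem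
  refine Eq.trans (Finset.sum_congr rfl (fun k _ => ?_)) hmem
  rw [hc' k]
  rfl

end Groth.Agent.S3589
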