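import Groth.Statements.S3593
import Groth.Agent.S3576

set_option autoImplicit false
set_option linter.unusedSectionVars false
universe u
open AlgebraicGeometry CategoryTheory Limits

namespace Groth.Agent.S3593

open HomogeneousLocalization
open scoped Polynomial LaurentPolynomial
open Groth.Agent.S3576 (mk1 psi psi_of_mem mk1_self val_mk1)

section Alg

variable {R A : Type u} [CommRing R] [CommRing A] [Algebra R A] (𝒜 : ℕ → Submodule R A)
  [GradedAlgebra 𝒜]

/-- degree-`i` component of the coaction `A → A[T;T⁻¹]`. -/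
noncomputable def coactComp (i : ℕ) : 𝒜 i →+ A[T;T⁻¹] where
  toFun a := LaurentPolynomial.C a.1 * LaurentPolynomial.T i
  map_zero' := by simp
  map_add' a b := by
    change LaurentPolynomial.C (a.1 + b.1) * LaurentPolynomial.T i = _
    rw [map_add, add_mul]

/-- The coaction `A → A[T;T⁻¹]`, `a ↦ ∑ a_i T^i`. -/
noncomputable def coact : A →+* A[T;T⁻¹] :=
  (DirectSum.toSemiring (coactComp 𝒜)
    (by
      change LaurentPolynomial.C (1 : A) * LaurentPolynomial.T ((0 : ℕ) : ℤ) = 1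
      rw [map_one, one_mul]
      exact LaurentPolynomial.T_zero)
    (by
      intro i j ai aj
      change LaurentPolynomial.C (ai.1 * aj.1) * LaurentPolynomial.T ((i + j : ℕ) : ℤ) =
        (LaurentPolynomial.C ai.1 * LaurentPolynomial.T i) *
          (LaurentPolynomial.C aj.1 * LaurentPolynomial.T j)
      rw [map_mul, Nat.cast_add, LaurentPolynomial.T_add]
      ring)).comp (DirectSum.decomposeRingEquiv 𝒜).toRingHom

lemma coact_of_mem (i : ℕ) (a : A) (ha : a ∈ 𝒜 i) :
    coact 𝒜 a = LaurentPolynomial.C a * LaurentPolynomial.T i := by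
  unfold coact
  rw [RingHom.comp_apply]
  change DirectSum.toSemiring _ _ _ (DirectSum.decompose 𝒜 a) = _
  rw [DirectSum.decompose_of_mem 𝒜 ha, DirectSum.toSemiring_of]
  rfl

variable {𝒜}
variable {B : Type u} [CommRing B] [Algebra R B] {ℬ : ℕ → Submodule R B} [GradedAlgebra ℬ]
  [Algebra A B] (φ : 𝒜 →+*ᵍ ℬ) (hφ : ∀ a : A, φ a = algebraMap A B a)
  (z : B) (hz : z ∈ ℬ 1) (hhat : Function.Bijective (Polynomial.aeval (R := A) z))

/-- `A → B_(z)`, `a ↦ ∑ φ(a_i) / z ^ i`. -/
noncomputable def theta : A →+* Away ℬ z :=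
  (LaurentPolynomial.eval₂ (RingHom.id (Away ℬ z)) 1).comp ((psi ℬ hz).comp φ.toRingHom)

lemma theta_of_mem (i : ℕ) (a : A) (ha : a ∈ 𝒜 i) :
    theta φ z hz a = mk1 ℬ hz i (φ a) (φ.2 ha) := by
  unfold theta
  rw [RingHom.comp_apply, RingHom.comp_apply]
  change LaurentPolynomial.eval₂ _ _ (psi ℬ hz (φ a)) = _
  rw [psi_of_mem ℬ hz i (φ a) (φ.2 ha), LaurentPolynomial.eval₂_C_mul_T]
  simp

lemma mapRingHom_C_mul_T {S S' : Type u} [CommRing S] [CommRing S'] (f : S →+* S') (c : S) (n : ℤ) :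
    AddMonoidAlgebra.mapRingHom ℤ f (LaurentPolynomial.C c * LaurentPolynomial.T n) =
      LaurentPolynomial.C (f c) * LaurentPolynomial.T n := by
  rw [← LaurentPolynomial.single_eq_C_mul_T, ← LaurentPolynomial.single_eq_C_mul_T]
  exact AddMonoidAlgebra.mapRingHom_single _ _ _

/-- `A[X] ≃ B`. -/
noncomputable def hhatEquiv : A[X] ≃+* B :=
  RingEquiv.ofBijective (Polynomial.aeval (R := A) z).toRingHom hhat

lemma hhatEquiv_apply (P : A[X]) : hhatEquiv z hhat P = Polynomial.aeval z P := rfl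

/-- `B → A[T;T⁻¹]`, `a ↦ ∑ a_i T ^ i`, `z ↦ T`. -/
noncomputable def F2 : B →+* A[T;T⁻¹] :=
  (Polynomial.eval₂RingHom (coact 𝒜) (LaurentPolynomial.T 1)).comp
    (hhatEquiv z hhat).symm.toRingHom

lemma F2_aeval (P : A[X]) :
    F2 (𝒜 := 𝒜) z hhat (Polynomial.aeval z P) =
      Polynomial.eval₂ (coact 𝒜) (LaurentPolynomial.T 1) P := by
  unfold F2
  rw [RingHom.comp_apply, ← hhatEquiv_apply z hhat]
  change Polynomial.eval₂RingHom _ _ ((hhatEquiv z hhat).symm ((hhatEquiv z hhat) P)) = _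
  rw [RingEquiv.symm_apply_apply]
  rfl

include hφ in
lemma compat (b : B) :
    AddMonoidAlgebra.mapRingHom ℤ (theta φ z hz) (F2 (𝒜 := 𝒜) z hhat b) = psi ℬ hz b := by
  obtain ⟨P, rfl⟩ := hhat.surjective b
  have key : ((AddMonoidAlgebra.mapRingHom ℤ (theta φ z hz)).comp (F2 (𝒜 := 𝒜) z hhat)).comp
      (Polynomial.aeval (R := A) z).toRingHom =
      (psi ℬ hz).comp (Polynomial.aeval (R := A) z).toRingHom := by
    apply Polynomial.ringHom_ext
    · intro a
      change AddMonoidAlgebra.mapRingHom ℤ (theta φ z hz)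
        (F2 (𝒜 := 𝒜) z hhat (Polynomial.aeval z (Polynomial.C a))) =
          psi ℬ hz (Polynomial.aeval z (Polynomial.C a))
      rw [F2_aeval, Polynomial.eval₂_C, Polynomial.aeval_C, ← hφ]
      induction a using DirectSum.Decomposition.inductionOn 𝒜 with
      | zero => simp
      | @homogeneous i m =>
        rw [coact_of_mem 𝒜 i m.1 m.2, mapRingHom_C_mul_T, theta_of_mem φ z hz i m.1 m.2,
          psi_of_mem ℬ hz i (φ m.1) (φ.2 m.2)]
      | add m m' hm hm' => rw [map_add, map_add, map_add, map_add, hm, hm']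
    · change AddMonoidAlgebra.mapRingHom ℤ (theta φ z hz)
        (F2 (𝒜 := 𝒜) z hhat (Polynomial.aeval z Polynomial.X)) =
          psi ℬ hz (Polynomial.aeval z Polynomial.X)
      rw [F2_aeval, Polynomial.eval₂_X, Polynomial.aeval_X, psi_of_mem ℬ hz 1 z hz, mk1_self,
        map_one, one_mul]
      have : (LaurentPolynomial.T 1 : A[T;T⁻¹]) =
          LaurentPolynomial.C 1 * LaurentPolynomial.T 1 := by rw [map_one, one_mul]
      rw [this, mapRingHom_C_mul_T, map_one, map_one, one_mul]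
      rfl
  exact congrArg (fun f ↦ f P) key

include hφ hhat in
lemma theta_surjective : Function.Surjective (theta φ z hz) := by
  intro y
  obtain ⟨n, b, hb, rfl⟩ := Away.mk_surjective ℬ hz y
  have hb' : b ∈ ℬ n := by rwa [smul_eq_mul, mul_one] at hb
  have h := compat φ hφ z hz hhat b
  rw [psi_of_mem ℬ hz n b hb', ← LaurentPolynomial.single_eq_C_mul_T] at h
  refine ⟨(F2 (𝒜 := 𝒜) z hhat b).coeff (n : ℤ), ?_⟩
  have h2 := congrArg (fun f : (Away ℬ z)[T;T⁻¹] ↦ f.coeff (n : ℤ)) h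
  simp only [AddMonoidAlgebra.coeff_mapRingHom, AddMonoidAlgebra.coeff_single,
    Finsupp.single_eq_same] at h2
  exact h2

/-- `B → A`, `z ↦ 1`. -/
noncomputable def ev1 : B →+* A :=
  (Polynomial.evalRingHom (1 : A)).comp (hhatEquiv z hhat).symm.toRingHom

lemma ev1_aeval (P : A[X]) : ev1 z hhat (Polynomial.aeval z P) = Polynomial.eval 1 P := by
  unfold ev1
  rw [RingHom.comp_apply, ← hhatEquiv_apply z hhat]
  change Polynomial.evalRingHom _ ((hhatEquiv z hhat).symm ((hhatEquiv z hhat) P)) = _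
  rw [RingEquiv.symm_apply_apply]
  rfl

include hφ in
lemma ev1_phi (a : A) : ev1 z hhat (φ a) = a := by
  have : φ a = Polynomial.aeval z (Polynomial.C a) := by rw [Polynomial.aeval_C, hφ]
  rw [this, ev1_aeval, Polynomial.eval_C]

lemma ev1_z : ev1 z hhat z = 1 := by
  have h := ev1_aeval z hhat (Polynomial.X : A[X])
  rw [Polynomial.aeval_X, Polynomial.eval_X] at h
  exact h

/-- `B_(z) → A`. -/
noncomputable def lam : Away ℬ z →+* A :=
  (Localization.awayLift (ev1 z hhat) z (by rw [ev1_z]; exact isUnit_one)).comp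
    (algebraMap (Away ℬ z) (Localization.Away z))

lemma lam_mk1 (i : ℕ) (b : B) (hb : b ∈ ℬ i) :
    lam (ℬ := ℬ) z hhat (mk1 ℬ hz i b hb) = ev1 z hhat b := by
  unfold lam
  rw [RingHom.comp_apply, HomogeneousLocalization.algebraMap_apply, val_mk1,
    Localization.mk_eq_mk'_apply]
  unfold Localization.awayLift IsLocalization.Away.lift
  rw [IsLocalization.lift_mk'_spec]
  change ev1 z hhat b = ev1 z hhat (z ^ i) * _
  rw [map_pow, ev1_z, one_pow, one_mul]

include hφ in
lemma lam_theta (a : A) : lam (ℬ := ℬ) z hhat (theta φ z hz a) = a := by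
  induction a using DirectSum.Decomposition.inductionOn 𝒜 with
  | zero => simp
  | @homogeneous i m =>
    rw [theta_of_mem φ z hz i m.1 m.2, lam_mk1, ev1_phi φ hφ]
  | add m m' hm hm' => rw [map_add, map_add, hm, hm']

end Alg

theorem result {R A : Type u} [CommRing R] [CommRing A] [Algebra R A] (𝒜 : ℕ → Submodule R A) [GradedAlgebra 𝒜]
    {B : Type u} [CommRing B] [Algebra R B] (ℬ : ℕ → Submodule R B) [GradedAlgebra ℬ]
    [Algebra A B] [IsScalarTower R A B] (φ : 𝒜 →+*ᵍ ℬ) (hφ : ∀ a : A, φ a = algebraMap A B a)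
    (z : B) (hz : z ∈ ℬ 1) (hhat : Function.Bijective (Polynomial.aeval (R := A) z)) :
    ∃ θ : A ≃+* HomogeneousLocalization.Away ℬ z,
      ∀ (n : ℕ) (a : A), a ∈ 𝒜 n → (θ a).val = Localization.mk (φ a) ⟨z ^ n, pow_mem (Submonoid.mem_powers z) n⟩ := by
  have hbij : Function.Bijective (theta φ z hz) := by
    refine ⟨?_, theta_surjective φ hφ z hz hhat⟩
    intro a a' h
    have := congrArg (lam (ℬ := ℬ) z hhat) h
    rwa [lam_theta φ hφ z hz hhat, lam_theta φ hφ z hz hhat] at this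
  refine ⟨RingEquiv.ofBijective (theta φ z hz) hbij, ?_⟩
  intro n a ha
  change (theta φ z hz a).val = _
  rw [theta_of_mem φ z hz n a ha, val_mk1]

end Groth.Agent.S3593
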