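import Groth.Statements.S3594

set_option autoImplicit false
universe u
open AlgebraicGeometry CategoryTheory Limits

namespace Groth.Agent.S3594

theorem result {R A : Type u} [CommRing R] [CommRing A] [Algebra R A] (𝒜 : ℕ → Submodule R A) [GradedAlgebra 𝒜]
    {B : Type u} [CommRing B] [Algebra R B] (ℬ : ℕ → Submodule R B) [GradedAlgebra ℬ]
    [Algebra A B] [IsScalarTower R A B] (φ : 𝒜 →+*ᵍ ℬ) (hφ : ∀ a : A, φ a = algebraMap A B a)
    (z : B) (hz : z ∈ ℬ 1) (hhat : Function.Bijective (Polynomial.aeval (R := A) z))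
    (ψ : ℬ →+*ᵍ 𝒜) (hψφ : ∀ a : A, ψ (φ a) = a) (hψz : ψ z = 0)
    (hψ : HomogeneousIdeal.irrelevant 𝒜 ≤ (HomogeneousIdeal.irrelevant ℬ).map ψ) :
    Set.range (Proj.map ψ hψ).base = ((Proj.basicOpen ℬ z : Set (Proj ℬ)))ᶜ := by
  -- every `b` is congruent to `φ (ψ b)` modulo `z`
  have key : ∀ b : B, ∃ c : B, b - φ (ψ b) = z * c := by
    intro b
    obtain ⟨P, rfl⟩ := hhat.2 b
    obtain ⟨Q, c0, rfl⟩ : ∃ (Q : Polynomial A) (c0 : A), P = Q * Polynomial.X + Polynomial.C c0 :=
      ⟨P.divX, P.coeff 0, (Polynomial.divX_mul_X_add P).symm⟩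
    refine ⟨Polynomial.aeval z Q, ?_⟩
    have h1 : ψ (Polynomial.aeval z (Q * Polynomial.X + Polynomial.C c0)) = c0 := by
      rw [map_add, map_mul, Polynomial.aeval_X, Polynomial.aeval_C, map_add, map_mul, hψz,
        mul_zero, zero_add, ← hφ, hψφ]
    rw [h1, map_add, map_mul, Polynomial.aeval_X, Polynomial.aeval_C, hφ]
    ring
  ext (q : ProjectiveSpectrum ℬ)
  constructor
  · rintro ⟨x, rfl⟩
    change ¬ ((Proj.map ψ hψ).base x ∈ Proj.basicOpen ℬ z)
    rw [Proj.mem_basicOpen, not_not]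
    change ψ z ∈ x.asHomogeneousIdeal
    rw [hψz]
    exact Ideal.zero_mem _
  · intro hq
    have hzq : z ∈ q.asHomogeneousIdeal := by
      by_contra h
      exact hq ((Proj.mem_basicOpen ℬ z q).mpr h)
    have hmem : ∀ b : B, b ∈ q.asHomogeneousIdeal ↔ φ (ψ b) ∈ q.asHomogeneousIdeal := by
      intro b
      obtain ⟨c, hc⟩ := key b
      have hzc : z * c ∈ q.asHomogeneousIdeal.toIdeal := Ideal.mul_mem_right _ _ hzq
      constructor
      · intro hb
        have : φ (ψ b) = b - z * c := by rw [← hc]; ring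
        rw [this]
        exact Ideal.sub_mem _ hb hzc
      · intro hb
        have : b = φ (ψ b) + z * c := by rw [← hc]; ring
        rw [this]
        exact Ideal.add_mem _ hb hzc
    have hrel : ¬ HomogeneousIdeal.irrelevant 𝒜 ≤ q.asHomogeneousIdeal.comap φ := by
      intro hle
      apply q.not_irrelevant_le
      intro b hb
      change b ∈ q.asHomogeneousIdeal
      rw [hmem b]
      have hb' : b ∈ (HomogeneousIdeal.irrelevant ℬ).toIdeal := hb
      have h1 : ψ b ∈ (HomogeneousIdeal.irrelevant 𝒜).toIdeal := by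
        rw [HomogeneousIdeal.mem_iff, HomogeneousIdeal.mem_irrelevant_iff,
          GradedRing.proj_apply] at hb' ⊢
        rw [← GradedRingHom.map_directSumDecompose, hb', map_zero]
      exact hle h1
    refine ⟨⟨q.asHomogeneousIdeal.comap φ, q.isPrime.comap φ, hrel⟩, ?_⟩
    apply ProjectiveSpectrum.ext
    apply HomogeneousIdeal.toIdeal_injective
    ext b
    exact (hmem b).symm

end Groth.Agent.S3594
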