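import Groth.Statements.S3595

set_option autoImplicit false
universe u
open AlgebraicGeometry CategoryTheory Limits

namespace Groth.Agent.S3595

section Aux

variable {R A : Type u} [CommRing R] [CommRing A] [Algebra R A] {𝒜 : ℕ → Submodule R A}
  [GradedAlgebra 𝒜] {B : Type u} [CommRing B] [Algebra R B] {ℬ : ℕ → Submodule R B}
  [GradedAlgebra ℬ] (φ : 𝒜 →+*ᵍ ℬ)

variable (𝒜) in
/-- Index type of the standard charts. -/
abbrev Idx : Type u := Σ' (d : ℕ) (f : A), 0 < d ∧ f ∈ 𝒜 d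

/-- The prescribed morphism on the chart `Spec B_(φ f)`. -/
noncomputable def chartMap {d : ℕ} {f : A} (hf : f ∈ 𝒜 d) (hd : 0 < d) :
    Spec (CommRingCat.of (HomogeneousLocalization.Away ℬ (φ f))) ⟶ Proj 𝒜 :=
  Spec.map (CommRingCat.ofHom (HomogeneousLocalization.Away.map φ f)) ≫ Proj.awayι 𝒜 f hf hd

omit [GradedAlgebra 𝒜] in
@[reassoc]
lemma chart_ι {d : ℕ} {f : A} (hf : f ∈ 𝒜 d) (hd : 0 < d) :
    PCone.chart φ hf hd ≫ (PCone.dom φ).ι = Proj.awayι ℬ (φ f) (φ.2 hf) hd :=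
  IsOpenImmersion.lift_fac _ _ _

instance {d : ℕ} {f : A} (hf : f ∈ 𝒜 d) (hd : 0 < d) : IsOpenImmersion (PCone.chart φ hf hd) := by
  have : IsOpenImmersion (PCone.chart φ hf hd ≫ (PCone.dom φ).ι) := by
    rw [chart_ι]; infer_instance
  exact IsOpenImmersion.of_comp _ (PCone.dom φ).ι

/-- naturality of `awayMap` with respect to a graded ring hom. -/
lemma awayMap_comp_map {d e : ℕ} {f g x : A} (hf : f ∈ 𝒜 d) (hg : g ∈ 𝒜 e) (hx : x = f * g) :
    (HomogeneousLocalization.awayMap ℬ (φ.2 hg) (show φ x = φ f * φ g by rw [hx, map_mul])).comp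
        (HomogeneousLocalization.Away.map φ f) =
      (HomogeneousLocalization.Away.map φ x).comp (HomogeneousLocalization.awayMap 𝒜 hg hx) := by
  subst hx
  ext a
  obtain ⟨n, a, ha, rfl⟩ := HomogeneousLocalization.Away.mk_surjective 𝒜 hf a
  simp only [RingHom.coe_comp, Function.comp_apply, HomogeneousLocalization.Away.map_mk,
    HomogeneousLocalization.awayMap_mk, map_mul, map_pow]
  rfl

lemma SpecMap_awayMap_chartMap {d e : ℕ} {f g x : A} (hf : f ∈ 𝒜 d) (hd : 0 < d) (hg : g ∈ 𝒜 e)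
    (hx : x = f * g) :
    Spec.map (CommRingCat.ofHom (HomogeneousLocalization.awayMap ℬ (φ.2 hg)
        (show φ x = φ f * φ g by rw [hx, map_mul]))) ≫ chartMap φ hf hd =
      chartMap φ (hx ▸ SetLike.mul_mem_graded hf hg : x ∈ 𝒜 (d + e))
        (hd.trans_le (d.le_add_right e)) := by
  unfold chartMap
  rw [← Proj.SpecMap_awayMap_awayι (𝒜 := 𝒜) hf hd hg hx]
  simp only [← Category.assoc, ← Spec.map_comp, ← CommRingCat.ofHom_comp]
  rw [awayMap_comp_map φ hf hg hx]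

/-- The cover of `G(φ)` by the standard charts. -/
noncomputable def cover : (PCone.dom φ).toScheme.OpenCover where
  I₀ := Idx 𝒜
  X i := Spec (CommRingCat.of (HomogeneousLocalization.Away ℬ (φ i.2.1)))
  f i := PCone.chart φ i.2.2.2 i.2.2.1
  mem₀ := by
    rw [Scheme.presieve₀_mem_precoverage_iff]
    refine ⟨fun p ↦ ?_, fun i ↦ inferInstance⟩
    obtain ⟨⟨f, d, hd, hf⟩, hp⟩ := TopologicalSpace.Opens.mem_iSup.mp p.2
    rw [← Proj.opensRange_awayι ℬ (φ f) (φ.2 hf) hd] at hp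
    obtain ⟨y, hy⟩ := hp
    refine ⟨⟨d, f, hd, hf⟩, y, ?_⟩
    apply Subtype.ext
    have := congrArg (fun ψ => ψ.base y) (chart_ι φ hf hd)
    exact this.trans hy

lemma compat (i j : Idx 𝒜) :
    pullback.fst ((cover φ).f i) ((cover φ).f j) ≫ chartMap φ i.2.2.2 i.2.2.1 =
      pullback.snd ((cover φ).f i) ((cover φ).f j) ≫ chartMap φ j.2.2.2 j.2.2.1 := by
  obtain ⟨d, f, hd, hf⟩ := i
  obtain ⟨e, g, he, hg⟩ := j
  change pullback.fst (PCone.chart φ hf hd) (PCone.chart φ hg he) ≫ chartMap φ hf hd =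
    pullback.snd (PCone.chart φ hf hd) (PCone.chart φ hg he) ≫ chartMap φ hg he
  set fst := pullback.fst (PCone.chart φ hf hd) (PCone.chart φ hg he)
  set snd := pullback.snd (PCone.chart φ hf hd) (PCone.chart φ hg he)
  have hcond : fst ≫ PCone.chart φ hf hd = snd ≫ PCone.chart φ hg he := pullback.condition
  have hfg : f * g ∈ 𝒜 (d + e) := SetLike.mul_mem_graded hf hg
  have hde : 0 < d + e := hd.trans_le (d.le_add_right e)
  have hrange : Set.range (fst ≫ PCone.chart φ hf hd ≫ (PCone.dom φ).ι).base ⊆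
      Set.range (Proj.awayι ℬ (φ (f * g)) (φ.2 hfg) hde).base := by
    rintro _ ⟨y, rfl⟩
    change _ ∈ (Proj.awayι ℬ (φ (f * g)) (φ.2 hfg) hde).opensRange
    rw [Proj.opensRange_awayι, map_mul, Proj.basicOpen_mul]
    constructor
    · rw [← Proj.opensRange_awayι ℬ (φ f) (φ.2 hf) hd, chart_ι]
      exact ⟨fst.base y, rfl⟩
    · rw [← Proj.opensRange_awayι ℬ (φ g) (φ.2 hg) he, reassoc_of% hcond, chart_ι]
      exact ⟨snd.base y, rfl⟩
  let l := IsOpenImmersion.lift (Proj.awayι ℬ (φ (f * g)) (φ.2 hfg) hde)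
    (fst ≫ PCone.chart φ hf hd ≫ (PCone.dom φ).ι) hrange
  have hl : l ≫ Proj.awayι ℬ (φ (f * g)) (φ.2 hfg) hde =
      fst ≫ PCone.chart φ hf hd ≫ (PCone.dom φ).ι := IsOpenImmersion.lift_fac _ _ _
  have h1 : l ≫ Spec.map (CommRingCat.ofHom (HomogeneousLocalization.awayMap ℬ (φ.2 hg)
      (show φ (f * g) = φ f * φ g by rw [map_mul]))) = fst := by
    rw [← cancel_mono (PCone.chart φ hf hd ≫ (PCone.dom φ).ι), ← hl, chart_ι, Category.assoc,
      Proj.SpecMap_awayMap_awayι]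
  have h2 : l ≫ Spec.map (CommRingCat.ofHom (HomogeneousLocalization.awayMap ℬ (φ.2 hf)
      (show φ (f * g) = φ g * φ f by rw [map_mul, mul_comm]))) = snd := by
    rw [← cancel_mono (PCone.chart φ hg he ≫ (PCone.dom φ).ι), ← reassoc_of% hcond, ← hl,
      chart_ι, Category.assoc, Proj.SpecMap_awayMap_awayι]
    rfl
  rw [← h1, ← h2, Category.assoc, Category.assoc, SpecMap_awayMap_chartMap φ hf hd hg rfl,
    SpecMap_awayMap_chartMap φ hg he hf (mul_comm f g)]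
  rfl

end Aux

theorem result {R A : Type u} [CommRing R] [CommRing A] [Algebra R A] (𝒜 : ℕ → Submodule R A) [GradedAlgebra 𝒜]
    {B : Type u} [CommRing B] [Algebra R B] (ℬ : ℕ → Submodule R B) [GradedAlgebra ℬ] (φ : 𝒜 →+*ᵍ ℬ) :
    ∃! p : (PCone.dom φ : Scheme.{u}) ⟶ Proj 𝒜,
      ∀ (d : ℕ) (f : A) (hd : 0 < d) (hf : f ∈ 𝒜 d),
        PCone.chart φ hf hd ≫ p =
          Spec.map (CommRingCat.ofHom (HomogeneousLocalization.Away.map φ f)) ≫ Proj.awayι 𝒜 f hf hd := by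
  refine ⟨(cover φ).glueMorphisms (fun i ↦ chartMap φ i.2.2.2 i.2.2.1) (compat φ), ?_, ?_⟩
  · intro d f hd hf
    exact (cover φ).ι_glueMorphisms (fun i ↦ chartMap φ i.2.2.2 i.2.2.1) (compat φ) ⟨d, f, hd, hf⟩
  · intro p' hp'
    apply (cover φ).hom_ext
    rintro ⟨d, f, hd, hf⟩
    rw [(cover φ).ι_glueMorphisms (fun i ↦ chartMap φ i.2.2.2 i.2.2.1) (compat φ) ⟨d, f, hd, hf⟩]
    exact hp' d f hd hf

end Groth.Agent.S3595
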