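import Groth.Statements.S3596
import Groth.Agent.S3595
import Groth.Agent.S3575

set_option autoImplicit false
universe u
open AlgebraicGeometry CategoryTheory Limits

namespace Groth.Agent.S3596

open Groth.Agent.S3595 Groth.Agent.S3575

theorem result {R A : Type u} [CommRing R] [CommRing A] [Algebra R A] (𝒜 : ℕ → Submodule R A) [GradedAlgebra 𝒜]
    {B : Type u} [CommRing B] [Algebra R B] (ℬ : ℕ → Submodule R B) [GradedAlgebra ℬ] (φ : 𝒜 →+*ᵍ ℬ)
    (p : (PCone.dom φ : Scheme.{u}) ⟶ Proj 𝒜) (hp : ∀ (d : ℕ) (f : A) (hd : 0 < d) (hf : f ∈ 𝒜 d),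
        PCone.chart φ hf hd ≫ p =
          Spec.map (CommRingCat.ofHom (HomogeneousLocalization.Away.map φ f)) ≫ Proj.awayι 𝒜 f hf hd) :
    IsAffineHom p := by
  have hD : ∀ (z : (PCone.dom φ : Scheme.{u})) (n : ℕ) (a : A), a ∈ 𝒜 n →
      (a ∈ (p.base z).asHomogeneousIdeal ↔ φ a ∈ ((PCone.dom φ).ι.base z).asHomogeneousIdeal) := by
    intro z n a ha
    obtain ⟨i, y, rfl⟩ := (cover φ).exists_eq z
    obtain ⟨d, f, hd, hf⟩ := i
    have key : ∀ y : Spec (CommRingCat.of (HomogeneousLocalization.Away ℬ (φ f))),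
        a ∈ ((PCone.chart φ hf hd ≫ p).base y).asHomogeneousIdeal ↔
          φ a ∈ ((PCone.chart φ hf hd ≫ (PCone.dom φ).ι).base y).asHomogeneousIdeal := by
      intro y
      rw [hp d f hd hf, chart_ι]
      have ha' : a ^ d ∈ 𝒜 (n • d) := by
        have := SetLike.pow_mem_graded d ha
        rwa [smul_eq_mul, mul_comm] at this
      have ha'' : (φ a) ^ d ∈ ℬ (n • d) := by
        rw [← map_pow]; exact φ.2 ha'
      change a ∈ ((Proj.awayι 𝒜 f hf hd).base ((Spec.map (CommRingCat.ofHom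
        (HomogeneousLocalization.Away.map φ f))).base y)).asHomogeneousIdeal ↔ _
      refine (mem_awayι_iff hf hd _ ha').trans ?_
      refine Iff.trans ?_ (mem_awayι_iff (φ.2 hf) hd y ha'').symm
      change HomogeneousLocalization.Away.map φ f
        (HomogeneousLocalization.Away.mk 𝒜 hf n (a ^ d) ha') ∈ y.asIdeal ↔ _
      rw [HomogeneousLocalization.Away.map_mk]
      simp only [map_pow]
    exact key y
  have hC : ∀ (d : ℕ) (f : A), 0 < d → f ∈ 𝒜 d →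
      p ⁻¹ᵁ Proj.basicOpen 𝒜 f = (PCone.dom φ).ι ⁻¹ᵁ Proj.basicOpen ℬ (φ f) := by
    intro d f hd hf
    ext z
    change p.base z ∈ Proj.basicOpen 𝒜 f ↔ (PCone.dom φ).ι.base z ∈ Proj.basicOpen ℬ (φ f)
    rw [Proj.mem_basicOpen, Proj.mem_basicOpen]
    exact not_congr (hD z d f hf)
  apply isAffineHom_of_forall_exists_isAffineOpen
  intro z
  have hcov := (Proj.affineOpenCover 𝒜).covers z
  set i := (Proj.affineOpenCover 𝒜).idx z
  have hz : z ∈ Proj.basicOpen 𝒜 (i.2 : A) := by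
    rw [← Proj.opensRange_awayι 𝒜 _ i.2.2 i.1.2]
    exact hcov
  refine ⟨Proj.basicOpen 𝒜 (i.2 : A), hz, Proj.isAffineOpen_basicOpen 𝒜 _ i.2.2 i.1.2, ?_⟩
  rw [hC _ _ i.1.2 i.2.2]
  apply IsAffineOpen.preimage_of_isOpenImmersion
  · exact Proj.isAffineOpen_basicOpen ℬ _ (φ.2 i.2.2) i.1.2
  · rw [Scheme.Opens.opensRange_ι]
    exact le_iSup (fun f : {f : A // ∃ d : ℕ, 0 < d ∧ f ∈ 𝒜 d} ↦ Proj.basicOpen ℬ (φ f.1))
      ⟨(i.2 : A), i.1, i.1.2, i.2.2⟩

end Groth.Agent.S3596
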