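import Groth.Statements.S3597
import Groth.Agent.S3595

set_option autoImplicit false
universe u
open AlgebraicGeometry CategoryTheory Limits

namespace Groth.Agent.S3597

open Groth.Agent.S3595

section Aux

variable {R A : Type u} [CommRing R] [CommRing A] [Algebra R A] {𝒜 : ℕ → Submodule R A}
  [GradedAlgebra 𝒜]

/-- A graded endomorphism equal to the identity induces the identity on charts. -/
lemma SpecMap_awayMap_eq_of_eq_id (θ : 𝒜 →+*ᵍ 𝒜) (hθ : θ = .id 𝒜) {d : ℕ} {f : A}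
    (hf : f ∈ 𝒜 d) (hd : 0 < d) :
    Spec.map (CommRingCat.ofHom (HomogeneousLocalization.Away.map θ f)) ≫ Proj.awayι 𝒜 f hf hd =
      Proj.awayι 𝒜 (θ f) (θ.2 hf) hd := by
  subst hθ
  rw [HomogeneousLocalization.Away.map_id]
  change Spec.map (𝟙 _) ≫ _ = _
  rw [Spec.map_id, Category.id_comp]
  rfl

end Aux

theorem result {R A : Type u} [CommRing R] [CommRing A] [Algebra R A] (𝒜 : ℕ → Submodule R A) [GradedAlgebra 𝒜]
    {B : Type u} [CommRing B] [Algebra R B] (ℬ : ℕ → Submodule R B) [GradedAlgebra ℬ]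
    [Algebra A B] [IsScalarTower R A B] (φ : 𝒜 →+*ᵍ ℬ) (hφ : ∀ a : A, φ a = algebraMap A B a)
    (z : B) (hz : z ∈ ℬ 1) (hhat : Function.Bijective (Polynomial.aeval (R := A) z))
    (ψ : ℬ →+*ᵍ 𝒜) (hψφ : ∀ a : A, ψ (φ a) = a) (hψz : ψ z = 0)
    (hψ : HomogeneousIdeal.irrelevant 𝒜 ≤ (HomogeneousIdeal.irrelevant ℬ).map ψ)
    (p : (PCone.dom φ : Scheme.{u}) ⟶ Proj 𝒜) (hp : ∀ (d : ℕ) (f : A) (hd : 0 < d) (hf : f ∈ 𝒜 d),
        PCone.chart φ hf hd ≫ p =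
          Spec.map (CommRingCat.ofHom (HomogeneousLocalization.Away.map φ f)) ≫ Proj.awayι 𝒜 f hf hd) :
    Surjective p ∧ ∃ j : Proj 𝒜 ⟶ (PCone.dom φ : Scheme.{u}), j ≫ (PCone.dom φ).ι = Proj.map ψ hψ ∧ j ≫ p = 𝟙 (Proj 𝒜) := by
  have hθ : ψ.comp φ = .id 𝒜 := by
    ext a
    exact hψφ a
  -- the range of `Proj(ψ)` lies in `G(φ)`
  have hrange : Set.range (Proj.map ψ hψ).base ⊆ Set.range (PCone.dom φ).ι.base := by
    rw [Scheme.Opens.range_ι]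
    rintro _ ⟨x, rfl⟩
    have hcov := (Proj.affineOpenCover 𝒜).covers x
    set i := (Proj.affineOpenCover 𝒜).idx x
    have hx : x ∈ Proj.basicOpen 𝒜 (i.2 : A) := by
      rw [← Proj.opensRange_awayι 𝒜 _ i.2.2 i.1.pos]
      exact hcov
    refine TopologicalSpace.Opens.mem_iSup.mpr ⟨⟨(i.2 : A), i.1, i.1.pos, i.2.2⟩, ?_⟩
    change x ∈ Proj.map ψ hψ ⁻¹ᵁ Proj.basicOpen ℬ (φ (i.2 : A))
    rw [Proj.map_preimage_basicOpen, hψφ]
    exact hx
  let j : Proj 𝒜 ⟶ (PCone.dom φ : Scheme.{u}) :=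
    IsOpenImmersion.lift (PCone.dom φ).ι (Proj.map ψ hψ) hrange
  have hj : j ≫ (PCone.dom φ).ι = Proj.map ψ hψ := IsOpenImmersion.lift_fac _ _ _
  have hjp : j ≫ p = 𝟙 (Proj 𝒜) := by
    -- cover of `Proj 𝒜` by `D_+(ψ (φ f))`
    let 𝒰 : (Proj 𝒜).AffineOpenCover :=
      Proj.affineOpenCoverOfIrrelevantLESpan 𝒜
        (fun s : (Proj.affineOpenCover 𝒜).I₀ ↦ ψ (φ (s.2 : A)))
        (m := fun s ↦ s.1) (fun s ↦ ψ.2 (φ.2 s.2.2)) (fun s ↦ s.1.pos) (by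
          classical
          intro a ha
          rw [← DirectSum.sum_support_decompose 𝒜 a]
          refine Ideal.sum_mem _ fun c hc ↦ if hc0 : c = 0 then ?_ else
            Ideal.subset_span ⟨⟨⟨c, Nat.pos_iff_ne_zero.mpr hc0⟩, _⟩, hψφ _⟩
          convert Ideal.zero_mem _
          subst hc0
          exact ha)
    have key : ∀ s : (Σ i : ℕ+, 𝒜 i),
        Proj.awayι 𝒜 (ψ (φ (s.2 : A))) (ψ.2 (φ.2 s.2.2)) s.1.pos ≫ j ≫ p =
          Proj.awayι 𝒜 (ψ (φ (s.2 : A))) (ψ.2 (φ.2 s.2.2)) s.1.pos ≫ 𝟙 _ := by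
      intro s
      have h1 : Proj.awayι 𝒜 (ψ (φ (s.2 : A))) (ψ.2 (φ.2 s.2.2)) s.1.pos ≫ j =
          Spec.map (CommRingCat.ofHom (HomogeneousLocalization.Away.map ψ (φ (s.2 : A)))) ≫
            PCone.chart φ s.2.2 s.1.pos := by
        rw [← cancel_mono (PCone.dom φ).ι, Category.assoc, Category.assoc, hj, chart_ι,
          Proj.awayι_comp_map]
      rw [reassoc_of% h1, hp _ _ s.1.pos s.2.2, Category.comp_id, ← Category.assoc, ← Spec.map_comp,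
        ← CommRingCat.ofHom_comp, ← HomogeneousLocalization.Away.map_comp]
      exact SpecMap_awayMap_eq_of_eq_id (ψ.comp φ) hθ s.2.2 s.1.pos
    refine 𝒰.openCover.hom_ext _ _ fun s ↦ ?_
    exact key s
  refine ⟨⟨fun x ↦ ⟨j.base x, ?_⟩⟩, j, hj, hjp⟩
  have := congrArg (fun ψ => ψ.base x) hjp
  exact this

end Groth.Agent.S3597
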