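import Groth.Statements.S3598
import Groth.Agent.S3576
import Groth.Agent.Lib.H60PConeMap

set_option autoImplicit false
set_option linter.unusedSectionVars false
universe u
open AlgebraicGeometry CategoryTheory Limits

namespace Groth.Agent.S3598

open HomogeneousLocalization
open scoped Polynomial LaurentPolynomial
open Groth.Agent.S3576 (mk1 psi psi_of_mem mk1_self val_mk1)

section Alg

variable {R A : Type u} [CommRing R] [CommRing A] [Algebra R A] {𝒜 : ℕ → Submodule R A}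
  [GradedAlgebra 𝒜]
  {B : Type u} [CommRing B] [Algebra R B] {ℬ : ℕ → Submodule R B} [GradedAlgebra ℬ]
  [Algebra A B] (φ : 𝒜 →+*ᵍ ℬ) (hφ : ∀ a : A, φ a = algebraMap A B a)
  (z : B) (hz : z ∈ ℬ 1) (hhat : Function.Bijective (Polynomial.aeval (R := A) z))
  {g : A} (hg : g ∈ 𝒜 1)

/-- `z / g`. -/
noncomputable def zg : Away ℬ (φ g) := mk1 ℬ (φ.2 hg) 1 z hz

/-- `A_(g)[X] → B_(g)`, `X ↦ z / g`. -/
noncomputable def Theta : (Away 𝒜 g)[X] →+* Away ℬ (φ g) :=
  Polynomial.eval₂RingHom (Away.map φ g) (zg φ z hz hg)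

lemma Theta_C (c : Away 𝒜 g) : Theta φ z hz hg (Polynomial.C c) = Away.map φ g c :=
  Polynomial.eval₂_C _ _

lemma Theta_X : Theta φ z hz hg Polynomial.X = zg φ z hz hg :=
  Polynomial.eval₂_X _ _

lemma map_mk1 (i : ℕ) (a : A) (ha : a ∈ 𝒜 i) :
    Away.map φ g (mk1 𝒜 hg i a ha) = mk1 ℬ (φ.2 hg) i (φ a) (φ.2 ha) :=
  Away.map_mk _ _ _ _ _ _

/-- `A[X] ≃ B`. -/
noncomputable def hhatEquiv : A[X] ≃+* B :=
  RingEquiv.ofBijective (Polynomial.aeval (R := A) z).toRingHom hhat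

lemma hhatEquiv_apply (P : A[X]) : hhatEquiv z hhat P = Polynomial.aeval z P := rfl

/-- `B → A_(g)[X][T;T⁻¹]`, `a ↦ (a / g ^ i) T ^ i`, `z ↦ X T`. -/
noncomputable def F2 : B →+* (Away 𝒜 g)[X][T;T⁻¹] :=
  (Polynomial.eval₂RingHom
    ((AddMonoidAlgebra.mapRingHom ℤ (Polynomial.C : Away 𝒜 g →+* (Away 𝒜 g)[X])).comp (psi 𝒜 hg))
    (LaurentPolynomial.C Polynomial.X * LaurentPolynomial.T 1)).comp
    (hhatEquiv z hhat).symm.toRingHom

lemma F2_aeval (P : A[X]) :
    F2 z hhat hg (Polynomial.aeval z P) = Polynomial.eval₂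
      ((AddMonoidAlgebra.mapRingHom ℤ (Polynomial.C : Away 𝒜 g →+* (Away 𝒜 g)[X])).comp (psi 𝒜 hg))
      (LaurentPolynomial.C Polynomial.X * LaurentPolynomial.T 1) P := by
  unfold F2
  rw [RingHom.comp_apply, ← hhatEquiv_apply z hhat]
  change Polynomial.eval₂RingHom _ _ ((hhatEquiv z hhat).symm ((hhatEquiv z hhat) P)) = _
  rw [RingEquiv.symm_apply_apply]
  rfl

lemma mapRingHom_C_mul_T {S S' : Type u} [CommRing S] [CommRing S'] (f : S →+* S') (c : S) (n : ℤ) :
    AddMonoidAlgebra.mapRingHom ℤ f (LaurentPolynomial.C c * LaurentPolynomial.T n) =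
      LaurentPolynomial.C (f c) * LaurentPolynomial.T n := by
  rw [← LaurentPolynomial.single_eq_C_mul_T, ← LaurentPolynomial.single_eq_C_mul_T]
  exact AddMonoidAlgebra.mapRingHom_single _ _ _

include hφ in
lemma F2_phi (i : ℕ) (a : A) (ha : a ∈ 𝒜 i) :
    F2 z hhat hg (φ a) =
      LaurentPolynomial.C (Polynomial.C (mk1 𝒜 hg i a ha)) * LaurentPolynomial.T i := by
  have : φ a = Polynomial.aeval z (Polynomial.C a) := by
    rw [Polynomial.aeval_C, hφ]
  rw [this, F2_aeval, Polynomial.eval₂_C, RingHom.comp_apply, psi_of_mem 𝒜 hg i a ha,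
    mapRingHom_C_mul_T]

lemma F2_z : F2 z hhat hg z =
    LaurentPolynomial.C Polynomial.X * LaurentPolynomial.T 1 := by
  have h := F2_aeval z hhat hg (Polynomial.X : A[X])
  rw [Polynomial.aeval_X, Polynomial.eval₂_X] at h
  exact h

include hφ in
/-- Compatibility of the two "Laurent expansions". -/
lemma compat (b : B) :
    AddMonoidAlgebra.mapRingHom ℤ (Theta φ z hz hg) (F2 z hhat hg b) = psi ℬ (φ.2 hg) b := by
  obtain ⟨P, rfl⟩ := hhat.surjective b
  have key : ((AddMonoidAlgebra.mapRingHom ℤ (Theta φ z hz hg)).comp (F2 z hhat hg)).comp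
      (Polynomial.aeval (R := A) z).toRingHom =
      (psi ℬ (φ.2 hg)).comp (Polynomial.aeval (R := A) z).toRingHom := by
    apply Polynomial.ringHom_ext
    · intro a
      change AddMonoidAlgebra.mapRingHom ℤ (Theta φ z hz hg)
        (F2 z hhat hg (Polynomial.aeval z (Polynomial.C a))) =
          psi ℬ (φ.2 hg) (Polynomial.aeval z (Polynomial.C a))
      rw [Polynomial.aeval_C, ← hφ]
      induction a using DirectSum.Decomposition.inductionOn 𝒜 with
      | zero => simp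
      | @homogeneous i m =>
        rw [F2_phi φ hφ z hhat hg i m.1 m.2, mapRingHom_C_mul_T, Theta_C, map_mk1,
          psi_of_mem ℬ (φ.2 hg) i (φ m.1) (φ.2 m.2)]
      | add m m' hm hm' => rw [map_add, map_add, map_add, map_add, hm, hm']
    · change AddMonoidAlgebra.mapRingHom ℤ (Theta φ z hz hg)
        (F2 z hhat hg (Polynomial.aeval z Polynomial.X)) =
          psi ℬ (φ.2 hg) (Polynomial.aeval z Polynomial.X)
      rw [Polynomial.aeval_X, F2_z, mapRingHom_C_mul_T, Theta_X,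
        psi_of_mem ℬ (φ.2 hg) 1 z hz]
      rfl
  exact congrArg (fun f ↦ f P) key

include hφ hhat in
lemma Theta_surjective : Function.Surjective (Theta φ z hz hg) := by
  intro y
  obtain ⟨n, b, hb, rfl⟩ := Away.mk_surjective ℬ (φ.2 hg) y
  have hb' : b ∈ ℬ n := by rwa [smul_eq_mul, mul_one] at hb
  have h := compat φ hφ z hz hhat hg b
  rw [psi_of_mem ℬ (φ.2 hg) n b hb', ← LaurentPolynomial.single_eq_C_mul_T] at h
  refine ⟨(F2 z hhat hg b).coeff (n : ℤ), ?_⟩
  have h2 := congrArg (fun f : (Away ℬ (φ g))[T;T⁻¹] ↦ f.coeff (n : ℤ)) h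
  simp only [AddMonoidAlgebra.coeff_mapRingHom, AddMonoidAlgebra.coeff_single,
    Finsupp.single_eq_same] at h2
  exact h2

/-- dehomogenisation `B → A_(g)[X]` (`g ↦ 1`, `z ↦ X`). -/
noncomputable def Xi : B →+* (Away 𝒜 g)[X] :=
  (LaurentPolynomial.eval₂ (RingHom.id (Away 𝒜 g)[X]) 1).comp (F2 z hhat hg)

include hφ in
lemma Xi_phi (i : ℕ) (a : A) (ha : a ∈ 𝒜 i) :
    Xi z hhat hg (φ a) = Polynomial.C (mk1 𝒜 hg i a ha) := by
  unfold Xi
  rw [RingHom.comp_apply, F2_phi φ hφ z hhat hg i a ha, LaurentPolynomial.eval₂_C_mul_T]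
  simp

lemma Xi_z : Xi z hhat hg z = Polynomial.X := by
  unfold Xi
  rw [RingHom.comp_apply, F2_z, LaurentPolynomial.eval₂_C_mul_T]
  simp

include hφ in
lemma Xi_phi_g : Xi z hhat hg (φ g) = 1 := by
  rw [Xi_phi φ hφ z hhat hg 1 g hg, mk1_self, map_one]

/-- `B_(g) → A_(g)[X]`. -/
noncomputable def Lambda : Away ℬ (φ g) →+* (Away 𝒜 g)[X] :=
  (Localization.awayLift (Xi z hhat hg) (φ g)
    (by rw [Xi_phi_g φ hφ z hhat hg]; exact isUnit_one)).comp
    (algebraMap (Away ℬ (φ g)) (Localization.Away (φ g)))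

lemma Lambda_mk1 (i : ℕ) (b : B) (hb : b ∈ ℬ i) :
    Lambda φ hφ z hhat hg (mk1 ℬ (φ.2 hg) i b hb) = Xi z hhat hg b := by
  unfold Lambda
  rw [RingHom.comp_apply, HomogeneousLocalization.algebraMap_apply, val_mk1,
    Localization.mk_eq_mk'_apply]
  unfold Localization.awayLift IsLocalization.Away.lift
  rw [IsLocalization.lift_mk'_spec]
  change Xi z hhat hg b = Xi z hhat hg ((φ g) ^ i) * _
  rw [map_pow, Xi_phi_g φ hφ z hhat hg, one_pow, one_mul]

lemma Lambda_comp_Theta :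
    (Lambda φ hφ z hhat hg).comp (Theta φ z hz hg) = RingHom.id _ := by
  apply Polynomial.ringHom_ext
  · intro c
    obtain ⟨n, a, ha, rfl⟩ := Away.mk_surjective 𝒜 hg c
    have ha' : a ∈ 𝒜 n := by rwa [smul_eq_mul, mul_one] at ha
    change Lambda φ hφ z hhat hg (Theta φ z hz hg (Polynomial.C (mk1 𝒜 hg n a ha'))) =
      Polynomial.C (mk1 𝒜 hg n a ha')
    rw [Theta_C, map_mk1, Lambda_mk1, Xi_phi φ hφ z hhat hg n a ha']
  · change Lambda φ hφ z hhat hg (Theta φ z hz hg Polynomial.X) = Polynomial.X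
    rw [Theta_X]
    unfold zg
    rw [Lambda_mk1, Xi_z]

include hφ hhat in
lemma Theta_bijective : Function.Bijective (Theta φ z hz hg) := by
  refine ⟨?_, Theta_surjective φ hφ z hz hhat hg⟩
  intro P Q hPQ
  have := congrArg (Lambda φ hφ z hhat hg) hPQ
  have h := Lambda_comp_Theta φ hφ z hz hhat hg
  rw [← RingHom.comp_apply, ← RingHom.comp_apply, h] at this
  exact this

/-- `A_(g)[X] ≃ B_(g)`. -/
noncomputable def thetaEquiv : (Away 𝒜 g)[X] ≃+* Away ℬ (φ g) :=
  RingEquiv.ofBijective (Theta φ z hz hg) (Theta_bijective φ hφ z hz hhat hg)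

lemma thetaEquiv_C (c : Away 𝒜 g) :
    thetaEquiv φ hφ z hz hhat hg (Polynomial.C c) = Away.map φ g c :=
  Theta_C φ z hz hg c

include hφ z hz hhat hg in
lemma finiteType_map : (Away.map φ g).FiniteType := by
  have h1 : (Polynomial.C : Away 𝒜 g →+* (Away 𝒜 g)[X]).FiniteType := by
    have : Algebra.FiniteType (Away 𝒜 g) (Away 𝒜 g)[X] := inferInstance
    exact RingHom.finiteType_algebraMap.mpr this
  have h2 := h1.comp_surjective (g := Theta φ z hz hg) (Theta_surjective φ hφ z hz hhat hg)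
  convert h2 using 1
  ext c : 1
  exact (Theta_C φ z hz hg c).symm

end Alg

section PO

lemma isPushout_poly (R S : Type u) [CommRing R] [CommRing S] (ρ : R →+* S) :
    IsPushout (CommRingCat.ofHom ρ) (CommRingCat.ofHom (Polynomial.C : R →+* R[X]))
      (CommRingCat.ofHom (Polynomial.C : S →+* S[X]))
      (CommRingCat.ofHom (Polynomial.mapRingHom ρ)) := by
  algebraize [ρ, Polynomial.mapRingHom ρ]
  exact CommRingCat.isPushout_of_isPushout R S R[X] S[X]

variable {R A : Type u} [CommRing R] [CommRing A] [Algebra R A] {𝒜 : ℕ → Submodule R A}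
  [GradedAlgebra 𝒜]
  {B : Type u} [CommRing B] [Algebra R B] {ℬ : ℕ → Submodule R B} [GradedAlgebra ℬ]
  [Algebra A B] (φ : 𝒜 →+*ᵍ ℬ) (hφ : ∀ a : A, φ a = algebraMap A B a)
  (z : B) (hz : z ∈ ℬ 1) (hhat : Function.Bijective (Polynomial.aeval (R := A) z))
  {g : A} (hg : g ∈ 𝒜 1)

/-- The pushout square `A_(g) → B_(g)`, `A_(g) → K`. -/
lemma isPushout_away {K : Type u} [CommRing K] (ρ : Away 𝒜 g →+* K) :
    IsPushout (CommRingCat.ofHom (Away.map φ g)) (CommRingCat.ofHom ρ)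
      (CommRingCat.ofHom ((Polynomial.mapRingHom ρ).comp
        (thetaEquiv φ hφ z hz hhat hg).symm.toRingHom))
      (CommRingCat.ofHom (Polynomial.C : K →+* K[X])) := by
  refine (isPushout_poly (Away 𝒜 g) K ρ).flip.of_iso (Iso.refl _)
    (thetaEquiv φ hφ z hz hhat hg).toCommRingCatIso (Iso.refl _) (Iso.refl _) ?_ ?_ ?_ ?_
  · refine CommRingCat.hom_ext (RingHom.ext fun c => ?_)
    exact thetaEquiv_C φ hφ z hz hhat hg c
  · simp
  · refine CommRingCat.hom_ext (RingHom.ext fun P => ?_)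
    change Polynomial.mapRingHom ρ P =
      Polynomial.mapRingHom ρ ((thetaEquiv φ hφ z hz hhat hg).symm
        ((thetaEquiv φ hφ z hz hhat hg) P))
    rw [RingEquiv.symm_apply_apply]
  · simp

end PO

theorem result {R A : Type u} [CommRing R] [CommRing A] [Algebra R A] (𝒜 : ℕ → Submodule R A) [GradedAlgebra 𝒜]
    {B : Type u} [CommRing B] [Algebra R B] (ℬ : ℕ → Submodule R B) [GradedAlgebra ℬ]
    [Algebra A B] [IsScalarTower R A B] (φ : 𝒜 →+*ᵍ ℬ) (hφ : ∀ a : A, φ a = algebraMap A B a)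
    (z : B) (hz : z ∈ ℬ 1) (hhat : Function.Bijective (Polynomial.aeval (R := A) z))
    (hgen : (HomogeneousIdeal.irrelevant 𝒜).toIdeal = Ideal.span (𝒜 1 : Set A))
    (p : (PCone.dom φ : Scheme.{u}) ⟶ Proj 𝒜) (hp : ∀ (d : ℕ) (f : A) (hd : 0 < d) (hf : f ∈ 𝒜 d),
        PCone.chart φ hf hd ≫ p =
          Spec.map (CommRingCat.ofHom (HomogeneousLocalization.Away.map φ f)) ≫ Proj.awayι 𝒜 f hf hd) (x : Proj 𝒜) :
    LocallyOfFiniteType p ∧ QuasiCompact p ∧
      ∃ e : pullback p ((Proj 𝒜).fromSpecResidueField x) ≅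
          Spec (CommRingCat.of (Polynomial ((Proj 𝒜).residueField x))),
        e.hom ≫ Spec.map (CommRingCat.ofHom (algebraMap ((Proj 𝒜).residueField x)
          (Polynomial ((Proj 𝒜).residueField x)))) = pullback.snd p ((Proj 𝒜).fromSpecResidueField x) := by
  refine ⟨?_, ?_, ?_⟩
  · have : IsZariskiLocalAtTarget @LocallyOfFiniteType.{u} :=
      HasRingHomProperty.instIsZariskiLocalAtTarget _
    apply IsZariskiLocalAtTarget.of_openCover (P := @LocallyOfFiniteType)
      (Groth.Agent.S3576.cover1 𝒜 hgen).openCover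
    intro i
    have sq := (Groth.Agent.Lib.H60PConeMap.isPullback_chart φ p hp i.2 Nat.one_pos).flip
    have h1 : LocallyOfFiniteType (Spec.map (CommRingCat.ofHom (Away.map φ i.1))) := by
      rw [HasRingHomProperty.Spec_iff (P := @LocallyOfFiniteType)]
      exact finiteType_map φ hφ z hz hhat i.2
    have h2 : sq.isoPullback.inv ≫ _ = pullback.snd _ _ := sq.isoPullback_inv_snd
    change LocallyOfFiniteType (pullback.snd p (Proj.awayι 𝒜 i.1 i.2 Nat.one_pos))
    rw [← h2]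
    infer_instance
  · have : IsAffineHom p := by
      apply isAffineHom_of_forall_exists_isAffineOpen
      intro y
      have hcov := (Proj.affineOpenCover 𝒜).covers y
      set i := (Proj.affineOpenCover 𝒜).idx y
      have hy : y ∈ Proj.basicOpen 𝒜 (i.2 : A) := by
        rw [← Proj.opensRange_awayι 𝒜 _ i.2.2 i.1.2]
        exact hcov
      refine ⟨Proj.basicOpen 𝒜 (i.2 : A), hy, Proj.isAffineOpen_basicOpen 𝒜 _ i.2.2 i.1.2, ?_⟩
      rw [Groth.Agent.Lib.H60PConeMap.preimage_basicOpen φ p hp i.2.2,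
        ← Groth.Agent.Lib.H60PConeMap.opensRange_chart φ i.2.2 i.1.2]
      exact isAffineOpen_opensRange _
    infer_instance
  · have hx := (Groth.Agent.S3576.cover1 𝒜 hgen).covers x
    set g := (Groth.Agent.S3576.cover1 𝒜 hgen).idx x with hgdef
    have hx' : x ∈ Set.range (Proj.awayι 𝒜 g.1 g.2 Nat.one_pos).base := hx
    let l : Spec ((Proj 𝒜).residueField x) ⟶ Spec (.of (Away 𝒜 g.1)) :=
      IsOpenImmersion.lift (Proj.awayι 𝒜 g.1 g.2 Nat.one_pos)
        ((Proj 𝒜).fromSpecResidueField x)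
        (by rw [Scheme.range_fromSpecResidueField]; simpa using hx')
    have hl : l ≫ Proj.awayι 𝒜 g.1 g.2 Nat.one_pos = (Proj 𝒜).fromSpecResidueField x :=
      IsOpenImmersion.lift_fac _ _ _
    let ρ : Away 𝒜 g.1 →+* ((Proj 𝒜).residueField x) := (Spec.preimage l).hom
    have hρ : Spec.map (CommRingCat.ofHom ρ) = l := Spec.map_preimage l
    have po := isPushout_away φ hφ z hz hhat g.2 ρ
    have pb1 := isPullback_SpecMap_of_isPushout _ _ _ _ po
    have pb2 := (Groth.Agent.Lib.H60PConeMap.isPullback_chart φ p hp g.2 Nat.one_pos).flip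
    have pb := pb1.paste_horiz pb2
    rw [hρ, hl] at pb
    exact ⟨pb.isoPullback.symm, pb.isoPullback_inv_snd⟩

end Groth.Agent.S3598
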