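import Groth.Statements.S3624
-- import your own Groth.Agent.* helpers here
import Mathlib
import Groth.Agent.S3627

set_option autoImplicit false
set_option linter.style.haveILetI false
universe u
open CategoryTheory CategoryTheory.Limits AlgebraicGeometry
attribute [local instance] HasDerivedCategory.standard
open Dual3

namespace Groth.Agent.S3624

open IsLocalRing

theorem main (X Y : Scheme.{u}) [IsLocallyNoetherian Y] (f : X ⟶ Y) [Flat f]
    (hX : Dual3.IsGorenstein X) (x : X) :
    Dual3.IsGorensteinAt f x ∧ LocCoh.IsGorensteinLocalRing (Y.presheaf.stalk (f x)) := by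
  rw [Groth.Agent.S3627.isGorensteinAt_iff f x]
  letI algAB : Algebra (Y.presheaf.stalk (f x)) (X.presheaf.stalk x) :=
    (f.stalkMap x).hom.toAlgebra
  haveI : IsLocalHom (algebraMap (Y.presheaf.stalk (f x)) (X.presheaf.stalk x)) :=
    (inferInstance : IsLocalHom (f.stalkMap x).hom)
  have hflat : (f.stalkMap x).hom.Flat := Flat.stalkMap f x
  haveI : Module.Flat (Y.presheaf.stalk (f x)) (X.presheaf.stalk x) := hflat
  haveI hG : LocCoh.IsGorensteinLocalRing (X.presheaf.stalk x) := hX.2 x
  haveI : IsNoetherianRing (X.presheaf.stalk x) := inferInstance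
  haveI : IsNoetherianRing (Y.presheaf.stalk (f x)) := inferInstance
  obtain ⟨h1, h2⟩ := (Groth.Agent.S0344.result (Y.presheaf.stalk (f x)) (X.presheaf.stalk x)).mp hG
  exact ⟨⟨hflat, h2⟩, h1⟩

/-- Let f : X → Y be a flat morphism of locally Noetherian schemes with X Gorenstein. Then f is a
Gorenstein morphism (flat with Gorenstein local rings of fibres at every point) and the local ring
O_{Y, f(x)} is Gorenstein for every point x of X. -/
theorem result (X Y : Scheme.{u}) [IsLocallyNoetherian Y] (f : X ⟶ Y) [Flat f] (hX : Dual3.IsGorenstein X) : Dual3.IsGorensteinMor f ∧ ∀ x : X, LocCoh.IsGorensteinLocalRing (Y.presheaf.stalk (f x)) := by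
  exact ⟨fun x => (main X Y f hX x).1, fun x => (main X Y f hX x).2⟩

end Groth.Agent.S3624
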