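import Groth.Statements.S3630
-- import your own Groth.Agent.* helpers here
import Mathlib
import Groth.Agent.Lib.ClosedPushAdj83

set_option autoImplicit false
set_option linter.style.haveILetI false
universe u
open CategoryTheory CategoryTheory.Limits AlgebraicGeometry
attribute [local instance] HasDerivedCategory.standard
open Dual3

namespace Groth.Agent.S3630

/-- For a closed immersion of schemes i : Z → X. The direct image functor i_* from O_Z-modules to
O_X-modules is a left adjoint: it has a right adjoint, the functor sending F to the O_Z-module of
sections of F annihilated by the ideal of Z. -/
theorem result (Z X : Scheme.{u}) (i : Z ⟶ X) [IsClosedImmersion i] : Dual3.HasHomO i := by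
  exact Groth.Agent.Lib.ClosedPushAdj83.isLeftAdjoint_pushforward i i.isClosedEmbedding

end Groth.Agent.S3630
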