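import Groth.Statements.S3670
-- import your own Groth.Agent.* helpers here
import Mathlib
import Groth.Agent.S3617
import Groth.Agent.Lib.GorOpen83
import Groth.Agent.Lib.CMQF33l
import Groth.Agent.Lib.H26CMDim
import Groth.Agent.Lib.H30QFChart
import Groth.Agent.Lib.GorChartFlat83

set_option autoImplicit false
set_option linter.style.haveILetI false
universe u
open CategoryTheory CategoryTheory.Limits AlgebraicGeometry
attribute [local instance] HasDerivedCategory.standard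
open Dual3

namespace Groth.Agent.S3670

open Groth.Agent.Lib Groth.Agent.Lib.GorOpen83

theorem localFibreDim_eq_fibreDimAt {X S : Scheme.{u}} (f : X ⟶ S) (x : X) :
    Dual3.localFibreDim f x = FlatMor.fibreDimAt f x := by
  unfold Dual3.localFibreDim FlatMor.fibreDimAt FlatMor.localDim
  rw [iInf_subtype']
  rfl

section chart

variable {X S : Scheme.{u}} (f : X ⟶ S) [LocallyOfFiniteType f] {n : Type u} [Finite n]
  (U : X.Opens) (g : (U : Scheme.{u}) ⟶ 𝔸(n; S)) (hg : g ≫ (𝔸(n; S) ↘ S) = U.ι ≫ f)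

include hg

omit [Finite n] in
lemma lft_chart : LocallyOfFiniteType g := by
  haveI : LocallyOfFiniteType (g ≫ (𝔸(n; S) ↘ S)) := by rw [hg]; infer_instance
  exact locallyOfFiniteType_of_comp g (𝔸(n; S) ↘ S)

lemma s3627_chart (y : ↥(U : Scheme.{u})) :
    (Dual3.IsGorensteinAt g y → Dual3.IsGorensteinAt (𝔸(n; S) ↘ S) (g y) →
      Dual3.IsGorensteinAt (g ≫ (𝔸(n; S) ↘ S)) y) ∧
    (Dual3.IsGorensteinAt (g ≫ (𝔸(n; S) ↘ S)) y → (g.stalkMap y).hom.Flat →
      Dual3.IsGorensteinAt g y ∧ Dual3.IsGorensteinAt (𝔸(n; S) ↘ S) (g y)) := by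
  haveI : LocallyOfFiniteType (g ≫ (𝔸(n; S) ↘ S)) := by rw [hg]; infer_instance
  haveI : LocallyOfFiniteType g := lft_chart f U g hg
  exact Groth.Agent.S3627.result _ _ _ g (𝔸(n; S) ↘ S)
    (fun y => Groth.Agent.S3617.isLocallyNoetherian_fiber g y)
    (fun y => Groth.Agent.S3617.isLocallyNoetherian_fiber _ y)
    (fun z => Groth.Agent.S3617.isLocallyNoetherian_fiber _ z) y

lemma gor_of_chart (y : ↥(U : Scheme.{u})) (h : Dual3.IsGorensteinAt g y) :
    Dual3.IsGorensteinAt f (U.ι y) := by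
  rw [← isGorensteinAt_comp_openImmersion_left U.ι f y, ← isGorensteinAt_congr hg y]
  exact (s3627_chart f U g hg y).1 h (isGorensteinAt_affineSpace_over _ S (g y))

lemma gor_chart_of_flat (y : ↥(U : Scheme.{u})) (hfl : (g.stalkMap y).hom.Flat)
    (h : Dual3.IsGorensteinAt f (U.ι y)) : Dual3.IsGorensteinAt g y := by
  rw [← isGorensteinAt_comp_openImmersion_left U.ι f y, ← isGorensteinAt_congr hg y] at h
  exact ((s3627_chart f U g hg y).2 h hfl).1

end chart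

theorem isCMAt_congr {X S : Scheme.{u}} {f f' : X ⟶ S} (h : f = f') (x : X) :
    MoreMor.IsCMAt f x ↔ MoreMor.IsCMAt f' x := by
  subst h; rfl

theorem fibreDimAt_congr {X S : Scheme.{u}} {f f' : X ⟶ S} (h : f = f') (x : X) :
    FlatMor.fibreDimAt f x = FlatMor.fibreDimAt f' x := by
  subst h; rfl

/-- The hard direction (1) ⟹ (4): flatness of a chart which is quasi-finite at a Gorenstein
point. -/
theorem flat_chart {X S : Scheme.{u}} (f : X ⟶ S) [Flat f] [LocallyOfFinitePresentation f] (x : X)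
    (d : ℕ) (hd : FlatMor.fibreDimAt f x = (d : WithBot ℕ∞)) (hx : MoreMor.IsCMAt f x)
    (U : X.Opens) (hxU : x ∈ U) (g : (U : Scheme.{u}) ⟶ 𝔸(ULift.{u} (Fin d); S))
    (hg : g ≫ (𝔸(ULift.{u} (Fin d); S) ↘ S) = U.ι ≫ f)
    (hqf : Dual3.QuasiFiniteAt g ⟨x, hxU⟩) : (g.stalkMap ⟨x, hxU⟩).hom.Flat := by
  haveI : LocallyOfFinitePresentation (g ≫ (𝔸(ULift.{u} (Fin d); S) ↘ S)) := by
    rw [hg]; infer_instance
  haveI : LocallyOfFiniteType g := lft_chart f U g hg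
  have hcm' : MoreMor.IsCMAt (g ≫ (𝔸(ULift.{u} (Fin d); S) ↘ S)) ⟨x, hxU⟩ := by
    refine (isCMAt_congr hg _).mpr ?_
    exact (CMQF33.isCMAt_comp_openImmersion_left U.ι f ⟨x, hxU⟩).mpr hx
  have h1 : FlatMor.fibreDimAt (g ≫ (𝔸(ULift.{u} (Fin d); S) ↘ S)) ⟨x, hxU⟩ = d := by
    refine (fibreDimAt_congr hg _).trans ?_
    exact (H56OpenDim.fibreDimAt_ι_comp f U ⟨x, hxU⟩).trans hd
  exact GorChartFlat83.flat_stalkMap_of_quasiFiniteAt g (𝔸(ULift.{u} (Fin d); S) ↘ S) ⟨x, hxU⟩ d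
    hcm' (GorChartFlat83.isRegularLocalRing_stalk_fiber_affineSpace _ S _ _) h1
    (CMQF33.fibreDimAt_affineSpace_over d S (g ⟨x, hxU⟩))
    (Scheme.Hom.quasiFiniteAt_iff_isOpen_singleton_asFiber.mpr hqf)

/-- (1) ⇔ (2) ⇔ (3) ⇔ (4): Let f : X → S be flat and locally of finite presentation, x a point of X and
d = dim_x(X_{f(x)}) the local dimension of its fibre. Then the following are equivalent: (1) f is
Gorenstein at x; (2) there are an open neighbourhood U of x and a locally quasi-finite morphism g :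
U → A^d_S over S which is Gorenstein at x; (3) there are an open neighbourhood U of x and a locally
quasi-finite Gorenstein morphism g : U → A^d_S over S; (4) for every open neighbourhood U of x and
every morphism g : U → A^d_S over S, if x is isolated in its fibre under g (g is quasi-finite at x)
then g is Gorenstein at x. -/
theorem result (X S : Scheme.{u}) (f : X ⟶ S) [Flat f] [LocallyOfFinitePresentation f] (x : X) (d : ℕ) (hd : Dual3.localFibreDim f x = (d : WithBot ℕ∞)) : (Dual3.IsGorensteinAt f x ↔ ∃ (U : X.Opens) (hx : x ∈ U) (g : (U : Scheme.{u}) ⟶ AffineSpace (ULift.{u} (Fin d)) S), g ≫ (AffineSpace (ULift.{u} (Fin d)) S ↘ S) = U.ι ≫ f ∧ LocallyQuasiFinite g ∧ Dual3.IsGorensteinAt g ⟨x, hx⟩) ∧ (Dual3.IsGorensteinAt f x ↔ ∃ (U : X.Opens) (_ : x ∈ U) (g : (U : Scheme.{u}) ⟶ AffineSpace (ULift.{u} (Fin d)) S), g ≫ (AffineSpace (ULift.{u} (Fin d)) S ↘ S) = U.ι ≫ f ∧ LocallyQuasiFinite g ∧ Dual3.IsGorensteinMor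 g) ∧ (Dual3.IsGorensteinAt f x ↔ ∀ (U : X.Opens) (hx : x ∈ U) (g : (U : Scheme.{u}) ⟶ AffineSpace (ULift.{u} (Fin d)) S), g ≫ (AffineSpace (ULift.{u} (Fin d)) S ↘ S) = U.ι ≫ f → Dual3.QuasiFiniteAt g ⟨x, hx⟩ → Dual3.IsGorensteinAt g ⟨x, hx⟩) := by
  rw [localFibreDim_eq_fibreDimAt] at hd
  have hcm_of : Dual3.IsGorensteinAt f x → MoreMor.IsCMAt f x := by
    intro hx
    haveI := hx.2
    exact ⟨hx.1, H26CMDim.isCohenMacaulayLocalRing_of_gorenstein _⟩
  -- (1) ⟹ (3)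
  have h13 : Dual3.IsGorensteinAt f x → ∃ (U : X.Opens) (_ : x ∈ U)
      (g : (U : Scheme.{u}) ⟶ AffineSpace (ULift.{u} (Fin d)) S),
      g ≫ (AffineSpace (ULift.{u} (Fin d)) S ↘ S) = U.ι ≫ f ∧ LocallyQuasiFinite g ∧
        Dual3.IsGorensteinMor g := by
    intro hx
    obtain ⟨n, U, hxU, g, hg, hqf, hfl⟩ :=
      CMQF33.HasQFChart.exists_opens f x (CMQF33.hasQFChart f x (hcm_of hx))
    have hn := CMQF33.chart_dim_eq f x n U hxU g hg (Flat.stalkMap g _)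
    rw [hd] at hn
    have hdn : d = n := by exact_mod_cast hn
    subst hdn
    let W : X.Opens := ⟨{x | Dual3.IsGorensteinAt f x}, Groth.Agent.S3617.result X S f⟩
    have hle : U ⊓ W ≤ U := inf_le_left
    refine ⟨U ⊓ W, ⟨hxU, hx⟩, X.homOfLE hle ≫ g, ?_, inferInstance, ?_⟩
    · rw [Category.assoc, hg, ← Category.assoc, Scheme.homOfLE_ι]
    · intro y
      rw [isGorensteinAt_comp_openImmersion_left]
      apply gor_chart_of_flat f U g hg _ (Flat.stalkMap g _)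
      have hy : U.ι (X.homOfLE hle y) = (U ⊓ W).ι y := by
        rw [← Scheme.Hom.comp_apply, Scheme.homOfLE_ι]
      rw [hy]
      exact y.2.2
  -- (2) ⟹ (1)
  have h21 : (∃ (U : X.Opens) (hx : x ∈ U)
      (g : (U : Scheme.{u}) ⟶ AffineSpace (ULift.{u} (Fin d)) S),
      g ≫ (AffineSpace (ULift.{u} (Fin d)) S ↘ S) = U.ι ≫ f ∧ LocallyQuasiFinite g ∧
        Dual3.IsGorensteinAt g ⟨x, hx⟩) → Dual3.IsGorensteinAt f x := by
    rintro ⟨U, hxU, g, hg, -, hG⟩
    exact gor_of_chart f U g hg ⟨x, hxU⟩ hG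
  refine ⟨⟨fun hx => ?_, h21⟩, ⟨h13, fun h => ?_⟩, ⟨fun hx U hxU g hg hqf => ?_, fun h => ?_⟩⟩
  · obtain ⟨U, hxU, g, hg, hqf, hG⟩ := h13 hx
    exact ⟨U, hxU, g, hg, hqf, hG ⟨x, hxU⟩⟩
  · obtain ⟨U, hxU, g, hg, hqf, hG⟩ := h
    exact h21 ⟨U, hxU, g, hg, hqf, hG ⟨x, hxU⟩⟩
  · exact gor_chart_of_flat f U g hg ⟨x, hxU⟩
      (flat_chart f x d hd (hcm_of hx) U hxU g hg hqf) hx
  · obtain ⟨U, hxU, g, hg, hqf⟩ :=
      H30QFChart.HasChart.exists_opens f x d (H30QFChart.hasChart f x d hd)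
    haveI : LocallyOfFiniteType g := lft_chart f U g hg
    have hq : Dual3.QuasiFiniteAt g ⟨x, hxU⟩ :=
      Scheme.Hom.quasiFiniteAt_iff_isOpen_singleton_asFiber.mp (g.quasiFiniteAt ⟨x, hxU⟩)
    exact h21 ⟨U, hxU, g, hg, hqf, h U hxU g hg hq⟩

end Groth.Agent.S3670
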