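import Groth.Statements.S3687
-- import your own Groth.Agent.* helpers here
import Groth.Agent.Lib.EffDescCharts2H52
import Groth.Agent.Lib.FinChartsFiniteH52

set_option autoImplicit false
open CategoryTheory CategoryTheory.Limits AlgebraicGeometry Opposite
universe u
open SGA1

namespace Groth.Agent.S3687

/-- Let g : S' ⟶ S be finite, surjective and locally of finite presentation (S arbitrary). Then every
descent datum relative to g whose underlying scheme is etale, separated and quasi-compact over S' is
isomorphic to the canonical descent datum of a scheme etale, separated and quasi-compact over S.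
(Descent data relative to g are taken in functor-of-points form.) -/
theorem result {S' S : Scheme.{u}} (g : S' ⟶ S) [IsFinite g] [Surjective g]
    [LocallyOfFinitePresentation g]
    (D : Desc.SchDD g) [QuasiCompact D.obj.hom] [IsSeparated D.obj.hom] [Etale D.obj.hom] :
    ∃ U : Over S, QuasiCompact U.hom ∧ IsSeparated U.hom ∧ Etale U.hom ∧ Nonempty ((Desc.toDD g).obj U ≅ D) := by
  classical
  have hg : SGA1.UnivSubmersive g := by
    intro X' Y' i₁ i₂ f' hpb
    have h1 : IsFinite f' :=
      MorphismProperty.of_isPullback (P := @IsFinite) hpb.flip inferInstance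
    have h2 : Surjective f' :=
      MorphismProperty.of_isPullback (P := @Surjective) hpb.flip inferInstance
    exact f'.isClosedMap.isQuotientMap f'.continuous f'.surjective
  let D₁ : Desc.SchDDFam (fun _ : PUnit.{u + 1} => g) := (Desc.SchDDFam.ofSchDD.{u, u} g).obj D
  have : Etale (D₁.obj PUnit.unit).hom := inferInstanceAs (Etale D.obj.hom)
  have : QuasiCompact (D₁.obj PUnit.unit).hom := inferInstanceAs (QuasiCompact D.obj.hom)
  have : IsSeparated (D₁.obj PUnit.unit).hom := inferInstanceAs (IsSeparated D.obj.hom)
  obtain ⟨U, hU, hqc, hsep, ⟨e⟩⟩ :=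
    Groth.Agent.Lib.EffDescFamH52.exists_etale_iso_of_charts' g hg D₁
      (fun B _ _ hB _ h =>
        Groth.Agent.Lib.FinChartsFiniteH52.exists_finCharts_of_quasiFinite_of_isClosedMap B hB
          (pullback.snd g h) (pullback.snd g h).isClosedMap)
  exact ⟨U, hqc, hsep, hU, ⟨(Desc.SchDDFam.toSchDD.{u, u} g).mapIso e⟩⟩

end Groth.Agent.S3687
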