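import Groth.Statements.S3700
import Groth.Agent.Lib.H87RegSmooth
import Groth.Agent.Lib.ClosedImmStalk

set_option autoImplicit false
universe u
open SGA1

namespace Groth.Agent.S3700

open AlgebraicGeometry CategoryTheory CategoryTheory.Limits in
/-- Let S be locally Noetherian, f : X -> S locally of finite type, Y the closed subscheme of X defined
by a quasi-coherent ideal, and x a point of Y at which Y is smooth over S. Then X is smooth over S
at x if and only if the closed immersion of Y in X is regular at x, that is, the kernel of O_{X,x}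
-> O_{Y,x} is generated by a regular sequence. (Smoothness at a point is membership in Mathlib's
smooth locus, the set of points where the map of local rings is formally smooth.) -/
theorem result {X S : Scheme.{u}} [IsLocallyNoetherian S] (f : X ⟶ S)
    [LocallyOfFiniteType f] [LocallyOfFinitePresentation f] (I : X.IdealSheafData)
    [LocallyOfFinitePresentation (I.subschemeι ≫ f)] (x : ↥I.subscheme) (hY : x ∈ (I.subschemeι ≫ f).smoothLocus) :
    I.subschemeι.base x ∈ f.smoothLocus ↔ CInt.IsRegularIdeal (RingHom.ker (I.subschemeι.stalkMap x).hom) := by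
  haveI : IsLocallyNoetherian X := LocallyOfFiniteType.isLocallyNoetherian f
  -- affine charts
  obtain ⟨_, ⟨U, hU, rfl⟩, hsU, -⟩ := S.isBasis_affineOpens.exists_subset_of_mem_open
    (Set.mem_univ (f.base (I.subschemeι.base x))) isOpen_univ
  obtain ⟨_, ⟨V, hV, rfl⟩, hxV, hVU⟩ :=
    X.isBasis_affineOpens.exists_subset_of_mem_open hsU (f ⁻¹ᵁ U).2
  -- rings
  letI : Algebra Γ(S, U) Γ(X, V) := (f.appLE U V hVU).hom.toAlgebra
  letI : Algebra Γ(X, V) (X.presheaf.stalk (I.subschemeι.base x)) :=
    X.presheaf.algebra_section_stalk ⟨I.subschemeι.base x, hxV⟩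
  letI : Algebra Γ(S, U) (X.presheaf.stalk (I.subschemeι.base x)) :=
    ((algebraMap Γ(X, V) (X.presheaf.stalk (I.subschemeι.base x))).comp
      (algebraMap Γ(S, U) Γ(X, V))).toAlgebra
  haveI : IsScalarTower Γ(S, U) Γ(X, V) (X.presheaf.stalk (I.subschemeι.base x)) :=
    IsScalarTower.of_algebraMap_eq' rfl
  haveI hloc : IsLocalization.AtPrime (X.presheaf.stalk (I.subschemeι.base x))
      (hV.primeIdealOf ⟨I.subschemeι.base x, hxV⟩).asIdeal :=
    hV.isLocalization_stalk ⟨I.subschemeι.base x, hxV⟩
  letI : Algebra (X.presheaf.stalk (I.subschemeι.base x)) (I.subscheme.presheaf.stalk x) :=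
    (I.subschemeι.stalkMap x).hom.toAlgebra
  letI : Algebra Γ(S, U) (I.subscheme.presheaf.stalk x) :=
    ((algebraMap (X.presheaf.stalk (I.subschemeι.base x)) (I.subscheme.presheaf.stalk x)).comp
      (algebraMap Γ(S, U) (X.presheaf.stalk (I.subschemeι.base x)))).toAlgebra
  haveI : IsScalarTower Γ(S, U) (X.presheaf.stalk (I.subschemeι.base x))
      (I.subscheme.presheaf.stalk x) := IsScalarTower.of_algebraMap_eq' rfl
  haveI : Algebra.FinitePresentation Γ(S, U) Γ(X, V) := f.finitePresentation_appLE hU hV hVU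
  haveI : IsNoetherianRing Γ(X, V) := IsLocallyNoetherian.component_noetherian ⟨V, hV⟩
  have hfg : (I.ideal ⟨V, hV⟩).FG := IsNoetherian.noetherian _
  -- `I(V) ⊆ p`
  have hIp : I.ideal ⟨V, hV⟩ ≤ (hV.primeIdealOf ⟨I.subschemeι.base x, hxV⟩).asIdeal := by
    intro b hb
    by_contra hbp
    rw [← Groth.Agent.Lib.ClosedImmStalk.mem_basicOpen_iff_notMem_primeIdealOf V hV _ hxV b] at hbp
    have h1 : x ∈ I.subschemeι ⁻¹ᵁ (X.basicOpen b) := hbp
    rw [Scheme.preimage_basicOpen] at h1
    have h2 : (I.subschemeι.app V).hom b = 0 := by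
      have : b ∈ I.subschemeι.ker.ideal ⟨V, hV⟩ := by rw [I.ker_subschemeι]; exact hb
      rwa [Scheme.Hom.ker_apply, RingHom.mem_ker] at this
    change x ∈ I.subscheme.basicOpen ((I.subschemeι.app V).hom b) at h1
    rw [h2, Scheme.basicOpen_zero] at h1
    exact h1
  have hπ : Function.Surjective (algebraMap (X.presheaf.stalk (I.subschemeι.base x))
      (I.subscheme.presheaf.stalk x)) := I.subschemeι.stalkMap_surjective x
  have hker : RingHom.ker (algebraMap (X.presheaf.stalk (I.subschemeι.base x))
      (I.subscheme.presheaf.stalk x)) = (I.ideal ⟨V, hV⟩).map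
        (algebraMap Γ(X, V) (X.presheaf.stalk (I.subschemeι.base x))) := by
    have := Groth.Agent.Lib.ClosedImmStalk.ker_stalkMap_eq_map I.subschemeι ⟨V, hV⟩ x hxV
    rw [I.ker_subschemeι] at this
    exact this
  -- formal smoothness of `𝒪_{Y,x}` over `Γ(S, U)`
  haveI : Algebra.FormallySmooth Γ(S, U) (I.subscheme.presheaf.stalk x) := by
    letI : Algebra Γ(S, U) (S.presheaf.stalk (f.base (I.subschemeι.base x))) :=
      S.presheaf.algebra_section_stalk ⟨f.base (I.subschemeι.base x), hsU⟩
    haveI : IsLocalization.AtPrime (S.presheaf.stalk (f.base (I.subschemeι.base x)))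
        (hU.primeIdealOf ⟨f.base (I.subschemeι.base x), hsU⟩).asIdeal :=
      hU.isLocalization_stalk ⟨f.base (I.subschemeι.base x), hsU⟩
    haveI : Algebra.FormallySmooth Γ(S, U) (S.presheaf.stalk (f.base (I.subschemeι.base x))) :=
      Algebra.FormallySmooth.of_isLocalization
        (hU.primeIdealOf ⟨f.base (I.subschemeι.base x), hsU⟩).asIdeal.primeCompl
    letI : Algebra (S.presheaf.stalk (f.base (I.subschemeι.base x)))
        (I.subscheme.presheaf.stalk x) := ((I.subschemeι ≫ f).stalkMap x).hom.toAlgebra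
    haveI : Algebra.FormallySmooth (S.presheaf.stalk (f.base (I.subschemeι.base x)))
        (I.subscheme.presheaf.stalk x) := hY
    haveI : IsScalarTower Γ(S, U) (S.presheaf.stalk (f.base (I.subschemeι.base x)))
        (I.subscheme.presheaf.stalk x) := by
      refine IsScalarTower.of_algebraMap_eq (fun a => ?_)
      change (I.subschemeι.stalkMap x).hom ((X.presheaf.germ V _ hxV).hom
        ((f.appLE U V hVU).hom a)) = ((I.subschemeι ≫ f).stalkMap x).hom
          ((S.presheaf.germ U _ hsU).hom a)
      rw [Scheme.Hom.stalkMap_comp]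
      change _ = (I.subschemeι.stalkMap x).hom ((f.stalkMap (I.subschemeι.base x)).hom
        ((S.presheaf.germ U _ hsU).hom a))
      congr 1
      have := Scheme.Hom.germ_stalkMap_apply f U (I.subschemeι.base x) hsU a
      erw [this]
      rw [Scheme.Hom.appLE, CommRingCat.comp_apply]
      exact TopCat.Presheaf.germ_res_apply X.presheaf (homOfLE hVU) _ hxV _
    exact Algebra.FormallySmooth.comp Γ(S, U) (S.presheaf.stalk (f.base (I.subschemeι.base x))) _
  have key := Groth.Agent.Lib.H87RegSmooth.formallySmooth_iff_isRegularIdeal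
    (A := Γ(S, U)) (B := Γ(X, V)) (T := X.presheaf.stalk (I.subschemeι.base x))
    (Tb := I.subscheme.presheaf.stalk x) (I.ideal ⟨V, hV⟩) hfg
    (hV.primeIdealOf ⟨I.subschemeι.base x, hxV⟩).asIdeal hIp hπ hker
  have hker' : RingHom.ker (I.subschemeι.stalkMap x).hom = (I.ideal ⟨V, hV⟩).map
      (algebraMap Γ(X, V) (X.presheaf.stalk (I.subschemeι.base x))) := hker
  rw [hker', ← key, Scheme.Hom.mem_smoothLocus, formallySmooth_stalkMap_iff U hU V hV hVU hxV]
  let e : X.presheaf.stalk (I.subschemeι.base x) ≃ₐ[Γ(X, V)]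
      Localization.AtPrime (hV.primeIdealOf ⟨I.subschemeι.base x, hxV⟩).asIdeal :=
    IsLocalization.algEquiv (hV.primeIdealOf ⟨I.subschemeι.base x, hxV⟩).asIdeal.primeCompl _ _
  constructor
  · intro h
    haveI : Algebra.FormallySmooth Γ(S, U)
        (Localization.AtPrime (hV.primeIdealOf ⟨I.subschemeι.base x, hxV⟩).asIdeal) := h
    exact Algebra.FormallySmooth.of_equiv (e.restrictScalars Γ(S, U)).symm
  · intro h
    exact Algebra.FormallySmooth.of_equiv (e.restrictScalars Γ(S, U))

end Groth.Agent.S3700
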