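import Groth.Statements.S3707
import Mathlib.AlgebraicGeometry.PullbackCarrier
-- import your own Groth.Agent.* helpers here

set_option autoImplicit false
universe u
open SGA1

namespace Groth.Agent.S3707

open AlgebraicGeometry CategoryTheory CategoryTheory.Limits in
/-- Let g : S' -> S be a surjective morphism of schemes, X and Y schemes over S with Y unramified over S
(formally unramified and locally of finite type), and X', Y' their base changes to S'. Then the map
sending an S-morphism X -> Y to the induced S'-morphism X' -> Y' is injective. -/
theorem result {S S' X Y : Scheme.{u}} (g : S' ⟶ S) [Surjective g]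
    (p : X ⟶ S) (q : Y ⟶ S) [FormallyUnramified q] [LocallyOfFiniteType q]
    (u v : X ⟶ Y) (hu : p ≫ 𝟙 S = u ≫ q) (hv : p ≫ 𝟙 S = v ≫ q)
    (h : pullback.map p g q g u (𝟙 S') (𝟙 S) hu ((Category.comp_id _).trans (Category.id_comp _).symm) =
      pullback.map p g q g v (𝟙 S') (𝟙 S) hv ((Category.comp_id _).trans (Category.id_comp _).symm)) :
    u = v := by
  have hu' : u ≫ q = p := by rw [← hu, Category.comp_id]
  have hv' : v ≫ q = p := by rw [← hv, Category.comp_id]
  -- the projection from the base change is surjective
  have hπ : Surjective (pullback.fst p g) := inferInstance
  -- the two composites agree after base change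
  have hπuv : pullback.fst p g ≫ u = pullback.fst p g ≫ v := by
    have h1 := congrArg (fun t => t ≫ pullback.fst q g) h
    simp only [pullback.map, pullback.lift_fst] at h1
    exact h1
  -- the locus where `u` and `v` agree, as a pullback of the diagonal
  let w : X ⟶ pullback q q := pullback.lift u v (by rw [hu', hv'])
  have hE : IsOpenImmersion (pullback.fst w (pullback.diagonal q)) :=
    MorphismProperty.pullback_fst (P := @IsOpenImmersion) w (pullback.diagonal q) inferInstance
  have hEuv : pullback.fst w (pullback.diagonal q) ≫ u =
      pullback.fst w (pullback.diagonal q) ≫ v := by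
    have c := pullback.condition (f := w) (g := pullback.diagonal q)
    have c1 := congrArg (fun t => t ≫ pullback.fst q q) c
    have c2 := congrArg (fun t => t ≫ pullback.snd q q) c
    simp only [Category.assoc, w, pullback.lift_fst, pullback.lift_snd,
      pullback.diagonal_fst, pullback.diagonal_snd, Category.comp_id] at c1 c2
    rw [c1, c2]
  let l : pullback p g ⟶ pullback w (pullback.diagonal q) :=
    pullback.lift (pullback.fst p g) (pullback.fst p g ≫ u) (by
      apply pullback.hom_ext
      · simp only [Category.assoc, w, pullback.lift_fst, pullback.diagonal_fst, Category.comp_id]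
      · simp only [Category.assoc, w, pullback.lift_snd, pullback.diagonal_snd, Category.comp_id,
          hπuv])
  have hl : l ≫ pullback.fst w (pullback.diagonal q) = pullback.fst p g := pullback.lift_fst _ _ _
  have hsurj : Surjective (pullback.fst w (pullback.diagonal q)) := by
    have : Surjective (l ≫ pullback.fst w (pullback.diagonal q)) := by rw [hl]; exact hπ
    exact Surjective.of_comp l _
  have hiso : IsIso (pullback.fst w (pullback.diagonal q)) := by
    apply isIso_of_isOpenImmersion_of_opensRange_eq_top
    ext x
    simp
  exact (cancel_epi (pullback.fst w (pullback.diagonal q))).1 hEuv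

end Groth.Agent.S3707
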