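import Groth.Statements.S3709
-- import your own Groth.Agent.* helpers here
import Groth.Agent.Lib.EtDescH52

set_option autoImplicit false
universe u
open SGA1

namespace Groth.Agent.S3709

open AlgebraicGeometry CategoryTheory CategoryTheory.Limits in
/-- A universally submersive morphism is a descent morphism for etale schemes (exactness of Hom_S(X, Y)
-> Hom_S'(X', Y') => Hom_S''(X'', Y'')): let g : S' -> S be universally submersive, X and Y schemes
over S with Y etale over S, X' and Y' their base changes along g, and f' : X' -> Y' an S'-morphism
whose two pullbacks to S'' = S' x_S S' coincide (equivalently: the two composites X'' -> X' -> Y' ->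
Y along the two projections agree). Then there is exactly one S-morphism u : X -> Y whose base
change is f'. -/
theorem result {S S' X Y : Scheme.{u}} (g : S' ⟶ S) (hg : SGA1.UnivSubmersive g)
    (p : X ⟶ S) (q : Y ⟶ S) [Etale q]
    (f' : pullback p g ⟶ pullback q g) (hf' : f' ≫ pullback.snd q g = pullback.snd p g)
    (hcoc : pullback.map p (pullback.fst g g ≫ g) p g (𝟙 X) (pullback.fst g g) (𝟙 S)
        ((Category.comp_id _).trans (Category.id_comp _).symm) (Category.comp_id _) ≫ f' ≫ pullback.fst q g =
      pullback.map p (pullback.fst g g ≫ g) p g (𝟙 X) (pullback.snd g g) (𝟙 S)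
        ((Category.comp_id _).trans (Category.id_comp _).symm) ((Category.comp_id _).trans pullback.condition) ≫
        f' ≫ pullback.fst q g) :
    ∃! u : X ⟶ Y, u ≫ q = p ∧ f' ≫ pullback.fst q g = pullback.fst p g ≫ u := by
  have hgq : Topology.IsQuotientMap g :=
    hg _ _ _ (IsPullback.of_vert_isIso (snd := 𝟙 S') (f := 𝟙 S) ⟨by simp⟩)
  have hgs : Surjective g := ⟨hgq.surjective⟩
  let π : pullback p g ⟶ X := pullback.fst p g
  have hπs : Surjective π := inferInstanceAs (Surjective (pullback.fst p g))
  let h : pullback p g ⟶ Y := f' ≫ pullback.fst q g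
  have hq : h ≫ q = π ≫ p := by
    show (f' ≫ pullback.fst q g) ≫ q = pullback.fst p g ≫ p
    rw [Category.assoc, pullback.condition, ← Category.assoc, hf', pullback.condition]
  -- the base change of `π` to `X ×_S Y` is a base change of `g`
  have hquot : Topology.IsQuotientMap (pullback.snd π (pullback.fst p q)) := by
    have top : IsPullback (pullback.snd π (pullback.fst p q)) (pullback.fst π (pullback.fst p q))
        (pullback.fst p q) π := (IsPullback.of_hasPullback π (pullback.fst p q)).flip
    have bot : IsPullback π (pullback.snd p g) p g := IsPullback.of_hasPullback p g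
    exact hg _ _ _ (top.paste_vert bot)
  -- the cocycle condition
  have hcoc' : pullback.fst π π ≫ h = pullback.snd π π ≫ h := by
    have c1 : (pullback.fst π π ≫ pullback.snd p g) ≫ g = (pullback.snd π π ≫ pullback.snd p g) ≫ g := by
      rw [Category.assoc, Category.assoc, ← pullback.condition (f := p) (g := g)]
      show pullback.fst π π ≫ π ≫ p = pullback.snd π π ≫ π ≫ p
      rw [← Category.assoc, pullback.condition, Category.assoc]
    let s : pullback π π ⟶ pullback g g :=
      pullback.lift (pullback.fst π π ≫ pullback.snd p g) (pullback.snd π π ≫ pullback.snd p g) c1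
    have hs1 : s ≫ pullback.fst g g = pullback.fst π π ≫ pullback.snd p g := pullback.lift_fst _ _ _
    have hs2 : s ≫ pullback.snd g g = pullback.snd π π ≫ pullback.snd p g := pullback.lift_snd _ _ _
    have c2 : (pullback.fst π π ≫ π) ≫ p = s ≫ pullback.fst g g ≫ g := by
      rw [← Category.assoc s, hs1, Category.assoc, Category.assoc,
        ← pullback.condition (f := p) (g := g)]
    let n : pullback π π ⟶ pullback p (pullback.fst g g ≫ g) :=
      pullback.lift (pullback.fst π π ≫ π) s c2
    have hn1 : n ≫ pullback.fst p (pullback.fst g g ≫ g) = pullback.fst π π ≫ π :=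
      pullback.lift_fst _ _ _
    have hn2 : n ≫ pullback.snd p (pullback.fst g g ≫ g) = s := pullback.lift_snd _ _ _
    have e1 : n ≫ pullback.map p (pullback.fst g g ≫ g) p g (𝟙 X) (pullback.fst g g) (𝟙 S)
        ((Category.comp_id _).trans (Category.id_comp _).symm) (Category.comp_id _) =
        pullback.fst π π := by
      apply pullback.hom_ext
      · rw [Category.assoc, pullback.lift_fst, ← Category.assoc, hn1, Category.comp_id]
      · rw [Category.assoc, pullback.lift_snd, ← Category.assoc, hn2, hs1]
    have e2 : n ≫ pullback.map p (pullback.fst g g ≫ g) p g (𝟙 X) (pullback.snd g g) (𝟙 S)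
        ((Category.comp_id _).trans (Category.id_comp _).symm)
        ((Category.comp_id _).trans pullback.condition) = pullback.snd π π := by
      apply pullback.hom_ext
      · rw [Category.assoc, pullback.lift_fst, ← Category.assoc, hn1, Category.comp_id]
        exact pullback.condition
      · rw [Category.assoc, pullback.lift_snd, ← Category.assoc, hn2, hs2]
    have := congrArg (n ≫ ·) hcoc
    simp only [← Category.assoc] at this
    rw [e1, e2] at this
    simpa only [Category.assoc] using this
  obtain ⟨u, hu1, hu2⟩ :=
    Groth.Agent.Lib.EtDescH52.exists_desc_of_isQuotientMap p q π hquot h hq hcoc'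
  refine ⟨u, ⟨hu1, hu2.symm⟩, ?_⟩
  rintro v ⟨hv1, hv2⟩
  have hdiag : IsOpenImmersion (pullback.diagonal q) := inferInstance
  exact Groth.Agent.Lib.EtDescH52.eq_of_surjective_comp q v u (hv1.trans hu1.symm) π
    (hv2.symm.trans hu2.symm)

end Groth.Agent.S3709
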