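import Groth.Statements.S3713
import Groth.Agent.Lib.H87SecChart

set_option autoImplicit false
universe u
open SGA1

namespace Groth.Agent.S3713

open AlgebraicGeometry CategoryTheory CategoryTheory.Limits in
/-- Let Y be locally Noetherian, f : X -> Y locally of finite type, i a section of f and y a point of Y.
Then X is smooth over Y at i(y) (i(y) lies in the smooth locus of f) if and only if there are an
open neighbourhood U of y, an open V of X with i(U) ⊆ V ⊆ f^{-1}(U), and finitely many sections of
O_X over V, all vanishing along i(U), which define an etale U-morphism from V to an affine space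
over U (so that this etale chart carries the section to the zero section). -/
theorem result {X Y : Scheme.{u}} [IsLocallyNoetherian Y] (f : X ⟶ Y)
    [LocallyOfFiniteType f] [LocallyOfFinitePresentation f] (i : Y ⟶ X) (hi : i ≫ f = 𝟙 Y) (y : Y) :
    i.base y ∈ f.smoothLocus ↔
      ∃ (U : Y.Opens) (V : X.Opens) (_ : y ∈ U) (hUV : U ≤ i ⁻¹ᵁ V) (hVU : V ≤ f ⁻¹ᵁ U) (m : ℕ)
        (v : ULift.{u} (Fin m) → Γ(V, ⊤)),
        Etale (AffineSpace.homOfVector (f.resLE U V hVU) v) ∧ ∀ j, (i.resLE V U hUV).appTop (v j) = 0 := by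
  constructor
  · intro hx
    exact Groth.Agent.Lib.H87SecChart.exists_chart f i hi y hx
  · rintro ⟨U, V, hyU, hUV, hVU, m, v, hEt, -⟩
    haveI := hEt
    haveI : Smooth (𝔸(ULift.{u} (Fin m); U) ↘ U) :=
      Groth.Agent.Lib.H87SecChart.smooth_affineSpace_over _
    have h1 : Smooth (f.resLE U V hVU) := by
      rw [← AffineSpace.homOfVector_over (f.resLE U V hVU) v]
      infer_instance
    have h2 : Smooth (V.ι ≫ f) := by
      rw [← Scheme.Hom.resLE_comp_ι f hVU]
      infer_instance
    have hxV : i.base y ∈ V := hUV hyU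
    have h3 := Scheme.Hom.preimage_smoothLocus_eq V.ι f
    rw [Scheme.Hom.smoothLocus_eq_top (V.ι ≫ f)] at h3
    have h4 : (⟨i.base y, hxV⟩ : V) ∈ V.ι ⁻¹ᵁ f.smoothLocus := by
      rw [h3]; trivial
    exact h4

end Groth.Agent.S3713
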