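import Groth.Statements.S3731
import Mathlib.Algebra.Homology.DerivedCategory.TStructure
import Mathlib.CategoryTheory.Triangulated.TStructure.TruncLEGT

set_option autoImplicit false
universe u v
open CategoryTheory CategoryTheory.Limits
attribute [local instance] HasDerivedCategory.standard
open EtDl

namespace Groth.Agent.S3731

open DerivedCategory Pretriangulated Triangulated

variable {A : Type u} [Category.{v} A] [Abelian A]

/-- A map between objects concentrated in degree `n` which is zero on `H^n` is zero. -/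
lemma eq_zero_of_heart (n : ℤ) {P Q : DerivedCategory A} [P.IsGE n] [P.IsLE n] [Q.IsGE n]
    [Q.IsLE n] (g : P ⟶ Q) (hg : (homologyFunctor A n).map g = 0) : g = 0 := by
  obtain ⟨P', ⟨eP⟩⟩ := exists_iso_singleFunctor_obj_of_isGE_of_isLE P n
  obtain ⟨Q', ⟨eQ⟩⟩ := exists_iso_singleFunctor_obj_of_isGE_of_isLE Q n
  obtain ⟨h, hh⟩ := (singleFunctor A n).map_surjective (eP.inv ≫ g ≫ eQ.hom)
  have h0 : (homologyFunctor A n).map ((singleFunctor A n).map h) = 0 := by
    rw [hh, Functor.map_comp, Functor.map_comp, hg, zero_comp, comp_zero]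
  have hnat := (singleFunctorCompHomologyFunctorIso A n).hom.naturality h
  dsimp at hnat
  rw [h0, zero_comp] at hnat
  have hzero : h = 0 := by
    rw [← cancel_epi ((singleFunctorCompHomologyFunctorIso A n).hom.app P'), ← hnat, comp_zero]
  rw [hzero, Functor.map_zero] at hh
  have : g = eP.hom ≫ (eP.inv ≫ g ≫ eQ.hom) ≫ eQ.inv := by simp
  rw [this, ← hh, zero_comp, comp_zero]


noncomputable abbrev tS : TStructure (DerivedCategory A) := DerivedCategory.TStructure.t

/-- `H^n` of `X ⟶ τ_{≥ n} X` is an epimorphism when `X` is anything. -/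
lemma epi_homology_truncGEπ (n : ℤ) (X : DerivedCategory A) :
    Epi ((homologyFunctor A n).map ((tS.truncGEπ n).app X)) := by
  have hT := tS.triangleLTGE_distinguished n X
  have := (HomologySequence.epi_homologyMap_mor₂_iff _ hT n (n + 1) rfl).mpr ?_
  · exact this
  · apply IsZero.eq_of_tgt
    have : tS.IsLE ((tS.triangleLTGE n).obj X).obj₁ (n - 1) := inferInstance
    exact DerivedCategory.isZero_of_isLE _ (n - 1) (n + 1) (by omega)

/-- `H^n` of `τ_{≤ n} Z ⟶ Z` is a monomorphism. -/
lemma mono_homology_truncLEι (n : ℤ) (Z : DerivedCategory A) :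
    Mono ((homologyFunctor A n).map ((tS.truncLEι n).app Z)) := by
  have hT := tS.triangleLEGT_distinguished n Z
  have := (HomologySequence.mono_homologyMap_mor₁_iff _ hT (n - 1) n (by omega)).mpr ?_
  · exact this
  · apply IsZero.eq_of_src
    have : tS.IsGE ((tS.triangleLEGT n).obj Z).obj₃ (n + 1) := by
      change tS.IsGE ((tS.truncGT n).obj Z) (n + 1)
      infer_instance
    exact DerivedCategory.isZero_of_isGE _ (n + 1) (n - 1) (by omega)

/-- A map from `D^{≤ n}` to `D^{≥ n}` which is zero on `H^n` is zero. -/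
lemma eq_zero_of_isLE_of_isGE (n : ℤ) {X Z : DerivedCategory A} [X.IsLE n] [Z.IsGE n]
    (h : X ⟶ Z) (hh : (homologyFunctor A n).map h = 0) : h = 0 := by
  obtain ⟨h', rfl⟩ := tS.descTruncGE_aux h n
  obtain ⟨h'', rfl⟩ := tS.liftTruncLE_aux h' n
  have := epi_homology_truncGEπ n X
  have := mono_homology_truncLEι n Z
  rw [Functor.map_comp, Functor.map_comp] at hh
  have h0 : (homologyFunctor A n).map h'' = 0 := by
    rw [← cancel_epi ((homologyFunctor A n).map ((tS.truncGEπ n).app X)),
      ← cancel_mono ((homologyFunctor A n).map ((tS.truncLEι n).app Z)), Category.assoc, hh,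
      comp_zero, zero_comp]
  rw [eq_zero_of_heart n h'' h0, zero_comp, comp_zero]

/-- If `X ∈ D^{≤ n}` and `f : X ⟶ Y` is zero on `H^n`, then `f` factors through `τ_{<n} Y`. -/
lemma exists_lift_truncLT (n : ℤ) {X Y : DerivedCategory A} [X.IsLE n]
    (f : X ⟶ Y) (hf : (homologyFunctor A n).map f = 0) :
    ∃ f' : X ⟶ (tS.truncLT n).obj Y, f = f' ≫ (tS.truncLTι n).app Y := by
  have h0 : f ≫ (tS.truncGEπ n).app Y = 0 := by
    refine eq_zero_of_isLE_of_isGE n _ ?_
    rw [Functor.map_comp, hf, zero_comp]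
  exact Triangle.coyoneda_exact₂ _ (tS.triangleLTGE_distinguished n Y) f h0


lemma δ_eq_zero_of_eq (T : Triangle (DerivedCategory A)) (n₀ n₀' n₁ : ℤ) (h : n₀ + 1 = n₁)
    (h' : n₀' + 1 = n₁) (hz : HomologySequence.δ T n₀ n₁ h = 0) :
    HomologySequence.δ T n₀' n₁ h' = 0 := by
  obtain rfl : n₀ = n₀' := by omega
  exact hz

lemma chain_vanish {N : ℕ} (K : ComposableArrows (DerivedCategory A) N) :
    ∀ (j i : ℕ) (hij : i + j = N) (n : ℤ),
      (∀ (l : ℕ) (hl : l ≤ N), (K.obj' l).IsGE (n - j + 1)) →
      (∀ (l : ℕ) (hl : l < N) (p : ℤ), p ≤ n →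
        (homologyFunctor A p).map (K.map' l (l + 1)) = 0) →
      ∀ (W : DerivedCategory A) (_ : W.IsLE n) (w : W ⟶ K.obj' i), w ≫ K.map' i N = 0 := by
  intro j
  induction j with
  | zero =>
    intro i hij n hGE _ W hW w
    have hi : i = N := by omega
    subst hi
    have := hGE i le_rfl
    have h2 : (K.obj' i).IsGE (n + 1) := by simpa using this
    rw [tS.zero w n (n + 1), zero_comp]
  | succ j ih =>
    intro i hij n hGE hzero W hW w
    have hf0 : (homologyFunctor A n).map (w ≫ K.map' i (i + 1)) = 0 := by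
      rw [Functor.map_comp, hzero i (by omega) n le_rfl, comp_zero]
    obtain ⟨w', hw'⟩ := exists_lift_truncLT n (w ≫ K.map' i (i + 1)) hf0
    have hIH := ih (i + 1) (by omega) (n - 1)
      (fun l hl => by
        have := hGE l hl
        have e : n - 1 - (j : ℤ) + 1 = n - ((j + 1 : ℕ) : ℤ) + 1 := by push_cast; omega
        rw [e]; exact this)
      (fun l hl p hp => hzero l hl p (by omega))
      ((tS.truncLT n).obj (K.obj' (i + 1))) inferInstance
      ((tS.truncLTι n).app (K.obj' (i + 1)))
    rw [K.map'_comp i (i + 1) N, ← Category.assoc, hw', Category.assoc, hIH, comp_zero]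

/-- Let A be an abelian category, k ≥ 0, and K_0 -> K_1 -> ... -> K_{2k} a chain of 2k morphisms in the
derived category of A such that every K_i has H^p(K_i) = 0 for p outside [0, k] and every morphism
K_i -> K_{i+1} induces the zero map on H^p for all p < k. Let π : K_0 -> H^k(K_0)[-k] be the
morphism to the top cohomology object placed in degree k that induces the identity on H^k. Then the
composite K_0 -> K_{2k} factors through π. -/
theorem result {A : Type u} [Category.{v} A] [Abelian A] (k : ℕ)
    (K : ComposableArrows (DerivedCategory A) (2 * k))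
    (hK : ∀ (i : ℕ) (hi : i ≤ 2 * k) (p : ℤ), p < 0 ∨ (k : ℤ) < p →
      IsZero ((DerivedCategory.homologyFunctor A p).obj (K.obj' i)))
    (hf : ∀ (i : ℕ) (hi : i < 2 * k) (p : ℤ), p < (k : ℤ) →
      (DerivedCategory.homologyFunctor A p).map (K.map' i (i + 1)) = 0)
    (π : K.obj' 0 ⟶ (DerivedCategory.singleFunctor A (k : ℤ)).obj
      ((DerivedCategory.homologyFunctor A (k : ℤ)).obj (K.obj' 0)))
    (hπ : (DerivedCategory.homologyFunctor A (k : ℤ)).map π ≫
      (DerivedCategory.singleFunctorCompHomologyFunctorIso A (k : ℤ)).hom.app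
        ((DerivedCategory.homologyFunctor A (k : ℤ)).obj (K.obj' 0)) = 𝟙 _) :
    ∃ φ : (DerivedCategory.singleFunctor A (k : ℤ)).obj
        ((DerivedCategory.homologyFunctor A (k : ℤ)).obj (K.obj' 0)) ⟶ K.obj' (2 * k),
      K.map' 0 (2 * k) = π ≫ φ := by
  classical
  have hπiso : IsIso ((DerivedCategory.homologyFunctor A (k : ℤ)).map π) := by
    have h1 : (DerivedCategory.homologyFunctor A (k : ℤ)).map π =
        inv ((DerivedCategory.singleFunctorCompHomologyFunctorIso A (k : ℤ)).hom.app
          ((DerivedCategory.homologyFunctor A (k : ℤ)).obj (K.obj' 0))) := by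
      rw [← cancel_mono ((DerivedCategory.singleFunctorCompHomologyFunctorIso A (k : ℤ)).hom.app
          ((DerivedCategory.homologyFunctor A (k : ℤ)).obj (K.obj' 0))), hπ, IsIso.inv_hom_id]
    rw [h1]; infer_instance
  obtain ⟨W, w, δ, hT⟩ := distinguished_cocone_triangle₁ π
  -- W is concentrated in degrees ≤ k - 1
  have hW : W.IsLE ((k : ℤ) - 1) := by
    rw [DerivedCategory.isLE_iff]
    intro p hp
    have hmor₁ : (homologyFunctor A p).map w = 0 := by
      by_cases hpk : p = (k : ℤ)
      · subst hpk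
        exact (HomologySequence.mono_homologyMap_mor₂_iff _ hT (k : ℤ)).mp
          (by change Mono ((homologyFunctor A (k : ℤ)).map π); infer_instance)
      · exact (hK 0 (by omega) p (Or.inr (by omega))).eq_of_tgt _ _
    have hδ : HomologySequence.δ (Triangle.mk w π δ) (p - 1) p (by omega) = 0 := by
      by_cases hpk : p = (k : ℤ) + 1
      · subst hpk
        have := (HomologySequence.epi_homologyMap_mor₂_iff _ hT (k : ℤ) ((k : ℤ) + 1) rfl).mp
          (by change Epi ((homologyFunctor A (k : ℤ)).map π); infer_instance)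
        exact δ_eq_zero_of_eq _ _ _ _ rfl _ this
      · apply IsZero.eq_of_src
        by_cases hlt : p - 1 < (k : ℤ)
        · exact DerivedCategory.isZero_of_isGE ((DerivedCategory.singleFunctor A (k : ℤ)).obj
            ((DerivedCategory.homologyFunctor A (k : ℤ)).obj (K.obj' 0))) (k : ℤ) (p - 1) hlt
        · exact DerivedCategory.isZero_of_isLE ((DerivedCategory.singleFunctor A (k : ℤ)).obj
            ((DerivedCategory.homologyFunctor A (k : ℤ)).obj (K.obj' 0))) (k : ℤ) (p - 1) (by omega)
    exact (HomologySequence.exact₁ _ hT (p - 1) p (by omega)).isZero_X₂ hδ hmor₁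
  have hvanish : w ≫ K.map' 0 (2 * k) = 0 := by
    refine chain_vanish K (2 * k) 0 (by omega) ((k : ℤ) - 1) ?_ ?_ W hW w
    · intro l hl
      have : (K.obj' l).IsGE 0 := by
        rw [DerivedCategory.isGE_iff]
        intro p hp
        exact hK l hl p (Or.inl hp)
      exact tS.isGE_of_ge _ _ 0 (by push_cast; omega)
    · intro l hl p hp
      exact hf l hl p (by omega)
  obtain ⟨φ, hφ⟩ := Triangle.yoneda_exact₂ _ hT (K.map' 0 (2 * k)) hvanish
  exact ⟨φ, hφ⟩

end Groth.Agent.S3731
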