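import Groth.Statements.S3779

set_option autoImplicit false
universe v u
open CategoryTheory CategoryTheory.Limits AlgebraicGeometry
attribute [local instance] HasDerivedCategory.standard
open KRR

namespace Groth.Agent.S3779

open LambdaRing Finset

variable {K : Type v} [CommRing K] [LambdaRing.LambdaOps K]

/-- `c_j = (-1)^j λ^j(e)`, the coefficients of `λ_{-t}(e)`. -/
def cc (e : K) (j : ℕ) : K := (-1) ^ j * LambdaOps.lam j e

theorem cc_zero (e : K) : cc e 0 = 1 := by simp [cc, LambdaOps.lam_zero]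

/-- The relation `σ_t(e) λ_{-t}(e) = 1` in degree `i ≥ 1`. -/
theorem sigma_rel (e : K) (i : ℕ) (hi : 1 ≤ i) :
    ∑ j ∈ range (i + 1), cc e j * KRR.sigma (i - j) e = 0 := by
  have h1 : (PowerSeries.rescale (-1 : K) (lamSeries e)) * KRR.sigmaSeries e = 1 := by
    apply PowerSeries.mul_invOfUnit
    rw [← PowerSeries.coeff_zero_eq_constantCoeff_apply, PowerSeries.coeff_rescale, lamSeries,
      PowerSeries.coeff_mk, pow_zero, one_mul, LambdaOps.lam_zero]
    rfl
  have h2 := congrArg (PowerSeries.coeff i) h1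
  rw [PowerSeries.coeff_mul, Finset.Nat.sum_antidiagonal_eq_sum_range_succ
    (fun a b => PowerSeries.coeff a (PowerSeries.rescale (-1 : K) (lamSeries e)) *
      PowerSeries.coeff b (KRR.sigmaSeries e))] at h2
  rw [PowerSeries.coeff_one, if_neg (by omega)] at h2
  rw [← h2]
  apply Finset.sum_congr rfl
  intro j _
  simp [cc, KRR.sigma, lamSeries, PowerSeries.coeff_rescale]

theorem sigma_zero (e : K) : KRR.sigma 0 e = 1 := by
  simp [KRR.sigma, KRR.sigmaSeries, PowerSeries.coeff_invOfUnit]

section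

variable (P : LambdaRing.PosStructure K) (e : K) (he : e ∈ P.pos) (m : ℕ) (hm : P.aug e = m)

include he hm in
theorem cc_eq_zero (j : ℕ) (hj : m < j) : cc e j = 0 := by
  rw [cc, P.lam_eq_zero e he j (by rw [hm]; exact_mod_cast hj), mul_zero]

include he hm in
theorem isUnit_cc_top : IsUnit (cc e m) := by
  have := P.isUnit_lam e he
  rw [hm, Int.toNat_natCast] at this
  rw [cc]
  exact ((isUnit_one.neg).pow m).mul this

include he hm in
/-- truncated form of `sigma_rel` valid for `i ≥ m`. -/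
theorem sigma_rel_trunc (i : ℕ) (hi : 1 ≤ i) (him : m ≤ i) :
    ∑ j ∈ range (m + 1), cc e j * KRR.sigma (i - j) e = 0 := by
  rw [← sigma_rel e i hi]
  apply Finset.sum_subset (Finset.range_subset_range.2 (by omega))
  intro j _ hj
  rw [cc_eq_zero P e he m hm j (by simpa using hj), zero_mul]

include hm in
/-- the defining relation of the root in `K_e`. -/
theorem root_rel :
    ∑ j ∈ range (m + 1), AdjoinRoot.of (KRR.extPoly P e) (cc e j) *
      AdjoinRoot.root (KRR.extPoly P e) ^ (m - j) = 0 := by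
  have h := AdjoinRoot.eval₂_root (KRR.extPoly P e)
  have hpoly : KRR.extPoly P e = ∑ i ∈ Finset.range (m + 1),
      Polynomial.C (cc e i) * Polynomial.X ^ (m - i) := by
    rw [KRR.extPoly, hm, Int.toNat_natCast]
    rfl
  have h' : (∑ i ∈ Finset.range (m + 1), Polynomial.C (cc e i) * Polynomial.X ^ (m - i)).eval₂
      (AdjoinRoot.of (KRR.extPoly P e)) (AdjoinRoot.root (KRR.extPoly P e)) = 0 := by
    rw [← hpoly]; exact h
  rw [← h', Polynomial.eval₂_finsetSum]
  apply Finset.sum_congr rfl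
  intro j _
  rw [Polynomial.eval₂_mul, Polynomial.eval₂_C, Polynomial.eval₂_X_pow]

end


section main

variable (P : LambdaRing.PosStructure K) (e : K) (he : e ∈ P.pos) (m : ℕ) (hm : P.aug e = m)
  (f : AdjoinRoot (KRR.extPoly P e) →ₗ[K] K)

theorem f_of_mul (c : K) (y : AdjoinRoot (KRR.extPoly P e)) :
    f (AdjoinRoot.of (KRR.extPoly P e) c * y) = c * f y := by
  rw [← AdjoinRoot.algebraMap_eq, ← Algebra.smul_def, map_smul, smul_eq_mul]

include he hm in
/-- Part one: `f(ℓ^i) = σ^i(e)` for all `i`, given it for `i < m`. -/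
theorem part1 (hm1 : 1 ≤ m)
    (hf : ∀ i : ℕ, i < m → f (AdjoinRoot.root (KRR.extPoly P e) ^ i) = KRR.sigma i e) :
    ∀ i : ℕ, f (AdjoinRoot.root (KRR.extPoly P e) ^ i) = KRR.sigma i e := by
  intro i
  induction i using Nat.strong_induction_on with
  | _ i ih =>
    rcases Nat.lt_or_ge i m with hi | hi
    · exact hf i hi
    · have h0 := root_rel P e m hm
      have h1 : ∑ j ∈ range (m + 1), cc e j * f (AdjoinRoot.root (KRR.extPoly P e) ^ (i - j)) = 0 := by
        have := congrArg (fun z => f (z * AdjoinRoot.root (KRR.extPoly P e) ^ (i - m))) h0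
        simp only [zero_mul, map_zero, Finset.sum_mul, map_sum] at this
        rw [← this]
        apply Finset.sum_congr rfl
        intro j hj
        have hj' := Finset.mem_range.mp hj
        rw [mul_assoc, ← pow_add, f_of_mul, show m - j + (i - m) = i - j by omega]
      have h2 := sigma_rel_trunc P e he m hm i (by omega) hi
      rw [Finset.sum_range_succ'] at h1 h2
      have h3 : ∑ j ∈ range m, cc e (j + 1) * f (AdjoinRoot.root (KRR.extPoly P e) ^ (i - (j + 1))) =
          ∑ j ∈ range m, cc e (j + 1) * KRR.sigma (i - (j + 1)) e := by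
        apply Finset.sum_congr rfl
        intro j _
        rw [ih (i - (j + 1)) (by omega)]
      rw [h3] at h1
      have h4 := h1.trans h2.symm
      simpa [cc_zero] using h4

theorem root_pow_mul_linv_pow_of_le (linv : AdjoinRoot (KRR.extPoly P e))
    (hlinv : linv * AdjoinRoot.root (KRR.extPoly P e) = 1) (a b : ℕ) (hab : b ≤ a) :
    AdjoinRoot.root (KRR.extPoly P e) ^ a * linv ^ b = AdjoinRoot.root (KRR.extPoly P e) ^ (a - b) := by
  obtain ⟨c, rfl⟩ := Nat.exists_eq_add_of_le hab
  rw [Nat.add_sub_cancel_left, pow_add, mul_comm (_ ^ b), mul_assoc, ← mul_pow, mul_comm _ linv, hlinv,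
    one_pow, mul_one]

theorem root_pow_mul_linv_pow_of_ge (linv : AdjoinRoot (KRR.extPoly P e))
    (hlinv : linv * AdjoinRoot.root (KRR.extPoly P e) = 1) (a b : ℕ) (hab : a ≤ b) :
    AdjoinRoot.root (KRR.extPoly P e) ^ a * linv ^ b = linv ^ (b - a) := by
  obtain ⟨c, rfl⟩ := Nat.exists_eq_add_of_le hab
  rw [Nat.add_sub_cancel_left, pow_add, ← mul_assoc, ← mul_pow, mul_comm _ linv, hlinv,
    one_pow, one_mul]

include he hm in
/-- Part two: `f(ℓ^{-n}) = 0` for `1 ≤ n < m`. -/
theorem part2
    (hf : ∀ i : ℕ, f (AdjoinRoot.root (KRR.extPoly P e) ^ i) = KRR.sigma i e)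
    (linv : AdjoinRoot (KRR.extPoly P e)) (hlinv : linv * AdjoinRoot.root (KRR.extPoly P e) = 1) :
    ∀ n : ℕ, 1 ≤ n → n < m → f (linv ^ n) = 0 := by
  intro n
  induction n using Nat.strong_induction_on with
  | _ n ih =>
    intro hn1 hnm
    obtain ⟨n', rfl⟩ := Nat.exists_eq_add_of_le' hn1
    have h0 := root_rel P e m hm
    have h1 := congrArg (fun z => f (z * linv ^ (n' + 1))) h0
    simp only [zero_mul, map_zero, Finset.sum_mul, map_sum] at h1
    rw [show m + 1 = (m - (n' + 1) + 1) + (n' + 1) by omega, Finset.sum_range_add] at h1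
    have hA : ∑ j ∈ range (m - (n' + 1) + 1),
        f (AdjoinRoot.of (KRR.extPoly P e) (cc e j) * AdjoinRoot.root (KRR.extPoly P e) ^ (m - j) *
          linv ^ (n' + 1)) = 0 := by
      rw [← sigma_rel e (m - (n' + 1)) (by omega)]
      apply Finset.sum_congr rfl
      intro j hj
      have hj' := Finset.mem_range.mp hj
      rw [mul_assoc, root_pow_mul_linv_pow_of_le P e linv hlinv _ _ (by omega), f_of_mul, hf,
        show m - j - (n' + 1) = m - (n' + 1) - j by omega]
    rw [hA, zero_add, Finset.sum_range_succ] at h1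
    have hB : ∑ t ∈ range n',
        f (AdjoinRoot.of (KRR.extPoly P e) (cc e (m - (n' + 1) + 1 + t)) *
          AdjoinRoot.root (KRR.extPoly P e) ^ (m - (m - (n' + 1) + 1 + t)) * linv ^ (n' + 1)) = 0 := by
      apply Finset.sum_eq_zero
      intro t ht
      have ht' := Finset.mem_range.mp ht
      rw [mul_assoc, root_pow_mul_linv_pow_of_ge P e linv hlinv _ _ (by omega), f_of_mul,
        show n' + 1 - (m - (m - (n' + 1) + 1 + t)) = t + 1 by omega,
        ih (t + 1) (by omega) (by omega) (by omega), mul_zero]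
    rw [hB, zero_add, mul_assoc, root_pow_mul_linv_pow_of_ge P e linv hlinv _ _ (by omega), f_of_mul,
      show m - (n' + 1) + 1 + n' = m by omega, show n' + 1 - (m - m) = n' + 1 by omega] at h1
    exact (isUnit_cc_top P e he m hm).mul_right_eq_zero.mp h1

end main

theorem result (K : Type v) [CommRing K] [LambdaRing.LambdaOps K] (P : LambdaRing.PosStructure K) (hK : LambdaRing.HasSplitting K P) (e : K) (he : e ∈ P.pos) (r : ℕ) (hr : P.aug e = r + 1)
    (f : AdjoinRoot (KRR.extPoly P e) →ₗ[K] K)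
    (hf : ∀ i : ℕ, i ≤ r → f (AdjoinRoot.root (KRR.extPoly P e) ^ i) = KRR.sigma i e)
    (linv : AdjoinRoot (KRR.extPoly P e)) (hlinv : linv * AdjoinRoot.root (KRR.extPoly P e) = 1) :
    (∀ i : ℕ, f (AdjoinRoot.root (KRR.extPoly P e) ^ i) = KRR.sigma i e) ∧
    ∀ n : ℕ, 1 ≤ n → n ≤ r → f (linv ^ n) = 0 := by
  have hm : P.aug e = ((r + 1 : ℕ) : ℤ) := by rw [hr]; push_cast; rfl
  have h1 := part1 P e he (r + 1) hm f (by omega) (fun i hi => hf i (by omega))
  refine ⟨h1, fun n hn1 hnr => ?_⟩
  exact part2 P e he (r + 1) hm f h1 linv hlinv n hn1 (by omega)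

end Groth.Agent.S3779
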