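import Groth.Statements.S3780
import Groth.Agent.S3779

set_option autoImplicit false
universe v u
open CategoryTheory CategoryTheory.Limits AlgebraicGeometry
attribute [local instance] HasDerivedCategory.standard
open KRR

namespace Groth.Agent.S3780

open LambdaRing Finset Groth.Agent.S3779

/-- Let K be a λ-ring with positive structure admitting a splitting, e a positive element of
augmentation ε(e) = r + 1, K_e = K[T]/(p_e(T)) the elementary extension of K with ℓ the class of T,
and f : K_e → K a K-linear functional with f(ℓ^i) = σ^i(e) for i ≤ r. For any λ-operations on K_e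
extending those of K with λ^i(ℓ) = 0 for i ≥ 2, and q = e − ℓ ∈ K_e, one has f(λ^0(q)) = 1 and
f(λ^i(q)) = 0 for all i ≥ 1; that is, f(λ_t(q)) = 1. -/
theorem result (K : Type v) [CommRing K] [LambdaRing.LambdaOps K] (P : LambdaRing.PosStructure K) (hK : LambdaRing.HasSplitting K P) (e : K) (he : e ∈ P.pos) (r : ℕ) (hr : P.aug e = r + 1)
    (inst : LambdaRing.LambdaOps (AdjoinRoot (KRR.extPoly P e)))
    (hext : ∀ (i : ℕ) (x : K), @LambdaRing.LambdaOps.lam _ _ inst i (AdjoinRoot.of (KRR.extPoly P e) x) =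
      AdjoinRoot.of (KRR.extPoly P e) (LambdaRing.LambdaOps.lam i x))
    (hroot : ∀ i : ℕ, 2 ≤ i → @LambdaRing.LambdaOps.lam _ _ inst i (AdjoinRoot.root (KRR.extPoly P e)) = 0)
    (f : AdjoinRoot (KRR.extPoly P e) →ₗ[K] K)
    (hf : ∀ i : ℕ, i ≤ r → f (AdjoinRoot.root (KRR.extPoly P e) ^ i) = KRR.sigma i e) (i : ℕ) :
    f (@LambdaRing.LambdaOps.lam _ _ inst i (AdjoinRoot.of (KRR.extPoly P e) e - AdjoinRoot.root (KRR.extPoly P e))) =
      if i = 0 then 1 else 0 := by
  have hm : P.aug e = ((r + 1 : ℕ) : ℤ) := by rw [hr]; push_cast; rfl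
  have hfall := part1 P e he (r + 1) hm f (by omega) (fun i hi => hf i (by omega))
  set ℓ := AdjoinRoot.root (KRR.extPoly P e) with hℓ
  set q := AdjoinRoot.of (KRR.extPoly P e) e - ℓ with hq
  -- recursion for μ_k = λ^k(q)
  have hrec : ∀ k : ℕ, @LambdaOps.lam _ _ inst (k + 1) q =
      AdjoinRoot.of (KRR.extPoly P e) (LambdaOps.lam (k + 1) e) - @LambdaOps.lam _ _ inst k q * ℓ := by
    intro k
    have h1 := @LambdaOps.lam_add _ _ inst (k + 1) q ℓ
    rw [show q + ℓ = AdjoinRoot.of (KRR.extPoly P e) e by rw [hq]; ring, hext,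
      Finset.sum_range_succ, Finset.sum_range_succ] at h1
    have h0 : ∑ i ∈ range k, @LambdaOps.lam _ _ inst i q * @LambdaOps.lam _ _ inst (k + 1 - i) ℓ = 0 := by
      apply Finset.sum_eq_zero
      intro i hi
      rw [hroot (k + 1 - i) (by have := Finset.mem_range.mp hi; omega), mul_zero]
    rw [h0, zero_add, Nat.sub_self, @LambdaOps.lam_zero _ _ inst, mul_one,
      show k + 1 - k = 1 by omega, @LambdaOps.lam_one _ _ inst] at h1
    rw [h1]; ring
  have hform : ∀ k : ℕ, @LambdaOps.lam _ _ inst k q =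
      ∑ j ∈ range (k + 1), AdjoinRoot.of (KRR.extPoly P e) ((-1) ^ (k - j) * LambdaOps.lam j e) * ℓ ^ (k - j) := by
    intro k
    induction k with
    | zero => simp [@LambdaOps.lam_zero _ _ inst, LambdaOps.lam_zero]
    | succ k ih =>
      rw [hrec, ih, Finset.sum_range_succ _ (k + 1), Nat.sub_self, pow_zero, pow_zero, mul_one, one_mul,
        Finset.sum_mul]
      have : ∀ j ∈ range (k + 1),
          AdjoinRoot.of (KRR.extPoly P e) ((-1) ^ (k - j) * LambdaOps.lam j e) * ℓ ^ (k - j) * ℓ =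
          -(AdjoinRoot.of (KRR.extPoly P e) ((-1) ^ (k + 1 - j) * LambdaOps.lam j e) * ℓ ^ (k + 1 - j)) := by
        intro j hj
        have hj' := Finset.mem_range.mp hj
        rw [show k + 1 - j = (k - j) + 1 by omega, pow_succ, pow_succ]
        simp only [map_mul, map_neg, map_one, map_pow]
        ring
      rw [Finset.sum_congr rfl this, Finset.sum_neg_distrib]
      ring
  rw [hform, map_sum]
  have hterm : ∀ j ∈ range (i + 1),
      f (AdjoinRoot.of (KRR.extPoly P e) ((-1) ^ (i - j) * LambdaOps.lam j e) * ℓ ^ (i - j)) =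
        (-1) ^ i * (cc e j * KRR.sigma (i - j) e) := by
    intro j hj
    have hj' := Finset.mem_range.mp hj
    rw [f_of_mul, hfall, cc]
    have : ((-1 : K)) ^ i = (-1) ^ (i - j) * (-1) ^ j := by rw [← pow_add]; congr 1; omega
    rw [this]
    have h2 : ((-1 : K)) ^ j * (-1) ^ j = 1 := by rw [← mul_pow]; simp
    linear_combination (-((-1 : K) ^ (i - j) * LambdaOps.lam j e * KRR.sigma (i - j) e)) * h2
  rw [Finset.sum_congr rfl hterm, ← Finset.mul_sum]
  rcases Nat.eq_zero_or_pos i with rfl | hi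
  · simp [cc_zero, sigma_zero]
  · rw [sigma_rel e i hi, mul_zero, if_neg (by omega)]

end Groth.Agent.S3780
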