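import Groth.Statements.S3781
import Groth.Agent.Lib.LambdaRing
import Groth.Agent.Lib.LambdaGamma6
-- import your own Groth.Agent.* helpers here

set_option autoImplicit false
universe v u
open CategoryTheory CategoryTheory.Limits AlgebraicGeometry
attribute [local instance] HasDerivedCategory.standard
open KRR

namespace Groth.Agent.S3781

open LambdaRing Groth.Agent.Lib.LambdaRing Groth.Agent.Lib.LambdaGamma6

section Det

variable {K : Type u} [CommRing K] [LambdaOps K]

/-- `z` has augmentation `n` and `λ^i z = 0` for `i > n`. -/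
def QP (P : PosStructure K) (z : K) (n : ℕ) : Prop :=
  P.aug z = n ∧ ∀ i, n < i → LambdaOps.lam i z = 0

lemma QP_zero (P : PosStructure K) : QP P (0 : K) 0 := by
  refine ⟨by simp, fun i hi => ?_⟩
  rw [← coeff_lamSeries, lamSeries_zero, PowerSeries.coeff_one, if_neg (by omega)]

lemma QP_pos (P : PosStructure K) {e : K} (he : e ∈ P.pos) : QP P e (P.aug e).toNat := by
  have h := Int.toNat_of_nonneg (P.aug_pos e he).le
  refine ⟨h.symm, fun i hi => P.lam_eq_zero e he i ?_⟩
  rw [← h]
  exact_mod_cast hi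

lemma QP_line (P : PosStructure K) {u : K} (hu : P.IsLine u) : QP P u 1 := by
  have := QP_pos P hu.1
  rw [hu.2] at this
  exact this

lemma QP.add {P : PosStructure K} {z w : K} {n m : ℕ} (hz : QP P z n) (hw : QP P w m) :
    QP P (z + w) (n + m) ∧
      LambdaOps.lam (n + m) (z + w) = LambdaOps.lam n z * LambdaOps.lam m w := by
  refine ⟨⟨by rw [map_add, hz.1, hw.1]; push_cast; rfl, fun k hk => ?_⟩, ?_⟩
  · rw [LambdaOps.lam_add]
    refine Finset.sum_eq_zero fun i hi => ?_
    by_cases h : n < i
    · rw [hz.2 i h, zero_mul]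
    · rw [hw.2 (k - i) (by omega), mul_zero]
  · rw [LambdaOps.lam_add, Finset.sum_eq_single n]
    · rw [Nat.add_sub_cancel_left]
    · intro i hi hne
      by_cases h : n < i
      · rw [hz.2 i h, zero_mul]
      · rw [hw.2 (n + m - i) (by omega), mul_zero]
    · intro h
      exact absurd (Finset.mem_range.2 (by omega)) h

/-- The determinant `λ^{ε(e)}(e)`. -/
def det (P : PosStructure K) (e : K) : K := LambdaOps.lam (P.aug e).toNat e

lemma det_of_QP {P : PosStructure K} {z : K} {n : ℕ} (h : QP P z n) :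
    det P z = LambdaOps.lam n z := by
  unfold det
  rw [h.1, Int.toNat_natCast]

lemma rk_of_QP {P : PosStructure K} {z : K} {n : ℕ} (h : QP P z n) :
    (P.aug z).toNat = n := by
  rw [h.1, Int.toNat_natCast]

lemma det_add_pos (P : PosStructure K) {e f : K} (he : e ∈ P.pos) (hf : f ∈ P.pos) :
    det P (e + f) = det P e * det P f := by
  obtain ⟨h1, h2⟩ := QP.add (QP_pos P he) (QP_pos P hf)
  rw [det_of_QP h1, h2]
  rfl

lemma isUnit_det (P : PosStructure K) {e : K} (he : e ∈ P.pos) : IsUnit (det P e) :=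
  P.isUnit_lam e he

lemma det_line (P : PosStructure K) {u : K} (hu : P.IsLine u) : det P u = u := by
  rw [det_of_QP (QP_line P hu), LambdaOps.lam_one]

/-- The elements of determinant one. -/
def T (P : PosStructure K) : Set K :=
  {x | ∀ e f, e ∈ P.pos → f ∈ P.pos → x = e - f → det P e = det P f}

lemma mem_T_of (P : PosStructure K) {x e f : K} (he : e ∈ P.pos) (hf : f ∈ P.pos)
    (hx : x = e - f) (h : det P e = det P f) : x ∈ T P := by
  intro e' f' he' hf' hx'
  have h1 : e' + f = f' + e := by
    have : e - f = e' - f' := by rw [← hx, ← hx']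
    linear_combination -this
  have h2 : det P e' * det P f = det P f' * det P f := by
    rw [← det_add_pos P he' hf, h1, det_add_pos P hf' he, h]
  exact (isUnit_det P hf).mul_left_inj.1 h2

lemma T_zero (P : PosStructure K) : (0 : K) ∈ T P := by
  intro e f _ _ h
  have : e = f := (sub_eq_zero.1 h.symm)
  rw [this]

lemma T_add (P : PosStructure K) {x y : K} (hx : x ∈ T P) (hy : y ∈ T P) : x + y ∈ T P := by
  obtain ⟨a, b, ha, hb, rfl⟩ := P.exists_sub x
  obtain ⟨c, d, hc, hd, rfl⟩ := P.exists_sub y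
  refine mem_T_of P (P.add_mem _ _ ha hc) (P.add_mem _ _ hb hd) (by ring) ?_
  rw [det_add_pos P ha hc, det_add_pos P hb hd, hx a b ha hb rfl, hy c d hc hd rfl]

lemma T_neg (P : PosStructure K) {x : K} (hx : x ∈ T P) : -x ∈ T P := by
  obtain ⟨a, b, ha, hb, rfl⟩ := P.exists_sub x
  exact mem_T_of P hb ha (by ring) (hx a b ha hb rfl).symm

/-- `T` as an additive subgroup. -/
def TG (P : PosStructure K) : AddSubgroup K where
  carrier := T P
  zero_mem' := T_zero P
  add_mem' := T_add P
  neg_mem' := T_neg P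

lemma mem_TG (P : PosStructure K) {x : K} : x ∈ TG P ↔ x ∈ T P := Iff.rfl

variable {K' : Type u} [CommRing K'] [LambdaOps K']

lemma map_det {P : PosStructure K} {P' : PosStructure K'} {φ : K →+* K'}
    (hφ : IsExtension P P' φ) (e : K) : φ (det P e) = det P' (φ e) := by
  unfold det
  rw [hφ.aug_comp, hφ.isLambdaHom]

lemma T_pullback {P : PosStructure K} {P' : PosStructure K'} {φ : K →+* K'}
    (hφ : IsExtension P P' φ) {x : K} (h : φ x ∈ T P') : x ∈ T P := by
  intro e f he hf hx
  apply hφ.injective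
  rw [map_det hφ, map_det hφ]
  exact h (φ e) (φ f) (hφ.pos_subset e he) (hφ.pos_subset f hf) (by rw [hx, map_sub])

/-! ### Multisets of line elements -/

lemma QP_multiset (P : PosStructure K) (s : Multiset K) (hs : ∀ u ∈ s, P.IsLine u) :
    QP P s.sum (Multiset.card s) ∧ LambdaOps.lam (Multiset.card s) s.sum = s.prod := by
  induction s using Multiset.induction_on with
  | empty =>
    refine ⟨by simpa using QP_zero P, ?_⟩
    simp [LambdaOps.lam_zero]
  | cons a s ih =>
    have ih' := ih fun u hu => hs u (Multiset.mem_cons_of_mem hu)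
    have ha := hs a (Multiset.mem_cons_self a s)
    obtain ⟨h1, h2⟩ := QP.add (QP_line P ha) ih'.1
    rw [Multiset.sum_cons, Multiset.prod_cons, Multiset.card_cons, Nat.add_comm]
    refine ⟨h1, ?_⟩
    rw [h2, LambdaOps.lam_one, ih'.2]

lemma QP_mul_multiset (P : PosStructure K) (s t : Multiset K) (hs : ∀ u ∈ s, P.IsLine u)
    (ht : ∀ u ∈ t, P.IsLine u) :
    QP P (s.sum * t.sum) (Multiset.card s * Multiset.card t) ∧
      LambdaOps.lam (Multiset.card s * Multiset.card t) (s.sum * t.sum) =
        s.prod ^ (Multiset.card t) * t.prod ^ (Multiset.card s) := by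
  induction s using Multiset.induction_on with
  | empty =>
    simp only [Multiset.sum_zero, zero_mul, Multiset.card_zero, Multiset.prod_zero, one_pow,
      pow_zero, mul_one]
    exact ⟨QP_zero P, LambdaOps.lam_zero _⟩
  | cons a s ih =>
    have ih' := ih fun u hu => hs u (Multiset.mem_cons_of_mem hu)
    have ha := hs a (Multiset.mem_cons_self a s)
    have hat : ∀ u ∈ t.map (fun v => a * v), P.IsLine u := by
      intro u hu
      obtain ⟨v, hv, rfl⟩ := Multiset.mem_map.1 hu
      exact isLine_mul P ha (ht v hv)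
    obtain ⟨h1, h2⟩ := QP_multiset P _ hat
    rw [Multiset.sum_map_mul_left, Multiset.card_map, Multiset.map_id'] at h1 h2
    rw [Multiset.prod_map_mul, Multiset.map_const', Multiset.prod_replicate,
      Multiset.map_id'] at h2
    obtain ⟨h3, h4⟩ := QP.add h1 ih'.1
    have e1 : (a ::ₘ s).sum * t.sum = a * t.sum + s.sum * t.sum := by
      rw [Multiset.sum_cons]; ring
    have e2 : Multiset.card (a ::ₘ s) * Multiset.card t =
        Multiset.card t + Multiset.card s * Multiset.card t := by
      rw [Multiset.card_cons]; ring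
    rw [e1, e2]
    refine ⟨h3, ?_⟩
    rw [h4, h2, ih'.2, Multiset.prod_cons, Multiset.card_cons]
    ring

/-! ### Splitting -/

lemma exists_split (P : PosStructure K) (hK : HasSplitting K P) {e : K} (he : e ∈ P.pos) :
    ∃ (L : PosLambdaRing.{u}) (φ : K →+* L.carrier), HasSplitting L.carrier L.posStr ∧
      IsExtension P L.posStr φ ∧
      ∃ s : Multiset L.carrier, (∀ u ∈ s, L.posStr.IsLine u) ∧ s.sum = φ e := by
  obtain ⟨C, hC, hsplit⟩ := hK
  obtain ⟨L', hL', f, hf, s, hs, hsum⟩ := hsplit ⟨K, P⟩ hC e he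
  exact ⟨L', f, ⟨C, hL', hsplit⟩, hf, s, hs, hsum⟩

lemma exists_split₂ (P : PosStructure K) (hK : HasSplitting K P) {e e' : K} (he : e ∈ P.pos)
    (he' : e' ∈ P.pos) :
    ∃ (L : PosLambdaRing.{u}) (φ : K →+* L.carrier), HasSplitting L.carrier L.posStr ∧
      IsExtension P L.posStr φ ∧
      ∃ s t : Multiset L.carrier, (∀ u ∈ s, L.posStr.IsLine u) ∧ (∀ u ∈ t, L.posStr.IsLine u) ∧
        s.sum = φ e ∧ t.sum = φ e' := by
  obtain ⟨L₁, φ₁, hL₁, hφ₁, s, hs, hsum⟩ := exists_split P hK he
  obtain ⟨L₂, φ₂, hL₂, hφ₂, t, ht, htsum⟩ :=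
    exists_split L₁.posStr hL₁ (hφ₁.pos_subset e' he')
  refine ⟨L₂, φ₂.comp φ₁, hL₂, isExtension_comp hφ₂ hφ₁, s.map φ₂, t, ?_, ht, ?_, htsum⟩
  · intro u hu
    obtain ⟨v, hv, rfl⟩ := Multiset.mem_map.1 hu
    exact isExtension_isLine hφ₂ (hs v hv)
  · rw [RingHom.comp_apply, ← hsum, map_multiset_sum]

lemma det_mul_pos (P : PosStructure K) (hK : HasSplitting K P) {e e' : K} (he : e ∈ P.pos)
    (he' : e' ∈ P.pos) :
    det P (e * e') = det P e ^ (P.aug e').toNat * det P e' ^ (P.aug e).toNat := by
  obtain ⟨L, φ, -, hφ, s, t, hs, ht, hsum, htsum⟩ := exists_split₂ P hK he he'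
  apply hφ.injective
  rw [map_det hφ, map_mul, map_mul, map_pow, map_pow, map_det hφ, map_det hφ,
    ← hφ.aug_comp e, ← hφ.aug_comp e', ← hsum, ← htsum]
  obtain ⟨h1, h2⟩ := QP_mul_multiset L.posStr s t hs ht
  obtain ⟨h3, h4⟩ := QP_multiset L.posStr s hs
  obtain ⟨h5, h6⟩ := QP_multiset L.posStr t ht
  rw [det_of_QP h1, det_of_QP h3, det_of_QP h5, rk_of_QP h3, rk_of_QP h5, h2, h4, h6]

/-- (a): products of two elements of augmentation zero have determinant one. -/
lemma mul_mem_T (P : PosStructure K) (hK : HasSplitting K P) {x y : K} (hx : P.aug x = 0)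
    (hy : P.aug y = 0) : x * y ∈ T P := by
  obtain ⟨a, b, ha, hb, rfl⟩ := P.exists_sub x
  obtain ⟨c, d, hc, hd, rfl⟩ := P.exists_sub y
  have hab : P.aug a = P.aug b := by
    rw [map_sub] at hx
    exact sub_eq_zero.1 hx
  have hcd : P.aug c = P.aug d := by
    rw [map_sub] at hy
    exact sub_eq_zero.1 hy
  refine mem_T_of P (P.add_mem _ _ (P.mul_mem _ _ ha hc) (P.mul_mem _ _ hb hd))
    (P.add_mem _ _ (P.mul_mem _ _ ha hd) (P.mul_mem _ _ hb hc)) (by ring) ?_
  rw [det_add_pos P (P.mul_mem _ _ ha hc) (P.mul_mem _ _ hb hd),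
    det_add_pos P (P.mul_mem _ _ ha hd) (P.mul_mem _ _ hb hc),
    det_mul_pos P hK ha hc, det_mul_pos P hK hb hd, det_mul_pos P hK ha hd,
    det_mul_pos P hK hb hc, hab, hcd]
  ring

/-! ### The γ-operations on the augmentation ideal -/

/-- `γ^i w` has augmentation zero for `i ≥ 1` and determinant one for `i ≥ 2`. -/
def G (P : PosStructure K) (w : K) : Prop :=
  ∀ i, 1 ≤ i → P.aug (gamma i w) = 0 ∧ (2 ≤ i → gamma i w ∈ T P)

lemma G_zero (P : PosStructure K) : G P (0 : K) := by
  intro i hi
  obtain ⟨b, rfl⟩ := Nat.exists_eq_succ_of_ne_zero (by omega : i ≠ 0)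
  rw [gamma_succ_zero]
  exact ⟨map_zero _, fun _ => T_zero P⟩

lemma G_line (P : PosStructure K) {u : K} (hu : P.IsLine u) : G P (u - 1) := by
  intro i hi
  have h : gamma i (u - 1) = if i = 1 then u - 1 else 0 := by
    rw [← coeff_gammaSeries, gammaSeries_line_sub_one P hu, map_add, PowerSeries.coeff_one,
      if_neg (by omega), zero_add, PowerSeries.coeff_C_mul, PowerSeries.coeff_X]
    split_ifs <;> simp
  rw [h]
  split_ifs with h1
  · refine ⟨by rw [map_sub, hu.2, map_one, sub_self], fun h2 => ?_⟩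
    omega
  · exact ⟨map_zero _, fun _ => T_zero P⟩

lemma G_add (P : PosStructure K) (hK : HasSplitting K P) {w w' : K} (hw : G P w)
    (hw' : G P w') : G P (w + w') := by
  intro k hk
  rw [gamma_add]
  refine ⟨?_, fun hk2 => ?_⟩
  · rw [map_sum]
    refine Finset.sum_eq_zero fun i hi => ?_
    rw [map_mul]
    rcases Nat.eq_zero_or_pos i with rfl | hi0
    · rw [(hw' (k - 0) (by omega)).1, mul_zero]
    · rw [(hw i hi0).1, zero_mul]
  · refine sum_mem (S := TG P) fun i hi => ?_
    have hik := Finset.mem_range.1 hi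
    rw [mem_TG]
    rcases Nat.eq_zero_or_pos i with rfl | hi0
    · rw [gamma_zero_eq, one_mul]
      exact (hw' (k - 0) (by omega)).2 (by omega)
    · rcases Nat.eq_zero_or_pos (k - i) with h0 | h0
      · rw [h0, gamma_zero_eq, mul_one]
        exact (hw i hi0).2 (by omega)
      · exact mul_mem_T P hK (hw i hi0).1 (hw' (k - i) h0).1

lemma G_neg (P : PosStructure K) (hK : HasSplitting K P) {w : K} (hw : G P w) : G P (-w) := by
  intro b
  induction b using Nat.strong_induction_on with
  | _ b ih =>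
    intro hb
    obtain ⟨b, rfl⟩ := Nat.exists_eq_succ_of_ne_zero (by omega : b ≠ 0)
    have h := gamma_add (b + 1) w (-w)
    rw [add_neg_cancel, gamma_succ_zero, Finset.sum_range_succ', gamma_zero_eq, one_mul,
      Nat.sub_zero] at h
    have h' : gamma (b + 1) (-w) =
        -∑ i ∈ Finset.range (b + 1), gamma (i + 1) w * gamma (b + 1 - (i + 1)) (-w) := by
      rw [eq_neg_iff_add_eq_zero, add_comm]
      exact h.symm
    rw [h']
    refine ⟨?_, fun hb2 => ?_⟩
    · rw [map_neg, map_sum, neg_eq_zero]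
      refine Finset.sum_eq_zero fun i _ => ?_
      rw [map_mul, (hw (i + 1) (by omega)).1, zero_mul]
    · refine (TG P).neg_mem (sum_mem (S := TG P) fun i hi => ?_)
      have hik := Finset.mem_range.1 hi
      rw [mem_TG]
      rcases Nat.eq_zero_or_pos (b + 1 - (i + 1)) with h0 | h0
      · rw [h0, gamma_zero_eq, mul_one]
        exact (hw (i + 1) (by omega)).2 (by omega)
      · exact mul_mem_T P hK (hw (i + 1) (by omega)).1
          (ih (b + 1 - (i + 1)) (by omega) h0).1

lemma G_multiset (P : PosStructure K) (hK : HasSplitting K P) (s : Multiset K)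
    (hs : ∀ u ∈ s, P.IsLine u) : G P (s.sum - (Multiset.card s : K)) := by
  induction s using Multiset.induction_on with
  | empty => simpa using G_zero P
  | cons a s ih =>
    have ih' := ih fun u hu => hs u (Multiset.mem_cons_of_mem hu)
    have ha := hs a (Multiset.mem_cons_self a s)
    have e : (a ::ₘ s).sum - (Multiset.card (a ::ₘ s) : K) =
        (a - 1) + (s.sum - (Multiset.card s : K)) := by
      rw [Multiset.sum_cons, Multiset.card_cons]; push_cast; ring
    rw [e]
    exact G_add P hK (G_line P ha) ih'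

lemma G_pullback {P : PosStructure K} {P' : PosStructure K'} {φ : K →+* K'}
    (hφ : IsExtension P P' φ) {w : K} (h : G P' (φ w)) : G P w := by
  intro i hi
  obtain ⟨h1, h2⟩ := h i hi
  rw [← map_gamma φ hφ.isLambdaHom] at h1 h2
  exact ⟨by rw [← hφ.aug_comp]; exact h1, fun hi2 => T_pullback hφ (h2 hi2)⟩

lemma G_pos (P : PosStructure K) (hK : HasSplitting K P) {e : K} (he : e ∈ P.pos) :
    G P (e - ((P.aug e).toNat : K)) := by
  obtain ⟨L, φ, hL, hφ, s, hs, hsum⟩ := exists_split P hK he
  apply G_pullback hφ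
  have hcard : (P.aug e).toNat = Multiset.card s := by
    rw [← hφ.aug_comp, ← hsum]
    exact rk_of_QP (QP_multiset L.posStr s hs).1
  rw [map_sub, map_natCast, ← hsum, hcard]
  exact G_multiset L.posStr hL s hs

lemma G_of_aug_eq_zero (P : PosStructure K) (hK : HasSplitting K P) {y : K}
    (hy : P.aug y = 0) : G P y := by
  obtain ⟨e, f', he, hf', rfl⟩ := P.exists_sub y
  have haug : P.aug e = P.aug f' := by
    rw [map_sub] at hy
    exact sub_eq_zero.1 hy
  have : e - f' = (e - ((P.aug e).toNat : K)) + -(f' - ((P.aug f').toNat : K)) := by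
    rw [haug]; ring
  rw [this]
  exact G_add P hK (G_pos P hK he) (G_neg P hK (G_pos P hK hf'))

/-! ### The generators of the γ-filtration -/

lemma gen_T (P : PosStructure K) (hK : HasSplitting K P) (l : List (ℕ × K))
    (hl : ∀ p ∈ l, P.aug p.2 = 0) :
    ((l.map Prod.fst).sum = 0 → (l.map fun p => gamma p.1 p.2).prod = 1) ∧
    (1 ≤ (l.map Prod.fst).sum → P.aug (l.map fun p => gamma p.1 p.2).prod = 0) ∧
    (2 ≤ (l.map Prod.fst).sum → (l.map fun p => gamma p.1 p.2).prod ∈ T P) := by
  induction l with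
  | nil => simp
  | cons a l ih =>
    obtain ⟨ih0, ih1, ih2⟩ := ih fun p hp => hl p (List.mem_cons_of_mem _ hp)
    have hG := G_of_aug_eq_zero P hK (hl a List.mem_cons_self)
    simp only [List.map_cons, List.prod_cons, List.sum_cons]
    refine ⟨fun h0 => ?_, fun h1 => ?_, fun h2 => ?_⟩
    · have ha : a.1 = 0 := by omega
      rw [ha, gamma_zero_eq, one_mul]
      exact ih0 (by omega)
    · rw [map_mul]
      rcases Nat.eq_zero_or_pos a.1 with ha | ha
      · rw [ih1 (by omega), mul_zero]
      · rw [(hG a.1 ha).1, zero_mul]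
    · rcases Nat.eq_zero_or_pos a.1 with ha | ha
      · rw [ha, gamma_zero_eq, one_mul]
        exact ih2 (by omega)
      · rcases Nat.eq_zero_or_pos (l.map Prod.fst).sum with hs | hs
        · rw [ih0 hs, mul_one]
          exact (hG a.1 ha).2 (by omega)
        · exact mul_mem_T P hK (hG a.1 ha).1 (ih1 hs)

lemma aug_of_mem_F1 (P : PosStructure K) (hK : HasSplitting K P) {x : K}
    (hx : x ∈ gammaFiltration P 1) : P.aug x = 0 := by
  unfold gammaFiltration at hx
  rw [if_neg one_ne_zero] at hx
  induction hx using AddSubgroup.closure_induction with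
  | mem x hx =>
    obtain ⟨l, hl, hs, rfl⟩ := hx
    exact (gen_T P hK l hl).2.1 hs
  | zero => exact map_zero _
  | add x y _ _ hx hy => rw [map_add, hx, hy, add_zero]
  | neg x _ hx => rw [map_neg, hx, neg_zero]

lemma mem_T_of_mem_F2 (P : PosStructure K) (hK : HasSplitting K P) {x : K}
    (hx : x ∈ gammaFiltration P 2) : x ∈ T P := by
  unfold gammaFiltration at hx
  rw [if_neg (by norm_num)] at hx
  induction hx using AddSubgroup.closure_induction with
  | mem x hx =>
    obtain ⟨l, hl, hs, rfl⟩ := hx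
    exact (gen_T P hK l hl).2.2 hs
  | zero => exact T_zero P
  | add x y _ _ hx hy => exact T_add P hx hy
  | neg x _ hx => exact T_neg P hx

/-! ### Positive elements modulo `F^2` -/

lemma line_sub_one_mem_F1 (P : PosStructure K) {u : K} (hu : P.IsLine u) :
    u - 1 ∈ gammaFiltration P 1 := by
  have h := gamma_mem_gF P 1 (x := u - 1) (by rw [map_sub, hu.2, map_one, sub_self])
  rwa [gamma_one_eq] at h

lemma pos_congr (P : PosStructure K) {e : K} (he : e ∈ P.pos) :
    (e - ((P.aug e).toNat : K)) - (det P e - 1) ∈ gammaFiltration P 2 := by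
  have hm : P.aug e = ((P.aug e).toNat : ℤ) := (Int.toNat_of_nonneg (P.aug_pos e he).le).symm
  have hm1 : 1 ≤ (P.aug e).toNat := by
    have := P.aug_pos e he
    omega
  have h0 : P.aug (e - ((P.aug e).toNat : K)) = 0 := by
    rw [map_sub, map_natCast, ← hm, sub_self]
  have hid := congrArg (Polynomial.eval (1 : K)) (gamma_poly_identity P he)
  unfold det
  generalize (P.aug e).toNat = m at hm hm1 h0 hid ⊢
  obtain ⟨n, rfl⟩ : ∃ n, m = n + 1 := ⟨m - 1, by omega⟩
  simp only [Polynomial.eval_finsetSum, Polynomial.eval_mul, Polynomial.eval_C,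
    Polynomial.eval_pow, Polynomial.eval_X, one_pow, mul_one, Polynomial.eval_sub,
    Polynomial.eval_one, sub_self] at hid
  have hR : ∑ x ∈ Finset.range (n + 1 + 1), LambdaOps.lam x e * (0 : K) ^ (n + 1 - x) =
      LambdaOps.lam (n + 1) e := by
    rw [Finset.sum_range_succ, Nat.sub_self, pow_zero, mul_one]
    have hz : ∑ x ∈ Finset.range (n + 1), LambdaOps.lam x e * (0 : K) ^ (n + 1 - x) = 0 := by
      refine Finset.sum_eq_zero fun i hi => ?_
      have := Finset.mem_range.1 hi
      rw [zero_pow (by omega), mul_zero]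
    rw [hz, zero_add]
  rw [hR, Finset.sum_range_succ', Finset.sum_range_succ', gamma_zero_eq, gamma_one_eq] at hid
  have : e - ((n + 1 : ℕ) : K) - (LambdaOps.lam (n + 1) e - 1) =
      -∑ k ∈ Finset.range n, gamma (k + 1 + 1) (e - ((n + 1 : ℕ) : K)) := by
    rw [← hid]; ring
  rw [this]
  refine neg_mem (sum_mem fun k _ => ?_)
  exact gammaFiltration_anti P (by omega) (gamma_mem_gF P (k + 1 + 1) h0)

end Det

/-- Let K be a λ-ring with positive structure having the splitting property, L its group of line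
elements and F^n the γ-filtration. Assume moreover that the inverse of a line element is a line
element and that for a positive e with ε(e) = r the element det e = λ^r(e) is positive (hence a line
element); these are part of the published setting but are not implied by the axioms used here, so
they are hypotheses. Then u ↦ u − 1 induces an isomorphism L ≅ Gr^1 K = F^1/F^2: every x ∈ F^1 is
congruent modulo F^2 to u − 1 for some line element u, and line elements u, v with u − v ∈ F^2 are
equal. -/
theorem result (K : Type v) [CommRing K] [LambdaRing.LambdaOps K] (P : LambdaRing.PosStructure K) (hK : LambdaRing.HasSplitting K P)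
    (hLinv : ∀ w : K, P.IsLine w → ∃ w' : K, P.IsLine w' ∧ w * w' = 1)
    (hdet : ∀ e : K, e ∈ P.pos → LambdaRing.LambdaOps.lam (P.aug e).toNat e ∈ P.pos) :
    (∀ x : K, x ∈ LambdaRing.gammaFiltration P 1 → ∃ u : K, P.IsLine u ∧ x - (u - 1) ∈ LambdaRing.gammaFiltration P 2) ∧
    ∀ u v : K, P.IsLine u → P.IsLine v → u - v ∈ LambdaRing.gammaFiltration P 2 → u = v := by
  refine ⟨fun x hx => ?_, fun u v hu hv huv => ?_⟩
  · have hx0 := aug_of_mem_F1 P hK hx
    obtain ⟨e, f, he, hf, rfl⟩ := P.exists_sub x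
    have haug : P.aug e = P.aug f := by
      rw [map_sub] at hx0
      exact sub_eq_zero.1 hx0
    have hline : ∀ g : K, g ∈ P.pos → P.IsLine (det P g) := fun g hg =>
      ⟨hdet g hg, by
        rw [det, aug_lam_of_pos P hK hg, Nat.choose_self]; rfl⟩
    have ha := hline e he
    have hb := hline f hf
    obtain ⟨b', hb', hbb'⟩ := hLinv _ hb
    refine ⟨det P e * b', isLine_mul P ha hb', ?_⟩
    have h1 := pos_congr P he
    have h2 := pos_congr P hf
    have h3 := mul_mem_gF P (line_sub_one_mem_F1 P ha) (line_sub_one_mem_F1 P hb')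
    have h4 := mul_mem_gF P (line_sub_one_mem_F1 P hb) (line_sub_one_mem_F1 P hb')
    have : e - f - (det P e * b' - 1) =
        ((e - ((P.aug e).toNat : K)) - (det P e - 1)) -
          ((f - ((P.aug f).toNat : K)) - (det P f - 1)) -
          ((det P e - 1) * (b' - 1) - (det P f - 1) * (b' - 1)) := by
      rw [haug]
      linear_combination -hbb'
    rw [this]
    exact sub_mem (sub_mem h1 h2) (sub_mem h3 h4)
  · have h := mem_T_of_mem_F2 P hK huv u v hu.1 hv.1 rfl
    rwa [det_line P hu, det_line P hv] at h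

end Groth.Agent.S3781
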