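import Groth.Statements.S3791

set_option autoImplicit false
universe v u
open CategoryTheory CategoryTheory.Limits AlgebraicGeometry
attribute [local instance] HasDerivedCategory.standard
open KRR

namespace Groth.Agent.S3791

open LambdaRing Finset

variable {K : Type v} [CommRing K] [LambdaRing.LambdaOps K]

theorem isLine_one (P : LambdaRing.PosStructure K) : P.IsLine (1 : K) := by
  refine ⟨?_, map_one _⟩
  have := P.natCast_mem 1 Nat.one_pos
  simpa using this

theorem isLine_mul (P : LambdaRing.PosStructure K) {a b : K} (ha : P.IsLine a) (hb : P.IsLine b) :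
    P.IsLine (a * b) :=
  ⟨P.mul_mem a b ha.1 hb.1, by rw [map_mul, ha.2, hb.2, mul_one]⟩

theorem isLine_pow (P : LambdaRing.PosStructure K) {a : K} (ha : P.IsLine a) (n : ℕ) :
    P.IsLine (a ^ n) := by
  induction n with
  | zero => simpa using isLine_one P
  | succ n ih => rw [pow_succ]; exact isLine_mul P ih ha

theorem isUnit_of_isLine (P : LambdaRing.PosStructure K) {a : K} (ha : P.IsLine a) : IsUnit a := by
  have := P.isUnit_lam a ha.1
  rw [ha.2] at this
  simpa [LambdaOps.lam_one] using this

theorem lam_line (P : LambdaRing.PosStructure K) {a : K} (ha : P.IsLine a) (k : ℕ) (hk : 2 ≤ k) :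
    LambdaOps.lam k a = 0 := by
  apply P.lam_eq_zero a ha.1
  rw [ha.2]
  exact_mod_cast hk

/-- the additive formula against a line element -/
theorem lam_add_line (P : LambdaRing.PosStructure K) {b : K} (hb : P.IsLine b) (x : K) (k : ℕ) :
    LambdaOps.lam (k + 1) (x + b) = LambdaOps.lam (k + 1) x + LambdaOps.lam k x * b := by
  rw [LambdaOps.lam_add, Finset.sum_range_succ, Finset.sum_range_succ]
  have h0 : ∑ i ∈ range k, LambdaOps.lam i x * LambdaOps.lam (k + 1 - i) b = 0 := by
    apply Finset.sum_eq_zero
    intro i hi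
    rw [lam_line P hb (k + 1 - i) (by have := Finset.mem_range.mp hi; omega), mul_zero]
  rw [h0, zero_add, Nat.sub_self, LambdaOps.lam_zero, mul_one,
    show k + 1 - k = 1 by omega, LambdaOps.lam_one]
  ring

theorem lam_natCast (P : LambdaRing.PosStructure K) (m : ℕ) (hm : 1 ≤ m) (k : ℕ) :
    LambdaOps.lam k ((m : ℕ) : K) = ((Nat.choose m k : ℕ) : K) := by
  induction m, hm using Nat.le_induction generalizing k with
  | base =>
    rcases k with _ | _ | k
    · simp [LambdaOps.lam_zero]
    · simp [LambdaOps.lam_one]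
    · have := lam_line P (isLine_one P) (k + 2) (by omega)
      rw [Nat.cast_one, this, Nat.choose_eq_zero_of_lt (by omega)]
      simp
  | succ m hm ih =>
    rcases k with _ | k
    · simp [LambdaOps.lam_zero]
    · rw [Nat.cast_succ, lam_add_line P (isLine_one P), ih, ih, mul_one, Nat.choose_succ_succ,
        Nat.cast_add]
      ring

/-- If `e + b = m` with `e` positive, `b` a line element and `m` a natural number, then `b - 1` is
nilpotent. -/
theorem isNilpotent_of_add_eq_natCast (P : LambdaRing.PosStructure K) {e b : K} (he : e ∈ P.pos)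
    (hb : P.IsLine b) (m : ℕ) (h : e + b = (m : K)) : IsNilpotent (b - 1) := by
  have haug : P.aug e + 1 = m := by
    have := congrArg P.aug h
    rw [map_add, hb.2, map_natCast] at this
    exact this
  have hm1 : 1 ≤ m := by
    have := P.aug_pos e he
    omega
  have hrec : ∀ k : ℕ, LambdaOps.lam (k + 1) e =
      ((Nat.choose m (k + 1) : ℕ) : K) - LambdaOps.lam k e * b := by
    intro k
    have := lam_add_line P hb e k
    rw [h, lam_natCast P m hm1] at this
    rw [this]
    ring
  have hform : ∀ k : ℕ, LambdaOps.lam k e =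
      ∑ j ∈ range (k + 1), ((Nat.choose m j : ℕ) : K) * (-b) ^ (k - j) := by
    intro k
    induction k with
    | zero => simp [LambdaOps.lam_zero]
    | succ k ih =>
      rw [hrec, ih, Finset.sum_range_succ _ (k + 1), Nat.sub_self, pow_zero, mul_one, Finset.sum_mul]
      have : ∀ j ∈ range (k + 1), ((Nat.choose m j : ℕ) : K) * (-b) ^ (k - j) * b =
          -(((Nat.choose m j : ℕ) : K) * (-b) ^ (k + 1 - j)) := by
        intro j hj
        have hj' := Finset.mem_range.mp hj
        rw [show k + 1 - j = (k - j) + 1 by omega, pow_succ]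
        ring
      rw [Finset.sum_congr rfl this, Finset.sum_neg_distrib]
      ring
  have hzero : LambdaOps.lam m e = 0 := by
    apply P.lam_eq_zero e he
    omega
  have hpow : (1 + (-b)) ^ m = 0 := by
    rw [add_pow, ← hzero, hform]
    apply Finset.sum_congr rfl
    intro j _
    rw [one_pow, one_mul, mul_comm]
  refine ⟨m, ?_⟩
  have : b - 1 = -(1 + -b) := by ring
  rw [this, neg_pow, hpow, mul_zero]

/-- Let K be a λ-ring with positive structure P and u an ample line element (for every x, u^n x is a
positive element minus a natural number for all large n). Then for every line element v, the element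
v - 1 is nilpotent. -/
theorem result (K : Type v) [CommRing K] [LambdaRing.LambdaOps K] (P : LambdaRing.PosStructure K)
    (u : K) (hu : KRR.IsAmpleElt P u) (w : K) (hw : P.IsLine w) : IsNilpotent (w - 1) := by
  obtain ⟨hul, hamp⟩ := hu
  have key : ∀ v : K, P.IsLine v → ∃ n₀ : ℕ, ∀ n : ℕ, n₀ ≤ n → IsNilpotent (u ^ n * v - 1) := by
    intro v hv
    obtain ⟨n₀, hn₀⟩ := hamp (-v)
    refine ⟨n₀, fun n hn => ?_⟩
    obtain ⟨e, m, he, hem⟩ := hn₀ n hn
    apply isNilpotent_of_add_eq_natCast P he (isLine_mul P (isLine_pow P hul n) hv) m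
    have : e = u ^ n * -v + m := by rw [hem]; ring
    rw [this]; ring
  obtain ⟨n₁, h₁⟩ := key w hw
  obtain ⟨n₂, h₂⟩ := key 1 (isLine_one P)
  have hA := h₁ (max n₁ n₂) (le_max_left _ _)
  have hB := h₂ (max n₁ n₂) (le_max_right _ _)
  rw [mul_one] at hB
  have hC : IsNilpotent (u ^ (max n₁ n₂) * (w - 1)) := by
    have : u ^ (max n₁ n₂) * (w - 1) = (u ^ (max n₁ n₂) * w - 1) - (u ^ (max n₁ n₂) - 1) := by ring
    rw [this]
    exact (Commute.all _ _).isNilpotent_sub hA hB
  have hU : IsUnit (u ^ (max n₁ n₂)) := isUnit_of_isLine P (isLine_pow P hul _)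
  exact (hU.isNilpotent_unit_mul_of_commute_iff (Commute.all _ _)).mp hC

end Groth.Agent.S3791
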