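import Groth.Statements.S3795
import Groth.Agent.Lib.LambdaRing
import Groth.Agent.S3292

set_option autoImplicit false
universe v u
open CategoryTheory CategoryTheory.Limits AlgebraicGeometry
attribute [local instance] HasDerivedCategory.standard
open KRR

namespace Groth.Agent.S3795

open LambdaRing

variable {K : Type v} [CommRing K] [LambdaRing.LambdaOps K]

/-- the gamma filtration is decreasing -/
theorem gammaFiltration_anti (P : LambdaRing.PosStructure K) {a b : ℕ} (h : a ≤ b) :
    gammaFiltration P b ≤ gammaFiltration P a := by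
  unfold gammaFiltration
  by_cases ha : a = 0
  · simp [ha]
  · have hb : b ≠ 0 := by omega
    rw [if_neg ha, if_neg hb]
    apply AddSubgroup.closure_mono
    rintro y ⟨l, h1, h2, h3⟩
    exact ⟨l, h1, h.trans h2, h3⟩

theorem adams_natCast_mul (P : LambdaRing.PosStructure K) (j : ℕ) (N : ℕ) (x : K) :
    adams P j ((N : K) * x) = (N : K) * adams P j x := by
  have := map_nsmul (Groth.Agent.Lib.LambdaRing.adamsAddHom P j) N x
  simpa [nsmul_eq_mul] using this

theorem main (P : LambdaRing.PosStructure K)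
    (h3292 : ∀ (j : ℕ), 1 ≤ j → ∀ (n : ℕ) (x : K), x ∈ LambdaRing.gammaFiltration P n →
      LambdaRing.adams P j x - (j : K) ^ n * x ∈ LambdaRing.gammaFiltration P (n + 1))
    (j : ℕ) (hj : 2 ≤ j) (n : ℕ) (x : K)
    (hx : ∃ N : ℕ, 1 ≤ N ∧ (N : K) * (LambdaRing.adams P j x - (j : K) ^ n * x) ∈ LambdaRing.gammaFiltration P (n + 1)) :
    ∃ N : ℕ, 1 ≤ N ∧ (N : K) * x ∈ LambdaRing.gammaFiltration P n := by
  obtain ⟨N₂, hN₂, hx₂⟩ := hx
  suffices H : ∀ k : ℕ, k ≤ n → ∃ N : ℕ, 1 ≤ N ∧ (N : K) * x ∈ LambdaRing.gammaFiltration P k from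
    H n le_rfl
  intro k
  induction k with
  | zero =>
    intro _
    exact ⟨1, le_rfl, by simp [gammaFiltration]⟩
  | succ k ih =>
    intro hk
    obtain ⟨N₁, hN₁, hx₁⟩ := ih (by omega)
    have h1 := h3292 j (by omega) k _ hx₁
    rw [adams_natCast_mul] at h1
    -- multiply h1 by N₂ and hx₂ by N₁
    have h1' := (gammaFiltration P (k + 1)).nsmul_mem h1 N₂
    have h2' := (gammaFiltration P (k + 1)).nsmul_mem (gammaFiltration_anti P (by omega : k + 1 ≤ n + 1) hx₂) N₁
    have h3 := (gammaFiltration P (k + 1)).sub_mem h1' h2'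
    have hpow : j ^ k ≤ j ^ n := Nat.pow_le_pow_right (by omega) (by omega)
    have hlt : j ^ k < j ^ n := Nat.pow_lt_pow_right (by omega) (by omega)
    refine ⟨(j ^ n - j ^ k) * N₁ * N₂, ?_, ?_⟩
    · have : 1 ≤ j ^ n - j ^ k := by omega
      exact Nat.one_le_iff_ne_zero.mpr (by positivity)
    · convert h3 using 1
      simp only [nsmul_eq_mul]
      push_cast [Nat.cast_sub hpow]
      ring

/-- Let K be a λ-ring with positive structure having the splitting property, j ≥ 2, n ≥ 0 and x ∈ K. If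
ψ^j(x) - j^n x lies in ℚF^{n+1} (some positive multiple lies in F^{n+1}, γ-filtration), then x lies
in ℚF^n (some positive multiple of x lies in F^n). -/
theorem result (K : Type v) [CommRing K] [LambdaRing.LambdaOps K] (P : LambdaRing.PosStructure K) (hK : LambdaRing.HasSplitting K P) (j : ℕ) (hj : 2 ≤ j) (n : ℕ) (x : K)
    (hx : ∃ N : ℕ, 1 ≤ N ∧ (N : K) * (LambdaRing.adams P j x - (j : K) ^ n * x) ∈ LambdaRing.gammaFiltration P (n + 1)) :
    ∃ N : ℕ, 1 ≤ N ∧ (N : K) * x ∈ LambdaRing.gammaFiltration P n := by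
  exact main P (fun j hj n x hx => Groth.Agent.S3292.result K P hK j hj n x hx) j hj n x hx

end Groth.Agent.S3795
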