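import Groth.Statements.S3802
import Groth.Agent.S3779
-- import your own Groth.Agent.* helpers here

set_option autoImplicit false
universe v u
open CategoryTheory CategoryTheory.Limits AlgebraicGeometry
attribute [local instance] HasDerivedCategory.standard
open KRR

namespace Groth.Agent.S3802

open LambdaRing Polynomial Groth.Agent.S3779

section Helpers

variable {K : Type v} [CommRing K] [LambdaRing.LambdaOps K]

/-- `D_i = Σ_{j ≤ i} c_j X^{i-j}` with `c_j = (-1)^j λ^j(c)`. -/
noncomputable def D (c : K) (i : ℕ) : Polynomial K :=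
  ∑ j ∈ Finset.range (i + 1), C (cc c j) * X ^ (i - j)

lemma D_zero (c : K) : D c 0 = 1 := by
  simp [D, cc_zero]

lemma D_succ (c : K) (i : ℕ) : D c (i + 1) = C (cc c (i + 1)) + X * D c i := by
  rw [D, Finset.sum_range_succ, Nat.sub_self, pow_zero, mul_one, add_comm, D, Finset.mul_sum]
  congr 1
  refine Finset.sum_congr rfl fun j hj => ?_
  have := Finset.mem_range.1 hj
  rw [show i + 1 - j = (i - j) + 1 by omega, pow_succ]
  ring

lemma natDegree_D_le (c : K) (i : ℕ) : (D c i).natDegree ≤ i := by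
  induction i with
  | zero => rw [D_zero]; simp
  | succ i ih =>
    rw [D_succ]
    refine (natDegree_add_le _ _).trans (max_le (by simp) ?_)
    refine natDegree_mul_le.trans ?_
    have : (X : Polynomial K).natDegree ≤ 1 := natDegree_X_le
    omega

lemma coeff_D_self (c : K) (i : ℕ) : (D c i).coeff i = 1 := by
  induction i with
  | zero => rw [D_zero]; simp
  | succ i ih =>
    rw [D_succ, coeff_add, coeff_C, if_neg (Nat.succ_ne_zero i), zero_add, coeff_X_mul, ih]

lemma extPoly_eq (P : PosStructure K) (c : K) (m : ℕ) (hm : P.aug c = m) :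
    KRR.extPoly P c = D c m := by
  rw [KRR.extPoly, hm, Int.toNat_natCast]
  rfl

/-- `L = Σ_{i ≤ r} D_i`. -/
noncomputable def L (c : K) (r : ℕ) : Polynomial K := ∑ i ∈ Finset.range (r + 1), D c i

lemma one_sub_X_mul_L (c : K) (r : ℕ) :
    (1 - X) * L c r = C (∑ k ∈ Finset.range (r + 2), cc c k) - D c (r + 1) := by
  induction r with
  | zero =>
    simp only [L, Finset.sum_range_succ, Finset.sum_range_zero, zero_add, D_succ, D_zero,
      cc_zero, map_add, map_one]
    ring
  | succ r ih =>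
    rw [L, Finset.sum_range_succ, mul_add, ← L, ih, Finset.sum_range_succ _ (r + 2), map_add,
      D_succ c (r + 1)]
    ring

/-- the relation `σ_t(e) λ_{-t}(e) = 1` in degree `i`. -/
lemma sigma_rel' (c : K) (i : ℕ) :
    ∑ j ∈ Finset.range (i + 1), cc c j * KRR.sigma (i - j) c = if i = 0 then 1 else 0 := by
  rcases Nat.eq_zero_or_pos i with rfl | hi
  · simp [cc_zero, sigma_zero]
  · rw [if_neg (by omega)]
    exact sigma_rel c i hi

lemma f_of_mul' (p : Polynomial K) (f : AdjoinRoot p →ₗ[K] K) (a : K) (y : AdjoinRoot p) :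
    f (AdjoinRoot.of p a * y) = a * f y := by
  rw [← AdjoinRoot.algebraMap_eq, ← Algebra.smul_def, map_smul, smul_eq_mul]

theorem main (P : PosStructure K) (c : K) (r : ℕ) (hr : P.aug c = r + 1)
    (p : Polynomial K) (hp : p = D c (r + 1))
    [LambdaOps (AdjoinRoot p)] (Pc : PosStructure (AdjoinRoot p))
    (hext : IsExtension P Pc (AdjoinRoot.of p))
    (hroot : ∀ i : ℕ, 2 ≤ i → LambdaOps.lam i (AdjoinRoot.root p) = 0)
    (hline : Pc.IsLine (AdjoinRoot.root p))
    (f : AdjoinRoot p →ₗ[K] K)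
    (hf : ∀ i : ℕ, i ≤ r → f (AdjoinRoot.root p ^ i) = KRR.sigma i c)
    (z : AdjoinRoot p) (hz : z * (1 - AdjoinRoot.root p) = 0) :
    z = AdjoinRoot.of p (f z) * KRR.lamAlt Pc (AdjoinRoot.of p c - AdjoinRoot.root p) := by
  have : Nontrivial K := RingHom.domain_nontrivial P.aug
  have hmonic : p.Monic := by
    rw [hp]
    exact monic_of_natDegree_le_of_coeff_eq_one (r + 1) (natDegree_D_le c _) (coeff_D_self c _)
  have hdeg : p.natDegree = r + 1 := by
    rw [hp]
    exact natDegree_eq_of_le_of_coeff_ne_zero (natDegree_D_le c _)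
      (by rw [coeff_D_self]; exact one_ne_zero)
  set ℓ := AdjoinRoot.root p with hℓ
  set y := AdjoinRoot.of p c - ℓ with hy
  have hyl : y + ℓ = AdjoinRoot.of p c := by rw [hy]; ring
  -- the λ-operations of `y = c - ℓ`
  have hlam : ∀ i, AdjoinRoot.mk p (D c i) = (-1) ^ i * LambdaOps.lam i y := by
    intro i
    induction i with
    | zero => rw [D_zero, map_one, pow_zero, one_mul, LambdaOps.lam_zero]
    | succ i ih =>
      have h1 := LambdaOps.lam_add (i + 1) y ℓ
      rw [hyl, ← hext.isLambdaHom, Finset.sum_range_succ, Finset.sum_range_succ,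
        Nat.sub_self, LambdaOps.lam_zero, mul_one, show i + 1 - i = 1 by omega,
        LambdaOps.lam_one] at h1
      have h2 : ∑ x ∈ Finset.range i, LambdaOps.lam x y * LambdaOps.lam (i + 1 - x) ℓ = 0 := by
        refine Finset.sum_eq_zero fun k hk => ?_
        have := Finset.mem_range.1 hk
        rw [hroot (i + 1 - k) (by omega), mul_zero]
      rw [h2, zero_add] at h1
      rw [D_succ, map_add, map_mul, AdjoinRoot.mk_C, AdjoinRoot.mk_X, ih, cc, map_mul, map_pow,
        map_neg, map_one, h1]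
      ring
  have hΛ : KRR.lamAlt Pc y = AdjoinRoot.mk p (L c r) := by
    have haug : (Pc.aug y).toNat = r := by
      rw [hy, map_sub, hext.aug_comp, hline.2, hr]
      simp
    rw [KRR.lamAlt, haug, L, map_sum]
    exact Finset.sum_congr rfl fun i _ => (hlam i).symm
  have hfD : ∀ i, i ≤ r → f (AdjoinRoot.mk p (D c i)) = if i = 0 then 1 else 0 := by
    intro i hi
    rw [← sigma_rel' c i, D, map_sum, map_sum]
    refine Finset.sum_congr rfl fun j hj => ?_
    rw [map_mul, AdjoinRoot.mk_C, map_pow, AdjoinRoot.mk_X, f_of_mul', hf _ (by omega)]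
  have hfL : f (AdjoinRoot.mk p (L c r)) = 1 := by
    rw [L, map_sum, map_sum, Finset.sum_congr rfl
      (fun i hi => hfD i (by have := Finset.mem_range.1 hi; omega))]
    simp
  -- a representative of degree `≤ r`
  obtain ⟨Z₀, rfl⟩ := AdjoinRoot.mk_surjective z
  set Z := Z₀ %ₘ p with hZ
  have hZ₀ : AdjoinRoot.mk p Z₀ = AdjoinRoot.mk p Z := by
    rw [AdjoinRoot.mk_eq_mk]
    exact ⟨Z₀ /ₘ p, by linear_combination (modByMonic_add_div Z₀ p).symm⟩
  have hZdeg : Z.natDegree < r + 1 := by
    rw [← hdeg]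
    refine natDegree_modByMonic_lt Z₀ hmonic ?_
    intro h
    rw [h, natDegree_one] at hdeg
    omega
  rw [hZ₀] at hz ⊢
  have h1 : AdjoinRoot.mk p (Z * (1 - X)) = 0 := by
    rw [map_mul, map_sub, map_one, AdjoinRoot.mk_X]
    exact hz
  obtain ⟨Q, hQ⟩ := AdjoinRoot.mk_eq_zero.1 h1
  have h1X : (1 - X : Polynomial K).natDegree ≤ 1 :=
    (natDegree_sub_le _ _).trans (max_le (by simp) natDegree_X_le)
  have hQdeg : Q.natDegree = 0 := by
    by_contra hne
    have hQ0 : Q ≠ 0 := by
      rintro rfl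
      simp at hne
    have h2 := hmonic.natDegree_mul' hQ0
    have h3 : (Z * (1 - X)).natDegree ≤ Z.natDegree + (1 - X : Polynomial K).natDegree :=
      natDegree_mul_le
    rw [hQ, h2, hdeg] at h3
    omega
  obtain ⟨a, ha⟩ := natDegree_eq_zero.1 hQdeg
  rw [← ha] at hQ
  have key := one_sub_X_mul_L c r
  rw [← hp] at key
  have hW : (X - C (1 : K)) * (Z + C a * L c r) =
      -C (a * ∑ k ∈ Finset.range (r + 2), cc c k) := by
    rw [map_one, map_mul]
    linear_combination (-1 : Polynomial K) * hQ - C a * key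
  have hW0 : Z + C a * L c r = 0 := by
    by_contra hne
    have h2 := (monic_X_sub_C (1 : K)).natDegree_mul' hne
    rw [hW, natDegree_neg, natDegree_C, natDegree_X_sub_C] at h2
    omega
  have hZeq : AdjoinRoot.mk p Z = -(AdjoinRoot.of p a * AdjoinRoot.mk p (L c r)) := by
    rw [eq_neg_of_add_eq_zero_left hW0, map_neg, map_mul, AdjoinRoot.mk_C]
  have hfz : f (AdjoinRoot.mk p Z) = -a := by
    rw [hZeq, map_neg, f_of_mul', hfL, mul_one]
  rw [hfz, hΛ, hZeq, map_neg]
  ring

end Helpers


/-- Let K be a λ-ring with positive structure having the splitting property, c positive with ε(c) = r +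
1, and K_c = K[T]/(p_c) with generator ℓ, equipped with a λ-structure extending that of K with
λ^i(ℓ) = 0 for i ≥ 2 and a positive structure making K ⟶ K_c an extension with ℓ a line element and
c - ℓ positive (when r ≥ 1), having the splitting property; let f : K_c ⟶ K be the associated
K-linear functional (f(ℓ^i) = σ^i(c) for i ≤ r). If z ∈ K_c satisfies z (1 - ℓ) = 0, then z = f(z) ·
λ_{-1}(c - ℓ), where λ_{-1}(c - ℓ) = Σ_{i ≤ r} (-1)^i λ^i(c - ℓ). -/
theorem result (K : Type v) [CommRing K] [LambdaRing.LambdaOps K] (P : LambdaRing.PosStructure K) (hK : LambdaRing.HasSplitting K P) (c : K) (hc : c ∈ P.pos) (r : ℕ) (hr : P.aug c = r + 1)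
    (inst : LambdaRing.LambdaOps (AdjoinRoot (KRR.extPoly P c))) (Pc : @LambdaRing.PosStructure _ _ inst)
    (hext : @LambdaRing.IsExtension K _ _ _ _ inst P Pc (AdjoinRoot.of (KRR.extPoly P c)))
    (hroot : ∀ i : ℕ, 2 ≤ i → @LambdaRing.LambdaOps.lam _ _ inst i (AdjoinRoot.root (KRR.extPoly P c)) = 0)
    (hline : @LambdaRing.PosStructure.IsLine _ _ inst Pc (AdjoinRoot.root (KRR.extPoly P c)))
    (hpos : 1 ≤ r → AdjoinRoot.of (KRR.extPoly P c) c - AdjoinRoot.root (KRR.extPoly P c) ∈ (@LambdaRing.PosStructure.pos _ _ inst Pc))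
    (hsplit : @LambdaRing.HasSplitting _ _ inst Pc)
    (f : AdjoinRoot (KRR.extPoly P c) →ₗ[K] K)
    (hf : ∀ i : ℕ, i ≤ r → f (AdjoinRoot.root (KRR.extPoly P c) ^ i) = KRR.sigma i c)
    (z : AdjoinRoot (KRR.extPoly P c)) (hz : z * (1 - AdjoinRoot.root (KRR.extPoly P c)) = 0) :
    z = AdjoinRoot.of (KRR.extPoly P c) (f z) *
      @KRR.lamAlt _ _ inst Pc (AdjoinRoot.of (KRR.extPoly P c) c - AdjoinRoot.root (KRR.extPoly P c)) := by
  have hm : P.aug c = ((r + 1 : ℕ) : ℤ) := by rw [hr]; push_cast; rfl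
  exact @main K _ _ P c r hr (KRR.extPoly P c) (extPoly_eq P c (r + 1) hm) inst Pc hext hroot hline
    f hf z hz

end Groth.Agent.S3802
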