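import Groth.Statements.S3807
-- import your own Groth.Agent.* helpers here

set_option autoImplicit false
universe u
open scoped TensorProduct
attribute [local instance] PP16.mapAlgebra PP16.isScalarTower_mapAlgebra
open PP16

namespace Groth.Agent.S3807

noncomputable section

section
variable (n : ℕ) (A B B' : Type u) [CommRing A] [CommRing B] [Algebra A B]
    [CommRing B'] [Algebra B B'] [Algebra A B'] [IsScalarTower A B B'] (S : Submonoid B)
    [IsLocalization S B']

lemma mk_zeta_pow (s : B) :
    (PP16.dn n A B s - algebraMap B (PP16.P n A B) s) ^ (n + 1) = 0 := by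
  have h : PP16.dn n A B s - algebraMap B (PP16.P n A B) s =
      Ideal.Quotient.mk ((KaehlerDifferential.ideal A B) ^ (n + 1))
        ((1 : B) ⊗ₜ[A] s - s ⊗ₜ[A] (1 : B)) := by
    rw [map_sub]; rfl
  rw [h, ← map_pow, Ideal.Quotient.eq_zero_iff_mem]
  exact Ideal.pow_mem_pow (KaehlerDifferential.one_smul_sub_smul_one_mem_ideal A s) (n + 1)

lemma dn_dvd (s : B) :
    PP16.dn n A B s ∣ (algebraMap B (PP16.P n A B) s) ^ (n + 1) := by
  have h := sub_dvd_pow_sub_pow (algebraMap B (PP16.P n A B) s)
    (-(PP16.dn n A B s - algebraMap B (PP16.P n A B) s)) (n + 1)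
  rw [neg_pow, mk_zeta_pow, mul_zero, sub_zero] at h
  have e : algebraMap B (PP16.P n A B) s - -(PP16.dn n A B s - algebraMap B (PP16.P n A B) s) =
      PP16.dn n A B s := by ring
  rwa [e] at h

/-- the submonoid of `P^n_{B/A}`. -/
abbrev Mon : Submonoid (PP16.P n A B) := S.map (algebraMap B (PP16.P n A B))

variable (L : Type u) [CommRing L] [Algebra (PP16.P n A B) L] [IsLocalization (Mon n A B S) L]
  [Algebra A L] [IsScalarTower A (PP16.P n A B) L]

lemma unitL (s : B) (hs : s ∈ S) :
    IsUnit (algebraMap (PP16.P n A B) L (algebraMap B (PP16.P n A B) s)) :=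
  IsLocalization.map_units L
    (⟨algebraMap B (PP16.P n A B) s, Submonoid.mem_map_of_mem _ hs⟩ : Mon n A B S)

lemma unitR (s : B) (hs : s ∈ S) :
    IsUnit (algebraMap (PP16.P n A B) L (PP16.dn n A B s)) := by
  obtain ⟨w, hw⟩ := dn_dvd n A B s
  have h1 : algebraMap (PP16.P n A B) L (PP16.dn n A B s) *
      algebraMap (PP16.P n A B) L w =
      (algebraMap (PP16.P n A B) L (algebraMap B (PP16.P n A B) s)) ^ (n + 1) := by
    rw [← map_mul, ← hw, map_pow]
  exact isUnit_of_dvd_unit ⟨_, h1.symm⟩ ((unitL n A B S L s hs).pow (n + 1))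

/-- `B' → L` through the first factor. -/
def ellA : B' →ₐ[A] L :=
  { IsLocalization.lift (M := S) (g := (algebraMap (PP16.P n A B) L).comp (algebraMap B (PP16.P n A B)))
      (fun s => unitL n A B S L s.1 s.2) with
    commutes' := fun a => by
      change IsLocalization.lift _ (algebraMap A B' a) = _
      rw [IsScalarTower.algebraMap_apply A B B', IsLocalization.lift_eq, RingHom.comp_apply,
        ← IsScalarTower.algebraMap_apply A B (PP16.P n A B),
        ← IsScalarTower.algebraMap_apply A (PP16.P n A B) L] }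

lemma ellA_alg (b : B) :
    ellA n A B B' S L (algebraMap B B' b) =
      algebraMap (PP16.P n A B) L (algebraMap B (PP16.P n A B) b) := by
  change IsLocalization.lift _ (algebraMap B B' b) = _
  rw [IsLocalization.lift_eq, RingHom.comp_apply]

/-- `B' → L` through the second factor. -/
def rA : B' →ₐ[A] L :=
  { IsLocalization.lift (M := S) (g := (algebraMap (PP16.P n A B) L).comp (PP16.dn n A B).toRingHom)
      (fun s => unitR n A B S L s.1 s.2) with
    commutes' := fun a => by
      change IsLocalization.lift _ (algebraMap A B' a) = _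
      rw [IsScalarTower.algebraMap_apply A B B', IsLocalization.lift_eq, RingHom.comp_apply]
      change algebraMap (PP16.P n A B) L (PP16.dn n A B (algebraMap A B a)) = _
      rw [AlgHom.commutes, ← IsScalarTower.algebraMap_apply A (PP16.P n A B) L] }

lemma rA_alg (b : B) :
    rA n A B B' S L (algebraMap B B' b) = algebraMap (PP16.P n A B) L (PP16.dn n A B b) := by
  change IsLocalization.lift _ (algebraMap B B' b) = _
  rw [IsLocalization.lift_eq, RingHom.comp_apply]
  rfl

/-- `B' ⊗ B' → L`. -/
def phiA : B' ⊗[A] B' →ₐ[A] L :=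
  Algebra.TensorProduct.lift (ellA n A B B' S L) (rA n A B B' S L) (fun _ _ => Commute.all _ _)

lemma phiA_tmul (b c : B') :
    phiA n A B B' S L (b ⊗ₜ[A] c) = ellA n A B B' S L b * rA n A B B' S L c := by
  unfold phiA
  rw [Algebra.TensorProduct.lift_tmul]

/-- the nilpotent ideal of `L`. -/
def JL : Ideal L := (PP16.augIdeal n A B).map (algebraMap (PP16.P n A B) L)

omit [IsLocalization (Mon n A B S) L] [Algebra A L] [IsScalarTower A (PP16.P n A B) L] in
lemma JL_pow : (JL n A B L) ^ (n + 1) = ⊥ := by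
  unfold JL PP16.augIdeal
  rw [← Ideal.map_pow, ← Ideal.map_pow, Ideal.map_quotient_self, Ideal.map_bot]

lemma phiA_zeta_mem (b' : B') :
    phiA n A B B' S L ((1 : B') ⊗ₜ[A] b' - b' ⊗ₜ[A] (1 : B')) ∈ JL n A B L := by
  obtain ⟨b, s, rfl⟩ := IsLocalization.exists_mk'_eq S b'
  rw [map_sub, phiA_tmul, phiA_tmul, map_one, map_one, one_mul, mul_one]
  set u := algebraMap (PP16.P n A B) L (PP16.dn n A B s.1) with hu
  set v := algebraMap (PP16.P n A B) L (algebraMap B (PP16.P n A B) s.1) with hv
  have hru : rA n A B B' S L (IsLocalization.mk' B' b s) * u =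
      algebraMap (PP16.P n A B) L (PP16.dn n A B b) := by
    rw [hu, ← rA_alg n A B B' S L s.1, ← map_mul, IsLocalization.mk'_spec, rA_alg]
  have hlv : ellA n A B B' S L (IsLocalization.mk' B' b s) * v =
      algebraMap (PP16.P n A B) L (algebraMap B (PP16.P n A B) b) := by
    rw [hv, ← ellA_alg n A B B' S L s.1, ← map_mul, IsLocalization.mk'_spec, ellA_alg]
  have huU : IsUnit u := unitR n A B S L s.1 s.2
  have hvU : IsUnit v := unitL n A B S L s.1 s.2
  have hmain : (rA n A B B' S L (IsLocalization.mk' B' b s) -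
      ellA n A B B' S L (IsLocalization.mk' B' b s)) * (u * v) ∈ JL n A B L := by
    have e : (rA n A B B' S L (IsLocalization.mk' B' b s) -
        ellA n A B B' S L (IsLocalization.mk' B' b s)) * (u * v) =
        algebraMap (PP16.P n A B) L (PP16.dn n A B b * algebraMap B (PP16.P n A B) s.1 -
          algebraMap B (PP16.P n A B) b * PP16.dn n A B s.1) := by
      rw [map_sub, map_mul, map_mul, ← hru, ← hlv]
      ring
    rw [e]
    apply Ideal.mem_map_of_mem
    have e2 : PP16.dn n A B b * algebraMap B (PP16.P n A B) s.1 -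
        algebraMap B (PP16.P n A B) b * PP16.dn n A B s.1 =
        Ideal.Quotient.mk ((KaehlerDifferential.ideal A B) ^ (n + 1))
          (s.1 ⊗ₜ[A] b - b ⊗ₜ[A] s.1) := by
      change Ideal.Quotient.mk _ ((1 : B) ⊗ₜ[A] b) * Ideal.Quotient.mk _ (s.1 ⊗ₜ[A] (1 : B)) -
        Ideal.Quotient.mk _ (b ⊗ₜ[A] (1 : B)) * Ideal.Quotient.mk _ ((1 : B) ⊗ₜ[A] s.1) = _
      rw [← map_mul, ← map_mul, ← map_sub, Algebra.TensorProduct.tmul_mul_tmul,
        Algebra.TensorProduct.tmul_mul_tmul, one_mul, mul_one]
    rw [e2]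
    apply Ideal.mem_map_of_mem
    change _ ∈ RingHom.ker _
    rw [RingHom.mem_ker, map_sub, Algebra.TensorProduct.lmul'_apply_tmul,
      Algebra.TensorProduct.lmul'_apply_tmul, mul_comm, sub_self]
  have := Ideal.mul_mem_right ((huU.mul hvU).unit⁻¹ : Lˣ).1 _ hmain
  rwa [mul_assoc, IsUnit.mul_val_inv, mul_one] at this

lemma phiA_ker (x : B' ⊗[A] B') (hx : x ∈ (KaehlerDifferential.ideal A B') ^ (n + 1)) :
    phiA n A B B' S L x = 0 := by
  have h1 : (KaehlerDifferential.ideal A B').map (phiA n A B B' S L).toRingHom ≤ JL n A B L := by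
    rw [← KaehlerDifferential.span_range_eq_ideal, Ideal.map_span, Ideal.span_le]
    rintro _ ⟨_, ⟨b', rfl⟩, rfl⟩
    exact phiA_zeta_mem n A B B' S L b'
  have h2 : ((KaehlerDifferential.ideal A B') ^ (n + 1)).map (phiA n A B B' S L).toRingHom ≤ ⊥ := by
    have h0 := Ideal.map_pow (phiA n A B B' S L).toRingHom (KaehlerDifferential.ideal A B') (n + 1)
    rw [h0, ← JL_pow n A B L]
    exact Ideal.pow_right_mono h1 (n + 1)
  have h3 := h2 (Ideal.mem_map_of_mem _ hx)
  exact (Ideal.mem_bot.mp h3)

/-- `P^n_{B'/A} → L`. -/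
def gInv : PP16.P n A B' →+* L :=
  Ideal.Quotient.lift ((KaehlerDifferential.ideal A B') ^ (n + 1)) (phiA n A B B' S L).toRingHom
    (fun x hx => phiA_ker n A B B' S L x hx)

lemma gInv_mk (x : B' ⊗[A] B') :
    gInv n A B B' S L (Ideal.Quotient.mk _ x) = phiA n A B B' S L x := rfl

omit [Algebra A L] [IsScalarTower A (PP16.P n A B) L] in
lemma units_P' (y : Mon n A B S) : IsUnit (algebraMap (PP16.P n A B) (PP16.P n A B') y.1) := by
  obtain ⟨s, hs, hy⟩ := Submonoid.mem_map.mp y.2
  rw [← hy]
  change IsUnit (PP16.map n A B A B' (algebraMap B (PP16.P n A B) s))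
  rw [PP16.map_algebraMap]
  exact (IsLocalization.map_units B' (⟨s, hs⟩ : S)).map _

/-- `L → P^n_{B'/A}`. -/
def fMap : L →+* PP16.P n A B' :=
  IsLocalization.lift (M := Mon n A B S) (g := algebraMap (PP16.P n A B) (PP16.P n A B'))
    (units_P' n A B B' S)

omit [Algebra A L] [IsScalarTower A (PP16.P n A B) L] in
lemma fMap_alg (p : PP16.P n A B) :
    fMap n A B B' S L (algebraMap (PP16.P n A B) L p) = PP16.map n A B A B' p := by
  unfold fMap
  rw [IsLocalization.lift_eq]
  rfl

lemma f_ell (b' : B') :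
    fMap n A B B' S L (ellA n A B B' S L b') = algebraMap B' (PP16.P n A B') b' := by
  have : (fMap n A B B' S L).comp (ellA n A B B' S L).toRingHom = algebraMap B' (PP16.P n A B') := by
    apply IsLocalization.ringHom_ext S
    ext b
    simp only [RingHom.comp_apply, AlgHom.toRingHom_eq_coe, RingHom.coe_coe]
    rw [ellA_alg, fMap_alg, PP16.map_algebraMap]
  exact RingHom.congr_fun this b'

lemma f_r (c' : B') :
    fMap n A B B' S L (rA n A B B' S L c') = PP16.dn n A B' c' := by
  have : (fMap n A B B' S L).comp (rA n A B B' S L).toRingHom = (PP16.dn n A B').toRingHom := by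
    apply IsLocalization.ringHom_ext S
    ext b
    simp only [RingHom.comp_apply, AlgHom.toRingHom_eq_coe, RingHom.coe_coe]
    rw [rA_alg, fMap_alg, PP16.map_dn]
  exact RingHom.congr_fun this c'

lemma f_g (y : PP16.P n A B') : fMap n A B B' S L (gInv n A B B' S L y) = y := by
  obtain ⟨t, rfl⟩ := Ideal.Quotient.mk_surjective y
  rw [gInv_mk]
  induction t with
  | zero => simp
  | add x y hx hy => rw [map_add, map_add, hx, hy, map_add]
  | tmul b c =>
    rw [phiA_tmul, map_mul, f_ell, f_r]
    change Ideal.Quotient.mk _ (b ⊗ₜ[A] (1 : B')) * Ideal.Quotient.mk _ ((1 : B') ⊗ₜ[A] c) = _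
    rw [← map_mul, Algebra.TensorProduct.tmul_mul_tmul, mul_one, one_mul]

lemma g_f (x : L) : gInv n A B B' S L (fMap n A B B' S L x) = x := by
  have : (gInv n A B B' S L).comp (fMap n A B B' S L) = RingHom.id L := by
    apply IsLocalization.ringHom_ext (Mon n A B S)
    apply RingHom.ext
    intro p
    simp only [RingHom.comp_apply, RingHom.id_apply]
    rw [fMap_alg]
    obtain ⟨t, rfl⟩ := Ideal.Quotient.mk_surjective p
    rw [PP16.map_mk, gInv_mk]
    induction t with
    | zero => simp
    | add x y hx hy => rw [map_add, map_add, hx, hy, map_add, map_add]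
    | tmul b c =>
      rw [PP16.tensorMap_tmul, phiA_tmul, ellA_alg, rA_alg, ← map_mul]
      congr 1
      change Ideal.Quotient.mk _ (b ⊗ₜ[A] (1 : B)) * Ideal.Quotient.mk _ ((1 : B) ⊗ₜ[A] c) = _
      rw [← map_mul, Algebra.TensorProduct.tmul_mul_tmul, mul_one, one_mul]
  exact RingHom.congr_fun this x

/-- the algebra isomorphism `L ≃ P^n_{B'/A}`. -/
def eqv : L ≃ₐ[PP16.P n A B] PP16.P n A B' :=
  { toFun := fMap n A B B' S L
    invFun := gInv n A B B' S L
    left_inv := g_f n A B B' S L
    right_inv := f_g n A B B' S L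
    map_mul' := map_mul _
    map_add' := map_add _
    commutes' := fun p => fMap_alg n A B B' S L p }

end

end


/-- Let B be an A-algebra, S a multiplicative subset of B and B' = S⁻¹B. Then the canonical map
S⁻¹P^n_{B/A} → P^n_{B'/A} induced by functoriality is an isomorphism: P^n_{B'/A} is the localization
of P^n_{B/A} at the image of S. -/
theorem result (n : ℕ) (A B B' : Type u) [CommRing A] [CommRing B] [Algebra A B]
    [CommRing B'] [Algebra B B'] [Algebra A B'] [IsScalarTower A B B'] (S : Submonoid B) [IsLocalization S B'] :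
    IsLocalization (S.map (algebraMap B (PP16.P n A B))) (PP16.P n A B') := by
  have e := eqv n A B B' S (Localization (Mon n A B S))
  exact IsLocalization.isLocalization_of_algEquiv (R := PP16.P n A B) (S := Localization (Mon n A B S))
    (P := PP16.P n A B') (Mon n A B S) e

end Groth.Agent.S3807
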