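import Groth.Statements.S3810
import Groth.Agent.Lib.QuotPow
import Mathlib.LinearAlgebra.TensorProduct.RightExactness

set_option autoImplicit false
universe u
open scoped TensorProduct
open PP16

namespace Groth.Agent.S3810

/-- Let B be an A-algebra, K an ideal of B and C = B/K. Then the canonical map P^n_{B/A} → P^n_{C/A} is
surjective and its kernel is the ideal generated by the image of K under the structure map B →
P^n_{B/A} together with the image of K under the principal-part map d^n (the latter is an additive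
subgroup, not a B-submodule, in general). -/
theorem result (n : ℕ) (A B : Type u) [CommRing A] [CommRing B] [Algebra A B]
    (K : Ideal B) :
    Function.Surjective (PP16.map n A B A (B ⧸ K)) ∧
      RingHom.ker (PP16.map n A B A (B ⧸ K)) =
        K.map (algebraMap B (PP16.P n A B)) ⊔ K.map (PP16.dn n A B) := by
  have hmk : Function.Surjective (Ideal.Quotient.mkₐ A K) := Ideal.Quotient.mkₐ_surjective A K
  have hφeq : PP16.tensorMap A B A (B ⧸ K) =
      Algebra.TensorProduct.map (Ideal.Quotient.mkₐ A K) (Ideal.Quotient.mkₐ A K) := by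
    apply Algebra.TensorProduct.ext'
    intro b c
    rw [PP16.tensorMap_tmul]
    rfl
  have hφsurj : Function.Surjective (PP16.tensorMap A B A (B ⧸ K)) := by
    rw [hφeq]
    exact Algebra.TensorProduct.map_surjective _ _ hmk hmk
  have hker : RingHom.ker (PP16.tensorMap A B A (B ⧸ K)) =
      K.map (Algebra.TensorProduct.includeLeft : B →ₐ[A] B ⊗[A] B) ⊔
        K.map (Algebra.TensorProduct.includeRight : B →ₐ[A] B ⊗[A] B) := by
    rw [hφeq, Algebra.TensorProduct.map_ker _ _ hmk hmk]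
    have hk : RingHom.ker (Ideal.Quotient.mkₐ A K) = K := Ideal.Quotient.mkₐ_ker A K
    rw [hk]
  have hIJ : (KaehlerDifferential.ideal A B).map (PP16.tensorMap A B A (B ⧸ K)) =
      KaehlerDifferential.ideal A (B ⧸ K) := by
    apply le_antisymm (PP16.ideal_map_tensorMap_le A B A (B ⧸ K))
    rw [← KaehlerDifferential.span_range_eq_ideal A (B ⧸ K), Ideal.span_le]
    rintro _ ⟨s, rfl⟩
    obtain ⟨s, rfl⟩ := Ideal.Quotient.mk_surjective s
    have h1 : (1 : B ⧸ K) ⊗ₜ[A] (Ideal.Quotient.mk K s) - (Ideal.Quotient.mk K s) ⊗ₜ[A] (1 : B ⧸ K) =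
        PP16.tensorMap A B A (B ⧸ K) ((1 : B) ⊗ₜ[A] s - s ⊗ₜ[A] (1 : B)) := by
      rw [map_sub, PP16.tensorMap_tmul, PP16.tensorMap_tmul, map_one]
      rfl
    change (1 : B ⧸ K) ⊗ₜ[A] (Ideal.Quotient.mk K s) - (Ideal.Quotient.mk K s) ⊗ₜ[A] (1 : B ⧸ K) ∈ _
    rw [h1]
    exact Ideal.mem_map_of_mem _ (KaehlerDifferential.one_smul_sub_smul_one_mem_ideal A s)
  have hIJ' : ((KaehlerDifferential.ideal A B) ^ (n + 1)).map
      (PP16.tensorMap A B A (B ⧸ K)).toRingHom = (KaehlerDifferential.ideal A (B ⧸ K)) ^ (n + 1) := by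
    rw [Ideal.map_pow]
    congr 1
  obtain ⟨h1, h2⟩ := Groth.Agent.Lib.QuotPow.surjective_and_ker
    (PP16.tensorMap A B A (B ⧸ K)).toRingHom hφsurj _ _ hIJ'
    (PP16.map n A B A (B ⧸ K)).toRingHom (fun x => rfl)
  refine ⟨h1, ?_⟩
  change RingHom.ker (PP16.map n A B A (B ⧸ K)).toRingHom = _
  rw [h2]
  change Ideal.map _ (RingHom.ker (PP16.tensorMap A B A (B ⧸ K))) = _
  rw [hker, Ideal.map_sup]
  congr 1
  · exact Groth.Agent.Lib.QuotPow.map_map_of_eq _ _ _ (fun x => rfl) K
  · exact Groth.Agent.Lib.QuotPow.map_map_of_eq _ _ _ (fun x => rfl) K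

end Groth.Agent.S3810
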