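import Groth.Statements.S3811
import Groth.Agent.Lib.QuotPow

set_option autoImplicit false
universe u
open scoped TensorProduct
open PP16

namespace Groth.Agent.S3811

section

variable {A B : Type u} [CommRing A] [CommRing B] [Algebra A B] (g : B →ₐ[A] A)

/-- `b ⊗ c ↦ g b • c` -/
noncomputable def psi : B ⊗[A] B →ₐ[A] B :=
  Algebra.TensorProduct.productMap ((Algebra.ofId A B).comp g) (AlgHom.id A B)

theorem psi_tmul (b c : B) : psi g (b ⊗ₜ[A] c) = algebraMap A B (g b) * c := by
  simp [psi, Algebra.ofId_apply]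

theorem sub_mem_ker (b : B) : b - algebraMap A B (g b) ∈ RingHom.ker g := by
  rw [RingHom.mem_ker, map_sub, AlgHom.commutes]
  simp

theorem sub_psi_mem (x : B ⊗[A] B) :
    x - (1 : B) ⊗ₜ[A] psi g x ∈
      (RingHom.ker g).map (Algebra.TensorProduct.includeLeft : B →ₐ[A] B ⊗[A] B) := by
  induction x with
  | zero => simp
  | tmul b c =>
    have h1 : b ⊗ₜ[A] c - (1 : B) ⊗ₜ[A] psi g (b ⊗ₜ[A] c) =
        (Algebra.TensorProduct.includeLeft : B →ₐ[A] B ⊗[A] B) (b - algebraMap A B (g b)) *
          ((1 : B) ⊗ₜ[A] c) := by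
      rw [psi_tmul, Algebra.TensorProduct.includeLeft_apply, Algebra.TensorProduct.tmul_mul_tmul,
        mul_one, one_mul, TensorProduct.sub_tmul, ← Algebra.smul_def, TensorProduct.tmul_smul,
        TensorProduct.smul_tmul', Algebra.smul_def, mul_one]
    rw [h1]
    exact Ideal.mul_mem_right _ _ (Ideal.mem_map_of_mem _ (sub_mem_ker g b))
  | add x y hx hy =>
    have h1 : x + y - (1 : B) ⊗ₜ[A] psi g (x + y) =
        (x - (1 : B) ⊗ₜ[A] psi g x) + (y - (1 : B) ⊗ₜ[A] psi g y) := by
      rw [map_add, TensorProduct.tmul_add]; abel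
    rw [h1]
    exact Ideal.add_mem _ hx hy

theorem map_includeLeft_le_ker :
    (RingHom.ker g).map (Algebra.TensorProduct.includeLeft : B →ₐ[A] B ⊗[A] B) ≤
      RingHom.ker (psi g) := by
  rw [Ideal.map_le_iff_le_comap]
  intro k hk
  rw [Ideal.mem_comap, RingHom.mem_ker, Algebra.TensorProduct.includeLeft_apply, psi_tmul,
    (RingHom.mem_ker).mp hk, map_zero, zero_mul]

theorem map_psi_le : (KaehlerDifferential.ideal A B).map (psi g) ≤ RingHom.ker g := by
  rw [← KaehlerDifferential.span_range_eq_ideal, Ideal.map_span, Ideal.span_le]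
  rintro _ ⟨_, ⟨s, rfl⟩, rfl⟩
  rw [map_sub, psi_tmul, psi_tmul, map_one, map_one, one_mul, mul_one]
  exact sub_mem_ker g s

end

/-- Let B be an A-algebra with an A-algebra retraction g : B → A, and K the kernel of g. The composite
of d^n : B → P^n_{B/A} with the projection P^n_{B/A} → P^n_{B/A} / K P^n_{B/A} (base change of
P^n_{B/A} along g) is surjective with kernel K^(n+1); thus P^n_{B/A} ⊗_B A is identified with
B/K^(n+1), the class of d^n t corresponding to the class of t. -/
theorem result (n : ℕ) (A B : Type u) [CommRing A] [CommRing B] [Algebra A B]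
    (g : B →ₐ[A] A) :
    Function.Surjective ((Ideal.Quotient.mk ((RingHom.ker g).map (algebraMap B (PP16.P n A B)))).comp
        (PP16.dn n A B).toRingHom) ∧
      RingHom.ker ((Ideal.Quotient.mk ((RingHom.ker g).map (algebraMap B (PP16.P n A B)))).comp
        (PP16.dn n A B).toRingHom) = RingHom.ker g ^ (n + 1) := by
  set K := RingHom.ker g with hK
  set I := KaehlerDifferential.ideal A B with hI
  set mk1 := Ideal.Quotient.mk (I ^ (n + 1)) with hmk1
  set mk2 := Ideal.Quotient.mk (K.map (algebraMap B (PP16.P n A B))) with hmk2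
  have hKP : K.map (algebraMap B (PP16.P n A B)) =
      (K.map (Algebra.TensorProduct.includeLeft : B →ₐ[A] B ⊗[A] B)).map mk1 :=
    (Groth.Agent.Lib.QuotPow.map_map_of_eq _ _ _ (fun x => rfl) K).symm
  have hdn : ∀ t : B, (PP16.dn n A B) t = mk1 ((1 : B) ⊗ₜ[A] t) := fun t => rfl
  constructor
  · intro y
    obtain ⟨y, rfl⟩ := Ideal.Quotient.mk_surjective y
    obtain ⟨x, rfl⟩ := Ideal.Quotient.mk_surjective y
    refine ⟨psi g x, ?_⟩
    rw [RingHom.comp_apply]
    change mk2 ((PP16.dn n A B) (psi g x)) = mk2 (mk1 x)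
    rw [hdn, eq_comm, ← sub_eq_zero, ← map_sub, ← map_sub, Ideal.Quotient.eq_zero_iff_mem, hKP]
    exact Ideal.mem_map_of_mem _ (sub_psi_mem g x)
  · apply le_antisymm
    · intro t ht
      rw [RingHom.mem_ker, RingHom.comp_apply] at ht
      change mk2 ((PP16.dn n A B) t) = 0 at ht
      rw [hdn, Ideal.Quotient.eq_zero_iff_mem, hKP,
        Ideal.mem_map_iff_of_surjective _ Ideal.Quotient.mk_surjective] at ht
      obtain ⟨k', hk', hkt⟩ := ht
      rw [Ideal.Quotient.eq] at hkt
      have h1 : t = psi g ((1 : B) ⊗ₜ[A] t) := by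
        rw [psi_tmul, map_one, map_one, one_mul]
      have h2 : psi g ((1 : B) ⊗ₜ[A] t) = psi g ((1 : B) ⊗ₜ[A] t - k') := by
        rw [map_sub, (RingHom.mem_ker).mp (map_includeLeft_le_ker g hk'), sub_zero]
      have h3 : (1 : B) ⊗ₜ[A] t - k' ∈ I ^ (n + 1) := by
        rw [← neg_sub]
        exact neg_mem hkt
      have h4 : psi g ((1 : B) ⊗ₜ[A] t - k') ∈ (I ^ (n + 1)).map (psi g) :=
        Ideal.mem_map_of_mem _ h3
      rw [Ideal.map_pow] at h4
      rw [h1, h2]
      exact Ideal.pow_right_mono (map_psi_le g) _ h4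
    · set Θ := mk2.comp (PP16.dn n A B).toRingHom with hΘ
      have hΘK : K.map Θ ≤ I.map (mk2.comp mk1) := by
        rw [Ideal.map_le_iff_le_comap]
        intro k hk
        rw [Ideal.mem_comap]
        have h1 : Θ k = (mk2.comp mk1) ((1 : B) ⊗ₜ[A] k - k ⊗ₜ[A] (1 : B)) := by
          rw [hΘ, RingHom.comp_apply, RingHom.comp_apply]
          change mk2 ((PP16.dn n A B) k) = _
          rw [hdn, ← sub_eq_zero, ← map_sub, ← map_sub, Ideal.Quotient.eq_zero_iff_mem, hKP,
            sub_sub_cancel]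
          exact Ideal.mem_map_of_mem _ (Ideal.mem_map_of_mem _ hk)
        rw [h1]
        exact Ideal.mem_map_of_mem _ (KaehlerDifferential.one_smul_sub_smul_one_mem_ideal A k)
      have hzero : (I.map (mk2.comp mk1)) ^ (n + 1) = ⊥ := by
        have h0 := Ideal.map_pow (mk2.comp mk1) I (n + 1)
        rw [← h0, ← Ideal.map_map, hmk1, Ideal.map_quotient_self, Ideal.map_bot]
      intro t ht
      have h1 : Θ t ∈ (K ^ (n + 1)).map Θ := Ideal.mem_map_of_mem _ ht
      have h0 := Ideal.map_pow Θ K (n + 1)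
      rw [h0] at h1
      have h2 := Ideal.pow_right_mono hΘK (n + 1) h1
      rw [hzero] at h2
      exact h2

end Groth.Agent.S3811
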