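import Groth.Statements.S3812
import Mathlib.RingTheory.MvPolynomial.Ideal

set_option autoImplicit false
universe u
open scoped TensorProduct
open PP16

namespace Groth.Agent.S3812

section

variable (A : Type u) [CommRing A] (σ : Type u)

local notation "B" => MvPolynomial σ A

/-- `b ⊗ p ↦ b • p(X + T)` -/
noncomputable def fwd : B ⊗[A] B →ₐ[B] MvPolynomial σ B :=
  Algebra.TensorProduct.lift (Algebra.ofId B (MvPolynomial σ B))
    (MvPolynomial.aeval (fun i => (MvPolynomial.X i : MvPolynomial σ B) +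
      MvPolynomial.C (MvPolynomial.X i : B)))
    (fun _ _ => Commute.all _ _)

/-- `U_i ↦ 1 ⊗ T_i - T_i ⊗ 1` -/
noncomputable def bwd : MvPolynomial σ B →ₐ[B] B ⊗[A] B :=
  MvPolynomial.aeval (fun i => (1 : B) ⊗ₜ[A] (MvPolynomial.X i : B) -
    (MvPolynomial.X i : B) ⊗ₜ[A] (1 : B))

theorem fwd_tmul (b p : B) :
    fwd A σ (b ⊗ₜ[A] p) = MvPolynomial.C b *
      MvPolynomial.aeval (fun i => (MvPolynomial.X i : MvPolynomial σ B) +
        MvPolynomial.C (MvPolynomial.X i : B)) p := by
  simp [fwd, Algebra.ofId_apply, MvPolynomial.algebraMap_eq]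

theorem fwd_bwd : (fwd A σ).comp (bwd A σ) = AlgHom.id B (MvPolynomial σ B) := by
  apply MvPolynomial.algHom_ext
  intro i
  simp [bwd, fwd_tmul]

theorem bwd_fwd : (bwd A σ).comp (fwd A σ) = AlgHom.id B (B ⊗[A] B) := by
  apply Algebra.TensorProduct.ext
  · apply AlgHom.ext
    intro b
    simp [fwd_tmul, bwd, Algebra.TensorProduct.algebraMap_apply]
  · apply MvPolynomial.algHom_ext
    intro i
    simp [fwd_tmul, bwd, Algebra.TensorProduct.algebraMap_apply]

/-- the `B`-algebra isomorphism `B ⊗ B ≃ B[U]` -/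
noncomputable def e₀ : B ⊗[A] B ≃ₐ[B] MvPolynomial σ B :=
  AlgEquiv.ofAlgHom (fwd A σ) (bwd A σ) (fwd_bwd A σ) (bwd_fwd A σ)

theorem constantCoeff_aeval (p : B) :
    MvPolynomial.constantCoeff (MvPolynomial.aeval (fun i => (MvPolynomial.X i : MvPolynomial σ B) +
        MvPolynomial.C (MvPolynomial.X i : B)) p) = p := by
  induction p using MvPolynomial.induction_on with
  | C a => simp [MvPolynomial.algebraMap_eq]
  | add p q hp hq => rw [map_add, map_add, hp, hq]
  | mul_X p i hp => rw [map_mul, map_mul, hp]; simp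

theorem constantCoeff_fwd (x : B ⊗[A] B) :
    MvPolynomial.constantCoeff (fwd A σ x) = Algebra.TensorProduct.lmul' (S := B) A x := by
  induction x with
  | zero => simp
  | tmul b p =>
    rw [fwd_tmul, map_mul, constantCoeff_aeval, Algebra.TensorProduct.lmul'_apply_tmul]
    simp
  | add x y hx hy => rw [map_add, map_add, map_add, hx, hy]

theorem map_ideal :
    (KaehlerDifferential.ideal A B).map ((e₀ A σ : B ⊗[A] B ≃ₐ[B] MvPolynomial σ B) :
      B ⊗[A] B →+* MvPolynomial σ B) =
    Ideal.span (Set.range (MvPolynomial.X : σ → MvPolynomial σ B)) := by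
  apply le_antisymm
  · rw [Ideal.map_le_iff_le_comap]
    intro x hx
    rw [Ideal.mem_comap]
    have h1 := (MvPolynomial.mem_pow_idealOfVars_iff' (σ := σ) (R := B) 1
      ((e₀ A σ : B ⊗[A] B →+* MvPolynomial σ B) x))
    rw [pow_one] at h1
    rw [h1]
    intro d hd
    have hd0 : d = 0 := by
      rw [Nat.lt_one_iff] at hd
      exact (Finsupp.degree_eq_zero_iff d).mp hd
    rw [hd0]
    change MvPolynomial.constantCoeff (fwd A σ x) = 0
    rw [constantCoeff_fwd]
    exact hx
  · rw [Ideal.span_le]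
    rintro _ ⟨i, rfl⟩
    have h1 : (MvPolynomial.X i : MvPolynomial σ B) =
        (e₀ A σ : B ⊗[A] B →+* MvPolynomial σ B)
          ((1 : B) ⊗ₜ[A] (MvPolynomial.X i : B) - (MvPolynomial.X i : B) ⊗ₜ[A] (1 : B)) := by
      change _ = fwd A σ _
      rw [map_sub, fwd_tmul, fwd_tmul]
      simp
    rw [SetLike.mem_coe, h1]
    exact Ideal.mem_map_of_mem _
      (KaehlerDifferential.one_smul_sub_smul_one_mem_ideal A (MvPolynomial.X i : B))

end

/-- Let B = A[T_i] be a polynomial algebra. There is an isomorphism of B-algebras from P^n_{B/A} onto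
B[U_i]/(U)^(n+1), where (U) is the ideal generated by the new indeterminates, sending the principal
part d^n T_i to the class of T_i + U_i for every i (so d^n F(T) goes to the class of F(T + U)). -/
theorem result (n : ℕ) (A : Type u) [CommRing A] (σ : Type u) :
    ∃ e : PP16.P n A (MvPolynomial σ A) ≃ₐ[MvPolynomial σ A]
        (MvPolynomial σ (MvPolynomial σ A) ⧸
          Ideal.span (Set.range (MvPolynomial.X : σ → MvPolynomial σ (MvPolynomial σ A))) ^ (n + 1)),
      ∀ i : σ, e (PP16.dn n A (MvPolynomial σ A) (MvPolynomial.X i)) =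
        Ideal.Quotient.mk _ (MvPolynomial.C (MvPolynomial.X i : MvPolynomial σ A) +
          (MvPolynomial.X i : MvPolynomial σ (MvPolynomial σ A))) := by
  have hIJ : Ideal.span (Set.range (MvPolynomial.X : σ → MvPolynomial σ (MvPolynomial σ A))) ^ (n + 1) =
      ((KaehlerDifferential.ideal A (MvPolynomial σ A)) ^ (n + 1)).map
        ((e₀ A σ : _ ≃ₐ[MvPolynomial σ A] _) : _ →+* _) := by
    rw [Ideal.map_pow, map_ideal]
  refine ⟨Ideal.quotientEquivAlg _ _ (e₀ A σ) hIJ, fun i => ?_⟩
  change Ideal.Quotient.mk _ (fwd A σ ((1 : MvPolynomial σ A) ⊗ₜ[A] MvPolynomial.X i)) = _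
  rw [fwd_tmul]
  simp [add_comm]

end Groth.Agent.S3812
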