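import Groth.Statements.S3813
import Mathlib.RingTheory.TensorProduct.Quotient
import Mathlib.LinearAlgebra.TensorProduct.RightExactness

set_option autoImplicit false
universe u
open scoped TensorProduct
open PP16

namespace Groth.Agent.S3813

section

variable (A : Type u) [CommRing A] (E : Type u) [AddCommGroup E] [Module A E]

local notation "B" => SymmetricAlgebra A E

/-- `t ↦ ι t ⊗ 1 + 1 ⊗ ι t` -/
noncomputable def plusMap : E →ₗ[A] B ⊗[A] B :=
  ((TensorProduct.mk A B B).flip 1).comp (SymmetricAlgebra.ι A E) +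
    (TensorProduct.mk A B B 1).comp (SymmetricAlgebra.ι A E)

/-- `t ↦ 1 ⊗ ι t - ι t ⊗ 1` -/
noncomputable def minusMap : E →ₗ[A] B ⊗[A] B :=
  (TensorProduct.mk A B B 1).comp (SymmetricAlgebra.ι A E) -
    ((TensorProduct.mk A B B).flip 1).comp (SymmetricAlgebra.ι A E)

@[simp] theorem plusMap_apply (t : E) :
    plusMap A E t = SymmetricAlgebra.ι A E t ⊗ₜ[A] (1 : B) + (1 : B) ⊗ₜ[A] SymmetricAlgebra.ι A E t :=
  rfl

@[simp] theorem minusMap_apply (t : E) :
    minusMap A E t = (1 : B) ⊗ₜ[A] SymmetricAlgebra.ι A E t - SymmetricAlgebra.ι A E t ⊗ₜ[A] (1 : B) :=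
  rfl

noncomputable def fwd : B ⊗[A] B →ₐ[B] B ⊗[A] B :=
  Algebra.TensorProduct.lift (Algebra.ofId B (B ⊗[A] B)) (SymmetricAlgebra.lift (plusMap A E))
    (fun _ _ => Commute.all _ _)

noncomputable def bwd : B ⊗[A] B →ₐ[B] B ⊗[A] B :=
  Algebra.TensorProduct.lift (Algebra.ofId B (B ⊗[A] B)) (SymmetricAlgebra.lift (minusMap A E))
    (fun _ _ => Commute.all _ _)

theorem fwd_tmul (b c : B) :
    fwd A E (b ⊗ₜ[A] c) = (b ⊗ₜ[A] (1 : B)) * SymmetricAlgebra.lift (plusMap A E) c := by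
  simp [fwd, Algebra.ofId_apply, Algebra.TensorProduct.algebraMap_apply]

theorem bwd_tmul (b c : B) :
    bwd A E (b ⊗ₜ[A] c) = (b ⊗ₜ[A] (1 : B)) * SymmetricAlgebra.lift (minusMap A E) c := by
  simp [bwd, Algebra.ofId_apply, Algebra.TensorProduct.algebraMap_apply]

theorem fwd_bwd : (fwd A E).comp (bwd A E) = AlgHom.id B (B ⊗[A] B) := by
  apply Algebra.TensorProduct.ext
  · apply AlgHom.ext
    intro b
    simp [fwd_tmul, bwd_tmul]
  · apply SymmetricAlgebra.algHom_ext
    apply LinearMap.ext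
    intro t
    simp [fwd_tmul, bwd_tmul, ← Algebra.TensorProduct.one_def]

theorem bwd_fwd : (bwd A E).comp (fwd A E) = AlgHom.id B (B ⊗[A] B) := by
  apply Algebra.TensorProduct.ext
  · apply AlgHom.ext
    intro b
    simp [fwd_tmul, bwd_tmul]
  · apply SymmetricAlgebra.algHom_ext
    apply LinearMap.ext
    intro t
    simp [fwd_tmul, bwd_tmul, ← Algebra.TensorProduct.one_def]

noncomputable def θ : B ⊗[A] B ≃ₐ[B] B ⊗[A] B :=
  AlgEquiv.ofAlgHom (fwd A E) (bwd A E) (fwd_bwd A E) (bwd_fwd A E)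

/-- the augmentation -/
noncomputable def aug : B →ₐ[A] A := SymmetricAlgebra.lift (0 : E →ₗ[A] A)

theorem aug_surjective : Function.Surjective (aug A E) := fun a =>
  ⟨algebraMap A B a, by simp [aug]⟩

theorem key_id :
    ((Algebra.TensorProduct.rid A A B : B ⊗[A] A ≃ₐ[A] B) : B ⊗[A] A →ₐ[A] B).comp
      ((Algebra.TensorProduct.map (AlgHom.id A B) (aug A E)).comp
        (SymmetricAlgebra.lift (plusMap A E))) = AlgHom.id A B := by
  apply SymmetricAlgebra.algHom_ext
  apply LinearMap.ext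
  intro t
  simp [aug]

theorem lmul'_eq (x : B ⊗[A] B) :
    Algebra.TensorProduct.lmul' (S := B) A x =
      (Algebra.TensorProduct.rid A A B : B ⊗[A] A ≃ₐ[A] B)
        ((Algebra.TensorProduct.map (AlgHom.id A B) (aug A E)) (fwd A E x)) := by
  induction x with
  | zero => simp
  | tmul b c =>
    have h : (Algebra.TensorProduct.rid A A B : B ⊗[A] A ≃ₐ[A] B)
        ((Algebra.TensorProduct.map (AlgHom.id A B) (aug A E))
          (SymmetricAlgebra.lift (plusMap A E) c)) = c := DFunLike.congr_fun (key_id A E) c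
    rw [fwd_tmul, map_mul, map_mul, h, Algebra.TensorProduct.lmul'_apply_tmul,
      Algebra.TensorProduct.map_tmul, map_one, Algebra.TensorProduct.rid_tmul, one_smul]
    rfl
  | add x y hx hy => rw [map_add, map_add, map_add, map_add, hx, hy]

theorem map_ideal :
    (KaehlerDifferential.ideal A B).map ((θ A E : B ⊗[A] B ≃ₐ[B] B ⊗[A] B) :
      B ⊗[A] B →+* B ⊗[A] B) =
    (RingHom.ker (aug A E)).map (Algebra.TensorProduct.includeRight : B →ₐ[A] B ⊗[A] B) := by
  rw [← Algebra.TensorProduct.lTensor_ker (A := B) (aug A E) (aug_surjective A E)]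
  have h1 : KaehlerDifferential.ideal A B =
      (RingHom.ker (Algebra.TensorProduct.map (AlgHom.id A B) (aug A E))).comap
        ((θ A E : B ⊗[A] B ≃ₐ[B] B ⊗[A] B) : B ⊗[A] B →+* B ⊗[A] B) := by
    ext x
    rw [Ideal.mem_comap, RingHom.mem_ker, RingHom.mem_ker, lmul'_eq]
    exact (Algebra.TensorProduct.rid A A B).map_eq_zero_iff
  rw [h1, Ideal.map_comap_of_surjective]
  exact (θ A E).surjective

theorem pow_map_ideal (n : ℕ) :
    ((RingHom.ker (aug A E)) ^ (n + 1)).map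
        (Algebra.TensorProduct.includeRight : B →ₐ[A] B ⊗[A] B) =
      ((KaehlerDifferential.ideal A B) ^ (n + 1)).map
        ((θ A E : B ⊗[A] B ≃ₐ[B] B ⊗[A] B) : B ⊗[A] B →+* B ⊗[A] B) := by
  have h0 := Ideal.map_pow ((θ A E : B ⊗[A] B ≃ₐ[B] B ⊗[A] B) : B ⊗[A] B →+* B ⊗[A] B)
    (KaehlerDifferential.ideal A B) (n + 1)
  have h1 := Ideal.map_pow (Algebra.TensorProduct.includeRight : B →ₐ[A] B ⊗[A] B)
    (RingHom.ker (aug A E)) (n + 1)
  rw [h0, h1, map_ideal]

/-- the isomorphism -/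
noncomputable def eIso (n : ℕ) :
    PP16.P n A B ≃ₐ[B] (B ⊗[A] (B ⧸ RingHom.ker (aug A E) ^ (n + 1))) :=
  (Ideal.quotientEquivAlg (KaehlerDifferential.ideal A B ^ (n + 1))
    (((RingHom.ker (aug A E)) ^ (n + 1)).map
        (Algebra.TensorProduct.includeRight : B →ₐ[A] B ⊗[A] B)) (θ A E)
      (pow_map_ideal A E n)).trans
    (Algebra.TensorProduct.tensorQuotientEquiv (R := A) B B B
      (RingHom.ker (aug A E) ^ (n + 1))).symm

theorem eIso_dn (n : ℕ) (t : E) :
    eIso A E n (PP16.dn n A B (SymmetricAlgebra.ι A E t)) =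
      SymmetricAlgebra.ι A E t ⊗ₜ[A] (1 : B ⧸ RingHom.ker (aug A E) ^ (n + 1)) +
        (1 : B) ⊗ₜ[A] Ideal.Quotient.mk (RingHom.ker (aug A E) ^ (n + 1))
          (SymmetricAlgebra.ι A E t) := by
  have h1 : eIso A E n (PP16.dn n A B (SymmetricAlgebra.ι A E t)) =
      (Algebra.TensorProduct.tensorQuotientEquiv (R := A) B B B
        (RingHom.ker (aug A E) ^ (n + 1))).symm
      (Ideal.Quotient.mk _ (fwd A E ((1 : B) ⊗ₜ[A] SymmetricAlgebra.ι A E t))) := rfl
  rw [h1, fwd_tmul, SymmetricAlgebra.lift_ι_apply, plusMap_apply, ← Algebra.TensorProduct.one_def,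
    one_mul, map_add, map_add]
  rfl

end

/-- Let E be an A-module, B = Sym_A(E) its symmetric algebra and K the augmentation ideal of B (the
kernel of the A-algebra map B → A killing E). For every n there is an isomorphism of B-algebras from
P^n_{B/A} onto B ⊗_A (B/K^(n+1)) sending the principal part d^n t of an element t of E to t ⊗ 1 + 1
⊗ (class of t). -/
theorem result (n : ℕ) (A : Type u) [CommRing A] (E : Type u) [AddCommGroup E]
    [Module A E] :
    ∃ e : PP16.P n A (SymmetricAlgebra A E) ≃ₐ[SymmetricAlgebra A E]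
        (SymmetricAlgebra A E ⊗[A] (SymmetricAlgebra A E ⧸
          RingHom.ker (SymmetricAlgebra.lift (0 : E →ₗ[A] A)) ^ (n + 1))),
      ∀ t : E, e (PP16.dn n A (SymmetricAlgebra A E) (SymmetricAlgebra.ι A E t)) =
        SymmetricAlgebra.ι A E t ⊗ₜ 1 + 1 ⊗ₜ Ideal.Quotient.mk _ (SymmetricAlgebra.ι A E t) :=
  ⟨eIso A E n, eIso_dn A E n⟩

end Groth.Agent.S3813
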