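import Groth.Statements.S3814
import Mathlib.RingTheory.Finiteness.ModuleFinitePresentation
import Mathlib.RingTheory.RingHom.FinitePresentation
import Mathlib.RingTheory.IntegralClosure.IsIntegralClosure.Basic

set_option autoImplicit false
universe u
open scoped TensorProduct
open PP16

namespace Groth.Agent.S3814

theorem isIntegral_P (n : ℕ) (A B : Type u) [CommRing A] [CommRing B] [Algebra A B]
    (y : PP16.P n A B) : IsIntegral B y := by
  obtain ⟨t, rfl⟩ := Ideal.Quotient.mk_surjective y
  set b : B := Algebra.TensorProduct.lmul' (S := B) A t with hb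
  have hmem : t - b ⊗ₜ[A] (1 : B) ∈ KaehlerDifferential.ideal A B := by
    rw [RingHom.mem_ker, map_sub, Algebra.TensorProduct.lmul'_apply_tmul, mul_one, sub_self]
  have hpow : (t - b ⊗ₜ[A] (1 : B)) ^ (n + 1) ∈ KaehlerDifferential.ideal A B ^ (n + 1) :=
    Ideal.pow_mem_pow hmem _
  refine ⟨(Polynomial.X - Polynomial.C b) ^ (n + 1),
    (Polynomial.monic_X_sub_C b).pow _, ?_⟩
  rw [Polynomial.eval₂_pow, Polynomial.eval₂_sub, Polynomial.eval₂_X, Polynomial.eval₂_C]
  change (Ideal.Quotient.mk _ t - Ideal.Quotient.mk _ (b ⊗ₜ[A] (1 : B))) ^ (n + 1) = 0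
  rw [← map_sub, ← map_pow, Ideal.Quotient.eq_zero_iff_mem]
  exact hpow

/-- If B is an A-algebra of finite presentation, then for every n the B-module P^n_{B/A} of principal
parts of order n is of finite presentation. -/
theorem result (n : ℕ) (A B : Type u) [CommRing A] [CommRing B]
    [Algebra A B] [Algebra.FinitePresentation A B] :
    Module.FinitePresentation B (PP16.P n A B) := by
  have h1 : Algebra.FinitePresentation B (B ⊗[A] B) := inferInstance
  have hsurj : Function.Surjective (Algebra.TensorProduct.lmul'' (S := B) A) := fun x =>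
    ⟨x ⊗ₜ[A] 1, by simp [Algebra.TensorProduct.lmul'']⟩
  have h2 : (RingHom.ker (Algebra.TensorProduct.lmul'' (S := B) A)).FG :=
    Algebra.FinitePresentation.ker_fG_of_surjective _ hsurj
  have h3 : (KaehlerDifferential.ideal A B).FG := h2
  have h4 : (KaehlerDifferential.ideal A B ^ (n + 1)).FG := Submodule.FG.pow h3 _
  have h5 : Algebra.FinitePresentation B (PP16.P n A B) :=
    Algebra.FinitePresentation.quotient h4
  have h6 : Algebra.IsIntegral B (PP16.P n A B) := ⟨isIntegral_P n A B⟩
  have h7 : Module.Finite B (PP16.P n A B) := Algebra.IsIntegral.finite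
  exact Module.FinitePresentation.of_finite_of_finitePresentation B (PP16.P n A B)

end Groth.Agent.S3814
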