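import Groth.Statements.S3823
-- import your own Groth.Agent.* helpers here
import Groth.Agent.Lib.QRegSymH1
import Groth.Agent.Lib.SymCompareH1

set_option autoImplicit false
set_option linter.style.haveILetI false
set_option linter.unusedSectionVars false
universe u v
open scoped TensorProduct
open PP16

namespace Groth.Agent.S3823

open Groth.Agent.Lib.SymPowH1 Groth.Agent.Lib.QRegSymH1 Groth.Agent.Lib.SymCompareH1

noncomputable section

section SpanInduction

variable {R : Type u} [CommRing R] {ι : Type u} [Fintype ι] {M : Type v} [AddCommGroup M] [Module R M]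

/-- induction on the symmetric power using pure tensors from a spanning family only. -/
lemma induction_on_span {κ : Type*} (v : κ → M) (hv : Submodule.span R (Set.range v) = ⊤)
    {p : SymmetricPower R ι M → Prop} (ξ : SymmetricPower R ι M)
    (zero : p 0) (gen : ∀ w : ι → κ, p (SymmetricPower.tprod R (fun i => v (w i))))
    (add : ∀ x y, p x → p y → p (x + y)) (smul : ∀ (r : R) x, p x → p (r • x)) : p ξ := by
  classical
  have hspan : ∀ y ∈ Submodule.span R
      (Set.range fun w : ι → κ => SymmetricPower.tprod R (fun i => v (w i))), p y := by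
    intro y hy
    induction hy using Submodule.span_induction with
    | mem y hy => obtain ⟨w, rfl⟩ := hy; exact gen w
    | zero => exact zero
    | add y z _ _ hy hz => exact add y z hy hz
    | smul r y _ hy => exact smul r y hy
  induction ξ using induction_on with
  | zero => exact zero
  | add x y hx hy => exact add x y hx hy
  | smul r x hx => exact smul r x hx
  | tprod m =>
    apply hspan
    have h1 : ∀ j, ∃ c : κ →₀ R, (c.sum fun k a => a • v k) = m j := by
      intro j
      apply Finsupp.mem_span_range_iff_exists_finsupp.1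
      rw [hv]; exact Submodule.mem_top
    choose c hc using h1
    have h2 : m = fun j => ∑ k ∈ (c j).support, (c j k) • v k := by
      funext j
      rw [← hc j]
      rfl
    rw [h2, MultilinearMap.map_sum_finset]
    refine Submodule.sum_mem _ (fun w _ => ?_)
    rw [MultilinearMap.map_smul_univ]
    exact Submodule.smul_mem _ _ (Submodule.subset_span ⟨w, rfl⟩)

end SpanInduction

section Basic

variable (A B : Type u) [CommRing A] [CommRing B] [Algebra A B]

/-- multiplication `B ⊗ B → B` as a ring hom. -/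
def mu : B ⊗[A] B →+* B := (Algebra.TensorProduct.lmul' A : B ⊗[A] B →ₐ[A] B).toRingHom

lemma mu_algebraMap (b : B) : mu A B (algebraMap B (B ⊗[A] B) b) = b := by
  change Algebra.TensorProduct.lmul' A (b ⊗ₜ[A] (1 : B)) = b
  rw [Algebra.TensorProduct.lmul'_apply_tmul, mul_one]

lemma mem_ideal_iff (t : B ⊗[A] B) : t ∈ KaehlerDifferential.ideal A B ↔ mu A B t = 0 := Iff.rfl

lemma sub_mem_ideal (t : B ⊗[A] B) :
    t - algebraMap B (B ⊗[A] B) (mu A B t) ∈ KaehlerDifferential.ideal A B := by
  rw [mem_ideal_iff, map_sub, mu_algebraMap, sub_self]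

lemma smul_kaehler (t : B ⊗[A] B) (ω : KaehlerDifferential A B) : t • ω = mu A B t • ω := by
  have h : (t - algebraMap B (B ⊗[A] B) (mu A B t)) • ω = 0 :=
    Ideal.Cotangent.smul_eq_zero_of_mem (sub_mem_ideal A B t) ω
  rw [sub_smul, sub_eq_zero] at h
  rw [h, algebraMap_smul]

/-- the identification `I^n/I^(n+1)` (as `B`-module) → `I^n/I^(n+1)` (as `B ⊗ B`-module). -/
def theta (n : ℕ) : PP16.grI A B n →ₛₗ[algebraMap B (B ⊗[A] B)]
    PP16.grJ (B ⊗[A] B) (KaehlerDifferential.ideal A B) n :=
  Submodule.liftQ _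
    ({ toFun := fun x => grMk (KaehlerDifferential.ideal A B) n ⟨(x : B ⊗[A] B), x.2⟩
       map_add' := fun x y => by rw [← map_add]; rfl
       map_smul' := fun b x => by
        rw [← map_smul]
        congr 1
        apply Subtype.ext
        exact Algebra.smul_def b (x : B ⊗[A] B) } :
      ↥((KaehlerDifferential.ideal A B ^ n).restrictScalars B) →ₛₗ[algebraMap B (B ⊗[A] B)]
        PP16.grJ (B ⊗[A] B) (KaehlerDifferential.ideal A B) n)
    (by
      intro x hx
      rw [LinearMap.mem_ker]
      exact (grMk_eq_zero_iff _ n _).2 hx)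

lemma theta_mk (n : ℕ) (t : B ⊗[A] B) (ht : t ∈ (KaehlerDifferential.ideal A B ^ n).restrictScalars B) :
    theta A B n (Submodule.Quotient.mk ⟨t, ht⟩) = grMk (KaehlerDifferential.ideal A B) n ⟨t, ht⟩ := rfl

lemma theta_injective (n : ℕ) : Function.Injective (theta A B n) := by
  rw [injective_iff_map_eq_zero]
  intro z hz
  obtain ⟨⟨t, ht⟩, rfl⟩ := Submodule.Quotient.mk_surjective _ z
  rw [theta_mk, grMk_eq_zero_iff] at hz
  rw [Submodule.Quotient.mk_eq_zero]
  exact hz

lemma theta_surjective (n : ℕ) : Function.Surjective (theta A B n) := by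
  intro z
  obtain ⟨⟨t, ht⟩, rfl⟩ := grMk_surjective _ n z
  exact ⟨Submodule.Quotient.mk ⟨t, ht⟩, rfl⟩

/-- the element `1 ⊗ b - b ⊗ 1` of the ideal. -/
def zt (b : B) : ↥(KaehlerDifferential.ideal A B) :=
  ⟨(1 : B) ⊗ₜ[A] b - b ⊗ₜ[A] (1 : B), KaehlerDifferential.one_smul_sub_smul_one_mem_ideal A b⟩

lemma toCotangent_zt (b : B) :
    (KaehlerDifferential.ideal A B).toCotangent (zt A B b) = KaehlerDifferential.D A B b := rfl

lemma theta_zetaProd {ι : Type u} [Fintype ι] (b : ι → B) :
    theta A B _ (PP16.zetaProd A B b) =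
      PP16.zetaJ (B ⊗[A] B) (KaehlerDifferential.ideal A B) (fun i => zt A B (b i)) := rfl

end Basic


section Compare

variable (A B : Type u) [CommRing A] [CommRing B] [Algebra A B] (ι : Type u) [Fintype ι]

/-- `Sym_B(Ω) → Sym_{B⊗B}(Ω)`. -/
def cB : SymmetricPower B ι (KaehlerDifferential A B) →+
    SymmetricPower (B ⊗[A] B) ι (KaehlerDifferential A B) :=
  cmp (R₀ := B) (R := B ⊗[A] B) ι

/-- `Sym_{B⊗B}(Ω) → Sym_B(Ω)`. -/
def dB : SymmetricPower (B ⊗[A] B) ι (KaehlerDifferential A B) →+
    SymmetricPower B ι (KaehlerDifferential A B) :=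
  cmpInv (mu A B) (smul_kaehler A B) ι

lemma cB_tprod (m : ι → KaehlerDifferential A B) :
    cB A B ι (SymmetricPower.tprod B m) = SymmetricPower.tprod (B ⊗[A] B) m := cmp_tprod ι m

lemma cB_smul (b : B) (ξ : SymmetricPower B ι (KaehlerDifferential A B)) :
    cB A B ι (b • ξ) = algebraMap B (B ⊗[A] B) b • cB A B ι ξ := cmp_smul ι b ξ

lemma dB_cB (ξ : SymmetricPower B ι (KaehlerDifferential A B)) : dB A B ι (cB A B ι ξ) = ξ :=
  cmpInv_cmp (mu A B) (mu_algebraMap A B) (smul_kaehler A B) ι ξ

lemma cB_dB [Nonempty ι] (y : SymmetricPower (B ⊗[A] B) ι (KaehlerDifferential A B)) :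
    cB A B ι (dB A B ι y) = y :=
  cmp_cmpInv (mu A B) (mu_algebraMap A B) (smul_kaehler A B) ι y

lemma cB_injective : Function.Injective (cB A B ι) :=
  Function.LeftInverse.injective (dB_cB A B ι)

/-- the canonical map over `B ⊗ B`, on `Sym(Ω)`. -/
def phiT : SymmetricPower (B ⊗[A] B) ι (KaehlerDifferential A B) →ₗ[B ⊗[A] B]
    PP16.grJ (B ⊗[A] B) (KaehlerDifferential.ideal A B) (Fintype.card ι) :=
  phi (KaehlerDifferential.ideal A B) ι

lemma phiT_cB_tprod_D (b : ι → B) :
    phiT A B ι (cB A B ι (SymmetricPower.tprod B (fun i => KaehlerDifferential.D A B (b i)))) =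
      theta A B _ (PP16.zetaProd A B b) := by
  rw [cB_tprod, theta_zetaProd]
  exact phi_tprod (KaehlerDifferential.ideal A B) ι (fun i => zt A B (b i))

/-- any `B`-linear map with the prescribed values is the canonical one, seen through `theta`. -/
lemma theta_comp_eq (φ : SymmetricPower B ι (KaehlerDifferential A B) →ₗ[B] PP16.grI A B (Fintype.card ι))
    (hφ : ∀ b : ι → B, φ (SymmetricPower.tprod B (fun i => KaehlerDifferential.D A B (b i))) =
      PP16.zetaProd A B b)
    (ξ : SymmetricPower B ι (KaehlerDifferential A B)) :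
    theta A B _ (φ ξ) = phiT A B ι (cB A B ι ξ) := by
  refine induction_on_span (p := fun ξ => theta A B _ (φ ξ) = phiT A B ι (cB A B ι ξ))
    (KaehlerDifferential.D A B) (KaehlerDifferential.span_range_derivation A B) ξ ?_ ?_ ?_ ?_
  · rw [map_zero, map_zero, map_zero, map_zero]
  · intro w
    rw [hφ, phiT_cB_tprod_D]
  · intro x y hx hy
    rw [map_add φ, map_add (theta A B _), map_add (cB A B ι), map_add (phiT A B ι), hx, hy]
  · intro b x hx
    rw [map_smul φ, map_smulₛₗ (theta A B _), cB_smul, map_smul (phiT A B ι), hx]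

end Compare

section Nonempty

variable (A B : Type u) [CommRing A] [CommRing B] [Algebra A B] (ι : Type u) [Fintype ι] [Nonempty ι]

/-- differential smoothness gives injectivity of the canonical map over `B ⊗ B`. -/
lemma phiT_injective_of (φ : SymmetricPower B ι (KaehlerDifferential A B) →ₗ[B] PP16.grI A B (Fintype.card ι))
    (hφ : ∀ b : ι → B, φ (SymmetricPower.tprod B (fun i => KaehlerDifferential.D A B (b i))) =
      PP16.zetaProd A B b) (hinj : Function.Injective φ) :
    Function.Injective (phiT A B ι) := by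
  rw [injective_iff_map_eq_zero]
  intro y hy
  have h1 := theta_comp_eq A B ι φ hφ (dB A B ι y)
  rw [cB_dB, hy, ← map_zero (theta A B _)] at h1
  have h2 := hinj ((theta_injective A B _ h1).trans (map_zero φ).symm)
  rw [← cB_dB A B ι y, h2, map_zero]

/-- bijectivity of the canonical map over `B ⊗ B` gives the `B`-linear bijection. -/
lemma exists_phiB_of (hbij : Function.Bijective (phiT A B ι)) :
    ∃ φ : SymmetricPower B ι (KaehlerDifferential A B) →ₗ[B] PP16.grI A B (Fintype.card ι),
      (∀ b : ι → B, φ (SymmetricPower.tprod B (fun i => KaehlerDifferential.D A B (b i))) =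
        PP16.zetaProd A B b) ∧ Function.Bijective φ := by
  let e := Equiv.ofBijective (theta A B (Fintype.card ι))
    ⟨theta_injective A B _, theta_surjective A B _⟩
  have he : ∀ z, theta A B _ (e.symm z) = z := fun z => Equiv.ofBijective_apply_symm_apply _ _ z
  let φ : SymmetricPower B ι (KaehlerDifferential A B) →ₗ[B] PP16.grI A B (Fintype.card ι) :=
    { toFun := fun ξ => e.symm (phiT A B ι (cB A B ι ξ))
      map_add' := fun x y => by
        apply theta_injective A B
        rw [he, map_add (theta A B _), he, he, map_add (cB A B ι), map_add (phiT A B ι)]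
      map_smul' := fun b x => by
        apply theta_injective A B
        rw [he, RingHom.id_apply, map_smulₛₗ (theta A B _), he, cB_smul, map_smul (phiT A B ι)] }
  have hφ : ∀ ξ, theta A B _ (φ ξ) = phiT A B ι (cB A B ι ξ) := fun ξ => he _
  refine ⟨φ, fun b => ?_, ?_, ?_⟩
  · apply theta_injective A B
    rw [hφ, phiT_cB_tprod_D]
  · intro x y hxy
    have h1 : phiT A B ι (cB A B ι x) = phiT A B ι (cB A B ι y) := by rw [← hφ, ← hφ, hxy]
    exact cB_injective A B ι (hbij.1 h1)
  · intro z
    obtain ⟨y, hy⟩ := hbij.2 (theta A B _ z)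
    refine ⟨dB A B ι y, ?_⟩
    apply theta_injective A B
    rw [hφ, cB_dB, hy]

end Nonempty


section Empty

variable (A B : Type u) [CommRing A] [CommRing B] [Algebra A B] (ι : Type u) [Fintype ι] [IsEmpty ι]

lemma exists_phiB_of_isEmpty :
    ∃ φ : SymmetricPower B ι (KaehlerDifferential A B) →ₗ[B] PP16.grI A B (Fintype.card ι),
      (∀ b : ι → B, φ (SymmetricPower.tprod B (fun i => KaehlerDifferential.D A B (b i))) =
        PP16.zetaProd A B b) ∧ Function.Bijective φ := by
  classical
  have h0 : Fintype.card ι = 0 := Fintype.card_eq_zero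
  have hI : KaehlerDifferential.ideal A B ^ (Fintype.card ι + 1) = KaehlerDifferential.ideal A B := by
    rw [h0, zero_add, pow_one]
  let b₀ : ι → B := fun i => isEmptyElim i
  let m₀ : ι → KaehlerDifferential A B := fun i => isEmptyElim i
  let φ : SymmetricPower B ι (KaehlerDifferential A B) →ₗ[B] PP16.grI A B (Fintype.card ι) :=
    symLift (MultilinearMap.constOfIsEmpty B (fun _ : ι => KaehlerDifferential A B)
      (PP16.zetaProd A B b₀)) (fun e f => by
        simp only [MultilinearMap.constOfIsEmpty_apply, Function.const_apply])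
  have hφ : ∀ m : ι → KaehlerDifferential A B,
      φ (SymmetricPower.tprod B m) = PP16.zetaProd A B b₀ := by
    intro m
    exact (symLift_tprod _ _ m).trans rfl
  -- the representative of `zetaProd b₀` is `1`
  have hone : ∏ i, ((1 : B) ⊗ₜ[A] b₀ i - b₀ i ⊗ₜ[A] (1 : B)) = (1 : B ⊗[A] B) := by
    rw [Finset.univ_eq_empty, Finset.prod_empty]
  have hrep : ∀ c : B, ∃ hc : c • (1 : B ⊗[A] B) ∈
      (KaehlerDifferential.ideal A B ^ Fintype.card ι).restrictScalars B,
      c • PP16.zetaProd A B b₀ = Submodule.Quotient.mk ⟨c • (1 : B ⊗[A] B), hc⟩ := by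
    intro c
    have hc : c • (1 : B ⊗[A] B) ∈
        (KaehlerDifferential.ideal A B ^ Fintype.card ι).restrictScalars B := by
      rw [Submodule.restrictScalars_mem, h0, pow_zero, Ideal.one_eq_top]
      exact Submodule.mem_top
    refine ⟨hc, ?_⟩
    unfold PP16.zetaProd
    rw [← Submodule.Quotient.mk_smul]
    congr 1
    apply Subtype.ext
    change c • ∏ i, ((1 : B) ⊗ₜ[A] b₀ i - b₀ i ⊗ₜ[A] (1 : B)) = c • (1 : B ⊗[A] B)
    rw [hone]
  have hall : ∀ ξ : SymmetricPower B ι (KaehlerDifferential A B),
      ∃ c : B, ξ = c • SymmetricPower.tprod B m₀ := by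
    intro ξ
    induction ξ using induction_on with
    | zero => exact ⟨0, (zero_smul _ _).symm⟩
    | tprod m => exact ⟨1, by rw [one_smul, Subsingleton.elim m m₀]⟩
    | add x y hx hy =>
      obtain ⟨c, rfl⟩ := hx
      obtain ⟨c', rfl⟩ := hy
      exact ⟨c + c', (add_smul _ _ _).symm⟩
    | smul r x hx =>
      obtain ⟨c, rfl⟩ := hx
      exact ⟨r * c, (mul_smul _ _ _).symm⟩
  refine ⟨φ, fun b => ?_, ?_, ?_⟩
  · rw [hφ, Subsingleton.elim b b₀]
  · rw [injective_iff_map_eq_zero]
    intro ξ hξ
    obtain ⟨c, rfl⟩ := hall ξ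
    rw [map_smul, hφ] at hξ
    obtain ⟨hc, hc'⟩ := hrep c
    rw [hc', Submodule.Quotient.mk_eq_zero] at hξ
    have h1 : c • (1 : B ⊗[A] B) ∈ KaehlerDifferential.ideal A B ^ (Fintype.card ι + 1) := hξ
    rw [hI, mem_ideal_iff, ← Algebra.algebraMap_eq_smul_one, mu_algebraMap] at h1
    rw [h1, zero_smul]
  · intro z
    obtain ⟨⟨t, ht⟩, rfl⟩ := Submodule.Quotient.mk_surjective _ z
    refine ⟨mu A B t • SymmetricPower.tprod B m₀, ?_⟩
    rw [map_smul, hφ]
    obtain ⟨hc, hc'⟩ := hrep (mu A B t)
    rw [hc', Submodule.Quotient.eq]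
    change mu A B t • (1 : B ⊗[A] B) - t ∈ KaehlerDifferential.ideal A B ^ (Fintype.card ι + 1)
    rw [hI, ← Algebra.algebraMap_eq_smul_one, ← neg_sub]
    exact neg_mem (sub_mem_ideal A B t)

end Empty

section Proj

variable (A B : Type u) [CommRing A] [CommRing B] [Algebra A B]

/-- `(B ⊗ B)/I ≃ B`. -/
def eQuot : (B ⊗[A] B ⧸ KaehlerDifferential.ideal A B) ≃+* B :=
  RingEquiv.ofRingHom
    (Ideal.Quotient.lift (KaehlerDifferential.ideal A B) (mu A B) (fun t ht => ht))
    ((Ideal.Quotient.mk (KaehlerDifferential.ideal A B)).comp (algebraMap B (B ⊗[A] B)))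
    (by
      ext b
      change mu A B (algebraMap B (B ⊗[A] B) b) = b
      exact mu_algebraMap A B b)
    (by
      apply Ideal.Quotient.ringHom_ext
      refine RingHom.ext (fun t => ?_)
      change Ideal.Quotient.mk _ (algebraMap B (B ⊗[A] B) (mu A B t)) = Ideal.Quotient.mk _ t
      rw [Ideal.Quotient.eq, ← neg_sub]
      exact neg_mem (sub_mem_ideal A B t))

lemma eQuot_mk (t : B ⊗[A] B) : eQuot A B (Ideal.Quotient.mk _ t) = mu A B t := rfl

attribute [local instance] RingHomInvPair.of_ringEquiv RingHomInvPair.of_ringEquiv_symm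

/-- `I/I²` over `(B ⊗ B)/I` is `Ω` over `B`. -/
def cotEquiv : (KaehlerDifferential.ideal A B).Cotangent ≃ₛₗ[((eQuot A B :
      (B ⊗[A] B ⧸ KaehlerDifferential.ideal A B) ≃+* B) :
      (B ⊗[A] B ⧸ KaehlerDifferential.ideal A B) →+* B)]
    KaehlerDifferential A B :=
  { toFun := fun ω => ω
    invFun := fun ω => ω
    map_add' := fun _ _ => rfl
    map_smul' := fun q ω => by
      obtain ⟨t, rfl⟩ := Ideal.Quotient.mk_surjective q
      rw [mk_smul_cotangent]
      exact smul_kaehler A B t ω
    left_inv := fun _ => rfl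
    right_inv := fun _ => rfl }

lemma projective_kaehler_iff :
    Module.Projective (B ⊗[A] B ⧸ KaehlerDifferential.ideal A B)
      (KaehlerDifferential.ideal A B).Cotangent ↔ Module.Projective B (KaehlerDifferential A B) :=
  ⟨fun _ => Module.Projective.of_equiv (cotEquiv A B),
    fun _ => Module.Projective.of_equiv (cotEquiv A B).symm⟩

end Proj

end

/-- Let B be an A-algebra of finite type. Then B is differentially smooth over A if and only if the
diagonal immersion is quasi-regular, that is, the kernel I of B ⊗_A B → B is a quasi-regular ideal: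
every prime of B ⊗_A B containing I has a basic open neighbourhood on which I is generated by a
quasi-regular sequence. -/
theorem result (A B : Type u) [CommRing A] [CommRing B] [Algebra A B]
    [Algebra.FiniteType A B] :
    PP16.IsDiffSmooth A B ↔ PP16.IsLocallyQuasiRegular (B ⊗[A] B) (KaehlerDifferential.ideal A B) := by
  constructor
  · rintro ⟨hproj, hsym⟩
    haveI : Module.Projective (B ⊗[A] B ⧸ KaehlerDifferential.ideal A B)
        (KaehlerDifferential.ideal A B).Cotangent := (projective_kaehler_iff A B).2 hproj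
    have hsymT : PP16.SymGrBijective (B ⊗[A] B) (KaehlerDifferential.ideal A B) := by
      intro ι _ _
      obtain ⟨φ, hφ, hbij⟩ := hsym ι
      exact ⟨phi _ ι, phi_tprod _ ι, phiT_injective_of A B ι φ hφ hbij.1, phi_surjective _ ι⟩
    apply isLocallyQuasiRegular_of_hasCharts
    intro P _ hJP
    exact exists_chart_of_symGrBijective (KaehlerDifferential.ideal_fg A B) hsymT P hJP
  · intro h
    have hch := hasCharts_of_isLocallyQuasiRegular h
    refine ⟨(projective_kaehler_iff A B).1 (projective_of_hasCharts hch), ?_⟩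
    have hsymT := symGrBijective_of_hasCharts hch
    intro ι _
    rcases isEmpty_or_nonempty ι with hι | hι
    · exact exists_phiB_of_isEmpty A B ι
    · exact exists_phiB_of A B ι
        ⟨phi_injective_of_symGrBijective hsymT ι, phi_surjective _ ι⟩

end Groth.Agent.S3823

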