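import Groth.Statements.S3825
import Groth.Agent.S3824
import Mathlib.RingTheory.Nakayama
import Mathlib.LinearAlgebra.InvariantBasisNumber
import Mathlib.LinearAlgebra.Basis.Basic

set_option autoImplicit false
universe u
open QReg16

namespace Groth.Agent.S3825

open Groth.Agent.S3824

theorem mk_smul_cot {A : Type u} [CommRing A] (I : Ideal A) (c : A) (y : I.Cotangent) :
    (Ideal.Quotient.mk I c) • y = c • y :=
  algebraMap_smul (A ⧸ I) c y

theorem sum_mk_smul {A : Type u} [CommRing A] (I : Ideal A) {m : ℕ} (f : Fin m → I)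
    (c : Fin m → A) :
    ∑ i, (Ideal.Quotient.mk I (c i)) • I.toCotangent (f i) = I.toCotangent (∑ i, c i • f i) := by
  rw [map_sum]
  refine Finset.sum_congr rfl fun i _ => ?_
  rw [mk_smul_cot, map_smul]

theorem coe_sum_smul {A : Type u} [CommRing A] (I : Ideal A) {m : ℕ} (f : Fin m → I)
    (c : Fin m → A) : ((∑ i, c i • f i : I) : A) = ∑ i, c i * (f i : A) := by
  rw [Submodule.coe_sum]
  rfl

theorem forward {A : Type u} [CommRing A] (I : Ideal A) {m : ℕ} (f : Fin m → I)
    (hqr : CAlgX.IsQuasiRegular (fun i => (f i : A)))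
    (hspan : Ideal.span (Set.range fun i => (f i : A)) = I) :
    LinearIndependent (A ⧸ I) (fun i => I.toCotangent (f i)) ∧
      Submodule.span (A ⧸ I) (Set.range fun i => I.toCotangent (f i)) = ⊤ := by
  constructor
  · rw [Fintype.linearIndependent_iff]
    intro g hg k
    have hc : ∀ i, ∃ c : A, Ideal.Quotient.mk I c = g i := fun i =>
      Ideal.Quotient.mk_surjective (g i)
    choose c hc using hc
    have hg' : ∑ i, (Ideal.Quotient.mk I (c i)) • I.toCotangent (f i) = 0 := by
      rw [← hg]
      exact Finset.sum_congr rfl fun i _ => by rw [hc i]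
    rw [sum_mk_smul, Ideal.toCotangent_eq_zero, coe_sum_smul] at hg'
    let M : Matrix (Fin m) (Fin m) A := fun _ j => c j
    have hcoef := hqr 1 (lin M k) (lin_isHomogeneous M k) (by
      rw [eval_lin, hspan]
      exact hg')
    have hmap := map_eq_zero_of_coeff_mem _ _ hcoef
    rw [map_lin] at hmap
    have h1 := entry_of_lin_eq_zero _ k k hmap
    rw [Matrix.map_apply, Ideal.Quotient.eq_zero_iff_mem, hspan] at h1
    rw [← hc k, Ideal.Quotient.eq_zero_iff_mem]
    exact h1
  · rw [eq_top_iff]
    rintro y -
    obtain ⟨x, rfl⟩ := I.toCotangent_surjective y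
    have hx : (x : A) ∈ Ideal.span (Set.range fun i => (f i : A)) := by
      rw [hspan]; exact x.2
    obtain ⟨c, hc⟩ := (Submodule.mem_span_range_iff_exists_fun A).mp hx
    have hx' : x = ∑ i, c i • f i := by
      apply Subtype.ext
      rw [coe_sum_smul, ← hc]
      rfl
    rw [hx', ← sum_mk_smul]
    exact Submodule.sum_mem _ fun i _ =>
      Submodule.smul_mem _ _ (Submodule.subset_span ⟨i, rfl⟩)

/-- a) iff c) (affine local form): let A be a local ring and I a proper ideal generated by some
quasi-regular sequence. For a finite family (f_i) of elements of I, the following are equivalent: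
(a) (f_i) is a quasi-regular sequence generating I; (c) the classes of the f_i form a basis of the
A/I-module I/I² (equivalently, b): (f_i) is a minimal system of generators of I). -/
theorem result {A : Type u} [CommRing A] [IsLocalRing A]
    (I : Ideal A) (hI : I ≤ IsLocalRing.maximalIdeal A)
    (hq : ∃ (r : ℕ) (g : Fin r → A), CAlgX.IsQuasiRegular g ∧ Ideal.span (Set.range g) = I)
    {m : ℕ} (f : Fin m → I) :
    (CAlgX.IsQuasiRegular (fun i => (f i : A)) ∧ Ideal.span (Set.range fun i => (f i : A)) = I) ↔
      (LinearIndependent (A ⧸ I) (fun i => I.toCotangent (f i)) ∧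
        Submodule.span (A ⧸ I) (Set.range fun i => I.toCotangent (f i)) = ⊤) := by
  constructor
  · rintro ⟨hqr, hspan⟩
    exact forward I f hqr hspan
  · rintro ⟨hli, hsp⟩
    obtain ⟨r, g, hgq, hgs⟩ := hq
    have hgI : ∀ i, g i ∈ I := fun i => hgs ▸ Ideal.subset_span ⟨i, rfl⟩
    let g' : Fin r → I := fun i => ⟨g i, hgI i⟩
    obtain ⟨hli', hsp'⟩ := forward I g' hgq hgs
    have hne : I ≠ ⊤ := fun h => (IsLocalRing.maximalIdeal.isMaximal A).ne_top
      (top_le_iff.mp (h ▸ hI))
    have : Nontrivial (A ⧸ I) := Ideal.Quotient.nontrivial_iff.mpr hne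
    have hmr : m = r := by
      have b₁ := Module.Basis.mk hli hsp.ge
      have b₂ := Module.Basis.mk hli' hsp'.ge
      exact Fin.equiv_iff_eq.mp ⟨b₁.indexEquiv b₂⟩
    subst hmr
    -- Nakayama
    have hfg : (I : Submodule A A).FG := by
      rw [← hgs]
      exact Submodule.fg_span (Set.finite_range g)
    have hle : Ideal.span (Set.range fun i => (f i : A)) ≤ I := by
      rw [Ideal.span_le]
      rintro _ ⟨i, rfl⟩
      exact (f i).2
    have hNak : I ≤ Ideal.span (Set.range fun i => (f i : A)) := by
      refine Submodule.le_of_le_smul_of_le_jacobson_bot (I := I) hfg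
        (hI.trans (IsLocalRing.maximalIdeal_le_jacobson ⊥)) ?_
      intro x hx
      have h1 : I.toCotangent ⟨x, hx⟩ ∈
          Submodule.span (A ⧸ I) (Set.range fun i => I.toCotangent (f i)) := by
        rw [hsp]; trivial
      obtain ⟨γ, hγ⟩ := (Submodule.mem_span_range_iff_exists_fun (A ⧸ I)).mp h1
      have hc : ∀ i, ∃ c : A, Ideal.Quotient.mk I c = γ i := fun i =>
        Ideal.Quotient.mk_surjective (γ i)
      choose c hc using hc
      have h2 : I.toCotangent (∑ i, c i • f i) = I.toCotangent ⟨x, hx⟩ := by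
        rw [← sum_mk_smul, ← hγ]
        exact Finset.sum_congr rfl fun i _ => by rw [hc i]
      rw [Ideal.toCotangent_eq, coe_sum_smul] at h2
      have h3 : x = ∑ i, c i * (f i : A) + - (∑ i, c i * (f i : A) - x) := by ring
      rw [h3]
      refine Submodule.add_mem_sup ?_ ?_
      · exact Submodule.sum_mem _ fun i _ =>
          Ideal.mul_mem_left _ _ (Ideal.subset_span ⟨i, rfl⟩)
      · rw [smul_eq_mul, ← pow_two]
        exact neg_mem h2
    have hspan : Ideal.span (Set.range fun i => (f i : A)) = I := le_antisymm hle hNak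
    exact ⟨Groth.Agent.S3824.result g _ hgq (hspan.trans hgs.symm), hspan⟩

end Groth.Agent.S3825
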