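import Groth.Statements.S3827
import Groth.Agent.Lib.QuasiReg97
-- import your own Groth.Agent.* helpers here

set_option autoImplicit false
universe u
open QReg16

namespace Groth.Agent.S3827

open MvPolynomial in
theorem step_aux {A : Type u} [CommRing A] (J : Ideal A) {r : ℕ} (f : Fin r → A)
    (hf : RingTheory.Sequence.IsWeaklyRegular (A ⧸ J) (List.ofFn f)) (n : ℕ) :
    J ⊓ Ideal.span (Set.range f) ^ n ≤
      J * Ideal.span (Set.range f) ^ n ⊔ J ⊓ Ideal.span (Set.range f) ^ (n + 1) := by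
  have hf' : RingTheory.Sequence.IsWeaklyRegular (A ⧸ J)
      (List.ofFn (fun i => Ideal.Quotient.mk J (f i))) := by
    have := (RingTheory.Sequence.isWeaklyRegular_map_algebraMap_iff (A ⧸ J) (A ⧸ J)
      (List.ofFn f)).2 hf
    rwa [List.map_ofFn] at this
  have hq := Groth.Agent.Lib.QuasiReg97.qrn_of_isWeaklyRegular r _ hf' n
  have hI : Ideal.span (Set.range (fun i => Ideal.Quotient.mk J (f i))) =
      Ideal.map (Ideal.Quotient.mk J) (Ideal.span (Set.range f)) := by
    rw [Ideal.map_span, ← Set.range_comp]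
    rfl
  intro z hz
  obtain ⟨hzJ, hzI⟩ := hz
  obtain ⟨P, hP, rfl⟩ := (Ideal.mem_span_pow_iff_exists_isHomogeneous f z).1 hzI
  have hev : eval (fun i => Ideal.Quotient.mk J (f i)) (map (Ideal.Quotient.mk J) P) = 0 := by
    rw [eval_map, ← Ideal.Quotient.eq_zero_iff_mem.2 hzJ]
    have := eval₂_comp_left (Ideal.Quotient.mk J) (RingHom.id A) f P
    simpa [Function.comp_def] using this.symm
  have h1 := hq (map (Ideal.Quotient.mk J) P) (hP.map _) (by rw [hev]; exact Ideal.zero_mem _)
  have h2 : P ∈ Ideal.map (C : A →+* MvPolynomial (Fin r) A) (Ideal.span (Set.range f) ⊔ J) := by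
    rw [mem_map_C_iff] at h1 ⊢
    intro d
    have := h1 d
    rwa [coeff_map, hI, Ideal.mem_quotient_iff_mem_sup] at this
  have h3 := Groth.Agent.Lib.QuasiReg97.eval_mem_mul_pow f _ hP h2
  rw [Ideal.sup_mul, ← pow_succ'] at h3
  obtain ⟨u, hu, v, hv, huv⟩ := Submodule.mem_sup.1 h3
  rw [← huv, add_comm u v]
  refine Submodule.add_mem_sup hv ⟨?_, hu⟩
  have : u = eval f P - v := by rw [← huv]; ring
  rw [this]
  exact Ideal.sub_mem _ hzJ (Ideal.mul_le_left hv)

theorem inf_pow_le {A : Type u} [CommRing A] (J : Ideal A) {r : ℕ} (f : Fin r → A)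
    (hf : RingTheory.Sequence.IsWeaklyRegular (A ⧸ J) (List.ofFn f)) (n k : ℕ) :
    J ⊓ Ideal.span (Set.range f) ^ n ≤
      J * Ideal.span (Set.range f) ^ n ⊔ J ⊓ Ideal.span (Set.range f) ^ (n + k) := by
  induction k with
  | zero => exact le_sup_right
  | succ k ih =>
    refine ih.trans (sup_le le_sup_left ?_)
    refine (step_aux J f hf (n + k)).trans (sup_le ?_ le_sup_right)
    exact le_sup_of_le_left (Ideal.mul_mono_right (Ideal.pow_le_pow_right (Nat.le_add_right n k)))

/-- Let A be a ring, J an ideal, A' = A/J and f_1, …, f_r elements of A forming an A'-regular sequence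
(each f_i a non-zero-divisor on A' modulo the previous ones); let R be the ideal generated by the
f_i. Then for all integers 0 < n ≤ N one has J ∩ Rⁿ = J·Rⁿ + (J ∩ R^N). -/
theorem result {A : Type u} [CommRing A] (J : Ideal A) {r : ℕ} (f : Fin r → A)
    (hf : RingTheory.Sequence.IsWeaklyRegular (A ⧸ J) (List.ofFn f)) (n N : ℕ) (hn : 0 < n) (hnN : n ≤ N) :
    J ⊓ Ideal.span (Set.range f) ^ n =
      J * Ideal.span (Set.range f) ^ n ⊔ J ⊓ Ideal.span (Set.range f) ^ N := by
  obtain ⟨k, rfl⟩ := Nat.exists_eq_add_of_le hnN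
  refine le_antisymm (inf_pow_le J f hf n k) (sup_le ?_ ?_)
  · exact le_inf Ideal.mul_le_left Ideal.mul_le_right
  · exact inf_le_inf_left _ (Ideal.pow_le_pow_right (Nat.le_add_right n k))

end Groth.Agent.S3827
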