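import Groth.Statements.S3828
import Groth.Agent.S3827
-- import your own Groth.Agent.* helpers here

set_option autoImplicit false
universe u
open QReg16

namespace Groth.Agent.S3828

/-- Let A be a Noetherian ring, J an ideal of A, and f_1, …, f_r elements of A forming a weakly regular
sequence on A/J (each f_i a nonzerodivisor on A/(J + (f_1, …, f_{i−1}))) and generating an ideal R
contained in the Jacobson radical of A; put Q = J + R. Then J ∩ Rⁿ = J·Rⁿ for every n > 0, and J ∩
Q² = J·Q (equivalently, the canonical map J/JQ → Q/Q² is injective). -/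
theorem result {A : Type u} [CommRing A] [IsNoetherianRing A] (J : Ideal A)
    {r : ℕ} (f : Fin r → A) (hf : RingTheory.Sequence.IsWeaklyRegular (A ⧸ J) (List.ofFn f))
    (hrad : Ideal.span (Set.range f) ≤ (⊥ : Ideal A).jacobson) :
    (∀ n : ℕ, 0 < n → J ⊓ Ideal.span (Set.range f) ^ n = J * Ideal.span (Set.range f) ^ n) ∧
      J ⊓ (J ⊔ Ideal.span (Set.range f)) ^ 2 = J * (J ⊔ Ideal.span (Set.range f)) := by
  have key : ∀ n : ℕ, 0 < n →
      J ⊓ Ideal.span (Set.range f) ^ n = J * Ideal.span (Set.range f) ^ n := by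
    intro n hn
    obtain ⟨k, hk⟩ := Ideal.exists_pow_inf_eq_pow_smul (Ideal.span (Set.range f))
      (J : Submodule A A)
    have h1 := Groth.Agent.S3827.result J f hf n (n + k) hn (Nat.le_add_right n k)
    rw [h1]
    refine le_antisymm (sup_le le_rfl ?_) le_sup_left
    have h2 := hk (n + k) (Nat.le_add_left k n)
    simp only [smul_eq_mul, Ideal.mul_top, Nat.add_sub_cancel] at h2
    rw [inf_comm, h2, mul_comm]
    exact Ideal.mul_mono_left inf_le_right
  refine ⟨key, ?_⟩
  have h1 : (J ⊔ Ideal.span (Set.range f)) ^ 2 =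
      J * (J ⊔ Ideal.span (Set.range f)) ⊔ Ideal.span (Set.range f) ^ 2 := by
    rw [pow_two, pow_two]
    apply le_antisymm
    · rw [Ideal.sup_mul]
      refine sup_le le_sup_left ?_
      rw [Ideal.mul_sup]
      refine sup_le ?_ le_sup_right
      refine le_sup_of_le_left ?_
      rw [mul_comm]
      exact Ideal.mul_mono_right le_sup_right
    · refine sup_le (Ideal.mul_mono_left le_sup_left) (Ideal.mul_mono le_sup_right le_sup_right)
  rw [h1, inf_comm, sup_inf_assoc_of_le _ (Ideal.mul_le_left : J * (J ⊔ Ideal.span (Set.range f)) ≤ J),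
    inf_comm, key 2 (by norm_num)]
  refine le_antisymm (sup_le le_rfl ?_) le_sup_left
  rw [pow_two]
  exact Ideal.mul_mono_right (Ideal.mul_le_right.trans le_sup_right)

end Groth.Agent.S3828
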