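import Groth.Statements.S3836
import Groth.Agent.Lib.ZMTLift

set_option autoImplicit false
universe u
open CategoryTheory CategoryTheory.Limits AlgebraicGeometry TopologicalSpace
open Rat20

namespace Groth.Agent.S3836

/-- Let X be a locally integral S-scheme, Y an S-scheme locally of finite type and separated over S, and
h : U → Y an S-morphism on a dense open subset (a rational S-map ω). Let Γ be the closure in X ×_S Y
of the graph of h and p : Γ → X the projection. If x is a point of X whose local ring is integrally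
closed and the fibre p⁻¹(x) contains an isolated point, then ω is defined at x: some S-morphism from
an open neighbourhood of x to Y agrees with h on U. -/
theorem result {X Y S : Scheme.{u}} (pX : X ⟶ S) (pY : Y ⟶ S)
    [LocallyOfFiniteType pY] [IsSeparated pY] (hX : ∀ y : ↥X, ∃ W : X.Opens, y ∈ W ∧ IsIntegral (W : Scheme.{u}))
    (U : X.Opens) (hU : Dense (U : Set ↥X)) (h : (U : Scheme.{u}) ⟶ Y) (hh : U.ι ≫ pX = h ≫ pY)
    (x : ↥X) (hx : IsIntegrallyClosed (X.presheaf.stalk x))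
    (z : ↥(pullback pX pY)) (hz : pullback.fst pX pY z = x)
    (hzΓ : z ∈ closure (Set.range (pullback.lift U.ι h hh)))
    (hiso : ∃ W : (pullback pX pY).Opens, (W : Set ↥(pullback pX pY)) ∩ closure (Set.range (pullback.lift U.ι h hh)) ∩
      (pullback.fst pX pY) ⁻¹' {x} = {z}) :
    ∃ (V : X.Opens) (v : (V : Scheme.{u}) ⟶ Y), x ∈ V ∧ v ≫ pY = V.ι ≫ pX ∧
      X.homOfLE (inf_le_right : U ⊓ V ≤ V) ≫ v = X.homOfLE (inf_le_left : U ⊓ V ≤ U) ≫ h := by
  classical
  obtain ⟨W₀, hxW₀, hW₀int⟩ := hX x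
  haveI : IsIntegral (W₀ : Scheme.{u}) := hW₀int
  haveI hdom : IsDomain (X.presheaf.stalk x) :=
    MulEquiv.isDomain _ (W₀.stalkIso ⟨x, hxW₀⟩).symm.commRingCatIsoToRingEquiv.toMulEquiv
  let γ : (U : Scheme.{u}) ⟶ pullback pX pY := pullback.lift U.ι h hh
  have hγ1 : γ ≫ pullback.fst pX pY = U.ι := pullback.lift_fst _ _ _
  have hγ2 : γ ≫ pullback.snd pX pY = h := pullback.lift_snd _ _ _
  have hxU : x ∈ closure (U : Set X) := by rw [hU.closure_eq]; trivial
  have hinj : Function.Injective (algebraMap (X.presheaf.stalk x)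
      (FractionRing (X.presheaf.stalk x))) := IsFractionRing.injective _ _
  obtain ⟨ξU, hξU⟩ := Groth.Agent.Lib.ExtVal.exists_genPt_lift x U W₀ hxW₀ hxU
  let cl : ↥(Spec (CommRingCat.of (FractionRing (X.presheaf.stalk x)))) :=
    IsLocalRing.closedPoint (FractionRing (X.presheaf.stalk x))
  let η : U := ξU cl
  have hη : U.ι η = Groth.Agent.Lib.ExtVal.genPt x := by
    change U.ι (ξU cl) = _
    rw [← Scheme.Hom.comp_apply, hξU, Scheme.Hom.comp_apply,
      Groth.Agent.Lib.ExtVal.SpecMap_algebraMap_apply x hinj cl]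
    rfl
  let t : Spec (CommRingCat.of (FractionRing (X.presheaf.stalk x))) ⟶ pullback pX pY := ξU ≫ γ
  have ht : t ≫ pullback.fst pX pY = Spec.map (CommRingCat.ofHom (algebraMap (X.presheaf.stalk x)
      (FractionRing (X.presheaf.stalk x)))) ≫ X.fromSpecStalk x := by
    change (ξU ≫ γ) ≫ pullback.fst pX pY = _
    rw [Category.assoc, hγ1, hξU]
  have htcl : t cl = γ η := Scheme.Hom.comp_apply ξU γ cl
  -- `γ η` specializes to `z`
  have hgz : t cl ⤳ z := by
    rw [htcl, specializes_iff_forall_open]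
    intro N hN hzN
    have hzN' : z ∈ N ∩ (pullback.fst pX pY) ⁻¹' (W₀ : Set X) := ⟨hzN, by
      change pullback.fst pX pY z ∈ W₀
      rw [hz]; exact hxW₀⟩
    have hopen : IsOpen (N ∩ (pullback.fst pX pY) ⁻¹' (W₀ : Set X)) :=
      hN.inter (W₀.isOpen.preimage (pullback.fst pX pY).continuous)
    obtain ⟨_, ⟨hy1, hy2⟩, u, rfl⟩ := mem_closure_iff.mp hzΓ _ hopen hzN'
    have huW₀ : U.ι u ∈ W₀ := by
      have : pullback.fst pX pY (γ u) ∈ W₀ := hy2
      rwa [← Scheme.Hom.comp_apply, hγ1] at this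
    have h1 : U.ι η ⤳ U.ι u := by
      rw [hη]
      exact Groth.Agent.Lib.ExtVal.genPt_specializes_of_mem x W₀ hxW₀ huW₀
    have h2 : η ⤳ u := U.ι.isOpenEmbedding.isInducing.specializes_iff.mp h1
    exact (h2.map γ.continuous).mem_open hN hy1
  -- isolation
  have hiso' : ∃ W : (pullback pX pY).Opens, z ∈ W ∧
      ∀ z' ∈ W, t cl ⤳ z' → pullback.fst pX pY z' = x → z' = z := by
    obtain ⟨W, hW⟩ := hiso
    have hzmem : z ∈ (W : Set ↥(pullback pX pY)) ∩
        closure (Set.range (pullback.lift U.ι h hh)) ∩ (pullback.fst pX pY) ⁻¹' {x} := by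
      rw [hW]; rfl
    refine ⟨W, hzmem.1.1, ?_⟩
    intro z' hz'W hspec hz'x
    have : z' ∈ (W : Set ↥(pullback pX pY)) ∩
        closure (Set.range (pullback.lift U.ι h hh)) ∩ (pullback.fst pX pY) ⁻¹' {x} := by
      refine ⟨⟨hz'W, ?_⟩, hz'x⟩
      have h1 : z' ∈ closure ({t cl} : Set ↥(pullback pX pY)) :=
        specializes_iff_mem_closure.mp hspec
      refine closure_mono ?_ h1
      rw [Set.singleton_subset_iff, htcl]
      exact ⟨η, rfl⟩
    rw [hW] at this
    exact this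
  obtain ⟨ψ, hψ1, hψ2⟩ := Groth.Agent.Lib.ZMTLift.exists_lift_of_isolated (pullback.fst pX pY) x hx
    t ht z hz hgz hiso'
  have hγ1' : γ ≫ pullback.fst pX pY = U.ι ≫ 𝟙 X := by rw [hγ1, Category.comp_id]
  have hψ1' : ψ ≫ pullback.fst pX pY = X.fromSpecStalk x ≫ 𝟙 X := by rw [hψ1, Category.comp_id]
  obtain ⟨U', hUU', hxU', f', hf'1, hf'2⟩ := Groth.Agent.Lib.ExtVal.exists_extension (𝟙 X)
    (pullback.fst pX pY) x U γ hγ1' W₀ hxW₀ hinj ξU hξU ψ hψ1' hψ2
  refine ⟨U', f' ≫ pullback.snd pX pY, hxU', ?_, ?_⟩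
  · rw [Category.assoc, ← pullback.condition, reassoc_of% hf'1]
  · have h1 : X.homOfLE (inf_le_right : U ⊓ U' ≤ U') =
        X.homOfLE (inf_le_left : U ⊓ U' ≤ U) ≫ X.homOfLE hUU' := by
      rw [Scheme.homOfLE_homOfLE]
    rw [h1, Category.assoc, reassoc_of% hf'2, hγ2]

end Groth.Agent.S3836
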