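import Groth.Statements.S3837
import Groth.Agent.Lib.ZMTLift2

set_option autoImplicit false
universe u
open CategoryTheory CategoryTheory.Limits AlgebraicGeometry TopologicalSpace
open Rat20

namespace Groth.Agent.S3837

/-- Let X be a normal S-scheme (locally integral with integrally closed local rings), Y an S-scheme
locally of finite type and separated over S, h : U → Y an S-morphism on a dense open subset (a
rational S-map ω), and f : X' → X a morphism locally of finite type and universally open with X'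
reduced, so that f⁻¹(U) is dense and ω ∘ f is defined. Then for x' in X' with image x, ω is defined
at x if and only if ω ∘ f is defined at x': some S-morphism on an open neighbourhood of x agrees
with h on U if and only if some S-morphism on an open neighbourhood of x' agrees with h ∘ f on the
preimage of U. -/
theorem result {X X' Y S : Scheme.{u}} (pX : X ⟶ S) (pY : Y ⟶ S)
    [LocallyOfFiniteType pY] [IsSeparated pY] (hX : ∀ y : ↥X, ∃ W : X.Opens, y ∈ W ∧ IsIntegral (W : Scheme.{u}))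
    (hXn : ∀ y : ↥X, IsIntegrallyClosed (X.presheaf.stalk y))
    (U : X.Opens) (hU : Dense (U : Set ↥X)) (h : (U : Scheme.{u}) ⟶ Y) (hh : h ≫ pY = U.ι ≫ pX)
    (f : X' ⟶ X) [LocallyOfFiniteType f] [UniversallyOpen f] [IsReduced X'] (x' : ↥X') :
    (∃ (V : X.Opens) (v : (V : Scheme.{u}) ⟶ Y), f x' ∈ V ∧ v ≫ pY = V.ι ≫ pX ∧
        X.homOfLE (inf_le_right : U ⊓ V ≤ V) ≫ v = X.homOfLE (inf_le_left : U ⊓ V ≤ U) ≫ h) ↔
      ∃ (V' : X'.Opens) (v' : (V' : Scheme.{u}) ⟶ Y), x' ∈ V' ∧ v' ≫ pY = V'.ι ≫ f ≫ pX ∧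
        X'.homOfLE (inf_le_right : f ⁻¹ᵁ U ⊓ V' ≤ V') ≫ v' =
          X'.homOfLE (inf_le_left : f ⁻¹ᵁ U ⊓ V' ≤ f ⁻¹ᵁ U) ≫ (f ∣_ U) ≫ h := by
  classical
  constructor
  · rintro ⟨V, v, hxV, hvS, hv⟩
    refine ⟨f ⁻¹ᵁ V, (f ∣_ V) ≫ v, hxV, ?_, ?_⟩
    · rw [Category.assoc, hvS, morphismRestrict_ι_assoc]
    · have hle : f ⁻¹ᵁ U ⊓ f ⁻¹ᵁ V ≤ f ⁻¹ᵁ (U ⊓ V) := fun _ hy => hy
      let r : ((f ⁻¹ᵁ U ⊓ f ⁻¹ᵁ V : X'.Opens) : Scheme.{u}) ⟶ ((U ⊓ V : X.Opens) : Scheme.{u}) :=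
        f.resLE (U ⊓ V) (f ⁻¹ᵁ U ⊓ f ⁻¹ᵁ V) hle
      have hr : r ≫ (U ⊓ V).ι = (f ⁻¹ᵁ U ⊓ f ⁻¹ᵁ V).ι ≫ f := Scheme.Hom.resLE_comp_ι _ _
      have c1 : X'.homOfLE (inf_le_right : f ⁻¹ᵁ U ⊓ f ⁻¹ᵁ V ≤ f ⁻¹ᵁ V) ≫ (f ∣_ V) =
          r ≫ X.homOfLE (inf_le_right : U ⊓ V ≤ V) := by
        rw [← cancel_mono V.ι, Category.assoc, Category.assoc, morphismRestrict_ι,
          X.homOfLE_ι, hr, X'.homOfLE_ι_assoc]
      have c2 : X'.homOfLE (inf_le_left : f ⁻¹ᵁ U ⊓ f ⁻¹ᵁ V ≤ f ⁻¹ᵁ U) ≫ (f ∣_ U) =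
          r ≫ X.homOfLE (inf_le_left : U ⊓ V ≤ U) := by
        rw [← cancel_mono U.ι, Category.assoc, Category.assoc, morphismRestrict_ι,
          X.homOfLE_ι, hr, X'.homOfLE_ι_assoc]
      rw [reassoc_of% c1, reassoc_of% c2, hv]
  · rintro ⟨V', v', hx'V', hv'S, hv'⟩
    obtain ⟨W₀, hxW₀, hW₀int⟩ := hX (f x')
    haveI : IsIntegral (W₀ : Scheme.{u}) := hW₀int
    haveI hdom : IsDomain (X.presheaf.stalk (f x')) :=
      MulEquiv.isDomain _ (W₀.stalkIso ⟨f x', hxW₀⟩).symm.commRingCatIsoToRingEquiv.toMulEquiv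
    let f'' : (V' : Scheme.{u}) ⟶ X := V'.ι ≫ f
    have hv''S : v' ≫ pY = f'' ≫ pX := by rw [hv'S, Category.assoc]
    let Q : (V' : Scheme.{u}).Opens := f'' ⁻¹ᵁ U
    have hrange : Set.range (Q.ι ≫ V'.ι) ⊆ Set.range (f ⁻¹ᵁ U ⊓ V').ι := by
      rw [Scheme.Opens.range_ι]
      rintro _ ⟨q, rfl⟩
      rw [Scheme.Hom.comp_apply]
      refine ⟨?_, (Q.ι q).2⟩
      have : f'' (Q.ι q) ∈ U := q.2
      exact this
    let j : (Q : Scheme.{u}) ⟶ ((f ⁻¹ᵁ U ⊓ V' : X'.Opens) : Scheme.{u}) :=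
      IsOpenImmersion.lift (f ⁻¹ᵁ U ⊓ V').ι (Q.ι ≫ V'.ι) hrange
    have hj : j ≫ (f ⁻¹ᵁ U ⊓ V').ι = Q.ι ≫ V'.ι := IsOpenImmersion.lift_fac _ _ _
    have d1 : Q.ι = j ≫ X'.homOfLE (inf_le_right : f ⁻¹ᵁ U ⊓ V' ≤ V') := by
      rw [← cancel_mono V'.ι, Category.assoc, X'.homOfLE_ι, hj]
    have d2 : (f'' ∣_ U) = j ≫ X'.homOfLE (inf_le_left : f ⁻¹ᵁ U ⊓ V' ≤ f ⁻¹ᵁ U) ≫ (f ∣_ U) := by
      rw [← cancel_mono U.ι, Category.assoc, Category.assoc, morphismRestrict_ι, morphismRestrict_ι,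
        X'.homOfLE_ι_assoc, reassoc_of% hj]
    have hv'' : (f'' ⁻¹ᵁ U).ι ≫ v' = (f'' ∣_ U) ≫ h := by
      change Q.ι ≫ v' = _
      rw [d2, d1, Category.assoc, hv', Category.assoc, Category.assoc]
    obtain ⟨U', hUU', h', hxU', hh'S, hh'⟩ :=
      Groth.Agent.Lib.ZMTLift.exists_extension_of_universallyOpen pX pY U hU h hh (f x') W₀ hxW₀
        (hXn (f x')) f'' v' hv''S hv'' ⟨x', hx'V'⟩ rfl
    refine ⟨U', h', hxU', hh'S, ?_⟩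
    have h1 : X.homOfLE (inf_le_right : U ⊓ U' ≤ U') =
        X.homOfLE (inf_le_left : U ⊓ U' ≤ U) ≫ X.homOfLE hUU' := by
      rw [Scheme.homOfLE_homOfLE]
    rw [h1, Category.assoc, hh']

end Groth.Agent.S3837
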