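import Groth.Statements.S3842
import Groth.Agent.Lib.SchDenseReduced68

set_option autoImplicit false
universe u
open CategoryTheory CategoryTheory.Limits AlgebraicGeometry TopologicalSpace
open Rat20

namespace Groth.Agent.S3842

/-- For the open subset U = X; the general case is the same statement over the open subscheme U: let f :
X' → X be a morphism of schemes with X' reduced, suppose the irreducible components of X form a
locally finite family and that every irreducible component of X' dominates an irreducible component
of X (the closure of its image is an irreducible component of X). Then for every schematically dense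
open subset V of X, the preimage f⁻¹(V) is schematically dense in X'. -/
theorem result {X X' : Scheme.{u}} (f : X' ⟶ X) [IsReduced X']
    (hfin : ∀ x : ↥X, ∃ W : X.Opens, x ∈ W ∧ {Z ∈ irreducibleComponents ↥X | (Z ∩ (W : Set ↥X)).Nonempty}.Finite)
    (hdom : ∀ Z' ∈ irreducibleComponents ↥X', closure (f '' Z') ∈ irreducibleComponents ↥X)
    (V : X.Opens) (hV : CInt.IsSchematicallyDense V) : CInt.IsSchematicallyDense (f ⁻¹ᵁ V) := by
  open Groth.Agent.Lib.CompDense68 Groth.Agent.Lib.SchDenseReduced68 in
  apply isSchematicallyDense_of_dense_of_isReduced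
  have hVd : Dense (V : Set X) := dense_of_isSchematicallyDense V hV
  apply dense_of_forall_inter_nonempty _ (f ⁻¹ᵁ V).isOpen
  intro Z' hZ'
  have hZ := hdom Z' hZ'
  have h1 : (closure (f '' Z') ∩ (V : Set X)).Nonempty := by
    refine inter_nonempty_of_dense (V : Set X) hVd (fun x => ?_) _ hZ
    obtain ⟨W, hxW, hW⟩ := hfin x
    exact ⟨W, W.isOpen, hxW, hW⟩
  obtain ⟨y, hy1, hy2⟩ := h1
  obtain ⟨_, hzV, ⟨z', hz', rfl⟩⟩ := mem_closure_iff.mp hy1 V V.isOpen hy2
  exact ⟨z', hz', hzV⟩

end Groth.Agent.S3842
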