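import Groth.Statements.S3846
import Groth.Agent.S3845

set_option autoImplicit false
universe u
open CategoryTheory CategoryTheory.Limits AlgebraicGeometry TopologicalSpace
open Unram17

namespace Groth.Agent.S3846

set_option backward.isDefEq.respectTransparency false in
/-- a) iff b''): let f : X → Y be locally of finite presentation and x a point of X. Then f is
unramified on some open neighbourhood of x if and only if, for every base change g : Y' → Y and
every section s' of X ×_Y Y' → Y', s' is a local isomorphism at every point y' of Y' such that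
s'(y') lies over x. -/
theorem result {X Y : Scheme.{u}} (f : X ⟶ Y) [LocallyOfFinitePresentation f]
    (x : ↥X) :
    (∃ U : X.Opens, x ∈ U ∧ FormallyUnramified (U.ι ≫ f)) ↔
      ∀ (Y' : Scheme.{u}) (g : Y' ⟶ Y) (s' : Y' ⟶ pullback f g), s' ≫ pullback.snd f g = 𝟙 Y' →
        ∀ y' : ↥Y', pullback.fst f g (s' y') = x → SchLoc.IsLocalIsoAt s' y' := by
  constructor
  · rintro ⟨U, hxU, hU⟩ Y' g s' hs' y' hy'
    have hft : LocallyOfFiniteType (U.ι ≫ f) := inferInstance
    set W : Y'.Opens := (s' ≫ pullback.fst f g) ⁻¹ᵁ U with hW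
    refine ⟨W, ?_, ?_⟩
    · change (s' ≫ pullback.fst f g) y' ∈ U
      rw [Scheme.Hom.comp_apply, hy']
      exact hxU
    · set t' : (W : Scheme.{u}) ⟶ U := (s' ≫ pullback.fst f g) ∣_ U with ht'
      have ht'ι : t' ≫ U.ι = W.ι ≫ s' ≫ pullback.fst f g := morphismRestrict_ι _ _
      have hcomp : (t' ≫ U.ι ≫ f) ≫ 𝟙 Y = W.ι ≫ g := by
        rw [Category.comp_id, ← Category.assoc, ht'ι]
        simp only [Category.assoc]
        rw [pullback.condition, ← Category.assoc s', hs', Category.id_comp]
      have hgraph : IsOpenImmersion (pullback.lift (𝟙 _) t' (by simp) :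
          (W : Scheme.{u}) ⟶ pullback (t' ≫ U.ι ≫ f) (U.ι ≫ f)) :=
        MorphismProperty.of_isPullback (P := @IsOpenImmersion)
          (pullback_lift_diagonal_isPullback t' (U.ι ≫ f)) inferInstance
      have key : W.ι ≫ s' = pullback.lift (𝟙 _) t' (by simp) ≫
          (pullbackSymmetry (t' ≫ U.ι ≫ f) (U.ι ≫ f)).hom ≫
          pullback.map (U.ι ≫ f) (t' ≫ U.ι ≫ f) f g U.ι W.ι (𝟙 Y) (by simp) hcomp := by
        apply pullback.hom_ext
        · simp only [Category.assoc, pullback.lift_fst, pullback.lift_snd, pullback.map,
            pullbackSymmetry_hom_comp_fst_assoc, pullbackSymmetry_hom_comp_snd_assoc,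
            pullback.lift_fst_assoc, pullback.lift_snd_assoc]
          rw [ht'ι]
        · simp only [Category.assoc, pullback.lift_fst, pullback.lift_snd, pullback.map,
            pullbackSymmetry_hom_comp_fst_assoc, pullbackSymmetry_hom_comp_snd_assoc,
            pullback.lift_fst_assoc, pullback.lift_snd_assoc, hs', Category.comp_id,
            Category.id_comp]
      rw [key]
      infer_instance
  · intro H
    rw [Groth.Agent.S3845.result f x]
    refine H X f (pullback.diagonal f) (pullback.diagonal_snd f) x ?_
    rw [← Scheme.Hom.comp_apply, pullback.diagonal_fst]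
    rfl

end Groth.Agent.S3846
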