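import Groth.Statements.S3848
import Groth.Agent.Lib.RatDvr

set_option autoImplicit false
universe u
open CategoryTheory CategoryTheory.Limits AlgebraicGeometry TopologicalSpace
open Rat20

namespace Groth.Agent.S3848

/-- In the case S = X (valuative criterion for a rational map to be defined at a point): let X be a
locally Noetherian scheme, q : Y → X a morphism locally of finite type, U a dense open subset of X,
h : U → Y a section of q over U, x a point of X outside U whose local ring is an integrally closed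
domain, and y₀ a point of Y over x with trivial residue field extension (an X-morphism Spec k(x) →
Y). Then h extends to a section h' of q over an open subset U' containing U and x with h'(x) = y₀ if
and only if: for every discrete valuation ring R and every morphism u : Spec R → X sending the
closed point to x and the generic point into U, there is a morphism h₁ : Spec R → Y over X sending
the closed point to y₀ and agreeing with h at the generic point. -/
theorem result {X Y : Scheme.{u}} [IsLocallyNoetherian X] (q : Y ⟶ X)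
    [LocallyOfFiniteType q] (U : X.Opens) (hU : Dense (U : Set ↥X)) (h : (U : Scheme.{u}) ⟶ Y)
    (hh : h ≫ q = U.ι) (x : ↥X) (hxU : x ∉ U) [IsDomain ↑(X.presheaf.stalk x)]
    (hx : IsIntegrallyClosed ↑(X.presheaf.stalk x)) (y₀ : ↥Y) (hy₀ : q y₀ = x)
    (hk : Function.Bijective (q.residueFieldMap y₀)) :
    (∃ (U' : X.Opens) (hUU' : U ≤ U') (hxU' : x ∈ U') (h' : (U' : Scheme.{u}) ⟶ Y),
        h' ≫ q = U'.ι ∧ X.homOfLE hUU' ≫ h' = h ∧ h' ⟨x, hxU'⟩ = y₀) ↔
      ∀ (R : Type u) [CommRing R] [IsDomain R] [IsDiscreteValuationRing R]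
        (u : Spec (CommRingCat.of R) ⟶ X), u (IsLocalRing.closedPoint R) = x →
        ∀ ub : Spec (CommRingCat.of (FractionRing R)) ⟶ (U : Scheme.{u}),
          ub ≫ U.ι = Spec.map (CommRingCat.ofHom (algebraMap R (FractionRing R))) ≫ u →
          ∃ h₁ : Spec (CommRingCat.of R) ⟶ Y, h₁ ≫ q = u ∧ h₁ (IsLocalRing.closedPoint R) = y₀ ∧
            Spec.map (CommRingCat.ofHom (algebraMap R (FractionRing R))) ≫ h₁ = ub ≫ h := by
  classical
  constructor
  · rintro ⟨U', hUU', hxU', h', hh'q, hres, hh'x⟩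
    intro R _ _ _ u hucl ub hub
    have hrange : Set.range u ⊆ Set.range U'.ι := by
      rw [Scheme.Opens.range_ι]
      rintro _ ⟨a, rfl⟩
      have h1 : a ⤳ IsLocalRing.closedPoint R := IsLocalRing.specializes_closedPoint a
      have h2 := h1.map u.continuous
      rw [hucl] at h2
      exact h2.mem_open U'.isOpen hxU'
    let l : Spec (CommRingCat.of R) ⟶ (U' : Scheme.{u}) := IsOpenImmersion.lift U'.ι u hrange
    have hl : l ≫ U'.ι = u := IsOpenImmersion.lift_fac _ _ _
    have hlcl : l (IsLocalRing.closedPoint R) = ⟨x, hxU'⟩ := by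
      apply U'.ι.isOpenEmbedding.injective
      rw [← Scheme.Hom.comp_apply, hl, hucl]
      rfl
    refine ⟨l ≫ h', ?_, ?_, ?_⟩
    · rw [Category.assoc, hh'q, hl]
    · rw [Scheme.Hom.comp_apply, hlcl, hh'x]
    · have h1 : Spec.map (CommRingCat.ofHom (algebraMap R (FractionRing R))) ≫ l =
          ub ≫ X.homOfLE hUU' := by
        rw [← cancel_mono U'.ι, Category.assoc, Category.assoc, hl, X.homOfLE_ι, hub]
      rw [← hres, reassoc_of% h1]
  · intro H
    have H' : Groth.Agent.Lib.RatDvr.Hyp q U h x y₀ := H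
    obtain ⟨W₀, hxW₀, -, hW₀int⟩ := Groth.Agent.Lib.ExtVal.exists_isIntegral_nbhd x
    haveI : IsIntegral (W₀ : Scheme.{u}) := hW₀int
    have hxcl : x ∈ closure (U : Set X) := by rw [hU.closure_eq]; trivial
    obtain ⟨ξU, hξU⟩ := Groth.Agent.Lib.ExtVal.exists_genPt_lift x U W₀ hxW₀ hxcl
    obtain ⟨T, hT, ψ, hy₀T, hψ1, hψ2, hψcl⟩ :=
      Groth.Agent.Lib.RatDvr.exists_lift_of_hyp q U h x y₀ H' hh hxU hy₀ hx ξU hξU
    obtain ⟨W₂, hxW₂, hW₂⟩ := Groth.Agent.Lib.RatDvr.exists_nhd_map_into q U h x y₀ H' hxU T hy₀T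
    obtain ⟨U', hUU', hxU', h', hh'q, hres, hh'x⟩ :=
      Groth.Agent.Lib.RatDvr.exists_glue_of_lift q U h x hh W₀ hxW₀ ξU hξU ψ hψ1 hψ2 T hT
        (by rw [hψcl]; exact hy₀T) W₂ hxW₂ hW₂
    exact ⟨U', hUU', hxU', h', hh'q, hres, hh'x.trans hψcl⟩

end Groth.Agent.S3848
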