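import Groth.Statements.S3849
import Groth.Agent.Lib.ZMTLift
import Groth.Agent.S4450

set_option autoImplicit false
universe u
open CategoryTheory CategoryTheory.Limits AlgebraicGeometry TopologicalSpace
open Rat20

namespace Groth.Agent.S3849

/-- In the case S = X (sections of q : Y → X): let X be a locally Noetherian scheme, q : Y → X
separated, locally of finite type and locally quasi-finite, U a dense open subset of X, h : U → Y a
section of q over U, and x a point of X outside U whose local ring is an integrally closed domain.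
Then h extends to a section of q over an open subset containing U and x if and only if there exist a
discrete valuation ring R, a morphism u : Spec R → X sending the closed point to x and the generic
point into U, and a morphism Spec R → Y over X agreeing with h at the generic point. -/
theorem result {X Y : Scheme.{u}} [IsLocallyNoetherian X] (q : Y ⟶ X)
    [LocallyOfFiniteType q] [IsSeparated q] [LocallyQuasiFinite q] (U : X.Opens) (hU : Dense (U : Set ↥X))
    (h : (U : Scheme.{u}) ⟶ Y) (hh : h ≫ q = U.ι) (x : ↥X) (hxU : x ∉ U) [IsDomain ↑(X.presheaf.stalk x)]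
    (hx : IsIntegrallyClosed ↑(X.presheaf.stalk x)) :
    (∃ (U' : X.Opens) (hUU' : U ≤ U') (h' : (U' : Scheme.{u}) ⟶ Y),
        x ∈ U' ∧ h' ≫ q = U'.ι ∧ X.homOfLE hUU' ≫ h' = h) ↔
      ∃ (R : Type u) (_ : CommRing R) (_ : IsDomain R) (_ : IsDiscreteValuationRing R)
        (u : Spec (CommRingCat.of R) ⟶ X) (ub : Spec (CommRingCat.of (FractionRing R)) ⟶ (U : Scheme.{u}))
        (h₁ : Spec (CommRingCat.of R) ⟶ Y),
        u (IsLocalRing.closedPoint R) = x ∧
          ub ≫ U.ι = Spec.map (CommRingCat.ofHom (algebraMap R (FractionRing R))) ≫ u ∧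
          h₁ ≫ q = u ∧ Spec.map (CommRingCat.ofHom (algebraMap R (FractionRing R))) ≫ h₁ = ub ≫ h := by
  classical
  obtain ⟨W₀, hxW₀, -, hW₀int⟩ := Groth.Agent.Lib.ExtVal.exists_isIntegral_nbhd x
  haveI : IsIntegral (W₀ : Scheme.{u}) := hW₀int
  have hxcl : x ∈ closure (U : Set X) := by rw [hU.closure_eq]; trivial
  have hinj : Function.Injective (algebraMap (X.presheaf.stalk x)
      (FractionRing (X.presheaf.stalk x))) := IsFractionRing.injective _ _
  have hgU : Groth.Agent.Lib.ExtVal.genPt x ∈ U :=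
    Groth.Agent.Lib.ExtVal.genPt_mem_of_mem_closure x W₀ hxW₀ U hxcl
  constructor
  · rintro ⟨U', hUU', h', hxU', hh', hres⟩
    let ηU : U := ⟨Groth.Agent.Lib.ExtVal.genPt x, hgU⟩
    have hsp : U.ι ηU ⤳ x := Groth.Agent.Lib.ExtVal.genPt_specializes x
    have hne : x ≠ U.ι ηU := by
      intro he
      apply hxU
      rw [he]
      exact hgU
    obtain ⟨A, hA, hAdvr, hAcl, hAcomm⟩ := Groth.Agent.S4450.result U.ι ηU x hsp hne
    let e : FractionRing A ≃ₐ[A] (U : Scheme.{u}).residueField ηU :=
      FractionRing.algEquiv A ((U : Scheme.{u}).residueField ηU)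
    have hsub : CommRingCat.ofHom (algebraMap A (FractionRing A)) =
        CommRingCat.ofHom A.subtype ≫
          CommRingCat.ofHom (e.symm : (U : Scheme.{u}).residueField ηU →+* FractionRing A) := by
      ext a
      change algebraMap A (FractionRing A) a = e.symm (a : (U : Scheme.{u}).residueField ηU)
      exact (e.symm.commutes a).symm
    let ub : Spec (CommRingCat.of (FractionRing A)) ⟶ (U : Scheme.{u}) :=
      Spec.map (CommRingCat.ofHom (e.symm : (U : Scheme.{u}).residueField ηU →+* FractionRing A)) ≫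
        (U : Scheme.{u}).fromSpecResidueField ηU
    have hub : ub ≫ U.ι = Spec.map (CommRingCat.ofHom (algebraMap A (FractionRing A))) ≫ hA := by
      rw [hsub, Spec.map_comp, Category.assoc, Category.assoc, hAcomm]
    have hrange : Set.range hA ⊆ Set.range U'.ι := by
      rw [Scheme.Opens.range_ι]
      rintro _ ⟨a, rfl⟩
      have h1 : a ⤳ IsLocalRing.closedPoint A := IsLocalRing.specializes_closedPoint a
      have h2 := h1.map hA.continuous
      have h3 : hA (IsLocalRing.closedPoint A) = x := hAcl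
      rw [h3] at h2
      exact h2.mem_open U'.isOpen hxU'
    let l : Spec (CommRingCat.of A) ⟶ (U' : Scheme.{u}) := IsOpenImmersion.lift U'.ι hA hrange
    have hl : l ≫ U'.ι = hA := IsOpenImmersion.lift_fac _ _ _
    refine ⟨A, inferInstance, inferInstance, hAdvr, hA, ub, l ≫ h', hAcl, hub, ?_, ?_⟩
    · rw [Category.assoc, hh', hl]
    · have h1 : Spec.map (CommRingCat.ofHom (algebraMap A (FractionRing A))) ≫ l =
          ub ≫ X.homOfLE hUU' := by
        rw [← cancel_mono U'.ι, Category.assoc, Category.assoc, hl, X.homOfLE_ι, hub]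
      rw [← hres, reassoc_of% h1]
  · rintro ⟨R, _, _, _, u, ub, h₁, hucl, hub, hh₁, hgen⟩
    obtain ⟨ξU, hξU⟩ := Groth.Agent.Lib.ExtVal.exists_genPt_lift x U W₀ hxW₀ hxcl
    let cl : ↥(Spec (CommRingCat.of (FractionRing (X.presheaf.stalk x)))) :=
      IsLocalRing.closedPoint (FractionRing (X.presheaf.stalk x))
    let η : U := ξU cl
    have hη : U.ι η = Groth.Agent.Lib.ExtVal.genPt x := by
      change U.ι (ξU cl) = _
      rw [← Scheme.Hom.comp_apply, hξU, Scheme.Hom.comp_apply,
        Groth.Agent.Lib.ExtVal.SpecMap_algebraMap_apply x hinj cl]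
      rfl
    let t : Spec (CommRingCat.of (FractionRing (X.presheaf.stalk x))) ⟶ Y := ξU ≫ h
    have ht : t ≫ q = Spec.map (CommRingCat.ofHom (algebraMap (X.presheaf.stalk x)
        (FractionRing (X.presheaf.stalk x)))) ≫ X.fromSpecStalk x := by
      change (ξU ≫ h) ≫ q = _
      rw [Category.assoc, hh, hξU]
    have htcl : t cl = h η := Scheme.Hom.comp_apply ξU h cl
    let z : Y := h₁ (IsLocalRing.closedPoint R)
    have hz : q z = x := by
      change q (h₁ (IsLocalRing.closedPoint R)) = x
      rw [← Scheme.Hom.comp_apply, hh₁, hucl]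
    -- the generic point of `Spec R`
    let pt : ↥(Spec (CommRingCat.of (FractionRing R))) := IsLocalRing.closedPoint (FractionRing R)
    let ηR : ↥(Spec (CommRingCat.of R)) :=
      Spec.map (CommRingCat.ofHom (algebraMap R (FractionRing R))) pt
    have hηR : ηR ⤳ IsLocalRing.closedPoint R := IsLocalRing.specializes_closedPoint ηR
    let yU : U := ub pt
    have hyU : U.ι yU = u ηR := by
      change U.ι (ub pt) = u (Spec.map _ pt)
      rw [← Scheme.Hom.comp_apply, hub, Scheme.Hom.comp_apply]
    have hyx : U.ι yU ⤳ x := by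
      rw [hyU, ← hucl]
      exact hηR.map u.continuous
    have hyW₀ : U.ι yU ∈ W₀ := hyx.mem_open W₀.isOpen hxW₀
    have h1 : U.ι η ⤳ U.ι yU := by
      rw [hη]
      exact Groth.Agent.Lib.ExtVal.genPt_specializes_of_mem x W₀ hxW₀ hyW₀
    have h2 : η ⤳ yU := U.ι.isOpenEmbedding.isInducing.specializes_iff.mp h1
    have h3 : h yU = h₁ ηR := by
      change h (ub pt) = h₁ (Spec.map _ pt)
      rw [← Scheme.Hom.comp_apply, ← hgen, Scheme.Hom.comp_apply]
    have hgz : t cl ⤳ z := by
      rw [htcl]
      refine (h2.map h.continuous).trans ?_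
      rw [h3]
      exact hηR.map h₁.continuous
    have hiso : ∃ W : Y.Opens, z ∈ W ∧ ∀ z' ∈ W, t cl ⤳ z' → q z' = x → z' = z := by
      have hdisc := q.isDiscrete_preimage_singleton x
      rw [isDiscrete_iff_forall_mem_exists_isOpen] at hdisc
      obtain ⟨W, hWo, hW⟩ := hdisc z hz
      have hzW : z ∈ W ∩ q ⁻¹' {x} := by rw [hW]; rfl
      refine ⟨⟨W, hWo⟩, hzW.1, ?_⟩
      intro z' hz'W _ hz'x
      have : z' ∈ W ∩ q ⁻¹' {x} := ⟨hz'W, hz'x⟩
      rw [hW] at this
      exact this
    obtain ⟨ψ, hψ1, hψ2⟩ := Groth.Agent.Lib.ZMTLift.exists_lift_of_isolated q x hx t ht z hz hgz hiso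
    have hh' : h ≫ q = U.ι ≫ 𝟙 X := by rw [hh, Category.comp_id]
    have hψ1' : ψ ≫ q = X.fromSpecStalk x ≫ 𝟙 X := by rw [hψ1, Category.comp_id]
    obtain ⟨U', hUU', hxU', f', hf'1, hf'2⟩ := Groth.Agent.Lib.ExtVal.exists_extension (𝟙 X)
      q x U h hh' W₀ hxW₀ hinj ξU hξU ψ hψ1' hψ2
    refine ⟨U', hUU', f', hxU', ?_, hf'2⟩
    rw [hf'1, Category.comp_id]

end Groth.Agent.S3849
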