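import Groth.Statements.S3852
import Groth.Agent.Lib.IdealSheafGeneric
import Mathlib.RingTheory.Finiteness.Ideal

set_option autoImplicit false
universe u
open FCompl

namespace Groth.Agent.S3852

open AlgebraicGeometry CategoryTheory

lemma exists_pow_le_ideal {X : Scheme.{u}} [IsLocallyNoetherian X] (I J : X.IdealSheafData)
    (h : (J.support : Set X) ⊆ I.support) (U : X.affineOpens) :
    ∃ n : ℕ, I.ideal U ^ n ≤ J.ideal U := by
  have hN : IsNoetherianRing Γ(X, U.1) := IsLocallyNoetherian.component_noetherian U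
  refine Ideal.exists_pow_le_of_le_radical_of_fg ?_ (IsNoetherian.noetherian _)
  rw [Ideal.radical_eq_sInf]
  refine le_sInf ?_
  rintro q ⟨hJq, hq⟩
  have h1 : U.2.fromSpec ⟨q, hq⟩ ∈ J.support :=
    (Groth.Agent.Lib.IdealSheafGeneric.fromSpec_mem_support_iff J U U.2 ⟨q, hq⟩).mpr hJq
  exact (Groth.Agent.Lib.IdealSheafGeneric.fromSpec_mem_support_iff I U U.2 ⟨q, hq⟩).mp (h h1)

open AlgebraicGeometry in
/-- Second assertion; stated for quasi-coherent ideal sheaves, with the condition on supports as an
inclusion, which is what the proof uses: Let X be a Noetherian scheme and I, J ideal sheaves such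
that the zero locus of J is contained in the zero locus of I. Then I^n ≤ J for some n ≥ 1. -/
theorem result
    (X : Scheme.{u}) [IsNoetherian X] (I J : X.IdealSheafData)
    (h : (J.support : Set X) ⊆ I.support) :
    ∃ n : ℕ, I ^ (n + 1) ≤ J := by
  let 𝒰 := X.affineCover.finiteSubcover
  let V : 𝒰.I₀ → X.affineOpens := fun i =>
    ⟨(𝒰.f i).opensRange, isAffineOpen_opensRange (𝒰.f i)⟩
  choose m hm using fun i => exists_pow_le_ideal I J h (V i)
  refine ⟨Finset.univ.sup m, ?_⟩
  refine Scheme.IdealSheafData.le_of_iSup_eq_top V 𝒰.iSup_opensRange fun i => ?_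
  rw [Scheme.IdealSheafData.ideal_pow]
  refine le_trans (Ideal.pow_le_pow_right ?_) (hm i)
  exact (Finset.le_sup (Finset.mem_univ i)).trans (Nat.le_succ _)

end Groth.Agent.S3852
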