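import Groth.Statements.S3855
import Groth.Agent.Lib.FSchKer
import Mathlib.RingTheory.Ideal.Quotient.PowTransition

set_option autoImplicit false
universe u
open FCompl

namespace Groth.Agent.S3855

open AlgebraicGeometry CategoryTheory Limits

lemma pow_succ_le_pow_one {A : Type u} [CommRing A] (J : Ideal A) (n : ℕ) :
    J ^ (n + 1) ≤ J ^ (0 + 1) :=
  Ideal.pow_le_pow_right (by omega)

/-- The composite from level `0` of the formal spectrum. -/
lemma toX_spf (A : Type u) [CommRing A] (J : Ideal A) (n : ℕ) :
    (FSch.spf A J).toX n =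
      Spec.map (CommRingCat.ofHom (Ideal.Quotient.factor (pow_succ_le_pow_one J n))) := by
  induction n with
  | zero =>
    change 𝟙 _ = _
    rw [Ideal.Quotient.factor_eq]
    exact (Spec.map_id _).symm
  | succ n ih =>
    have h1 : (FSch.spf A J).toX (n + 1) = (FSch.spf A J).toX n ≫ CohB1.specQuotTrans J n := rfl
    have h2 : Spec.map (CommRingCat.ofHom (Ideal.Quotient.factor (pow_succ_le_pow_one J n))) ≫
        CohB1.specQuotTrans J n =
        Spec.map (CommRingCat.ofHom (Ideal.Quotient.factor (pow_succ_le_pow_one J (n + 1)))) := by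
      rw [CohB1.specQuotTrans, ← Spec.map_comp, ← CommRingCat.ofHom_comp,
        Ideal.Quotient.factor_comp]
    rw [h1, ih]
    exact h2

lemma ker_specQuotTrans (A : Type u) [CommRing A] (J : Ideal A) (n : ℕ) :
    (CohB1.specQuotTrans J n).ker =
      (Spec.map (CommRingCat.ofHom
        (Ideal.Quotient.factor (pow_succ_le_pow_one J (n + 1))))).ker ^ (n + 1) := by
  rw [CohB1.specQuotTrans, Groth.Agent.Lib.FSchKer.ker_SpecMap,
    Groth.Agent.Lib.FSchKer.ker_SpecMap, Ideal.Quotient.factor_ker, Ideal.Quotient.factor_ker,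
    ← Groth.Agent.Lib.FSchKer.idealSpec_pow_succ, ← Ideal.map_pow, zero_add, pow_one]

open AlgebraicGeometry in
/-- Sufficiency (the formal spectrum presented as the system Spec(A/J) -> Spec(A/J^2) -> ...). For a
Noetherian ring A and an ideal J this system is a locally Noetherian adic formal system: the
transition maps are surjective closed immersions, the kernel ideal of Spec(A/J^(n+1)) ->
Spec(A/J^(n+2)) is the (n+1)-st power of that of Spec(A/J) -> Spec(A/J^(n+2)), and every level is
locally Noetherian. -/
theorem result (A : Type u) [CommRing A] [IsNoetherianRing A] (J : Ideal A) :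
    (FSch.spf A J).IsLocNoethFormal := by
  refine ⟨fun n => ⟨?_, ?_⟩, fun n => ?_, fun n => ?_⟩
  · exact IsClosedImmersion.spec_of_surjective _ (Ideal.Quotient.factor_surjective
      (Ideal.pow_le_pow_right (Nat.le_succ (n + 1))))
  · have hle : J ^ (n + 2) ≤ J ^ (n + 1) := Ideal.pow_le_pow_right (Nat.le_succ (n + 1))
    change Function.Surjective (PrimeSpectrum.comap (Ideal.Quotient.factor hle))
    rw [← Set.range_eq_univ, range_comap_of_surjective _ _
      (Ideal.Quotient.factor_surjective hle), Ideal.Quotient.factor_ker,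
      PrimeSpectrum.zeroLocus_eq_univ_iff]
    intro x hx
    obtain ⟨y, hy, rfl⟩ := Ideal.mem_image_of_mem_map_of_surjective _
      Ideal.Quotient.mk_surjective hx
    refine mem_nilradical.mpr ⟨2, ?_⟩
    rw [← map_pow, Ideal.Quotient.eq_zero_iff_mem]
    have : y ^ 2 ∈ (J ^ (n + 1)) ^ 2 := Ideal.pow_mem_pow hy 2
    rw [← pow_mul] at this
    exact Ideal.pow_le_pow_right (by nlinarith) this
  · rw [toX_spf]
    exact ker_specQuotTrans A J n
  · change IsLocallyNoetherian (Spec (CommRingCat.of (A ⧸ J ^ (n + 1))))
    infer_instance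

end Groth.Agent.S3855
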