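import Groth.Statements.S3856
import Groth.Agent.Lib.AdicNoeth
import Groth.Agent.Lib.AdicPi
import Mathlib.RingTheory.Ideal.Cotangent

set_option autoImplicit false
universe u
open AdicRing

namespace Groth.Agent.S3856

/-- Let A be a ring that is complete and separated for the J-adic topology of an ideal J. If A/J² is
Noetherian (equivalently, A/J is Noetherian and J/J² is a finitely generated A/J-module), then A is
Noetherian. The published statement is phrased for a formal spectrum Spf(A) all of whose levels
Spec(A/J^(n+1)) are Noetherian; it is stated here with the weaker hypothesis that A/J² is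
Noetherian. -/
theorem result (A : Type u) [CommRing A]
    (J : Ideal A) [IsAdicComplete J A] [IsNoetherianRing (A ⧸ J ^ 2)] : IsNoetherianRing A := by
  have hle : J ^ 2 ≤ J := Ideal.pow_le_self (by norm_num)
  have h1 : IsNoetherianRing (A ⧸ J) :=
    isNoetherianRing_of_surjective (A ⧸ J ^ 2) (A ⧸ J) (Ideal.Quotient.factor hle)
      (Ideal.Quotient.factor_surjective hle)
  have hH : IsHausdorff J ↥J := by
    refine ⟨fun x hx => ?_⟩
    apply Subtype.ext
    apply IsHausdorff.haus (inferInstance : IsHausdorff J A)
    intro n
    have := hx n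
    rw [SModEq.zero] at this ⊢
    have h2 : (J ^ n • ⊤ : Submodule A ↥J).map J.subtype ≤ (J ^ n • ⊤ : Submodule A A) := by
      rw [Submodule.map_smul'']
      exact Submodule.smul_mono le_rfl le_top
    exact h2 (Submodule.mem_map_of_mem this)
  have hfin : Module.Finite A (↥J ⧸ (J • ⊤ : Submodule A ↥J)) := by
    have h3 : Module.Finite (A ⧸ J ^ 2) ↥J.cotangentIdeal :=
      Module.Finite.of_fg (IsNoetherian.noetherian J.cotangentIdeal)
    have h4 : Module.Finite A ↥J.cotangentIdeal := Module.Finite.trans (A ⧸ J ^ 2) _
    exact Module.Finite.equiv (Ideal.cotangentEquivIdeal J).symm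
  have h5 : Module.Finite A ↥J := Groth.Agent.Lib.AdicPi.finite_of_finite_quotient J ↥J hfin
  have hfg : J.FG := (Submodule.fg_top J).mp h5.fg_top
  exact Groth.Agent.Lib.AdicNoeth.isNoetherianRing_of_isAdicComplete J hfg

end Groth.Agent.S3856
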