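import Groth.Statements.S3859
-- import your own Groth.Agent.* helpers here

set_option autoImplicit false
universe u
open FCompl

namespace Groth.Agent.S3859

open AlgebraicGeometry CategoryTheory Limits in
/-- The levelwise lift into the levelwise fibre product. -/
noncomputable def liftSys {𝔛 𝔜 𝔖 𝔗 : FSch.Sys.{u}} (f : 𝔛 ⟶ 𝔖) (g : 𝔜 ⟶ 𝔖)
    (a : 𝔗 ⟶ 𝔛) (b : 𝔗 ⟶ 𝔜) (w : a ≫ f = b ≫ g) : 𝔗 ⟶ FSch.pullbackSys f g :=
  ⟨fun n => pullback.lift ((a : FSch.Hom 𝔗 𝔛).app n) ((b : FSch.Hom 𝔗 𝔜).app n)
      (congr_arg (fun h : FSch.Hom 𝔗 𝔖 => h.app n) w), fun n => by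
    apply pullback.hom_ext
    · simp only [FSch.pullbackSys, Category.assoc, pullback.lift_fst, pullback.lift_fst_assoc]
      exact (a : FSch.Hom 𝔗 𝔛).comm n
    · simp only [FSch.pullbackSys, Category.assoc, pullback.lift_snd, pullback.lift_snd_assoc]
      exact (b : FSch.Hom 𝔗 𝔜).comm n⟩

open AlgebraicGeometry in
open CategoryTheory in
/-- In the presentation by systems of thickenings: For morphisms of systems X -> S and Y -> S, the
levelwise fibre product with its two projections is a fibre product in the category of systems; it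
presents the fibre product of formal schemes when one factor is adic over the base, and otherwise
only up to cofinality of the levels. -/
theorem result {𝔛 𝔜 𝔖 : FSch.Sys.{u}} (f : 𝔛 ⟶ 𝔖) (g : 𝔜 ⟶ 𝔖) :
    IsPullback (FSch.pullbackFst f g) (FSch.pullbackSnd f g) f g := by
  have w : FSch.pullbackFst f g ≫ f = FSch.pullbackSnd f g ≫ g := by
    apply FSch.Hom.ext
    funext n
    exact Limits.pullback.condition
  refine ⟨⟨w⟩, ⟨Limits.PullbackCone.IsLimit.mk w
    (fun s => liftSys f g s.fst s.snd s.condition) ?_ ?_ ?_⟩⟩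
  · intro s
    apply FSch.Hom.ext
    funext n
    exact Limits.pullback.lift_fst _ _ _
  · intro s
    apply FSch.Hom.ext
    funext n
    exact Limits.pullback.lift_snd _ _ _
  · intro s m h₁ h₂
    apply FSch.Hom.ext
    funext n
    apply Limits.pullback.hom_ext
    · have := congr_arg (fun h : FSch.Hom _ _ => h.app n) h₁
      simp only [FSch.comp_app, FSch.pullbackFst_app] at this
      exact this.trans (Limits.pullback.lift_fst _ _ _).symm
    · have := congr_arg (fun h : FSch.Hom _ _ => h.app n) h₂
      simp only [FSch.comp_app, FSch.pullbackSnd_app] at this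
      exact this.trans (Limits.pullback.lift_snd _ _ _).symm

end Groth.Agent.S3859
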