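import Groth.Statements.S3860
import Mathlib.RingTheory.AdicCompletion.RingHom

set_option autoImplicit false
universe u
open FCompl

namespace Groth.Agent.S3860

open CategoryTheory

open AlgebraicGeometry in
/-- (Affine adic case; the formal spectra presented as the systems Spec(A/I^(n+1)) and Spec(B/K^(n+1)).)
Let I be an ideal of a ring A which is complete and separated for the I-adic topology, and K an
ideal of a ring B. Then φ ↦ (Spec of the induced maps B/K^(n+1) -> A/I^(n+1)) is a bijection from
the ring homomorphisms φ : B -> A with φ(K) ⊆ I onto the morphisms of systems from Spf(A) to Spf(B),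
i.e. the compatible families of morphisms Spec(A/I^(n+1)) -> Spec(B/K^(n+1)). -/
theorem result (A B : Type u) [CommRing A] [CommRing B] (I : Ideal A) (K : Ideal B)
    [IsAdicComplete I A] :
    Function.Bijective (fun φ : {φ : B →+* A // K ≤ I.comap φ} ↦ FSch.spfMap I K φ.1 φ.2) := by
  constructor
  · rintro ⟨φ, hφ⟩ ⟨ψ, hψ⟩ h
    simp only at h
    apply Subtype.ext
    simp only
    apply DFunLike.coe_injective
    apply IsHausdorff.StrictMono.funext' I (a := fun n => n + 1) (fun _ _ h => by simpa using h)
    intro n b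
    have h1 := congr_arg (fun g : FSch.Hom _ _ => g.app n) h
    simp only [FSch.spfMap_app] at h1
    have h2 := congr_arg CommRingCat.Hom.hom (Spec.map_injective h1)
    simp only [CommRingCat.hom_ofHom] at h2
    have h3 := congr($h2 (Ideal.Quotient.mk _ b))
    simpa [FSch.quotPowMap] using h3
  · intro g
    have hex : ∀ n, ∃ ψ : B ⧸ K ^ (n + 1) →+* A ⧸ I ^ (n + 1),
        Spec.map (CommRingCat.ofHom ψ) = (g : FSch.Hom _ _).app n := fun n => by
      obtain ⟨ψ, hψ⟩ := Spec.map_surjective ((g : FSch.Hom (FSch.spf A I) (FSch.spf B K)).app n)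
      exact ⟨ψ.hom, hψ⟩
    choose ψ hψ using hex
    have hcomm : ∀ m, (ψ m).comp (Ideal.Quotient.factor
          (Ideal.pow_le_pow_right (Nat.le_succ (m + 1)))) =
        (Ideal.Quotient.factor (Ideal.pow_le_pow_right (Nat.le_succ (m + 1)))).comp
          (ψ (m + 1)) := by
      intro m
      have h1 := (g : FSch.Hom (FSch.spf A I) (FSch.spf B K)).comm m
      rw [← hψ m, ← hψ (m + 1)] at h1
      change Spec.map _ ≫ Spec.map _ = Spec.map _ ≫ Spec.map _ at h1
      rw [← Spec.map_comp, ← Spec.map_comp, ← CommRingCat.ofHom_comp,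
        ← CommRingCat.ofHom_comp] at h1
      have h2 := congr_arg CommRingCat.Hom.hom (Spec.map_injective h1)
      simpa only [CommRingCat.hom_ofHom] using h2
    let f : ∀ n, B →+* A ⧸ I ^ (n + 1) := fun n => (ψ n).comp (Ideal.Quotient.mk (K ^ (n + 1)))
    have ha : StrictMono (fun n : ℕ => n + 1) := fun _ _ h => by simpa using h
    have hf : ∀ {m : ℕ}, (Ideal.Quotient.factorPow I (ha.monotone m.le_succ)).comp (f (m + 1)) =
        f m := by
      intro m
      ext b
      have := congr($(hcomm m) (Ideal.Quotient.mk _ b))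
      simp only [RingHom.comp_apply, Ideal.Quotient.factor_mk] at this
      simp only [f, RingHom.comp_apply]
      exact this.symm
    let φ : B →+* A := IsAdicComplete.StrictMono.liftRingHom I ha f hf
    have hφmk : ∀ n b, Ideal.Quotient.mk (I ^ (n + 1)) (φ b) = ψ n (Ideal.Quotient.mk _ b) :=
      fun n b => IsAdicComplete.StrictMono.mk_liftRingHom I ha f hf b
    have hφ : K ≤ I.comap φ := by
      intro b hb
      rw [Ideal.mem_comap]
      have h0 := hφmk 0 b
      have hb' : Ideal.Quotient.mk (K ^ (0 + 1)) b = 0 := by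
        rw [Ideal.Quotient.eq_zero_iff_mem]
        simpa using hb
      rw [hb', map_zero, Ideal.Quotient.eq_zero_iff_mem] at h0
      simpa using h0
    refine ⟨⟨φ, hφ⟩, ?_⟩
    apply FSch.Hom.ext
    funext n
    simp only [FSch.spfMap_app]
    rw [← hψ n]
    congr 2
    apply Ideal.Quotient.ringHom_ext
    ext b
    simp only [FSch.quotPowMap, RingHom.comp_apply, Ideal.quotientMap_mk]
    exact hφmk n b

end Groth.Agent.S3860
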