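import Groth.Statements.S3865
import Groth.Agent.Lib.FSchKer

set_option autoImplicit false
universe u
open FCompl

namespace Groth.Agent.S3865

open AlgebraicGeometry in
/-- A formal scheme is presented as a system of thickenings (X_n)_n, and a coherent ideal of it as a
family of ideal sheaves A_n on the levels X_n, each A_n equal to the inverse image ideal of A_(n+1)
under X_n → X_(n+1). Let (X_n) be a locally Noetherian adic formal system and (A_n) such a family.
Then the closed subschemes Y_n cut out by the A_n, with the induced transition maps, form a locally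
Noetherian adic formal system, and its inclusion into (X_n) is adic: every square Y_n → Y_(n+1), X_n
→ X_(n+1) is cartesian. -/
theorem result (𝔛 : FSch.Sys.{u}) (h𝔛 : 𝔛.IsLocNoethFormal)
    (𝒜 : ∀ n, (𝔛.X n).IdealSheafData) (h : ∀ n, (𝒜 (n + 1)).comap (𝔛.ι n) = 𝒜 n) :
    (FSch.subSys 𝔛 𝒜 (fun n ↦ (h n).le)).IsLocNoethFormal ∧
      FSch.IsAdicHom (FSch.subSysι 𝔛 𝒜 (fun n ↦ (h n).le)) := by
  have hadic : FSch.IsAdicHom (FSch.subSysι 𝔛 𝒜 (fun n ↦ (h n).le)) := by
    intro n
    have := (h𝔛.1 n).1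
    refine (isPullback_of_isClosedImmersion (𝒜 n).subschemeι (𝒜 (n + 1)).subschemeι
      (Scheme.IdealSheafData.subschemeMap (𝒜 n) (𝒜 (n + 1)) (𝔛.ι n)
        (Scheme.IdealSheafData.le_map_iff_comap_le.mpr (h n).le)) (𝔛.ι n) ?_ ?_).flip
    · exact (Scheme.IdealSheafData.subschemeMap_subschemeι _ _ _ _).symm
    · rw [Scheme.IdealSheafData.ker_subschemeι, Scheme.IdealSheafData.ker_subschemeι]
      exact h n
  refine ⟨⟨Groth.Agent.Lib.FSchKer.isFormal_of_isAdicHom _ hadic h𝔛.1,
    Groth.Agent.Lib.FSchKer.isAdic_of_isAdicHom _ hadic h𝔛.1 h𝔛.2.1, fun n => ?_⟩, hadic⟩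
  have := h𝔛.2.2 n
  exact Groth.Agent.Lib.FSchKer.isLocallyNoetherian_subscheme (𝒜 n)

end Groth.Agent.S3865
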