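import Groth.Statements.S3867
import Groth.Agent.Lib.FSchKer
import Mathlib.RingTheory.Ideal.Quotient.PowTransition
import Mathlib.RingTheory.Nakayama

set_option autoImplicit false
universe u
open FCompl

namespace Groth.Agent.S3867

open AlgebraicGeometry CategoryTheory Limits

/-- The square at level `n` is cartesian iff the ideals agree modulo `I^(n+2)`. -/
lemma isPullback_iff (A B : Type u) [CommRing A] [CommRing B]
    (I : Ideal A) (K : Ideal B) (φ : B →+* A) (h : K ≤ I.comap φ) (n : ℕ) :
    IsPullback ((FSch.spf A I).ι n) ((FSch.spfMap I K φ h : FSch.Hom _ _).app n)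
      ((FSch.spfMap I K φ h : FSch.Hom _ _).app (n + 1)) ((FSch.spf B K).ι n) ↔
    ((K.map φ) ^ (n + 1)).map (Ideal.Quotient.mk (I ^ (n + 2))) =
      (I ^ (n + 1)).map (Ideal.Quotient.mk (I ^ (n + 2))) := by
  have hA : IsClosedImmersion ((FSch.spf A I).ι n) :=
    IsClosedImmersion.spec_of_surjective _ (Ideal.Quotient.factor_surjective
      (Ideal.pow_le_pow_right (Nat.le_succ (n + 1))))
  have hB : IsClosedImmersion ((FSch.spf B K).ι n) :=
    IsClosedImmersion.spec_of_surjective _ (Ideal.Quotient.factor_surjective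
      (Ideal.pow_le_pow_right (Nat.le_succ (n + 1))))
  have hkA : ((FSch.spf A I).ι n).ker =
      FSch.idealSpec (A ⧸ I ^ (n + 2)) ((I ^ (n + 1)).map (Ideal.Quotient.mk (I ^ (n + 2)))) := by
    change (CohB1.specQuotTrans I n).ker = _
    rw [CohB1.specQuotTrans, Groth.Agent.Lib.FSchKer.ker_SpecMap, Ideal.Quotient.factor_ker]
  have hkB : (((FSch.spf B K).ι n).ker).comap ((FSch.spfMap I K φ h : FSch.Hom _ _).app (n + 1)) =
      FSch.idealSpec (A ⧸ I ^ (n + 2))
        (((K.map φ) ^ (n + 1)).map (Ideal.Quotient.mk (I ^ (n + 2)))) := by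
    change ((CohB1.specQuotTrans K n).ker).comap
      (Spec.map (CommRingCat.ofHom (FSch.quotPowMap I K φ h (n + 1)))) = _
    rw [CohB1.specQuotTrans, Groth.Agent.Lib.FSchKer.ker_SpecMap, Ideal.Quotient.factor_ker,
      Groth.Agent.Lib.IdealSheafComap.comap_idealSpec, Ideal.map_map]
    congr 1
    have : (FSch.quotPowMap I K φ h (n + 1)).comp (Ideal.Quotient.mk (K ^ (n + 2))) =
        (Ideal.Quotient.mk (I ^ (n + 2))).comp φ := by
      ext b
      simp [FSch.quotPowMap]
    rw [this, ← Ideal.map_map, Ideal.map_pow]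
  constructor
  · intro hp
    have := Groth.Agent.Lib.FSchKer.ker_of_isPullback hp
    rw [hkA, hkB] at this
    exact (Groth.Agent.Lib.FSchKer.idealSpec_injective _ this).symm
  · intro he
    refine isPullback_of_isClosedImmersion _ _ _ _
      ((FSch.spfMap I K φ h : FSch.Hom _ _).comm n).symm ?_
    rw [hkA, hkB, he]

open AlgebraicGeometry in
/-- Formal spectra are presented as the systems Spec(A/I^(n+1)) and Spec(B/K^(n+1)), a morphism of
systems being adic when all its squares are cartesian. Let A be a Noetherian ring, complete and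
separated for the I-adic topology of an ideal I, K an ideal of a ring B and φ : B → A a ring
homomorphism with φ(K) ⊆ I. Then the induced morphism Spf(A) → Spf(B) is adic if and only if the
ideal of A generated by φ(K) is I. -/
theorem result (A B : Type u) [CommRing A] [CommRing B] [IsNoetherianRing A]
    (I : Ideal A) (K : Ideal B) [IsAdicComplete I A] (φ : B →+* A) (h : K ≤ I.comap φ) :
    FSch.IsAdicHom (FSch.spfMap I K φ h) ↔ K.map φ = I := by
  constructor
  · intro hadic
    have h0 := (isPullback_iff A B I K φ h 0).mp (hadic 0)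
    have h1 := congr_arg (Ideal.comap (Ideal.Quotient.mk (I ^ (0 + 2)))) h0
    rw [Ideal.comap_map_of_surjective _ Ideal.Quotient.mk_surjective,
      Ideal.comap_map_of_surjective _ Ideal.Quotient.mk_surjective,
      ← RingHom.ker_eq_comap_bot, Ideal.mk_ker] at h1
    simp only [zero_add, pow_one] at h1
    have hle : K.map φ ≤ I := Ideal.map_le_iff_le_comap.mpr h
    refine le_antisymm hle ?_
    have hI2 : I ^ 2 ≤ I := Ideal.pow_le_self (by norm_num)
    rw [sup_eq_left.mpr hI2] at h1
    refine Submodule.le_of_le_smul_of_le_jacobson_bot (IsNoetherian.noetherian I)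
      (IsAdicComplete.le_jacobson_bot I) ?_
    rw [smul_eq_mul, ← pow_two]
    exact h1.ge
  · intro he n
    exact (isPullback_iff A B I K φ h n).mpr (by rw [he])

end Groth.Agent.S3867
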