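import Groth.Statements.S3872
import Groth.Agent.Lib.ComplMap

set_option autoImplicit false
universe u
open FCompl

namespace Groth.Agent.S3872

open Groth.Agent.Lib.ComplMap in
/-- The image of `A_𝔭` in the completion lies in the stalk subring. -/
lemma algebraMap_mem_stalkSubring (A : Type u) [CommRing A] (J : Ideal A) (𝔭 : Ideal A)
    [𝔭.IsPrime] (b : Localization.AtPrime 𝔭) :
    algebraMap (Localization.AtPrime 𝔭) (FSch.cAtPrime A J 𝔭) b ∈ FSch.stalkSubring A J 𝔭 := by
  obtain ⟨a, s, rfl⟩ := IsLocalization.exists_mk'_eq 𝔭.primeCompl b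
  have hf : s.1 ∉ 𝔭 := s.2
  let b' : Localization.Away s.1 :=
    IsLocalization.mk' (Localization.Away s.1) a
      (⟨s.1, Submonoid.mem_powers s.1⟩ : Submonoid.powers s.1)
  have hb' : FSch.awayToAtPrime A 𝔭 s.1 hf b' = IsLocalization.mk' (Localization.AtPrime 𝔭) a s := by
    rw [IsLocalization.eq_mk'_iff_mul_eq]
    have h1 : FSch.awayToAtPrime A 𝔭 s.1 hf (algebraMap A (Localization.Away s.1) s.1) =
        algebraMap A (Localization.AtPrime 𝔭) s.1 := IsLocalization.Away.lift_eq _ _ _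
    have h2 : FSch.awayToAtPrime A 𝔭 s.1 hf (algebraMap A (Localization.Away s.1) a) =
        algebraMap A (Localization.AtPrime 𝔭) a := IsLocalization.Away.lift_eq _ _ _
    rw [← h1, ← map_mul, ← h2]
    congr 1
    exact IsLocalization.mk'_spec _ a (⟨s.1, Submonoid.mem_powers s.1⟩ : Submonoid.powers s.1)
  have hmem : FSch.cAwayToAtPrime A J 𝔭 s.1 hf (algebraMap _ (FSch.cAway A J s.1) b') ∈
      FSch.stalkSubring A J 𝔭 :=
    le_iSup (fun f : {f : A // f ∉ 𝔭} => (FSch.cAwayToAtPrime A J 𝔭 f.1 f.2).range)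
      ⟨s.1, hf⟩ ⟨_, rfl⟩
  have := complMap_algebraMap _ _ (FSch.awayToAtPrime A 𝔭 s.1 hf)
    (FSch.map_awayToAtPrime_le A J 𝔭 s.1 hf) b'
  rw [hb'] at this
  rw [← this]
  exact hmem

/-- Every element of the completion of `A_𝔭` is congruent to an element of `A_𝔭` modulo the maximal
ideal. -/
lemma exists_sub_mem_maximalIdeal (A : Type u) [CommRing A] (J : Ideal A) (𝔭 : Ideal A)
    [𝔭.IsPrime] (hJ : J ≤ 𝔭) [IsLocalRing (FSch.cAtPrime A J 𝔭)] (x : FSch.cAtPrime A J 𝔭) :
    ∃ b : Localization.AtPrime 𝔭,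
      x - algebraMap (Localization.AtPrime 𝔭) (FSch.cAtPrime A J 𝔭) b ∈
        IsLocalRing.maximalIdeal (FSch.cAtPrime A J 𝔭) := by
  set I : Ideal (Localization.AtPrime 𝔭) := J.map (algebraMap A (Localization.AtPrime 𝔭)) with hI
  have hIne : I ≠ ⊤ := by
    have hle : I ≤ IsLocalRing.maximalIdeal (Localization.AtPrime 𝔭) := by
      rw [← Localization.AtPrime.map_eq_maximalIdeal]
      exact Ideal.map_mono hJ
    intro h
    rw [h] at hle
    exact (IsLocalRing.maximalIdeal.isMaximal _).ne_top (top_le_iff.mp hle)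
  have hnt : Nontrivial (Localization.AtPrime 𝔭 ⧸ I ^ 1) := by
    rw [pow_one]
    exact Ideal.Quotient.nontrivial_iff.mpr hIne
  obtain ⟨b, hb⟩ := Ideal.Quotient.mk_surjective (AdicCompletion.evalₐ I 1 x)
  refine ⟨b, ?_⟩
  by_contra hmem
  have hu : IsUnit (x - algebraMap (Localization.AtPrime 𝔭) (FSch.cAtPrime A J 𝔭) b) := by
    by_contra hnu
    exact hmem ((IsLocalRing.mem_maximalIdeal _).mpr hnu)
  have hu' := hu.map (AdicCompletion.evalₐ I 1)
  have hev : AdicCompletion.evalₐ I 1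
      (algebraMap (Localization.AtPrime 𝔭) (FSch.cAtPrime A J 𝔭) b) = Ideal.Quotient.mk _ b := by
    rw [AdicCompletion.algebraMap_apply]
    simp only [Algebra.algebraMap_self, RingHom.id_apply]
    exact AdicCompletion.evalₐ_of I 1 b
  rw [map_sub, hev, hb, sub_self] at hu'
  exact not_isUnit_zero hu'

/-- For a ring A, an ideal J and a prime ideal 𝔭 with J ⊆ 𝔭, let A{S⁻¹}, S = A ∖ 𝔭, be the completion of
A_𝔭 for the topology defined by the extension of J, and A_{S} the subring of A{S⁻¹} generated by the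
images of the completed localizations A_{f}, f ∉ 𝔭 (the stalk ring of Spf(A) at 𝔭). Given that A_{S}
and A{S⁻¹} are local rings and that the inclusion A_{S} → A{S⁻¹} and the canonical map A_𝔭 → A{S⁻¹}
are local homomorphisms (all four are carried here as instance hypotheses; the two about A_{S} are
stated separately), both maps induce bijections on residue fields; so the residue field of A_{S} is
the residue field κ(𝔭) of A_𝔭. -/
theorem result (A : Type u) [CommRing A] (J : Ideal A) (𝔭 : Ideal A)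
    [𝔭.IsPrime] (hJ : J ≤ 𝔭) [IsLocalRing (FSch.stalkSubring A J 𝔭)] [IsLocalRing (FSch.cAtPrime A J 𝔭)]
    [IsLocalHom (FSch.stalkSubring A J 𝔭).subtype]
    [IsLocalHom (algebraMap (Localization.AtPrime 𝔭) (FSch.cAtPrime A J 𝔭))] :
    Function.Bijective (IsLocalRing.ResidueField.map (FSch.stalkSubring A J 𝔭).subtype) ∧
      Function.Bijective
        (IsLocalRing.ResidueField.map (algebraMap (Localization.AtPrime 𝔭) (FSch.cAtPrime A J 𝔭))) := by
  refine ⟨⟨RingHom.injective _, fun y => ?_⟩, ⟨RingHom.injective _, fun y => ?_⟩⟩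
  · obtain ⟨x, rfl⟩ := IsLocalRing.residue_surjective y
    obtain ⟨b, hb⟩ := exists_sub_mem_maximalIdeal A J 𝔭 hJ x
    refine ⟨IsLocalRing.residue _ ⟨_, algebraMap_mem_stalkSubring A J 𝔭 b⟩, ?_⟩
    rw [IsLocalRing.ResidueField.map_residue]
    exact ((Ideal.Quotient.eq).mpr hb).symm
  · obtain ⟨x, rfl⟩ := IsLocalRing.residue_surjective y
    obtain ⟨b, hb⟩ := exists_sub_mem_maximalIdeal A J 𝔭 hJ x
    refine ⟨IsLocalRing.residue _ b, ?_⟩
    rw [IsLocalRing.ResidueField.map_residue]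
    exact ((Ideal.Quotient.eq).mpr hb).symm

end Groth.Agent.S3872
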