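import Groth.Statements.S3873
import Mathlib.RingTheory.TensorProduct.Quotient

set_option autoImplicit false
universe u
open FCompl

namespace Groth.Agent.S3873

open AlgebraicGeometry CategoryTheory Limits

/-- Algebra form: the inverse image along `Spec B' ⟶ Spec B` of the ideal sheaf of `𝔟`. -/
lemma comap_idealSpec_algebraMap (B A : Type u) [CommRing A] [CommRing B] [Algebra B A]
    (𝔟 : Ideal B) :
    (FSch.idealSpec B 𝔟).comap (Spec.map (CommRingCat.ofHom (algebraMap B A))) =
      FSch.idealSpec A (𝔟.map (algebraMap B A)) := by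
  unfold FSch.idealSpec
  have hci : IsClosedImmersion (Spec.map (CommRingCat.ofHom (Ideal.Quotient.mk 𝔟))) :=
    IsClosedImmersion.spec_of_surjective _ Ideal.Quotient.mk_surjective
  rw [← Scheme.IdealSheafData.ker_fst_of_isClosedImmersion]
  have h1 : pullback.fst (Spec.map (CommRingCat.ofHom (algebraMap B A)))
      (Spec.map (CommRingCat.ofHom (Ideal.Quotient.mk 𝔟))) =
      (pullbackSpecIso B A (B ⧸ 𝔟)).hom ≫
        Spec.map (CommRingCat.ofHom Algebra.TensorProduct.includeLeftRingHom) :=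
    (pullbackSpecIso_hom_fst B A (B ⧸ 𝔟)).symm
  rw [h1, Scheme.Hom.ker_comp_of_isIso]
  let ψ := Algebra.TensorProduct.quotIdealMapEquivTensorQuot A 𝔟
  have h2 : (Algebra.TensorProduct.includeLeftRingHom : A →+* TensorProduct B A (B ⧸ 𝔟)) =
      ψ.toRingEquiv.toRingHom.comp (Ideal.Quotient.mk (𝔟.map (algebraMap B A))) := by
    ext a
    simp [ψ]
  rw [h2, CommRingCat.ofHom_comp, Spec.map_comp]
  have : IsIso (Spec.map (CommRingCat.ofHom ψ.toRingEquiv.toRingHom)) :=
    inferInstanceAs (IsIso (Scheme.Spec.mapIso ψ.toRingEquiv.toCommRingCatIso.op).hom)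
  rw [Scheme.Hom.ker_comp_of_isIso]

theorem result (A B : Type u) [CommRing A] [CommRing B] (φ : B →+* A) (𝔟 : Ideal B) :
    (FSch.idealSpec B 𝔟).comap (Spec.map (CommRingCat.ofHom φ)) = FSch.idealSpec A (𝔟.map φ) := by
  algebraize [φ]
  exact comap_idealSpec_algebraMap B A 𝔟

end Groth.Agent.S3873
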