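import Groth.Statements.S3874
import Mathlib.RingTheory.AdicCompletion.Completeness
import Mathlib.RingTheory.Localization.Ideal

set_option autoImplicit false
universe u
open FCompl

namespace Groth.Agent.S3874

/-- The kernel of the evaluation map of the adic completion at level `n`. -/
lemma ker_evalₐ_eq_map {R : Type*} [CommRing R] (I : Ideal R) (fg : I.FG) (n : ℕ) :
    RingHom.ker (AdicCompletion.evalₐ I n).toRingHom =
      (I ^ n).map (algebraMap R (AdicCompletion I R)) := by
  ext x
  trans x ∈ (AdicCompletion.eval I R n).ker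
  · have eq : I ^ n * ⊤ = I ^ n := by simp
    have : Function.Injective (Ideal.Quotient.factor ((le_of_eq eq))) := by
      simpa [RingHom.injective_iff_ker_eq_bot, Ideal.Quotient.factor_ker]
        using Ideal.map_mk_eq_bot_of_le (le_of_eq eq.symm)
    simpa [← AdicCompletion.factor_eval_eq_evalₐ] using map_eq_zero_iff _ this
  · simp [← AdicCompletion.pow_smul_top_eq_ker_eval fg]

/-- Let A be a Noetherian ring, J an ideal, f ∈ A and n ≥ 0, and let A_{f} be the completion of the
localization A_f for the topology defined by the extension of J. There is a ring isomorphism from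
the localization of A/J^(n+1) away from the class of f onto A_{f} modulo the (n+1)-st power of the
extension of J to A_{f}, compatible with the canonical maps from A (and hence unique). In terms of
formal spectra: the open D(f) of Spf(A) is Spf(A_{f}), and at level n its ring is the ring
(A/J^(n+1))_f of the open D(f) of Spec(A/J^(n+1)). -/
theorem result (A : Type u) [CommRing A] [IsNoetherianRing A] (J : Ideal A)
    (f : A) (n : ℕ) :
    ∃ e : Localization.Away (Ideal.Quotient.mk (J ^ (n + 1)) f) ≃+*
        FSch.cAway A J f ⧸ (J.map (algebraMap A (FSch.cAway A J f))) ^ (n + 1),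
      ∀ a : A, e (algebraMap (A ⧸ J ^ (n + 1)) _ (Ideal.Quotient.mk (J ^ (n + 1)) a)) =
        Ideal.Quotient.mk _ (algebraMap A (FSch.cAway A J f) a) := by
  set B := Localization.Away f with hB
  set I : Ideal B := J.map (algebraMap A B) with hI
  have hIfg : I.FG := Ideal.FG.map (IsNoetherian.noetherian J) _
  let ψ : AdicCompletion I B →+* B ⧸ I ^ (n + 1) := (AdicCompletion.evalₐ I (n + 1)).toRingHom
  have hψsurj : Function.Surjective ψ := AdicCompletion.surjective_evalₐ I (n + 1)
  have hJ : J.map (algebraMap A (AdicCompletion I B)) =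
      I.map (algebraMap B (AdicCompletion I B)) := by
    rw [hI, Ideal.map_map, ← IsScalarTower.algebraMap_eq]
  have hker : (J.map (algebraMap A (AdicCompletion I B))) ^ (n + 1) = RingHom.ker ψ := by
    rw [ker_evalₐ_eq_map I hIfg, hJ, Ideal.map_pow]
  let e₁ : (AdicCompletion I B ⧸ (J.map (algebraMap A (AdicCompletion I B))) ^ (n + 1)) ≃+*
      B ⧸ I ^ (n + 1) :=
    (Ideal.quotEquivOfEq hker).trans (RingHom.quotientKerEquivOfSurjective hψsurj)
  have hK : (J ^ (n + 1)).map (algebraMap A B) = I ^ (n + 1) := Ideal.map_pow _ _ _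
  let e₃ : (B ⧸ (J ^ (n + 1)).map (algebraMap A B)) ≃+* B ⧸ I ^ (n + 1) := Ideal.quotEquivOfEq hK
  have hloc : IsLocalization.Away (Ideal.Quotient.mk (J ^ (n + 1)) f)
      (B ⧸ (J ^ (n + 1)).map (algebraMap A B)) := by
    have h := (inferInstance : IsLocalization
      (Algebra.algebraMapSubmonoid (A ⧸ J ^ (n + 1)) (Submonoid.powers f))
      (B ⧸ (J ^ (n + 1)).map (algebraMap A B)))
    have hp : Algebra.algebraMapSubmonoid (A ⧸ J ^ (n + 1)) (Submonoid.powers f) =
        Submonoid.powers (Ideal.Quotient.mk (J ^ (n + 1)) f) := by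
      simp [Algebra.algebraMapSubmonoid, Submonoid.map_powers]
    rwa [hp] at h
  let e₂ : Localization.Away (Ideal.Quotient.mk (J ^ (n + 1)) f) ≃ₐ[A ⧸ J ^ (n + 1)]
      (B ⧸ (J ^ (n + 1)).map (algebraMap A B)) :=
    IsLocalization.algEquiv (Submonoid.powers (Ideal.Quotient.mk (J ^ (n + 1)) f)) _ _
  refine ⟨e₂.toRingEquiv.trans (e₃.trans e₁.symm), fun a => ?_⟩
  simp only [RingEquiv.trans_apply, AlgEquiv.coe_ringEquiv, AlgEquiv.commutes]
  rw [RingEquiv.symm_apply_eq]
  have hL : algebraMap (A ⧸ J ^ (n + 1)) (B ⧸ (J ^ (n + 1)).map (algebraMap A B))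
      (Ideal.Quotient.mk _ a) = Ideal.Quotient.mk _ (algebraMap A B a) := rfl
  have hψ : ψ (algebraMap A (AdicCompletion I B) a) =
      Ideal.Quotient.mk _ (algebraMap A B a) := by
    rw [IsScalarTower.algebraMap_apply A B (AdicCompletion I B)]
    exact AdicCompletion.evalₐ_of I (n + 1) (algebraMap A B a)
  rw [hL]
  exact hψ.symm

end Groth.Agent.S3874
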