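import Groth.Statements.S3894

set_option autoImplicit false
universe u
open CategoryTheory CategoryTheory.Limits Opposite
open Tors

namespace Groth.Agent.S3894

variable {C : Type u} [SmallCategory C] {J : GrothendieckTopology C}
  {G : Sheaf J AddCommGrpCat.{u}}

/-- The underlying sheaf of sets of `G`. -/
noncomputable abbrev Gset (G : Sheaf J AddCommGrpCat.{u}) : Sheaf J (Type u) :=
  (sheafCompose J (forget AddCommGrpCat.{u})).obj G

/-- The zero element as a section of the underlying sheaf of sets. -/
def zz (G : Sheaf J AddCommGrpCat.{u}) (U : Cᵒᵖ) : (Gset G).obj.obj U := (0 : G.obj.obj U)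

lemma zz_map (G : Sheaf J AddCommGrpCat.{u}) {U V : Cᵒᵖ} (f : U ⟶ V) :
    (Gset G).obj.map f (zz G U) = zz G V := (map_zero (G.obj.map f).hom)

/-- The zero section of `G` as a morphism from the terminal sheaf. -/
noncomputable def zeroSec (G : Sheaf J AddCommGrpCat.{u}) : ⊤_ (Sheaf J (Type u)) ⟶ Gset G :=
  ObjectProperty.homMk
    { app := fun U => TypeCat.ofHom (fun _ => zz G U)
      naturality := by
        intro U V f
        ext x
        exact (zz_map G f).symm }

/-- A compatible family of points of the terminal sheaf. -/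
noncomputable def tt (G : Sheaf J AddCommGrpCat.{u}) (U : Cᵒᵖ) :
    (⊤_ (Sheaf J (Type u))).obj.obj U :=
  (terminal.from (Gset G)).hom.app U (zz G U)

lemma tt_map (G : Sheaf J AddCommGrpCat.{u}) {U V : Cᵒᵖ} (f : U ⟶ V) :
    (⊤_ (Sheaf J (Type u))).obj.map f (tt G U) = tt G V := by
  have := ConcreteCategory.congr_hom ((terminal.from (Gset G)).hom.naturality f) (zz G U)
  simp only [ConcreteCategory.comp_apply] at this
  rw [tt, ← this, zz_map]
  rfl

theorem result {C : Type u} [SmallCategory C] {J : GrothendieckTopology C}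
    {G : Sheaf J AddCommGrpCat.{u}} (T : Tors.Torsor G) : T.IsTrivial ↔ T.HasSection := by
  constructor
  · rintro ⟨e, -⟩
    exact ⟨zeroSec G ≫ e.hom⟩
  · rintro ⟨s⟩
    let p : ∀ U : Cᵒᵖ, T.P.obj.obj U := fun U => s.hom.app U (tt G U)
    have hp : ∀ {U V : Cᵒᵖ} (f : U ⟶ V), T.P.obj.map f (p U) = p V := by
      intro U V f
      have := ConcreteCategory.congr_hom (s.hom.naturality f) (tt G U)
      simp only [ConcreteCategory.comp_apply] at this
      simp only [p]
      rw [← this, tt_map]
    have hbij : ∀ U : Cᵒᵖ, Function.Bijective (fun g : G.obj.obj U => T.vadd g (p U)) := by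
      intro U
      constructor
      · intro g h hgh
        obtain ⟨k, -, hk⟩ := T.free_transitive (p U) (T.vadd h (p U))
        exact (hk g hgh).trans (hk h rfl).symm
      · intro q
        obtain ⟨k, hk, -⟩ := T.free_transitive (p U) q
        exact ⟨k, hk⟩
    let eU : ∀ U : Cᵒᵖ, (Gset G).obj.obj U ≅ T.P.obj.obj U := fun U =>
      (Equiv.ofBijective (fun g : G.obj.obj U => T.vadd g (p U)) (hbij U)).toIso
    let ePre : (Gset G).obj ≅ T.P.obj := NatIso.ofComponents eU (by
      intro U V f
      ext g
      have h1 := T.map_vadd f g (p U)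
      rw [hp f] at h1
      exact h1.symm)
    refine ⟨(fullyFaithfulSheafToPresheaf J (Type u)).preimageIso ePre, ?_⟩
    intro U g h
    exact T.add_vadd g h (p U)

end Groth.Agent.S3894
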