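import Groth.Statements.S3895
import Groth.Agent.S3894
import Mathlib.CategoryTheory.Sites.LocallySurjective
import Mathlib.CategoryTheory.Sites.EpiMono
import Mathlib.CategoryTheory.Sites.Subsheaf

set_option autoImplicit false
universe u
open CategoryTheory CategoryTheory.Limits Opposite
open Tors

namespace Groth.Agent.S3895

section Aux

variable {C : Type u} [SmallCategory C] {J : GrothendieckTopology C}

abbrev Ab := AddCommGrpCat.{u}

/-- the constant presheaf ℤ -/
abbrev Zc (C : Type u) [SmallCategory C] : Cᵒᵖ ⥤ Ab.{u} :=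
  (Functor.const Cᵒᵖ).obj (AddCommGrpCat.of (ULift.{u} ℤ))

/-- the constant sheaf ℤ -/
noncomputable abbrev ZJ (J : GrothendieckTopology C) : Sheaf J Ab.{u} :=
  (presheafToSheaf J Ab.{u}).obj (Zc C)

/-- The family of sections attached to a map out of the constant sheaf `ℤ`. -/
noncomputable def secOf {Q : Sheaf J Ab.{u}} (q : ZJ J ⟶ Q) (U : Cᵒᵖ) : Q.obj.obj U :=
  (((sheafificationAdjunction J Ab.{u}).homEquiv (Zc C) Q q).app U).hom ⟨1⟩

theorem secOf_map {Q : Sheaf J Ab.{u}} (q : ZJ J ⟶ Q) {U V : Cᵒᵖ} (f : U ⟶ V) :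
    (Q.obj.map f).hom (secOf q U) = secOf q V := by
  have h := ((sheafificationAdjunction J Ab.{u}).homEquiv (Zc C) Q q).naturality f
  have h2 := congrArg (fun m => m.hom (⟨1⟩ : ULift.{u} ℤ)) h
  simp only [AddCommGrpCat.hom_comp, AddMonoidHom.coe_comp, Function.comp_apply] at h2
  exact h2.symm

theorem secOf_comp {Q Q' : Sheaf J Ab.{u}} (q : ZJ J ⟶ Q) (π : Q ⟶ Q') (U : Cᵒᵖ) :
    secOf (q ≫ π) U = (π.hom.app U).hom (secOf q U) := by
  unfold secOf
  rw [Adjunction.homEquiv_naturality_right]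
  rfl

/-- The presheaf map `ℤ ⟶ Q` attached to a compatible family of sections. -/
noncomputable def preOfSec {Q : Cᵒᵖ ⥤ Ab.{u}} (x : ∀ U : Cᵒᵖ, Q.obj U)
    (hx : ∀ {U V : Cᵒᵖ} (f : U ⟶ V), (Q.map f).hom (x U) = x V) : Zc C ⟶ Q where
  app U := AddCommGrpCat.ofHom
    ((zmultiplesHom (Q.obj U) (x U)).comp (AddEquiv.ulift.{0, u} (α := ℤ)).toAddMonoidHom)
  naturality := by
    intro U V f
    ext n
    simp only [Functor.const_obj_obj, Functor.const_obj_map, Category.id_comp, AddCommGrpCat.hom_comp,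
      AddCommGrpCat.hom_ofHom, AddMonoidHom.coe_comp, Function.comp_apply]
    change n.down • x V = (Q.map f).hom (n.down • x U)
    rw [map_zsmul, hx]

/-- The map `ℤ ⟶ Q` of sheaves attached to a compatible family of sections. -/
noncomputable def ofSec {Q : Sheaf J Ab.{u}} (x : ∀ U : Cᵒᵖ, Q.obj.obj U)
    (hx : ∀ {U V : Cᵒᵖ} (f : U ⟶ V), (Q.obj.map f).hom (x U) = x V) : ZJ J ⟶ Q :=
  ((sheafificationAdjunction J Ab.{u}).homEquiv (Zc C) Q).symm (preOfSec x hx)

theorem secOf_ofSec {Q : Sheaf J Ab.{u}} (x : ∀ U : Cᵒᵖ, Q.obj.obj U)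
    (hx : ∀ {U V : Cᵒᵖ} (f : U ⟶ V), (Q.obj.map f).hom (x U) = x V) (U : Cᵒᵖ) :
    secOf (ofSec x hx) U = x U := by
  unfold secOf ofSec
  rw [Equiv.apply_symm_apply]
  change (1 : ℤ) • x U = x U
  rw [one_smul]

theorem hom_ext_secOf {Q : Sheaf J Ab.{u}} (q q' : ZJ J ⟶ Q) (h : ∀ U, secOf q U = secOf q' U) :
    q = q' := by
  apply ((sheafificationAdjunction J Ab.{u}).homEquiv (Zc C) Q).injective
  ext U n
  obtain ⟨n⟩ := n
  have e : (⟨n⟩ : ULift.{u} ℤ) = n • (⟨1⟩ : ULift.{u} ℤ) := by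
    apply ULift.ext
    simp
  rw [e, map_zsmul, map_zsmul]
  exact congrArg (fun t => n • t) (h U)

/-- The underlying sheaf of sets. -/
noncomputable abbrev setSh (F : Sheaf J Ab.{u}) : Sheaf J (Type u) :=
  (sheafCompose J (forget Ab.{u})).obj F

theorem isSheaf_setSh (F : Sheaf J Ab.{u}) : Presieve.IsSheaf J (F.obj ⋙ forget Ab.{u}) :=
  (isSheaf_iff_isSheaf_of_type _ _).1 (setSh F).property

theorem map_g_apply (S : ShortComplex (Sheaf J Ab.{u})) {U V : Cᵒᵖ} (f : U ⟶ V) (x : S.X₂.obj.obj U) :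
    (S.g.hom.app V).hom ((S.X₂.obj.map f).hom x) = (S.X₃.obj.map f).hom ((S.g.hom.app U).hom x) := by
  have h := S.g.hom.naturality f
  have h2 := congrArg (fun m => m.hom x) h
  simpa only [AddCommGrpCat.hom_comp, AddMonoidHom.coe_comp, Function.comp_apply] using h2

theorem map_f_apply (S : ShortComplex (Sheaf J Ab.{u})) {U V : Cᵒᵖ} (f : U ⟶ V) (x : S.X₁.obj.obj U) :
    (S.f.hom.app V).hom ((S.X₁.obj.map f).hom x) = (S.X₂.obj.map f).hom ((S.f.hom.app U).hom x) := by
  have h := S.f.hom.naturality f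
  have h2 := congrArg (fun m => m.hom x) h
  simpa only [AddCommGrpCat.hom_comp, AddMonoidHom.coe_comp, Function.comp_apply] using h2

theorem g_f_apply (S : ShortComplex (Sheaf J Ab.{u})) (U : Cᵒᵖ) (x : S.X₁.obj.obj U) :
    (S.g.hom.app U).hom ((S.f.hom.app U).hom x) = 0 := by
  have h := S.zero
  have h1 : S.f.hom.app U ≫ S.g.hom.app U = 0 := by
    rw [← NatTrans.comp_app, ← ObjectProperty.FullSubcategory.comp_hom, h]
    rfl
  have h2 := congrArg (fun m => m.hom x) h1
  simpa only [AddCommGrpCat.hom_comp, AddMonoidHom.coe_comp, Function.comp_apply,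
    AddCommGrpCat.hom_zero, AddMonoidHom.zero_apply] using h2

/-- The subpresheaf of `S.X₂` of sections lifting the global section `q` of `S.X₃`. -/
noncomputable def fibSub (S : ShortComplex (Sheaf J Ab.{u})) (q : ZJ J ⟶ S.X₃) :
    Subfunctor (S.X₂.obj ⋙ forget Ab.{u}) where
  obj U := {x | (S.g.hom.app U).hom x = secOf q U}
  map {U V} f := by
    intro x hx
    change (S.g.hom.app V).hom ((S.X₂.obj.map f).hom x) = secOf q V
    rw [map_g_apply, show (S.g.hom.app U).hom x = secOf q U from hx, secOf_map]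

theorem isSheaf_fibSub (S : ShortComplex (Sheaf J Ab.{u})) (q : ZJ J ⟶ S.X₃) :
    Presieve.IsSheaf J (fibSub S q).toFunctor := by
  rw [Subfunctor.isSheaf_iff _ (isSheaf_setSh S.X₂)]
  intro U s hs
  change (S.g.hom.app U).hom s = secOf q U
  refine ((isSheaf_setSh S.X₃).isSeparated _ hs).ext ?_
  intro V f hf
  change (S.X₃.obj.map f.op).hom ((S.g.hom.app U).hom s) = (S.X₃.obj.map f.op).hom (secOf q U)
  rw [← map_g_apply, secOf_map]
  exact hf

/-- sections over `U` -/
noncomputable abbrev secF (J : GrothendieckTopology C) (U : Cᵒᵖ) : Sheaf J Ab.{u} ⥤ Ab.{u} :=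
  sheafToPresheaf J Ab.{u} ⋙ (evaluation Cᵒᵖ Ab.{u}).obj U

instance (U : Cᵒᵖ) : (secF J U).Additive where

theorem exists_of_g_eq_zero {S : ShortComplex (Sheaf J Ab.{u})} (hS : S.ShortExact) (U : Cᵒᵖ)
    (x : S.X₂.obj.obj U) (hx : (S.g.hom.app U).hom x = 0) :
    ∃ y : S.X₁.obj.obj U, (S.f.hom.app U).hom y = x := by
  have := hS.mono_f
  have h : (S.map (secF J U)).Exact :=
    hS.exact.map_of_mono_of_preservesKernel (secF J U) inferInstance inferInstance
  rw [ShortComplex.ab_exact_iff] at h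
  exact h x hx

theorem f_injective {S : ShortComplex (Sheaf J Ab.{u})} (hS : S.ShortExact) (U : Cᵒᵖ) :
    Function.Injective (S.f.hom.app U).hom := by
  have := hS.mono_f
  have h : Mono ((secF J U).map S.f) := inferInstance
  exact (AddCommGrpCat.mono_iff_injective _).1 h

theorem imageSieve_g_mem {S : ShortComplex (Sheaf J Ab.{u})} (hS : S.ShortExact) (U : C)
    (x : S.X₃.obj.obj (op U)) : Presheaf.imageSieve S.g.hom x ∈ J U := by
  have := hS.epi_g
  have h : Sheaf.IsLocallySurjective S.g := (Sheaf.isLocallySurjective_iff_epi' Ab.{u} S.g).2 inferInstance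
  exact Presheaf.imageSieve_mem J S.g.hom x

/-- underlying section of `S.X₂` -/
def fval {S : ShortComplex (Sheaf J Ab.{u})} {q : ZJ J ⟶ S.X₃} {U : Cᵒᵖ}
    (p : (fibSub S q).toFunctor.obj U) : S.X₂.obj.obj U := p.1

theorem fval_prop {S : ShortComplex (Sheaf J Ab.{u})} {q : ZJ J ⟶ S.X₃} {U : Cᵒᵖ}
    (p : (fibSub S q).toFunctor.obj U) : (S.g.hom.app U).hom (fval p) = secOf q U := p.2

/-- constructor -/
def fmk {S : ShortComplex (Sheaf J Ab.{u})} {q : ZJ J ⟶ S.X₃} {U : Cᵒᵖ}
    (x : S.X₂.obj.obj U) (hx : (S.g.hom.app U).hom x = secOf q U) : (fibSub S q).toFunctor.obj U :=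
  ⟨x, hx⟩

theorem fval_fmk {S : ShortComplex (Sheaf J Ab.{u})} {q : ZJ J ⟶ S.X₃} {U : Cᵒᵖ}
    (x : S.X₂.obj.obj U) (hx : (S.g.hom.app U).hom x = secOf q U) : fval (fmk (q := q) x hx) = x := rfl

theorem fval_injective {S : ShortComplex (Sheaf J Ab.{u})} {q : ZJ J ⟶ S.X₃} {U : Cᵒᵖ}
    {p p' : (fibSub S q).toFunctor.obj U} (h : fval p = fval p') : p = p' := Subtype.ext h

theorem fval_map {S : ShortComplex (Sheaf J Ab.{u})} {q : ZJ J ⟶ S.X₃} {U V : Cᵒᵖ} (f : U ⟶ V)
    (p : (fibSub S q).toFunctor.obj U) :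
    fval ((fibSub S q).toFunctor.map f p) = (S.X₂.obj.map f).hom (fval p) := rfl

/-- The torsor of liftings of a global section `q` of `S.X₃` to `S.X₂`, under `S.X₁`. -/
noncomputable def torsorOf {S : ShortComplex (Sheaf J Ab.{u})} (hS : S.ShortExact) (q : ZJ J ⟶ S.X₃) :
    Tors.Torsor S.X₁ where
  P := ⟨(fibSub S q).toFunctor, (isSheaf_iff_isSheaf_of_type _ _).2 (isSheaf_fibSub S q)⟩
  vadd {U} g p := fmk ((S.f.hom.app U).hom g + fval p) (by
    rw [map_add, g_f_apply, zero_add, fval_prop])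
  zero_vadd {U} p := fval_injective (by
    rw [fval_fmk, map_zero, zero_add])
  add_vadd {U} g h p := fval_injective (by
    rw [fval_fmk, fval_fmk, fval_fmk, map_add, add_assoc])
  map_vadd {U V} f g p := fval_injective (by
    rw [fval_fmk]
    erw [fval_map]
    rw [fval_fmk, map_add, map_f_apply]
    rfl)
  free_transitive {U} p p' := by
    have h0 : (S.g.hom.app U).hom (fval p' - fval p) = 0 := by
      rw [map_sub, fval_prop, fval_prop, sub_self]
    obtain ⟨y, hy⟩ := exists_of_g_eq_zero hS U _ h0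
    refine ⟨y, fval_injective ?_, ?_⟩
    · rw [fval_fmk, hy, sub_add_cancel]
    · intro z hz
      apply f_injective hS U
      have hz' : (S.f.hom.app U).hom z + fval p = fval p' := congrArg fval hz
      rw [hy, ← hz', add_sub_cancel_right]
  locally_nonempty U := by
    refine ⟨_, imageSieve_g_mem hS U (secOf q (op U)), ?_⟩
    intro V f hf
    obtain ⟨t, ht⟩ := hf
    refine ⟨fmk t ?_⟩
    rw [← secOf_map q f.op]
    exact ht

theorem subsingleton_of_sections (G : Sheaf J Ab.{u}) (h : ∀ T : Tors.Torsor G, T.HasSection) :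
    Subsingleton (Abelian.Ext (ZJ J) G 1) := by
  let S : ShortComplex (Sheaf J Ab.{u}) :=
    ShortComplex.mk (Injective.ι G) (cokernel.π (Injective.ι G)) (cokernel.condition _)
  have hS : S.ShortExact :=
    { exact := S.exact_of_g_is_cokernel (cokernelIsCokernel (Injective.ι G))
      mono_f := inferInstanceAs (Mono (Injective.ι G))
      epi_g := inferInstanceAs (Epi (cokernel.π (Injective.ι G))) }
  refine ⟨fun x y => ?_⟩
  suffices H : ∀ x : Abelian.Ext (ZJ J) G 1, x = 0 by rw [H x, H y]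
  intro x
  have hinj : Injective S.X₂ := inferInstanceAs (Injective (Injective.under G))
  have hx₁ : x.comp (Abelian.Ext.mk₀ S.f) (add_zero 1) = 0 := Abelian.Ext.eq_zero_of_injective _
  obtain ⟨x₃, hx₃⟩ := Abelian.Ext.covariant_sequence_exact₁ (ZJ J) hS x hx₁ (n₀ := 0) rfl
  obtain ⟨q, rfl⟩ := (Abelian.Ext.mk₀_bijective _ _).2 x₃
  obtain ⟨s⟩ := h (torsorOf hS q)
  let p : ∀ U : Cᵒᵖ, (fibSub S q).toFunctor.obj U := fun U => s.hom.app U (Groth.Agent.S3894.tt G U)
  have hp : ∀ {U V : Cᵒᵖ} (f : U ⟶ V), (fibSub S q).toFunctor.map f (p U) = p V := by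
    intro U V f
    have := ConcreteCategory.congr_hom (s.hom.naturality f) (Groth.Agent.S3894.tt G U)
    simp only [ConcreteCategory.comp_apply] at this
    simp only [p]
    rw [← Groth.Agent.S3894.tt_map G f]
    exact this.symm
  let q' : ZJ J ⟶ S.X₂ := ofSec (fun U => fval (p U)) (by
    intro U V f
    rw [← fval_map, hp])
  have hq' : q' ≫ S.g = q := hom_ext_secOf _ _ (fun U => by
    rw [secOf_comp, secOf_ofSec, fval_prop])
  rw [← hx₃, ← hq', ← Abelian.Ext.mk₀_comp_mk₀, Abelian.Ext.comp_assoc _ _ _ (zero_add 0) (zero_add 1) (by rfl),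
    hS.comp_extClass, Abelian.Ext.comp_zero]

end Aux

section Aux2

variable {C : Type u} [SmallCategory C] {J : GrothendieckTopology C}

abbrev Ab' := AddCommGrpCat.{u}

variable {G : Sheaf J Ab'.{u}} (T : Tors.Torsor G)

/-- The difference `q - p` of two sections of a torsor. -/
noncomputable def diff {U : Cᵒᵖ} (q p : T.P.obj.obj U) : G.obj.obj U :=
  Classical.choose (T.free_transitive p q).exists

theorem diff_vadd {U : Cᵒᵖ} (q p : T.P.obj.obj U) : T.vadd (diff T q p) p = q :=
  Classical.choose_spec (T.free_transitive p q).exists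

theorem eq_diff {U : Cᵒᵖ} {q p : T.P.obj.obj U} {g : G.obj.obj U} (h : T.vadd g p = q) :
    g = diff T q p :=
  (T.free_transitive p q).unique h (diff_vadd T q p)

theorem diff_self {U : Cᵒᵖ} (p : T.P.obj.obj U) : diff T p p = 0 :=
  (eq_diff T (T.zero_vadd p)).symm

theorem diff_add_diff {U : Cᵒᵖ} (r q p : T.P.obj.obj U) : diff T r q + diff T q p = diff T r p :=
  eq_diff T (by rw [T.add_vadd, diff_vadd, diff_vadd])

theorem map_diff {U V : Cᵒᵖ} (f : U ⟶ V) (q p : T.P.obj.obj U) :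
    (G.obj.map f).hom (diff T q p) = diff T (T.P.obj.map f q) (T.P.obj.map f p) :=
  eq_diff T (by
    have h := T.map_vadd f (diff T q p) p
    rw [diff_vadd] at h
    exact h.symm)

theorem diff_sub_diff {U : Cᵒᵖ} (r q p : T.P.obj.obj U) : diff T r p - diff T q p = diff T r q := by
  rw [← diff_add_diff T r q p, add_sub_cancel_right]

theorem isSheaf_P : Presieve.IsSheaf J T.P.obj := (isSheaf_iff_isSheaf_of_type _ _).1 T.P.property

/-- A natural, sectionwise constant endomorphism of the sections of a torsor yields a global section. -/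
theorem hasSection_of_const (σ : ∀ U : Cᵒᵖ, T.P.obj.obj U → T.P.obj.obj U)
    (hconst : ∀ (U : Cᵒᵖ) (p q : T.P.obj.obj U), σ U p = σ U q)
    (hnat : ∀ {U V : Cᵒᵖ} (f : U ⟶ V) (p : T.P.obj.obj U), T.P.obj.map f (σ U p) = σ V (T.P.obj.map f p)) :
    T.HasSection := by
  classical
  choose S hS hne using T.locally_nonempty
  -- the local families
  let x : ∀ U : C, Presieve.FamilyOfElements T.P.obj (S U).arrows :=
    fun U V f hf => σ (op V) (Classical.choice (hne U f hf))
  have hx : ∀ U : C, (x U).Compatible := by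
    intro U Y₁ Y₂ Z g₁ g₂ f₁ f₂ h₁ h₂ _
    simp only [x]
    rw [hnat, hnat]
    exact hconst _ _ _
  let sec : ∀ U : C, T.P.obj.obj (op U) := fun U =>
    ((isSheaf_P T) (S U) (hS U)).amalgamate (x U) (hx U)
  have hA : ∀ (U : C) {V : C} (f : V ⟶ U) (hf : (S U) f) (p : T.P.obj.obj (op V)),
      T.P.obj.map f.op (sec U) = σ (op V) p := by
    intro U V f hf p
    have h := ((isSheaf_P T) (S U) (hS U)).valid_glue (hx U) f hf
    rw [h]
    exact hconst _ _ _
  have hB : ∀ (U : C) {W : C} (g : W ⟶ U) (p : T.P.obj.obj (op W)),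
      T.P.obj.map g.op (sec U) = σ (op W) p := by
    intro U W g p
    refine ((isSheaf_P T).isSeparated _ (J.pullback_stable g (hS U))).ext ?_
    intro W' k hk
    have h1 : T.P.obj.map k.op (T.P.obj.map g.op (sec U)) = T.P.obj.map (k ≫ g).op (sec U) := by
      rw [op_comp, Functor.map_comp]
      rfl
    rw [h1, hA U (k ≫ g) hk (T.P.obj.map k.op p), hnat]
  have hnatsec : ∀ {U U' : C} (h : U' ⟶ U), T.P.obj.map h.op (sec U) = sec U' := by
    intro U U' h
    refine ((isSheaf_P T).isSeparated _ (hS U')).ext ?_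
    intro W k hk
    obtain ⟨p⟩ := hne U' k hk
    have h1 : T.P.obj.map k.op (T.P.obj.map h.op (sec U)) = T.P.obj.map (k ≫ h).op (sec U) := by
      rw [op_comp, Functor.map_comp]
      rfl
    rw [h1, hB U (k ≫ h) p, hA U' k hk p]
  exact ⟨ObjectProperty.homMk
    { app := fun U => TypeCat.ofHom (fun _ => sec U.unop)
      naturality := by
        intro U V f
        ext t
        exact (hnatsec f.unop).symm }⟩

/-- the constant presheaf ℤ -/
abbrev Zc' (C : Type u) [SmallCategory C] : Cᵒᵖ ⥤ Ab'.{u} :=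
  (Functor.const Cᵒᵖ).obj (AddCommGrpCat.of (ULift.{u} ℤ))

/-- The free abelian presheaf on the sections of the torsor. -/
noncomputable abbrev F₀ : Cᵒᵖ ⥤ Ab'.{u} := T.P.obj ⋙ AddCommGrpCat.free

/-- the generator attached to a section -/
def gen {U : Cᵒᵖ} (p : T.P.obj.obj U) : (F₀ T).obj U := FreeAbelianGroup.of p

theorem F₀_map_gen {U V : Cᵒᵖ} (f : U ⟶ V) (p : T.P.obj.obj U) :
    ((F₀ T).map f).hom (gen T p) = gen T (T.P.obj.map f p) := rfl

/-- The degree map. -/
noncomputable def deg₀ : F₀ T ⟶ Zc' C where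
  app U := AddCommGrpCat.ofHom (FreeAbelianGroup.lift (fun _ => (⟨1⟩ : ULift.{u} ℤ)))
  naturality := by
    intro U V f
    apply AddCommGrpCat.hom_ext
    apply FreeAbelianGroup.lift_ext
    intro p
    rfl

theorem deg₀_gen {U : Cᵒᵖ} (p : T.P.obj.obj U) : ((deg₀ T).app U).hom (gen T p) = ⟨1⟩ :=
  FreeAbelianGroup.lift_apply_of _ _

/-- The integer degree. -/
noncomputable def degZ (X : Type u) : FreeAbelianGroup X →+ ℤ := FreeAbelianGroup.lift (fun _ => (1 : ℤ))

theorem deg₀_down {U : Cᵒᵖ} (x : FreeAbelianGroup (T.P.obj.obj U)) :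
    (((deg₀ T).app U).hom x).down = degZ _ x := by
  have h : (AddEquiv.ulift.{0, u} (α := ℤ)).toAddMonoidHom.comp ((deg₀ T).app U).hom = degZ _ := by
    apply FreeAbelianGroup.lift_ext
    intro q
    change (FreeAbelianGroup.lift (fun _ => (⟨1⟩ : ULift.{u} ℤ)) (FreeAbelianGroup.of q)).down = _
    rw [FreeAbelianGroup.lift_apply_of]
    exact (FreeAbelianGroup.lift_apply_of _ _).symm
  exact DFunLike.congr_fun h x

/-- The "difference to a base point" homomorphism. -/
noncomputable def dlt {U : Cᵒᵖ} (p : T.P.obj.obj U) : FreeAbelianGroup (T.P.obj.obj U) →+ G.obj.obj U :=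
  FreeAbelianGroup.lift (fun q => diff T q p)

theorem dlt_of {U : Cᵒᵖ} (p q : T.P.obj.obj U) : dlt T p (FreeAbelianGroup.of q) = diff T q p :=
  FreeAbelianGroup.lift_apply_of _ _

theorem dlt_base {U : Cᵒᵖ} (p p' : T.P.obj.obj U) (x : FreeAbelianGroup (T.P.obj.obj U)) :
    dlt T p x = dlt T p' x + degZ _ x • diff T p' p := by
  have h : dlt T p = dlt T p' + (zmultiplesHom _ (diff T p' p)).comp (degZ _) := by
    apply FreeAbelianGroup.lift_ext
    intro q
    rw [AddMonoidHom.add_apply, AddMonoidHom.comp_apply, dlt_of, dlt_of, degZ,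
      FreeAbelianGroup.lift_apply_of, zmultiplesHom_apply, one_smul, diff_add_diff]
  rw [h]
  rfl

theorem dlt_map {U V : Cᵒᵖ} (f : U ⟶ V) (p : T.P.obj.obj U) (x : FreeAbelianGroup (T.P.obj.obj U)) :
    (G.obj.map f).hom (dlt T p x) =
      dlt T (T.P.obj.map f p) (FreeAbelianGroup.map (T.P.obj.map f) x) := by
  have h : (G.obj.map f).hom.comp (dlt T p) =
      (dlt T (T.P.obj.map f p)).comp (FreeAbelianGroup.map (T.P.obj.map f)) := by
    apply FreeAbelianGroup.lift_ext
    intro q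
    rw [AddMonoidHom.comp_apply, AddMonoidHom.comp_apply, dlt_of, FreeAbelianGroup.map_of_apply, dlt_of,
      map_diff]
  exact DFunLike.congr_fun h x

theorem degZ_map {X Y : Type u} (f : X → Y) (x : FreeAbelianGroup X) :
    degZ Y (FreeAbelianGroup.map f x) = degZ X x := by
  have h : (degZ Y).comp (FreeAbelianGroup.map f) = degZ X := by
    apply FreeAbelianGroup.lift_ext
    intro q
    rw [AddMonoidHom.comp_apply, FreeAbelianGroup.map_of_apply, degZ, FreeAbelianGroup.lift_apply_of, degZ,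
      FreeAbelianGroup.lift_apply_of]
  exact DFunLike.congr_fun h x

theorem eq_zero_of_isEmpty {X : Type u} [IsEmpty X] (x : FreeAbelianGroup X) : x = 0 := by
  have h : AddMonoidHom.id (FreeAbelianGroup X) = 0 := by
    apply FreeAbelianGroup.lift_ext
    intro q
    exact isEmptyElim q
  exact DFunLike.congr_fun h x

open Classical in
/-- The (non-natural) extension of the difference map, using a chosen base point. -/
noncomputable def dtil (U : Cᵒᵖ) : FreeAbelianGroup (T.P.obj.obj U) →+ G.obj.obj U :=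
  if h : Nonempty (T.P.obj.obj U) then dlt T (Classical.choice h) else 0

theorem dtil_eq {U : Cᵒᵖ} (p : T.P.obj.obj U) (x : FreeAbelianGroup (T.P.obj.obj U)) (hx : degZ _ x = 0) :
    dtil T U x = dlt T p x := by
  unfold dtil
  rw [dif_pos ⟨p⟩, dlt_base T _ p x, hx, zero_smul, add_zero]

theorem dtil_map {U V : Cᵒᵖ} (f : U ⟶ V) (x : FreeAbelianGroup (T.P.obj.obj U)) (hx : degZ _ x = 0) :
    (G.obj.map f).hom (dtil T U x) = dtil T V (FreeAbelianGroup.map (T.P.obj.map f) x) := by
  by_cases h : Nonempty (T.P.obj.obj U)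
  · obtain ⟨p⟩ := h
    rw [dtil_eq T p x hx, dtil_eq T (T.P.obj.map f p) _ (by rw [degZ_map, hx]), dlt_map]
  · have : IsEmpty (T.P.obj.obj U) := not_nonempty_iff.1 h
    rw [eq_zero_of_isEmpty x, map_zero, map_zero, map_zero, map_zero]

/-- underlying element of the free abelian group of a section of the kernel presheaf -/
noncomputable def kval {U : Cᵒᵖ} (k : (kernel (deg₀ T)).obj U) : FreeAbelianGroup (T.P.obj.obj U) :=
  ((kernel.ι (deg₀ T)).app U).hom k

theorem degZ_kval {U : Cᵒᵖ} (k : (kernel (deg₀ T)).obj U) : degZ _ (kval T k) = 0 := by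
  rw [← deg₀_down]
  have h : (kernel.ι (deg₀ T)).app U ≫ (deg₀ T).app U = 0 := by
    rw [← NatTrans.comp_app, kernel.condition]
    rfl
  have h2 := congrArg (fun m => m.hom k) h
  simp only [AddCommGrpCat.hom_comp, AddMonoidHom.coe_comp, Function.comp_apply,
    AddCommGrpCat.hom_zero, AddMonoidHom.zero_apply] at h2
  change (((deg₀ T).app U).hom (((kernel.ι (deg₀ T)).app U).hom k)).down = 0
  rw [h2]
  rfl

theorem kval_map {U V : Cᵒᵖ} (f : U ⟶ V) (k : (kernel (deg₀ T)).obj U) :
    kval T (((kernel (deg₀ T)).map f).hom k) = FreeAbelianGroup.map (T.P.obj.map f) (kval T k) := by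
  have h := (kernel.ι (deg₀ T)).naturality f
  have h2 := congrArg (fun m => m.hom k) h
  simp only [AddCommGrpCat.hom_comp, AddMonoidHom.coe_comp, Function.comp_apply] at h2
  exact h2

/-- The difference map on the kernel presheaf. -/
noncomputable def δ₀ : kernel (deg₀ T) ⟶ G.obj where
  app U := AddCommGrpCat.ofHom ((dtil T U).comp ((kernel.ι (deg₀ T)).app U).hom)
  naturality := by
    intro U V f
    ext k
    simp only [AddCommGrpCat.hom_comp, AddCommGrpCat.hom_ofHom, AddMonoidHom.coe_comp, Function.comp_apply]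
    change dtil T V (kval T (((kernel (deg₀ T)).map f).hom k)) = (G.obj.map f).hom (dtil T U (kval T k))
    rw [kval_map, dtil_map T f _ (degZ_kval T k)]

theorem δ₀_apply {U : Cᵒᵖ} (k : (kernel (deg₀ T)).obj U) : ((δ₀ T).app U).hom k = dtil T U (kval T k) := rfl

/-- The presheaf-level complex `ker ⟶ ℤ[P] ⟶ ℤ`. -/
noncomputable def S₀ : ShortComplex (Cᵒᵖ ⥤ Ab'.{u}) :=
  ShortComplex.mk (kernel.ι (deg₀ T)) (deg₀ T) (kernel.condition _)

theorem S₀_exact : (S₀ T).Exact := (S₀ T).exact_of_f_is_kernel (kernelIsKernel (deg₀ T))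

/-- The sheafified complex. -/
noncomputable def SS : ShortComplex (Sheaf J Ab'.{u}) := (S₀ T).map (presheafToSheaf J Ab'.{u})

instance deg₀_locSurj : Presheaf.IsLocallySurjective J (deg₀ T) where
  imageSieve_mem {U} s := by
    obtain ⟨S, hS, hne⟩ := T.locally_nonempty U
    refine J.superset_covering ?_ hS
    intro V f hf
    obtain ⟨p⟩ := hne f hf
    refine ⟨s.down • FreeAbelianGroup.of p, ?_⟩
    apply ULift.ext
    change (((deg₀ T).app (op V)).hom (s.down • FreeAbelianGroup.of p)).down = s.down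
    rw [deg₀_down, map_zsmul, degZ, FreeAbelianGroup.lift_apply_of, smul_eq_mul, mul_one]

theorem SS_shortExact : (SS T).ShortExact where
  exact := (S₀_exact T).map (presheafToSheaf J Ab'.{u})
  mono_f := by
    have : Mono (S₀ T).f := inferInstanceAs (Mono (kernel.ι (deg₀ T)))
    exact inferInstanceAs (Mono ((presheafToSheaf J Ab'.{u}).map (S₀ T).f))
  epi_g := by
    have h : Sheaf.IsLocallySurjective ((presheafToSheaf J Ab'.{u}).map (deg₀ T)) :=
      (Presheaf.isLocallySurjective_presheafToSheaf_map_iff J (deg₀ T)).2 inferInstance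
    exact (Sheaf.isLocallySurjective_iff_epi' Ab'.{u} _).1 h

theorem exists_kval {U : Cᵒᵖ} (x : FreeAbelianGroup (T.P.obj.obj U)) (hx : degZ _ x = 0) :
    ∃ k : (kernel (deg₀ T)).obj U, kval T k = x := by
  have h : ((S₀ T).map ((evaluation Cᵒᵖ Ab'.{u}).obj U)).Exact :=
    (S₀_exact T).map ((evaluation Cᵒᵖ Ab'.{u}).obj U)
  rw [ShortComplex.ab_exact_iff] at h
  refine h x ?_
  apply ULift.ext
  change (((deg₀ T).app U).hom x).down = 0
  rw [deg₀_down, hx]

theorem hasSection_of_subsingleton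
    (h : Subsingleton (Abelian.Ext ((presheafToSheaf J Ab'.{u}).obj (Zc' C)) G 1)) : T.HasSection := by
  let adj := sheafificationAdjunction J Ab'.{u}
  let δ : (SS T).X₁ ⟶ G := (adj.homEquiv _ _).symm (δ₀ T)
  have hS := SS_shortExact T
  have h' : Subsingleton (Abelian.Ext (SS T).X₃ G 1) := h
  obtain ⟨x₂, hx₂⟩ := Abelian.Ext.contravariant_sequence_exact₁ hS G (Abelian.Ext.mk₀ δ) (n₁ := 1) (by rfl)
    (Subsingleton.elim _ _)
  obtain ⟨ψ, rfl⟩ := (Abelian.Ext.mk₀_bijective _ _).2 x₂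
  rw [Abelian.Ext.mk₀_comp_mk₀] at hx₂
  have hψ : (SS T).f ≫ ψ = δ := (Abelian.Ext.mk₀_bijective _ _).1 hx₂
  let ψ₀ : F₀ T ⟶ G.obj := adj.homEquiv _ _ ψ
  have hψ₀ : kernel.ι (deg₀ T) ≫ ψ₀ = δ₀ T := by
    have h1 := adj.homEquiv_naturality_left (kernel.ι (deg₀ T)) ψ
    have h2 : adj.homEquiv _ _ δ = δ₀ T := Equiv.apply_symm_apply _ _
    rw [← h2, ← hψ]
    exact h1.symm
  let ψh : ∀ U : Cᵒᵖ, FreeAbelianGroup (T.P.obj.obj U) →+ G.obj.obj U := fun U => (ψ₀.app U).hom
  let φ : ∀ U : Cᵒᵖ, T.P.obj.obj U → G.obj.obj U := fun U p => ψh U (FreeAbelianGroup.of p)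
  have φ_nat : ∀ {U V : Cᵒᵖ} (f : U ⟶ V) (p : T.P.obj.obj U),
      (G.obj.map f).hom (φ U p) = φ V (T.P.obj.map f p) := by
    intro U V f p
    have h1 := ψ₀.naturality f
    have h2 := congrArg (fun m => m.hom (FreeAbelianGroup.of p)) h1
    simp only [AddCommGrpCat.hom_comp, AddMonoidHom.coe_comp, Function.comp_apply] at h2
    exact h2.symm
  have φ_diff : ∀ (U : Cᵒᵖ) (q p : T.P.obj.obj U), φ U q - φ U p = diff T q p := by
    intro U q p
    have hd : degZ _ (FreeAbelianGroup.of q - FreeAbelianGroup.of p) = 0 := by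
      rw [map_sub, degZ, FreeAbelianGroup.lift_apply_of, FreeAbelianGroup.lift_apply_of, sub_self]
    obtain ⟨k, hk⟩ := exists_kval T _ hd
    have h1 : ((δ₀ T).app U).hom k = diff T q p := by
      rw [δ₀_apply, hk, dtil_eq T p _ hd, map_sub, dlt_of, dlt_of, diff_self, sub_zero]
    have h2 : ((δ₀ T).app U).hom k = φ U q - φ U p := by
      rw [← hψ₀]
      change ψh U (kval T k) = _
      rw [hk, map_sub]
    rw [← h2, h1]
  refine hasSection_of_const T (fun U p => T.vadd (-(φ U p)) p) ?_ ?_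
  · intro U p q
    have e : -(φ U p) = -(φ U q) + diff T q p := by
      rw [← φ_diff U q p]
      abel
    rw [e, T.add_vadd, diff_vadd]
  · intro U V f p
    rw [T.map_vadd, map_neg, φ_nat]

end Aux2

/-- In a map-free form (small site, abelian sheaf G): the first cohomology group H^1(G) (Ext^1 out of
the constant sheaf Z) is zero if and only if every G-torsor has a global section. The source's
statement is stronger: a canonical bijection between isomorphism classes of G-torsors and H^1(G). -/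
theorem result {C : Type u} [SmallCategory C] {J : GrothendieckTopology C}
    (G : Sheaf J AddCommGrpCat.{u}) :
    Subsingleton (Sheaf.H.{u} G 1) ↔ ∀ T : Tors.Torsor G, T.HasSection := by
  constructor
  · intro h T
    exact hasSection_of_subsingleton T h
  · intro h
    exact subsingleton_of_sections G h

end Groth.Agent.S3895
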