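import Groth.Statements.S4024
import Mathlib
-- import your own Groth.Agent.* helpers here

set_option autoImplicit false
universe u
open CategoryTheory CategoryTheory.Limits AlgebraicGeometry
open LefPen

namespace Groth.Agent.S4024

/-- directional derivative at a point -/
noncomputable def dd {k : Type u} [Field k] {σ : Type} [Fintype σ] (v w : σ → k) (G : MvPolynomial σ k) : k :=
  ∑ i, w i * MvPolynomial.eval v (MvPolynomial.pderiv i G)

theorem dd_add {k : Type u} [Field k] {σ : Type} [Fintype σ] (v w : σ → k) (F G : MvPolynomial σ k) :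
    dd v w (F + G) = dd v w F + dd v w G := by
  unfold dd
  rw [← Finset.sum_add_distrib]
  apply Finset.sum_congr rfl; intro i _
  rw [map_add, map_add]; ring

theorem dd_smul {k : Type u} [Field k] {σ : Type} [Fintype σ] (v w : σ → k) (c : k)
    (G : MvPolynomial σ k) : dd v w (c • G) = c * dd v w G := by
  unfold dd
  rw [Finset.mul_sum]
  apply Finset.sum_congr rfl; intro i _
  rw [Derivation.map_smul, MvPolynomial.smul_eval]; ring

theorem dd_mul {k : Type u} [Field k] {σ : Type} [Fintype σ] (v w : σ → k) (F G : MvPolynomial σ k) :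
    dd v w (F * G) = dd v w F * MvPolynomial.eval v G + MvPolynomial.eval v F * dd v w G := by
  unfold dd
  rw [Finset.sum_mul, Finset.mul_sum, ← Finset.sum_add_distrib]
  apply Finset.sum_congr rfl; intro i _
  rw [MvPolynomial.pderiv_mul, map_add, map_mul, map_mul]; ring

theorem dd_pow {k : Type u} [Field k] {σ : Type} [Fintype σ] (v w : σ → k) (F : MvPolynomial σ k)
    (n : ℕ) : dd v w (F ^ (n + 1)) = (n + 1 : k) * MvPolynomial.eval v F ^ n * dd v w F := by
  induction n with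
  | zero => simp
  | succ n ih =>
    rw [pow_succ, dd_mul, ih, map_pow]
    push_cast
    ring

theorem dd_add_right {k : Type u} [Field k] {σ : Type} [Fintype σ] (v w w' : σ → k)
    (G : MvPolynomial σ k) : dd v (w + w') G = dd v w G + dd v w' G := by
  unfold dd
  rw [← Finset.sum_add_distrib]
  apply Finset.sum_congr rfl; intro i _
  rw [Pi.add_apply]; ring

theorem dd_smul_right {k : Type u} [Field k] {σ : Type} [Fintype σ] (v w : σ → k) (c : k)
    (G : MvPolynomial σ k) : dd v (c • w) G = c * dd v w G := by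
  unfold dd
  rw [Finset.mul_sum]
  apply Finset.sum_congr rfl; intro i _
  rw [Pi.smul_apply, smul_eq_mul]; ring

/-- Euler's relation at a point -/
theorem dd_self {k : Type u} [Field k] {σ : Type} [Fintype σ] (v : σ → k) (G : MvPolynomial σ k)
    (d : ℕ) (hG : G.IsHomogeneous d) : dd v v G = (d : k) * MvPolynomial.eval v G := by
  have := congrArg (MvPolynomial.eval v) hG.sum_X_mul_pderiv
  rw [map_sum] at this
  simp only [map_mul, MvPolynomial.eval_X] at this
  unfold dd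
  rw [this, nsmul_eq_mul, map_mul, map_natCast]

/-- the linear form of a functional -/
noncomputable def Lf {k : Type u} [Field k] {σ : Type} [Fintype σ] [DecidableEq σ]
    (f : Module.Dual k (σ → k)) : MvPolynomial σ k :=
  ∑ i, f (Pi.single i 1) • MvPolynomial.X i

theorem functional_eq {k : Type u} [Field k] {σ : Type} [Fintype σ] [DecidableEq σ]
    (f : Module.Dual k (σ → k)) (v : σ → k) : f v = ∑ i, f (Pi.single i 1) * v i := by
  conv_lhs => rw [← Finset.univ_sum_single v]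
  rw [map_sum]
  apply Finset.sum_congr rfl; intro i _
  have : (Pi.single i (v i) : σ → k) = v i • Pi.single i 1 := by
    ext j; simp [Pi.single_apply]
  rw [this, map_smul, smul_eq_mul, mul_comm]

theorem eval_Lf {k : Type u} [Field k] {σ : Type} [Fintype σ] [DecidableEq σ]
    (f : Module.Dual k (σ → k)) (v : σ → k) : MvPolynomial.eval v (Lf f) = f v := by
  unfold Lf
  rw [map_sum, functional_eq f v]
  apply Finset.sum_congr rfl; intro i _
  rw [MvPolynomial.smul_eval, MvPolynomial.eval_X]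

theorem dd_Lf {k : Type u} [Field k] {σ : Type} [Fintype σ] [DecidableEq σ]
    (f : Module.Dual k (σ → k)) (v w : σ → k) : dd v w (Lf f) = f w := by
  unfold dd Lf
  rw [functional_eq f w]
  apply Finset.sum_congr rfl; intro i _
  rw [map_sum]
  simp only [Derivation.map_smul, MvPolynomial.pderiv_X]
  rw [Finset.sum_eq_single i]
  · simp [mul_comm]
  · intro j _ hji
    simp [hji]
  · intro h; exact absurd (Finset.mem_univ i) h

theorem Lf_homog {k : Type u} [Field k] {σ : Type} [Fintype σ] [DecidableEq σ]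
    (f : Module.Dual k (σ → k)) : (Lf f).IsHomogeneous 1 := by
  unfold Lf
  refine MvPolynomial.IsHomogeneous.sum _ _ _ (fun i _ => ?_)
  rw [MvPolynomial.smul_eq_C_mul]
  exact MvPolynomial.IsHomogeneous.C_mul (MvPolynomial.isHomogeneous_X k i) _

theorem dd_X {k : Type u} [Field k] {σ : Type} [Fintype σ] [DecidableEq σ] (v w : σ → k) (i : σ) :
    dd v w (MvPolynomial.X i) = w i := by
  unfold dd
  simp only [MvPolynomial.pderiv_X]
  rw [Finset.sum_eq_single i]
  · simp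
  · intro j _ hji
    simp [hji]
  · intro h; exact absurd (Finset.mem_univ i) h

theorem dd_lin {k : Type u} [Field k] {σ : Type} [Fintype σ] [DecidableEq σ] (v w : σ → k)
    (f : MvPolynomial σ k) (hf : f.IsHomogeneous 1) : dd v w f = MvPolynomial.eval w f := by
  have hf' : f ∈ MvPolynomial.homogeneousSubmodule σ k 1 := hf
  rw [MvPolynomial.homogeneousSubmodule_one_eq_span_X] at hf'
  clear hf
  induction hf' using Submodule.span_induction with
  | mem x hx =>
    obtain ⟨i, rfl⟩ := hx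
    rw [dd_X, MvPolynomial.eval_X]
  | zero => simp [dd]
  | add x y _ _ hx hy => rw [dd_add, hx, hy, map_add]
  | smul c x _ hx => rw [dd_smul, hx, MvPolynomial.smul_eval]

theorem dd_symm {k : Type u} [Field k] {σ : Type} [Fintype σ] [DecidableEq σ] (v w : σ → k)
    (G : MvPolynomial σ k) (hG : G.IsHomogeneous 2) : dd v w G = dd w v G := by
  have hG' : G ∈ MvPolynomial.homogeneousSubmodule σ k 2 := hG
  rw [← MvPolynomial.homogeneousSubmodule_one_pow (σ := σ) (R := k) 2, pow_two] at hG'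
  clear hG
  refine Submodule.mul_induction_on hG' ?_ ?_
  · intro f hf g hg
    rw [dd_mul, dd_mul, dd_lin v w f hf, dd_lin v w g hg, dd_lin w v f hf, dd_lin w v g hg]
    ring
  · intro x y hx hy
    rw [dd_add, dd_add, hx, hy]

theorem tangLin_fst {k : Type u} [Field k] {r d : ℕ} (W : Submodule k (Fin (r + 1) → k))
    (v : Fin (r + 1) → k) (G : LefPen.Form r k d) :
    (LefPen.tangLin k W v G).1 = MvPolynomial.eval v G.1 := rfl

theorem tangLin_snd {k : Type u} [Field k] {r d : ℕ} (W : Submodule k (Fin (r + 1) → k))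
    (v : Fin (r + 1) → k) (G : LefPen.Form r k d) (w : W) :
    (LefPen.tangLin k W v G).2 w = dd v w.1 G.1 := by
  change (LinearMap.pi (fun w : ↥W => ∑ i, (w.1 i) • ((MvPolynomial.aeval v).toLinearMap ∘ₗ
    (MvPolynomial.pderiv i).toLinearMap ∘ₗ (CohB1.polyGrading r k d).subtype)) G) w = _
  rw [LinearMap.pi_apply, LinearMap.sum_apply]
  unfold dd
  apply Finset.sum_congr rfl; intro i _
  rfl

theorem mkG_homog {k : Type u} [Field k] {r : ℕ} (e : ℕ)
    (l a : Module.Dual k (Fin (r + 1) → k)) :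
    (Lf l ^ (e + 1) * Lf a) ∈ CohB1.polyGrading r k (e + 2) := by
  have h := ((Lf_homog l).pow (e + 1)).mul (Lf_homog a)
  have he : 1 * (e + 1) + 1 = e + 2 := by ring
  rw [he] at h
  exact h

noncomputable def mkG {k : Type u} [Field k] {r : ℕ} (e : ℕ)
    (l a : Module.Dual k (Fin (r + 1) → k)) : LefPen.Form r k (e + 2) :=
  ⟨Lf l ^ (e + 1) * Lf a, mkG_homog e l a⟩

theorem eval_mkG {k : Type u} [Field k] {r : ℕ} (e : ℕ)
    (l a : Module.Dual k (Fin (r + 1) → k)) (v : Fin (r + 1) → k) :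
    MvPolynomial.eval v (mkG e l a).1 = l v ^ (e + 1) * a v := by
  show MvPolynomial.eval v (Lf l ^ (e + 1) * Lf a) = _
  rw [map_mul, map_pow, eval_Lf, eval_Lf]

theorem dd_mkG {k : Type u} [Field k] {r : ℕ} (e : ℕ)
    (l a : Module.Dual k (Fin (r + 1) → k)) (v w : Fin (r + 1) → k) :
    dd v w (mkG e l a).1 = ((e : k) + 1) * l v ^ e * l w * a v + l v ^ (e + 1) * a w := by
  show dd v w (Lf l ^ (e + 1) * Lf a) = _
  rw [dd_mul, dd_pow, dd_Lf, dd_Lf, map_pow, eval_Lf, eval_Lf]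

/-- parametrisation of the constrained pairs -/
noncomputable def Gam {k : Type u} [Field k] {r : ℕ} (W : Submodule k (Fin (r + 1) → k)) (v : W)
    (m : k) (l : Module.Dual k (Fin (r + 1) → k)) : Module.Dual k W →ₗ[k] k × (W → k) where
  toFun f := (f v, fun w => f w + m * f v * l w.1)
  map_add' f g := by
    refine Prod.ext ?_ (funext fun w => ?_)
    · simp
    · simp only [LinearMap.add_apply, Prod.snd_add, Pi.add_apply]; ring
  map_smul' c f := by
    refine Prod.ext ?_ (funext fun w => ?_)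
    · simp
    · simp only [LinearMap.smul_apply, smul_eq_mul, RingHom.id_apply, Prod.smul_snd, Pi.smul_apply]
      ring

theorem Gam_apply {k : Type u} [Field k] {r : ℕ} (W : Submodule k (Fin (r + 1) → k)) (v : W)
    (m : k) (l : Module.Dual k (Fin (r + 1) → k)) (f : Module.Dual k W) :
    Gam W v m l f = (f v, fun w => f w + m * f v * l w.1) := rfl

theorem Gam_inj {k : Type u} [Field k] {r : ℕ} (W : Submodule k (Fin (r + 1) → k)) (v : W)
    (m : k) (l : Module.Dual k (Fin (r + 1) → k)) : Function.Injective (Gam W v m l) := by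
  rw [← LinearMap.ker_eq_bot, LinearMap.ker_eq_bot']
  intro f hf
  rw [Gam_apply] at hf
  have h1 : f v = 0 := congrArg Prod.fst hf
  ext w
  have h2 := congrFun (congrArg Prod.snd hf) w
  simp only [h1, mul_zero, zero_mul, add_zero] at h2
  simpa using h2

noncomputable def ddL {k : Type u} [Field k] {σ : Type} [Fintype σ] (v : σ → k)
    (G : MvPolynomial σ k) : Module.Dual k (σ → k) where
  toFun w := dd v w G
  map_add' w w' := dd_add_right v w w' G
  map_smul' c w := dd_smul_right v w c G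

theorem ddL_apply {k : Type u} [Field k] {σ : Type} [Fintype σ] (v w : σ → k)
    (G : MvPolynomial σ k) : ddL v G w = dd v w G := rfl

/-- the functional on W attached to a form -/
noncomputable def fOf {k : Type u} [Field k] {r : ℕ} (e : ℕ) (W : Submodule k (Fin (r + 1) → k))
    (v : Fin (r + 1) → k) (l : Module.Dual k (Fin (r + 1) → k)) (G : LefPen.Form r k (e + 2)) :
    Module.Dual k W :=
  (ddL v G.1 - (((e : k) + 1) * MvPolynomial.eval v G.1) • l).comp W.subtype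

theorem fOf_apply {k : Type u} [Field k] {r : ℕ} (e : ℕ) (W : Submodule k (Fin (r + 1) → k))
    (v : Fin (r + 1) → k) (l : Module.Dual k (Fin (r + 1) → k)) (G : LefPen.Form r k (e + 2))
    (w : W) :
    fOf e W v l G w = dd v w.1 G.1 - ((e : k) + 1) * MvPolynomial.eval v G.1 * l w.1 := rfl

theorem tangLin_eq_Gam {k : Type u} [Field k] {r : ℕ} (e : ℕ) (W : Submodule k (Fin (r + 1) → k))
    (v : Fin (r + 1) → k) (hv : v ∈ W) (l : Module.Dual k (Fin (r + 1) → k)) (hl : l v = 1)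
    (G : LefPen.Form r k (e + 2)) :
    LefPen.tangLin k W v G = Gam W ⟨v, hv⟩ ((e : k) + 1) l (fOf e W v l G) := by
  have hG : G.1.IsHomogeneous (e + 2) := G.2
  have h0 : fOf e W v l G ⟨v, hv⟩ = MvPolynomial.eval v G.1 := by
    rw [fOf_apply]
    show dd v v G.1 - _ = _
    rw [dd_self v G.1 (e + 2) hG, hl]
    push_cast
    ring
  rw [Gam_apply, h0]
  refine Prod.ext (tangLin_fst W v G) (funext fun w => ?_)
  rw [tangLin_snd]
  show dd v w.1 G.1 = fOf e W v l G w + ((e : k) + 1) * MvPolynomial.eval v G.1 * l w.1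
  rw [fOf_apply]
  ring

theorem tangLin_mkG {k : Type u} [Field k] {r : ℕ} (e : ℕ) (W : Submodule k (Fin (r + 1) → k))
    (v : Fin (r + 1) → k) (hv : v ∈ W) (l a : Module.Dual k (Fin (r + 1) → k)) (hl : l v = 1)
    (f : Module.Dual k W) (ha : ∀ w : W, a w.1 = f w) :
    LefPen.tangLin k W v (mkG e l a) = Gam W ⟨v, hv⟩ ((e : k) + 1) l f := by
  rw [Gam_apply]
  refine Prod.ext ?_ (funext fun w => ?_)
  · rw [tangLin_fst, eval_mkG, hl, one_pow, one_mul]
    exact ha ⟨v, hv⟩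
  · rw [tangLin_snd, dd_mkG, hl, one_pow, one_pow, ha w]
    have := ha ⟨v, hv⟩
    simp only at this
    rw [this]
    show _ = f w + ((e : k) + 1) * f ⟨v, hv⟩ * l w.1
    ring

theorem tangLin_mkG_zero {k : Type u} [Field k] {r : ℕ} (e : ℕ)
    (W : Submodule k (Fin (r + 1) → k))
    (v : Fin (r + 1) → k) (hv : v ∈ W) (l a : Module.Dual k (Fin (r + 1) → k))
    (h : (1 ≤ e ∧ l v = 0) ∨ (l v = 0 ∧ a v = 0) ∨ (∀ w ∈ W, l w = 0)) :
    LefPen.tangLin k W v (mkG e l a) = 0 := by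
  have hlv : l v = 0 := by
    rcases h with h | h | h
    · exact h.2
    · exact h.1
    · exact h v hv
  refine Prod.ext ?_ (funext fun w => ?_)
  · rw [tangLin_fst, eval_mkG, hlv]
    simp
  · rw [tangLin_snd, dd_mkG]
    have h2 : l v ^ (e + 1) = 0 := by rw [hlv]; simp
    rw [h2, zero_mul, add_zero]
    show _ = (0 : k)
    rcases h with h | h | h
    · obtain ⟨e', rfl⟩ : ∃ e', e = e' + 1 := ⟨e - 1, by omega⟩
      rw [hlv]; simp
    · rw [h.2, mul_zero]
    · rw [h w.1 w.2]; simp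

theorem exists_good {k : Type u} [Field k] {r : ℕ} (e : ℕ)
    (W₁ W₂ : Submodule k (Fin (r + 1) → k))
    (v₁ v₂ : Fin (r + 1) → k) (h12 : v₁ ∉ Submodule.span k {v₂})
    (hc : 1 ≤ e ∨ v₂ ∉ W₁ ∨ v₁ ∉ W₂) :
    ∃ l : Module.Dual k (Fin (r + 1) → k), l v₁ = 1 ∧ ∀ f : Module.Dual k W₁,
      ∃ a : Module.Dual k (Fin (r + 1) → k), (∀ w : W₁, a w.1 = f w) ∧
        ((1 ≤ e ∧ l v₂ = 0) ∨ (l v₂ = 0 ∧ a v₂ = 0) ∨ (∀ w ∈ W₂, l w = 0)) := by
  obtain ⟨l, hl0, hl1⟩ := LinearMap.exists_extend_of_notMem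
    (0 : ↥(Submodule.span k {v₂}) →ₗ[k] k) h12 1
  have hl2 : l v₂ = 0 := by
    have := LinearMap.congr_fun hl0 ⟨v₂, Submodule.mem_span_singleton_self v₂⟩
    simpa using this
  rcases hc with he | hb | hc
  · refine ⟨l, hl1, fun f => ?_⟩
    obtain ⟨a, ha⟩ := LinearMap.exists_extend f
    refine ⟨a, fun w => ?_, Or.inl ⟨he, hl2⟩⟩
    have := LinearMap.congr_fun ha w
    simpa using this
  · refine ⟨l, hl1, fun f => ?_⟩
    obtain ⟨a, ha, ha2⟩ := LinearMap.exists_extend_of_notMem f hb 0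
    refine ⟨a, fun w => ?_, Or.inr (Or.inl ⟨hl2, ha2⟩)⟩
    have := LinearMap.congr_fun ha w
    simpa using this
  · obtain ⟨l', hl'0, hl'1⟩ := LinearMap.exists_extend_of_notMem
      (0 : ↥W₂ →ₗ[k] k) hc 1
    refine ⟨l', hl'1, fun f => ?_⟩
    obtain ⟨a, ha⟩ := LinearMap.exists_extend f
    refine ⟨a, fun w => ?_, Or.inr (Or.inr fun w hw => ?_)⟩
    · have := LinearMap.congr_fun ha w
      simpa using this
    · have := LinearMap.congr_fun hl'0 ⟨w, hw⟩
      simpa using this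

theorem notMem_span_of_li {k : Type u} [Field k] {V : Type u} [AddCommGroup V] [Module k V]
    (v₁ v₂ : V) (hv : LinearIndependent k ![v₁, v₂]) :
    v₁ ∉ Submodule.span k {v₂} ∧ v₂ ∉ Submodule.span k {v₁} := by
  rw [LinearIndependent.pair_iff] at hv
  constructor
  · intro h
    obtain ⟨a, ha⟩ := Submodule.mem_span_singleton.mp h
    have := hv (-1) a (by rw [← ha]; simp)
    have h1 : (-1 : k) = 0 := this.1
    simp at h1
  · intro h
    obtain ⟨a, ha⟩ := Submodule.mem_span_singleton.mp h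
    have := hv a (-1) (by rw [← ha]; simp)
    have h1 : (-1 : k) = 0 := this.2
    simp at h1

theorem range_generic {k : Type u} [Field k] {r : ℕ} (e : ℕ)
    (W₁ W₂ : Submodule k (Fin (r + 1) → k))
    (v₁ v₂ : Fin (r + 1) → k) (h₁ : v₁ ∈ W₁) (h₂ : v₂ ∈ W₂)
    (hv : LinearIndependent k ![v₁, v₂]) (hc : 1 ≤ e ∨ ¬ (v₂ ∈ W₁ ∧ v₁ ∈ W₂)) :
    Module.finrank k (LinearMap.range ((LefPen.tangLin k W₁ v₁ (d := e + 2)).prod
      (LefPen.tangLin k W₂ v₂))) = Module.finrank k W₁ + Module.finrank k W₂ := by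
  obtain ⟨h12, h21⟩ := notMem_span_of_li v₁ v₂ hv
  have hc1 : 1 ≤ e ∨ v₂ ∉ W₁ ∨ v₁ ∉ W₂ := by tauto
  have hc2 : 1 ≤ e ∨ v₁ ∉ W₂ ∨ v₂ ∉ W₁ := by tauto
  obtain ⟨l₁, hl₁, hg₁⟩ := exists_good e W₁ W₂ v₁ v₂ h12 hc1
  obtain ⟨l₂, hl₂, hg₂⟩ := exists_good e W₂ W₁ v₂ v₁ h21 hc2
  have hΓ : Function.Injective ((Gam W₁ ⟨v₁, h₁⟩ ((e : k) + 1) l₁).prodMap
      (Gam W₂ ⟨v₂, h₂⟩ ((e : k) + 1) l₂)) := by
    rw [LinearMap.coe_prodMap]
    exact Function.Injective.prodMap (Gam_inj _ _ _ _) (Gam_inj _ _ _ _)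
  have hrange : LinearMap.range ((LefPen.tangLin k W₁ v₁ (d := e + 2)).prod
      (LefPen.tangLin k W₂ v₂)) = LinearMap.range ((Gam W₁ ⟨v₁, h₁⟩ ((e : k) + 1) l₁).prodMap
      (Gam W₂ ⟨v₂, h₂⟩ ((e : k) + 1) l₂)) := by
    apply le_antisymm
    · rintro _ ⟨G, rfl⟩
      refine ⟨(fOf e W₁ v₁ l₁ G, fOf e W₂ v₂ l₂ G), ?_⟩
      rw [LinearMap.prodMap_apply, LinearMap.prod_apply, Function.prod_apply,
        ← tangLin_eq_Gam e W₁ v₁ h₁ l₁ hl₁ G, ← tangLin_eq_Gam e W₂ v₂ h₂ l₂ hl₂ G]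
    · rintro _ ⟨⟨f₁, f₂⟩, rfl⟩
      obtain ⟨a₁, ha₁, hd₁⟩ := hg₁ f₁
      obtain ⟨a₂, ha₂, hd₂⟩ := hg₂ f₂
      refine ⟨mkG e l₁ a₁ + mkG e l₂ a₂, ?_⟩
      rw [map_add, LinearMap.prod_apply, LinearMap.prod_apply, Function.prod_apply, Function.prod_apply,
        tangLin_mkG e W₁ v₁ h₁ l₁ a₁ hl₁ f₁ ha₁, tangLin_mkG_zero e W₂ v₂ h₂ l₁ a₁ hd₁,
        tangLin_mkG e W₂ v₂ h₂ l₂ a₂ hl₂ f₂ ha₂, tangLin_mkG_zero e W₁ v₁ h₁ l₂ a₂ hd₂,
        LinearMap.prodMap_apply]
      simp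
  rw [hrange, LinearMap.finrank_range_of_inj hΓ, Module.finrank_prod,
    Subspace.dual_finrank_eq, Subspace.dual_finrank_eq]

theorem range_special {k : Type u} [Field k] {r : ℕ} (e : ℕ) (he : e = 0)
    (W₁ W₂ : Submodule k (Fin (r + 1) → k))
    (v₁ v₂ : Fin (r + 1) → k) (h₁ : v₁ ∈ W₁) (h₂ : v₂ ∈ W₂)
    (hv : LinearIndependent k ![v₁, v₂]) (h21 : v₂ ∈ W₁) (h12 : v₁ ∈ W₂) :
    Module.finrank k (LinearMap.range ((LefPen.tangLin k W₁ v₁ (d := e + 2)).prod
      (LefPen.tangLin k W₂ v₂))) + 1 = Module.finrank k W₁ + Module.finrank k W₂ := by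
  subst he
  obtain ⟨n12, n21⟩ := notMem_span_of_li v₁ v₂ hv
  obtain ⟨l₁, hl10, hl11⟩ := LinearMap.exists_extend_of_notMem
    (0 : ↥(Submodule.span k {v₂}) →ₗ[k] k) n12 1
  obtain ⟨l₂, hl20, hl21⟩ := LinearMap.exists_extend_of_notMem
    (0 : ↥(Submodule.span k {v₁}) →ₗ[k] k) n21 1
  have hl12 : l₁ v₂ = 0 := by
    have := LinearMap.congr_fun hl10 ⟨v₂, Submodule.mem_span_singleton_self v₂⟩
    simpa using this
  have hl22 : l₂ v₁ = 0 := by
    have := LinearMap.congr_fun hl20 ⟨v₁, Submodule.mem_span_singleton_self v₁⟩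
    simpa using this
  let κ : (Module.Dual k W₁ × Module.Dual k W₂) →ₗ[k] k :=
    (LinearMap.applyₗ (⟨v₂, h21⟩ : W₁)).comp (LinearMap.fst k _ _) -
      (LinearMap.applyₗ (⟨v₁, h12⟩ : W₂)).comp (LinearMap.snd k _ _)
  have hκ : ∀ f₁ f₂, κ (f₁, f₂) = f₁ ⟨v₂, h21⟩ - f₂ ⟨v₁, h12⟩ := fun _ _ => rfl
  have hκs : Function.Surjective κ := by
    intro c
    refine ⟨(c • l₂.comp W₁.subtype, 0), ?_⟩
    rw [hκ]
    simp [hl21]
  have hΓ : Function.Injective ((Gam W₁ ⟨v₁, h₁⟩ (((0 : ℕ) : k) + 1) l₁).prodMap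
      (Gam W₂ ⟨v₂, h₂⟩ (((0 : ℕ) : k) + 1) l₂)) := by
    rw [LinearMap.coe_prodMap]
    exact Function.Injective.prodMap (Gam_inj _ _ _ _) (Gam_inj _ _ _ _)
  have hrange : LinearMap.range ((LefPen.tangLin k W₁ v₁ (d := 0 + 2)).prod
      (LefPen.tangLin k W₂ v₂)) = (LinearMap.ker κ).map
        ((Gam W₁ ⟨v₁, h₁⟩ (((0 : ℕ) : k) + 1) l₁).prodMap
          (Gam W₂ ⟨v₂, h₂⟩ (((0 : ℕ) : k) + 1) l₂)) := by
    apply le_antisymm
    · rintro _ ⟨G, rfl⟩
      refine ⟨(fOf 0 W₁ v₁ l₁ G, fOf 0 W₂ v₂ l₂ G), ?_, ?_⟩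
      · have hG : G.1.IsHomogeneous 2 := G.2
        show κ _ = 0
        rw [hκ, fOf_apply, fOf_apply]
        show dd v₁ v₂ G.1 - _ * l₁ v₂ - (dd v₂ v₁ G.1 - _ * l₂ v₁) = 0
        rw [hl12, hl22, dd_symm v₁ v₂ G.1 hG]
        ring
      · rw [LinearMap.prodMap_apply, LinearMap.prod_apply, Function.prod_apply,
          ← tangLin_eq_Gam 0 W₁ v₁ h₁ l₁ hl11 G, ← tangLin_eq_Gam 0 W₂ v₂ h₂ l₂ hl21 G]
    · rintro _ ⟨⟨f₁, f₂⟩, hf, rfl⟩
      have hs : f₁ ⟨v₂, h21⟩ = f₂ ⟨v₁, h12⟩ := by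
        have : κ (f₁, f₂) = 0 := hf
        rw [hκ] at this
        exact sub_eq_zero.mp this
      obtain ⟨a₁, ha₁⟩ := LinearMap.exists_extend f₁
      obtain ⟨a₂, ha₂⟩ := LinearMap.exists_extend (f₂ - (f₁ ⟨v₂, h21⟩) • l₁.comp W₂.subtype)
      have ha₁' : ∀ w : W₁, a₁ w.1 = f₁ w := fun w => by
        have := LinearMap.congr_fun ha₁ w
        simpa using this
      have ha₂' : ∀ w : W₂, a₂ w.1 = (f₂ - (f₁ ⟨v₂, h21⟩) • l₁.comp W₂.subtype) w := fun w => by
        have := LinearMap.congr_fun ha₂ w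
        simpa using this
      have ha₂v₁ : a₂ v₁ = 0 := by
        have := ha₂' ⟨v₁, h12⟩
        simp only at this
        rw [this]
        simp [hl11, hs]
      have ha₁v₂ : a₁ v₂ = f₁ ⟨v₂, h21⟩ := ha₁' ⟨v₂, h21⟩
      refine ⟨mkG 0 l₁ a₁ + mkG 0 l₂ a₂, ?_⟩
      rw [map_add, LinearMap.prod_apply, LinearMap.prod_apply, Function.prod_apply,
        Function.prod_apply,
        tangLin_mkG 0 W₁ v₁ h₁ l₁ a₁ hl11 f₁ ha₁',
        tangLin_mkG_zero 0 W₁ v₁ h₁ l₂ a₂ (Or.inr (Or.inl ⟨hl22, ha₂v₁⟩)),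
        tangLin_mkG 0 W₂ v₂ h₂ l₂ a₂ hl21 _ ha₂',
        LinearMap.prodMap_apply]
      refine Prod.ext (by simp) ?_
      show LefPen.tangLin k W₂ v₂ (mkG 0 l₁ a₁) + _ = Gam W₂ ⟨v₂, h₂⟩ (((0 : ℕ) : k) + 1) l₂ f₂
      rw [Gam_apply, Gam_apply]
      refine Prod.ext ?_ (funext fun w => ?_)
      · show (LefPen.tangLin k W₂ v₂ (mkG 0 l₁ a₁)).1 + _ = _
        rw [tangLin_fst, eval_mkG, hl12]
        simp [hl12]
      · show (LefPen.tangLin k W₂ v₂ (mkG 0 l₁ a₁)).2 w + _ = _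
        rw [tangLin_snd, dd_mkG, hl12, ha₁v₂]
        simp [hl12]
        ring
  have hfin : Module.finrank k (LinearMap.ker κ) + 1 =
      Module.finrank k W₁ + Module.finrank k W₂ := by
    have := LinearMap.finrank_range_add_finrank_ker κ
    rw [LinearMap.range_eq_top.mpr hκs, finrank_top, Module.finrank_self, Module.finrank_prod,
      Subspace.dual_finrank_eq, Subspace.dual_finrank_eq] at this
    omega
  rw [hrange, ← (Submodule.equivMapOfInjective _ hΓ (LinearMap.ker κ)).finrank_eq]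
  exact hfin

/-- Let k be a field (the source works over an algebraically closed field; the count is the same over
any field), d ≥ 2, x₁ = [v₁] and x₂ = [v₂] two distinct points of projective r-space and P(W₁) ∋ x₁,
P(W₂) ∋ x₂ linear subspaces. In the space of degree-d forms, those whose hypersurface passes through
x₁ tangentially to P(W₁) and through x₂ tangentially to P(W₂) form a linear subspace of codimension
dim P(W₁) + dim P(W₂) + 2 = dim W₁ + dim W₂ when d ≥ 3 or when the line x₁x₂ is not contained in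
both P(W₁) and P(W₂), and of codimension dim W₁ + dim W₂ - 1 when d = 2 and the line x₁x₂ lies in
P(W₁) ∩ P(W₂). -/
theorem result (k : Type u) [Field k] (r d : ℕ) (hd : 2 ≤ d)
    (W₁ W₂ : Submodule k (Fin (r + 1) → k)) (v₁ v₂ : Fin (r + 1) → k) (h₁ : v₁ ∈ W₁) (h₂ : v₂ ∈ W₂)
    (hv : LinearIndependent k ![v₁, v₂]) :
    ((3 ≤ d ∨ ¬ (v₂ ∈ W₁ ∧ v₁ ∈ W₂)) →
      Module.finrank k (LefPen.Form r k d) =
        Module.finrank k ↥(LefPen.tangentForms k d W₁ v₁ W₂ v₂) + (Module.finrank k ↥W₁ + Module.finrank k ↥W₂)) ∧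
    ((d = 2 ∧ v₂ ∈ W₁ ∧ v₁ ∈ W₂) →
      Module.finrank k (LefPen.Form r k d) + 1 =
        Module.finrank k ↥(LefPen.tangentForms k d W₁ v₁ W₂ v₂) + (Module.finrank k ↥W₁ + Module.finrank k ↥W₂)) := by
  obtain ⟨e, rfl⟩ : ∃ e, d = e + 2 := ⟨d - 2, by omega⟩
  have : Module.Finite k (LefPen.Form r k (e + 2)) :=
    Module.Finite.iff_fg.mpr (MvPolynomial.homogeneousSubmodule_fg _ _ _)
  have hker : LefPen.tangentForms k (e + 2) W₁ v₁ W₂ v₂ =
      LinearMap.ker ((LefPen.tangLin k W₁ v₁ (d := e + 2)).prod (LefPen.tangLin k W₂ v₂)) := by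
    rw [LinearMap.ker_prod]
    rfl
  have hrk := LinearMap.finrank_range_add_finrank_ker
    ((LefPen.tangLin k W₁ v₁ (d := e + 2)).prod (LefPen.tangLin k W₂ v₂))
  rw [hker]
  constructor
  · intro hc
    have hc' : 1 ≤ e ∨ ¬ (v₂ ∈ W₁ ∧ v₁ ∈ W₂) := by
      rcases hc with hc | hc
      · left; omega
      · right; exact hc
    have := range_generic e W₁ W₂ v₁ v₂ h₁ h₂ hv hc'
    omega
  · rintro ⟨he, h21, h12⟩
    have := range_special e (by omega) W₁ W₂ v₁ v₂ h₁ h₂ hv h21 h12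
    omega

end Groth.Agent.S4024
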