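import Groth.Statements.S4027
import Mathlib
-- import your own Groth.Agent.* helpers here

set_option autoImplicit false
universe u
open LefPen

namespace Groth.Agent.S4027

/-- the scaling homomorphism `X_v ↦ X_v * S` -/
noncomputable def sc (k : Type u) [Field k] (σ : Type) :
    MvPolynomial σ k →ₐ[k] Polynomial (MvPolynomial σ k) :=
  MvPolynomial.aeval (fun v => Polynomial.C (MvPolynomial.X v) * Polynomial.X)

theorem sc_monomial {k : Type u} [Field k] {σ : Type} (m : σ →₀ ℕ) (c : k) :
    sc k σ (MvPolynomial.monomial m c) =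
      Polynomial.C (MvPolynomial.monomial m c) * Polynomial.X ^ m.degree := by
  unfold sc
  rw [MvPolynomial.aeval_monomial, Polynomial.algebraMap_apply, MvPolynomial.algebraMap_eq,
    MvPolynomial.monomial_eq, map_mul, mul_assoc]
  congr 1
  rw [Finsupp.degree_apply, Finsupp.prod, Finsupp.prod, ← Finset.prod_pow_eq_pow_sum, map_prod,
    ← Finset.prod_mul_distrib]
  apply Finset.prod_congr rfl
  intro v _
  rw [mul_pow, map_pow]

theorem coeff_sc {k : Type u} [Field k] {σ : Type} (φ : MvPolynomial σ k) (s : ℕ) :
    (sc k σ φ).coeff s = MvPolynomial.homogeneousComponent s φ := by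
  induction φ using MvPolynomial.induction_on' with
  | monomial m c =>
    rw [sc_monomial, Polynomial.coeff_C_mul_X_pow,
      MvPolynomial.homogeneousComponent_of_mem (m := s) (n := m.degree)
        (MvPolynomial.isHomogeneous_monomial c rfl)]
  | add p q hp hq =>
    rw [map_add, Polynomial.coeff_add, hp, hq, map_add]

theorem sc_of_homog {k : Type u} [Field k] {σ : Type} (φ : MvPolynomial σ k) (n : ℕ)
    (h : φ.IsHomogeneous n) : sc k σ φ = Polynomial.C φ * Polynomial.X ^ n := by
  ext1 s
  rw [coeff_sc, Polynomial.coeff_C_mul_X_pow, MvPolynomial.homogeneousComponent_of_mem h]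

theorem homog_of_sc {k : Type u} [Field k] {σ : Type} (φ u : MvPolynomial σ k) (α : ℕ)
    (h : sc k σ φ = Polynomial.C u * Polynomial.X ^ α) : φ.IsHomogeneous α := by
  have hc : ∀ s, MvPolynomial.homogeneousComponent s φ = if s = α then u else 0 := by
    intro s
    rw [← coeff_sc, h, Polynomial.coeff_C_mul_X_pow]
  have : φ = MvPolynomial.homogeneousComponent α φ := by
    conv_lhs => rw [← MvPolynomial.sum_homogeneousComponent φ]
    by_cases hα : α ∈ Finset.range (φ.totalDegree + 1)
    · rw [Finset.sum_eq_single α]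
      · intro b _ hb; rw [hc b, if_neg hb]
      · intro h'; exact absurd hα h'
    · rw [Finset.sum_eq_zero]
      · rw [MvPolynomial.homogeneousComponent_eq_zero]
        rw [Finset.mem_range] at hα
        omega
      · intro b hb
        rw [hc b, if_neg]
        rintro rfl; exact hα hb
  rw [this]
  exact MvPolynomial.homogeneousComponent_isHomogeneous α φ

/-- factors of a monomial over a domain are monomials -/
theorem mono_factor {D : Type u} [CommRing D] [IsDomain D] (U V : Polynomial D) (c : D) (hc : c ≠ 0)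
    (N : ℕ) (h : U * V = Polynomial.C c * Polynomial.X ^ N) :
    ∃ (u : D) (α : ℕ), U = Polynomial.C u * Polynomial.X ^ α := by
  have hne : Polynomial.C c * Polynomial.X ^ N ≠ (0 : Polynomial D) := by
    intro h0
    have := congrArg (fun p => Polynomial.coeff p N) h0
    simp [hc] at this
  have hU : U ≠ 0 := by rintro rfl; rw [zero_mul] at h; exact hne h.symm
  have hV : V ≠ 0 := by rintro rfl; rw [mul_zero] at h; exact hne h.symm
  have h1 : U.natDegree + V.natDegree = N := by
    rw [← Polynomial.natDegree_mul hU hV, h, Polynomial.natDegree_C_mul_X_pow N c hc]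
  have h2 : U.natTrailingDegree + V.natTrailingDegree = N := by
    rw [← Polynomial.natTrailingDegree_mul hU hV, h, Polynomial.C_mul_X_pow_eq_monomial,
      Polynomial.natTrailingDegree_monomial hc]
  have h3 := Polynomial.natTrailingDegree_le_natDegree U
  have h4 := Polynomial.natTrailingDegree_le_natDegree V
  have h5 : U.natTrailingDegree = U.natDegree := by omega
  refine ⟨U.coeff U.natDegree, U.natDegree, ?_⟩
  ext1 n
  rw [Polynomial.coeff_C_mul_X_pow]
  split_ifs with hn
  · rw [hn]
  · rcases lt_or_gt_of_ne hn with hlt | hgt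
    · exact Polynomial.coeff_eq_zero_of_lt_natTrailingDegree (h5 ▸ hlt)
    · exact Polynomial.coeff_eq_zero_of_natDegree_lt hgt

theorem homog_factor {k : Type u} [Field k] {σ : Type} (φ ψ : MvPolynomial σ k) (N : ℕ)
    (h : (φ * ψ).IsHomogeneous N) (hne : φ * ψ ≠ 0) : ∃ α, φ.IsHomogeneous α := by
  have h1 : sc k σ φ * sc k σ ψ = Polynomial.C (φ * ψ) * Polynomial.X ^ N := by
    rw [← map_mul, sc_of_homog _ N h]
  obtain ⟨u, α, hu⟩ := mono_factor _ _ _ hne N h1
  exact ⟨α, homog_of_sc φ u α hu⟩

theorem eval_one_sc {k : Type u} [Field k] {σ : Type} (f : MvPolynomial σ k) :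
    Polynomial.eval 1 (sc k σ f) = f := by
  induction f using MvPolynomial.induction_on' with
  | monomial m c => rw [sc_monomial]; simp
  | add p q hp hq => rw [map_add, Polynomial.eval_add, hp, hq]

theorem sc_injective {k : Type u} [Field k] {σ : Type} : Function.Injective (sc k σ) := by
  intro f g h
  rw [← eval_one_sc f, ← eval_one_sc g, h]

theorem eq_sc_of_coeff_homog {k : Type u} [Field k] {σ : Type} (P : Polynomial (MvPolynomial σ k))
    (h : ∀ n, (P.coeff n).IsHomogeneous n) :
    P = sc k σ (∑ n ∈ Finset.range (P.natDegree + 1), P.coeff n) := by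
  rw [map_sum]
  conv_lhs => rw [Polynomial.as_sum_range_C_mul_X_pow P]
  apply Finset.sum_congr rfl
  intro n _
  rw [sc_of_homog _ n (h n)]

theorem symm_C {k : Type u} [Field k] (r : ℕ) (a : MvPolynomial (Fin r) k) :
    (MvPolynomial.optionEquivLeft k (Fin r)).symm (Polynomial.C a) = MvPolynomial.rename some a := by
  induction a using MvPolynomial.induction_on with
  | C c => rw [MvPolynomial.optionEquivLeft_symm_C_C, MvPolynomial.rename_C]
  | add p q hp hq => rw [map_add, map_add, hp, hq, map_add]
  | mul_X p i hp =>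
    rw [map_mul, map_mul, hp, MvPolynomial.optionEquivLeft_symm_C_X, map_mul, MvPolynomial.rename_X]

theorem symm_homog {k : Type u} [Field k] (r : ℕ) (p : Polynomial (MvPolynomial (Fin r) k)) (N : ℕ)
    (hp : ∀ i, i ≤ N → (p.coeff i).IsHomogeneous (N - i)) (hN : p.natDegree ≤ N) :
    ((MvPolynomial.optionEquivLeft k (Fin r)).symm p).IsHomogeneous N := by
  conv => arg 1; rw [Polynomial.as_sum_range_C_mul_X_pow p]
  rw [map_sum]
  refine MvPolynomial.IsHomogeneous.sum _ _ _ (fun i hi => ?_)
  have hi' : i ≤ N := by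
    rw [Finset.mem_range] at hi; omega
  rw [map_mul, map_pow, symm_C, MvPolynomial.optionEquivLeft_symm_X]
  have : N = (N - i) + i := by omega
  rw [this]
  refine MvPolynomial.IsHomogeneous.mul ?_ (MvPolynomial.isHomogeneous_X_pow _ _)
  exact (hp i hi').rename_isHomogeneous

theorem const_of_mul_eq_C {k : Type u} [Field k] {σ : Type} (a b : MvPolynomial σ k) (c : k) (hc : c ≠ 0)
    (h : a * b = MvPolynomial.C c) : ∃ c₁ : k, c₁ ≠ 0 ∧ a = MvPolynomial.C c₁ := by
  have ha : a ≠ 0 := by rintro rfl; rw [zero_mul] at h; exact hc (by simpa using h.symm)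
  have hb : b ≠ 0 := by rintro rfl; rw [mul_zero] at h; exact hc (by simpa using h.symm)
  have := MvPolynomial.totalDegree_mul_of_isDomain ha hb
  rw [h, MvPolynomial.totalDegree_C] at this
  have h0 : a.totalDegree = 0 := by omega
  rw [MvPolynomial.totalDegree_eq_zero_iff_eq_C] at h0
  refine ⟨_, ?_, h0⟩
  intro h1
  rw [h1, map_zero] at h0
  exact ha h0

theorem coeff_homog_of_factor {k : Type u} [Field k] (r : ℕ) (F : MvPolynomial (Fin r) k)
    (hF0 : MvPolynomial.coeff 0 F ≠ 0) (P Q : Polynomial (MvPolynomial (Fin r) k))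
    (hPQ : sc k (Fin r) F = P * Q) : ∀ n, (P.coeff n).IsHomogeneous n := by
  have hFne : F ≠ 0 := by rintro rfl; simp at hF0
  have hGne : sc k (Fin r) F ≠ 0 := fun h => hFne (sc_injective (by rw [h, map_zero]))
  have hP : P ≠ 0 := by rintro rfl; rw [zero_mul] at hPQ; exact hGne hPQ
  have hQ : Q ≠ 0 := by rintro rfl; rw [mul_zero] at hPQ; exact hGne hPQ
  -- constant coefficients
  have h0 : P.coeff 0 * Q.coeff 0 = MvPolynomial.C (MvPolynomial.coeff 0 F) := by
    rw [← Polynomial.mul_coeff_zero, ← hPQ, coeff_sc, MvPolynomial.homogeneousComponent_zero]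
  obtain ⟨c₁, hc₁, hP0⟩ := const_of_mul_eq_C _ _ _ hF0 h0
  have hP0ne : P.coeff 0 ≠ 0 := by
    rw [hP0]; intro h; exact hc₁ (by simpa using h)
  -- the reverse is homogeneous
  set N := (sc k (Fin r) F).natDegree with hN
  set e := MvPolynomial.optionEquivLeft k (Fin r) with he
  have hΓ : (e.symm (sc k (Fin r) F).reverse).IsHomogeneous N := by
    apply symm_homog
    · intro i hi
      rw [Polynomial.coeff_reverse, Polynomial.revAt_le hi, coeff_sc]
      exact MvPolynomial.homogeneousComponent_isHomogeneous _ _
    · exact Polynomial.reverse_natDegree_le _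
  have hΓne : e.symm (sc k (Fin r) F).reverse ≠ 0 := by
    intro h
    have h1 : (sc k (Fin r) F).reverse = 0 := by
      have := congrArg e h
      rwa [AlgEquiv.apply_symm_apply, map_zero] at this
    exact hGne (Polynomial.reverse_eq_zero.mp h1)
  have hmul : e.symm (sc k (Fin r) F).reverse = e.symm P.reverse * e.symm Q.reverse := by
    rw [hPQ, Polynomial.reverse_mul_of_domain, map_mul]
  rw [hmul] at hΓ hΓne
  obtain ⟨α, hα⟩ := homog_factor _ _ N hΓ hΓne
  have hφne : e.symm P.reverse ≠ 0 := left_ne_zero_of_mul hΓne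
  set a := P.natDegree with ha
  have hrevdeg : P.reverse.natDegree = a := by
    rw [Polynomial.reverse_natDegree]
    have : P.natTrailingDegree = 0 :=
      Nat.le_zero.mp (Polynomial.natTrailingDegree_le_of_ne_zero hP0ne)
    rw [this, Nat.sub_zero]
  have haα : a ≤ α := by
    have h1 : (e (e.symm P.reverse)).natDegree = (e.symm P.reverse).degreeOf none :=
      MvPolynomial.natDegree_optionEquivLeft k _
    rw [AlgEquiv.apply_symm_apply, hrevdeg] at h1
    rw [h1, ← hα.totalDegree hφne]
    exact MvPolynomial.degreeOf_le_totalDegree _ _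
  have key : ∀ i j, i + j = α → (P.reverse.coeff i).IsHomogeneous j := fun i j hij =>
    MvPolynomial.IsHomogeneous.coeff_isHomogeneous_of_optionEquivLeft_symm hα i j hij
  have hαa : α = a := by
    have h1 := key a (α - a) (by omega)
    rw [Polynomial.coeff_reverse, Polynomial.revAt_le (le_refl _), Nat.sub_self, hP0] at h1
    have h2 : (MvPolynomial.C c₁ : MvPolynomial (Fin r) k).IsHomogeneous 0 :=
      MvPolynomial.isHomogeneous_C _ _
    have h3 : (MvPolynomial.C c₁ : MvPolynomial (Fin r) k) ≠ 0 := by
      intro h; exact hc₁ (by simpa using h)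
    have := h1.inj_right h2 h3
    omega
  intro n
  by_cases hn : n ≤ a
  · have h1 := key (a - n) n (by omega)
    rw [Polynomial.coeff_reverse, Polynomial.revAt_le (Nat.sub_le _ _)] at h1
    have : a - (a - n) = n := by omega
    rwa [this] at h1
  · rw [Polynomial.coeff_eq_zero_of_natDegree_lt (by omega)]
    exact MvPolynomial.isHomogeneous_zero _ _ _

theorem irreducible_sc {k : Type u} [Field k] (r : ℕ) (F : MvPolynomial (Fin r) k)
    (hF : Irreducible F) (hF0 : MvPolynomial.coeff 0 F ≠ 0) : Irreducible (sc k (Fin r) F) := by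
  refine ⟨?_, ?_⟩
  · intro hu
    have := hu.map (Polynomial.evalRingHom (1 : MvPolynomial (Fin r) k))
    rw [Polynomial.coe_evalRingHom, eval_one_sc] at this
    exact hF.not_isUnit this
  · intro P Q hPQ
    have h1 := coeff_homog_of_factor r F hF0 P Q hPQ
    have h2 := coeff_homog_of_factor r F hF0 Q P (by rw [hPQ, mul_comm])
    have eP := eq_sc_of_coeff_homog P h1
    have eQ := eq_sc_of_coeff_homog Q h2
    set p := ∑ n ∈ Finset.range (P.natDegree + 1), P.coeff n with hp
    set q := ∑ n ∈ Finset.range (Q.natDegree + 1), Q.coeff n with hq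
    have hFpq : F = p * q := by
      apply sc_injective
      rw [map_mul, ← eP, ← eQ, hPQ]
    rcases hF.isUnit_or_isUnit hFpq with h | h
    · left; rw [eP]; exact h.map (sc k (Fin r))
    · right; rw [eQ]; exact h.map (sc k (Fin r))

/-- Let k be an algebraically closed field, r ≥ 2, and F ∈ k[X_1, …, X_r] an irreducible polynomial with
F(0) ≠ 0 (in the source the origin is the base point of the lines considered and lies off the
hypersurface F = 0; without this the claim fails, e.g. for X_1 - X_2^2). Then the polynomial G(T) =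
F(X_1 T, …, X_r T), with coefficients in the field of rational functions k(X_1, …, X_r), is
irreducible. -/
theorem result (k : Type u) [Field k] [IsAlgClosed k] (r : ℕ) (hr : 2 ≤ r)
    (F : MvPolynomial (Fin r) k) (hF : Irreducible F) (hF0 : MvPolynomial.eval (fun _ => (0 : k)) F ≠ 0) :
    Irreducible ((MvPolynomial.eval₂ (Polynomial.C.comp MvPolynomial.C)
        (fun j => Polynomial.C (MvPolynomial.X j) * Polynomial.X) F).map
      (algebraMap (MvPolynomial (Fin r) k) (FractionRing (MvPolynomial (Fin r) k)))) := by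
  have hc0 : MvPolynomial.coeff 0 F ≠ 0 := by
    have : MvPolynomial.eval (fun _ => (0 : k)) F = MvPolynomial.coeff 0 F := by
      rw [← MvPolynomial.constantCoeff_eq, ← MvPolynomial.eval_zero']
    rwa [this] at hF0
  have hG : MvPolynomial.eval₂ (Polynomial.C.comp MvPolynomial.C)
      (fun j => Polynomial.C (MvPolynomial.X j) * Polynomial.X) F = sc k (Fin r) F := by
    unfold sc
    rw [MvPolynomial.aeval_def]
    rfl
  rw [hG]
  have hirr := irreducible_sc r F hF hc0
  obtain ⟨inst⟩ : Nonempty (NormalizedGCDMonoid (MvPolynomial (Fin r) k)) := inferInstance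
  have hprim : (sc k (Fin r) F).IsPrimitive := by
    intro a ha
    rw [Polynomial.C_dvd_iff_dvd_coeff] at ha
    have h0 := ha 0
    rw [coeff_sc, MvPolynomial.homogeneousComponent_zero] at h0
    exact isUnit_of_dvd_unit h0 ((isUnit_iff_ne_zero.mpr hc0).map MvPolynomial.C)
  exact (hprim.irreducible_iff_irreducible_map_fraction_map).mp hirr

end Groth.Agent.S4027
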