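import Groth.Statements.S4065

set_option autoImplicit false
universe w v
open CategoryTheory
open SGA7

namespace Groth.Agent.S4065

/-- Let P -> F -> R and R -> E -> Q be short exact sequences in an abelian category and X a blended
extension of E by F: i : F -> X and p : X -> E with i, p composing to F -> R -> E and with P -> X ->
E and F -> X -> Q short exact. Then u ↦ 1_X + (X -> E -> Q -> P -> F -> X) is a bijection from
Hom(Q, P) onto the set of endomorphisms φ of X with i φ = i and φ p = p (the automorphisms of the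
blended extension; every such φ is invertible), and it turns addition into composition (a group
isomorphism Hom(Q, P) ≅ Aut(X)). -/
theorem result {C : Type w} [Category.{v} C] [Abelian C]
    {P F R E Q X : C} (a : P ⟶ F) (b : F ⟶ R) (wF : a ≫ b = 0)
    (hF : (ShortComplex.mk a b wF).ShortExact) (c : R ⟶ E) (d : E ⟶ Q) (wE : c ≫ d = 0)
    (hE : (ShortComplex.mk c d wE).ShortExact) (i : F ⟶ X) (p : X ⟶ E) (hip : i ≫ p = b ≫ c)
    (w₁ : (a ≫ i) ≫ p = 0) (h₁ : (ShortComplex.mk (a ≫ i) p w₁).ShortExact)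
    (w₂ : i ≫ (p ≫ d) = 0) (h₂ : (ShortComplex.mk i (p ≫ d) w₂).ShortExact) :
    Set.BijOn (fun v : Q ⟶ P => 𝟙 X + p ≫ d ≫ v ≫ a ≫ i) Set.univ
      {φ : X ⟶ X | i ≫ φ = i ∧ φ ≫ p = p} ∧
      ∀ v v' : Q ⟶ P, 𝟙 X + p ≫ d ≫ (v + v') ≫ a ≫ i =
        (𝟙 X + p ≫ d ≫ v ≫ a ≫ i) ≫ (𝟙 X + p ≫ d ≫ v' ≫ a ≫ i) := by
  have hmono : Mono (a ≫ i) := h₁.mono_f
  have hepi : Epi (p ≫ d) := h₂.epi_g
  have hcd : c ≫ d = 0 := wE
  have haip : a ≫ i ≫ p = 0 := by rw [← Category.assoc]; exact w₁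
  have hipd : i ≫ p ≫ d = 0 := w₂
  refine ⟨⟨?_, ?_, ?_⟩, ?_⟩
  · intro v _
    refine ⟨?_, ?_⟩
    · show i ≫ (𝟙 X + p ≫ d ≫ v ≫ a ≫ i) = i
      rw [Preadditive.comp_add, Category.comp_id, reassoc_of% hipd, Limits.zero_comp, add_zero]
    · show (𝟙 X + p ≫ d ≫ v ≫ a ≫ i) ≫ p = p
      rw [Preadditive.add_comp, Category.id_comp]
      simp only [Category.assoc]
      rw [haip, Limits.comp_zero, Limits.comp_zero, Limits.comp_zero, add_zero]
  · intro v _ v' _ hvv'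
    have h := add_left_cancel (hvv' : 𝟙 X + p ≫ d ≫ v ≫ a ≫ i = 𝟙 X + p ≫ d ≫ v' ≫ a ≫ i)
    have h' : (p ≫ d) ≫ (v ≫ (a ≫ i)) = (p ≫ d) ≫ (v' ≫ (a ≫ i)) := by
      simpa only [Category.assoc] using h
    have h'' := (cancel_epi (p ≫ d)).1 h'
    exact (cancel_mono (a ≫ i)).1 h''
  · rintro φ ⟨hφ1, hφ2⟩
    have e1 : i ≫ (φ - 𝟙 X) = 0 := by
      rw [Preadditive.comp_sub, hφ1, Category.comp_id, sub_self]
    have e2 : (φ - 𝟙 X) ≫ p = 0 := by
      rw [Preadditive.sub_comp, hφ2, Category.id_comp, sub_self]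
    have : Epi (ShortComplex.mk i (p ≫ d) w₂).g := hepi
    have : Mono (ShortComplex.mk (a ≫ i) p w₁).f := hmono
    obtain ⟨ψ', hψ'⟩ := h₂.exact.desc' (φ - 𝟙 X) e1
    have hψ'' : (p ≫ d) ≫ ψ' = φ - 𝟙 X := hψ'
    have e3 : ψ' ≫ p = 0 := by
      rw [← cancel_epi (p ≫ d), Limits.comp_zero, ← Category.assoc, hψ'', e2]
    obtain ⟨v, hv⟩ := h₁.exact.lift' ψ' e3
    have hv' : v ≫ (a ≫ i) = ψ' := hv
    refine ⟨v, Set.mem_univ _, ?_⟩
    show 𝟙 X + p ≫ d ≫ v ≫ a ≫ i = φ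
    have : p ≫ d ≫ v ≫ a ≫ i = φ - 𝟙 X := by
      rw [← hψ'', ← hv']
      simp only [Category.assoc]
    rw [this]
    abel
  · intro v v'
    have hz : (p ≫ d ≫ v ≫ a ≫ i) ≫ (p ≫ d ≫ v' ≫ a ≫ i) = 0 := by
      simp only [Category.assoc]
      rw [reassoc_of% haip]
      simp
    have hr : (𝟙 X + p ≫ d ≫ v ≫ a ≫ i) ≫ (𝟙 X + p ≫ d ≫ v' ≫ a ≫ i) =
        𝟙 X + p ≫ d ≫ v ≫ a ≫ i + p ≫ d ≫ v' ≫ a ≫ i := by
      rw [Preadditive.add_comp, Preadditive.comp_add, Preadditive.comp_add, Category.id_comp,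
        Category.comp_id, Category.id_comp, hz, add_zero]
      abel
    have hl : p ≫ d ≫ (v + v') ≫ a ≫ i = p ≫ d ≫ v ≫ a ≫ i + p ≫ d ≫ v' ≫ a ≫ i := by
      rw [Preadditive.add_comp, Preadditive.comp_add, Preadditive.comp_add]
    rw [hr, hl]
    abel

end Groth.Agent.S4065
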