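import Groth.Statements.S4086
import Groth.Agent.Lib.H8GrpdQuotGlobal

set_option autoImplicit false
universe u
open CategoryTheory MonoidalCategory CartesianMonoidalCategory MonObj GrpObj AlgebraicGeometry CategoryTheory.Limits
open GrpQ

namespace Groth.Agent.S4086


/-- Let (U, R, s, t, c) be a groupoid scheme over S with s finite locally free and every set t(s⁻¹(x))
contained in an affine open of U, and assume that j = (t, s) : R → U ×_S U is a monomorphism. Then
for every coequalizer p : U → Y of (t, s) in schemes, the square formed by t, s, p, p is cartesian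
(R ≅ U ×_Y U) and p is finite locally free. (The source adds that Y is then the quotient sheaf for
the fppf topology and that its formation commutes with base change on Y.) -/
theorem result (S : Scheme.{u}) (G : Grpd.GroupoidScheme S)
    (ha : Mor2.IsFinLocFree G.s)
    (hb : ∀ x : G.U, ∃ V : G.U.Opens, IsAffineOpen V ∧ G.t.base '' (G.s.base ⁻¹' {x}) ⊆ (V : Set G.U))
    [Mono G.j] (Y : Scheme.{u}) (p : G.U ⟶ Y) (w : G.t ≫ p = G.s ≫ p) (hc : IsColimit (Cofork.ofπ p w)) :
    IsPullback G.t G.s p p ∧ Mor2.IsFinLocFree p := by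

  obtain ⟨h1, h2, h3⟩ := ha
  have : Lib.H8GrpdQuot.OrbAff G := ⟨hb⟩
  have hc' := Lib.H8GrpdQuot.isColimitCofork' G (Lib.H8GrpdQuot.q_comm G)
  let e : Y ≅ Lib.H8GrpdQuot.Y G := hc.coconePointUniqueUpToIso hc'
  have he : p ≫ e.hom = Lib.H8GrpdQuot.q G :=
    IsColimit.comp_coconePointUniqueUpToIso_hom hc hc' WalkingParallelPair.one
  have hp : p = Lib.H8GrpdQuot.q G ≫ e.inv := by rw [← he, Category.assoc, e.hom_inv_id,
    Category.comp_id]
  have i1 := Lib.H8GrpdQuot.isFinite_q G
  have i2 := Lib.H8GrpdQuot.flat_q G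
  have i3 := Lib.H8GrpdQuot.lfp_q G
  constructor
  · refine (Lib.H8GrpdQuot.isPullback_t_s_q G).of_iso (Iso.refl _) (Iso.refl _) (Iso.refl _)
      e.symm ?_ ?_ ?_ ?_
    · rw [Iso.refl_hom, Iso.refl_hom, Category.comp_id, Category.id_comp]
    · rw [Iso.refl_hom, Iso.refl_hom, Category.comp_id, Category.id_comp]
    · rw [Iso.refl_hom, Category.id_comp, Iso.symm_hom, hp]
    · rw [Iso.refl_hom, Category.id_comp, Iso.symm_hom, hp]
  · rw [hp]
    exact ⟨inferInstance, inferInstance, inferInstance⟩

end Groth.Agent.S4086
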