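import Groth.Statements.S5939
import Groth.Agent.Lib.FpqcDescent
import Groth.Agent.Lib.EtLocQF3

set_option autoImplicit false
universe u
open CategoryTheory AlgebraicGeometry
open Unram17

namespace Groth.Agent.S5939

/-- Let f : X ⟶ Y be faithfully flat, locally of finite presentation and quasi-compact, and let g : Y ⟶
Z be a morphism such that f ≫ g is of finite presentation (locally of finite presentation,
quasi-compact and quasi-separated). Then g is quasi-compact and quasi-separated; together with the
descent of local finite presentation along f this says that g is of finite presentation. This is the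
case f quasi-compact. -/
theorem result {X Y Z : Scheme.{u}} (f : X ⟶ Y) (g : Y ⟶ Z)
    [Surjective f] [Flat f] [LocallyOfFinitePresentation f] [QuasiCompact f]
    [LocallyOfFinitePresentation (f ≫ g)] [QuasiCompact (f ≫ g)] [QuasiSeparated (f ≫ g)] :
    QuasiCompact g ∧ QuasiSeparated g := by
  have hqc : QuasiCompact g := Groth.Agent.Lib.EtLocQF.quasiCompact_of_comp_surjective f g
  refine ⟨hqc, ⟨?_⟩⟩
  -- the square `X ×_Y X → X ×_Z X`, `Y → Y ×_Z Y`
  have sq := (CategoryTheory.Limits.pullback_map_diagonal_isPullback f f g).flip
  -- the cover `X ×_Z X → Y ×_Z Y`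
  have hQf : (@Surjective ⊓ @Flat ⊓ @QuasiCompact : MorphismProperty Scheme.{u}) f :=
    ⟨⟨inferInstance, inferInstance⟩, inferInstance⟩
  have hQ : (@Surjective ⊓ @Flat ⊓ @QuasiCompact : MorphismProperty Scheme.{u})
      (CategoryTheory.Limits.pullback.map (f ≫ g) (f ≫ g) g g f f (𝟙 _)
        (Category.comp_id _) (Category.comp_id _)) :=
    MorphismProperty.pullbackMap hQf hQf rfl rfl
  -- the base change of the diagonal is quasi-compact
  have hm : QuasiCompact (CategoryTheory.Limits.pullback.map f f (f ≫ g) (f ≫ g) (𝟙 X) (𝟙 X) g
      (Category.id_comp _).symm (Category.id_comp _).symm) := by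
    have h1 : QuasiSeparated (CategoryTheory.Limits.pullback.fst (f ≫ g) (f ≫ g)) := inferInstance
    have h2 : CategoryTheory.Limits.pullback.map f f (f ≫ g) (f ≫ g) (𝟙 X) (𝟙 X) g
        (Category.id_comp _).symm (Category.id_comp _).symm ≫
        CategoryTheory.Limits.pullback.fst (f ≫ g) (f ≫ g) =
        CategoryTheory.Limits.pullback.fst f f := by
      rw [CategoryTheory.Limits.pullback.lift_fst, Category.comp_id]
    have h3 : QuasiCompact (CategoryTheory.Limits.pullback.map f f (f ≫ g) (f ≫ g) (𝟙 X) (𝟙 X) g
        (Category.id_comp _).symm (Category.id_comp _).symm ≫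
        CategoryTheory.Limits.pullback.fst (f ≫ g) (f ≫ g)) := by
      rw [h2]; infer_instance
    exact QuasiCompact.of_comp _ (CategoryTheory.Limits.pullback.fst (f ≫ g) (f ≫ g))
  exact MorphismProperty.of_isPullback_of_descendsAlong (P := @QuasiCompact) sq hQ hm

end Groth.Agent.S5939
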