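import Groth.Statements.S4104
import Groth.Agent.Lib.HopfFlat41b

set_option autoImplicit false
universe u
open CategoryTheory MonoidalCategory CartesianMonoidalCategory MonObj GrpObj AlgebraicGeometry CategoryTheory.Limits
open SGA3

namespace Groth.Agent.S4104

open scoped TensorProduct

/-- Let φ : A' → A be a bialgebra map between commutative Hopf algebras over a field k (a homomorphism
of affine k-groups Spec A → Spec A', not necessarily of finite type). If the corresponding morphism
of schemes is a monomorphism, i.e. φ is an epimorphism in the category of commutative rings, then φ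
is surjective (the homomorphism is a closed immersion). -/
theorem result (k : Type u) [Field k] (A' A : Type u) [CommRing A'] [HopfAlgebra k A']
    [CommRing A] [HopfAlgebra k A] (φ : A' →ₐc[k] A)
    (hepi : ∀ (R : Type u) [CommRing R] (f g : A →+* R), f.comp (φ : A' →+* A) = g.comp (φ : A' →+* A) → f = g) :
    Function.Surjective φ := by
  classical
  let B : Subalgebra k A := (φ : A' →ₐ[k] A).range
  have hff : Module.FaithfullyFlat B A :=
    Groth.Agent.Lib.HopfFlat41.faithfullyFlat_of_hopfSubalgebra B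
      (Groth.Agent.Lib.HopfFlat41.comulStable_range φ)
      (Groth.Agent.Lib.HopfFlat41.antipodeStable_range φ)
  -- the two inclusions into `A ⊗[B] A` agree
  have hi : (Algebra.TensorProduct.includeLeft : A →ₐ[B] A ⊗[B] A).toRingHom =
      (Algebra.TensorProduct.includeRight : A →ₐ[B] A ⊗[B] A).toRingHom := by
    apply hepi
    ext a'
    show (φ a' ⊗ₜ[B] (1 : A) : A ⊗[B] A) = (1 : A) ⊗ₜ[B] φ a'
    have h1 : φ a' = (⟨φ a', AlgHom.mem_range_self (φ : A' →ₐ[k] A) a'⟩ : B) • (1 : A) := by
      rw [Algebra.smul_def, _root_.mul_one]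
      rfl
    conv_lhs => rw [h1]
    conv_rhs => rw [h1]
    rw [TensorProduct.smul_tmul]
  have hsurj : Function.Surjective ((Algebra.linearMap B A).lTensor A) := by
    intro t
    induction t using TensorProduct.induction_on with
    | zero => exact ⟨0, map_zero _⟩
    | add x y hx hy =>
      obtain ⟨x', rfl⟩ := hx
      obtain ⟨y', rfl⟩ := hy
      exact ⟨x' + y', map_add _ _ _⟩
    | tmul a a'' =>
      refine ⟨(a * a'') ⊗ₜ[B] (1 : B), ?_⟩
      rw [LinearMap.lTensor_tmul, Algebra.linearMap_apply, map_one]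
      have h2 : ((1 : A) ⊗ₜ[B] a'' : A ⊗[B] A) = a'' ⊗ₜ[B] (1 : A) :=
        (RingHom.congr_fun hi a'').symm
      calc ((a * a'') ⊗ₜ[B] (1 : A) : A ⊗[B] A)
          = (a ⊗ₜ[B] (1 : A)) * (a'' ⊗ₜ[B] (1 : A)) := by
            rw [Algebra.TensorProduct.tmul_mul_tmul, _root_.mul_one]
        _ = (a ⊗ₜ[B] (1 : A)) * ((1 : A) ⊗ₜ[B] a'') := by rw [h2]
        _ = a ⊗ₜ[B] a'' := by rw [Algebra.TensorProduct.tmul_mul_tmul, _root_.mul_one, _root_.one_mul]
  have hs2 : Function.Surjective (Algebra.linearMap B A) :=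
    (Module.FaithfullyFlat.lTensor_surjective_iff_surjective B A _).1 hsurj
  intro a
  obtain ⟨b, hb⟩ := hs2 a
  obtain ⟨a', ha'⟩ := b.2
  exact ⟨a', by rw [← hb]; exact ha'⟩

end Groth.Agent.S4104
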