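import Groth.Statements.S4105
import Groth.Agent.Lib.NormalKer55g
import Groth.Agent.Lib.ComodUnip41c
import Groth.Agent.Lib.HopfSub41b

set_option autoImplicit false
universe u
open CategoryTheory MonoidalCategory CartesianMonoidalCategory MonObj GrpObj AlgebraicGeometry CategoryTheory.Limits
open scoped TensorProduct
open SGA3

namespace Groth.Agent.S4105

open Groth.Agent.Lib.NormalKer55 Groth.Agent.Lib.HopfSub41 Groth.Agent.Lib.HopfFlat41

/-- the set in the statement is the subalgebra of coinvariants -/
theorem set_eq_coinv (k : Type u) [Field k] (A : Type u) [CommRing A] [HopfAlgebra k A]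
    (J : Ideal A) :
    {x : A | CoalgebraStruct.comul (R := k) (A := A) x - x ⊗ₜ[k] (1 : A) ∈
        LinearMap.range (LinearMap.lTensor A (J.restrictScalars k).subtype)} =
      (coinv (k := k) J : Set A) := by
  ext x
  rw [Set.mem_setOf_eq, SetLike.mem_coe, mem_coinv_iff]
  have hex : Function.Exact (J.restrictScalars k).subtype (Ideal.Quotient.mkₐ k J).toLinearMap := by
    intro a
    rw [AlgHom.toLinearMap_apply, Ideal.Quotient.mkₐ_eq_mk, Ideal.Quotient.eq_zero_iff_mem]
    constructor
    · intro ha
      exact ⟨⟨a, ha⟩, rfl⟩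
    · rintro ⟨y, rfl⟩
      exact y.2
  have hex' := lTensor_exact A hex (Ideal.Quotient.mkₐ_surjective k J)
  rw [LinearMap.mem_range, ← Set.mem_range, ← hex' _, map_sub, LinearMap.lTensor_tmul,
    AlgHom.toLinearMap_apply, map_one, sub_eq_zero]

/-- Let A be a commutative Hopf algebra over a field k, B a sub-Hopf-algebra of A and J a normal Hopf
ideal of A (a normal closed subgroup N of G = Spec A). Then J is the ideal generated by the
augmentation ideal of B (N is the kernel of G → Spec B) if and only if B consists exactly of the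
elements x with Δ(x) - x ⊗ 1 in the image of A ⊗ J (B is the ring of functions on G/N). This
expresses that N ↦ O(G/N) and B ↦ Spec (A/AB₊) are inverse bijections. -/
theorem result (k : Type u) [Field k] (A : Type u) [CommRing A] [HopfAlgebra k A]
    (B : Subalgebra k A) (hB : SGA3.IsHopfSubalgebra k A B) (J : Ideal A) [J.IsHopfIdeal k]
    (hJ : SGA3.IsNormalHopfIdeal k A J) :
    J = SGA3.augIdealSpan k A B ↔
      (B : Set A) = {x : A | CoalgebraStruct.comul (R := k) (A := A) x - x ⊗ₜ[k] (1 : A) ∈
        LinearMap.range (LinearMap.lTensor A (J.restrictScalars k).subtype)} := by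
  have hΔ : ComulStable B := hB.1
  have hS : AntipodeStable B := hB.2
  rw [set_eq_coinv]
  constructor
  · intro h
    have h1 : B ≤ coinv (k := k) J := by
      rw [h]
      exact le_coinv_augIdealSpan hΔ
    have h2 : coinv (k := k) J ≤ B := by
      intro x hx
      letI := hopfAlgebra hΔ hS
      have hJmap : J = Ideal.map (valBialgHom hΔ hS)
          (RingHom.ker (Bialgebra.counitAlgHom k B)) := by
        rw [h, SGA3.augIdealSpan, Ideal.map]
        congr 1
        ext a
        constructor
        · rintro ⟨haB, ha0⟩
          exact ⟨⟨a, haB⟩, ha0, rfl⟩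
        · rintro ⟨b, hb, rfl⟩
          exact ⟨b.2, hb⟩
      obtain ⟨b, hb⟩ := mem_range_of_coinv (valBialgHom hΔ hS) (valBialgHom_injective hΔ hS) J
        hJmap x hx
      rw [← hb]
      exact b.2
    exact congrArg _ (le_antisymm h1 h2)
  · intro h
    have hBc : B = coinv (k := k) J := SetLike.coe_injective h
    rw [hBc]
    exact le_antisymm (le_augIdealSpan_coinv J hJ) (augIdealSpan_coinv_le J)

end Groth.Agent.S4105
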