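import Groth.Statements.S4112
import Groth.Agent.Lib.H71PowEtaleOne
import Groth.Agent.Lib.H71PowMonHom
import Groth.Agent.Lib.H71OpenToGlobal

set_option autoImplicit false
universe u
open CategoryTheory MonoidalCategory CartesianMonoidalCategory MonObj GrpObj AlgebraicGeometry CategoryTheory.Limits
open SGA3

namespace Groth.Agent.S4112

/-- Let G be a commutative algebraic group over a field k and n a natural number invertible in k. Then
the n-th power morphism G → G is etale. -/
theorem result (k : Type u) [Field k] (G : Over (Spec (CommRingCat.of k))) [GrpObj G]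
    [IsCommMonObj G] [LocallyOfFiniteType G.hom] [QuasiCompact G.hom] (n : ℕ) (hn : (n : k) ≠ 0) :
    Etale ((𝟙 G : G ⟶ G) ^ n).left := by
  have hu : η[G] ≫ ((𝟙 G : G ⟶ G) ^ n) = η[G] := by
    rw [MonObj.comp_pow, Category.comp_id, MonObj.one_eq_one, one_pow]
  obtain ⟨U, heU, hU⟩ := Groth.Agent.Lib.H71PowEtale.etale_nhd_one ((𝟙 G : G ⟶ G) ^ n) hu (by
    intro x hx0 hxn
    rw [MonObj.comp_pow, Category.comp_id] at hxn
    exact Groth.Agent.Lib.H71PowEtale.eq_one_of_pow_eq_one x hx0 n hn hxn)
  have hmon : IsMonHom ((𝟙 G : G ⟶ G) ^ n) := Groth.Agent.Lib.H71PowEtale.isMonHom_pow G n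
  have hlfp : LocallyOfFinitePresentation G.hom :=
    LocallyOfFinitePresentation.iff_locallyOfFiniteType.mpr inferInstance
  have hsub : Subsingleton (Spec (CommRingCat.of k)) :=
    inferInstanceAs (Subsingleton (PrimeSpectrum k))
  exact Groth.Agent.Lib.H71HomLocus.etale_of_open ((𝟙 G : G ⟶ G) ^ n) U ⟨_, heU⟩ hU

end Groth.Agent.S4112
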