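import Groth.Statements.S4135
import Groth.Agent.Lib.CoradExh58
import Groth.Agent.Lib.Eulerian58
import Groth.Agent.Lib.PrimUEA58

set_option autoImplicit false
universe u
open TensorProduct
attribute [local instance] LieRing.ofAssociativeRing
open SGA3y

namespace Groth.Agent.S4135

open Groth.Agent.Lib.CoradFilt58 Groth.Agent.Lib.Eulerian58 Groth.Agent.Lib.UEAHopf58

section Aux

variable (k : Type u) [Field k] (H : Type u) [Ring H] [Bialgebra k H]

/-- The canonical map `U(P(H)) → H`. -/
noncomputable def Phi : UniversalEnvelopingAlgebra k (SGA3y.primLie k H) →ₐ[k] H :=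
  UniversalEnvelopingAlgebra.lift k (SGA3y.primLie k H).incl

theorem Phi_ι (y : SGA3y.primLie k H) :
    Phi k H (UniversalEnvelopingAlgebra.ι k y) = y.1 := by
  unfold Phi
  rw [UniversalEnvelopingAlgebra.lift_ι_apply]
  rfl

theorem comul_prim (y : SGA3y.primLie k H) :
    Coalgebra.comul (R := k) (y.1 : H) = y.1 ⊗ₜ[k] (1 : H) + (1 : H) ⊗ₜ[k] y.1 := y.2

theorem counit_of_prim {x : H}
    (hw : Coalgebra.comul (R := k) x = x ⊗ₜ[k] (1 : H) + (1 : H) ⊗ₜ[k] x) :
    Coalgebra.counit (R := k) x = 0 := by
  have h1 := congrArg (fun t => TensorProduct.lid k H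
    ((LinearMap.rTensor H (Coalgebra.counit (R := k))) t)) hw
  rw [Coalgebra.rTensor_counit_comul] at h1
  simp only [map_add, LinearMap.rTensor_tmul, TensorProduct.lid_tmul, Bialgebra.counit_one,
    one_smul] at h1
  have h2 : Coalgebra.counit (R := k) x • (1 : H) = 0 := by
    have h5 : (0 : H) + x = Coalgebra.counit (R := k) x • (1 : H) + x := by
      rw [zero_add]
      exact h1
    exact (add_right_cancel h5).symm
  have h3 := congrArg (Coalgebra.counit (R := k)) h2
  rw [map_smul, Bialgebra.counit_one, smul_eq_mul, mul_one, map_zero] at h3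
  exact h3

theorem comul_Phi (u : UniversalEnvelopingAlgebra k (SGA3y.primLie k H)) :
    Coalgebra.comul (R := k) (Phi k H u) =
      Algebra.TensorProduct.map (Phi k H) (Phi k H) (Coalgebra.comul (R := k) u) := by
  induction u using induction_left with
  | h1 =>
    rw [map_one, Bialgebra.comul_one, Bialgebra.comul_one, map_one]
  | hadd u v hu hv => rw [map_add, map_add, hu, hv, map_add, map_add]
  | hsmul r u hu => rw [map_smul, map_smul, hu, map_smul, map_smul]
  | hmul x u hu =>
    rw [map_mul, Bialgebra.comul_mul, hu, Bialgebra.comul_mul, map_mul, Phi_ι, comul_prim,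
      comul_ι, map_add, Algebra.TensorProduct.map_tmul, Algebra.TensorProduct.map_tmul, Phi_ι,
      map_one]

theorem counit_Phi (u : UniversalEnvelopingAlgebra k (SGA3y.primLie k H)) :
    Coalgebra.counit (R := k) (Phi k H u) = Coalgebra.counit (R := k) u := by
  induction u using induction_left with
  | h1 => rw [map_one, Bialgebra.counit_one, Bialgebra.counit_one]
  | hadd u v hu hv => rw [map_add, map_add, hu, hv, map_add]
  | hsmul r u hu => rw [map_smul, map_smul, hu, map_smul]
  | hmul x u hu =>
    rw [map_mul, Bialgebra.counit_mul, Bialgebra.counit_mul, Phi_ι,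
      counit_of_prim k H (comul_prim k H x), counit_ι, zero_mul, zero_mul]

theorem exists_mem_F_U (u : UniversalEnvelopingAlgebra k (SGA3y.primLie k H)) :
    ∃ n, u ∈ F k (UniversalEnvelopingAlgebra k (SGA3y.primLie k H)) n := by
  induction u using induction_left with
  | h1 => exact ⟨0, one_mem_F k _ 0⟩
  | hadd u v hu hv =>
    obtain ⟨n, hn⟩ := hu
    obtain ⟨m, hm⟩ := hv
    exact ⟨max n m, Submodule.add_mem _ (F_mono k _ (le_max_left n m) hn)
      (F_mono k _ (le_max_right n m) hm)⟩
  | hsmul r u hu =>
    obtain ⟨n, hn⟩ := hu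
    exact ⟨n, Submodule.smul_mem _ r hn⟩
  | hmul x u hu =>
    obtain ⟨n, hn⟩ := hu
    exact ⟨n + 1, prim_mul_mem_F k _ (comul_ι k _ x) n u hn⟩

theorem map_Phi_pp (u : UniversalEnvelopingAlgebra k (SGA3y.primLie k H)) :
    TensorProduct.map (Phi k H).toLinearMap (Phi k H).toLinearMap (pp k _ u) =
      pp k H (Phi k H u) := by
  have hc := comul_Phi k H u
  rw [pp_apply, pp_apply, counit_Phi, hc]
  simp only [map_sub, map_add, map_smul, TensorProduct.map_tmul, AlgHom.toLinearMap_apply,
    map_one]
  rfl

end Aux

section Inj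

variable (k : Type u) [Field k] [CharZero k] (H : Type u) [Ring H] [Bialgebra k H]

theorem inj_aux : ∀ (n : ℕ) (u : UniversalEnvelopingAlgebra k (SGA3y.primLie k H)),
    u ∈ F k (UniversalEnvelopingAlgebra k (SGA3y.primLie k H)) n → Phi k H u = 0 → u = 0 := by
  intro n
  induction n with
  | zero =>
    intro u hu h0
    rw [F_zero, Submodule.mem_span_singleton] at hu
    obtain ⟨c, rfl⟩ := hu
    have := congrArg (Coalgebra.counit (R := k)) h0
    rw [counit_Phi, map_smul, Bialgebra.counit_one, smul_eq_mul, mul_one, map_zero] at this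
    rw [this, zero_smul]
  | succ n ih =>
    intro u hu h0
    obtain ⟨s, hs⟩ := pp_mem_map k _ hu
    have hpp0 : TensorProduct.map (Phi k H).toLinearMap (Phi k H).toLinearMap (pp k _ u) = 0 := by
      rw [map_Phi_pp, h0, map_zero]
    have hinj : Function.Injective ((Phi k H).toLinearMap ∘ₗ
        (F k (UniversalEnvelopingAlgebra k (SGA3y.primLie k H)) n).subtype) := by
      intro a b hab
      apply Subtype.ext
      apply sub_eq_zero.mp
      apply ih _ (Submodule.sub_mem _ a.2 b.2)
      rw [map_sub, sub_eq_zero]
      exact hab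
    have hs0 : s = 0 := by
      apply TensorProduct.map_injective_of_flat_flat _ _ hinj hinj
      rw [map_zero, ← map_map_apply, hs]
      exact hpp0
    have hpp : pp k _ u = 0 := by rw [← hs, hs0, map_zero]
    have hε : Coalgebra.counit (R := k) u = 0 := by
      rw [← counit_Phi, h0, map_zero]
    have hprim : Coalgebra.comul (R := k) u = u ⊗ₜ[k] 1 + 1 ⊗ₜ[k] u := by
      have := pp_apply k _ u
      rw [hpp, hε, zero_smul, add_zero] at this
      have h2 := sub_eq_zero.mp this.symm
      exact (sub_eq_iff_eq_add'.mp h2)
    obtain ⟨y, rfl⟩ := Groth.Agent.Lib.PrimUEA58.exists_of_primitive u hprim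
    rw [Phi_ι] at h0
    have : y = 0 := Subtype.ext h0
    rw [this, map_zero]

end Inj

section Surj

variable (k : Type u) [Field k] [CharZero k] (H : Type u) [Ring H] [Bialgebra k H]
  [Coalgebra.IsCocomm k H]

theorem surj_aux : ∀ (n : ℕ) (x : H), x ∈ F k H n → ∀ j, cp k H j x ∈ (Phi k H).range := by
  intro n
  induction n with
  | zero =>
    intro x hx j
    cases j with
    | zero =>
      rw [cp_zero]
      exact Subalgebra.algebraMap_mem _ _
    | succ j =>
      rw [cp_eq_zero_of_mem_F k H 0 (j + 1) x hx (Nat.succ_pos j)]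
      exact zero_mem _
  | succ n ih =>
    intro x hx
    have h0 : ∀ y : H, cp k H 0 y ∈ (Phi k H).range := by
      intro y
      rw [cp_zero]
      exact Subalgebra.algebraMap_mem _ _
    have hF : ∀ y ∈ F k H n, y ∈ (Phi k H).range := by
      intro y hy
      have h1 := ih y hy 1
      have h2 := h0 y
      rw [cp_one, piL_apply] at h1
      rw [cp_zero, LinearMap.comp_apply, Algebra.linearMap_apply] at h2
      have := add_mem h1 h2
      rwa [sub_add_cancel] at this
    have hge2 : ∀ j, cp k H (j + 2) x ∈ (Phi k H).range := by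
      intro j
      rw [cp_succ_succ_apply]
      obtain ⟨s, hs⟩ := pp_mem_map k H hx
      rw [← hs, map_map_apply]
      clear hs
      induction s using TensorProduct.induction_on with
      | zero =>
        rw [map_zero, map_zero]
        exact zero_mem _
      | tmul a b =>
        rw [TensorProduct.map_tmul, LinearMap.mul'_apply]
        exact mul_mem (ih a.1 a.2 (j + 1)) (hF b.1 b.2)
      | add a b ha hb =>
        rw [map_add, map_add]
        exact add_mem ha hb
    have he1 : e1 k H (n + 1) x ∈ (Phi k H).range := by
      have hp := e1_primitive k H hx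
      exact ⟨UniversalEnvelopingAlgebra.ι k (⟨e1 k H (n + 1) x, hp⟩ : SGA3y.primLie k H),
        Phi_ι k H _⟩
    have h1 : cp k H 1 x ∈ (Phi k H).range := by
      have hsum := e1_apply k H (n + 1) x
      rw [Finset.sum_range_succ', Finset.sum_range_succ', cE_zero, zero_smul, add_zero, cE_one,
        one_smul] at hsum
      have : cp k H 1 x = e1 k H (n + 1) x -
          ∑ i ∈ Finset.range n, cE k (i + 1 + 1) • cp k H (i + 1 + 1) x := by
        rw [hsum]
        abel
      rw [this]
      refine sub_mem he1 (sum_mem fun i _ => ?_)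
      exact Subalgebra.smul_mem _ (hge2 i) _
    intro j
    match j with
    | 0 => exact h0 x
    | 1 => exact h1
    | j + 2 => exact hge2 j

end Surj

/-- Let k be a field of characteristic zero and H a cocommutative bialgebra over k which is connected
(every nonzero subcoalgebra contains 1). Then the canonical algebra homomorphism from the universal
enveloping algebra of the Lie algebra of primitive elements of H to H is bijective. -/
theorem result (k : Type u) [Field k] [CharZero k] (H : Type u) [Ring H]
    [Bialgebra k H] [Coalgebra.IsCocomm k H] (hconn : SGA3y.IsConnectedCoalg k H) :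
    Function.Bijective (UniversalEnvelopingAlgebra.lift k (SGA3y.primLie k H).incl) := by
  constructor
  · show Function.Injective (Phi k H)
    rw [injective_iff_map_eq_zero]
    intro u hu
    obtain ⟨n, hn⟩ := exists_mem_F_U k H u
    exact inj_aux k H n u hn hu
  · intro x
    obtain ⟨n, hn⟩ := exists_mem_F k H hconn x
    have h0 := surj_aux k H n x hn 0
    have h1 := surj_aux k H n x hn 1
    rw [cp_one, piL_apply] at h1
    rw [cp_zero, LinearMap.comp_apply, Algebra.linearMap_apply] at h0
    have := add_mem h1 h0
    rwa [sub_add_cancel] at this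

end Groth.Agent.S4135
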