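import Groth.Statements.S4212
import Groth.Agent.Lib.AnClDense

set_option autoImplicit false
universe u
open An

namespace Groth.Agent.S4212

/-- For a topological space T, the topos of the site of local homeomorphisms over T is equivalent to
that of T: restriction of abelian sheaves along the inclusion of the opens of T is an equivalence of
categories. -/
theorem result (T : Type u) [TopologicalSpace T] [An.OpCont T] :
    (An.resOpens T).IsEquivalence := by
  have := Groth.Agent.Lib.AnClDense.isDenseSubsite T
  have : ∀ X, CategoryTheory.Limits.HasLimitsOfShape
      (CategoryTheory.StructuredArrow X (An.opensToCl T).op) AddCommGrpCat.{u + 1} := by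
    intro X
    have : CategoryTheory.Limits.HasLimitsOfSize.{u, u} AddCommGrpCat.{u + 1} :=
      CategoryTheory.Limits.hasLimitsOfSizeShrink.{u, u, u + 1, u + 1} _
    infer_instance
  exact CategoryTheory.Functor.IsDenseSubsite.instIsEquivalenceSheafSheafPushforwardContinuous
    (An.opensToCl T) (Opens.grothendieckTopology T) (An.Cl.topology T)

end Groth.Agent.S4212
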