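import Groth.Statements.S4243
import Mathlib.FieldTheory.Finite.Polynomial
-- import your own Groth.Agent.* helpers here

set_option autoImplicit false
open SGA4h

namespace Groth.Agent.S4243

open MvPolynomial

variable {k : Type} [Field k] [Fintype k] {σ : Type} [Fintype σ] [DecidableEq σ]

/-- If all exponents of a monomial of degree at most `q` are ... -/
theorem exponent_le_of_degree_le (q : ℕ) (s : σ →₀ ℕ) (hs : s.degree ≤ q)
    (hne : ∀ i, s ≠ Finsupp.single i q) (i : σ) : s i ≤ q - 1 := by
  by_contra hcon
  push Not at hcon
  have hq : q ≤ s i := by omega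
  rw [Finsupp.degree_eq_sum] at hs
  have h1 : s i ≤ ∑ j, s j := Finset.single_le_sum (f := fun j => s j) (fun _ _ => Nat.zero_le _)
    (Finset.mem_univ i)
  have hsi : s i = q := by omega
  have hsum : ∑ j, s j = s i := by omega
  apply hne i
  ext j
  by_cases hj : j = i
  · subst hj
    simp [hsi]
  · rw [Finsupp.single_eq_of_ne hj]
    have h2 : s i + s j ≤ ∑ l, s l := by
      have := Finset.add_sum_erase Finset.univ (fun l => s l) (Finset.mem_univ i)
      have h3 : s j ≤ ∑ l ∈ Finset.univ.erase i, s l :=
        Finset.single_le_sum (f := fun l => s l) (fun _ _ => Nat.zero_le _)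
          (Finset.mem_erase.mpr ⟨hj, Finset.mem_univ j⟩)
      omega
    omega

/-- If `P` vanishes everywhere and is homogeneous of degree `d ≤ q`, then `P = 0`. -/
theorem eq_zero_of_vanishing (d : ℕ) (P : MvPolynomial σ k) (hP : P.IsHomogeneous d)
    (hd : d ≤ Fintype.card k) (hvan : ∀ x : σ → k, MvPolynomial.eval x P = 0) : P = 0 := by
  set q := Fintype.card k with hq
  have hq2 : 2 ≤ q := Fintype.one_lt_card
  set c : σ → k := fun i => coeff (Finsupp.single i q) P with hc
  set T : MvPolynomial σ k := ∑ i, monomial (Finsupp.single i q) (c i) with hT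
  set L : MvPolynomial σ k := ∑ i, monomial (Finsupp.single i 1) (c i) with hL
  set Q : MvPolynomial σ k := P - T with hQ
  -- coefficients of T
  have hcoeffT : ∀ s : σ →₀ ℕ, coeff s T =
      ∑ i, if Finsupp.single i q = s then c i else 0 := by
    intro s
    simp only [hT, coeff_sum, coeff_monomial]
  have hcoeffT_single : ∀ j, coeff (Finsupp.single j q) T = c j := by
    intro j
    rw [hcoeffT]
    have : ∀ i, (if Finsupp.single i q = Finsupp.single j q then c i else 0) =
        if i = j then c i else 0 := by
      intro i
      have hiff : Finsupp.single i q = Finsupp.single j q ↔ i = j :=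
        Finsupp.single_left_inj (by omega)
      simp only [hiff]
    simp only [this, Finset.sum_ite_eq', Finset.mem_univ, if_true]
  have hcoeffT_other : ∀ s : σ →₀ ℕ, (∀ i, s ≠ Finsupp.single i q) → coeff s T = 0 := by
    intro s hs
    rw [hcoeffT]
    refine Finset.sum_eq_zero fun i _ => ?_
    rw [if_neg (fun h => hs i h.symm)]
  -- Q has restricted degree
  have hQres : Q ∈ restrictDegree σ k (q - 1) := by
    rw [mem_restrictDegree]
    intro s hs i
    rw [mem_support_iff] at hs
    have hne : ∀ j, s ≠ Finsupp.single j q := by
      rintro j rfl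
      apply hs
      rw [hQ, coeff_sub, hcoeffT_single]
      exact sub_self _
    have hsP : coeff s P ≠ 0 := by
      intro h0
      apply hs
      rw [hQ, coeff_sub, hcoeffT_other s hne, h0, sub_zero]
    have hdeg : s.degree = d := by
      by_contra hne'
      exact hsP (hP.coeff_eq_zero hne')
    exact exponent_le_of_degree_le q s (hdeg ▸ hd) hne i
  have hLres : L ∈ restrictDegree σ k (q - 1) := by
    refine Submodule.sum_mem _ fun i _ => ?_
    rw [mem_restrictDegree]
    intro s hs j
    have := support_monomial_subset hs
    rw [Finset.mem_singleton] at this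
    subst this
    by_cases hji : i = j
    · subst hji; simp; omega
    · rw [Finsupp.single_eq_of_ne' hji]; omega
  -- evaluation
  have hevalT : ∀ x : σ → k, eval x T = eval x L := by
    intro x
    simp only [hT, hL, map_sum, eval_monomial, Finsupp.prod_single_index, pow_zero, pow_one]
    refine Finset.sum_congr rfl fun i _ => ?_
    rw [FiniteField.pow_card]
  have hP' : Q + L = 0 := by
    refine MvPolynomial.eq_zero_of_eval_eq_zero σ k _ ?_ (Submodule.add_mem _ hQres hLres)
    intro x
    rw [map_add, hQ, map_sub, hvan, hevalT]
    ring
  -- homogeneity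
  have hThom : T.IsHomogeneous d := by
    refine IsHomogeneous.sum _ _ _ fun i _ => ?_
    by_cases hci : c i = 0
    · rw [hci, monomial_zero]; exact isHomogeneous_zero _ _ _
    · apply isHomogeneous_monomial
      by_contra hne
      apply hci
      exact hP.coeff_eq_zero hne
  have hQhom : Q.IsHomogeneous d := hP.sub hThom
  have hLhom : L.IsHomogeneous 1 := by
    refine IsHomogeneous.sum _ _ _ fun i _ => ?_
    apply isHomogeneous_monomial
    simp
  have hQL : Q = -L := eq_neg_of_add_eq_zero_left hP'
  have hL0 : L = 0 := by
    by_cases hd1 : d = 1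
    · -- all c i vanish
      have hc0 : ∀ i, c i = 0 := by
        intro i
        apply hP.coeff_eq_zero
        rw [Finsupp.degree_single]
        omega
      simp only [hL, hc0, monomial_zero, Finset.sum_const_zero]
    · by_contra hL0
      have hQ0 : Q ≠ 0 := by
        rw [hQL]; exact neg_ne_zero.mpr hL0
      have h1 : Q.IsHomogeneous 1 := by
        rw [hQL]; exact hLhom.neg
      exact hd1 (IsHomogeneous.inj_right hQhom h1 hQ0)
  have hQ0 : Q = 0 := by rw [hQL, hL0, neg_zero]
  have hc0 : ∀ i, c i = 0 := by
    intro i
    have := congrArg (coeff (Finsupp.single i 1)) hL0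
    rw [hL, coeff_sum, coeff_zero] at this
    simp only [coeff_monomial] at this
    have h2 : ∀ j, (if Finsupp.single j 1 = Finsupp.single i 1 then c j else 0) =
        if j = i then c j else 0 := by
      intro j
      have hiff : Finsupp.single j 1 = Finsupp.single i 1 ↔ j = i :=
        Finsupp.single_left_inj (by omega)
      simp only [hiff]
    simpa only [h2, Finset.sum_ite_eq', Finset.mem_univ, if_true] using this
  have hT0 : T = 0 := by
    simp only [hT, hc0, monomial_zero, Finset.sum_const_zero]
  have : P = Q + T := by rw [hQ]; ring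
  rw [this, hQ0, hT0, add_zero]

/-- Let k be a finite field with q elements and P a nonzero homogeneous polynomial of degree d in r+1
variables over k. If P vanishes at every point of k^{r+1} (that is, the hypersurface P = 0 in
projective r-space passes through every rational point), then d ≥ q + 1. -/
theorem result (k : Type) [Field k] [Fintype k] (r d : ℕ)
    (P : MvPolynomial (Fin (r + 1)) k) (hP : P.IsHomogeneous d) (hP0 : P ≠ 0)
    (hvan : ∀ x : Fin (r + 1) → k, MvPolynomial.eval x P = 0) :
    Fintype.card k + 1 ≤ d := by
  by_contra hcon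
  exact hP0 (eq_zero_of_vanishing d P hP (by omega) hvan)

end Groth.Agent.S4243
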