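import Groth.Statements.S4269
import Groth.Agent.Lib.H78Resolve
import Groth.Agent.Lib.OXModTensor

set_option autoImplicit false
universe u
open CategoryTheory CategoryTheory.Limits AlgebraicGeometry
attribute [local instance] HasDerivedCategory.standard
open KSix

namespace Groth.Agent.S4269

/-- Let X be a quasi-compact quasi-separated scheme and (L_i) an ample family of invertible O_X-modules
(the affine opens X_s, for s a global section of some L_i^{⊗ n}, n ≥ 1, cover X). Then every
quasi-coherent O_X-module of finite type F receives an epimorphism from a finite direct sum of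
modules of the form L_i^{⊗ -n} with n > 0. (The printed statement uses a single exponent n_i for
each member L_i; the form here, allowing several powers of the same member, is slightly weaker.) -/
theorem result (X : Scheme.{u}) {ι : Type u} (L : ι → X.Modules)
    (hL : KSix.IsAmpleFamily L) (F : X.Modules) (hF : Coh.IsQCoh F) (hF' : CohB1.IsFT F) :
    ∃ (M : X.Modules) (π : M ⟶ F), KSix.InAddL L M ∧ Epi π := by
  obtain ⟨hc, hqs, hinv, hcov⟩ := hL
  haveI := hc
  haveI := hqs
  choose i n s hx haff using hcov
  obtain ⟨J, hJ, pt, m, Φ, hm, hspan⟩ := Groth.Agent.Lib.H78Resolve.exists_finite_contractions F ⟨hF, hF'⟩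
    (fun x => CohB1.tensorPow (L (i x)) (n x + 1))
    (fun x => Groth.Agent.Lib.H78TensorGen.isInvertible_tensorPow (hinv (i x)) (n x + 1)) s hx haff
  haveI := hJ
  let e : J ≃ Fin (Nat.card J) := Finite.equivFin J
  let N : Fin (Nat.card J) → X.Modules := fun j =>
    RefHull.dual (CohB1.tensorPow (CohB1.tensorPow (L (i (pt (e.symm j)))) (n (pt (e.symm j)) + 1)) (m (e.symm j)))
  refine ⟨⨁ N, biproduct.desc (fun j => Φ (e.symm j)), ⟨Nat.card J, N, fun j => ?_, ⟨Iso.refl _⟩⟩, ?_⟩
  · refine ⟨i (pt (e.symm j)), (n (pt (e.symm j)) + 1) * m (e.symm j),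
      Nat.mul_pos (Nat.succ_pos _) (hm _), ⟨?_⟩⟩
    exact Groth.Agent.Lib.OXModTensor.tensorModIso (Iso.refl _)
      (Groth.Agent.Lib.OXModTensor.tensorPowMul (L (i (pt (e.symm j)))) (n (pt (e.symm j)) + 1)
        (m (e.symm j))).symm ≪≫
      Groth.Agent.Lib.H78Dual.dualTensorIso (Groth.Agent.Lib.H78TensorGen.isInvertible_tensorPow
        (Groth.Agent.Lib.H78TensorGen.isInvertible_tensorPow (hinv _) _) _)
  · refine Groth.Agent.Lib.H78Resolve.epi_desc_of_stalk_span N (fun j => Φ (e.symm j)) (fun y => ?_)
    rw [eq_top_iff, ← hspan y]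
    refine iSup_le (fun p => ?_)
    have h1 : p = e.symm (e p) := (e.symm_apply_apply p).symm
    rw [h1]
    exact le_iSup (fun j => LinearMap.range (Groth.Agent.Lib.ModStalkLin.stalkLin (Φ (e.symm j)) y)) (e p)

end Groth.Agent.S4269
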