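import Groth.Statements.S4297
import Groth.Agent.Lib.PCohLimit21B

set_option autoImplicit false
universe w v u
open CategoryTheory CategoryTheory.Limits
open PCoh

namespace Groth.Agent.S4297

/-- Punctual site: faithfulness of K⁻(C₀)/(acyclic complexes) ⟶ D(C): let C be an abelian category and
C₀ a strictly full additive subcategory, quasi-stable under kernels of epimorphisms and
quasi-liftable. If two chain maps f, g : E ⟶ E' between bounded above complexes with terms in C₀
have the same image in D(C), then there are a bounded above complex E'' with terms in C₀ and a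
quasi-isomorphism s : E'' ⟶ E such that s ≫ f and s ≫ g are homotopic. -/
theorem result {C : Type u} [Category.{v} C] [Abelian C] [HasDerivedCategory.{w} C]
    (P : ObjectProperty C) [P.IsClosedUnderIsomorphisms] [P.ContainsZero] (hsum : ∀ X Y : C, P X → P Y → P (X ⨯ Y))
    (hqs : PCoh.IsQuasiStableUnderKernels P) (hql : PCoh.IsQuasiLiftable P)
    (E E' : CochainComplex C ℤ) (hE : PCoh.IsStrictPCAll P E) (hE' : PCoh.IsStrictPCAll P E')
    (f g : E ⟶ E') (hfg : DerivedCategory.Q.map f = DerivedCategory.Q.map g) :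
    ∃ (E'' : CochainComplex C ℤ) (s : E'' ⟶ E), PCoh.IsStrictPCAll P E'' ∧ QuasiIso s ∧ Nonempty (Homotopy (s ≫ f) (s ≫ g)) := by
  have h1 : DerivedCategory.Qh.map ((HomotopyCategory.quotient C (ComplexShape.up ℤ)).map f) =
      DerivedCategory.Qh.map ((HomotopyCategory.quotient C (ComplexShape.up ℤ)).map g) := by
    have hn := fun {K L : CochainComplex C ℤ} (a : K ⟶ L) =>
      (DerivedCategory.quotientCompQhIso C).hom.naturality a
    have hf := hn f
    have hg := hn g
    rw [hfg] at hf
    have := hf.trans hg.symm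
    rw [cancel_mono] at this
    exact this
  obtain ⟨Z, s, hs, fac⟩ := (MorphismProperty.map_eq_iff_precomp DerivedCategory.Qh
    (HomotopyCategory.quasiIso C (ComplexShape.up ℤ)) _ _).1 h1
  obtain ⟨G, rfl⟩ := HomotopyCategory.quotient_obj_surjective Z
  obtain ⟨s, rfl⟩ := (HomotopyCategory.quotient _ _).map_surjective s
  have hs' : QuasiIso s := (HomotopyCategory.quotient_map_mem_quasiIso_iff s).1 hs
  have hh : Homotopy (s ≫ f) (s ≫ g) := HomotopyCategory.homotopyOfEq _ _ (by
    rw [Functor.map_comp, Functor.map_comp]; exact fac)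
  have : IsIso (DerivedCategory.Q.map s) := (DerivedCategory.isIso_Q_map_iff_quasiIso C s).2 hs'
  have hG : PCoh.IsPC P (DerivedCategory.Q.obj G) :=
    Groth.Agent.Lib.PCohLimit21.isPC_of_iso P (asIso (DerivedCategory.Q.map s)).symm
      (Groth.Agent.Lib.PCohLimit21.isPC_Q_of_isStrictPCAll P hE)
  obtain ⟨m, hm⟩ := Groth.Agent.Lib.PCohLimit21.exists_bound_homology P G hG
  obtain ⟨E'', t, hE'', ht, -⟩ :=
    Groth.Agent.Lib.PCohLimit21.exists_strictPCAll_quasiIso P hsum hqs hql G hG m hm
  refine ⟨E'', t ≫ s, hE'', inferInstance, ?_⟩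
  rw [Category.assoc, Category.assoc]
  exact ⟨hh.compLeft t⟩

end Groth.Agent.S4297
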