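import Groth.Statements.S4329
import Groth.Agent.Lib.KInjComp31
import Groth.Agent.S0481
import Groth.Agent.S0101

set_option autoImplicit false
universe u
open CategoryTheory CategoryTheory.Limits AlgebraicGeometry Opposite
attribute [local instance] HasDerivedCategory.standard
open EtSix

namespace Groth.Agent.S4329

/-- Composition of derived direct images: for the small etale sites of schemes and abelian sheaves: let
f : X -> Y and g : Y -> Z be morphisms of schemes and assume the unbounded derived direct images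
Rf_*, Rg_* and R(g ∘ f)_* exist (they do; the existence is recorded as instance hypotheses). Then
the canonical morphism R(g ∘ f)_* -> Rg_* ∘ Rf_* of functors D(X_et) -> D(Z_et), induced by (g ∘
f)_* ≅ g_* ∘ f_* through the universal property of R(g ∘ f)_* as a right derived functor, is an
isomorphism. -/
theorem result {X Y Z : Scheme.{u}} (f : X ⟶ Y) (g : Y ⟶ Z)
    [DCoh.HasRpushEt X f] [DCoh.HasRpushEt Y g] [DCoh.HasRpushEt X (f ≫ g)] :
    IsIso (EtSix.compMap f g) := by
  have hKinjX : ∀ K : CochainComplex (EtCoh.Ab X) ℤ, ∃ (I : CochainComplex (EtCoh.Ab X) ℤ)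
      (f : K ⟶ I), I.IsKInjective ∧ QuasiIso f := fun K => by
    obtain ⟨I, f, h1, h2, -, -⟩ := Groth.Agent.KInjMain31.exists_kinjective_resolution K
    exact ⟨I, f, h1, h2⟩
  have hKinjY : ∀ K : CochainComplex (EtCoh.Ab Y) ℤ, ∃ (I : CochainComplex (EtCoh.Ab Y) ℤ)
      (f : K ⟶ I), I.IsKInjective ∧ QuasiIso f := fun K => by
    obtain ⟨I, f, h1, h2, -, -⟩ := Groth.Agent.KInjMain31.exists_kinjective_resolution K
    exact ⟨I, f, h1, h2⟩
  apply Groth.Agent.KInjComp31.isIso_natTrans_of_kinj hKinjX
  intro I hI
  have hfI : CochainComplex.IsKInjective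
      (((EtCoh.push f).mapHomologicalComplex (ComplexShape.up ℤ)).obj I) := by
    have h1 : PreservesFiniteLimits (EtCoh.pull f) := Groth.Agent.S0101.result f
    have h2 : PreservesFiniteColimits (EtCoh.pull f) := by
      have : PreservesColimitsOfSize.{0, 0} (EtCoh.pull f) :=
        (EtCoh.pullPushAdj f).leftAdjoint_preservesColimits
      exact PreservesColimitsOfSize.preservesFiniteColimits _
    exact Groth.Agent.S0481.result (EtCoh.push f) (EtCoh.pull f) (EtCoh.pullPushAdj f) I hI
  have fac := Functor.rightDerived_fac_app (DCoh.RpushEt X (f ≫ g))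
    ((DCoh.pushEtKh X (f ≫ g)).totalRightDerivedUnit DerivedCategory.Qh
      (HomotopyCategory.quasiIso (EtCoh.Ab X) (ComplexShape.up ℤ)))
    (HomotopyCategory.quasiIso (EtCoh.Ab X) (ComplexShape.up ℤ))
    (DCoh.RpushEt X f ⋙ DCoh.RpushEt Y g) (compUnit f g)
    ((HomotopyCategory.quotient _ (.up ℤ)).obj I)
  have i1 := Groth.Agent.KInjComp31.isIso_totalRightDerivedUnit_app hKinjX
    (DCoh.pushEtKh X (f ≫ g)) I
  have i2 := Groth.Agent.KInjComp31.isIso_totalRightDerivedUnit_app hKinjX
    (DCoh.pushEtKh X f) I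
  have i3 := Groth.Agent.KInjComp31.isIso_totalRightDerivedUnit_app hKinjY
    (DCoh.pushEtKh Y g) (((EtCoh.push f).mapHomologicalComplex (ComplexShape.up ℤ)).obj I)
  have i4 : IsIso ((compUnit f g).app ((HomotopyCategory.quotient _ (.up ℤ)).obj I)) := by
    dsimp only [compUnit]
    simp only [NatTrans.comp_app, Functor.whiskerRight_app, Functor.whiskerLeft_app,
      Functor.associator_hom_app, Functor.associator_inv_app, Category.id_comp, Category.comp_id]
    have j1 : IsIso ((NatTrans.mapHomotopyCategory (EtCoh.pushComp g f).inv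
        (ComplexShape.up ℤ)).app ((HomotopyCategory.quotient _ (.up ℤ)).obj I)) :=
      inferInstance
    have j3 : IsIso ((DCoh.RpushEt Y g).map
        (((DCoh.pushEtKh X f).totalRightDerivedUnit DerivedCategory.Qh
          (HomotopyCategory.quasiIso (EtCoh.Ab X) (ComplexShape.up ℤ))).app
            ((HomotopyCategory.quotient _ (.up ℤ)).obj I))) := inferInstance
    have j2 : IsIso (((DCoh.pushEtKh Y g).totalRightDerivedUnit DerivedCategory.Qh
        (HomotopyCategory.quasiIso (EtCoh.Ab Y) (ComplexShape.up ℤ))).app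
        (((EtCoh.push f).mapHomotopyCategory (ComplexShape.up ℤ)).obj
          ((HomotopyCategory.quotient _ (.up ℤ)).obj I))) := i3
    infer_instance
  rw [← fac] at i4
  exact @IsIso.of_isIso_comp_left _ _ _ _ _ _ _ i1 i4

end Groth.Agent.S4329
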