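import Groth.Statements.S4333
import Groth.Agent.Lib.RDPlusAdj31
import Groth.Agent.Lib.LanExact
import Mathlib.Algebra.Category.ModuleCat.AB

set_option autoImplicit false
universe u
open CategoryTheory CategoryTheory.Limits AlgebraicGeometry Opposite
attribute [local instance] HasDerivedCategory.standard
open EtSix

namespace Groth.Agent.S4333

/-- The inverse image of étale sheaves of `Λ`-modules is left exact. -/
theorem preservesFiniteLimits_pull (Λ : Type (u + 1)) [CommRing Λ] {Y Y' : Scheme.{u}} (g : Y' ⟶ Y) :
    PreservesFiniteLimits (EtModW.pull Λ g) := by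
  have hAB : AB5OfSize.{u, u + 1} (ModuleCat.{u + 1} Λ) :=
    AB5OfSize_of_univLE.{u, u + 1, u + 1, u + 1} (ModuleCat.{u + 1} Λ)
  have hfilt : ∀ K : (Y'.Etale)ᵒᵖ, IsFiltered (CostructuredArrow (EtCoh.bc g).op K) := fun K =>
    IsFiltered.of_equivalence (structuredArrowOpEquivalence (EtCoh.bc g) (unop K))
  have : PreservesFiniteLimits ((EtCoh.bc g).op.lan :
      ((Y.Etale)ᵒᵖ ⥤ ModuleCat.{u + 1} Λ) ⥤ (Y'.Etale)ᵒᵖ ⥤ ModuleCat.{u + 1} Λ) :=
    Groth.Agent.Lib.LanExact.preservesFiniteLimits_lan (EtCoh.bc g).op
  exact Functor.sheafPullbackConstruction.preservesFiniteLimits (EtCoh.bc g) (ModuleCat.{u + 1} Λ)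
    Y.smallEtaleTopology Y'.smallEtaleTopology

/-- Derived functors of adjoint functors are adjoint: for the inverse and direct image of sheaves of
Λ-modules along a morphism of schemes g : Y' -> Y, on bounded-below derived categories: there is an
adjunction R⁺g^* ⊣ R⁺g_* between the bounded-below right derived functors of g^* and of g_*
(computed with injective resolutions). This is the bounded-below variant of the published statement
Lg^* ⊣ Rg_* on unbounded derived categories, with the bounded-below right derived functor of the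
exact functor g^* (the functor g^* induces on D⁺) standing in for Lg^*. -/
theorem result (Λ : Type (u + 1)) [CommRing Λ] {Y Y' : Scheme.{u}} (g : Y' ⟶ Y) :
    Nonempty ((EtModW.pull Λ g).rightDerivedFunctorPlus ⊣ (EtModW.push Λ g).rightDerivedFunctorPlus) := by
  have adj : EtModW.pull Λ g ⊣ EtModW.push Λ g :=
    Functor.sheafAdjunctionContinuous (EtCoh.bc g) (ModuleCat.{u + 1} Λ)
      Y.smallEtaleTopology Y'.smallEtaleTopology
  have : PreservesFiniteLimits (EtModW.pull Λ g) := preservesFiniteLimits_pull Λ g
  have : PreservesFiniteColimits (EtModW.pull Λ g) :=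
    ⟨fun _ _ _ => adj.leftAdjoint_preservesColimits.preservesColimitsOfShape⟩
  exact Groth.Agent.RDPlus31.nonempty_derivedAdjunction adj

end Groth.Agent.S4333
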