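import Groth.Statements.S4337
import Groth.Agent.Lib.AdmissibleUnits
import Mathlib.RingTheory.Nakayama
import Mathlib.LinearAlgebra.TensorProduct.Quotient
import Mathlib.LinearAlgebra.TensorProduct.RightExactness

set_option autoImplicit false
universe u
open LinTop

namespace Groth.Agent.S4337

/-- Let A be an admissible ring, J an ideal of definition, and u : M -> N a homomorphism of A-modules
with N of finite type. Then u is surjective if and only if u tensored with A/J is surjective. -/
theorem result
    (A : Type u) [CommRing A] [UniformSpace A] [IsUniformAddGroup A] [IsTopologicalRing A]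
    (hA : LinTop.IsAdmissible A) (J : Ideal A) (hJ : LinTop.IsIdealOfDefinition A J)
    (M N : Type u) [AddCommGroup M] [Module A M] [AddCommGroup N] [Module A N] [Module.Finite A N]
    (u : M →ₗ[A] N) :
    Function.Surjective u ↔ Function.Surjective (u.rTensor (A ⧸ J)) := by
  refine ⟨fun h => LinearMap.rTensor_surjective _ h, fun h => ?_⟩
  rw [← LinearMap.range_eq_top, eq_top_iff]
  refine Submodule.le_of_le_smul_of_le_jacobson_bot (I := J) Module.Finite.fg_top
    (Groth.Agent.Lib.AdmissibleUnits.le_jacobson_bot A hA J hJ) ?_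
  intro n _
  obtain ⟨t, ht⟩ := h (n ⊗ₜ[A] (1 : A ⧸ J))
  obtain ⟨m, hm⟩ := Submodule.Quotient.mk_surjective _
    (TensorProduct.tensorQuotEquivQuotSMul M J t)
  have ht' : t = m ⊗ₜ[A] (1 : A ⧸ J) := by
    rw [← TensorProduct.tensorQuotEquivQuotSMul_symm_mk, hm, LinearEquiv.symm_apply_apply]
  rw [ht', LinearMap.rTensor_tmul] at ht
  have h2 := congrArg (TensorProduct.tensorQuotEquivQuotSMul N J) ht
  rw [← map_one (Ideal.Quotient.mk J), TensorProduct.tensorQuotEquivQuotSMul_tmul_mk,
    TensorProduct.tensorQuotEquivQuotSMul_tmul_mk, one_smul, one_smul,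
    eq_comm, Submodule.Quotient.eq] at h2
  have : n = u m + (n - u m) := by abel
  rw [this]
  exact Submodule.add_mem_sup (LinearMap.mem_range_self u m) h2

end Groth.Agent.S4337
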