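import Groth.Statements.S4338
import Groth.Agent.Lib.AdmissibleUnits
import Groth.Agent.Lib.AdicClosed
import Mathlib.Topology.Algebra.InfiniteSum.NatInt

set_option autoImplicit false
universe u
open LinTop

namespace Groth.Agent.S4338

open Filter Topology

/-- A sequence with `x k ∈ J ^ k` (J an ideal of definition) tends to zero. -/
lemma tendsto_zero_of_mem_pow (A : Type u) [CommRing A] [TopologicalSpace A] (J : Ideal A)
    (hJ : LinTop.IsIdealOfDefinition A J) (x : ℕ → A) (hx : ∀ k, x k ∈ J ^ k) :
    Tendsto x atTop (𝓝 0) := by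
  rw [tendsto_def]
  intro U hU
  obtain ⟨n, -, hn⟩ := hJ.2 U hU
  rw [mem_atTop_sets]
  exact ⟨n, fun m hm => hn (Ideal.pow_le_pow_right hm (hx m))⟩

lemma summable_of_mem_pow (A : Type u) [CommRing A] [UniformSpace A] [IsUniformAddGroup A]
    [IsTopologicalRing A] (hA : LinTop.IsAdmissible A) (J : Ideal A)
    (hJ : LinTop.IsIdealOfDefinition A J) (x : ℕ → A) (hx : ∀ k, x k ∈ J ^ k) :
    Summable x := by
  obtain ⟨⟨hlin, -⟩, hT2, hcomp⟩ := hA
  have := Groth.Agent.Lib.AdmissibleUnits.nonarchimedeanAddGroup A
  apply NonarchimedeanAddGroup.summable_of_tendsto_cofinite_zero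
  rw [Nat.cofinite_eq_atTop]
  exact tendsto_zero_of_mem_pow A J hJ x hx

/-- For a finitely generated ideal. Let A be an admissible ring and I a finitely generated ideal
contained in an ideal of definition of A. Then A is separated and complete for the I-adic topology.
(The published statement has no finiteness hypothesis on I and is then not correct: the completion
of a polynomial ring in countably many variables over a field along the ideal generated by the
variables, with its inverse-limit topology, is admissible, the kernel of its projection onto the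
field is an ideal of definition, and the ring is not adically complete for that kernel.) -/
theorem result
    (A : Type u) [CommRing A] [UniformSpace A] [IsUniformAddGroup A] [IsTopologicalRing A]
    (hA : LinTop.IsAdmissible A) (J : Ideal A) (hJ : LinTop.IsIdealOfDefinition A J)
    (I : Ideal A) (hI : I.FG) (hIJ : I ≤ J) :
    IsAdicComplete I A := by
  have hT2 : T2Space A := hA.2.1
  have hpow : ∀ k, I ^ k ≤ J ^ k := fun k => Ideal.pow_right_mono hIJ k
  have htop : ∀ n : ℕ, (I ^ n • ⊤ : Submodule A A) = I ^ n := fun n => by
    rw [smul_eq_mul, Ideal.mul_top]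
  refine { haus' := ?_, prec' := ?_ }
  · intro x hx
    by_contra hne
    have hU : ({x}ᶜ : Set A) ∈ 𝓝 (0 : A) :=
      isOpen_compl_singleton.mem_nhds (by simpa using Ne.symm hne)
    obtain ⟨n, -, hn⟩ := hJ.2 _ hU
    have h1 : x ∈ I ^ n := by
      have := hx n
      rw [SModEq.sub_mem, sub_zero, htop] at this
      exact this
    exact hn (hpow n h1) rfl
  · intro f hf
    -- differences
    have hg : ∀ k, f (k + 1) - f k ∈ I ^ k := by
      intro k
      have := (hf (Nat.le_succ k)).symm
      rw [SModEq.sub_mem, htop] at this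
      exact this
    have hgsum : Summable (fun k => f (k + 1) - f k) :=
      summable_of_mem_pow A hA J hJ _ (fun k => hpow k (hg k))
    let L : A := f 0 + ∑' k, (f (k + 1) - f k)
    have hfL : Tendsto f atTop (𝓝 L) := by
      have h1 := hgsum.hasSum.tendsto_sum_nat
      have h2 : ∀ n, ∑ i ∈ Finset.range n, (f (i + 1) - f i) = f n - f 0 :=
        fun n => Finset.sum_range_sub f n
      simp only [h2] at h1
      have h3 := h1.const_add (f 0)
      simpa using h3
    refine ⟨L, fun N => ?_⟩
    rw [SModEq.sub_mem, htop]
    -- generators of I ^ N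
    obtain ⟨r, b, hb⟩ := (Submodule.fg_iff_exists_fin_generating_family).1 (hI.pow (n := N))
    have hb' : Ideal.span (Set.range b) = I ^ N := hb
    have hc : ∀ k, ∃ c : Fin r → A, (∀ j, c j ∈ I ^ k) ∧
        f (N + k + 1) - f (N + k) = ∑ j, b j • c j := by
      intro k
      have h1 : f (N + k + 1) - f (N + k) ∈ I ^ (N + k) := hg (N + k)
      rw [pow_add, ← hb', ← smul_eq_mul] at h1
      exact (Groth.Agent.Lib.AdicClosed.mem_span_range_smul_iff b (I ^ k) _).1 h1
    choose c hcmem hcsum using hc
    have hcsummable : ∀ j, Summable (fun k => c k j) := fun j =>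
      summable_of_mem_pow A hA J hJ _ (fun k => hpow k (hcmem k j))
    -- partial sums
    have hP : ∀ j, Tendsto (fun K => ∑ k ∈ Finset.range K, c k j) atTop
        (𝓝 (∑' k, c k j)) := fun j => (hcsummable j).hasSum.tendsto_sum_nat
    have hlim1 : Tendsto (fun K => ∑ j, b j * ∑ k ∈ Finset.range K, c k j) atTop
        (𝓝 (∑ j, b j * ∑' k, c k j)) :=
      tendsto_finsetSum _ (fun j _ => (hP j).const_mul (b j))
    have heq : ∀ K, ∑ j, b j * ∑ k ∈ Finset.range K, c k j = f (N + K) - f N := by
      intro K
      simp only [Finset.mul_sum]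
      rw [Finset.sum_comm]
      have : ∀ k, ∑ j, b j * c k j = f (N + k + 1) - f (N + k) := fun k => by
        rw [hcsum k]; simp [smul_eq_mul]
      simp only [this]
      exact Finset.sum_range_sub (fun k => f (N + k)) K
    simp only [heq] at hlim1
    have hlim2 : Tendsto (fun K => f (N + K) - f N) atTop (𝓝 (L - f N)) := by
      have : Tendsto (fun K => f (N + K)) atTop (𝓝 L) :=
        hfL.comp (tendsto_atTop_mono (fun K => Nat.le_add_left K N) tendsto_id)
      exact this.sub_const (f N)
    have hL : L - f N = ∑ j, b j * ∑' k, c k j := tendsto_nhds_unique hlim2 hlim1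
    have hmem : L - f N ∈ I ^ N := by
      rw [hL, ← hb']
      exact Submodule.sum_mem _ fun j _ =>
        Ideal.mul_mem_right _ _ (Ideal.subset_span ⟨j, rfl⟩)
    have : f N - L = -(L - f N) := by ring
    rw [this]
    exact (I ^ N).neg_mem hmem

end Groth.Agent.S4338
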