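import Groth.Statements.S4340
import Groth.Agent.Lib.QCohStalk

set_option autoImplicit false
universe u
open QCohSup

namespace Groth.Agent.S4340

open AlgebraicGeometry CategoryTheory Opposite TopologicalSpace Groth.Agent.Lib.QCohStalk in
lemma aux (X : Scheme.{u}) [CompactSpace X] (f : Γ(X, ⊤)) (F : X.Modules) [F.IsQuasicoherent]
    (s : Γ(F, ⊤)) (hs : res F (le_top : X.basicOpen f ≤ ⊤) s = 0) :
    ∃ n : ℕ, 0 < n ∧ f ^ n • s = 0 := by
  have hloc : ∀ U : X.affineOpens, ∃ n : ℕ,
      (resO X (le_top : U.1 ≤ ⊤) f) ^ n • res F (le_top : U.1 ≤ ⊤) s = 0 := by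
    intro U
    apply exists_pow_smul_eq_zero F U.2
    have hle : X.basicOpen (resO X (le_top : U.1 ≤ ⊤) f) ≤ X.basicOpen f := by
      rw [show X.basicOpen (resO X (le_top : U.1 ≤ ⊤) f) = U.1 ⊓ X.basicOpen f from
        Scheme.basicOpen_res _ _ _]
      exact inf_le_right
    rw [res_res]
    have h2 : res F hle (res F (le_top : X.basicOpen f ≤ ⊤) s) = 0 := by rw [hs, res_zero]
    rw [res_res] at h2
    exact h2
  choose n hn using hloc
  obtain ⟨t, ht⟩ := isCompact_univ.elim_finite_subcover
    (fun U : X.affineOpens => ((U.1 : X.Opens) : Set X)) (fun U => U.1.isOpen) (by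
      intro x _
      have : x ∈ (⨆ i : X.affineOpens, (i : X.Opens)) := by
        rw [iSup_affineOpens_eq_top]; trivial
      obtain ⟨U, hU⟩ := Opens.mem_iSup.mp this
      exact Set.mem_iUnion.mpr ⟨U, hU⟩)
  refine ⟨t.sup n + 1, Nat.succ_pos _, ?_⟩
  apply TopCat.Presheaf.section_ext ⟨F.presheaf, F.isSheaf⟩ ⊤ _ 0
  intro x hx
  obtain ⟨U, hUt, hxU⟩ : ∃ U ∈ t, x ∈ (U.1 : X.Opens) := by
    have := ht (Set.mem_univ x)
    simpa using this
  rw [map_zero]
  rw [← germ_res F (le_top : U.1 ≤ ⊤) x hxU, res_smul, resO_pow]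
  have hle : n U ≤ t.sup n + 1 := (Finset.le_sup hUt).trans (Nat.le_succ _)
  obtain ⟨d, hd⟩ := Nat.exists_eq_add_of_le hle
  rw [hd, pow_add, mul_comm, mul_smul, hn U, smul_zero, map_zero]

open AlgebraicGeometry in
open CategoryTheory in
open Opposite in
/-- Case of the trivial invertible sheaf. Let X be a quasi-compact scheme, f a global section of O_X, F
a quasi-coherent O_X-module and s a global section of F that restricts to zero on X_f. Then f^n s =
0 for some n > 0. (The published statement assumes X with Noetherian underlying space, or separated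
and quasi-compact; for this part only quasi-compactness is used.) -/
theorem result
    (X : Scheme.{u}) [CompactSpace X] (f : Γ(X, ⊤)) (F : X.Modules) [Coh.IsQCoh F]
    (s : F.val.obj (op ⊤))
    (hs : (F.val.map (homOfLE (le_top : X.basicOpen f ≤ ⊤)).op).hom s = 0) :
    ∃ n : ℕ, 0 < n ∧ (show X.ringCatSheaf.obj.obj (op ⊤) from f) ^ n • s = 0 := by
  have : F.IsQuasicoherent := ‹Coh.IsQCoh F›
  exact aux X f F s hs

end Groth.Agent.S4340
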