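import Groth.Statements.S4341
import Groth.Agent.Lib.QCohStalk
import Mathlib.Topology.Sheaves.SheafCondition.UniqueGluing
import Mathlib.Topology.QuasiSeparated

set_option autoImplicit false
universe u
open QCohSup

namespace Groth.Agent.S4341

open AlgebraicGeometry CategoryTheory Opposite TopologicalSpace Groth.Agent.Lib.QCohStalk

variable {X : Scheme.{u}}

lemma res_sub (F : X.Modules) {V U : X.Opens} (h : V ≤ U) (a b : Γ(F, U)) :
    res F h (a - b) = res F h a - res F h b :=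
  map_sub (F.presheaf.map (homOfLE h).op).hom a b

lemma exists_pow_smul_eq_zero_of_isCompact (F : X.Modules) [F.IsQuasicoherent] (U : X.Opens)
    (hU : IsCompact (U : Set X)) (f : Γ(X, U)) (s : Γ(F, U))
    (hs : res F (X.basicOpen_le f) s = 0) : ∃ n : ℕ, f ^ n • s = 0 := by
  have hloc : ∀ V : {V : X.affineOpens // V.1 ≤ U}, ∃ n : ℕ,
      (resO X V.2 f) ^ n • res F V.2 s = 0 := by
    intro V
    apply exists_pow_smul_eq_zero F V.1.2
    have hle : X.basicOpen (resO X V.2 f) ≤ X.basicOpen f := by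
      rw [show X.basicOpen (resO X V.2 f) = V.1.1 ⊓ X.basicOpen f from Scheme.basicOpen_res _ _ _]
      exact inf_le_right
    rw [res_res]
    have h2 : res F hle (res F (X.basicOpen_le f) s) = 0 := by rw [hs, res_zero]
    rw [res_res] at h2
    exact h2
  choose n hn using hloc
  obtain ⟨t, ht⟩ := hU.elim_finite_subcover
    (fun V : {V : X.affineOpens // V.1 ≤ U} => ((V.1.1 : X.Opens) : Set X))
    (fun V => V.1.1.isOpen) (by
      intro x hx
      obtain ⟨_, ⟨V, hV, rfl⟩, hxV, hVU⟩ :=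
        X.isBasis_affineOpens.exists_subset_of_mem_open hx U.2
      exact Set.mem_iUnion.mpr ⟨⟨⟨V, hV⟩, hVU⟩, hxV⟩)
  refine ⟨t.sup n, ?_⟩
  apply TopCat.Presheaf.section_ext ⟨F.presheaf, F.isSheaf⟩ U _ 0
  intro x hx
  obtain ⟨V, hVt, hxV⟩ : ∃ V ∈ t, x ∈ (V.1.1 : X.Opens) := by
    have := ht hx
    simpa using this
  rw [map_zero]
  rw [← germ_res F V.2 x hxV, res_smul, resO_pow]
  have hle : n V ≤ t.sup n := Finset.le_sup hVt
  obtain ⟨d, hd⟩ := Nat.exists_eq_add_of_le hle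
  rw [hd, pow_add, mul_comm, mul_smul, hn V, smul_zero, map_zero]

lemma aux (X : Scheme.{u}) [CompactSpace X] [QuasiSeparatedSpace X] (f : Γ(X, ⊤))
    (F : X.Modules) [F.IsQuasicoherent] (t : Γ(F, X.basicOpen f)) :
    ∃ n : ℕ, 0 < n ∧ ∃ s : Γ(F, ⊤),
      res F (le_top : X.basicOpen f ≤ ⊤) s =
        (resO X (le_top : X.basicOpen f ≤ ⊤) f) ^ n • t := by
  have hD : ∀ U : X.Opens, X.basicOpen (resO X (le_top : U ≤ ⊤) f) = U ⊓ X.basicOpen f :=
    fun U => Scheme.basicOpen_res _ _ _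
  have hDf : ∀ U : X.Opens, X.basicOpen (resO X (le_top : U ≤ ⊤) f) ≤ X.basicOpen f :=
    fun U => (hD U).le.trans inf_le_right
  have hDU : ∀ U : X.Opens, X.basicOpen (resO X (le_top : U ≤ ⊤) f) ≤ U :=
    fun U => X.basicOpen_le _
  -- local extension on affine opens
  have h2 : ∀ U : X.affineOpens, ∃ (n : ℕ) (s : Γ(F, U.1)),
      (resO X (le_top : X.basicOpen (resO X (le_top : U.1 ≤ ⊤) f) ≤ ⊤) f) ^ n •
        res F (hDf U.1) t = res F (hDU U.1) s := by
    intro U
    obtain ⟨n, s, h⟩ := exists_pow_smul_eq_res F U.2 (resO X le_top f) (res F (hDf U.1) t)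
    refine ⟨n, s, ?_⟩
    rw [resO_resO] at h
    exact h
  choose n s hns using h2
  obtain ⟨T, hT⟩ := isCompact_univ.elim_finite_subcover
    (fun U : X.affineOpens => ((U.1 : X.Opens) : Set X)) (fun U => U.1.isOpen) (by
      intro x _
      have : x ∈ (⨆ i : X.affineOpens, (i : X.Opens)) := by
        rw [iSup_affineOpens_eq_top]; trivial
      obtain ⟨U, hU⟩ := Opens.mem_iSup.mp this
      exact Set.mem_iUnion.mpr ⟨U, hU⟩)
  have hTcov : ∀ x : X, ∃ U ∈ T, x ∈ (U.1 : X.Opens) := by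
    intro x
    have := hT (Set.mem_univ x)
    simpa using this
  let N := T.sup n + 1
  obtain ⟨s', hs'def⟩ : ∃ s' : ∀ U : X.affineOpens, Γ(F, U.1),
      ∀ U, s' U = (resO X (le_top : U.1 ≤ ⊤) f) ^ (N - n U) • s U := ⟨_, fun _ => rfl⟩
  have hs' : ∀ U ∈ T, res F (hDU U.1) (s' U) =
      (resO X (le_top : X.basicOpen (resO X (le_top : U.1 ≤ ⊤) f) ≤ ⊤) f) ^ N •
        res F (hDf U.1) t := by
    intro U hU
    have hle : n U ≤ N := (Finset.le_sup hU).trans (Nat.le_succ _)
    rw [hs'def, res_smul, resO_pow, resO_resO, ← hns U, ← mul_smul, ← pow_add, Nat.sub_add_cancel hle]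
  -- overlaps
  have hW : ∀ U V : X.affineOpens, ∃ m : ℕ,
      (resO X (le_top : U.1 ⊓ V.1 ≤ ⊤) f) ^ m •
        (res F (inf_le_left : U.1 ⊓ V.1 ≤ U.1) (s' U) -
          res F (inf_le_right : U.1 ⊓ V.1 ≤ V.1) (s' V)) = 0 ∨ ¬ (U ∈ T ∧ V ∈ T) := by
    intro U V
    by_cases hUV : U ∈ T ∧ V ∈ T
    · obtain ⟨hU, hV⟩ := hUV
      have hcomp : IsCompact ((U.1 ⊓ V.1 : X.Opens) : Set X) :=
        QuasiSeparatedSpace.inter_isCompact _ _ U.1.isOpen U.2.isCompact V.1.isOpen V.2.isCompact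
      obtain ⟨m, hm⟩ := exists_pow_smul_eq_zero_of_isCompact F (U.1 ⊓ V.1) hcomp
        (resO X (le_top : U.1 ⊓ V.1 ≤ ⊤) f)
        (res F (inf_le_left : U.1 ⊓ V.1 ≤ U.1) (s' U) -
          res F (inf_le_right : U.1 ⊓ V.1 ≤ V.1) (s' V)) (by
        have hWU : X.basicOpen (resO X (le_top : U.1 ⊓ V.1 ≤ ⊤) f) ≤
            X.basicOpen (resO X (le_top : U.1 ≤ ⊤) f) := by
          rw [hD, hD]; exact inf_le_inf_right _ inf_le_left
        have hWV : X.basicOpen (resO X (le_top : U.1 ⊓ V.1 ≤ ⊤) f) ≤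
            X.basicOpen (resO X (le_top : V.1 ≤ ⊤) f) := by
          rw [hD, hD]; exact inf_le_inf_right _ inf_le_right
        rw [res_sub, res_res, res_res]
        have e1 : res F ((X.basicOpen_le _).trans inf_le_left) (s' U) =
            res F hWU (res F (hDU U.1) (s' U)) := by rw [res_res]
        have e2 : res F ((X.basicOpen_le _).trans inf_le_right) (s' V) =
            res F hWV (res F (hDU V.1) (s' V)) := by rw [res_res]
        rw [e1, e2, hs' U hU, hs' V hV, res_smul, res_smul, res_res, res_res, resO_pow, resO_pow,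
          resO_resO, resO_resO, sub_self])
      exact ⟨m, Or.inl hm⟩
    · exact ⟨0, Or.inr hUV⟩
  choose m hm using hW
  let M := (T ×ˢ T).sup (fun p => m p.1 p.2)
  obtain ⟨s'', hs''def⟩ : ∃ s'' : ∀ U : X.affineOpens, Γ(F, U.1),
      ∀ U, s'' U = (resO X (le_top : U.1 ≤ ⊤) f) ^ M • s' U := ⟨_, fun _ => rfl⟩
  have hcompat : ∀ U ∈ T, ∀ V ∈ T, res F (inf_le_left : U.1 ⊓ V.1 ≤ U.1) (s'' U) =
      res F (inf_le_right : U.1 ⊓ V.1 ≤ V.1) (s'' V) := by
    intro U hU V hV
    have hmUV := (hm U V).resolve_right (not_not.mpr ⟨hU, hV⟩)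
    have hle : m U V ≤ M :=
      Finset.le_sup (f := fun p : X.affineOpens × X.affineOpens => m p.1 p.2)
        (Finset.mk_mem_product hU hV)
    obtain ⟨d, hd⟩ := Nat.exists_eq_add_of_le hle
    rw [hs''def, hs''def, res_smul, res_smul, resO_pow, resO_pow, resO_resO, resO_resO, ← sub_eq_zero, ← smul_sub,
      hd, pow_add, mul_comm, mul_smul, hmUV, smul_zero]
  -- gluing
  let Fs : TopCat.Sheaf Ab X := ⟨F.presheaf, F.isSheaf⟩
  obtain ⟨g, hg, -⟩ := Fs.existsUnique_gluing' (fun i : T => i.1.1) ⊤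
    (fun i => homOfLE le_top) (by
      intro x _
      obtain ⟨U, hU, hxU⟩ := hTcov x
      exact Opens.mem_iSup.mpr ⟨⟨U, hU⟩, hxU⟩)
    (fun i => s'' i.1) (by
      intro i j
      exact hcompat i.1 i.2 j.1 j.2)
  have hg' : ∀ U (hU : U ∈ T), res F (le_top : U.1 ≤ ⊤) g = s'' U := fun U hU => hg ⟨U, hU⟩
  refine ⟨N + M, by omega, g, ?_⟩
  apply TopCat.Presheaf.section_ext Fs (X.basicOpen f)
  intro x hx
  obtain ⟨U, hU, hxU⟩ := hTcov x
  have hxD : x ∈ X.basicOpen (resO X (le_top : U.1 ≤ ⊤) f) := by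
    rw [hD]; exact ⟨hxU, hx⟩
  have key : res F (hDf U.1) (res F (le_top : X.basicOpen f ≤ ⊤) g) =
      res F (hDf U.1) ((resO X (le_top : X.basicOpen f ≤ ⊤) f) ^ (N + M) • t) := by
    rw [res_res, res_smul, resO_pow, resO_resO]
    have e1 : res F (le_top : X.basicOpen (resO X (le_top : U.1 ≤ ⊤) f) ≤ ⊤) g =
        res F (hDU U.1) (res F (le_top : U.1 ≤ ⊤) g) := by rw [res_res]
    rw [e1, hg' U hU, hs''def, res_smul, resO_pow, resO_resO, hs' U hU, ← mul_smul, ← pow_add,
      add_comm]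
  have h1 := germ_res F (hDf U.1) x hxD (res F (le_top : X.basicOpen f ≤ ⊤) g)
  have h2 := germ_res F (hDf U.1) x hxD
    ((resO X (le_top : X.basicOpen f ≤ ⊤) f) ^ (N + M) • t)
  change F.presheaf.germ _ x hx (res F (le_top : X.basicOpen f ≤ ⊤) g) =
    F.presheaf.germ _ x hx ((resO X (le_top : X.basicOpen f ≤ ⊤) f) ^ (N + M) • t)
  rw [← h1, ← h2, key]

open AlgebraicGeometry in
open CategoryTheory in
open Opposite in
/-- Case of the trivial invertible sheaf. Let X be a quasi-compact quasi-separated scheme, f a global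
section of O_X, F a quasi-coherent O_X-module and t a section of F over X_f. Then there is an n > 0
such that f^n t is the restriction of a global section of F. (The published statement assumes X with
Noetherian underlying space, or separated and quasi-compact; both are quasi-compact quasi-separated,
which is what the argument uses: a finite affine cover with quasi-compact pairwise intersections.) -/
theorem result
    (X : Scheme.{u}) [CompactSpace X] [QuasiSeparatedSpace X] (f : Γ(X, ⊤))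
    (F : X.Modules) [Coh.IsQCoh F] (t : F.val.obj (op (X.basicOpen f))) :
    ∃ n : ℕ, 0 < n ∧ ∃ s : F.val.obj (op ⊤),
      (F.val.map (homOfLE (le_top : X.basicOpen f ≤ ⊤)).op).hom s =
        (show X.ringCatSheaf.obj.obj (op (X.basicOpen f)) from
          X.presheaf.map (homOfLE (le_top : X.basicOpen f ≤ ⊤)).op f) ^ n • t := by
  have : F.IsQuasicoherent := ‹Coh.IsQCoh F›
  obtain ⟨n, hn, s, hs⟩ := aux X f F t
  exact ⟨n, hn, s, hs⟩

end Groth.Agent.S4341
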