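import Groth.Statements.S4344

set_option autoImplicit false
universe u
open RatMapD

namespace Groth.Agent.S4344

open AlgebraicGeometry CategoryTheory Limits

section Aux

variable {S X Y : Scheme.{u}} [X.Over S] [Y.Over S]

/-- The set of `S`-representatives of a rational map. -/
abbrev Reps (f : X ⤏ Y) : Type u := {g : X.PartialMap Y // g.IsOver S ∧ g.toRationalMap = f}

/-- the union of the domains of the `S`-representatives -/
def bigDomain (f : X ⤏ Y) : X.Opens := ⨆ g : Reps (S := S) f, g.1.domain

lemma le_bigDomain (f : X ⤏ Y) (g : Reps (S := S) f) : g.1.domain ≤ bigDomain (S := S) f :=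
  le_iSup (fun g : Reps (S := S) f => g.1.domain) g

/-- the cover of `bigDomain` by the domains -/
noncomputable def cover (f : X ⤏ Y) : (bigDomain (S := S) f).toScheme.OpenCover where
  I₀ := Reps (S := S) f
  X g := g.1.domain.toScheme
  f g := X.homOfLE (le_bigDomain f g)
  mem₀ := by
    rw [Scheme.presieve₀_mem_precoverage_iff]
    refine ⟨fun x ↦ ?_, inferInstance⟩
    obtain ⟨g, hg⟩ := TopologicalSpace.Opens.mem_iSup.mp x.2
    exact ⟨g, ⟨⟨x.1, hg⟩, Subtype.ext (by simp)⟩⟩

/-- compatibility on overlaps -/
lemma compat [IsReduced X] [IsSeparated (Y ↘ S)] (f : X ⤏ Y) (x y : Reps (S := S) f) :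
    pullback.fst ((cover (S := S) f).f x) ((cover (S := S) f).f y) ≫ x.1.hom =
      pullback.snd ((cover (S := S) f).f x) ((cover (S := S) f).f y) ≫ y.1.hom := by
  have hx : x.1.IsOver S := x.2.1
  have hy : y.1.IsOver S := y.2.1
  refine (cancel_epi (isPullback_opens_inf_le (le_bigDomain f x)
    (le_bigDomain f y)).isoPullback.hom).mp ?_
  simp only [cover, IsPullback.isoPullback_hom_fst_assoc, IsPullback.isoPullback_hom_snd_assoc]
  have heq : x.1.equiv y.1 := by
    rw [← Scheme.PartialMap.toRationalMap_eq_iff, x.2.2, y.2.2]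
  exact (Scheme.PartialMap.equiv_iff_of_isSeparated (S := S) (f := x.1) (g := y.1)).mp heq

end Aux

open AlgebraicGeometry in
open CategoryTheory in
/-- Let X be a reduced S-scheme, Y an S-scheme separated over S and f an S-rational map from X to Y.
There is a representative g of f which is an S-morphism and of which every S-morphism representing f
is a restriction; in particular g is the unique S-morphism of the class of f defined on the largest
open where some S-representative is defined. (The published statement speaks of the domain of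
definition among all representatives; over a base that is not separated that domain can be larger
than the one on which an S-representative exists, and this row takes the latter.) -/
theorem result
    (S X Y : Scheme.{u}) [X.Over S] [Y.Over S] [IsReduced X] [IsSeparated (Y ↘ S)]
    (f : X ⤏ Y) [f.IsOver S] :
    ∃ g : X.PartialMap Y, g.IsOver S ∧ g.toRationalMap = f ∧
      ∀ h : X.PartialMap Y, h.IsOver S → h.toRationalMap = f →
        ∃ hle : h.domain ≤ g.domain, h = g.restrict h.domain h.dense_domain hle := by
  classical
  obtain ⟨g₀, hg₀S, hg₀⟩ := Scheme.RationalMap.exists_partialMap_over (S := S) f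
  let r₀ : Reps (S := S) f := ⟨g₀, hg₀S, hg₀⟩
  have hdense : Dense ((bigDomain (S := S) f : X.Opens) : Set X) :=
    g₀.dense_domain.mono (le_bigDomain f r₀)
  let G : X.PartialMap Y :=
    ⟨bigDomain (S := S) f, hdense,
      (cover (S := S) f).glueMorphisms (fun x => x.1.hom) (compat f)⟩
  have hι : ∀ x : Reps (S := S) f, X.homOfLE (le_bigDomain f x) ≫ G.hom = x.1.hom := fun x =>
    (cover (S := S) f).ι_glueMorphisms (fun x => x.1.hom) (compat f) x
  have hGS : G.IsOver S := by
    constructor
    apply (cover (S := S) f).hom_ext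
    intro x
    have hx : x.1.IsOver S := x.2.1
    change X.homOfLE (le_bigDomain f x) ≫ G.hom ≫ (Y ↘ S) =
      X.homOfLE (le_bigDomain f x) ≫ (bigDomain (S := S) f).ι ≫ (X ↘ S)
    rw [← Category.assoc, hι x, ← Category.assoc, Scheme.homOfLE_ι]
    exact CategoryTheory.comp_over x.1.hom S
  have hrestr : ∀ x : Reps (S := S) f,
      x.1 = G.restrict x.1.domain x.1.dense_domain (le_bigDomain f x) := by
    intro x
    obtain ⟨⟨U, hU, φ⟩, hx⟩ := x
    have h1 := hι ⟨⟨U, hU, φ⟩, hx⟩
    exact congrArg (Scheme.PartialMap.mk U hU) h1.symm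
  have hGf : G.toRationalMap = f := by
    have h1 := hrestr r₀
    change g₀ = _ at h1
    rw [← hg₀, h1]
    exact (Scheme.PartialMap.restrict_toRationalMap G _ _ _).symm
  refine ⟨G, hGS, hGf, ?_⟩
  intro h hhS hh
  exact ⟨le_bigDomain f ⟨h, hhS, hh⟩, hrestr ⟨h, hhS, hh⟩⟩

end Groth.Agent.S4344
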