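import Mathlib
import Groth.Statements.S4345

set_option autoImplicit false
universe u
open SchLoc

namespace Groth.Agent.S4345

section Helpers

open IsLocalRing

variable {K : Type*} [Field K]

/-- the maximal ideal of a local subring, as a subset of the field. -/
def mS (Q : LocalSubring K) : Set K :=
  {x | ∃ h : x ∈ Q.toSubring, (⟨x, h⟩ : Q.toSubring) ∈ maximalIdeal Q.toSubring}

lemma mem_comap_iff (Q : LocalSubring K) (E : Subring K) (h : E ≤ Q.toSubring) (x : E) :
    x ∈ (maximalIdeal Q.toSubring).comap (Subring.inclusion h) ↔ (x : K) ∈ mS Q := by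
  rw [Ideal.mem_comap]
  constructor
  · intro hx; exact ⟨h x.2, hx⟩
  · rintro ⟨_, hx⟩; exact hx

lemma mS_ofPrime (E : Subring K) (P : Ideal E) [P.IsPrime] (x : E) :
    (x : K) ∈ mS (LocalSubring.ofPrime E P) ↔ x ∈ P := by
  rw [← IsLocalization.AtPrime.to_map_mem_maximal_iff (LocalSubring.ofPrime E P).toSubring P x]
  constructor
  · rintro ⟨_, hx⟩; exact hx
  · intro hx; exact ⟨_, hx⟩

lemma mS_of_le {Q Q' : LocalSubring K} (h : Q ≤ Q') (x : K) (hx : x ∈ Q.toSubring) :
    x ∈ mS Q ↔ x ∈ mS Q' := by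
  obtain ⟨hle, hloc⟩ := h
  have key : IsUnit (⟨x, hle hx⟩ : Q'.toSubring) ↔ IsUnit (⟨x, hx⟩ : Q.toSubring) :=
    isUnit_map_iff (Subring.inclusion hle) ⟨x, hx⟩
  constructor
  · rintro ⟨_, h1⟩
    refine ⟨hle hx, ?_⟩
    rw [mem_maximalIdeal, mem_nonunits_iff] at h1 ⊢
    rwa [key]
  · rintro ⟨_, h1⟩
    refine ⟨hx, ?_⟩
    rw [mem_maximalIdeal, mem_nonunits_iff] at h1 ⊢
    rwa [← key]

lemma ofPrime_le (E : Subring K) (P : Ideal E) [P.IsPrime] (Q : LocalSubring K)
    (h : E ≤ Q.toSubring) (hP : ∀ x : E, (x : K) ∈ mS Q ↔ x ∈ P) :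
    LocalSubring.ofPrime E P ≤ Q := by
  -- elements of `E \ P` are units of `Q`
  have hunit : ∀ s : E, s ∉ P → IsUnit (⟨s, h s.2⟩ : Q.toSubring) := by
    intro s hs
    by_contra hnu
    exact hs ((hP s).1 ⟨h s.2, hnu⟩)
  have hsub : (LocalSubring.ofPrime E P).toSubring ≤ Q.toSubring := by
    intro x hx
    obtain ⟨⟨a, s⟩, hxs⟩ := IsLocalization.surj P.primeCompl
      (⟨x, hx⟩ : (LocalSubring.ofPrime E P).toSubring)
    have hxs' : x * (s : E) = a := congrArg Subtype.val hxs
    obtain ⟨u, hu⟩ := hunit s s.2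
    have hs0 : ((s : E) : K) ≠ 0 := by
      intro h0
      apply s.2
      have : (s : E) = 0 := Subtype.ext h0
      rw [this]; exact P.zero_mem
    have hx' : x = a * ((u⁻¹ : (Q.toSubring)ˣ) : Q.toSubring) := by
      have h1 : ((u : Q.toSubring) : K) = (s : E) := congrArg Subtype.val hu
      have h2 : ((u : Q.toSubring) : K) * (((u⁻¹ : (Q.toSubring)ˣ) : Q.toSubring) : K) = 1 := by
        exact congrArg Subtype.val (u.mul_inv)
      rw [← hxs', mul_assoc, ← h1, h2, mul_one]
    rw [hx']
    exact Q.toSubring.mul_mem (h a.2) (SetLike.coe_mem _)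
  refine ⟨hsub, ⟨?_⟩⟩
  intro y hy
  -- `y` in `E_P` is a unit in `Q`, so not in the maximal ideal
  by_contra hnu
  have hy1 : (y : K) ∈ mS (LocalSubring.ofPrime E P) := ⟨y.2, hnu⟩
  have : (y : K) ∈ mS Q := by
    -- write y = a / s with a ∈ P
    obtain ⟨⟨a, s⟩, hys⟩ := IsLocalization.surj P.primeCompl y
    have hys' : (y : K) * (s : E) = a := congrArg Subtype.val hys
    have haP : a ∈ P := by
      rw [← mS_ofPrime E P a]
      refine ⟨LocalSubring.le_ofPrime E P a.2, ?_⟩
      have : (⟨(a : K), LocalSubring.le_ofPrime E P a.2⟩ : (LocalSubring.ofPrime E P).toSubring) =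
          y * algebraMap E _ (s : E) := hys.symm
      rw [this]
      exact Ideal.mul_mem_right _ _ hnu
    have haQ := (hP a).2 haP
    obtain ⟨_, haQ'⟩ := haQ
    obtain ⟨u, hu⟩ := hunit s s.2
    refine ⟨hsub y.2, ?_⟩
    have : (⟨(y : K), hsub y.2⟩ : Q.toSubring) =
        ⟨a, h a.2⟩ * ((u⁻¹ : (Q.toSubring)ˣ) : Q.toSubring) := by
      apply Subtype.ext
      have h1 : ((u : Q.toSubring) : K) = (s : E) := congrArg Subtype.val hu
      have h2 : ((u : Q.toSubring) : K) * (((u⁻¹ : (Q.toSubring)ˣ) : Q.toSubring) : K) = 1 := by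
        exact congrArg Subtype.val (u.mul_inv)
      show (y : K) = a * _
      rw [← hys', mul_assoc, ← h1, h2, mul_one]
    rw [this]
    exact Ideal.mul_mem_right _ _ haQ'
  obtain ⟨_, hm⟩ := this
  exact hm hy

lemma of_ofPrime_le (E : Subring K) (P : Ideal E) [P.IsPrime] (Q : LocalSubring K)
    (hle : LocalSubring.ofPrime E P ≤ Q) :
    ∃ _ : E ≤ Q.toSubring, ∀ x : E, (x : K) ∈ mS Q ↔ x ∈ P := by
  refine ⟨(LocalSubring.le_ofPrime E P).trans hle.1, fun x => ?_⟩
  rw [← mS_of_le hle _ (LocalSubring.le_ofPrime E P x.2), mS_ofPrime]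

lemma ofPrime_congr (E : Subring K) {P P' : Ideal E} [P.IsPrime] [P'.IsPrime] (h : P = P') :
    LocalSubring.ofPrime E P = LocalSubring.ofPrime E P' := by
  subst h; rfl


end Helpers

/-- Let A and B be subrings of a field R, C the subring generated by A and B, and for a subring E let
L(E) be the set of local subrings E_p of R, p a prime ideal of E. The following are equivalent: (i)
for every local subring Q of R containing A and B, the localizations of A and of B at the traces of
the maximal ideal of Q coincide; (ii) for every prime ideal r of C the localizations of A and B at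
the traces of r coincide; (iii) two members of L(A) and L(B) dominated by a common local subring of
R are equal; (iv) the intersection of L(A) and L(B) is L(C). -/
theorem result
    (R : Type u) [Field R] (A B : Subring R) :
    [ ∀ (Q : LocalSubring R) (hA : A ≤ Q.toSubring) (hB : B ≤ Q.toSubring),
        LocalSubring.ofPrime A ((IsLocalRing.maximalIdeal Q.toSubring).comap (Subring.inclusion hA)) =
          LocalSubring.ofPrime B ((IsLocalRing.maximalIdeal Q.toSubring).comap (Subring.inclusion hB)),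
      ∀ r : PrimeSpectrum ↥(A ⊔ B),
        LocalSubring.ofPrime A (r.asIdeal.comap (Subring.inclusion (le_sup_left : A ≤ A ⊔ B))) =
          LocalSubring.ofPrime B (r.asIdeal.comap (Subring.inclusion (le_sup_right : B ≤ A ⊔ B))),
      ∀ (p : PrimeSpectrum A) (q : PrimeSpectrum B),
        (∃ Q : LocalSubring R, LocalSubring.ofPrime A p.asIdeal ≤ Q ∧ LocalSubring.ofPrime B q.asIdeal ≤ Q) →
          LocalSubring.ofPrime A p.asIdeal = LocalSubring.ofPrime B q.asIdeal,
      Set.range (fun p : PrimeSpectrum A ↦ LocalSubring.ofPrime A p.asIdeal) ∩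
          Set.range (fun q : PrimeSpectrum B ↦ LocalSubring.ofPrime B q.asIdeal) =
        Set.range (fun r : PrimeSpectrum ↥(A ⊔ B) ↦ LocalSubring.ofPrime (A ⊔ B) r.asIdeal) ].TFAE := by
  classical
  -- comparison of traces
  have htr : ∀ (Q : LocalSubring R) (E : Subring R) (h : E ≤ Q.toSubring) (P : Ideal E),
      (∀ x : E, (x : R) ∈ mS Q ↔ x ∈ P) →
      (IsLocalRing.maximalIdeal Q.toSubring).comap (Subring.inclusion h) = P := by
    intro Q E h P hP
    ext x
    rw [mem_comap_iff, hP]
  have hAC : A ≤ A ⊔ B := le_sup_left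
  have hBC : B ≤ A ⊔ B := le_sup_right
  tfae_have 1 → 2 := by
    intro h1 r
    have hA : A ≤ (LocalSubring.ofPrime (A ⊔ B) r.asIdeal).toSubring :=
      hAC.trans (LocalSubring.le_ofPrime _ _)
    have hB : B ≤ (LocalSubring.ofPrime (A ⊔ B) r.asIdeal).toSubring :=
      hBC.trans (LocalSubring.le_ofPrime _ _)
    have := h1 (LocalSubring.ofPrime (A ⊔ B) r.asIdeal) hA hB
    have eA := htr (LocalSubring.ofPrime (A ⊔ B) r.asIdeal) A hA
      (r.asIdeal.comap (Subring.inclusion hAC)) (fun x => by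
        rw [Ideal.mem_comap]
        exact mS_ofPrime (A ⊔ B) r.asIdeal (Subring.inclusion hAC x))
    have eB := htr (LocalSubring.ofPrime (A ⊔ B) r.asIdeal) B hB
      (r.asIdeal.comap (Subring.inclusion hBC)) (fun x => by
        rw [Ideal.mem_comap]
        exact mS_ofPrime (A ⊔ B) r.asIdeal (Subring.inclusion hBC x))
    rw [← ofPrime_congr A eA, ← ofPrime_congr B eB]
    exact this
  tfae_have 2 → 1 := by
    intro h2 Q hA hB
    have hC : A ⊔ B ≤ Q.toSubring := sup_le hA hB
    have := h2 ⟨(IsLocalRing.maximalIdeal Q.toSubring).comap (Subring.inclusion hC), inferInstance⟩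
    have eA : (IsLocalRing.maximalIdeal Q.toSubring).comap (Subring.inclusion hA) =
        ((IsLocalRing.maximalIdeal Q.toSubring).comap (Subring.inclusion hC)).comap
          (Subring.inclusion hAC) := rfl
    have eB : (IsLocalRing.maximalIdeal Q.toSubring).comap (Subring.inclusion hB) =
        ((IsLocalRing.maximalIdeal Q.toSubring).comap (Subring.inclusion hC)).comap
          (Subring.inclusion hBC) := rfl
    rw [ofPrime_congr A eA, ofPrime_congr B eB]
    exact this
  tfae_have 1 → 3 := by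
    rintro h1 p q ⟨Q, hp, hq⟩
    obtain ⟨hA, hAp⟩ := of_ofPrime_le A p.asIdeal Q hp
    obtain ⟨hB, hBq⟩ := of_ofPrime_le B q.asIdeal Q hq
    have := h1 Q hA hB
    rw [ofPrime_congr A (htr Q A hA p.asIdeal hAp), ofPrime_congr B (htr Q B hB q.asIdeal hBq)]
      at this
    exact this
  tfae_have 3 → 1 := by
    intro h3 Q hA hB
    exact h3 ⟨(IsLocalRing.maximalIdeal Q.toSubring).comap (Subring.inclusion hA), inferInstance⟩
      ⟨(IsLocalRing.maximalIdeal Q.toSubring).comap (Subring.inclusion hB), inferInstance⟩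
      ⟨Q, ofPrime_le A _ Q hA (fun x => (mem_comap_iff Q A hA x).symm),
        ofPrime_le B _ Q hB (fun x => (mem_comap_iff Q B hB x).symm)⟩
  -- general fact: `A_{r ∩ A} ≤ C_r`
  have hleC : ∀ (E : Subring R) (hE : E ≤ A ⊔ B) (r : PrimeSpectrum ↥(A ⊔ B)),
      LocalSubring.ofPrime E (r.asIdeal.comap (Subring.inclusion hE)) ≤
        LocalSubring.ofPrime (A ⊔ B) r.asIdeal := by
    intro E hE r
    refine ofPrime_le E _ _ (hE.trans (LocalSubring.le_ofPrime _ _)) (fun x => ?_)
    rw [Ideal.mem_comap]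
    exact mS_ofPrime (A ⊔ B) r.asIdeal (Subring.inclusion hE x)
  tfae_have 2 → 4 := by
    intro h2
    apply Set.eq_of_subset_of_subset
    · rintro E ⟨⟨p, hp⟩, ⟨q, hq⟩⟩
      simp only at hp hq
      have hA : A ≤ E.toSubring := hp ▸ LocalSubring.le_ofPrime A p.asIdeal
      have hB : B ≤ E.toSubring := hq ▸ LocalSubring.le_ofPrime B q.asIdeal
      have hC : A ⊔ B ≤ E.toSubring := sup_le hA hB
      refine ⟨⟨(IsLocalRing.maximalIdeal E.toSubring).comap (Subring.inclusion hC),
        inferInstance⟩, ?_⟩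
      simp only
      apply le_antisymm
      · exact ofPrime_le (A ⊔ B) _ E hC (fun x => (mem_comap_iff E (A ⊔ B) hC x).symm)
      · refine hp.symm.le.trans ?_
        refine ofPrime_le A p.asIdeal _ (hAC.trans (LocalSubring.le_ofPrime _ _)) (fun x => ?_)
        refine (mS_ofPrime (A ⊔ B) _ (Subring.inclusion hAC x)).trans ?_
        rw [mem_comap_iff]
        show (x : R) ∈ mS E ↔ _
        rw [← hp, mS_ofPrime]
    · rintro E ⟨r, hr⟩
      simp only at hr
      have h2r := h2 r
      -- `C_r = A_{r ∩ A}`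
      have key : LocalSubring.ofPrime (A ⊔ B) r.asIdeal =
          LocalSubring.ofPrime A (r.asIdeal.comap (Subring.inclusion hAC)) := by
        apply le_antisymm _ (hleC A hAC r)
        have hA : A ≤ (LocalSubring.ofPrime A
            (r.asIdeal.comap (Subring.inclusion hAC))).toSubring := LocalSubring.le_ofPrime _ _
        have hB : B ≤ (LocalSubring.ofPrime A
            (r.asIdeal.comap (Subring.inclusion hAC))).toSubring := by
          rw [h2r]; exact LocalSubring.le_ofPrime _ _
        have hC := sup_le hA hB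
        refine ofPrime_le (A ⊔ B) r.asIdeal _ hC (fun x => ?_)
        rw [mS_of_le (hleC A hAC r) _ (hC x.2), mS_ofPrime]
      refine ⟨⟨⟨r.asIdeal.comap (Subring.inclusion hAC), inferInstance⟩, ?_⟩,
        ⟨⟨r.asIdeal.comap (Subring.inclusion hBC), inferInstance⟩, ?_⟩⟩
      · simp only; rw [← hr, key]
      · simp only; rw [← hr, key, h2r]
  tfae_have 4 → 2 := by
    intro h4 r
    have hmem : LocalSubring.ofPrime (A ⊔ B) r.asIdeal ∈
        Set.range (fun r : PrimeSpectrum ↥(A ⊔ B) ↦ LocalSubring.ofPrime (A ⊔ B) r.asIdeal) :=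
      ⟨r, rfl⟩
    rw [← h4] at hmem
    obtain ⟨⟨p, hp⟩, ⟨q, hq⟩⟩ := hmem
    simp only at hp hq
    have eA : r.asIdeal.comap (Subring.inclusion hAC) = p.asIdeal := by
      ext x
      rw [Ideal.mem_comap, ← mS_ofPrime (A ⊔ B) r.asIdeal (Subring.inclusion hAC x), ← hp]
      exact mS_ofPrime A p.asIdeal x
    have eB : r.asIdeal.comap (Subring.inclusion hBC) = q.asIdeal := by
      ext x
      rw [Ideal.mem_comap, ← mS_ofPrime (A ⊔ B) r.asIdeal (Subring.inclusion hBC x), ← hq]
      exact mS_ofPrime B q.asIdeal x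
    rw [ofPrime_congr A eA, ofPrime_congr B eB, hp, hq]
  tfae_finish

end Groth.Agent.S4345
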