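import Groth.Statements.S4346
import Mathlib.AlgebraicGeometry.Stalk

set_option autoImplicit false
universe u
open SchLoc

namespace Groth.Agent.S4346

open AlgebraicGeometry CategoryTheory in
lemma isDominant_Spec_map {R S : CommRingCat.{u}} (f : R ⟶ S) (hf : Function.Injective f.hom) :
    IsDominant (Spec.map f) := by
  constructor
  change DenseRange (PrimeSpectrum.comap f.hom)
  rw [PrimeSpectrum.denseRange_comap_iff_ker_le_nilRadical]
  rw [(RingHom.injective_iff_ker_eq_bot _).mp hf]
  exact bot_le

open CategoryTheory in
open AlgebraicGeometry in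
/-- On an integral separated scheme distinct points have distinct local rings inside the function field. -/
theorem result (X : Scheme.{u}) [IsIntegral X] [X.IsSeparated] :
    Function.Injective (fun x : X ↦ (algebraMap (X.presheaf.stalk x) X.functionField).range) := by
  intro x y hxy
  simp only at hxy
  have hξx : genericPoint X ⤳ x := (genericPoint_spec X).specializes trivial
  have hξy : genericPoint X ⤳ y := (genericPoint_spec X).specializes trivial
  let ix : X.presheaf.stalk x ⟶ X.presheaf.stalk (genericPoint X) := X.presheaf.stalkSpecializes hξx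
  let iy : X.presheaf.stalk y ⟶ X.presheaf.stalk (genericPoint X) := X.presheaf.stalkSpecializes hξy
  have hix : Function.Injective ix.hom := IsFractionRing.injective (X.presheaf.stalk x) X.functionField
  have hiy : Function.Injective iy.hom := IsFractionRing.injective (X.presheaf.stalk y) X.functionField
  have hrange : ix.hom.range = iy.hom.range := hxy
  let ex : X.presheaf.stalk x ≃+* ix.hom.range :=
    RingEquiv.ofBijective ix.hom.rangeRestrict
      ⟨fun a b h => hix (congrArg Subtype.val h), ix.hom.rangeRestrict_surjective⟩
  let ey : X.presheaf.stalk y ≃+* iy.hom.range :=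
    RingEquiv.ofBijective iy.hom.rangeRestrict
      ⟨fun a b h => hiy (congrArg Subtype.val h), iy.hom.rangeRestrict_surjective⟩
  let e : X.presheaf.stalk x ≃+* X.presheaf.stalk y :=
    (ex.trans (RingEquiv.subringCongr hrange)).trans ey.symm
  have he : ∀ a, iy.hom (e a) = ix.hom a := by
    intro a
    have h1 : ey (e a) = RingEquiv.subringCongr hrange (ex a) := by
      simp [e]
    have h2 := congrArg Subtype.val h1
    exact h2
  let φ : X.presheaf.stalk x ⟶ X.presheaf.stalk y := CommRingCat.ofHom e.toRingHom
  have hφ : φ ≫ iy = ix := by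
    ext a
    exact he a
  have : IsDominant (Spec.map iy) := isDominant_Spec_map iy hiy
  have hfg : X.fromSpecStalk y = Spec.map φ ≫ X.fromSpecStalk x := by
    apply ext_of_isDominant (ι := Spec.map iy)
    rw [Scheme.SpecMap_stalkSpecializes_fromSpecStalk, ← Category.assoc, ← Spec.map_comp, hφ,
      Scheme.SpecMap_stalkSpecializes_fromSpecStalk]
  have hloc : IsLocalHom φ.hom := by
    have h0 : IsLocalHom e := isLocalHom_equiv e
    exact ⟨fun a ha => h0.map_nonunit a ha⟩
  have h1 : X.fromSpecStalk y (IsLocalRing.closedPoint (X.presheaf.stalk y)) = y :=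
    Scheme.fromSpecStalk_closedPoint
  rw [hfg, Scheme.Hom.comp_apply] at h1
  have h2 : Spec.map φ (IsLocalRing.closedPoint (X.presheaf.stalk y)) =
      IsLocalRing.closedPoint (X.presheaf.stalk x) := IsLocalRing.comap_closedPoint φ.hom
  rw [h2, Scheme.fromSpecStalk_closedPoint] at h1
  exact h1

end Groth.Agent.S4346
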