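import Groth.Statements.S4349
import Mathlib.CategoryTheory.Limits.ConcreteCategory.Basic
import Mathlib.Algebra.Category.Ring.FilteredColimits
import Mathlib.CategoryTheory.Filtered.Basic

set_option autoImplicit false
universe u
open RatFun

namespace Groth.Agent.S4349

open AlgebraicGeometry CategoryTheory TopologicalSpace

instance isCofiltered_denseOpens (X : Scheme.{u}) :
    IsCofiltered ((IsDenseOpen X).FullSubcategory) where
  cone_objs U V :=
    ⟨⟨U.obj ⊓ V.obj, by
        change Dense ((U.obj : Set X) ∩ (V.obj : Set X))
        exact U.property.inter_of_isOpen_left V.property U.obj.isOpen⟩,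
      ObjectProperty.homMk (homOfLE inf_le_left), ObjectProperty.homMk (homOfLE inf_le_right),
      trivial⟩
  cone_maps U V f g := ⟨U, 𝟙 U, by
    apply ObjectProperty.hom_ext
    exact Subsingleton.elim _ _⟩
  nonempty := ⟨⟨⊤, by
    change Dense ((⊤ : X.Opens) : Set X)
    simp⟩⟩

open AlgebraicGeometry in
/-- Second assertion (in the form: sections over a dense open inject into the ring of rational
functions). Let X be a reduced scheme and V a dense open subset of X. The canonical map from the
sections of O_X over V to the ring R(X) of rational functions on X is injective. (The published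
statement also assumes X locally integral or locally Noetherian; that hypothesis serves the
quasi-coherence of the sheaf of rational functions and is not needed here.) -/
theorem result (X : Scheme.{u}) [IsReduced X]
    (V : X.Opens) (hV : Dense (V : Set X)) :
    Function.Injective (RatFun.toRing X V hV) := by
  rw [injective_iff_map_eq_zero]
  intro s hs
  have hs' : Limits.colimit.ι (sectionsOnDense X) (Opposite.op ⟨V, hV⟩) s =
      Limits.colimit.ι (sectionsOnDense X) (Opposite.op ⟨V, hV⟩) 0 := by
    rw [map_zero]
    exact hs
  obtain ⟨W, f, g, hfg⟩ := Limits.Concrete.colimit_exists_of_rep_eq (sectionsOnDense X) _ _ hs'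
  rw [map_zero] at hfg
  -- s restricted to the dense open W is zero
  apply AlgebraicGeometry.eq_zero_of_basicOpen_eq_bot
  have hWV : W.unop.obj ≤ V := leOfHom f.unop.hom
  have hres : X.presheaf.map (homOfLE hWV).op s = 0 := hfg
  have h1 : X.basicOpen (X.presheaf.map (homOfLE hWV).op s) = W.unop.obj ⊓ X.basicOpen s :=
    Scheme.basicOpen_res _ _ _
  rw [hres, Scheme.basicOpen_zero] at h1
  by_contra hne
  have hne' : (X.basicOpen s : Set X).Nonempty := by
    rw [Set.nonempty_iff_ne_empty]
    intro h
    apply hne
    ext x
    simp [h]
  obtain ⟨x, hxs, hxW⟩ := W.unop.property.inter_open_nonempty _ (X.basicOpen s).isOpen hne'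
  have : x ∈ W.unop.obj ⊓ X.basicOpen s := ⟨hxW, hxs⟩
  rw [← h1] at this
  exact this

end Groth.Agent.S4349
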