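import Groth.Statements.S4352
import Mathlib
import Groth.Agent.Lib.H90QCAlgSub
import Groth.Agent.Lib.H90QCohSection
import Groth.Agent.Lib.CohFinite
import Groth.Agent.S10848

set_option autoImplicit false
universe u
open QCohSup

namespace Groth.Agent.S4352

open AlgebraicGeometry in
open CategoryTheory in
open Opposite in
/-- Case b), in the sectionwise form its proof gives. Let X be a scheme that is quasi-compact and
separated and B a quasi-coherent O_X-algebra. Every section of B over an affine open U lies in a
quasi-coherent sub-O_X-algebra of B whose sections over every affine open form an algebra of finite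
type over the functions; hence B is the inductive limit of its quasi-coherent sub-O_X-algebras of
finite type. -/
theorem result
    {X : Scheme.{u}} [CompactSpace X] [X.IsSeparated] (B : RelSpec.QCAlg X)
    (U : X.affineOpens) (b : B.presheaf.obj (op (U : X.Opens))) :
    ∃ (B' : RelSpec.QCAlg X) (φ : B' ⟶ B),
      (∀ V : X.Opens, Function.Injective (φ.hom.app (op V)).hom) ∧
      (∀ V : X.affineOpens, (B'.str.app (op (V : X.Opens))).hom.FiniteType) ∧
      b ∈ Set.range (φ.hom.app (op (U : X.Opens))).hom := by
  obtain ⟨G', i', _, hq, hft, g, hg⟩ :=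
    Groth.Agent.Lib.H90QCohSection.exists_subsheaf_through_section B.toModule U.2
      (Groth.Agent.Lib.H90QCAlg.toSec B U.1 b)
      (fun G i _ _ hG => Groth.Agent.S10848.result U.1 U.2.isCompact B.toModule G hG i)
  haveI := hq
  refine ⟨Groth.Agent.Lib.H90QCAlg.subAlg B i', Groth.Agent.Lib.H90QCAlg.subAlgι B i',
    fun V => Groth.Agent.Lib.H90QCAlg.subAlgι_injective B i' V,
    fun V => Groth.Agent.Lib.H90QCAlg.finiteType_subAlg B i' V.2
      (Groth.Agent.Lib.CohFinite.finite_sections_of_isCoh G' ⟨hq, hft⟩ V.2), ?_⟩
  apply Groth.Agent.Lib.H90QCAlg.mem_range_subAlgι B i' U.1 b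
  apply Groth.Agent.Lib.H90QCAlg.C_le_S
  have := Groth.Agent.Lib.H90QCAlg.j_mem_C B i' U.1 g
  rw [hg] at this
  exact this

end Groth.Agent.S4352
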