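import Groth.Statements.S4356
import Groth.Agent.Lib.RatFun82
import Groth.Agent.Lib.ModStalkIso

set_option autoImplicit false
universe u
open TorSh

namespace Groth.Agent.S4356

open AlgebraicGeometry CategoryTheory TopologicalSpace Opposite
open Groth.Agent.Lib.RatFun82 Groth.Agent.Lib.QCohStalk Groth.Agent.Lib.ModStalkLin

section stalks

variable {X : Scheme.{u}} [IsIntegral X]

/-- An element of the function field as a section of the sheaf of rational functions. -/
noncomputable def secK (U : X.Opens) (k : KK X) : Γ(RatSh X, U) := toSecK U k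

theorem secK_res {U V : X.Opens} (h : V ≤ U) (k : KK X) :
    res (RatSh X) h (secK U k) = secK V k :=
  toSecK_res h k

theorem secK_surjective {U : X.Opens} (hη : genericPoint X ∈ U) (τ : Γ(RatSh X, U)) :
    ∃ k : KK X, secK U k = τ :=
  (toSecK_bijective hη).2 τ

theorem secK_injective {U : X.Opens} (hη : genericPoint X ∈ U) :
    Function.Injective (secK (X := X) U) :=
  (toSecK_bijective hη).1

theorem secK_zero (U : X.Opens) : secK (X := X) U 0 = 0 := map_zero (toSecK U).hom

theorem smul_secK {U : X.Opens} (hη : genericPoint X ∈ U) (ρ : Γ(X, U)) (k : KK X) :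
    ρ • secK U k = secK U (X.presheaf.germ U (genericPoint X) hη ρ * k) := by
  change ((xi X).app U).hom ρ * (toSecK U).hom k = (toSecK U).hom _
  rw [map_mul, app_eq hη]
  rfl

theorem exists_germ_secK (x : X) (t : (RatSh X).presheaf.stalk x) :
    ∃ (U : X.Opens) (hx : x ∈ U) (k : KK X), (RatSh X).presheaf.germ U x hx (secK U k) = t := by
  obtain ⟨U, hxU, τ, rfl⟩ := TopCat.Presheaf.exists_germ_eq (RatSh X).presheaf t
  obtain ⟨k, rfl⟩ := secK_surjective (genericPoint_mem_of_mem hxU) τ
  exact ⟨U, hxU, k, rfl⟩

theorem germ_secK_eq_zero_iff {U : X.Opens} (x : X) (hx : x ∈ U) (k : KK X) :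
    (RatSh X).presheaf.germ U x hx (secK U k) = 0 ↔ k = 0 := by
  constructor
  · intro h0
    have h0' : (RatSh X).presheaf.germ U x hx (secK U k) =
        (RatSh X).presheaf.germ U x hx 0 := by rw [h0, map_zero]
    obtain ⟨W, hxW, iU, iV, hW⟩ :=
      TopCat.Presheaf.germ_eq (RatSh X).presheaf x hx hx (secK U k) 0 h0'
    rw [map_zero] at hW
    have h1 : res (RatSh X) iU.le (secK U k) = 0 := hW
    rw [secK_res] at h1
    apply secK_injective (genericPoint_mem_of_mem hxW)
    rw [h1, secK_zero]
  · rintro rfl
    rw [secK_zero, map_zero]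

theorem isTorsionFree_stalk_ratSh (x : X) :
    Module.IsTorsionFree (X.presheaf.stalk x) ((RatSh X).presheaf.stalk x) := by
  refine ⟨fun r hr t₁ t₂ h12 => ?_⟩
  have hr0 : r ≠ 0 := hr.ne_zero
  have h0 : r • (t₁ - t₂) = 0 := by
    rw [smul_sub]
    exact sub_eq_zero.mpr h12
  suffices t₁ - t₂ = 0 from sub_eq_zero.mp this
  obtain ⟨U, hxU, k, hk⟩ := exists_germ_secK x (t₁ - t₂)
  obtain ⟨U', hxU', ρ, rfl⟩ := TopCat.Presheaf.exists_germ_eq X.presheaf r
  let W : X.Opens := U ⊓ U'
  have hxW : x ∈ W := ⟨hxU, hxU'⟩
  have hηW : genericPoint X ∈ W := genericPoint_mem_of_mem hxW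
  have hk' : (RatSh X).presheaf.germ W x hxW (secK W k) = t₁ - t₂ := by
    rw [← hk, ← secK_res (inf_le_left : W ≤ U), germ_res]
  set ρ' : Γ(X, W) := resO X (inf_le_right : W ≤ U') ρ with hρ'
  have hρ'g : X.presheaf.germ W x hxW ρ' = X.presheaf.germ U' x hxU' ρ := by
    rw [hρ']
    exact TopCat.Presheaf.germ_res_apply X.presheaf (homOfLE inf_le_right) x hxW ρ
  rw [← hk', ← hρ'g, ← germ_smul, smul_secK hηW, germ_secK_eq_zero_iff] at h0
  rw [← hk', germ_secK_eq_zero_iff]
  have hne : X.presheaf.germ W (genericPoint X) hηW ρ' ≠ 0 := by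
    intro h1
    have h2 : ρ' = 0 := by
      apply germ_injective_of_isIntegral X (genericPoint X) hηW
      rw [h1, map_zero]
    apply hr0
    rw [← hρ'g, h2, map_zero]
  exact (mul_eq_zero.mp h0).resolve_left hne

/-- The germ of the unit rational function at the generic point. -/
noncomputable def eGen : (RatSh X).presheaf.stalk (genericPoint X) :=
  (RatSh X).presheaf.germ ⊤ (genericPoint X) trivial (secK ⊤ 1)

theorem germ_secK_one {U : X.Opens} (hη : genericPoint X ∈ U) :
    (RatSh X).presheaf.germ U (genericPoint X) hη (secK U 1) = eGen := by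
  rw [eGen, ← secK_res (le_top : U ≤ ⊤), germ_res]

theorem exists_smul_eGen (t : (RatSh X).presheaf.stalk (genericPoint X)) :
    ∃ k : KK X, k • eGen = t := by
  obtain ⟨U, hηU, k, rfl⟩ := exists_germ_secK (genericPoint X) t
  refine ⟨k, ?_⟩
  obtain ⟨V, hηV, ρ, hρ⟩ := TopCat.Presheaf.exists_germ_eq X.presheaf k
  let W : X.Opens := U ⊓ V
  have hηW : genericPoint X ∈ W := ⟨hηU, hηV⟩
  set ρ' : Γ(X, W) := resO X (inf_le_right : W ≤ V) ρ with hρ'
  have hρ'g : X.presheaf.germ W (genericPoint X) hηW ρ' = k := by
    rw [hρ', ← hρ]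
    exact TopCat.Presheaf.germ_res_apply X.presheaf (homOfLE inf_le_right) _ hηW ρ
  have h1 : (RatSh X).presheaf.germ U (genericPoint X) hηU (secK U k) =
      (RatSh X).presheaf.germ W (genericPoint X) hηW (secK W k) := by
    rw [← secK_res (inf_le_left : W ≤ U), germ_res]
  rw [h1, ← germ_secK_one hηW]
  have h2 : secK W k = ρ' • secK W 1 := by
    rw [smul_secK hηW, hρ'g, mul_one]
  rw [h2, germ_smul, hρ'g]

end stalks

open AlgebraicGeometry in


open AlgebraicGeometry in
open CategoryTheory in
/-- Converse assertion (the sheaf of rational functions of the integral scheme X being modelled as the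
direct image of the structure sheaf of Spec of the function field under its canonical morphism to
X). On an integral scheme, a nonzero quasi-coherent sub-O_X-module of the sheaf of rational
functions is torsion-free of rank 1: every stalk is a torsion-free module over the local ring, and
the stalk at the generic point is one-dimensional over the function field. (The published statement
does not exclude the zero submodule, whose generic stalk has dimension 0; it is excluded here.) -/
theorem result
    (X : Scheme.{u}) [IsIntegral X] (G : X.Modules) [Coh.IsQCoh G]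
    (i : G ⟶ (Scheme.Modules.pushforward (X.fromSpecStalk (genericPoint X))).obj
        (Coh.structureModule (Spec (X.presheaf.stalk (genericPoint X))))) [Mono i]
    (hG : ¬ Limits.IsZero G) :
    TorSh.IsTorsionFree G ∧
      Module.finrank (X.presheaf.stalk (genericPoint X)) (G.presheaf.stalk (genericPoint X)) = 1 := by
  have hinj : ∀ x : X, Function.Injective (stalkLin i x) := fun x => stalkLin_injective_of_mono i x
  constructor
  · intro x
    have htf := isTorsionFree_stalk_ratSh (X := X) x
    refine ⟨fun r hr g₁ g₂ h12 => ?_⟩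
    apply hinj x
    apply htf.isSMulRegular hr
    change r • stalkLin i x g₁ = r • stalkLin i x g₂
    rw [← map_smul, ← map_smul]
    exact congrArg _ h12
  · -- the generic stalk is nonzero
    have hne : ∃ v : G.presheaf.stalk (genericPoint X), v ≠ 0 := by
      by_contra hcon
      push Not at hcon
      apply hG
      apply Groth.Agent.Lib.ModPullback.isZero_of_forall_subsingleton_stalk
      intro x
      refine ⟨fun a b => ?_⟩
      suffices ∀ g : G.presheaf.stalk x, g = 0 by rw [this a, this b]
      intro g
      obtain ⟨U, hxU, s, rfl⟩ := TopCat.Presheaf.exists_germ_eq G.presheaf g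
      have hηU : genericPoint X ∈ U := genericPoint_mem_of_mem hxU
      obtain ⟨k, hk⟩ := secK_surjective hηU (i.app U s)
      have h1 : (RatSh X).presheaf.germ U (genericPoint X) hηU (secK U k) = 0 := by
        rw [hk, ← stalkLin_germ, hcon (G.presheaf.germ U (genericPoint X) hηU s), map_zero]
      rw [germ_secK_eq_zero_iff] at h1
      apply hinj x
      rw [stalkLin_germ, ← hk, h1, secK_zero, map_zero, map_zero]
    obtain ⟨v, hv⟩ := hne
    letI : Field (X.presheaf.stalk (genericPoint X)) := inferInstanceAs (Field X.functionField)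
    rw [finrank_eq_one_iff']
    refine ⟨v, hv, fun w => ?_⟩
    obtain ⟨kv, hkv⟩ := exists_smul_eGen (stalkLin i (genericPoint X) v)
    obtain ⟨kw, hkw⟩ := exists_smul_eGen (stalkLin i (genericPoint X) w)
    have hkv0 : kv ≠ 0 := by
      rintro rfl
      rw [zero_smul] at hkv
      apply hv
      apply hinj
      rw [← hkv, map_zero]
    refine ⟨kw * kv⁻¹, ?_⟩
    apply hinj
    rw [map_smul, ← hkv, ← hkw, smul_smul, mul_assoc, inv_mul_cancel₀ hkv0, mul_one]

end Groth.Agent.S4356
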