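import Groth.Statements.S4358
import Groth.Agent.Lib.StalkFlat
import Mathlib.RingTheory.Flat.Stability

set_option autoImplicit false
universe u
open FCompl

namespace Groth.Agent.S4358

open TensorProduct

/-- If `C` is faithfully flat over `B` and flat over `A`, then `B` is flat over `A`. -/
theorem flat_of_faithfullyFlat_of_flat (A B C : Type*) [CommRing A] [CommRing B] [CommRing C]
    [Algebra A B] [Algebra B C] [Algebra A C] [IsScalarTower A B C] [Module.FaithfullyFlat B C]
    [Module.Flat A C] : Module.Flat A B := by
  rw [Module.Flat.iff_lTensor_preserves_injective_linearMap]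
  intro N P _ _ _ _ f hf
  have h1 : Function.Injective (f.lTensor C) :=
    Module.Flat.lTensor_preserves_injective_linearMap f hf
  have h2 : Function.Injective ((f.baseChange B).lTensor C) := by
    have key := TensorProduct.AlgebraTensorModule.lTensor_comp_cancelBaseChange
      (R := A) (A := B) (B := C) (M := C) (N := N) (Q := P) f
    have : ⇑((f.baseChange B).lTensor C) =
        (TensorProduct.AlgebraTensorModule.cancelBaseChange A B C C P).symm ∘
          (f.lTensor C) ∘ (TensorProduct.AlgebraTensorModule.cancelBaseChange A B C C N) := by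
      ext x
      have := congrArg (fun φ => φ x) key
      simp only [LinearMap.coe_comp, Function.comp_apply, LinearEquiv.coe_coe] at this
      simp only [Function.comp_apply]
      rw [LinearEquiv.eq_symm_apply]
      exact this.symm
    rw [this]
    exact (LinearEquiv.injective _).comp (h1.comp (LinearEquiv.injective _))
  exact (Module.FaithfullyFlat.lTensor_injective_iff_injective B C (f.baseChange B)).mp h2


/-- Affine content (the completion of X = Spec A along V(J) has as stalk ring at an open prime 𝔭 the
ring A_{S}, S = A ∖ 𝔭, realised here as the union of the images of the completed rings A_{f}, f ∉ 𝔭,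
inside the completed local ring A{S⁻¹}; flatness of the canonical morphism of ringed spaces from the
completion to X is flatness of A_{S} over the local ring of X at 𝔭, equivalently over A). For A
Noetherian and J ⊆ 𝔭, the canonical ring map A → A_{S} is flat; the hypothesis h records that A →
A{S⁻¹} takes values in A_{S}, which always holds. -/
theorem result
    (A : Type u) [CommRing A] [IsNoetherianRing A] (J 𝔭 : Ideal A) [𝔭.IsPrime] (hJ : J ≤ 𝔭)
    (h : ∀ a : A, ((algebraMap (Localization.AtPrime 𝔭) (FSch.cAtPrime A J 𝔭)).comp
      (algebraMap A (Localization.AtPrime 𝔭))) a ∈ FSch.stalkSubring A J 𝔭) :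
    (((algebraMap (Localization.AtPrime 𝔭) (FSch.cAtPrime A J 𝔭)).comp
      (algebraMap A (Localization.AtPrime 𝔭))).codRestrict (FSch.stalkSubring A J 𝔭) h).Flat := by
  unfold RingHom.Flat
  let _ : Algebra A (FSch.stalkSubring A J 𝔭) :=
    (((algebraMap (Localization.AtPrime 𝔭) (FSch.cAtPrime A J 𝔭)).comp
      (algebraMap A (Localization.AtPrime 𝔭))).codRestrict (FSch.stalkSubring A J 𝔭) h).toAlgebra
  have : IsScalarTower A (FSch.stalkSubring A J 𝔭) (FSch.cAtPrime A J 𝔭) :=
    IsScalarTower.of_algebraMap_eq (fun a => rfl)
  have := Groth.Agent.Lib.StalkFlat.faithfullyFlat_stalkSubring A J 𝔭 hJ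
  have hC : IsNoetherianRing (Localization.AtPrime 𝔭) :=
    IsLocalization.isNoetherianRing 𝔭.primeCompl _ inferInstance
  have h1 : Module.Flat A (Localization.AtPrime 𝔭) := IsLocalization.flat _ 𝔭.primeCompl
  have h2 : Module.Flat (Localization.AtPrime 𝔭) (FSch.cAtPrime A J 𝔭) := inferInstance
  have h3 : Module.Flat A (FSch.cAtPrime A J 𝔭) :=
    Module.Flat.trans A (Localization.AtPrime 𝔭) (FSch.cAtPrime A J 𝔭)
  exact flat_of_faithfullyFlat_of_flat A (FSch.stalkSubring A J 𝔭) (FSch.cAtPrime A J 𝔭)

end Groth.Agent.S4358
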