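import Groth.Statements.S4361

set_option autoImplicit false
universe u
open FinCond

namespace Groth.Agent.S4361

open TopologicalSpace in
/-- In a locally Noetherian space, every subset of a compact set is compact. -/
theorem isCompact_of_subset_of_locallyNoetherian {α : Type*} [TopologicalSpace α]
    (h : ∀ x : α, ∃ U : Opens α, x ∈ U ∧ NoetherianSpace U) {K t : Set α}
    (hK : IsCompact K) (ht : t ⊆ K) : IsCompact t := by
  choose U hxU hU using h
  obtain ⟨s, hs⟩ := hK.elim_finite_subcover (fun x ↦ (U x : Set α)) (fun x ↦ (U x).isOpen)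
    (fun x _ ↦ Set.mem_iUnion.mpr ⟨x, hxU x⟩)
  have : t = ⋃ x ∈ s, (t ∩ U x) := by
    rw [← Set.inter_iUnion₂]
    exact (Set.inter_eq_left.mpr (ht.trans hs)).symm
  rw [this]
  refine s.isCompact_biUnion fun x _ ↦ ?_
  exact (noetherianSpace_set_iff _).mp (hU x) _ Set.inter_subset_right

open AlgebraicGeometry in
open CategoryTheory in
/-- Let f : X -> Y and g : Y -> Z be morphisms whose composite is quasi-compact, and suppose the
underlying space of X is locally Noetherian (every point has an open neighbourhood which is a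
Noetherian topological space). Then f is quasi-compact. (The published statement also covers the
case g separated, which is the standard cancellation property; this row states only the case of a
locally Noetherian source.) -/
theorem result
    {X Y Z : Scheme.{u}} (f : X ⟶ Y) (g : Y ⟶ Z) [QuasiCompact (f ≫ g)]
    (hX : ∀ x : X, ∃ U : X.Opens, x ∈ U ∧ TopologicalSpace.NoetherianSpace U) :
    QuasiCompact f := by
  rw [quasiCompact_iff_forall_isAffineOpen]
  intro V hV
  -- cover `g '' V` by finitely many affine opens of `Z`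
  have hW : ∀ z : Z, ∃ W : Z.Opens, IsAffineOpen W ∧ z ∈ W := by
    intro z
    obtain ⟨_, ⟨W, hW, rfl⟩, hzW, -⟩ :=
      Z.isBasis_affineOpens.exists_subset_of_mem_open (Set.mem_univ z) isOpen_univ
    exact ⟨W, hW, hzW⟩
  choose W hWa hzW using hW
  obtain ⟨s, hs⟩ := (hV.isCompact.image g.continuous).elim_finite_subcover
    (fun z ↦ (W z : Set Z)) (fun z ↦ (W z).isOpen) (fun z _ ↦ Set.mem_iUnion.mpr ⟨z, hzW z⟩)
  have hK : IsCompact (⋃ z ∈ s, ((f ≫ g) ⁻¹ᵁ W z : Set X)) :=
    s.isCompact_biUnion fun z _ ↦ (f ≫ g).isCompact_preimage (hWa z).isCompact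
  refine isCompact_of_subset_of_locallyNoetherian hX hK ?_
  intro x hx
  have : g (f x) ∈ ⋃ z ∈ s, (W z : Set Z) := hs ⟨f x, hx, rfl⟩
  simp only [Set.mem_iUnion] at this ⊢
  obtain ⟨z, hz, hxz⟩ := this
  exact ⟨z, hz, by simpa using hxz⟩

end Groth.Agent.S4361
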