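import Groth.Statements.S4360

set_option autoImplicit false
universe u
open FinCond

namespace Groth.Agent.S4360

open TopologicalSpace in
/-- In a locally Noetherian space, every subset of a compact set is compact. -/
theorem isCompact_of_subset_of_locallyNoetherian {α : Type*} [TopologicalSpace α]
    (h : ∀ x : α, ∃ U : Opens α, x ∈ U ∧ NoetherianSpace U) {K t : Set α}
    (hK : IsCompact K) (ht : t ⊆ K) : IsCompact t := by
  choose U hxU hU using h
  obtain ⟨s, hs⟩ := hK.elim_finite_subcover (fun x ↦ (U x : Set α)) (fun x ↦ (U x).isOpen)
    (fun x _ ↦ Set.mem_iUnion.mpr ⟨x, hxU x⟩)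
  have : t = ⋃ x ∈ s, (t ∩ U x) := by
    rw [← Set.inter_iUnion₂]
    exact (Set.inter_eq_left.mpr (ht.trans hs)).symm
  rw [this]
  refine s.isCompact_biUnion fun x _ ↦ ?_
  exact (noetherianSpace_set_iff _).mp (hU x) _ Set.inter_subset_right

open AlgebraicGeometry in
open CategoryTheory in
/-- Let f : X -> Y be an immersion and suppose that the underlying space of Y is locally Noetherian,
i.e. every point of Y has an open neighbourhood which is a Noetherian topological space. Then f is
quasi-compact (and hence of finite type, an immersion being locally of finite type). -/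
theorem result
    {X Y : Scheme.{u}} (f : X ⟶ Y) [IsImmersion f]
    (hY : ∀ y : Y, ∃ U : Y.Opens, y ∈ U ∧ TopologicalSpace.NoetherianSpace U) :
    QuasiCompact f := by
  rw [quasiCompact_iff_forall_isAffineOpen]
  intro V hV
  rw [f.isEmbedding.isInducing.isCompact_iff]
  refine isCompact_of_subset_of_locallyNoetherian hY hV.isCompact ?_
  rintro _ ⟨x, hx, rfl⟩
  exact hx

end Groth.Agent.S4360
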