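import Groth.Statements.S4363
import Mathlib

set_option autoImplicit false
universe u v
open RedSep

namespace Groth.Agent.S4363
open AlgebraicGeometry
open CategoryTheory CategoryTheory.Limits

section Helpers

variable {X Y : Scheme.{u}} (f : X ⟶ Y)

/-- the open `pr₁⁻¹ U ∩ pr₂⁻¹ V` of `X ×_Y X` -/
noncomputable def Wopen (U V : X.Opens) : (pullback f f).Opens :=
  pullback.fst f f ⁻¹ᵁ U ⊓ pullback.snd f f ⁻¹ᵁ V

lemma diag_preimage_Wopen (U V : X.Opens) :
    pullback.diagonal f ⁻¹ᵁ (Wopen f U V) = U ⊓ V := by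
  unfold Wopen
  rw [Scheme.Hom.preimage_inf, ← Scheme.Hom.comp_preimage, ← Scheme.Hom.comp_preimage,
    pullback.diagonal_fst, pullback.diagonal_snd, Scheme.Hom.id_preimage, Scheme.Hom.id_preimage]

lemma iSup_Wopen {ι : Type v} (U : ι → X.Opens) (hcov : ⨆ i, U i = ⊤) :
    ⨆ ij : ι × ι, Wopen f (U ij.1) (U ij.2) = ⊤ := by
  rw [eq_top_iff]
  intro z _
  have h1 : pullback.fst f f z ∈ ⨆ i, U i := by rw [hcov]; trivial
  have h2 : pullback.snd f f z ∈ ⨆ i, U i := by rw [hcov]; trivial
  rw [TopologicalSpace.Opens.mem_iSup] at h1 h2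
  obtain ⟨i, hi⟩ := h1
  obtain ⟨j, hj⟩ := h2
  rw [TopologicalSpace.Opens.mem_iSup]
  exact ⟨(i, j), hi, hj⟩


lemma Wopen_le_fst (U V : X.Opens) : Wopen f U V ≤ pullback.fst f f ⁻¹ᵁ U := inf_le_left
lemma Wopen_le_snd (U V : X.Opens) : Wopen f U V ≤ pullback.snd f f ⁻¹ᵁ V := inf_le_right

lemma isPushout_Wopen [IsAffine Y] {U V : X.Opens} (hU : IsAffineOpen U) (hV : IsAffineOpen V) :
    IsPushout (f.appLE ⊤ U le_top) (f.appLE ⊤ V le_top)
      ((pullback.fst f f).appLE U (Wopen f U V) (Wopen_le_fst f U V))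
      ((pullback.snd f f).appLE V (Wopen f U V) (Wopen_le_snd f U V)) := by
  have H : IsPullback (pullback.fst f f) (pullback.snd f f) f f := IsPullback.of_hasPullback f f
  have := isIso_pushoutSection_of_isAffineOpen H (US := ⊤) (UT := V) (UX := U) le_top le_top
    (UY := Wopen f U V) rfl (isAffineOpen_top Y) hV hU
  exact (isIso_pushoutSection_iff H le_top le_top rfl).mp this

lemma isAffineOpen_Wopen [IsAffine Y] {U V : X.Opens} (hU : IsAffineOpen U) (hV : IsAffineOpen V) :
    IsAffineOpen (Wopen f U V) := by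
  have H : IsPullback (pullback.fst f f) (pullback.snd f f) f f := IsPullback.of_hasPullback f f
  have : IsAffine (⊤ : Y.Opens).toScheme := isAffineOpen_top Y
  have : IsAffine U.toScheme := hU
  have : IsAffine V.toScheme := hV
  exact .of_isIso (Scheme.Hom.isPullback_resLE H (US := ⊤) (UT := V) (UX := U) le_top le_top
    (UY := Wopen f U V) rfl).isoPullback.hom


lemma appLE_of_eq_id (g : X ⟶ X) (hg : g = 𝟙 X) (U V : X.Opens) (e : V ≤ g ⁻¹ᵁ U)
    (e' : V ≤ U) :
    g.appLE U V e = X.presheaf.map (homOfLE e').op := by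
  subst hg
  simp only [Scheme.Hom.appLE, Scheme.Hom.id_app]
  rfl

lemma diag_le (U V : X.Opens) : U ⊓ V ≤ pullback.diagonal f ⁻¹ᵁ (Wopen f U V) :=
  (diag_preimage_Wopen f U V).ge

/-- the map `Γ(X ×_Y X, W) ⟶ Γ(X, U ∩ V)` induced by the diagonal -/
noncomputable def psi (U V : X.Opens) : Γ(pullback f f, Wopen f U V) ⟶ Γ(X, U ⊓ V) :=
  (pullback.diagonal f).appLE (Wopen f U V) (U ⊓ V) (diag_le f U V)

lemma fst_psi (U V : X.Opens) :
    (pullback.fst f f).appLE U (Wopen f U V) (Wopen_le_fst f U V) ≫ psi f U V =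
      X.presheaf.map (homOfLE (inf_le_left : U ⊓ V ≤ U)).op := by
  unfold psi
  rw [Scheme.Hom.appLE_comp_appLE]
  exact appLE_of_eq_id _ (pullback.diagonal_fst f) _ _ _ _

lemma snd_psi (U V : X.Opens) :
    (pullback.snd f f).appLE V (Wopen f U V) (Wopen_le_snd f U V) ≫ psi f U V =
      X.presheaf.map (homOfLE (inf_le_right : U ⊓ V ≤ V)).op := by
  unfold psi
  rw [Scheme.Hom.appLE_comp_appLE]
  exact appLE_of_eq_id _ (pullback.diagonal_snd f) _ _ _ _

lemma bijective_map_of_eq (V' V'' : X.Opens) (h : V' = V'') (e : V' ≤ V'') :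
    Function.Bijective (X.presheaf.map (homOfLE e).op).hom := by
  subst h
  have : homOfLE e = 𝟙 _ := Subsingleton.elim _ _
  rw [this]
  simp only [op_id, CategoryTheory.Functor.map_id, CommRingCat.hom_id, RingHom.coe_id]
  exact Function.bijective_id

lemma psi_surj_iff (U V : X.Opens) :
    Function.Surjective (psi f U V).hom ↔
      Function.Surjective ((pullback.diagonal f).app (Wopen f U V)).hom := by
  have hb := bijective_map_of_eq _ _ (diag_preimage_Wopen f U V).symm (diag_le f U V)
  have e : (psi f U V).hom = (X.presheaf.map (homOfLE (diag_le f U V)).op).hom.comp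
      ((pullback.diagonal f).app (Wopen f U V)).hom := rfl
  rw [e, RingHom.coe_comp]
  constructor
  · intro h
    exact (Function.Surjective.of_comp_iff' hb _).mp h
  · intro h
    exact hb.surjective.comp h

lemma closure_le_range_psi [IsAffine Y] {U V : X.Opens} (hU : IsAffineOpen U) (hV : IsAffineOpen V) :
    Subring.closure (Set.range (X.presheaf.map (homOfLE (inf_le_left : U ⊓ V ≤ U)).op).hom ∪
        Set.range (X.presheaf.map (homOfLE (inf_le_right : U ⊓ V ≤ V)).op).hom) =
      (psi f U V).hom.range := by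
  have h := CommRingCat.closure_range_union_range_eq_top_of_isPushout (isPushout_Wopen f hU hV)
  have h2 := congrArg (Subring.map (psi f U V).hom) h
  rw [RingHom.map_closure, Set.image_union, ← Set.range_comp, ← Set.range_comp,
    ← RingHom.range_eq_map] at h2
  rw [← h2, ← fst_psi, ← snd_psi]
  rfl


lemma surj_appTop_restrict {Z : Scheme.{u}} (g : X ⟶ Z) (W : Z.Opens)
    (h : Function.Surjective (g.app W).hom) : Function.Surjective (g ∣_ W).appTop.hom := by
  have h1 : ∀ (W' : Z.Opens) (_ : W' = W), Function.Surjective (g.app W').hom := by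
    rintro _ rfl; exact h
  have h2 := h1 (W.ι ''ᵁ ⊤) (by simp)
  have h3 : Function.Bijective (X.presheaf.map
      (eqToHom (image_morphismRestrict_preimage g W ⊤)).op).hom := by
    have : IsIso (X.presheaf.map (eqToHom (image_morphismRestrict_preimage g W ⊤)).op) :=
      inferInstance
    exact ConcreteCategory.bijective_of_isIso _
  have e : ⇑(g ∣_ W).appTop.hom = ⇑(X.presheaf.map
      (eqToHom (image_morphismRestrict_preimage g W ⊤)).op).hom ∘ ⇑(g.app (W.ι ''ᵁ ⊤)).hom := by
    rw [morphismRestrict_appTop]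
    rfl
  rw [e]
  exact h3.surjective.comp h2

set_option backward.isDefEq.respectTransparency false in
lemma isClosedImmersion_of_affine_cover {Z : Scheme.{u}} (g : X ⟶ Z) {κ : Type v}
    (W : κ → Z.Opens) (hW : ∀ k, IsAffineOpen (W k)) (hcov : ⨆ k, W k = ⊤)
    (h : ∀ k, IsAffineOpen (g ⁻¹ᵁ W k) ∧ Function.Surjective (g.app (W k)).hom) :
    IsClosedImmersion g := by
  rw [HasAffineProperty.iff_of_iSup_eq_top (P := @IsClosedImmersion)
      (fun k : κ => ⟨W k, hW k⟩) hcov]
  intro k
  exact ⟨(h k).1, surj_appTop_restrict g (W k) (h k).2⟩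

end Helpers


open AlgebraicGeometry in
open CategoryTheory in
/-- Let Y be an affine scheme, f : X -> Y a morphism and (U i) a cover of X by affine open subschemes.
Then f is separated if and only if, for every pair of indices i, j, the intersection of U i and U j
is an affine open and its ring of sections is generated, as a ring, by the images of the rings of
sections of U i and of U j under the restriction maps. -/
theorem result
    {X Y : Scheme.{u}} [IsAffine Y] (f : X ⟶ Y) {ι : Type v} (U : ι → X.Opens)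
    (hU : ∀ i, IsAffineOpen (U i)) (hcov : ⨆ i, U i = ⊤) :
    IsSeparated f ↔ ∀ i j, IsAffineOpen (U i ⊓ U j) ∧
      Subring.closure (Set.range (X.presheaf.map (homOfLE (inf_le_left : U i ⊓ U j ≤ U i)).op).hom ∪
        Set.range (X.presheaf.map (homOfLE (inf_le_right : U i ⊓ U j ≤ U j)).op).hom) = ⊤ := by
  constructor
  · intro hsep i j
    have hΔ : IsClosedImmersion (pullback.diagonal f) := inferInstance
    obtain ⟨h1, h2⟩ := isClosedImmersion_iff_isAffineHom.mp hΔ
    have hW := isAffineOpen_Wopen f (hU i) (hU j)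
    refine ⟨?_, ?_⟩
    · have := hW.preimage (pullback.diagonal f)
      rwa [diag_preimage_Wopen] at this
    · rw [closure_le_range_psi f (hU i) (hU j), RingHom.range_eq_top]
      exact (psi_surj_iff f _ _).mpr (h2 _ hW)
  · intro h
    refine ⟨?_⟩
    refine isClosedImmersion_of_affine_cover (pullback.diagonal f)
      (fun ij : ι × ι => Wopen f (U ij.1) (U ij.2))
      (fun ij => isAffineOpen_Wopen f (hU ij.1) (hU ij.2)) (iSup_Wopen f U hcov) ?_
    rintro ⟨i, j⟩
    obtain ⟨h1, h2⟩ := h i j
    refine ⟨?_, ?_⟩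
    · show IsAffineOpen (pullback.diagonal f ⁻¹ᵁ Wopen f (U i) (U j))
      rw [diag_preimage_Wopen]
      exact h1
    · show Function.Surjective ((pullback.diagonal f).app (Wopen f (U i) (U j))).hom
      rw [← psi_surj_iff, ← RingHom.range_eq_top, ← closure_le_range_psi f (hU i) (hU j)]
      exact h2

end Groth.Agent.S4363
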