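import Groth.Statements.S4364

set_option autoImplicit false
universe u
open FinCond

namespace Groth.Agent.S4364

set_option backward.isDefEq.respectTransparency.types false in
open AlgebraicGeometry in
open CategoryTheory in
/-- Let X and Y be S-schemes with Y locally of finite type over S, and let f, g : X -> Y be S-morphisms.
If f x = g x for some point x and the two induced homomorphisms of local rings O_{Y, f x} -> O_{X,
x} coincide, then f and g coincide on an open neighbourhood of x. No condition is imposed on X. (The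
published statement assumes Y of finite type over S; this row assumes Y only locally of finite type
over S, which is all the published proof uses.) -/
theorem result
    {X Y S : Scheme.{u}} (sX : X ⟶ S) (sY : Y ⟶ S) [LocallyOfFiniteType sY]
    (f g : X ⟶ Y) (hf : f ≫ sY = sX) (hg : g ≫ sY = sX) {x : X} (e : f x = g x)
    (H : f.stalkMap x =
      Y.presheaf.stalkSpecializes (Inseparable.of_eq e.symm).specializes ≫ g.stalkMap x) :
    ∃ U : X.Opens, x ∈ U ∧ U.ι ≫ f = U.ι ≫ g := by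
  obtain ⟨_, ⟨W : S.Opens, hW, rfl⟩, hxW, -⟩ :=
    S.isBasis_affineOpens.exists_subset_of_mem_open (Set.mem_univ (sY (f x))) isOpen_univ
  obtain ⟨_, ⟨V : Y.Opens, hV, rfl⟩, hxV, hVW⟩ :=
    Y.isBasis_affineOpens.exists_subset_of_mem_open (show f x ∈ sY ⁻¹ᵁ W from hxW)
      (sY ⁻¹ᵁ W).isOpen
  have hxV' : g x ∈ V := e ▸ hxV
  obtain ⟨_, ⟨U₀ : X.Opens, hU₀, rfl⟩, hxU₀, hU₀V⟩ :=
    X.isBasis_affineOpens.exists_subset_of_mem_open
      (show x ∈ f ⁻¹ᵁ V ⊓ g ⁻¹ᵁ V from ⟨hxV, hxV'⟩) (f ⁻¹ᵁ V ⊓ g ⁻¹ᵁ V).isOpen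
  have hUf : U₀ ≤ f ⁻¹ᵁ V := fun y hy ↦ (hU₀V hy).1
  have hUg : U₀ ≤ g ⁻¹ᵁ V := fun y hy ↦ (hU₀V hy).2
  have key : f.appLE V U₀ hUf ≫ X.presheaf.germ U₀ x hxU₀ =
      g.appLE V U₀ hUg ≫ X.presheaf.germ U₀ x hxU₀ := by
    simp only [Scheme.Hom.appLE, Category.assoc, X.presheaf.germ_res', ← Scheme.Hom.germ_stalkMap, H]
    simp only [TopCat.Presheaf.germ_stalkSpecializes_assoc, Scheme.Hom.germ_stalkMap]
  have hft := sY.finiteType_appLE hW hV hVW
  algebraize [(sY.appLE W V hVW).hom]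
  obtain ⟨t, ht⟩ := Algebra.FiniteType.out (R := Γ(S, W)) (A := Γ(Y, V))
  have hgerm : ∀ b : Γ(Y, V), ∃ (Ub : X.Opens) (_ : x ∈ Ub) (i : Ub ⟶ U₀),
      X.presheaf.map i.op ((f.appLE V U₀ hUf) b) = X.presheaf.map i.op ((g.appLE V U₀ hUg) b) := by
    intro b
    obtain ⟨Ub, hxUb, i₁, i₂, h⟩ := X.presheaf.germ_eq x hxU₀ hxU₀ ((f.appLE V U₀ hUf) b)
      ((g.appLE V U₀ hUg) b) (by simpa using congr($key b))
    obtain rfl : i₁ = i₂ := Subsingleton.elim _ _
    exact ⟨Ub, hxUb, i₁, h⟩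
  choose Ub hxUb iUb hres using hgerm
  have hopen : IsOpen ((U₀ : Set X) ∩ ⋂ b ∈ t, (Ub b : Set X)) :=
    U₀.isOpen.inter (isOpen_biInter_finset fun b _ ↦ (Ub b).isOpen)
  obtain ⟨_, ⟨U : X.Opens, hU, rfl⟩, hxU, hUsub⟩ :=
    X.isBasis_affineOpens.exists_subset_of_mem_open
      (show x ∈ (U₀ : Set X) ∩ ⋂ b ∈ t, (Ub b : Set X) from
        ⟨hxU₀, Set.mem_iInter₂.mpr fun b _ ↦ hxUb b⟩) hopen
  have hUU₀ : U ≤ U₀ := fun y hy ↦ (hUsub hy).1
  have hUUb : ∀ b ∈ t, U ≤ Ub b := fun b hb y hy ↦ Set.mem_iInter₂.mp (hUsub hy).2 b hb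
  have hUf' : U ≤ f ⁻¹ᵁ V := hUU₀.trans hUf
  have hUg' : U ≤ g ⁻¹ᵁ V := hUU₀.trans hUg
  have hbase : sY.appLE W V hVW ≫ f.appLE V U hUf' = sY.appLE W V hVW ≫ g.appLE V U hUg' := by
    rw [Scheme.Hom.appLE_comp_appLE, Scheme.Hom.appLE_comp_appLE]
    have aux : ∀ (h₁ h₂ : X ⟶ S) (_ : h₁ = h₂) (e₁ : U ≤ h₁ ⁻¹ᵁ W) (e₂ : U ≤ h₂ ⁻¹ᵁ W),
        h₁.appLE W U e₁ = h₂.appLE W U e₂ := by
      rintro h₁ _ rfl e₁ e₂; rfl
    exact aux _ _ (hf.trans hg.symm) _ _
  have main : f.appLE V U hUf' = g.appLE V U hUg' := by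
    let E : Subalgebra Γ(S, W) Γ(Y, V) :=
      { carrier := {b | f.appLE V U hUf' b = g.appLE V U hUg' b}
        mul_mem' := fun {a b} ha hb ↦ by
          simp only [Set.mem_ofPred_eq] at ha hb ⊢
          rw [map_mul, map_mul, ha, hb]
        add_mem' := fun {a b} ha hb ↦ by
          simp only [Set.mem_ofPred_eq] at ha hb ⊢
          rw [map_add, map_add, ha, hb]
        algebraMap_mem' := fun r ↦ by
          simp only [Set.mem_ofPred_eq, RingHom.algebraMap_toAlgebra]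
          exact congr($hbase r) }
    have hE : Algebra.adjoin Γ(S, W) (t : Set Γ(Y, V)) ≤ E := by
      refine Algebra.adjoin_le fun b hb ↦ ?_
      change f.appLE V U hUf' b = g.appLE V U hUg' b
      have h1 := hres b
      have := congr(X.presheaf.map (homOfLE (hUUb b hb)).op $h1)
      simp only [← ConcreteCategory.comp_apply, Scheme.Hom.appLE_map] at this
      exact this
    rw [ht] at hE
    ext b
    exact hE (Algebra.mem_top : b ∈ (⊤ : Subalgebra Γ(S, W) Γ(Y, V)))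
  refine ⟨U, hxU, ?_⟩
  rw [← Scheme.Hom.resLE_comp_ι _ hUf', ← Scheme.Hom.resLE_comp_ι _ hUg']
  congr 1
  have : IsAffine V := hV
  suffices ∀ (U₀ V₀) (eU : U = U₀) (eV : V = V₀),
      f.appLE V₀ U₀ (eU ▸ eV ▸ hUf') = g.appLE V₀ U₀ (eU ▸ eV ▸ hUg') by
    rw [← cancel_mono V.toScheme.isoSpec.hom]
    simp only [Scheme.isoSpec, asIso_hom, Scheme.toSpecΓ_naturality,
      Scheme.Hom.app_eq_appLE, Scheme.Hom.resLE_appLE]
    congr 2
    apply this <;> simp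
  rintro U V rfl rfl
  exact main

end Groth.Agent.S4364
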