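import Groth.Statements.S4365
import Mathlib

set_option autoImplicit false
universe u
open FinCond

namespace Groth.Agent.S4365
set_option linter.style.haveILetI false
open AlgebraicGeometry
open CategoryTheory CategoryTheory.Limits

section Helpers

/-- embedding a finitely generated domain over `K` into an algebraically closed field of infinite
transcendence degree -/
lemma exists_injective_algHom (K Ω : Type u) [Field K] [Field Ω] [IsAlgClosed Ω] [Algebra K Ω]
    (t : ℕ → Ω) (ht : AlgebraicIndependent K t)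
    (B : Type u) [CommRing B] [IsDomain B] [Algebra K B] [Algebra.FiniteType K B] :
    ∃ φ : B →ₐ[K] Ω, Function.Injective φ := by
  obtain ⟨s, g, hg, hint⟩ := exists_integral_inj_algHom_of_fg K B
  let h : MvPolynomial (Fin s) K →ₐ[K] Ω := MvPolynomial.aeval (fun i : Fin s => t i)
  have hh : Function.Injective h := by
    have : AlgebraicIndependent K (fun i : Fin s => t i) :=
      ht.comp (fun i : Fin s => (i : ℕ)) Fin.val_injective
    exact this
  letI := g.toRingHom.toAlgebra
  letI := h.toRingHom.toAlgebra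
  haveI : IsScalarTower K (MvPolynomial (Fin s) K) B := IsScalarTower.of_algebraMap_eq' g.comp_algebraMap.symm
  haveI : IsScalarTower K (MvPolynomial (Fin s) K) Ω := IsScalarTower.of_algebraMap_eq' h.comp_algebraMap.symm
  haveI : Algebra.IsIntegral (MvPolynomial (Fin s) K) B := ⟨hint⟩
  haveI : Module.IsTorsionFree (MvPolynomial (Fin s) K) B :=
    Module.isTorsionFree_iff_algebraMap_injective.mpr hg
  haveI : Module.IsTorsionFree (MvPolynomial (Fin s) K) Ω :=
    Module.isTorsionFree_iff_algebraMap_injective.mpr hh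
  let φ : B →ₐ[MvPolynomial (Fin s) K] Ω := IsAlgClosed.lift
  refine ⟨φ.restrictScalars K, ?_⟩
  have hker : RingHom.ker φ = ⊥ := by
    apply Ideal.eq_bot_of_comap_eq_bot (R := MvPolynomial (Fin s) K)
    rw [eq_bot_iff]
    intro r hr
    rw [Ideal.mem_comap, RingHom.mem_ker, φ.commutes] at hr
    rw [Ideal.mem_bot]
    exact hh (hr.trans (map_zero _).symm)
  exact (RingHom.injective_iff_ker_eq_bot _).mpr hker


lemma exists_point_of_surjective (Ω : Type u) [Field Ω] [IsAlgClosed Ω]
    {X Y : Scheme.{u}} (f : X ⟶ Y) [LocallyOfFiniteType f] [Surjective f]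
    (y : Spec (CommRingCat.of Ω) ⟶ Y) :
    ∃ x : Spec (CommRingCat.of Ω) ⟶ X, x ≫ f = y := by
  let g : pullback f y ⟶ Spec (CommRingCat.of Ω) := pullback.snd f y
  haveI : LocallyOfFiniteType g := inferInstance
  haveI : Surjective g := inferInstance
  haveI : JacobsonSpace ↥(pullback f y) := LocallyOfFiniteType.jacobsonSpace g
  obtain ⟨z0, -⟩ := g.surjective (IsLocalRing.closedPoint Ω)
  obtain ⟨z, -, hz⟩ := nonempty_inter_closedPoints (X := ↥(pullback f y)) (Z := Set.univ)
    ⟨z0, trivial⟩ isOpen_univ.isLocallyClosed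
  have hz' : IsClosed {z} := hz
  refine ⟨pointOfClosedPoint g z hz' ≫ pullback.fst f y, ?_⟩
  have h1 : pointOfClosedPoint g z hz' ≫ pullback.snd f y = 𝟙 _ := pointOfClosedPoint_comp g z hz'
  rw [Category.assoc, pullback.condition, ← Category.assoc, h1, Category.id_comp]


lemma fromSpec_comp {R : CommRingCat.{u}} {Y : Scheme.{u}} (q : Y ⟶ Spec R) {V : Y.Opens}
    (hV : IsAffineOpen V) :
    hV.fromSpec ≫ q = Spec.map ((Scheme.ΓSpecIso R).inv ≫ q.appLE ⊤ V le_top) := by
  rw [Spec.map_comp, ← IsAffineOpen.SpecMap_appLE_fromSpec q (isAffineOpen_top _) hV le_top,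
    IsAffineOpen.fromSpec_top, Scheme.isoSpec_Spec_inv]

set_option backward.isDefEq.respectTransparency.types false in
lemma exists_Kpoint (K Ω : Type u) [Field K] [Field Ω] [IsAlgClosed Ω] [Algebra K Ω]
    (t : ℕ → Ω) (ht : AlgebraicIndependent K t)
    {Y : Scheme.{u}} (pY : Y ⟶ Spec (CommRingCat.of K)) [LocallyOfFiniteType pY] (y₀ : Y) :
    ∃ y : Spec (CommRingCat.of Ω) ⟶ Y,
      y ≫ pY = Spec.map (CommRingCat.ofHom (algebraMap K Ω)) ∧
      y (IsLocalRing.closedPoint Ω) = y₀ := by
  obtain ⟨_, ⟨V, hV, rfl⟩, hy₀, -⟩ := Y.isBasis_affineOpens.exists_subset_of_mem_open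
    (Set.mem_univ y₀) isOpen_univ
  have hV' : IsAffineOpen V := hV
  let φA : CommRingCat.of K ⟶ Γ(Y, V) :=
    (Scheme.ΓSpecIso (CommRingCat.of K)).inv ≫ pY.appLE ⊤ V le_top
  have hφA : φA.hom.FiniteType := by
    have h1 : (pY.appLE ⊤ V le_top).hom.FiniteType :=
      HasRingHomProperty.appLE @LocallyOfFiniteType pY inferInstance
        ⟨⊤, isAffineOpen_top _⟩ ⟨V, hV⟩ le_top
    have h2 : (Scheme.ΓSpecIso (CommRingCat.of K)).inv.hom.FiniteType :=
      RingHom.FiniteType.of_surjective _
        (ConcreteCategory.bijective_of_isIso (Scheme.ΓSpecIso (CommRingCat.of K)).inv).surjective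
    exact h1.comp h2
  let p : PrimeSpectrum Γ(Y, V) := hV'.primeIdealOf ⟨y₀, hy₀⟩
  letI algA : Algebra K Γ(Y, V) := φA.hom.toAlgebra
  haveI : Algebra.FiniteType K Γ(Y, V) := hφA
  haveI : Algebra.FiniteType K (Γ(Y, V) ⧸ p.asIdeal) :=
    Algebra.FiniteType.of_surjective (Ideal.Quotient.mkₐ K p.asIdeal)
      (Ideal.Quotient.mkₐ_surjective K p.asIdeal)
  obtain ⟨ψ, hψ⟩ := exists_injective_algHom K Ω t ht (Γ(Y, V) ⧸ p.asIdeal)
  let χ : Γ(Y, V) →ₐ[K] Ω := ψ.comp (Ideal.Quotient.mkₐ K p.asIdeal)
  refine ⟨Spec.map (CommRingCat.ofHom χ.toRingHom) ≫ hV'.fromSpec, ?_, ?_⟩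
  · rw [Category.assoc, fromSpec_comp, ← Spec.map_comp]
    congr 1
    ext r
    exact χ.commutes r
  · rw [Scheme.Hom.comp_apply, Spec.map_apply]
    have : PrimeSpectrum.comap (CommRingCat.ofHom χ.toRingHom).hom (IsLocalRing.closedPoint Ω) =
        p := by
      ext a
      rw [PrimeSpectrum.comap_asIdeal, Ideal.mem_comap]
      show χ a ∈ IsLocalRing.maximalIdeal Ω ↔ _
      rw [IsLocalRing.maximalIdeal_eq_bot, Ideal.mem_bot]
      show ψ (Ideal.Quotient.mk p.asIdeal a) = 0 ↔ _
      rw [map_eq_zero_iff ψ hψ, Ideal.Quotient.eq_zero_iff_mem]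
    rw [this]
    exact hV'.fromSpec_primeIdealOf ⟨y₀, hy₀⟩

end Helpers


open AlgebraicGeometry in
open CategoryTheory in
/-- Let K be a field, X and Y schemes locally of finite type over K, f : X -> Y a K-morphism and Ω an
algebraically closed extension field of K of infinite transcendence degree over K (there is an
algebraically independent sequence in Ω). Then f is surjective if and only if the map it induces
from the K-points of X with values in Ω to those of Y is surjective, i.e. every K-morphism Spec Ω ->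
Y factors through f. (The published proposition assumes X and Y of finite type over K, and a later
remark of the same text extends it to X and Y locally of finite type over K, the form stated here.) -/
theorem result
    (K Ω : Type u) [Field K] [Field Ω] [IsAlgClosed Ω] [Algebra K Ω]
    (t : ℕ → Ω) (ht : AlgebraicIndependent K t)
    {X Y : Scheme.{u}} (pX : X ⟶ Spec (CommRingCat.of K)) (pY : Y ⟶ Spec (CommRingCat.of K))
    [LocallyOfFiniteType pX] [LocallyOfFiniteType pY] (f : X ⟶ Y) (hf : f ≫ pY = pX) :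
    Surjective f ↔ ∀ y : Spec (CommRingCat.of Ω) ⟶ Y,
      y ≫ pY = Spec.map (CommRingCat.ofHom (algebraMap K Ω)) →
        ∃ x : Spec (CommRingCat.of Ω) ⟶ X, x ≫ f = y := by
  haveI : LocallyOfFiniteType (f ≫ pY) := by rw [hf]; infer_instance
  haveI : LocallyOfFiniteType f := locallyOfFiniteType_of_comp f pY
  constructor
  · intro hs y _
    exact exists_point_of_surjective Ω f y
  · intro h
    refine ⟨fun y₀ => ?_⟩
    obtain ⟨y, hy, hy₀⟩ := exists_Kpoint K Ω t ht pY y₀
    obtain ⟨x, hx⟩ := h y hy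
    refine ⟨x (IsLocalRing.closedPoint Ω), ?_⟩
    rw [← hy₀, ← hx]
    rfl

end Groth.Agent.S4365
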