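import Groth.Statements.S4366
import Mathlib.AlgebraicGeometry.Morphisms.Flat
import Mathlib.AlgebraicGeometry.Morphisms.Preimmersion

set_option autoImplicit false
universe u
open SchMor

namespace Groth.Agent.S4366

open AlgebraicGeometry in
open CategoryTheory in
theorem flat_fromSpecStalk (Y : Scheme.{u}) (y : Y) : Flat (Y.fromSpecStalk y) := by
  obtain ⟨_, ⟨U, hU, rfl⟩, hyU, -⟩ :=
    Y.isBasis_affineOpens.exists_subset_of_mem_open (Set.mem_univ y) isOpen_univ
  rw [← hU.fromSpecStalk_eq_fromSpecStalk hyU, IsAffineOpen.fromSpecStalk]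
  have : Flat (Spec.map (Y.presheaf.germ U y hyU)) := by
    rw [HasRingHomProperty.Spec_iff (P := @Flat)]
    let : Algebra Γ(Y, U) (Y.presheaf.stalk y) := (Y.presheaf.germ U y hyU).hom.toAlgebra
    have := hU.isLocalization_stalk ⟨y, hyU⟩
    exact (RingHom.flat_algebraMap_iff).mpr
      (IsLocalization.flat _ (hU.primeIdealOf ⟨y, hyU⟩).asIdeal.primeCompl)
  infer_instance

open AlgebraicGeometry in
open CategoryTheory in
open CategoryTheory.Limits in
/-- Let f : X -> Y be a morphism, y a point of Y and Z = Spec O_{Y,y} the local scheme of Y at y with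
its canonical morphism to Y. Then the projection p : X x_Y Z -> X induces isomorphisms on all local
rings: for every point t of X x_Y Z the homomorphism O_{X, p t} -> O_{X x_Y Z, t} is bijective. (The
published statement also asserts that p is a homeomorphism onto the preimage of Z; that part is not
stated here.) -/
theorem result
    {X Y : Scheme.{u}} (f : X ⟶ Y) (y : Y) (t : ↑(pullback f (Y.fromSpecStalk y))) :
    IsIso ((pullback.fst f (Y.fromSpecStalk y)).stalkMap t) := by
  have hfl : Flat (Y.fromSpecStalk y) := flat_fromSpecStalk Y y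
  set p := pullback.fst f (Y.fromSpecStalk y) with hp
  have hpf : Flat p := inferInstance
  have hsurj : Function.Surjective (p.stalkMap t) := p.stalkMap_surjective t
  have hinj : Function.Injective (p.stalkMap t) := by
    algebraize [(p.stalkMap t).hom]
    have : IsLocalHom (algebraMap (X.presheaf.stalk (p t)) ((pullback f (Y.fromSpecStalk y)).presheaf.stalk t)) :=
      inferInstanceAs <| IsLocalHom (p.stalkMap t).hom
    have : Module.Flat (X.presheaf.stalk (p t)) ((pullback f (Y.fromSpecStalk y)).presheaf.stalk t) := by
      rw [← RingHom.flat_algebraMap_iff, RingHom.algebraMap_toAlgebra]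
      exact Flat.stalkMap p t
    have hff : Module.FaithfullyFlat (X.presheaf.stalk (p t))
        ((pullback f (Y.fromSpecStalk y)).presheaf.stalk t) :=
      Module.FaithfullyFlat.of_flat_of_isLocalHom
    exact FaithfulSMul.algebraMap_injective _ _
  exact (ConcreteCategory.isIso_iff_bijective _).mpr ⟨hinj, hsurj⟩

end Groth.Agent.S4366
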