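import Groth.Statements.S4368

set_option autoImplicit false
universe u
open RedSep

namespace Groth.Agent.S4368

open AlgebraicGeometry in
open CategoryTheory in
/-- The closed subscheme cut out by a radical ideal sheaf is reduced. -/
theorem isReduced_subscheme_of_radical (X : Scheme.{u}) (I : X.IdealSheafData)
    (h : ∀ U : X.affineOpens, (I.ideal U).IsRadical) : IsReduced I.subscheme := by
  have : ∀ U : X.affineOpens, IsReduced (I.subschemeCover.openCover.X U) := by
    intro U
    have : _root_.IsReduced (Γ(X, U) ⧸ I.ideal U) :=
      (Ideal.isRadical_iff_quotient_reduced _).mp (h U)
    change IsReduced (Spec (.of (Γ(X, U) ⧸ I.ideal U)))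
    infer_instance
  exact IsReduced.of_openCover _ I.subschemeCover.openCover

open AlgebraicGeometry in
open CategoryTheory in
/-- If the closed subscheme is reduced then the ideal sheaf is radical. -/
theorem isRadical_of_isReduced_subscheme (X : Scheme.{u}) (I : X.IdealSheafData)
    [IsReduced I.subscheme] (U : X.affineOpens) : (I.ideal U).IsRadical := by
  rw [Ideal.isRadical_iff_quotient_reduced]
  exact isReduced_of_injective (I.subschemeObjIso U).inv.hom
    (I.subschemeObjIso U).symm.commRingCatIsoToRingEquiv.injective

open AlgebraicGeometry in
open CategoryTheory in
/-- Let X be a scheme and I a quasi-coherent sheaf of ideals of O_X whose support is all of X, so that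
the closed subscheme it defines has underlying space X. Then that closed subscheme is reduced if and
only if I is the nilradical of O_X. In particular the closed subscheme defined by the nilradical is
the unique reduced closed subscheme of X with underlying space X (and, the support condition being
equivalent to I being contained in the nilradical, the smallest one). -/
theorem result
    (X : Scheme.{u}) (I : X.IdealSheafData) (hI : I.support = ⊤) :
    IsReduced I.subscheme ↔ I = X.nilradical := by
  constructor
  · intro h
    have h1 : I ≤ X.nilradical := by
      rw [← Scheme.IdealSheafData.vanishingIdeal_top,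
        ← Scheme.IdealSheafData.le_support_iff_le_vanishingIdeal, hI]
    refine le_antisymm h1 ?_
    intro U
    have hr := isRadical_of_isReduced_subscheme X I U
    change (⊥ : X.IdealSheafData).radical.ideal U ≤ I.ideal U
    rw [Scheme.IdealSheafData.radical_ideal]
    calc (((⊥ : X.IdealSheafData).ideal U)).radical ≤ (I.ideal U).radical :=
          Ideal.radical_mono ((bot_le : (⊥ : X.IdealSheafData) ≤ I) U)
      _ = I.ideal U := hr.radical
  · rintro rfl
    refine isReduced_subscheme_of_radical X _ fun U ↦ ?_
    change ((⊥ : X.IdealSheafData).radical.ideal U).IsRadical
    rw [Scheme.IdealSheafData.radical_ideal]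
    exact Ideal.radical_isRadical _

end Groth.Agent.S4368
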