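import Groth.Statements.S4370
import Groth.Agent.S4368
import Mathlib.AlgebraicGeometry.Morphisms.ClosedImmersion
import Mathlib.AlgebraicGeometry.PullbackCarrier

set_option autoImplicit false
universe u
open RedSep

namespace Groth.Agent.S4370

open AlgebraicGeometry in
open CategoryTheory in
/-- Let f : X -> Y be an open immersion and let g : X_red -> Y_red be the morphism of reduced schemes
induced by f, i.e. the morphism between the closed subschemes defined by the nilradicals whose
composite with the inclusion of Y_red in Y is the inclusion of X_red in X followed by f. Then g is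
an open immersion. -/
theorem result
    {X Y : Scheme.{u}} (f : X ⟶ Y) [IsOpenImmersion f]
    (g : X.nilradical.subscheme ⟶ Y.nilradical.subscheme)
    (hg : g ≫ Y.nilradical.subschemeι = X.nilradical.subschemeι ≫ f) :
    IsOpenImmersion g := by
  have hYred : IsReduced Y.nilradical.subscheme :=
    (Groth.Agent.S4368.result Y _ Y.support_nilradical).mpr rfl
  let l : X.nilradical.subscheme ⟶ Limits.pullback f Y.nilradical.subschemeι :=
    Limits.pullback.lift X.nilradical.subschemeι g hg.symm
  have hl1 : l ≫ Limits.pullback.fst f Y.nilradical.subschemeι = X.nilradical.subschemeι :=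
    Limits.pullback.lift_fst _ _ _
  have hl2 : l ≫ Limits.pullback.snd f Y.nilradical.subschemeι = g :=
    Limits.pullback.lift_snd _ _ _
  have : IsReduced (Limits.pullback f Y.nilradical.subschemeι) :=
    isReduced_of_isOpenImmersion (Limits.pullback.snd f Y.nilradical.subschemeι)
  have hci : IsClosedImmersion (l ≫ Limits.pullback.fst f Y.nilradical.subschemeι) := by
    rw [hl1]; infer_instance
  have : IsClosedImmersion l :=
    IsClosedImmersion.of_comp_isClosedImmersion l (Limits.pullback.fst f Y.nilradical.subschemeι)
  have : Surjective l := by
    refine ⟨fun p ↦ ?_⟩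
    have hx : (Limits.pullback.fst f Y.nilradical.subschemeι) p ∈
        Set.range X.nilradical.subschemeι := by
      rw [Scheme.IdealSheafData.range_subschemeι, Scheme.support_nilradical]
      trivial
    obtain ⟨x', hx'⟩ := hx
    refine ⟨x', ?_⟩
    apply (Limits.pullback.fst f Y.nilradical.subschemeι).isClosedEmbedding.injective
    rw [← hx', ← hl1, Scheme.Hom.comp_apply]
  have : IsIso l := isIso_of_isClosedImmersion_of_surjective l
  rw [← hl2]
  infer_instance

end Groth.Agent.S4370
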