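import Groth.Statements.S4371
import Mathlib

set_option autoImplicit false
universe u
open RedSep

namespace Groth.Agent.S4371

open AlgebraicGeometry CategoryTheory Opposite TopologicalSpace

/-- In a domain, if `p g^m = q f^n` with `f` prime not dividing `g`, then `p / f^n = q / g^m` is
an honest element. -/
lemma alg_aux {R : Type*} [CommRing R] [IsDomain R] (f g p q : R) (n m : ℕ) (hf : Prime f)
    (hfg : ¬ f ∣ g) (h : p * g ^ m = q * f ^ n) : ∃ r, p = f ^ n * r ∧ q = g ^ m * r := by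
  have h1 : f ^ n ∣ p :=
    hf.pow_dvd_of_dvd_mul_right n (fun hd => hfg (hf.dvd_of_dvd_pow hd)) ⟨q, by rw [h]; ring⟩
  obtain ⟨r, rfl⟩ := h1
  refine ⟨r, rfl, ?_⟩
  have hfn : f ^ n ≠ 0 := pow_ne_zero _ hf.ne_zero
  apply mul_right_cancel₀ hfn
  rw [← h]; ring

variable {X : Scheme.{u}}

lemma res_res {U V W : X.Opens} (h1 : V ≤ U) (h2 : W ≤ V) (s : Γ(X, U)) :
    X.presheaf.map (homOfLE h2).op (X.presheaf.map (homOfLE h1).op s) =
      X.presheaf.map (homOfLE (h2.trans h1)).op s := by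
  rw [← CommRingCat.comp_apply, ← X.presheaf.map_comp]; rfl

lemma algebraMap_basicOpen_eq {U : X.Opens} (f : Γ(X, U)) (s : Γ(X, U)) :
    algebraMap Γ(X, U) Γ(X, X.basicOpen f) s =
      X.presheaf.map (homOfLE (X.basicOpen_le f)).op s := rfl

/-- Hartogs-type extension: on an affine integral scheme, sections over `D(f) ∪ D(g)` extend to
global sections, if `f` is prime and does not divide `g ≠ 0`. -/
lemma exists_restrict_eq [IsAffine X] [IsDomain Γ(X, ⊤)] (f g : Γ(X, ⊤)) (hf : Prime f)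
    (hfg : ¬ f ∣ g) (hg : g ≠ 0) (σ : Γ(X, X.basicOpen f ⊔ X.basicOpen g)) :
    ∃ r : Γ(X, ⊤), X.presheaf.map (homOfLE le_top).op r = σ := by
  have hf0 : f ≠ 0 := hf.ne_zero
  have iUf : X.basicOpen f ≤ X.basicOpen f ⊔ X.basicOpen g := le_sup_left
  have iUg : X.basicOpen g ≤ X.basicOpen f ⊔ X.basicOpen g := le_sup_right
  have ifg_f : X.basicOpen (f * g) ≤ X.basicOpen f := by
    rw [Scheme.basicOpen_mul]; exact inf_le_left
  have ifg_g : X.basicOpen (f * g) ≤ X.basicOpen g := by
    rw [Scheme.basicOpen_mul]; exact inf_le_right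
  obtain ⟨n, p, hp⟩ := IsLocalization.Away.surj f (X.presheaf.map (homOfLE iUf).op σ)
  obtain ⟨m, q, hq⟩ := IsLocalization.Away.surj g (X.presheaf.map (homOfLE iUg).op σ)
  rw [algebraMap_basicOpen_eq, algebraMap_basicOpen_eq] at hp hq
  have key : p * g ^ m = q * f ^ n := by
    have hinj : Function.Injective (algebraMap Γ(X, ⊤) Γ(X, X.basicOpen (f * g))) :=
      IsLocalization.injective _
        (powers_le_nonZeroDivisors_of_noZeroDivisors (mul_ne_zero hf0 hg))
    apply hinj
    have e1 := congrArg (X.presheaf.map (homOfLE ifg_f).op) hp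
    have e2 := congrArg (X.presheaf.map (homOfLE ifg_g).op) hq
    rw [map_mul, map_pow, res_res, res_res, res_res] at e1 e2
    rw [algebraMap_basicOpen_eq, algebraMap_basicOpen_eq, map_mul, map_pow, map_mul, map_pow]
    rw [← e1, ← e2]
    ring
  obtain ⟨r, rfl, rfl⟩ := alg_aux f g p q n m hf hfg key
  have hpf : X.presheaf.map (homOfLE iUf).op σ =
      X.presheaf.map (homOfLE (X.basicOpen_le f)).op r := by
    have hu : IsUnit (X.presheaf.map (homOfLE (X.basicOpen_le f)).op f) :=
      IsLocalization.Away.algebraMap_isUnit (S := Γ(X, X.basicOpen f)) f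
    rw [map_mul, map_pow, mul_comm] at hp
    exact (hu.pow n).mul_left_cancel hp
  have hqg : X.presheaf.map (homOfLE iUg).op σ =
      X.presheaf.map (homOfLE (X.basicOpen_le g)).op r := by
    have hu : IsUnit (X.presheaf.map (homOfLE (X.basicOpen_le g)).op g) :=
      IsLocalization.Away.algebraMap_isUnit (S := Γ(X, X.basicOpen g)) g
    rw [map_mul, map_pow, mul_comm] at hq
    exact (hu.pow m).mul_left_cancel hq
  refine ⟨r, ?_⟩
  apply X.sheaf.eq_of_locally_eq₂ (homOfLE iUf) (homOfLE iUg) le_rfl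
  · change X.presheaf.map (homOfLE iUf).op (X.presheaf.map (homOfLE le_top).op r) = _
    rw [res_res]; exact hpf.symm
  · change X.presheaf.map (homOfLE iUg).op (X.presheaf.map (homOfLE le_top).op r) = _
    rw [res_res]; exact hqg.symm

/-- On an affine integral scheme, `D(f) ∪ D(g)` is not affine if `f` is prime, does not divide
`g ≠ 0`, and `(f, g)` is a proper ideal. -/
lemma not_isAffineOpen_sup [IsAffine X] [IsDomain Γ(X, ⊤)] (f g : Γ(X, ⊤)) (hf : Prime f)
    (hfg : ¬ f ∣ g) (hg : g ≠ 0) (hspan : Ideal.span {f, g} ≠ ⊤) :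
    ¬ IsAffineOpen (X.basicOpen f ⊔ X.basicOpen g) := by
  intro hU
  have iUf : X.basicOpen f ≤ X.basicOpen f ⊔ X.basicOpen g := le_sup_left
  have iUg : X.basicOpen g ≤ X.basicOpen f ⊔ X.basicOpen g := le_sup_right
  have h1 : X.basicOpen (X.presheaf.map
      (homOfLE (le_top : X.basicOpen f ⊔ X.basicOpen g ≤ ⊤)).op f) = X.basicOpen f := by
    rw [Scheme.basicOpen_res]; exact inf_eq_right.mpr iUf
  have h2 : X.basicOpen (X.presheaf.map
      (homOfLE (le_top : X.basicOpen f ⊔ X.basicOpen g ≤ ⊤)).op g) = X.basicOpen g := by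
    rw [Scheme.basicOpen_res]; exact inf_eq_right.mpr iUg
  have hs : Ideal.span
      ({X.presheaf.map (homOfLE (le_top : X.basicOpen f ⊔ X.basicOpen g ≤ ⊤)).op f,
        X.presheaf.map (homOfLE (le_top : X.basicOpen f ⊔ X.basicOpen g ≤ ⊤)).op g} :
        Set Γ(X, X.basicOpen f ⊔ X.basicOpen g)) = ⊤ := by
    rw [← hU.self_le_iSup_basicOpen_iff]
    rw [sup_le_iff]
    constructor
    · refine le_trans (le_of_eq h1.symm) ?_
      exact le_iSup (fun s : ({X.presheaf.map (homOfLE (le_top :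
        X.basicOpen f ⊔ X.basicOpen g ≤ ⊤)).op f, X.presheaf.map (homOfLE (le_top :
        X.basicOpen f ⊔ X.basicOpen g ≤ ⊤)).op g} : Set Γ(X, X.basicOpen f ⊔ X.basicOpen g)) =>
        X.basicOpen s.1) ⟨_, Set.mem_insert _ _⟩
    · refine le_trans (le_of_eq h2.symm) ?_
      exact le_iSup (fun s : ({X.presheaf.map (homOfLE (le_top :
        X.basicOpen f ⊔ X.basicOpen g ≤ ⊤)).op f, X.presheaf.map (homOfLE (le_top :
        X.basicOpen f ⊔ X.basicOpen g ≤ ⊤)).op g} : Set Γ(X, X.basicOpen f ⊔ X.basicOpen g)) =>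
        X.basicOpen s.1) ⟨_, Set.mem_insert_of_mem _ (Set.mem_singleton _)⟩
  obtain ⟨a, b, hab⟩ := Ideal.mem_span_pair.mp
    (hs ▸ Submodule.mem_top : (1 : Γ(X, X.basicOpen f ⊔ X.basicOpen g)) ∈ Ideal.span _)
  obtain ⟨a', rfl⟩ := exists_restrict_eq f g hf hfg hg a
  obtain ⟨b', rfl⟩ := exists_restrict_eq f g hf hfg hg b
  have hinj : Function.Injective
      (X.presheaf.map (homOfLE (le_top : X.basicOpen f ⊔ X.basicOpen g ≤ ⊤)).op) := by
    have hinj' : Function.Injective (algebraMap Γ(X, ⊤) Γ(X, X.basicOpen f)) :=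
      IsLocalization.injective _ (powers_le_nonZeroDivisors_of_noZeroDivisors hf.ne_zero)
    intro x y hxy
    apply hinj'
    rw [algebraMap_basicOpen_eq, algebraMap_basicOpen_eq, ← res_res le_top iUf x,
      ← res_res le_top iUf y, hxy]
  have : a' * f + b' * g = 1 := hinj (by rw [map_add, map_mul, map_mul, hab, map_one])
  exact hspan ((Ideal.eq_top_iff_one _).mpr (Ideal.mem_span_pair.mpr ⟨a', b', this⟩))

open AlgebraicGeometry in
open CategoryTheory in
/-- Let K be a field and Y = Spec K[s, t] the affine plane over K. The open subset D(s) ∪ D(t) of Y, the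
complement of the closed point s = t = 0, is not affine. -/
theorem result
    (K : Type u) [Field K] :
    ¬ IsAffineOpen (X := Spec (CommRingCat.of (MvPolynomial (Fin 2) K)))
      (PrimeSpectrum.basicOpen (MvPolynomial.X 0 : MvPolynomial (Fin 2) K) ⊔
        PrimeSpectrum.basicOpen (MvPolynomial.X 1 : MvPolynomial (Fin 2) K)) := by
  classical
  let R := MvPolynomial (Fin 2) K
  let e : Γ(Spec (CommRingCat.of R), ⊤) ≃+* R :=
    (Scheme.ΓSpecIso (CommRingCat.of R)).commRingCatIsoToRingEquiv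
  haveI : IsDomain Γ(Spec (CommRingCat.of R), ⊤) := e.toMulEquiv.isDomain R
  have he : ∀ x : R, e ((Scheme.ΓSpecIso (CommRingCat.of R)).inv x) = x := fun x =>
    Iso.inv_hom_id_apply (Scheme.ΓSpecIso (CommRingCat.of R)) x
  have hf : Prime ((Scheme.ΓSpecIso (CommRingCat.of R)).inv (MvPolynomial.X 0)) := by
    rw [← MulEquiv.prime_iff e, he]
    exact MvPolynomial.X_prime
  have hfg : ¬ (Scheme.ΓSpecIso (CommRingCat.of R)).inv (MvPolynomial.X 0) ∣
      (Scheme.ΓSpecIso (CommRingCat.of R)).inv (MvPolynomial.X 1) := by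
    intro hd
    have := map_dvd e hd
    rw [he, he, MvPolynomial.X_dvd_X] at this
    exact absurd this (by decide)
  have hg : (Scheme.ΓSpecIso (CommRingCat.of R)).inv (MvPolynomial.X 1) ≠ 0 := by
    intro h0
    have := congrArg e h0
    rw [he, map_zero] at this
    exact MvPolynomial.X_ne_zero _ this
  have hspan : Ideal.span ({(Scheme.ΓSpecIso (CommRingCat.of R)).inv (MvPolynomial.X 0),
      (Scheme.ΓSpecIso (CommRingCat.of R)).inv (MvPolynomial.X 1)} :
      Set Γ(Spec (CommRingCat.of R), ⊤)) ≠ ⊤ := by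
    intro htop
    obtain ⟨a, b, hab⟩ := Ideal.mem_span_pair.mp
      (htop ▸ Submodule.mem_top : (1 : Γ(Spec (CommRingCat.of R), ⊤)) ∈ Ideal.span _)
    have h1 := congrArg e hab
    rw [map_add, map_mul, map_mul, he, he, map_one] at h1
    have h2 := congrArg MvPolynomial.constantCoeff h1
    rw [map_add, map_mul, map_mul, MvPolynomial.constantCoeff_X, MvPolynomial.constantCoeff_X,
      mul_zero, mul_zero, add_zero, map_one] at h2
    exact zero_ne_one h2
  have := not_isAffineOpen_sup (X := Spec (CommRingCat.of R)) _ _ hf hfg hg hspan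
  rw [basicOpen_eq_of_affine, basicOpen_eq_of_affine] at this
  exact this

end Groth.Agent.S4371
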