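import Groth.Statements.S4372
import Groth.Agent.S4367
import Groth.Agent.S4368
import Mathlib.AlgebraicGeometry.Morphisms.ClosedImmersion
import Mathlib.AlgebraicGeometry.PullbackCarrier

set_option autoImplicit false
universe u
open RedSep

namespace Groth.Agent.S4372

open AlgebraicGeometry in
open CategoryTheory in
/-- Let h : Z -> X be an immersion with Z reduced (a reduced subscheme of X), and let W be the reduced
closed subscheme of X whose underlying space is the closure of h(Z). Then Z is an open subscheme of
W: h factors as an open immersion Z -> W followed by the closed immersion W -> X. Stated as the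
existence of such a factorization through a reduced scheme W closed-immersed onto the closure of the
image. -/
theorem result
    {Z X : Scheme.{u}} (h : Z ⟶ X) [IsImmersion h] [IsReduced Z] :
    ∃ (W : Scheme.{u}) (j : Z ⟶ W) (i : W ⟶ X), IsOpenImmersion j ∧ IsClosedImmersion i ∧
      IsReduced W ∧ Set.range i = closure (Set.range h) ∧ j ≫ i = h := by
  let T : TopologicalSpace.Closeds X := ⟨closure (Set.range h), isClosed_closure⟩
  let I : X.IdealSheafData := Scheme.IdealSheafData.vanishingIdeal T
  have hWred : IsReduced I.subscheme :=
    Groth.Agent.S4368.isReduced_subscheme_of_radical X I fun U ↦ by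
      rw [Scheme.IdealSheafData.vanishingIdeal_ideal]
      exact PrimeSpectrum.isRadical_vanishingIdeal _
  have hrange : Set.range I.subschemeι = closure (Set.range h) := by
    rw [Scheme.IdealSheafData.range_subschemeι, Scheme.IdealSheafData.coe_support_vanishingIdeal]
    rfl
  obtain ⟨g, hg⟩ := Groth.Agent.S4367.result h I.subschemeι (by
    rw [hrange]; exact subset_closure)
  refine ⟨I.subscheme, g, I.subschemeι, ?_, inferInstance, hWred, hrange, hg⟩
  -- the pullback of `W → X` along the coborder open immersion
  let U := h.coborderRange
  let c : Z ⟶ U := h.liftCoborder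
  have hc : c ≫ U.ι = h := h.liftCoborder_ι
  let l : Z ⟶ Limits.pullback U.ι I.subschemeι := Limits.pullback.lift c g (by rw [hc, hg])
  have hl1 : l ≫ Limits.pullback.fst U.ι I.subschemeι = c := Limits.pullback.lift_fst _ _ _
  have hl2 : l ≫ Limits.pullback.snd U.ι I.subschemeι = g := Limits.pullback.lift_snd _ _ _
  have : IsReduced (Limits.pullback U.ι I.subschemeι) :=
    isReduced_of_isOpenImmersion (Limits.pullback.snd U.ι I.subschemeι)
  have hci : IsClosedImmersion (l ≫ Limits.pullback.fst U.ι I.subschemeι) := by
    rw [hl1]; infer_instance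
  have : IsClosedImmersion l :=
    IsClosedImmersion.of_comp_isClosedImmersion l (Limits.pullback.fst U.ι I.subschemeι)
  have : Surjective l := by
    refine ⟨fun p ↦ ?_⟩
    have h1 : U.ι ((Limits.pullback.fst U.ι I.subschemeι) p) ∈ closure (Set.range h) := by
      rw [← hrange, ← Scheme.Hom.comp_apply, Limits.pullback.condition, Scheme.Hom.comp_apply]
      exact ⟨_, rfl⟩
    have h2 : U.ι ((Limits.pullback.fst U.ι I.subschemeι) p) ∈ coborder (Set.range h) :=
      ((Limits.pullback.fst U.ι I.subschemeι) p).2
    have h3 : U.ι ((Limits.pullback.fst U.ι I.subschemeι) p) ∈ Set.range h := by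
      rw [← coborder_inter_closure (s := Set.range h)]
      exact ⟨h2, h1⟩
    obtain ⟨z, hz⟩ := h3
    refine ⟨z, ?_⟩
    apply (Limits.pullback.fst U.ι I.subschemeι).isClosedEmbedding.injective
    apply U.ι.isOpenEmbedding.injective
    rw [← Scheme.Hom.comp_apply l, hl1, ← Scheme.Hom.comp_apply c, hc, hz]
  have : IsIso l := isIso_of_isClosedImmersion_of_surjective l
  rw [← hl2]
  infer_instance

end Groth.Agent.S4372
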