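import Groth.Statements.S4378
import Mathlib

set_option autoImplicit false
universe u
open CategoryTheory CategoryTheory.Limits AlgebraicGeometry
open EGA2

namespace Groth.Agent.S4378

/-- Let q : Y → S be separated and of finite type, and f : X → Y a morphism such that X is also
separated and of finite type over S through f ≫ q. Then f is proper if and only if for every scheme
S' over S the morphism X ×_S S' → Y ×_S S' induced by f is closed (as a map of topological spaces). -/
theorem result {X Y S : Scheme.{u}} (q : Y ⟶ S) (f : X ⟶ Y)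
    [IsSeparated q] [LocallyOfFiniteType q] [QuasiCompact q]
    [IsSeparated (f ≫ q)] [LocallyOfFiniteType (f ≫ q)] [QuasiCompact (f ≫ q)] :
    IsProper f ↔ ∀ (S' : Scheme.{u}) (g : S' ⟶ S),
      IsClosedMap (pullback.map (f ≫ q) g q g f (𝟙 S') (𝟙 S) (Category.comp_id (f ≫ q))
        ((Category.comp_id g).trans (Category.id_comp g).symm)).base := by
  constructor
  · intro hf S' g
    set m := pullback.map (f ≫ q) g q g f (𝟙 S') (𝟙 S) (Category.comp_id (f ≫ q))
      ((Category.comp_id g).trans (Category.id_comp g).symm) with hm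
    have h1 : m ≫ pullback.snd q g = pullback.snd (f ≫ q) g :=
      (pullback.lift_snd _ _ _).trans (Category.comp_id _)
    have h2 : m ≫ pullback.fst q g = pullback.fst (f ≫ q) g ≫ f :=
      pullback.lift_fst _ _ _
    have hout : IsPullback (m ≫ pullback.snd q g) (pullback.fst (f ≫ q) g) g (f ≫ q) := by
      rw [h1]
      exact (IsPullback.of_hasPullback (f ≫ q) g).flip
    have hright : IsPullback (pullback.snd q g) (pullback.fst q g) g q :=
      (IsPullback.of_hasPullback q g).flip
    have sq : IsPullback m (pullback.fst (f ≫ q) g) (pullback.fst q g) f :=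
      IsPullback.of_right hout h2 hright
    have hm' : UniversallyClosed m :=
      MorphismProperty.of_isPullback (P := @UniversallyClosed) sq.flip inferInstance
    exact m.isClosedMap
  · intro H
    haveI : IsSeparated f := IsSeparated.of_comp f q
    haveI : LocallyOfFiniteType f := locallyOfFiniteType_of_comp f q
    haveI : UniversallyClosed f := by
      refine ⟨?_⟩
      intro X' Y' i₁ i₂ f' h
      -- take `S' = Y'`
      set g : Y' ⟶ S := i₂ ≫ q with hg
      set m := pullback.map (f ≫ q) g q g f (𝟙 Y') (𝟙 S) (Category.comp_id (f ≫ q))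
        ((Category.comp_id g).trans (Category.id_comp g).symm) with hm
      have hmcl : IsClosedMap m.base := H Y' g
      let Γ : Y' ⟶ pullback q g := pullback.lift i₂ (𝟙 Y') (by rw [hg]; simp)
      have hΓ : Γ ≫ pullback.snd q g = 𝟙 Y' := pullback.lift_snd _ _ _
      have hΓinj : Function.Injective Γ := by
        intro a b hab
        have := congrArg (pullback.snd q g) hab
        have h1 : ∀ c, (pullback.snd q g) (Γ c) = c := fun c => by
          have : (Γ ≫ pullback.snd q g) c = c := by rw [hΓ]; rfl
          exact this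
        rw [h1, h1] at this
        exact this
      -- the closed immersion `X' ⟶ X ×_S Y'`
      let e : X' ≅ pullback f i₂ := h.flip.isoPullback
      let ι : X' ⟶ pullback (f ≫ q) (i₂ ≫ q) := e.hom ≫ pullback.mapDesc f i₂ q
      haveI : IsClosedImmersion ι := by
        dsimp only [ι]
        infer_instance
      have hd1 : pullback.mapDesc f i₂ q ≫ pullback.fst (f ≫ q) (i₂ ≫ q) = pullback.fst f i₂ :=
        (pullback.lift_fst _ _ _).trans (Category.comp_id _)
      have hd2 : pullback.mapDesc f i₂ q ≫ pullback.snd (f ≫ q) (i₂ ≫ q) = pullback.snd f i₂ :=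
        (pullback.lift_snd _ _ _).trans (Category.comp_id _)
      have hι1 : ι ≫ pullback.fst (f ≫ q) (i₂ ≫ q) = i₁ := by
        dsimp only [ι, e]
        rw [Category.assoc, hd1, IsPullback.isoPullback_hom_fst]
      have hι2 : ι ≫ pullback.snd (f ≫ q) (i₂ ≫ q) = f' := by
        dsimp only [ι, e]
        rw [Category.assoc, hd2, IsPullback.isoPullback_hom_snd]
      have hm1 : m ≫ pullback.fst q g = pullback.fst (f ≫ q) g ≫ f := pullback.lift_fst _ _ _
      have hm2 : m ≫ pullback.snd q g = pullback.snd (f ≫ q) g :=
        (pullback.lift_snd _ _ _).trans (Category.comp_id _)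
      have hΓ1 : Γ ≫ pullback.fst q g = i₂ := pullback.lift_fst _ _ _
      clear_value ι Γ
      clear hm
      clear_value m
      have hcomm : ι ≫ m = f' ≫ Γ := by
        apply pullback.hom_ext
        · calc (ι ≫ m) ≫ pullback.fst q g = ι ≫ (m ≫ pullback.fst q g) := Category.assoc _ _ _
            _ = ι ≫ (pullback.fst (f ≫ q) g ≫ f) := by rw [hm1]
            _ = (ι ≫ pullback.fst (f ≫ q) g) ≫ f := (Category.assoc _ _ _).symm
            _ = i₁ ≫ f := congrArg (· ≫ f) hι1
            _ = f' ≫ i₂ := h.w.symm
            _ = f' ≫ (Γ ≫ pullback.fst q g) := by rw [hΓ1]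
            _ = (f' ≫ Γ) ≫ pullback.fst q g := (Category.assoc _ _ _).symm
        · calc (ι ≫ m) ≫ pullback.snd q g = ι ≫ (m ≫ pullback.snd q g) := Category.assoc _ _ _
            _ = ι ≫ pullback.snd (f ≫ q) g := by rw [hm2]
            _ = f' := hι2
            _ = f' ≫ 𝟙 Y' := (Category.comp_id _).symm
            _ = f' ≫ (Γ ≫ pullback.snd q g) := by rw [hΓ]
            _ = (f' ≫ Γ) ≫ pullback.snd q g := (Category.assoc _ _ _).symm
      intro Z hZ
      have hcl1 : IsClosed (ι '' Z) := ι.isClosedEmbedding.isClosedMap Z hZ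
      have hcl2 : IsClosed (m '' (ι '' Z)) := hmcl _ hcl1
      have heq : f' '' Z = Γ ⁻¹' (m '' (ι '' Z)) := by
        ext y
        constructor
        · rintro ⟨z, hz, rfl⟩
          refine ⟨ι z, ⟨z, hz, rfl⟩, ?_⟩
          have : (ι ≫ m) z = (f' ≫ Γ) z := by rw [hcomm]
          exact this
        · rintro ⟨_, ⟨z, hz, rfl⟩, hzy⟩
          refine ⟨z, hz, ?_⟩
          apply hΓinj
          have : (ι ≫ m) z = (f' ≫ Γ) z := by rw [hcomm]
          exact this.symm.trans hzy
      rw [heq]
      exact hcl2.preimage Γ.continuous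
    exact {}

end Groth.Agent.S4378
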