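import Groth.Statements.S4380
import Groth.Agent.Lib.H78RelAmple

set_option autoImplicit false
universe u
open CategoryTheory CategoryTheory.Limits AlgebraicGeometry
open EGA2

namespace Groth.Agent.S4380

/-- Let f : X → Y be a quasi-compact morphism, L an O_X-module and (U_i) a cover of Y by open subsets.
Then L is ample relative to f if and only if, for every i, the restriction of L to f⁻¹(U_i) is ample
relative to the restriction f⁻¹(U_i) → U_i of f. -/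
theorem result {X Y : Scheme.{u}} (f : X ⟶ Y) [QuasiCompact f] (L : X.Modules)
    {ι : Type u} (U : ι → Y.Opens) (hU : ⨆ i, U i = ⊤) :
    RelAmple.IsRelAmple f L ↔ ∀ i, RelAmple.IsRelAmple (f ∣_ (U i)) (L.restrict (f ⁻¹ᵁ (U i)).ι) := by
  have hpt : ∀ (i : ι) (p : ↥((f ⁻¹ᵁ U i : X.Opens) : Scheme.{u})),
      (U i).ι ((f ∣_ U i) p) = f ((f ⁻¹ᵁ U i).ι p) := by
    intro i p
    have := congrArg (fun φ : ((f ⁻¹ᵁ U i : X.Opens) : Scheme.{u}) ⟶ Y => φ p) (morphismRestrict_ι f (U i))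
    simpa using this
  constructor
  · intro h i
    refine ⟨inferInstance, fun V' => ?_⟩
    rw [Groth.Agent.Lib.H78RelAmple.isAmple_restrict_restrict_iff]
    haveI : CompactSpace ↥(((f ∣_ U i) ⁻¹ᵁ V'.1 : Scheme.Opens _) : Scheme.{u}) :=
      isCompact_iff_compactSpace.1
        (QuasiCompact.isCompact_preimage (f := f ∣_ U i) _ V'.1.2 V'.2.isCompact)
    have hD : IsAffineOpen ((U i).ι ''ᵁ V'.1) := V'.2.image_of_isOpenImmersion _
    refine Groth.Agent.Lib.H78RelAmple.isAmple_restrict_of_range_subset _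
      (f ⁻¹ᵁ ((U i).ι ''ᵁ V'.1)).ι ?_ (h.2 ⟨_, hD⟩)
    rintro _ ⟨p, rfl⟩
    rw [Scheme.Opens.range_ι]
    change f ((f ⁻¹ᵁ U i).ι (((f ∣_ U i) ⁻¹ᵁ V'.1).ι p)) ∈ (U i).ι ''ᵁ V'.1
    rw [← hpt]
    exact ⟨_, p.2, rfl⟩
  · intro h
    refine Groth.Agent.Lib.H78RelAmple.isRelAmple_of_local f L
      {D : Y.Opens | IsAffineOpen D ∧ ∃ i, D ≤ U i} ?_ ?_
    · rintro D ⟨hD, i, hDi⟩
      haveI : CompactSpace ↥((f ⁻¹ᵁ D : X.Opens) : Scheme.{u}) :=
        isCompact_iff_compactSpace.1 (QuasiCompact.isCompact_preimage (f := f) _ D.2 hD.isCompact)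
      have hV' : IsAffineOpen ((U i).ι ⁻¹ᵁ D) := by
        rw [← (U i).ι.isAffineOpen_iff_of_isOpenImmersion, Scheme.Hom.image_preimage_eq_opensRange_inf,
          Scheme.Opens.opensRange_ι, inf_eq_right.2 hDi]
        exact hD
      have h1 := (h i).2 ⟨_, hV'⟩
      rw [Groth.Agent.Lib.H78RelAmple.isAmple_restrict_restrict_iff] at h1
      refine Groth.Agent.Lib.H78RelAmple.isAmple_restrict_of_range_subset (f ⁻¹ᵁ D).ι _ ?_ h1
      rw [Scheme.Opens.range_ι]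
      intro x hx
      have hxi : x ∈ f ⁻¹ᵁ U i := hDi hx
      have h2 : (f ∣_ U i) ⟨x, hxi⟩ ∈ (U i).ι ⁻¹ᵁ D := by
        change (U i).ι ((f ∣_ U i) ⟨x, hxi⟩) ∈ D
        rw [hpt]
        exact hx
      exact ⟨⟨⟨x, hxi⟩, h2⟩, rfl⟩
    · intro V hV y hyV
      have hy : y ∈ ⨆ i, U i := by rw [hU]; trivial
      obtain ⟨i, hyi⟩ := TopologicalSpace.Opens.mem_iSup.1 hy
      obtain ⟨h', hle, hyh⟩ := hV.exists_basicOpen_le (V := U i) ⟨y, hyi⟩ hyV
      exact ⟨h', hyh, hV.basicOpen h', i, hle⟩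

end Groth.Agent.S4380
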