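import Groth.Statements.S4381
import Groth.Agent.Lib.H78Restrict

set_option autoImplicit false
universe u
open CategoryTheory CategoryTheory.Limits AlgebraicGeometry
open EGA2

namespace Groth.Agent.S4381

/-- Let Y be an affine scheme, f : X → Y a quasi-compact morphism and L an O_X-module. Then L is ample
relative to f if and only if L is an ample O_X-module. -/
theorem result {X Y : Scheme.{u}} [IsAffine Y] (f : X ⟶ Y) [QuasiCompact f] (L : X.Modules) :
    RelAmple.IsRelAmple f L ↔ CohB1.IsAmple L := by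
  constructor
  · intro h
    haveI : CompactSpace X := QuasiCompact.compactSpace_of_compactSpace f
    have h1 := h.2 ⟨⊤, isAffineOpen_top Y⟩
    haveI : IsIso (f ⁻¹ᵁ (⊤ : Y.Opens)).ι :=
      isIso_of_isOpenImmersion_of_opensRange_eq_top _ (by rw [Scheme.Opens.opensRange_ι]; rfl)
    have h2 := Groth.Agent.Lib.H78Restrict.isAmple_restrict (inv (f ⁻¹ᵁ (⊤ : Y.Opens)).ι) h1
    refine Groth.Agent.Lib.H78AmpleUnit.isAmple_of_iso ?_ h2
    exact (Scheme.Modules.restrictFunctorComp (inv (f ⁻¹ᵁ (⊤ : Y.Opens)).ι) (f ⁻¹ᵁ (⊤ : Y.Opens)).ι).symm.app L ≪≫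
      (Scheme.Modules.restrictFunctorCongr (IsIso.inv_hom_id _)).app L ≪≫
      Scheme.Modules.restrictFunctorId.app L
  · intro hL
    refine ⟨inferInstance, fun V => ?_⟩
    haveI : CompactSpace ↥((f ⁻¹ᵁ V.1 : X.Opens) : Scheme.{u}) :=
      isCompact_iff_compactSpace.1 (QuasiCompact.isCompact_preimage (f := f) _ V.1.2 V.2.isCompact)
    exact Groth.Agent.Lib.H78Restrict.isAmple_restrict (f ⁻¹ᵁ V.1).ι hL

end Groth.Agent.S4381
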