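import Groth.Statements.S4383
import Groth.Agent.Lib.AmpleIdealTwist
import Groth.Agent.Lib.CounitEpi
import Groth.Agent.Lib.GrMod81B
import Groth.Agent.Lib.H90OXModAffineFT
import Groth.Agent.Lib.OXModTensorQCoh
import Groth.Agent.Lib.H90InvertibleFP

set_option autoImplicit false
universe u
open CategoryTheory CategoryTheory.Limits AlgebraicGeometry
open EGA2

namespace Groth.Agent.S4383

/-- Let X be a quasi-compact separated scheme, f : X → Y a separated quasi-compact morphism and L an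
invertible O_X-module. Suppose that for every quasi-coherent submodule J of O_X of finite type there
is n > 0 such that the canonical morphism f^*(f_*(J ⊗ L^{⊗n})) → J ⊗ L^{⊗n} is an epimorphism. Then
L is ample relative to f. (The published statement also allows X to be a scheme whose underlying
space is Noetherian; this row assumes X quasi-compact and separated.) -/
theorem result {X Y : Scheme.{u}} [CompactSpace X] [X.IsSeparated] (f : X ⟶ Y)
    [IsSeparated f] [QuasiCompact f] (L : X.Modules) (hL : PicF.IsInvertible L)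
    (h : ∀ (J : X.Modules) (i : J ⟶ Coh.structureModule X), Mono i → Coh.IsQCoh J → CohB1.IsFT J →
      ∃ n : ℕ, 0 < n ∧
        Epi ((Scheme.Modules.pullbackPushforwardAdjunction f).counit.app (CohB1.tensorMod J (CohB1.tensorPow L n)))) :
    RelAmple.IsRelAmple f L := by
  classical
  haveI : QuasiSeparatedSpace X := inferInstance
  refine ⟨inferInstance, fun V => ?_⟩
  haveI : CompactSpace ↥((f ⁻¹ᵁ V.1 : X.Opens) : Scheme.{u}) :=
    isCompact_iff_compactSpace.1 (QuasiCompact.isCompact_preimage (f := f) _ V.1.2 V.2.isCompact)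
  refine Groth.Agent.Lib.AmpleIdealTwist.isAmple_restrict_of_forall_genOn hL (f ⁻¹ᵁ V.1) fun x hx => ?_
  obtain ⟨U, hU, e₁, 𝓚, hxU, hUX', he₁, hft, hsupp, h1⟩ :=
    Groth.Agent.Lib.AmpleIdealTwist.exists_ideal_data hL (f ⁻¹ᵁ V.1) x hx
  -- the ideal as a module
  haveI : (ClSub.idealMod 𝓚).IsQuasicoherent := Groth.Agent.Lib.H77QCohKernel.isQuasicoherent_idealMod 𝓚
  have hFT : CohB1.IsFT (ClSub.idealMod 𝓚) := by
    apply Groth.Agent.Lib.H90OXModAffineFT.isFiniteType_of_forall_affine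
    intro W
    haveI : Module.Finite Γ(X, W.1) (𝓚.ideal ⟨W.1, W.2⟩) := Module.Finite.iff_fg.mpr (hft ⟨W.1, W.2⟩)
    exact Module.Finite.equiv (Groth.Agent.Lib.GrMod81.idealEquiv 𝓚 W.2).symm
  haveI : Mono (ClSub.idealModι 𝓚) := Groth.Agent.Lib.IdealMod.mono_idealModι 𝓚
  obtain ⟨n, hn, hepi⟩ := h (ClSub.idealMod 𝓚) (ClSub.idealModι 𝓚) inferInstance inferInstance hFT
  obtain ⟨n, rfl⟩ : ∃ n', n = n' + 1 := ⟨n - 1, by omega⟩
  have hP := Groth.Agent.Lib.H78TensorGen.isInvertible_tensorPow hL (n + 1)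
  haveI : (CohB1.tensorPow L (n + 1)).IsQuasicoherent := Groth.Agent.Lib.H90Invertible.isQCoh_of_isInvertible hP
  have hq : Coh.IsQCoh (CohB1.tensorMod (ClSub.idealMod 𝓚) (CohB1.tensorPow L (n + 1))) :=
    Groth.Agent.Lib.OXModTensorQCoh.isQuasicoherent_tensorMod _ _
  have hgg := Groth.Agent.Lib.CounitEpi.isGloballyGenerated_restrict_of_epi_counit f _ hq hepi V.1 V.2
  obtain ⟨τ, hxτ, haff⟩ := Groth.Agent.Lib.AmpleIdealTwist.exists_affine_genOn hP (f ⁻¹ᵁ V.1) U hU hUX'
    (Groth.Agent.Lib.H78TensorGen.isGen_epow he₁ (n + 1)) 𝓚 (fun z _ hz => hsupp z hz) h1 hgg x hxU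
  exact ⟨n, τ, hxτ, haff⟩

end Groth.Agent.S4383
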