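import Groth.Statements.S4382
import Groth.Agent.S4383
import Groth.Agent.Lib.CounitEpi
import Groth.Agent.Lib.H78GlobGen2
import Groth.Agent.Lib.H90CohRestrict
import Groth.Agent.Lib.H78AmpleTwist
import Groth.Agent.Lib.OXModRestrict
import Groth.Agent.Lib.H78Restrict

set_option autoImplicit false
universe u
open CategoryTheory CategoryTheory.Limits AlgebraicGeometry
open EGA2

namespace Groth.Agent.S4382

/-- Let X be a quasi-compact separated scheme, f : X → Y a separated quasi-compact morphism and L an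
invertible O_X-module. Then L is ample relative to f if and only if for every quasi-coherent
O_X-module F of finite type there is n₀ > 0 such that for every n ≥ n₀ the canonical morphism
f^*(f_*(F ⊗ L^{⊗n})) → F ⊗ L^{⊗n} (the counit of the adjunction between f^* and f_*) is an
epimorphism. (The published statement also allows X to be a scheme whose underlying space is
Noetherian; this row assumes X quasi-compact and separated.) -/
theorem result {X Y : Scheme.{u}} [CompactSpace X] [X.IsSeparated] (f : X ⟶ Y)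
    [IsSeparated f] [QuasiCompact f] (L : X.Modules) (hL : PicF.IsInvertible L) :
    RelAmple.IsRelAmple f L ↔ ∀ F : X.Modules, Coh.IsQCoh F → CohB1.IsFT F →
      ∃ n₀ : ℕ, 0 < n₀ ∧ ∀ n : ℕ, n₀ ≤ n →
        Epi ((Scheme.Modules.pullbackPushforwardAdjunction f).counit.app (CohB1.tensorMod F (CohB1.tensorPow L n))) := by
  classical
  constructor
  · intro hamp F hFq hFt
    have hcoh : Coh.IsCoh F := ⟨hFq, hFt⟩
    have hloc : ∀ V : Y.affineOpens, ∃ n₀ : ℕ, ∀ n, n₀ ≤ n →
        Curv2.IsGloballyGenerated (CohB1.tensorMod (F.restrict (f ⁻¹ᵁ V.1).ι)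
          (CohB1.tensorPow (L.restrict (f ⁻¹ᵁ V.1).ι) n)) := by
      intro V
      have hV := hamp.2 V
      haveI : CompactSpace ↥((f ⁻¹ᵁ V.1 : X.Opens) : Scheme.{u}) := hV.2.1
      exact Groth.Agent.Lib.H78GlobGen2.isGloballyGenerated_twist hV _
        (Groth.Agent.Lib.H90CohRestrict.isCoh_restrict _ F hcoh)
    choose N hN using hloc
    obtain ⟨t, ht⟩ := isCompact_univ.elim_finite_subcover
      (fun V : Y.affineOpens => ((f ⁻¹ᵁ V.1 : X.Opens) : Set X)) (fun V => (f ⁻¹ᵁ V.1).2) (by
        intro x _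
        obtain ⟨_, ⟨U, hU, rfl⟩, hyU, -⟩ :=
          Y.isBasis_affineOpens.exists_subset_of_mem_open (Set.mem_univ (f.base x)) isOpen_univ
        exact Set.mem_iUnion.2 ⟨⟨U, hU⟩, hyU⟩)
    refine ⟨t.sup N + 1, Nat.succ_pos _, fun n hn => ?_⟩
    refine Groth.Agent.Lib.CounitEpi.epi_counit_of_locally_globGen f _ fun x => ?_
    obtain ⟨V, hVt, hxV⟩ := Set.mem_iUnion₂.1 (ht (Set.mem_univ x))
    refine ⟨V.1, hxV, ?_⟩
    have h1 := hN V n (((Finset.le_sup hVt).trans (Nat.le_succ _)).trans hn)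
    exact Groth.Agent.Lib.H78AmpleTwist.isGloballyGenerated_of_iso
      ((Groth.Agent.Lib.OXModRestrict.restrictTensorIso (f ⁻¹ᵁ V.1).ι F (CohB1.tensorPow L n) ≪≫
        Groth.Agent.Lib.H78AmpleUnit.tensorModIso (Iso.refl _)
          (Groth.Agent.Lib.H78Restrict.restrictTensorPowIso (f ⁻¹ᵁ V.1).ι L n)).symm) h1
  · intro h
    refine Groth.Agent.S4383.result f L hL fun J i _ hq hft => ?_
    obtain ⟨n₀, hn₀, h'⟩ := h J hq hft
    exact ⟨n₀, hn₀, h' n₀ le_rfl⟩

end Groth.Agent.S4382
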