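import Groth.Statements.S4387
import Groth.Agent.Lib.H78AmpleOps

set_option autoImplicit false
universe u
open CategoryTheory CategoryTheory.Limits AlgebraicGeometry
open EGA2

namespace Groth.Agent.S4387

/-- Let f : X → Y be a quasi-compact morphism, L an invertible O_X-module and n > 0 an integer. Then L
is ample relative to f if and only if L^{⊗n} is ample relative to f. -/
theorem result {X Y : Scheme.{u}} (f : X ⟶ Y) [QuasiCompact f] (L : X.Modules)
    (hL : PicF.IsInvertible L) (n : ℕ) (hn : 0 < n) :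
    RelAmple.IsRelAmple f L ↔ RelAmple.IsRelAmple f (CohB1.tensorPow L n) := by
  constructor
  · intro h
    refine ⟨h.1, fun V => ?_⟩
    have h1 := h.2 V
    haveI := h1.2.1
    have hinv := Groth.Agent.Lib.H90Invertible.isInvertible_restrict (f ⁻¹ᵁ V.1).ι hL
    exact Groth.Agent.Lib.H78AmpleUnit.isAmple_of_iso
      (Groth.Agent.Lib.H78Restrict.restrictTensorPowIso (f ⁻¹ᵁ V.1).ι L n).symm
      ((Groth.Agent.Lib.H78AmpleOps.isAmple_tensorPow_iff hinv hn).1 h1)
  · intro h
    refine ⟨h.1, fun V => ?_⟩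
    have h1 := h.2 V
    haveI := h1.2.1
    have hinv := Groth.Agent.Lib.H90Invertible.isInvertible_restrict (f ⁻¹ᵁ V.1).ι hL
    exact (Groth.Agent.Lib.H78AmpleOps.isAmple_tensorPow_iff hinv hn).2
      (Groth.Agent.Lib.H78AmpleUnit.isAmple_of_iso
        (Groth.Agent.Lib.H78Restrict.restrictTensorPowIso (f ⁻¹ᵁ V.1).ι L n) h1)

end Groth.Agent.S4387
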