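import Groth.Statements.S4388
import Groth.Agent.Lib.CounitEpi
import Groth.Agent.Lib.H78RelAmple
import Groth.Agent.Lib.H78AmpleOps
import Groth.Agent.Lib.H90InvertibleFP

set_option autoImplicit false
universe u
open CategoryTheory CategoryTheory.Limits AlgebraicGeometry
open EGA2

namespace Groth.Agent.S4388

/-- Let f : X → Y be a quasi-compact morphism, L an O_X-module ample relative to f and L' an invertible
O_X-module such that, for some n > 0, the canonical morphism f^*(f_*(L'^{⊗n})) → L'^{⊗n} (counit of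
the adjunction between f^* and f_*) is an epimorphism. Then L ⊗ L' is ample relative to f. -/
theorem result {X Y : Scheme.{u}} (f : X ⟶ Y) [QuasiCompact f] (L L' : X.Modules)
    (hL : RelAmple.IsRelAmple f L) (hL' : PicF.IsInvertible L') (n : ℕ) (hn : 0 < n)
    (hepi : Epi ((Scheme.Modules.pullbackPushforwardAdjunction f).counit.app (CohB1.tensorPow L' n))) :
    RelAmple.IsRelAmple f (CohB1.tensorMod L L') := by
  -- `f` is quasi-separated, since the preimages of affine opens carry ample modules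
  have hqs : QuasiSeparated f :=
    Groth.Agent.Lib.CounitEpi.quasiSeparated_of_forall_affine f (fun U =>
      Groth.Agent.Lib.H78AmpleBasis.quasiSeparatedSpace_of_isAmple (hL.2 U))
  have hqc : Coh.IsQCoh (CohB1.tensorPow L' n) :=
    Groth.Agent.Lib.H90Invertible.isQuasicoherent_of_isFinLocFree
      (Groth.Agent.Lib.H90Invertible.isFinLocFree_of_isInvertible
        (Groth.Agent.Lib.H78TensorGen.isInvertible_tensorPow hL' n))
  obtain ⟨m, rfl⟩ : ∃ m, n = m + 1 := ⟨n - 1, by omega⟩
  refine ⟨inferInstance, fun V => ?_⟩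
  have hgg := Groth.Agent.Lib.CounitEpi.isGloballyGenerated_restrict_of_epi_counit f _ hqc hepi V.1 V.2
  have hinv : PicF.IsInvertible ((CohB1.tensorPow L' (m + 1)).restrict (f ⁻¹ᵁ V.1).ι) :=
    Groth.Agent.Lib.H90Invertible.isInvertible_restrict _
      (Groth.Agent.Lib.H78TensorGen.isInvertible_tensorPow hL' (m + 1))
  have hbpf := Groth.Agent.Lib.H78GlobGen.isBpf_of_isGloballyGenerated hinv hgg
  have hamp := Groth.Agent.Lib.H78AmpleOps.isAmple_tensorMod_of_sections (hL.2 V)
    (Groth.Agent.Lib.H90Invertible.isInvertible_restrict (f ⁻¹ᵁ V.1).ι hL') (fun x => by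
      obtain ⟨σ, hσ⟩ := hbpf x
      refine ⟨m, Groth.Agent.Lib.H90Invertible.ofSection σ ≫
        (Groth.Agent.Lib.H78Restrict.restrictTensorPowIso (f ⁻¹ᵁ V.1).ι L' (m + 1)).hom, ?_⟩
      rw [Groth.Agent.Lib.H78AmpleUnit.genLocus_comp_iso]
      exact hσ)
  exact Groth.Agent.Lib.H78AmpleUnit.isAmple_of_iso
    (Groth.Agent.Lib.OXModRestrict.restrictTensorIso (f ⁻¹ᵁ V.1).ι L L').symm hamp

end Groth.Agent.S4388
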