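import Groth.Statements.S4393
import Groth.Agent.Lib.GradedMod

set_option autoImplicit false
universe u
open EGA2

namespace Groth.Agent.S4393

/-- Let S be a ring graded in nonnegative degrees which is an S_0-algebra of finite type. Then there is
an integer h > 0 such that S_{mh} = (S_h)^m (the S_0-submodule spanned by m-fold products of
elements of S_h) for every m > 0. -/
theorem result {R A : Type u} [CommRing R] [CommRing A] [Algebra R A] (𝒜 : ℕ → Submodule R A) [GradedAlgebra 𝒜] [Algebra.FiniteType (𝒜 0) A] :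
    ∃ h : ℕ, 0 < h ∧ ∀ m : ℕ, 0 < m → 𝒜 (m * h) = (𝒜 h : Submodule R A) ^ m := by
  obtain ⟨n₁, q, hq, hstep⟩ := Groth.Agent.Lib.GradedMod.exists_eventually_eq_smul 𝒜 𝒜
  -- step 1
  have h1 : ∀ k : ℕ, ∀ n : ℕ, n₁ ≤ n → 𝒜 (n + k * q) ≤ 𝒜 (k * q) * 𝒜 n := by
    intro k
    induction k with
    | zero =>
      intro n _ x hx
      have h1mem : (1 : A) ∈ 𝒜 0 := SetLike.GradedOne.one_mem
      have : x = 1 * x := (one_mul x).symm
      rw [this]
      simp only [zero_mul, add_zero] at hx ⊢
      exact Submodule.mul_mem_mul h1mem hx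
    | succ k ih =>
      intro n hn x hx
      have heq : n + (k + 1) * q = (n + k * q) + q := by ring
      rw [heq, hstep (n + k * q) (by omega)] at hx
      refine Submodule.smul_induction_on hx ?_ (fun _ _ ha hb => add_mem ha hb)
      intro r hr y hy
      have hy' := ih n hn hy
      refine Submodule.mul_induction_on hy' ?_ (fun _ _ ha hb => by rw [smul_add]; exact add_mem ha hb)
      intro a ha b hb
      have hra : r * a ∈ 𝒜 (q + k * q) := SetLike.GradedMul.mul_mem hr ha
      have heq2 : q + k * q = (k + 1) * q := by ring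
      rw [heq2] at hra
      rw [smul_eq_mul, ← mul_assoc]
      exact Submodule.mul_mem_mul hra hb
  set h : ℕ := (n₁ + 1) * q with hh
  have hhpos : 0 < h := Nat.mul_pos (Nat.succ_pos _) hq
  have hhge : n₁ ≤ h := by
    calc n₁ ≤ (n₁ + 1) * 1 := by omega
      _ ≤ (n₁ + 1) * q := Nat.mul_le_mul_left _ hq
  have h2 : ∀ n : ℕ, n₁ ≤ n → 𝒜 (n + h) ≤ 𝒜 h * 𝒜 n := fun n hn => h1 (n₁ + 1) n hn
  have hge : ∀ m : ℕ, (𝒜 h : Submodule R A) ^ m ≤ 𝒜 (m * h) := by
    intro m
    induction m with
    | zero =>
      rw [pow_zero, Submodule.one_le, zero_mul]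
      exact SetLike.GradedOne.one_mem
    | succ m ih =>
      rw [pow_succ, Submodule.mul_le]
      intro a ha b hb
      have := SetLike.GradedMul.mul_mem (ih ha) hb
      have heq : m * h + h = (m + 1) * h := by ring
      rwa [heq] at this
  refine ⟨h, hhpos, fun m hm => le_antisymm ?_ (hge m)⟩
  induction m with
  | zero => omega
  | succ m ih =>
    rcases Nat.eq_zero_or_pos m with rfl | hmpos
    · simp
    · have heq : (m + 1) * h = m * h + h := by ring
      rw [heq, pow_succ']
      have hmh : n₁ ≤ m * h := by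
        calc n₁ ≤ h := hhge
          _ = 1 * h := (one_mul h).symm
          _ ≤ m * h := Nat.mul_le_mul_right _ hmpos
      exact (h2 (m * h) hmh).trans (mul_le_mul' le_rfl (ih hmpos))

end Groth.Agent.S4393
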