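import Groth.Statements.S4395
import Mathlib.RingTheory.GradedAlgebra.Radical

set_option autoImplicit false
universe u
open EGA2

namespace Groth.Agent.S4395

section Helpers

open DirectSum

variable {R A : Type u} [CommRing R] [CommRing A] [Algebra R A] (𝒜 : ℕ → Submodule R A) [GradedAlgebra 𝒜]

/-- The candidate ideal: elements all of whose components are carried into `p` by `f`. -/
def candIdeal (p : ℕ → AddSubgroup A) (d : ℕ) (f : A) (_hf : f ∈ 𝒜 d)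
    (h1 : ∀ m n : ℕ, d ≤ n → ∀ a ∈ 𝒜 m, ∀ b ∈ p n, a * b ∈ p (m + n)) : Ideal A where
  carrier := {x | ∀ m, f * ((decompose 𝒜 x m : 𝒜 m) : A) ∈ p (m + d)}
  zero_mem' := by
    intro m
    simp
  add_mem' := by
    intro x y hx hy m
    rw [DirectSum.decompose_add, DirectSum.add_apply, Submodule.coe_add, mul_add]
    exact add_mem (hx m) (hy m)
  smul_mem' := by
    classical
    intro a x hx
    have hom : ∀ i, ∀ b ∈ 𝒜 i, ∀ k, f * ((decompose 𝒜 (b * x) k : 𝒜 k) : A) ∈ p (k + d) := by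
      intro i b hb k
      rw [DirectSum.coe_decompose_mul_of_left_mem 𝒜 k hb]
      split_ifs with hik
      · have h2 := h1 i (k - i + d) (by omega) b hb _ (hx (k - i))
        have heq : i + (k - i + d) = k + d := by omega
        rw [heq] at h2
        have hre : f * (b * ((decompose 𝒜 x (k - i) : 𝒜 (k - i)) : A)) =
            b * (f * ((decompose 𝒜 x (k - i) : 𝒜 (k - i)) : A)) := by ring
        rw [hre]
        exact h2
      · simp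
    intro k
    rw [smul_eq_mul]
    have hsum : a * x = ∑ i ∈ (decompose 𝒜 a).support, ((decompose 𝒜 a i : 𝒜 i) : A) * x := by
      conv_lhs => rw [← DirectSum.sum_support_decompose 𝒜 a, Finset.sum_mul]
    rw [hsum, DirectSum.decompose_sum, DFinsupp.finsetSum_apply, AddSubmonoidClass.coe_finsetSum,
      Finset.mul_sum]
    exact sum_mem (fun i _ => hom i _ (Subtype.prop _) k)

theorem mem_candIdeal (p : ℕ → AddSubgroup A) (d : ℕ) (f : A) (hf : f ∈ 𝒜 d)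
    (h1 : ∀ m n : ℕ, d ≤ n → ∀ a ∈ 𝒜 m, ∀ b ∈ p n, a * b ∈ p (m + n)) (x : A) :
    x ∈ candIdeal 𝒜 p d f hf h1 ↔ ∀ m, f * ((decompose 𝒜 x m : 𝒜 m) : A) ∈ p (m + d) :=
  Iff.rfl

theorem mem_candIdeal_of_mem (p : ℕ → AddSubgroup A) (d : ℕ) (f : A) (hf : f ∈ 𝒜 d)
    (h1 : ∀ m n : ℕ, d ≤ n → ∀ a ∈ 𝒜 m, ∀ b ∈ p n, a * b ∈ p (m + n)) {x : A} {i : ℕ}
    (hx : x ∈ 𝒜 i) : x ∈ candIdeal 𝒜 p d f hf h1 ↔ f * x ∈ p (i + d) := by
  classical
  rw [mem_candIdeal]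
  constructor
  · intro h
    have := h i
    rwa [DirectSum.decompose_of_mem_same 𝒜 hx] at this
  · intro h m
    by_cases hmi : m = i
    · subst hmi
      rwa [DirectSum.decompose_of_mem_same 𝒜 hx]
    · rw [DirectSum.decompose_of_mem_ne 𝒜 hx (Ne.symm hmi)]
      simp

theorem candIdeal_isHomogeneous (p : ℕ → AddSubgroup A) (d : ℕ) (f : A) (hf : f ∈ 𝒜 d)
    (h1 : ∀ m n : ℕ, d ≤ n → ∀ a ∈ 𝒜 m, ∀ b ∈ p n, a * b ∈ p (m + n)) :
    (candIdeal 𝒜 p d f hf h1).IsHomogeneous 𝒜 := by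
  classical
  intro i x hx
  rw [mem_candIdeal_of_mem 𝒜 p d f hf h1 (Subtype.prop _)]
  exact hx i

theorem exists_homogeneous_notMem (𝔮 : HomogeneousIdeal 𝒜)
    (h : ¬ HomogeneousIdeal.irrelevant 𝒜 ≤ 𝔮) : ∃ e : ℕ, 0 < e ∧ ∃ g ∈ 𝒜 e, g ∉ 𝔮.toIdeal := by
  by_contra hcon
  push Not at hcon
  apply h
  rw [HomogeneousIdeal.irrelevant_le]
  intro i hi x hx
  exact hcon i hi x hx

theorem le_of_traces (n₀ : ℕ) (p : ℕ → AddSubgroup A) (𝔭 𝔮 : HomogeneousIdeal 𝒜)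
    (h𝔮 : 𝔮.toIdeal.IsPrime) (h𝔮irr : ¬ HomogeneousIdeal.irrelevant 𝒜 ≤ 𝔮)
    (hp𝔭 : ∀ n : ℕ, n₀ ≤ n → (𝔭.toIdeal : Set A) ∩ 𝒜 n = p n)
    (hp𝔮 : ∀ n : ℕ, n₀ ≤ n → (𝔮.toIdeal : Set A) ∩ 𝒜 n = p n) : 𝔭.toIdeal ≤ 𝔮.toIdeal := by
  classical
  obtain ⟨e, he, g, hg, hg𝔮⟩ := exists_homogeneous_notMem 𝒜 𝔮 h𝔮irr
  intro x hx
  rw [𝔮.isHomogeneous.mem_iff]
  intro m
  have hxm : ((decompose 𝒜 x m : 𝒜 m) : A) ∈ 𝔭.toIdeal := 𝔭.isHomogeneous m hx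
  set y : A := ((decompose 𝒜 x m : 𝒜 m) : A) with hy
  have hym : y ∈ 𝒜 m := Subtype.prop _
  have hgy : g ^ n₀ * y ∈ 𝒜 (n₀ • e + m) :=
    SetLike.GradedMul.mul_mem (SetLike.pow_mem_graded n₀ hg) hym
  have hge : n₀ ≤ n₀ • e + m := by
    rw [smul_eq_mul]
    calc n₀ = n₀ * 1 := (mul_one _).symm
      _ ≤ n₀ * e := Nat.mul_le_mul_left _ he
      _ ≤ n₀ * e + m := Nat.le_add_right _ _
  have h1 : g ^ n₀ * y ∈ (𝔭.toIdeal : Set A) ∩ 𝒜 (n₀ • e + m) :=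
    ⟨Ideal.mul_mem_left _ _ hxm, hgy⟩
  rw [hp𝔭 _ hge, ← hp𝔮 _ hge] at h1
  rcases h𝔮.mem_or_mem h1.1 with h2 | h2
  · exact absurd (h𝔮.mem_of_pow_mem _ h2) hg𝔮
  · exact h2

end Helpers

/-- Let S be a ring graded in nonnegative degrees, n₀ > 0 an integer and, for every n ≥ n₀, p_n an
additive subgroup of S_n. Then there is a graded prime ideal p of S not containing S_+ with p ∩ S_n
= p_n for all n ≥ n₀ if and only if: (1) S_m p_n ⊆ p_{m+n} for all m ≥ 0 and n ≥ n₀; (2) for m ≥ n₀,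
n ≥ n₀, f ∈ S_m, g ∈ S_n, fg ∈ p_{m+n} implies f ∈ p_m or g ∈ p_n; (3) p_n ≠ S_n for at least one n
≥ n₀. Moreover such a graded prime ideal is unique. -/
theorem result {R A : Type u} [CommRing R] [CommRing A] [Algebra R A] (𝒜 : ℕ → Submodule R A) [GradedAlgebra 𝒜]
    (n₀ : ℕ) (hn₀ : 0 < n₀) (p : ℕ → AddSubgroup A) (hp : ∀ n : ℕ, n₀ ≤ n → (p n : Set A) ⊆ 𝒜 n) :
    ((∃ 𝔭 : HomogeneousIdeal 𝒜, 𝔭.toIdeal.IsPrime ∧ ¬ HomogeneousIdeal.irrelevant 𝒜 ≤ 𝔭 ∧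
        ∀ n : ℕ, n₀ ≤ n → (𝔭.toIdeal : Set A) ∩ 𝒜 n = p n) ↔
      ((∀ m n : ℕ, n₀ ≤ n → ∀ a ∈ 𝒜 m, ∀ b ∈ p n, a * b ∈ p (m + n)) ∧
        (∀ m n : ℕ, n₀ ≤ m → n₀ ≤ n → ∀ f ∈ 𝒜 m, ∀ g ∈ 𝒜 n, f * g ∈ p (m + n) → f ∈ p m ∨ g ∈ p n) ∧
        ∃ n : ℕ, n₀ ≤ n ∧ (p n : Set A) ≠ 𝒜 n)) ∧
    ∀ 𝔭 𝔮 : HomogeneousIdeal 𝒜, 𝔭.toIdeal.IsPrime → 𝔮.toIdeal.IsPrime →
      ¬ HomogeneousIdeal.irrelevant 𝒜 ≤ 𝔭 → ¬ HomogeneousIdeal.irrelevant 𝒜 ≤ 𝔮 →
      (∀ n : ℕ, n₀ ≤ n → (𝔭.toIdeal : Set A) ∩ 𝒜 n = p n) → (∀ n : ℕ, n₀ ≤ n → (𝔮.toIdeal : Set A) ∩ 𝒜 n = p n) →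
      𝔭 = 𝔮 := by
  classical
  refine ⟨⟨?_, ?_⟩, ?_⟩
  · rintro ⟨𝔭, h𝔭, h𝔭irr, htr⟩
    refine ⟨?_, ?_, ?_⟩
    · intro m n hn a ha b hb
      have hb' : b ∈ (𝔭.toIdeal : Set A) ∩ 𝒜 n := by rw [htr n hn]; exact hb
      have hab : a * b ∈ (𝔭.toIdeal : Set A) ∩ 𝒜 (m + n) :=
        ⟨Ideal.mul_mem_left _ _ hb'.1, SetLike.GradedMul.mul_mem ha hb'.2⟩
      rw [htr (m + n) (by omega)] at hab
      exact hab
    · intro m n hm hn f hf g hg hfg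
      have hfg' : f * g ∈ (𝔭.toIdeal : Set A) ∩ 𝒜 (m + n) := by
        rw [htr (m + n) (by omega)]; exact hfg
      rcases h𝔭.mem_or_mem hfg'.1 with h | h
      · left
        have : f ∈ (𝔭.toIdeal : Set A) ∩ 𝒜 m := ⟨h, hf⟩
        rw [htr m hm] at this
        exact this
      · right
        have : g ∈ (𝔭.toIdeal : Set A) ∩ 𝒜 n := ⟨h, hg⟩
        rw [htr n hn] at this
        exact this
    · obtain ⟨e, he, g, hg, hg𝔭⟩ := exists_homogeneous_notMem 𝒜 𝔭 h𝔭irr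
      refine ⟨n₀ • e, ?_, ?_⟩
      · rw [smul_eq_mul]
        calc n₀ = n₀ * 1 := (mul_one _).symm
          _ ≤ n₀ * e := Nat.mul_le_mul_left _ he
      · intro heq
        have hge : n₀ ≤ n₀ • e := by
          rw [smul_eq_mul]
          calc n₀ = n₀ * 1 := (mul_one _).symm
            _ ≤ n₀ * e := Nat.mul_le_mul_left _ he
        have hmem : g ^ n₀ ∈ (𝒜 (n₀ • e) : Set A) := SetLike.pow_mem_graded n₀ hg
        rw [← heq, ← htr _ hge] at hmem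
        exact hg𝔭 (h𝔭.mem_of_pow_mem _ hmem.1)
  · rintro ⟨h1, h2, d, hd, hne⟩
    have hsub : (p d : Set A) ⊆ 𝒜 d := hp d hd
    obtain ⟨f, hf, hfp⟩ : ∃ f ∈ 𝒜 d, f ∉ p d := by
      by_contra hcon
      push Not at hcon
      exact hne (Set.Subset.antisymm hsub hcon)
    have h1' : ∀ m n : ℕ, d ≤ n → ∀ a ∈ 𝒜 m, ∀ b ∈ p n, a * b ∈ p (m + n) :=
      fun m n hn => h1 m n (hd.trans hn)
    -- for degrees at least n₀ the candidate ideal has the right trace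
    have htrace : ∀ n : ℕ, n₀ ≤ n → ∀ x ∈ 𝒜 n, (f * x ∈ p (n + d) ↔ x ∈ p n) := by
      intro n hn x hx
      constructor
      · intro hfx
        have hfx' : f * x ∈ p (d + n) := by rwa [add_comm]
        rcases h2 d n hd hn f hf x hx hfx' with h | h
        · exact absurd h hfp
        · exact h
      · intro hxp
        have := h1 d n hn f hf x hxp
        rwa [add_comm] at this
    let I : Ideal A := candIdeal 𝒜 p d f hf h1'
    have hIhom : I.IsHomogeneous 𝒜 := candIdeal_isHomogeneous 𝒜 p d f hf h1'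
    have hfI : f ∉ I := by
      intro hfI
      rw [mem_candIdeal_of_mem 𝒜 p d f hf h1' hf, htrace d hd f hf] at hfI
      exact hfp hfI
    have hIprime : I.IsPrime := by
      apply hIhom.isPrime_of_homogeneous_mem_or_mem
      · intro htop
        apply hfI
        rw [htop]; trivial
      · rintro x y ⟨i, hx⟩ ⟨j, hy⟩ hxy
        rw [mem_candIdeal_of_mem 𝒜 p d f hf h1' (SetLike.GradedMul.mul_mem hx hy)] at hxy
        rw [mem_candIdeal_of_mem 𝒜 p d f hf h1' hx, mem_candIdeal_of_mem 𝒜 p d f hf h1' hy]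
        have hfx : f * x ∈ 𝒜 (i + d) := by
          have := SetLike.GradedMul.mul_mem hf hx
          rwa [add_comm] at this
        have hfy : f * y ∈ 𝒜 (j + d) := by
          have := SetLike.GradedMul.mul_mem hf hy
          rwa [add_comm] at this
        have hprod : (f * x) * (f * y) ∈ p ((i + d) + (j + d)) := by
          have h3 := h1 d (i + j + d) (by omega) f hf _ hxy
          have heq : d + (i + j + d) = (i + d) + (j + d) := by omega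
          rw [heq] at h3
          have hre : f * x * (f * y) = f * (f * (x * y)) := by ring
          rw [hre]
          exact h3
        exact h2 (i + d) (j + d) (by omega) (by omega) _ hfx _ hfy hprod
    refine ⟨⟨I, hIhom⟩, hIprime, ?_, ?_⟩
    · intro hle
      have hfirr : f ∈ HomogeneousIdeal.irrelevant 𝒜 :=
        HomogeneousIdeal.mem_irrelevant_of_mem 𝒜 (by omega) hf
      exact hfI (hle hfirr)
    · intro n hn
      ext x
      constructor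
      · rintro ⟨hxI, hxn⟩
        have hxI' : x ∈ I := hxI
        rw [mem_candIdeal_of_mem 𝒜 p d f hf h1' hxn, htrace n hn x hxn] at hxI'
        exact hxI'
      · intro hxp
        have hxn : x ∈ 𝒜 n := hp n hn hxp
        refine ⟨?_, hxn⟩
        change x ∈ I
        rw [mem_candIdeal_of_mem 𝒜 p d f hf h1' hxn, htrace n hn x hxn]
        exact hxp
  · intro 𝔭 𝔮 h𝔭 h𝔮 h𝔭irr h𝔮irr htr𝔭 htr𝔮
    apply HomogeneousIdeal.ext
    exact le_antisymm (le_of_traces 𝒜 n₀ p 𝔭 𝔮 h𝔮 h𝔮irr htr𝔭 htr𝔮)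
      (le_of_traces 𝒜 n₀ p 𝔮 𝔭 h𝔭 h𝔭irr htr𝔮 htr𝔭)

end Groth.Agent.S4395
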