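import Groth.Statements.S4396
import Mathlib.RingTheory.GradedAlgebra.HomogeneousLocalization
import Mathlib.Algebra.DirectSum.Ring

set_option autoImplicit false
universe u
open AlgebraicGeometry
open EGA2

namespace Groth.Agent.S4396

section Helpers

open DirectSum HomogeneousLocalization

variable {R A : Type u} [CommRing R] [CommRing A] [Algebra R A] (𝒜 : ℕ → Submodule R A) [GradedAlgebra 𝒜]
    {B : Type u} [CommRing B] [Algebra R B] (ℬ : ℕ → Submodule R B) [GradedAlgebra ℬ]
    (d : ℕ) (φ : B →ₐ[R] A)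
    (hdeg : ∀ n : ℕ, Submodule.map φ.toLinearMap (ℬ n) = 𝒜 (n * d)) (f' : B) (hf' : f' ∈ ℬ 1)

omit [GradedAlgebra 𝒜] [GradedAlgebra ℬ] in
include hdeg in
theorem map_mem (n : ℕ) (x : B) (hx : x ∈ ℬ n) : φ x ∈ 𝒜 (n • d) := by
  rw [smul_eq_mul, ← hdeg n]
  exact ⟨x, hx, rfl⟩

omit [GradedAlgebra 𝒜] [GradedAlgebra ℬ] in
include hdeg hf' in
theorem hf_mem : φ f' ∈ 𝒜 d := by
  have := map_mem 𝒜 ℬ d φ hdeg 1 f' hf'
  simpa using this

/-- The degree `n` piece of the dehomogenisation map. -/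
noncomputable def psiN (n : ℕ) : ℬ n →+ Away 𝒜 (φ f') where
  toFun x := Away.mk 𝒜 (hf_mem 𝒜 ℬ d φ hdeg f' hf') n (φ x) (map_mem 𝒜 ℬ d φ hdeg n x x.2)
  map_zero' := by
    rw [ext_iff_val, Away.val_mk, val_zero]
    simp [Localization.mk_zero]
  map_add' x y := by
    rw [ext_iff_val, val_add, Away.val_mk, Away.val_mk, Away.val_mk, Localization.add_mk_self]
    simp

omit [GradedAlgebra ℬ] in
theorem val_psiN (n : ℕ) (x : ℬ n) :
    (psiN 𝒜 ℬ d φ hdeg f' hf' n x).val =
      Localization.mk (φ x) ⟨φ f' ^ n, pow_mem (Submonoid.mem_powers (φ f')) n⟩ := rfl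

/-- The dehomogenisation map on the direct sum. -/
noncomputable def psiSum : (⨁ i, ℬ i) →+* Away 𝒜 (φ f') :=
  DirectSum.toSemiring (psiN 𝒜 ℬ d φ hdeg f' hf')
    (by
      rw [ext_iff_val, val_psiN, val_one]
      simp only [SetLike.coe_gOne, map_one, pow_zero]
      exact Localization.mk_one)
    (by
      intro i j ai aj
      rw [ext_iff_val, val_mul, val_psiN, val_psiN, val_psiN, Localization.mk_mul]
      simp only [SetLike.coe_gMul, map_mul]
      congr 1
      exact Subtype.ext (pow_add _ _ _))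

/-- The dehomogenisation map. -/
noncomputable def psi : B →+* Away 𝒜 (φ f') :=
  (psiSum 𝒜 ℬ d φ hdeg f' hf').comp (DirectSum.decomposeRingEquiv ℬ).toRingHom

theorem psi_of_mem (n : ℕ) (x : B) (hx : x ∈ ℬ n) :
    psi 𝒜 ℬ d φ hdeg f' hf' x = psiN 𝒜 ℬ d φ hdeg f' hf' n ⟨x, hx⟩ := by
  simp only [psi, RingHom.coe_comp, Function.comp_apply, RingEquiv.toRingHom_eq_coe,
    RingHom.coe_coe]
  have h1 : (DirectSum.decomposeRingEquiv ℬ) x = DirectSum.decompose ℬ x := rfl
  rw [h1, DirectSum.decompose_of_mem ℬ hx]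
  simp [psiSum, DirectSum.toSemiring_apply, DirectSum.toAddMonoid_of]

theorem val_psi_of_mem (n : ℕ) (x : B) (hx : x ∈ ℬ n) :
    (psi 𝒜 ℬ d φ hdeg f' hf' x).val =
      Localization.mk (φ x) ⟨φ f' ^ n, pow_mem (Submonoid.mem_powers (φ f')) n⟩ := by
  rw [psi_of_mem 𝒜 ℬ d φ hdeg f' hf' n x hx, val_psiN]

end Helpers

/-- Let S be a ring graded in nonnegative degrees, d > 0, and S^{(d)} the graded ring whose degree-n
part is S_{nd} (given here as any graded ring S' with an injective algebra homomorphism φ : S' → S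
carrying S'_n onto S_{nd} for every n); let f' ∈ S'_1, with image f = φ(f') ∈ S_d. Then there is a
ring isomorphism between the degree-zero homogeneous localization S_(f) and the quotient S'/(f' -
1)S', whose inverse sends the class of an element x of S'_n to the fraction φ(x)/f^n. (The module
part of the published statement is not stated here.) -/
theorem result {R A : Type u} [CommRing R] [CommRing A] [Algebra R A] (𝒜 : ℕ → Submodule R A) [GradedAlgebra 𝒜]
    {B : Type u} [CommRing B] [Algebra R B] (ℬ : ℕ → Submodule R B) [GradedAlgebra ℬ]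
    (d : ℕ) (hd : 0 < d) (φ : B →ₐ[R] A) (hφ : Function.Injective φ)
    (hdeg : ∀ n : ℕ, Submodule.map φ.toLinearMap (ℬ n) = 𝒜 (n * d)) (f' : B) (hf' : f' ∈ ℬ 1) :
    ∃ e : HomogeneousLocalization.Away 𝒜 (φ f') ≃+* B ⧸ Ideal.span {f' - 1},
      ∀ (n : ℕ) (x : B), x ∈ ℬ n →
        (e.symm (Ideal.Quotient.mk (Ideal.span {f' - 1}) x)).val =
          Localization.mk (φ x) ⟨φ f' ^ n, pow_mem (Submonoid.mem_powers (φ f')) n⟩ := by
  classical
  have hf : φ f' ∈ 𝒜 d := hf_mem 𝒜 ℬ d φ hdeg f' hf'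
  have hψval := val_psi_of_mem 𝒜 ℬ d φ hdeg f' hf'
  have hψf' : psi 𝒜 ℬ d φ hdeg f' hf' f' = 1 := by
    rw [HomogeneousLocalization.ext_iff_val, hψval 1 f' hf', HomogeneousLocalization.val_one]
    have : (⟨φ f' ^ 1, pow_mem (Submonoid.mem_powers (φ f')) 1⟩ : Submonoid.powers (φ f')) =
        ⟨φ f', Submonoid.mem_powers (φ f')⟩ := Subtype.ext (pow_one _)
    rw [this]
    exact Localization.mk_self (⟨φ f', Submonoid.mem_powers (φ f')⟩ : Submonoid.powers (φ f'))
  have hker : ∀ a ∈ Ideal.span {f' - 1}, psi 𝒜 ℬ d φ hdeg f' hf' a = 0 := by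
    intro a ha
    rw [Ideal.mem_span_singleton'] at ha
    obtain ⟨b, rfl⟩ := ha
    rw [map_mul, map_sub, hψf', map_one, sub_self, mul_zero]
  let ψb : B ⧸ Ideal.span {f' - 1} →+* HomogeneousLocalization.Away 𝒜 (φ f') :=
    Ideal.Quotient.lift _ (psi 𝒜 ℬ d φ hdeg f' hf') hker
  have hψb : ∀ x : B, ψb (Ideal.Quotient.mk _ x) = psi 𝒜 ℬ d φ hdeg f' hf' x := fun x => rfl
  have hmkf' : (Ideal.Quotient.mk (Ideal.span {f' - 1})) f' = 1 := by
    rw [← map_one (Ideal.Quotient.mk (Ideal.span {f' - 1})), Ideal.Quotient.eq]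
    exact Ideal.mem_span_singleton_self _
  have hsurj : Function.Surjective ψb := by
    intro z
    obtain ⟨n, a, ha, rfl⟩ := HomogeneousLocalization.Away.mk_surjective 𝒜 hf z
    have ha' : a ∈ Submodule.map φ.toLinearMap (ℬ n) := by
      rw [hdeg n, ← smul_eq_mul]; exact ha
    obtain ⟨b, hb, rfl⟩ := ha'
    refine ⟨Ideal.Quotient.mk _ b, ?_⟩
    rw [hψb, HomogeneousLocalization.ext_iff_val, hψval n b hb,
      HomogeneousLocalization.Away.val_mk]
    rfl
  have hinj : Function.Injective ψb := by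
    rw [injective_iff_map_eq_zero]
    intro q hq
    obtain ⟨x, rfl⟩ := Ideal.Quotient.mk_surjective q
    set S := (DirectSum.decompose ℬ x).support with hS
    set N := S.sup id with hN
    set y : B := ∑ n ∈ S, ((DirectSum.decompose ℬ x n : ℬ n) : B) * f' ^ (N - n) with hy
    have hyN : y ∈ ℬ N := by
      refine sum_mem (fun n hn => ?_)
      have hnN : n ≤ N := Finset.le_sup (f := id) hn
      have h1 : f' ^ (N - n) ∈ ℬ ((N - n) • 1) := SetLike.pow_mem_graded (N - n) hf'
      have h2 := SetLike.GradedMul.mul_mem (Subtype.prop (DirectSum.decompose ℬ x n)) h1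
      have heq : n + (N - n) • 1 = N := by rw [smul_eq_mul]; omega
      rwa [heq] at h2
    have hxy : (Ideal.Quotient.mk (Ideal.span {f' - 1})) x =
        (Ideal.Quotient.mk (Ideal.span {f' - 1})) y := by
      conv_lhs => rw [← DirectSum.sum_support_decompose ℬ x]
      rw [hy, map_sum, map_sum]
      refine Finset.sum_congr rfl (fun n _ => ?_)
      rw [map_mul, map_pow, hmkf', one_pow, mul_one]
    rw [hxy] at hq ⊢
    rw [hψb, HomogeneousLocalization.ext_iff_val, hψval N y hyN, HomogeneousLocalization.val_zero,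
      Localization.mk_eq_mk'_apply, IsLocalization.mk'_eq_zero_iff] at hq
    obtain ⟨⟨m, k, hk⟩, hm⟩ := hq
    have hk' : φ f' ^ k = m := hk
    have h0 : φ (f' ^ k * y) = 0 := by
      rw [map_mul, map_pow, hk']
      exact hm
    have h1 : f' ^ k * y = 0 := hφ (by rw [h0, map_zero])
    have h2 : (Ideal.Quotient.mk (Ideal.span {f' - 1})) y =
        (Ideal.Quotient.mk (Ideal.span {f' - 1})) (f' ^ k * y) := by
      rw [map_mul, map_pow, hmkf', one_pow, one_mul]
    rw [h2, h1, map_zero]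
  refine ⟨(RingEquiv.ofBijective ψb ⟨hinj, hsurj⟩).symm, ?_⟩
  intro n x hx
  rw [RingEquiv.symm_symm, RingEquiv.ofBijective_apply, hψb, hψval n x hx]

end Groth.Agent.S4396
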