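import Groth.Statements.S4398
import Mathlib.AlgebraicGeometry.Morphisms.IsIso

set_option autoImplicit false
universe u
open AlgebraicGeometry
open EGA2

namespace Groth.Agent.S4398

section Helpers

open HomogeneousLocalization CategoryTheory

variable {R A : Type u} [CommRing R] [CommRing A] [Algebra R A] (𝒜 : ℕ → Submodule R A) [GradedAlgebra 𝒜]
    {B : Type u} [CommRing B] [Algebra R B] (ℬ : ℕ → Submodule R B) [GradedAlgebra ℬ]
    (φ : ℬ →+*ᵍ 𝒜) (hbij : ∀ n : ℕ, 0 < n → Set.BijOn φ (ℬ n) (𝒜 n))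

/-- A fraction `x / s^n` can be rewritten with a denominator of exponent `n + 1`. -/
theorem away_mk_succ {i : ℕ} {s : B} (hs : s ∈ ℬ i) (n : ℕ) (x : B) (hx : x ∈ ℬ (n • i)) :
    ∃ hx' : x * s ∈ ℬ ((n + 1) • i), Away.mk ℬ hs n x hx = Away.mk ℬ hs (n + 1) (x * s) hx' := by
  have hx' : x * s ∈ ℬ ((n + 1) • i) := by
    have := SetLike.GradedMul.mul_mem hx hs
    rwa [show n • i + i = (n + 1) • i by rw [add_smul, one_smul]] at this
  refine ⟨hx', ?_⟩
  rw [HomogeneousLocalization.ext_iff_val, Away.val_mk, Away.val_mk, Localization.mk_eq_mk_iff,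
    Localization.r_iff_exists]
  refine ⟨1, ?_⟩
  simp only [OneMemClass.coe_one, one_mul]
  ring

include hbij in
theorem awayMap_bijective {i : ℕ} (hi : 0 < i) (s : B) (hs : s ∈ ℬ i) :
    Function.Bijective (Away.map φ s) := by
  constructor
  · rw [injective_iff_map_eq_zero]
    intro x hx
    obtain ⟨n, b, hb, rfl⟩ := Away.mk_surjective ℬ hs x
    obtain ⟨hb', heq⟩ := away_mk_succ ℬ hs n b hb
    rw [heq] at hx ⊢
    rw [Away.map_mk, HomogeneousLocalization.ext_iff_val, Away.val_mk, val_zero,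
      Localization.mk_eq_mk'_apply, IsLocalization.mk'_eq_zero_iff] at hx
    obtain ⟨⟨m, k, hk⟩, hm⟩ := hx
    have hk' : φ s ^ k = m := hk
    have hdegpos : 0 < k • i + (n + 1) • i := by
      have : 0 < (n + 1) • i := by rw [smul_eq_mul]; positivity
      omega
    have hmem : s ^ k * (b * s) ∈ ℬ (k • i + (n + 1) • i) :=
      SetLike.GradedMul.mul_mem (SetLike.pow_mem_graded k hs) hb'
    have h0 : φ (s ^ k * (b * s)) = φ 0 := by
      rw [map_mul, map_pow, hk', map_zero]
      exact hm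
    have hzero : s ^ k * (b * s) = 0 :=
      (hbij _ hdegpos).injOn hmem (zero_mem _) h0
    rw [HomogeneousLocalization.ext_iff_val, Away.val_mk, val_zero,
      Localization.mk_eq_mk'_apply, IsLocalization.mk'_eq_zero_iff]
    exact ⟨⟨s ^ k, k, rfl⟩, hzero⟩
  · intro y
    have hφs : φ s ∈ 𝒜 i := φ.map_mem hs
    obtain ⟨n, a, ha, rfl⟩ := Away.mk_surjective 𝒜 hφs y
    obtain ⟨ha', heq⟩ := away_mk_succ 𝒜 hφs n a ha
    rw [heq]
    have hdegpos : 0 < (n + 1) • i := by rw [smul_eq_mul]; positivity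
    obtain ⟨b, hb, hba⟩ := (hbij _ hdegpos).surjOn ha'
    refine ⟨Away.mk ℬ hs (n + 1) b hb, ?_⟩
    rw [Away.map_mk]
    congr 1

open AlgebraicGeometry in
include hbij in
theorem isIso_projMap
    (hφ : HomogeneousIdeal.irrelevant 𝒜 ≤ (HomogeneousIdeal.irrelevant ℬ).map φ) :
    IsIso (Proj.map φ hφ) := by
  change CategoryTheory.MorphismProperty.isomorphisms Scheme (Proj.map φ hφ)
  refine IsZariskiLocalAtTarget.of_openCover (Proj.affineOpenCover ℬ).openCover ?_
  rintro ⟨⟨i, hi⟩, ⟨s, hs⟩⟩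
  change CategoryTheory.IsIso _
  have hpb : CategoryTheory.IsPullback
      (Spec.map (CommRingCat.ofHom (HomogeneousLocalization.Away.map φ s)))
      (Proj.awayι 𝒜 (φ s) (φ.map_mem hs) hi) (Proj.awayι ℬ s hs hi) (Proj.map φ hφ) := by
    apply IsOpenImmersion.isPullback
    · exact Proj.awayι_comp_map φ hφ hi s hs
    · rw [Proj.opensRange_awayι, Proj.opensRange_awayι, Proj.map_preimage_basicOpen]
  have hiso : CategoryTheory.IsIso
      (Spec.map (CommRingCat.ofHom (HomogeneousLocalization.Away.map φ s))) := by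
    rw [isIso_SpecMap_iff]
    exact awayMap_bijective 𝒜 ℬ φ hbij hi s hs
  have hsnd : CategoryTheory.Limits.pullback.snd (Proj.map φ hφ) (Proj.awayι ℬ s hs hi) =
      hpb.flip.isoPullback.inv ≫
        Spec.map (CommRingCat.ofHom (HomogeneousLocalization.Away.map φ s)) := by
    rw [CategoryTheory.Iso.eq_inv_comp]
    exact hpb.flip.isoPullback_hom_snd
  change CategoryTheory.IsIso
    (CategoryTheory.Limits.pullback.snd (Proj.map φ hφ) (Proj.awayι ℬ s hs hi))
  rw [hsnd]
  infer_instance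

end Helpers

/-- Let φ : S' → S be a homomorphism of rings graded in nonnegative degrees which maps S'_n bijectively
onto S_n for every n > 0, so that S_+ lies in the ideal generated by φ(S'_+) (stated as a hypothesis
because the induced morphism is built from it). Then the induced morphism Proj S → Proj S' is an
isomorphism of schemes. (The published statement treats the cases S'_0 = ℤ and S'_0 = A with S'_n =
S_n for n > 0; this row allows any graded φ that is bijective in positive degrees.) -/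
theorem result {R A : Type u} [CommRing R] [CommRing A] [Algebra R A] (𝒜 : ℕ → Submodule R A) [GradedAlgebra 𝒜]
    {B : Type u} [CommRing B] [Algebra R B] (ℬ : ℕ → Submodule R B) [GradedAlgebra ℬ]
    (φ : ℬ →+*ᵍ 𝒜) (hbij : ∀ n : ℕ, 0 < n → Set.BijOn φ (ℬ n) (𝒜 n))
    (hφ : HomogeneousIdeal.irrelevant 𝒜 ≤ (HomogeneousIdeal.irrelevant ℬ).map φ) :
    CategoryTheory.IsIso (Proj.map φ hφ) := by
  exact isIso_projMap 𝒜 ℬ φ hbij hφ

end Groth.Agent.S4398
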