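import Groth.Statements.S4402
import Groth.Agent.Lib.H4TwistAmple
import Groth.Agent.Lib.H4TwistMul
import Groth.Agent.Lib.CohFinAmple
-- import your own Groth.Agent.* helpers here

set_option autoImplicit false
universe u
open CategoryTheory CategoryTheory.Limits AlgebraicGeometry
open EGA2

namespace Groth.Agent.S4402


open Groth.Agent.Lib.H4Twist Twist in
theorem nonempty_twistNegPowIso {R A : Type u} [CommRing R] [CommRing A] [Algebra R A]
    (𝒜 : ℕ → Submodule R A) [GradedAlgebra 𝒜]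
    (hgen : (HomogeneousIdeal.irrelevant 𝒜).toIdeal = Ideal.span (𝒜 1 : Set A)) (n : ℕ) :
    Nonempty (CohB1.tensorPow (Twist.twist 𝒜 (-1)) n ≅ Twist.twist 𝒜 (-(n : ℤ))) := by
  induction n with
  | zero =>
    obtain ⟨e⟩ := nonempty_twistZeroIso 𝒜
    have e1 : Twist.twist 𝒜 (-((0 : ℕ) : ℤ)) ≅ Twist.twist 𝒜 0 := eqToIso (by simp)
    exact ⟨(e1 ≪≫ e).symm⟩
  | succ n ih =>
    obtain ⟨e⟩ := ih
    have e1 : Twist.twist 𝒜 (-(n : ℤ) + (-1)) ≅ Twist.twist 𝒜 (-((n + 1 : ℕ) : ℤ)) :=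
      eqToIso (by push_cast; ring_nf)
    exact ⟨Groth.Agent.Lib.H78AmpleUnit.tensorModIso e (Iso.refl _) ≪≫
      twistMulIso 𝒜 hgen (-(n : ℤ)) (-1) ≪≫ e1⟩


/-- Consider a ring S graded in nonnegative degrees, and assume its irrelevant ideal S_+ is generated by
a finite set of degree-one elements; put X = Proj S. Given any O_X-module F that is quasi-coherent
and of finite type, one can find n₀ so that whenever n ≥ n₀, some k admits an epimorphism onto F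
from the direct sum of k copies of O_X(-n). -/
theorem result {R A : Type u} [CommRing R] [CommRing A] [Algebra R A] (𝒜 : ℕ → Submodule R A) [GradedAlgebra 𝒜]
    (s : Finset A) (hs1 : ∀ f ∈ s, f ∈ 𝒜 1)
    (hs : (HomogeneousIdeal.irrelevant 𝒜).toIdeal = Ideal.span (s : Set A))
    (F : (Proj 𝒜).Modules) (hF : Coh.IsQCoh F) (hFT : CohB1.IsFT F) :
    ∃ n₀ : ℕ, ∀ n : ℕ, n₀ ≤ n →
      ∃ (k : ℕ) (p : (∐ fun _ : Fin k => Twist.twist 𝒜 (-(n : ℤ))) ⟶ F), Epi p := by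
  classical
  have hgen := Groth.Agent.Lib.H4Twist.irrelevant_eq_span_one 𝒜 s hs1 hs
  have := Groth.Agent.Lib.H4Twist.compactSpace_proj 𝒜 s hs1 hs
  have hL := Groth.Agent.Lib.H4Twist.isAmple_twist_one 𝒜 s hs1 hs
  obtain ⟨e0⟩ := Groth.Agent.Lib.H4Twist.nonempty_twistZeroIso 𝒜
  have e1 : Twist.twist 𝒜 (1 + (-1)) ≅ Twist.twist 𝒜 0 := eqToIso (by simp)
  have e : CohB1.tensorMod (Twist.twist 𝒜 1) (Twist.twist 𝒜 (-1)) ≅ Coh.structureModule (Proj 𝒜) :=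
    Groth.Agent.Lib.H4Twist.twistMulIso 𝒜 hgen 1 (-1) ≪≫ e1 ≪≫ e0
  obtain ⟨n₀, h⟩ := Groth.Agent.Lib.CohFinAmple.exists_finite_epi_sigma_pow hL e F ⟨hF, hFT⟩
  refine ⟨n₀, fun n hn => ?_⟩
  obtain ⟨K, hK, q, hq⟩ := h n hn
  obtain ⟨en⟩ := nonempty_twistNegPowIso 𝒜 hgen n
  let eK : Fin (Nat.card K) ≃ K := (Finite.equivFin K).symm
  let w : (∐ fun _ : Fin (Nat.card K) => Twist.twist 𝒜 (-(n : ℤ))) ≅
      (∐ fun _ : K => CohB1.tensorPow (Twist.twist 𝒜 (-1)) n) :=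
    Sigma.whiskerEquiv eK (fun _ => en)
  exact ⟨Nat.card K, w.hom ≫ q, epi_comp _ _⟩


end Groth.Agent.S4402
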