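import Groth.Statements.S4403
import Groth.Agent.Lib.H60PConeSheaf
import Groth.Agent.Lib.H78AtlasIso

set_option autoImplicit false
universe u
open CategoryTheory CategoryTheory.Limits AlgebraicGeometry
open EGA2

namespace Groth.Agent.S4403


section aux

open Groth.Agent.Lib.H60PConeSheaf Groth.Agent.Lib.H60PConeMap Groth.Agent.Lib.H4Twist
open Groth.Agent.Lib.H90Invertible Groth.Agent.Lib.H78Atlas Groth.Agent.Lib.H78PullSec
open Groth.Agent.Lib.H78SecCoord Groth.Agent.Lib.H78TensorGen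

variable {R A : Type u} [CommRing R] [CommRing A] [Algebra R A] {𝒜 : ℕ → Submodule R A}
  [GradedAlgebra 𝒜] {B : Type u} [CommRing B] [Algebra R B] {ℬ : ℕ → Submodule R B}
  [GradedAlgebra ℬ] (φ : 𝒜 →+*ᵍ ℬ)
  (p : (PCone.dom φ : Scheme.{u}) ⟶ Proj 𝒜)
  (hp : ∀ (d : ℕ) (f : A) (hd : 0 < d) (hf : f ∈ 𝒜 d),
    PCone.chart φ hf hd ≫ p =
      Spec.map (CommRingCat.ofHom (HomogeneousLocalization.Away.map φ f)) ≫ Proj.awayι 𝒜 f hf hd)

variable (𝒜) in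
/-- Index type: elements of degree one. -/
abbrev Idx1 : Type u := {f : A // f ∈ 𝒜 1}

/-- the atlas of `O(n)` on `Proj 𝒜` by the `f ^ n`, `f` of degree one -/
noncomputable def atlasA (n : ℤ) :
    Atlas (Twist.twist 𝒜 (n * ((1 : ℕ) : ℤ))) (fun f : Idx1 𝒜 => Proj.basicOpen 𝒜 f.1) where
  E f := gen f.2 (U := Proj.basicOpen 𝒜 f.1) (fun x => x.2) n
  gen f := isGen_gen f.2 _ n

include hp in
theorem map_notMem (f : Idx1 𝒜) (y : ((PCone.dom φ).ι ''ᵁ (p ⁻¹ᵁ Proj.basicOpen 𝒜 f.1) : (Proj ℬ).Opens)) :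
    φ f.1 ∉ y.1.asHomogeneousIdeal := by
  obtain ⟨z, hz, hzy⟩ := y.2
  rw [← hzy]
  intro h
  exact hz ((mem_iff φ p hp z f.2).mpr h)

/-- the atlas of `O(n)|G(φ)` by the `φ f ^ n` -/
noncomputable def atlasB (n : ℤ) :
    Atlas ((Twist.twist ℬ (n * ((1 : ℕ) : ℤ))).restrict (PCone.dom φ).ι)
      (fun f : Idx1 𝒜 => p ⁻¹ᵁ Proj.basicOpen 𝒜 f.1) where
  E f := gen (𝒜 := ℬ) (f := φ f.1) (φ.2 f.2)
    (U := (PCone.dom φ).ι ''ᵁ (p ⁻¹ᵁ Proj.basicOpen 𝒜 f.1)) (map_notMem φ p hp f) n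
  gen f := (isGen_restrict_iff (PCone.dom φ).ι _ _ _).mpr (isGen_gen (𝒜 := ℬ) (φ.2 f.2) _ n)

/-- values of the transition functions of `atlasA` -/
theorem oval_transA (n : ℤ) (f g : Idx1 𝒜)
    (x : (Proj.basicOpen 𝒜 f.1 ⊓ Proj.basicOpen 𝒜 g.1 : (Proj 𝒜).Opens)) :
    oval ((atlasA (𝒜 := 𝒜) n).trans f g) x *
        (((fUnit x.1 f.1 x.2.1) ^ n : (Twist.Loc 𝒜 x.1)ˣ) : Twist.Loc 𝒜 x.1) =
      (((fUnit x.1 g.1 x.2.2) ^ n : (Twist.Loc 𝒜 x.1)ˣ) : Twist.Loc 𝒜 x.1) := by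
  have h := congrArg (fun t => sval t x) ((atlasA (𝒜 := 𝒜) n).trans_spec f g)
  simp only [sval_smul] at h
  exact h

set_option maxHeartbeats 400000 in
theorem trans_eq (n : ℤ) (f g : Idx1 𝒜) :
    (pullAtlas p (atlasA (𝒜 := 𝒜) n)).trans f g = (atlasB φ p hp n).trans f g := by
  rw [pullAtlas_trans]
  refine Atlas.trans_unique (atlasB φ p hp n) f g ?_
  rw [restrict_smul]
  refine sec_ext (𝒜 := ℬ) fun y => ?_
  obtain ⟨y, z, hz, rfl⟩ := y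
  have hzf : f.1 ∉ (p.base z).asHomogeneousIdeal := hz.1
  have hzg : g.1 ∉ (p.base z).asHomogeneousIdeal := hz.2
  have hzf' : φ f.1 ∉ ((PCone.dom φ).ι.base z).asHomogeneousIdeal :=
    fun h => hzf ((mem_iff φ p hp z f.2).mpr h)
  have hzg' : φ g.1 ∉ ((PCone.dom φ).ι.base z).asHomogeneousIdeal :=
    fun h => hzg ((mem_iff φ p hp z g.2).mpr h)
  have hr : ((PCone.dom φ).ι.appIso (p ⁻¹ᵁ Proj.basicOpen 𝒜 f.1 ⊓ p ⁻¹ᵁ Proj.basicOpen 𝒜 g.1)).inv.hom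
      ((p.appLE (Proj.basicOpen 𝒜 f.1 ⊓ Proj.basicOpen 𝒜 g.1)
        (p ⁻¹ᵁ Proj.basicOpen 𝒜 f.1 ⊓ p ⁻¹ᵁ Proj.basicOpen 𝒜 g.1) (le_of_eq rfl)).hom
          ((atlasA (𝒜 := 𝒜) n).trans f g)) =
      (p.appLE (Proj.basicOpen 𝒜 f.1 ⊓ Proj.basicOpen 𝒜 g.1)
        (p ⁻¹ᵁ Proj.basicOpen 𝒜 f.1 ⊓ p ⁻¹ᵁ Proj.basicOpen 𝒜 g.1) (le_of_eq rfl)).hom
          ((atlasA (𝒜 := 𝒜) n).trans f g) := by
    rw [Scheme.Opens.ι_appIso]
    rfl
  have h1 := ovalX_appLE φ p hp (Proj.basicOpen 𝒜 f.1 ⊓ Proj.basicOpen 𝒜 g.1)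
    (p ⁻¹ᵁ Proj.basicOpen 𝒜 f.1 ⊓ p ⁻¹ᵁ Proj.basicOpen 𝒜 g.1) (le_of_eq rfl)
    ((atlasA (𝒜 := 𝒜) n).trans f g) z hz
  have h2 := congrArg (locHom φ p hp z) (oval_transA n f g ⟨p.base z, hz⟩)
  rw [map_mul, locHom_fUnit_zpow φ p hp z hzf hzf', locHom_fUnit_zpow φ p hp z hzg hzg', ← h1] at h2
  refine Eq.trans ?_ h2
  change oval (𝒜 := ℬ) (((PCone.dom φ).ι.appIso _).inv.hom _) _ * _ = _
  rw [hr]
  rfl

include hp in
theorem main (hgen : (HomogeneousIdeal.irrelevant 𝒜).toIdeal = Ideal.span (𝒜 1 : Set A)) (n : ℤ) :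
    Nonempty ((Scheme.Modules.pullback p).obj (Twist.twist 𝒜 n) ≅
      (Twist.twist ℬ n).restrict (PCone.dom φ).ι) := by
  have hcov : ⨆ f : Idx1 𝒜, Proj.basicOpen 𝒜 f.1 = ⊤ :=
    Proj.iSup_basicOpen_eq_top (𝒜 := 𝒜) (fun f : Idx1 𝒜 => f.1) (by
      rw [hgen]
      apply Ideal.span_mono
      intro a ha
      exact ⟨⟨a, ha⟩, rfl⟩)
  have hcov' : ⨆ f : Idx1 𝒜, p ⁻¹ᵁ Proj.basicOpen 𝒜 f.1 = ⊤ := by
    rw [eq_top_iff]
    intro z _
    have hz : p.base z ∈ ⨆ f : Idx1 𝒜, Proj.basicOpen 𝒜 f.1 := by rw [hcov]; trivial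
    obtain ⟨f, hf⟩ := TopologicalSpace.Opens.mem_iSup.mp hz
    exact TopologicalSpace.Opens.mem_iSup.mpr ⟨f, hf⟩
  have key := Groth.Agent.Lib.H78AtlasIso.nonempty_iso_of_atlas (pullAtlas p (atlasA (𝒜 := 𝒜) n))
    (atlasB φ p hp n) hcov' (trans_eq φ p hp n)
  have e : n * ((1 : ℕ) : ℤ) = n := by simp
  rw [e] at key
  exact key

end aux

/-- Let φ : S' → S be a homomorphism of rings graded in nonnegative degrees such that the irrelevant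
ideal of S' is generated by its degree-one elements, G(φ) ⊆ Proj S the open on which the morphism Φ
: G(φ) → Proj S' induced by φ is defined (Φ is characterised by its restrictions to the standard
charts), and n an integer. Then Φ^*(O(n)) is isomorphic to the restriction of O(n) from Proj S to
G(φ). (Existence of an isomorphism only; the published one is the canonical map ν.) -/
theorem result {R A : Type u} [CommRing R] [CommRing A] [Algebra R A] (𝒜 : ℕ → Submodule R A) [GradedAlgebra 𝒜]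
    {B : Type u} [CommRing B] [Algebra R B] (ℬ : ℕ → Submodule R B) [GradedAlgebra ℬ] (φ : 𝒜 →+*ᵍ ℬ)
    (hgen : (HomogeneousIdeal.irrelevant 𝒜).toIdeal = Ideal.span (𝒜 1 : Set A))
    (p : (PCone.dom φ : Scheme.{u}) ⟶ Proj 𝒜)
    (hp : ∀ (d : ℕ) (f : A) (hd : 0 < d) (hf : f ∈ 𝒜 d),
        PCone.chart φ hf hd ≫ p =
          Spec.map (CommRingCat.ofHom (HomogeneousLocalization.Away.map φ f)) ≫ Proj.awayι 𝒜 f hf hd)
    (n : ℤ) :
    Nonempty ((Scheme.Modules.pullback p).obj (Twist.twist 𝒜 n) ≅ (Twist.twist ℬ n).restrict (PCone.dom φ).ι) := by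
  exact main φ p hp hgen n

end Groth.Agent.S4403
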