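import Groth.Statements.S4405
import Mathlib.RingTheory.GradedAlgebra.Radical

set_option autoImplicit false
universe u
open EGA2

namespace Groth.Agent.S4405

/-- Let S be a ring graded in nonnegative degrees and E any subset of the irrelevant ideal S_+. Then the
intersection of S_+ with the vanishing ideal of the closed subset V_+(E) of Proj S equals the
intersection of S_+ with the radical of the graded ideal generated by E (the smallest homogeneous
ideal containing E). -/
theorem result {R A : Type u} [CommRing R] [CommRing A] [Algebra R A] (𝒜 : ℕ → Submodule R A) [GradedAlgebra 𝒜]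
    (E : Set A) (hE : E ⊆ (HomogeneousIdeal.irrelevant 𝒜).toIdeal) :
    (HomogeneousIdeal.irrelevant 𝒜).toIdeal ⊓
        (ProjectiveSpectrum.vanishingIdeal (ProjectiveSpectrum.zeroLocus 𝒜 E)).toIdeal =
      (HomogeneousIdeal.irrelevant 𝒜).toIdeal ⊓ (Ideal.homogeneousHull 𝒜 (Ideal.span E)).toIdeal.radical := by
  have hHle : ∀ J : HomogeneousIdeal 𝒜, E ⊆ (J : Set A) →
      (Ideal.homogeneousHull 𝒜 (Ideal.span E)) ≤ J := by
    intro J hJ
    exact (Ideal.homogeneousHull.gc 𝒜 _ _).mpr (Ideal.span_le.mpr hJ)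
  have hEH : E ⊆ ((Ideal.homogeneousHull 𝒜 (Ideal.span E)).toIdeal : Set A) := fun e he =>
    Ideal.le_toIdeal_homogeneousHull 𝒜 _ (Ideal.subset_span he)
  ext f
  simp only [Ideal.mem_inf]
  refine and_congr_right fun hf => ?_
  rw [HomogeneousIdeal.mem_iff, ProjectiveSpectrum.mem_vanishingIdeal,
    (Ideal.homogeneousHull 𝒜 (Ideal.span E)).isHomogeneous.radical_eq, Ideal.mem_sInf]
  constructor
  · rintro h J ⟨hJh, hHJ, hJp⟩
    by_cases hirr : HomogeneousIdeal.irrelevant 𝒜 ≤ (⟨J, hJh⟩ : HomogeneousIdeal 𝒜)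
    · exact hirr hf
    · exact h ⟨⟨J, hJh⟩, hJp, hirr⟩ (fun e he => hHJ (hEH he))
  · intro h x hx
    exact h ⟨x.asHomogeneousIdeal.isHomogeneous, hHle x.asHomogeneousIdeal hx, x.isPrime⟩

end Groth.Agent.S4405
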