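import Groth.Statements.S4408
import Groth.Agent.Lib.QAffineGen
import Groth.Agent.Lib.H77QCohKernel
import Groth.Agent.Lib.H90QCohSection
import Groth.Agent.S10848
-- import your own Groth.Agent.* helpers here

set_option autoImplicit false
universe u
open CategoryTheory CategoryTheory.Limits AlgebraicGeometry
open EGA2

namespace Groth.Agent.S4408

/-- (e') ⇒ (a): let X be a quasi-compact separated scheme such that every quasi-coherent submodule of
finite type of O_X is generated by its global sections. Then X is quasi-affine. (The published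
statement also allows X to be a scheme whose underlying space is Noetherian; this row assumes it
quasi-compact and separated.) -/
theorem result (X : Scheme.{u}) [CompactSpace X] [X.IsSeparated]
    (h : ∀ (J : X.Modules) (i : J ⟶ Coh.structureModule X), Mono i → Coh.IsQCoh J → CohB1.IsFT J →
      Curv2.IsGloballyGenerated J) :
    X.IsQuasiAffine := by
  haveI : QuasiSeparatedSpace X := inferInstance
  refine Scheme.IsQuasiAffine.of_forall_exists_mem_basicOpen X fun x => ?_
  obtain ⟨U, hU, hxU, -⟩ := TopologicalSpace.Opens.isBasis_iff_nbhd.1 X.isBasis_affineOpens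
    (show x ∈ (⊤ : X.Opens) from trivial)
  let Z : TopologicalSpace.Closeds X := ⟨(U : Set X)ᶜ, U.isOpen.isClosed_compl⟩
  obtain ⟨g₀, hg₀⟩ := Groth.Agent.Lib.QAffineGen.exists_idealFn_eq_one U hU Z rfl
  haveI : (ClSub.idealMod (Scheme.IdealSheafData.vanishingIdeal Z)).IsQuasicoherent :=
    inferInstance
  obtain ⟨G, i, hi, hGq, hGft, g, hg⟩ :=
    Groth.Agent.Lib.H90QCohSection.exists_subsheaf_through_section
      (ClSub.idealMod (Scheme.IdealSheafData.vanishingIdeal Z)) hU g₀ (by
        intro G i _ _ hG
        exact Groth.Agent.S10848.result U hU.isCompact _ G hG i)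
  haveI := hi
  refine Groth.Agent.Lib.QAffineGen.exists_affine_basicOpen x U hU hxU Z rfl G i
    (h G (i ≫ ClSub.idealModι _) (mono_comp _ _) hGq hGft) g ?_
  rw [hg]
  exact hg₀

end Groth.Agent.S4408
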