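import Groth.Statements.S4409
import Groth.Agent.Lib.QuasiAffineCrit
import Groth.Agent.Lib.QuasiAffineGlobGen

set_option autoImplicit false
universe u
open CategoryTheory CategoryTheory.Limits AlgebraicGeometry
open EGA2

namespace Groth.Agent.S4409

/-- (a) ⇔ (d): let f : X → Y be a quasi-compact morphism. Then f is quasi-affine (the preimage of every
affine open of Y is a quasi-affine scheme) if and only if f is separated and, for every
quasi-coherent O_X-module F, the canonical morphism f^*(f_*(F)) → F (counit of the adjunction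
between f^* and f_*) is an epimorphism. -/
theorem result {X Y : Scheme.{u}} (f : X ⟶ Y) [QuasiCompact f] :
    Mor2.IsQuasiAffine f ↔ (IsSeparated f ∧ ∀ F : X.Modules, Coh.IsQCoh F →
      Epi ((Scheme.Modules.pullbackPushforwardAdjunction f).counit.app F)) := by
  constructor
  · rintro ⟨-, h⟩
    refine ⟨Groth.Agent.Lib.QuasiAffineCrit.isSeparated_of_forall_affine f (fun U => ?_), fun F hF => ?_⟩
    · have := h U.1 U.2
      infer_instance
    · apply Groth.Agent.Lib.CounitEpi.epi_counit_of_locally_globGen
      intro x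
      obtain ⟨V, hV, hxV, -⟩ := TopologicalSpace.Opens.isBasis_iff_nbhd.1 Y.isBasis_affineOpens
        (show f x ∈ (⊤ : Y.Opens) from trivial)
      refine ⟨V, hxV, ?_⟩
      have := h V hV
      have hFq : F.IsQuasicoherent := hF
      exact Groth.Agent.Lib.QuasiAffineGlobGen.isGloballyGenerated_of_isQuasiAffine _ _
        (Scheme.Modules.isQuasicoherent_restrictFunctor _ _)
  · rintro ⟨hsep, hepi⟩
    refine ⟨inferInstance, fun V hV => ?_⟩
    have : CompactSpace ↥((f ⁻¹ᵁ V : X.Opens) : Scheme.{u}) :=
      isCompact_iff_compactSpace.1 (QuasiCompact.isCompact_preimage (f := f) _ V.2 hV.isCompact)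
    refine Groth.Agent.Lib.QuasiAffineCrit.isQuasiAffine_of_globGen_idealMod (f ⁻¹ᵁ V) (fun I => ?_)
    have hq : Coh.IsQCoh (ClSub.idealMod I) := Groth.Agent.Lib.H77QCohKernel.isQuasicoherent_idealMod I
    exact Groth.Agent.Lib.CounitEpi.isGloballyGenerated_restrict_of_epi_counit f _ hq (hepi _ hq) V hV

end Groth.Agent.S4409
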