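import Groth.Statements.S4412
import Mathlib

set_option autoImplicit false
universe u
open EGA2

namespace Groth.Agent.S4412

section Aux

variable {R A : Type u} [CommRing R] [CommRing A] [Algebra R A] (𝒜 : ℕ → Submodule R A)
  [GradedAlgebra 𝒜] (d : ℕ)

/-- the projection onto the degrees divisible by `d` -/
noncomputable def proj : A →ₗ[R] A :=
  (DirectSum.coeLinearMap 𝒜) ∘ₗ (DFinsupp.filterLinearMap R (fun i => 𝒜 i) (fun i => d ∣ i)) ∘ₗ
    (DirectSum.decomposeLinearEquiv 𝒜).toLinearMap

theorem proj_of_mem {i : ℕ} {a : A} (ha : a ∈ 𝒜 i) :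
    proj 𝒜 d a = if d ∣ i then a else 0 := by
  classical
  simp only [proj, LinearMap.comp_apply, LinearEquiv.coe_coe,
    DirectSum.decomposeLinearEquiv_apply, DirectSum.decompose_of_mem 𝒜 ha]
  have : (DFinsupp.filterLinearMap R (fun i => 𝒜 i) (fun i => d ∣ i))
      (DirectSum.of (fun i => 𝒜 i) i ⟨a, ha⟩) =
      if d ∣ i then DirectSum.of (fun i => 𝒜 i) i ⟨a, ha⟩ else 0 := by
    rw [DFinsupp.filterLinearMap_apply]
    exact DFinsupp.filter_single _ i _
  rw [this]
  split_ifs with h
  · exact DirectSum.coeLinearMap_of 𝒜 i ⟨a, ha⟩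
  · exact map_zero _

theorem proj_mul_of_mem {n : ℕ} {v : A} (hv : v ∈ 𝒜 (n * d)) (a : A) :
    proj 𝒜 d (v * a) = v * proj 𝒜 d a := by
  classical
  induction a using DirectSum.Decomposition.inductionOn 𝒜 with
  | zero => simp
  | @homogeneous i a =>
    have hva : v * (a : A) ∈ 𝒜 (n * d + i) := SetLike.GradedMul.mul_mem hv a.2
    rw [proj_of_mem 𝒜 d hva, proj_of_mem 𝒜 d a.2]
    have : d ∣ n * d + i ↔ d ∣ i := Nat.dvd_add_right (Dvd.intro_left n rfl)
    by_cases h : d ∣ i
    · rw [if_pos h, if_pos (this.mpr h)]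
    · rw [if_neg h, if_neg (fun h' => h (this.mp h')), mul_zero]
  | add a b ha hb => rw [mul_add, map_add, map_add, ha, hb, mul_add]

end Aux

/-- Let S be a ring graded in nonnegative degrees which is Noetherian, d > 0, and S^{(d)} the graded
ring with degree-n part S_{nd} (given as a graded ring S' with an injective algebra homomorphism φ :
S' → S carrying S'_n onto S_{nd} for every n). Then S^{(d)} is Noetherian. -/
theorem result {R A : Type u} [CommRing R] [CommRing A] [Algebra R A] (𝒜 : ℕ → Submodule R A) [GradedAlgebra 𝒜] [IsNoetherianRing A]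
    {B : Type u} [CommRing B] [Algebra R B] (ℬ : ℕ → Submodule R B) [GradedAlgebra ℬ]
    (d : ℕ) (hd : 0 < d) (φ : B →ₐ[R] A) (hφ : Function.Injective φ)
    (hdeg : ∀ n : ℕ, Submodule.map φ.toLinearMap (ℬ n) = 𝒜 (n * d)) :
    IsNoetherianRing B := by
  classical
  -- homogeneous elements of `B` map to degrees divisible by `d`
  have hφmem : ∀ n (b : B), b ∈ ℬ n → φ b ∈ 𝒜 (n * d) := by
    intro n b hb
    rw [← hdeg n]
    exact ⟨b, hb, rfl⟩
  -- `proj` is `range φ`-linear
  have hlin : ∀ (b : B) (a : A), proj 𝒜 d (φ b * a) = φ b * proj 𝒜 d a := by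
    intro b a
    induction b using DirectSum.Decomposition.inductionOn ℬ with
    | zero => simp
    | @homogeneous n b => exact proj_mul_of_mem 𝒜 d (hφmem n b b.2) a
    | add x y hx hy => rw [map_add, add_mul, map_add, hx, hy, add_mul]
  -- `proj` has values in `range φ`
  have hrange : ∀ a : A, ∃ b : B, φ b = proj 𝒜 d a := by
    intro a
    induction a using DirectSum.Decomposition.inductionOn 𝒜 with
    | zero => exact ⟨0, by simp⟩
    | @homogeneous i a =>
      rw [proj_of_mem 𝒜 d a.2]
      by_cases h : d ∣ i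
      · obtain ⟨n, rfl⟩ := h
        rw [if_pos (Dvd.intro n rfl)]
        have ha : (a : A) ∈ 𝒜 (n * d) := by
          rw [mul_comm n d]
          exact a.2
        rw [← hdeg n] at ha
        obtain ⟨b, _, hb⟩ := ha
        exact ⟨b, hb⟩
      · rw [if_neg h]
        exact ⟨0, map_zero _⟩
    | add x y hx hy =>
      obtain ⟨b1, h1⟩ := hx
      obtain ⟨b2, h2⟩ := hy
      exact ⟨b1 + b2, by rw [map_add, map_add, h1, h2]⟩
  -- `proj` fixes `range φ`
  have hfix : ∀ b : B, proj 𝒜 d (φ b) = φ b := by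
    intro b
    have h1 := hlin b 1
    have h2 : proj 𝒜 d (1 : A) = 1 := by
      have := proj_of_mem 𝒜 d (SetLike.GradedOne.one_mem (A := 𝒜))
      rw [this, if_pos (dvd_zero d)]
    rwa [mul_one, h2, mul_one] at h1
  -- contraction of extension
  have hcomap : ∀ I : Ideal B, Ideal.comap φ (Ideal.map φ I) = I := by
    intro I
    apply le_antisymm _ Ideal.le_comap_map
    intro x hx
    rw [Ideal.mem_comap] at hx
    have key : ∀ y ∈ Ideal.map φ I, ∀ a : A, ∃ b ∈ I, φ b = proj 𝒜 d (a * y) := by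
      intro y hy
      refine Submodule.span_induction ?_ ?_ ?_ ?_ hy
      · rintro _ ⟨b, hb, rfl⟩ a
        obtain ⟨c, hc⟩ := hrange a
        refine ⟨c * b, I.mul_mem_left c hb, ?_⟩
        rw [mul_comm a (φ b), hlin, map_mul, hc, mul_comm]
      · intro a
        exact ⟨0, I.zero_mem, by simp⟩
      · rintro y z _ _ hy hz a
        obtain ⟨b1, hb1, h1⟩ := hy a
        obtain ⟨b2, hb2, h2⟩ := hz a
        exact ⟨b1 + b2, I.add_mem hb1 hb2, by rw [map_add, mul_add, map_add, h1, h2]⟩
      · rintro a' y _ hy a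
        obtain ⟨b, hb, h⟩ := hy (a * a')
        exact ⟨b, hb, by rw [h, smul_eq_mul, mul_assoc]⟩
    obtain ⟨b, hb, hbx⟩ := key _ hx 1
    rw [one_mul, hfix x] at hbx
    rwa [← hφ hbx]
  have hmono : StrictMono (fun I : Ideal B => Ideal.map φ I) := by
    intro I J hIJ
    refine lt_of_le_of_ne (Ideal.map_mono hIJ.le) ?_
    intro h
    have := congrArg (Ideal.comap φ) h
    rw [hcomap, hcomap] at this
    exact hIJ.ne this
  rw [isNoetherianRing_iff, isNoetherian_iff']
  have : WellFoundedGT (Ideal A) := by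
    rw [← isNoetherian_iff']
    exact (isNoetherianRing_iff.mp inferInstance)
  exact hmono.wellFoundedGT

end Groth.Agent.S4412
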