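import Groth.Statements.S4411
import Groth.Agent.S4412
import Mathlib

set_option autoImplicit false
universe u
open EGA2

namespace Groth.Agent.S4411

/-- Let S be a ring graded in nonnegative degrees which is an S_0-algebra of finite type, d > 0, and
S^{(d)} the graded ring whose degree-n part is S_{nd} (given here as any graded ring S' with an
injective algebra homomorphism φ : S' → S carrying S'_n onto S_{nd} for every n). Then S^{(d)} is an
algebra of finite type over its degree-zero part S'_0 (which φ identifies with S_0). -/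
theorem result {R A : Type u} [CommRing R] [CommRing A] [Algebra R A] (𝒜 : ℕ → Submodule R A) [GradedAlgebra 𝒜] [Algebra.FiniteType (𝒜 0) A]
    {B : Type u} [CommRing B] [Algebra R B] (ℬ : ℕ → Submodule R B) [GradedAlgebra ℬ]
    (d : ℕ) (hd : 0 < d) (φ : B →ₐ[R] A) (hφ : Function.Injective φ)
    (hdeg : ∀ n : ℕ, Submodule.map φ.toLinearMap (ℬ n) = 𝒜 (n * d)) :
    Algebra.FiniteType (ℬ 0) B := by
  classical
  -- homogeneous elements of `B` map to degrees divisible by `d`
  have hφmem : ∀ n (b : B), b ∈ ℬ n → φ b ∈ 𝒜 (n * d) := by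
    intro n b hb
    rw [← hdeg n]
    exact ⟨b, hb, rfl⟩
  -- `proj` is `range φ`-linear
  have hlin : ∀ (b : B) (a : A), Groth.Agent.S4412.proj 𝒜 d (φ b * a) =
      φ b * Groth.Agent.S4412.proj 𝒜 d a := by
    intro b a
    induction b using DirectSum.Decomposition.inductionOn ℬ with
    | zero => simp
    | @homogeneous n b => exact Groth.Agent.S4412.proj_mul_of_mem 𝒜 d (hφmem n b b.2) a
    | add x y hx hy => rw [map_add, add_mul, map_add, hx, hy, add_mul]
  -- `proj` fixes `range φ`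
  have hfix : ∀ b : B, Groth.Agent.S4412.proj 𝒜 d (φ b) = φ b := by
    intro b
    have h1 := hlin b 1
    have h2 : Groth.Agent.S4412.proj 𝒜 d (1 : A) = 1 := by
      have := Groth.Agent.S4412.proj_of_mem 𝒜 d (SetLike.GradedOne.one_mem (A := 𝒜))
      rw [this, if_pos (dvd_zero d)]
    rwa [mul_one, h2, mul_one] at h1
  -- elements of degree divisible by `d` lift
  have hlift : ∀ n (a : A), a ∈ 𝒜 (n * d) → ∃ b ∈ ℬ n, φ b = a := by
    intro n a ha
    rw [← hdeg n] at ha
    obtain ⟨b, hb, h⟩ := ha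
    exact ⟨b, hb, h⟩
  -- `proj` has values in `range φ`
  have hrange : ∀ a : A, ∃ b : B, φ b = Groth.Agent.S4412.proj 𝒜 d a := by
    intro a
    induction a using DirectSum.Decomposition.inductionOn 𝒜 with
    | zero => exact ⟨0, by simp⟩
    | @homogeneous i a =>
      rw [Groth.Agent.S4412.proj_of_mem 𝒜 d a.2]
      by_cases h : d ∣ i
      · obtain ⟨n, rfl⟩ := h
        rw [if_pos (Dvd.intro n rfl)]
        have ha : (a : A) ∈ 𝒜 (n * d) := by
          rw [mul_comm n d]
          exact a.2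
        obtain ⟨b, _, hb⟩ := hlift n _ ha
        exact ⟨b, hb⟩
      · rw [if_neg h]
        exact ⟨0, map_zero _⟩
    | add x y hx hy =>
      obtain ⟨b1, h1⟩ := hx
      obtain ⟨b2, h2⟩ := hy
      exact ⟨b1 + b2, by rw [map_add, map_add, h1, h2]⟩
  -- homogeneous generators
  obtain ⟨s, hs, hhom⟩ := GradedAlgebra.exists_finset_adjoin_eq_top_and_homogeneous 𝒜
  choose! deg hdegmem using hhom
  -- the subalgebra generated by the d-th powers
  let C : Subalgebra (𝒜 0) A := Algebra.adjoin (𝒜 0) ((fun x => x ^ d) '' (s : Set A))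
  -- `A` is a finite `C`-module
  have hCtop : Algebra.adjoin C (s : Set A) = ⊤ := by
    rw [eq_top_iff]
    have key : ∀ a ∈ Algebra.adjoin (𝒜 0) (s : Set A), a ∈ Algebra.adjoin C (s : Set A) := by
      intro a ha
      induction ha using Algebra.adjoin_induction with
      | mem x hx => exact Algebra.subset_adjoin hx
      | algebraMap r =>
        exact Subalgebra.algebraMap_mem _
          (⟨algebraMap (𝒜 0) A r, Subalgebra.algebraMap_mem C r⟩ : C)
      | add x y _ _ hx hy => exact Subalgebra.add_mem _ hx hy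
      | mul x y _ _ hx hy => exact Subalgebra.mul_mem _ hx hy
    intro a _
    exact key a (by rw [hs]; trivial)
  have hint : ∀ x ∈ (s : Set A), IsIntegral C x := by
    intro x hx
    refine ⟨Polynomial.X ^ d - Polynomial.C (⟨x ^ d, Algebra.subset_adjoin ⟨x, hx, rfl⟩⟩ : C),
      Polynomial.monic_X_pow_sub_C (R := C) _ hd.ne', ?_⟩
    simp [Polynomial.eval₂_sub, Polynomial.eval₂_pow, Polynomial.eval₂_X, Polynomial.eval₂_C]
  have hfg : (⊤ : Submodule C A).FG := by
    have := fg_adjoin_of_finite (R := C) s.finite_toSet hint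
    rwa [hCtop, Algebra.top_toSubmodule] at this
  obtain ⟨t, ht⟩ := hfg
  -- lifts
  choose y hy using fun x : A => hrange (x ^ d)
  choose u hu using hrange
  let D : Subalgebra (ℬ 0) B :=
    Algebra.adjoin (ℬ 0) ((y '' (s : Set A)) ∪ (u '' (t : Set A)))
  -- every element of `C` lifts to `D`
  have hCD : ∀ c ∈ C, ∃ b ∈ D, φ b = c := by
    intro c hc
    induction hc using Algebra.adjoin_induction with
    | mem x hx =>
      obtain ⟨x0, hx0, rfl⟩ := hx
      refine ⟨y x0, Algebra.subset_adjoin (Or.inl ⟨x0, hx0, rfl⟩), ?_⟩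
      rw [hy x0]
      have hm : x0 ^ d ∈ 𝒜 (deg x0 * d) := by
        have := SetLike.pow_mem_graded d (hdegmem x0 hx0)
        rwa [smul_eq_mul, mul_comm] at this
      rw [Groth.Agent.S4412.proj_of_mem 𝒜 d hm, if_pos (Dvd.intro_left _ rfl)]
    | algebraMap r =>
      have hr : (r : A) ∈ 𝒜 (0 * d) := by rw [zero_mul]; exact r.2
      obtain ⟨b, hb, hbr⟩ := hlift 0 _ hr
      exact ⟨b, Subalgebra.algebraMap_mem D (⟨b, hb⟩ : ℬ 0), hbr⟩
    | add x1 x2 _ _ h1 h2 =>
      obtain ⟨b1, hb1, h1⟩ := h1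
      obtain ⟨b2, hb2, h2⟩ := h2
      exact ⟨b1 + b2, D.add_mem hb1 hb2, by rw [map_add, h1, h2]⟩
    | mul x1 x2 _ _ h1 h2 =>
      obtain ⟨b1, hb1, h1⟩ := h1
      obtain ⟨b2, hb2, h2⟩ := h2
      exact ⟨b1 * b2, D.mul_mem hb1 hb2, by rw [map_mul, h1, h2]⟩
  -- every projection lifts to `D`
  have hM : ∀ a : A, ∃ b ∈ D, φ b = Groth.Agent.S4412.proj 𝒜 d a := by
    intro a
    have ha : a ∈ Submodule.span C (t : Set A) := by rw [ht]; trivial
    induction ha using Submodule.span_induction with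
    | mem x hx =>
      exact ⟨u x, Algebra.subset_adjoin (Or.inr ⟨x, hx, rfl⟩), hu x⟩
    | zero => exact ⟨0, D.zero_mem, by simp⟩
    | add x1 x2 _ _ h1 h2 =>
      obtain ⟨b1, hb1, h1⟩ := h1
      obtain ⟨b2, hb2, h2⟩ := h2
      exact ⟨b1 + b2, D.add_mem hb1 hb2, by rw [map_add, map_add, h1, h2]⟩
    | smul c x _ hx =>
      obtain ⟨b1, hb1, h1⟩ := hx
      obtain ⟨bc, hbc, hc⟩ := hCD c c.2
      refine ⟨bc * b1, D.mul_mem hbc hb1, ?_⟩
      have hcx : c • x = (c : A) * x := rfl
      rw [hcx, ← hc, hlin, map_mul, h1]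
  refine ⟨⟨(s.image y) ∪ (t.image u), ?_⟩⟩
  rw [eq_top_iff]
  intro b _
  obtain ⟨b', hb', h⟩ := hM (φ b)
  rw [hfix] at h
  have := hφ h
  subst this
  simpa [D] using hb'

end Groth.Agent.S4411
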