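import Groth.Statements.S4414
import Groth.Agent.Lib.VeryAmpleProjH3
import Groth.Agent.Lib.H78Restrict
import Groth.Agent.Lib.H78RelAmpleComp

set_option autoImplicit false
set_option linter.style.haveILetI false
universe u
open CategoryTheory CategoryTheory.Limits AlgebraicGeometry
open EGA2

namespace Groth.Agent.S4414

/-- Let Y be a quasi-compact separated scheme possessing an ample invertible O_Y-module, and f : X → Y a
morphism. Then f is quasi-projective (of finite type with some O_X-module ample relative to f) if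
and only if f is of finite type and there are r ≥ 0 and an immersion i of X into projective r-space
over Y with i followed by the projection equal to f. -/
theorem result {X Y : Scheme.{u}} [CompactSpace Y] [Y.IsSeparated]
    (hY : ∃ M : Y.Modules, CohB1.IsAmple M) (f : X ⟶ Y) :
    RelProj.IsQuasiProjective f ↔
      (LocallyOfFiniteType f ∧ QuasiCompact f ∧
        ∃ (r : ℕ) (i : X ⟶ CohB1.ProjSpaceOver r Y), IsImmersion i ∧ i ≫ CohB1.ProjSpaceOver.toBase r Y = f) := by
  have hP : ∀ r : ℕ, CohB1.ProjSpaceOver.toBase r Y = Groth.Agent.Lib.VeryAmpleH3.sndP r Y := fun _ => rfl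
  constructor
  · rintro ⟨h1, h2, L, hL⟩
    refine ⟨h1, h2, ?_⟩
    obtain ⟨M, hM⟩ := hY
    obtain ⟨n₀, -, hn₀⟩ := Groth.Agent.Lib.H78RelAmpleComp.isAmple_tensor_pullback_pow f hM hL
    obtain ⟨r, i, hi, -, hif⟩ := (Groth.Agent.Lib.VeryAmpleProjH3.exists_qc_immersion_iff ⟨M, hM⟩ f).2
      ⟨h1, h2, _, hn₀ n₀ le_rfl⟩
    exact ⟨r, i, hi, hif⟩
  · rintro ⟨h1, h2, r, i, hi, hif⟩
    refine ⟨h1, h2, ?_⟩
    haveI : QuasiCompact (i ≫ Groth.Agent.Lib.VeryAmpleH3.sndP r Y) := by
      rw [← hP, hif]; exact h2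
    haveI : QuasiCompact i := QuasiCompact.of_comp i (Groth.Agent.Lib.VeryAmpleH3.sndP r Y)
    obtain ⟨-, -, L, hL⟩ := (Groth.Agent.Lib.VeryAmpleProjH3.exists_qc_immersion_iff hY f).1
      ⟨r, i, hi, inferInstance, hif⟩
    refine ⟨L, h2, fun V => ?_⟩
    haveI : CompactSpace ((f ⁻¹ᵁ V.1 : X.Opens) : Scheme.{u}) :=
      isCompact_iff_compactSpace.1 (h2.1 V.1.1 V.1.2 V.2.isCompact)
    exact Groth.Agent.Lib.H78Restrict.isAmple_restrict (f ⁻¹ᵁ V.1).ι hL

end Groth.Agent.S4414
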