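import Groth.Statements.S4418
import Groth.Agent.Lib.H60ProjProper
import Groth.Agent.Lib.H60RelTwistExists
import Groth.Agent.Lib.RelTwistAmple

set_option autoImplicit false
universe u
open CategoryTheory CategoryTheory.Limits AlgebraicGeometry
open EGA2

namespace Groth.Agent.S4418


theorem restrict_eq {Y P : Scheme.{u}} {𝒮 : RelProj.QCGrAlg Y} {p : P ⟶ Y}
    {chart : ∀ (U : Y.Opens) (hU : IsAffineOpen U), (((p ⁻¹ᵁ U : P.Opens) : Scheme.{u}) ≅ Proj (𝒮.deg U hU))}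
    (hP : RelProj.IsRelProj 𝒮 p chart) (U : Y.Opens) (hU : IsAffineOpen U) :
    p ∣_ U = (chart U hU).hom ≫ (Proj.toSpecZero (𝒮.deg U hU) ≫ Spec.map (𝒮.strZero U hU)) ≫
      hU.isoSpec.inv := by
  rw [← cancel_mono U.ι, morphismRestrict_ι, ← hP.chart_over U hU]
  simp only [Category.assoc, IsAffineOpen.isoSpec_inv_ι]

theorem props {Y P : Scheme.{u}} {𝒮 : RelProj.QCGrAlg Y} {p : P ⟶ Y}
    {chart : ∀ (U : Y.Opens) (hU : IsAffineOpen U), (((p ⁻¹ᵁ U : P.Opens) : Scheme.{u}) ≅ Proj (𝒮.deg U hU))}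
    (hgen : 𝒮.IsGenDegOne) (hFT : 𝒮.IsFTDeg 1)
    (hP : RelProj.IsRelProj 𝒮 p chart) : LocallyOfFiniteType p ∧ QuasiCompact p ∧ IsProper p := by
  have key : ∀ U : Y.affineOpens, LocallyOfFiniteType (p ∣_ U.1) ∧ QuasiCompact (p ∣_ U.1) ∧
      IsProper (p ∣_ U.1) := by
    intro U
    obtain ⟨T, hT, hspan⟩ := hFT U.1 U.2
    have hT' : ∀ t' ∈ T, t' ∈ 𝒮.deg U.1 U.2 1 := fun t ht => hT ht
    have h1 := Groth.Agent.Lib.ProjGenDegOne.finiteType_toSpecZero_comp (𝒜 := 𝒮.deg U.1 U.2)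
      (𝒮.strZero U.1 U.2) hT' hspan (hgen U.1 U.2)
    have h2 := Groth.Agent.Lib.H60ProjProper.isProper_toSpecZero_comp (𝒮.deg U.1 U.2)
      (𝒮.strZero U.1 U.2) T hT' hspan (hgen U.1 U.2)
    have := h1.1
    have := h1.2
    rw [restrict_eq hP U.1 U.2]
    exact ⟨inferInstance, inferInstance, inferInstance⟩
  refine ⟨?_, ?_, ?_⟩
  · rw [IsZariskiLocalAtTarget.iff_of_iSup_eq_top (P := @LocallyOfFiniteType) _ (iSup_affineOpens_eq_top Y)]
    exact fun U => (key U).1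
  · rw [IsZariskiLocalAtTarget.iff_of_iSup_eq_top (P := @QuasiCompact) _ (iSup_affineOpens_eq_top Y)]
    exact fun U => (key U).2.1
  · rw [IsZariskiLocalAtTarget.iff_of_iSup_eq_top (P := @IsProper) _ (iSup_affineOpens_eq_top Y)]
    exact fun U => (key U).2.2

theorem main {X Y : Scheme.{u}} (f : X ⟶ Y) (hf : RelProj.IsProjective f) :
    RelProj.IsQuasiProjective f ∧ IsProper f := by
  obtain ⟨𝒮, P, p, chart, e, hgen, hFT, hP, hef⟩ := hf
  obtain ⟨h1, h2, h3⟩ := props hgen hFT hP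
  obtain ⟨O1, lam1, hO1⟩ := Groth.Agent.Lib.H60RelTwistExists.exists_relTwist hP 1
  subst hef
  haveI : QuasiCompact (e.hom ≫ p) := inferInstance
  refine ⟨⟨inferInstance, inferInstance, (Scheme.Modules.pullback e.hom).obj O1, ?_⟩, inferInstance⟩
  exact Groth.Agent.Lib.RelTwistAmple.isRelAmple_pullback_of_isEmbedding (e.hom ≫ p) hgen hO1 e.hom rfl
    e.hom.isOpenEmbedding.isEmbedding

/-- Every projective morphism f : X → Y is quasi-projective (of finite type with an f-ample module) and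
proper. -/
theorem result {X Y : Scheme.{u}} (f : X ⟶ Y) (hf : RelProj.IsProjective f) :
    RelProj.IsQuasiProjective f ∧ IsProper f := by
  exact main f hf

end Groth.Agent.S4418
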