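import Groth.Statements.S4416
import Groth.Agent.Lib.ChowGen85f
import Groth.Agent.Lib.RelProjQuot85c
import Groth.Agent.S4418

set_option autoImplicit false
universe u
open CategoryTheory CategoryTheory.Limits AlgebraicGeometry
open EGA2

namespace Groth.Agent.S4416

/-- Let r : X → S be separated of finite type, and assume either S Noetherian, or S quasi-compact and
separated with X having finitely many irreducible components. Then r is proper if and only if there
are a scheme X' and a surjective morphism f : X' → X with f ≫ r projective. Moreover, when r is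
proper, f can be chosen so that in addition there is a dense open U of X with f⁻¹(U) dense in X'
over which f is an isomorphism, and with X' irreducible (resp. reduced) if X is. (The published
statement also remarks that f is then projective; that is not stated here.) -/
theorem result {X S : Scheme.{u}} (r : X ⟶ S) [IsSeparated r] [LocallyOfFiniteType r] [QuasiCompact r]
    (h : IsNoetherian S ∨ (CompactSpace S ∧ S.IsSeparated ∧ (irreducibleComponents X).Finite)) :
    (IsProper r ↔ ∃ (X' : Scheme.{u}) (f : X' ⟶ X), Surjective f ∧ RelProj.IsProjective (f ≫ r)) ∧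
    (IsProper r → ∃ (X' : Scheme.{u}) (f : X' ⟶ X), Surjective f ∧ RelProj.IsProjective (f ≫ r) ∧
        (∃ U : X.Opens, Dense (U : Set X) ∧ Dense ((f ⁻¹ᵁ U : X'.Opens) : Set X') ∧ IsIso (f ∣_ U)) ∧
        (IrreducibleSpace X → IrreducibleSpace X') ∧ (IsReduced X → IsReduced X')) := by
  obtain ⟨h1, h2, h3⟩ := Groth.Agent.Lib.ChowGen85.qcqs_of_hyp r h
  have key : IsProper r → ∃ (X' : Scheme.{u}) (f : X' ⟶ X), Surjective f ∧
      RelProj.IsProjective (f ≫ r) ∧
      (∃ U : X.Opens, Dense (U : Set X) ∧ Dense ((f ⁻¹ᵁ U : X'.Opens) : Set X') ∧ IsIso (f ∣_ U)) ∧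
      (IrreducibleSpace X → IrreducibleSpace X') ∧ (IsReduced X → IsReduced X') := by
    intro hr
    obtain ⟨X', π, -, hp, -, hs, hU, hred, hirr⟩ := Groth.Agent.Lib.ChowGen85.chow_strong r h3
    obtain ⟨n, i, hi, hcomp⟩ := hp hr
    refine ⟨X', π, hs, ?_, hU, hirr, hred⟩
    rw [← hcomp]
    exact Groth.Agent.Lib.RelProjQuot85.isProjective n i
  refine ⟨⟨fun hr => ?_, ?_⟩, key⟩
  · obtain ⟨X', f, hs, hp, -⟩ := key hr
    exact ⟨X', f, hs, hp⟩
  · rintro ⟨X', f, hs, hp⟩
    have hprop : IsProper (f ≫ r) := (Groth.Agent.S4418.result _ hp).2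
    have : UniversallyClosed r := UniversallyClosed.of_comp_surjective f r
    exact {}

end Groth.Agent.S4416
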