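import Groth.Statements.S4417
import Groth.Agent.Lib.H78Coprod
import Groth.Agent.Lib.H60TwistLocIso
import Groth.Agent.Lib.RelTwistAmple
import Groth.Agent.Lib.H90OXModExt

set_option autoImplicit false
universe u
open CategoryTheory CategoryTheory.Limits AlgebraicGeometry
open EGA2

namespace Groth.Agent.S4417


section glue

variable {A B Z : Scheme.{u}} (a : A ⟶ Z) (b : B ⟶ Z) [IsOpenImmersion a] [IsOpenImmersion b]
  (L : A.Modules) (L' : B.Modules)

/-- the module `a_* L ⊕ b_* L'` on `Z`. -/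
noncomputable def glueMod : Z.Modules :=
  (Scheme.Modules.pushforward a).obj L ⊞ (Scheme.Modules.pushforward b).obj L'

theorem fst_bijective (hdisj : a.opensRange ⊓ b.opensRange = ⊥) (V : A.Opens) :
    Function.Bijective ((biprod.fst : glueMod a b L L' ⟶ (Scheme.Modules.pushforward a).obj L).app (a ''ᵁ V)) := by
  have hbot : b ⁻¹ᵁ (a ''ᵁ V) ≤ ⊥ := by
    intro y hy
    have h1 : b y ∈ a.opensRange := by
      obtain ⟨x, -, hx⟩ := hy
      exact ⟨x, hx⟩
    have h2 : b y ∈ a.opensRange ⊓ b.opensRange := ⟨h1, ⟨y, rfl⟩⟩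
    rw [hdisj] at h2
    exact h2.elim
  haveI : Subsingleton Γ((Scheme.Modules.pushforward b).obj L', a ''ᵁ V) :=
    Groth.Agent.Lib.H90OXModExt.subsingleton_sections_of_le_bot L' hbot
  constructor
  · intro x y hxy
    have key : ∀ z : Γ(glueMod a b L L', a ''ᵁ V),
        z = (biprod.inl : (Scheme.Modules.pushforward a).obj L ⟶ glueMod a b L L').app (a ''ᵁ V)
              ((biprod.fst : glueMod a b L L' ⟶ _).app (a ''ᵁ V) z) +
            (biprod.inr : (Scheme.Modules.pushforward b).obj L' ⟶ glueMod a b L L').app (a ''ᵁ V)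
              ((biprod.snd : glueMod a b L L' ⟶ _).app (a ''ᵁ V) z) := by
      intro z
      have h := congrArg (fun φ : glueMod a b L L' ⟶ glueMod a b L L' => φ.app (a ''ᵁ V) z)
        (biprod.total (X := (Scheme.Modules.pushforward a).obj L)
          (Y := (Scheme.Modules.pushforward b).obj L'))
      simp only [Scheme.Modules.Hom.add_app, Scheme.Modules.Hom.comp_app, Scheme.Modules.Hom.id_app] at h
      exact h.symm
    rw [key x, key y, hxy,
      Subsingleton.elim ((biprod.snd : glueMod a b L L' ⟶ _).app (a ''ᵁ V) x)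
        ((biprod.snd : glueMod a b L L' ⟶ _).app (a ''ᵁ V) y)]
  · intro y
    refine ⟨(biprod.inl : (Scheme.Modules.pushforward a).obj L ⟶ glueMod a b L L').app (a ''ᵁ V) y, ?_⟩
    have h := congrArg (fun φ : (Scheme.Modules.pushforward a).obj L ⟶ _ => φ.app (a ''ᵁ V) y)
      (biprod.inl_fst (X := (Scheme.Modules.pushforward a).obj L)
        (Y := (Scheme.Modules.pushforward b).obj L'))
    simp only [Scheme.Modules.Hom.comp_app, Scheme.Modules.Hom.id_app] at h
    exact h

theorem snd_bijective (hdisj : a.opensRange ⊓ b.opensRange = ⊥) (V : B.Opens) :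
    Function.Bijective ((biprod.snd : glueMod a b L L' ⟶ (Scheme.Modules.pushforward b).obj L').app (b ''ᵁ V)) := by
  have hbot : a ⁻¹ᵁ (b ''ᵁ V) ≤ ⊥ := by
    intro y hy
    have h1 : a y ∈ b.opensRange := by
      obtain ⟨x, -, hx⟩ := hy
      exact ⟨x, hx⟩
    have h2 : a y ∈ a.opensRange ⊓ b.opensRange := ⟨⟨y, rfl⟩, h1⟩
    rw [hdisj] at h2
    exact h2.elim
  haveI : Subsingleton Γ((Scheme.Modules.pushforward a).obj L, b ''ᵁ V) :=
    Groth.Agent.Lib.H90OXModExt.subsingleton_sections_of_le_bot L hbot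
  constructor
  · intro x y hxy
    have key : ∀ z : Γ(glueMod a b L L', b ''ᵁ V),
        z = (biprod.inl : (Scheme.Modules.pushforward a).obj L ⟶ glueMod a b L L').app (b ''ᵁ V)
              ((biprod.fst : glueMod a b L L' ⟶ _).app (b ''ᵁ V) z) +
            (biprod.inr : (Scheme.Modules.pushforward b).obj L' ⟶ glueMod a b L L').app (b ''ᵁ V)
              ((biprod.snd : glueMod a b L L' ⟶ _).app (b ''ᵁ V) z) := by
      intro z
      have h := congrArg (fun φ : glueMod a b L L' ⟶ glueMod a b L L' => φ.app (b ''ᵁ V) z)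
        (biprod.total (X := (Scheme.Modules.pushforward a).obj L)
          (Y := (Scheme.Modules.pushforward b).obj L'))
      exact h.symm
    rw [key x, key y, hxy,
      Subsingleton.elim ((biprod.fst : glueMod a b L L' ⟶ _).app (b ''ᵁ V) x)
        ((biprod.fst : glueMod a b L L' ⟶ _).app (b ''ᵁ V) y)]
  · intro y
    refine ⟨(biprod.inr : (Scheme.Modules.pushforward b).obj L' ⟶ glueMod a b L L').app (b ''ᵁ V) y, ?_⟩
    have h := congrArg (fun φ : (Scheme.Modules.pushforward b).obj L' ⟶ _ => φ.app (b ''ᵁ V) y)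
      (biprod.inr_snd (X := (Scheme.Modules.pushforward a).obj L)
        (Y := (Scheme.Modules.pushforward b).obj L'))
    exact h

theorem nonempty_pullback_fst_iso (hdisj : a.opensRange ⊓ b.opensRange = ⊥) :
    Nonempty ((Scheme.Modules.pullback a).obj (glueMod a b L L') ≅ L) := by
  have h := Groth.Agent.Lib.H60TwistLocIso.isIso_homEquiv_symm a
    (biprod.fst : glueMod a b L L' ⟶ (Scheme.Modules.pushforward a).obj L)
    (fst_bijective a b L L' hdisj)
  exact ⟨@asIso _ _ _ _ _ h⟩

theorem nonempty_pullback_snd_iso (hdisj : a.opensRange ⊓ b.opensRange = ⊥) :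
    Nonempty ((Scheme.Modules.pullback b).obj (glueMod a b L L') ≅ L') := by
  have h := Groth.Agent.Lib.H60TwistLocIso.isIso_homEquiv_symm b
    (biprod.snd : glueMod a b L L' ⟶ (Scheme.Modules.pushforward b).obj L')
    (snd_bijective a b L L' hdisj)
  exact ⟨@asIso _ _ _ _ _ h⟩

end glue

theorem locallyOfFiniteType_desc {X X' Y : Scheme.{u}} (f : X ⟶ Y) (f' : X' ⟶ Y)
    [LocallyOfFiniteType f] [LocallyOfFiniteType f'] : LocallyOfFiniteType (coprod.desc f f') := by
  rw [IsZariskiLocalAtSource.iff_of_openCover (P := @LocallyOfFiniteType) (coprodOpenCover.{_, 0} X X')]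
  rintro (i | i)
  · change LocallyOfFiniteType (coprod.inl ≫ coprod.desc f f')
    rw [coprod.inl_desc]; infer_instance
  · change LocallyOfFiniteType (coprod.inr ≫ coprod.desc f f')
    rw [coprod.inr_desc]; infer_instance

theorem main {X X' Y : Scheme.{u}} (f : X ⟶ Y) (f' : X' ⟶ Y)
    (hf : RelProj.IsQuasiProjective f) (hf' : RelProj.IsQuasiProjective f') :
    RelProj.IsQuasiProjective (coprod.desc f f') := by
  obtain ⟨h1, h2, L, hL⟩ := hf
  obtain ⟨h1', h2', L', hL'⟩ := hf'
  have hdisj := (isCompl_opensRange_inl_inr X X').inf_eq_bot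
  obtain ⟨e⟩ := nonempty_pullback_fst_iso (coprod.inl : X ⟶ X ⨿ X') (coprod.inr : X' ⟶ X ⨿ X') L L' hdisj
  obtain ⟨e'⟩ := nonempty_pullback_snd_iso (coprod.inl : X ⟶ X ⨿ X') (coprod.inr : X' ⟶ X ⨿ X') L L' hdisj
  refine ⟨locallyOfFiniteType_desc f f', Groth.Agent.Lib.H78Coprod.quasiCompact_desc f f',
    glueMod (coprod.inl : X ⟶ X ⨿ X') (coprod.inr : X' ⟶ X ⨿ X') L L', ?_⟩
  rw [Groth.Agent.Lib.H78Coprod.isRelAmple_coprod_iff]
  exact ⟨Groth.Agent.Lib.RelTwistAmple.isRelAmple_of_iso e.symm hL,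
    Groth.Agent.Lib.RelTwistAmple.isRelAmple_of_iso e'.symm hL'⟩

/-- Let f : X → Y and f' : X' → Y be quasi-projective morphisms (of finite type, each admitting a
relatively ample module). Then the morphism X ⨿ X' → Y restricting to f and f' on the two summands
is quasi-projective. -/
theorem result {X X' Y : Scheme.{u}} (f : X ⟶ Y) (f' : X' ⟶ Y)
    (hf : RelProj.IsQuasiProjective f) (hf' : RelProj.IsQuasiProjective f') :
    RelProj.IsQuasiProjective (coprod.desc f f') := by
  exact main f f' hf hf'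

end Groth.Agent.S4417
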