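import Groth.Statements.S4421
import Groth.Agent.S5729
import Groth.Agent.Lib.H60BundleBC
import Groth.Agent.Lib.SupportTensor

set_option autoImplicit false
universe u
open CategoryTheory CategoryTheory.Limits AlgebraicGeometry
open EGA2

namespace Groth.Agent.S4421

/-- Let f : X → Y be a projective morphism and g : Y' → Y any morphism. Then the base change X ×_Y Y' →
Y' of f is projective. -/
theorem result {X Y Y' : Scheme.{u}} (f : X ⟶ Y) (hf : RelProj.IsProjective f) (g : Y' ⟶ Y) :
    RelProj.IsProjective (pullback.snd f g) := by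
  obtain ⟨E, 𝒯, j, P, p, chart, i, hE, hFT, hj, hP, hi, rfl⟩ := (Groth.Agent.S5729.result f).mp hf
  obtain ⟨O1, lam, hO1⟩ := Groth.Agent.Lib.H60RelTwistExists.exists_relTwist hP 1
  obtain ⟨hE', 𝒯', j', hj', P', p', chart', hP', O1', lam', hO1', h, hpb, -⟩ :=
    Groth.Agent.Lib.H60BundleBC.exists_baseChange g E hE 𝒯 j hj p chart hP O1 lam hO1
  haveI : E.IsFiniteType := hFT
  have hFT' : CohB1.IsFT ((Scheme.Modules.pullback g).obj E) :=
    Groth.Agent.Lib.SupportTensor.isFiniteType_pullback g E
  let i' : pullback (i ≫ p) g ⟶ P' :=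
    hpb.lift (pullback.fst _ _ ≫ i) (pullback.snd _ _) (by rw [Category.assoc, pullback.condition])
  have h1 : i' ≫ h = pullback.fst _ _ ≫ i := hpb.lift_fst _ _ _
  have h2 : i' ≫ p' = pullback.snd _ _ := hpb.lift_snd _ _ _
  have hbig : IsPullback (pullback.fst (i ≫ p) g) (i' ≫ p') (i ≫ p) g := by
    rw [h2]
    exact IsPullback.of_hasPullback _ _
  have hsq : IsPullback (pullback.fst (i ≫ p) g) i' i h := IsPullback.of_bot hbig h1.symm hpb
  haveI : IsClosedImmersion i' := MorphismProperty.of_isPullback (P := @IsClosedImmersion) hsq hi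
  exact (Groth.Agent.S5729.result _).mpr
    ⟨_, 𝒯', j', P', p', chart', i', hE', hFT', hj', hP', inferInstance, h2⟩

end Groth.Agent.S4421
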