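import Groth.Statements.S4423
import Groth.Agent.S4421
import Groth.Agent.Lib.RelProjClosed

set_option autoImplicit false
universe u
open CategoryTheory CategoryTheory.Limits AlgebraicGeometry
open EGA2

namespace Groth.Agent.S4423

/-- Let f : X → Y and g : Y → Z be morphisms with f ≫ g projective and g separated. Then f is
projective. -/
theorem result {X Y Z : Scheme.{u}} (f : X ⟶ Y) (g : Y ⟶ Z) [IsSeparated g]
    (h : RelProj.IsProjective (f ≫ g)) : RelProj.IsProjective f := by
  have hsnd : RelProj.IsProjective (pullback.snd (f ≫ g) g) := Groth.Agent.S4421.result (f ≫ g) h g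
  have hpb := pullback_lift_diagonal_isPullback f g
  have hγ : (𝟙 X) ≫ (f ≫ g) = f ≫ g := Category.id_comp _
  haveI : IsClosedImmersion (pullback.lift (𝟙 X) f hγ : X ⟶ pullback (f ≫ g) g) :=
    MorphismProperty.of_isPullback (P := @IsClosedImmersion) hpb inferInstance
  have := Groth.Agent.Lib.RelProjClosed.isProjective_comp (pullback.snd (f ≫ g) g) hsnd
    (pullback.lift (𝟙 X) f hγ)
  rwa [pullback.lift_snd] at this

end Groth.Agent.S4423
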