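import Groth.Statements.S4429
import Mathlib.LinearAlgebra.Charpoly.BaseChange
import Mathlib.LinearAlgebra.Eigenspace.Charpoly
import Mathlib.LinearAlgebra.Eigenspace.Minpoly
import Mathlib.RingTheory.IntegralClosure.Algebra.Basic
import Mathlib.RingTheory.IntegralClosure.IsIntegralClosure.Basic
import Mathlib.FieldTheory.SplittingField.Construction
import Mathlib.Algebra.Polynomial.Splits

set_option autoImplicit false
universe u
open EGA2

namespace Groth.Agent.S4429

open Polynomial in
/-- General form: `R` a commutative ring, `K` a field which is an `R`-algebra, `E` a finite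
`R`-module, `u` an endomorphism of `E`.  The coefficients of the characteristic polynomial of
`u ⊗ K` are integral over `R`. -/
theorem charpoly_coeff_isIntegral (R : Type*) [CommRing R] (K : Type*) [Field K] [Algebra R K]
    (E : Type*) [AddCommGroup E] [Module R E] [Module.Finite R E] (u : E →ₗ[R] E) (i : ℕ) :
    IsIntegral R (((u.baseChange K).charpoly).coeff i) := by
  classical
  obtain ⟨p, hp_monic, hp⟩ := (Algebra.IsIntegral.isIntegral (R := R) (A := Module.End R E) u)
  set q := (u.baseChange K).charpoly with hq
  have hq_monic : q.Monic := LinearMap.charpoly_monic _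
  let L := q.SplittingField
  -- the endomorphism over `L`
  let w : Module.End L (TensorProduct K L (TensorProduct R K E)) := (u.baseChange K).baseChange L
  have hw_charpoly : w.charpoly = q.map (algebraMap K L) := LinearMap.charpoly_baseChange _ _
  -- `p` kills `w`
  have hpw : Polynomial.aeval w (p.map (algebraMap R L)) = 0 := by
    have h1 : Polynomial.aeval (u.baseChange K) p = 0 := by
      have := congrArg (Module.End.baseChangeHom R K E) hp
      rw [← Polynomial.aeval_def, ← Polynomial.aeval_algHom_apply, map_zero] at this
      exact this
    have h2 : Polynomial.aeval w (p.map (algebraMap R K)) = 0 := by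
      have := congrArg (Module.End.baseChangeHom K L (TensorProduct R K E))
        ((Polynomial.aeval_map_algebraMap K (u.baseChange K) p).trans h1)
      rw [← Polynomial.aeval_algHom_apply, map_zero] at this
      exact this
    rw [IsScalarTower.algebraMap_eq R K L, ← Polynomial.map_map, Polynomial.aeval_map_algebraMap]
    exact h2
  have hroots : ∀ a ∈ (q.map (algebraMap K L)).roots,
      a ∈ (algebraMap (integralClosure R L) L).range := by
    intro a ha
    rw [Subalgebra.algebraMap_eq, RingHom.mem_range]
    suffices h : IsIntegral R a from ⟨⟨a, h⟩, rfl⟩
    have hroot : (q.map (algebraMap K L)).IsRoot a := (Polynomial.mem_roots'.mp ha).2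
    rw [← hw_charpoly, ← Module.End.hasEigenvalue_iff_isRoot_charpoly] at hroot
    obtain ⟨v, hv⟩ := hroot.exists_hasEigenvector
    have h3 := Module.End.aeval_apply_of_hasEigenvector (p := p.map (algebraMap R L)) hv
    rw [hpw, LinearMap.zero_apply] at h3
    have h4 : (p.map (algebraMap R L)).eval a = 0 := by
      rcases smul_eq_zero.mp h3.symm with h | h
      · exact h
      · exact absurd h hv.2
    refine ⟨p, hp_monic, ?_⟩
    rwa [Polynomial.eval_map] at h4
  have hlift := (SplittingField.splits q).mem_lift_of_roots_mem_range (hq_monic.map _)
    (algebraMap (integralClosure R L) L) hroots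
  rw [Polynomial.lifts_iff_coeff_lifts] at hlift
  obtain ⟨c, hc⟩ := hlift i
  rw [Polynomial.coeff_map] at hc
  have hint : IsIntegral R (algebraMap K L (q.coeff i)) := by
    rw [← hc]; exact c.2
  exact (isIntegral_algebraMap_iff (algebraMap K L).injective).mp hint

/-- For an integral domain A with fraction field K, a finitely generated A-module E and an endomorphism
u of E, the coefficients of the characteristic polynomial of u ⊗ 1 acting on the K-vector space K
⊗_A E (the elementary symmetric functions of u, among them its trace and determinant) are integral
over A. -/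
theorem result (A : Type u) [CommRing A] [IsDomain A] (K : Type u) [Field K]
    [Algebra A K] [IsFractionRing A K] (E : Type u) [AddCommGroup E] [Module A E] [Module.Finite A E]
    (u : E →ₗ[A] E) (i : ℕ) :
    IsIntegral A (((u.baseChange K).charpoly).coeff i) :=
  charpoly_coeff_isIntegral A K E u i

end Groth.Agent.S4429
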