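import Groth.Statements.S4430
import Groth.Agent.S4429
import Mathlib.LinearAlgebra.Determinant

set_option autoImplicit false
universe u
open EGA2

namespace Groth.Agent.S4430

/-- Let A be an integral domain with fraction field K, E a finitely generated A-module and u an
endomorphism of E whose characteristic-polynomial coefficients (those of u ⊗ 1 on K ⊗_A E) all lie
in A. If u is an automorphism of E, then its determinant, as an element of A, is invertible in A. -/
theorem result (A : Type u) [CommRing A] [IsDomain A] (K : Type u) [Field K]
    [Algebra A K] [IsFractionRing A K] (E : Type u) [AddCommGroup E] [Module A E] [Module.Finite A E]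
    (u : E →ₗ[A] E) (hcoeff : ∀ i : ℕ, ((u.baseChange K).charpoly).coeff i ∈ (algebraMap A K).range)
    (a : A) (ha : algebraMap A K a = LinearMap.det (u.baseChange K)) (hu : Function.Bijective u) :
    IsUnit a := by
  -- the inverse endomorphism
  let e : E ≃ₗ[A] E := LinearEquiv.ofBijective u hu
  let v : E →ₗ[A] E := e.symm.toLinearMap
  have huv : u ∘ₗ v = LinearMap.id := by
    ext x; simp [v, e]
  have hdet : LinearMap.det (u.baseChange K) * LinearMap.det (v.baseChange K) = 1 := by
    rw [← LinearMap.det_comp, ← LinearMap.baseChange_comp, huv, LinearMap.baseChange_id,
      LinearMap.det_id]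
  -- the determinant of `v ⊗ K` is integral over `A`
  have hint : IsIntegral A (LinearMap.det (v.baseChange K)) := by
    rw [LinearMap.det_eq_sign_charpoly_coeff]
    refine IsIntegral.mul ?_ (Groth.Agent.S4429.charpoly_coeff_isIntegral A K E v 0)
    exact IsIntegral.pow (IsIntegral.neg isIntegral_one) _
  -- so `a` is a unit in the integral closure of `A` in `K`, hence in `A`
  let f : A →+* integralClosure A K := algebraMap A (integralClosure A K)
  have hf_int : f.IsIntegral := algebraMap_isIntegral_iff.mpr inferInstance
  have hf_inj : Function.Injective f := by
    intro x y hxy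
    apply IsFractionRing.injective A K
    exact congrArg (fun z : integralClosure A K => (z : K)) hxy
  have hloc : IsLocalHom f := hf_int.isLocalHom hf_inj
  have hunit : IsUnit (f a) := by
    refine IsUnit.of_mul_eq_one ⟨LinearMap.det (v.baseChange K), hint⟩ ?_
    apply Subtype.ext
    change algebraMap A K a * LinearMap.det (v.baseChange K) = 1
    rw [ha]; exact hdet
  exact hloc.map_nonunit a hunit

end Groth.Agent.S4430
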