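import Groth.Statements.S4431
import Mathlib.LinearAlgebra.Charpoly.BaseChange
import Mathlib.LinearAlgebra.Determinant
import Mathlib.RingTheory.Localization.BaseChange
import Mathlib.Algebra.Polynomial.Lifts

set_option autoImplicit false
universe u
open EGA2

namespace Groth.Agent.S4431

/-- Let A be an integral domain with fraction field K, E a finitely generated torsion-free A-module and
u an endomorphism of E whose characteristic-polynomial coefficients (those of u ⊗ 1 on K ⊗_A E) all
lie in A. If the determinant of u is the image of a unit of A, then u is an automorphism of E. -/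
theorem result (A : Type u) [CommRing A] [IsDomain A] (K : Type u) [Field K]
    [Algebra A K] [IsFractionRing A K] (E : Type u) [AddCommGroup E] [Module A E] [Module.Finite A E]
    [Module.IsTorsionFree A E]
    (u : E →ₗ[A] E) (hcoeff : ∀ i : ℕ, ((u.baseChange K).charpoly).coeff i ∈ (algebraMap A K).range)
    (a : A) (ha : algebraMap A K a = LinearMap.det (u.baseChange K)) (hunit : IsUnit a) :
    Function.Bijective u := by
  classical
  set q := (u.baseChange K).charpoly with hq
  -- lift the characteristic polynomial to `A[X]`
  have hlift : q ∈ Polynomial.lifts (algebraMap A K) := by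
    rw [Polynomial.lifts_iff_coeff_lifts]
    intro n
    obtain ⟨c, hc⟩ := hcoeff n
    exact ⟨c, hc⟩
  obtain ⟨χ, hχ'⟩ := hlift
  have hχ : χ.map (algebraMap A K) = q := hχ'
  -- `E → K ⊗ E` is injective
  have hinj : Function.Injective (TensorProduct.mk A K E 1) := by
    rw [injective_iff_map_eq_zero]
    intro x hx
    rw [IsLocalizedModule.eq_zero_iff (nonZeroDivisors A)] at hx
    obtain ⟨s, hs⟩ := hx
    have hs0 : (s : A) ≠ 0 := nonZeroDivisors.ne_zero s.2
    exact (smul_eq_zero.mp hs).resolve_left hs0
  -- Cayley-Hamilton descends to `E`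
  have hCH : Polynomial.aeval u χ = 0 := by
    have h1 : Polynomial.aeval (u.baseChange K) q = 0 := LinearMap.aeval_self_charpoly _
    rw [← hχ, Polynomial.aeval_map_algebraMap] at h1
    have h2 : (Polynomial.aeval u χ).baseChange K = 0 := by
      have := Polynomial.aeval_algHom_apply (Module.End.baseChangeHom A K E) u χ
      rw [← h1]
      exact this.symm
    ext x
    apply hinj
    have := LinearMap.congr_fun h2 ((1 : K) ⊗ₜ[A] x)
    simpa using this
  -- the constant coefficient is a unit
  have hc0 : IsUnit (χ.coeff 0) := by
    have h1 : algebraMap A K (χ.coeff 0) = q.coeff 0 := by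
      rw [← hχ, Polynomial.coeff_map]
    have h2 : algebraMap A K a = (-1) ^ Module.finrank K (TensorProduct A K E) * q.coeff 0 := by
      rw [ha, LinearMap.det_eq_sign_charpoly_coeff]
    have h3 : χ.coeff 0 = (-1) ^ Module.finrank K (TensorProduct A K E) * a := by
      apply IsFractionRing.injective A K
      rw [map_mul, map_pow, map_neg, map_one, h2, h1, ← mul_assoc, ← mul_pow]
      simp
    rw [h3]
    exact (IsUnit.pow _ isUnit_one.neg).mul hunit
  -- `χ = divX χ * X + C (χ.coeff 0)`
  set w : Module.End A E := Polynomial.aeval u χ.divX with hw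
  have hdecomp : w * u + algebraMap A (Module.End A E) (χ.coeff 0) = 0 := by
    have := congrArg (Polynomial.aeval u) (Polynomial.divX_mul_X_add χ)
    rw [map_add, map_mul, Polynomial.aeval_X, Polynomial.aeval_C, hCH] at this
    exact this
  have hcomm : w * u = u * w := by
    have : Commute (Polynomial.aeval u χ.divX) (Polynomial.aeval u Polynomial.X) :=
      (Commute.all χ.divX Polynomial.X).map (Polynomial.aeval u)
    rw [Polynomial.aeval_X] at this
    exact this.eq
  obtain ⟨c, hc⟩ := hc0
  have hwu : ∀ x, w (u x) = -(χ.coeff 0) • x := by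
    intro x
    have := LinearMap.congr_fun hdecomp x
    simp only [LinearMap.add_apply, Module.End.mul_apply, Module.algebraMap_end_apply,
      LinearMap.zero_apply] at this
    rw [neg_smul]
    exact eq_neg_of_add_eq_zero_left this
  have huw : ∀ x, u (w x) = -(χ.coeff 0) • x := by
    intro x
    rw [← hwu x]
    exact (LinearMap.congr_fun hcomm x).symm
  constructor
  · rw [injective_iff_map_eq_zero]
    intro x hx
    have := hwu x
    rw [hx, map_zero] at this
    have h0 : (χ.coeff 0) • x = 0 := by
      rw [neg_smul] at this
      exact neg_eq_zero.mp this.symm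
    rw [← hc] at h0
    have := congrArg (fun y => (↑c⁻¹ : A) • y) h0
    simpa [smul_smul] using this
  · intro y
    refine ⟨w (-(↑c⁻¹ : A) • y), ?_⟩
    rw [huw, ← hc, smul_smul]
    simp

end Groth.Agent.S4431
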