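import Groth.Statements.S4433
import Groth.Agent.Lib.DvrDominating
import Mathlib.FieldTheory.IntermediateField.Adjoin.Algebra

set_option autoImplicit false
universe u
open EGA2

namespace Groth.Agent.S4433

/-- Let A be a Noetherian local domain that is not a field, K its field of fractions and L a finitely
generated field extension of K. Then there is a discrete valuation subring of L, with fraction field
L, which contains the image of A and dominates A (elements of the maximal ideal of A have valuation
less than one). -/
theorem result (A : Type u) [CommRing A] [IsDomain A] [IsNoetherianRing A]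
    [IsLocalRing A] (hA : ¬ IsField A) (K : Type u) [Field K] [Algebra A K] [IsFractionRing A K]
    (L : Type u) [Field L] [Algebra K L] [Algebra A L] [IsScalarTower A K L] (hfg : (⊤ : IntermediateField K L).FG) :
    ∃ R : ValuationSubring L, IsDiscreteValuationRing R ∧ (∀ a : A, algebraMap A L a ∈ R) ∧
      ∀ a ∈ IsLocalRing.maximalIdeal A, R.valuation (algebraMap A L a) < 1 := by
  have h1 : Algebra.EssFiniteType K L := IntermediateField.fg_top_iff.mp hfg
  have h2 : Algebra.EssFiniteType A K := Algebra.EssFiniteType.of_isLocalization K (nonZeroDivisors A)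
  have h3 : Algebra.EssFiniteType A L := Algebra.EssFiniteType.comp A K L
  have hinj : Function.Injective (algebraMap A L) := by
    rw [IsScalarTower.algebraMap_eq A K L]
    exact (algebraMap K L).injective.comp (IsFractionRing.injective A K)
  have hR : ∃ t ∈ IsLocalRing.maximalIdeal A, algebraMap A L t ≠ 0 := by
    have hm : IsLocalRing.maximalIdeal A ≠ ⊥ := by
      intro h
      exact hA (IsLocalRing.isField_iff_maximalIdeal_eq.mpr h)
    obtain ⟨t, ht, ht0⟩ := Submodule.exists_mem_ne_zero_of_ne_bot hm
    exact ⟨t, ht, fun h => ht0 (hinj (by rw [h, map_zero]))⟩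
  obtain ⟨V, hV, hmem, hloc⟩ := Groth.Agent.Lib.DvrDominating.exists_dvr_dominating A L hR
  refine ⟨V, hV, hmem, fun a ha => ?_⟩
  have hnu : ¬ IsUnit ((algebraMap A L).codRestrict V.toSubring hmem a) := fun hu =>
    (IsLocalRing.mem_maximalIdeal a).mp ha (hloc.map_nonunit a hu)
  have hmax : (algebraMap A L).codRestrict V.toSubring hmem a ∈ IsLocalRing.maximalIdeal V :=
    (IsLocalRing.mem_maximalIdeal _).mpr hnu
  exact (V.valuation_lt_one_iff _).mp hmax

end Groth.Agent.S4433
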