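import Groth.Statements.S4434
import Groth.Agent.Lib.DvrDominating
import Mathlib.FieldTheory.IntermediateField.Adjoin.Algebra

set_option autoImplicit false
universe u
open EGA2

namespace Groth.Agent.S4434

open Polynomial Algebra IsLocalRing in
theorem exists_dvr_not_mem (A : Type u) [CommRing A] [IsDomain A] [IsNoetherianRing A]
    (L : Type u) [Field L] [Algebra A L] [Algebra.EssFiniteType A L] (x : L)
    (hx : ¬ IsIntegral A x) :
    ∃ R : ValuationSubring L, IsDiscreteValuationRing R ∧ (∀ a : A, algebraMap A L a ∈ R) ∧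
      x ∉ R := by
  have hx0 : x ≠ 0 := fun h => hx (h ▸ isIntegral_zero)
  have hxi0 : x⁻¹ ≠ 0 := inv_ne_zero hx0
  let _ := invertibleOfNonzero hxi0
  let B : Subalgebra A L := Algebra.adjoin A {x⁻¹}
  let xinv : B := ⟨x⁻¹, subset_adjoin rfl⟩
  have hspan : Ideal.span {xinv} ≠ ⊤ := fun eq ↦ hx <| by
    have ⟨p, hp, hpx⟩ := exists_aeval_invOf_eq_zero_of_idealMap_adjoin_sup_span_eq_top x⁻¹
      (⊥ : Ideal A) bot_ne_top (top_unique <| eq.ge.trans le_sup_right)
    exact ⟨p, by simpa [Monic, sub_eq_zero] using hp, by simpa [aeval_def] using hpx⟩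
  obtain ⟨m, hm, hle⟩ := Ideal.exists_le_maximal _ hspan
  have hxm : xinv ∈ m := hle (Ideal.subset_span rfl)
  have hBfg : B.FG := by
    have := Subalgebra.fg_adjoin_finset (R := A) ({x⁻¹} : Finset L)
    simpa using this
  have hft : Algebra.FiniteType A B := (Subalgebra.fg_iff_finiteType B).mp hBfg
  have hBn : IsNoetherianRing B := Algebra.FiniteType.isNoetherianRing A B
  let m' : Ideal B.toSubring := m
  have hm'p : m'.IsPrime := hm.isPrime
  let R' : LocalSubring L := LocalSubring.ofPrime B.toSubring m'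
  have hBR' : B.toSubring ≤ R'.toSubring := LocalSubring.le_ofPrime B.toSubring m'
  have hBn' : IsNoetherianRing B.toSubring := hBn
  have hR'n : IsNoetherianRing R'.toSubring :=
    IsLocalization.isNoetherianRing m'.primeCompl R'.toSubring hBn'
  have hAR' : ∀ a : A, algebraMap A L a ∈ R'.toSubring := fun a => hBR' (B.algebraMap_mem a)
  let _ : Algebra A R'.toSubring := ((algebraMap A L).codRestrict R'.toSubring hAR').toAlgebra
  have : IsScalarTower A R'.toSubring L := IsScalarTower.of_algebraMap_eq (fun _ => rfl)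
  have hess : Algebra.EssFiniteType R'.toSubring L := Algebra.EssFiniteType.of_comp A R'.toSubring L
  have hxR' : x⁻¹ ∈ R'.toSubring := hBR' xinv.2
  have hxmax : (⟨x⁻¹, hxR'⟩ : R'.toSubring) ∈ maximalIdeal R'.toSubring :=
    (IsLocalization.AtPrime.to_map_mem_maximal_iff R'.toSubring m' xinv).mpr hxm
  obtain ⟨V, hdvr, hmem, hloc⟩ := Groth.Agent.Lib.DvrDominating.exists_dvr_dominating
    R'.toSubring L ⟨⟨x⁻¹, hxR'⟩, hxmax, hxi0⟩
  refine ⟨V, hdvr, fun a => hmem ⟨algebraMap A L a, hAR' a⟩, fun hxV => ?_⟩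
  have hu : IsUnit ((algebraMap R'.toSubring L).codRestrict V.toSubring hmem ⟨x⁻¹, hxR'⟩) := by
    refine IsUnit.of_mul_eq_one ⟨x, hxV⟩ ?_
    apply Subtype.ext
    show x⁻¹ * x = 1
    exact inv_mul_cancel₀ hx0
  exact hxmax (hloc.map_nonunit _ hu)

theorem result (A : Type u) [CommRing A] [IsDomain A] [IsNoetherianRing A]
    (K : Type u) [Field K] [Algebra A K] [IsFractionRing A K]
    (L : Type u) [Field L] [Algebra K L] [Algebra A L] [IsScalarTower A K L] (hfg : (⊤ : IntermediateField K L).FG) (x : L) :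
    IsIntegral A x ↔ ∀ R : ValuationSubring L, IsDiscreteValuationRing R → (∀ a : A, algebraMap A L a ∈ R) → x ∈ R := by
  constructor
  · intro hx R hR hA
    let _ : Algebra A R := ((algebraMap A L).codRestrict R.toSubring hA).toAlgebra
    have : IsScalarTower A R L := IsScalarTower.of_algebraMap_eq (fun _ => rfl)
    have h1 : IsIntegral R x := hx.tower_top
    obtain ⟨y, hy⟩ := (IsIntegrallyClosed.isIntegral_iff (R := R) (K := L)).mp h1
    rw [← hy]
    exact y.2
  · intro h
    by_contra hx
    have h1 : Algebra.EssFiniteType K L := IntermediateField.fg_top_iff.mp hfg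
    have h2 : Algebra.EssFiniteType A K := Algebra.EssFiniteType.of_isLocalization K (nonZeroDivisors A)
    have h3 : Algebra.EssFiniteType A L := Algebra.EssFiniteType.comp A K L
    obtain ⟨R, hR, hA, hxR⟩ := exists_dvr_not_mem A L x hx
    exact hxR (h R hR hA)

end Groth.Agent.S4434
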