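import Groth.Statements.S4435
import Mathlib

set_option autoImplicit false
universe u
open CategoryTheory CategoryTheory.Limits AlgebraicGeometry
open EGA2

namespace Groth.Agent.S4435

open TopologicalSpace Opposite
open scoped nonZeroDivisors


lemma alg_core (A B K L : Type*) [CommRing A] [CommRing B] [CommRing K] [CommRing L]
    [IsDomain A] [IsDomain B] [Nontrivial L]
    [Algebra A B] [Algebra A K] [Algebra B L] [Algebra K L] [Algebra A L]
    [IsScalarTower A B L] [IsScalarTower A K L]
    [IsFractionRing A K] [IsFractionRing B L] :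
    (Algebra.IsIntegral A B → (algebraMap K L).IsIntegral) ∧
      (Module.Finite A B → Module.Finite K L) := by
  have hinj : Function.Injective (algebraMap A B) := by
    rw [injective_iff_map_eq_zero]
    intro a ha
    by_contra ha0
    have hu : IsUnit (algebraMap A K a) :=
      IsLocalization.map_units K (⟨a, mem_nonZeroDivisors_of_ne_zero ha0⟩ : A⁰)
    have hu' : IsUnit (algebraMap K L (algebraMap A K a)) := hu.map _
    rw [← IsScalarTower.algebraMap_apply A K L, IsScalarTower.algebraMap_apply A B L, ha,
      map_zero] at hu'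
    exact not_isUnit_zero hu'
  haveI : FaithfulSMul A B := (faithfulSMul_iff_algebraMap_injective A B).mpr hinj
  have key : Algebra.IsIntegral A B → IsLocalization (Algebra.algebraMapSubmonoid B A⁰) L := by
    intro h
    haveI : Algebra.IsAlgebraic A B := inferInstance
    infer_instance
  constructor
  · intro h
    haveI := key h
    have h1 := isIntegral_localization (R := A) (S := B) (M := A⁰) (Rₘ := K) (Sₘ := L)
    have h2 : (IsLocalization.map L (algebraMap A B)
        (show A⁰ ≤ (Algebra.algebraMapSubmonoid B A⁰).comap _ from A⁰.le_comap_map) : K →+* L) =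
        algebraMap K L := by
      apply IsLocalization.ringHom_ext A⁰
      rw [IsLocalization.map_comp, ← IsScalarTower.algebraMap_eq, ← IsScalarTower.algebraMap_eq]
    rw [← h2]
    exact h1
  · intro h
    haveI := key (Algebra.IsIntegral.of_finite A B)
    exact Module.Finite.of_isLocalization A B A⁰

lemma isFractionRing_stalk_of_eq_genericPoint {S : Scheme.{u}} [IsIntegral S] (V : S.Opens)
    (hV : IsAffineOpen V) (y : S) (hy : y = genericPoint S) (hyV : y ∈ V) :
    @IsFractionRing Γ(S, V) _ (S.presheaf.stalk y) _ ((S.presheaf.germ V y hyV).hom.toAlgebra) := by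
  subst hy
  haveI : Nonempty V := ⟨⟨_, hyV⟩⟩
  exact functionField_isFractionRing_of_isAffineOpen S V hV

lemma geom_core {X S : Scheme.{u}} [IsIntegral X] [IsIntegral S] (f : X ⟶ S)
    (hη : f.base (genericPoint X) = genericPoint S) (V : S.Opens) (hV : IsAffineOpen V)
    (hξV : f.base (genericPoint X) ∈ V) (hU : IsAffineOpen (f ⁻¹ᵁ V)) :
    ((f.app V).hom.IsIntegral → (f.stalkMap (genericPoint X)).hom.IsIntegral) ∧
    ((f.app V).hom.Finite → (f.stalkMap (genericPoint X)).hom.Finite) := by
  letI : Algebra Γ(S, V) Γ(X, f ⁻¹ᵁ V) := (f.app V).hom.toAlgebra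
  letI : Algebra Γ(S, V) (S.presheaf.stalk (f.base (genericPoint X))) :=
    (S.presheaf.germ V _ hξV).hom.toAlgebra
  letI : Algebra Γ(X, f ⁻¹ᵁ V) (X.presheaf.stalk (genericPoint X)) :=
    (X.presheaf.germ (f ⁻¹ᵁ V) _ hξV).hom.toAlgebra
  letI : Algebra (S.presheaf.stalk (f.base (genericPoint X))) (X.presheaf.stalk (genericPoint X)) :=
    (f.stalkMap (genericPoint X)).hom.toAlgebra
  letI : Algebra Γ(S, V) (X.presheaf.stalk (genericPoint X)) :=
    ((algebraMap Γ(X, f ⁻¹ᵁ V) (X.presheaf.stalk (genericPoint X))).comp
      (algebraMap Γ(S, V) Γ(X, f ⁻¹ᵁ V))).toAlgebra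
  haveI : IsScalarTower Γ(S, V) Γ(X, f ⁻¹ᵁ V) (X.presheaf.stalk (genericPoint X)) :=
    IsScalarTower.of_algebraMap_eq (fun _ => rfl)
  haveI : IsScalarTower Γ(S, V) (S.presheaf.stalk (f.base (genericPoint X)))
      (X.presheaf.stalk (genericPoint X)) :=
    IsScalarTower.of_algebraMap_eq (fun a =>
      (Scheme.Hom.germ_stalkMap_apply f V (genericPoint X) hξV a).symm)
  haveI : Nonempty (f ⁻¹ᵁ V) := ⟨⟨genericPoint X, hξV⟩⟩
  haveI : Nonempty V := ⟨⟨_, hξV⟩⟩
  haveI : IsFractionRing Γ(X, f ⁻¹ᵁ V) (X.presheaf.stalk (genericPoint X)) :=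
    functionField_isFractionRing_of_isAffineOpen X _ hU
  haveI : IsFractionRing Γ(S, V) (S.presheaf.stalk (f.base (genericPoint X))) :=
    isFractionRing_stalk_of_eq_genericPoint V hV _ hη hξV
  have := alg_core Γ(S, V) Γ(X, f ⁻¹ᵁ V) (S.presheaf.stalk (f.base (genericPoint X)))
    (X.presheaf.stalk (genericPoint X))
  exact ⟨fun h => this.1 ⟨h⟩, fun h => this.2 h⟩

/-- Let X, S be integral schemes and f : X ⟶ S a dominant morphism. If f is integral, the field of
rational functions of X is algebraic over that of S; if f is finite, it is a finite extension. Here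
the extension is given by the stalk map of f at the generic point of X, whose source is the local
ring of S at the generic point of S (f being dominant), i.e. the function field of S. -/
theorem result {X S : Scheme.{u}} [IsIntegral X] [IsIntegral S]
    (f : X ⟶ S) [IsDominant f] :
    (IsIntegralHom f → (f.stalkMap (genericPoint X)).hom.IsIntegral) ∧
      (IsFinite f → (f.stalkMap (genericPoint X)).hom.Finite) := by
  have hη : f.base (genericPoint X) = genericPoint S := by
    have h1 := (genericPoint_spec X).image f.continuous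
    have h2 : closure (f.base '' (Set.univ : Set X)) = Set.univ := by
      rw [Set.image_univ]
      exact f.denseRange.closure_range
    rw [h2] at h1
    exact h1.eq (genericPoint_spec S)
  obtain ⟨_, ⟨V, hV, rfl⟩, hξV, -⟩ := S.isBasis_affineOpens.exists_subset_of_mem_open
    (Set.mem_univ (f.base (genericPoint X))) isOpen_univ
  constructor
  · intro hf
    exact (geom_core f hη V hV hξV (hV.preimage f)).1 (hf.isIntegral_app V hV)
  · intro hf
    exact (geom_core f hη V hV hξV (hV.preimage f)).2 (hf.finite_app V hV)

end Groth.Agent.S4435
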