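import Groth.Statements.S4438
import Groth.Agent.Lib.NormRestrictH3
import Groth.Agent.Lib.NormExistsH3
import Groth.Agent.Lib.H78PullAmple3
import Groth.Agent.Lib.H90InvertiblePullback

set_option autoImplicit false
universe u
open CategoryTheory CategoryTheory.Limits AlgebraicGeometry
open EGA2

namespace Groth.Agent.S4438

/-- In existence form: let f : X ⟶ Y be a quasi-compact morphism and g : X' ⟶ X a finite surjective
morphism such that the direct image of O_{X'} is a finite locally free O_X-module. Then there is an
invertible O_X-module ample relative to f if and only if there is an invertible O_{X'}-module ample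
relative to f ∘ g. (For the descent direction the published statement names the module on X, the
norm of the given one; this row asserts existence only. The other direction is the inverse image
along the affine morphism g.) -/
theorem result {X X' Y : Scheme.{u}} (f : X ⟶ Y) [QuasiCompact f]
    (g : X' ⟶ X) [IsFinite g] [Surjective g]
    (hfree : FlatMod.IsFinLocFree ((Coh.push g).obj (Coh.structureModule X'))) :
    (∃ L : X.Modules, PicF.IsInvertible L ∧ RelAmple.IsRelAmple f L) ↔
      ∃ L' : X'.Modules, PicF.IsInvertible L' ∧ RelAmple.IsRelAmple (g ≫ f) L' := by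
  constructor
  · rintro ⟨L, hL, hLamp⟩
    refine ⟨(Scheme.Modules.pullback g).obj L,
      Groth.Agent.Lib.H90Invertible.isInvertible_pullback g hL, ?_⟩
    exact Groth.Agent.Lib.H78PullAmple.isRelAmple_comp_pullback_of_quasiAffine f g (fun V hV => by
      haveI : IsAffine (g ⁻¹ᵁ V : Scheme.{u}) := hV.preimage g
      infer_instance) L hLamp
  · rintro ⟨L', hL', hR⟩
    -- the norm of `L'`
    have hE : FlatMod.IsFinLocFree (Groth.Agent.Lib.NormChartH3.E g) := hfree
    obtain ⟨V, hVaff, hV, A', M, hM, A, hA⟩ :=
      Groth.Agent.Lib.NormExistsH3.exists_norm_atlas g (Groth.Agent.Lib.NormGlueH3.glueNorm hE) hL'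
    refine ⟨M, hM, inferInstance, fun W => ?_⟩
    exact Groth.Agent.Lib.NormRestrictH3.isAmple_restrict_of_norm g
      (Groth.Agent.Lib.NormGlueH3.glueNorm hE) hM V hV A' A hA (f ⁻¹ᵁ W.1) (hR.2 W)

end Groth.Agent.S4438
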