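import Groth.Statements.S4439
import Mathlib

set_option autoImplicit false
universe u
open CategoryTheory CategoryTheory.Limits AlgebraicGeometry
open EGA2

namespace Groth.Agent.S4439

set_option backward.isDefEq.respectTransparency false in
theorem aux (A : Type u) [CommRing A] [IsDomain A]
    [ValuationRing A] (K : Type u) [Field K] [Algebra A K] [IsFractionRing A K] (X : Scheme.{u})
    (f : X ⟶ Spec (CommRingCat.of A)) [IsSeparated f] (hf : IsClosedMap f.base)
    (x : Spec (CommRingCat.of K) ⟶ X) (hx : x ≫ f = Spec.map (CommRingCat.ofHom (algebraMap A K))) :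
    ∃! s : Spec (CommRingCat.of A) ⟶ X, s ≫ f = 𝟙 _ ∧ Spec.map (CommRingCat.ofHom (algebraMap A K)) ≫ s = x := by
  classical
  have : IsDomain (CommRingCat.of A) := ‹_›
  have : ValuationRing (CommRingCat.of A) := ‹_›
  let : Field (CommRingCat.of K) := ‹_›
  have H : SpecializingMap f.base := hf.specializingMap
  obtain ⟨z, h₁, h₂⟩ := @H (x.base (IsLocalRing.closedPoint K)) _
    (IsLocalRing.specializes_closedPoint (R := A) _)
  let e : CommRingCat.of A ≅ (Spec <| .of A).presheaf.stalk (f.base z) :=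
    (stalkClosedPointIso (.of A)).symm ≪≫
      (Spec <| .of A).presheaf.stalkCongr (.of_eq h₂.symm)
  let α := e.hom ≫ f.stalkMap z
  have : IsLocalHom e.hom.hom := isLocalHom_of_isIso e.hom
  have : IsLocalHom α.hom := inferInstanceAs
    (IsLocalHom ((f.stalkMap z).hom.comp e.hom.hom))
  let β := X.presheaf.stalkSpecializes h₁ ≫ Scheme.stalkClosedPointTo x
  have hαβ : α ≫ β = CommRingCat.ofHom (algebraMap A K) := by
    simp only [CommRingCat.coe_of, Iso.trans_hom, Iso.symm_hom, TopCat.Presheaf.stalkCongr_hom,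
      Category.assoc, α, e, β, stalkClosedPointIso_inv, StructureSheaf.toStalk]
    change (Scheme.ΓSpecIso (.of A)).inv ≫ (Spec <| .of A).presheaf.germ _ _ _ ≫ _ = _
    simp only [TopCat.Presheaf.germ_stalkSpecializes_assoc, Scheme.Hom.germ_stalkMap_assoc]
    simp only [TopologicalSpace.Opens.map_top]
    rw [Scheme.germ_stalkClosedPointTo x ⊤ trivial]
    erw [← Scheme.Hom.comp_app_assoc x f]
    rw [hx]
    simp
  have hbij := (bijective_rangeRestrict_comp_of_valuationRing (R := A) (K := K) α.hom β.hom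
    (CommRingCat.hom_ext_iff.mp hαβ))
  let φ : X.presheaf.stalk z ⟶ CommRingCat.of A := CommRingCat.ofHom <|
    (RingEquiv.ofBijective _ hbij).symm.toRingHom.comp β.hom.rangeRestrict
  have hαφ : α ≫ φ = 𝟙 _ := by ext x; exact (RingEquiv.ofBijective _ hbij).symm_apply_apply x
  have hαφ' : f.stalkMap z ≫ φ = e.inv := by
    rw [← cancel_epi e.hom, ← Category.assoc, hαφ, e.hom_inv_id]
  have hφβ : φ ≫ CommRingCat.ofHom (algebraMap A K) = β :=
    hαβ ▸ CommRingCat.hom_ext (RingHom.ext fun x ↦ congr_arg Subtype.val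
      ((RingEquiv.ofBijective _ hbij).apply_symm_apply (β.hom.rangeRestrict x)))
  have hsf : (Spec.map φ ≫ X.fromSpecStalk z) ≫ f = 𝟙 _ := by
    rw [Category.assoc, ← Scheme.SpecMap_stalkMap_fromSpecStalk, ← Spec.map_comp_assoc, hαφ']
    simp only [Iso.trans_inv, TopCat.Presheaf.stalkCongr_inv, Iso.symm_inv, Spec.map_comp,
      Category.assoc, e]
    rw [Scheme.SpecMap_stalkSpecializes_fromSpecStalk]
    rw [← Spec_stalkClosedPointIso, ← Spec.map_comp,
      Iso.inv_hom_id, Spec.map_id]
  have hsx : Spec.map (CommRingCat.ofHom (algebraMap A K)) ≫ (Spec.map φ ≫ X.fromSpecStalk z) = x := by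
    rw [← Spec.map_comp_assoc, hφβ]
    simp only [Spec.map_comp, Category.assoc,
      Scheme.SpecMap_stalkSpecializes_fromSpecStalk, β]
    rw [Scheme.Spec_stalkClosedPointTo_fromSpecStalk]
  refine ⟨Spec.map φ ≫ X.fromSpecStalk z, ⟨hsf, hsx⟩, ?_⟩
  rintro s' ⟨hs1, hs2⟩
  have huniq := IsSeparated.valuativeCriterion f
  let S : ValuativeCommSq f :=
    { R := A, K := K, i₁ := x, i₂ := 𝟙 _, commSq := ⟨by rw [hx, Category.comp_id]⟩ }
  have hsub := huniq S
  let l1 : S.commSq.LiftStruct := ⟨s', hs2, hs1⟩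
  let l2 : S.commSq.LiftStruct := ⟨Spec.map φ ≫ X.fromSpecStalk z, hsx, hsf⟩
  exact congrArg CommSq.LiftStruct.l (Subsingleton.elim l1 l2)

/-- Let A be a valuation ring with field of fractions K and f : X ⟶ Spec A a separated morphism whose
underlying map is closed. Then restriction to the generic point is a bijection from sections of f to
K-rational points of the generic fibre: every morphism Spec K ⟶ X over Spec A extends to exactly one
section of f. -/
theorem result (A : Type u) [CommRing A] [IsDomain A]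
    [ValuationRing A] (K : Type u) [Field K] [Algebra A K] [IsFractionRing A K] (X : Scheme.{u})
    (f : X ⟶ Spec (CommRingCat.of A)) [IsSeparated f] (hf : IsClosedMap f.base)
    (x : Spec (CommRingCat.of K) ⟶ X) (hx : x ≫ f = Spec.map (CommRingCat.ofHom (algebraMap A K))) :
    ∃! s : Spec (CommRingCat.of A) ⟶ X, s ≫ f = 𝟙 _ ∧ Spec.map (CommRingCat.ofHom (algebraMap A K)) ≫ s = x := by
  exact aux A K X f hf x hx

end Groth.Agent.S4439
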