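import Groth.Statements.S4443
import Mathlib
import Groth.Agent.Lib.LocImm9
import Groth.Agent.Lib.GenericStalk45

set_option autoImplicit false
universe u
open CategoryTheory CategoryTheory.Limits AlgebraicGeometry
open EGA2

namespace Groth.Agent.S4443

/-- In a scheme, if `η ⤳ x ⤳ z` with all three distinct, then the local ring at `z` has Krull
dimension at least `2`. -/
lemma two_le_ringKrullDim_stalk {X : Scheme.{u}} (η x z : X) (h1 : η ⤳ x) (h2 : x ⤳ z)
    (hne1 : η ≠ x) (hne2 : x ≠ z) : (2 : WithBot ℕ∞) ≤ ringKrullDim (X.presheaf.stalk z) := by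
  have hemb := (X.fromSpecStalk z).isEmbedding
  have hxr : x ∈ Set.range (X.fromSpecStalk z) := by
    rw [Scheme.range_fromSpecStalk]; exact h2
  have hηr : η ∈ Set.range (X.fromSpecStalk z) := by
    rw [Scheme.range_fromSpecStalk]; exact h1.trans h2
  have hzr : z ∈ Set.range (X.fromSpecStalk z) := by
    rw [Scheme.range_fromSpecStalk]; exact specializes_rfl
  obtain ⟨px, rfl⟩ := hxr
  obtain ⟨pη, rfl⟩ := hηr
  obtain ⟨pz, hpz⟩ := hzr
  have h1' : pη ⤳ px := hemb.isInducing.specializes_iff.mp h1
  have h2' : px ⤳ pz := hemb.isInducing.specializes_iff.mp (by rw [hpz]; exact h2)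
  let a : PrimeSpectrum (X.presheaf.stalk z) := pη
  let b : PrimeSpectrum (X.presheaf.stalk z) := px
  let c : PrimeSpectrum (X.presheaf.stalk z) := pz
  have hab : a < b := lt_of_le_of_ne ((PrimeSpectrum.le_iff_specializes a b).mpr h1')
    (fun h => hne1 (congrArg (X.fromSpecStalk z) h))
  have hbc : b < c := lt_of_le_of_ne ((PrimeSpectrum.le_iff_specializes b c).mpr h2')
    (fun h => hne2 ((congrArg (X.fromSpecStalk z) h).trans hpz))
  let s : LTSeries (PrimeSpectrum (X.presheaf.stalk z)) :=
    ((RelSeries.singleton _ a).snoc b hab).snoc c (by simpa using hbc)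
  have h4 : (s.length : WithBot ℕ∞) ≤ ringKrullDim (X.presheaf.stalk z) :=
    Order.LTSeries.length_le_krullDim s
  have h5 : s.length = 2 := rfl
  rw [h5] at h4
  exact_mod_cast h4

/-- Let X be an irreducible algebraic curve over a field k (separated and of finite type over k,
nonempty, irreducible, local rings at closed points of dimension one). Then the generic point is the
only non-closed point of X, and the closed subsets of X distinct from X are exactly the finite sets
of closed points. (The published statement adds that these are also exactly the subsets of X that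
are not dense in X, an immediate consequence; this row does not state it.) -/
theorem result (k : Type u) [Field k] (X : Scheme.{u})
    [X.Over (Spec (CommRingCat.of k))] [LocallyOfFiniteType (X ↘ (Spec (CommRingCat.of k)))]
    [QuasiCompact (X ↘ (Spec (CommRingCat.of k)))] [IsSeparated (X ↘ (Spec (CommRingCat.of k)))]
    [Nonempty X] [IrreducibleSpace X] (hcurve : ∀ x : X, IsClosed ({x} : Set X) → ringKrullDim (X.presheaf.stalk x) = 1) :
    (∀ x : X, ¬ IsClosed ({x} : Set X) → x = genericPoint X) ∧
      ∀ F : Set X, IsClosed F → (F ≠ Set.univ ↔ (F.Finite ∧ ∀ x ∈ F, IsClosed ({x} : Set X))) := by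
  haveI : CompactSpace X :=
    QuasiCompact.compactSpace_of_compactSpace (X ↘ (Spec (CommRingCat.of k)))
  haveI : IsLocallyNoetherian X :=
    LocallyOfFiniteType.isLocallyNoetherian (X ↘ (Spec (CommRingCat.of k)))
  haveI : IsNoetherian X := { }
  have h1 : ∀ x : X, ¬ IsClosed ({x} : Set X) → x = genericPoint X := by
    intro x hx
    by_contra hne
    obtain ⟨z, hz, hzcl⟩ := IsClosed.exists_closed_singleton (isClosed_closure (s := ({x} : Set X)))
      ⟨x, subset_closure rfl⟩
    have hxz : x ⤳ z := specializes_iff_mem_closure.mpr hz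
    have hxnez : x ≠ z := fun h => hx (h ▸ hzcl)
    have h2 := two_le_ringKrullDim_stalk (genericPoint X) x z (genericPoint_specializes x) hxz
      (fun h => hne h.symm) hxnez
    rw [hcurve z hzcl] at h2
    exact absurd h2 (by decide)
  refine ⟨h1, ?_⟩
  intro F hF
  constructor
  · intro hne
    have hη : genericPoint X ∉ F := by
      intro h
      apply hne
      apply Set.eq_univ_of_univ_subset
      rw [← (genericPoint_spec X).def]
      exact closure_minimal (Set.singleton_subset_iff.mpr h) hF
    have hcl : ∀ x ∈ F, IsClosed ({x} : Set X) := by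
      intro x hx
      by_contra hc
      exact hη (h1 x hc ▸ hx)
    obtain ⟨G, hGf, hGF, hG⟩ := Groth.Agent.Lib.LocImm.exists_finite_generic hF
    refine ⟨hGf.subset ?_, hcl⟩
    intro z hz
    obtain ⟨ζ, hζ, hsp⟩ := hG z hz
    have hmem : z ∈ closure ({ζ} : Set X) := hsp.mem_closure
    rw [(hcl ζ (hGF hζ)).closure_eq] at hmem
    rw [Set.mem_singleton_iff] at hmem
    exact hmem ▸ hζ
  · rintro ⟨-, hcl⟩ huniv
    have hη := hcl (genericPoint X) (huniv ▸ Set.mem_univ _)
    have h1' := hcurve _ hη
    have h0 := Groth.Agent.Lib.GenericStalk45.krullDimLE_zero_stalk_genericPoint X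
    have h2 : ringKrullDim (X.presheaf.stalk (genericPoint X)) ≤ 0 := by
      exact_mod_cast Ring.krullDimLE_iff.mp h0
    rw [h1'] at h2
    exact absurd h2 (by decide)

end Groth.Agent.S4443
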