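import Groth.Statements.S4447
import Mathlib.AlgebraicGeometry.ValuativeCriterion
import Mathlib.RingTheory.Valuation.LocalSubring

set_option autoImplicit false
universe u
open CategoryTheory CategoryTheory.Limits AlgebraicGeometry
open EGA2

namespace Groth.Agent.S4447

/-- Let p : X ⟶ Y be a morphism, x a point of X, y = p(x) and y' a specialization of y distinct from y.
Then there are a valuation ring A which is not a field, with field of fractions the residue field
k(x), and a morphism Spec A ⟶ Y mapping the closed point to y' and restricting on Spec k(x) to the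
canonical morphism Spec k(x) ⟶ X ⟶ Y (in particular the generic point of Spec A goes to y). -/
theorem result {X Y : Scheme.{u}} (p : X ⟶ Y) (x : X) (y' : Y)
    (hsp : p.base x ⤳ y') (hne : y' ≠ p.base x) :
    ∃ (A : ValuationSubring (X.residueField x)) (h : Spec (CommRingCat.of A) ⟶ Y), A ≠ ⊤ ∧
      h.base (IsLocalRing.closedPoint A) = y' ∧
      Spec.map (CommRingCat.ofHom A.subtype) ≫ h = X.fromSpecResidueField x ≫ p := by
  -- the specialization map on stalks is not local, since `y' ≠ p x`
  have hnotlocal : ¬ IsLocalHom (Y.presheaf.stalkSpecializes hsp).hom := by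
    intro hloc
    apply hne
    have h1 : Spec.map (Y.presheaf.stalkSpecializes hsp) ≫ Y.fromSpecStalk y' =
        Y.fromSpecStalk (p.base x) := Scheme.SpecMap_stalkSpecializes_fromSpecStalk hsp
    have h2 : Spec.map (Y.presheaf.stalkSpecializes hsp)
        (IsLocalRing.closedPoint (Y.presheaf.stalk (p.base x))) =
        IsLocalRing.closedPoint (Y.presheaf.stalk y') :=
      IsLocalRing.comap_closedPoint (Y.presheaf.stalkSpecializes hsp).hom
    have h3 := congrArg (fun g => g.base (IsLocalRing.closedPoint (Y.presheaf.stalk (p.base x)))) h1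
    simp only [Scheme.Hom.comp_base, TopCat.coe_comp, Function.comp_apply] at h3
    rw [h2, Y.fromSpecStalk_closedPoint, Y.fromSpecStalk_closedPoint] at h3
    exact h3
  obtain ⟨t, ht_unit, ht_nonunit⟩ : ∃ t : Y.presheaf.stalk y',
      IsUnit ((Y.presheaf.stalkSpecializes hsp).hom t) ∧ ¬ IsUnit t := by
    by_contra hcon
    push Not at hcon
    exact hnotlocal ⟨fun a ha => hcon a ha⟩
  let φ : Y.presheaf.stalk y' ⟶ X.residueField x :=
    Y.presheaf.stalkSpecializes hsp ≫ p.stalkMap x ≫ X.residue x
  obtain ⟨A, hA, hA_local⟩ := IsLocalRing.exists_factor_valuationRing φ.hom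
  let ψ : Y.presheaf.stalk y' ⟶ CommRingCat.of A :=
    CommRingCat.ofHom (φ.hom.codRestrict _ hA)
  have w : X.fromSpecResidueField x ≫ p =
      Spec.map (CommRingCat.ofHom (algebraMap A (X.residueField x))) ≫
        Spec.map ψ ≫ Y.fromSpecStalk y' := by
    rw [Scheme.fromSpecResidueField, Category.assoc, ← Scheme.SpecMap_stalkMap_fromSpecStalk,
      ← Scheme.SpecMap_stalkSpecializes_fromSpecStalk hsp]
    simp_rw [← Spec.map_comp_assoc]
    rfl
  refine ⟨A, Spec.map ψ ≫ Y.fromSpecStalk y', ?_, ?_, ?_⟩
  · -- `A ≠ ⊤`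
    intro hA_top
    have hφt_unit : IsUnit (φ.hom t) := by
      have : φ.hom t = (p.stalkMap x ≫ X.residue x).hom ((Y.presheaf.stalkSpecializes hsp).hom t) :=
        rfl
      rw [this]
      exact ht_unit.map _
    have hφt_ne : φ.hom t ≠ 0 := hφt_unit.ne_zero
    -- the inverse lies in `A = ⊤`
    have hinv : (φ.hom t)⁻¹ ∈ A := by rw [hA_top]; trivial
    have hunitA : IsUnit (φ.hom.codRestrict A.toSubring hA t) := by
      refine IsUnit.of_mul_eq_one ⟨(φ.hom t)⁻¹, hinv⟩ ?_
      apply Subtype.ext
      change φ.hom t * (φ.hom t)⁻¹ = 1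
      exact mul_inv_cancel₀ hφt_ne
    exact ht_nonunit (hA_local.map_nonunit t hunitA)
  · -- the closed point goes to `y'`
    simp only [Scheme.Hom.comp_base, TopCat.coe_comp, Function.comp_apply]
    have : Spec.map ψ (IsLocalRing.closedPoint A) =
        IsLocalRing.closedPoint (Y.presheaf.stalk y') :=
      IsLocalRing.comap_closedPoint (S := A) (φ.hom.codRestrict A.toSubring hA)
    rw [this, Y.fromSpecStalk_closedPoint]
  · exact w.symm

end Groth.Agent.S4447
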