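import Groth.Statements.S4451
import Groth.Agent.Lib.CurveValRings

set_option autoImplicit false
universe u
open CategoryTheory CategoryTheory.Limits AlgebraicGeometry
attribute [local instance] Curv2.stalkAlgebra
open EGA2

namespace Groth.Agent.S4451

/-- Let X be a normal, complete, irreducible algebraic curve over a field k with field of rational
functions K. The set of local rings of X, as subrings of K, consists of K itself (at the generic
point) and of the valuation rings of K containing k (and distinct from K): every non-generic point
has such a valuation ring as local ring, and every such valuation ring is the local ring of exactly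
one point. -/
theorem result (k : Type u) [Field k] (X : Scheme.{u})
    [X.Over (Spec (CommRingCat.of k))] [IsProper (X ↘ (Spec (CommRingCat.of k)))] [IsIntegral X]
    (hX : ∀ x : X, IsClosed ({x} : Set X) → ringKrullDim (X.presheaf.stalk x) = 1) (hnorm : Pi1.IsNormalScheme X) :
    (∀ x : X, x ≠ genericPoint X → ∃ R : ValuationSubring X.functionField, R ≠ ⊤ ∧
        (R : Set X.functionField) = Set.range (algebraMap (X.presheaf.stalk x) X.functionField)) ∧
      ∀ R : ValuationSubring X.functionField, R ≠ ⊤ → (∀ c : k, algebraMap k X.functionField c ∈ R) →
        ∃! x : X, (R : Set X.functionField) = Set.range (algebraMap (X.presheaf.stalk x) X.functionField) := by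
  have hLN : IsLocallyNoetherian X :=
    LocallyOfFiniteType.isLocallyNoetherian (X ↘ (Spec (CommRingCat.of k)))
  have hcpt : CompactSpace X :=
    QuasiCompact.compactSpace_of_compactSpace (X ↘ (Spec (CommRingCat.of k)))
  have hsep : X.IsSeparated :=
    (HasAffineProperty.iff_of_isAffine (P := @IsSeparated)
      (f := X ↘ (Spec (CommRingCat.of k)))).mp inferInstance
  have hval : ∀ x : X, ValuationRing (X.presheaf.stalk x) := fun x => by
    have hic : IsIntegrallyClosed (X.presheaf.stalk x) := (hnorm x).2
    exact Groth.Agent.Lib.ExtVal.valuationRing_of_isIntegrallyClosed_of_dim_le_one _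
      (Groth.Agent.Lib.ExtVal.dim_stalk_le_one_of_closed hX x)
  constructor
  · intro x hx
    have := hval x
    refine ⟨Groth.Agent.Lib.CurveValRings.rangeVS (X.presheaf.stalk x) X.functionField, ?_,
      Groth.Agent.Lib.CurveValRings.coe_rangeVS _ _⟩
    intro htop
    have hinj : Function.Injective (algebraMap (X.presheaf.stalk x) X.functionField) :=
      IsFractionRing.injective _ _
    have hsurj : ∀ b : X.functionField, ∃ a : X.presheaf.stalk x,
        algebraMap (X.presheaf.stalk x) X.functionField a = b := by
      intro b
      have hb : b ∈ Groth.Agent.Lib.CurveValRings.rangeVS (X.presheaf.stalk x) X.functionField := by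
        rw [htop]; trivial
      exact hb
    have hfield : IsField (X.presheaf.stalk x) := by
      refine ⟨⟨0, 1, zero_ne_one⟩, mul_comm, ?_⟩
      intro a ha
      obtain ⟨a', ha'⟩ := hsurj (algebraMap (X.presheaf.stalk x) X.functionField a)⁻¹
      refine ⟨a', hinj ?_⟩
      rw [map_mul, ha', map_one, mul_inv_cancel₀]
      exact fun h0 => ha (hinj (by rw [h0, map_zero]))
    have hdim : ringKrullDim (X.presheaf.stalk x) = 0 := ringKrullDim_eq_zero_of_isField hfield
    rw [ringKrullDim_stalk_eq_coheight] at hdim
    have hco : Order.coheight x = 0 := by exact_mod_cast hdim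
    have hηx : genericPoint X ⤳ x := (genericPoint_spec X).specializes trivial
    have hlt : x < genericPoint X := by
      refine lt_iff_le_not_ge.mpr ⟨Scheme.le_iff_specializes.mpr hηx, fun hle => hx ?_⟩
      exact ((Scheme.le_iff_specializes.mp hle).antisymm hηx).eq
    have h1 := Order.coheight_add_one_le hlt
    rw [hco] at h1
    simp at h1
  · intro R hR hk
    obtain ⟨x, hx⟩ := Groth.Agent.Lib.CurveValRings.exists_dom k X R hk
    have := hval x
    have hRx := Groth.Agent.Lib.CurveValRings.coe_eq_range_of_dom R hx
    refine ⟨x, hRx, ?_⟩
    intro x' hx'
    have e : Set.range (algebraMap (X.presheaf.stalk x') X.functionField) =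
        Set.range (algebraMap (X.presheaf.stalk x) X.functionField) := hx'.symm.trans hRx
    have h1 : x ⤳ x' := Groth.Agent.Lib.FunctionFieldDom.specializes_of_range_le X
      (x := x') (y := x) (fun b hb => by
        have : b ∈ Set.range (algebraMap (X.presheaf.stalk x') X.functionField) := hb
        rw [e] at this
        exact this)
    have h2 : x' ⤳ x := Groth.Agent.Lib.FunctionFieldDom.specializes_of_range_le X
      (x := x) (y := x') (fun b hb => by
        have : b ∈ Set.range (algebraMap (X.presheaf.stalk x) X.functionField) := hb
        rw [← e] at this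
        exact this)
    exact (h2.antisymm h1).eq

end Groth.Agent.S4451
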