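import Groth.Statements.S4454
import Groth.Agent.Lib.CurveNormFin85

set_option autoImplicit false
universe u
open CategoryTheory CategoryTheory.Limits AlgebraicGeometry
open EGA2

namespace Groth.Agent.S4454

/-- Case of an integral curve and a single field: let X be an integral algebraic curve over a field k, K
a finite extension of its field of rational functions and X' the integral closure of X in K (the
normalization of X along the morphism g : Spec K ⟶ X through the generic point). Then the canonical
morphism X' ⟶ X is finite and X' is a normal algebraic curve over k (local rings integrally closed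
domains, of dimension one at closed points). -/
theorem result (k : Type u) [Field k] (X : Scheme.{u})
    [X.Over (Spec (CommRingCat.of k))] [LocallyOfFiniteType (X ↘ (Spec (CommRingCat.of k)))]
    [QuasiCompact (X ↘ (Spec (CommRingCat.of k)))] [IsSeparated (X ↘ (Spec (CommRingCat.of k)))] [IsIntegral X]
    (hX : ∀ x : X, IsClosed ({x} : Set X) → ringKrullDim (X.presheaf.stalk x) = 1)
    (K : Type u) [Field K] (φ : X.functionField →+* K) (hφ : φ.Finite) (g : Spec (CommRingCat.of K) ⟶ X)
    (hg : g = Spec.map (CommRingCat.ofHom φ) ≫ X.fromSpecStalk (genericPoint X)) [QuasiCompact g] [QuasiSeparated g] :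
    IsFinite g.fromNormalization ∧ Pi1.IsNormalScheme g.normalization ∧
      ∀ x' : g.normalization, IsClosed ({x'} : Set g.normalization) → ringKrullDim (g.normalization.presheaf.stalk x') = 1 := by
  have hR : IsField (CommRingCat.of K) := Field.toIsField K
  have hint := Groth.Agent.Lib.NormField85.isIntegral_normalization hR g
  refine ⟨?_, fun z ↦ ⟨inferInstance,
    Groth.Agent.Lib.NormField85.isIntegrallyClosed_stalk hR (CommRingCat.ofHom φ) g hg z⟩, ?_⟩
  · exact Groth.Agent.Lib.NormFieldFin85.isFinite_fromNormalization hR (CommRingCat.ofHom φ) g hg hφ
      fun V hV _ L _ _ _ _ hfd ↦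
        Groth.Agent.Lib.CurveNormFin85.finite_integralClosure_of_lft_field k
          (X ↘ (Spec (CommRingCat.of k))) V hV L hfd
  · exact Groth.Agent.Lib.NormFieldFin85.ringKrullDim_stalk_eq_one_of_isClosed g.fromNormalization
      (Groth.Agent.Lib.NormField85.fromNormalization_genericPoint hR (CommRingCat.ofHom φ) g hg) hX

end Groth.Agent.S4454
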