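import Groth.Statements.S4455
import Groth.Agent.Lib.CurveNormFin85
import Groth.Agent.Lib.NormalizationIntegral

set_option autoImplicit false
universe u
open CategoryTheory CategoryTheory.Limits AlgebraicGeometry
open EGA2

namespace Groth.Agent.S4455

/-- An integral algebraic curve X over a field k is complete (proper over k) if and only if its
normalization X', with the composite structure morphism X' ⟶ X ⟶ Spec k, is proper over k. (The
quasi-compactness and quasi-separatedness binders on the morphism from the generic point always
hold; they are needed only to form the normalization.) -/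
theorem result (k : Type u) [Field k] (X : Scheme.{u})
    [X.Over (Spec (CommRingCat.of k))] [LocallyOfFiniteType (X ↘ (Spec (CommRingCat.of k)))]
    [QuasiCompact (X ↘ (Spec (CommRingCat.of k)))] [IsSeparated (X ↘ (Spec (CommRingCat.of k)))] [IsIntegral X]
    (hX : ∀ x : X, IsClosed ({x} : Set X) → ringKrullDim (X.presheaf.stalk x) = 1)
    [QuasiCompact (X.fromSpecStalk (genericPoint X))] [QuasiSeparated (X.fromSpecStalk (genericPoint X))] :
    IsProper (X ↘ (Spec (CommRingCat.of k))) ↔ IsProper (Curv2.normalizationι X ≫ (X ↘ (Spec (CommRingCat.of k)))) := by
  have hR : IsField (X.presheaf.stalk (genericPoint X)) :=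
    Groth.Agent.Lib.NormField85.isField_stalk_of_eq_genericPoint rfl
  have hg : X.fromSpecStalk (genericPoint X) =
      Spec.map (𝟙 (X.presheaf.stalk (genericPoint X))) ≫ X.fromSpecStalk (genericPoint X) := by
    simp
  constructor
  · intro hp
    have hfin : IsFinite (Curv2.normalizationι X) := by
      unfold Curv2.normalizationι
      exact Groth.Agent.Lib.NormFieldFin85.isFinite_fromNormalization hR
        (𝟙 (X.presheaf.stalk (genericPoint X))) (X.fromSpecStalk (genericPoint X)) hg
        (RingHom.Finite.id _)
        fun V hV _ L _ _ _ _ hfd ↦
          Groth.Agent.Lib.CurveNormFin85.finite_integralClosure_of_lft_field k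
            (X ↘ (Spec (CommRingCat.of k))) V hV L hfd
    infer_instance
  · intro hp
    have hs : Surjective (Curv2.normalizationι X) :=
      ⟨Groth.Agent.Lib.NormalizationIntegral.surjective_fromNormalization X⟩
    have huc : UniversallyClosed (X ↘ (Spec (CommRingCat.of k))) :=
      UniversallyClosed.of_comp_surjective (Curv2.normalizationι X) _
    exact { }

end Groth.Agent.S4455
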