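import Groth.Statements.S4456
import Groth.Agent.Lib.AffMorAcyclic
import Groth.Agent.Lib.RDerEdge
import Mathlib.CategoryTheory.Sites.Pullback

set_option autoImplicit false
universe u
open Coherent

namespace Groth.Agent.S4456

open AlgebraicGeometry CategoryTheory in
/-- Let f : X → Y be an affine morphism, g : Y → Z a morphism of schemes and F a quasi-coherent
O_X-module. Then for every p ≥ 0 the higher direct image R^p g_*(f_* F) is isomorphic to R^p (g ∘
f)_* F (higher direct images of the underlying abelian sheaves). The source shows that the canonical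
comparison map is an isomorphism; only the existence of an isomorphism is asserted here. -/
theorem result {X Y Z : Scheme.{u}} (f : X ⟶ Y) (g : Y ⟶ Z)
    [IsAffineHom f] (F : X.Modules) [Coh.IsQCoh F] (p : ℕ) :
    Nonempty ((Coh.RpushAb g p).obj (Coh.toAb ((Coh.push f).obj F)) ≅
      (Coh.RpushAb (f ≫ g) p).obj (Coh.toAb F)) := by
  have hpull : Limits.PreservesFiniteLimits (CohTop.pull f.base) :=
    Functor.SmallCategories.instPreservesFiniteLimitsSheafSheafPullbackOfRepresentablyFlat _ _ _ _
  have : (Coh.pushAb f).PreservesInjectiveObjects :=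
    Functor.preservesInjectiveObjects_of_adjunction_of_preservesMonomorphisms
      (TopCat.Sheaf.pullbackPushforwardAdjunction AddCommGrpCat.{u} f.base)
  have hz : ∀ q : ℕ, Limits.IsZero (((Coh.pushAb f).rightDerived (q + 1)).obj (Coh.toAb F)) :=
    fun q => Groth.Agent.Lib.AffMorAcyclic.isZero_RpushAb_succ (Coh.toAb F)
      (Groth.Agent.Lib.AffMorAcyclic.isAcyclicOver_toAb F inferInstance) q
  have hiso := Groth.Agent.Lib.RDerEdge.isIso_edgeIn (Coh.pushAb f) (Coh.pushAb g) (Coh.toAb F) hz p
  let e : Coh.pushAb f ⋙ Coh.pushAb g ≅ Coh.pushAb (f ≫ g) := Iso.refl _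
  exact ⟨@asIso _ _ _ _ (RDer.edgeIn (Coh.pushAb f) (Coh.pushAb g) p (Coh.toAb F)) hiso ≪≫
    (RDer.rightDerivedIso e p).app (Coh.toAb F)⟩

end Groth.Agent.S4456
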