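import Groth.Statements.S4457
import Groth.Agent.Lib.DegenComposite
import Groth.Agent.Lib.RpushQCoh
import Groth.Agent.Lib.AffMorAcyclic
import Groth.Agent.Lib.RDerEdge
import Groth.Agent.S11319
import Mathlib.CategoryTheory.Sites.Pullback

set_option autoImplicit false
universe u
open Coherent

namespace Groth.Agent.S4457

open AlgebraicGeometry CategoryTheory in
/-- Let f : X → Y be a separated quasi-compact morphism, g : Y → Z an affine morphism and F a
quasi-coherent O_X-module. Then for every p ≥ 0, R^p (g ∘ f)_* F is isomorphic to g_*(R^p f_* F)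
(higher direct images and direct image of the underlying abelian sheaves). The source shows that the
canonical comparison map is an isomorphism; only the existence of an isomorphism is asserted here. -/
theorem result {X Y Z : Scheme.{u}} (f : X ⟶ Y) (g : Y ⟶ Z)
    [IsSeparated f] [QuasiCompact f] [IsAffineHom g] (F : X.Modules) [Coh.IsQCoh F] (p : ℕ) :
    Nonempty ((Coh.RpushAb (f ≫ g) p).obj (Coh.toAb F) ≅
      (Coh.pushAb g).obj ((Coh.RpushAb f p).obj (Coh.toAb F))) := by
  have hpull : Limits.PreservesFiniteLimits (CohTop.pull f.base) :=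
    Functor.SmallCategories.instPreservesFiniteLimitsSheafSheafPullbackOfRepresentablyFlat _ _ _ _
  have : (Coh.pushAb f).PreservesInjectiveObjects :=
    Functor.preservesInjectiveObjects_of_adjunction_of_preservesMonomorphisms
      (TopCat.Sheaf.pullbackPushforwardAdjunction AddCommGrpCat.{u} f.base)
  have hX : HasInjectiveResolutions X.Modules :=
    Groth.Agent.Lib.RpushRestrict.hasInjectiveResolutions X
  have good : Groth.Agent.Lib.DegenComposite.Good (Coh.pushAb f) (Coh.pushAb g) (Coh.toAb F) := by
    intro p q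
    obtain ⟨e⟩ := Groth.Agent.S11319.result f F p
    have hq : ((Coh.Rpush f p).obj F).IsQuasicoherent :=
      Groth.Agent.Lib.RpushQCoh.isQuasicoherent_Rpush f F p inferInstance
    exact Groth.Agent.Lib.AffMorAcyclic.isZero_RpushAb_succ _
      (Groth.Agent.Lib.AffMorAcyclic.isAcyclicOver_of_iso e
        (Groth.Agent.Lib.AffMorAcyclic.isAcyclicOver_toAb (f := g) _ hq)) q
  obtain ⟨i⟩ := Groth.Agent.Lib.DegenComposite.nonempty_iso (Φ := Coh.pushAb f)
    (Γ := Coh.pushAb g) p (Coh.toAb F) good
  let e : Coh.pushAb f ⋙ Coh.pushAb g ≅ Coh.pushAb (f ≫ g) := Iso.refl _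
  exact ⟨((RDer.rightDerivedIso e p).app (Coh.toAb F)).symm ≪≫ i⟩

end Groth.Agent.S4457
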