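import Groth.Statements.S4459
-- import your own Groth.Agent.* helpers here

set_option autoImplicit false
universe u
open Coherent

namespace Groth.Agent.S4459

open AlgebraicGeometry CategoryTheory in
/-- Let A be a Noetherian ring which is separated and complete for the J-adic topology, and let f : X →
Spec A be a morphism of schemes which is a closed map on underlying spaces. Then every open subset
of X containing the inverse image of V(J) is all of X. (The published statement also assumes X of
finite type over A; that hypothesis is not used.) -/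
theorem result (A : Type u) [CommRing A] [IsNoetherianRing A]
    (J : Ideal A) [IsAdicComplete J A] {X : Scheme.{u}} (f : X ⟶ Spec (CommRingCat.of A))
    (hf : IsClosedMap f.base) (U : X.Opens)
    (hU : f.base ⁻¹' (PrimeSpectrum.zeroLocus (J : Set A)) ⊆ (U : Set X)) : U = ⊤ := by
  rw [eq_top_iff]
  intro x _
  by_contra hx
  have hZ : IsClosed (f.base '' ((U : Set X)ᶜ)) := hf _ U.isOpen.isClosed_compl
  have hxZ : f.base x ∈ f.base '' ((U : Set X)ᶜ) := ⟨x, hx, rfl⟩
  set p : PrimeSpectrum A := f.base x with hp
  obtain ⟨m, hm, hpm⟩ := Ideal.exists_le_maximal p.asIdeal p.2.ne_top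
  let q : PrimeSpectrum A := ⟨m, hm.isPrime⟩
  have hspec : p ⤳ q := (PrimeSpectrum.le_iff_specializes p q).1 hpm
  have hq : q ∈ f.base '' ((U : Set X)ᶜ) := hZ.stableUnderSpecialization hspec hxZ
  obtain ⟨z, hz, hzq⟩ := hq
  have hJ : J ≤ m := (IsAdicComplete.le_jacobson_bot J).trans (sInf_le ⟨bot_le, hm⟩)
  have : z ∈ f.base ⁻¹' (PrimeSpectrum.zeroLocus (J : Set A)) := by
    rw [Set.mem_preimage, hzq]
    exact (PrimeSpectrum.mem_zeroLocus q (J : Set A)).2 hJ
  exact hz (hU this)

end Groth.Agent.S4459
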