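import Groth.Statements.S4461
import Groth.Agent.Lib.FormalFn20
import Groth.Agent.S2435

set_option autoImplicit false
universe u
open Coherent

namespace Groth.Agent.S4461

open CategoryTheory CategoryTheory.Limits AlgebraicGeometry
open Groth.Agent.Lib.CohLES Groth.Agent.Lib.FormalFn20

section
variable {X : Scheme.{u}} {A : Type u} [CommRing A] [X.Over (Spec (CommRingCat.of A))]

theorem idealMulι_modPowπ (I : Ideal A) (n : ℕ) (M : X.Modules) :
    CohIII.idealMulι (I ^ n) M ≫ Formal.modPowπ I n M = 0 := by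
  have h : CohIII.idealMulι (I ^ n) M = (bridgePow I n M).inv ≫ Formal2.idealPowModι I n M := by
    rw [← bridgePow_hom_ι, Iso.inv_hom_id_assoc]
  rw [h, Category.assoc, kernel.condition, comp_zero]

theorem idealMulι_modPowπ' (I K : Ideal A) (n : ℕ) (hK : K = I ^ n) (M : X.Modules) :
    CohIII.idealMulι K M ≫ Formal.modPowπ I n M = 0 := by
  subst hK
  exact idealMulι_modPowπ I n M

theorem mem_ker_iff (I : Ideal A) (M : X.Modules) (p n : ℕ) (x : Coh.HH X M p) :
    x ∈ (Formal.toHHmodPow I M p n).ker ↔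
      ∃ z : Coh.HH X (CohIII.idealMul (I ^ (n + 1)) M) p,
        map (CohIII.idealMulι (I ^ (n + 1)) M) p z = x := by
  constructor
  · intro hx
    have hx' : map (Formal.modPowπ I (n + 1) M) p x = 0 := hx
    obtain ⟨y, rfl⟩ := exists_of_map_modPowπ_eq_zero I (n + 1) M p x hx'
    exact exists_map_idealMulι_eq I (n + 1) M p y
  · rintro ⟨z, rfl⟩
    change map (Formal.modPowπ I (n + 1) M) p (map _ p z) = 0
    rw [← map_comp, idealMulι_modPowπ, map_zero']

/-- Refinement of `map_idealMulι_mem`: the image lies in `I' · (image of H^p(J M))`. -/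
theorem map_idealMulι_mem' (I' J K : Ideal A) (hK : K = I' * J) (M : X.Modules) (p : ℕ)
    (hgen : (⨆ a : ↥I', (CohIII.HmulMap I' J M a p).range) = ⊤)
    (z : Coh.HH X (CohIII.idealMul K M) p) :
    map (CohIII.idealMulι K M) p z ∈
      I' • (LinearMap.range (mapₗ A (CohIII.idealMulι J M) p)) := by
  subst hK
  have hz : z ∈ ⨆ a : ↥I', (CohIII.HmulMap I' J M a p).range := by rw [hgen]; trivial
  refine AddSubgroup.iSup_induction _ (C := fun z => map (CohIII.idealMulι (I' * J) M) p z ∈
    I' • (LinearMap.range (mapₗ A (CohIII.idealMulι J M) p))) hz ?_ ?_ ?_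
  · rintro a _ ⟨y, rfl⟩
    have e : map (CohIII.idealMulι (I' * J) M) p (CohIII.HmulMap I' J M a p y) =
        (a : A) • map (CohIII.idealMulι J M) p y := by
      change map (CohIII.idealMulι (I' * J) M) p (map (CohIII.mulMap I' J M a) p y) = _
      rw [← map_comp, mulMap_ι, map_comp, map_smulMod]
    rw [e]
    exact Submodule.smul_mem_smul a.2 ⟨y, rfl⟩
  · rw [map_zero]
    exact zero_mem _
  · intro x y hx hy
    rw [map_add]
    exact add_mem hx hy

theorem smul_mem_ker (I : Ideal A) (M : X.Modules) (p k : ℕ) (a : A) (ha : a ∈ I)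
    (x : Coh.HH X M p) (hx : x ∈ (Formal.toHHmodPow I M p k).ker) :
    a • x ∈ (Formal.toHHmodPow I M p (k + 1)).ker := by
  obtain ⟨z, rfl⟩ := (mem_ker_iff I M p k x).1 hx
  change map (Formal.modPowπ I (k + 1 + 1) M) p (a • map _ p z) = 0
  have h1 : a • map (CohIII.idealMulι (I ^ (k + 1)) M) p z =
      map (CohIII.idealMulι (I * I ^ (k + 1)) M) p
        (map (CohIII.mulMap I (I ^ (k + 1)) M ⟨a, ha⟩) p z) := by
    rw [← map_comp, mulMap_ι, map_comp, map_smulMod]
  rw [h1, ← map_comp,
    idealMulι_modPowπ' I (I * I ^ (k + 1)) (k + 1 + 1) (pow_succ' I (k + 1)).symm, map_zero']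

end

theorem main (H : Hyp2435.{u}) (A : Type u) [CommRing A] [IsNoetherianRing A]
    (I : Ideal A) (X : Scheme.{u}) [X.Over (Spec (CommRingCat.of A))]
    [IsProper (X ↘ Spec (CommRingCat.of A))] (M : X.Modules) (hM : Coh.IsCoh M) (p : ℕ) :
    ∃ k₀ : ℕ, ∀ k : ℕ, k₀ ≤ k →
      ((Formal.toHHmodPow I M p (k + 1)).ker : Set (Coh.HH X M p)) =
        ((I • Submodule.span A ((Formal.toHHmodPow I M p k).ker : Set (Coh.HH X M p)) :
          Submodule A (Coh.HH X M p)) : Set (Coh.HH X M p)) := by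
  obtain ⟨k₀, hk₀⟩ := H A I X M hM p
  refine ⟨k₀, fun k hk => Set.Subset.antisymm ?_ ?_⟩
  · intro x hx
    obtain ⟨z, rfl⟩ := (mem_ker_iff I M p (k + 1) x).1 hx
    have hK : I ^ (k + 1 + 1) = I ^ 1 * I ^ (k + 1) := by rw [← pow_add, add_comm]
    have h1 := map_idealMulι_mem' (I ^ 1) (I ^ (k + 1)) (I ^ (k + 1 + 1)) hK M p
      (hk₀ (k + 1) (by omega) 1) z
    have hle : (I ^ 1) • (LinearMap.range (mapₗ A (CohIII.idealMulι (I ^ (k + 1)) M) p)) ≤
        I • Submodule.span A ((Formal.toHHmodPow I M p k).ker : Set (Coh.HH X M p)) := by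
      rw [pow_one]
      refine Submodule.smul_mono le_rfl ?_
      rintro _ ⟨y, rfl⟩
      exact Submodule.subset_span ((mem_ker_iff I M p k _).2 ⟨y, rfl⟩)
    exact hle h1
  · intro x hx
    have hle : I • Submodule.span A ((Formal.toHHmodPow I M p k).ker : Set (Coh.HH X M p)) ≤
        LinearMap.ker (mapₗ A (Formal.modPowπ I (k + 1 + 1) M) p) := by
      rw [Submodule.smul_le]
      intro a ha x hx
      have hspan : Submodule.span A ((Formal.toHHmodPow I M p k).ker : Set (Coh.HH X M p)) ≤
          LinearMap.ker (mapₗ A (Formal.modPowπ I (k + 1) M) p) := by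
        rw [Submodule.span_le]
        intro y hy
        exact hy
      exact smul_mem_ker I M p k a ha x (hspan hx)
    exact hle hx

theorem hyp2435 : Groth.Agent.Lib.FormalFn20.Hyp2435.{u} :=
  fun A _ _ m X _ _ F hF p => Groth.Agent.S2435.result A m X F hF p

open AlgebraicGeometry CategoryTheory in
/-- Let A be a Noetherian ring, I an ideal of A, X a scheme proper over Spec A, M a coherent O_X-module
and p ≥ 0. Write R_k for the kernel of H^p(X, M) → H^p(X, M/I^(k+1)M). Then there is k₀ such that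
R_(k+1) = I · R_k for all k ≥ k₀; together with the obvious inclusions I · R_k ⊆ R_(k+1) this says
that (R_k) is an I-good filtration of H^p(X, M). -/
theorem result (A : Type u) [CommRing A] [IsNoetherianRing A]
    (I : Ideal A) (X : Scheme.{u}) [X.Over (Spec (CommRingCat.of A))]
    [IsProper (X ↘ Spec (CommRingCat.of A))] (M : X.Modules) (hM : Coh.IsCoh M) (p : ℕ) :
    ∃ k₀ : ℕ, ∀ k : ℕ, k₀ ≤ k →
      ((Formal.toHHmodPow I M p (k + 1)).ker : Set (Coh.HH X M p)) =
        ((I • Submodule.span A ((Formal.toHHmodPow I M p k).ker : Set (Coh.HH X M p)) :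
          Submodule A (Coh.HH X M p)) : Set (Coh.HH X M p)) := by
  exact main hyp2435 A I X M hM p

end Groth.Agent.S4461
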