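import Groth.Statements.S4462
import Groth.Agent.Lib.FibreDictAffH44
import Groth.Agent.Lib.ModPowTensor21
import Groth.Agent.Lib.LocalVanish21

set_option autoImplicit false
universe u
open Coherent

namespace Groth.Agent.S4462

open AlgebraicGeometry CategoryTheory in
/-- Second assertion: for a local base: let A be a Noetherian local ring with maximal ideal m and closed
point y, X a scheme proper over Spec A, F a coherent O_X-module flat over Spec A and n ≥ 0 such that
H^(n+1)(X_y, F_y) = 0, where X_y is the closed fibre and F_y the restriction of F to it. Then for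
every p ≥ 0 the canonical map H^n(X, F) → H^n(X, F/m^(p+1)F) is surjective. (For a general locally
Noetherian base the published statement is about the stalk of R^n f_* F at a point; over the local
ring of that point this is the module H^n(X, F) used here.) -/
theorem result (A : Type u) [CommRing A] [IsNoetherianRing A]
    [IsLocalRing A] (X : Scheme.{u}) [X.Over (Spec (CommRingCat.of A))]
    [IsProper (X ↘ Spec (CommRingCat.of A))] (F : X.Modules) (hF : Coh.IsCoh F)
    (hfl : FlatMod.IsFlatOver (X ↘ Spec (CommRingCat.of A)) F) (n : ℕ)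
    (hvan : Subsingleton (CohIII.fiberH (X ↘ Spec (CommRingCat.of A)) F (IsLocalRing.closedPoint A) (n + 1)))
    (p : ℕ) :
    Function.Surjective (Formal.toHHmodPow (IsLocalRing.maximalIdeal A) F n p) := by
  classical
  obtain ⟨L, h1, _, h3, _, _, _, h7⟩ :=
    Groth.Agent.Lib.FibreDictAffH44.exists_model_fibre A X F hF hfl
  have hfin : ∀ i, Module.Finite A (L.X i) := fun i => (h1 i).1
  have hP : ∀ i, Module.Flat A (L.X i) := fun i => by
    have := (h1 i).2
    infer_instance
  have hd : CohIII.dRank L ((n : ℤ) + 1) (IsLocalRing.closedPoint A) = 0 := by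
    have h := h7 (IsLocalRing.closedPoint A) (n + 1)
    have h0 : CohIII.fiberRank (X ↘ Spec (CommRingCat.of A)) F (n + 1)
        (IsLocalRing.closedPoint A) = 0 := by
      unfold CohIII.fiberRank
      exact Module.finrank_zero_of_subsingleton
    rw [h0] at h
    have e : ((n + 1 : ℕ) : ℤ) = (n : ℤ) + 1 := by push_cast; rfl
    rw [e] at h
    exact h.symm
  have hepi : (CohIII.TFun L (n : ℤ)).PreservesEpimorphisms :=
    Groth.Agent.Lib.LocalVanish21.preservesEpi_of_dRank_closedPoint L hP hfin n hd
  let π := Groth.Agent.Lib.ModPowTensor21.piJ (IsLocalRing.maximalIdeal A ^ (p + 1))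
  have hπ : Epi π := (ModuleCat.epi_iff_surjective _).mpr (Submodule.mkQ_surjective _)
  have hs1 : Function.Surjective ((CohIII.TFun L (n : ℤ) ⋙
      forget₂ (ModuleCat.{u} A) AddCommGrpCat.{u}).map π).hom := by
    have h : Epi ((CohIII.TFun L (n : ℤ)).map π) := hepi.preserves π
    exact (ModuleCat.epi_iff_surjective _).mp h
  have hs2 : Function.Surjective ((CohIII.tensorAFunctor A F ⋙ CohIII.HAb X n).map π).hom :=
    ((h3 n).surjective_map_iff π).mpr hs1
  obtain ⟨e, he⟩ := Groth.Agent.Lib.ModPowTensor21.exists_iso_modPow A F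
    (IsLocalRing.maximalIdeal A) (p + 1)
  intro y
  obtain ⟨x', hx'⟩ := hs2 (((CohIII.HAb X n).map e.inv).hom y)
  refine ⟨((CohIII.HAb X n).map (Groth.Agent.Lib.TensorAModel2H44.tensorASelfIso A F).hom).hom x', ?_⟩
  have h1 : (Groth.Agent.Lib.TensorAModel2H44.tensorASelfIso A F).hom ≫
      Formal.modPowπ (IsLocalRing.maximalIdeal A) (p + 1) F =
      (CohIII.tensorAFunctor A F).map π ≫ e.hom := by
    rw [← he, Iso.hom_inv_id_assoc]
  have h2 : (CohIII.HAb X n).map (Groth.Agent.Lib.TensorAModel2H44.tensorASelfIso A F).hom ≫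
      (CohIII.HAb X n).map (Formal.modPowπ (IsLocalRing.maximalIdeal A) (p + 1) F) =
      (CohIII.tensorAFunctor A F ⋙ CohIII.HAb X n).map π ≫ (CohIII.HAb X n).map e.hom := by
    rw [← Functor.map_comp, h1, Functor.map_comp]
    rfl
  have h3' := ConcreteCategory.congr_hom h2 x'
  rw [ConcreteCategory.comp_apply, ConcreteCategory.comp_apply] at h3'
  change ((CohIII.HAb X n).map (Formal.modPowπ (IsLocalRing.maximalIdeal A) (p + 1) F)).hom _ = y
  refine h3'.trans ?_
  change ((CohIII.HAb X n).map e.hom).hom (((CohIII.tensorAFunctor A F ⋙ CohIII.HAb X n).map π).hom x') = y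
  rw [hx']
  have h4 : (CohIII.HAb X n).map e.inv ≫ (CohIII.HAb X n).map e.hom = 𝟙 _ := by
    rw [← Functor.map_comp, Iso.inv_hom_id, CategoryTheory.Functor.map_id]
  have h5 := ConcreteCategory.congr_hom h4 y
  rw [ConcreteCategory.comp_apply] at h5
  exact h5

end Groth.Agent.S4462
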