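import Groth.Statements.S4465
import Groth.Agent.Lib.ExactDer23
import Groth.Agent.Lib.RelSerreVan23
import Groth.Agent.Lib.TwistEquiv
import Groth.Agent.Lib.TensorACechH44
import Groth.Agent.Lib.H78Dual
import Groth.Agent.Lib.H90DevHub2
import Groth.Agent.Lib.H90OXModExact
import Groth.Agent.Lib.RpushRestrict

set_option autoImplicit false
universe u
open Coherent

namespace Groth.Agent.S4465

open AlgebraicGeometry CategoryTheory CategoryTheory.Limits in
theorem isEquivalence_tensorRightMod {X : Scheme.{u}} {P : X.Modules} (hP : PicF.IsInvertible P) :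
    (DCoh.tensorRightMod P).IsEquivalence := by
  obtain ⟨P', -, ⟨e'⟩⟩ := Groth.Agent.Lib.H78Dual.exists_tensor_inverse hP
  have e'' : CohB1.tensorMod P P' ≅ Coh.structureModule X :=
    Groth.Agent.Lib.OXModTensor.braiding _ P' ≪≫ e'
  have := Groth.Agent.Lib.TwistEquiv.isEquivalence_tensorLeftFunctor e''
  exact Functor.isEquivalence_of_iso (Groth.Agent.Lib.TensorACechH44.tensorRightModIso P).symm

open AlgebraicGeometry CategoryTheory CategoryTheory.Limits in
/-- Let Y be a Noetherian scheme, f : X → Y a morphism of finite type, L an invertible O_X-module ample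
relative to f and F → G → H a sequence of coherent O_X-modules which is exact at G, such that the
supports of F and of H are proper over Y. Then there is N such that for every n ≥ N the induced
sequence f_*(F(n)) → f_*(G(n)) → f_*(H(n)) of O_Y-modules is exact, where M(n) = M ⊗ L^{⊗ n}. -/
theorem result {X Y : Scheme.{u}} (f : X ⟶ Y)
    [IsNoetherian Y] [LocallyOfFiniteType f] [QuasiCompact f] (L : X.Modules) (hL : PicF.IsInvertible L)
    (hamp : RelAmple.IsRelAmple f L) (C : ShortComplex X.Modules) (hC : C.Exact)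
    (h1 : Coh.IsCoh C.X₁) (h2 : Coh.IsCoh C.X₂) (h3 : Coh.IsCoh C.X₃)
    (hs1 : ClSub.IsProperOver f (CohB1.support C.X₁)) (hs3 : ClSub.IsProperOver f (CohB1.support C.X₃)) :
    ∃ N : ℕ, ∀ n : ℕ, N ≤ n →
      (C.map (DCoh.tensorRightMod (CohB1.tensorPow L n) ⋙ Coh.push f)).Exact := by
  have := Groth.Agent.Lib.RpushRestrict.hasInjectiveResolutions X
  have : IsLocallyNoetherian X := LocallyOfFiniteType.isLocallyNoetherian f
  have : C.X₂.IsQuasicoherent := h2.1
  have hK : Coh.IsCoh (kernel C.f) := Groth.Agent.Lib.H90OXModExact.isCoh_kernel C.f h1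
  have hsK : ClSub.IsProperOver f (CohB1.support (kernel C.f)) := by
    refine Groth.Agent.Lib.ProperOver.isProperOver_of_subset f hs1 ?_
      (Groth.Agent.Lib.H90DevHub2.support_subset_of_mono (kernel.ι C.f))
    exact Groth.Agent.Lib.ModStalk.isClosed_support_of_isFT _ hK.2
  obtain ⟨N, hN⟩ := Groth.Agent.Lib.RelSerreVan23.exists_isZero_Rpush_twist f L hamp (kernel C.f) hK hsK
  refine ⟨N, fun n hn => ?_⟩
  have hT : (DCoh.tensorRightMod (CohB1.tensorPow L n)).IsEquivalence :=
    isEquivalence_tensorRightMod (Groth.Agent.Lib.H78TensorGen.isInvertible_tensorPow hL n)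
  have hCT : (C.map (DCoh.tensorRightMod (CohB1.tensorPow L n))).Exact :=
    hC.map (DCoh.tensorRightMod (CohB1.tensorPow L n))
  have hker : IsZero (((Coh.push f).rightDerived 1).obj
      (kernel (C.map (DCoh.tensorRightMod (CohB1.tensorPow L n))).f)) := by
    refine IsZero.of_iso (hN n hn 1 one_pos) ?_
    exact ((Coh.push f).rightDerived 1).mapIso
      (PreservesKernel.iso (DCoh.tensorRightMod (CohB1.tensorPow L n)) C.f).symm
  exact Groth.Agent.Lib.ExactDer23.exact_map_of_isZero_rightDerived (Coh.push f)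
    (C.map (DCoh.tensorRightMod (CohB1.tensorPow L n))) hCT hker

end Groth.Agent.S4465
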