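import Groth.Statements.S4466
import Groth.Agent.Lib.H4ProjSpaceFinite
import Mathlib.Algebra.Order.Antidiag.FinsuppEquiv
import Mathlib.RingTheory.Binomial
-- import your own Groth.Agent.* helpers here

set_option autoImplicit false
universe u
open Coherent

namespace Groth.Agent.S4466


open MvPolynomial in
theorem finrank_homogeneousSubmodule (k : Type*) [Field k] (r d : ℕ) :
    Module.finrank k ↥(homogeneousSubmodule (Fin (r + 1)) k d) = (d + r).choose r := by
  classical
  rw [homogeneousSubmodule_eq_finsupp_supported]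
  have hfin : ({e : Fin (r + 1) →₀ ℕ | e.degree = d} : Set _) =
      ↑((Finset.univ : Finset (Fin (r + 1))).finsuppAntidiag d) := by
    ext e
    simp [Finsupp.degree_eq_sum, Finset.mem_finsuppAntidiag]
  rw [hfin]
  rw [LinearEquiv.finrank_eq (AddMonoidAlgebra.supportedEquivFinsupp _)]
  rw [Module.finrank_finsupp_self]
  simp only [Finset.coe_sort_coe, Fintype.card_coe]
  rw [Finset.card_finsuppAntidiag_nat_eq_choose]
  simp only [Finset.card_univ, Fintype.card_fin]
  rw [show r + 1 + d - 1 = d + r by omega, Nat.choose_symm_add]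

open Groth.Agent.Lib.H4Twist in
theorem finrank_HH_eq_zero (k : Type u) [Field k] (r : ℕ) (n : ℤ) (j : ℕ)
    (h₀ : ¬ (j = 0 ∧ 0 ≤ n)) (hn : ¬ (j = r ∧ n ≤ -((r : ℤ) + 1))) :
    Module.finrank k (Coh.HH (CohB1.ProjSpace r k) (Twist.twistProjSpace r k n) j) = 0 := by
  have := subsingleton_HH_twist_of_not r k n j h₀ hn
  exact Module.finrank_zero_of_subsingleton

open AlgebraicGeometry CategoryTheory in
/-- Let k be a field, r > 0 and n any integer. Then the Euler characteristic of the twisting sheaf O(n)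
on projective r-space over k, namely the alternating sum of the dimensions of H^j(P^r_k, O(n)) for 0
≤ j ≤ r, equals the binomial coefficient C(n+r, r), understood as the binomial polynomial evaluated
at the integer n+r (so that it makes sense and is correct for negative n too). -/
theorem result (k : Type u) [Field k] (r : ℕ) (hr : 0 < r)
    (n : ℤ) :
    ((Finset.range (r + 1)).sum fun j => (-1 : ℤ) ^ j *
        (Module.finrank k (Coh.HH (CohB1.ProjSpace r k) (Twist.twistProjSpace r k n) j) : ℤ)) =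
      Ring.choose (n + r) r := by

  have hsplit : ∀ f : ℕ → ℤ, (Finset.range (r + 1)).sum f =
      f 0 + (Finset.range (r - 1)).sum (fun j => f (j + 1)) + f r := by
    intro f
    obtain ⟨r', rfl⟩ : ∃ r', r = r' + 1 := ⟨r - 1, by omega⟩
    rw [Finset.sum_range_succ, Finset.sum_range_succ']
    simp only [Nat.add_sub_cancel]
    ring
  rw [hsplit]
  have hmid : (Finset.range (r - 1)).sum (fun j => (-1 : ℤ) ^ (j + 1) *
      (Module.finrank k (Coh.HH (CohB1.ProjSpace r k) (Twist.twistProjSpace r k n) (j + 1)) : ℤ)) = 0 := by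
    apply Finset.sum_eq_zero
    intro j hj
    rw [Finset.mem_range] at hj
    rw [finrank_HH_eq_zero k r n (j + 1) (fun h => by omega) (fun h => by omega)]
    simp
  rw [hmid, add_zero]
  by_cases h0 : 0 ≤ n
  · obtain ⟨d, rfl⟩ : ∃ d : ℕ, n = (d : ℤ) := ⟨n.toNat, (Int.toNat_of_nonneg h0).symm⟩
    rw [finrank_HH_eq_zero k r (d : ℤ) r (fun h => by omega) (fun h => by omega)]
    rw [LinearEquiv.finrank_eq (Groth.Agent.Lib.H4Twist.gammaLinearEquiv r k d),
      finrank_homogeneousSubmodule]
    rw [show ((d : ℤ) + (r : ℤ)) = ((d + r : ℕ) : ℤ) by push_cast; ring, Ring.choose_natCast]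
    simp
  · rw [finrank_HH_eq_zero k r n 0 (fun h => h0 h.2) (fun h => by omega)]
    by_cases hn : n ≤ -((r : ℤ) + 1)
    · obtain ⟨k', rfl⟩ : ∃ k' : ℕ, n = -((r : ℤ) + 1 + k') :=
        ⟨(-n - ((r : ℤ) + 1)).toNat, by rw [Int.toNat_of_nonneg (by omega)]; ring⟩
      obtain ⟨e⟩ := Groth.Agent.Lib.H4Twist.nonempty_HH_top_equiv_homogeneous r k k'
      rw [LinearEquiv.finrank_eq e, finrank_homogeneousSubmodule]
      rw [show (-((r : ℤ) + 1 + k') + (r : ℤ)) = -((1 + k' : ℕ) : ℤ) by push_cast; ring,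
        Ring.choose_neg]
      rw [show (((1 + k' : ℕ) : ℤ) + (r : ℤ) - 1) = ((k' + r : ℕ) : ℤ) by push_cast; ring,
        Ring.choose_natCast]
      simp [Int.negOnePow_def, Units.smul_def]
    · rw [finrank_HH_eq_zero k r n r (fun h => by omega) (fun h => hn h.2)]
      obtain ⟨m, hm⟩ : ∃ m : ℕ, n + r = (m : ℤ) := ⟨(n + r).toNat, by rw [Int.toNat_of_nonneg (by omega)]⟩
      rw [hm, Ring.choose_natCast, Nat.choose_eq_zero_of_lt (by omega)]
      simp

end Groth.Agent.S4466
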