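import Groth.Statements.S4469
import Mathlib.RingTheory.ZariskisMainTheorem

set_option autoImplicit false
universe u
open CAlg

namespace Groth.Agent.S4469

/-- Let A be an integrally closed Noetherian local domain with field of fractions K, B an A-algebra of
finite type which is a domain with the same field of fractions (A → B → K compatible with A → K),
and 𝔫 a maximal ideal of B lying over the maximal ideal 𝔪 of A and minimal among the prime ideals of
B lying over 𝔪. Then B = A: the structure map A → B is bijective. -/
theorem result (A B K : Type u) [CommRing A]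
    [IsDomain A] [IsNoetherianRing A] [IsLocalRing A] [IsIntegrallyClosed A] [CommRing B] [IsDomain B]
    [Field K] [Algebra A B] [Algebra B K] [Algebra A K] [IsScalarTower A B K] [IsFractionRing A K]
    [IsFractionRing B K] [Algebra.FiniteType A B] (n : Ideal B) [n.IsMaximal]
    (hn : n.comap (algebraMap A B) = IsLocalRing.maximalIdeal A)
    (hmin : ∀ q : Ideal B, q.IsPrime → q.comap (algebraMap A B) = IsLocalRing.maximalIdeal A → q ≤ n → q = n) :
    Function.Bijective (algebraMap A B) := by
  classical
  let q : PrimeSpectrum B := ⟨n, inferInstance⟩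
  let p : PrimeSpectrum A := q.comap (algebraMap A B)
  have hp : p.asIdeal = IsLocalRing.maximalIdeal A := hn
  let e := PrimeSpectrum.preimageHomeomorphFiber A B p
  let x : PrimeSpectrum.comap (algebraMap A B) ⁻¹' {p} := ⟨q, rfl⟩
  have hft : Algebra.FiniteType p.asIdeal.ResidueField (p.asIdeal.Fiber B) := inferInstance
  have hfib_noeth : IsNoetherianRing (p.asIdeal.Fiber B) :=
    Algebra.FiniteType.isNoetherianRing p.asIdeal.ResidueField _
  have hjac : IsJacobsonRing (p.asIdeal.Fiber B) := isJacobsonRing_of_finiteType (A := p.asIdeal.ResidueField)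
  -- {x} is closed in the fibre
  have hxclosed : IsClosed ({x} : Set (PrimeSpectrum.comap (algebraMap A B) ⁻¹' {p})) := by
    have h1 : IsClosed ({q} : Set (PrimeSpectrum B)) :=
      (PrimeSpectrum.isClosed_singleton_iff_isMaximal q).2 (inferInstanceAs n.IsMaximal)
    have : ({x} : Set (PrimeSpectrum.comap (algebraMap A B) ⁻¹' {p})) = Subtype.val ⁻¹' {q} := by
      ext y
      simp [x, Subtype.ext_iff]
    rw [this]
    exact h1.preimage continuous_subtype_val
  have hxgen : StableUnderGeneralization ({x} : Set (PrimeSpectrum.comap (algebraMap A B) ⁻¹' {p})) := by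
    intro a b hba ha
    -- b ⤳ a, a = x, so b = x
    rw [Set.mem_singleton_iff] at ha ⊢
    subst ha
    have h2 : b.1 ⤳ q := hba.map continuous_subtype_val
    have h3 : b.1.asIdeal ≤ n := (PrimeSpectrum.le_iff_specializes b.1 q).2 h2
    have h4 : b.1.asIdeal.comap (algebraMap A B) = IsLocalRing.maximalIdeal A := by
      have := b.2
      rw [Set.mem_preimage, Set.mem_singleton_iff] at this
      exact (congrArg PrimeSpectrum.asIdeal this).trans hp
    have h5 := hmin b.1.asIdeal b.1.2 h4 h3
    exact Subtype.ext (PrimeSpectrum.ext h5)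
  have hopen : IsOpen ({x} : Set (PrimeSpectrum.comap (algebraMap A B) ⁻¹' {p})) := by
    rw [← e.isOpen_image, Set.image_singleton]
    have htfae := (PrimeSpectrum.isOpen_singleton_tfae_of_isNoetherian_of_isJacobsonRing (e x)).out 2 0
    refine htfae.1 ⟨?_, ?_⟩
    · rw [← Set.image_singleton, e.isClosed_image]
      exact hxclosed
    · intro a b hba ha
      rw [Set.mem_singleton_iff] at ha ⊢
      subst ha
      obtain ⟨b', rfl⟩ := e.surjective b
      have : b' ⤳ x := e.isInducing.specializes_iff.1 hba
      have := hxgen this rfl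
      rw [Set.mem_singleton_iff] at this
      rw [this]
  have hqf : Algebra.QuasiFiniteAt A n := Algebra.QuasiFiniteAt.of_isOpen_singleton_fiber q hopen
  have hzmp : Algebra.ZariskisMainProperty A n := Algebra.ZariskisMainProperty.of_finiteType n
  obtain ⟨r, hrn, hrint, hr⟩ := Algebra.zariskisMainProperty_iff.1 hzmp
  have hinjBK : Function.Injective (algebraMap B K) := IsFractionRing.injective B K
  have hinjAK : Function.Injective (algebraMap A K) := IsFractionRing.injective A K
  -- integral elements of B come from A
  have hint : ∀ b : B, IsIntegral A b → ∃ a : A, algebraMap A B a = b := by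
    intro b hb
    have hbK : IsIntegral A (algebraMap B K b) := hb.map (IsScalarTower.toAlgHom A B K)
    obtain ⟨a, ha⟩ := IsIntegrallyClosed.isIntegral_iff.1 hbK
    refine ⟨a, hinjBK ?_⟩
    rw [← IsScalarTower.algebraMap_apply, ha]
  obtain ⟨a, rfl⟩ := hint r hrint
  have ha_unit : IsUnit a := by
    by_contra hna
    have : a ∈ IsLocalRing.maximalIdeal A := (IsLocalRing.mem_maximalIdeal a).2 hna
    rw [← hn] at this
    exact hrn this
  constructor
  · intro a₁ a₂ h
    apply hinjAK
    rw [IsScalarTower.algebraMap_apply A B K, IsScalarTower.algebraMap_apply A B K, h]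
  · intro b
    obtain ⟨m, hm⟩ := hr b
    obtain ⟨a', ha'⟩ := hint _ hm
    obtain ⟨u, rfl⟩ := ha_unit
    refine ⟨((u⁻¹ : Aˣ) : A) ^ m * a', ?_⟩
    rw [map_mul, ha', map_pow, ← mul_assoc, ← mul_pow, ← map_mul]
    simp

end Groth.Agent.S4469
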