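import Groth.Statements.S4474
import Groth.Agent.Lib.CounitEpi
import Groth.Agent.Lib.H78RelAmple
import Groth.Agent.Lib.H78AmpleTwist
import Groth.Agent.Lib.H90CohRestrict
import Groth.Agent.S2325

set_option autoImplicit false
universe u
open Coherent

namespace Groth.Agent.S4474

open AlgebraicGeometry CategoryTheory in
/-- Let Y be a Noetherian scheme, f : X → Y a proper morphism, L an invertible O_X-module which is ample
relative to f, and F a coherent O_X-module. Then there is an integer N such that for every n ≥ N the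
canonical morphism f^* f_* (F(n)) → F(n), the counit of the adjunction between f^* and f_*, is an
epimorphism, where F(n) = F ⊗ L^{⊗ n}. -/
theorem result {X Y : Scheme.{u}} (f : X ⟶ Y) [IsNoetherian Y] [IsProper f]
    (L : X.Modules) (hL : PicF.IsInvertible L) (hamp : RelAmple.IsRelAmple f L) (F : X.Modules)
    (hF : Coh.IsCoh F) :
    ∃ N : ℕ, ∀ n : ℕ, N ≤ n →
      Epi ((Scheme.Modules.pullbackPushforwardAdjunction f).counit.app
        (CohB1.tensorMod F (CohB1.tensorPow L n))) := by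
  classical
  have : CompactSpace Y := inferInstance
  -- the relevant data over each affine open
  have key : ∀ V : Y.affineOpens, ∃ n₀ : ℕ, ∀ n, n₀ ≤ n →
      Curv2.IsGloballyGenerated ((CohB1.tensorMod F (CohB1.tensorPow L n)).restrict (f ⁻¹ᵁ V.1).ι) := by
    intro V
    have : CompactSpace ↥((f ⁻¹ᵁ V.1 : X.Opens) : Scheme.{u}) :=
      isCompact_iff_compactSpace.1 (QuasiCompact.isCompact_preimage (f := f) _ V.1.2 V.2.isCompact)
    have : IsAffine (V.1 : Scheme.{u}) := V.2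
    have : ((f ⁻¹ᵁ V.1 : X.Opens) : Scheme.{u}).IsSeparated := by
      refine ⟨?_⟩
      rw [← Limits.terminal.comp_from (f ∣_ V.1)]
      infer_instance
    obtain ⟨n₀, hn₀⟩ := Groth.Agent.S2325.result ((f ⁻¹ᵁ V.1 : X.Opens) : Scheme.{u})
      (L.restrict (f ⁻¹ᵁ V.1).ι) (hamp.2 V) (F.restrict (f ⁻¹ᵁ V.1).ι)
      (Groth.Agent.Lib.H90CohRestrict.isCoh_restrict _ F hF)
    refine ⟨n₀, fun n hn => ?_⟩
    refine Groth.Agent.Lib.H78AmpleTwist.isGloballyGenerated_of_iso ?_ (hn₀ n hn)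
    exact (Groth.Agent.Lib.OXModRestrict.restrictTensorIso (f ⁻¹ᵁ V.1).ι F (CohB1.tensorPow L n) ≪≫
      Groth.Agent.Lib.H78AmpleUnit.tensorModIso (Iso.refl _)
        (Groth.Agent.Lib.H78Restrict.restrictTensorPowIso (f ⁻¹ᵁ V.1).ι L n)).symm
  choose n₀ hn₀ using key
  -- a finite affine cover of `Y`
  have hcov : (Set.univ : Set Y) ⊆ ⋃ V : Y.affineOpens, ((V.1 : Y.Opens) : Set Y) := by
    intro y _
    obtain ⟨V, hV, hyV, -⟩ := TopologicalSpace.Opens.isBasis_iff_nbhd.1 Y.isBasis_affineOpens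
      (show y ∈ (⊤ : Y.Opens) from trivial)
    exact Set.mem_iUnion.2 ⟨⟨V, hV⟩, hyV⟩
  obtain ⟨t, ht⟩ := isCompact_univ.elim_finite_subcover
    (fun V : Y.affineOpens => ((V.1 : Y.Opens) : Set Y)) (fun V => V.1.2) hcov
  refine ⟨t.sup n₀, fun n hn => ?_⟩
  apply Groth.Agent.Lib.CounitEpi.epi_counit_of_locally_globGen
  intro x
  obtain ⟨V, hVt, hxV⟩ : ∃ V ∈ t, f x ∈ ((V.1 : Y.Opens) : Set Y) := by
    have := ht (Set.mem_univ (f x))
    simpa using this
  exact ⟨V.1, hxV, hn₀ V n ((Finset.le_sup hVt).trans hn)⟩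

end Groth.Agent.S4474
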