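import Groth.Statements.S4475
import Groth.Agent.Lib.KoszulPoly23
import Groth.Agent.Lib.KoszulTopLim23
import Groth.Agent.Lib.KoszulDepth
import Groth.Agent.S2423

set_option autoImplicit false
universe u
open Koszul3

namespace Groth.Agent.S4475

open Groth.Agent.Lib.KoszulPoly23 Groth.Agent.Lib.KoszulTopLim23 in
open CategoryTheory CategoryTheory.Limits in
/-- the top part, for `p = fs.length` -/
theorem free_top (A : Type u) [CommRing A] (r : ℕ) (p : ℕ)
    (hp : p = (List.ofFn (fun j : Fin (r + 1) =>
      (MvPolynomial.X j : MvPolynomial (Fin (r + 1)) A))).length) :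
    Module.Free A (RestrictScalars A (MvPolynomial (Fin (r + 1)) A)
      (CohIII.koszulHLim (List.ofFn (fun j : Fin (r + 1) => (MvPolynomial.X j : MvPolynomial (Fin (r + 1)) A)))
        (ModuleCat.of (MvPolynomial (Fin (r + 1)) A) (MvPolynomial (Fin (r + 1)) A)) p)) := by
  subst hp
  set S := MvPolynomial (Fin (r + 1)) A with hS
  set fs : List S := List.ofFn (fun j : Fin (r + 1) => (MvPolynomial.X j : S)) with hfs
  set M : ModuleCat.{u} S := ModuleCat.of S S with hM
  let e : ℕ → (M →ₗ[S] Dual A r) := fun n => LinearMap.toSpanSingleton S (Dual A r) (τ A r n)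
  have hmem : ∀ (n : ℕ) (x : M),
      x ∈ Ideal.ofList (fs.map (· ^ n)) • (⊤ : Submodule S M) ↔ (x : S) ∈ J A r n := by
    intro n x
    change x ∈ Ideal.ofList (fs.map (· ^ n)) • (⊤ : Submodule S S) ↔ _
    rw [smul_eq_mul, Ideal.mul_top]
  have he : ∀ n (x : M), x ∈ Ideal.ofList (fs.map (· ^ n)) • (⊤ : Submodule S M) → e n x = 0 := by
    intro n x hx
    exact smul_τ_eq_zero_of_mem n x ((hmem n x).1 hx)
  have hcompat : ∀ n m, n ≤ m → ∀ x : M, e m ((fs.map (· ^ (m - n))).prod • x) = e n x := by
    intro n m h x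
    change (((fs.map (· ^ (m - n))).prod * (x : S)) : S) • τ A r m = (x : S) • τ A r n
    rw [prod_map_pow_ofFn, mul_comm, mul_smul, prod_smul_τ n m h]
  have hinj : ∀ n (x : M), e n x = 0 → x ∈ Ideal.ofList (fs.map (· ^ n)) • (⊤ : Submodule S M) := by
    intro n x hx
    exact (hmem n x).2 (mem_J_of_smul_τ_eq_zero n x hx)
  let Ψ := κ M fs (Dual A r) e he hcompat
  have hΨinj : Function.Injective Ψ := κ_injective M fs (Dual A r) e he hcompat hinj
  let ΨA : RestrictScalars A S (CohIII.koszulHLim fs M fs.length) →ₗ[A] Dual A r :=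
    { toFun := fun x => Ψ ((RestrictScalars.addEquiv A S _) x)
      map_add' := fun x y => by rw [map_add, map_add]
      map_smul' := fun a x => by
        rw [RestrictScalars.addEquiv_map_smul, map_smul, RingHom.id_apply]
        exact Dual.C_smul a _ }
  have hΨAinj : Function.Injective ΨA := fun x y h =>
    (RestrictScalars.addEquiv A S _).injective (hΨinj h)
  have hrange : LinearMap.range ΨA = Submodule.span A (Set.range (co A r)) := by
    apply le_antisymm
    · rintro _ ⟨x, rfl⟩
      have hx : Ψ ((RestrictScalars.addEquiv A S _) x) ∈ LinearMap.range Ψ := ⟨_, rfl⟩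
      obtain ⟨n, q, hq⟩ := (range_κ M fs (Dual A r) e he hcompat _).1 hx
      change ΨA x ∈ _
      change Ψ ((RestrictScalars.addEquiv A S _) x) ∈ _
      rw [← hq]
      exact smul_τ_mem_span n q
    · refine Submodule.span_le.2 ?_
      rintro _ ⟨a, rfl⟩
      obtain ⟨n, q, hq⟩ := exists_co_eq_smul_τ (A := A) a
      have h1 : co A r a ∈ LinearMap.range Ψ :=
        (range_κ M fs (Dual A r) e he hcompat _).2 ⟨n, q, hq.symm⟩
      obtain ⟨x, hx⟩ := h1
      exact ⟨(RestrictScalars.addEquiv A S _).symm x, by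
        change Ψ ((RestrictScalars.addEquiv A S _) ((RestrictScalars.addEquiv A S _).symm x)) = _
        rw [AddEquiv.apply_symm_apply, hx]⟩
  have hfree : Module.Free A (Submodule.span A (Set.range (co A r))) :=
    Module.Free.of_basis (Module.Basis.span (linearIndependent_co (A := A) (r := r)))
  exact Module.Free.of_equiv
    ((LinearEquiv.ofInjective ΨA hΨAinj).trans (LinearEquiv.ofEq _ _ hrange)).symm

open Groth.Agent.Lib.KoszulPoly23 in

open CategoryTheory CategoryTheory.Limits in
/-- Let A be a ring, S = A[T_0, …, T_r] the polynomial ring and T = (T_0, …, T_r). Then the direct-limit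
Koszul cohomology H^i((T), S), the colimit over n of the Koszul cohomologies H^i(T^n, S), vanishes
for every i ≠ r + 1, and H^(r+1)((T), S) is a free A-module (the source gives an explicit basis
indexed by the monomials with all exponents positive). -/
theorem result (A : Type u) [CommRing A] (r : ℕ) :
    (∀ i : ℕ, i ≠ r + 1 →
      Subsingleton (CohIII.koszulHLim (List.ofFn (fun j : Fin (r + 1) => (MvPolynomial.X j : MvPolynomial (Fin (r + 1)) A)))
        (ModuleCat.of (MvPolynomial (Fin (r + 1)) A) (MvPolynomial (Fin (r + 1)) A)) i)) ∧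
    Module.Free A (RestrictScalars A (MvPolynomial (Fin (r + 1)) A)
      (CohIII.koszulHLim (List.ofFn (fun j : Fin (r + 1) => (MvPolynomial.X j : MvPolynomial (Fin (r + 1)) A)))
        (ModuleCat.of (MvPolynomial (Fin (r + 1)) A) (MvPolynomial (Fin (r + 1)) A)) (r + 1))) := by
  refine ⟨fun i hi => ?_, free_top A r (r + 1) (List.length_ofFn).symm⟩
  have hlev : ∀ n : ℕ, Subsingleton (CohIII.koszulHPow
      (List.ofFn (fun j : Fin (r + 1) => (MvPolynomial.X j : MvPolynomial (Fin (r + 1)) A)))
      (ModuleCat.of (MvPolynomial (Fin (r + 1)) A) (MvPolynomial (Fin (r + 1)) A)) i n) := by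
    intro n
    have hz := Groth.Agent.S2423.result
      ((List.ofFn (fun j : Fin (r + 1) => (MvPolynomial.X j : MvPolynomial (Fin (r + 1)) A))).map (· ^ n))
      (MvPolynomial (Fin (r + 1)) A) (isWeaklyRegular_pow n) i (by rw [length_pow]; exact hi)
    have hz' := Groth.Agent.Lib.KoszulDepth.isZero_homology_of_eq _ _
      ((i : ℤ) - (List.ofFn (fun j : Fin (r + 1) =>
        (MvPolynomial.X j : MvPolynomial (Fin (r + 1)) A))).length) (by rw [List.length_map]) hz
    exact ModuleCat.subsingleton_of_isZero hz'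
  refine subsingleton_of_forall_eq 0 fun x => ?_
  obtain ⟨n, y, rfl⟩ := Module.DirectLimit.exists_of x
  rw [Subsingleton.elim y 0, map_zero]
  rfl

end Groth.Agent.S4475
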