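import Groth.Statements.S4476
import Groth.Agent.Lib.HomLiftLocalH44
import Groth.Agent.Lib.FibreMonoH44

set_option autoImplicit false
universe u
attribute [local instance] HasDerivedCategory.standard
open Coherent

namespace Groth.Agent.S4476

open AlgebraicGeometry CategoryTheory in
/-- Over a local base. Let A be a Noetherian local ring with closed point y, X a scheme proper and flat
over Spec A, F and G finite locally free O_X-modules and F_y, G_y their restrictions (module
pullbacks) to the closed fibre X_y. Assume that the internal Hom functor Hom(F_y, −) exists as the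
right adjoint of F_y ⊗ − and that H^1(X_y, Hom(F_y, G_y)) = 0. Then every morphism u₀ : F_y → G_y is
the restriction to X_y of a morphism u : F → G; moreover for every such u, if u₀ is a monomorphism
(resp. an epimorphism) then u is a monomorphism (resp. an epimorphism). (Over a general locally
Noetherian base the published statements give u on the inverse image of a neighbourhood of y; over
the spectrum of a local ring that neighbourhood is the whole base.) -/
theorem result (A : Type u) [CommRing A] [IsNoetherianRing A]
    [IsLocalRing A] (X : Scheme.{u}) [X.Over (Spec (CommRingCat.of A))]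
    [IsProper (X ↘ Spec (CommRingCat.of A))] [Flat (X ↘ Spec (CommRingCat.of A))]
    (F G : X.Modules) (hF : FlatMod.IsFinLocFree F) (hG : FlatMod.IsFinLocFree G)
    [DCoh.HasSheafHom (CohIII.fiberMod (X ↘ Spec (CommRingCat.of A)) F (IsLocalRing.closedPoint A))]
    (h1 : Subsingleton (Coh.HH ((X ↘ Spec (CommRingCat.of A)).fiber (IsLocalRing.closedPoint A))
      ((DCoh.sheafHom (CohIII.fiberMod (X ↘ Spec (CommRingCat.of A)) F (IsLocalRing.closedPoint A))).obj
        (CohIII.fiberMod (X ↘ Spec (CommRingCat.of A)) G (IsLocalRing.closedPoint A))) 1))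
    (u₀ : CohIII.fiberMod (X ↘ Spec (CommRingCat.of A)) F (IsLocalRing.closedPoint A) ⟶
      CohIII.fiberMod (X ↘ Spec (CommRingCat.of A)) G (IsLocalRing.closedPoint A)) :
    (∃ u : F ⟶ G,
      (Scheme.Modules.pullback ((X ↘ Spec (CommRingCat.of A)).fiberι (IsLocalRing.closedPoint A))).map u = u₀) ∧
    ∀ u : F ⟶ G,
      (Scheme.Modules.pullback ((X ↘ Spec (CommRingCat.of A)).fiberι (IsLocalRing.closedPoint A))).map u = u₀ →
        (Mono u₀ → Mono u) ∧ (Epi u₀ → Epi u) := by
  classical
  refine ⟨Groth.Agent.Lib.HomLiftLocalH44.exists_lift_closedFibre A X F G hF hG h1 u₀, ?_⟩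
  intro u hu
  have hFc : Coh.IsCoh F := Groth.Agent.Lib.H90Invertible.isCoh_of_isFinLocFree hF
  have hGc : Coh.IsCoh G := Groth.Agent.Lib.H90Invertible.isCoh_of_isFinLocFree hG
  haveI : F.IsQuasicoherent := hFc.1
  haveI : G.IsQuasicoherent := hGc.1
  have hclosed : IsClosedMap (X ↘ Spec (CommRingCat.of A)) :=
    (X ↘ Spec (CommRingCat.of A)).isClosedMap
  -- the points of the closed fibre
  have hpt : ∀ x : X, (X ↘ Spec (CommRingCat.of A)) x = IsLocalRing.closedPoint A →
      ∃ x', (X ↘ Spec (CommRingCat.of A)).fiberι (IsLocalRing.closedPoint A) x' = x := by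
    intro x hx
    have : x ∈ Set.range ((X ↘ Spec (CommRingCat.of A)).fiberι (IsLocalRing.closedPoint A)) := by
      rw [Scheme.Hom.range_fiberι]
      exact hx
    exact this
  constructor
  · intro hmono
    haveI : IsLocallyNoetherian X :=
      LocallyOfFiniteType.isLocallyNoetherian (X ↘ Spec (CommRingCat.of A))
    have hflG : FlatMod.IsFlatOver (X ↘ Spec (CommRingCat.of A)) G :=
      Groth.Agent.Lib.HomLiftH44.isFlatOver_of_isFinLocFree _ hG
    haveI : Mono ((Scheme.Modules.pullback
        ((X ↘ Spec (CommRingCat.of A)).fiberι (IsLocalRing.closedPoint A))).map u) := by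
      rw [hu]; exact hmono
    let W : X.Opens := ⟨{x | Function.Injective (Groth.Agent.Lib.ModStalkLin.stalkLin u x)},
      Groth.Agent.Lib.FibreNakH44.isOpen_setOf_stalkLin_injective hFc u⟩
    have hW : W = ⊤ := Groth.Agent.Lib.HomLiftLocalH44.eq_top_of_closedFibre_le A _ hclosed W (by
      intro x hx
      obtain ⟨x', rfl⟩ := hpt x hx
      exact Groth.Agent.Lib.FibreMonoH44.stalkLin_injective_of_fiber _ _ hFc hGc u x' (hflG _)
        (Groth.Agent.Lib.ModStalkLin.stalkLin_injective_of_mono _ x'))
    apply Groth.Agent.Lib.ModStalkIso.mono_of_stalk_injective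
    intro x
    have hx : x ∈ W := by rw [hW]; trivial
    exact hx
  · intro hepi
    haveI : Epi ((Scheme.Modules.pullback
        ((X ↘ Spec (CommRingCat.of A)).fiberι (IsLocalRing.closedPoint A))).map u) := by
      rw [hu]; exact hepi
    let W : X.Opens := ⟨{x | Function.Surjective (Groth.Agent.Lib.ModStalkLin.stalkLin u x)},
      Groth.Agent.Lib.FibreNakH44.isOpen_setOf_stalkLin_surjective hGc u⟩
    have hW : W = ⊤ := Groth.Agent.Lib.HomLiftLocalH44.eq_top_of_closedFibre_le A _ hclosed W (by
      intro x hx
      obtain ⟨x', rfl⟩ := hpt x hx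
      exact Groth.Agent.Lib.FibreNakH44.stalkLin_surjective_of_epi_pullback _ hGc u x')
    apply Groth.Agent.Lib.ModStalkIso.epi_of_stalk_surjective
    intro x
    have hx : x ∈ W := by rw [hW]; trivial
    exact hx

end Groth.Agent.S4476
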