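import Groth.Statements.S4477
import Groth.Agent.Lib.HomLiftNhdH44
import Groth.Agent.Lib.IsoNearH44

set_option autoImplicit false
universe u
attribute [local instance] HasDerivedCategory.standard
open Coherent

namespace Groth.Agent.S4477

open AlgebraicGeometry CategoryTheory in
/-- Let Y be a locally Noetherian scheme, f : X → Y a proper flat morphism, y a point of Y, and F, G
finite locally free O_X-modules whose restrictions F_y and G_y to the fibre X_y are isomorphic (both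
isomorphic to one locally free E₀). Assume that Hom(F_y, −) exists as the right adjoint of F_y ⊗ −
and that H^1(X_y, Hom(F_y, F_y)) = 0. Then there is an open neighbourhood U of y such that the
restrictions of F and G to f⁻¹(U) are isomorphic. -/
theorem result {X Y : Scheme.{u}} (f : X ⟶ Y) [IsProper f] [Flat f]
    [IsLocallyNoetherian Y] (y : Y) (F G : X.Modules) (hF : FlatMod.IsFinLocFree F) (hG : FlatMod.IsFinLocFree G)
    [DCoh.HasSheafHom (CohIII.fiberMod f F y)]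
    (h1 : Subsingleton (Coh.HH (f.fiber y) ((DCoh.sheafHom (CohIII.fiberMod f F y)).obj (CohIII.fiberMod f F y)) 1))
    (hy : Nonempty (CohIII.fiberMod f F y ≅ CohIII.fiberMod f G y)) :
    ∃ U : Y.Opens, y ∈ U ∧ Nonempty (F.restrict (f ⁻¹ᵁ U).ι ≅ G.restrict (f ⁻¹ᵁ U).ι) := by
  classical
  obtain ⟨e⟩ := hy
  -- an affine neighbourhood of `y`
  obtain ⟨V, hV, hz⟩ : ∃ V : Y.Opens, IsAffineOpen V ∧ y ∈ V.ι ''ᵁ ⊤ := by
    obtain ⟨_, ⟨V, hV, rfl⟩, hyV, -⟩ :=
      Y.isBasis_affineOpens.exists_subset_of_mem_open (Set.mem_univ y) isOpen_univ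
    refine ⟨V, hV, ?_⟩
    rw [Scheme.Opens.ι_image_top]
    exact hyV
  -- the hypotheses for lifting `e.hom` and `e.inv`
  haveI := h1
  have h1FG : Subsingleton (Coh.HH (f.fiber y)
      ((DCoh.sheafHom (CohIII.fiberMod f F y)).obj (CohIII.fiberMod f G y)) 1) :=
    Groth.Agent.Lib.HomLiftH44.subsingleton_HH_of_iso
      ((DCoh.sheafHom (CohIII.fiberMod f F y)).mapIso e.symm) 1
  haveI : DCoh.HasSheafHom (CohIII.fiberMod f G y) :=
    Groth.Agent.Lib.HomLiftH44.hasSheafHom_of_iso e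
  obtain ⟨e2⟩ := Groth.Agent.Lib.HomLiftH44.nonempty_sheafHom_congr e.symm
    (Iso.refl (CohIII.fiberMod f F y))
  have h1GF : Subsingleton (Coh.HH (f.fiber y)
      ((DCoh.sheafHom (CohIII.fiberMod f G y)).obj (CohIII.fiberMod f F y)) 1) :=
    Groth.Agent.Lib.HomLiftH44.subsingleton_HH_of_iso e2 1
  obtain ⟨u, c, hc, hu⟩ :=
    Groth.Agent.Lib.HomLiftNhdH44.exists_lift_nhd f y hV hz F G hF hG h1FG e.hom
  obtain ⟨w, c', hc', hw⟩ :=
    Groth.Agent.Lib.HomLiftNhdH44.exists_lift_nhd f y hV hz G F hG hF h1GF e.inv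
  set g := Groth.Agent.Lib.HomLiftNhdH44.gV f y hV hz with hg
  set j := (f ⁻¹ᵁ V).ι with hj
  haveI : IsIso ((Scheme.Modules.pullback g).map u) := by rw [hu]; infer_instance
  haveI : IsIso ((Scheme.Modules.pullback g).map w) := by rw [hw]; infer_instance
  haveI : Epi ((Scheme.Modules.pullback g).map (u ≫ w)) := by
    rw [Functor.map_comp]; infer_instance
  haveI : Epi ((Scheme.Modules.pullback g).map (w ≫ u)) := by
    rw [Functor.map_comp]; infer_instance
  -- coherence of the restrictions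
  have hFc : Coh.IsCoh (F.restrict j) := Groth.Agent.Lib.H90CohRestrict.isCoh_restrict _ F
    (Groth.Agent.Lib.H90Invertible.isCoh_of_isFinLocFree hF)
  have hGc : Coh.IsCoh (G.restrict j) := Groth.Agent.Lib.H90CohRestrict.isCoh_restrict _ G
    (Groth.Agent.Lib.H90Invertible.isCoh_of_isFinLocFree hG)
  haveI : (F.restrict j).IsQuasicoherent := hFc.1
  haveI : (G.restrict j).IsQuasicoherent := hGc.1
  -- the locus where `u ≫ w` and `w ≫ u` are surjective on stalks
  let W₁ : (f ⁻¹ᵁ V).toScheme.Opens :=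
    ⟨{x | Function.Surjective (Groth.Agent.Lib.ModStalkLin.stalkLin (u ≫ w) x)},
      Groth.Agent.Lib.FibreNakH44.isOpen_setOf_stalkLin_surjective hFc (u ≫ w)⟩
  let W₂ : (f ⁻¹ᵁ V).toScheme.Opens :=
    ⟨{x | Function.Surjective (Groth.Agent.Lib.ModStalkLin.stalkLin (w ≫ u) x)},
      Groth.Agent.Lib.FibreNakH44.isOpen_setOf_stalkLin_surjective hGc (w ≫ u)⟩
  have hgW : ∀ x' : f.fiber y, g x' ∈ W₁ ⊓ W₂ := fun x' =>
    ⟨Groth.Agent.Lib.FibreNakH44.stalkLin_surjective_of_epi_pullback g hFc (u ≫ w) x',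
      Groth.Agent.Lib.FibreNakH44.stalkLin_surjective_of_epi_pullback g hGc (w ≫ u) x'⟩
  have hbij : ∀ t : (f ⁻¹ᵁ V).toScheme, t ∈ W₁ ⊓ W₂ →
      Function.Bijective (Groth.Agent.Lib.ModStalkLin.stalkLin u t) := by
    intro t ht
    haveI := Groth.Agent.Lib.CohFinite.finite_stalk_of_isCoh (F.restrict j) hFc t
    haveI := Groth.Agent.Lib.CohFinite.finite_stalk_of_isCoh (G.restrict j) hGc t
    apply Groth.Agent.Lib.IsoNearH44.bijective_of_surjective_comp
      (Groth.Agent.Lib.ModStalkLin.stalkLin u t) (Groth.Agent.Lib.ModStalkLin.stalkLin w t)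
    · rw [← Groth.Agent.Lib.ModStalkLin.stalkLin_comp]; exact ht.1
    · rw [← Groth.Agent.Lib.ModStalkLin.stalkLin_comp]; exact ht.2
  -- the neighbourhood
  obtain ⟨U₀, hyU₀, hU₀⟩ := Groth.Agent.Lib.IsoNearH44.exists_nhd_preimage_le f f.isClosedMap y
    (j ''ᵁ (W₁ ⊓ W₂)) (by
      intro x hx
      have hx' : x ∈ Set.range (f.fiberι y) := by
        rw [Scheme.Hom.range_fiberι]
        exact hx
      obtain ⟨x', rfl⟩ := hx'
      refine ⟨g x', hgW x', ?_⟩
      rw [← Groth.Agent.Lib.HomLiftNhdH44.gV_ι f y hV hz]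
      rfl)
  refine ⟨U₀ ⊓ V.ι ''ᵁ ⊤, ⟨hyU₀, hz⟩, ?_⟩
  have hle : f ⁻¹ᵁ (U₀ ⊓ V.ι ''ᵁ ⊤) ≤ f ⁻¹ᵁ V := by
    rw [Scheme.Opens.ι_image_top]
    exact fun x hx => hx.2
  refine Groth.Agent.Lib.IsoNearH44.nonempty_restrict_iso_of_stalk_bijective hle u
    (fun t ht => hbij t ?_)
  have h3 : j t ∈ j ''ᵁ (W₁ ⊓ W₂) := hU₀ ht.1
  obtain ⟨t', ht', htt⟩ := h3
  have h4 : t' = t := j.isOpenEmbedding.injective htt
  rwa [h4] at ht'

end Groth.Agent.S4477
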