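import Groth.Statements.S4478
import Groth.Agent.Lib.FormalTransfer23b
import Groth.Agent.Lib.FormalTransfer23c
import Groth.Agent.Lib.ProperSupport23
import Groth.Agent.Lib.FormalFn20
import Groth.Agent.S2435
import Groth.Agent.S0837

set_option autoImplicit false
universe u
open Coherent

namespace Groth.Agent.S4478

open AlgebraicGeometry CategoryTheory in
theorem main (H1 : Groth.Agent.Lib.FormalFn20.Hyp2435.{u}) (H2 : Groth.Agent.Lib.FormalFn20.Hyp0837.{u})
    (A : Type u) [CommRing A] [IsNoetherianRing A] (I : Ideal A)
    (X : Scheme.{u}) [X.Over (Spec (CommRingCat.of A))]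
    [LocallyOfFiniteType (X ↘ Spec (CommRingCat.of A))]
    (F : X.Modules) (hF : Coh.IsCoh F)
    (hs : ClSub.IsProperOver (X ↘ Spec (CommRingCat.of A)) (CohB1.support F)) (p : ℕ) :
    Nonempty (AdicCompletion I (Coh.HH X F p) ≃+ Formal.HHlim I F p) := by
  obtain ⟨K, hproper, -, hiso, hN⟩ :=
    Groth.Agent.Lib.ProperSupport23.exists_ideal_of_isProperOver
      (X ↘ Spec (CommRingCat.of A)) F hF hs
  let Over_Z : K.subscheme.Over (Spec (CommRingCat.of A)) :=
    ⟨K.subschemeι ≫ (X ↘ Spec (CommRingCat.of A))⟩
  have hover : K.subschemeι.IsOver (Spec (CommRingCat.of A)) := ⟨rfl⟩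
  have hproper' : IsProper (K.subscheme ↘ Spec (CommRingCat.of A)) := hproper
  let φ : F ≅ (Scheme.Modules.pushforward K.subschemeι).obj
      ((Scheme.Modules.pullback K.subschemeι).obj F) :=
    asIso ((Scheme.Modules.pullbackPushforwardAdjunction K.subschemeι).unit.app F)
  obtain ⟨e, -⟩ := Groth.Agent.Lib.FormalFn20.exists_addEquiv_HHlim H1 H2 A I K.subscheme
    ((Scheme.Modules.pullback K.subschemeι).obj F) hN p
  obtain ⟨L⟩ := Groth.Agent.Lib.FormalTransfer23.nonempty_limEquiv I K.subschemeι φ p
  exact ⟨(Groth.Agent.Lib.FormalTransfer23.completionEquiv I K.subschemeι φ p).trans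
    (e.trans L.symm)⟩

theorem hyp2435 : Groth.Agent.Lib.FormalFn20.Hyp2435.{u} :=
  fun A _ _ m X _ _ F hF p => Groth.Agent.S2435.result A m X F hF p

theorem hyp0837 : Groth.Agent.Lib.FormalFn20.Hyp0837.{u} :=
  fun A _ _ I X _ _ F hF p => Groth.Agent.S0837.result A I X F hF p

open AlgebraicGeometry CategoryTheory in
/-- The comparison statement extended to modules with proper support, over an affine base. Let A be a
Noetherian ring, I an ideal of A, X a scheme of finite type over Spec A and F a coherent O_X-module
whose support is proper over Spec A. Then for every p the I-adic completion of H^p(X, F) is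
isomorphic, as an additive group, to the inverse limit of the groups H^p(X, F/I^(n+1)F). (The source
proves that the canonical map is a topological isomorphism; only the existence of an additive
isomorphism is asserted, as for the proper case.) -/
theorem result (A : Type u) [CommRing A] [IsNoetherianRing A] (I : Ideal A)
    (X : Scheme.{u}) [X.Over (Spec (CommRingCat.of A))]
    [LocallyOfFiniteType (X ↘ Spec (CommRingCat.of A))] [QuasiCompact (X ↘ Spec (CommRingCat.of A))]
    (F : X.Modules) (hF : Coh.IsCoh F)
    (hs : ClSub.IsProperOver (X ↘ Spec (CommRingCat.of A)) (CohB1.support F)) (p : ℕ) :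
    Nonempty (AdicCompletion I (Coh.HH X F p) ≃+ Formal.HHlim I F p) := by
  exact main hyp2435 hyp0837 A I X F hF hs p

end Groth.Agent.S4478
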