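import Groth.Statements.S4481
import Groth.Agent.Lib.CechUnit92
import Groth.Agent.Lib.CechTransfer

set_option autoImplicit false
universe u
open Coherent

namespace Groth.Agent.S4481

open AlgebraicGeometry CategoryTheory Opposite TopologicalSpace Limits in
/-- The image functor of an open immersion preserves the finite products appearing in Čech
complexes. -/
theorem isIso_piComparison_opensFunctor {X : Scheme.{u}} (U : X.Opens) {ι : Type u}
    (V : ι → (U : Scheme.{u}).Opens) (n : ℕ) (a : Fin (n + 1) → ι) :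
    IsIso (piComparison U.ι.opensFunctor (fun k => V (a k))) := by
  have hle : (∏ᶜ fun k => U.ι.opensFunctor.obj (V (a k))) ≤
      U.ι.opensFunctor.obj (∏ᶜ fun k => V (a k)) := by
    intro x hx
    have h1 : ∀ k, x ∈ U.ι.opensFunctor.obj (V (a k)) := fun k =>
      (Pi.π (fun k => U.ι.opensFunctor.obj (V (a k))) k).le hx
    obtain ⟨y, hy0, rfl⟩ := h1 0
    have h2 : (⨅ k, V (a k)) ≤ ∏ᶜ fun k => V (a k) :=
      (Pi.lift (fun k => homOfLE (iInf_le (fun k => V (a k)) k))).le
    refine ⟨y, h2 ?_, rfl⟩
    rw [← SetLike.mem_coe, Opens.coe_iInf, Set.mem_iInter]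
    intro k
    obtain ⟨y', hy', hyy'⟩ := h1 k
    have : y' = y := U.ι.isOpenEmbedding.injective hyy'
    rw [← this]
    exact hy'
  exact ⟨⟨homOfLE hle, Subsingleton.elim _ _, Subsingleton.elim _ _⟩⟩

open AlgebraicGeometry CategoryTheory Opposite in
/-- Let X be a separated scheme, f_1, …, f_n global functions on X such that every open X_{f_i} is
quasi-compact, U the union of the X_{f_i}, and suppose there are sections g_1, …, g_n of O_X over U
with Σ g_i · (f_i|_U) = 1. Then for every quasi-coherent O_X-module G and every p > 0 the Čech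
cohomology group of G in degree p with respect to the family of opens (X_{f_i}) is zero. (The
published statement also covers a scheme whose underlying space is Noetherian, not necessarily
separated; this row treats separated X.) -/
theorem result (X : Scheme.{u}) [X.IsSeparated] (n : ℕ)
    (f : Fin n → Γ(X, ⊤)) (hqc : ∀ i, IsCompact (X.basicOpen (f i) : Set X))
    (g : Fin n → Γ(X, ⨆ i, X.basicOpen (f i)))
    (hg : (Finset.univ.sum fun i => g i *
      (X.presheaf.map (homOfLE (le_top : (⨆ i, X.basicOpen (f i)) ≤ ⊤)).op).hom (f i)) = 1)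
    (G : X.Modules) [Coh.IsQCoh G] (p : ℕ) (hp : 0 < p) :
    Limits.IsZero (CohB1.cechH (fun i : ULift.{u} (Fin n) => X.basicOpen (f i.down)) G p) := by
  obtain ⟨q, rfl⟩ : ∃ q, p = q + 1 := ⟨p - 1, by omega⟩
  -- the quasi-compact separated open `U`
  set U : X.Opens := ⨆ i, X.basicOpen (f i) with hU
  haveI : CompactSpace (U : Scheme.{u}) := by
    have h1 : ((U : X.Opens) : Set X) = ⋃ i, (X.basicOpen (f i) : Set X) := by
      rw [hU, TopologicalSpace.Opens.coe_iSup]
    have h2 : IsCompact ((U : X.Opens) : Set X) := by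
      rw [h1]
      exact isCompact_iUnion hqc
    exact isCompact_iff_compactSpace.mp h2
  haveI : (U : Scheme.{u}).IsSeparated := by
    refine ⟨?_⟩
    have h : U.ι ≫ Limits.terminal.from X = Limits.terminal.from (U : Scheme.{u}) :=
      Limits.terminal.comp_from _
    rw [← h]
    infer_instance
  haveI : Coh.IsQCoh ((Scheme.Modules.restrictFunctor U.ι).obj G) := by
    infer_instance
  -- functions on `U`
  let φ : Γ(X, ⊤) →+* Γ((U : Scheme.{u}), ⊤) := U.ι.appTop.hom
  set fs : List Γ((U : Scheme.{u}), ⊤) := List.ofFn (fun i => φ (f i)) with hfs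
  have hlen : fs.length = n := List.length_ofFn
  have hget : ∀ i : Fin fs.length, fs.get i = φ (f (Fin.cast hlen i)) := by
    intro i
    simp [hfs]
    rfl
  -- unit ideal
  have hunit : Ideal.ofList fs = ⊤ := by
    rw [Ideal.eq_top_iff_one]
    have h1 := congrArg (U.topIso.inv).hom hg
    rw [map_sum, map_one] at h1
    rw [← h1]
    refine Ideal.sum_mem _ fun i _ => ?_
    rw [map_mul]
    refine Ideal.mul_mem_left _ _ (Ideal.subset_span ?_)
    have h2 : (U.topIso.inv).hom ((X.presheaf.map (homOfLE (le_top : U ≤ ⊤)).op).hom (f i)) =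
        φ (f i) := by
      change (X.presheaf.map _ ≫ X.presheaf.map _).hom (f i) = (X.presheaf.map _).hom (f i)
      rw [← X.presheaf.map_comp]
      rfl
    change (U.topIso.inv).hom ((X.presheaf.map (homOfLE (le_top : U ≤ ⊤)).op).hom (f i)) ∈
      {a | a ∈ fs}
    rw [h2]
    exact List.mem_ofFn.mpr ⟨i, rfl⟩
  -- family on `U`
  let V : ULift.{u} (Fin n) → (U : Scheme.{u}).Opens :=
    fun i => U.ι ⁻¹ᵁ X.basicOpen (f i.down)
  have hV : ∀ i : Fin fs.length,
      V ⟨Fin.cast hlen i⟩ = (U : Scheme.{u}).basicOpen (fs.get i) := by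
    intro i
    rw [hget]
    exact Scheme.preimage_basicOpen_top U.ι (f (Fin.cast hlen i))
  have hz := Groth.Agent.Lib.CechUnit92.isZero_cechH_of_span_eq_top' (U : Scheme.{u})
    ((Scheme.Modules.restrictFunctor U.ι).obj G) fs hunit q n hlen V hV
  -- transfer to `X`
  have hfam : (fun i : ULift.{u} (Fin n) => U.ι.opensFunctor.obj (V i)) =
      fun i : ULift.{u} (Fin n) => X.basicOpen (f i.down) := by
    funext i
    change U.ι ''ᵁ (U.ι ⁻¹ᵁ X.basicOpen (f i.down)) = _
    rw [Scheme.Hom.image_preimage_eq_opensRange_inf, Scheme.Opens.opensRange_ι]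
    exact inf_eq_right.mpr (le_iSup (fun i => X.basicOpen (f i)) i.down)
  have key := (Groth.Agent.Lib.CechTransfer.isZero_homology_iff U.ι.opensFunctor V G.presheaf
    (isIso_piComparison_opensFunctor U V) (q + 1)).mpr hz
  rw [hfam] at key
  exact key

end Groth.Agent.S4481
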