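import Groth.Statements.S4484
import Groth.Agent.S2421
import Groth.Agent.Lib.ConnFib5K
import Groth.Agent.Lib.UnibranchCount84

set_option autoImplicit false
universe u
open Coherent

namespace Groth.Agent.S4484

set_option maxHeartbeats 800000
set_option linter.style.haveILetI false

open AlgebraicGeometry CategoryTheory in
/-- Let X and Y be locally Noetherian integral schemes and f : X → Y a proper dominant morphism; regard
the function field R(X) as an extension of R(Y) through f. Suppose that the algebraic closure of
R(Y) in R(X) has finite separable degree n over R(Y). Then for every point y of Y whose local ring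
is unibranch, the fibre X_y has finitely many, and at most n, connected components. -/
theorem result {X Y : Scheme.{u}} [IsIntegral X]
    [IsIntegral Y] [IsLocallyNoetherian X] [IsLocallyNoetherian Y] (f : X ⟶ Y) [IsProper f]
    (hdom : f.base (genericPoint X) ⤳ genericPoint Y) [Algebra Y.functionField X.functionField]
    (halg : algebraMap Y.functionField X.functionField = CohIII.stalkToFunctionField f (genericPoint Y) hdom)
    (n : ℕ) (hn0 : 0 < n)
    (hn : Field.finSepDegree Y.functionField ↥(algebraicClosure Y.functionField X.functionField) = n)
    (y : Y) (hy : CAlg2.IsUnibranch (Y.presheaf.stalk y)) :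
    Finite (_root_.ConnectedComponents ↥(f.fiber y)) ∧
      Nat.card (_root_.ConnectedComponents ↥(f.fiber y)) ≤ n := by
  classical
  have hdom' : f.base (genericPoint X) = genericPoint Y :=
    (hdom.antisymm ((genericPoint_spec Y).specializes trivial)).eq
  have h : f.base (genericPoint X) ⤳ y := hdom' ▸ (genericPoint_spec Y).specializes trivial
  have hle := Groth.Agent.S2421.result f hdom' y h
  -- the algebra
  let R := integralClosure (Y.presheaf.stalk y) Y.functionField
  haveI : IsLocalRing R :=
    Groth.Agent.Lib.UnibranchCount84.isLocalRing_integralClosure_of_isUnibranch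
      (Y.presheaf.stalk y) Y.functionField hy
  haveI : IsIntegrallyClosed R :=
    integralClosure.isIntegrallyClosedOfFiniteExtension Y.functionField
  haveI : IsFractionRing R Y.functionField :=
    integralClosure.isFractionRing_of_finite_extension Y.functionField Y.functionField
  letI : Algebra (Y.presheaf.stalk y) X.functionField :=
    (CohIII.stalkToFunctionField f y h).toAlgebra
  haveI : IsScalarTower (Y.presheaf.stalk y) Y.functionField X.functionField := by
    refine IsScalarTower.of_algebraMap_eq' ?_
    rw [halg]
    exact Groth.Agent.Lib.ConnFib5.stalkToFunctionField_eq_comp f y hdom h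
  haveI : IsScalarTower R Y.functionField X.functionField :=
    IsScalarTower.of_algebraMap_eq (fun _ => rfl)
  haveI : IsScalarTower (Y.presheaf.stalk y) R X.functionField :=
    IsScalarTower.of_algebraMap_eq (fun a =>
      IsScalarTower.algebraMap_apply (Y.presheaf.stalk y) Y.functionField X.functionField a)
  obtain ⟨hfin, hcard⟩ :=
    Groth.Agent.Lib.UnibranchCount84.card_maximalSpectrum_integralClosure_le R Y.functionField
      X.functionField n hn0 hn
  -- compare the two integral closures
  have hmem : ∀ x : integralClosure R X.functionField,
      (x : X.functionField) ∈ CohIII.integralClosureStalk f y h := by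
    intro x
    have hx : IsIntegral R (x : X.functionField) := x.2
    exact isIntegral_trans (R := Y.presheaf.stalk y) (A := R) _ hx
  let ψ : integralClosure R X.functionField →+* CohIII.integralClosureStalk f y h :=
    (integralClosure R X.functionField).val.toRingHom.codRestrict _ hmem
  have hψ : Function.Surjective ψ := by
    intro c
    have hc : IsIntegral (Y.presheaf.stalk y) (c : X.functionField) := c.2
    exact ⟨⟨c, hc.tower_top⟩, Subtype.ext rfl⟩
  let Φ : MaximalSpectrum (CohIII.integralClosureStalk f y h) →
      MaximalSpectrum (integralClosure R X.functionField) :=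
    fun P => ⟨P.asIdeal.comap ψ, by
      haveI := P.isMaximal
      exact Ideal.comap_isMaximal_of_surjective ψ hψ⟩
  have hΦ : Function.Injective Φ := fun P P' hPP' =>
    MaximalSpectrum.ext (Ideal.comap_injective_of_surjective ψ hψ
      (congrArg MaximalSpectrum.asIdeal hPP'))
  haveI : Finite (MaximalSpectrum (CohIII.integralClosureStalk f y h)) :=
    Finite.of_injective Φ hΦ
  have hcard' : Nat.card (MaximalSpectrum (CohIII.integralClosureStalk f y h)) ≤ n :=
    (Nat.card_le_card_of_injective Φ hΦ).trans hcard
  obtain ⟨emb⟩ := (Cardinal.le_def _ _).mp hle
  exact ⟨Finite.of_injective emb emb.injective,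
    (Nat.card_le_card_of_injective emb emb.injective).trans hcard'⟩

end Groth.Agent.S4484
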