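import Groth.Statements.S4488
import Groth.Agent.Lib.TFunCompareRank
import Groth.Agent.Lib.TFunLocalVanish
import Groth.Agent.Lib.TFunFinite
import Groth.Agent.Lib.FibRankReduced

set_option autoImplicit false
universe u
open FlatCx

namespace Groth.Agent.S4488

section Helpers
open CategoryTheory CategoryTheory.Limits CohIII Groth.Agent.Lib.TFun Groth.Agent.Lib.TFunRank

section
variable {A : Type u} [CommRing A] {ι : Type} {c : ComplexShape ι}
  (P : HomologicalComplex (ModuleCat.{u} A) c)

theorem isZero_TFun_obj_of_isZero (q : ι) (h : IsZero (P.X q)) (M : ModuleCat.{u} A) :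
    IsZero ((TFun P q).obj M) := by
  have h1 : IsZero ((tensorObj P M).X q) :=
    Functor.map_isZero (MonoidalCategory.tensorRight M) h
  exact ShortComplex.isZero_homology_of_isZero_X₂ _ h1

end

theorem forward {A : Type u} [CommRing A] [IsLocalRing A]
    (P : ChainComplex (ModuleCat.{u} A) ℤ) (hP : ∀ i, Module.Flat A (P.X i))
    (q : ℤ) (hfp : Module.FinitePresentation A (CohIII.T P q (ModuleCat.of A A)))
    (hm : (CohIII.TFun P q).PreservesMonomorphisms) (he : (CohIII.TFun P q).PreservesEpimorphisms)
    (x : PrimeSpectrum A) :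
    CohIII.dRank P q x = CohIII.dRank P q (IsLocalRing.closedPoint A) := by
  rw [Groth.Agent.Lib.TFunCompare.dRank_eq_fibRank_of_preservesEpi P q hP he x,
    Groth.Agent.Lib.TFunCompare.dRank_eq_fibRank_of_preservesEpi P q hP he _]
  have e := isoTensorLeftOfPreservesEpi P q hP he
  have hm' : (MonoidalCategory.tensorLeft
      ((CohIII.TFun P q).obj (ModuleCat.of A A))).PreservesMonomorphisms :=
    Functor.PreservesMonomorphisms.of_iso e.symm
  have hfl : Module.Flat A ((CohIII.TFun P q).obj (ModuleCat.of A A)) :=
    flat_of_preservesMono_tensorLeft _ hm'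
  have hfp' : Module.FinitePresentation A ((CohIII.TFun P q).obj (ModuleCat.of A A)) := hfp
  have hspec : x ⤳ IsLocalRing.closedPoint A :=
    (PrimeSpectrum.le_iff_specializes x _).mp (IsLocalRing.le_maximalIdeal_of_isPrime x.asIdeal)
  exact hspec.mem_open ((isLocallyConstant_fibRank
    ((CohIII.TFun P q).obj (ModuleCat.of A A))).isOpen_fiber _) rfl

theorem backward_step {A : Type u} [CommRing A] [IsLocalRing A] [IsReduced A]
    (P : ChainComplex (ModuleCat.{u} A) ℤ) (hP : ∀ i, Module.Flat A (P.X i))
    (q : ℤ) (hfp : Module.FinitePresentation A (CohIII.T P q (ModuleCat.of A A)))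
    (hprev : (CohIII.TFun P (q - 1)).PreservesMonomorphisms)
    (h : ∀ x : PrimeSpectrum A, x.asIdeal ∈ minimalPrimes A →
      CohIII.dRank P q x = CohIII.dRank P q (IsLocalRing.closedPoint A)) :
    (CohIII.TFun P q).PreservesMonomorphisms ∧ (CohIII.TFun P q).PreservesEpimorphisms := by
  have hrel : (ComplexShape.down ℤ).Rel q (q - 1) := by
    show q - 1 + 1 = q
    ring
  have he : (CohIII.TFun P q).PreservesEpimorphisms :=
    (preservesEpi_iff_preservesMono P hP q (q - 1) hrel).mpr hprev
  refine ⟨?_, he⟩
  have hfp' : Module.FinitePresentation A ((CohIII.TFun P q).obj (ModuleCat.of A A)) := hfp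
  have hfin : Module.Finite A ((CohIII.TFun P q).obj (ModuleCat.of A A)) := inferInstance
  have hfl : Module.Flat A ((CohIII.TFun P q).obj (ModuleCat.of A A)) := by
    apply flat_of_fibRank_eq_minimalPrimes
    intro x hx
    rw [← Groth.Agent.Lib.TFunCompare.dRank_eq_fibRank_of_preservesEpi P q hP he x,
      ← Groth.Agent.Lib.TFunCompare.dRank_eq_fibRank_of_preservesEpi P q hP he _]
    exact h x hx
  have e := isoTensorLeftOfPreservesEpi P q hP he
  have hm' : (MonoidalCategory.tensorLeft
      ((CohIII.TFun P q).obj (ModuleCat.of A A))).PreservesMonomorphisms :=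
    preservesMono_tensorLeft_of_flat _
  exact Functor.PreservesMonomorphisms.of_iso e

end Helpers


open CategoryTheory CategoryTheory.Limits in
/-- For the homological functor T_q(M) = H_q(P ⊗_A M) of a chain complex P of flat modules over a
commutative local ring A with residue field k. Suppose P_i = 0 for i < i₀ and that every T_n(A) is a
finitely presented A-module, and let p be an integer. If T_q takes injections to injections and
surjections to surjections for every q ≤ p, then dim_{k(x)} T_q(k(x)) = dim_k T_q(k) for every point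
x of Spec A and every q ≤ p. Conversely, if A is reduced and this equality holds at the generic
point of every irreducible component of Spec A (every minimal prime) for every q ≤ p, then T_q takes
injections to injections and surjections to surjections for every q ≤ p. No Noetherian hypothesis on
A. -/
theorem result {A : Type u} [CommRing A] [IsLocalRing A]
    (P : ChainComplex (ModuleCat.{u} A) ℤ) (hP : ∀ i, Module.Flat A (P.X i)) (i₀ : ℤ)
    (hb : ∀ i < i₀, IsZero (P.X i))
    (hfp : ∀ n : ℤ, Module.FinitePresentation A (CohIII.T P n (ModuleCat.of A A))) (p : ℤ) :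
    ((∀ q ≤ p, (CohIII.TFun P q).PreservesMonomorphisms ∧ (CohIII.TFun P q).PreservesEpimorphisms) →
        ∀ (x : PrimeSpectrum A), ∀ q ≤ p, CohIII.dRank P q x = CohIII.dRank P q (IsLocalRing.closedPoint A)) ∧
      (IsReduced A →
        (∀ x : PrimeSpectrum A, x.asIdeal ∈ minimalPrimes A →
          ∀ q ≤ p, CohIII.dRank P q x = CohIII.dRank P q (IsLocalRing.closedPoint A)) →
        ∀ q ≤ p, (CohIII.TFun P q).PreservesMonomorphisms ∧ (CohIII.TFun P q).PreservesEpimorphisms) := by
  refine ⟨fun h x q hq => forward P hP q (hfp q) (h q hq).1 (h q hq).2 x, fun hred h => ?_⟩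
  have key : ∀ n : ℕ, ∀ q : ℤ, q < i₀ + n → q ≤ p →
      (CohIII.TFun P q).PreservesMonomorphisms ∧ (CohIII.TFun P q).PreservesEpimorphisms := by
    intro n
    induction n with
    | zero =>
      intro q hq _
      have hz : ∀ M, IsZero ((CohIII.TFun P q).obj M) :=
        fun M => isZero_TFun_obj_of_isZero P q (hb q (by simpa using hq)) M
      exact ⟨Groth.Agent.Lib.TFun.preservesMono_of_isZero_obj _ hz,
        Groth.Agent.Lib.TFun.preservesEpi_of_isZero_obj _ hz⟩
    | succ n ih =>
      intro q hq hqp
      have hprev := (ih (q - 1) (by push_cast at hq; omega) (by omega)).1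
      exact backward_step P hP q (hfp q) hprev (fun x hx => h x hx q hqp)
  intro q hq
  have hq' : q < i₀ + ((q - i₀ + 1).toNat : ℕ) := by omega
  exact key _ q hq' hq

end Groth.Agent.S4488
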