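import Groth.Statements.S4489
import Groth.Agent.Lib.TFunOpcycles
import Groth.Agent.Lib.TFunFlat
import Mathlib.RingTheory.Flat.TorsionFree

set_option autoImplicit false
universe u
open FlatCx

namespace Groth.Agent.S4489

open CategoryTheory CategoryTheory.Limits Groth.Agent.Lib

section ded

variable {A : Type u} [CommRing A] [IsDedekindDomain A]

theorem flat_iff_tf (M : Type u) [AddCommGroup M] [Module A M] :
    Module.Flat A M ↔ ∀ (r : A) (m : M), r • m = 0 → r = 0 ∨ m = 0 := by
  rw [IsDedekindDomain.flat_iff_torsion_eq_bot, ← Submodule.isTorsionFree_iff_torsion_eq_bot,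
    Module.isTorsionFree_iff_smul_eq_zero]

variable {ι : Type} {c : ComplexShape ι} (P : HomologicalComplex (ModuleCat.{u} A) c) (p : ι)

theorem flat_homology_iff_flat_opcycles (hnext : Module.Flat A (P.X (c.next p))) :
    Module.Flat A (P.homology p) ↔ Module.Flat A (P.opcycles p) := by
  have hinj : Function.Injective (P.homologyι p).hom :=
    (ModuleCat.mono_iff_injective _).mp inferInstance
  let S : ShortComplex (ModuleCat.{u} A) :=
    ShortComplex.mk (P.homologyι p) (P.fromOpcycles p (c.next p))
      (P.homologyι_comp_fromOpcycles p (c.next p))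
  have hS : S.Exact := ShortComplex.exact_of_f_is_kernel _ (P.homologyIsKernel p _ rfl)
  have hex : ∀ x : P.opcycles p, (P.fromOpcycles p (c.next p)).hom x = 0 →
      ∃ h : P.homology p, (P.homologyι p).hom h = x :=
    (ShortComplex.moduleCat_exact_iff S).mp hS
  rw [flat_iff_tf, flat_iff_tf]
  rw [flat_iff_tf] at hnext
  constructor
  · intro hH r x hrx
    by_cases hr : r = 0
    · exact Or.inl hr
    · right
      have h1 : r • (P.fromOpcycles p (c.next p)).hom x = 0 := by
        rw [← map_smul, hrx, map_zero]
      have h2 := (hnext r _ h1).resolve_left hr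
      obtain ⟨h, rfl⟩ := hex x h2
      have h3 : (P.homologyι p).hom (r • h) = 0 := by
        rw [map_smul]; exact hrx
      have h4 : r • h = 0 := hinj (h3.trans (map_zero _).symm)
      rw [(hH r h h4).resolve_left hr, map_zero]
  · intro hC r h hrh
    by_cases hr : r = 0
    · exact Or.inl hr
    · right
      have h1 : r • (P.homologyι p).hom h = 0 := by
        rw [← map_smul, hrh, map_zero]
      have h2 := (hC r _ h1).resolve_left hr
      exact hinj (h2.trans (map_zero _).symm)

end ded


open CategoryTheory CategoryTheory.Limits in
/-- For the homological functor T_p(M) = H_p(P ⊗_A M) of a chain complex P of flat modules, stated over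
a Dedekind domain A. (The published statement allows A to be a finite product of Dedekind domains,
that is, a Noetherian regular ring of dimension at most 1; this row takes A a Dedekind domain.) Then
T_p takes injections to injections if and only if H_p(P) is a flat A-module; and, with q + 1 = p,
T_p takes injections to injections and surjections to surjections if and only if H_p(P) and H_q(P)
are both flat. -/
theorem result {A : Type u} [CommRing A] [IsDedekindDomain A]
    (P : ChainComplex (ModuleCat.{u} A) ℤ) (hP : ∀ i, Module.Flat A (P.X i)) (p q : ℤ) (hpq : q + 1 = p) :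
    ((CohIII.TFun P p).PreservesMonomorphisms ↔ Module.Flat A (P.homology p)) ∧
      (((CohIII.TFun P p).PreservesMonomorphisms ∧ (CohIII.TFun P p).PreservesEpimorphisms) ↔
        (Module.Flat A (P.homology p) ∧ Module.Flat A (P.homology q))) := by
  have h1 : (CohIII.TFun P p).PreservesMonomorphisms ↔ Module.Flat A (P.homology p) := by
    rw [TFun.preservesMono_iff_flat_opcycles P p (hP _), flat_homology_iff_flat_opcycles P p (hP _)]
  have h2 : (CohIII.TFun P q).PreservesMonomorphisms ↔ Module.Flat A (P.homology q) := by
    rw [TFun.preservesMono_iff_flat_opcycles P q (hP _), flat_homology_iff_flat_opcycles P q (hP _)]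
  have hrel : (ComplexShape.down ℤ).Rel p q := hpq
  have h3 := TFun.preservesEpi_iff_preservesMono P hP p q hrel
  refine ⟨h1, ?_⟩
  rw [h1, h3, h2]

end Groth.Agent.S4489
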