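import Groth.Statements.S4491
import Groth.Agent.Lib.TFun

set_option autoImplicit false
universe u
open FlatCx

namespace Groth.Agent.S4491

open CategoryTheory CategoryTheory.Limits Groth.Agent.Lib

theorem inj_aux {A : Type u} [CommRing A]
    (P : ChainComplex (ModuleCat.{u} A) ℤ) (hP : ∀ i, Module.Flat A (P.X i)) (p q : ℤ) (hpq : q + 1 = p)
    (hex : (CohIII.TFun P p).PreservesEpimorphisms) (M : ModuleCat.{u} A) (f : A)
    (hf : Function.Injective (fun x : M => f • x)) :
    Function.Injective (fun y : CohIII.T P q M => f • y) := by
  -- the short exact sequence 0 → M → M → M / f M → 0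
  let φ : M →ₗ[A] M := f • LinearMap.id
  let S : ShortComplex (ModuleCat.{u} A) :=
    ShortComplex.mk (ModuleCat.ofHom φ) (ModuleCat.ofHom (LinearMap.range φ).mkQ) (by
      ext x
      simp)
  have hS : S.ShortExact := ModuleCat.shortComplex_shortExact S
    (LinearMap.exact_map_mkQ_range φ) hf (Submodule.mkQ_surjective _)
  have hrel : (ComplexShape.down ℤ).Rel p q := hpq
  have hepi : Epi S.g := hS.epi_g
  have hepi' : Epi ((CohIII.TFun P p).map S.g) := inferInstance
  have hδ : TFun.δ P hP S hS p q hrel = 0 := by
    rw [← cancel_epi ((CohIII.TFun P p).map S.g), TFun.comp_δ, comp_zero]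
  have hex1 := TFun.exact₁ P hP S hS p q hrel
  have hmono : Mono ((CohIII.TFun P q).map S.f) := by
    have := hex1.mono_g (by simpa using hδ)
    exact this
  have hinj := (ModuleCat.mono_iff_injective _).mp hmono
  have hSf : S.f = f • 𝟙 M := by
    ext x
    simp [S, φ]
  rw [hSf, Functor.map_smul, CategoryTheory.Functor.map_id] at hinj
  intro y y' hyy'
  apply hinj
  have h2 : ∀ z : CohIII.T P q M, (f • 𝟙 ((CohIII.TFun P q).obj M) : _ ⟶ _) z = f • z := by
    intro z
    simp
    rfl
  exact (h2 y).trans (hyy'.trans (h2 y').symm)

open CategoryTheory CategoryTheory.Limits in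
/-- For the homological functor T_i(M) = H_i(P ⊗_A M) of a chain complex P of flat modules over a
commutative ring A. Let q + 1 = p and suppose T_p takes surjections to surjections. If
multiplication by f ∈ A is injective on an A-module M, then multiplication by f is injective on
T_q(M). In particular, when A is a domain, T_q(A) is torsion-free. -/
theorem result {A : Type u} [CommRing A]
    (P : ChainComplex (ModuleCat.{u} A) ℤ) (hP : ∀ i, Module.Flat A (P.X i)) (p q : ℤ) (hpq : q + 1 = p)
    (hex : (CohIII.TFun P p).PreservesEpimorphisms) :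
    (∀ (M : ModuleCat.{u} A) (f : A), Function.Injective (fun x : M => f • x) →
        Function.Injective (fun y : CohIII.T P q M => f • y)) ∧
      (IsDomain A → NoZeroSMulDivisors A (CohIII.T P q (ModuleCat.of A A))) := by
  refine ⟨fun M f hf => inj_aux P hP p q hpq hex M f hf, ?_⟩
  intro hdom
  refine ⟨?_⟩
  intro f y hfy
  by_cases hf0 : f = 0
  · exact Or.inl hf0
  · right
    have hinj : Function.Injective (fun x : (ModuleCat.of A A) => f • x) := by
      intro a b hab
      exact mul_left_cancel₀ hf0 hab
    have := inj_aux P hP p q hpq hex (ModuleCat.of A A) f hinj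
    apply this
    simpa using hfy

end Groth.Agent.S4491
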