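import Groth.Statements.S4494
import Groth.Agent.Lib.TorBC
import Groth.Agent.S3537
-- import your own Groth.Agent.* helpers here

set_option autoImplicit false
universe u
open HTor

namespace Groth.Agent.S4494

open CategoryTheory MonoidalCategory Limits TensorProduct
open Groth.Agent.Lib.TorLES Groth.Agent.Lib.TorBalance Groth.Agent.Lib.TFunCompare
  Groth.Agent.Lib.TorBC


/-- Case of complexes reduced to single modules (to which the flat base change reduces). Let A → A' be a
ring map making A' a flat A-module, P' an A'-module (viewed also as an A-module) and Q an A-module.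
Then for every n there is a bijective map Tor_n^A(P', Q) → Tor_n^{A'}(P', A' ⊗_A Q), semilinear over
A → A'. (Tor is Mathlib's, left derived in the second variable. The published statement gives a
canonical isomorphism for hypertor of complexes bounded below; this row asserts, for single modules,
that a semilinear bijection exists.) -/
theorem result (A A' : Type u) [CommRing A] [CommRing A']
    [Algebra A A'] [Module.Flat A A'] (P' : Type u) [AddCommGroup P'] [Module A' P'] [Module A P']
    [IsScalarTower A A' P'] (Q : Type u) [AddCommGroup Q] [Module A Q] (n : ℕ) :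
    ∃ φ : DRing.Tor A n P' Q →ₛₗ[algebraMap A A'] DRing.Tor A' n P' (TensorProduct A A' Q),
      Function.Bijective φ := by
  have hP' : ∀ q : ℕ, 0 < q → IsZero (((Tor (ModuleCat.{u} A) q).obj (ModuleCat.of A Q)).obj
      (ModuleCat.of A A')) := fun q hq => by
    obtain ⟨m, rfl⟩ : ∃ m, q = m + 1 := ⟨q - 1, by omega⟩
    exact isZero_tor_succ_of_flat_right (ModuleCat.of A A') m (ModuleCat.of A Q)
  obtain ⟨e2⟩ := tor_bc A' (ModuleCat.of A Q) hP' (ModuleCat.of A' P') n
  obtain ⟨e0⟩ := tor_symm (ModuleCat.of A P') (ModuleCat.of A Q) n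
  let e1 := ((Tor (ModuleCat.{u} A) n).obj (ModuleCat.of A Q)).mapIso
    (Groth.Agent.S3537.restrictIso A A' P')
  obtain ⟨e3⟩ := tor_symm ((FB (A := A) A').obj (ModuleCat.of A Q)) (ModuleCat.of A' P') n
  let e4 := ((Tor (ModuleCat.{u} A') n).obj (ModuleCat.of A' P')).mapIso
    (Groth.Agent.Lib.FlatBaseChangeD.objIso (A := A) (B := A') Q)
  exact exists_semilinear_of_iso A' (e0 ≪≫ e1 ≪≫ e2 ≪≫ (RB (A := A) A').mapIso (e3 ≪≫ e4))

end Groth.Agent.S4494
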