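import Groth.Statements.S4495
import Mathlib.Topology.Sheaves.CommRingCat
import Mathlib.Topology.Connected.Clopen

set_option autoImplicit false
universe u
open FlatCx

namespace Groth.Agent.S4495

open CategoryTheory AlgebraicGeometry Opposite TopologicalSpace

/-- In a local ring, if `a * b = 0` and `a + b = 1` then `a` is a unit iff `b` is not. -/
theorem isUnit_xor {R : Type*} [CommRing R] [IsLocalRing R] {a b : R} (hab : a * b = 0)
    (hsum : a + b = 1) : (IsUnit a ∧ b = 0) ∨ (IsUnit b ∧ a = 0) := by
  rcases IsLocalRing.isUnit_or_isUnit_of_add_one hsum with h | h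
  · left
    refine ⟨h, ?_⟩
    obtain ⟨u, rfl⟩ := h
    simpa using hab
  · right
    refine ⟨h, ?_⟩
    obtain ⟨u, rfl⟩ := h
    rw [mul_comm] at hab
    simpa using hab

/-- The locus where a global section is invertible. -/
def D (Z : LocallyRingedSpace.{u}) (e : Z.presheaf.obj (op ⊤)) : Set Z :=
  {x | IsUnit (Z.presheaf.Γgerm x e)}

theorem isOpen_D (Z : LocallyRingedSpace.{u}) (e : Z.presheaf.obj (op ⊤)) : IsOpen (D Z e) := by
  have : D Z e = (Z.toRingedSpace.basicOpen e).1 := by
    ext x
    exact (RingedSpace.mem_top_basicOpen Z.toRingedSpace e x).symm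
  rw [this]
  exact (Z.toRingedSpace.basicOpen e).2

open CategoryTheory AlgebraicGeometry Opposite in
/-- A locally ringed space Z is connected, in the sense that it is not the disjoint union of two
nonempty open subsets (the empty space being allowed), if and only if every idempotent of the ring
of global sections Γ(Z, O_Z) is 0 or 1 (equivalently, Γ(Z, O_Z) is not isomorphic to a product of
two nonzero rings). -/
theorem result (Z : LocallyRingedSpace.{u}) :
    PreconnectedSpace Z ↔
      ∀ e : Z.presheaf.obj (op ⊤), IsIdempotentElem e → e = 0 ∨ e = 1 := by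
  constructor
  · intro hZ e he
    have key : ∀ x : Z, (IsUnit (Z.presheaf.Γgerm x e) ∧ Z.presheaf.Γgerm x (1 - e) = 0) ∨
        (IsUnit (Z.presheaf.Γgerm x (1 - e)) ∧ Z.presheaf.Γgerm x e = 0) := by
      intro x
      apply isUnit_xor
      · rw [← map_mul, mul_sub, mul_one, he.eq, sub_self, map_zero]
      · rw [← map_add, add_sub_cancel, map_one]
    -- the basic open of `e` is clopen
    have hclopen : IsClopen (D Z e) := by
      refine ⟨?_, isOpen_D Z e⟩
      have : (D Z e)ᶜ = D Z (1 - e) := by
        ext x
        simp only [Set.mem_compl_iff, D, Set.mem_ofPred_eq]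
        constructor
        · intro hx
          rcases key x with h | h
          · exact absurd h.1 hx
          · exact h.1
        · intro hx hx'
          rcases key x with h | h
          · rw [h.2] at hx
            exact not_isUnit_zero hx
          · rw [h.2] at hx'
            exact not_isUnit_zero hx'
      rw [← isOpen_compl_iff, this]
      exact isOpen_D Z (1 - e)
    rcases isClopen_iff.mp hclopen with h | h
    · left
      refine TopCat.Presheaf.section_ext Z.sheaf ⊤ e 0 ?_
      intro x hx
      have hx' : ¬ IsUnit (Z.presheaf.Γgerm x e) := by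
        intro hmem
        have : x ∈ D Z e := hmem
        rw [h] at this
        exact this
      rcases key x with h' | h'
      · exact absurd h'.1 hx'
      · rw [map_zero]
        exact h'.2
    · right
      refine TopCat.Presheaf.section_ext Z.sheaf ⊤ e 1 ?_
      intro x hx
      have hx' : IsUnit (Z.presheaf.Γgerm x e) := by
        have : x ∈ D Z e := by
          rw [h]; exact Set.mem_univ x
        exact this
      rcases key x with h' | h'
      · have h2 := h'.2
        rw [map_sub, map_one, sub_eq_zero] at h2
        rw [map_one]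
        exact h2.symm
      · rw [h'.2] at hx'
        exact absurd hx' not_isUnit_zero
  · intro h
    rw [preconnectedSpace_iff_clopen]
    intro s hs
    let U : Opens Z := ⟨s, hs.isOpen⟩
    let V : Opens Z := ⟨sᶜ, hs.compl.isOpen⟩
    have hUV : U ⊓ V = ⊥ := by
      ext x
      simp [U, V]
    have hcover : (⊤ : Opens Z) ≤ U ⊔ V := by
      intro x _
      by_cases hx : x ∈ s
      · exact Or.inl hx
      · exact Or.inr hx
    -- the pair (1, 0) is compatible on the empty intersection
    let pr : RingHom.eqLocus
      (RingHom.comp (Z.sheaf.obj.map (homOfLE inf_le_left : U ⊓ V ⟶ U).op).hom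
        (RingHom.fst (Z.sheaf.obj.obj <| op U) (Z.sheaf.obj.obj <| op V)))
      (RingHom.comp (Z.sheaf.obj.map (homOfLE inf_le_right : U ⊓ V ⟶ V).op).hom
        (RingHom.snd (Z.sheaf.obj.obj <| op U) (Z.sheaf.obj.obj <| op V))) :=
      ⟨(1, 0), by
        refine TopCat.Presheaf.section_ext Z.sheaf (U ⊓ V) _ _ ?_
        intro x hx
        rw [hUV] at hx
        exact absurd hx (by simp)⟩
    let e' : Z.presheaf.obj (op (U ⊔ V)) := (Z.sheaf.objSupIsoProdEqLocus U V).inv pr
    have he'U : Z.presheaf.map (homOfLE le_sup_left).op e' = 1 :=
      Z.sheaf.objSupIsoProdEqLocus_inv_fst U V pr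
    have he'V : Z.presheaf.map (homOfLE le_sup_right).op e' = 0 :=
      Z.sheaf.objSupIsoProdEqLocus_inv_snd U V pr
    have he'idem : e' * e' = e' := by
      have hpr : pr * pr = pr := by
        apply Subtype.ext
        simp [pr]
      have := congrArg (fun t => (Z.sheaf.objSupIsoProdEqLocus U V).inv t) hpr
      simp only [map_mul] at this
      exact this
    let e : Z.presheaf.obj (op ⊤) := Z.presheaf.map (homOfLE hcover).op e'
    have heidem : IsIdempotentElem e := by
      change e * e = e
      have := congrArg (fun t => Z.presheaf.map (homOfLE hcover).op t) he'idem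
      simp only [map_mul] at this
      exact this
    have hgermU : ∀ x (hx : x ∈ U), Z.presheaf.Γgerm x e = 1 := by
      intro x hx
      have h1 : Z.presheaf.Γgerm x e = Z.presheaf.germ (U ⊔ V) x (Or.inl hx) e' :=
        TopCat.Presheaf.germ_res_apply Z.presheaf (homOfLE hcover) x trivial e'
      have h2 : Z.presheaf.germ U x hx (Z.presheaf.map (homOfLE le_sup_left).op e') =
          Z.presheaf.germ (U ⊔ V) x (Or.inl hx) e' :=
        TopCat.Presheaf.germ_res_apply Z.presheaf (homOfLE le_sup_left) x hx e'
      rw [h1, ← h2, he'U, map_one]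
    have hgermV : ∀ x (hx : x ∈ V), Z.presheaf.Γgerm x e = 0 := by
      intro x hx
      have h1 : Z.presheaf.Γgerm x e = Z.presheaf.germ (U ⊔ V) x (Or.inr hx) e' :=
        TopCat.Presheaf.germ_res_apply Z.presheaf (homOfLE hcover) x trivial e'
      have h2 : Z.presheaf.germ V x hx (Z.presheaf.map (homOfLE le_sup_right).op e') =
          Z.presheaf.germ (U ⊔ V) x (Or.inr hx) e' :=
        TopCat.Presheaf.germ_res_apply Z.presheaf (homOfLE le_sup_right) x hx e'
      rw [h1, ← h2, he'V, map_zero]
    rcases h e heidem with h0 | h1
    · left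
      rw [Set.eq_empty_iff_forall_notMem]
      intro x hx
      have := hgermU x hx
      rw [h0, map_zero] at this
      exact zero_ne_one this
    · right
      rw [Set.eq_univ_iff_forall]
      intro x
      by_contra hx
      have := hgermV x hx
      rw [h1, map_one] at this
      exact one_ne_zero this

end Groth.Agent.S4495
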