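import Groth.Statements.S4499
import Groth.Agent.Lib.UCTCore
import Groth.Agent.Lib.TorOne
import Groth.Agent.Lib.TorBalance
import Mathlib.Algebra.Homology.ShortComplex.ModuleCat
-- import your own Groth.Agent.* helpers here

set_option autoImplicit false
universe u
attribute [local instance] HasDerivedCategory.standard
open FlatCx

namespace Groth.Agent.S4499

open CategoryTheory MonoidalCategory Limits TensorProduct
open Groth.Agent.Lib.UCTCore Groth.Agent.Lib.TorOne Groth.Agent.Lib.TorLES

variable {A : Type u} [CommRing A] {P₁ P₀ : Type u} [AddCommGroup P₁] [Module A P₁]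
  [AddCommGroup P₀] [Module A P₀] (d : P₁ →ₗ[A] P₀) (M : Type u) [AddCommGroup M] [Module A M]

/-- `0 → ker d → P₁ → range d → 0` -/
noncomputable def ses1 : ShortComplex (ModuleCat.{u} A) :=
  ShortComplex.mk (ModuleCat.ofHom (LinearMap.ker d).subtype) (ModuleCat.ofHom d.rangeRestrict) (by
    rw [← ModuleCat.ofHom_comp]
    have : d.rangeRestrict ∘ₗ (LinearMap.ker d).subtype = 0 := by
      ext x
      exact x.2
    rw [this]
    rfl)

lemma ses1_shortExact : (ses1 d).ShortExact :=
  ModuleCat.shortComplex_shortExact _ (exact_sub_rangeRestrict d)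
    (LinearMap.ker d).injective_subtype (LinearMap.surjective_rangeRestrict d)

/-- `0 → range d → P₀ → coker d → 0` -/
noncomputable def ses2 : ShortComplex (ModuleCat.{u} A) :=
  ShortComplex.mk (ModuleCat.ofHom (LinearMap.range d).subtype)
    (ModuleCat.ofHom (LinearMap.range d).mkQ) (by
    rw [← ModuleCat.ofHom_comp]
    have : (LinearMap.range d).mkQ ∘ₗ (LinearMap.range d).subtype = 0 := by
      ext x
      simp
    rw [this]
    rfl)

lemma ses2_shortExact : (ses2 d).ShortExact :=
  ModuleCat.shortComplex_shortExact _ (LinearMap.exact_subtype_mkQ _)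
    (LinearMap.range d).injective_subtype (Submodule.mkQ_surjective _)

lemma sub_comp_zero : d ∘ₗ (LinearMap.ker d).subtype = 0 := by
  ext x
  exact x.2

/-- part (1) -/
noncomputable def part1 [Module.Flat A P₁] [Module.Flat A P₀] :
    LinearMap.ker ((LinearMap.ker d).subtype.rTensor M) ≃ₗ[A]
      ((Tor (ModuleCat.{u} A) 2).obj (ModuleCat.of A (P₀ ⧸ LinearMap.range d))).obj
        (ModuleCat.of A M) := by
  haveI : Module.Flat A (ses1 d).X₂ := (inferInstance : Module.Flat A P₁)
  haveI : Module.Flat A (ses2 d).X₂ := (inferInstance : Module.Flat A P₀)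
  exact (tor1Equiv (ses1_shortExact d) (ModuleCat.of A M)).symm ≪≫ₗ
    (Groth.Agent.Lib.TorBalance.δIso (ses2_shortExact d) (ModuleCat.of A M) 0).symm.toLinearEquiv

lemma beta_bijective :
    Function.Bijective (beta M (LinearMap.ker d).subtype d (sub_comp_zero d)) := by
  refine ⟨?_, beta_surjective M _ d _⟩
  rw [injective_iff_map_eq_zero]
  intro y hy
  obtain ⟨z, rfl⟩ := (exact_alpha_beta M _ d (sub_comp_zero d) y).mp hy
  obtain ⟨z, rfl⟩ := Submodule.Quotient.mk_surjective _ z
  have hsurj : Function.Surjective (toCyc (LinearMap.ker d).subtype d (sub_comp_zero d)) := by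
    intro x
    exact ⟨x, Subtype.ext rfl⟩
  obtain ⟨w, rfl⟩ := LinearMap.rTensor_surjective M hsurj z
  have : (Submodule.Quotient.mk ((toCyc (LinearMap.ker d).subtype d (sub_comp_zero d)).rTensor M w) :
      Q1 M (LinearMap.ker d).subtype d (sub_comp_zero d)) = 0 := by
    rw [Submodule.Quotient.mk_eq_zero]
    exact ⟨w, rfl⟩
  rw [this, map_zero]

/-- part (3) -/
noncomputable def part3 [Module.Flat A P₀] :
    (↥(LinearMap.ker (d.rTensor M)) ⧸
        Submodule.comap (LinearMap.ker (d.rTensor M)).subtype
          (LinearMap.range ((LinearMap.ker d).subtype.rTensor M))) ≃ₗ[A]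
      ((Tor (ModuleCat.{u} A) 1).obj (ModuleCat.of A (P₀ ⧸ LinearMap.range d))).obj
        (ModuleCat.of A M) := by
  haveI : Module.Flat A (ses2 d).X₂ := (inferInstance : Module.Flat A P₀)
  refine Submodule.quotEquivOfEq _ _ ?_ ≪≫ₗ
    LinearEquiv.ofBijective (beta M (LinearMap.ker d).subtype d (sub_comp_zero d))
      (beta_bijective d M) ≪≫ₗ
    (tor1Equiv (ses2_shortExact d) (ModuleCat.of A M)).symm
  exact (LinearMap.range_codRestrict _ _ _).symm


/-- Let A be a Noetherian local ring with residue field k, and d : P₁ → P₀ an A-linear map between flat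
A-modules, viewed as a two-term chain complex, so that H₁ = Ker d, H₀ = Coker d and H₁ of the
complex tensored with k is Ker(d ⊗ 1_k). Let α : (Ker d) ⊗_A k → P₁ ⊗_A k be the map induced by the
inclusion Ker d → P₁; its image lies in Ker(d ⊗ 1_k). Then there is an exact sequence 0 →
Tor₂^A(Coker d, k) → (Ker d) ⊗_A k → Ker(d ⊗ 1_k) → Tor₁^A(Coker d, k) → 0 with middle map α, stated
here as: Ker α is isomorphic to Tor₂^A(Coker d, k), and the quotient of Ker(d ⊗ 1_k) by the image of
α is isomorphic to Tor₁^A(Coker d, k) (existence of A-linear isomorphisms only; Tor is Mathlib's,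
left derived in the second variable). (In the published statement the cokernel is printed without
its prime, as the module of 0-cycles; the proof is about the cokernel of d.) -/
theorem result {A : Type u} [CommRing A] [IsNoetherianRing A]
    [IsLocalRing A] {P₁ P₀ : Type u} [AddCommGroup P₁] [Module A P₁] [AddCommGroup P₀] [Module A P₀]
    [Module.Flat A P₁] [Module.Flat A P₀] (d : P₁ →ₗ[A] P₀) :
    Nonempty (LinearMap.ker ((LinearMap.ker d).subtype.rTensor (IsLocalRing.ResidueField A)) ≃ₗ[A]
        DRing.Tor A 2 (P₀ ⧸ LinearMap.range d) (IsLocalRing.ResidueField A)) ∧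
      LinearMap.range ((LinearMap.ker d).subtype.rTensor (IsLocalRing.ResidueField A)) ≤
        LinearMap.ker (d.rTensor (IsLocalRing.ResidueField A)) ∧
      Nonempty ((↥(LinearMap.ker (d.rTensor (IsLocalRing.ResidueField A))) ⧸
          Submodule.comap (LinearMap.ker (d.rTensor (IsLocalRing.ResidueField A))).subtype
            (LinearMap.range ((LinearMap.ker d).subtype.rTensor (IsLocalRing.ResidueField A)))) ≃ₗ[A]
        DRing.Tor A 1 (P₀ ⧸ LinearMap.range d) (IsLocalRing.ResidueField A)) := by
  refine ⟨⟨part1 d _⟩, ?_, ⟨part3 d _⟩⟩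
  rintro _ ⟨x, rfl⟩
  rw [LinearMap.mem_ker, ← LinearMap.comp_apply, ← LinearMap.rTensor_comp, sub_comp_zero,
    LinearMap.rTensor_zero, LinearMap.zero_apply]

end Groth.Agent.S4499
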