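import Groth.Statements.S4500
import Groth.Agent.S4498
import Groth.Agent.Lib.HomDualH44

set_option autoImplicit false
universe u
attribute [local instance] HasDerivedCategory.standard
open Coherent

namespace Groth.Agent.S4500

open AlgebraicGeometry CategoryTheory CategoryTheory.Limits Opposite
open Groth.Agent.Lib.OXModTensor Groth.Agent.Lib.DualFLF23 Groth.Agent.Lib.HomDualH44
open Groth.Agent.Lib.K2cGamma21

section Aux

variable (A : Type u) [CommRing A] {X : Scheme.{u}} [X.Over (Spec (CommRingCat.of A))] (F : X.Modules)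

/-- `M ↦ f^*(M~)` -/
noncomputable abbrev pullA : ModuleCat.{u} A ⥤ X.Modules :=
  tilde.functor (CommRingCat.of A) ⋙ Scheme.Modules.pullback (X ↘ Spec (CommRingCat.of A))

theorem tensorMap_eq {M M' N N' : X.Modules} (f : M ⟶ M') (g : N ⟶ N') :
    KoszTw.tensorMap f g = tensorModMap f g :=
  (KoszTw.tensorMap_eq_sheafify f g).trans rfl

theorem tensorA_map {M N : ModuleCat.{u} A} (ψ : M ⟶ N) :
    (CohIII.tensorAFunctor A F).map ψ = tensorModMap ((pullA A (X := X)).map ψ) (𝟙 F) :=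
  (KoszTw.tensorRightMod_map _ _).trans (tensorMap_eq _ _)

/-- elements of `Γ(X, N)` as an `A`-module are sections -/
def toΓ {N : X.Modules} (x : (CohIII.globalSectionsA A).obj N) : Γ(N, ⊤) := x

/-- sections are elements of `Γ(X, N)` as an `A`-module -/
def ofΓ {N : X.Modules} (x : Γ(N, ⊤)) : (CohIII.globalSectionsA A).obj N := x

theorem toΓ_ofΓ {N : X.Modules} (x : Γ(N, ⊤)) : toΓ A (ofΓ A x) = x := rfl
theorem ofΓ_toΓ {N : X.Modules} (x : (CohIII.globalSectionsA A).obj N) : ofΓ A (toΓ A x) = x := rfl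
theorem toΓ_add {N : X.Modules} (x y : (CohIII.globalSectionsA A).obj N) :
    toΓ A (x + y) = toΓ A x + toΓ A y := rfl
theorem ofΓ_add {N : X.Modules} (x y : Γ(N, ⊤)) : ofΓ A (x + y) = ofΓ A x + ofΓ A y := rfl
theorem ofΓ_zero {N : X.Modules} : ofΓ A (0 : Γ(N, ⊤)) = 0 := rfl
theorem toΓ_zero {N : X.Modules} : toΓ A (0 : (CohIII.globalSectionsA A).obj N) = 0 := rfl
theorem toΓ_map {N N' : X.Modules} (g : N ⟶ N') (x : (CohIII.globalSectionsA A).obj N) :
    toΓ A (((CohIII.globalSectionsA A).map g).hom x) = g.app ⊤ (toΓ A x) := rfl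
theorem ofΓ_injective {N : X.Modules} : Function.Injective (ofΓ A (N := N)) := fun _ _ h => h
theorem toΓ_injective {N : X.Modules} : Function.Injective (toΓ A (N := N)) := fun _ _ h => h

variable {E : X.Modules} (hE : FlatMod.IsFinLocFree E)

/-- `Hom(E, F ⊗_A M) ≃+ Γ(X, (F ⊗ E^∨) ⊗_A M)` -/
noncomputable def cmp (M : ModuleCat.{u} A) :
    (E ⟶ (CohIII.tensorAFunctor A F).obj M) ≃+
      Γ((CohIII.tensorAFunctor A (CohB1.tensorMod F (dual E))).obj M, ⊤) :=
  (homSec hE ((CohIII.tensorAFunctor A F).obj M)).trans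
    (secAssoc ((pullA A (X := X)).obj M) F (dual E))

theorem cmp_natural {M N : ModuleCat.{u} A} (ψ : M ⟶ N) (φ : E ⟶ (CohIII.tensorAFunctor A F).obj M) :
    cmp A F hE N (φ ≫ (CohIII.tensorAFunctor A F).map ψ) =
      ((CohIII.tensorAFunctor A (CohB1.tensorMod F (dual E))).map ψ).app ⊤ (cmp A F hE M φ) := by
  change secAssoc _ F (dual E) (homSec hE _ (φ ≫ (CohIII.tensorAFunctor A F).map ψ)) = _
  rw [homSec_comp, tensorA_map, tensorA_map]
  exact secAssoc_natural F (dual E) ((pullA A (X := X)).map ψ) _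

end Aux

open AlgebraicGeometry CategoryTheory CategoryTheory.Limits Opposite in
/-- The global form over an affine base. Let A be a Noetherian ring, X a proper A-scheme with structure
morphism f, F a coherent O_X-module flat over Spec A, and G an O_X-module admitting a presentation
E₁ → E₀ → G → 0 with E₀, E₁ finite locally free O_X-modules. Then there are a finitely generated
A-module N and an isomorphism of functors of the A-module M between Hom_{O_X}(G, f^*(M~) ⊗ F) and
Hom_A(N, M) (as abelian-group-valued functors). (N is then unique up to unique isomorphism.) -/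
theorem result (A : Type u) [CommRing A] [IsNoetherianRing A]
    (X : Scheme.{u}) [X.Over (Spec (CommRingCat.of A))] [IsProper (X ↘ Spec (CommRingCat.of A))]
    (F : X.Modules) (hF : Coh.IsCoh F) (hfl : FlatMod.IsFlatOver (X ↘ Spec (CommRingCat.of A)) F)
    (G E₀ E₁ : X.Modules) (h₀ : FlatMod.IsFinLocFree E₀) (h₁ : FlatMod.IsFinLocFree E₁)
    (v : E₁ ⟶ E₀) (π : E₀ ⟶ G) [Epi π] (w : v ≫ π = 0) (hex : (ShortComplex.mk v π w).Exact) :
    ∃ N : ModuleCat.{u} A, Module.Finite A N ∧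
      Nonempty (CohIII.tensorAFunctor A F ⋙ preadditiveCoyoneda.obj (op G) ≅
        (linearCoyoneda A (ModuleCat.{u} A)).obj (op N) ⋙ forget₂ (ModuleCat.{u} A) AddCommGrpCat.{u}) := by
  classical
  have hF₀ : Coh.IsCoh (CohB1.tensorMod F (dual E₀)) := isCoh_tensorMod_dual hF h₀
  have hF₁ : Coh.IsCoh (CohB1.tensorMod F (dual E₁)) := isCoh_tensorMod_dual hF h₁
  haveI := hF.1
  haveI := hF₀.1
  haveI := hF₁.1
  have hfl₀ : FlatMod.IsFlatOver (X ↘ Spec (CommRingCat.of A)) (CohB1.tensorMod F (dual E₀)) :=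
    isFlatOver_tensorMod_of_isFinLocFree _ F (dual E₀) (isFinLocFree_dual h₀) hfl
  have hfl₁ : FlatMod.IsFlatOver (X ↘ Spec (CommRingCat.of A)) (CohB1.tensorMod F (dual E₁)) :=
    isFlatOver_tensorMod_of_isFinLocFree _ F (dual E₁) (isFinLocFree_dual h₁) hfl
  -- the natural transformation induced by `v`
  let ηfun : ∀ M : ModuleCat.{u} A, (gammaA A (CohB1.tensorMod F (dual E₀))).obj M →
      (gammaA A (CohB1.tensorMod F (dual E₁))).obj M :=
    fun M x => ofΓ A (cmp A F h₁ M (v ≫ (cmp A F h₀ M).symm (toΓ A x)))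
  have ηnat : ∀ {M N : ModuleCat.{u} A} (ψ : M ⟶ N)
      (x : (gammaA A (CohB1.tensorMod F (dual E₀))).obj M),
      ηfun N (((gammaA A (CohB1.tensorMod F (dual E₀))).map ψ).hom x) =
        ((gammaA A (CohB1.tensorMod F (dual E₁))).map ψ).hom (ηfun M x) := by
    intro M N ψ x
    have h1 : (cmp A F h₀ N).symm
        (toΓ A (((gammaA A (CohB1.tensorMod F (dual E₀))).map ψ).hom x)) =
        (cmp A F h₀ M).symm (toΓ A x) ≫ (CohIII.tensorAFunctor A F).map ψ := by
      apply (cmp A F h₀ N).injective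
      rw [AddEquiv.apply_symm_apply, cmp_natural, AddEquiv.apply_symm_apply]
      rfl
    change ofΓ A (cmp A F h₁ N (v ≫ _)) = _
    rw [h1, ← Category.assoc, cmp_natural]
    rfl
  have ηadd : ∀ (M : ModuleCat.{u} A) (x y : (gammaA A (CohB1.tensorMod F (dual E₀))).obj M),
      ηfun M (x + y) = ηfun M x + ηfun M y := by
    intro M x y
    change ofΓ A (cmp A F h₁ M (v ≫ (cmp A F h₀ M).symm (toΓ A (x + y)))) = _
    rw [toΓ_add, map_add, Preadditive.comp_add, map_add, ofΓ_add]
  have ηsmul : ∀ (M : ModuleCat.{u} A) (a : A) (x : (gammaA A (CohB1.tensorMod F (dual E₀))).obj M),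
      ηfun M (a • x) = a • ηfun M x := by
    intro M a x
    have h1 : a • x = ((gammaA A (CohB1.tensorMod F (dual E₀))).map (a • 𝟙 M)).hom x := by
      rw [gammaA_map_smul]
      rfl
    rw [h1, ηnat, gammaA_map_smul]
    rfl
  let ηlin : ∀ M : ModuleCat.{u} A, ((gammaA A (CohB1.tensorMod F (dual E₀))).obj M) →ₗ[A]
      ((gammaA A (CohB1.tensorMod F (dual E₁))).obj M) := fun M =>
    { toFun := ηfun M
      map_add' := ηadd M
      map_smul' := ηsmul M }
  let η : gammaA A (CohB1.tensorMod F (dual E₀)) ⟶ gammaA A (CohB1.tensorMod F (dual E₁)) :=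
    { app := fun M => ModuleCat.ofHom (X := (gammaA A (CohB1.tensorMod F (dual E₀))).obj M)
        (Y := (gammaA A (CohB1.tensorMod F (dual E₁))).obj M) (ηlin M)
      naturality := by
        intro M N ψ
        ext x
        exact ηnat ψ x }
  have ηapp : ∀ (M : ModuleCat.{u} A) (x : (gammaA A (CohB1.tensorMod F (dual E₀))).obj M),
      (η.app M).hom x = ofΓ A (cmp A F h₁ M (v ≫ (cmp A F h₀ M).symm (toΓ A x))) := fun M x => rfl
  obtain ⟨R, ι, hfin, hinj, hker⟩ := Groth.Agent.S4498.result A X (CohB1.tensorMod F (dual E₀))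
    (CohB1.tensorMod F (dual E₁)) hF₀ hF₁ hfl₀ hfl₁ η
  refine ⟨R, hfin, ?_⟩
  haveI : Epi (ShortComplex.mk v π w).g := ‹Epi π›
  have hv0 : ∀ (M : ModuleCat.{u} A) (y : R ⟶ M),
      (ShortComplex.mk v π w).f ≫ (cmp A F h₀ M).symm (toΓ A ((ι.app M).hom y)) = 0 := by
    intro M y
    apply (cmp A F h₁ M).injective
    rw [map_zero]
    apply ofΓ_injective A
    have h := (hker M ((ι.app M).hom y)).mpr ⟨y, rfl⟩
    rw [ηapp] at h
    exact h
  let θ : ∀ M : ModuleCat.{u} A, (R ⟶ M) → (G ⟶ (CohIII.tensorAFunctor A F).obj M) :=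
    fun M y => hex.desc ((cmp A F h₀ M).symm (toΓ A ((ι.app M).hom y))) (hv0 M y)
  have θspec : ∀ (M : ModuleCat.{u} A) (y : R ⟶ M),
      π ≫ θ M y = (cmp A F h₀ M).symm (toΓ A ((ι.app M).hom y)) := fun M y => hex.g_desc _ _
  have θadd : ∀ (M : ModuleCat.{u} A) (y y' : R ⟶ M), θ M (y + y') = θ M y + θ M y' := by
    intro M y y'
    rw [← cancel_epi π, Preadditive.comp_add, θspec, θspec, θspec]
    have : (ι.app M).hom (y + y') = (ι.app M).hom y + (ι.app M).hom y' := map_add _ _ _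
    rw [this, toΓ_add, map_add]
  have θinj : ∀ M : ModuleCat.{u} A, Function.Injective (θ M) := by
    intro M y y' h
    apply hinj M
    apply toΓ_injective A
    apply (cmp A F h₀ M).symm.injective
    rw [← θspec, ← θspec, h]
  have θsurj : ∀ M : ModuleCat.{u} A, Function.Surjective (θ M) := by
    intro M ψ
    have h1 : (η.app M).hom (ofΓ A (cmp A F h₀ M (π ≫ ψ))) = 0 := by
      rw [ηapp, toΓ_ofΓ, AddEquiv.symm_apply_apply, ← Category.assoc, w, Limits.zero_comp, map_zero]
      rfl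
    obtain ⟨y, hy⟩ := (hker M _).mp h1
    refine ⟨y, ?_⟩
    rw [← cancel_epi π, θspec, hy, toΓ_ofΓ, AddEquiv.symm_apply_apply]
  have θnat : ∀ {M N : ModuleCat.{u} A} (ψ : M ⟶ N) (y : R ⟶ M),
      θ N (y ≫ ψ) = θ M y ≫ (CohIII.tensorAFunctor A F).map ψ := by
    intro M N ψ y
    rw [← cancel_epi π, θspec, ← Category.assoc, θspec]
    apply (cmp A F h₀ N).injective
    rw [AddEquiv.apply_symm_apply, cmp_natural, AddEquiv.apply_symm_apply]
    exact congrArg (toΓ A) (ConcreteCategory.congr_hom (ι.naturality ψ) y)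
  let θhom : ∀ M : ModuleCat.{u} A, (R ⟶ M) →+ (G ⟶ (CohIII.tensorAFunctor A F).obj M) := fun M =>
    { toFun := θ M
      map_zero' := by
        have h := θadd M 0 0
        rw [add_zero] at h
        exact left_eq_add.mp h
      map_add' := θadd M }
  let Eq : ∀ M : ModuleCat.{u} A,
      ((((linearCoyoneda A (ModuleCat.{u} A)).obj (op R) ⋙
        forget₂ (ModuleCat.{u} A) AddCommGrpCat.{u}).obj M : AddCommGrpCat.{u}) : Type u) ≃+
      (((CohIII.tensorAFunctor A F ⋙ preadditiveCoyoneda.obj (op G)).obj M : AddCommGrpCat.{u}) : Type u) :=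
    fun M => AddEquiv.ofBijective (θhom M) ⟨θinj M, θsurj M⟩
  refine ⟨(NatIso.ofComponents (fun M => (Eq M).toAddCommGrpIso) ?_).symm⟩
  intro M N ψ
  ext y
  exact θnat ψ y

end Groth.Agent.S4500
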