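import Groth.Statements.S4501
import Groth.Agent.Lib.TFunBCLocus

set_option autoImplicit false
universe u
open FlatCx

namespace Groth.Agent.S4501

open CategoryTheory CategoryTheory.Limits in
/-- The case of finitely generated flat terms. Let A be a Noetherian domain, P a chain complex of
finitely generated flat A-modules, and for a prime y of A let P_y be the base change of P to the
local ring A_y. Then the set U of points y of Spec A such that the functor N ↦ H_p(P_y ⊗_{A_y} N) on
A_y-modules takes injections to injections and surjections to surjections is open and nonempty (it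
contains the generic point). -/
theorem result {A : Type u} [CommRing A] [IsNoetherianRing A] [IsDomain A]
    (P : ChainComplex (ModuleCat.{u} A) ℤ) (hP : ∀ i, Module.Finite A (P.X i) ∧ Module.Flat A (P.X i))
    (p : ℤ) :
    IsOpen {y : PrimeSpectrum A |
        (CohIII.TFun (CohIII.bcCx (algebraMap A (Localization.AtPrime y.asIdeal)) P) p).PreservesMonomorphisms ∧
          (CohIII.TFun (CohIII.bcCx (algebraMap A (Localization.AtPrime y.asIdeal)) P) p).PreservesEpimorphisms} ∧
      {y : PrimeSpectrum A |
        (CohIII.TFun (CohIII.bcCx (algebraMap A (Localization.AtPrime y.asIdeal)) P) p).PreservesMonomorphisms ∧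
          (CohIII.TFun (CohIII.bcCx (algebraMap A (Localization.AtPrime y.asIdeal)) P) p).PreservesEpimorphisms}.Nonempty := by
  have hflat : ∀ i, Module.Flat A (P.X i) := fun i => (hP i).2
  have hfin : ∀ i, Module.Finite A (P.X i) := fun i => (hP i).1
  have r2 : (ComplexShape.down ℤ).Rel p (p - 1) := by
    show p - 1 + 1 = p
    ring
  have hset : {y : PrimeSpectrum A |
      (CohIII.TFun (CohIII.bcCx (algebraMap A (Localization.AtPrime y.asIdeal)) P)
        p).PreservesMonomorphisms ∧
      (CohIII.TFun (CohIII.bcCx (algebraMap A (Localization.AtPrime y.asIdeal)) P)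
        p).PreservesEpimorphisms} =
      Module.freeLocus A (Groth.Agent.Lib.TFun.Copc P p) ∩
        Module.freeLocus A (Groth.Agent.Lib.TFun.Copc P (p - 1)) := by
    rw [← Groth.Agent.Lib.TFunBC.preservesMono_locus P hflat p,
      ← Groth.Agent.Lib.TFunBC.preservesEpi_locus P hflat p (p - 1) r2]
    rfl
  rw [hset]
  have h1 : Module.FinitePresentation A (Groth.Agent.Lib.TFun.Copc P (p - 1)) :=
    Module.finitePresentation_of_finite A _
  have h2 : Module.FinitePresentation A (Groth.Agent.Lib.TFun.Copc P p) :=
    Module.finitePresentation_of_finite A _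
  exact ⟨Module.isOpen_freeLocus.inter Module.isOpen_freeLocus,
    ⟨⟨⊥, Ideal.isPrime_bot⟩, Groth.Agent.Lib.TFunBC.bot_mem_freeLocus _,
      Groth.Agent.Lib.TFunBC.bot_mem_freeLocus _⟩⟩

end Groth.Agent.S4501
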