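import Groth.Statements.S4504
import Groth.Agent.Lib.EW

set_option autoImplicit false
universe u
open FlatCx

namespace Groth.Agent.S4504

open CategoryTheory CategoryTheory.Limits MonoidalCategory Groth.Agent.Lib

theorem bij_of_pfc {A : Type u} [CommRing A]
    (T : ModuleCat.{u} A ⥤ ModuleCat.{u} A) [T.Additive] [T.Linear A]
    [∀ J : Type u, PreservesColimitsOfShape (Discrete J) T] (h : PreservesFiniteColimits T)
    (M : ModuleCat.{u} A) : Function.Bijective (EW.tM T M) :=
  EW.tM_bijective_of_free T
    (fun L _ => EW.tM_bijective_of_free_of_preservesCoproducts T L) M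

theorem pfc_of_bij {A : Type u} [CommRing A]
    (T : ModuleCat.{u} A ⥤ ModuleCat.{u} A) [T.Additive] [T.Linear A]
    (h : ∀ M : ModuleCat.{u} A, Function.Bijective (EW.tM T M)) : PreservesFiniteColimits T :=
  preservesFiniteColimits_of_natIso (EW.isoTensorLeft T h)

theorem pfc_of_halfExact_surj {A : Type u} [CommRing A]
    (T : ModuleCat.{u} A ⥤ ModuleCat.{u} A) [T.Additive] [T.Linear A]
    (hex : ∀ S : ShortComplex (ModuleCat.{u} A), S.ShortExact → (S.map T).Exact)
    (h : ∀ M : ModuleCat.{u} A, Function.Surjective (EW.tM T M)) : PreservesFiniteColimits T := by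
  refine ((Functor.preservesFiniteColimits_tfae T).out 0 3).mp ?_
  intro S hS
  refine ⟨hex S hS, ?_⟩
  rw [ModuleCat.epi_iff_surjective]
  intro z
  obtain ⟨u, rfl⟩ := h S.X₃ z
  obtain ⟨v, rfl⟩ := LinearMap.lTensor_surjective (T.obj (ModuleCat.of A A))
    hS.moduleCat_surjective_g u
  exact ⟨EW.tM T S.X₂ v, EW.tM_natural_apply T S.g v⟩


open CategoryTheory CategoryTheory.Limits in
/-- The case of A-linear functors (for commutative A, additive functors from A-modules to abelian groups
are the same as A-linear endofunctors of A-modules). Let T be an additive A-linear functor from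
A-modules to A-modules commuting with arbitrary direct sums, and for an A-module M let t_M : T(A)
⊗_A M → T(M) be the canonical map sending y ⊗ x to T(θ_x)(y), θ_x : A → M being a ↦ a x. Then T is
right exact (preserves finite colimits) if and only if t_M is bijective for every M; and also if and
only if T is half exact (sends short exact sequences to sequences exact at the middle) and t_M is
surjective for every M. -/
theorem result {A : Type u} [CommRing A]
    (T : ModuleCat.{u} A ⥤ ModuleCat.{u} A) [T.Additive] [T.Linear A]
    [∀ J : Type u, PreservesColimitsOfShape (Discrete J) T] :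
    (PreservesFiniteColimits T ↔ ∀ M : ModuleCat.{u} A, Function.Bijective (TensorProduct.lift (LinearMap.flip
        ((ModuleCat.homLinearEquiv (S := A)).toLinearMap ∘ₗ Functor.mapLinearMap A T ∘ₗ
          (ModuleCat.homLinearEquiv (S := A)).symm.toLinearMap ∘ₗ
            (LinearMap.ringLmapEquivSelf A A M).symm.toLinearMap)) :
      TensorProduct A (T.obj (ModuleCat.of A A)) M →ₗ[A] T.obj M)) ∧
    (PreservesFiniteColimits T ↔
      (∀ S : ShortComplex (ModuleCat.{u} A), S.ShortExact → (S.map T).Exact) ∧
        ∀ M : ModuleCat.{u} A, Function.Surjective (TensorProduct.lift (LinearMap.flip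
        ((ModuleCat.homLinearEquiv (S := A)).toLinearMap ∘ₗ Functor.mapLinearMap A T ∘ₗ
          (ModuleCat.homLinearEquiv (S := A)).symm.toLinearMap ∘ₗ
            (LinearMap.ringLmapEquivSelf A A M).symm.toLinearMap)) :
          TensorProduct A (T.obj (ModuleCat.of A A)) M →ₗ[A] T.obj M)) := by
  refine ⟨⟨fun h M => bij_of_pfc T h M, fun h => pfc_of_bij T h⟩, ⟨fun h => ⟨?_, fun M => (bij_of_pfc T h M).2⟩,
    fun h => pfc_of_halfExact_surj T h.1 h.2⟩⟩
  intro S hS
  exact ((Functor.preservesFiniteColimits_iff_forall_exact_map_and_epi T).mp h S hS).1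

end Groth.Agent.S4504
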