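import Groth.Statements.S4508
import Groth.Agent.Lib.FibreMain21
import Groth.Agent.Lib.FibreDictAffH44

set_option autoImplicit false
universe u
open Coherent

namespace Groth.Agent.S4508

section Helpers

open AlgebraicGeometry CategoryTheory CategoryTheory.Limits CohIII
open Groth.Agent.Lib.ReesCoh Groth.Agent.Lib.FibreOpen21 Groth.Agent.Lib.FibreDict21
open Scheme.Modules

/-- over a field `K` which is an `A`-algebra, the homology dimension of the base change of a complex is `dRank`
at the kernel of `A → K` -/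
theorem finrank_homology_field {A : Type u} [CommRing A] (K : Type u) [Field K] [Algebra A K]
    {ι : Type} {c : ComplexShape ι} (L : HomologicalComplex (ModuleCat.{u} A) c) (p : ι) :
    Module.finrank K ((bcCx (algebraMap A K) L).homology p) =
      dRank L p (PrimeSpectrum.comap (algebraMap A K)
        (⟨⊥, Ideal.isPrime_bot⟩ : PrimeSpectrum K)) := by
  have h1 := Groth.Agent.Lib.DRankBC.dRank_bcCx (B := K) L p
    (⟨⊥, Ideal.isPrime_bot⟩ : PrimeSpectrum K)
  rw [← h1]
  exact (Groth.Agent.Lib.DRankBC.finrank_homology_bcCx_field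
    (algebraMap K (⟨⊥, Ideal.isPrime_bot⟩ : PrimeSpectrum K).asIdeal.ResidueField)
    (bcCx (algebraMap A K) L) p).symm

section Sq

variable {X Y Y' : Scheme.{u}} (f : X ⟶ Y) (g : Y' ⟶ Y) (y' : Y')
variable (A : Type u) [CommRing A] {XV : Scheme.{u}} [XV.Over (Spec (CommRingCat.of A))]
  (j : XV ⟶ X) (i : Spec (CommRingCat.of A) ⟶ Y)
  (hpb : IsPullback j (XV ↘ Spec (CommRingCat.of A)) f i)
  [Algebra A (Y'.residueField y')]
  (hz : specAlg A (Y'.residueField y') ≫ i = Y'.fromSpecResidueField y' ≫ g)

include hpb hz in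
theorem lift_w :
    ((pullback.snd f g).fiberι y' ≫ pullback.fst f g) ≫ f =
      ((pullback.snd f g).fiberToSpecResidueField y' ≫ specAlg A (Y'.residueField y')) ≫ i := by
  rw [Category.assoc, Category.assoc, hz, pullback.condition, ← Category.assoc, ← Category.assoc,
    Scheme.Hom.fiber_fac]

/-- the map from the fibre of the base change to `XV = f⁻¹(Spec A)` -/
noncomputable def lift : (pullback.snd f g).fiber y' ⟶ XV :=
  hpb.lift ((pullback.snd f g).fiberι y' ≫ pullback.fst f g)
    ((pullback.snd f g).fiberToSpecResidueField y' ≫ specAlg A (Y'.residueField y'))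
    (lift_w f g y' A j i hpb hz)

theorem lift_j : lift f g y' A j i hpb hz ≫ j = (pullback.snd f g).fiberι y' ≫ pullback.fst f g :=
  hpb.lift_fst _ _ _

theorem lift_over : lift f g y' A j i hpb hz ≫ (XV ↘ Spec (CommRingCat.of A)) =
    (pullback.snd f g).fiberToSpecResidueField y' ≫ specAlg A (Y'.residueField y') :=
  hpb.lift_snd _ _ _

theorem isPullback_lift :
    IsPullback (lift f g y' A j i hpb hz) ((pullback.snd f g).fiberToSpecResidueField y')
      (XV ↘ Spec (CommRingCat.of A)) (specAlg A (Y'.residueField y')) := by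
  refine IsPullback.of_right (h₁₂ := j) (h₂₂ := i) ?_ (lift_over f g y' A j i hpb hz) hpb
  rw [lift_j, hz]
  exact (IsPullback.of_hasPullback (pullback.snd f g) (Y'.fromSpecResidueField y')).paste_horiz
    (IsPullback.of_hasPullback f g)

/-- the restriction of the pulled back module to the fibre, as a pullback from `XV` -/
noncomputable def modIso (F : X.Modules) (F' : XV.Modules)
    (α : F' ≅ (Scheme.Modules.pullback j).obj F) :
    (Scheme.Modules.pullback ((pullback.snd f g).fiberι y')).obj
        ((Scheme.Modules.pullback (pullback.fst f g)).obj F) ≅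
      (Scheme.Modules.pullback (lift f g y' A j i hpb hz)).obj F' :=
  (pullbackComp ((pullback.snd f g).fiberι y') (pullback.fst f g)).app F ≪≫
    (pullbackCongr (lift_j f g y' A j i hpb hz).symm).app F ≪≫
    (pullbackComp (lift f g y' A j i hpb hz) j).symm.app F ≪≫
    (Scheme.Modules.pullback (lift f g y' A j i hpb hz)).mapIso α.symm

include hpb hz in
/-- the cohomology of the fibre of the base change is computed by the model -/
theorem nonempty_linearEquiv (F : X.Modules) (F' : XV.Modules)
    (α : F' ≅ (Scheme.Modules.pullback j).obj F) (L : CochainComplex (ModuleCat.{u} A) ℤ)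
    (hL : BCProp A F' L) (p : ℕ) :
    Nonempty (CohIII.fiberH (pullback.snd f g) ((Scheme.Modules.pullback (pullback.fst f g)).obj F) y' p
      ≃ₗ[Y'.residueField y'] (bcCx (algebraMap A (Y'.residueField y')) L).homology (p : ℤ)) := by
  letI : ((pullback.snd f g).fiber y').Over (Spec (CommRingCat.of (Y'.residueField y'))) :=
    CohIII.fiberOver (pullback.snd f g) y'
  obtain ⟨e⟩ := hL (Y'.residueField y') ((pullback.snd f g).fiber y') (lift f g y' A j i hpb hz)
    (isPullback_lift f g y' A j i hpb hz) p
  exact ⟨(Groth.Agent.Lib.BaseChangeCohH44.HHlinEquiv (Y'.residueField y')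
    (modIso f g y' A j i hpb hz F F' α) p).trans e⟩

end Sq

/-- Betti numbers of the fibres are invariant under base change. -/
theorem betti_eq {X Y Y' : Scheme.{u}} (f : X ⟶ Y) (g : Y' ⟶ Y) [IsProper f]
    [IsLocallyNoetherian Y] (F : X.Modules) (hF : Coh.IsCoh F)
    (hfl : FlatMod.IsFlatOver f F) (y' : Y') (p : ℕ) :
    CohIII.fiberRank (pullback.snd f g) ((Scheme.Modules.pullback (pullback.fst f g)).obj F) p y' =
      CohIII.fiberRank f F p (g.base y') := by
  obtain ⟨V, hV, hy⟩ := Groth.Agent.Lib.FibreMain21.exists_affine_nbhd (g.base y')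
  letI := overV f hV
  haveI := isNoetherianRing_AV hV
  haveI := isProper_V f hV
  obtain ⟨L, h1, h2, h3, h4, h5⟩ := Groth.Agent.Lib.FibreModelH44.exists_model_bc (AV V)
    (f ⁻¹ᵁ V).toScheme (F.restrict (f ⁻¹ᵁ V).ι)
    (Groth.Agent.Lib.H90CohRestrict.isCoh_restrict _ F hF) (isFlatOver_V f F hF hfl hV)
  -- the rank at `y = g y'`
  have hy_rank : CohIII.fiberRank f F p (g.base y') =
      dRank L (p : ℤ) (xV hV (g.base y') hy) := by
    letI := algV (g.base y') hy
    exact fiberRank_eq_dRank f (g.base y') (AV V) (f ⁻¹ᵁ V).ι (iV hV) (isPullback_V f hV)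
      (specAlg_iV hV (g.base y') hy) (xV hV (g.base y') hy) (thetaV hV (g.base y') hy)
      (thetaV_algebraMap hV (g.base y') hy) F
      (F.restrict (f ⁻¹ᵁ V).ι) (alphaV f F) L h5 p
  rw [hy_rank]
  -- the fibre at `y'`
  letI alg : Algebra (AV V) (Y'.residueField y') :=
    ((g.residueFieldMap y').hom.comp (toResidue (g.base y') hy)).toAlgebra
  have hz : specAlg (AV V) (Y'.residueField y') ≫ iV hV = Y'.fromSpecResidueField y' ≫ g := by
    letI := algV (g.base y') hy
    have h1 : specAlg (AV V) (Y'.residueField y') =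
        Spec.map (g.residueFieldMap y') ≫ specAlg (AV V) (Y.residueField (g.base y')) := by
      rw [← Spec.map_comp]
      rfl
    rw [h1, Category.assoc, specAlg_iV hV (g.base y') hy]
    exact Scheme.Hom.SpecMap_residueFieldMap_fromSpecResidueField g y'
  obtain ⟨e⟩ := nonempty_linearEquiv f g y' (AV V) (f ⁻¹ᵁ V).ι (iV hV) (isPullback_V f hV) hz F
    (F.restrict (f ⁻¹ᵁ V).ι) (alphaV f F) L h5 p
  unfold CohIII.fiberRank
  rw [e.finrank_eq, finrank_homology_field]
  congr 1
  -- the kernel of `A → κ(y')` is the prime of `y`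
  apply PrimeSpectrum.ext
  ext a
  letI := algV (g.base y') hy
  have hθ := thetaV_algebraMap hV (g.base y') hy a
  change algebraMap (AV V) (Y'.residueField y') a ∈ (⊥ : Ideal (Y'.residueField y')) ↔ _
  rw [Ideal.mem_bot]
  change (g.residueFieldMap y').hom (toResidue (g.base y') hy a) = 0 ↔ _
  rw [map_eq_zero_iff _ (g.residueFieldMap y').hom.injective]
  rw [← Ideal.algebraMap_residueField_eq_zero, ← hθ]
  exact (map_eq_zero_iff _ (thetaV hV (g.base y') hy).injective).symm

end Helpers

open AlgebraicGeometry CategoryTheory CategoryTheory.Limits in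
/-- For a single sheaf placed in degree 0 (the published statement is for a finite complex of such
sheaves). Let Y and Y' be locally Noetherian schemes, f : X ⟶ Y proper, g : Y' ⟶ Y any morphism, F a
coherent O_X-module flat over Y; let X' = X ×_Y Y' with projections f' : X' ⟶ Y' and X' ⟶ X, and F'
the pullback of F to X'. Then F' is flat over Y', and for every point y' of Y' the Euler–Poincaré
characteristic of the fibre, Σ_i (−1)^i dim_{k(y')} H^i(X'_{y'}, F'_{y'}), equals Σ_i (−1)^i
dim_{k(g(y'))} H^i(X_{g(y')}, F_{g(y')}). -/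
theorem result {X Y Y' : Scheme.{u}} (f : X ⟶ Y) (g : Y' ⟶ Y) [IsProper f]
    [IsLocallyNoetherian Y] [IsLocallyNoetherian Y'] (F : X.Modules) (hF : Coh.IsCoh F)
    (hfl : FlatMod.IsFlatOver f F) :
    FlatMod.IsFlatOver (pullback.snd f g) ((Scheme.Modules.pullback (pullback.fst f g)).obj F) ∧
      ∀ y' : Y', PerfAux.eulerChar (pullback.snd f g) ((Scheme.Modules.pullback (pullback.fst f g)).obj F) y' =
        PerfAux.eulerChar f F (g.base y') := by
  refine ⟨?_, fun y' => ?_⟩
  · haveI : F.IsQuasicoherent := hF.1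
    intro x'
    exact Groth.Agent.Lib.H72FlatBaseChange.isFlatOverAt_pullback_of_isPullback
      (IsPullback.of_hasPullback f g) F x' (hfl _)
  · unfold PerfAux.eulerChar
    congr 1
    funext i
    congr 2
    exact betti_eq f g F hF hfl y' i

end Groth.Agent.S4508
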