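import Groth.Statements.S4511
import Groth.Agent.S2453
import Groth.Agent.S2483
import Groth.Agent.S0579
import Groth.Agent.Lib.MacLane4H44

set_option autoImplicit false
universe u
open EGA41

namespace Groth.Agent.S4511

section helpers

open IsLocalRing Groth.Agent.Lib.MacLane4H44

/-- a complete Noetherian local ring of equal characteristic is an algebra over a field over
which its residue field is separable. -/
lemma exists_base_field (A : Type u) [CommRing A] [IsLocalRing A] [IsNoetherianRing A]
    [IsAdicComplete (maximalIdeal A) A] (p : ℕ) [CharP (ResidueField A) p] (hp0 : (p : A) = 0) :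
    ∃ (k₀ : Type u) (_ : Field k₀) (_ : Algebra k₀ A),
      Algebra.IsGeometricallyReduced k₀ (ResidueField A) := by
  rcases CharP.char_is_prime_or_zero (ResidueField A) p with hp | hp
  · have hpf : Fact p.Prime := ⟨hp⟩
    have hchar : CharP A p := by
      have h1 : ringChar A ∣ p := ringChar.dvd hp0
      have h2 : ringChar A ≠ 1 := CharP.ringChar_ne_one
      have h3 : ringChar A = p := ((Nat.dvd_prime hp).1 h1).resolve_left h2
      rw [← h3]
      exact ringChar.charP A
    let alg : Algebra (PF.{u} p) A :=
      ((ZMod.castHom (dvd_refl p) A).comp (pfEquiv p).toRingHom).toAlgebra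
    refine ⟨PF.{u} p, inferInstance, alg, ?_⟩
    exact (charP_main p (PF.{u} p) (ResidueField A)).1.mpr
      (Groth.Agent.S2483.LD_of_perfect p (PF.{u} p) (ResidueField A))
  · subst hp
    have hcz : CharZero (ResidueField A) := CharP.charP_to_charZero _
    obtain ⟨s, hs⟩ := Groth.Agent.S0579.result A
    let alg : Algebra (ResidueField A) A := s.toAlgebra
    refine ⟨ResidueField A, inferInstance, alg, ?_⟩
    exact @isGeometricallyReduced_of_charZero (ResidueField A) (ResidueField A) _ _
      (IsLocalRing.ResidueField.algebra (R := A) (R₀ := ResidueField A)) _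

end helpers

open IsLocalRing in
/-- Let A be a complete Noetherian local ring whose residue field has characteristic p (p = 0 allowed).
The following are equivalent: (a) A contains a field, i.e. there is a ring homomorphism from a field
into A; (b) p·1 = 0 in A; (c) A is isomorphic to a quotient of a power series ring K[[T_1, …, T_n]]
over a field K. Moreover, when they hold, the surjection in (c) may be chosen with kernel contained
in the square of the maximal ideal of K[[T_1, …, T_n]]. -/
theorem result (A : Type u) [CommRing A] [IsLocalRing A] [IsNoetherianRing A]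
    [IsAdicComplete (maximalIdeal A) A] (p : ℕ) [CharP (ResidueField A) p] :
    [∃ (K : Type u) (_ : Field K), Nonempty (K →+* A),
     (p : A) = 0,
     ∃ (K : Type u) (_ : Field K) (n : ℕ) (f : MvPowerSeries (Fin n) K →+* A), Function.Surjective f].TFAE ∧
    ((p : A) = 0 → ∃ (K : Type u) (_ : Field K) (n : ℕ) (f : MvPowerSeries (Fin n) K →+* A),
      Function.Surjective f ∧ RingHom.ker f ≤ maximalIdeal (MvPowerSeries (Fin n) K) ^ 2) := by
  classical
  have key : (p : A) = 0 → ∃ (K : Type u) (_ : Field K) (n : ℕ)
      (f : MvPowerSeries (Fin n) K →+* A),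
      Function.Surjective f ∧ RingHom.ker f ≤ maximalIdeal (MvPowerSeries (Fin n) K) ^ 2 := by
    intro hp0
    obtain ⟨k₀, _, _, hgr⟩ := exists_base_field A p hp0
    obtain ⟨τ, d, ψ₀, -, hsurj, hker, -⟩ := Groth.Agent.S2453.exists_presentation k₀ A
    let e := (AdicCompletion.ofAlgEquiv (maximalIdeal A)).symm
    refine ⟨ResidueField A, inferInstance, d, (e : AdicCompletion (maximalIdeal A) A →+* A).comp ψ₀,
      e.surjective.comp hsurj, ?_⟩
    intro x hx
    apply hker
    rw [RingHom.mem_ker] at hx ⊢
    rw [RingHom.comp_apply] at hx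
    exact e.injective (by rw [map_zero]; exact hx)
  refine ⟨?_, key⟩
  tfae_have 1 → 2 := by
    rintro ⟨K, _, ⟨g⟩⟩
    have hinj : Function.Injective ((residue A).comp g) := RingHom.injective _
    have hK : CharP K p := (RingHom.charP_iff _ hinj p).mpr inferInstance
    have h1 : ((p : K)) = 0 := CharP.cast_eq_zero K p
    have h2 := congrArg g h1
    rwa [map_natCast, map_zero] at h2
  tfae_have 2 → 3 := by
    intro hp0
    obtain ⟨K, _, n, f, hf, -⟩ := key hp0
    exact ⟨K, inferInstance, n, f, hf⟩
  tfae_have 3 → 1 := by
    rintro ⟨K, _, n, f, -⟩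
    exact ⟨K, inferInstance, ⟨f.comp MvPowerSeries.C⟩⟩
  tfae_finish

end Groth.Agent.S4511
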