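import Groth.Statements.S4513
import Groth.Agent.Lib.KaehlerFS50

set_option autoImplicit false
universe u
open EGA41

namespace Groth.Agent.S4513

open IsLocalRing in
/-- Let A be a Noetherian local ring and k a field mapping to A such that A is formally smooth over k
for the adic topology of its maximal ideal (k discrete). Then every field K with k → K → A
(compatible ring maps) is a separable extension of k, i.e. K is geometrically reduced over k. -/
theorem result {k A K : Type u} [Field k] [CommRing A]
    [IsLocalRing A] [IsNoetherianRing A] [Algebra k A] (h : CAlgX.IsAdicFormallySmooth k A (maximalIdeal A))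
    [Field K] [Algebra k K] [Algebra K A] [IsScalarTower k K A] :
    Algebra.IsGeometricallyReduced k K := by
  open Groth.Agent.Lib.KaehlerFS50 in
  rw [Groth.Agent.Lib.MacLane4H44.isGeometricallyReduced_iff_mapBaseChange_injective]
  have htower : IsScalarTower k K (ResidueField A) := IsScalarTower.of_algebraMap_eq' (by
    ext c
    rw [RingHom.comp_apply, IsScalarTower.algebraMap_apply k A (ResidueField A),
      IsScalarTower.algebraMap_apply K A (ResidueField A), ← IsScalarTower.algebraMap_apply k K A])
  have hext : ∀ D₀ : Derivation ℤ k (ResidueField A), ∃ D' : Derivation ℤ K (ResidueField A),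
      ∀ c, D' (algebraMap k K c) = D₀ c := by
    intro D₀
    obtain ⟨D', hD'⟩ := exists_ext_of_isAdicFormallySmooth h D₀
    refine ⟨D'.compAlgebraMap K, fun c => ?_⟩
    rw [Derivation.compAlgebraMap_apply, ← IsScalarTower.algebraMap_apply k K A]
    exact hD' c
  have hinj := injective_lTensor_of_ext (k := k) (B := K) (L := ResidueField A) hext
  exact (Module.FaithfullyFlat.lTensor_injective_iff_injective K (ResidueField A) _).1 hinj

end Groth.Agent.S4513
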