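import Groth.Statements.S4514
-- import your own Groth.Agent.* helpers here
import Groth.Agent.Lib.FlatLift83
import Groth.Agent.Lib.AdicNoeth

set_option autoImplicit false
set_option linter.style.haveILetI false
universe u
open EGA41

namespace Groth.Agent.S4514

open IsLocalRing TensorProduct in
/-- Let A be a Noetherian local ring with residue field k, and let B₀ be a k-algebra which is a complete
regular local ring. Then there exist a complete Noetherian local ring B and a local homomorphism A →
B making B a flat A-module, such that B₀ is k-isomorphic to k ⊗_A B = B/𝔪B. -/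
theorem result {A : Type u} [CommRing A] [IsLocalRing A] [IsNoetherianRing A]
    (B₀ : Type u) [CommRing B₀] [IsRegularLocalRing B₀] [IsAdicComplete (maximalIdeal B₀) B₀]
    [Algebra (ResidueField A) B₀] :
    ∃ (B : Type u) (_ : CommRing B) (_ : IsLocalRing B) (_ : IsNoetherianRing B) (_ : Algebra A B)
      (_ : IsLocalHom (algebraMap A B)),
      IsAdicComplete (maximalIdeal B) B ∧ Module.Flat A B ∧
        Nonempty (ResidueField A ⊗[A] B ≃ₐ[ResidueField A] B₀) := by
  haveI : IsNoetherianRing (AdicCompletion (maximalIdeal A) A) :=
    Groth.Agent.Lib.AdicNoeth.isNoetherianRing_adicCompletion _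
  -- the residue field of the completion
  let ek : ResidueField A ≃+* ResidueField (AdicCompletion (maximalIdeal A) A) :=
    RingEquiv.ofBijective
      (ResidueField.map (algebraMap A (AdicCompletion (maximalIdeal A) A)))
      (AdicCompletion.residueField_map_bijective_of_fg (maximalIdeal A).fg_of_isNoetherianRing)
  let σ : AdicCompletion (maximalIdeal A) A →+* B₀ :=
    (algebraMap (ResidueField A) B₀).comp
      (ek.symm.toRingHom.comp (residue (AdicCompletion (maximalIdeal A) A)))
  have hσ : maximalIdeal (AdicCompletion (maximalIdeal A) A) ≤ RingHom.ker σ := by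
    intro x hx
    rw [RingHom.mem_ker]
    show algebraMap (ResidueField A) B₀ (ek.symm (residue _ x)) = 0
    rw [(residue_eq_zero_iff x).mpr hx, map_zero, map_zero]
  have hσa : ∀ a : A, σ (algebraMap A (AdicCompletion (maximalIdeal A) A) a) =
      algebraMap (ResidueField A) B₀ (residue A a) := by
    intro a
    show algebraMap (ResidueField A) B₀ (ek.symm (residue _ (algebraMap A _ a))) = _
    congr 1
    rw [RingEquiv.symm_apply_eq]
    rfl
  obtain ⟨B, _, _, _, φ, ρ', hφloc, hcompl, hflat, hρ's, hkρ', hcomp⟩ :=
    Groth.Agent.Lib.FlatLift83.exists_flat_lift (AdicCompletion (maximalIdeal A) A) σ hσ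
  letI : Algebra A B := (φ.comp (algebraMap A (AdicCompletion (maximalIdeal A) A))).toAlgebra
  have hloc : IsLocalHom (algebraMap A B) := by
    show IsLocalHom (φ.comp (algebraMap A (AdicCompletion (maximalIdeal A) A)))
    infer_instance
  have hflatA : Module.Flat A B := by
    have h1 : (algebraMap A (AdicCompletion (maximalIdeal A) A)).Flat :=
      RingHom.flat_algebraMap_iff.mpr inferInstance
    exact RingHom.Flat.comp h1 hflat
  refine ⟨B, inferInstance, inferInstance, inferInstance, inferInstance, hloc, hcompl, hflatA, ?_⟩
  refine Groth.Agent.Lib.FlatLift83.nonempty_tensor_equiv ρ' hρ's ?_ ?_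
  · rw [hkρ', AdicCompletion.maximalIdeal_eq_map, Ideal.map_map]
    rfl
  · intro a
    show ρ' (φ (algebraMap A _ a)) = _
    rw [← hσa a, ← hcomp]
    rfl

end Groth.Agent.S4514
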