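import Groth.Statements.S4515
import Mathlib.RingTheory.AdicCompletion.Functoriality
import Mathlib.RingTheory.Flat.Equalizer
import Mathlib.LinearAlgebra.TensorProduct.Quotient

set_option autoImplicit false
universe u
open EGA41

namespace Groth.Agent.S4515

open TensorProduct in
/-- Let A be a ring, J an ideal of A, and M, N two A-modules which are Hausdorff for the J-adic
topology; suppose moreover that N is J-adically complete and M is flat. Let u : N → M be A-linear.
If the induced map N/JN → M/JM is bijective (surjectivity and injectivity written out below), then u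
is bijective. -/
theorem result {A : Type u} [CommRing A] (J : Ideal A)
    {M N : Type u} [AddCommGroup M] [Module A M] [AddCommGroup N] [Module A N]
    [IsHausdorff J M] [IsAdicComplete J N] [Module.Flat A M] (u : N →ₗ[A] M)
    (hsurj : ∀ m : M, ∃ n : N, m - u n ∈ (J • ⊤ : Submodule A M))
    (hinj : ∀ n : N, u n ∈ (J • ⊤ : Submodule A M) → n ∈ (J • ⊤ : Submodule A N)) :
    Function.Bijective u := by
  have hs : Function.Surjective u := by
    apply surjective_of_mkQ_comp_surjective (I := J)
    intro y
    obtain ⟨m, rfl⟩ := Submodule.mkQ_surjective _ y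
    obtain ⟨n, hn⟩ := hsurj m
    refine ⟨n, ?_⟩
    simp only [LinearMap.coe_comp, Function.comp_apply, Submodule.mkQ_apply]
    rw [eq_comm, Submodule.Quotient.eq]
    exact hn
  refine ⟨?_, hs⟩
  let K : Submodule A N := LinearMap.ker u
  have hKinj : Function.Injective (K.subtype.lTensor (A ⧸ J)) :=
    LinearMap.lTensor_injective_of_exact_of_flat u hs K.subtype K.subtype_injective
      (LinearMap.exact_subtype_ker_map u) (A ⧸ J)
  have hK1 : K ≤ J • K := by
    intro k hk
    have hkJ : k ∈ (J • ⊤ : Submodule A N) := by
      apply hinj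
      rw [LinearMap.mem_ker.1 hk]
      exact Submodule.zero_mem _
    let k' : K := ⟨k, hk⟩
    have h1 : (K.subtype.lTensor (A ⧸ J)) ((1 : A ⧸ J) ⊗ₜ[A] k') = 0 := by
      rw [LinearMap.lTensor_tmul]
      apply (TensorProduct.quotTensorEquivQuotSMul N J).injective
      rw [TensorProduct.quotTensorEquivQuotSMul_mk_one_tmul, map_zero]
      exact (Submodule.Quotient.mk_eq_zero _).2 hkJ
    have h2 : (1 : A ⧸ J) ⊗ₜ[A] k' = 0 := hKinj (by rw [h1, map_zero])
    have h3 : k' ∈ (J • ⊤ : Submodule A K) := by
      rw [← Submodule.Quotient.mk_eq_zero, ← TensorProduct.quotTensorEquivQuotSMul_mk_one_tmul,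
        h2, map_zero]
    have h4 : K.subtype k' ∈ Submodule.map K.subtype (J • ⊤ : Submodule A K) :=
      Submodule.mem_map_of_mem h3
    rw [Submodule.map_smul'', Submodule.map_subtype_top] at h4
    exact h4
  have hKn : ∀ n : ℕ, K ≤ J ^ n • K := by
    intro n
    induction n with
    | zero => rw [pow_zero, Ideal.one_eq_top, Submodule.top_smul]
    | succ n ih =>
      calc K ≤ J ^ n • K := ih
        _ ≤ J ^ n • (J • K) := Submodule.smul_mono le_rfl hK1
        _ = J ^ (n + 1) • K := by rw [← Submodule.smul_assoc, smul_eq_mul, ← pow_succ]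
  rw [← LinearMap.ker_eq_bot, eq_bot_iff]
  intro k hk
  rw [Submodule.mem_bot]
  apply IsHausdorff.haus' (I := J)
  intro n
  rw [SModEq.zero]
  exact Submodule.smul_mono le_rfl le_top (hKn n hk)

end Groth.Agent.S4515
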