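import Groth.Statements.S4518
import Mathlib

set_option autoImplicit false
universe u
open EGA41

namespace Groth.Agent.S4518

section General

variable {R R' M : Type*} [Ring R] [Ring R'] [AddCommGroup M] [Module R M] [Module R' M]
  {I : Type*}

/-- linear independence only depends on the image of the scalars -/
theorem li_transfer (i : R →+* R') (hi : Function.Bijective i)
    (hc : ∀ (r : R) (m : M), r • m = i r • m) (v : I → M) :
    LinearIndependent R v ↔ LinearIndependent R' v := by
  constructor
  · intro h
    exact h.map_of_surjective_injective i (AddMonoidHom.id M) hi.2 (fun m hm => hm)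
      (fun r m => hc r m)
  · intro h
    exact h.map_of_injective_injective i (AddMonoidHom.id M)
      (fun r hr => hi.1 (by rw [hr, map_zero])) (fun m hm => hm) (fun r m => (hc r m).symm)

theorem span_transfer (i : R →+* R') (hi : Function.Surjective i)
    (hc : ∀ (r : R) (m : M), r • m = i r • m) (s : Set M) :
    Submodule.span R s = ⊤ ↔ Submodule.span R' s = ⊤ := by
  have h1 : ∀ m, m ∈ Submodule.span R s → m ∈ Submodule.span R' s := by
    intro m hm
    induction hm using Submodule.span_induction with
    | mem m hm => exact Submodule.subset_span hm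
    | zero => exact Submodule.zero_mem _
    | add a b _ _ ha hb => exact Submodule.add_mem _ ha hb
    | smul r a _ ha => rw [hc]; exact Submodule.smul_mem _ _ ha
  have h2 : ∀ m, m ∈ Submodule.span R' s → m ∈ Submodule.span R s := by
    intro m hm
    induction hm using Submodule.span_induction with
    | mem m hm => exact Submodule.subset_span hm
    | zero => exact Submodule.zero_mem _
    | add a b _ _ ha hb => exact Submodule.add_mem _ ha hb
    | smul r a _ ha =>
      obtain ⟨r, rfl⟩ := hi r
      rw [← hc]; exact Submodule.smul_mem _ _ ha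
  constructor
  · intro h
    rw [eq_top_iff]
    intro m _
    exact h1 m (by rw [h]; trivial)
  · intro h
    rw [eq_top_iff]
    intro m _
    exact h2 m (by rw [h]; trivial)

end General

section Tower

variable {R S M : Type*} [CommRing R] [CommRing S] [AddCommGroup M] [Module R S] [Module S M]
  [Module R M] [IsScalarTower R S M] {I J : Type*}

/-- converse of `linearIndependent_smul` when `b` is a basis -/
theorem li_of_li_smul {b : I → S} {c : J → M} (hb : LinearIndependent R b)
    (hsp : Submodule.span R (Set.range b) = ⊤)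
    (h : LinearIndependent R fun q : I × J => b q.1 • c q.2) : LinearIndependent S c := by
  classical
  let bS : Module.Basis I R S := Module.Basis.mk hb hsp.ge
  have hbS : ∀ i, bS i = b i := fun i => Module.Basis.mk_apply hb hsp.ge i
  rw [linearIndependent_iff']
  intro s g hg j hj
  let t : Finset I := s.biUnion fun j => (bS.repr (g j)).support
  have hsum : ∀ j' ∈ s, ∑ i' ∈ t, bS.repr (g j') i' • b i' = g j' := by
    intro j' hj'
    have h1 : ∑ i' ∈ t, bS.repr (g j') i' • b i' = ∑ i' ∈ t, bS.repr (g j') i' • bS i' :=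
      Finset.sum_congr rfl fun i' _ => by rw [hbS]
    rw [h1]
    conv_rhs => rw [← bS.linearCombination_repr (g j'), Finsupp.linearCombination_apply,
      Finsupp.sum]
    symm
    apply Finset.sum_subset
    · intro i' hi'
      exact Finset.mem_biUnion.2 ⟨j', hj', hi'⟩
    · intro i' _ hi'
      rw [Finsupp.notMem_support_iff.1 hi', zero_smul]
  have hzero : ∑ q ∈ t ×ˢ s, bS.repr (g q.2) q.1 • (b q.1 • c q.2) = 0 := by
    rw [Finset.sum_product_right]
    rw [← hg]
    refine Finset.sum_congr rfl fun j' hj' => ?_
    rw [← hsum j' hj', Finset.sum_smul]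
    refine Finset.sum_congr rfl fun i' _ => ?_
    rw [smul_assoc]
  have key : ∀ i, bS.repr (g j) i = 0 := by
    intro i
    by_cases hi : i ∈ (bS.repr (g j)).support
    · have hit : i ∈ t := Finset.mem_biUnion.2 ⟨j, hj, hi⟩
      exact linearIndependent_iff'.1 h (t ×ˢ s) (fun q => bS.repr (g q.2) q.1) hzero (i, j)
        (Finset.mem_product.2 ⟨hit, hj⟩)
    · exact Finsupp.notMem_support_iff.1 hi
  have : bS.repr (g j) = 0 := Finsupp.ext key
  exact (LinearEquiv.map_eq_zero_iff _).1 this

end Tower

section Main

variable (p : ℕ) [Fact p.Prime] {A C B : Type u} [CommRing A] [CommRing C]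
    [CommRing B] [Algebra A C] [Algebra C B] [Algebra A B] [IsScalarTower A C B]

omit [Fact p.Prime] in
theorem mem_AB (hpow : ∀ b : B, b ^ p ∈ Set.range (algebraMap A B)) (b : B) :
    b ∈ pPowerSubalgebra p A B ↔ b ∈ Set.range (algebraMap A B) := by
  constructor
  · intro hb
    induction hb using Algebra.adjoin_induction with
    | mem s hs => obtain ⟨z, rfl⟩ := hs; exact hpow z
    | algebraMap a => exact ⟨a, rfl⟩
    | add s t _ _ hs ht =>
      obtain ⟨a, rfl⟩ := hs
      obtain ⟨a', rfl⟩ := ht
      exact ⟨a + a', map_add _ _ _⟩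
    | mul s t _ _ hs ht =>
      obtain ⟨a, rfl⟩ := hs
      obtain ⟨a', rfl⟩ := ht
      exact ⟨a * a', map_mul _ _ _⟩
  · rintro ⟨a, rfl⟩
    exact Subalgebra.algebraMap_mem _ a

omit [Fact p.Prime] in
theorem mem_CB (hpow : ∀ b : B, b ^ p ∈ Set.range (algebraMap A B)) (b : B) :
    b ∈ pPowerSubalgebra p C B ↔ b ∈ Set.range (algebraMap C B) := by
  constructor
  · intro hb
    induction hb using Algebra.adjoin_induction with
    | mem s hs =>
      obtain ⟨z, rfl⟩ := hs
      obtain ⟨a, ha⟩ := hpow z
      exact ⟨algebraMap A C a, by rw [← IsScalarTower.algebraMap_apply, ha]⟩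
    | algebraMap a => exact ⟨a, rfl⟩
    | add s t _ _ hs ht =>
      obtain ⟨a, rfl⟩ := hs
      obtain ⟨a', rfl⟩ := ht
      exact ⟨a + a', map_add _ _ _⟩
    | mul s t _ _ hs ht =>
      obtain ⟨a, rfl⟩ := hs
      obtain ⟨a', rfl⟩ := ht
      exact ⟨a * a', map_mul _ _ _⟩
  · rintro ⟨a, rfl⟩
    exact Subalgebra.algebraMap_mem _ a

omit [Fact p.Prime] in
theorem mem_AC (hinj : Function.Injective (algebraMap C B))
    (hpow : ∀ b : B, b ^ p ∈ Set.range (algebraMap A B)) (c : C) :
    c ∈ pPowerSubalgebra p A C ↔ c ∈ Set.range (algebraMap A C) := by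
  constructor
  · intro hc
    induction hc using Algebra.adjoin_induction with
    | mem s hs =>
      obtain ⟨z, rfl⟩ := hs
      obtain ⟨a, ha⟩ := hpow (algebraMap C B z)
      refine ⟨a, hinj ?_⟩
      rw [← IsScalarTower.algebraMap_apply, ha, map_pow]
    | algebraMap a => exact ⟨a, rfl⟩
    | add s t _ _ hs ht =>
      obtain ⟨a, rfl⟩ := hs
      obtain ⟨a', rfl⟩ := ht
      exact ⟨a + a', map_add _ _ _⟩
    | mul s t _ _ hs ht =>
      obtain ⟨a, rfl⟩ := hs
      obtain ⟨a', rfl⟩ := ht
      exact ⟨a * a', map_mul _ _ _⟩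
  · rintro ⟨a, rfl⟩
    exact Subalgebra.algebraMap_mem _ a

/-- `A[C^p] → A[B^p]` -/
noncomputable def i₁ (hinj : Function.Injective (algebraMap C B))
    (hpow : ∀ b : B, b ^ p ∈ Set.range (algebraMap A B)) :
    pPowerSubalgebra p A C →+* pPowerSubalgebra p A B :=
  RingHom.codRestrict ((algebraMap C B).comp ((pPowerSubalgebra p A C).val : pPowerSubalgebra p A C →+* C))
    (pPowerSubalgebra p A B) (by
      intro r
      obtain ⟨a, ha⟩ := (mem_AC p hinj hpow r.1).1 r.2
      rw [mem_AB p hpow]
      refine ⟨a, ?_⟩
      change _ = algebraMap C B r.1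
      rw [← ha, ← IsScalarTower.algebraMap_apply])

omit [Fact p.Prime] in
theorem i₁_coe (hinj : Function.Injective (algebraMap C B))
    (hpow : ∀ b : B, b ^ p ∈ Set.range (algebraMap A B)) (r : pPowerSubalgebra p A C) :
    ((i₁ p hinj hpow r : pPowerSubalgebra p A B) : B) = algebraMap C B r.1 := rfl

omit [Fact p.Prime] in
theorem i₁_bijective (hinj : Function.Injective (algebraMap C B))
    (hpow : ∀ b : B, b ^ p ∈ Set.range (algebraMap A B)) :
    Function.Bijective (i₁ p hinj hpow) := by
  constructor
  · intro r r' h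
    apply Subtype.ext
    apply hinj
    have := congrArg Subtype.val h
    exact this
  · intro r
    obtain ⟨a, ha⟩ := (mem_AB p hpow r.1).1 r.2
    refine ⟨⟨algebraMap A C a, Subalgebra.algebraMap_mem _ a⟩, ?_⟩
    apply Subtype.ext
    rw [i₁_coe, ← ha, ← IsScalarTower.algebraMap_apply]

omit [Fact p.Prime] in
theorem i₁_smul (hinj : Function.Injective (algebraMap C B))
    (hpow : ∀ b : B, b ^ p ∈ Set.range (algebraMap A B)) (r : pPowerSubalgebra p A C) (b : B) :
    r • b = i₁ p hinj hpow r • b := by
  rw [Subalgebra.smul_def, Subalgebra.smul_def, Algebra.smul_def, i₁_coe, smul_eq_mul]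

omit [Fact p.Prime] in
theorem i₂_bijective (hinj : Function.Injective (algebraMap C B))
    (hpow : ∀ b : B, b ^ p ∈ Set.range (algebraMap A B)) :
    Function.Bijective (algebraMap C (pPowerSubalgebra p C B)) := by
  constructor
  · intro c c' h
    apply hinj
    exact congrArg Subtype.val h
  · intro r
    obtain ⟨c, hc⟩ := (mem_CB p hpow r.1).1 r.2
    exact ⟨c, Subtype.ext hc⟩

omit [Fact p.Prime] in
theorem i₂_smul (c : C) (b : B) :
    c • b = algebraMap C (pPowerSubalgebra p C B) c • b := by
  rw [Subalgebra.smul_def, Algebra.smul_def, smul_eq_mul]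
  rfl

variable {ι κ : Type u}

/-- splitting exponent vectors on a sum type -/
noncomputable def E : {e : ι ⊕ κ →₀ ℕ // ∀ i, e i < p} ≃
    {e : ι →₀ ℕ // ∀ i, e i < p} × {e : κ →₀ ℕ // ∀ i, e i < p} :=
  (Equiv.subtypeEquiv Finsupp.sumFinsuppEquivProdFinsupp (fun e => by
    constructor
    · intro h
      exact ⟨fun i => by rw [Finsupp.fst_sumFinsuppEquivProdFinsupp]; exact h _,
        fun j => by rw [Finsupp.snd_sumFinsuppEquivProdFinsupp]; exact h _⟩
    · rintro ⟨h1, h2⟩ (i | j)
      · have := h1 i; rwa [Finsupp.fst_sumFinsuppEquivProdFinsupp] at this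
      · have := h2 j; rwa [Finsupp.snd_sumFinsuppEquivProdFinsupp] at this)).trans
    (Equiv.subtypeProdEquivProd (p := fun e₁ : ι →₀ ℕ => ∀ i, e₁ i < p)
      (q := fun e₂ : κ →₀ ℕ => ∀ i, e₂ i < p))

omit [Fact p.Prime] [Algebra A C] [Algebra A B] [IsScalarTower A C B] in
theorem pMonomial_sum (x : ι → C) (y : κ → B) (e : {e : ι ⊕ κ →₀ ℕ // ∀ i, e i < p}) :
    pMonomial (Sum.elim (fun i => algebraMap C B (x i)) y) e.1 =
      pMonomial x (E p e).1.1 • pMonomial y (E p e).2.1 := by
  have he : e.1 = Finsupp.sumElim (E p e).1.1 (E p e).2.1 := by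
    change e.1 = Finsupp.sumElim (Finsupp.sumFinsuppEquivProdFinsupp e.1).1
      (Finsupp.sumFinsuppEquivProdFinsupp e.1).2
    exact (Finsupp.sumFinsuppEquivProdFinsupp.symm_apply_apply e.1).symm
  conv_lhs => rw [he]
  unfold pMonomial
  rw [Finsupp.prod_sumElim, Algebra.smul_def, map_finsuppProd]
  congr 1
  refine Finsupp.prod_congr fun i _ => ?_
  simp [map_pow]

end Main

/-- Let p be a prime and A → C → B rings of characteristic p with C → B injective and every p-th power
of B in the image of A (so, identifying, B^p ⊆ A ⊆ C ⊆ B up to replacing A by its image); let x be a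
family of elements of C and y a family of elements of B. (i) If x is a system of p-generators of C
over A and y one of B over C, then the family obtained by putting x (viewed in B) and y together is
a system of p-generators of B over A. (ii) If x is a p-basis of C over A, then y is p-independent
over C if and only if the combined family is p-independent over A. (The published statement only
asks B^p ⊆ C and reduces to B^p ⊆ A by enlarging A to A[B^p]; but p-independence of x in C over A
refers to A[C^p], which can be smaller than A[B^p] — for A = 𝔽_p, C = 𝔽_p(t^p) ⊂ B = 𝔽_p(t), x =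
(t^p), y = (t), x is a p-basis of C over A and y is p-independent over C while (t^p, t) is not
p-independent over A — so this row assumes B^p ⊆ A, the case the published proof treats.) -/
theorem result (p : ℕ) [Fact p.Prime] {A C B : Type u} [CommRing A] [CommRing C]
    [CommRing B] [Algebra A C] [Algebra C B] [Algebra A B] [IsScalarTower A C B] [CharP B p]
    (hinj : Function.Injective (algebraMap C B)) (hpow : ∀ b : B, b ^ p ∈ Set.range (algebraMap A B))
    {ι κ : Type u} (x : ι → C) (y : κ → B) :
    (EGA41.IsPGenerating p A x → EGA41.IsPGenerating p C y →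
      EGA41.IsPGenerating p A (Sum.elim (fun i => algebraMap C B (x i)) y)) ∧
    (EGA41.IsPBasis p A x →
      (EGA41.IsPIndependent p C y ↔ EGA41.IsPIndependent p A (Sum.elim (fun i => algebraMap C B (x i)) y))) := by
  set mx : {e : ι →₀ ℕ // ∀ i, e i < p} → C := fun e => pMonomial x e.1 with hmx
  set my : {e : κ →₀ ℕ // ∀ i, e i < p} → B := fun e => pMonomial y e.1 with hmy
  set F : {e : ι →₀ ℕ // ∀ i, e i < p} × {e : κ →₀ ℕ // ∀ i, e i < p} → B :=
    fun q => mx q.1 • my q.2 with hF
  have hM : (fun e : {e : ι ⊕ κ →₀ ℕ // ∀ i, e i < p} =>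
      pMonomial (Sum.elim (fun i => algebraMap C B (x i)) y) e.1) = F ∘ E p := by
    funext e
    exact pMonomial_sum p x y e
  refine ⟨?_, ?_⟩
  · intro hx hy
    unfold IsPGenerating at hx hy ⊢
    rw [hM, (E p).surjective.range_comp]
    rw [← span_transfer (i₁ p hinj hpow) (i₁_bijective p hinj hpow).2 (i₁_smul p hinj hpow)]
    have hy' : Submodule.span C (Set.range my) = ⊤ :=
      (span_transfer (algebraMap C (pPowerSubalgebra p C B)) (i₂_bijective p hinj hpow).2
        (i₂_smul p) _).2 hy
    have := Submodule.span_smul_of_span_eq_top (R := pPowerSubalgebra p A C) hx (Set.range my)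
    rw [Set.range_smul_range, hy', Submodule.restrictScalars_top] at this
    exact this
  · intro hx
    unfold IsPIndependent
    rw [hM, linearIndependent_equiv (E p),
      ← li_transfer (i₁ p hinj hpow) (i₁_bijective p hinj hpow) (i₁_smul p hinj hpow),
      ← li_transfer (algebraMap C (pPowerSubalgebra p C B)) (i₂_bijective p hinj hpow)
        (i₂_smul p)]
    constructor
    · intro hy
      exact linearIndependent_smul hx.1 hy
    · intro h
      exact li_of_li_smul hx.1 hx.2 h

end Groth.Agent.S4518
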