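import Groth.Statements.S4519
import Groth.Agent.Lib.PBasis2H44

set_option autoImplicit false
universe u
open EGA41

namespace Groth.Agent.S4519

/-- Let p be a prime, B a ring of characteristic p and A a subring of B with B^p ⊆ A (here: A → B
injective with every p-th power in its image; R → A → B with the image of R in B equal to the set of
p-th powers, so that R stands for B^p). If B admits a p-basis over A, then B is a formally smooth
A-algebra relative to R for the discrete topologies (square-zero liftings, as in the prelude's
relative notion). -/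
theorem result (p : ℕ) [Fact p.Prime] {R A B : Type u} [CommRing R] [CommRing A]
    [CommRing B] [Algebra R A] [Algebra A B] [Algebra R B] [IsScalarTower R A B] [CharP B p]
    (hinj : Function.Injective (algebraMap A B)) (hpow : ∀ b : B, b ^ p ∈ Set.range (algebraMap A B))
    (hR : Set.range (algebraMap R B) = Set.range fun b : B => b ^ p)
    {ι : Type u} (x : ι → B) (hx : EGA41.IsPBasis p A x) :
    EGA41.IsFormallySmoothRel R A B := by
  intro C _ _ _ _ J _ u₀ hu
  obtain ⟨u, hu⟩ := hu
  have hz : ∀ (i : ι) (a : A), algebraMap A B a = x i ^ p →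
      algebraMap A C a = (u (x i)) ^ p := by
    intro i a ha
    have hmem : x i ^ p ∈ Set.range (algebraMap R B) := by
      rw [hR]; exact ⟨x i, rfl⟩
    obtain ⟨r, hr⟩ := hmem
    have ha' : a = algebraMap R A r := by
      apply hinj
      rw [ha, ← hr, ← IsScalarTower.algebraMap_apply]
    rw [ha', ← IsScalarTower.algebraMap_apply, ← map_pow, ← hr, AlgHom.commutes]
  obtain ⟨v, hv, -⟩ := Groth.Agent.Lib.PBasis2H44.existsUnique_algHom_of_injective p hinj hpow x hx
    (fun i => u (x i)) hz
  refine ⟨v, ?_⟩
  apply Groth.Agent.Lib.PBasis2H44.algHom_ext_of_pow_mem p hpow x hx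
  intro i
  change Ideal.Quotient.mk J (v (x i)) = u₀ (x i)
  rw [hv i]
  exact AlgHom.congr_fun hu (x i)

end Groth.Agent.S4519
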