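import Groth.Statements.S4520
import Groth.Agent.Lib.PBasis2H44

set_option autoImplicit false
universe u
open EGA41

namespace Groth.Agent.S4520

open TensorProduct Groth.Agent.Lib.PBasisH44 Groth.Agent.Lib.PBasis2H44

section Helpers

variable (p : ℕ) [hp : Fact p.Prime] {R A B : Type u} [CommRing R] [CommRing A] [CommRing B]
  [IsReduced B] [Algebra R A] [Algebra A B] [Algebra R B] [IsScalarTower R A B] [CharP B p]
  (hR : Set.range (algebraMap R B) = Set.range fun b : B => b ^ p)

include hR in
omit [IsReduced B] in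
/-- every element of `R[A^p]` maps to a `p`-th power in `B` -/
theorem exists_pow_eq (c : A) (hc : c ∈ pPowerSubalgebra p R A) :
    ∃ b : B, b ^ p = algebraMap A B c := by
  induction hc using Algebra.adjoin_induction with
  | mem c hc =>
    obtain ⟨a, rfl⟩ := hc
    exact ⟨algebraMap A B a, (map_pow _ _ _).symm⟩
  | algebraMap r =>
    have : algebraMap R B r ∈ Set.range fun b : B => b ^ p := hR ▸ ⟨r, rfl⟩
    obtain ⟨b, hb⟩ := this
    exact ⟨b, (hb : b ^ p = algebraMap R B r).trans (IsScalarTower.algebraMap_apply R A B r)⟩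
  | add s t _ _ hs ht =>
    obtain ⟨b, hb⟩ := hs
    obtain ⟨b', hb'⟩ := ht
    exact ⟨b + b', by rw [add_pow_char, hb, hb', map_add]⟩
  | mul s t _ _ hs ht =>
    obtain ⟨b, hb⟩ := hs
    obtain ⟨b', hb'⟩ := ht
    exact ⟨b * b', by rw [mul_pow, hb, hb', map_mul]⟩

/-- the `p`-th root in `B` of an element of `R[A^p]` -/
noncomputable def root (c : pPowerSubalgebra p R A) : B :=
  Classical.choose (exists_pow_eq p hR c.1 c.2)

omit [IsReduced B] in
theorem root_pow (c : pPowerSubalgebra p R A) : root p hR c ^ p = algebraMap A B c :=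
  Classical.choose_spec (exists_pow_eq p hR c.1 c.2)

theorem root_unique (c : pPowerSubalgebra p R A) (b : B) (hb : b ^ p = algebraMap A B c) :
    root p hR c = b := by
  apply frobenius_inj B p
  rw [frobenius_def, frobenius_def, root_pow, hb]

/-- the Frobenius twist of a derivation of `B`, on `R[A^p]` -/
noncomputable def D0 (E : Derivation ℤ B B) : pPowerSubalgebra p R A →+ B where
  toFun c := E (root p hR c) ^ p
  map_zero' := by
    rw [root_unique p hR 0 0 (by simp [zero_pow hp.out.ne_zero])]
    simp [zero_pow hp.out.ne_zero]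
  map_add' c c' := by
    rw [root_unique p hR (c + c') (root p hR c + root p hR c')
      (by rw [add_pow_char, root_pow, root_pow]; simp), map_add, add_pow_char]

theorem D0_mul (E : Derivation ℤ B B) (c c' : pPowerSubalgebra p R A) :
    D0 p hR E (c * c') = (c : A) • D0 p hR E c' + (c' : A) • D0 p hR E c := by
  change E (root p hR (c * c')) ^ p = (c : A) • E (root p hR c') ^ p + (c' : A) • E (root p hR c) ^ p
  rw [root_unique p hR (c * c') (root p hR c * root p hR c')
    (by rw [mul_pow, root_pow, root_pow]; simp), Derivation.leibniz, add_pow_char,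
    smul_eq_mul, smul_eq_mul, mul_pow, mul_pow, root_pow, root_pow, Algebra.smul_def,
    Algebra.smul_def]

theorem D0_apply (E : Derivation ℤ B B) (c : pPowerSubalgebra p R A) (b : B)
    (hb : b ^ p = algebraMap A B c) : D0 p hR E c = E b ^ p := by
  change E (root p hR c) ^ p = E b ^ p
  rw [root_unique p hR c b hb]

end Helpers

section Main

variable (p : ℕ) [hp : Fact p.Prime] {R A B : Type u} [CommRing R] [CommRing A] [CommRing B]
  [IsReduced B] [Algebra R A] [Algebra A B] [Algebra R B] [IsScalarTower R A B] [CharP B p]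
  (hinj : Function.Injective (algebraMap A B))
  (hpow : ∀ b : B, b ^ p ∈ Set.range (algebraMap A B))
  (hR : Set.range (algebraMap R B) = Set.range fun b : B => b ^ p)
  {Λ M : Type u} (x : Λ → B) (hx : EGA41.IsPBasis p A x) (x' : Λ → A)
  (hx' : ∀ i, algebraMap A B (x' i) = x i ^ p) (y : M → A) (hy : EGA41.IsPBasis p R y)

include hinj hR hx' in
omit [IsReduced B] [CharP B p] hp in
theorem x'_mem (i : Λ) : x' i ∈ EGA41.pPowerSubalgebra p R A := by
  have h1 : x i ^ p ∈ Set.range (algebraMap R B) := hR ▸ ⟨x i, rfl⟩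
  obtain ⟨r, hr⟩ := h1
  have h2 : algebraMap R A r = x' i :=
    hinj (by rw [← IsScalarTower.algebraMap_apply, hr, hx'])
  rw [← h2]
  exact Subalgebra.algebraMap_mem _ r

include hinj hR hx hx' hy in
/-- dual derivations -/
theorem exists_dual [DecidableEq Λ] (i : Λ) :
    ∃ D : Derivation ℤ A B, ∀ j, D (x' j) = if j = i then 1 else 0 := by
  have hA : CharP A p := (algebraMap A B).charP hinj p
  obtain ⟨E, hE1, hE2⟩ := exists_derivation p hx (L := B)
    (0 : EGA41.pPowerSubalgebra p A B →+ B) (by intro c c'; simp) (by intro j; simp)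
    (fun j => if j = i then 1 else 0)
  obtain ⟨D, hD1, -⟩ := exists_derivation p hy (L := B) (D0 p hR E) (D0_mul p hR E) (by
      intro j
      rw [D0_apply p hR E _ (algebraMap A B (y j)) (by simp [map_pow])]
      have := hE1 ⟨algebraMap A B (y j), Subalgebra.algebraMap_mem _ _⟩
      simp only [AddMonoidHom.zero_apply] at this
      rw [this, zero_pow hp.out.ne_zero]) (fun _ => 0)
  refine ⟨D, fun j => ?_⟩
  have h1 := hD1 ⟨x' j, x'_mem p hinj hR x x' hx' j⟩
  simp only at h1
  rw [h1, D0_apply p hR E _ (x j) (hx' j).symm, hE2]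
  split_ifs
  · rw [one_pow]
  · rw [zero_pow hp.out.ne_zero]

include hinj hR hx hx' hy in
theorem linearIndependent_family : LinearIndependent B
    (fun i : Λ => (1 : B) ⊗ₜ[A] KaehlerDifferential.D ℤ A (x' i)) := by
  classical
  rw [linearIndependent_iff']
  intro s g hsum i hi
  obtain ⟨D, hD⟩ := exists_dual p hinj hR x hx x' hx' y hy i
  have h1 := congrArg ((D.liftKaehlerDifferential).liftBaseChange B) hsum
  rw [map_sum, map_zero] at h1
  simp only [map_smul, LinearMap.liftBaseChange_tmul, Derivation.liftKaehlerDifferential_comp_D,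
    one_smul, hD, smul_eq_mul] at h1
  rw [Finset.sum_eq_single i (by intro j _ hji; rw [if_neg hji, mul_zero, mul_zero])
    (by intro h; exact absurd hi h)] at h1
  simpa using h1

/-- the `B`-span of the `1 ⊗ dx'_i` -/
noncomputable def N : Submodule B (B ⊗[A] Ω[A⁄ℤ]) :=
  Submodule.span B (Set.range fun i : Λ => (1 : B) ⊗ₜ[A] KaehlerDifferential.D ℤ A (x' i))

omit [IsReduced B] [CharP B p] hp in
theorem one_tmul_smul (a : A) (w : Ω[A⁄ℤ]) :
    (1 : B) ⊗ₜ[A] (a • w) = (algebraMap A B a) • ((1 : B) ⊗ₜ[A] w) := by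
  rw [TensorProduct.tmul_smul, TensorProduct.smul_tmul', TensorProduct.smul_tmul',
    Algebra.smul_def, smul_eq_mul]

/-- inverse of `A → A[B^p]` -/
noncomputable def pre (c : EGA41.pPowerSubalgebra p A B) : A :=
  Classical.choose (mem_range_of_mem p hpow c)

omit [IsReduced B] [CharP B p] hp in
theorem pre_spec (c : EGA41.pPowerSubalgebra p A B) : algebraMap A B (pre p hpow c) = c :=
  Classical.choose_spec (mem_range_of_mem p hpow c)

include hinj in
omit [IsReduced B] [CharP B p] hp in
theorem pre_unique (c : EGA41.pPowerSubalgebra p A B) (a : A) (h : algebraMap A B a = c) :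
    pre p hpow c = a := hinj (by rw [pre_spec, h])

/-- the derivation `a ↦ [1 ⊗ da]` transported to `A[B^p]` -/
noncomputable def Dbar : EGA41.pPowerSubalgebra p A B →+ (B ⊗[A] Ω[A⁄ℤ]) ⧸ N (B := B) x' where
  toFun c := Submodule.Quotient.mk ((1 : B) ⊗ₜ[A] KaehlerDifferential.D ℤ A (pre p hpow c))
  map_zero' := by
    rw [pre_unique p hinj hpow 0 0 (map_zero _)]
    simp
  map_add' c c' := by
    rw [pre_unique p hinj hpow (c + c') (pre p hpow c + pre p hpow c')
      (by simp [pre_spec])]
    simp [tmul_add]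

include hinj in
omit [IsReduced B] [CharP B p] hp in
theorem Dbar_mul (c c' : EGA41.pPowerSubalgebra p A B) :
    Dbar p hinj hpow x' (c * c') =
      (c : B) • Dbar p hinj hpow x' c' + (c' : B) • Dbar p hinj hpow x' c := by
  change Submodule.Quotient.mk ((1 : B) ⊗ₜ[A] KaehlerDifferential.D ℤ A (pre p hpow (c * c'))) =
    (c : B) • Submodule.Quotient.mk ((1 : B) ⊗ₜ[A] KaehlerDifferential.D ℤ A (pre p hpow c')) +
    (c' : B) • Submodule.Quotient.mk ((1 : B) ⊗ₜ[A] KaehlerDifferential.D ℤ A (pre p hpow c))
  rw [pre_unique p hinj hpow (c * c') (pre p hpow c * pre p hpow c') (by simp [pre_spec]),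
    Derivation.leibniz, tmul_add, one_tmul_smul, one_tmul_smul, pre_spec, pre_spec,
    Submodule.Quotient.mk_add, Submodule.Quotient.mk_smul, Submodule.Quotient.mk_smul]

include hinj hpow hx hx' in
omit [IsReduced B] in
/-- the imperfection module is contained in the span -/
theorem imperfection_le : EGA41.imperfection ℤ A B ≤ N (B := B) x' := by
  obtain ⟨δ, hδ1, -⟩ := exists_derivation p hx (L := (B ⊗[A] Ω[A⁄ℤ]) ⧸ N (B := B) x')
    (Dbar p hinj hpow x') (Dbar_mul p hinj hpow x') (by
      intro i
      change Submodule.Quotient.mk ((1 : B) ⊗ₜ[A] KaehlerDifferential.D ℤ A (pre p hpow _)) = 0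
      rw [pre_unique p hinj hpow _ (x' i) (hx' i), Submodule.Quotient.mk_eq_zero]
      exact Submodule.subset_span ⟨i, rfl⟩) (fun _ => 0)
  have key : ∀ (w : Ω[A⁄ℤ]) (b : B),
      δ.liftKaehlerDifferential (b • KaehlerDifferential.map ℤ ℤ A B w) =
        Submodule.Quotient.mk (b ⊗ₜ[A] w) := by
    intro w
    have hw : w ∈ Submodule.span A (Set.range (KaehlerDifferential.D ℤ A)) := by
      rw [KaehlerDifferential.span_range_derivation]; trivial
    induction hw using Submodule.span_induction with
    | mem w hw =>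
      obtain ⟨a, rfl⟩ := hw
      intro b
      rw [KaehlerDifferential.map_D, map_smul, Derivation.liftKaehlerDifferential_comp_D]
      have h1 := hδ1 ⟨algebraMap A B a, Subalgebra.algebraMap_mem _ _⟩
      simp only at h1
      rw [h1]
      change b • Submodule.Quotient.mk ((1 : B) ⊗ₜ[A] KaehlerDifferential.D ℤ A (pre p hpow _)) = _
      rw [pre_unique p hinj hpow _ a rfl, ← Submodule.Quotient.mk_smul, TensorProduct.smul_tmul',
        smul_eq_mul, mul_one]
    | zero => intro b; simp
    | add u v _ _ hu hv =>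
      intro b
      rw [map_add, smul_add, map_add, hu, hv, tmul_add, Submodule.Quotient.mk_add]
    | smul a u _ hu =>
      intro b
      rw [(KaehlerDifferential.map ℤ ℤ A B).map_smul a u,
        ← algebraMap_smul B a (KaehlerDifferential.map ℤ ℤ A B u), smul_smul, hu,
        TensorProduct.tmul_smul, TensorProduct.smul_tmul', Algebra.smul_def, mul_comm]
  intro ω hω
  have h2 : ∀ ω : B ⊗[A] Ω[A⁄ℤ],
      δ.liftKaehlerDifferential (KaehlerDifferential.mapBaseChange ℤ A B ω) =
        Submodule.Quotient.mk ω := by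
    intro ω
    induction ω using TensorProduct.induction_on with
    | zero => simp
    | tmul b w => rw [KaehlerDifferential.mapBaseChange_tmul, key]
    | add u v hu hv => rw [map_add, map_add, hu, hv, Submodule.Quotient.mk_add]
  have h3 := h2 ω
  rw [show KaehlerDifferential.mapBaseChange ℤ A B ω = 0 from hω, map_zero] at h3
  exact (Submodule.Quotient.mk_eq_zero _).1 h3.symm

include hx' in
omit [IsReduced B] hp in
theorem mem_imperfection (i : Λ) :
    (1 : B) ⊗ₜ[A] KaehlerDifferential.D ℤ A (x' i) ∈ EGA41.imperfection ℤ A B := by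
  change KaehlerDifferential.mapBaseChange ℤ A B _ = 0
  rw [KaehlerDifferential.mapBaseChange_tmul, one_smul, KaehlerDifferential.map_D, hx',
    Derivation.leibniz_pow, ← Nat.cast_smul_eq_nsmul B, CharP.cast_eq_zero B p, zero_smul]

end Main

open TensorProduct in
/-- Let p be a prime, B a reduced ring of characteristic p, A a subring with B^p ⊆ A ⊆ B (here A → B
injective with all p-th powers in its image, and R → A → B with image in B the set of p-th powers, R
standing for B^p). Suppose B has a p-basis (x_λ) over A and A has a p-basis over R, and let x'_λ ∈ A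
map to x_λ^p. Then the elements 1 ⊗ d_{A/ℤ}(x'_λ) form a basis of the B-module Υ_{B/A}, the kernel
of B ⊗_A Ω_{A/ℤ} → Ω_{B/ℤ}. (The published statement also identifies Υ_{B/A} with the Frobenius
twist of Ω_{B/A}; this row states only the basis.) -/
theorem result (p : ℕ) [Fact p.Prime] {R A B : Type u} [CommRing R] [CommRing A]
    [CommRing B] [IsReduced B] [Algebra R A] [Algebra A B] [Algebra R B] [IsScalarTower R A B] [CharP B p]
    (hinj : Function.Injective (algebraMap A B)) (hpow : ∀ b : B, b ^ p ∈ Set.range (algebraMap A B))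
    (hR : Set.range (algebraMap R B) = Set.range fun b : B => b ^ p)
    {Λ M : Type u} (x : Λ → B) (hx : EGA41.IsPBasis p A x) (x' : Λ → A) (hx' : ∀ i, algebraMap A B (x' i) = x i ^ p)
    (y : M → A) (hy : EGA41.IsPBasis p R y) :
    ∃ b : Module.Basis Λ B (EGA41.imperfection ℤ A B),
      ∀ i, (b i : B ⊗[A] Ω[A⁄ℤ]) = (1 : B) ⊗ₜ[A] KaehlerDifferential.D ℤ A (x' i) := by
  classical
  let v : Λ → EGA41.imperfection ℤ A B := fun i =>
    ⟨(1 : B) ⊗ₜ[A] KaehlerDifferential.D ℤ A (x' i), mem_imperfection p x x' hx' i⟩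
  have hli : LinearIndependent B v := by
    apply LinearIndependent.of_comp (EGA41.imperfection ℤ A B).subtype
    exact linearIndependent_family p hinj hR x hx x' hx' y hy
  have hsp : ⊤ ≤ Submodule.span B (Set.range v) := by
    intro ω _
    have h1 : (ω : B ⊗[A] Ω[A⁄ℤ]) ∈ N (B := B) x' :=
      imperfection_le p hinj hpow x hx x' hx' ω.2
    have h2 : N (B := B) x' = (Submodule.span B (Set.range v)).map
        (EGA41.imperfection ℤ A B).subtype := by
      rw [Submodule.map_span, ← Set.range_comp]
      rfl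
    rw [h2] at h1
    obtain ⟨ω', hω', hωω'⟩ := h1
    have : ω' = ω := Subtype.ext hωω'
    rw [← this]
    exact hω'
  refine ⟨Module.Basis.mk hli hsp, fun i => ?_⟩
  rw [Module.Basis.mk_apply]

end Groth.Agent.S4520
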