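import Groth.Statements.S4522
import Groth.Agent.Lib.MacLane3H44

set_option autoImplicit false
universe u
open EGA41

namespace Groth.Agent.S4522

/-- Let L be a field of characteristic p > 0 and K a subfield with L^p ⊆ K ⊆ L (here R → K → L with the
image of R in L the set of p-th powers and every p-th power of L in the image of K). Then the
canonical L-linear map L ⊗_K Ω_{K/L^p} → Ω_{L/L^p} is injective, so that 0 → Ω_{K/L^p} ⊗_K L →
Ω_{L/L^p} → Ω_{L/K} → 0 is exact: the imperfection module of L over K relative to L^p vanishes. -/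
theorem result (p : ℕ) [Fact p.Prime] {R K L : Type u} [Field R] [Field K] [Field L]
    [Algebra R K] [Algebra K L] [Algebra R L] [IsScalarTower R K L] [CharP L p]
    (hR : Set.range (algebraMap R L) = Set.range fun y : L => y ^ p)
    (hK : ∀ y : L, y ^ p ∈ Set.range (algebraMap K L)) :
    Function.Injective (KaehlerDifferential.mapBaseChange R K L) := by
  classical
  have hinj : Function.Injective (algebraMap K L) := (algebraMap K L).injective
  have hKp : CharP K p := ((algebraMap K L).charP_iff hinj p).2 inferInstance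
  obtain ⟨B, hB⟩ := Groth.Agent.Lib.PBasisField3H44.exists_pBasis p R K
  rw [Groth.Agent.Lib.MacLane2H44.mapBaseChange_injective_iff p (Subtype.val : B → K) hB]
  -- every element of `R[L^p]` comes from `R`
  have hCL : ∀ g : L, g ∈ EGA41.pPowerSubalgebra p R L → ∃ r : R, algebraMap R L r = g := by
    intro g hg
    unfold EGA41.pPowerSubalgebra at hg
    induction hg using Algebra.adjoin_induction with
    | mem y hy =>
      obtain ⟨b, rfl⟩ := hy
      have : b ^ p ∈ Set.range (algebraMap R L) := by rw [hR]; exact ⟨b, rfl⟩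
      exact this
    | algebraMap r => exact ⟨r, rfl⟩
    | add a b _ _ ha hb =>
      obtain ⟨r, rfl⟩ := ha
      obtain ⟨r', rfl⟩ := hb
      exact ⟨r + r', map_add _ _ _⟩
    | mul a b _ _ ha hb =>
      obtain ⟨r, rfl⟩ := ha
      obtain ⟨r', rfl⟩ := hb
      exact ⟨r * r', map_mul _ _ _⟩
  have hind := hB.1
  unfold EGA41.IsPIndependent at hind ⊢
  rw [linearIndependent_iff'] at hind ⊢
  intro s g hsum
  choose r hr using fun e => hCL (g e : L) (g e).2
  have hmon : ∀ e : ↥B →₀ ℕ, EGA41.pMonomial (fun b : B => algebraMap K L b) e =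
      algebraMap K L (EGA41.pMonomial (Subtype.val : B → K) e) :=
    fun e => (Groth.Agent.Lib.PBasisH44.map_mon (algebraMap K L) (Subtype.val : B → K) e).symm
  have h1 : ∑ e ∈ s, (⟨algebraMap R K (r e), Subalgebra.algebraMap_mem _ _⟩ :
      EGA41.pPowerSubalgebra p R K) • EGA41.pMonomial (Subtype.val : B → K) e.1 = 0 := by
    apply hinj
    rw [map_zero, ← hsum, map_sum]
    apply Finset.sum_congr rfl
    intro e _
    rw [Subalgebra.smul_def, Subalgebra.smul_def, smul_eq_mul, smul_eq_mul, map_mul, hmon,
      ← hr e, ← IsScalarTower.algebraMap_apply]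
  intro e he
  have h2 := hind s _ h1 e he
  have h3 : algebraMap R K (r e) = 0 := congrArg Subtype.val h2
  apply Subtype.ext
  rw [← hr e, IsScalarTower.algebraMap_apply R K L, h3, map_zero]
  rfl

end Groth.Agent.S4522
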