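import Groth.Statements.S4524
import Mathlib.RingTheory.Smooth.Field
import Mathlib.RingTheory.Etale.Kaehler
import Mathlib.RingTheory.Kaehler.Polynomial
import Mathlib.RingTheory.AlgebraicIndependent.TranscendenceBasis
import Mathlib.RingTheory.Unramified.Field
import Mathlib.LinearAlgebra.TensorProduct.Basis

set_option autoImplicit false
universe u
open EGA41

namespace Groth.Agent.S4524

open TensorProduct

open scoped IntermediateField.algebraAdjoinAdjoin in
/-- If `K` has an algebraically independent family `v` over `k` (char 0) such that `K` is algebraic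
over `k(v)`, and the differentials vanish, then the index type is empty. -/
theorem isEmpty_of_subsingleton {k K : Type u} [Field k] [CharZero k] [Field K] [Algebra k K]
    {ι : Type u} (v : ι → K) (hv : IsTranscendenceBasis k v) (hΩ : Subsingleton (Ω[K⁄k])) :
    IsEmpty ι := by
  have hb : AlgebraicIndependent k v := hv.1
  let S : Set K := Set.range v
  let P := Algebra.adjoin k S
  let F := IntermediateField.adjoin k S
  have hF : Algebra.IsAlgebraic F K := hv.isAlgebraic_field
  have : CharZero F := charZero_of_injective_algebraMap (algebraMap k F).injective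
  have : Algebra.IsSeparable F K := Algebra.IsAlgebraic.isSeparable_of_perfectField
  have e1 : Algebra.FormallyEtale F K := Algebra.FormallyEtale.of_isSeparable F K
  have e2 : Algebra.FormallyEtale P F := Algebra.FormallyEtale.of_isLocalization (nonZeroDivisors P)
  have e3 : Algebra.FormallyEtale P K := Algebra.FormallyEtale.comp P F K
  -- the polynomial ring
  let Q := MvPolynomial ι k
  let algQP : Algebra Q P := hb.aevalEquiv.toAlgHom.toRingHom.toAlgebra
  let algQK : Algebra Q K := (MvPolynomial.aeval v : Q →ₐ[k] K).toRingHom.toAlgebra
  have t1 : IsScalarTower Q P K := IsScalarTower.of_algebraMap_eq (fun x => rfl)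
  have t2 : IsScalarTower k Q K := IsScalarTower.of_algebraMap_eq (fun x => by
    change algebraMap k K x = MvPolynomial.aeval v (MvPolynomial.C x)
    rw [MvPolynomial.aeval_C])
  let eQ : Q ≃ₐ[Q] P :=
    { hb.aevalEquiv.toRingEquiv with
      commutes' := fun x => rfl }
  have e4 : Algebra.FormallyEtale Q P := Algebra.FormallyEtale.of_equiv eQ
  have e5 : Algebra.FormallyEtale Q K := Algebra.FormallyEtale.comp Q P K
  let T := KaehlerDifferential.tensorKaehlerEquivOfFormallyEtale k Q K
  have hsub : Subsingleton (K ⊗[Q] Ω[Q⁄k]) := T.toEquiv.subsingleton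
  let b := (KaehlerDifferential.mvPolynomialBasis k ι).baseChange K
  refine ⟨fun i => ?_⟩
  exact b.ne_zero i (Subsingleton.elim _ _)

/-- Let k be a field of characteristic 0 and K an extension of k. Then Ω_{K/k} = 0 if and only if K is
an algebraic extension of k. -/
theorem result {k K : Type u} [Field k] [CharZero k] [Field K] [Algebra k K] :
    Subsingleton (Ω[K⁄k]) ↔ Algebra.IsAlgebraic k K := by
  constructor
  · intro hΩ
    obtain ⟨s, hs⟩ := exists_isTranscendenceBasis k K
    have := isEmpty_of_subsingleton _ hs hΩ
    exact hs.isEmpty_iff_isAlgebraic.1 this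
  · intro h
    have : Algebra.IsSeparable k K := Algebra.IsAlgebraic.isSeparable_of_perfectField
    have : Algebra.FormallyUnramified k K := Algebra.FormallyUnramified.of_isSeparable k K
    infer_instance

end Groth.Agent.S4524
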