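import Groth.Statements.S4526
import Groth.Agent.S4525

set_option autoImplicit false
universe u
open EGA41

namespace Groth.Agent.S4526

/-- Let k ⊆ K ⊆ L be three fields with L an extension of finite type of k. Then Ω_{L/k} and Ω_{K/k} are
finite-dimensional and rank_L Ω_{L/k} − rank_K Ω_{K/k} ≥ trdeg_K L. (The published statement also
gives the exact value trdeg_K L + d(L/K, k) and an equality criterion; this row states only the
inequality.) -/
theorem result {k K L : Type u} [Field k] [Field K] [Field L]
    [Algebra k K] [Algebra K L] [Algebra k L] [IsScalarTower k K L] [Algebra.EssFiniteType k L] :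
    Module.Finite L (Ω[L⁄k]) ∧ Module.Finite K (Ω[K⁄k]) ∧
      (Cardinal.toNat (Algebra.trdeg K L) : ℤ) ≤ (Module.finrank L (Ω[L⁄k]) : ℤ) - Module.finrank K (Ω[K⁄k]) := by
  have hess : Algebra.EssFiniteType K L := Algebra.EssFiniteType.of_comp k K L
  obtain ⟨a1, -, -⟩ := Groth.Agent.Lib.CartierH44.cartier k L
  obtain ⟨c1, c2, c3⟩ := Groth.Agent.Lib.CartierH44.cartier K L
  obtain ⟨d1, d2⟩ := Groth.Agent.S4525.imperfection_le k K L
  have hex1 : Function.Exact (KaehlerDifferential.mapBaseChange k K L)
      (KaehlerDifferential.map k K L L) := KaehlerDifferential.exact_mapBaseChange_map k K L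
  have hsurj : Function.Surjective (KaehlerDifferential.map k K L L) :=
    KaehlerDifferential.map_surjective k K L
  have hex2 : Function.Exact (Algebra.H1Cotangent.δ k K L)
      (KaehlerDifferential.mapBaseChange k K L) := Algebra.H1Cotangent.exact_δ_mapBaseChange k K L
  -- finiteness of `L ⊗ Ω[K/k]`
  have fT : Module.Finite L (TensorProduct K L Ω[K⁄k]) := by
    have h1 : Function.Exact (Algebra.H1Cotangent.δ k K L)
        (KaehlerDifferential.mapBaseChange k K L).rangeRestrict := by
      intro x
      rw [← hex2 x]
      constructor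
      · intro h; simpa using congrArg Subtype.val h
      · intro h; exact Subtype.ext h
    exact Module.Finite.of_exact h1 (LinearMap.surjective_rangeRestrict _)
  have fK : Module.Finite K Ω[K⁄k] := by
    rw [← Module.rank_lt_aleph0_iff] at fT ⊢
    rw [Module.rank_baseChange, Cardinal.lift_lt_aleph0] at fT
    exact fT
  refine ⟨a1, fK, ?_⟩
  have e1 := LinearMap.finrank_range_add_finrank_ker (KaehlerDifferential.map k K L L)
  have e2 := LinearMap.finrank_range_add_finrank_ker (KaehlerDifferential.mapBaseChange k K L)
  rw [LinearMap.exact_iff.1 hex1, LinearMap.range_eq_top.2 hsurj, finrank_top] at e1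
  rw [Module.finrank_baseChange] at e2
  have e3 : Module.finrank L (LinearMap.ker (KaehlerDifferential.mapBaseChange k K L)) =
      Module.finrank L (EGA41.imperfection k K L) := rfl
  rw [e3] at e2
  rw [← c3]
  unfold Groth.Agent.Lib.SixTermH44.chi
  have : (Module.finrank L (EGA41.imperfection k K L) : ℤ) ≤
      Module.finrank L (Algebra.H1Cotangent K L) := by exact_mod_cast d2
  have e1' : (Module.finrank L Ω[L⁄K] : ℤ) +
      Module.finrank L (LinearMap.range (KaehlerDifferential.mapBaseChange k K L)) =
      Module.finrank L Ω[L⁄k] := by exact_mod_cast e1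
  have e2' : (Module.finrank L (LinearMap.range (KaehlerDifferential.mapBaseChange k K L)) : ℤ) +
      Module.finrank L (EGA41.imperfection k K L) = Module.finrank K Ω[K⁄k] := by
    exact_mod_cast e2
  linarith

end Groth.Agent.S4526
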