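import Groth.Statements.S4527
import Mathlib.LinearAlgebra.Basis.VectorSpace

set_option autoImplicit false
universe u
open EGA41

namespace Groth.Agent.S4527

/-- Let k ⊆ k' be fields and r ≥ 0. Inside k'((T_1, …, T_r)) one has k'[[T_1, …, T_r]] ∩ k((T_1, …,
T_r)) = k[[T_1, …, T_r]]; stated as: for a, b ∈ k[[T]], if b divides a in k'[[T]] then b divides a
in k[[T]]. -/
theorem result {k k' : Type u} [Field k] [Field k'] [Algebra k k'] (r : ℕ)
    (a b : MvPowerSeries (Fin r) k)
    (h : MvPowerSeries.map (algebraMap k k') b ∣ MvPowerSeries.map (algebraMap k k') a) :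
    b ∣ a := by
  classical
  obtain ⟨c, hc⟩ := h
  obtain ⟨π, hπ⟩ := (Algebra.linearMap k k').exists_leftInverse_of_injective
    (LinearMap.ker_eq_bot.2 (algebraMap k k').injective)
  have hπ' : ∀ x : k, π (algebraMap k k' x) = x := fun x => by
    have := LinearMap.congr_fun hπ x
    simpa using this
  refine ⟨fun n => π (MvPowerSeries.coeff n c), ?_⟩
  ext n
  have h1 := congrArg (fun f => π (MvPowerSeries.coeff n f)) hc
  simp only [MvPowerSeries.coeff_map, hπ', MvPowerSeries.coeff_mul, map_sum] at h1
  rw [h1, MvPowerSeries.coeff_mul]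
  refine Finset.sum_congr rfl fun x _ => ?_
  have : (algebraMap k k') (MvPowerSeries.coeff x.1 b) * MvPowerSeries.coeff x.2 c =
      (MvPowerSeries.coeff x.1 b) • MvPowerSeries.coeff x.2 c := by
    rw [Algebra.smul_def]
  rw [this, map_smul, smul_eq_mul]
  rfl

end Groth.Agent.S4527
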