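import Groth.Statements.S4528
import Groth.Agent.Lib.AdicPi
import Mathlib

set_option autoImplicit false
universe u
open EGA41

namespace Groth.Agent.S4528

open IsLocalRing in
/-- Let k be a field (any characteristic) and A a complete Noetherian local k-algebra whose residue
field K is an extension of finite type of k. Then the completed module of differentials, i.e. the
𝔪-adic completion of Ω_{A/k}, is an A-module of finite type. -/
theorem result {k A : Type u} [Field k] [CommRing A] [IsLocalRing A]
    [IsNoetherianRing A] [IsAdicComplete (maximalIdeal A) A] [Algebra k A]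
    [Algebra.EssFiniteType k (ResidueField A)] :
    Module.Finite A (AdicCompletion (maximalIdeal A) (Ω[A⁄k])) := by
  classical
  -- Step 1: `K ⊗ Ω` is finite over `A`
  have hsurjAK : Function.Surjective (algebraMap A (ResidueField A)) := residue_surjective
  have hex := KaehlerDifferential.exact_kerCotangentToTensor_mapBaseChange k A (ResidueField A) hsurjAK
  have hsur := KaehlerDifferential.mapBaseChange_surjective k A (ResidueField A) hsurjAK
  have hfinK : Module.Finite (ResidueField A) (Ω[ResidueField A⁄k]) := inferInstance
  have hfinAK : Module.Finite A (ResidueField A) := inferInstance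
  have hfin1 : Module.Finite A (Ω[ResidueField A⁄k]) := Module.Finite.trans (ResidueField A) _
  have hfinCot : Module.Finite A (RingHom.ker (algebraMap A (ResidueField A))).Cotangent := by
    have : Module.Finite A (RingHom.ker (algebraMap A (ResidueField A))) :=
      Module.Finite.iff_fg.mpr (IsNoetherian.noetherian _)
    exact Module.Finite.of_surjective (Ideal.toCotangent _) (Ideal.toCotangent_surjective _)
  let fA : (RingHom.ker (algebraMap A (ResidueField A))).Cotangent →ₗ[A]
      TensorProduct A (ResidueField A) (Ω[A⁄k]) :=
    KaehlerDifferential.kerCotangentToTensor k A (ResidueField A)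
  let gA : TensorProduct A (ResidueField A) (Ω[A⁄k]) →ₗ[A] Ω[ResidueField A⁄k] :=
    (KaehlerDifferential.mapBaseChange k A (ResidueField A)).restrictScalars A
  have hexA : Function.Exact fA gA := hex
  have hsurA : Function.Surjective gA := hsur
  have hfinT : Module.Finite A (TensorProduct A (ResidueField A) (Ω[A⁄k])) := by
    have h1 : Module.Finite A (LinearMap.range fA) := Module.Finite.range fA
    have h2 : Module.Finite A (TensorProduct A (ResidueField A) (Ω[A⁄k]) ⧸ LinearMap.range fA) :=
      Module.Finite.equiv (hexA.linearEquivOfSurjective hsurA).symm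
    exact Module.Finite.of_submodule_quotient (LinearMap.range fA)
  -- Step 2: `Ω / mΩ` finite
  have hfinT' : Module.Finite A (TensorProduct A (A ⧸ maximalIdeal A) (Ω[A⁄k])) := hfinT
  have hfinQ : Module.Finite A ((Ω[A⁄k]) ⧸ (maximalIdeal A • ⊤ : Submodule A (Ω[A⁄k]))) :=
    Module.Finite.equiv (TensorProduct.quotTensorEquivQuotSMul (Ω[A⁄k]) (maximalIdeal A))
  -- Step 3: completion mod m
  have hfg : (maximalIdeal A).FG := IsNoetherian.noetherian _
  have hker := AdicCompletion.pow_smul_top_eq_ker_eval (I := maximalIdeal A) (M := Ω[A⁄k]) (n := 1) hfg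
  have hevs := AdicCompletion.eval_surjective (maximalIdeal A) (Ω[A⁄k]) 1
  have e1 := (AdicCompletion.eval (maximalIdeal A) (Ω[A⁄k]) 1).quotKerEquivOfSurjective hevs
  have e2 := Submodule.quotEquivOfEq _ _ hker
  have hfin3 : Module.Finite A ((Ω[A⁄k]) ⧸ (maximalIdeal A ^ 1 • ⊤ : Submodule A (Ω[A⁄k]))) := by
    rw [pow_one]; exact hfinQ
  have hfin4 : Module.Finite A (AdicCompletion (maximalIdeal A) (Ω[A⁄k]) ⧸
      (maximalIdeal A ^ 1 • ⊤ : Submodule A (AdicCompletion (maximalIdeal A) (Ω[A⁄k])))) :=
    Module.Finite.equiv (e2.trans e1).symm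
  rw [pow_one] at hfin4
  exact Groth.Agent.Lib.AdicPi.finite_of_finite_quotient (maximalIdeal A) _ hfin4

end Groth.Agent.S4528
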