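import Groth.Statements.S4529
import Mathlib.RingTheory.Nakayama
import Mathlib.RingTheory.OrzechProperty
import Mathlib.RingTheory.Nilpotent.Basic
import Mathlib.RingTheory.Ideal.Operations
import Mathlib.RingTheory.Noetherian.Orzech
import Mathlib.RingTheory.FiniteType

set_option autoImplicit false
universe u
open EGA41

namespace Groth.Agent.S4529

/-- An endomorphism congruent to the identity modulo a nilpotent ideal has a left inverse. -/
theorem exists_leftInverse_of_nilpotent {A : Type u} [CommRing A] {M : Type u} [AddCommGroup M]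
    [Module A M] (J : Ideal A) (hJ : IsNilpotent J) (φ : M →ₗ[A] M)
    (hφ : ∀ m, φ m - m ∈ (J • ⊤ : Submodule A M)) : ∃ ψ : M →ₗ[A] M, ψ ∘ₗ φ = LinearMap.id := by
  obtain ⟨n, hn⟩ := hJ
  set δ : Module.End A M := φ - 1 with hδ
  have hδ1 : ∀ m, δ m ∈ (J • ⊤ : Submodule A M) := fun m => by
    simpa [hδ] using hφ m
  have hpow : ∀ k : ℕ, ∀ m, (δ ^ k) m ∈ (J ^ k • ⊤ : Submodule A M) := by
    intro k
    induction k with
    | zero => intro m; simp
    | succ k ih =>
      intro m
      have hsplit : (δ ^ (k + 1)) m = δ ((δ ^ k) m) := by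
        rw [pow_succ', Module.End.mul_apply]
      rw [hsplit]
      have h1 : (δ ^ k) m ∈ (J ^ k • ⊤ : Submodule A M) := ih m
      have h2 : δ ((δ ^ k) m) ∈ Submodule.map δ (J ^ k • ⊤ : Submodule A M) :=
        Submodule.mem_map_of_mem h1
      rw [Submodule.map_smul''] at h2
      have h3 : Submodule.map δ (⊤ : Submodule A M) ≤ (J • ⊤ : Submodule A M) := by
        rintro _ ⟨x, -, rfl⟩
        exact hδ1 x
      have h4 := Submodule.smul_mono (le_refl (J ^ k)) h3 h2
      rw [← mul_smul, ← pow_succ] at h4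
      exact h4
  have hnil : IsNilpotent δ := by
    refine ⟨n, ?_⟩
    ext m
    have := hpow n m
    rw [hn] at this
    simpa using this
  have hunit : IsUnit (1 + δ) := hnil.isUnit_one_add
  have hφeq : (1 + δ : Module.End A M) = φ := by rw [hδ]; abel
  rw [hφeq] at hunit
  obtain ⟨ψ, hψ⟩ := hunit.exists_left_inv
  exact ⟨ψ, hψ⟩

/-- A surjective-mod-`J` endomorphism of a finite module, `J` in the radical, has a left inverse. -/
theorem exists_leftInverse_of_jacobson {A : Type u} [CommRing A] {M : Type u} [AddCommGroup M]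
    [Module A M] [Module.Finite A M] (J : Ideal A) (hJ : J ≤ (⊥ : Ideal A).jacobson)
    (φ : M →ₗ[A] M) (hφ : ∀ m, φ m - m ∈ (J • ⊤ : Submodule A M)) :
    ∃ ψ : M →ₗ[A] M, ψ ∘ₗ φ = LinearMap.id := by
  have hsurj : Function.Surjective φ := by
    rw [← LinearMap.range_eq_top, eq_top_iff]
    refine Submodule.le_of_le_smul_of_le_jacobson_bot Module.Finite.fg_top hJ ?_
    intro m _
    have : m = φ m - (φ m - m) := by abel
    rw [this]
    exact Submodule.sub_mem _ (Submodule.mem_sup_left (LinearMap.mem_range_self φ m))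
      (Submodule.mem_sup_right (hφ m))
  have hbij : Function.Bijective φ :=
    OrzechProperty.bijective_of_surjective_endomorphism φ hsurj
  let e := LinearEquiv.ofBijective φ hbij
  refine ⟨e.symm.toLinearMap, ?_⟩
  ext m
  simp [e]

/-- Let A be a ring, M, N two A-modules with N projective, u : M → N a homomorphism and J an ideal of A;
suppose either (i) J is nilpotent, or (ii) J is contained in the Jacobson radical of A and M is of
finite type. Then u is left invertible if and only if the induced map u₀ : M/JM → N/JN is left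
invertible. (A left inverse of u₀ composed with N → N/JN is an A-linear map v : N → M/JM with v ∘ u
the projection, and conversely; the right-hand side is written in that form.) -/
theorem result {A : Type u} [CommRing A] {M N : Type u} [AddCommGroup M] [Module A M]
    [AddCommGroup N] [Module A N] [Module.Projective A N] (u : M →ₗ[A] N) (J : Ideal A)
    (hJ : IsNilpotent J ∨ (J ≤ (⊥ : Ideal A).jacobson ∧ Module.Finite A M)) :
    (∃ w : N →ₗ[A] M, w ∘ₗ u = LinearMap.id) ↔
      ∃ v : N →ₗ[A] M ⧸ (J • ⊤ : Submodule A M), v ∘ₗ u = (J • ⊤ : Submodule A M).mkQ := by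
  constructor
  · rintro ⟨w, hw⟩
    refine ⟨(J • ⊤ : Submodule A M).mkQ ∘ₗ w, ?_⟩
    rw [LinearMap.comp_assoc, hw, LinearMap.comp_id]
  · rintro ⟨v, hv⟩
    obtain ⟨w₀, hw₀⟩ := Module.projective_lifting_property (J • ⊤ : Submodule A M).mkQ v
      (Submodule.mkQ_surjective _)
    have hφ : ∀ m, (w₀ ∘ₗ u) m - m ∈ (J • ⊤ : Submodule A M) := by
      intro m
      rw [← Submodule.Quotient.mk_eq_zero, Submodule.Quotient.mk_sub, sub_eq_zero]
      have h1 := LinearMap.congr_fun hv m
      have h2 := LinearMap.congr_fun hw₀ (u m)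
      simp only [LinearMap.comp_apply, Submodule.mkQ_apply] at h1 h2 ⊢
      rw [h2, h1]
    have key : ∃ ψ : M →ₗ[A] M, ψ ∘ₗ (w₀ ∘ₗ u) = LinearMap.id := by
      rcases hJ with hJ | ⟨hJ, hfin⟩
      · exact exists_leftInverse_of_nilpotent J hJ _ hφ
      · exact exists_leftInverse_of_jacobson J hJ _ hφ
    obtain ⟨ψ, hψ⟩ := key
    exact ⟨ψ ∘ₗ w₀, by rw [LinearMap.comp_assoc]; exact hψ⟩

end Groth.Agent.S4529
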