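import Groth.Statements.S4530
import Groth.Agent.S4529
import Mathlib.RingTheory.LocalRing.Module
import Mathlib.RingTheory.LocalProperties.Projective
import Mathlib.RingTheory.Localization.BaseChange
import Mathlib.Algebra.Module.FinitePresentation
import Mathlib.Tactic

set_option autoImplicit false
universe u
open EGA41

namespace Groth.Agent.S4530


section helpers

open TensorProduct

variable {A : Type u} [CommRing A] {M N P : Type u} [AddCommGroup M] [Module A M]
  [AddCommGroup N] [Module A N] [AddCommGroup P] [Module A P]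

/-- the localized map, as an `A`-linear map -/
noncomputable abbrev mapA (S : Submonoid A) (u : M →ₗ[A] N) :
    LocalizedModule S M →ₗ[A] LocalizedModule S N :=
  (LocalizedModule.map S u).restrictScalars A

theorem mapA_mk (S : Submonoid A) (u : M →ₗ[A] N) (m : M) (s : S) :
    mapA S u (LocalizedModule.mk m s) = LocalizedModule.mk (u m) s := by
  simp [mapA]

theorem mapA_comp (S : Submonoid A) (u : M →ₗ[A] N) (v : N →ₗ[A] P) :
    mapA S (v ∘ₗ u) = mapA S v ∘ₗ mapA S u := by
  refine LinearMap.ext fun x => ?_
  induction x using LocalizedModule.induction_on with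
  | _ m s => simp [mapA]

theorem mapA_comp_mk (S : Submonoid A) (u : M →ₗ[A] N) :
    mapA S u ∘ₗ LocalizedModule.mkLinearMap S M = LocalizedModule.mkLinearMap S N ∘ₗ u := by
  ext m
  simp [mapA, LocalizedModule.mkLinearMap_apply]

/-- left invertibility after localizing at `S` -/
def LI (S : Submonoid A) (u : M →ₗ[A] N) : Prop :=
  ∃ w : LocalizedModule S N →ₗ[A] LocalizedModule S M, w ∘ₗ mapA S u = LinearMap.id

theorem LI_of_factor (S : Submonoid A) (u : M →ₗ[A] N) (u'' : M →ₗ[A] P) (r : P →ₗ[A] N)
    (hr : r ∘ₗ u'' = u) (h : LI S u) : LI S u'' := by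
  obtain ⟨w, hw⟩ := h
  refine ⟨w ∘ₗ mapA S r, ?_⟩
  rw [LinearMap.comp_assoc, ← mapA_comp, hr, hw]

/-- factor through a finite free module -/
theorem exists_factor [Module.Finite A M] [Module.Projective A N] (u : M →ₗ[A] N) :
    ∃ (T : Finset N) (q : N →ₗ[A] (T →₀ A)) (r : (T →₀ A) →ₗ[A] N), r ∘ₗ q ∘ₗ u = u := by
  classical
  obtain ⟨s, hs⟩ := (Module.projective_def (R := A) (P := N)).mp inferInstance
  obtain ⟨G, hG⟩ := (Module.Finite.fg_top : (⊤ : Submodule A M).FG)
  let T : Finset N := G.biUnion fun m => (s (u m)).support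
  have hsupp : ∀ m : M, s (u m) ∈ Finsupp.supported A A (T : Set N) := by
    intro m
    have hm : m ∈ Submodule.span A (G : Set M) := by rw [hG]; trivial
    refine Submodule.span_induction (p := fun m _ => s (u m) ∈ Finsupp.supported A A (T : Set N))
      ?_ ?_ ?_ ?_ hm
    · intro x hx
      rw [Finsupp.mem_supported]
      intro n hn
      exact Finset.mem_biUnion.mpr ⟨x, hx, hn⟩
    · simp
    · intro x y _ _ hx hy
      rw [map_add, map_add]; exact Submodule.add_mem _ hx hy
    · intro a x _ hx
      rw [map_smul, map_smul]; exact Submodule.smul_mem _ a hx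
  let q : N →ₗ[A] (T →₀ A) := (Finsupp.lsubtypeDomain (T : Set N)) ∘ₗ s
  let r : (T →₀ A) →ₗ[A] N := Finsupp.linearCombination A (Subtype.val : T → N)
  refine ⟨T, q, r, ?_⟩
  ext m
  have h1 : ∀ x ∈ (s (u m)).support, x ∈ (T : Set N) := (Finsupp.mem_supported A _).mp (hsupp m)
  have h2 := hs (u m)
  simp only [LinearMap.comp_apply, q, r, Finsupp.linearCombination_apply]
  rw [Finsupp.linearCombination_apply] at h2
  simp only [id] at h2
  conv_rhs => rw [← h2]
  exact Finsupp.sum_subtypeDomain_index (h := fun a b => b • a) h1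

/-- left invertibility passes to a larger multiplicative set -/
theorem LI_mono {S T : Submonoid A} (hST : S ≤ T) (u : M →ₗ[A] N) (h : LI S u) : LI T u := by
  obtain ⟨w, hw⟩ := h
  have hunitsM : ∀ x : S, IsUnit ((algebraMap A (Module.End A (LocalizedModule T M))) x) :=
    fun x => IsLocalizedModule.map_units (LocalizedModule.mkLinearMap T M) ⟨x.1, hST x.2⟩
  let cM : LocalizedModule S M →ₗ[A] LocalizedModule T M :=
    LocalizedModule.lift S (LocalizedModule.mkLinearMap T M) hunitsM
  have hcM : ∀ m : M, cM (LocalizedModule.mk m 1) = LocalizedModule.mk m 1 := by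
    intro m
    have := LocalizedModule.lift_comp S (LocalizedModule.mkLinearMap T M) hunitsM
    have h2 := LinearMap.congr_fun this m
    rw [LinearMap.comp_apply, LocalizedModule.mkLinearMap_apply,
      LocalizedModule.mkLinearMap_apply] at h2
    exact h2
  let g : N →ₗ[A] LocalizedModule T M := cM ∘ₗ w ∘ₗ LocalizedModule.mkLinearMap S N
  let wT : LocalizedModule T N →ₗ[A] LocalizedModule T M :=
    LocalizedModule.lift T g (IsLocalizedModule.map_units (LocalizedModule.mkLinearMap T M))
  refine ⟨wT, ?_⟩
  apply IsLocalizedModule.ext T (LocalizedModule.mkLinearMap T M)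
    (IsLocalizedModule.map_units (LocalizedModule.mkLinearMap T M))
  ext m
  have h1 : wT (LocalizedModule.mk (u m) 1) = g (u m) := by
    have := LocalizedModule.lift_comp T g
      (IsLocalizedModule.map_units (LocalizedModule.mkLinearMap T M))
    have h2 := LinearMap.congr_fun this (u m)
    rw [LinearMap.comp_apply, LocalizedModule.mkLinearMap_apply] at h2
    exact h2
  have h3 : w (LocalizedModule.mk (u m) 1) = LocalizedModule.mk m 1 := by
    have := LinearMap.congr_fun hw (LocalizedModule.mk m 1)
    simpa [mapA] using this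
  simp only [LinearMap.comp_apply, LocalizedModule.mkLinearMap_apply, LinearMap.id_apply]
  rw [mapA_mk, h1]
  simp only [g, LinearMap.comp_apply, LocalizedModule.mkLinearMap_apply]
  rw [h3, hcM]

theorem mapA_smul_id (S : Submonoid A) (f : A) :
    mapA S (f • (LinearMap.id : M →ₗ[A] M)) = f • LinearMap.id := by
  refine LinearMap.ext fun x => ?_
  induction x using LocalizedModule.induction_on with
  | _ m s =>
    rw [mapA_mk]
    simp [LocalizedModule.smul'_mk]

/-- spreading out a left inverse when the target is finitely presented -/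
theorem exists_LI_powers [Module.Finite A M] [Module.FinitePresentation A P] (p : Ideal A)
    [p.IsPrime] (u'' : M →ₗ[A] P) (h : LI p.primeCompl u'') :
    ∃ f : A, f ∉ p ∧ LI (Submonoid.powers f) u'' := by
  obtain ⟨w, hw⟩ := h
  let g : P →ₗ[A] LocalizedModule p.primeCompl M := w ∘ₗ LocalizedModule.mkLinearMap p.primeCompl P
  obtain ⟨h, s, hs⟩ := Module.FinitePresentation.exists_lift_of_isLocalizedModule p.primeCompl
    (LocalizedModule.mkLinearMap p.primeCompl M) g
  have hcomp : (LocalizedModule.mkLinearMap p.primeCompl M).comp (h ∘ₗ u'') =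
      (LocalizedModule.mkLinearMap p.primeCompl M).comp ((s : A) • LinearMap.id) := by
    rw [← LinearMap.comp_assoc, hs]
    ext m
    have h3 : w (LocalizedModule.mk (u'' m) 1) = LocalizedModule.mk m 1 := by
      have := LinearMap.congr_fun hw (LocalizedModule.mk m 1)
      simpa [mapA] using this
    simp only [LinearMap.comp_apply, LinearMap.smul_apply, g, LocalizedModule.mkLinearMap_apply,
      LinearMap.id_apply, Submonoid.smul_def]
    rw [h3, LocalizedModule.smul'_mk]
  obtain ⟨t, ht⟩ := Module.Finite.exists_smul_of_comp_eq_of_isLocalizedModule p.primeCompl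
    (LocalizedModule.mkLinearMap p.primeCompl M) _ _ hcomp
  refine ⟨(t : A) * (s : A), (t * s).2, ?_⟩
  set f : A := (t : A) * (s : A) with hf
  have hu := IsLocalizedModule.map_units (LocalizedModule.mkLinearMap (Submonoid.powers f) M)
    ⟨f, Submonoid.mem_powers f⟩
  let ι : LocalizedModule (Submonoid.powers f) M →ₗ[A] LocalizedModule (Submonoid.powers f) M :=
    (hu.unit⁻¹ : (Module.End A (LocalizedModule (Submonoid.powers f) M))ˣ).val
  have hι : ι ∘ₗ (f • LinearMap.id) = LinearMap.id := by
    have h1 : (hu.unit⁻¹ * hu.unit : (Module.End A (LocalizedModule (Submonoid.powers f) M))ˣ) = 1 :=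
      inv_mul_cancel _
    have h2 := congrArg Units.val h1
    rw [Units.val_mul, IsUnit.unit_spec, Units.val_one] at h2
    refine LinearMap.ext fun x => ?_
    have h3 := LinearMap.congr_fun h2 x
    simp only [Module.End.mul_apply, Module.algebraMap_end_apply, Module.End.one_apply] at h3
    simpa [ι] using h3
  refine ⟨ι ∘ₗ mapA (Submonoid.powers f) ((t : A) • h), ?_⟩
  rw [LinearMap.comp_assoc, ← mapA_comp]
  have h4 : ((t : A) • h) ∘ₗ u'' = f • LinearMap.id := by
    have := ht
    simp only [Submonoid.smul_def] at this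
    rw [LinearMap.smul_comp, this, smul_smul]
  rw [h4, mapA_smul_id, hι]

section local_lemma

open IsLocalRing

/-- over a local ring: injective on the special fibre implies left invertible -/
theorem exists_leftInverse_of_baseChange_injective {R : Type u} [CommRing R] [IsLocalRing R]
    {M N : Type u} [AddCommGroup M] [Module R M] [Module.Finite R M] [AddCommGroup N] [Module R N]
    [Module.Projective R N] (u : M →ₗ[R] N)
    (hinj : Function.Injective (u.baseChange (ResidueField R))) :
    ∃ w : N →ₗ[R] M, w ∘ₗ u = LinearMap.id := by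
  let k := ResidueField R
  let f : k ⊗[R] M →ₗ[k] k ⊗[R] N := u.baseChange k
  have hmksurj : Function.Surjective (TensorProduct.mk R k M 1) :=
    TensorProduct.mk_surjective (R := R) (S := k) (M := M) Ideal.Quotient.mk_surjective
  have hker : LinearMap.ker f = ⊥ := LinearMap.ker_eq_bot.mpr hinj
  obtain ⟨g, hg⟩ := f.exists_leftInverse_of_injective hker
  obtain ⟨w₀, hw₀⟩ := Module.projective_lifting_property (TensorProduct.mk R k M 1)
    ((g.restrictScalars R) ∘ₗ (TensorProduct.mk R k N 1)) hmksurj
  have hφ : ∀ y, (w₀ ∘ₗ u) y - y ∈ (maximalIdeal R • ⊤ : Submodule R M) := by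
    intro y
    rw [← LinearMap.ker_tensorProductMk (I := maximalIdeal R) (Q := M), LinearMap.mem_ker, map_sub,
      sub_eq_zero]
    have h1 := LinearMap.congr_fun hw₀ (u y)
    simp only [LinearMap.comp_apply, TensorProduct.mk_apply, LinearMap.restrictScalars_apply]
      at h1 ⊢
    have h2 := LinearMap.congr_fun hg ((1 : k) ⊗ₜ[R] y)
    simp only [LinearMap.comp_apply, f, LinearMap.baseChange_tmul, LinearMap.id_apply] at h2
    exact h1.trans h2
  obtain ⟨ψ, hψ⟩ := Groth.Agent.S4529.exists_leftInverse_of_jacobson (maximalIdeal R)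
    (IsLocalRing.maximalIdeal_le_jacobson ⊥) (w₀ ∘ₗ u) hφ
  exact ⟨ψ ∘ₗ w₀, by rw [LinearMap.comp_assoc]; exact hψ⟩

end local_lemma

section comparison

variable (p : Ideal A) [p.IsPrime]

/-- comparison of the fibre of `M` and of its localization -/
noncomputable def fibreEquiv (M : Type u) [AddCommGroup M] [Module A M] :
    p.ResidueField ⊗[Localization.AtPrime p] LocalizedModule p.primeCompl M ≃ₗ[Localization.AtPrime p]
      p.ResidueField ⊗[A] M :=
  (IsLocalizedModule.isBaseChange p.primeCompl (Localization.AtPrime p)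
    (LocalizedModule.mkLinearMap p.primeCompl M)).tensorEquiv p.ResidueField

theorem fibreEquiv_tmul (c : p.ResidueField) (m : M) :
    fibreEquiv p M (c ⊗ₜ LocalizedModule.mk m 1) = c ⊗ₜ m := by
  have h := (IsLocalizedModule.isBaseChange p.primeCompl (Localization.AtPrime p)
    (LocalizedModule.mkLinearMap p.primeCompl M))
  have h1 : h.equiv.symm (LocalizedModule.mk m 1) = 1 ⊗ₜ m := by
    rw [← LocalizedModule.mkLinearMap_apply]; exact h.equiv_symm_apply m
  simp [fibreEquiv, IsBaseChange.tensorEquiv, h1]

theorem fibreEquiv_symm_tmul (c : p.ResidueField) (m : M) :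
    (fibreEquiv p M).symm (c ⊗ₜ m) = c ⊗ₜ LocalizedModule.mk m 1 := by
  rw [LinearEquiv.symm_apply_eq, fibreEquiv_tmul]

theorem fibre_natural (u : M →ₗ[A] N) (x : p.ResidueField ⊗[A] M) :
    (fibreEquiv p N).symm (u.lTensor p.ResidueField x) =
      (LocalizedModule.map p.primeCompl u).baseChange p.ResidueField ((fibreEquiv p M).symm x) := by
  induction x using TensorProduct.induction_on with
  | zero => simp
  | tmul c m =>
    rw [LinearMap.lTensor_tmul, fibreEquiv_symm_tmul, fibreEquiv_symm_tmul,
      LinearMap.baseChange_tmul, LocalizedModule.map_mk]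
  | add x y hx hy => simp only [map_add, hx, hy]

theorem injective_iff (u : M →ₗ[A] N) :
    Function.Injective (u.lTensor p.ResidueField) ↔
      Function.Injective ((LocalizedModule.map p.primeCompl u).baseChange p.ResidueField) := by
  have h : ⇑((LocalizedModule.map p.primeCompl u).baseChange p.ResidueField) ∘ ⇑(fibreEquiv p M).symm =
      ⇑(fibreEquiv p N).symm ∘ ⇑(u.lTensor p.ResidueField) := by
    funext x
    exact (fibre_natural p u x).symm
  constructor
  · intro hu
    have h1 : Function.Injective (⇑(fibreEquiv p N).symm ∘ ⇑(u.lTensor p.ResidueField)) :=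
      (fibreEquiv p N).symm.injective.comp hu
    rw [← h] at h1
    intro x y hxy
    obtain ⟨x', rfl⟩ := (fibreEquiv p M).symm.surjective x
    obtain ⟨y', rfl⟩ := (fibreEquiv p M).symm.surjective y
    rw [h1 hxy]
  · intro hu
    have h1 : Function.Injective
        (⇑((LocalizedModule.map p.primeCompl u).baseChange p.ResidueField) ∘ ⇑(fibreEquiv p M).symm) :=
      hu.comp (fibreEquiv p M).symm.injective
    rw [h] at h1
    exact Function.Injective.of_comp h1

end comparison

end helpers


open TensorProduct in
/-- Let A be a ring, M an A-module of finite type, N a projective A-module, u : M → N a homomorphism.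
For a prime ideal 𝔭 the following are equivalent: (a) u_𝔭 : M_𝔭 → N_𝔭 is left invertible; (b) u ⊗ 1
: M ⊗ k(𝔭) → N ⊗ k(𝔭) is injective; (d) there is f ∉ 𝔭 with u_f : M_f → N_f left invertible.
Moreover the set of such 𝔭 is open in Spec A. (The published statement also has a determinant
criterion (c); this row omits it.) -/
theorem result {A : Type u} [CommRing A] {M N : Type u} [AddCommGroup M] [Module A M]
    [Module.Finite A M] [AddCommGroup N] [Module A N] [Module.Projective A N] (u : M →ₗ[A] N) :
    (∀ p : PrimeSpectrum A,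
      [∃ w : LocalizedModule p.asIdeal.primeCompl N →ₗ[A] LocalizedModule p.asIdeal.primeCompl M,
          w ∘ₗ LocalizedModule.map p.asIdeal.primeCompl u = LinearMap.id,
       Function.Injective (u.lTensor p.asIdeal.ResidueField),
       ∃ f : A, f ∉ p.asIdeal ∧
          ∃ w : LocalizedModule (Submonoid.powers f) N →ₗ[A] LocalizedModule (Submonoid.powers f) M,
            w ∘ₗ LocalizedModule.map (Submonoid.powers f) u = LinearMap.id].TFAE) ∧
    IsOpen {p : PrimeSpectrum A |
      ∃ w : LocalizedModule p.asIdeal.primeCompl N →ₗ[A] LocalizedModule p.asIdeal.primeCompl M,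
        w ∘ₗ LocalizedModule.map p.asIdeal.primeCompl u = LinearMap.id} := by
  -- (a) → (d)
  have had : ∀ p : PrimeSpectrum A, LI p.asIdeal.primeCompl u →
      ∃ f : A, f ∉ p.asIdeal ∧ LI (Submonoid.powers f) u := by
    intro p ha
    obtain ⟨T, q, r, hr⟩ := exists_factor u
    have h1 : LI p.asIdeal.primeCompl (q ∘ₗ u) := LI_of_factor _ u (q ∘ₗ u) r hr ha
    obtain ⟨f, hf, h2⟩ := exists_LI_powers p.asIdeal (q ∘ₗ u) h1
    exact ⟨f, hf, LI_of_factor _ (q ∘ₗ u) u q rfl h2⟩
  -- (d) → (a)
  have hda : ∀ p : PrimeSpectrum A, (∃ f : A, f ∉ p.asIdeal ∧ LI (Submonoid.powers f) u) →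
      LI p.asIdeal.primeCompl u := by
    rintro p ⟨f, hf, h⟩
    exact LI_mono ((Submonoid.powers_le (P := p.asIdeal.primeCompl)).mpr hf) u h
  refine ⟨fun p => ?_, ?_⟩
  · tfae_have 1 → 3 := had p
    tfae_have 3 → 1 := hda p
    tfae_have 1 → 2 := by
      rintro ⟨w, hw⟩
      rw [injective_iff p.asIdeal u]
      let w' : LocalizedModule p.asIdeal.primeCompl N →ₗ[Localization.AtPrime p.asIdeal]
          LocalizedModule p.asIdeal.primeCompl M :=
        w.extendScalarsOfIsLocalization p.asIdeal.primeCompl (Localization.AtPrime p.asIdeal)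
      have hw' : w' ∘ₗ LocalizedModule.map p.asIdeal.primeCompl u = LinearMap.id := by
        ext x
        exact LinearMap.congr_fun hw x
      have h1 : (w'.baseChange p.asIdeal.ResidueField) ∘ₗ
          ((LocalizedModule.map p.asIdeal.primeCompl u).baseChange p.asIdeal.ResidueField) =
          LinearMap.id := by
        rw [← LinearMap.baseChange_comp, hw', LinearMap.baseChange_id]
      exact Function.LeftInverse.injective (g := w'.baseChange p.asIdeal.ResidueField)
        (fun x => LinearMap.congr_fun h1 x)
    tfae_have 2 → 1 := by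
      intro hb
      rw [injective_iff p.asIdeal u] at hb
      obtain ⟨w, hw⟩ := exists_leftInverse_of_baseChange_injective
        (LocalizedModule.map p.asIdeal.primeCompl u) hb
      refine ⟨w.restrictScalars A, ?_⟩
      ext x
      exact LinearMap.congr_fun hw x
    tfae_finish
  · have hset : {p : PrimeSpectrum A | LI p.asIdeal.primeCompl u} =
        ⋃ (f : A) (_ : LI (Submonoid.powers f) u), (PrimeSpectrum.basicOpen f : Set (PrimeSpectrum A)) := by
      ext p
      simp only [Set.mem_ofPred_eq, Set.mem_iUnion, SetLike.mem_coe, PrimeSpectrum.mem_basicOpen,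
        exists_prop]
      constructor
      · intro ha
        obtain ⟨f, hf, h⟩ := had p ha
        exact ⟨f, h, hf⟩
      · rintro ⟨f, h, hf⟩
        exact hda p ⟨f, hf, h⟩
    change IsOpen {p : PrimeSpectrum A | LI p.asIdeal.primeCompl u}
    rw [hset]
    exact isOpen_iUnion fun f => isOpen_iUnion fun _ => (PrimeSpectrum.basicOpen f).isOpen

end Groth.Agent.S4530
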