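import Groth.Statements.S4531
import Groth.Agent.S4530
import Mathlib.RingTheory.Flat.FaithfullyFlat.Algebra
import Mathlib.Tactic

set_option autoImplicit false
universe u
open EGA41

namespace Groth.Agent.S4531


section helpers

open TensorProduct Groth.Agent.S4530

variable {A : Type u} [CommRing A] {M N P : Type u} [AddCommGroup M] [Module A M]
  [AddCommGroup N] [Module A N] [AddCommGroup P] [Module A P]

/-- base change to `B` left invertible implies injectivity on every `B`-algebra fibre -/
theorem lTensor_injective_of_baseChange {B L : Type u} [CommRing B] [Algebra A B] [CommRing L]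
    [Algebra A L] [Algebra B L] [IsScalarTower A B L] (u : M →ₗ[A] N)
    (h : ∃ w : B ⊗[A] N →ₗ[B] B ⊗[A] M, w ∘ₗ u.baseChange B = LinearMap.id) :
    Function.Injective (u.lTensor L) := by
  obtain ⟨w, hw⟩ := h
  have h1 : (w.baseChange L) ∘ₗ ((u.baseChange B).baseChange L) = LinearMap.id := by
    rw [← LinearMap.baseChange_comp, hw, LinearMap.baseChange_id]
  have hinj : Function.Injective ((u.baseChange B).baseChange L) :=
    Function.LeftInverse.injective (g := w.baseChange L) (fun x => LinearMap.congr_fun h1 x)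
  let eM := AlgebraTensorModule.cancelBaseChange A B L L M
  let eN := AlgebraTensorModule.cancelBaseChange A B L L N
  have hnat : ∀ z, eN (((u.baseChange B).baseChange L) z) = (u.lTensor L) (eM z) := by
    intro z
    induction z using TensorProduct.induction_on with
    | zero => simp
    | tmul c y =>
      induction y using TensorProduct.induction_on with
      | zero => simp
      | tmul b m =>
        simp [eM, eN, AlgebraTensorModule.cancelBaseChange_tmul]
      | add y1 y2 h1 h2 =>
        rw [TensorProduct.tmul_add, map_add, map_add, map_add, map_add, h1, h2]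
    | add z1 z2 h1 h2 => simp only [map_add, h1, h2]
  intro x y hxy
  obtain ⟨x', rfl⟩ := eM.surjective x
  obtain ⟨y', rfl⟩ := eM.surjective y
  rw [← hnat, ← hnat] at hxy
  rw [hinj (eN.injective hxy)]

/-- descend injectivity from a field `L` over `A` to the residue field at the kernel -/
theorem lTensor_residueField_injective {L : Type u} [Field L] [Algebra A L] (p : Ideal A)
    [p.IsPrime] (h1 : p ≤ RingHom.ker (algebraMap A L))
    (h2 : p.primeCompl ≤ (IsUnit.submonoid L).comap (algebraMap A L)) (u : M →ₗ[A] N)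
    (hL : Function.Injective (u.lTensor L)) : Function.Injective (u.lTensor p.ResidueField) := by
  let ι : p.ResidueField →+* L := Ideal.ResidueField.lift p (algebraMap A L) h1 h2
  have hι : ∀ a : A, ι (algebraMap A p.ResidueField a) = algebraMap A L a :=
    fun a => Ideal.ResidueField.lift_algebraMap p (algebraMap A L) h1 h2 a
  let ιA : p.ResidueField →ₗ[A] L :=
    { toFun := ι
      map_add' := map_add ι
      map_smul' := fun a c => by
        simp only [RingHom.id_apply, Algebra.smul_def, map_mul, hι] }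
  let _ : Algebra p.ResidueField L := ι.toAlgebra
  have hker : LinearMap.ker (Algebra.linearMap p.ResidueField L) = ⊥ :=
    LinearMap.ker_eq_bot.mpr (algebraMap p.ResidueField L).injective
  obtain ⟨ρK, hρK⟩ := (Algebra.linearMap p.ResidueField L).exists_leftInverse_of_injective hker
  let ρ : L →ₗ[A] p.ResidueField :=
    { toFun := ρK
      map_add' := map_add ρK
      map_smul' := fun a c => by
        have : a • c = (algebraMap A p.ResidueField a) • c := by
          rw [Algebra.smul_def, Algebra.smul_def]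
          change _ = ι _ * c
          rw [hι]
        rw [this, map_smul, RingHom.id_apply, smul_eq_mul, Algebra.smul_def] }
  have hρι : ρ ∘ₗ ιA = LinearMap.id := by
    ext c
    have := LinearMap.congr_fun hρK c
    exact this
  intro x y hxy
  have h3 : (u.lTensor L) (ιA.rTensor M x) = (u.lTensor L) (ιA.rTensor M y) := by
    have hc : ∀ z, (u.lTensor L) (ιA.rTensor M z) = ιA.rTensor N (u.lTensor p.ResidueField z) := by
      intro z
      rw [← LinearMap.comp_apply, ← LinearMap.comp_apply, LinearMap.lTensor_comp_rTensor,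
        LinearMap.rTensor_comp_lTensor]
    rw [hc, hc, hxy]
  have h4 := hL h3
  have h5 := congrArg (ρ.rTensor M) h4
  rw [← LinearMap.comp_apply, ← LinearMap.comp_apply, ← LinearMap.rTensor_comp, hρι,
    LinearMap.rTensor_id, LinearMap.id_apply, LinearMap.id_apply] at h5
  exact h5

theorem exists_pow_smul_id [Module.Finite A M] [Module.FinitePresentation A P] (f : A)
    (u'' : M →ₗ[A] P) (h : LI (Submonoid.powers f) u'') :
    ∃ (n : ℕ) (h' : P →ₗ[A] M), h' ∘ₗ u'' = f ^ n • LinearMap.id := by
  obtain ⟨w, hw⟩ := h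
  let g : P →ₗ[A] LocalizedModule (Submonoid.powers f) M :=
    w ∘ₗ LocalizedModule.mkLinearMap (Submonoid.powers f) P
  obtain ⟨h, s, hs⟩ := Module.FinitePresentation.exists_lift_of_isLocalizedModule
    (Submonoid.powers f) (LocalizedModule.mkLinearMap (Submonoid.powers f) M) g
  have hcomp : (LocalizedModule.mkLinearMap (Submonoid.powers f) M).comp (h ∘ₗ u'') =
      (LocalizedModule.mkLinearMap (Submonoid.powers f) M).comp ((s : A) • LinearMap.id) := by
    rw [← LinearMap.comp_assoc, hs]
    ext m
    have h3 : w (LocalizedModule.mk (u'' m) 1) = LocalizedModule.mk m 1 := by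
      have := LinearMap.congr_fun hw (LocalizedModule.mk m 1)
      simpa [mapA] using this
    simp only [LinearMap.comp_apply, LinearMap.smul_apply, g, LocalizedModule.mkLinearMap_apply,
      LinearMap.id_apply, Submonoid.smul_def]
    rw [h3, LocalizedModule.smul'_mk]
  obtain ⟨t, ht⟩ := Module.Finite.exists_smul_of_comp_eq_of_isLocalizedModule (Submonoid.powers f)
    (LocalizedModule.mkLinearMap (Submonoid.powers f) M) _ _ hcomp
  obtain ⟨a, ha⟩ := (Submonoid.mem_powers_iff _ _).mp s.2
  obtain ⟨b, hb⟩ := (Submonoid.mem_powers_iff _ _).mp t.2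
  refine ⟨b + a, (t : A) • h, ?_⟩
  have := ht
  simp only [Submonoid.smul_def] at this
  rw [LinearMap.smul_comp, this, smul_smul, pow_add, ha, hb]

theorem exists_leftInverse_fp [Module.Finite A M] [Module.FinitePresentation A P]
    (u'' : M →ₗ[A] P)
    (h : ∀ m : Ideal A, m.IsMaximal → ∃ f : A, f ∉ m ∧ LI (Submonoid.powers f) u'') :
    ∃ w : P →ₗ[A] M, w ∘ₗ u'' = LinearMap.id := by
  let I : Ideal A :=
    { carrier := {a | ∃ h' : P →ₗ[A] M, h' ∘ₗ u'' = a • LinearMap.id}
      add_mem' := by
        rintro a b ⟨h1, hh1⟩ ⟨h2, hh2⟩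
        exact ⟨h1 + h2, by rw [LinearMap.add_comp, hh1, hh2, add_smul]⟩
      zero_mem' := ⟨0, by simp⟩
      smul_mem' := by
        rintro c a ⟨h1, hh1⟩
        exact ⟨c • h1, by rw [LinearMap.smul_comp, hh1, smul_smul, smul_eq_mul]⟩ }
  by_cases hI : I = ⊤
  · have h1 : (1 : A) ∈ I := by rw [hI]; trivial
    obtain ⟨w, hw⟩ := h1
    exact ⟨w, by rw [hw, one_smul]⟩
  · exfalso
    obtain ⟨m, hm, hle⟩ := Ideal.exists_le_maximal I hI
    obtain ⟨f, hf, hLI⟩ := h m hm
    obtain ⟨n, h', hh'⟩ := exists_pow_smul_id f u'' hLI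
    have : f ^ n ∈ m := hle ⟨h', hh'⟩
    exact hf (hm.isPrime.mem_of_pow_mem n this)

theorem exists_leftInverse_of_forall_maximal [Module.Finite A M] [Module.Projective A N]
    (u : M →ₗ[A] N) (h : ∀ (m : Ideal A) [m.IsMaximal], LI m.primeCompl u) :
    ∃ w : N →ₗ[A] M, w ∘ₗ u = LinearMap.id := by
  obtain ⟨T, q, r, hr⟩ := exists_factor u
  have h1 : ∀ m : Ideal A, m.IsMaximal → ∃ f : A, f ∉ m ∧ LI (Submonoid.powers f) (q ∘ₗ u) := by
    intro m hm
    exact exists_LI_powers m (q ∘ₗ u) (LI_of_factor _ u (q ∘ₗ u) r hr (h m))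
  obtain ⟨w, hw⟩ := exists_leftInverse_fp (q ∘ₗ u) h1
  exact ⟨w ∘ₗ q, by rw [LinearMap.comp_assoc]; exact hw⟩

theorem LI_of_leftInverse (S : Submonoid A) (u : M →ₗ[A] N)
    (h : ∃ w : N →ₗ[A] M, w ∘ₗ u = LinearMap.id) : LI S u := by
  obtain ⟨w, hw⟩ := h
  refine ⟨mapA S w, ?_⟩
  rw [← mapA_comp, hw]
  refine LinearMap.ext fun x => ?_
  induction x using LocalizedModule.induction_on with
  | _ m s => rw [mapA_mk]; rfl

end helpers


open TensorProduct in
/-- Let A be a ring, M an A-module of finite type, N a projective A-module and u : M → N a homomorphism.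
(i) u is left invertible if and only if u_𝔪 : M_𝔪 → N_𝔪 is left invertible for every maximal ideal 𝔪
of A. (ii) If A' is an A-algebra which is a faithfully flat A-module, u is left invertible if and
only if u ⊗ 1 : M ⊗_A A' → N ⊗_A A' is left invertible (as an A'-linear map). -/
theorem result {A : Type u} [CommRing A] {M N : Type u} [AddCommGroup M] [Module A M]
    [Module.Finite A M] [AddCommGroup N] [Module A N] [Module.Projective A N] (u : M →ₗ[A] N) :
    ((∃ w : N →ₗ[A] M, w ∘ₗ u = LinearMap.id) ↔
      ∀ (m : Ideal A) [m.IsMaximal],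
        ∃ w : LocalizedModule m.primeCompl N →ₗ[A] LocalizedModule m.primeCompl M,
          w ∘ₗ LocalizedModule.map m.primeCompl u = LinearMap.id) ∧
    ∀ (A' : Type u) [CommRing A'] [Algebra A A'] [Module.FaithfullyFlat A A'],
      (∃ w : N →ₗ[A] M, w ∘ₗ u = LinearMap.id) ↔
        ∃ w : A' ⊗[A] N →ₗ[A'] A' ⊗[A] M, w ∘ₗ u.baseChange A' = LinearMap.id := by
  have hi : (∃ w : N →ₗ[A] M, w ∘ₗ u = LinearMap.id) ↔
      ∀ (m : Ideal A) [m.IsMaximal], Groth.Agent.S4530.LI m.primeCompl u :=
    ⟨fun h m _ => LI_of_leftInverse _ u h, fun h => exists_leftInverse_of_forall_maximal u h⟩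
  refine ⟨hi, ?_⟩
  intro A' _ _ _
  constructor
  · rintro ⟨w, hw⟩
    exact ⟨w.baseChange A', by rw [← LinearMap.baseChange_comp, hw, LinearMap.baseChange_id]⟩
  · intro h
    rw [hi]
    intro m hm
    -- a field over A' whose kernel on A is m
    have hne : m.map (algebraMap A A') ≠ ⊤ := by
      intro htop
      have h1 := Ideal.comap_map_eq_self_of_faithfullyFlat (B := A') m
      rw [htop, Ideal.comap_top] at h1
      exact hm.ne_top h1.symm
    obtain ⟨q, hq, hle⟩ := Ideal.exists_le_maximal _ hne
    let _ : Field (A' ⧸ q) := Ideal.Quotient.field q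
    have hker : RingHom.ker (algebraMap A (A' ⧸ q)) = m := by
      have h1 : m ≤ RingHom.ker (algebraMap A (A' ⧸ q)) := by
        intro a ha
        rw [RingHom.mem_ker, IsScalarTower.algebraMap_apply A A' (A' ⧸ q),
          Ideal.Quotient.algebraMap_eq, Ideal.Quotient.eq_zero_iff_mem]
        exact hle (Ideal.mem_map_of_mem _ ha)
      have h2 : RingHom.ker (algebraMap A (A' ⧸ q)) ≠ ⊤ := RingHom.ker_ne_top _
      exact (hm.eq_of_le h2 h1).symm
    have h1 : m ≤ RingHom.ker (algebraMap A (A' ⧸ q)) := hker.ge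
    have h2 : m.primeCompl ≤ (IsUnit.submonoid (A' ⧸ q)).comap (algebraMap A (A' ⧸ q)) := by
      intro a ha
      rw [Submonoid.mem_comap, IsUnit.mem_submonoid_iff, isUnit_iff_ne_zero]
      intro h0
      exact ha (hker ▸ (RingHom.mem_ker.mpr h0))
    have hL : Function.Injective (u.lTensor (A' ⧸ q)) := lTensor_injective_of_baseChange u h
    have hK : Function.Injective (u.lTensor m.ResidueField) :=
      lTensor_residueField_injective m h1 h2 u hL
    exact ((Groth.Agent.S4530.result u).1 ⟨m, hm.isPrime⟩).out 1 0 |>.mp hK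

end Groth.Agent.S4531
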