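import Groth.Statements.S4555
import Groth.Agent.Lib.H59PowerSeries
import Mathlib.RingTheory.Noetherian.Nilpotent

set_option autoImplicit false
universe u
open EGA41

namespace Groth.Agent.S4555

section helpers

open Groth.Agent.Lib.H59PowerSeries

/-- the kernel of the constant coefficient map is generated by the variables. -/
lemma ker_constantCoeff_le (A : Type u) [CommRing A] (n : ℕ) :
    RingHom.ker (MvPowerSeries.constantCoeff : MvPowerSeries (Fin n) A →+* A) ≤
      Ideal.span (Set.range (MvPowerSeries.X : Fin n → MvPowerSeries (Fin n) A)) := by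
  intro f hf
  have h := mem_pow_span_X_of_coeff_eq_zero (σ := Fin n) (R := A) 1 f (by
    intro e he
    have he0 : e = 0 := by
      have : e.degree = 0 := by omega
      exact (Finsupp.degree_eq_zero_iff e).1 this
    rw [he0]
    exact hf)
  rwa [pow_one] at h

/-- a finitely generated ideal of nilpotents is nilpotent. -/
lemma exists_pow_span_eq_bot {E : Type u} [CommRing E] {n : ℕ} (z : Fin n → E)
    (hz : ∀ i, IsNilpotent (z i)) : ∃ N : ℕ, Ideal.span (Set.range z) ^ N = ⊥ := by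
  have hfg : (Ideal.span (Set.range z)).FG := ⟨(Set.finite_range z).toFinset, by simp⟩
  have := (Ideal.FG.isNilpotent_iff_le_nilradical hfg).2 (by
    rw [Ideal.span_le]
    rintro _ ⟨i, rfl⟩
    exact (mem_nilradical).2 (hz i))
  exact this

/-- an algebra map sending the variables into an ideal `𝔫` with `𝔫 ^ N = ⊥` kills `(X)^N`. -/
lemma kills_pow {A : Type u} [CommRing A] {n : ℕ} {E : Type u} [CommRing E] [Algebra A E]
    (𝔫 : Ideal E) (N : ℕ) (h𝔫 : 𝔫 ^ N = ⊥) (ψ : MvPowerSeries (Fin n) A →ₐ[A] E)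
    (hψ : ∀ i, ψ (MvPowerSeries.X i) ∈ 𝔫) :
    ∀ g ∈ RingHom.ker (MvPowerSeries.constantCoeff : MvPowerSeries (Fin n) A →+* A) ^ N,
      ψ g = 0 := by
  intro g hg
  have hg' := Ideal.pow_right_mono (ker_constantCoeff_le A n) N hg
  have h1 : ((Ideal.span (Set.range (MvPowerSeries.X : Fin n → MvPowerSeries (Fin n) A))) ^ N).map
      (ψ : MvPowerSeries (Fin n) A →+* E) ≤ ⊥ := by
    rw [Ideal.map_pow, ← h𝔫]
    apply Ideal.pow_right_mono
    rw [Ideal.map_span, Ideal.span_le]
    rintro _ ⟨_, ⟨i, rfl⟩, rfl⟩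
    exact hψ i
  have := h1 (Ideal.mem_map_of_mem _ hg')
  rw [Ideal.mem_bot] at this
  exact this

/-- continuity of an algebra map out of a power series ring into a discrete algebra which sends
the variables into a nilpotent ideal. -/
lemma continuous_of_mem {A : Type u} [CommRing A] (𝔞 : Ideal A) {n : ℕ} {E : Type u} [CommRing E]
    [Algebra A E] (hE : ∃ k : ℕ, (𝔞 ^ k).map (algebraMap A E) = ⊥)
    (𝔫 : Ideal E) (N : ℕ) (h𝔫 : 𝔫 ^ N = ⊥) (ψ : MvPowerSeries (Fin n) A →ₐ[A] E)
    (hψ : ∀ i, ψ (MvPowerSeries.X i) ∈ 𝔫) :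
    ∃ m : ℕ, ∀ x ∈ (𝔞.map (MvPowerSeries.C : A →+* MvPowerSeries (Fin n) A) ⊔
        RingHom.ker (MvPowerSeries.constantCoeff : MvPowerSeries (Fin n) A →+* A)) ^ m,
      ψ x = 0 := by
  obtain ⟨k, hk⟩ := hE
  refine ⟨k + N, fun x hx => ?_⟩
  have hx' := Ideal.sup_pow_add_le_pow_sup_pow hx
  have hle : (𝔞.map (MvPowerSeries.C : A →+* MvPowerSeries (Fin n) A)) ^ k ⊔
      RingHom.ker (MvPowerSeries.constantCoeff : MvPowerSeries (Fin n) A →+* A) ^ N ≤
      RingHom.ker (ψ : MvPowerSeries (Fin n) A →+* E) := by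
    apply sup_le
    · rw [← Ideal.map_pow, Ideal.map_le_iff_le_comap]
      intro a ha
      rw [Ideal.mem_comap, RingHom.mem_ker]
      have h1 : (ψ : MvPowerSeries (Fin n) A →+* E) (MvPowerSeries.C a) = algebraMap A E a := by
        have := ψ.commutes a
        rwa [MvPowerSeries.algebraMap_apply, Algebra.algebraMap_self, RingHom.id_apply] at this
      rw [h1]
      have h2 : algebraMap A E a ∈ (𝔞 ^ k).map (algebraMap A E) := Ideal.mem_map_of_mem _ ha
      rw [hk, Ideal.mem_bot] at h2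
      exact h2
    · intro g hg
      exact kills_pow 𝔫 N h𝔫 ψ hψ g hg
  exact hle hx'

end helpers

/-- Let A carry the 𝔞-adic topology, B = A[[T_1, …, T_n]] the product topology (the adic topology of 𝔞B
+ (T_1, …, T_n)), and let E be a discrete topological A-algebra (a power of 𝔞 kills E). (i) If f : B
→ E is a continuous A-algebra homomorphism then each f(T_i) is nilpotent. (ii) Conversely, for every
family (z_i) of nilpotent elements of E there is one and only one continuous A-algebra homomorphism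
g : B → E with g(T_i) = z_i for all i. -/
theorem result (A : Type u) [CommRing A] (𝔞 : Ideal A) (n : ℕ) (E : Type u) [CommRing E]
    [Algebra A E] (hE : ∃ k : ℕ, (𝔞 ^ k).map (algebraMap A E) = ⊥) :
    (∀ f : MvPowerSeries (Fin n) A →ₐ[A] E,
      (∃ m : ℕ, ∀ x ∈ (𝔞.map (MvPowerSeries.C : A →+* MvPowerSeries (Fin n) A) ⊔
        RingHom.ker (MvPowerSeries.constantCoeff : MvPowerSeries (Fin n) A →+* A)) ^ m, f x = 0) →
      ∀ i, IsNilpotent (f (MvPowerSeries.X i))) ∧
    ∀ z : Fin n → E, (∀ i, IsNilpotent (z i)) →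
      ∃! g : MvPowerSeries (Fin n) A →ₐ[A] E,
        (∃ m : ℕ, ∀ x ∈ (𝔞.map (MvPowerSeries.C : A →+* MvPowerSeries (Fin n) A) ⊔
          RingHom.ker (MvPowerSeries.constantCoeff : MvPowerSeries (Fin n) A →+* A)) ^ m, g x = 0) ∧
        ∀ i, g (MvPowerSeries.X i) = z i := by
  classical
  refine ⟨?_, ?_⟩
  · rintro f ⟨m, hm⟩ i
    refine ⟨m, ?_⟩
    rw [← map_pow]
    apply hm
    apply Ideal.pow_mem_pow
    apply Ideal.mem_sup_right
    rw [RingHom.mem_ker, MvPowerSeries.constantCoeff_X]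
  · intro z hz
    obtain ⟨N, hN⟩ := exists_pow_span_eq_bot z hz
    obtain ⟨φ, hφ⟩ := Groth.Agent.Lib.H59PowerSeries.exists_eval (σ := Fin n) (R := A)
      (Ideal.span (Set.range z)) N hN z (fun i => Ideal.subset_span ⟨i, rfl⟩)
    have hφX : ∀ i, φ (MvPowerSeries.X i) = z i := by
      intro i
      have := hφ (MvPolynomial.X i)
      rwa [MvPolynomial.coe_X, MvPolynomial.aeval_X] at this
    refine ⟨φ, ⟨?_, hφX⟩, ?_⟩
    · exact continuous_of_mem 𝔞 hE (Ideal.span (Set.range z)) N hN φ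
        (fun i => by rw [hφX i]; exact Ideal.subset_span ⟨i, rfl⟩)
    · rintro g ⟨-, hg⟩
      exact Groth.Agent.Lib.H59PowerSeries.eval_unique (Ideal.span (Set.range z)) N hN g φ
        (fun i => by rw [hg i]; exact Ideal.subset_span ⟨i, rfl⟩)
        (fun i => by rw [hg i, hφX i])

end Groth.Agent.S4555
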