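import Groth.Statements.S4533
import Groth.Agent.S4555

set_option autoImplicit false
universe u
open EGA41

namespace Groth.Agent.S4533

/-- Let A carry the 𝔞-adic topology and let B = A[[T_1, …, T_n]] carry the product topology, i.e. the
adic topology of the ideal 𝔞B + (T_1, …, T_n) (the kernel of the constant-coefficient map added to
the extension of 𝔞). Then B is a formally smooth A-algebra for these topologies. (The published
statement allows any linearly topologized base ring and any set of indeterminates with the product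
topology; this row takes an adic base and finitely many indeterminates, where the product topology
is adic.) -/
theorem result (A : Type u) [CommRing A] (𝔞 : Ideal A) (n : ℕ) :
    EGA41.IsFormallySmoothAdic A 𝔞 (MvPowerSeries (Fin n) A)
      (𝔞.map (MvPowerSeries.C : A →+* MvPowerSeries (Fin n) A) ⊔
        RingHom.ker (MvPowerSeries.constantCoeff : MvPowerSeries (Fin n) A →+* A)) := by
  classical
  intro C _ _ J hJ hC u hu
  obtain ⟨r, hr⟩ := hJ
  obtain ⟨k', hk'⟩ := hu
  -- lift the images of the variables
  have hsurj : Function.Surjective (Ideal.Quotient.mk J) := Ideal.Quotient.mk_surjective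
  choose c hc using fun i : Fin n => hsurj (u (MvPowerSeries.X i))
  have hcnil : ∀ i, IsNilpotent (c i) := by
    intro i
    refine ⟨k' * r, ?_⟩
    have h1 : c i ^ k' ∈ J := by
      rw [← Ideal.Quotient.eq_zero_iff_mem, map_pow, hc i, ← map_pow]
      apply hk'
      apply Ideal.pow_mem_pow
      apply Ideal.mem_sup_right
      rw [RingHom.mem_ker, MvPowerSeries.constantCoeff_X]
    have h2 : (c i ^ k') ^ r ∈ J ^ r := Ideal.pow_mem_pow h1 r
    rw [hr, Ideal.zero_eq_bot, Ideal.mem_bot] at h2
    rw [pow_mul]
    exact h2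
  obtain ⟨N, hN⟩ := Groth.Agent.S4555.exists_pow_span_eq_bot c hcnil
  obtain ⟨φ, hφ⟩ := Groth.Agent.Lib.H59PowerSeries.exists_eval (σ := Fin n) (R := A)
    (Ideal.span (Set.range c)) N hN c (fun i => Ideal.subset_span ⟨i, rfl⟩)
  have hφX : ∀ i, φ (MvPowerSeries.X i) = c i := by
    intro i
    have := hφ (MvPolynomial.X i)
    rwa [MvPolynomial.coe_X, MvPolynomial.aeval_X] at this
  refine ⟨φ, ?_⟩
  have hN' : ((Ideal.span (Set.range c)).map (Ideal.Quotient.mk J)) ^ N = ⊥ := by
    rw [← Ideal.map_pow, hN, Ideal.map_bot]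
  refine Groth.Agent.Lib.H59PowerSeries.eval_unique
    ((Ideal.span (Set.range c)).map (Ideal.Quotient.mk J)) N hN' _ _ ?_ ?_
  · intro i
    simp only [AlgHom.coe_comp, Ideal.Quotient.mkₐ_eq_mk, Function.comp_apply, hφX i]
    exact Ideal.mem_map_of_mem _ (Ideal.subset_span ⟨i, rfl⟩)
  · intro i
    simp only [AlgHom.coe_comp, Ideal.Quotient.mkₐ_eq_mk, Function.comp_apply, hφX i]
    exact hc i

end Groth.Agent.S4533
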