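import Groth.Statements.S4534

set_option autoImplicit false
universe u
open EGA41

namespace Groth.Agent.S4534

/-- Let A → B → C be continuous homomorphisms of adic rings (A with the 𝔞-adic, B the 𝔟-adic, C the
𝔠-adic topology; continuity: a power of 𝔞 maps into 𝔟 and a power of 𝔟 into 𝔠). If B is formally
smooth over A and C formally smooth over B, then C is formally smooth over A. -/
theorem result {A B C : Type u} [CommRing A] [CommRing B] [CommRing C] [Algebra A B] [Algebra B C]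
    [Algebra A C] [IsScalarTower A B C] (𝔞 : Ideal A) (𝔟 : Ideal B) (𝔠 : Ideal C)
    (hAB : ∃ k : ℕ, (𝔞 ^ k).map (algebraMap A B) ≤ 𝔟) (hBC : ∃ k : ℕ, (𝔟 ^ k).map (algebraMap B C) ≤ 𝔠)
    (hB : EGA41.IsFormallySmoothAdic A 𝔞 B 𝔟) (hC : EGA41.IsFormallySmoothAdic B 𝔟 C 𝔠) :
    EGA41.IsFormallySmoothAdic A 𝔞 C 𝔠 := by
  intro D _ _ J hJ hAD u hu
  obtain ⟨k, hk⟩ := hu
  obtain ⟨k', hk'⟩ := hBC
  obtain ⟨N, hN⟩ := hJ
  let u₁ : B →ₐ[A] D ⧸ J := u.comp (IsScalarTower.toAlgHom A B C)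
  have hu₁ : ∀ x ∈ 𝔟 ^ (k' * k), u₁ x = 0 := by
    intro x hx
    apply hk
    have h1 : algebraMap B C x ∈ (𝔟 ^ (k' * k)).map (algebraMap B C) := Ideal.mem_map_of_mem _ hx
    rw [pow_mul, Ideal.map_pow] at h1
    exact Ideal.pow_right_mono hk' k h1
  obtain ⟨v, hv⟩ := hB D J ⟨N, hN⟩ hAD u₁ ⟨k' * k, hu₁⟩
  letI : Algebra B D := v.toRingHom.toAlgebra
  haveI : IsScalarTower A B D := IsScalarTower.of_algebraMap_eq (fun a => (v.commutes a).symm)
  have hvJ : (𝔟 ^ (k' * k)).map (algebraMap B D) ≤ J := by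
    rw [Ideal.map_le_iff_le_comap]
    intro y hy
    rw [Ideal.mem_comap]
    have h2 : Ideal.Quotient.mk J (v y) = 0 := by
      have := congrArg (fun f => f y) hv
      simp only [AlgHom.comp_apply] at this
      rw [← hu₁ y hy, ← this]
      rfl
    exact Ideal.Quotient.eq_zero_iff_mem.1 h2
  have hBD : ∃ m : ℕ, (𝔟 ^ m).map (algebraMap B D) = ⊥ := by
    refine ⟨k' * k * N, ?_⟩
    rw [pow_mul, Ideal.map_pow, eq_bot_iff]
    calc ((𝔟 ^ (k' * k)).map (algebraMap B D)) ^ N ≤ J ^ N := Ideal.pow_right_mono hvJ N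
      _ = ⊥ := hN
  let u' : C →ₐ[B] D ⧸ J :=
    { u.toRingHom with
      commutes' := fun b => by
        have := congrArg (fun f => f b) hv
        simp only [AlgHom.comp_apply] at this
        exact this.symm }
  obtain ⟨w, hw⟩ := hC D J ⟨N, hN⟩ hBD u' ⟨k, hk⟩
  refine ⟨w.restrictScalars A, ?_⟩
  ext c
  have := congrArg (fun f => f c) hw
  exact this

end Groth.Agent.S4534
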