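import Groth.Statements.S4535
import Mathlib.RingTheory.TensorProduct.Basic

set_option autoImplicit false
universe u
open EGA41

namespace Groth.Agent.S4535

open TensorProduct

/-- Let B (𝔟-adic) be formally smooth over A (𝔞-adic) and let A' (𝔞'-adic) be a topological A-algebra (a
power of 𝔞 maps into 𝔞'). Then the A'-algebra A' ⊗_A B, with the tensor product topology, i.e. the
adic topology of the ideal generated by the images of 𝔞' and 𝔟, is formally smooth over A'. -/
theorem result {A B A' : Type u} [CommRing A] [CommRing B] [CommRing A'] [Algebra A B] [Algebra A A']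
    (𝔞 : Ideal A) (𝔟 : Ideal B) (𝔞' : Ideal A') (hAA' : ∃ k : ℕ, (𝔞 ^ k).map (algebraMap A A') ≤ 𝔞')
    (hB : EGA41.IsFormallySmoothAdic A 𝔞 B 𝔟) :
    EGA41.IsFormallySmoothAdic A' 𝔞' (A' ⊗[A] B)
      (𝔞'.map (algebraMap A' (A' ⊗[A] B)) ⊔
        𝔟.map (Algebra.TensorProduct.includeRight : B →ₐ[A] A' ⊗[A] B).toRingHom) := by
  intro C _ _ J hJ hA'C u hu
  obtain ⟨k', hk'⟩ := hA'C
  obtain ⟨k, hk⟩ := hAA'
  obtain ⟨m, hm⟩ := hu
  let _ : Algebra A C := ((algebraMap A' C).comp (algebraMap A A')).toAlgebra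
  have : IsScalarTower A A' C := IsScalarTower.of_algebraMap_eq' rfl
  -- a power of `𝔞` dies in `C`
  have hAC : ∃ n : ℕ, (𝔞 ^ n).map (algebraMap A C) = ⊥ := by
    refine ⟨k * k', ?_⟩
    rw [eq_bot_iff, Ideal.map_le_iff_le_comap]
    intro x hx
    rw [Ideal.mem_comap]
    have h1 : algebraMap A A' x ∈ 𝔞' ^ k' := by
      have h2 : algebraMap A A' x ∈ (𝔞 ^ (k * k')).map (algebraMap A A') :=
        Ideal.mem_map_of_mem _ hx
      rw [pow_mul, Ideal.map_pow] at h2
      exact Ideal.pow_right_mono hk k' h2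
    have h3 : algebraMap A' C (algebraMap A A' x) ∈ (𝔞' ^ k').map (algebraMap A' C) :=
      Ideal.mem_map_of_mem _ h1
    rw [hk'] at h3
    exact h3
  let uB : B →ₐ[A] C ⧸ J := (u.restrictScalars A).comp Algebra.TensorProduct.includeRight
  have huB : ∀ x ∈ 𝔟 ^ m, uB x = 0 := by
    intro x hx
    apply hm
    have h2 : (Algebra.TensorProduct.includeRight : B →ₐ[A] A' ⊗[A] B).toRingHom x ∈
        (𝔟 ^ m).map (Algebra.TensorProduct.includeRight : B →ₐ[A] A' ⊗[A] B).toRingHom :=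
      Ideal.mem_map_of_mem _ hx
    rw [Ideal.map_pow] at h2
    exact Ideal.pow_right_mono le_sup_right m h2
  obtain ⟨vB, hvB⟩ := hB C J hJ hAC uB ⟨m, huB⟩
  refine ⟨Algebra.TensorProduct.productLeftAlgHom (Algebra.ofId A' C) vB, ?_⟩
  apply AlgHom.restrictScalars_injective A
  apply Algebra.TensorProduct.ext'
  intro a' b
  have h3 : Ideal.Quotient.mk J (vB b) = u (1 ⊗ₜ[A] b) := congrArg (fun f => f b) hvB
  suffices algebraMap A' _ a' * u (1 ⊗ₜ[A] b) = u (a' ⊗ₜ[A] b) by
    simpa [Algebra.ofId_apply, h3] using this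
  rw [← Algebra.smul_def, ← map_smul, TensorProduct.smul_tmul', smul_eq_mul, mul_one]

end Groth.Agent.S4535
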