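import Groth.Statements.S4536
import Mathlib.RingTheory.Ideal.Over

set_option autoImplicit false
universe u
open EGA41

namespace Groth.Agent.S4536

theorem forward {A B : Type u} [CommRing A] [CommRing B] [Algebra A B]
    (𝔞 : Ideal A) (𝔟 : Ideal B) (h : EGA41.IsFormallySmoothAdic A 𝔞 B 𝔟) (n : ℕ) :
    EGA41.IsFormallySmoothAdic (A ⧸ 𝔞 ^ n) ⊥ (B ⧸ (𝔞 ^ n).map (algebraMap A B))
      (𝔟.map (Ideal.Quotient.mk ((𝔞 ^ n).map (algebraMap A B)))) := by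
  intro C _ _ J hJ _ u hu
  obtain ⟨m, hm⟩ := hu
  let _ : Algebra A C := ((algebraMap (A ⧸ 𝔞 ^ n) C).comp (Ideal.Quotient.mk (𝔞 ^ n))).toAlgebra
  have : IsScalarTower A (A ⧸ 𝔞 ^ n) C := IsScalarTower.of_algebraMap_eq' rfl
  have hAC0 : ∀ a ∈ 𝔞 ^ n, algebraMap A C a = 0 := by
    intro a ha
    have : algebraMap A C a = algebraMap (A ⧸ 𝔞 ^ n) C (Ideal.Quotient.mk (𝔞 ^ n) a) := rfl
    rw [this, Ideal.Quotient.eq_zero_iff_mem.2 ha, map_zero]
  have hAC : ∃ k : ℕ, (𝔞 ^ k).map (algebraMap A C) = ⊥ := by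
    refine ⟨n, ?_⟩
    rw [eq_bot_iff, Ideal.map_le_iff_le_comap]
    intro a ha
    rw [Ideal.mem_comap, hAC0 a ha]
    exact Ideal.zero_mem _
  let u' : B →ₐ[A] C ⧸ J :=
    (u.restrictScalars A).comp (Ideal.Quotient.mkₐ A ((𝔞 ^ n).map (algebraMap A B)))
  have hu' : ∀ x ∈ 𝔟 ^ m, u' x = 0 := by
    intro x hx
    apply hm
    have h2 : Ideal.Quotient.mk ((𝔞 ^ n).map (algebraMap A B)) x ∈
        (𝔟.map (Ideal.Quotient.mk ((𝔞 ^ n).map (algebraMap A B)))) ^ m := by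
      rw [← Ideal.map_pow]
      exact Ideal.mem_map_of_mem _ hx
    exact h2
  obtain ⟨v', hv'⟩ := h C J hJ hAC u' ⟨m, hu'⟩
  have hv'0 : ∀ b ∈ (𝔞 ^ n).map (algebraMap A B), v' b = 0 := by
    intro b hb
    have : (𝔞 ^ n).map (algebraMap A B) ≤ RingHom.ker v'.toRingHom := by
      rw [Ideal.map_le_iff_le_comap]
      intro a ha
      rw [Ideal.mem_comap, RingHom.mem_ker]
      show v' (algebraMap A B a) = 0
      rw [v'.commutes, hAC0 a ha]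
    exact this hb
  let v₁ : (B ⧸ (𝔞 ^ n).map (algebraMap A B)) →ₐ[A] C := Ideal.Quotient.liftₐ _ v' hv'0
  let v : (B ⧸ (𝔞 ^ n).map (algebraMap A B)) →ₐ[A ⧸ 𝔞 ^ n] C :=
    { v₁.toRingHom with
      commutes' := fun r => by
        obtain ⟨a, rfl⟩ := Ideal.Quotient.mk_surjective r
        show v₁ (algebraMap (A ⧸ 𝔞 ^ n) (B ⧸ (𝔞 ^ n).map (algebraMap A B))
          (Ideal.Quotient.mk (𝔞 ^ n) a)) = algebraMap (A ⧸ 𝔞 ^ n) C (Ideal.Quotient.mk (𝔞 ^ n) a)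
        rw [Ideal.Quotient.algebraMap_quotient_map_quotient]
        show v' (algebraMap A B a) = algebraMap A C a
        exact v'.commutes a }
  refine ⟨v, ?_⟩
  ext x
  obtain ⟨b, rfl⟩ := Ideal.Quotient.mk_surjective x
  have h3 := congrArg (fun f => f b) hv'
  exact h3

theorem backward {A B : Type u} [CommRing A] [CommRing B] [Algebra A B]
    (𝔞 : Ideal A) (𝔟 : Ideal B)
    (h : ∀ n : ℕ, EGA41.IsFormallySmoothAdic (A ⧸ 𝔞 ^ n) ⊥ (B ⧸ (𝔞 ^ n).map (algebraMap A B))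
        (𝔟.map (Ideal.Quotient.mk ((𝔞 ^ n).map (algebraMap A B))))) :
    EGA41.IsFormallySmoothAdic A 𝔞 B 𝔟 := by
  intro C _ _ J hJ hAC u hu
  obtain ⟨k, hk⟩ := hAC
  obtain ⟨m, hm⟩ := hu
  have hAC0 : ∀ a ∈ 𝔞 ^ k, algebraMap A C a = 0 := by
    intro a ha
    have : algebraMap A C a ∈ (𝔞 ^ k).map (algebraMap A C) := Ideal.mem_map_of_mem _ ha
    rw [hk] at this
    exact this
  let _ : Algebra (A ⧸ 𝔞 ^ k) C := (Ideal.Quotient.lift (𝔞 ^ k) (algebraMap A C) hAC0).toAlgebra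
  have : IsScalarTower A (A ⧸ 𝔞 ^ k) C := IsScalarTower.of_algebraMap_eq' rfl
  have hu0 : ∀ b ∈ (𝔞 ^ k).map (algebraMap A B), u b = 0 := by
    intro b hb
    have : (𝔞 ^ k).map (algebraMap A B) ≤ RingHom.ker u.toRingHom := by
      rw [Ideal.map_le_iff_le_comap]
      intro a ha
      rw [Ideal.mem_comap, RingHom.mem_ker]
      show u (algebraMap A B a) = 0
      rw [u.commutes]
      show Ideal.Quotient.mk J (algebraMap A C a) = 0
      rw [hAC0 a ha, map_zero]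
    exact this hb
  let u₁ : (B ⧸ (𝔞 ^ k).map (algebraMap A B)) →ₐ[A] C ⧸ J := Ideal.Quotient.liftₐ _ u hu0
  let ū : (B ⧸ (𝔞 ^ k).map (algebraMap A B)) →ₐ[A ⧸ 𝔞 ^ k] C ⧸ J :=
    { u₁.toRingHom with
      commutes' := fun r => by
        obtain ⟨a, rfl⟩ := Ideal.Quotient.mk_surjective r
        show u₁ (algebraMap (A ⧸ 𝔞 ^ k) (B ⧸ (𝔞 ^ k).map (algebraMap A B))
          (Ideal.Quotient.mk (𝔞 ^ k) a)) =
            algebraMap (A ⧸ 𝔞 ^ k) (C ⧸ J) (Ideal.Quotient.mk (𝔞 ^ k) a)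
        rw [Ideal.Quotient.algebraMap_quotient_map_quotient]
        show u (algebraMap A B a) = _
        rw [u.commutes]
        rfl }
  have hū : ∀ x ∈ (𝔟.map (Ideal.Quotient.mk ((𝔞 ^ k).map (algebraMap A B)))) ^ m, ū x = 0 := by
    intro x hx
    rw [← Ideal.map_pow] at hx
    have : (𝔟 ^ m).map (Ideal.Quotient.mk ((𝔞 ^ k).map (algebraMap A B))) ≤
        RingHom.ker ū.toRingHom := by
      rw [Ideal.map_le_iff_le_comap]
      intro b hb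
      rw [Ideal.mem_comap, RingHom.mem_ker]
      show u b = 0
      exact hm b hb
    exact this hx
  obtain ⟨vbar, hvbar⟩ := h k C J hJ ⟨1, by simp⟩ ū ⟨m, hū⟩
  refine ⟨(vbar.restrictScalars A).comp (Ideal.Quotient.mkₐ A ((𝔞 ^ k).map (algebraMap A B))), ?_⟩
  ext b
  have h3 := congrArg (fun f => f (Ideal.Quotient.mk ((𝔞 ^ k).map (algebraMap A B)) b)) hvbar
  exact h3

/-- Let A carry the 𝔞-adic and B the 𝔟-adic topology, A → B being continuous (a power of 𝔞 maps into 𝔟).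
Then B is formally smooth over A if and only if for every n the (A/𝔞ⁿ)-algebra B/𝔞ⁿB, with the adic
topology of the image of 𝔟, is formally smooth over the discrete ring A/𝔞ⁿ. -/
theorem result {A B : Type u} [CommRing A] [CommRing B] [Algebra A B]
    (𝔞 : Ideal A) (𝔟 : Ideal B) (hAB : ∃ k : ℕ, (𝔞 ^ k).map (algebraMap A B) ≤ 𝔟) :
    EGA41.IsFormallySmoothAdic A 𝔞 B 𝔟 ↔
      ∀ n : ℕ, EGA41.IsFormallySmoothAdic (A ⧸ 𝔞 ^ n) ⊥ (B ⧸ (𝔞 ^ n).map (algebraMap A B))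
        (𝔟.map (Ideal.Quotient.mk ((𝔞 ^ n).map (algebraMap A B)))) :=
  ⟨fun h n => forward 𝔞 𝔟 h n, backward 𝔞 𝔟⟩

end Groth.Agent.S4536
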