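import Groth.Statements.S4540
import Groth.Agent.S4544
import Mathlib.RingTheory.LocalRing.Module
import Mathlib.Tactic

set_option autoImplicit false
universe u
open EGA41

namespace Groth.Agent.S4540

section helpers

open IsLocalRing TensorProduct Module

variable {R M : Type u} [CommRing R] [IsLocalRing R] [AddCommGroup M] [Module R M]

theorem sup_pow_smul_eq_top (N : Submodule R M)
    (h1 : N ⊔ (maximalIdeal R) • (⊤ : Submodule R M) = ⊤) (j : ℕ) :
    N ⊔ (maximalIdeal R ^ j) • (⊤ : Submodule R M) = ⊤ := by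
  induction j with
  | zero => simp
  | succ j ih =>
    rw [eq_top_iff]
    calc (⊤ : Submodule R M) = N ⊔ (maximalIdeal R) • (⊤ : Submodule R M) := h1.symm
      _ = N ⊔ (maximalIdeal R) • (N ⊔ (maximalIdeal R ^ j) • (⊤ : Submodule R M)) := by rw [ih]
      _ = N ⊔ ((maximalIdeal R) • N ⊔
            (maximalIdeal R) • ((maximalIdeal R ^ j) • (⊤ : Submodule R M))) := by
          rw [Submodule.smul_sup]
      _ ≤ N ⊔ (maximalIdeal R ^ (j + 1)) • (⊤ : Submodule R M) := by
          rw [← sup_assoc, ← Submodule.mul_smul, ← pow_succ']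
          exact sup_le_sup_right (sup_le le_rfl Submodule.smul_le_right) _

theorem span_eq_top_of_nilpotent {n : ℕ} (hn : maximalIdeal R ^ n = ⊥) {ι : Type*}
    (f : ι → M) (b : Basis ι (ResidueField R) (ResidueField R ⊗[R] M))
    (hb : ∀ i, (1 : ResidueField R) ⊗ₜ[R] f i = b i) : Submodule.span R (Set.range f) = ⊤ := by
  set N := Submodule.span R (Set.range f) with hN
  have hmap : N.map (TensorProduct.mk R (ResidueField R) M 1) = ⊤ := by
    rw [hN, Submodule.map_span, ← Submodule.restrictScalars_span R (ResidueField R)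
      Ideal.Quotient.mk_surjective, Submodule.restrictScalars_eq_top_iff,
      ← b.span_eq, ← Set.range_comp]
    simp only [Function.comp_def, mk_apply, hb, Basis.span_eq]
  have h1 : N ⊔ (maximalIdeal R) • (⊤ : Submodule R M) = ⊤ := by
    rw [eq_top_iff]
    intro m _
    have hm : TensorProduct.mk R (ResidueField R) M 1 m ∈
        N.map (TensorProduct.mk R (ResidueField R) M 1) := by rw [hmap]; trivial
    obtain ⟨x, hx, hxm⟩ := hm
    have hker : m - x ∈ LinearMap.ker (TensorProduct.mk R (R ⧸ maximalIdeal R) M 1) := by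
      rw [LinearMap.mem_ker, map_sub]
      exact sub_eq_zero.mpr hxm.symm
    rw [LinearMap.ker_tensorProductMk] at hker
    have : m = x + (m - x) := by abel
    rw [this]
    exact Submodule.add_mem_sup hx hker
  have h2 := sup_pow_smul_eq_top N h1 n
  rwa [hn, Submodule.bot_smul, sup_bot_eq] at h2

theorem free_of_projective_of_nilpotent [Module.Projective R M] {n : ℕ}
    (hn : maximalIdeal R ^ n = ⊥) : Module.Free R M := by
  let w := Free.chooseBasis (ResidueField R) (ResidueField R ⊗[R] M)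
  have ⟨v, eq⟩ := (TensorProduct.mk_surjective R M (ResidueField R)
    Ideal.Quotient.mk_surjective).comp_left w
  exact .of_basis <| .mk (IsLocalRing.linearIndependent_of_flat _ (eq ▸ w.linearIndependent)) <| by
    exact (span_eq_top_of_nilpotent hn _ w <| congr_fun eq).ge

end helpers

open IsLocalRing TensorProduct in
/-- Let A, B be Noetherian local rings and A → B a local homomorphism making B a formally smooth
A-algebra for the adic topologies of the maximal ideals. Then for every ideal of definition 𝔟 of B,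
the (B/𝔟)-module Ω_{B/A} ⊗_B (B/𝔟) is free. -/
theorem result {A B : Type u} [CommRing A] [IsLocalRing A]
    [IsNoetherianRing A] [CommRing B] [IsLocalRing B] [IsNoetherianRing B] [Algebra A B] [IsLocalHom (algebraMap A B)]
    (h : EGA41.IsFormallySmoothAdic A (maximalIdeal A) B (maximalIdeal B))
    (𝔟 : Ideal B) (hle : 𝔟 ≤ maximalIdeal B) (hpow : ∃ k : ℕ, maximalIdeal B ^ k ≤ 𝔟) :
    Module.Free (B ⧸ 𝔟) ((B ⧸ 𝔟) ⊗[B] Ω[B⁄A]) := by
  have hAB : ∃ k : ℕ, ((maximalIdeal A) ^ k).map (algebraMap A B) ≤ maximalIdeal B :=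
    ⟨1, by rw [pow_one]; exact IsLocalRing.map_maximalIdeal_le (algebraMap A B)⟩
  have hproj : Module.Projective (B ⧸ 𝔟) ((B ⧸ 𝔟) ⊗[B] Ω[B⁄A]) :=
    Groth.Agent.S4544.result (maximalIdeal A) (maximalIdeal B) hAB h 𝔟 hpow
  have hne : 𝔟 ≠ ⊤ := fun h' => (maximalIdeal.isMaximal B).ne_top (top_le_iff.mp (h' ▸ hle))
  have : Nontrivial (B ⧸ 𝔟) := Ideal.Quotient.nontrivial_iff.mpr hne
  have : IsLocalRing (B ⧸ 𝔟) :=
    IsLocalRing.of_surjective' (Ideal.Quotient.mk 𝔟) Ideal.Quotient.mk_surjective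
  obtain ⟨k, hk⟩ := hpow
  have hmax : maximalIdeal (B ⧸ 𝔟) ≤ (maximalIdeal B).map (Ideal.Quotient.mk 𝔟) := by
    intro x hx
    obtain ⟨b, rfl⟩ := Ideal.Quotient.mk_surjective x
    apply Ideal.mem_map_of_mem
    rw [mem_maximalIdeal, mem_nonunits_iff] at hx ⊢
    exact fun hb => hx (hb.map _)
  have hnil : maximalIdeal (B ⧸ 𝔟) ^ k = ⊥ := by
    rw [eq_bot_iff]
    calc maximalIdeal (B ⧸ 𝔟) ^ k ≤ ((maximalIdeal B).map (Ideal.Quotient.mk 𝔟)) ^ k :=
          Ideal.pow_right_mono hmax k
      _ = ((maximalIdeal B) ^ k).map (Ideal.Quotient.mk 𝔟) := (Ideal.map_pow _ _ _).symm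
      _ ≤ 𝔟.map (Ideal.Quotient.mk 𝔟) := Ideal.map_mono hk
      _ = ⊥ := Ideal.map_quotient_self 𝔟
  exact free_of_projective_of_nilpotent hnil

end Groth.Agent.S4540
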