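import Groth.Statements.S4545
import Groth.Agent.S2475
import Groth.Agent.Lib.AdmissibleH44
import Groth.Agent.Lib.CartierH44

set_option autoImplicit false
universe u
open EGA41

namespace Groth.Agent.S4545

open TensorProduct Algebra KaehlerDifferential Groth.Agent.Lib.AdmissibleH44

section Helpers

variable (p : ℕ) [hp : Fact p.Prime] {k₀ K : Type u} [Field k₀] [Field K] [Algebra k₀ K]

omit hp in
/-- for intermediate fields `F' ≤ F`, `Ω[K⁄k₀] → Ω[K⁄F]` factors through `Ω[K⁄F']` -/
theorem ker_map_mono {F F' : IntermediateField k₀ K} (h : F' ≤ F) :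
    LinearMap.ker (KaehlerDifferential.map k₀ F' K K) ≤
      LinearMap.ker (KaehlerDifferential.map k₀ F K K) := by
  letI : Algebra F' F := (IntermediateField.inclusion h).toRingHom.toAlgebra
  haveI : IsScalarTower F' F K := IsScalarTower.of_algebraMap_eq (fun x => rfl)
  have key : KaehlerDifferential.map k₀ F K K =
      (KaehlerDifferential.map F' F K K) ∘ₗ (KaehlerDifferential.map k₀ F' K K) := by
    apply Derivation.liftKaehlerDifferential_unique
    ext a
    simp [KaehlerDifferential.map_D]
  intro ω hω
  rw [LinearMap.mem_ker] at hω ⊢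
  rw [key, LinearMap.comp_apply, hω, map_zero]

omit hp in
/-- the imperfection module of a finitely generated extension has finite rank -/
theorem finite_imperfection (L : Type u) [Field L] [Algebra K L] [Algebra k₀ L]
    [IsScalarTower k₀ K L] [Algebra.EssFiniteType K L] :
    Module.Finite L (EGA41.imperfection k₀ K L) := by
  obtain ⟨-, h1, -⟩ := Groth.Agent.Lib.CartierH44.cartier K L
  have : EGA41.imperfection k₀ K L = LinearMap.range (H1Cotangent.δ k₀ K L) :=
    LinearMap.exact_iff.1 (H1Cotangent.exact_δ_mapBaseChange k₀ K L)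
  rw [this]
  infer_instance

variable [CharP K p]

theorem forward {ι : Type u} [Preorder ι] [IsDirected ι (· ≤ ·)] [Nonempty ι]
    (k : ι → IntermediateField k₀ K) (hk : Antitone k)
    (H : (⨅ i, k i ⊔ IntermediateField.adjoin k₀ (Set.range fun y : K => y ^ p)) =
      IntermediateField.adjoin k₀ (Set.range fun y : K => y ^ p))
    (L : Type u) [Field L] [Algebra K L] [Algebra k₀ L] [IsScalarTower k₀ K L]
    (hfin : Module.Finite L (EGA41.imperfection k₀ K L)) :
    ∃ i, ∀ ω ∈ EGA41.imperfection k₀ K L,
      ((KaehlerDifferential.map k₀ (k i) K K).restrictScalars K).baseChange L ω = 0 → ω = 0 := by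
  let N : ι → Submodule L (L ⊗[K] Ω[K⁄k₀]) := fun i =>
    LinearMap.ker (((KaehlerDifferential.map k₀ (k i) K K).restrictScalars K).baseChange L)
  have hN : Antitone N := by
    intro i j hij
    apply ker_baseChange_mono
    intro ω hω
    exact ker_map_mono (hk hij) hω
  have h0 : ⨅ i, N i = ⊥ := by
    rw [eq_bot_iff]
    intro v hv
    rw [Submodule.mem_iInf] at hv
    rw [Submodule.mem_bot]
    exact tensor_forall_ker
      (fun i => (KaehlerDifferential.map k₀ (k i) K K).restrictScalars K)
      (fun m hm => (Groth.Agent.S2475.result p k hk).1 H m hm) v hv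
  obtain ⟨i, hi⟩ := exists_inf_eq_bot (EGA41.imperfection k₀ K L) N hN h0
  refine ⟨i, fun ω hω h => ?_⟩
  have : ω ∈ EGA41.imperfection k₀ K L ⊓ N i := ⟨hω, h⟩
  rwa [hi, Submodule.mem_bot] at this

theorem aux {ι : Type u} (k : ι → IntermediateField k₀ K)
    (L : Type u) [Field L] [Algebra K L] [Algebra k₀ L] [IsScalarTower k₀ K L]
    (x : K) (y : L) (hy : y ^ p = algebraMap K L x)
    (hx' : ∀ i, x ∈ k i ⊔ IntermediateField.adjoin k₀ (Set.range fun y : K => y ^ p))
    (Hb : ∃ i, ∀ ω ∈ EGA41.imperfection k₀ K L,
      ((KaehlerDifferential.map k₀ (k i) K K).restrictScalars K).baseChange L ω = 0 → ω = 0) :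
    KaehlerDifferential.D k₀ K x = 0 := by
  have hL : CharP L p := charP_of_injective_algebraMap (algebraMap K L).injective p
  obtain ⟨i, hi⟩ := Hb
  have h1 : (1 : L) ⊗ₜ[K] KaehlerDifferential.D k₀ K x ∈ EGA41.imperfection k₀ K L := by
    change KaehlerDifferential.mapBaseChange k₀ K L _ = 0
    rw [KaehlerDifferential.mapBaseChange_tmul, one_smul, KaehlerDifferential.map_D, ← hy,
      Derivation.leibniz_pow, ← Nat.cast_smul_eq_nsmul L, CharP.cast_eq_zero L p, zero_smul]
  have h2 : ((KaehlerDifferential.map k₀ (k i) K K).restrictScalars K).baseChange L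
      ((1 : L) ⊗ₜ[K] KaehlerDifferential.D k₀ K x) = 0 := by
    rw [LinearMap.baseChange_tmul, LinearMap.restrictScalars_apply,
      KaehlerDifferential.map_D k₀ (↥(k i)) K K x]
    change (1 : L) ⊗ₜ[K] KaehlerDifferential.D (↥(k i)) K x = 0
    rw [Groth.Agent.S2475.D_eq_zero_of_mem_sup p (k i) x (hx' i), tmul_zero]
  have h3 := hi _ h1 h2
  have hinj := Module.Flat.tensorProduct_mk_injective K Ω[K⁄k₀] L
  apply hinj
  rw [TensorProduct.mk_apply, h3, map_zero]

end Helpers

open TensorProduct in
/-- Let K be a field of characteristic p > 0, k₀ a subfield and (k_α) a decreasing filtered family of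
subfields of K containing k₀. Then ⋂_α k_α(K^p) = k₀(K^p) if and only if for every extension L of K
such that Υ_{L/K/k₀} has finite rank over L there is an α with k_α admissible for L over K relative
to k₀, i.e. with Υ_{L/K/k₀} → Υ_{L/K/k_α} injective. (The published statement has two further
equivalent conditions; this row states (a) ⇔ (b).) -/
theorem result (p : ℕ) [Fact p.Prime] {k₀ K : Type u}
    [Field k₀] [Field K] [Algebra k₀ K] [CharP K p]
    {ι : Type u} [Preorder ι] [IsDirected ι (· ≤ ·)] [Nonempty ι] (k : ι → IntermediateField k₀ K) (hk : Antitone k) :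
    (⨅ i, k i ⊔ IntermediateField.adjoin k₀ (Set.range fun y : K => y ^ p)) =
        IntermediateField.adjoin k₀ (Set.range fun y : K => y ^ p) ↔
      ∀ (L : Type u) [Field L] [Algebra K L] [Algebra k₀ L] [IsScalarTower k₀ K L],
        Module.Finite L (EGA41.imperfection k₀ K L) →
          ∃ i, ∀ ω ∈ EGA41.imperfection k₀ K L,
            ((KaehlerDifferential.map k₀ (k i) K K).restrictScalars K).baseChange L ω = 0 → ω = 0 := by
  constructor
  · intro H L _ _ _ _ hfin
    exact forward p k hk H L hfin
  · intro Hb
    apply le_antisymm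
    · intro x hx
      have hx' : ∀ i, x ∈ k i ⊔ IntermediateField.adjoin k₀ (Set.range fun y : K => y ^ p) := by
        intro i
        exact (iInf_le (fun i => k i ⊔
          IntermediateField.adjoin k₀ (Set.range fun y : K => y ^ p)) i) hx
      apply Groth.Agent.S2475.mem_of_D_eq_zero p x
      obtain ⟨y, hy⟩ := IsAlgClosed.exists_pow_nat_eq (algebraMap K (AlgebraicClosure K) x)
        (Fact.out : p.Prime).pos
      have hfd : FiniteDimensional K
          ↥(IntermediateField.adjoin K ({y} : Set (AlgebraicClosure K))) :=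
        IntermediateField.adjoin.finiteDimensional (Algebra.IsIntegral.isIntegral y)
      have hess : Algebra.EssFiniteType K
          ↥(IntermediateField.adjoin K ({y} : Set (AlgebraicClosure K))) := inferInstance
      exact aux p k ↥(IntermediateField.adjoin K ({y} : Set (AlgebraicClosure K))) x
        ⟨y, IntermediateField.mem_adjoin_simple_self K y⟩ (Subtype.ext hy) hx'
        (Hb _ (finite_imperfection _))
    · exact le_iInf fun i => le_sup_right

end Groth.Agent.S4545
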