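import Groth.Statements.S4546
import Groth.Agent.S4545

set_option autoImplicit false
universe u
open EGA41

namespace Groth.Agent.S4546

open TensorProduct Algebra KaehlerDifferential Groth.Agent.Lib.AdmissibleH44

section Helpers

variable {k₀ L : Type u} [Field k₀] [Field L] [Algebra k₀ L]

/-- the kernel of `Ω[L⁄k₀] → Ω[L⁄F]` is contained in every `L`-submodule containing `d z`,
`z ∈ F` -/
theorem ker_map_le (F : IntermediateField k₀ L) (S : Submodule L Ω[L⁄k₀])
    (hS : ∀ z ∈ F, KaehlerDifferential.D k₀ L z ∈ S) :
    LinearMap.ker (KaehlerDifferential.map k₀ F L L) ≤ S := by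
  rw [← KaehlerDifferential.range_mapBaseChange]
  have hmap : ∀ w : Ω[F⁄k₀], KaehlerDifferential.map k₀ k₀ F L w ∈ S := by
    intro w
    have hw : w ∈ Submodule.span F (Set.range (KaehlerDifferential.D k₀ F)) := by
      rw [KaehlerDifferential.span_range_derivation]; trivial
    induction hw using Submodule.span_induction with
    | mem w hw =>
      obtain ⟨z, rfl⟩ := hw
      rw [KaehlerDifferential.map_D]
      exact hS _ z.2
    | zero => simp
    | add a b _ _ ha hb => rw [map_add]; exact S.add_mem ha hb
    | smul f w _ hw =>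
      rw [map_smul]
      exact S.smul_of_tower_mem f hw
  rintro _ ⟨t, rfl⟩
  induction t using TensorProduct.induction_on with
  | zero => simp
  | tmul l w =>
    rw [KaehlerDifferential.mapBaseChange_tmul]
    exact S.smul_mem l (hmap w)
  | add a b ha hb => rw [map_add]; exact S.add_mem ha hb

end Helpers

/-- Let K be a field of characteristic p > 0, k₀ a subfield, (k_α) a decreasing filtered family of
subfields of K containing k₀ with ⋂_α k_α(K^p) = k₀(K^p). Then for every extension L of K such that
Υ_{L/K/k₀} has finite rank over L, one has ⋂_α k_α(L^p) = k₀(L^p) (the k_α being viewed inside L). -/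
theorem result (p : ℕ) [Fact p.Prime] {k₀ K L : Type u}
    [Field k₀] [Field K] [Field L] [Algebra k₀ K] [Algebra K L] [Algebra k₀ L] [IsScalarTower k₀ K L] [CharP K p] [CharP L p]
    {ι : Type u} [Preorder ι] [IsDirected ι (· ≤ ·)] [Nonempty ι] (k : ι → IntermediateField k₀ K) (hk : Antitone k)
    (h : (⨅ i, k i ⊔ IntermediateField.adjoin k₀ (Set.range fun y : K => y ^ p)) =
      IntermediateField.adjoin k₀ (Set.range fun y : K => y ^ p))
    [Module.Finite L (EGA41.imperfection k₀ K L)] :
    (⨅ i, (k i).map (IsScalarTower.toAlgHom k₀ K L) ⊔ IntermediateField.adjoin k₀ (Set.range fun y : L => y ^ p)) =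
      IntermediateField.adjoin k₀ (Set.range fun y : L => y ^ p) := by
  have hk' : Antitone fun i => (k i).map (IsScalarTower.toAlgHom k₀ K L) := by
    intro i j hij
    exact IntermediateField.map_mono _ (hk hij)
  apply (Groth.Agent.S2475.result p
    (fun i => (k i).map (IsScalarTower.toAlgHom k₀ K L)) hk').2
  intro ω hω
  let N : ι → Submodule L (L ⊗[K] Ω[K⁄k₀]) := fun i =>
    LinearMap.ker (((KaehlerDifferential.map k₀ (k i) K K).restrictScalars K).baseChange L)
  have hN : Antitone N := by
    intro i j hij
    apply ker_baseChange_mono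
    intro ω hω
    exact Groth.Agent.S4545.ker_map_mono (hk hij) hω
  have h0 : ⨅ i, N i = ⊥ := by
    rw [eq_bot_iff]
    intro v hv
    rw [Submodule.mem_iInf] at hv
    rw [Submodule.mem_bot]
    exact tensor_forall_ker
      (fun i => (KaehlerDifferential.map k₀ (k i) K K).restrictScalars K)
      (fun m hm => (Groth.Agent.S2475.result p k hk).1 h m hm) v hv
  have hrep : ∀ i, ∃ η ∈ N i, KaehlerDifferential.mapBaseChange k₀ K L η = ω := by
    intro i
    have hle := ker_map_le ((k i).map (IsScalarTower.toAlgHom k₀ K L))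
      ((N i).map (KaehlerDifferential.mapBaseChange k₀ K L)) (by
        rintro z ⟨x, hx, rfl⟩
        refine ⟨(1 : L) ⊗ₜ[K] KaehlerDifferential.D k₀ K x, ?_, ?_⟩
        · change ((KaehlerDifferential.map k₀ (k i) K K).restrictScalars K).baseChange L _ = 0
          rw [LinearMap.baseChange_tmul, LinearMap.restrictScalars_apply,
            KaehlerDifferential.map_D k₀ (↥(k i)) K K x]
          have : KaehlerDifferential.D (↥(k i)) K (algebraMap K K x) = 0 :=
            Derivation.map_algebraMap (KaehlerDifferential.D (↥(k i)) K) (⟨x, hx⟩ : k i)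
          rw [this, tmul_zero]
        · rw [KaehlerDifferential.mapBaseChange_tmul, one_smul, KaehlerDifferential.map_D]
          rfl)
    obtain ⟨η, hη, hηω⟩ := hle (hω i)
    exact ⟨η, hη, hηω⟩
  obtain ⟨η, -, hη⟩ := hrep (Classical.arbitrary ι)
  have hmem : η ∈ EGA41.imperfection k₀ K L := by
    apply mem_of_forall_mem_sup (EGA41.imperfection k₀ K L) N hN h0
    intro i
    obtain ⟨η', hη', hηω'⟩ := hrep i
    rw [Submodule.mem_sup]
    refine ⟨η - η', ?_, η', hη', by abel⟩
    change KaehlerDifferential.mapBaseChange k₀ K L (η - η') = 0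
    rw [map_sub, hη, hηω', sub_self]
  rw [← hη]
  exact hmem

end Groth.Agent.S4546
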