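import Groth.Statements.S4547
import Groth.Agent.S4529
import Mathlib.RingTheory.LocalRing.Module
import Mathlib.RingTheory.TensorProduct.Basic
import Mathlib.LinearAlgebra.TensorProduct.RightExactness
import Mathlib.LinearAlgebra.Basis.VectorSpace

set_option autoImplicit false
universe u
open EGA41

namespace Groth.Agent.S4547

open IsLocalRing TensorProduct

/-- Part two: generators whose images are independent modulo the maximal ideal form a basis. -/
theorem basis_of_span_of_linearIndependent {A : Type u} [CommRing A] [IsLocalRing A] {M N : Type u}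
    [AddCommGroup M] [Module A M] [AddCommGroup N] [Module A N] [Module.Projective A N]
    (u : M →ₗ[A] N) (m : ℕ) (x : Fin m → M) (hsp : Submodule.span A (Set.range x) = ⊤)
    (hli : LinearIndependent (ResidueField A) (fun i => (1 : ResidueField A) ⊗ₜ[A] u (x i))) :
    ∃ b : Module.Basis (Fin m) A M, ∀ i, b i = x i := by
  have h1 : LinearIndependent (ResidueField A)
      (TensorProduct.mk A (ResidueField A) N 1 ∘ (fun j : ULift.{u} (Fin m) => u (x j.down))) :=
    hli.comp (fun j : ULift.{u} (Fin m) => j.down) ULift.down_injective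
  have h2 : LinearIndependent A (fun j : ULift.{u} (Fin m) => u (x j.down)) :=
    Module.IsLocalRing.linearIndependent_of_flat _ h1
  have h3 : LinearIndependent A (fun i : Fin m => u (x i)) :=
    h2.comp (fun i : Fin m => ULift.up i) ULift.up_injective
  have h4 : LinearIndependent A x := LinearIndependent.of_comp u h3
  exact ⟨Module.Basis.mk h4 hsp.ge, fun i => Module.Basis.mk_apply h4 hsp.ge i⟩

theorem exists_leftInverse_of_span_of_linearIndependent {A : Type u} [CommRing A] [IsLocalRing A]
    {M N : Type u} [AddCommGroup M] [Module A M] [Module.Finite A M] [AddCommGroup N] [Module A N]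
    [Module.Projective A N] (u : M →ₗ[A] N) (m : ℕ) (x : Fin m → M)
    (hsp : Submodule.span A (Set.range x) = ⊤)
    (hli : LinearIndependent (ResidueField A) (fun i => (1 : ResidueField A) ⊗ₜ[A] u (x i))) :
    ∃ w : N →ₗ[A] M, w ∘ₗ u = LinearMap.id := by
  let k := ResidueField A
  let f : k ⊗[A] M →ₗ[k] k ⊗[A] N := u.baseChange k
  have hmksurj : Function.Surjective (TensorProduct.mk A k M 1) :=
    TensorProduct.mk_surjective (R := A) (S := k) (M := M) Ideal.Quotient.mk_surjective
  -- `f` is injective
  have hker : LinearMap.ker f = ⊥ := by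
    rw [LinearMap.ker_eq_bot']
    intro t ht
    obtain ⟨y, rfl⟩ := hmksurj t
    have hy : y ∈ Submodule.span A (Set.range x) := by rw [hsp]; trivial
    obtain ⟨c, rfl⟩ := (Submodule.mem_span_range_iff_exists_fun A).1 hy
    have hf : ∀ y : M, f ((1 : k) ⊗ₜ[A] y) = (1 : k) ⊗ₜ[A] u y := fun y =>
      LinearMap.baseChange_tmul _ _ _
    have h0 : ∑ i, (algebraMap A k (c i)) • ((1 : k) ⊗ₜ[A] u (x i)) = 0 := by
      rw [← ht, TensorProduct.mk_apply, hf, map_sum, TensorProduct.tmul_sum]
      refine Finset.sum_congr rfl fun i _ => ?_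
      rw [map_smul, TensorProduct.tmul_smul, algebraMap_smul]
    have h1 := Fintype.linearIndependent_iff.1 hli _ h0
    simp only [TensorProduct.mk_apply, TensorProduct.tmul_sum, TensorProduct.tmul_smul]
    refine Finset.sum_eq_zero fun i _ => ?_
    have : c i • ((1 : k) ⊗ₜ[A] x i) = (algebraMap A k (c i)) • ((1 : k) ⊗ₜ[A] x i) := by
      rw [algebraMap_smul]
    rw [this, h1 i, zero_smul]
  obtain ⟨g, hg⟩ := f.exists_leftInverse_of_injective hker
  -- lift `g` to `w₀ : N → M`
  obtain ⟨w₀, hw₀⟩ := Module.projective_lifting_property (TensorProduct.mk A k M 1)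
    ((g.restrictScalars A) ∘ₗ (TensorProduct.mk A k N 1)) hmksurj
  have hφ : ∀ y, (w₀ ∘ₗ u) y - y ∈ (maximalIdeal A • ⊤ : Submodule A M) := by
    intro y
    rw [← LinearMap.ker_tensorProductMk (I := maximalIdeal A) (Q := M), LinearMap.mem_ker, map_sub,
      sub_eq_zero]
    have h1 := LinearMap.congr_fun hw₀ (u y)
    simp only [LinearMap.comp_apply, TensorProduct.mk_apply, LinearMap.restrictScalars_apply]
      at h1 ⊢
    have h2 := LinearMap.congr_fun hg ((1 : k) ⊗ₜ[A] y)
    simp only [LinearMap.comp_apply, f, LinearMap.baseChange_tmul, LinearMap.id_apply] at h2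
    exact h1.trans h2
  obtain ⟨ψ, hψ⟩ := Groth.Agent.S4529.exists_leftInverse_of_jacobson (maximalIdeal A)
    (IsLocalRing.maximalIdeal_le_jacobson ⊥) (w₀ ∘ₗ u) hφ
  exact ⟨ψ ∘ₗ w₀, by rw [LinearMap.comp_assoc]; exact hψ⟩

/-- Let A be a local ring with residue field k, M an A-module of finite type, N a projective A-module
and u : M → N a homomorphism. Then u is left invertible if and only if there is a finite system of
generators (x_i) of M such that the elements 1 ⊗ u(x_i) of k ⊗_A N are linearly independent over k;
and such a system (x_i) is then a basis of M. -/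
theorem result {A : Type u} [CommRing A] [IsLocalRing A] {M N : Type u}
    [AddCommGroup M] [Module A M] [Module.Finite A M] [AddCommGroup N] [Module A N] [Module.Projective A N]
    (u : M →ₗ[A] N) :
    ((∃ w : N →ₗ[A] M, w ∘ₗ u = LinearMap.id) ↔
      ∃ (m : ℕ) (x : Fin m → M), Submodule.span A (Set.range x) = ⊤ ∧
        LinearIndependent (ResidueField A) (fun i => (1 : ResidueField A) ⊗ₜ[A] u (x i))) ∧
    ∀ (m : ℕ) (x : Fin m → M), Submodule.span A (Set.range x) = ⊤ →
      LinearIndependent (ResidueField A) (fun i => (1 : ResidueField A) ⊗ₜ[A] u (x i)) →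
        ∃ b : Module.Basis (Fin m) A M, ∀ i, b i = x i := by
  refine ⟨⟨?_, ?_⟩, fun m x hsp hli => basis_of_span_of_linearIndependent u m x hsp hli⟩
  · rintro ⟨w, hw⟩
    have : Module.Projective A M := Module.Projective.of_split u w hw
    have : Module.Free A M := Module.free_of_flat_of_isLocalRing
    let b := Module.finBasis A M
    refine ⟨Module.finrank A M, b, b.span_eq, ?_⟩
    have hb : LinearIndependent (ResidueField A) (b.baseChange (ResidueField A)) :=
      (b.baseChange (ResidueField A)).linearIndependent
    have hinj : LinearMap.ker (u.baseChange (ResidueField A)) = ⊥ := by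
      rw [LinearMap.ker_eq_bot]
      apply Function.LeftInverse.injective (g := w.baseChange (ResidueField A))
      intro t
      rw [← LinearMap.comp_apply, ← LinearMap.baseChange_comp, hw, LinearMap.baseChange_id,
        LinearMap.id_apply]
    have h5 := hb.map' (u.baseChange (ResidueField A)) hinj
    have h6 : (fun i => (1 : ResidueField A) ⊗ₜ[A] u (b i)) =
        (u.baseChange (ResidueField A)) ∘ (b.baseChange (ResidueField A)) := by
      ext i
      simp [Module.Basis.baseChange_apply]
    rw [h6]
    exact h5
  · rintro ⟨m, x, hsp, hli⟩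
    exact exists_leftInverse_of_span_of_linearIndependent u m x hsp hli

end Groth.Agent.S4547
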