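import Groth.Statements.S4548
import Groth.Agent.Lib.PBasisCofiniteH44
import Groth.Agent.Lib.PowerSeriesFrobH44

set_option autoImplicit false
universe u
open EGA41

namespace Groth.Agent.S4548

/-- Let k be a field of characteristic p > 0, A = k[[T_1, …, T_r]] and K its field of fractions. Then
there is a decreasing filtered family (A_α) of Noetherian subrings of A (rendered: a nonempty
family, directed downwards for inclusion) such that A is a free A_α-module of finite type for every
α and, K_α denoting the subfield of K generated by A_α (its field of fractions inside K), ⋂_α K_α =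
K^p. -/
theorem result (p : ℕ) [Fact p.Prime] (k : Type u) [Field k] [CharP k p]
    (r : ℕ) :
    ∃ (ι : Type u) (_ : Nonempty ι) (S : ι → Subring (MvPowerSeries (Fin r) k)),
      (∀ a b : ι, ∃ c, S c ≤ S a ⊓ S b) ∧
      (∀ i, IsNoetherianRing (S i) ∧ Module.Free (S i) (MvPowerSeries (Fin r) k) ∧ Module.Finite (S i) (MvPowerSeries (Fin r) k)) ∧
      ((⨅ i, Subfield.closure (algebraMap (MvPowerSeries (Fin r) k) (FractionRing (MvPowerSeries (Fin r) k)) '' (S i)) :
          Set (FractionRing (MvPowerSeries (Fin r) k)))) =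
        Set.range fun x : FractionRing (MvPowerSeries (Fin r) k) => x ^ p := by
  classical
  have hpP : p.Prime := Fact.out
  have hp : p ≠ 0 := hpP.ne_zero
  have hp1 : 1 ≤ p := hpP.one_lt.le
  haveI : ExpChar k p := ExpChar.prime hpP
  haveI : IsDomain (MvPowerSeries (Fin r) k) := NoZeroDivisors.to_isDomain _
  obtain ⟨B, hB⟩ := Lib.PBasisField3H44.exists_pBasis p (Lib.PBasisCofiniteH44.kp p k) k
  have hinj : Function.Injective
      (algebraMap (MvPowerSeries (Fin r) k) (FractionRing (MvPowerSeries (Fin r) k))) :=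
    IsFractionRing.injective _ _
  have hpow : ∀ (α : Finset B) (b : MvPowerSeries (Fin r) k),
      b ^ p ∈ Lib.PowerSeriesFrobH44.frobSubring (σ := Fin r) p hp (Lib.PBasisCofiniteH44.cof p B α) :=
    fun α b => Lib.PowerSeriesFrobH44.pow_mem_frobSubring p hp _
      (fun y => Lib.PBasisCofiniteH44.pow_mem_cof p B α y) b
  refine ⟨Finset B, ⟨∅⟩, fun α => Lib.PowerSeriesFrobH44.frobSubring (σ := Fin r) p hp
    (Lib.PBasisCofiniteH44.cof p B α), ?_, ?_, ?_⟩
  · intro a b
    exact ⟨a ∪ b, le_inf
      (Lib.PowerSeriesFrobH44.frobSubring_mono p hp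
        (Lib.PBasisCofiniteH44.cof_anti p B Finset.subset_union_left))
      (Lib.PowerSeriesFrobH44.frobSubring_mono p hp
        (Lib.PBasisCofiniteH44.cof_anti p B Finset.subset_union_right))⟩
  · intro α
    haveI := Lib.PBasisCofiniteH44.finite_cof p B hB α
    exact ⟨inferInstance,
      (Lib.PowerSeriesFrobH44.free_finite (σ := Fin r) p hp (Lib.PBasisCofiniteH44.cof p B α)).1,
      (Lib.PowerSeriesFrobH44.free_finite (σ := Fin r) p hp (Lib.PBasisCofiniteH44.cof p B α)).2⟩
  · ext x
    simp only [Set.iInf_eq_iInter, Set.mem_iInter, SetLike.mem_coe, Set.mem_range]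
    constructor
    · intro hx
      obtain ⟨a, b, hb, rfl⟩ := IsFractionRing.div_surjective (A := MvPowerSeries (Fin r) k) x
      have hb0 : b ≠ 0 := nonZeroDivisors.ne_zero hb
      have hb' : algebraMap (MvPowerSeries (Fin r) k) (FractionRing (MvPowerSeries (Fin r) k)) b ≠ 0 :=
        fun h => hb0 (hinj (by rw [h, map_zero]))
      have hnum : algebraMap (MvPowerSeries (Fin r) k) (FractionRing (MvPowerSeries (Fin r) k)) a /
          algebraMap (MvPowerSeries (Fin r) k) (FractionRing (MvPowerSeries (Fin r) k)) b *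
          algebraMap (MvPowerSeries (Fin r) k) (FractionRing (MvPowerSeries (Fin r) k)) (b ^ p) =
          algebraMap (MvPowerSeries (Fin r) k) (FractionRing (MvPowerSeries (Fin r) k))
            (a * b ^ (p - 1)) := by
        have : b ^ p = b ^ (p - 1) * b := by
          rw [← pow_succ, Nat.sub_add_cancel hp1]
        rw [this, map_mul, map_mul]
        field_simp
      -- the numerator lies in all the subrings
      have hmem : ∀ α : Finset B, a * b ^ (p - 1) ∈
          Lib.PowerSeriesFrobH44.frobSubring (σ := Fin r) p hp (Lib.PBasisCofiniteH44.cof p B α) := by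
        intro α
        haveI := Lib.PBasisCofiniteH44.finite_cof p B hB α
        haveI := (Lib.PowerSeriesFrobH44.free_finite (σ := Fin r) p hp
          (Lib.PBasisCofiniteH44.cof p B α)).1
        apply Lib.PowerSeriesFrobH44.mem_of_algebraMap_mem_closure
        rw [← hnum]
        exact Subfield.mul_mem _ (hx α) (Subfield.subset_closure ⟨b ^ p, hpow α b, rfl⟩)
      obtain ⟨g, hg⟩ := Lib.PowerSeriesFrobH44.exists_pow_eq_of_forall_mem p hp
        (fun α : Finset B => Lib.PBasisCofiniteH44.cof p B α)
        (fun x hx => Lib.PBasisCofiniteH44.iInf_cof p B hB x hx) _ hmem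
      refine ⟨algebraMap (MvPowerSeries (Fin r) k) (FractionRing (MvPowerSeries (Fin r) k)) g /
        algebraMap (MvPowerSeries (Fin r) k) (FractionRing (MvPowerSeries (Fin r) k)) b, ?_⟩
      rw [div_pow, ← map_pow, ← map_pow, hg, ← hnum, map_pow, mul_div_assoc,
        div_self (pow_ne_zero _ hb'), mul_one]
    · rintro ⟨y, rfl⟩ α
      obtain ⟨a, b, hb, rfl⟩ := IsFractionRing.div_surjective (A := MvPowerSeries (Fin r) k) y
      rw [div_pow, ← map_pow, ← map_pow]
      exact Subfield.div_mem _ (Subfield.subset_closure ⟨a ^ p, hpow α a, rfl⟩)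
        (Subfield.subset_closure ⟨b ^ p, hpow α b, rfl⟩)

end Groth.Agent.S4548
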