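import Groth.Statements.S4549
import Groth.Agent.S4545

set_option autoImplicit false
universe u
open EGA41

namespace Groth.Agent.S4549

open EGA41 TensorProduct Groth.Agent.Lib.PBasisH44 Groth.Agent.Lib.PBasisFieldH44
  Groth.Agent.Lib.PBasisField3H44

section Helpers

variable (p : ℕ) [hp : Fact p.Prime] {k₀ K : Type u} [Field k₀] [Field K] [Algebra k₀ K]

/-- the subfield generated by `k₀`, `K^p` and the members of `B` outside `S` -/
noncomputable def kk (B : Set K) (S : Finset ↥B) : IntermediateField k₀ K :=
  IntermediateField.adjoin k₀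
    (Set.range (fun y : K => y ^ p) ∪ Subtype.val '' {b : ↥B | b ∉ S})

omit hp in
theorem kk_antitone (B : Set K) : Antitone (kk p (k₀ := k₀) B) := by
  intro S S' h
  apply IntermediateField.adjoin.mono
  apply Set.union_subset_union_right
  apply Set.image_mono
  intro b hb hS
  exact hb (h hS)

omit hp in
theorem pow_mem_kk (B : Set K) (S : Finset ↥B) (y : K) : y ^ p ∈ kk p (k₀ := k₀) B S :=
  IntermediateField.subset_adjoin _ _ (Or.inl ⟨y, rfl⟩)

variable [CharP K p]

theorem indep_kk (B : Set K) (hB : IsPBasis p k₀ (Subtype.val : B → K)) (T : Finset ↥B) :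
    IsPIndependent p (kk p (k₀ := k₀) B T) (fun s : ↥T => ((s.1 : ↥B) : K)) := by
  rw [← indepOn_univ_iff]
  apply indepOn_of_forall_notMem
  intro a _ hmem
  have hind : IndepOn p k₀ (Subtype.val : B → K) Set.univ := (indepOn_univ_iff p _).2 hB.1
  apply hind.notMem_adjoin p _ (Set.mem_univ a.1)
  rw [← mem_intermediateField_adjoin_iff]
  have hkk : kk p (k₀ := k₀) B T ≤ IntermediateField.adjoin k₀
      (Set.range (fun y : K => y ^ p) ∪ Subtype.val '' (Set.univ \ {a.1})) := by
    apply IntermediateField.adjoin.mono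
    apply Set.union_subset_union_right
    apply Set.image_mono
    intro b hb
    refine ⟨Set.mem_univ b, fun hba => hb ?_⟩
    rw [Set.mem_singleton_iff] at hba
    rw [hba]
    exact a.2
  have hP : IntermediateField.adjoin k₀ (Set.range fun y : K => y ^ p) ≤
      IntermediateField.adjoin k₀
        (Set.range (fun y : K => y ^ p) ∪ Subtype.val '' (Set.univ \ {a.1})) :=
    IntermediateField.adjoin.mono _ _ _ Set.subset_union_left
  have key : ∀ m : K, m ∈ Algebra.adjoin (pPowerSubalgebra p (kk p (k₀ := k₀) B T) K)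
      ((fun s : ↥T => ((s.1 : ↥B) : K)) '' (Set.univ \ {a})) →
      m ∈ IntermediateField.adjoin k₀
        (Set.range (fun y : K => y ^ p) ∪ Subtype.val '' (Set.univ \ {a.1})) := by
    intro m hm
    induction hm using Algebra.adjoin_induction with
    | mem m hm =>
      obtain ⟨b', hb', rfl⟩ := hm
      apply IntermediateField.subset_adjoin
      refine Or.inr ⟨b'.1, ⟨Set.mem_univ _, fun h => hb'.2 ?_⟩, rfl⟩
      rw [Set.mem_singleton_iff] at h ⊢
      exact Subtype.ext h
    | algebraMap c =>
      have hc := (Groth.Agent.S2475.mem_pPower_iff p (kk p (k₀ := k₀) B T) (c : K)).1 c.2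
      exact (sup_le hkk hP) hc
    | add s t _ _ hs ht => exact add_mem hs ht
    | mul s t _ _ hs ht => exact mul_mem hs ht
  exact key _ hmem

theorem joint_injective (B : Set K) (hB : IsPBasis p k₀ (Subtype.val : B → K)) (ω : Ω[K⁄k₀])
    (hω : ∀ S, KaehlerDifferential.map k₀ (kk p (k₀ := k₀) B S) K K ω = 0) : ω = 0 := by
  classical
  obtain ⟨bΩ, hbΩ⟩ := Groth.Agent.S2466.result p (Subtype.val : B → K) hB
  let T : Finset ↥B := (bΩ.repr ω).support
  let xT : ↥T → K := fun s => ((s.1 : ↥B) : K)
  have hi := indep_kk p B hB T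
  have hlin := ((Groth.Agent.S2468.result p (k := kk p (k₀ := k₀) B T) xT).1).1 hi
  have hω' : ω = ∑ b ∈ T, (bΩ.repr ω b) • KaehlerDifferential.D k₀ K (b : K) := by
    conv_lhs => rw [← bΩ.linearCombination_repr ω]
    rw [Finsupp.linearCombination_apply, Finsupp.sum]
    apply Finset.sum_congr rfl
    intro b _
    rw [hbΩ]
  have h0 := hω T
  rw [hω', map_sum] at h0
  simp only [map_smul, KaehlerDifferential.map_D, Algebra.algebraMap_self, RingHom.id_apply] at h0
  rw [← Finset.sum_coe_sort] at h0
  have hz := Fintype.linearIndependent_iff.1 hlin (fun s => bΩ.repr ω s.1) h0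
  have hrepr : bΩ.repr ω = 0 := by
    ext b
    by_contra hb
    exact hb (hz ⟨b, Finsupp.mem_support_iff.2 hb⟩)
  exact (LinearEquiv.map_eq_zero_iff _).1 hrepr

omit [CharP K p] in
theorem finite_kk (B : Set K) (hB : IsPBasis p k₀ (Subtype.val : B → K)) (S : Finset ↥B) :
    Module.Finite (kk p (k₀ := k₀) B S) K := by
  have htop : IntermediateField.adjoin (kk p (k₀ := k₀) B S) (Subtype.val '' (S : Set ↥B)) = ⊤ := by
    apply IntermediateField.restrictScalars_injective k₀
    rw [IntermediateField.restrictScalars_adjoin, IntermediateField.restrictScalars_top,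
      _root_.eq_top_iff]
    intro x _
    have hx : x ∈ Algebra.adjoin (pPowerSubalgebra p k₀ K)
        (Set.range (Subtype.val : B → K)) := by
      rw [(Groth.Agent.S2468.isPGenerating_iff_adjoin p _).1 hB.2]
      trivial
    rw [← mem_intermediateField_adjoin_iff] at hx
    refine (IntermediateField.adjoin_le_iff.2 ?_) hx
    rintro y (⟨z, rfl⟩ | ⟨b, rfl⟩)
    · exact IntermediateField.subset_adjoin _ _ (Or.inl (pow_mem_kk p B S z))
    · by_cases hb : b ∈ S
      · exact IntermediateField.subset_adjoin _ _ (Or.inr ⟨b, hb, rfl⟩)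
      · exact IntermediateField.subset_adjoin _ _
          (Or.inl (IntermediateField.subset_adjoin _ _ (Or.inr ⟨b, hb, rfl⟩)))
  have hfin : FiniteDimensional (kk p (k₀ := k₀) B S)
      (IntermediateField.adjoin (kk p (k₀ := k₀) B S) (Subtype.val '' (S : Set ↥B))) := by
    have : Finite (Subtype.val '' (S : Set ↥B)) := (S.finite_toSet.image _).to_subtype
    apply IntermediateField.finiteDimensional_adjoin
    rintro _ ⟨b, -, rfl⟩
    refine ⟨Polynomial.X ^ p - Polynomial.C ⟨(b : K) ^ p, pow_mem_kk p B S b⟩,
      Polynomial.monic_X_pow_sub_C _ hp.out.ne_zero, ?_⟩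
    simp
  rw [htop] at hfin
  exact Module.Finite.equiv
    (IntermediateField.topEquiv (F := kk p (k₀ := k₀) B S) (E := K)).toLinearEquiv

end Helpers

open TensorProduct in
/-- Let K be a field of characteristic p, k₀ a subfield and L an extension of K such that Υ_{L/K/k₀} has
finite rank over L. Then there is a subfield k of K containing k₀(K^p), with [K : k] finite, which
is k₀-admissible for the extension L of K, i.e. such that Υ_{L/K/k₀} → Υ_{L/K/k} is injective. (The
published statement uses the characteristic exponent and so also covers characteristic 0, where k =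
K works; this row treats characteristic p > 0.) -/
theorem result (p : ℕ) [Fact p.Prime] {k₀ K L : Type u} [Field k₀] [Field K] [Field L]
    [Algebra k₀ K] [Algebra K L] [Algebra k₀ L] [IsScalarTower k₀ K L] [CharP K p]
    [Module.Finite L (EGA41.imperfection k₀ K L)] :
    ∃ k : IntermediateField k₀ K, (∀ y : K, y ^ p ∈ k) ∧ Module.Finite k K ∧
      ∀ ω ∈ EGA41.imperfection k₀ K L,
        ((KaehlerDifferential.map k₀ k K K).restrictScalars K).baseChange L ω = 0 → ω = 0 := by
  classical
  obtain ⟨B, hB⟩ := exists_pBasis p k₀ K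
  have H := (Groth.Agent.S2475.result p (kk p (k₀ := k₀) B) (kk_antitone p B)).2
    (joint_injective p B hB)
  obtain ⟨S, hS⟩ := Groth.Agent.S4545.forward p (kk p (k₀ := k₀) B) (kk_antitone p B) H L
    inferInstance
  exact ⟨kk p B S, pow_mem_kk p B S, finite_kk p B hB S, hS⟩

end Groth.Agent.S4549
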