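import Groth.Statements.S4550
import Groth.Agent.Lib.PowerSeriesSubfieldH44

set_option autoImplicit false
universe u
open EGA41

namespace Groth.Agent.S4550

/-- Let k be a field, (k_α) a decreasing filtered family of subfields of k with intersection k₀, and
suppose there is a power q of the characteristic exponent of k with k^q ⊆ k₀. Then, inside k((T_1,
…, T_r)), one has ⋂_α k_α((T_1, …, T_r)) = k₀((T_1, …, T_r)); here F((T)) is the subfield of the
fraction field of k[[T]] generated by the power series with all coefficients in F. -/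
theorem result {k : Type u} [Field k] {ι : Type u} [Nonempty ι] (F : ι → Subfield k)
    (hdir : ∀ a b : ι, ∃ c, F c ≤ F a ⊓ F b) (e : ℕ) (hq : ∀ x : k, x ^ ringExpChar k ^ e ∈ ⨅ i, F i) (r : ℕ) :
    (⨅ i, Subfield.closure (algebraMap (MvPowerSeries (Fin r) k) (FractionRing (MvPowerSeries (Fin r) k)) ''
        {f | ∀ n, MvPowerSeries.coeff n f ∈ F i})) =
      Subfield.closure (algebraMap (MvPowerSeries (Fin r) k) (FractionRing (MvPowerSeries (Fin r) k)) ''
        {f | ∀ n, MvPowerSeries.coeff n f ∈ ⨅ i, F i}) := by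
  classical
  have hp : ringExpChar k ≠ 0 := expChar_ne_zero k (ringExpChar k)
  change (⨅ i, Lib.PowerSeriesSubfieldH44.lau (Fin r) (F i)) =
    Lib.PowerSeriesSubfieldH44.lau (Fin r) (⨅ i, F i)
  apply le_antisymm
  · intro x hx
    rw [Subfield.mem_iInf] at hx
    obtain ⟨a, b, hb, rfl⟩ := IsFractionRing.div_surjective (A := MvPowerSeries (Fin r) k) x
    have hb0 : b ≠ 0 := nonZeroDivisors.ne_zero hb
    have hinj : Function.Injective
        (algebraMap (MvPowerSeries (Fin r) k) (FractionRing (MvPowerSeries (Fin r) k))) :=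
      IsFractionRing.injective _ _
    set q := ringExpChar k ^ e with hqdef
    have hq1 : 1 ≤ q := Nat.one_le_iff_ne_zero.2 (pow_ne_zero _ hp)
    have hbq : b ^ q ∈ Lib.PowerSeriesSubfieldH44.coeffSubring (Fin r) (⨅ i, F i) :=
      Lib.PowerSeriesSubfieldH44.pow_mem_coeffSubring (ringExpChar k) e hq b
    have hb' : algebraMap (MvPowerSeries (Fin r) k) (FractionRing (MvPowerSeries (Fin r) k)) b ≠ 0 :=
      fun h => hb0 (hinj (by rw [h, map_zero]))
    have hbq' : algebraMap (MvPowerSeries (Fin r) k) (FractionRing (MvPowerSeries (Fin r) k))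
        (b ^ q) ≠ 0 := by
      rw [map_pow]
      exact pow_ne_zero _ hb'
    -- the numerator
    have hnum : algebraMap (MvPowerSeries (Fin r) k) (FractionRing (MvPowerSeries (Fin r) k)) a /
        algebraMap (MvPowerSeries (Fin r) k) (FractionRing (MvPowerSeries (Fin r) k)) b *
        algebraMap (MvPowerSeries (Fin r) k) (FractionRing (MvPowerSeries (Fin r) k)) (b ^ q) =
        algebraMap (MvPowerSeries (Fin r) k) (FractionRing (MvPowerSeries (Fin r) k))
          (a * b ^ (q - 1)) := by
      have : b ^ q = b ^ (q - 1) * b := by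
        rw [← pow_succ, Nat.sub_add_cancel hq1]
      rw [this, map_mul, map_mul]
      field_simp
    have ha' : ∀ n, MvPowerSeries.coeff n (a * b ^ (q - 1)) ∈ ⨅ i, F i := by
      intro n
      rw [Subfield.mem_iInf]
      intro i
      apply Lib.PowerSeriesSubfieldH44.coeff_mem_of_algebraMap_mem_lau (F := F i)
      rw [← hnum]
      refine Subfield.mul_mem _ (hx i) ?_
      exact Lib.PowerSeriesSubfieldH44.algebraMap_mem_lau
        (fun n => (iInf_le F i) (hbq n))
    have hx_eq : algebraMap (MvPowerSeries (Fin r) k) (FractionRing (MvPowerSeries (Fin r) k)) a /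
        algebraMap (MvPowerSeries (Fin r) k) (FractionRing (MvPowerSeries (Fin r) k)) b =
        algebraMap (MvPowerSeries (Fin r) k) (FractionRing (MvPowerSeries (Fin r) k))
          (a * b ^ (q - 1)) /
        algebraMap (MvPowerSeries (Fin r) k) (FractionRing (MvPowerSeries (Fin r) k)) (b ^ q) := by
      rw [← hnum, mul_div_assoc, div_self hbq', mul_one]
    rw [hx_eq]
    exact Subfield.div_mem _ (Lib.PowerSeriesSubfieldH44.algebraMap_mem_lau ha')
      (Lib.PowerSeriesSubfieldH44.algebraMap_mem_lau hbq)
  · exact le_iInf fun i => Lib.PowerSeriesSubfieldH44.lau_mono (iInf_le F i)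

end Groth.Agent.S4550
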