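import Groth.Statements.S4552
-- import your own Groth.Agent.* helpers here

set_option autoImplicit false
universe u
open EGA41

namespace Groth.Agent.S4552

theorem lift_of_projective {A : Type u} [CommRing A] (I : Ideal A) (M : Type u)
    [AddCommGroup M] [Module A M]
    (hproj : Module.Projective (A ⧸ I) (M ⧸ (I • ⊤ : Submodule A M)))
    (P Q : Type u) [AddCommGroup P] [Module A P] [AddCommGroup Q] [Module A Q]
    (hP : ∀ a ∈ I, ∀ y : P, a • y = 0) (hQ : ∀ a ∈ I, ∀ y : Q, a • y = 0)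
    (f : P →ₗ[A] Q) (hf : Function.Surjective f) (v : M →ₗ[A] Q) :
    ∃ w : M →ₗ[A] P, f ∘ₗ w = v := by
  have hP' : Module.IsTorsionBySet A P I := fun x a => hP a a.2 x
  have hQ' : Module.IsTorsionBySet A Q I := fun x a => hQ a a.2 x
  let _ : Module (A ⧸ I) P := hP'.module
  let _ : Module (A ⧸ I) Q := hQ'.module
  have : IsScalarTower A (A ⧸ I) P := hP'.isScalarTower
  have : IsScalarTower A (A ⧸ I) Q := hQ'.isScalarTower
  have hsurj : Function.Surjective (algebraMap A (A ⧸ I)) := Ideal.Quotient.mk_surjective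
  let f' : P →ₗ[A ⧸ I] Q := f.extendScalarsOfSurjective hsurj
  have hker : (I • ⊤ : Submodule A M) ≤ LinearMap.ker v := by
    rw [Submodule.smul_le]
    intro a ha m _
    rw [LinearMap.mem_ker, map_smul]
    exact hQ a ha _
  let v₀ : (M ⧸ (I • ⊤ : Submodule A M)) →ₗ[A] Q := Submodule.liftQ _ v hker
  let v' : (M ⧸ (I • ⊤ : Submodule A M)) →ₗ[A ⧸ I] Q := v₀.extendScalarsOfSurjective hsurj
  obtain ⟨h, hh⟩ := Module.projective_lifting_property f' v' hf
  refine ⟨(h.restrictScalars A) ∘ₗ (Submodule.mkQ _), ?_⟩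
  refine LinearMap.ext fun m => ?_
  have := LinearMap.congr_fun hh (Submodule.Quotient.mk m)
  simpa [f', v', v₀] using this


/-- For the 𝔞-adic topology on A and the deduced topology on M: the topological A-module M is formally
projective (for every open ideal 𝔞ⁿ, every pair of (A/𝔞ⁿ)-modules P, Q, every surjection P → Q and
every continuous A-linear map M → Q — here automatically continuous — there is a continuous A-linear
lift M → P) if and only if it is strictly formally projective, i.e. M/𝔞ⁿM is a projective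
(A/𝔞ⁿ)-module for every n. -/
theorem result {A : Type u} [CommRing A] (𝔞 : Ideal A) (M : Type u)
    [AddCommGroup M] [Module A M] :
    (∀ (n : ℕ) (P Q : Type u) [AddCommGroup P] [Module A P] [AddCommGroup Q] [Module A Q],
      (∀ a ∈ 𝔞 ^ n, ∀ y : P, a • y = 0) → (∀ a ∈ 𝔞 ^ n, ∀ y : Q, a • y = 0) →
      ∀ f : P →ₗ[A] Q, Function.Surjective f → ∀ v : M →ₗ[A] Q, ∃ w : M →ₗ[A] P, f ∘ₗ w = v) ↔
    ∀ n : ℕ, Module.Projective (A ⧸ 𝔞 ^ n) (M ⧸ (𝔞 ^ n • ⊤ : Submodule A M)) := by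
  constructor
  · intro H n
    refine Module.Projective.of_lifting_property'' fun f hf => ?_
    have hsurj : Function.Surjective (algebraMap A (A ⧸ 𝔞 ^ n)) := Ideal.Quotient.mk_surjective
    have hkill : ∀ (N : Type u) [AddCommGroup N] [Module A N] [Module (A ⧸ 𝔞 ^ n) N]
        [IsScalarTower A (A ⧸ 𝔞 ^ n) N], ∀ a ∈ 𝔞 ^ n, ∀ y : N, a • y = 0 := by
      intro N _ _ _ _ a ha y
      rw [← algebraMap_smul (A ⧸ 𝔞 ^ n) a y, Ideal.Quotient.algebraMap_eq,
        Ideal.Quotient.eq_zero_iff_mem.mpr ha, zero_smul]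
    obtain ⟨w, hw⟩ := H n ((M ⧸ (𝔞 ^ n • ⊤ : Submodule A M)) →₀ (A ⧸ 𝔞 ^ n))
      (M ⧸ (𝔞 ^ n • ⊤ : Submodule A M)) (hkill _) (hkill _) (f.restrictScalars A) hf
      (Submodule.mkQ _)
    have hker : (𝔞 ^ n • ⊤ : Submodule A M) ≤ LinearMap.ker w := by
      rw [Submodule.smul_le]
      intro a ha m _
      rw [LinearMap.mem_ker, map_smul]
      exact hkill _ a ha _
    let w₀ : (M ⧸ (𝔞 ^ n • ⊤ : Submodule A M)) →ₗ[A]
        ((M ⧸ (𝔞 ^ n • ⊤ : Submodule A M)) →₀ (A ⧸ 𝔞 ^ n)) := Submodule.liftQ _ w hker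
    refine ⟨w₀.extendScalarsOfSurjective hsurj, ?_⟩
    refine LinearMap.ext fun x => ?_
    obtain ⟨m, rfl⟩ := Submodule.Quotient.mk_surjective _ x
    have := LinearMap.congr_fun hw m
    simpa [w₀] using this
  · intro H n P Q _ _ _ _ hP hQ f hf v
    exact lift_of_projective (𝔞 ^ n) M (H n) P Q hP hQ f hf v

end Groth.Agent.S4552
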