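import Groth.Statements.S4556
-- import your own Groth.Agent.* helpers here

set_option autoImplicit false
universe u
open EGA41

namespace Groth.Agent.S4556

/-- Let B be a formally smooth A-algebra, E and E' two A-algebras, R (resp. R') a nilpotent ideal of E
(resp. E'), f : E → E' a surjective A-algebra homomorphism with f(R) = R', and f' : E/R → E'/R' the
induced homomorphism. Let u : B → E/R be an A-algebra homomorphism and v' : B → E' an A-algebra
homomorphism through which f' ∘ u factors (v' followed by E' → E'/R' equals f' ∘ u). Then there is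
an A-algebra homomorphism v : B → E with f ∘ v = v'. (The published statement assumes only f(R) ⊆
R'; in that form it fails for B = ℚ[x, x⁻¹], E = ℚ[t], E' = ℚ[t]/(t²), R = 0, R' = (t), u : x ↦ 1
and v' : x ↦ 1 + t, since any v sends x to a unit of ℚ[t], a constant; the argument identifies R'
with the image of R, and that equality is assumed here.) -/
theorem result {A B E E' : Type u} [CommRing A] [CommRing B] [Algebra A B]
    [Algebra.FormallySmooth A B] [CommRing E] [CommRing E'] [Algebra A E] [Algebra A E']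
    (R : Ideal E) (R' : Ideal E') (hR : IsNilpotent R) (hR' : IsNilpotent R')
    (f : E →ₐ[A] E') (hf : Function.Surjective f) (hfR : R.map f.toRingHom = R')
    (u : B →ₐ[A] E ⧸ R) (v' : B →ₐ[A] E')
    (huv : (Ideal.Quotient.mkₐ A R').comp v' =
      (Ideal.quotientMapₐ R' f (fun x hx => hfR.le (Ideal.mem_map_of_mem f.toRingHom hx))).comp u) :
    ∃ v : B →ₐ[A] E, f.comp v = v' := by
  classical
  have hle : R ≤ R'.comap f := fun x hx => hfR.le (Ideal.mem_map_of_mem f.toRingHom hx)
  let φ : ((E ⧸ R) × E') →ₐ[A] E' ⧸ R' :=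
    (Ideal.quotientMapₐ R' f hle).comp (AlgHom.fst A (E ⧸ R) E')
  let ψ : ((E ⧸ R) × E') →ₐ[A] E' ⧸ R' :=
    (Ideal.Quotient.mkₐ A R').comp (AlgHom.snd A (E ⧸ R) E')
  let P : Subalgebra A ((E ⧸ R) × E') := AlgHom.equalizer φ ψ
  let g : E →ₐ[A] P := ((Ideal.Quotient.mkₐ A R).prod f).codRestrict P (fun e => by
    change φ _ = ψ _
    simp [φ, ψ])
  have hgsurj : Function.Surjective g := by
    rintro ⟨⟨x, e'⟩, hx⟩
    obtain ⟨e, rfl⟩ := Ideal.Quotient.mk_surjective x
    have hx' : Ideal.Quotient.mk R' (f e) = Ideal.Quotient.mk R' e' := by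
      have : φ (Ideal.Quotient.mk R e, e') = ψ (Ideal.Quotient.mk R e, e') := hx
      simpa [φ, ψ] using this
    have hmem : f e - e' ∈ R' := by
      rw [← Ideal.Quotient.eq]; exact hx'
    rw [← hfR] at hmem
    obtain ⟨r, hr, hr'⟩ := (Ideal.mem_map_iff_of_surjective f.toRingHom hf).mp hmem
    refine ⟨e - r, ?_⟩
    apply Subtype.ext
    change ((Ideal.Quotient.mk R (e - r), f (e - r)) : (E ⧸ R) × E') = (Ideal.Quotient.mk R e, e')
    have h1 : Ideal.Quotient.mk R (e - r) = Ideal.Quotient.mk R e := by
      rw [Ideal.Quotient.eq]; simpa using R.neg_mem hr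
    have h2 : f (e - r) = e' := by
      have : f r = f e - e' := hr'
      rw [map_sub, this]; ring
    rw [h1, h2]
  have hker : RingHom.ker (g : E →+* P) ≤ R := by
    intro x hx
    have h0 : g x = 0 := hx
    have h1 : (Ideal.Quotient.mk R x, f x) = ((0 : E ⧸ R), (0 : E')) := by
      have := congrArg (fun y : P => (y : (E ⧸ R) × E')) h0
      simpa [g] using this
    exact Ideal.Quotient.eq_zero_iff_mem.mp (congrArg Prod.fst h1)
  have hnil : IsNilpotent (RingHom.ker (g : E →+* P)) := by
    obtain ⟨n, hn⟩ := hR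
    exact ⟨n, le_bot_iff.mp ((Ideal.pow_right_mono hker n).trans hn.le)⟩
  let h : B →ₐ[A] P := (u.prod v').codRestrict P (fun b => by
    change φ _ = ψ _
    have := AlgHom.congr_fun huv b
    simp only [φ, ψ, AlgHom.comp_apply, AlgHom.prod_apply, AlgHom.fst_apply, AlgHom.snd_apply]
    exact this.symm)
  refine ⟨Algebra.FormallySmooth.liftOfSurjective h g hgsurj hnil, ?_⟩
  ext b
  have := Algebra.FormallySmooth.liftOfSurjective_apply h g hgsurj hnil b
  exact congrArg (fun y : P => (y : (E ⧸ R) × E').2) this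

end Groth.Agent.S4556
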