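import Groth.Statements.S4558
import Groth.Agent.Lib.AdicPi
import Mathlib

set_option autoImplicit false
universe u
open EGA41

namespace Groth.Agent.S4558

/-- Let A be a discrete ring, B an adic topological A-algebra with ideal of definition 𝔫 (B separated
and complete for the 𝔫-adic topology) and B₀ = B/𝔫. If Ω_{B₀/A} and 𝔫/𝔫² are B₀-modules of finite
type, then Ω̂_{B/A}, the 𝔫-adic completion of Ω_{B/A}, is a B-module of finite type. -/
theorem result {A B : Type u} [CommRing A] [CommRing B] [Algebra A B] (𝔫 : Ideal B)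
    [IsAdicComplete 𝔫 B] [Module.Finite (B ⧸ 𝔫) (Ω[B ⧸ 𝔫⁄A])] [Module.Finite (B ⧸ 𝔫) 𝔫.Cotangent] :
    Module.Finite B (AdicCompletion 𝔫 (Ω[B⁄A])) := by
  classical
  -- `𝔫` is finitely generated
  have hH𝔫 : IsHausdorff 𝔫 𝔫 := by
    refine ⟨fun x hx => ?_⟩
    apply Subtype.ext
    have hB : IsHausdorff 𝔫 B := IsAdicComplete.toIsHausdorff
    apply hB.haus'
    intro n
    have h1 := hx n
    rw [SModEq.zero] at h1 ⊢
    rw [smul_eq_mul, Ideal.mul_top]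
    have h2 : (𝔫 ^ n • ⊤ : Submodule B 𝔫).map 𝔫.subtype ≤ 𝔫 ^ n := by
      rw [Submodule.map_smul'']
      exact Submodule.smul_le.mpr (fun r hr m _ => Ideal.mul_mem_right _ _ hr)
    exact h2 (Submodule.mem_map_of_mem h1)
  have hfinQ : Module.Finite B (B ⧸ 𝔫) := inferInstance
  have hcot : Module.Finite B 𝔫.Cotangent := Module.Finite.trans (B ⧸ 𝔫) _
  have hcot' : Module.Finite B (𝔫 ⧸ (𝔫 • ⊤ : Submodule B 𝔫)) := hcot
  have h𝔫fin : Module.Finite B 𝔫 :=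
    Groth.Agent.Lib.AdicPi.finite_of_finite_quotient 𝔫 𝔫 hcot'
  have hfg : 𝔫.FG := Module.Finite.iff_fg.mp h𝔫fin
  -- Step 1: `(B/𝔫) ⊗ Ω` finite over `B`
  have hsurj : Function.Surjective (algebraMap B (B ⧸ 𝔫)) := Ideal.Quotient.mk_surjective
  have hex := KaehlerDifferential.exact_kerCotangentToTensor_mapBaseChange A B (B ⧸ 𝔫) hsurj
  have hsur := KaehlerDifferential.mapBaseChange_surjective A B (B ⧸ 𝔫) hsurj
  have hfin1 : Module.Finite B (Ω[B ⧸ 𝔫⁄A]) := Module.Finite.trans (B ⧸ 𝔫) _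
  have hkerfg : (RingHom.ker (algebraMap B (B ⧸ 𝔫))).FG := by
    rw [Ideal.Quotient.algebraMap_eq, Ideal.mk_ker]; exact hfg
  have hfinCot : Module.Finite B (RingHom.ker (algebraMap B (B ⧸ 𝔫))).Cotangent := by
    have : Module.Finite B (RingHom.ker (algebraMap B (B ⧸ 𝔫))) := Module.Finite.iff_fg.mpr hkerfg
    exact Module.Finite.of_surjective (Ideal.toCotangent _) (Ideal.toCotangent_surjective _)
  let fA : (RingHom.ker (algebraMap B (B ⧸ 𝔫))).Cotangent →ₗ[B]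
      TensorProduct B (B ⧸ 𝔫) (Ω[B⁄A]) :=
    KaehlerDifferential.kerCotangentToTensor A B (B ⧸ 𝔫)
  let gA : TensorProduct B (B ⧸ 𝔫) (Ω[B⁄A]) →ₗ[B] Ω[B ⧸ 𝔫⁄A] :=
    (KaehlerDifferential.mapBaseChange A B (B ⧸ 𝔫)).restrictScalars B
  have hexA : Function.Exact fA gA := hex
  have hsurA : Function.Surjective gA := hsur
  have hfinT : Module.Finite B (TensorProduct B (B ⧸ 𝔫) (Ω[B⁄A])) := by
    have h1 : Module.Finite B (LinearMap.range fA) := Module.Finite.range fA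
    have h2 : Module.Finite B (TensorProduct B (B ⧸ 𝔫) (Ω[B⁄A]) ⧸ LinearMap.range fA) :=
      Module.Finite.equiv (hexA.linearEquivOfSurjective hsurA).symm
    exact Module.Finite.of_submodule_quotient (LinearMap.range fA)
  have hfinQ2 : Module.Finite B ((Ω[B⁄A]) ⧸ (𝔫 • ⊤ : Submodule B (Ω[B⁄A]))) :=
    Module.Finite.equiv (TensorProduct.quotTensorEquivQuotSMul (Ω[B⁄A]) 𝔫)
  have hker := AdicCompletion.pow_smul_top_eq_ker_eval (I := 𝔫) (M := Ω[B⁄A]) (n := 1) hfg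
  have hevs := AdicCompletion.eval_surjective 𝔫 (Ω[B⁄A]) 1
  have e1 := (AdicCompletion.eval 𝔫 (Ω[B⁄A]) 1).quotKerEquivOfSurjective hevs
  have e2 := Submodule.quotEquivOfEq _ _ hker
  have hfin3 : Module.Finite B ((Ω[B⁄A]) ⧸ (𝔫 ^ 1 • ⊤ : Submodule B (Ω[B⁄A]))) := by
    rw [pow_one]; exact hfinQ2
  have hfin4 : Module.Finite B (AdicCompletion 𝔫 (Ω[B⁄A]) ⧸
      (𝔫 ^ 1 • ⊤ : Submodule B (AdicCompletion 𝔫 (Ω[B⁄A])))) :=
    Module.Finite.equiv (e2.trans e1).symm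
  rw [pow_one] at hfin4
  exact Groth.Agent.Lib.AdicPi.finite_of_finite_quotient 𝔫 _ hfin4

end Groth.Agent.S4558
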