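import Groth.Statements.S4559
import Mathlib.RingTheory.Unramified.Basic
import Mathlib.LinearAlgebra.TensorProduct.Quotient

set_option autoImplicit false
universe u
open EGA41

namespace Groth.Agent.S4559

theorem pow_smul_top {B : Type u} [CommRing B] {M : Type u} [AddCommGroup M] [Module B M]
    (I : Ideal B) (h : (I • ⊤ : Submodule B M) = ⊤) (k : ℕ) :
    (I ^ k • ⊤ : Submodule B M) = ⊤ := by
  induction k with
  | zero => simp
  | succ k ih => rw [pow_succ, Submodule.mul_smul, h, ih]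

theorem subsingleton_adicCompletion_iff {B : Type u} [CommRing B] {M : Type u} [AddCommGroup M]
    [Module B M] (I : Ideal B) :
    Subsingleton (AdicCompletion I M) ↔ (I • ⊤ : Submodule B M) = ⊤ := by
  constructor
  · intro h
    have h1 : Subsingleton (M ⧸ (I ^ 1 • ⊤ : Submodule B M)) :=
      (AdicCompletion.eval_surjective I M 1).subsingleton
    rw [Submodule.Quotient.subsingleton_iff, pow_one] at h1
    exact h1
  · intro h
    refine ⟨fun x y => AdicCompletion.ext fun n => ?_⟩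
    have : Subsingleton (M ⧸ (I ^ n • ⊤ : Submodule B M)) :=
      Submodule.Quotient.subsingleton_iff.mpr (pow_smul_top I h n)
    exact Subsingleton.elim _ _

theorem formallyUnramified_quotient_pow {A B : Type u} [CommRing A] [CommRing B] [Algebra A B]
    (𝔟 : Ideal B) (h : (𝔟 • ⊤ : Submodule B (Ω[B⁄A])) = ⊤) (m : ℕ) :
    Algebra.FormallyUnramified A (B ⧸ 𝔟 ^ m) := by
  constructor
  have hsurj : Function.Surjective (KaehlerDifferential.map A A B (B ⧸ 𝔟 ^ m)) :=
    KaehlerDifferential.map_surjective_of_surjective A A B (B ⧸ 𝔟 ^ m)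
      Ideal.Quotient.mk_surjective
  have hker : (𝔟 ^ m • ⊤ : Submodule B (Ω[B⁄A])) ≤
      LinearMap.ker (KaehlerDifferential.map A A B (B ⧸ 𝔟 ^ m)) := by
    rw [Submodule.smul_le]
    intro b hb ω _
    rw [LinearMap.mem_ker, map_smul, ← algebraMap_smul (B ⧸ 𝔟 ^ m) b,
      Ideal.Quotient.algebraMap_eq, Ideal.Quotient.eq_zero_iff_mem.mpr hb, zero_smul]
  rw [pow_smul_top 𝔟 h m, top_le_iff, LinearMap.ker_eq_top] at hker
  refine ⟨fun x y => ?_⟩
  obtain ⟨x', rfl⟩ := hsurj x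
  obtain ⟨y', rfl⟩ := hsurj y
  rw [hker]; rfl

open TensorProduct in
theorem smul_top_eq_top_of_formallyUnramified {A B : Type u} [CommRing A] [CommRing B]
    [Algebra A B] (𝔟 : Ideal B) [hFU : Algebra.FormallyUnramified A (B ⧸ 𝔟 ^ 2)] :
    (𝔟 • ⊤ : Submodule B (Ω[B⁄A])) = ⊤ := by
  rw [eq_top_iff]
  intro ω _
  have hsurj : Function.Surjective (algebraMap B (B ⧸ 𝔟 ^ 2)) := Ideal.Quotient.mk_surjective
  have hex := KaehlerDifferential.exact_kerCotangentToTensor_mapBaseChange A B (B ⧸ 𝔟 ^ 2) hsurj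
  have h0 : KaehlerDifferential.mapBaseChange A B (B ⧸ 𝔟 ^ 2) ((1 : B ⧸ 𝔟 ^ 2) ⊗ₜ[B] ω) = 0 :=
    Subsingleton.elim _ _
  obtain ⟨c, hc⟩ := (hex _).mp h0
  obtain ⟨⟨x, hx⟩, rfl⟩ := Ideal.toCotangent_surjective _ c
  rw [KaehlerDifferential.kerCotangentToTensor_toCotangent] at hc
  have hx2 : x ∈ 𝔟 ^ 2 := by
    have : algebraMap B (B ⧸ 𝔟 ^ 2) x = 0 := hx
    rwa [Ideal.Quotient.algebraMap_eq, Ideal.Quotient.eq_zero_iff_mem] at this
  have h1 := congrArg (TensorProduct.quotTensorEquivQuotSMul (Ω[B⁄A]) (𝔟 ^ 2)) hc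
  rw [TensorProduct.quotTensorEquivQuotSMul_mk_one_tmul,
    TensorProduct.quotTensorEquivQuotSMul_mk_one_tmul, Submodule.Quotient.eq] at h1
  have hle : (𝔟 ^ 2 • ⊤ : Submodule B (Ω[B⁄A])) ≤ 𝔟 • ⊤ :=
    Submodule.smul_mono_left (Ideal.pow_le_self two_ne_zero)
  have hD : KaehlerDifferential.D A B x ∈ (𝔟 • ⊤ : Submodule B (Ω[B⁄A])) := by
    rw [pow_two] at hx2
    refine Submodule.mul_induction_on hx2 ?_ ?_
    · intro y hy z hz
      rw [Derivation.leibniz]
      exact Submodule.add_mem _ (Submodule.smul_mem_smul hy Submodule.mem_top)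
        (Submodule.smul_mem_smul hz Submodule.mem_top)
    · intro y z hy hz
      rw [map_add]
      exact Submodule.add_mem _ hy hz
  have := Submodule.sub_mem _ hD (hle h1)
  simpa using this


/-- Let A be 𝔞-adic and B a topological A-algebra for the 𝔟-adic topology (a power of 𝔞 maps into 𝔟).
Then B is a formally unramified A-algebra (for every homomorphism E → C of discrete A-algebras with
nilpotent kernel and every continuous u : B → C there is at most one continuous lift B → E; here E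
discrete means killed by a power of 𝔞, and one may take C = E/J) if and only if the separated
completion of Ω_{B/A}, i.e. its 𝔟-adic completion, is zero. -/
theorem result {A B : Type u} [CommRing A] [CommRing B] [Algebra A B]
    (𝔞 : Ideal A) (𝔟 : Ideal B) (hAB : ∃ k : ℕ, (𝔞 ^ k).map (algebraMap A B) ≤ 𝔟) :
    (∀ (E : Type u) [CommRing E] [Algebra A E], (∃ k : ℕ, (𝔞 ^ k).map (algebraMap A E) = ⊥) →
      ∀ J : Ideal E, IsNilpotent J → ∀ v₁ v₂ : B →ₐ[A] E,
        (∃ m : ℕ, ∀ x ∈ 𝔟 ^ m, v₁ x = 0) → (∃ m : ℕ, ∀ x ∈ 𝔟 ^ m, v₂ x = 0) →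
        (∀ b : B, Ideal.Quotient.mk J (v₁ b) = Ideal.Quotient.mk J (v₂ b)) → v₁ = v₂) ↔
    Subsingleton (AdicCompletion 𝔟 (Ω[B⁄A])) := by
  rw [subsingleton_adicCompletion_iff]
  obtain ⟨k, hk⟩ := hAB
  constructor
  · intro H
    have : Algebra.FormallyUnramified A (B ⧸ 𝔟 ^ 2) := by
      rw [Algebra.FormallyUnramified.iff_comp_injective]
      intro C _ _ I hI f₁ f₂ e
      let π : B →ₐ[A] B ⧸ 𝔟 ^ 2 := Ideal.Quotient.mkₐ A _
      have hkill : (𝔞 ^ (k * 2)).map (algebraMap A C) = ⊥ := by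
        rw [eq_bot_iff, Ideal.map_le_iff_le_comap]
        intro a ha
        rw [Ideal.mem_comap, Ideal.mem_bot]
        have h1 : algebraMap A B a ∈ 𝔟 ^ 2 := by
          have h2 : algebraMap A B a ∈ (𝔞 ^ (k * 2)).map (algebraMap A B) :=
            Ideal.mem_map_of_mem _ ha
          rw [pow_mul, Ideal.map_pow] at h2
          exact Ideal.pow_right_mono hk 2 h2
        have h3 : f₁ (π (algebraMap A B a)) = algebraMap A C a := by
          rw [AlgHom.commutes, AlgHom.commutes]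
        rw [← h3]
        have h4 : π (algebraMap A B a) = 0 := Ideal.Quotient.eq_zero_iff_mem.mpr h1
        rw [h4, map_zero]
      have hz : ∀ f : (B ⧸ 𝔟 ^ 2) →ₐ[A] C, ∃ m : ℕ, ∀ x ∈ 𝔟 ^ m, (f.comp π) x = 0 := by
        intro f
        refine ⟨2, fun x hx => ?_⟩
        have h4 : π x = 0 := Ideal.Quotient.eq_zero_iff_mem.mpr hx
        rw [AlgHom.comp_apply, h4, map_zero]
      have hv : f₁.comp π = f₂.comp π := by
        refine H C ⟨k * 2, hkill⟩ I ⟨2, hI⟩ _ _ (hz f₁) (hz f₂) (fun b => ?_)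
        exact AlgHom.congr_fun e (π b)
      refine AlgHom.ext fun x => ?_
      obtain ⟨b, rfl⟩ := Ideal.Quotient.mk_surjective x
      exact AlgHom.congr_fun hv b
    exact smul_top_eq_top_of_formallyUnramified 𝔟
  · intro hΩ E _ _ _ J hJ v₁ v₂ hv₁ hv₂ hv
    obtain ⟨m₁, hm₁⟩ := hv₁
    obtain ⟨m₂, hm₂⟩ := hv₂
    have : Algebra.FormallyUnramified A (B ⧸ 𝔟 ^ (max m₁ m₂)) :=
      formallyUnramified_quotient_pow 𝔟 hΩ _
    let w₁ := Ideal.Quotient.liftₐ (𝔟 ^ (max m₁ m₂)) v₁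
      (fun x hx => hm₁ x (Ideal.pow_le_pow_right (le_max_left _ _) hx))
    let w₂ := Ideal.Quotient.liftₐ (𝔟 ^ (max m₁ m₂)) v₂
      (fun x hx => hm₂ x (Ideal.pow_le_pow_right (le_max_right _ _) hx))
    have hw : w₁ = w₂ := by
      refine Algebra.FormallyUnramified.ext J hJ (fun x => ?_)
      obtain ⟨b, rfl⟩ := Ideal.Quotient.mk_surjective x
      exact hv b
    refine AlgHom.ext fun b => ?_
    exact AlgHom.congr_fun hw (Ideal.Quotient.mk _ b)

end Groth.Agent.S4559
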