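import Groth.Statements.S4560
import Mathlib.RingTheory.Unramified.Basic
import Mathlib.RingTheory.Kaehler.TensorProduct
import Mathlib.RingTheory.TensorProduct.Quotient
import Mathlib.LinearAlgebra.TensorProduct.Quotient

set_option autoImplicit false
universe u
open EGA41

namespace Groth.Agent.S4560

attribute [local instance] Algebra.TensorProduct.rightAlgebra in
open TensorProduct in
theorem key {A B : Type u} [CommRing A] [CommRing B] [Algebra A B] (I : Ideal A) :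
    Subsingleton (Ω[B ⧸ I.map (algebraMap A B)⁄A ⧸ I]) ↔
      (I • ⊤ : Submodule A (Ω[B⁄A])) = ⊤ := by
  have e1 : Subsingleton (Ω[B ⧸ I.map (algebraMap A B)⁄A ⧸ I]) ↔
      Subsingleton (Ω[(A ⧸ I) ⊗[A] B⁄A ⧸ I]) := by
    rw [← Algebra.formallyUnramified_iff, ← Algebra.formallyUnramified_iff]
    exact Algebra.FormallyUnramified.iff_of_equiv
      (Algebra.TensorProduct.quotIdealMapEquivQuotTensor B I)
  have e2 : Subsingleton (Ω[(A ⧸ I) ⊗[A] B⁄A ⧸ I]) ↔ Subsingleton ((A ⧸ I) ⊗[A] Ω[B⁄A]) :=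
    (KaehlerDifferential.tensorKaehlerEquivBase A (A ⧸ I) B
      ((A ⧸ I) ⊗[A] B)).toEquiv.subsingleton_congr.symm
  have e3 : Subsingleton ((A ⧸ I) ⊗[A] Ω[B⁄A]) ↔
      Subsingleton (Ω[B⁄A] ⧸ (I • ⊤ : Submodule A (Ω[B⁄A]))) :=
    (TensorProduct.quotTensorEquivQuotSMul (Ω[B⁄A]) I).toEquiv.subsingleton_congr
  rw [e1, e2, e3, Submodule.Quotient.subsingleton_iff]

theorem pow_smul_top {A : Type u} [CommRing A] {M : Type u} [AddCommGroup M] [Module A M]
    (I : Ideal A) (h : (I • ⊤ : Submodule A M) = ⊤) (k : ℕ) :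
    (I ^ k • ⊤ : Submodule A M) = ⊤ := by
  induction k with
  | zero => simp
  | succ k ih => rw [pow_succ, Submodule.mul_smul, h, ih]


/-- Let A be a ring, 𝔪 an ideal of A, B an A-algebra; give A the 𝔪-adic topology and B the topology
deduced from it (the 𝔪B-adic topology), and put A₀ = A/𝔪, B₀ = B/𝔪B. Then B is a formally unramified
A-algebra (for these topologies: E discrete means killed by a power of 𝔪, and continuity of maps B →
E is then automatic) if and only if Ω_{B₀/A₀} = 0, i.e. B₀ is a formally unramified A₀-algebra. -/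
theorem result {A B : Type u} [CommRing A] [CommRing B] [Algebra A B] (𝔪 : Ideal A) :
    (∀ (E : Type u) [CommRing E] [Algebra A E], (∃ k : ℕ, (𝔪 ^ k).map (algebraMap A E) = ⊥) →
      ∀ J : Ideal E, IsNilpotent J → ∀ v₁ v₂ : B →ₐ[A] E,
        (∀ b : B, Ideal.Quotient.mk J (v₁ b) = Ideal.Quotient.mk J (v₂ b)) → v₁ = v₂) ↔
    Subsingleton (Ω[B ⧸ 𝔪.map (algebraMap A B)⁄A ⧸ 𝔪]) := by
  constructor
  · intro H
    rw [← Algebra.formallyUnramified_iff, Algebra.FormallyUnramified.iff_comp_injective]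
    intro C _ _ I hI f₁ f₂ e
    let _ : Algebra A C := ((algebraMap (A ⧸ 𝔪) C).comp (algebraMap A (A ⧸ 𝔪))).toAlgebra
    have : IsScalarTower A (A ⧸ 𝔪) C := IsScalarTower.of_algebraMap_eq' rfl
    let π : B →ₐ[A] B ⧸ 𝔪.map (algebraMap A B) := Ideal.Quotient.mkₐ A _
    have hkill : (𝔪 ^ 1).map (algebraMap A C) = ⊥ := by
      rw [pow_one, eq_bot_iff, Ideal.map_le_iff_le_comap]
      intro a ha
      rw [Ideal.mem_comap, Ideal.mem_bot, IsScalarTower.algebraMap_apply A (A ⧸ 𝔪) C,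
        Ideal.Quotient.algebraMap_eq, Ideal.Quotient.eq_zero_iff_mem.mpr ha, map_zero]
    have hv : (f₁.restrictScalars A).comp π = (f₂.restrictScalars A).comp π := by
      refine H C ⟨1, hkill⟩ I ⟨2, hI⟩ _ _ (fun b => ?_)
      exact AlgHom.congr_fun e (π b)
    ext x
    obtain ⟨b, rfl⟩ := Ideal.Quotient.mk_surjective x
    exact AlgHom.congr_fun hv b
  · intro hΩ E _ _ hE J hJ v₁ v₂ hv
    obtain ⟨k, hk⟩ := hE
    have h1 : (𝔪 • ⊤ : Submodule A (Ω[B⁄A])) = ⊤ := (key 𝔪).mp hΩ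
    have hk' : (𝔪 ^ k • ⊤ : Submodule A (Ω[B⁄A])) = ⊤ := pow_smul_top 𝔪 h1 k
    have h2 : Subsingleton (Ω[B ⧸ (𝔪 ^ k).map (algebraMap A B)⁄A ⧸ 𝔪 ^ k]) := (key (𝔪 ^ k)).mpr hk'
    have : Algebra.FormallyUnramified (A ⧸ 𝔪 ^ k) (B ⧸ (𝔪 ^ k).map (algebraMap A B)) := ⟨h2⟩
    have : Algebra.FormallyUnramified A (A ⧸ 𝔪 ^ k) :=
      Algebra.FormallyUnramified.of_surjective (Algebra.ofId A (A ⧸ 𝔪 ^ k))
        Ideal.Quotient.mk_surjective
    have : Algebra.FormallyUnramified A (B ⧸ (𝔪 ^ k).map (algebraMap A B)) :=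
      Algebra.FormallyUnramified.comp A (A ⧸ 𝔪 ^ k) _
    have hzero : ∀ v : B →ₐ[A] E, ∀ x ∈ (𝔪 ^ k).map (algebraMap A B), v x = 0 := by
      intro v
      have : (𝔪 ^ k).map (algebraMap A B) ≤ RingHom.ker (v : B →+* E) := by
        rw [Ideal.map_le_iff_le_comap]
        intro a ha
        rw [Ideal.mem_comap, RingHom.mem_ker]
        have h3 : algebraMap A E a ∈ (𝔪 ^ k).map (algebraMap A E) := Ideal.mem_map_of_mem _ ha
        rw [hk, Ideal.mem_bot] at h3
        simpa using h3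
      exact fun x hx => this hx
    let w₁ := Ideal.Quotient.liftₐ ((𝔪 ^ k).map (algebraMap A B)) v₁ (hzero v₁)
    let w₂ := Ideal.Quotient.liftₐ ((𝔪 ^ k).map (algebraMap A B)) v₂ (hzero v₂)
    have hw : w₁ = w₂ := by
      refine Algebra.FormallyUnramified.ext J hJ (fun x => ?_)
      obtain ⟨b, rfl⟩ := Ideal.Quotient.mk_surjective x
      exact hv b
    ext b
    exact AlgHom.congr_fun hw (Ideal.Quotient.mk _ b)

end Groth.Agent.S4560
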