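import Groth.Statements.S4561
import Groth.Agent.Lib.PowerSeriesSubfieldH44

set_option autoImplicit false
universe u
open EGA41

namespace Groth.Agent.S4561

open Lib.PowerSeriesSubfieldH44

section
variable (p : ℕ) [Fact p.Prime] {k₀ K₀ : Type u} [Field k₀] [Field K₀] [Algebra k₀ K₀] [CharP k₀ p]

/-- The `K₀^p`-subalgebra generated by the image of `k₀` is a subfield. -/
theorem inv_mem_adjoin
    (x : K₀) (hx : x ∈ Algebra.adjoin (Subfield.closure (Set.range fun y : K₀ => y ^ p))
      (Set.range (algebraMap k₀ K₀))) :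
    x⁻¹ ∈ Algebra.adjoin (Subfield.closure (Set.range fun y : K₀ => y ^ p))
      (Set.range (algebraMap k₀ K₀)) := by
  have hp1 : 1 ≤ p := (Fact.out : p.Prime).one_lt.le
  by_cases hx0 : x = 0
  · rw [hx0, inv_zero]; exact Subalgebra.zero_mem _
  have hxp : x ^ p ∈ Subfield.closure (Set.range fun y : K₀ => y ^ p) :=
    Subfield.subset_closure ⟨x, rfl⟩
  have hinv : (x ^ p)⁻¹ ∈ Subfield.closure (Set.range fun y : K₀ => y ^ p) :=
    Subfield.inv_mem _ hxp
  have heq : x⁻¹ = (⟨(x ^ p)⁻¹, hinv⟩ : Subfield.closure (Set.range fun y : K₀ => y ^ p)) •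
      x ^ (p - 1) := by
    rw [Subfield.smul_def]
    simp only [smul_eq_mul]
    have : x ^ p = x ^ (p - 1) * x := by rw [← pow_succ, Nat.sub_add_cancel hp1]
    rw [this]
    field_simp
  rw [heq]
  exact Subalgebra.smul_mem _ (Subalgebra.pow_mem _ hx _) _

theorem algebraMap_mem_of_mem_closure (c : k₀)
    (hc : c ∈ Subfield.closure (Set.range fun x : k₀ => x ^ p)) :
    algebraMap k₀ K₀ c ∈ Subfield.closure (Set.range fun y : K₀ => y ^ p) := by
  have hle : Subfield.closure (Set.range fun x : k₀ => x ^ p) ≤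
      (Subfield.closure (Set.range fun y : K₀ => y ^ p)).comap (algebraMap k₀ K₀) := by
    rw [Subfield.closure_le]
    rintro _ ⟨x, rfl⟩
    show algebraMap k₀ K₀ (x ^ p) ∈ Subfield.closure (Set.range fun y : K₀ => y ^ p)
    rw [map_pow]
    exact Subfield.subset_closure ⟨_, rfl⟩
  exact hle hc

/-- Every element of `k₀(K₀^p)` is a `K₀^p`-combination of the images of a finite spanning set
of `k₀` over `k₀^p`. -/
theorem exists_repr (s : Finset k₀)
    (hs : Submodule.span (Subfield.closure (Set.range fun x : k₀ => x ^ p)) (s : Set k₀) = ⊤)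
    (x : K₀)
    (hx : x ∈ Subfield.closure (Set.range (algebraMap k₀ K₀) ∪ Set.range fun y : K₀ => y ^ p)) :
    ∃ g : k₀ → K₀, (∀ b, g b ∈ Subfield.closure (Set.range fun y : K₀ => y ^ p)) ∧
      x = ∑ b ∈ s, g b * algebraMap k₀ K₀ b := by
  set P : Subfield K₀ := Subfield.closure (Set.range fun y : K₀ => y ^ p) with hP
  set M' : Subalgebra P K₀ := Algebra.adjoin P (Set.range (algebraMap k₀ K₀)) with hM'
  -- the subfield structure on `M'`
  let M'' : Subfield K₀ :=
    { M'.toSubring with
      inv_mem' := fun x hx => inv_mem_adjoin p x hx }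
  have hle : Subfield.closure (Set.range (algebraMap k₀ K₀) ∪ Set.range fun y : K₀ => y ^ p) ≤ M'' := by
    rw [Subfield.closure_le]
    rintro y (hy | ⟨z, rfl⟩)
    · exact Algebra.subset_adjoin hy
    · exact Subalgebra.algebraMap_mem M' (⟨z ^ p, Subfield.subset_closure ⟨z, rfl⟩⟩ : P)
  have hx' : x ∈ M' := hle hx
  -- `M'` as a span
  have hspan : Subalgebra.toSubmodule M' = Submodule.span P (Set.range (algebraMap k₀ K₀)) := by
    rw [hM', Algebra.adjoin_eq_span]
    congr 1
    have : (Set.range (algebraMap k₀ K₀)) = (MonoidHom.mrange (algebraMap k₀ K₀ : k₀ →* K₀) : Set K₀) := by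
      ext; simp
    rw [this, Submonoid.closure_eq]
  have hle2 : Submodule.span P (Set.range (algebraMap k₀ K₀)) ≤
      Submodule.span P (algebraMap k₀ K₀ '' (s : Set k₀)) := by
    rw [Submodule.span_le]
    rintro _ ⟨c, rfl⟩
    have hc : c ∈ Submodule.span (Subfield.closure (Set.range fun x : k₀ => x ^ p)) (s : Set k₀) := by
      rw [hs]; trivial
    induction hc using Submodule.span_induction with
    | mem b hb => exact Submodule.subset_span ⟨b, hb, rfl⟩
    | zero => rw [map_zero]; exact Submodule.zero_mem _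
    | add a b _ _ ha hb => rw [map_add]; exact Submodule.add_mem _ ha hb
    | smul a b _ hb =>
      rw [Subfield.smul_def, smul_eq_mul, map_mul]
      have : algebraMap k₀ K₀ (a : k₀) * algebraMap k₀ K₀ b =
          (⟨algebraMap k₀ K₀ (a : k₀), algebraMap_mem_of_mem_closure p (a : k₀) a.2⟩ : P) •
            algebraMap k₀ K₀ b := by
        rw [Subfield.smul_def, smul_eq_mul]
      rw [this]
      exact Submodule.smul_mem _ _ hb
  have hx'' : x ∈ Submodule.span P (algebraMap k₀ K₀ '' (s : Set k₀)) := by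
    apply hle2
    rw [← hspan]
    exact hx'
  rw [Submodule.mem_span_image_finset_iff_exists_fun'] at hx''
  obtain ⟨c, hc⟩ := hx''
  refine ⟨fun b => (c b : K₀), fun b => (c b).2, ?_⟩
  rw [← hc]
  refine Finset.sum_congr rfl fun b _ => ?_
  rw [Subfield.smul_def, smul_eq_mul]

end

/-- Let k₀ be a field of characteristic p > 0 with [k₀ : k₀^p] < ∞ and K₀ an extension of k₀. Inside
K₀((T_1, …, T_r)) one has (k₀(K₀^p))((T_1, …, T_r)) = k₀(K₀^p((T_1, …, T_r))); here, for a subfield
F of K₀, F((T)) denotes the subfield of the fraction field of K₀[[T]] generated by the power series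
with all coefficients in F. -/
theorem result (p : ℕ) [Fact p.Prime] {k₀ K₀ : Type u} [Field k₀] [Field K₀] [Algebra k₀ K₀] [CharP k₀ p]
    (hfin : Module.Finite (Subfield.closure (Set.range fun x : k₀ => x ^ p)) k₀) (r : ℕ) :
    Subfield.closure (algebraMap (MvPowerSeries (Fin r) K₀) (FractionRing (MvPowerSeries (Fin r) K₀)) ''
        {f | ∀ n, MvPowerSeries.coeff n f ∈
          Subfield.closure (Set.range (algebraMap k₀ K₀) ∪ Set.range fun y : K₀ => y ^ p)}) =
      Subfield.closure
        (Set.range (algebraMap k₀ (FractionRing (MvPowerSeries (Fin r) K₀))) ∪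
          (Subfield.closure (algebraMap (MvPowerSeries (Fin r) K₀) (FractionRing (MvPowerSeries (Fin r) K₀)) ''
            {f | ∀ n, MvPowerSeries.coeff n f ∈ Subfield.closure (Set.range fun y : K₀ => y ^ p)}) :
            Set (FractionRing (MvPowerSeries (Fin r) K₀)))) := by
  classical
  have hpP : p.Prime := Fact.out
  obtain ⟨s, hs⟩ := (Module.Finite.fg_top (R := Subfield.closure (Set.range fun x : k₀ => x ^ p))
    (M := k₀))
  change lau (Fin r) (Subfield.closure (Set.range (algebraMap k₀ K₀) ∪ Set.range fun y : K₀ => y ^ p)) =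
    Subfield.closure (Set.range (algebraMap k₀ (FractionRing (MvPowerSeries (Fin r) K₀))) ∪
      (lau (Fin r) (Subfield.closure (Set.range fun y : K₀ => y ^ p)) :
        Set (FractionRing (MvPowerSeries (Fin r) K₀))))
  have halg : ∀ c : k₀, algebraMap k₀ (FractionRing (MvPowerSeries (Fin r) K₀)) c =
      algebraMap (MvPowerSeries (Fin r) K₀) (FractionRing (MvPowerSeries (Fin r) K₀))
        (MvPowerSeries.C (algebraMap k₀ K₀ c)) := by
    intro c
    rw [IsScalarTower.algebraMap_apply k₀ (MvPowerSeries (Fin r) K₀)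
      (FractionRing (MvPowerSeries (Fin r) K₀)), MvPowerSeries.algebraMap_apply]
  apply le_antisymm
  · rw [lau_def, Subfield.closure_le]
    rintro _ ⟨f, hf, rfl⟩
    choose g hgP hg using fun n => exists_repr p s hs (MvPowerSeries.coeff n f) (hf n)
    let G : k₀ → MvPowerSeries (Fin r) K₀ := fun b n => g n b
    have hfeq : f = ∑ b ∈ s, G b * MvPowerSeries.C (algebraMap k₀ K₀ b) := by
      ext n
      rw [map_sum, hg n]
      refine Finset.sum_congr rfl fun b _ => ?_
      rw [MvPowerSeries.coeff_mul_C]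
      rfl
    rw [hfeq, map_sum]
    refine Subfield.sum_mem _ fun b _ => ?_
    rw [map_mul, ← halg]
    refine Subfield.mul_mem _ (Subfield.subset_closure (Or.inr ?_))
      (Subfield.subset_closure (Or.inl ⟨b, rfl⟩))
    exact algebraMap_mem_lau (fun n => hgP n b)
  · rw [Subfield.closure_le]
    rintro x (⟨c, rfl⟩ | hx)
    · rw [halg]
      apply algebraMap_mem_lau
      intro n
      rw [MvPowerSeries.coeff_C]
      split_ifs
      · exact Subfield.subset_closure (Or.inl ⟨c, rfl⟩)
      · exact Subfield.zero_mem _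
    · exact lau_mono (Subfield.closure_mono Set.subset_union_right) hx

end Groth.Agent.S4561
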