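import Groth.Statements.S4567
import Groth.Agent.Lib.IntClosRadicial96
-- import your own Groth.Agent.* helpers here

set_option autoImplicit false
set_option linter.style.haveILetI false
universe u
open AlgebraicGeometry
open CAlg2

namespace Groth.Agent.S4567

/-- Let A be a domain with integral closure A' (in its fraction field) and f : Spec A' → Spec A the
canonical morphism. Then f is radicial (universally injective) if and only if every local ring A_p
is geometrically unibranch; when this holds f is a homeomorphism. -/
theorem result {A : Type u} [CommRing A] [IsDomain A] :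
    (UniversallyInjective (Spec.map (CommRingCat.ofHom (algebraMap A (integralClosure A (FractionRing A))))) ↔
      ∀ (p : Ideal A) [p.IsPrime], CAlg2.IsGeomUnibranch (Localization.AtPrime p)) ∧
    ((∀ (p : Ideal A) [p.IsPrime], CAlg2.IsGeomUnibranch (Localization.AtPrime p)) →
      IsHomeomorph (PrimeSpectrum.comap (algebraMap A (integralClosure A (FractionRing A))))) := by
  classical
  set φ := algebraMap A (integralClosure A (FractionRing A)) with hφdef
  have key := Groth.Agent.Lib.IntClosRadicial96.injective_comp_iff A
  have huniv : UniversallyInjective (Spec.map (CommRingCat.ofHom φ)) ↔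
      ∀ (K : Type u) [Field K], Function.Injective
        (fun χ : integralClosure A (FractionRing A) →+* K => χ.comp φ) := by
    have htfae := (tfae_universallyInjective (Spec.map (CommRingCat.ofHom φ))).out 0 1
    rw [htfae]
    constructor
    · intro h K _ χ₁ χ₂ h12
      have h1 := @h K _ (Spec.map (CommRingCat.ofHom χ₁)) (Spec.map (CommRingCat.ofHom χ₂)) (by
        simp only
        rw [← Spec.map_comp, ← Spec.map_comp, ← CommRingCat.ofHom_comp, ← CommRingCat.ofHom_comp]
        exact congrArg (fun ρ => Spec.map (CommRingCat.ofHom ρ)) h12)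
      have h2 := Spec.map_injective h1
      exact congrArg CommRingCat.Hom.hom h2
    · intro h K _ g₁ g₂ h12
      obtain ⟨χ₁, rfl⟩ := Spec.map_surjective g₁
      obtain ⟨χ₂, rfl⟩ := Spec.map_surjective g₂
      simp only at h12
      rw [← Spec.map_comp, ← Spec.map_comp] at h12
      have h2 := Spec.map_injective h12
      have h3 : χ₁.hom.comp φ = χ₂.hom.comp φ := congrArg CommRingCat.Hom.hom h2
      have h4 := @h K _ χ₁.hom χ₂.hom h3
      congr 1
      exact CommRingCat.hom_ext h4
  have hmain : UniversallyInjective (Spec.map (CommRingCat.ofHom φ)) ↔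
      ∀ (p : Ideal A) [p.IsPrime], CAlg2.IsGeomUnibranch (Localization.AtPrime p) :=
    huniv.trans key
  refine ⟨hmain, fun h => ?_⟩
  haveI hUI : UniversallyInjective (Spec.map (CommRingCat.ofHom φ)) := hmain.mpr h
  have hφint : φ.IsIntegral := algebraMap_isIntegral_iff.mpr inferInstance
  rw [isHomeomorph_iff_continuous_isClosedMap_bijective]
  refine ⟨PrimeSpectrum.continuous_comap φ,
    PrimeSpectrum.isClosedMap_comap_of_isIntegral φ hφint, ?_, ?_⟩
  · exact Scheme.Hom.injective (Spec.map (CommRingCat.ofHom φ))
  · intro P
    obtain ⟨Q, -, hQ, hQP⟩ := Ideal.exists_ideal_over_prime_of_isIntegral P.asIdeal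
      (⊥ : Ideal (integralClosure A (FractionRing A))) (by
        rw [← RingHom.ker_eq_comap_bot]
        have : RingHom.ker (algebraMap A (integralClosure A (FractionRing A))) = ⊥ :=
          (RingHom.injective_iff_ker_eq_bot _).mp (FaithfulSMul.algebraMap_injective _ _)
        rw [this]
        exact bot_le)
    exact ⟨⟨Q, hQ⟩, PrimeSpectrum.ext hQP⟩

end Groth.Agent.S4567
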