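import Groth.Statements.S4568
import Groth.Agent.S4615
import Groth.Agent.Lib.Krull96E
import Groth.Agent.Lib.Krull96F

set_option autoImplicit false
universe u
open CAlg

namespace Groth.Agent.S4568

set_option maxHeartbeats 400000

open Groth.Agent.Lib.Krull96 AlgebraicGeometry in
/-- Local core (Mori–Nagata): for a Noetherian local domain `B` with fraction field `K`, there is a
finite subalgebra `C` of `K` such that every `x ∈ K` not integral over `B` is excluded by a
height-one prime of `C`. -/
theorem coreK {B K : Type u} [CommRing B] [IsDomain B] [IsNoetherianRing B] [IsLocalRing B]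
    [Field K] [Algebra B K] [IsFractionRing B K] :
    ∃ C : Subalgebra B K, Module.Finite B C ∧ ∀ x : K, ¬ IsIntegral B x →
      ∃ q : Ideal C, q.IsPrime ∧ q.height = 1 ∧ ∀ c : C, IsIntegral B ((c : K) * x) → c ∈ q := by
  classical
  haveI : FaithfulSMul B K :=
    (faithfulSMul_iff_algebraMap_injective B K).mpr (IsFractionRing.injective B K)
  letI : Algebra (FractionRing B) K := FractionRing.liftAlgebra B K
  haveI : IsScalarTower B (FractionRing B) K := FractionRing.isScalarTower_liftAlgebra B K
  haveI : FiniteDimensional (FractionRing B) K := by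
    apply Module.Finite.of_surjective (Algebra.linearMap (FractionRing B) K)
    intro z
    obtain ⟨a, b, hb, rfl⟩ := IsFractionRing.div_surjective (A := B) z
    refine ⟨algebraMap B (FractionRing B) a / algebraMap B (FractionRing B) b, ?_⟩
    rw [Algebra.linearMap_apply, map_div₀, ← IsScalarTower.algebraMap_apply,
      ← IsScalarTower.algebraMap_apply]
  obtain ⟨C, ⟨hfin, -⟩, -, hrad⟩ := Groth.Agent.S4615.result (A := B) (K' := K)
  refine ⟨C, hfin, ?_⟩
  obtain ⟨D⟩ : Nonempty (KData (integralClosure B K).toSubring) := by
    haveI hnoeth : IsNoetherianRing (AdicCompletion (IsLocalRing.maximalIdeal B) B) :=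
      Groth.Agent.Lib.AdicNoeth.isNoetherianRing_adicCompletion _
    haveI hflat : Module.Flat B (AdicCompletion (IsLocalRing.maximalIdeal B) B) :=
      AdicCompletion.flat_of_isNoetherian _
    haveI hff : Module.FaithfullyFlat B (AdicCompletion (IsLocalRing.maximalIdeal B) B) :=
      Module.FaithfullyFlat.of_flat_of_isLocalHom
    have hNag := Groth.Agent.Lib.CompleteNagata98.isNagata_of_complete_local
      (AdicCompletion (IsLocalRing.maximalIdeal B) B)
    haveI : Algebra.EssFiniteType B K :=
      Algebra.EssFiniteType.of_isLocalization _ (nonZeroDivisors B)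
    exact nonempty_kdata_of_nagata B (AdicCompletion (IsLocalRing.maximalIdeal B) B) K hNag
  haveI := hfin
  haveI : IsNoetherianRing C := IsNoetherianRing.of_finite B C
  haveI : Algebra.IsIntegral B C := Algebra.IsIntegral.of_finite B C
  have hCA : ∀ z : K, IsIntegral C z ↔ IsIntegral B z :=
    fun z => ⟨fun h => isIntegral_trans (A := C) z h, fun h => h.tower_top⟩
  have hint : C ≤ integralClosure B K := by
    intro x hx
    have : IsIntegral B (⟨x, hx⟩ : C) := Algebra.IsIntegral.isIntegral _
    exact this.map C.val
  set Bs : Subring K := (integralClosure B K).toSubring with hBs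
  have hfrac : ∀ y : K, ∃ b : Bs, b ≠ 0 ∧ (b : K) * y ∈ Bs := by
    intro y
    obtain ⟨a, b, rfl⟩ := IsLocalization.exists_mk'_eq (nonZeroDivisors B) y
    refine ⟨⟨algebraMap B K b.1, isIntegral_algebraMap⟩, ?_, ?_⟩
    · intro h
      have h' : algebraMap B K b.1 = 0 := congrArg (fun t : Bs => (t : K)) h
      exact (IsFractionRing.to_map_ne_zero_of_mem_nonZeroDivisors b.2) h'
    · show algebraMap B K b.1 * IsLocalization.mk' K a b ∈ Bs
      rw [mul_comm, IsLocalization.mk'_spec]
      exact isIntegral_algebraMap
  let g : C →+* Bs := RingHom.codRestrict C.val.toRingHom Bs (fun c => hint c.2)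
  letI : Algebra C Bs := g.toAlgebra
  have hginj : Function.Injective (algebraMap C Bs) := by
    intro c c' h
    exact Subtype.ext (congrArg (fun t : Bs => (t : K)) h)
  haveI : Algebra.IsIntegral C Bs := by
    refine ⟨fun y => ?_⟩
    have hy : IsIntegral C (y : K) := (hCA _).mpr y.2
    let f : Bs →ₐ[C] K := { Bs.subtype with commutes' := fun c => rfl }
    exact (isIntegral_algHom_iff f Subtype.val_injective).mp hy
  have hspec : ∀ P Q : Ideal Bs, P.IsPrime → Q.IsPrime →
      P.comap (algebraMap C Bs) = Q.comap (algebraMap C Bs) → P = Q := by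
    intro P Q hP hQ hPQ
    haveI := hrad hint
    have hinj := (Spec.map (CommRingCat.ofHom (Subalgebra.inclusion hint).toRingHom)).injective
    let e : integralClosure B K →+* Bs :=
      RingHom.codRestrict (integralClosure B K).val.toRingHom Bs (fun x => x.2)
    have he : Function.Surjective e := fun y => ⟨⟨y.1, y.2⟩, rfl⟩
    have hcomp : (algebraMap C Bs) = e.comp (Subalgebra.inclusion hint).toRingHom := rfl
    let P' : PrimeSpectrum (integralClosure B K) := ⟨P.comap e, inferInstance⟩
    let Q' : PrimeSpectrum (integralClosure B K) := ⟨Q.comap e, inferInstance⟩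
    have hPQ' : P' = Q' := by
      apply hinj
      show PrimeSpectrum.comap _ P' = PrimeSpectrum.comap _ Q'
      apply PrimeSpectrum.ext
      show (P.comap e).comap _ = (Q.comap e).comap _
      rw [Ideal.comap_comap, Ideal.comap_comap]
      exact hPQ
    have h2 : P.comap e = Q.comap e := congrArg PrimeSpectrum.asIdeal hPQ'
    exact Ideal.comap_injective_of_surjective e he h2
  intro x hx
  have hx' : x ∉ Bs := hx
  obtain ⟨P, y, π, hP, -, hxP, -, -, -, hP1'⟩ := D.exists_prime hfrac (x := x) hx'
  haveI := hP
  have hP0 : P ≠ ⊥ := by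
    obtain ⟨b, hb0, hbx⟩ := hfrac x
    intro hbot
    have : b ∈ P := hxP hbx
    rw [hbot, Ideal.mem_bot] at this
    exact hb0 this
  have hP1 : P.height = 1 := (height_eq_one_iff P).mpr ⟨hP0, hP1'⟩
  have hp1 := height_comap_eq_one hginj hspec P hP1
  refine ⟨P.comap (algebraMap C Bs), Ideal.comap_isPrime _ P, hp1, fun c hc => ?_⟩
  rw [Ideal.mem_comap]
  apply hxP
  rw [mem_cond]
  exact hc

/-- Scaling step: a finite subalgebra `CB` of `K` over the localization `B = A_m` is the
localization of a finite `A`-subalgebra `C` of the integral closure of `A`. -/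
theorem exists_scaled {A K : Type u} [CommRing A] [IsDomain A] [Field K] [Algebra A K]
    (M : Submonoid A) (B : Subalgebra A K) [IsLocalization M B]
    (CB : Subalgebra B K) [Module.Finite B CB] :
    ∃ (C : Subalgebra A K) (hle : ∀ c : K, c ∈ C → c ∈ CB), Module.Finite A C ∧
      C ≤ integralClosure A K ∧
      ∀ z : K, z ∈ CB → ∃ a : A, a ∈ M ∧ algebraMap A K a * z ∈ C := by
  classical
  have hfg : CB.FG := Subalgebra.fg_of_fg_toSubmodule
    (Module.Finite.iff_fg.mp (show Module.Finite B (Subalgebra.toSubmodule CB) from inferInstance))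
  obtain ⟨t, ht⟩ := hfg
  haveI : Algebra.IsIntegral B CB := Algebra.IsIntegral.of_finite B CB
  have hsc : ∀ c ∈ t, ∃ s : M, IsIntegral A (s • c) := by
    intro c hc
    have hcCB : c ∈ CB := ht ▸ Algebra.subset_adjoin (Finset.mem_coe.mpr hc)
    have h1 : IsIntegral B (⟨c, hcCB⟩ : CB) := Algebra.IsIntegral.isIntegral _
    have h2 : IsIntegral B c := h1.map CB.val
    exact IsIntegral.exists_multiple_integral_of_isLocalization M c h2
  choose! s hs using hsc
  let gen : Set K := (fun c => s c • c) '' (t : Set K)
  have hgenfin : gen.Finite := t.finite_toSet.image _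
  have hgenint : ∀ z ∈ gen, IsIntegral A z := by
    rintro _ ⟨c, hc, rfl⟩
    exact hs c (Finset.mem_coe.mp hc)
  let C : Subalgebra A K := Algebra.adjoin A gen
  have hCle : C ≤ CB.restrictScalars A := by
    apply Algebra.adjoin_le
    rintro _ ⟨c, hc, rfl⟩
    have hcCB : c ∈ CB := ht ▸ Algebra.subset_adjoin hc
    show s c • c ∈ CB
    have : s c • c = algebraMap B K (algebraMap A B (s c : A)) * c := by
      rw [Submonoid.smul_def, Algebra.smul_def, IsScalarTower.algebraMap_apply A B K]
    rw [this]
    exact CB.mul_mem (CB.algebraMap_mem _) hcCB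
  refine ⟨C, fun c hc => hCle hc, ?_, ?_, ?_⟩
  · exact Module.Finite.iff_fg.mpr (fg_adjoin_of_finite hgenfin hgenint)
  · exact Algebra.adjoin_le hgenint
  · intro z hz
    rw [← ht] at hz
    induction hz using Algebra.adjoin_induction with
    | mem c hc =>
      refine ⟨s c, (s c).2, ?_⟩
      have : algebraMap A K (s c : A) * c = s c • c := by
        rw [Submonoid.smul_def, Algebra.smul_def]
      rw [this]
      exact Algebra.subset_adjoin ⟨c, hc, rfl⟩
    | algebraMap b =>
      obtain ⟨⟨a', s'⟩, hb⟩ := IsLocalization.surj M b
      refine ⟨s', s'.2, ?_⟩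
      have : algebraMap A K (s' : A) * algebraMap B K b = algebraMap A K a' := by
        rw [IsScalarTower.algebraMap_apply A B K, IsScalarTower.algebraMap_apply A B K,
          ← map_mul, mul_comm]
        exact congrArg (algebraMap B K) hb
      rw [this]
      exact C.algebraMap_mem a'
    | add z w _ _ hz hw =>
      obtain ⟨a, ha, haz⟩ := hz
      obtain ⟨b, hb, hbw⟩ := hw
      refine ⟨a * b, M.mul_mem ha hb, ?_⟩
      have : algebraMap A K (a * b) * (z + w) =
          algebraMap A K b * (algebraMap A K a * z) + algebraMap A K a * (algebraMap A K b * w) := by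
        rw [map_mul]; ring
      rw [this]
      exact C.add_mem (C.mul_mem (C.algebraMap_mem b) haz) (C.mul_mem (C.algebraMap_mem a) hbw)
    | mul z w _ _ hz hw =>
      obtain ⟨a, ha, haz⟩ := hz
      obtain ⟨b, hb, hbw⟩ := hw
      refine ⟨a * b, M.mul_mem ha hb, ?_⟩
      have : algebraMap A K (a * b) * (z * w) =
          (algebraMap A K a * z) * (algebraMap A K b * w) := by
        rw [map_mul]; ring
      rw [this]
      exact C.mul_mem haz hbw

/-- Transfer of a height-one prime of `CB` to a height-one prime of a finite `A`-subalgebra. -/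
theorem exists_scaled_prime {A K : Type u} [CommRing A] [IsDomain A] [Field K] [Algebra A K]
    (M : Submonoid A) (B : Subalgebra A K) [IsLocalization M B]
    (CB : Subalgebra B K) [Module.Finite B CB] (q : Ideal CB) [q.IsPrime] (hq1 : q.height = 1) :
    ∃ C : Subalgebra A K, C ≤ integralClosure A K ∧ Module.Finite A C ∧
      ∃ qC : Ideal C, qC.IsPrime ∧ qC.height = 1 ∧
        ∀ (a : A) (hmem : algebraMap A K a ∈ CB),
          (⟨algebraMap A K a, hmem⟩ : CB) ∈ q → algebraMap A C a ∈ qC := by
  classical
  obtain ⟨C, hle, hCfin, hCint, hCsurj⟩ := exists_scaled M B CB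
  let ι : C →+* CB :=
    { toFun := fun c => ⟨c.1, hle c.1 c.2⟩
      map_one' := rfl
      map_mul' := fun _ _ => rfl
      map_zero' := rfl
      map_add' := fun _ _ => rfl }
  letI : Algebra C CB := ι.toAlgebra
  have hιval : ∀ c : C, ((algebraMap C CB c : CB) : K) = (c : K) := fun c => rfl
  haveI hloc : IsLocalization (Algebra.algebraMapSubmonoid C M) CB := by
    rw [isLocalization_iff]
    refine ⟨?_, ?_, ?_⟩
    · rintro ⟨_, a, ha, rfl⟩
      have hu : IsUnit (algebraMap A B a) := IsLocalization.map_units B (⟨a, ha⟩ : M)
      have hu' : IsUnit (algebraMap B CB (algebraMap A B a)) := hu.map _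
      have heq : algebraMap C CB (algebraMap A C a) = algebraMap B CB (algebraMap A B a) := by
        apply Subtype.ext
        rfl
      show IsUnit (algebraMap C CB (algebraMap A C a))
      rw [heq]
      exact hu'
    · intro z
      obtain ⟨a, ha, haz⟩ := hCsurj z.1 z.2
      refine ⟨(⟨algebraMap A K a * z.1, haz⟩, ⟨algebraMap A C a, a, ha, rfl⟩), ?_⟩
      apply Subtype.ext
      show (z : K) * algebraMap A K a = algebraMap A K a * z.1
      rw [mul_comm]
    · intro c c' hcc
      refine ⟨1, ?_⟩
      have : (c : K) = c' := by
        rw [← hιval c, ← hιval c', hcc]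
      rw [Subtype.ext this]
  have hqC1 : (q.under C).height = 1 :=
    (IsLocalization.height_under (R := C) (A := CB) (Algebra.algebraMapSubmonoid C M) q).trans hq1
  refine ⟨C, hCint, hCfin, q.under C, Ideal.comap_isPrime _ q, hqC1, fun a hmem ha => ?_⟩
  show algebraMap C CB (algebraMap A C a) ∈ q
  exact ha

/-- Let A be a Noetherian domain with fraction field K and A' its integral closure in K. Assume that for
every sub-A-algebra C of A' which is finite over A, every height-one prime of C lies over a
height-one prime of A. Then A' is the intersection in K of the localizations A'_p over the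
height-one primes p of A. -/
theorem result {A : Type u} [CommRing A] [IsDomain A] [IsNoetherianRing A]
    (h : ∀ C : Subalgebra A (FractionRing A), C ≤ integralClosure A (FractionRing A) → Module.Finite A C →
      ∀ (q : Ideal C) [q.IsPrime], q.height = 1 → (q.comap (algebraMap A C)).height = 1) :
    (integralClosure A (FractionRing A) : Set (FractionRing A)) =
      ⋂ (p : PrimeSpectrum A) (_ : p.asIdeal.height = 1),
        {x : FractionRing A | ∃ s : A, s ∉ p.asIdeal ∧
          algebraMap A (FractionRing A) s * x ∈ integralClosure A (FractionRing A)} := by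
  classical
  apply Set.Subset.antisymm
  · intro x hx
    simp only [Set.mem_iInter, Set.mem_setOf_eq]
    intro p hp
    refine ⟨1, ?_, ?_⟩
    · intro h1
      exact p.2.ne_top ((Ideal.eq_top_iff_one _).mpr h1)
    · rw [map_one, one_mul]
      exact hx
  · intro x hx
    simp only [Set.mem_iInter, Set.mem_setOf_eq] at hx
    by_contra hxA
    -- the conductor ideal of `x`
    let I : Ideal A :=
      { carrier := {a | algebraMap A (FractionRing A) a * x ∈ integralClosure A (FractionRing A)}
        zero_mem' := by
          show algebraMap A (FractionRing A) 0 * x ∈ integralClosure A (FractionRing A)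
          rw [map_zero, zero_mul]
          exact Subalgebra.zero_mem _
        add_mem' := fun {a b} ha hb => by
          show algebraMap A (FractionRing A) (a + b) * x ∈ integralClosure A (FractionRing A)
          rw [map_add, add_mul]
          exact Subalgebra.add_mem _ ha hb
        smul_mem' := fun c a ha => by
          show algebraMap A (FractionRing A) (c • a) * x ∈ integralClosure A (FractionRing A)
          rw [smul_eq_mul, map_mul, mul_assoc]
          exact Subalgebra.mul_mem _ (Subalgebra.algebraMap_mem _ c) ha }
    have hI : I ≠ ⊤ := by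
      intro htop
      have h1 : (1 : A) ∈ I := htop ▸ Submodule.mem_top
      have h1' : algebraMap A (FractionRing A) 1 * x ∈ integralClosure A (FractionRing A) := h1
      rw [map_one, one_mul] at h1'
      exact hxA h1'
    obtain ⟨m, hm, hIm⟩ := Ideal.exists_le_maximal I hI
    haveI := hm.isPrime
    have hM : m.primeCompl ≤ nonZeroDivisors A := Ideal.primeCompl_le_nonZeroDivisors m
    obtain ⟨B, hBloc⟩ : ∃ B : Subalgebra A (FractionRing A), IsLocalization m.primeCompl B :=
      ⟨Localization.subalgebra.ofField (FractionRing A) m.primeCompl hM,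
        Localization.subalgebra.isLocalization_ofField (FractionRing A) m.primeCompl hM⟩
    haveI := hBloc
    haveI : IsNoetherianRing B := IsLocalization.isNoetherianRing m.primeCompl B inferInstance
    haveI : IsLocalRing B := IsLocalization.AtPrime.isLocalRing B m
    obtain ⟨CB, hfinB, hcore⟩ := coreK (B := B) (K := FractionRing A)
    haveI := hfinB
    -- `x` is not integral over `B`
    have hxB : ¬ IsIntegral B x := by
      intro hxint
      obtain ⟨s, hs⟩ := IsIntegral.exists_multiple_integral_of_isLocalization m.primeCompl x hxint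
      have hsI : (s : A) ∈ I := by
        show algebraMap A (FractionRing A) (s : A) * x ∈ integralClosure A (FractionRing A)
        rw [← Algebra.smul_def]
        exact hs
      exact s.2 (hIm hsI)
    obtain ⟨q, hq, hq1, hqx⟩ := hcore x hxB
    haveI := hq
    obtain ⟨C, hCint, hCfin, qC, hqC, hqC1, hqCmem⟩ :=
      exists_scaled_prime m.primeCompl B CB q hq1
    haveI := hqC
    have hp1 := h C hCint hCfin qC hqC1
    let p : PrimeSpectrum A := ⟨qC.comap (algebraMap A C), Ideal.comap_isPrime _ _⟩
    obtain ⟨s, hsp, hsx⟩ := hx p hp1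
    apply hsp
    show algebraMap A C s ∈ qC
    have hmem : algebraMap A (FractionRing A) s ∈ CB := by
      rw [IsScalarTower.algebraMap_apply A B (FractionRing A)]
      exact CB.algebraMap_mem _
    apply hqCmem s hmem
    apply hqx
    have hsx' : IsIntegral A (algebraMap A (FractionRing A) s * x) := hsx
    exact hsx'.tower_top

end Groth.Agent.S4568
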