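import Groth.Statements.S4569
-- import your own Groth.Agent.* helpers here

set_option autoImplicit false
universe u
open CAlg

namespace Groth.Agent.S4569

theorem aux {A : Type u} [CommRing A] (x : A)
    (hx : x ∈ nonZeroDivisors A) [hp : (Ideal.span ({x} : Set A)).IsPrime] (n : ℕ) :
    ∀ (s a c : A), s ∉ Ideal.span ({x} : Set A) → s * a = x ^ n * c →
      a ∈ Ideal.span ({x ^ n} : Set A) := by
  induction n with
  | zero =>
    intro s a c _ _
    simp
  | succ n ih =>
    intro s a c hs h
    have h1 : s * a ∈ Ideal.span ({x} : Set A) := by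
      rw [h, Ideal.mem_span_singleton]
      exact ⟨x ^ n * c, by ring⟩
    have h2 : a ∈ Ideal.span ({x} : Set A) := (hp.mem_or_mem h1).resolve_left hs
    obtain ⟨a', rfl⟩ := Ideal.mem_span_singleton'.mp h2
    have h3 : x * (s * a') = x * (x ^ n * c) := by
      calc x * (s * a') = s * (a' * x) := by ring
        _ = x ^ (n + 1) * c := h
        _ = x * (x ^ n * c) := by ring
    have h4 : s * a' = x ^ n * c := by
      have hx' := (mem_nonZeroDivisors_iff.mp hx).1
      have h5 : x * (s * a' - x ^ n * c) = 0 := by rw [mul_sub, h3, sub_self]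
      exact sub_eq_zero.mp (hx' _ h5)
    obtain ⟨d, hd⟩ := Ideal.mem_span_singleton'.mp (ih s a' c hs h4)
    rw [Ideal.mem_span_singleton']
    exact ⟨d, by rw [← hd]; ring⟩


/-- Let A be a ring, x a non-zero-divisor of A with p = xA prime. For every n > 0 the inverse image in A
of x^n A_p is x^n A. -/
theorem result {A : Type u} [CommRing A] (x : A)
    (hx : x ∈ nonZeroDivisors A) [(Ideal.span ({x} : Set A)).IsPrime] (n : ℕ) (hn : 0 < n) :
    Ideal.comap (algebraMap A (Localization.AtPrime (Ideal.span ({x} : Set A))))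
      (Ideal.map (algebraMap A (Localization.AtPrime (Ideal.span ({x} : Set A)))) (Ideal.span ({x ^ n} : Set A))) =
      Ideal.span ({x ^ n} : Set A) := by
  apply le_antisymm
  · intro a ha
    rw [Ideal.mem_comap,
      IsLocalization.mem_map_algebraMap_iff (Ideal.span ({x} : Set A)).primeCompl] at ha
    obtain ⟨⟨⟨y, hy⟩, t⟩, h⟩ := ha
    obtain ⟨b, rfl⟩ := Ideal.mem_span_singleton'.mp hy
    simp only at h
    rw [← map_mul, IsLocalization.eq_iff_exists (Ideal.span ({x} : Set A)).primeCompl] at h
    obtain ⟨u, hu⟩ := h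
    have hut : (u : A) * (t : A) ∉ Ideal.span ({x} : Set A) := (u * t).2
    refine aux x hx n ((u : A) * (t : A)) a ((u : A) * b) hut ?_
    calc (u : A) * (t : A) * a = (u : A) * (a * (t : A)) := by ring
      _ = (u : A) * (b * x ^ n) := hu
      _ = x ^ n * ((u : A) * b) := by ring
  · exact Ideal.le_comap_map

end Groth.Agent.S4569
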