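import Groth.Statements.S4571
-- import your own Groth.Agent.* helpers here
import Mathlib
import Groth.Agent.Lib.AdicSym83
import Groth.Agent.Lib.AdicSym83b
import Groth.Agent.S2471

set_option autoImplicit false
set_option linter.style.haveILetI false
universe u
open TensorProduct KaehlerDifferential IsLocalRing
open EGA41

namespace Groth.Agent.S4571

/-- For an arbitrary local algebra: let k be a field and A a local k-algebra with maximal ideal m and
residue field K. Then A is formally smooth over k for the m-adic topology if and only if the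
canonical maps Sym^n_K(m/m²) → m^n/m^(n+1) are bijective for n ≥ 1 and the canonical map Ω_{k/ℤ} ⊗_k
K → Ω_{A/ℤ} ⊗_A K is injective (absolute differentials, which agree with differentials over the
prime field). -/
theorem result {k A : Type u} [Field k] [CommRing A]
    [IsLocalRing A] [Algebra k A] :
    CAlgX.IsAdicFormallySmooth k A (maximalIdeal A) ↔
      (PP16.SymGrBijective A (maximalIdeal A) ∧
        Function.Injective ((mapBaseChange ℤ k A).lTensor (ResidueField A))) := by
  obtain ⟨k₀, _, _, hk₀⟩ := Groth.Agent.Lib.AdicFSField50.exists_perfect_subfield k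
  letI algA : Algebra k₀ A := ((algebraMap k A).comp (algebraMap k₀ k)).toAlgebra
  haveI : IsScalarTower k₀ k A := IsScalarTower.of_algebraMap_eq' rfl
  haveI : Algebra.FormallySmooth k₀ k := (hk₀ k).1
  haveI : Algebra.FormallySmooth k₀ (A ⧸ maximalIdeal A) := (hk₀ (ResidueField A)).1
  constructor
  · intro h
    have h0 : CAlgX.IsAdicFormallySmooth k₀ A (maximalIdeal A) :=
      Groth.Agent.Lib.AdicFSField50.isAdicFormallySmooth_trans (k := k) _ h
    exact ⟨(Groth.Agent.Lib.AdicSym83.forward (A := k₀) (maximalIdeal A) h0).2,
      Groth.Agent.Lib.KaehlerFS50.injective_lTensor_of_ext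
        (Groth.Agent.Lib.KaehlerFS50.exists_ext_of_isAdicFormallySmooth h)⟩
  · rintro ⟨hsym, hinj⟩
    have hproj : Module.Projective (A ⧸ maximalIdeal A) (maximalIdeal A).Cotangent := by
      letI : Field (A ⧸ maximalIdeal A) := Ideal.Quotient.field (maximalIdeal A)
      exact Module.Projective.of_free
    have hfs0 : CAlgX.IsAdicFormallySmooth k₀ A (maximalIdeal A) :=
      Groth.Agent.Lib.AdicSym83b.backward (A := k₀) (maximalIdeal A) hproj hsym
    exact Groth.Agent.S2471.isAdicFormallySmooth_of_injective hfs0 hinj

end Groth.Agent.S4571
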