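import Groth.Statements.S4575
import Mathlib
import Groth.Agent.Lib.RegularLocal

set_option autoImplicit false
universe u
open IsLocalRing
open EGA41

namespace Groth.Agent.S4575

/-- Let R be a regular local ring with maximal ideal m and n a proper ideal with R/n regular. Then
(n/n²) ⊗_R K → (m/m²) ⊗_R K is injective, K the residue field; stated in the equivalent form n ∩ m²
= m·n (the kernel of n/mn → m/m² is (n ∩ m²)/mn). -/
theorem result {R : Type u} [CommRing R] [IsRegularLocalRing R]
    (n : Ideal R) (hn : n ≠ ⊤) (hreg : IsRegularRing (R ⧸ n)) :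
    n ⊓ maximalIdeal R ^ 2 = maximalIdeal R * n := by
  classical
  have : Nontrivial (R ⧸ n) := Ideal.Quotient.nontrivial_iff.mpr hn
  have : IsLocalRing (R ⧸ n) :=
    IsLocalRing.of_surjective' (Ideal.Quotient.mk n) Ideal.Quotient.mk_surjective
  have : IsRegularLocalRing (R ⧸ n) := IsRegularLocalRing.of_isRegularRing_of_isLocalRing _
  set d := (maximalIdeal R).spanFinrank with hd
  have hdim : ringKrullDim R = d := (IsRegularLocalRing.spanFinrank_maximalIdeal (R := R)).symm
  obtain ⟨x, c, hc, hspan, hnx⟩ := Groth.Agent.Lib.RegularLocal.exists_generators R d hdim n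
  have hnm : n ≤ maximalIdeal R := IsLocalRing.le_maximalIdeal hn
  apply le_antisymm
  · rintro a ⟨han, ham⟩
    set y : Fin c → R := fun i : Fin c => x (Fin.castLE hc i) with hy
    rw [hnx] at han
    obtain ⟨coef, rfl⟩ := (Ideal.mem_span_range_iff_exists_fun).mp han
    have hcoef : ∀ j, coef j ∈ maximalIdeal R := by
      intro j
      by_contra hj
      have hunit : IsUnit (coef j) := by
        rwa [mem_maximalIdeal, mem_nonunits_iff, not_not] at hj
      obtain ⟨u, hu⟩ := hunit
      set j' : Fin d := Fin.castLE hc j with hj'
      set s : Set R := x '' {i | i ≠ j'} with hs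
      have hsfin : s.Finite := (Set.toFinite _).image x
      -- `y j` lies in `span s ⊔ m • m`
      have hyj : y j ∈ Ideal.span s ⊔ maximalIdeal R • maximalIdeal R := by
        have h1 : coef j * y j = ∑ i, coef i * y i - ∑ i ∈ Finset.univ.erase j, coef i * y i := by
          rw [← Finset.add_sum_erase _ _ (Finset.mem_univ j)]; ring
        have h2 : y j = ↑u⁻¹ * (∑ i, coef i * y i) - ↑u⁻¹ * ∑ i ∈ Finset.univ.erase j, coef i * y i := by
          rw [← mul_sub, ← h1, ← hu, ← mul_assoc, Units.inv_mul, one_mul]
        rw [h2]
        apply Submodule.sub_mem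
        · apply Submodule.mem_sup_right
          apply Ideal.mul_mem_left
          have : maximalIdeal R • maximalIdeal R = maximalIdeal R ^ 2 := by
            rw [smul_eq_mul, pow_two]
          rw [this]; exact ham
        · apply Submodule.mem_sup_left
          apply Ideal.mul_mem_left
          apply Ideal.sum_mem
          intro i hi
          apply Ideal.mul_mem_left
          apply Ideal.subset_span
          refine ⟨Fin.castLE hc i, ?_, rfl⟩
          simp only [Set.mem_ofPred_eq, hj']
          intro heq
          exact (Finset.mem_erase.mp hi).1 (Fin.castLE_injective hc heq)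
      have hle : maximalIdeal R ≤ Ideal.span s ⊔ maximalIdeal R • maximalIdeal R := by
        conv_lhs => rw [← hspan]
        rw [Ideal.span_le]
        rintro _ ⟨i, rfl⟩
        by_cases hi : i = j'
        · rw [hi]; exact hyj
        · exact Submodule.mem_sup_left (Ideal.subset_span ⟨i, hi, rfl⟩)
      have hle2 : maximalIdeal R ≤ Ideal.span s :=
        Submodule.le_of_le_smul_of_le_jacobson_bot (Ideal.fg_of_isNoetherianRing _)
          (IsLocalRing.maximalIdeal_le_jacobson _) hle
      have heq : maximalIdeal R = Ideal.span s := by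
        apply le_antisymm hle2
        rw [Ideal.span_le, ← hspan]
        rintro _ ⟨i, _, rfl⟩
        exact Ideal.subset_span ⟨i, rfl⟩
      have h3 : (maximalIdeal R).spanFinrank ≤ s.ncard := by
        conv_lhs => rw [heq]
        exact Submodule.spanFinrank_span_le_ncard_of_finite hsfin
      have h4 : s.ncard ≤ ({i | i ≠ j'} : Set (Fin d)).ncard := Set.ncard_image_le (Set.toFinite _)
      have h5 : ({i | i ≠ j'} : Set (Fin d)).ncard = d - 1 := by
        have : ({i | i ≠ j'} : Set (Fin d)) = ({j'} : Set (Fin d))ᶜ := by ext; simp
        rw [this, Set.ncard_compl, Set.ncard_singleton, Nat.card_fin]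
      have hdpos : 0 < d := Fin.pos j'
      omega
    refine Ideal.sum_mem _ (fun i _ => Ideal.mul_mem_mul (hcoef i) ?_)
    rw [hnx]; exact Ideal.subset_span ⟨i, rfl⟩
  · apply le_inf
    · exact Ideal.mul_le_right (I := maximalIdeal R) (J := n)
    · rw [pow_two]
      exact Ideal.mul_mono_right hnm

end Groth.Agent.S4575
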