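import Groth.Statements.S4577
import Groth.Agent.Lib.FlatPresProj18
import Mathlib.RingTheory.Smooth.Locus
import Mathlib.RingTheory.Etale.Kaehler
import Mathlib.RingTheory.LocalProperties.Submodule
import Mathlib.RingTheory.Flat.Localization

set_option autoImplicit false
set_option maxHeartbeats 400000
universe u
open EGA41

namespace Groth.Agent.S4577

/-- Let B be a formally smooth A-algebra (discrete topologies) and C = B/J a quotient with J/J² finitely
generated. Then C is formally smooth over A if and only if C_m is formally smooth over A for every
maximal ideal m of C (hence also if and only if every C_p, p prime, is). (Not stated: the variant of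
the localised condition with C_m formally smooth over A_q, q the contraction of m to A, and the
further assertion that for B Noetherian the discrete topologies in the localised condition may be
replaced by the adic ones.) -/
theorem result {A B C : Type u} [CommRing A] [CommRing B] [CommRing C]
    [Algebra A B] [Algebra B C] [Algebra A C] [IsScalarTower A B C] [Algebra.FormallySmooth A B]
    (hsurj : Function.Surjective (algebraMap B C)) [Module.Finite B (RingHom.ker (algebraMap B C)).Cotangent] :
    Algebra.FormallySmooth A C ↔
      ∀ (m : Ideal C) [m.IsMaximal], Algebra.FormallySmooth A (Localization.AtPrime m) := by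
  constructor
  · intro h m hm
    have h1 : Algebra.FormallySmooth C (Localization.AtPrime m) :=
      Algebra.FormallySmooth.of_isLocalization m.primeCompl
    exact Algebra.FormallySmooth.comp A C (Localization.AtPrime m)
  · intro h
    refine ⟨?_, ?_⟩
    · -- `Ω[C⁄A]` is flat, being so locally
      have hflat : Module.Flat C Ω[C⁄A] := by
        refine Module.flat_of_isLocalized_maximal C Ω[C⁄A]
          (fun (m : Ideal C) [m.IsMaximal] => Ω[Localization.AtPrime m⁄A])
          (fun (m : Ideal C) [m.IsMaximal] =>
            KaehlerDifferential.map A A C (Localization.AtPrime m)) ?_
        intro m hm
        have := h m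
        have h2 : Module.Flat (Localization.AtPrime m) Ω[Localization.AtPrime m⁄A] :=
          inferInstance
        exact Module.Flat.trans C (Localization.AtPrime m) _
      -- the kernel of `C ⊗ Ω[B⁄A] → Ω[C⁄A]` is finitely generated
      have hK : (LinearMap.ker (KaehlerDifferential.mapBaseChange A B C)).FG := by
        apply Submodule.FG.of_restrictScalars B
        rw [← KaehlerDifferential.range_kerCotangentToTensor A B C hsurj, LinearMap.range_eq_map]
        exact Module.Finite.fg_top.map _
      exact Groth.Agent.Lib.FlatPresProj18.projective_of_flat_of_fg_ker
        (KaehlerDifferential.mapBaseChange A B C)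
        (KaehlerDifferential.mapBaseChange_surjective A B C hsurj) hK
    · refine Module.subsingleton_of_localization_maximal
        (fun (m : Ideal C) [m.IsMaximal] => Algebra.H1Cotangent A (Localization.AtPrime m))
        (fun (m : Ideal C) [m.IsMaximal] =>
          Algebra.H1Cotangent.map A A C (Localization.AtPrime m)) ?_
      intro m hm
      have := h m
      infer_instance

end Groth.Agent.S4577
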