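import Groth.Statements.S4579
import Groth.Agent.Lib.AdicJacobianH44
import Groth.Agent.Lib.AdicFSGeomRegH44
import Groth.Agent.Lib.JacobianSplitH44
import Groth.Agent.Lib.H14GeomP10

set_option autoImplicit false
universe u
open EGA41

namespace Groth.Agent.S4579

/-- Let k₀ be a field, k a separable (formally smooth) extension field of k₀ and C a k-algebra of finite
type. The following are equivalent: C is formally smooth over k₀ (discrete topologies); every C_p, p
prime, is formally smooth over k₀; every C_m, m maximal, is; C is geometrically regular over k₀.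
(Geometric regularity is tested on finite extensions of k₀. The published statement quantifies the
last condition over all extensions k' of k₀; for infinite ones the base change need not be
Noetherian, so it need not be regular in the Noetherian sense, and the printed proof passes through
the local rings as here.) -/
theorem result {k₀ k C : Type u} [Field k₀] [Field k] [Algebra k₀ k]
    [Algebra.FormallySmooth k₀ k] [CommRing C] [Algebra k C] [Algebra k₀ C] [IsScalarTower k₀ k C]
    [Algebra.FiniteType k C] :
    [Algebra.FormallySmooth k₀ C,
     ∀ (p : Ideal C) [p.IsPrime], Algebra.FormallySmooth k₀ (Localization.AtPrime p),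
     ∀ (m : Ideal C) [m.IsMaximal], Algebra.FormallySmooth k₀ (Localization.AtPrime m),
     CAlg.IsGeometricallyRegular k₀ C].TFAE := by
  haveI : IsNoetherianRing C := Algebra.FiniteType.isNoetherianRing k C
  obtain ⟨n, f, hf⟩ := Algebra.FiniteType.iff_quotient_mvPolynomial''.mp ‹Algebra.FiniteType k C›
  letI : Algebra (MvPolynomial (Fin n) k) C := f.toRingHom.toAlgebra
  haveI : IsScalarTower k₀ (MvPolynomial (Fin n) k) C := IsScalarTower.of_algebraMap_eq (fun c => by
    rw [RingHom.algebraMap_toAlgebra, IsScalarTower.algebraMap_apply k₀ k (MvPolynomial (Fin n) k),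
      IsScalarTower.algebraMap_apply k₀ k C]
    exact (f.commutes _).symm)
  haveI : Algebra.FormallySmooth k₀ (MvPolynomial (Fin n) k) :=
    Algebra.FormallySmooth.comp k₀ k (MvPolynomial (Fin n) k)
  have hsurj : Function.Surjective (algebraMap (MvPolynomial (Fin n) k) C) := hf
  let P : Algebra.Extension.{u} k₀ C := ⟨MvPolynomial (Fin n) k, _, Function.surjInv_eq hsurj⟩
  haveI : Algebra.FormallySmooth k₀ P.Ring := ‹_›
  haveI hfin : Module.Finite C P.Cotangent := by
    haveI : Module.Finite (MvPolynomial (Fin n) k) P.ker :=
      Module.Finite.of_fg (IsNoetherian.noetherian _)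
    haveI h1 : Module.Finite (MvPolynomial (Fin n) k) P.Cotangent :=
      Module.Finite.of_surjective _ Algebra.Extension.Cotangent.mk_surjective
    exact Module.Finite.of_restrictScalars_finite (MvPolynomial (Fin n) k) C P.Cotangent
  haveI hproj : Module.Projective C P.CotangentSpace := by
    haveI : Module.Projective (MvPolynomial (Fin n) k) Ω[MvPolynomial (Fin n) k⁄k₀] := inferInstance
    exact inferInstanceAs (Module.Projective C
      (TensorProduct (MvPolynomial (Fin n) k) C Ω[MvPolynomial (Fin n) k⁄k₀]))
  tfae_have 1 → 4 := fun h =>
    Groth.Agent.Lib.JacobianSplitH44.isGeometricallyRegular_of_formallySmooth k₀ C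
  tfae_have 4 → 2 := by
    intro h p _
    have h2 : CAlg.IsGeometricallyRegular k₀ (Localization.AtPrime p) :=
      Groth.Agent.Lib.H14GeomP.g0_regular_of_isLocalization k₀ C (Localization.AtPrime p)
        p.primeCompl h
    have h3 := (Groth.Agent.Lib.AdicFSGeomRegH44.isAdicFormallySmooth_iff_isGeometricallyRegular
      (k := k₀) (A := Localization.AtPrime p)).2 h2
    exact Groth.Agent.Lib.AdicJacobianH44.formallySmooth_localization_of_adic k₀ k C p h3
  tfae_have 2 → 3 := fun h m _ => h m
  tfae_have 3 → 1 := fun h =>
    Groth.Agent.Lib.JacobianSplitH44.formallySmooth_of_forall_isMaximal P h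
  tfae_finish

end Groth.Agent.S4579
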