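import Groth.Statements.S4581
import Groth.Agent.Lib.ComplQuotient96
import Groth.Agent.Lib.ComplCofinal51
import Groth.Agent.Lib.SemilocalRad51

set_option autoImplicit false
universe u
open EGA41

namespace Groth.Agent.S4581

open Groth.Agent.Lib Groth.Agent.Lib.ComplMap

/-- Let A₀ be a semi-local Noetherian ring, A a module-finite A₀-algebra and Â the completion of A for
the adic topology of its Jacobson radical. For the discrete topologies, Â is a formally smooth
A-algebra relative to A₀. -/
theorem result {A₀ A : Type u} [CommRing A₀]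
    [IsNoetherianRing A₀] [Finite (MaximalSpectrum A₀)] [CommRing A] [Algebra A₀ A] [Module.Finite A₀ A] :
    EGA41.IsFormallySmoothRel A₀ A (AdicCompletion (Ideal.jacobson (⊥ : Ideal A)) A) := by
  set I₀ := Ideal.jacobson (⊥ : Ideal A₀) with hI₀
  set 𝔯 := Ideal.jacobson (⊥ : Ideal A) with h𝔯
  set K := I₀.map (algebraMap A₀ A) with hK
  intro C _ _ _ _ J hJ u₀ ⟨u, hu⟩
  haveI : Algebra.IsIntegral A₀ A := Algebra.IsIntegral.of_finite A₀ A
  have hK𝔯 : K ≤ 𝔯 := SemilocalRad51.map_jacobson_le A₀ A
  obtain ⟨c, hc1, hc⟩ := SemilocalRad51.exists_pow_jacobson_le A₀ A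
  letI alg : Algebra (AdicCompletion I₀ A₀) (AdicCompletion K A) :=
    (FSch.complMap I₀ K (algebraMap A₀ A) le_rfl).toAlgebra
  have halg : ∀ y, algebraMap (AdicCompletion I₀ A₀) (AdicCompletion K A) y =
      FSch.complMap I₀ K (algebraMap A₀ A) le_rfl y := fun y => rfl
  haveI tower : IsScalarTower A₀ (AdicCompletion I₀ A₀) (AdicCompletion K A) :=
    IsScalarTower.of_algebraMap_eq (fun x => by
      rw [halg, AdicCompletion.algebraMap_apply, AdicCompletion.algebraMap_apply]
      exact (complMap_algebraMap I₀ K (algebraMap A₀ A) le_rfl x).symm)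
  have hpush : Algebra.IsPushout A₀ A (AdicCompletion I₀ A₀) (AdicCompletion K A) :=
    ComplQuotient96.isPushout I₀ A K rfl rfl
  have hKid : K.map (RingHom.id A) ≤ 𝔯 := by rw [Ideal.map_id]; exact hK𝔯
  let κ : AdicCompletion K A →+* AdicCompletion 𝔯 A := FSch.complMap K 𝔯 (RingHom.id A) hKid
  have hκalg : ∀ a : A, κ (algebraMap A (AdicCompletion K A) a) =
      algebraMap A (AdicCompletion 𝔯 A) a := fun a =>
    complMap_algebraMap K 𝔯 (RingHom.id A) hKid a
  let σ : A →ₐ[A₀] C := IsScalarTower.toAlgHom A₀ A C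
  let g : AdicCompletion I₀ A₀ →ₐ[A₀] C :=
    { toRingHom := (u : AdicCompletion 𝔯 A →+* C).comp
        (κ.comp (algebraMap (AdicCompletion I₀ A₀) (AdicCompletion K A)))
      commutes' := fun r => by
        change u (κ (algebraMap (AdicCompletion I₀ A₀) (AdicCompletion K A)
          (algebraMap A₀ (AdicCompletion I₀ A₀) r))) = algebraMap A₀ C r
        rw [← IsScalarTower.algebraMap_apply A₀ (AdicCompletion I₀ A₀) (AdicCompletion K A),
          IsScalarTower.algebraMap_apply A₀ A (AdicCompletion K A), hκalg,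
          ← IsScalarTower.algebraMap_apply A₀ A (AdicCompletion 𝔯 A), AlgHom.commutes] }
  have hg : ∀ y, g y = u (κ (algebraMap (AdicCompletion I₀ A₀) (AdicCompletion K A) y)) :=
    fun y => rfl
  let w : AdicCompletion K A →ₐ[A₀] C :=
    Algebra.pushoutDesc (AdicCompletion K A) σ g (fun x y => mul_comm _ _)
  have hwA : ∀ a : A, w (algebraMap A (AdicCompletion K A) a) = algebraMap A C a := fun a =>
    Algebra.pushoutDesc_left (AdicCompletion K A) σ g _ a
  have hwR : ∀ y, w (algebraMap (AdicCompletion I₀ A₀) (AdicCompletion K A) y) = g y := fun y =>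
    Algebra.pushoutDesc_right (AdicCompletion K A) σ g _ y
  let τ : AdicCompletion 𝔯 A →+* AdicCompletion K A := ComplCofinal51.tau K 𝔯 c hc
  let v : AdicCompletion 𝔯 A →ₐ[A] C :=
    { toRingHom := (w : AdicCompletion K A →+* C).comp τ
      commutes' := fun a => by
        change w (τ (algebraMap A (AdicCompletion 𝔯 A) a)) = algebraMap A C a
        rw [ComplCofinal51.tau_algebraMap, hwA] }
  have hv : ∀ x, v x = w (τ x) := fun x => rfl
  refine ⟨v, ?_⟩
  -- the two `A₀`-algebra maps `Â_K → C ⧸ J`
  let κ' : AdicCompletion K A →ₐ[A₀] AdicCompletion 𝔯 A :=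
    { toRingHom := κ
      commutes' := fun r => by
        change κ (algebraMap A₀ (AdicCompletion K A) r) = algebraMap A₀ (AdicCompletion 𝔯 A) r
        rw [IsScalarTower.algebraMap_apply A₀ A (AdicCompletion K A), hκalg,
          ← IsScalarTower.algebraMap_apply A₀ A (AdicCompletion 𝔯 A)] }
  have hκ' : ∀ z, κ' z = κ z := fun z => rfl
  have key : (Ideal.Quotient.mkₐ A₀ J).comp w = (u₀.restrictScalars A₀).comp κ' := by
    apply Algebra.IsPushout.algHom_ext (H := hpush)
    · ext y
      simp only [AlgHom.comp_apply, IsScalarTower.coe_toAlgHom', AlgHom.restrictScalars_apply]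
      rw [hwR, hg, hκ']
      exact congrArg (fun φ => φ (κ (algebraMap (AdicCompletion I₀ A₀) (AdicCompletion K A) y))) hu
    · ext a
      simp only [AlgHom.comp_apply, IsScalarTower.coe_toAlgHom', AlgHom.restrictScalars_apply]
      rw [hwA, hκ', hκalg, AlgHom.commutes]
      rfl
  ext x
  have h1 := congrArg (fun φ => φ (τ x)) key
  simp only [AlgHom.comp_apply, AlgHom.restrictScalars_apply] at h1
  rw [hκ', ComplCofinal51.complMap_tau K 𝔯 c hc hKid hc1] at h1
  rw [AlgHom.comp_apply, hv]
  exact h1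

end Groth.Agent.S4581
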