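import Groth.Statements.S4584
import Mathlib.AlgebraicGeometry.Limits
import Mathlib.AlgebraicGeometry.Morphisms.FinitePresentation
import Mathlib.RingTheory.Spectrum.Prime.Topology

set_option autoImplicit false
universe u
open AlgebraicGeometry CategoryTheory Topology
open EGA41

namespace Groth.Agent.S4584

open CategoryTheory.Limits

/-- The property we prove by induction on constructible sets. -/
def P (X : Scheme.{u}) (s : Set X) : Prop :=
  ∃ (X' : Scheme.{u}) (f : X' ⟶ X), IsAffine X' ∧ LocallyOfFinitePresentation f ∧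
    Set.range f.base = s

lemma P_union (X : Scheme.{u}) (s t : Set X) (hs : P X s) (ht : P X t) : P X (s ∪ t) := by
  obtain ⟨X₁, f₁, h₁a, h₁p, rfl⟩ := hs
  obtain ⟨X₂, f₂, h₂a, h₂p, rfl⟩ := ht
  have hl : ∀ z, (coprod.desc f₁ f₂) ((coprod.inl : X₁ ⟶ X₁ ⨿ X₂) z) = f₁ z := fun z => by
    rw [← Scheme.Hom.comp_apply, coprod.inl_desc]
  have hr : ∀ z, (coprod.desc f₁ f₂) ((coprod.inr : X₂ ⟶ X₁ ⨿ X₂) z) = f₂ z := fun z => by
    rw [← Scheme.Hom.comp_apply, coprod.inr_desc]
  refine ⟨X₁ ⨿ X₂, coprod.desc f₁ f₂, inferInstance, ?_, ?_⟩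
  · rw [IsZariskiLocalAtSource.iff_of_openCover (P := @LocallyOfFinitePresentation)
      (coprodOpenCover.{u, 0} X₁ X₂)]
    rintro (_ | _)
    · change LocallyOfFinitePresentation (coprod.inl ≫ coprod.desc f₁ f₂)
      rw [coprod.inl_desc]; exact h₁p
    · change LocallyOfFinitePresentation (coprod.inr ≫ coprod.desc f₁ f₂)
      rw [coprod.inr_desc]; exact h₂p
  · ext x
    simp only [Set.mem_range, Set.mem_union]
    constructor
    · rintro ⟨y, rfl⟩
      obtain ⟨y', rfl⟩ := (coprodMk X₁ X₂).surjective y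
      rcases y' with (z | z)
      · left
        exact ⟨z, by rw [coprodMk_inl, hl]⟩
      · right
        exact ⟨z, by rw [coprodMk_inr, hr]⟩
    · rintro (⟨z, rfl⟩ | ⟨z, rfl⟩)
      · exact ⟨(coprod.inl : X₁ ⟶ X₁ ⨿ X₂) z, hl z⟩
      · exact ⟨(coprod.inr : X₂ ⟶ X₁ ⨿ X₂) z, hr z⟩

lemma P_sdiff (X : Scheme.{u}) (W : X.Opens) (hW : IsAffineOpen W)
    (C : Set X) (hCo : IsOpen C) (hCc : IsCompact C) (hCW : C ⊆ W) : P X ((W : Set X) \ C) := by
  have hCr : C ⊆ Set.range hW.fromSpec := by rw [hW.range_fromSpec]; exact hCW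
  have hc : IsCompact (hW.fromSpec ⁻¹' C) :=
    (hW.fromSpec.isOpenEmbedding.isInducing.isCompact_preimage_iff hCr).mpr hCc
  have ho : IsOpen (hW.fromSpec ⁻¹' C) := hCo.preimage hW.fromSpec.continuous
  obtain ⟨t, ht⟩ := PrimeSpectrum.isCompact_isOpen_iff.mp ⟨hc, ho⟩
  let I : Ideal Γ(X, W) := Ideal.span (t : Set Γ(X, W))
  let q : Γ(X, W) ⟶ CommRingCat.of (Γ(X, W) ⧸ I) := CommRingCat.ofHom (Ideal.Quotient.mk I)
  have hqfp : q.hom.FinitePresentation := by
    refine RingHom.FinitePresentation.of_surjective _ Ideal.Quotient.mk_surjective ?_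
    change (RingHom.ker (Ideal.Quotient.mk I)).FG
    rw [Ideal.mk_ker]
    exact ⟨t, rfl⟩
  have hq : LocallyOfFinitePresentation (Spec.map q) :=
    (HasRingHomProperty.Spec_iff (P := @LocallyOfFinitePresentation)).mpr hqfp
  have hrange : Set.range (Spec.map q) = PrimeSpectrum.zeroLocus (t : Set Γ(X, W)) :=
    (range_comap_of_surjective _ _ Ideal.Quotient.mk_surjective).trans
      (by simp [I, PrimeSpectrum.zeroLocus_span])
  refine ⟨Spec (.of (Γ(X, W) ⧸ I)), Spec.map q ≫ hW.fromSpec, inferInstance, inferInstance, ?_⟩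
  rw [Scheme.Hom.comp_base, TopCat.coe_comp, Set.range_comp, hrange]
  ext x
  constructor
  · rintro ⟨y, hy, rfl⟩
    refine ⟨?_, ?_⟩
    · rw [← hW.range_fromSpec]; exact ⟨y, rfl⟩
    · intro hx
      have : y ∈ (PrimeSpectrum.zeroLocus (t : Set Γ(X, W)))ᶜ := by rw [ht]; exact hx
      exact this hy
  · rintro ⟨hxW, hxC⟩
    have hxW' : x ∈ Set.range hW.fromSpec := by rw [hW.range_fromSpec]; exact hxW
    obtain ⟨y, rfl⟩ := hxW'
    refine ⟨y, ?_, rfl⟩
    by_contra hy
    have : y ∈ (PrimeSpectrum.zeroLocus (t : Set Γ(X, W)))ᶜ := hy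
    rw [ht] at this
    exact hxC this

/-- Given a scheme X that is quasi-compact and quasi-separated, together with a constructible subset Z
of X, one can find an affine scheme X' with a morphism X' → X of finite presentation whose image
equals Z. -/
theorem result (X : Scheme.{u}) [CompactSpace X]
    [QuasiSeparatedSpace X] (Z : Set X) (hZ : IsConstructible Z) :
    ∃ (X' : Scheme.{u}) (f : X' ⟶ X), IsAffine X' ∧ LocallyOfFinitePresentation f ∧ QuasiCompact f ∧
      QuasiSeparated f ∧ Set.range f.base = Z := by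
  suffices h : P X Z by
    obtain ⟨X', f, ha, hp, hr⟩ := h
    exact ⟨X', f, ha, hp, inferInstance, inferInstance, hr⟩
  have : Nonempty X.affineOpens := ⟨⟨⊥, isAffineOpen_bot X⟩⟩
  have hbasis : TopologicalSpace.IsTopologicalBasis
      (Set.range (fun W : X.affineOpens => ((W : X.Opens) : Set X))) := by
    have := X.isBasis_affineOpens
    rw [TopologicalSpace.Opens.isBasis_iff_nbhd] at this
    rw [← Set.image_eq_range]
    exact TopologicalSpace.Opens.isBasis_iff_nbhd.mpr this
  induction Z, hZ using IsConstructible.induction_of_isTopologicalBasis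
    (fun W : X.affineOpens => ((W : X.Opens) : Set X)) hbasis (fun W => W.2.isCompact) with
  | sdiff W s hs =>
    have hC : ((W : X.Opens) : Set X) \ ⋃ j ∈ s, ((j : X.Opens) : Set X) =
        ((W : X.Opens) : Set X) \ (((W : X.Opens) : Set X) ∩ ⋃ j ∈ s, ((j : X.Opens) : Set X)) := by
      rw [Set.sdiff_self_inter]
    rw [hC]
    refine P_sdiff X W W.2 _ ?_ ?_ Set.inter_subset_left
    · exact (W : X.Opens).2.inter (isOpen_biUnion fun j _ => (j : X.Opens).2)
    · rw [Set.inter_iUnion₂]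
      exact hs.isCompact_biUnion fun j _ =>
        QuasiSeparatedSpace.inter_isCompact _ _ (W : X.Opens).2 W.2.isCompact (j : X.Opens).2
          j.2.isCompact
  | union s hs t ht hs' ht' => exact P_union X s t hs' ht'

end Groth.Agent.S4584
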