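import Groth.Statements.S4585
import Mathlib.RingTheory.Jacobson.Ring
import Mathlib.RingTheory.Ideal.GoingUp
import Mathlib.RingTheory.Algebraic.Integral
import Mathlib.RingTheory.Localization.Away.Basic
import Mathlib.RingTheory.FiniteStability
import Mathlib.AlgebraicGeometry.AffineScheme

set_option autoImplicit false
universe u
open AlgebraicGeometry CategoryTheory
open EGA41

namespace Groth.Agent.S4585

open scoped TensorProduct

/-- Generic surjectivity for a finite type injective extension of domains. -/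
theorem dom {A D : Type*} [CommRing A] [IsDomain A] [CommRing D] [IsDomain D] [Algebra A D]
    [Algebra.FiniteType A D] (hinj : Function.Injective (algebraMap A D)) :
    ∃ g : A, g ≠ 0 ∧ ∀ p : Ideal A, p.IsPrime → g ∉ p →
      ∃ Q : Ideal D, Q.IsPrime ∧ Q.comap (algebraMap A D) = p := by
  classical
  let K := FractionRing A
  let T := K ⊗[A] D
  let FD := FractionRing D
  have hinjFD : Function.Injective (algebraMap A FD) := by
    rw [IsScalarTower.algebraMap_eq A D FD]
    exact (IsFractionRing.injective D FD).comp hinj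
  let f : K →ₐ[A] FD := IsFractionRing.liftAlgHom (g := Algebra.ofId A FD) hinjFD
  let h : T →ₐ[A] FD := Algebra.TensorProduct.lift f (IsScalarTower.toAlgHom A D FD)
    (fun _ _ => Commute.all _ _)
  have : Nontrivial T := h.toRingHom.domain_nontrivial
  obtain ⟨M, hM⟩ := Ideal.exists_maximal T
  let _ : Field (T ⧸ M) := Ideal.Quotient.field M
  let L := T ⧸ M
  have : Algebra.FiniteType K L :=
    Algebra.FiniteType.of_surjective (Ideal.Quotient.mkₐ K M) (Ideal.Quotient.mkₐ_surjective K M)
  have : Module.Finite K L := finite_of_finite_type_of_isJacobsonRing K L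
  have : Algebra.IsAlgebraic K L := Algebra.IsAlgebraic.of_finite K L
  have : Algebra.IsAlgebraic A K := IsLocalization.isAlgebraic K (nonZeroDivisors A)
  have : Algebra.IsAlgebraic A L := Algebra.IsAlgebraic.trans A K L
  have hinjL : Function.Injective (algebraMap A L) := by
    rw [IsScalarTower.algebraMap_eq A K L]
    exact (algebraMap K L).injective.comp (IsFractionRing.injective A K)
  let ρ : D →ₐ[A] L := (Ideal.Quotient.mkₐ A M).comp Algebra.TensorProduct.includeRight
  obtain ⟨s, hs⟩ := (Algebra.FiniteType.out : (⊤ : Subalgebra A D).FG)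
  obtain ⟨g, hg0, hgint⟩ := Algebra.IsAlgebraic.exists_integral_multiples A (s.image ρ)
  refine ⟨g, hg0, fun p hp hgp => ?_⟩
  let Ag := Localization.Away g
  have hgL : IsUnit (algebraMap A L g) :=
    IsUnit.mk0 _ (by rw [Ne, map_eq_zero_iff _ hinjL]; exact hg0)
  let _ : Algebra Ag L := (IsLocalization.Away.lift g hgL).toAlgebra
  have hAgL : ∀ a : A, algebraMap Ag L (algebraMap A Ag a) = algebraMap A L a :=
    fun a => IsLocalization.Away.lift_eq g hgL a
  have : IsScalarTower A Ag L := .of_algebraMap_eq (fun a => (hAgL a).symm)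
  let S := integralClosure Ag L
  -- the image of `ρ` is integral over `Ag`
  have hρS : ∀ d : D, ρ d ∈ S := by
    intro d
    have hd : d ∈ Algebra.adjoin A (s : Set D) := by rw [hs]; trivial
    induction hd using Algebra.adjoin_induction with
    | mem x hx =>
      have h1 : IsIntegral Ag (g • ρ x) :=
        (hgint (ρ x) (Finset.mem_image_of_mem ρ hx)).tower_top
      have h2 : ρ x = algebraMap Ag L (IsLocalization.Away.invSelf g) * (g • ρ x) := by
        rw [Algebra.smul_def, ← hAgL, ← mul_assoc, ← map_mul]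
        have : IsLocalization.Away.invSelf g * algebraMap A Ag g = 1 := by
          rw [mul_comm]; exact IsLocalization.Away.mul_invSelf g
        rw [this, map_one, one_mul]
      change IsIntegral Ag (ρ x)
      rw [h2]
      exact isIntegral_algebraMap.mul h1
    | algebraMap a =>
      change IsIntegral Ag (ρ (algebraMap A D a))
      rw [AlgHom.commutes, ← hAgL]
      exact isIntegral_algebraMap
    | add x y _ _ hx hy =>
      change IsIntegral Ag (ρ (x + y))
      rw [map_add]; exact IsIntegral.add hx hy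
    | mul x y _ _ hx hy =>
      change IsIntegral Ag (ρ (x * y))
      rw [map_mul]; exact IsIntegral.mul hx hy
  let ρ' : D →+* S := ρ.toRingHom.codRestrict S hρS
  have hdisj : Disjoint (Submonoid.powers g : Set A) (p : Set A) :=
    (Ideal.disjoint_powers_iff_notMem _ hp.isRadical).mpr hgp
  let p' : Ideal Ag := Ideal.map (algebraMap A Ag) p
  have hp' : p'.IsPrime :=
    IsLocalization.isPrime_of_isPrime_disjoint (Submonoid.powers g) Ag p hp hdisj
  have hcomap : p'.comap (algebraMap A Ag) = p :=
    IsLocalization.under_map_of_isPrime_disjoint (Submonoid.powers g) Ag hp hdisj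
  have hinjAg : Function.Injective (algebraMap Ag L) := by
    rw [injective_iff_map_eq_zero]
    intro x hx
    obtain ⟨a, t, rfl⟩ := IsLocalization.exists_mk'_eq (Submonoid.powers g) x
    have h1 : algebraMap Ag L (algebraMap A Ag a) = 0 := by
      rw [← IsLocalization.mk'_spec Ag a t, map_mul, hx, zero_mul]
    rw [hAgL, map_eq_zero_iff _ hinjL] at h1
    rw [h1, IsLocalization.mk'_zero]
  have hker : RingHom.ker (algebraMap Ag S) ≤ p' := by
    intro x hx
    rw [RingHom.mem_ker] at hx
    have : algebraMap Ag L x = 0 := congrArg Subtype.val hx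
    rw [map_eq_zero_iff _ hinjAg] at this
    rw [this]; exact zero_mem _
  obtain ⟨Q', hQ'prime, hQ'⟩ := Ideal.exists_ideal_over_prime_of_isIntegral_of_isDomain p' hker
  refine ⟨Q'.comap ρ', Ideal.IsPrime.comap ρ', ?_⟩
  ext a
  rw [Ideal.mem_comap, Ideal.mem_comap]
  have h1 : ρ' (algebraMap A D a) = algebraMap Ag S (algebraMap A Ag a) := by
    apply Subtype.ext
    change ρ (algebraMap A D a) = algebraMap Ag L (algebraMap A Ag a)
    rw [AlgHom.commutes, hAgL]
  rw [h1, ← Ideal.mem_comap, hQ', ← Ideal.mem_comap, hcomap]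

/-- Ring-level statement: generic surjectivity of a finite type ring map near a prime in the
image. -/
theorem ringLevel {A' B' : Type*} [CommRing A'] [CommRing B'] (φ : A' →+* B') (hφ : φ.FiniteType)
    (q₀ : Ideal B') [q₀.IsPrime] :
    ∃ g : A', g ∉ q₀.comap φ ∧ ∀ p : Ideal A', p.IsPrime → q₀.comap φ ≤ p → g ∉ p →
      ∃ Q : Ideal B', Q.IsPrime ∧ Q.comap φ = p := by
  set p₀ := q₀.comap φ with hp₀
  let A := A' ⧸ p₀
  let D := B' ⧸ q₀
  let ψ : A →+* D := Ideal.quotientMap q₀ φ le_rfl
  have hψinj : Function.Injective ψ := Ideal.quotientMap_injective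
  have hcomp : ψ.comp (Ideal.Quotient.mk p₀) = (Ideal.Quotient.mk q₀).comp φ := by
    ext x; rfl
  have hψft : ψ.FiniteType := by
    have h1 : (ψ.comp (Ideal.Quotient.mk p₀)).FiniteType := by
      rw [hcomp]
      exact (RingHom.FiniteType.of_surjective _ Ideal.Quotient.mk_surjective).comp hφ
    exact RingHom.FiniteType.of_comp_finiteType h1
  let _ : Algebra A D := ψ.toAlgebra
  have : Algebra.FiniteType A D := hψft
  obtain ⟨gbar, hg0, H⟩ := dom (A := A) (D := D) hψinj
  obtain ⟨g, rfl⟩ := Ideal.Quotient.mk_surjective gbar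
  refine ⟨g, fun hg => hg0 (Ideal.Quotient.eq_zero_iff_mem.mpr hg), ?_⟩
  intro p hp hp₀p hgp
  let pbar : Ideal A := p.map (Ideal.Quotient.mk p₀)
  have hpbarcomap : pbar.comap (Ideal.Quotient.mk p₀) = p := by
    rw [Ideal.comap_map_of_surjective _ Ideal.Quotient.mk_surjective, ← RingHom.ker_eq_comap_bot,
      Ideal.mk_ker, sup_eq_left]
    exact hp₀p
  have hpbarprime : pbar.IsPrime :=
    Ideal.map_isPrime_of_surjective Ideal.Quotient.mk_surjective (by rw [Ideal.mk_ker]; exact hp₀p)
  have hgpbar : Ideal.Quotient.mk p₀ g ∉ pbar := by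
    intro h; apply hgp; rw [← hpbarcomap]; exact h
  obtain ⟨Qbar, hQbarprime, hQbar⟩ := H pbar hpbarprime hgpbar
  refine ⟨Qbar.comap (Ideal.Quotient.mk q₀), Ideal.IsPrime.comap _, ?_⟩
  have hQbar' : Qbar.comap ψ = pbar := hQbar
  rw [Ideal.comap_comap, ← hcomp, ← Ideal.comap_comap, hQbar', hpbarcomap]

/-- Let Y be an irreducible scheme with generic point η and f : X → Y locally of finite type with
nonempty fibre over η. Then some open neighbourhood of η is contained in f(X). (The second
assertion, on fibres of a quasi-coherent module of finite type, is not stated.) -/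
theorem result {X Y : Scheme.{u}} (f : X ⟶ Y)
    [LocallyOfFiniteType f] [IrreducibleSpace Y] (h : genericPoint Y ∈ Set.range f.base) :
    genericPoint Y ∈ interior (Set.range f.base) := by
  obtain ⟨x, hx⟩ := h
  obtain ⟨_, ⟨U, hU : IsAffineOpen U, rfl⟩, hηU, -⟩ :=
    Y.isBasis_affineOpens.exists_subset_of_mem_open (Set.mem_univ (f x)) isOpen_univ
  obtain ⟨_, ⟨V, hV : IsAffineOpen V, rfl⟩, hxV, hVU⟩ :=
    X.isBasis_affineOpens.exists_subset_of_mem_open hηU (U.2.preimage f.continuous)
  have hft := f.finiteType_appLE hU hV hVU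
  let q₀ := hV.primeIdealOf ⟨x, hxV⟩
  have hq₀ : q₀.comap (f.appLE U V hVU).hom = hU.primeIdealOf ⟨f x, hVU hxV⟩ :=
    IsAffineOpen.comap_primeIdealOf_appLE U hU V hV hVU hxV
  obtain ⟨g, hg, H⟩ := ringLevel (f.appLE U V hVU).hom hft q₀.asIdeal
  rw [mem_interior]
  refine ⟨Y.basicOpen g, ?_, (Y.basicOpen g).2, ?_⟩
  · intro y hy
    have hyU : y ∈ U := Y.basicOpen_le g hy
    let p := hU.primeIdealOf ⟨y, hyU⟩
    have hp₀p : q₀.asIdeal.comap (f.appLE U V hVU).hom ≤ p.asIdeal := by
      have h1 : (q₀.comap (f.appLE U V hVU).hom).asIdeal ≤ p.asIdeal := by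
        rw [hq₀, PrimeSpectrum.asIdeal_le_asIdeal, PrimeSpectrum.le_iff_specializes]
        have : hU.fromSpec (hU.primeIdealOf ⟨f x, hVU hxV⟩) ⤳ hU.fromSpec p := by
          rw [hU.fromSpec_primeIdealOf, hU.fromSpec_primeIdealOf]
          change f x ⤳ y
          rw [hx]
          exact genericPoint_specializes y
        exact hU.fromSpec.isOpenEmbedding.isInducing.specializes_iff.mp this
      exact h1
    have hgp : g ∉ p.asIdeal := by
      have : hU.fromSpec p ∈ Y.basicOpen g := by rw [hU.fromSpec_primeIdealOf]; exact hy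
      rw [← Scheme.Hom.mem_preimage, hU.fromSpec_preimage_basicOpen] at this
      exact this
    obtain ⟨Q, hQprime, hQ⟩ := H p.asIdeal p.2 hp₀p hgp
    refine ⟨hV.fromSpec ⟨Q, hQprime⟩, ?_⟩
    have h1 := congr($(IsAffineOpen.SpecMap_appLE_fromSpec f hU hV hVU) ⟨Q, hQprime⟩)
    rw [Scheme.Hom.comp_apply, Scheme.Hom.comp_apply] at h1
    rw [← h1]
    have h2 : Spec.map (f.appLE U V hVU) ⟨Q, hQprime⟩ = p := by
      apply PrimeSpectrum.ext
      exact hQ
    rw [h2, hU.fromSpec_primeIdealOf]
  · rw [← hx]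
    have : hU.fromSpec (hU.primeIdealOf ⟨f x, hVU hxV⟩) ∈ Y.basicOpen g → f x ∈ Y.basicOpen g := by
      rw [hU.fromSpec_primeIdealOf]; exact id
    apply this
    rw [← Scheme.Hom.mem_preimage, hU.fromSpec_preimage_basicOpen, ← hq₀]
    exact hg

end Groth.Agent.S4585
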