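import Groth.Statements.S4586
import Groth.Agent.Lib.ConsTop2
import Groth.Agent.S3398
import Groth.Agent.S3399
import Groth.Agent.S3402

set_option autoImplicit false
universe u
open AlgebraicGeometry CategoryTheory Topology
open EGA41

namespace Groth.Agent.S4586

open Groth.Agent.Lib.ConsTop in
/-- Let f : X → Y be surjective and either quasi-compact or locally of finite presentation, E ⊆ Y. Then
E is locally constructible (resp. pro-constructible, resp. ind-constructible) if and only if f⁻¹(E)
is. -/
theorem result {X Y : Scheme.{u}} (f : X ⟶ Y) [Surjective f]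
    (hf : QuasiCompact f ∨ LocallyOfFinitePresentation f) (E : Set Y) :
    (IsLocallyConstructible E ↔ IsLocallyConstructible (f.base ⁻¹' E)) ∧
    (ProCons.IsProConstructible E ↔ ProCons.IsProConstructible (f.base ⁻¹' E)) ∧
    (ProCons.IsIndConstructible E ↔ ProCons.IsIndConstructible (f.base ⁻¹' E)) := by
  have himg : ∀ T : Set Y, f.base '' (f.base ⁻¹' T) = T := fun T =>
    Set.image_preimage_eq T f.surjective
  have pro_iff : ∀ T : Set Y,
      ProCons.IsProConstructible T ↔ ProCons.IsProConstructible (f.base ⁻¹' T) := by
    intro T
    refine ⟨fun h => isProConstructible_preimage f h, fun h => ?_⟩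
    rcases hf with hqc | hlfp
    · have := Groth.Agent.S3398.result f (f.base ⁻¹' T) h
      rwa [himg] at this
    · have h' : ProCons.IsIndConstructible (f.base ⁻¹' Tᶜ) := by
        rw [Set.preimage_compl]; exact isIndConstructible_compl h
      have := Groth.Agent.S3399.result f (f.base ⁻¹' Tᶜ) h'
      rw [himg] at this
      exact isProConstructible_of_compl this
  have ind_iff : ∀ T : Set Y,
      ProCons.IsIndConstructible T ↔ ProCons.IsIndConstructible (f.base ⁻¹' T) := by
    intro T
    refine ⟨fun h => isIndConstructible_preimage f h, fun h => ?_⟩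
    have h' : ProCons.IsProConstructible (f.base ⁻¹' Tᶜ) := by
      rw [Set.preimage_compl]; exact isProConstructible_compl h
    exact isIndConstructible_of_compl ((pro_iff Tᶜ).mpr h')
  refine ⟨?_, pro_iff E, ind_iff E⟩
  rw [Groth.Agent.S3402.result Y E, Groth.Agent.S3402.result X (f.base ⁻¹' E),
    ← pro_iff E, ← ind_iff E]

end Groth.Agent.S4586
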