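import Groth.Statements.S4587
import Mathlib.AlgebraicGeometry.Properties
import Mathlib.Topology.Sober

set_option autoImplicit false
universe u
open AlgebraicGeometry CategoryTheory
open EGA41

namespace Groth.Agent.S4587

/-- The topological statement. -/
theorem generalizingMap_iff {X Y : Type*} [TopologicalSpace X] [TopologicalSpace Y]
    [QuasiSober X] [QuasiSober Y] [T0Space Y] (f : X → Y) (hf : Continuous f) :
    GeneralizingMap f ↔
      ∀ Y' : Set Y, IsClosed Y' → IsIrreducible Y' →
        ∀ Z ∈ irreducibleComponents ↥(f ⁻¹' Y'), closure (f '' (Subtype.val '' Z)) = Y' := by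
  constructor
  · intro hgen Y' hY'cl hY'irr Z hZ
    have hWcl : IsClosed (f ⁻¹' Y') := hY'cl.preimage hf
    have : QuasiSober ↥(f ⁻¹' Y') := hWcl.isClosedEmbedding_subtypeVal.quasiSober
    have hZcl : IsClosed Z := isClosed_of_mem_irreducibleComponents Z hZ
    have hZirr : IsIrreducible Z := hZ.1
    have hζ : IsGenericPoint hZirr.genericPoint Z := hZirr.isGenericPoint_genericPoint hZcl
    set ζ := hZirr.genericPoint with hζdef
    have hη : IsGenericPoint hY'irr.genericPoint Y' := hY'irr.isGenericPoint_genericPoint hY'cl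
    set η := hY'irr.genericPoint with hηdef
    have h1 : η ⤳ f ζ.1 := hη.specializes ζ.2
    obtain ⟨ξ', hξ'ζ, hξ'η⟩ := hgen h1
    have hξ'W : ξ' ∈ f ⁻¹' Y' := by
      change f ξ' ∈ Y'
      rw [hξ'η]; exact hη.mem
    let ζ' : ↥(f ⁻¹' Y') := ⟨ξ', hξ'W⟩
    have hζ'ζ : ζ' ⤳ ζ := (subtype_specializes_iff ζ' ζ).mpr hξ'ζ
    have hirr' : IsIrreducible (closure ({ζ'} : Set ↥(f ⁻¹' Y'))) :=
      isIrreducible_singleton.closure
    have hZsub : Z ⊆ closure ({ζ'} : Set ↥(f ⁻¹' Y')) := by
      rw [← hζ.def]
      exact closure_minimal (Set.singleton_subset_iff.mpr (specializes_iff_mem_closure.mp hζ'ζ))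
        isClosed_closure
    have hsub' : closure ({ζ'} : Set ↥(f ⁻¹' Y')) ⊆ Z := hZ.2 hirr' hZsub
    have hζ'Z : ζ' ∈ Z := hsub' (subset_closure rfl)
    apply subset_antisymm
    · apply closure_minimal _ hY'cl
      rintro _ ⟨_, ⟨w, _, rfl⟩, rfl⟩
      exact w.2
    · have hηmem : η ∈ closure (f '' (Subtype.val '' Z)) :=
        subset_closure ⟨ξ', ⟨ζ', hζ'Z, rfl⟩, hξ'η⟩
      have h2 : closure ({η} : Set Y) ⊆ closure (f '' (Subtype.val '' Z)) :=
        closure_minimal (Set.singleton_subset_iff.mpr hηmem) isClosed_closure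
      exact hη.def.symm.le.trans h2
  · intro H x y' hy'
    have hY'cl : IsClosed (closure ({y'} : Set Y)) := isClosed_closure
    have hY'irr : IsIrreducible (closure ({y'} : Set Y)) := isIrreducible_singleton.closure
    have hWcl : IsClosed (f ⁻¹' closure ({y'} : Set Y)) := hY'cl.preimage hf
    have : QuasiSober ↥(f ⁻¹' closure ({y'} : Set Y)) :=
      hWcl.isClosedEmbedding_subtypeVal.quasiSober
    have hxW : x ∈ f ⁻¹' closure ({y'} : Set Y) := specializes_iff_mem_closure.mp hy'
    let w : ↥(f ⁻¹' closure ({y'} : Set Y)) := ⟨x, hxW⟩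
    have hZ := irreducibleComponent_mem_irreducibleComponents w
    have hcl := H _ hY'cl hY'irr _ hZ
    have hZcl : IsClosed (irreducibleComponent w) := isClosed_irreducibleComponent
    have hZirr : IsIrreducible (irreducibleComponent w) := isIrreducible_irreducibleComponent
    have hζ : IsGenericPoint hZirr.genericPoint (irreducibleComponent w) :=
      hZirr.isGenericPoint_genericPoint hZcl
    set ζ := hZirr.genericPoint with hζdef
    have hζw : ζ ⤳ w := hζ.specializes mem_irreducibleComponent
    refine ⟨ζ.1, (subtype_specializes_iff ζ w).mp hζw, ?_⟩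
    have hgen : IsGenericPoint (f ζ.1)
        (closure ((fun w : ↥(f ⁻¹' closure ({y'} : Set Y)) => f w.1) '' irreducibleComponent w)) :=
      hζ.image (f := fun w : ↥(f ⁻¹' closure ({y'} : Set Y)) => f w.1)
        (hf.comp continuous_subtype_val)
    have himg : (fun w : ↥(f ⁻¹' closure ({y'} : Set Y)) => f w.1) '' irreducibleComponent w =
        f '' (Subtype.val '' irreducibleComponent w) := by
      rw [Set.image_image]
    rw [himg, hcl] at hgen
    exact hgen.eq isGenericPoint_closure

/-- A morphism of schemes f : X → Y is generizing if and only if, for every irreducible closed subset Y'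
of Y, each irreducible component of f⁻¹(Y') has dense image in Y'. -/
theorem result {X Y : Scheme.{u}} (f : X ⟶ Y) :
    GeneralizingMap f.base ↔
      ∀ Y' : Set Y, IsClosed Y' → IsIrreducible Y' →
        ∀ Z ∈ irreducibleComponents ↥(f.base ⁻¹' Y'), closure (f.base '' (Subtype.val '' Z)) = Y' := by
  exact generalizingMap_iff f.base f.continuous

end Groth.Agent.S4587
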