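import Groth.Statements.S4588
import Groth.Agent.Lib.H94Eisen
import Groth.Agent.Lib.H87Serre2

set_option autoImplicit false
universe u
open IsLocalRing
open EGA41

namespace Groth.Agent.S4588

open Polynomial in
/-- the one-variable polynomials. -/
noncomputable def f {A : Type u} [CommRing A] {r : ℕ} (d : Fin r → ℕ) (c : Fin r → ℕ → A)
    (i : Fin r) : Polynomial A :=
  Polynomial.X ^ d i + (Finset.range (d i)).sum fun k => Polynomial.C (c i k) * Polynomial.X ^ k

lemma degree_lt {A : Type u} [CommRing A] {r : ℕ} (d : Fin r → ℕ) (c : Fin r → ℕ → A)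
    (i : Fin r) :
    ((Finset.range (d i)).sum fun k => Polynomial.C (c i k) * Polynomial.X ^ k).degree <
      (d i : WithBot ℕ) := by
  refine lt_of_le_of_lt (Polynomial.degree_sum_le _ _) ?_
  rw [Finset.sup_lt_iff (WithBot.bot_lt_coe _)]
  intro k hk
  refine lt_of_le_of_lt (Polynomial.degree_C_mul_X_pow_le _ _) ?_
  exact_mod_cast Finset.mem_range.mp hk

lemma f_monic {A : Type u} [CommRing A] {r : ℕ} (d : Fin r → ℕ) (c : Fin r → ℕ → A)
    (i : Fin r) : (f d c i).Monic :=
  Polynomial.monic_X_pow_add (degree_lt d c i)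

lemma f_natDegree {A : Type u} [CommRing A] [Nontrivial A] {r : ℕ} (d : Fin r → ℕ)
    (c : Fin r → ℕ → A) (i : Fin r) : (f d c i).natDegree = d i := by
  apply Polynomial.natDegree_eq_of_degree_eq_some
  rw [f, Polynomial.degree_add_eq_left_of_degree_lt, Polynomial.degree_X_pow]
  rw [Polynomial.degree_X_pow]
  exact degree_lt d c i

lemma f_coeff {A : Type u} [CommRing A] {r : ℕ} (d : Fin r → ℕ)
    (c : Fin r → ℕ → A) (i : Fin r) (k : ℕ) (hk : k < d i) : (f d c i).coeff k = c i k := by
  rw [f, Polynomial.coeff_add, Polynomial.coeff_X_pow, if_neg (by omega), zero_add,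
    Polynomial.finsetSum_coeff]
  simp only [Polynomial.coeff_C_mul_X_pow]
  rw [Finset.sum_ite_eq (Finset.range (d i)) k, if_pos (Finset.mem_range.mpr hk)]

lemma aeval_f {A : Type u} [CommRing A] {r : ℕ} (d : Fin r → ℕ)
    (c : Fin r → ℕ → A) (i : Fin r) :
    Polynomial.aeval (MvPolynomial.X i : MvPolynomial (Fin r) A) (f d c i) =
      MvPolynomial.X i ^ d i +
        (Finset.range (d i)).sum fun k => MvPolynomial.C (c i k) * MvPolynomial.X i ^ k := by
  simp [f, MvPolynomial.algebraMap_eq]

open Groth.Agent.Lib.H94Eisen in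
theorem main {A : Type u} [CommRing A]
    [IsRegularLocalRing A] {r : ℕ} (d : Fin r → ℕ) (hd : ∀ i, 2 ≤ d i) (c : Fin r → ℕ → A)
    (hc : ∀ i k, c i k ∈ maximalIdeal A) (J : Ideal (MvPolynomial (Fin r) A))
    (hJ : J = Groth.Agent.Lib.H94Eisen.Iof (f d c)) :
    IsLocalRing (MvPolynomial (Fin r) A ⧸ J) ∧
    (∀ (M : Ideal (MvPolynomial (Fin r) A ⧸ J)) [M.IsMaximal],
      Function.Surjective ((Ideal.Quotient.mk M).comp (algebraMap A _))) ∧
    (IsRegularRing (MvPolynomial (Fin r) A ⧸ J) ↔
      LinearIndependent (ResidueField A)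
        (fun i => (maximalIdeal A).toCotangent ⟨c i 0, hc i 0⟩)) := by
  subst hJ
  have hmon : ∀ i, (f d c i).Monic := f_monic d c
  have hnd : ∀ i, (f d c i).natDegree = d i := f_natDegree d c
  have hdeg : ∀ i, 1 ≤ (f d c i).natDegree := fun i => by rw [hnd]; exact le_trans (by norm_num) (hd i)
  have hdeg2 : ∀ i, 2 ≤ (f d c i).natDegree := fun i => by rw [hnd]; exact hd i
  have hlow : ∀ i k, k < (f d c i).natDegree → (f d c i).coeff k ∈ maximalIdeal A := by
    intro i k hk
    rw [hnd] at hk
    rw [f_coeff d c i k hk]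
    exact hc i k
  have hloc : IsLocalRing (Q (f d c)) := isLocalRing (f d c) hmon hdeg hlow
  have hfam : (fun i => (maximalIdeal A).toCotangent ⟨(f d c i).coeff 0, hlow i 0 (hdeg i)⟩) =
      (fun i => (maximalIdeal A).toCotangent ⟨c i 0, hc i 0⟩) := by
    funext i
    congr 2
    exact f_coeff d c i 0 (lt_of_lt_of_le (by norm_num) (hd i))
  refine ⟨hloc, fun M _ => surjective_residue (f d c) hmon hdeg hlow M, ?_, ?_⟩
  · intro hR
    have hreg : IsRegularLocalRing (Q (f d c)) :=
      IsRegularLocalRing.of_isRegularRing_of_isLocalRing (Q (f d c))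
    rw [← hfam]
    exact linearIndependent_of_isRegularLocalRing (f d c) hmon hdeg hlow hdeg2 hreg
  · intro hli
    rw [← hfam] at hli
    have hreg : IsRegularLocalRing (Q (f d c)) :=
      isRegularLocalRing_of_linearIndependent (f d c) hmon hdeg hlow hli
    exact Groth.Agent.Lib.H87Serre2.isRegularRing_of_isRegularLocalRing

/-- Let A be a regular local ring with maximal ideal m and residue field K, and F_i(T_i) = T_i^{d_i} +
Σ_{k<d_i} c_{ik} T_i^k (1 ≤ i ≤ r) monic one-variable polynomials of degrees d_i ≥ 2 with all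
non-leading coefficients in m; put A' = A[T_1, …, T_r]/(F_1, …, F_r). Then (i) A' is local with
residue field K, and (ii) A' is regular if and only if the classes in m/m² of the constant terms
c_{i0} are linearly independent over K. -/
theorem result {A : Type u} [CommRing A]
    [IsRegularLocalRing A] {r : ℕ} (d : Fin r → ℕ) (hd : ∀ i, 2 ≤ d i) (c : Fin r → ℕ → A)
    (hc : ∀ i k, c i k ∈ maximalIdeal A) :
    let F : Fin r → MvPolynomial (Fin r) A := fun i =>
      MvPolynomial.X i ^ d i + (Finset.range (d i)).sum fun k => MvPolynomial.C (c i k) * MvPolynomial.X i ^ k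
    IsLocalRing (MvPolynomial (Fin r) A ⧸ Ideal.span (Set.range F)) ∧
    (∀ (M : Ideal (MvPolynomial (Fin r) A ⧸ Ideal.span (Set.range F))) [M.IsMaximal],
      Function.Surjective ((Ideal.Quotient.mk M).comp (algebraMap A _))) ∧
    (IsRegularRing (MvPolynomial (Fin r) A ⧸ Ideal.span (Set.range F)) ↔
      LinearIndependent (ResidueField A) (fun i => (maximalIdeal A).toCotangent ⟨c i 0, hc i 0⟩)) := by
  intro F
  refine main d hd c hc (Ideal.span (Set.range F)) ?_
  show Ideal.span (Set.range F) = Ideal.span (Set.range fun i =>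
    Polynomial.aeval (MvPolynomial.X i : MvPolynomial (Fin r) A) (f d c i))
  congr 2
  funext i
  exact (aeval_f d c i).symm

end Groth.Agent.S4588
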