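import Groth.Statements.S4590
import Mathlib.RingTheory.Flat.FaithfullyFlat.Algebra
import Mathlib.RingTheory.Polynomial.ScaleRoots
import Mathlib.RingTheory.IntegralClosure.Algebra.Basic
import Mathlib.RingTheory.IntegralClosure.IsIntegralClosure.Basic
import Mathlib.RingTheory.Localization.FractionRing
import Mathlib.RingTheory.Nilpotent.Lemmas
import Mathlib.Algebra.Ring.GeomSum

set_option autoImplicit false
universe u
open CAlg

namespace Groth.Agent.S4590

open Ideal Polynomial

section ideals

variable {A : Type*} [CommRing A]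

/-- `a • (a,s)^k ⊆ s • (a,s)^k + (a^(k+1))`. -/
lemma aux (a s : A) (k : ℕ) :
    span {a} * (span {a, s} : Ideal A) ^ k ≤
      span {s} * (span {a, s} : Ideal A) ^ k ⊔ span {a ^ (k + 1)} := by
  induction k with
  | zero => simp
  | succ k ih =>
    have hI : (span {a, s} : Ideal A) = span {a} ⊔ span {s} := Ideal.span_insert a {s}
    have ha : a ∈ (span {a, s} : Ideal A) := Ideal.mem_span_pair.mpr ⟨1, 0, by simp⟩
    calc span {a} * (span {a, s} : Ideal A) ^ (k + 1)
        = (span {a} * (span {a, s} : Ideal A) ^ k) * span {a, s} := by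
          rw [pow_succ, mul_assoc]
      _ ≤ (span {s} * (span {a, s} : Ideal A) ^ k ⊔ span {a ^ (k + 1)}) * span {a, s} :=
          Ideal.mul_mono_left ih
      _ = span {s} * (span {a, s} : Ideal A) ^ (k + 1) ⊔ span {a ^ (k + 1)} * span {a, s} := by
          rw [Ideal.sup_mul, mul_assoc, ← pow_succ]
      _ ≤ span {s} * (span {a, s} : Ideal A) ^ (k + 1) ⊔ span {a ^ (k + 1 + 1)} := by
          apply sup_le le_sup_left
          rw [hI, Ideal.mul_sup]
          apply sup_le
          · rw [Ideal.span_singleton_mul_span_singleton, ← pow_succ]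
            exact le_sup_right
          · rw [mul_comm, ← hI]
            refine le_sup_of_le_left (Ideal.mul_mono_right ?_)
            rw [Ideal.span_singleton_le_iff_mem]
            exact Ideal.pow_mem_pow ha _

/-- Expansion step: if `b^(n+1) ≡ j` modulo nilpotents with `j ∈ t (b,t)^n`, then some power
`b^(m+1)` lies in `t (b,t)^m`. -/
lemma expand (b t j : A) (n : ℕ) (hj : j ∈ span {t} * (span {b, t} : Ideal A) ^ n)
    (hnil : IsNilpotent (b ^ (n + 1) - j)) :
    ∃ m, b ^ (m + 1) ∈ span {t} * (span {b, t} : Ideal A) ^ m := by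
  obtain ⟨N, hN⟩ := hnil
  set I : Ideal A := span {b, t} with hIdef
  have hb : b ∈ I := Ideal.mem_span_pair.mpr ⟨1, 0, by simp⟩
  have ht : t ∈ I := Ideal.mem_span_pair.mpr ⟨0, 1, by simp⟩
  have hx : b ^ (n + 1) ∈ I ^ (n + 1) := Ideal.pow_mem_pow hb _
  have hjI : j ∈ I ^ (n + 1) := by
    have : span {t} * I ^ n ≤ I ^ (n + 1) := by
      rw [pow_succ']
      exact Ideal.mul_mono_left ((Ideal.span_singleton_le_iff_mem _).mpr ht)
    exact this hj
  have hy : b ^ (n + 1) - j ∈ I ^ (n + 1) := sub_mem hx hjI
  have hN' : (b ^ (n + 1) - j) ^ (N + 1) = 0 := by rw [pow_succ, hN, zero_mul]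
  have hgeom := Commute.geom_sum₂_mul (Commute.all (b ^ (n + 1)) (b ^ (n + 1) - j)) (N + 1)
  rw [hN', sub_zero, sub_sub_cancel] at hgeom
  refine ⟨(n + 1) * N + n, ?_⟩
  have hw : (∑ i ∈ Finset.range (N + 1), (b ^ (n + 1)) ^ i * (b ^ (n + 1) - j) ^ (N + 1 - 1 - i)) ∈
      (I ^ (n + 1)) ^ N := by
    refine sum_mem fun i hi => ?_
    have hi' : i ≤ N := Nat.lt_succ_iff.mp (Finset.mem_range.mp hi)
    have : (I ^ (n + 1)) ^ N = (I ^ (n + 1)) ^ i * (I ^ (n + 1)) ^ (N + 1 - 1 - i) := by
      rw [← pow_add]; congr 1; omega
    rw [this]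
    exact Ideal.mul_mem_mul (Ideal.pow_mem_pow hx _) (Ideal.pow_mem_pow hy _)
  have hfin : b ^ ((n + 1) * N + n + 1) = (b ^ (n + 1)) ^ (N + 1) := by
    rw [← pow_mul]; ring_nf
  rw [hfin, ← hgeom]
  have : span {t} * I ^ ((n + 1) * N + n) = (I ^ (n + 1)) ^ N * (span {t} * I ^ n) := by
    rw [← pow_mul, pow_add]; ring
  rw [this]
  exact Ideal.mul_mem_mul hw hj

end ideals

/-- Integrality from the reduction condition. -/
lemma isIntegral_of_pow_mem {A K : Type*} [CommRing A] [IsDomain A] [Field K] [Algebra A K]
    [IsFractionRing A K] (a s : A) (hs : s ≠ 0) (m : ℕ)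
    (h : a ^ (m + 1) ∈ span {s} * (span {a, s} : Ideal A) ^ m) :
    IsIntegral A (algebraMap A K a / algebraMap A K s) := by
  set L : Ideal A := (span {a, s} : Ideal A) ^ m with hL
  have hLs : span {a} * L ≤ span {s} * L := by
    refine (aux a s m).trans (sup_le le_rfl ?_)
    rw [Ideal.span_singleton_le_iff_mem]
    exact h
  have hsK : algebraMap A K s ≠ 0 := by
    simpa using (IsFractionRing.injective A K).ne hs
  have hsL : s ^ m ∈ L := Ideal.pow_mem_pow (Ideal.mem_span_pair.mpr ⟨0, 1, by simp⟩) _
  refine isIntegral_of_smul_mem_submodule (M := K) (Submodule.map (Algebra.linearMap A K) L) ?_ ?_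
    _ ?_
  · intro hbot
    have : algebraMap A K (s ^ m) ∈ Submodule.map (Algebra.linearMap A K) L := ⟨s ^ m, hsL, rfl⟩
    rw [hbot, Submodule.mem_bot] at this
    have : s ^ m = 0 := (IsFractionRing.injective A K) (by simpa using this)
    exact hs (pow_eq_zero_iff (M₀ := A) (by
      intro hm; subst hm; simp at this) |>.mp this)
  · refine Submodule.FG.map _ ?_
    exact Ideal.FG.pow (Submodule.fg_span (Set.toFinite {a, s}))
  · rintro _ ⟨t, ht, rfl⟩
    have hat : a * t ∈ span {s} * L := hLs (Ideal.mul_mem_mul (Ideal.mem_span_singleton_self a) ht)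
    obtain ⟨t', ht', hEq⟩ := Ideal.mem_span_singleton_mul.mp hat
    refine ⟨t', ht', ?_⟩
    simp only [Algebra.linearMap_apply, smul_eq_mul]
    rw [div_mul_eq_mul_div, eq_div_iff hsK, ← map_mul, ← map_mul, mul_comm t' s, hEq]

/-- Let A be a domain with fraction field K, B a faithfully flat A-algebra, C = B_red and R the total
ring of fractions of C. Then A → C is injective with nonzero elements going to non-zero-divisors, so
that K embeds in R, and an element of K is integral over C in R if and only if it is integral over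
A. -/
theorem result {A B : Type u} [CommRing A] [IsDomain A]
    [CommRing B] [Algebra A B] [Module.FaithfullyFlat A B] :
    Function.Injective (algebraMap A (B ⧸ nilradical B)) ∧
    (∀ a : A, a ≠ 0 → algebraMap A (B ⧸ nilradical B) a ∈ nonZeroDivisors (B ⧸ nilradical B)) ∧
    ∀ (R : Type u) [CommRing R] [Algebra (B ⧸ nilradical B) R] [IsFractionRing (B ⧸ nilradical B) R]
      [Algebra A R] [IsScalarTower A (B ⧸ nilradical B) R] [Algebra (FractionRing A) R]
      [IsScalarTower A (FractionRing A) R] (x : FractionRing A),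
      IsIntegral (B ⧸ nilradical B) (algebraMap (FractionRing A) R x) ↔ IsIntegral A x := by
  have hinjAB : Function.Injective (algebraMap A B) := FaithfulSMul.algebraMap_injective A B
  have hφ : ∀ a : A, algebraMap A (B ⧸ nilradical B) a =
      Ideal.Quotient.mk (nilradical B) (algebraMap A B a) := fun a => rfl
  have hreg : ∀ a : A, a ≠ 0 → ∀ b : B, algebraMap A B a * b = 0 → b = 0 := by
    intro a ha b hb
    have h1 : IsSMulRegular A a := (IsRegular.of_ne_zero ha).left.isSMulRegular
    have h2 : IsSMulRegular B (algebraMap A B a) := IsSMulRegular.of_flat h1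
    exact h2 (by simpa using hb)
  have hnzd : ∀ a : A, a ≠ 0 →
      algebraMap A (B ⧸ nilradical B) a ∈ nonZeroDivisors (B ⧸ nilradical B) := by
    intro a ha
    rw [mem_nonZeroDivisors_iff_right]
    intro c hc
    obtain ⟨b, rfl⟩ := Ideal.Quotient.mk_surjective c
    rw [hφ, ← map_mul, Ideal.Quotient.eq_zero_iff_mem, mem_nilradical] at hc
    obtain ⟨n, hn⟩ := hc
    rw [Ideal.Quotient.eq_zero_iff_mem, mem_nilradical]
    refine ⟨n, ?_⟩
    rw [mul_pow, ← map_pow] at hn
    apply hreg (a ^ n) (pow_ne_zero n ha)
    rw [mul_comm]; exact hn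
  refine ⟨?_, hnzd, ?_⟩
  · rw [injective_iff_map_eq_zero]
    intro a ha
    rw [hφ, Ideal.Quotient.eq_zero_iff_mem, mem_nilradical] at ha
    obtain ⟨n, hn⟩ := ha
    rw [← map_pow] at hn
    have : a ^ n = 0 := hinjAB (by rw [hn, map_zero])
    exact IsNilpotent.eq_zero ⟨n, this⟩
  · intro R _ _ _ _ _ _ _ x
    constructor
    · intro hx
      obtain ⟨a, s, hs, rfl⟩ := IsFractionRing.div_surjective (A := A) x
      have hs0 : s ≠ 0 := nonZeroDivisors.ne_zero hs
      have hBnt : Nontrivial B := hinjAB.nontrivial
      have hCnt : Nontrivial (B ⧸ nilradical B) := by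
        rw [Ideal.Quotient.nontrivial_iff, Ideal.ne_top_iff_one, mem_nilradical]
        exact fun ⟨k, hk⟩ => one_ne_zero (α := B) (by simpa using hk)
      set K := FractionRing A
      set C := B ⧸ nilradical B
      have hψ : Function.Injective (algebraMap C R) := IsFractionRing.injective C R
      set y := algebraMap K R (algebraMap A K a / algebraMap A K s) with hy
      have hsK : algebraMap A K s ≠ 0 := by
        simpa using (IsFractionRing.injective A K).ne hs0
      have hrel : algebraMap C R (algebraMap A C s) * y = algebraMap C R (algebraMap A C a) := by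
        rw [← IsScalarTower.algebraMap_apply A C R, ← IsScalarTower.algebraMap_apply A C R,
          IsScalarTower.algebraMap_apply A K R, IsScalarTower.algebraMap_apply A K R, hy, ← map_mul,
          mul_div_cancel₀ _ hsK]
      obtain ⟨p, hpm, hp⟩ := hx
      set p' := p * X with hp'
      have hp'm : p'.Monic := hpm.mul monic_X
      have hp'0 : eval₂ (algebraMap C R) y p' = 0 := by rw [hp', eval₂_mul, hp, zero_mul]
      set n := p.natDegree with hn
      have hp'd : p'.natDegree = n + 1 := by
        rw [hp', hpm.natDegree_mul monic_X, natDegree_X]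
      set q := scaleRoots p' (algebraMap A C s) with hq
      have hqm : q.Monic := (monic_scaleRoots_iff _).mpr hp'm
      have hqd : q.natDegree = n + 1 := by rw [hq, natDegree_scaleRoots, hp'd]
      have hq0 : eval (algebraMap A C a) q = 0 := by
        apply hψ
        rw [map_zero, ← eval₂_at_apply, ← hrel, hq, scaleRoots_eval₂_mul, hp'0, mul_zero]
      -- the key membership in `C`
      have hmemC : (algebraMap A C a) ^ (n + 1) ∈
          span {algebraMap A C s} * (span {algebraMap A C a, algebraMap A C s} : Ideal C) ^ n := by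
        rw [eval_eq_sum_range, hqd, Finset.sum_range_succ, ← hqd, hqm.coeff_natDegree, hqd,
          one_mul] at hq0
        rw [eq_neg_of_add_eq_zero_right hq0]
        apply neg_mem
        refine sum_mem fun i hi => ?_
        have hi' : i ≤ n := Nat.lt_succ_iff.mp (Finset.mem_range.mp hi)
        rw [hq, coeff_scaleRoots, hp'd]
        have hI : (span {algebraMap A C a, algebraMap A C s} : Ideal C) ^ n =
            (span {algebraMap A C a, algebraMap A C s} : Ideal C) ^ (n - i) *
            (span {algebraMap A C a, algebraMap A C s} : Ideal C) ^ i := by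
          rw [← pow_add]; congr 1; omega
        have he : p'.coeff i * algebraMap A C s ^ (n + 1 - i) * algebraMap A C a ^ i =
            p'.coeff i * (algebraMap A C s * (algebraMap A C s ^ (n - i) * algebraMap A C a ^ i)) := by
          have : n + 1 - i = (n - i) + 1 := by omega
          rw [this, pow_succ]; ring
        rw [he]
        apply Ideal.mul_mem_left
        rw [hI]
        exact Ideal.mul_mem_mul (Ideal.mem_span_singleton_self _)
          (Ideal.mul_mem_mul
            (Ideal.pow_mem_pow (Ideal.mem_span_pair.mpr ⟨0, 1, by simp⟩) _)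
            (Ideal.pow_mem_pow (Ideal.mem_span_pair.mpr ⟨1, 0, by simp⟩) _))
      -- lift to `B`
      have hmap : Ideal.map (Ideal.Quotient.mk (nilradical B))
          (span {algebraMap A B s} * (span {algebraMap A B a, algebraMap A B s} : Ideal B) ^ n) =
          span {algebraMap A C s} * (span {algebraMap A C a, algebraMap A C s} : Ideal C) ^ n := by
        rw [Ideal.map_mul, Ideal.map_pow, Ideal.map_span, Ideal.map_span, Set.image_singleton,
          Set.image_pair]
        rfl
      rw [← hmap] at hmemC
      obtain ⟨j, hj, hjeq⟩ :=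
        (Ideal.mem_map_iff_of_surjective _ Ideal.Quotient.mk_surjective).mp hmemC
      have hnil : IsNilpotent ((algebraMap A B a) ^ (n + 1) - j) := by
        rw [← mem_nilradical, ← Ideal.Quotient.eq_zero_iff_mem, map_sub, map_pow, hjeq]
        exact sub_self _
      obtain ⟨m, hm⟩ := expand _ _ j n hj hnil
      have hmapA : Ideal.map (algebraMap A B) (span {s} * (span {a, s} : Ideal A) ^ m) =
          span {algebraMap A B s} * (span {algebraMap A B a, algebraMap A B s} : Ideal B) ^ m := by
        rw [Ideal.map_mul, Ideal.map_pow, Ideal.map_span, Ideal.map_span, Set.image_singleton,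
          Set.image_pair]
      have hmA : a ^ (m + 1) ∈ span {s} * (span {a, s} : Ideal A) ^ m := by
        rw [← Ideal.comap_map_eq_self_of_faithfullyFlat (B := B) (span {s} * (span {a, s} : Ideal A) ^ m),
          Ideal.mem_comap, hmapA, map_pow]
        exact hm
      exact isIntegral_of_pow_mem a s hs0 m hmA
    · intro hx
      exact (hx.algebraMap (B := R)).tower_top

end Groth.Agent.S4590
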