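import Groth.Statements.S4593
import Mathlib.CategoryTheory.Limits.ConcreteCategory.Basic
import Mathlib.RingTheory.Spectrum.Prime.RingHom

set_option autoImplicit false
universe u
open CategoryTheory CategoryTheory.Limits AlgebraicGeometry
open EGA41

namespace Groth.Agent.S4593

section

variable {I : Type u} [SmallCategory I] [IsFiltered I]
    (B : CommRingCat.{u}) (D : I ⥤ CommRingCat.{u}) (s : (Functor.const I).obj B ⟶ D) (c : Cocone D)

omit [IsFiltered I] in
theorem s_map {i j : I} (f : i ⟶ j) : s.app i ≫ D.map f = s.app j := by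
  have := s.naturality f
  simpa using this.symm

theorem comp_eq (i j : I) : s.app i ≫ c.ι.app i = s.app j ≫ c.ι.app j := by
  have h1 : s.app i ≫ c.ι.app i = s.app (IsFiltered.max i j) ≫ c.ι.app (IsFiltered.max i j) := by
    rw [← s_map B D s (IsFiltered.leftToMax i j), Category.assoc, c.w]
  have h2 : s.app j ≫ c.ι.app j = s.app (IsFiltered.max i j) ≫ c.ι.app (IsFiltered.max i j) := by
    rw [← s_map B D s (IsFiltered.rightToMax i j), Category.assoc, c.w]
  rw [h1, h2]

omit [IsFiltered I] in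
theorem map_mem {p : Ideal B} {i j : I} (f : i ⟶ j) {y : D.obj i}
    (hy : y ∈ p.map (s.app i).hom) : D.map f y ∈ p.map (s.app j).hom := by
  have h1 : (D.map f).hom y ∈ (p.map (s.app i).hom).map (D.map f).hom := Ideal.mem_map_of_mem _ hy
  rw [Ideal.map_map, ← CommRingCat.hom_comp, s_map B D s f] at h1
  exact h1

variable (hc : IsColimit c)
include hc

/-- Every element of the extension of `p` to the colimit comes from the extension of `p`
to some stage. -/
theorem exists_stage_of_mem_map (p : Ideal B) (i₀ : I) (x : c.pt)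
    (hx : x ∈ p.map (s.app i₀ ≫ c.ι.app i₀).hom) :
    ∃ (k : I) (y : D.obj k), y ∈ p.map (s.app k).hom ∧ c.ι.app k y = x := by
  unfold Ideal.map at hx
  induction hx using Submodule.span_induction with
  | mem x hx =>
    obtain ⟨b, hb, rfl⟩ := hx
    exact ⟨i₀, (s.app i₀).hom b, Ideal.mem_map_of_mem _ hb, rfl⟩
  | zero => exact ⟨i₀, 0, Ideal.zero_mem _, map_zero _⟩
  | add x₁ x₂ _ _ ih₁ ih₂ =>
    obtain ⟨k₁, y₁, hy₁, rfl⟩ := ih₁
    obtain ⟨k₂, y₂, hy₂, rfl⟩ := ih₂
    refine ⟨IsFiltered.max k₁ k₂, D.map (IsFiltered.leftToMax k₁ k₂) y₁ +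
      D.map (IsFiltered.rightToMax k₁ k₂) y₂,
      Ideal.add_mem _ (map_mem B D s _ hy₁) (map_mem B D s _ hy₂), ?_⟩
    rw [map_add]
    congr 1
    · exact ConcreteCategory.congr_hom (c.w (IsFiltered.leftToMax k₁ k₂)) y₁
    · exact ConcreteCategory.congr_hom (c.w (IsFiltered.rightToMax k₁ k₂)) y₂
  | smul a x _ ih =>
    obtain ⟨k, y, hy, rfl⟩ := ih
    obtain ⟨j, a', rfl⟩ := Concrete.isColimit_exists_rep D hc a
    refine ⟨IsFiltered.max j k, D.map (IsFiltered.leftToMax j k) a' *
      D.map (IsFiltered.rightToMax j k) y,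
      Ideal.mul_mem_left _ _ (map_mem B D s _ hy), ?_⟩
    rw [map_mul, smul_eq_mul]
    congr 1
    · exact ConcreteCategory.congr_hom (c.w (IsFiltered.leftToMax j k)) a'
    · exact ConcreteCategory.congr_hom (c.w (IsFiltered.rightToMax j k)) y

theorem key (i₀ : I) (p : PrimeSpectrum B)
    (hp : ∀ i, p ∈ Set.range (PrimeSpectrum.comap (s.app i).hom)) :
    p ∈ Set.range (PrimeSpectrum.comap (s.app i₀ ≫ c.ι.app i₀).hom) := by
  rw [PrimeSpectrum.mem_range_comap_iff]
  refine le_antisymm ?_ Ideal.le_comap_map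
  intro b hb
  rw [Ideal.mem_comap] at hb
  obtain ⟨k, y, hy, hyb⟩ := exists_stage_of_mem_map B D s c hc p.asIdeal i₀ _ hb
  have hyb' : c.ι.app k y = c.ι.app k ((s.app k).hom b) := by
    rw [hyb, comp_eq B D s c i₀ k]; rfl
  obtain ⟨k', f, g, hfg⟩ := Concrete.isColimit_exists_of_rep_eq D hc _ _ hyb'
  have h1 : D.map f y ∈ p.asIdeal.map (s.app k').hom := map_mem B D s f hy
  have h2 : D.map g ((s.app k).hom b) = (s.app k').hom b := by
    rw [← s_map B D s g]; rfl
  rw [hfg, h2] at h1
  have hk' := hp k'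
  rw [PrimeSpectrum.mem_range_comap_iff] at hk'
  rw [← hk']
  exact h1

end

/-- Let B be a ring, (A_i) a filtered system of B-algebras with colimit A. The image of Spec A in Spec B
is the intersection of the images of the Spec A_i. -/
theorem result {I : Type u} [SmallCategory I] [IsFiltered I]
    (B : CommRingCat.{u}) (D : I ⥤ CommRingCat.{u}) (s : (Functor.const I).obj B ⟶ D) (c : Cocone D)
    (hc : IsColimit c) (i₀ : I) :
    Set.range (Spec.map (s.app i₀ ≫ c.ι.app i₀)).base = ⋂ i : I, Set.range (Spec.map (s.app i)).base := by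
  apply Set.Subset.antisymm
  · rintro x ⟨y, rfl⟩
    rw [Set.mem_iInter]
    intro i
    refine ⟨Spec.map (c.ι.app i) y, ?_⟩
    rw [comp_eq B D s c i₀ i, Spec.map_comp]
    rfl
  · intro p hp
    rw [Set.mem_iInter] at hp
    exact key B D s c hc i₀ p (fun i => hp i)

end Groth.Agent.S4593
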