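import Groth.Statements.S4597
import Groth.Agent.S4596
import Mathlib.AlgebraicGeometry.PullbackCarrier

set_option autoImplicit false
universe u
open AlgebraicGeometry CategoryTheory CategoryTheory.Limits
open EGA41

namespace Groth.Agent.S4597

/-- Let f : X → Y, g : Y' → Y and f' : X ×_Y Y' → Y' the base change. If g is quasi-compact surjective
and f' quasi-compact, f is quasi-compact; if g is surjective and f' dominant, f is dominant. -/
theorem result {X Y Y' : Scheme.{u}} (f : X ⟶ Y)
    (g : Y' ⟶ Y) [Surjective g] :
    (QuasiCompact g → QuasiCompact (pullback.snd f g) → QuasiCompact f) ∧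
    (IsDominant (pullback.snd f g) → IsDominant f) := by
  have hsurj : Surjective (pullback.fst f g) := inferInstance
  refine ⟨fun hg hf' => ?_, fun hf' => ?_⟩
  · have : QuasiCompact (pullback.fst f g ≫ f) := by
      rw [pullback.condition]; infer_instance
    exact Groth.Agent.S4596.result (pullback.fst f g) f
  · have : IsDominant (pullback.fst f g ≫ f) := by
      rw [pullback.condition]; infer_instance
    exact IsDominant.of_comp (pullback.fst f g) f

end Groth.Agent.S4597
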