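import Groth.Statements.S4598
import Groth.Agent.S4596
import Mathlib.AlgebraicGeometry.PullbackCarrier
import Mathlib.CategoryTheory.MorphismProperty.Descent

set_option autoImplicit false
universe u
open AlgebraicGeometry CategoryTheory CategoryTheory.Limits
open EGA41

namespace Groth.Agent.S4598

/-- Quasi-compactness descends along quasi-compact surjective morphisms. -/
theorem quasiCompact_descendsAlong :
    MorphismProperty.DescendsAlong (@QuasiCompact : MorphismProperty Scheme.{u})
      (@Surjective ⊓ @QuasiCompact : MorphismProperty Scheme.{u}) where
  of_isPullback {A X Y Z fst snd f g} h hf hfst := by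
    have hf1 : Surjective f := hf.1
    have hf2 : QuasiCompact f := hf.2
    have hfst' : QuasiCompact fst := hfst
    have : Surjective snd := MorphismProperty.of_isPullback h hf1
    have : QuasiCompact (snd ≫ g) := by
      rw [← h.w]; infer_instance
    exact Groth.Agent.S4596.result snd g

/-- If g : Y' → Y is quasi-compact and surjective and the base change X ×_Y Y' → Y' of f : X → Y is
quasi-separated, then f is quasi-separated. -/
theorem result {X Y Y' : Scheme.{u}} (f : X ⟶ Y)
    (g : Y' ⟶ Y) [QuasiCompact g] [Surjective g] [QuasiSeparated (pullback.snd f g)] :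
    QuasiSeparated f := by
  have := quasiCompact_descendsAlong.{u}
  have h1 : (MorphismProperty.diagonal @QuasiCompact) (pullback.snd f g) := by
    rw [← quasiSeparated_eq_diagonal_is_quasiCompact]; infer_instance
  have h2 : (@Surjective ⊓ @QuasiCompact : MorphismProperty Scheme.{u}) g :=
    ⟨inferInstance, inferInstance⟩
  have h3 := MorphismProperty.of_pullback_snd_of_descendsAlong
    (P := MorphismProperty.diagonal @QuasiCompact)
    (Q := (@Surjective ⊓ @QuasiCompact : MorphismProperty Scheme.{u})) h2 h1
  rw [quasiSeparated_eq_diagonal_is_quasiCompact]
  exact h3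

end Groth.Agent.S4598
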