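import Groth.Statements.S4601
import Mathlib.LinearAlgebra.TensorProduct.RightExactness
import Mathlib.RingTheory.Flat.Stability
import Mathlib.RingTheory.Flat.Localization
import Mathlib.LinearAlgebra.Basis.VectorSpace
import Mathlib.LinearAlgebra.FreeModule.Basic
-- import your own Groth.Agent.* helpers here

set_option autoImplicit false
universe u
open TensorProduct
open CAlg

namespace Groth.Agent.S4601

/-- Let A be a domain with fraction field K, B a Noetherian A-algebra which is flat over A, K' an
extension field of K, B₁ = B_red and R its total ring of fractions. For every sub-A-algebra A' of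
K', the map (A' ⊗_A B)_red → (K' ⊗_A R)_red is injective, i.e. an element of A' ⊗_A B with nilpotent
image in K' ⊗_A R is nilpotent. -/
theorem result {A B K' R : Type u} [CommRing A]
    [IsDomain A] [CommRing B] [Algebra A B] [IsNoetherianRing B] [Module.Flat A B]
    [Field K'] [Algebra A K'] [Algebra (FractionRing A) K'] [IsScalarTower A (FractionRing A) K']
    [CommRing R] [Algebra (B ⧸ nilradical B) R] [IsFractionRing (B ⧸ nilradical B) R]
    [Algebra B R] [IsScalarTower B (B ⧸ nilradical B) R] [Algebra A R] [IsScalarTower A B R]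
    (A' : Subalgebra A K') (x : ↥A' ⊗[A] B)
    (hx : IsNilpotent (Algebra.TensorProduct.map A'.val (IsScalarTower.toAlgHom A B R) x)) :
    IsNilpotent x := by
  have hflat : Module.Flat A K' := Module.Flat.trans A (FractionRing A) K'
  have htower : IsScalarTower A (B ⧸ nilradical B) R := by
    refine IsScalarTower.of_algebraMap_eq fun a => ?_
    rw [IsScalarTower.algebraMap_apply A B R, IsScalarTower.algebraMap_apply B (B ⧸ nilradical B) R,
      IsScalarTower.algebraMap_apply A B (B ⧸ nilradical B)]
  let α : ↥A' ⊗[A] B →ₐ[A] K' ⊗[A] B := Algebra.TensorProduct.map A'.val (AlgHom.id A B)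
  let π : B →ₐ[A] B ⧸ nilradical B := Ideal.Quotient.mkₐ A (nilradical B)
  let β : K' ⊗[A] B →ₐ[A] K' ⊗[A] (B ⧸ nilradical B) :=
    Algebra.TensorProduct.map (AlgHom.id A K') π
  let ι : (B ⧸ nilradical B) →ₐ[A] R := IsScalarTower.toAlgHom A (B ⧸ nilradical B) R
  let γ : K' ⊗[A] (B ⧸ nilradical B) →ₐ[A] K' ⊗[A] R :=
    Algebra.TensorProduct.map (AlgHom.id A K') ι
  have hcomp : Algebra.TensorProduct.map A'.val (IsScalarTower.toAlgHom A B R) =
      (γ.comp β).comp α := by
    apply Algebra.TensorProduct.ext'
    intro a b
    simp only [α, β, γ, π, ι, AlgHom.comp_apply, Algebra.TensorProduct.map_tmul, AlgHom.id_apply,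
      IsScalarTower.coe_toAlgHom', Ideal.Quotient.mkₐ_eq_mk]
    rw [IsScalarTower.algebraMap_apply B (B ⧸ nilradical B) R]
    rfl
  have hα : Function.Injective α := by
    have := Module.Flat.rTensor_preserves_injective_linearMap (M := B) A'.val.toLinearMap
      Subtype.val_injective
    exact this
  have hγ : Function.Injective γ := by
    have := Module.Flat.lTensor_preserves_injective_linearMap (M := K') ι.toLinearMap
      (IsFractionRing.injective (B ⧸ nilradical B) R)
    exact this
  have hβ : ∀ z : K' ⊗[A] B, β z = 0 → IsNilpotent z := by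
    intro z hz
    have hker : z ∈ RingHom.ker β := hz
    rw [Algebra.TensorProduct.lTensor_ker _ (Ideal.Quotient.mkₐ_surjective A (nilradical B))] at hker
    have hle : Ideal.map (Algebra.TensorProduct.includeRight : B →ₐ[A] K' ⊗[A] B)
        (RingHom.ker π) ≤ nilradical (K' ⊗[A] B) := by
      rw [Ideal.map_le_iff_le_comap]
      intro b hb
      have hb' : b ∈ nilradical B := by
        have : (Ideal.Quotient.mk (nilradical B)) b = 0 := hb
        exact Ideal.Quotient.eq_zero_iff_mem.1 this
      exact (mem_nilradical.1 hb').map _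
    exact mem_nilradical.1 (hle hker)
  obtain ⟨n, hn⟩ := hx
  rw [hcomp, ← map_pow] at hn
  have h1 : β (α (x ^ n)) = 0 := hγ (by simpa using hn)
  obtain ⟨m, hm⟩ := hβ _ h1
  rw [← map_pow, ← pow_mul] at hm
  exact ⟨n * m, hα (by simpa using hm)⟩

end Groth.Agent.S4601
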