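import Groth.Statements.S4602
-- import your own Groth.Agent.* helpers here
import Groth.Agent.Lib.H14QFCompl5
import Groth.Agent.Lib.AdicFSGeomRegH44
import Groth.Agent.Lib.H87GRingDed
import Groth.Agent.Lib.H87Serre2
import Groth.Agent.Lib.AdicDim

set_option autoImplicit false
set_option linter.style.haveILetI false
universe u
open IsLocalRing
open EGA41

namespace Groth.Agent.S4602

open TensorProduct EGA4

/-- injectivity of the local ring hom between localizations of domains -/
theorem localRingHom_injective {A B : Type u} [CommRing A] [CommRing B] [IsDomain B] [Algebra A B]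
    (hinj : Function.Injective (algebraMap A B)) (n : Ideal B) [n.IsPrime] :
    Function.Injective (Localization.localRingHom (Ideal.comap (algebraMap A B) n) n
      (algebraMap A B) rfl) := by
  rw [injective_iff_map_eq_zero]
  intro x hx
  obtain ⟨⟨a, s⟩, rfl⟩ := IsLocalization.mk'_surjective (Ideal.comap (algebraMap A B) n).primeCompl x
  rw [Localization.localRingHom_mk'] at hx
  rw [IsLocalization.mk'_eq_zero_iff] at hx ⊢
  obtain ⟨t, ht⟩ := hx
  have ht0 : (t : B) ≠ 0 := fun h => t.2 (by rw [h]; exact n.zero_mem)
  have : algebraMap A B a = 0 := by
    rcases mul_eq_zero.mp ht with h | h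
    · exact absurd h ht0
    · exact h
  have ha : a = 0 := hinj (by rw [this, map_zero])
  exact ⟨1, by rw [ha, mul_zero]⟩

/-- The generic formal fibre of a local ring of a finite domain over a regular local ring of
characteristic zero is geometrically regular. -/
theorem geomRegular_formalFibre_bot {A B : Type u} [CommRing A] [IsRegularLocalRing A] [CharZero A]
    [CommRing B] [IsDomain B] [Algebra A B] [Module.Finite A B]
    (hinj : Function.Injective (algebraMap A B)) (n : Ideal B) [n.IsPrime] :
    CAlg.IsGeometricallyRegular (⊥ : Ideal (Localization.AtPrime n)).ResidueField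
      (formalFibre (Localization.AtPrime n) ⊥) := by
  haveI : IsDomain A := hinj.isDomain (algebraMap A B)
  haveI : IsNoetherianRing B := isNoetherian_of_tower A (isNoetherian_of_isNoetherianRing_of_finite A B)
  letI := (Localization.localRingHom (Ideal.comap (algebraMap A B) n) n (algebraMap A B) rfl).toAlgebra
  haveI := Groth.Agent.Lib.H14AdicLocal.isLocalHom_localRingHom A B n
  haveI := Groth.Agent.Lib.H14AdicLocal.isScalarTower_localRingHom A B n
  haveI := Groth.Agent.Lib.H14QFCompl.essFiniteType_localRingHom A B n
  haveI := Groth.Agent.Lib.H14QFCompl.finite_residueField_localRingHom A B n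
  have hrad := Groth.Agent.Lib.H14QFCompl.maximalIdeal_le_radical_localRingHom A B n
  -- the base: `R = A_p`, regular local
  haveI hRreg : IsRegularLocalRing (Localization.AtPrime (Ideal.comap (algebraMap A B) n)) :=
    Groth.Agent.Lib.H87Serre2.isRegularLocalRing_localization _
  haveI hCplreg : IsRegularLocalRing (Cpl (Localization.AtPrime (Ideal.comap (algebraMap A B) n))) :=
    (Groth.Agent.Lib.AdicDim.isRegularLocalRing_adicCompletion_iff _).1 hRreg
  haveI : IsRegularRing (Cpl (Localization.AtPrime (Ideal.comap (algebraMap A B) n))) :=
    Groth.Agent.Lib.H87Serre2.isRegularRing_of_isRegularLocalRing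
  haveI : IsRegularRing ((⊥ : Ideal (Localization.AtPrime (Ideal.comap (algebraMap A B) n))).Fiber
      (Cpl (Localization.AtPrime (Ideal.comap (algebraMap A B) n)))) :=
    Groth.Agent.Lib.H87GRingDed.isRegularRing_fiber_of_eq_bot _ _ _ rfl
  -- characteristic zero of the residue field at `⊥`
  haveI : CharZero (⊥ : Ideal (Localization.AtPrime (Ideal.comap (algebraMap A B) n))).ResidueField := by
    have h1 : Function.Injective (algebraMap A (Localization.AtPrime (Ideal.comap (algebraMap A B) n))) :=
      IsLocalization.injective _ (Ideal.primeCompl_le_nonZeroDivisors (Ideal.comap (algebraMap A B) n))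
    have h2 : Function.Injective (algebraMap (Localization.AtPrime (Ideal.comap (algebraMap A B) n))
        (⊥ : Ideal (Localization.AtPrime (Ideal.comap (algebraMap A B) n))).ResidueField) := by
      rw [injective_iff_map_eq_zero]
      intro x hx
      rw [Ideal.algebraMap_residueField_eq_zero] at hx
      exact hx
    have h3 : Function.Injective
      ((algebraMap (Localization.AtPrime (Ideal.comap (algebraMap A B) n))
        (⊥ : Ideal (Localization.AtPrime (Ideal.comap (algebraMap A B) n))).ResidueField).comp
          (algebraMap A (Localization.AtPrime (Ideal.comap (algebraMap A B) n)))) := by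
      rw [RingHom.coe_comp]
      exact h2.comp h1
    exact charZero_of_injective_ringHom h3
  have hbase := Groth.Agent.Lib.H87GRingDed.geomRegular_of_charZero
    (⊥ : Ideal (Localization.AtPrime (Ideal.comap (algebraMap A B) n))).ResidueField
    ((⊥ : Ideal (Localization.AtPrime (Ideal.comap (algebraMap A B) n))).Fiber
      (Cpl (Localization.AtPrime (Ideal.comap (algebraMap A B) n))))
  refine Groth.Agent.Lib.H14QFCompl.formalFibre_geomRegular_of_quasiFinite
    (Localization.AtPrime (Ideal.comap (algebraMap A B) n)) (Localization.AtPrime n) hrad ⊥ ⊥ ?_ hbase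
  rw [RingHom.algebraMap_toAlgebra]
  exact Ideal.comap_bot_of_injective _ (localRingHom_injective hinj n)

attribute [local instance] Algebra.TensorProduct.rightAlgebra in
/-- If the fibre over `⊥` of an `R`-algebra `S` is regular, then `S_q` is regular for every prime `q`
of `S` contracting to `⊥`. -/
theorem isRegularLocalRing_localization_of_fiber_bot (R S : Type u) [CommRing R] [IsDomain R]
    [CommRing S] [Algebra R S] (hF : IsRegularRing ((⊥ : Ideal R).Fiber S))
    (q : Ideal S) [q.IsPrime] (hq : q.comap (algebraMap R S) = ⊥) :
    IsRegularLocalRing (Localization.AtPrime q) := by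
  have h1 : maximalIdeal (Localization (⊥ : Ideal R).primeCompl) = ⊥ := by
    have := Localization.AtPrime.map_eq_maximalIdeal (I := (⊥ : Ideal R))
    rw [← this, eq_bot_iff, Ideal.map_le_iff_le_comap]
    exact bot_le
  have h2 : (maximalIdeal (Localization (⊥ : Ideal R).primeCompl)).map
      (algebraMap (Localization (⊥ : Ideal R).primeCompl)
        (Localization (Algebra.algebraMapSubmonoid S (⊥ : Ideal R).primeCompl))) = ⊥ := by
    rw [h1, Ideal.map_bot]
  let e1 := (Ideal.Fiber.algEquivQuotient (S := S) (⊥ : Ideal R)).toRingEquiv
  let e2 := Ideal.quotEquivOfEq h2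
  let e3 := RingEquiv.quotientBot (Localization (Algebra.algebraMapSubmonoid S (⊥ : Ideal R).primeCompl))
  haveI : IsRegularRing (Localization (Algebra.algebraMapSubmonoid S (⊥ : Ideal R).primeCompl)) :=
    IsRegularRing.of_ringEquiv ((e1.trans e2).trans e3)
  have hM : Algebra.algebraMapSubmonoid S (⊥ : Ideal R).primeCompl ≤ q.primeCompl := by
    rintro _ ⟨r, hr, rfl⟩ hmem
    apply hr
    have : r ∈ q.comap (algebraMap R S) := hmem
    rw [hq] at this
    exact this
  letI : Algebra (Localization (Algebra.algebraMapSubmonoid S (⊥ : Ideal R).primeCompl))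
      (Localization.AtPrime q) :=
    IsLocalization.localizationAlgebraOfSubmonoidLe _ _ _ q.primeCompl hM
  haveI : IsScalarTower S (Localization (Algebra.algebraMapSubmonoid S (⊥ : Ideal R).primeCompl))
      (Localization.AtPrime q) :=
    IsLocalization.localization_isScalarTower_of_submonoid_le _ _ _ q.primeCompl hM
  haveI : IsLocalization (q.primeCompl.map
      (algebraMap S (Localization (Algebra.algebraMapSubmonoid S (⊥ : Ideal R).primeCompl))))
      (Localization.AtPrime q) :=
    IsLocalization.isLocalization_of_submonoid_le _ _ _ q.primeCompl hM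
  haveI : IsRegularRing (Localization.AtPrime q) :=
    Groth.Agent.Lib.H14GeomP.isRegularRing_of_isLocalization (q.primeCompl.map
      (algebraMap S (Localization (Algebra.algebraMapSubmonoid S (⊥ : Ideal R).primeCompl)))) _
  exact IsRegularLocalRing.of_isRegularRing_of_isLocalRing _

open EGA41 in
/-- Let A be a regular local ring with fraction field of characteristic zero, B a domain containing A
and module-finite over it, with fraction field L, n a prime of B, C = B_n, q a prime of the
completion Ĉ with q ∩ C = 0. Then Ĉ_q is formally smooth over L for the adic topology of its maximal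
ideal. (Case (ii) of the published statement, in characteristic p with a suitable filtered family of
subrings, is not stated.) -/
theorem result
    {A B : Type u} [CommRing A] [IsRegularLocalRing A] [CharZero A] [CommRing B] [IsDomain B] [Algebra A B]
    [Module.Finite A B] (hinj : Function.Injective (algebraMap A B)) (n : Ideal B) [n.IsPrime]
    (q : Ideal (AdicCompletion (maximalIdeal (Localization.AtPrime n)) (Localization.AtPrime n))) [q.IsPrime]
    (hq : q.comap (algebraMap (Localization.AtPrime n)
      (AdicCompletion (maximalIdeal (Localization.AtPrime n)) (Localization.AtPrime n))) = ⊥)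
    [Algebra B (Localization.AtPrime q)]
    [IsScalarTower B (AdicCompletion (maximalIdeal (Localization.AtPrime n)) (Localization.AtPrime n))
      (Localization.AtPrime q)]
    [Algebra (FractionRing B) (Localization.AtPrime q)] [IsScalarTower B (FractionRing B) (Localization.AtPrime q)] :
    CAlgX.IsAdicFormallySmooth (FractionRing B) (Localization.AtPrime q) (maximalIdeal (Localization.AtPrime q)) := by
  haveI : IsDomain A := hinj.isDomain (algebraMap A B)
  haveI : IsNoetherianRing B := isNoetherian_of_tower A (isNoetherian_of_isNoetherianRing_of_finite A B)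
  haveI : IsNoetherianRing (AdicCompletion (maximalIdeal (Localization.AtPrime n)) (Localization.AtPrime n)) :=
    Groth.Agent.Lib.AdicNoeth.isNoetherianRing_adicCompletion _
  have hgeo := geomRegular_formalFibre_bot hinj n
  have hF : IsRegularRing ((⊥ : Ideal (Localization.AtPrime n)).Fiber
      (AdicCompletion (maximalIdeal (Localization.AtPrime n)) (Localization.AtPrime n))) := by
    have h1 := hgeo (⊥ : Ideal (Localization.AtPrime n)).ResidueField (Module.Finite.self _)
    haveI := h1
    exact IsRegularRing.of_ringEquiv (R := (⊥ : Ideal (Localization.AtPrime n)).ResidueField ⊗[(⊥ : Ideal (Localization.AtPrime n)).ResidueField] ((⊥ : Ideal (Localization.AtPrime n)).Fiber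
        (AdicCompletion (maximalIdeal (Localization.AtPrime n)) (Localization.AtPrime n))))
      (Algebra.TensorProduct.lid (⊥ : Ideal (Localization.AtPrime n)).ResidueField
      ((⊥ : Ideal (Localization.AtPrime n)).Fiber
        (AdicCompletion (maximalIdeal (Localization.AtPrime n)) (Localization.AtPrime n)))).toRingEquiv
  haveI hreg : IsRegularLocalRing (Localization.AtPrime q) :=
    isRegularLocalRing_localization_of_fiber_bot _ _ hF q hq
  haveI : IsRegularRing (Localization.AtPrime q) :=
    Groth.Agent.Lib.H87Serre2.isRegularRing_of_isRegularLocalRing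
  haveI : CharZero B := charZero_of_injective_algebraMap hinj
  haveI : CharZero (FractionRing B) := charZero_of_injective_algebraMap (IsFractionRing.injective B _)
  exact Groth.Agent.Lib.AdicFSGeomRegH44.isAdicFormallySmooth_iff_isGeometricallyRegular.2
    (Groth.Agent.Lib.H87GRingDed.geomRegular_of_charZero (FractionRing B) (Localization.AtPrime q))

end Groth.Agent.S4602
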