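import Groth.Statements.S4603
import Groth.Agent.Lib.QcImageClosure

set_option autoImplicit false
universe u
open AlgebraicGeometry CategoryTheory
open EGA41

namespace Groth.Agent.S4603

theorem exists_maximal_generization {α : Type*} [TopologicalSpace α] [QuasiSober α] [T0Space α]
    (x : α) : ∃ x' : α, x' ⤳ x ∧ ∀ x'' : α, x'' ⤳ x' → x'' = x' := by
  have hirr : IsIrreducible (irreducibleComponent x) := isIrreducible_irreducibleComponent
  have hcl : IsClosed (irreducibleComponent x) := isClosed_irreducibleComponent
  have hgen : closure {hirr.genericPoint} = irreducibleComponent x :=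
    hirr.closure_genericPoint hcl
  refine ⟨hirr.genericPoint, ?_, ?_⟩
  · rw [specializes_iff_mem_closure, hgen]; exact mem_irreducibleComponent
  · intro x'' hx''
    have h1 : irreducibleComponent x ⊆ closure {x''} := by
      rw [← hgen]; exact specializes_iff_closure_subset.mp hx''
    have h2 : closure {x''} = irreducibleComponent x :=
      eq_irreducibleComponent (isIrreducible_singleton.closure.isPreirreducible) h1
    have h3 : closure {x''} = closure {hirr.genericPoint} := h2.trans hgen.symm
    exact (inseparable_iff_closure_eq.mpr h3).eq

/-- Let f : X → Y be quasi-compact. The following are equivalent: f is dominant; the fibre of f over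
every maximal point of Y (a point with no proper generization, i.e. the generic point of an
irreducible component) is nonempty; every maximal point of Y is the image of a maximal point of X. -/
theorem result {X Y : Scheme.{u}} (f : X ⟶ Y) [QuasiCompact f] :
    [IsDominant f,
     ∀ y : Y, (∀ y' : Y, y' ⤳ y → y' = y) → y ∈ Set.range f.base,
     ∀ y : Y, (∀ y' : Y, y' ⤳ y → y' = y) → ∃ x : X, (∀ x' : X, x' ⤳ x → x' = x) ∧ f.base x = y].TFAE := by
  tfae_have 1 → 2 := by
    intro hdom y hy
    have h1 : y ∈ closure (Set.range f) := by
      rw [f.denseRange.closure_range]; trivial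
    obtain ⟨x, hx⟩ := Groth.Agent.Lib.QcImageClosure.exists_specializes_of_mem_closure_range f y h1
    exact ⟨x, hy _ hx⟩
  tfae_have 2 → 3 := by
    intro h y hy
    obtain ⟨x, hx⟩ := h y hy
    obtain ⟨x', hx', hmax⟩ := exists_maximal_generization x
    refine ⟨x', hmax, ?_⟩
    have : f.base x' ⤳ f.base x := hx'.map f.continuous
    rw [hx] at this
    exact hy _ this
  tfae_have 3 → 1 := by
    intro h
    refine ⟨fun y => ?_⟩
    obtain ⟨y', hy', hmax⟩ := exists_maximal_generization y
    obtain ⟨x, -, hx⟩ := h y' hmax
    exact hy'.mem_closed isClosed_closure (subset_closure ⟨x, hx⟩)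
  tfae_finish

end Groth.Agent.S4603
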