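import Groth.Statements.S4604
import Mathlib
-- import your own Groth.Agent.* helpers here

set_option autoImplicit false
universe u
open IsLocalRing
open EGA41

namespace Groth.Agent.S4604

section

variable {A : Type u} [CommRing A] {r : ℕ} (d : Fin r → ℕ) (c : Fin r → ℕ → A)

/-- the polynomials `F_i` -/
noncomputable def F : Fin r → MvPolynomial (Fin r) A := fun i =>
  MvPolynomial.X i ^ d i +
    (Finset.range (d i)).sum fun k => MvPolynomial.C (c i k) * MvPolynomial.X i ^ k

/-- the quotient ring `A'` -/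
abbrev A' : Type u := MvPolynomial (Fin r) A ⧸ Ideal.span (Set.range (F d c))

/-- the ideal generated by the constant terms -/
abbrev J₀ : Ideal A := Ideal.span (Set.range fun i => c i 0)

lemma constantCoeff_F (hd : ∀ i, 2 ≤ d i) (i : Fin r) :
    MvPolynomial.constantCoeff (F d c i) = c i 0 := by
  have hdi : d i ≠ 0 := by have := hd i; omega
  simp only [F, map_add, map_pow, MvPolynomial.constantCoeff_X, map_sum, map_mul,
    MvPolynomial.constantCoeff_C]
  rw [zero_pow hdi, zero_add]
  rw [Finset.sum_eq_single 0]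
  · simp
  · intro k _ hk
    rw [zero_pow hk, mul_zero]
  · intro h0
    exfalso
    apply h0
    rw [Finset.mem_range]
    omega

/-- the augmentation `A' → A / (c_{i0})` -/
noncomputable def eps (hd : ∀ i, 2 ≤ d i) : A' d c →+* A ⧸ J₀ c :=
  Ideal.Quotient.lift _ ((Ideal.Quotient.mk (J₀ c)).comp MvPolynomial.constantCoeff) (by
    intro p hp
    have hle : Ideal.span (Set.range (F d c)) ≤
        RingHom.ker ((Ideal.Quotient.mk (J₀ c)).comp MvPolynomial.constantCoeff) := by
      rw [Ideal.span_le]
      rintro _ ⟨i, rfl⟩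
      rw [SetLike.mem_coe, RingHom.mem_ker, RingHom.comp_apply, constantCoeff_F d c hd,
        Ideal.Quotient.eq_zero_iff_mem]
      exact Ideal.subset_span ⟨i, rfl⟩
    exact hle hp)

lemma eps_mk (hd : ∀ i, 2 ≤ d i) (p : MvPolynomial (Fin r) A) :
    eps d c hd (Ideal.Quotient.mk _ p) = Ideal.Quotient.mk (J₀ c) (MvPolynomial.constantCoeff p) :=
  rfl

lemma eps_algebraMap (hd : ∀ i, 2 ≤ d i) (a : A) :
    eps d c hd (algebraMap A (A' d c) a) = Ideal.Quotient.mk (J₀ c) a := by
  change eps d c hd (Ideal.Quotient.mk _ (MvPolynomial.C a)) = _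
  rw [eps_mk, MvPolynomial.constantCoeff_C]

section nilp

variable [IsLocalRing A]
  (hm : maximalIdeal A ^ 2 = ⊥) (hd : ∀ i, 2 ≤ d i) (hc : ∀ i k, c i k ∈ maximalIdeal A)

/-- the extension of the maximal ideal of `A` -/
noncomputable abbrev N : Ideal (A' d c) := Ideal.map (algebraMap A (A' d c)) (maximalIdeal A)

include hm in
lemma N_sq : N d c ^ 2 = ⊥ := by
  rw [N, ← Ideal.map_pow, hm, Ideal.map_bot]

include hm in
lemma N_le_nilradical : N d c ≤ nilradical (A' d c) := by
  intro x hx
  refine ⟨2, ?_⟩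
  have : x ^ 2 ∈ N d c ^ 2 := Ideal.pow_mem_pow hx 2
  rw [N_sq d c hm] at this
  exact this

/-- the class of `T_i` -/
noncomputable abbrev t (i : Fin r) : A' d c := Ideal.Quotient.mk _ (MvPolynomial.X i)

include hc in
lemma t_pow_mem (i : Fin r) : t d c i ^ d i ∈ N d c := by
  have h0 : (Ideal.Quotient.mk (Ideal.span (Set.range (F d c)))) (F d c i) = 0 :=
    Ideal.Quotient.eq_zero_iff_mem.mpr (Ideal.subset_span ⟨i, rfl⟩)
  rw [F, map_add, map_pow, map_sum] at h0
  rw [eq_neg_of_add_eq_zero_left h0]
  apply (N d c).neg_mem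
  apply (N d c).sum_mem
  intro k _
  rw [map_mul]
  apply Ideal.mul_mem_right
  exact Ideal.mem_map_of_mem _ (hc i k)

include hm hc in
lemma t_nilpotent (i : Fin r) : t d c i ∈ nilradical (A' d c) := by
  have h1 := N_le_nilradical d c hm (t_pow_mem d c hc i)
  rw [mem_nilradical] at h1 ⊢
  exact IsNilpotent.of_pow h1

/-- the map `A / (c_{i0}) → K` -/
noncomputable def psi : A ⧸ J₀ c →+* ResidueField A :=
  Ideal.Quotient.lift (J₀ c) (residue A) (by
    intro a ha
    have hle : J₀ c ≤ maximalIdeal A := by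
      rw [Ideal.span_le]
      rintro _ ⟨i, rfl⟩
      exact hc i 0
    exact (residue_eq_zero_iff a).mpr (hle ha))

lemma psi_mk (a : A) : psi c hc (Ideal.Quotient.mk (J₀ c) a) = residue A a := rfl

/-- the map `A' → K` -/
noncomputable def phi : A' d c →+* ResidueField A :=
  (psi c hc).comp (eps d c hd)

lemma phi_mk (p : MvPolynomial (Fin r) A) :
    phi d c hd hc (Ideal.Quotient.mk _ p) = residue A (MvPolynomial.constantCoeff p) := rfl

lemma phi_algebraMap (a : A) : phi d c hd hc (algebraMap A (A' d c) a) = residue A a := by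
  change phi d c hd hc (Ideal.Quotient.mk _ (MvPolynomial.C a)) = _
  rw [phi_mk, MvPolynomial.constantCoeff_C]

lemma phi_surjective : Function.Surjective (phi d c hd hc) := by
  intro y
  obtain ⟨a, rfl⟩ := residue_surjective y
  exact ⟨algebraMap A (A' d c) a, phi_algebraMap d c hd hc a⟩

include hm in
lemma ker_phi_le : RingHom.ker (phi d c hd hc) ≤ nilradical (A' d c) := by
  intro y hy
  obtain ⟨p, rfl⟩ := Ideal.Quotient.mk_surjective y
  rw [RingHom.mem_ker, phi_mk, residue_eq_zero_iff] at hy
  have hp : p = MvPolynomial.C (MvPolynomial.constantCoeff p) +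
      (p - MvPolynomial.C (MvPolynomial.constantCoeff p)) := by ring
  rw [hp, map_add]
  apply Ideal.add_mem
  · apply N_le_nilradical d c hm
    exact Ideal.mem_map_of_mem _ hy
  · have hq : p - MvPolynomial.C (MvPolynomial.constantCoeff p) ∈
        Ideal.span (Set.range (MvPolynomial.X : Fin r → MvPolynomial (Fin r) A)) := by
      rw [← Set.image_univ, MvPolynomial.mem_ideal_span_X_image]
      intro m hm'
      by_contra hcon
      push Not at hcon
      have hm0 : m = 0 := by
        ext i
        exact hcon i (Set.mem_univ i)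
      subst hm0
      rw [MvPolynomial.mem_support_iff, MvPolynomial.coeff_sub, MvPolynomial.coeff_zero_C] at hm'
      apply hm'
      rw [← MvPolynomial.constantCoeff_eq, sub_self]
    have hle : Ideal.map (Ideal.Quotient.mk (Ideal.span (Set.range (F d c))))
        (Ideal.span (Set.range (MvPolynomial.X : Fin r → MvPolynomial (Fin r) A))) ≤
        nilradical (A' d c) := by
      rw [Ideal.map_span, Ideal.span_le]
      rintro _ ⟨_, ⟨i, rfl⟩, rfl⟩
      exact t_nilpotent d c hm hc i
    exact hle (Ideal.mem_map_of_mem _ hq)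

end nilp

section main

variable [IsLocalRing A]
  (hm : maximalIdeal A ^ 2 = ⊥) (hd : ∀ i, 2 ≤ d i) (hc : ∀ i k, c i k ∈ maximalIdeal A)

include hm in
lemma isUnit_of_phi_ne_zero (a : A' d c) (ha : phi d c hd hc a ≠ 0) : IsUnit a := by
  obtain ⟨b₀, hb₀⟩ := residue_surjective (phi d c hd hc a)⁻¹
  have h1 : phi d c hd hc (a * algebraMap A (A' d c) b₀ - 1) = 0 := by
    rw [map_sub, map_mul, phi_algebraMap, hb₀, map_one, mul_inv_cancel₀ ha, sub_self]
  have h2 : IsNilpotent (a * algebraMap A (A' d c) b₀ - 1) :=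
    mem_nilradical.mp (ker_phi_le d c hm hd hc h1)
  have h3 : IsUnit (a * algebraMap A (A' d c) b₀) := by
    have := h2.isUnit_add_one
    rwa [sub_add_cancel] at this
  exact isUnit_of_mul_isUnit_left h3

include hd hc in
lemma nontrivial_A' : Nontrivial (A' d c) := by
  have : Nontrivial (ResidueField A) := inferInstance
  exact (phi d c hd hc).domain_nontrivial

include hm hd hc in
lemma isLocalRing_A' : IsLocalRing (A' d c) := by
  have := nontrivial_A' d c hd hc
  apply IsLocalRing.of_isUnit_or_isUnit_one_sub_self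
  intro a
  by_cases ha : phi d c hd hc a = 0
  · right
    have h2 : IsNilpotent a := mem_nilradical.mp (ker_phi_le d c hm hd hc ha)
    exact h2.isUnit_one_sub
  · left
    exact isUnit_of_phi_ne_zero d c hm hd hc a ha

lemma ker_phi_eq [IsLocalRing (A' d c)] :
    RingHom.ker (phi d c hd hc) = maximalIdeal (A' d c) :=
  IsLocalRing.eq_maximalIdeal
    (RingHom.ker_isMaximal_of_surjective (phi d c hd hc) (phi_surjective d c hd hc))

lemma eps_mem_of_phi [IsLocalRing (A' d c)] (y : A' d c) (hy : phi d c hd hc y = 0) :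
    eps d c hd y ∈ Ideal.map (Ideal.Quotient.mk (J₀ c)) (maximalIdeal A) := by
  obtain ⟨a, ha⟩ := Ideal.Quotient.mk_surjective (eps d c hd y)
  rw [← ha]
  apply Ideal.mem_map_of_mem
  rw [← residue_eq_zero_iff]
  have : phi d c hd hc y = residue A a := by
    change psi c hc (eps d c hd y) = _
    rw [← ha, psi_mk]
  rw [← this, hy]

end main


section final

variable [IsLocalRing A]
  (hm : maximalIdeal A ^ 2 = ⊥) (hd : ∀ i, 2 ≤ d i) (hc : ∀ i k, c i k ∈ maximalIdeal A)

include hm hd hc in
lemma final : ∃ _ : IsLocalRing (A' d c),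
    Function.Surjective ((Ideal.Quotient.mk (maximalIdeal (A' d c))).comp
      (algebraMap A (A' d c))) ∧
    maximalIdeal A ⊓ Ideal.comap (algebraMap A (A' d c)) (maximalIdeal (A' d c) ^ 2) =
      Ideal.span (Set.range fun i => c i 0) := by
  have hloc : IsLocalRing (A' d c) := isLocalRing_A' d c hm hd hc
  have hker : RingHom.ker (phi d c hd hc) = maximalIdeal (A' d c) := ker_phi_eq d c hd hc
  refine ⟨hloc, ?_, ?_⟩
  · intro y
    obtain ⟨y₀, rfl⟩ := Ideal.Quotient.mk_surjective y
    obtain ⟨a, ha⟩ := residue_surjective (phi d c hd hc y₀)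
    refine ⟨a, ?_⟩
    rw [RingHom.comp_apply, Ideal.Quotient.eq, ← hker, RingHom.mem_ker, map_sub,
      phi_algebraMap, ha, sub_self]
  · apply le_antisymm
    · rintro a ⟨ha1, ha2⟩
      have ha2' : algebraMap A (A' d c) a ∈ maximalIdeal (A' d c) ^ 2 := ha2
      have hle : Ideal.map (eps d c hd) (maximalIdeal (A' d c)) ≤
          Ideal.map (Ideal.Quotient.mk (J₀ c)) (maximalIdeal A) := by
        rw [Ideal.map_le_iff_le_comap]
        intro y hy
        rw [← hker, RingHom.mem_ker] at hy
        exact eps_mem_of_phi d c hd hc y hy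
      have h1 : eps d c hd (algebraMap A (A' d c) a) ∈
          Ideal.map (eps d c hd) (maximalIdeal (A' d c) ^ 2) := Ideal.mem_map_of_mem _ ha2'
      rw [Ideal.map_pow] at h1
      have h2 := Ideal.pow_right_mono hle 2 h1
      rw [← Ideal.map_pow, hm, Ideal.map_bot, Ideal.mem_bot, eps_algebraMap,
        Ideal.Quotient.eq_zero_iff_mem] at h2
      exact h2
    · rw [Ideal.span_le]
      rintro _ ⟨i, rfl⟩
      refine ⟨hc i 0, ?_⟩
      change algebraMap A (A' d c) (c i 0) ∈ maximalIdeal (A' d c) ^ 2
      have hnil : nilradical (A' d c) ≤ maximalIdeal (A' d c) := by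
        intro x hx
        rw [mem_maximalIdeal, mem_nonunits_iff]
        intro hu
        exact (mem_nilradical.mp hx).not_isUnit hu
      have ht : t d c i ∈ maximalIdeal (A' d c) := hnil (t_nilpotent d c hm hc i)
      have hN : ∀ a ∈ maximalIdeal A, algebraMap A (A' d c) a ∈ maximalIdeal (A' d c) :=
        fun a ha => hnil (N_le_nilradical d c hm (Ideal.mem_map_of_mem _ ha))
      have h0 : (Ideal.Quotient.mk (Ideal.span (Set.range (F d c)))) (F d c i) = 0 :=
        Ideal.Quotient.eq_zero_iff_mem.mpr (Ideal.subset_span ⟨i, rfl⟩)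
      obtain ⟨n, hn⟩ : ∃ n, d i = n + 2 := ⟨d i - 2, by have := hd i; omega⟩
      rw [F, hn, map_add, map_pow, map_sum, Finset.sum_range_succ', pow_zero, mul_one,
        ← add_assoc] at h0
      have h3 : algebraMap A (A' d c) (c i 0) =
          -(t d c i ^ (n + 2) + ∑ k ∈ Finset.range (n + 1),
            (Ideal.Quotient.mk (Ideal.span (Set.range (F d c))))
              (MvPolynomial.C (c i (k + 1)) * MvPolynomial.X i ^ (k + 1))) :=
        eq_neg_of_add_eq_zero_right h0
      rw [h3]
      apply neg_mem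
      apply Ideal.add_mem
      · rw [pow_add]
        exact Ideal.mul_mem_left _ _ (Ideal.pow_mem_pow ht 2)
      · apply Ideal.sum_mem
        intro k _
        rw [map_mul, map_pow]
        have e : ∀ (x y : A' d c), x * y ^ (k + 1) = (x * y) * y ^ k := fun x y => by
          rw [pow_succ', mul_assoc]
        rw [e, pow_two]
        apply Ideal.mul_mem_right
        exact Ideal.mul_mem_mul (hN _ (hc i (k + 1))) ht

end final

end


/-- (i) and the kernel statement of (ii): let A be a local ring with maximal ideal m of square zero,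
F_i(T_i) = T_i^{d_i} + Σ_{k<d_i} c_{ik} T_i^k (1 ≤ i ≤ r) monic of degrees d_i ≥ 2 with non-leading
coefficients in m, and A' = A[T_1, …, T_r]/(F_1, …, F_r). Then A' is local with residue field K, and
the kernel of m → m'/m'² (m' the maximal ideal of A') is the ideal generated by the constant terms
c_{i0}. -/
theorem result {A : Type u} [CommRing A] [IsLocalRing A]
    (hm : maximalIdeal A ^ 2 = ⊥) {r : ℕ} (d : Fin r → ℕ) (hd : ∀ i, 2 ≤ d i) (c : Fin r → ℕ → A)
    (hc : ∀ i k, c i k ∈ maximalIdeal A) :
    let F : Fin r → MvPolynomial (Fin r) A := fun i =>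
      MvPolynomial.X i ^ d i + (Finset.range (d i)).sum fun k => MvPolynomial.C (c i k) * MvPolynomial.X i ^ k
    ∃ _ : IsLocalRing (MvPolynomial (Fin r) A ⧸ Ideal.span (Set.range F)),
      Function.Surjective ((Ideal.Quotient.mk (maximalIdeal (MvPolynomial (Fin r) A ⧸ Ideal.span (Set.range F)))).comp
        (algebraMap A (MvPolynomial (Fin r) A ⧸ Ideal.span (Set.range F)))) ∧
      maximalIdeal A ⊓ Ideal.comap (algebraMap A (MvPolynomial (Fin r) A ⧸ Ideal.span (Set.range F)))
          (maximalIdeal (MvPolynomial (Fin r) A ⧸ Ideal.span (Set.range F)) ^ 2) =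
        Ideal.span (Set.range fun i => c i 0) := by
  intro F
  exact final d c hm hd hc

end Groth.Agent.S4604
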