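import Groth.Statements.S4605
import Mathlib
-- import your own Groth.Agent.* helpers here

set_option autoImplicit false
universe u
open IsLocalRing
open EGA41

namespace Groth.Agent.S4605

set_option linter.unusedSectionVars false

section

variable {A : Type u} [CommRing A] (p : ℕ) {ι : Type u} (c : ι → Fin p → A) (f : ι → A)

/-- the polynomials `F_i` -/
noncomputable def F : ι → MvPolynomial ι A := fun i =>
  MvPolynomial.X i ^ p + (p : MvPolynomial ι A) * (Finset.univ.sum fun j : Fin p =>
    if (j : ℕ) = 0 then 0 else MvPolynomial.C (c i j) * MvPolynomial.X i ^ (p - (j : ℕ))) -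
      MvPolynomial.C (f i)

/-- the quotient ring `A'` -/
abbrev A' : Type u := MvPolynomial ι A ⧸ Ideal.span (Set.range (F p c f))

/-- the class of `T_i` -/
noncomputable abbrev t (i : ι) : A' p c f := Ideal.Quotient.mk _ (MvPolynomial.X i)

/-- the reduced exponents -/
abbrev E (p : ℕ) (ι : Type u) : Type u := {e : ι →₀ ℕ // ∀ i, e i < p}

/-- monomials in the `t_i` -/
noncomputable def mon (e : ι →₀ ℕ) : A' p c f := e.prod fun i n => t p c f i ^ n

/-- monomials in the `f_i` -/
noncomputable def fmon (e : ι →₀ ℕ) : A := e.prod fun i n => f i ^ n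

variable [IsLocalRing A]

/-- the extension of the maximal ideal of `A` -/
noncomputable abbrev N : Ideal (A' p c f) := Ideal.map (algebraMap A (A' p c f)) (maximalIdeal A)

section basic

variable (hm : maximalIdeal A ^ 2 = ⊥)

include hm in
lemma N_sq : N p c f ^ 2 = ⊥ := by
  rw [N, ← Ideal.map_pow, hm, Ideal.map_bot]

include hm in
lemma N_le_nilradical : N p c f ≤ nilradical (A' p c f) := by
  intro x hx
  refine ⟨2, ?_⟩
  have : x ^ 2 ∈ N p c f ^ 2 := Ideal.pow_mem_pow hx 2
  rw [N_sq p c f hm] at this
  exact this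

variable [CharP (ResidueField A) p]

lemma p_mem : (p : A) ∈ maximalIdeal A := by
  rw [← residue_eq_zero_iff, map_natCast]
  exact CharP.cast_eq_zero _ p

lemma p_mem_N : (p : A' p c f) ∈ N p c f := by
  rw [← map_natCast (algebraMap A (A' p c f)) p]
  exact Ideal.mem_map_of_mem _ (p_mem p)

/-- `t_i ^ p ≡ f_i` modulo `N` -/
lemma t_pow_sub_mem (i : ι) : t p c f i ^ p - algebraMap A (A' p c f) (f i) ∈ N p c f := by
  have h0 : (Ideal.Quotient.mk (Ideal.span (Set.range (F p c f)))) (F p c f i) = 0 :=
    Ideal.Quotient.eq_zero_iff_mem.mpr (Ideal.subset_span ⟨i, rfl⟩)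
  rw [F, map_sub, map_add, map_pow, map_mul, map_natCast] at h0
  have h1 : t p c f i ^ p - algebraMap A (A' p c f) (f i) =
      -((p : A' p c f) * (Ideal.Quotient.mk (Ideal.span (Set.range (F p c f))))
        (Finset.univ.sum fun j : Fin p =>
          if (j : ℕ) = 0 then 0 else MvPolynomial.C (c i j) * MvPolynomial.X i ^ (p - (j : ℕ)))) := by
    have h2 : algebraMap A (A' p c f) (f i) =
        (Ideal.Quotient.mk (Ideal.span (Set.range (F p c f)))) (MvPolynomial.C (f i)) := rfl
    rw [h2]
    linear_combination h0
  rw [h1]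
  apply neg_mem
  exact Ideal.mul_mem_right _ _ (p_mem_N p c f)

end basic

section nontrivial

variable [Fact p.Prime] [CharP (ResidueField A) p]

/-- the evaluation `A[T] → Ω` at `p`-th roots of the `f_i` in an algebraic closure -/
noncomputable def theta₀ : MvPolynomial ι A →+* AlgebraicClosure (ResidueField A) :=
  MvPolynomial.eval₂Hom ((algebraMap (ResidueField A) (AlgebraicClosure (ResidueField A))).comp
    (residue A)) (fun i => Classical.choose (IsAlgClosed.exists_pow_nat_eq
      (algebraMap (ResidueField A) (AlgebraicClosure (ResidueField A)) (residue A (f i)))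
      (Fact.out : p.Prime).pos))

lemma theta₀_X (i : ι) : theta₀ p f (MvPolynomial.X i) ^ p =
    algebraMap (ResidueField A) (AlgebraicClosure (ResidueField A)) (residue A (f i)) := by
  rw [theta₀, MvPolynomial.coe_eval₂Hom, MvPolynomial.eval₂_X]
  exact Classical.choose_spec (IsAlgClosed.exists_pow_nat_eq
      (algebraMap (ResidueField A) (AlgebraicClosure (ResidueField A)) (residue A (f i)))
      (Fact.out : p.Prime).pos)

lemma theta₀_C (a : A) : theta₀ p f (MvPolynomial.C a) =
    algebraMap (ResidueField A) (AlgebraicClosure (ResidueField A)) (residue A a) := by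
  rw [theta₀, MvPolynomial.coe_eval₂Hom, MvPolynomial.eval₂_C]
  rfl

lemma theta₀_F (i : ι) : theta₀ p f (F p c f i) = 0 := by
  have : CharP (AlgebraicClosure (ResidueField A)) p :=
    charP_of_injective_algebraMap (algebraMap (ResidueField A) _).injective p
  rw [F, map_sub, map_add, map_pow, map_mul, map_natCast, theta₀_X, theta₀_C,
    CharP.cast_eq_zero, zero_mul, add_zero, sub_self]

/-- the induced map `A' → Ω` -/
noncomputable def theta : A' p c f →+* AlgebraicClosure (ResidueField A) :=
  Ideal.Quotient.lift _ (theta₀ p f) (by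
    intro x hx
    have hle : Ideal.span (Set.range (F p c f)) ≤ RingHom.ker (theta₀ p f) := by
      rw [Ideal.span_le]
      rintro _ ⟨i, rfl⟩
      exact theta₀_F p c f i
    exact hle hx)

lemma N_le_ker_theta : N p c f ≤ RingHom.ker (theta p c f) := by
  rw [N, Ideal.map_le_iff_le_comap]
  intro a ha
  rw [Ideal.mem_comap, RingHom.mem_ker]
  change theta₀ p f (MvPolynomial.C a) = 0
  rw [theta₀_C, (residue_eq_zero_iff a).mpr ha, map_zero]

lemma N_ne_top : N p c f ≠ ⊤ := by
  intro h
  have h1 : (1 : A' p c f) ∈ RingHom.ker (theta p c f) := N_le_ker_theta p c f (h ▸ Submodule.mem_top)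
  rw [RingHom.mem_ker, map_one] at h1
  exact one_ne_zero h1

end nontrivial

section span

variable [Fact p.Prime] [CharP (ResidueField A) p]

/-- the `A`-submodule spanned by the reduced monomials together with `N` -/
noncomputable def W : Submodule A (A' p c f) :=
  Submodule.span A (Set.range fun e : E p ι => mon p c f e.1) ⊔ (N p c f).restrictScalars A

lemma smul_def' (a : A) (x : A' p c f) : a • x = algebraMap A (A' p c f) a * x :=
  Algebra.smul_def a x

lemma mon_mem_W (e : E p ι) : mon p c f e.1 ∈ W p c f :=
  Submodule.mem_sup_left (Submodule.subset_span ⟨e, rfl⟩)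

lemma N_le_W {x : A' p c f} (hx : x ∈ N p c f) : x ∈ W p c f :=
  Submodule.mem_sup_right hx

lemma mon_add (e₁ e₂ : ι →₀ ℕ) : mon p c f (e₁ + e₂) = mon p c f e₁ * mon p c f e₂ := by
  classical
  rw [mon, mon, mon, Finsupp.prod_add_index']
  · intro i
    exact pow_zero _
  · intro i a b
    exact pow_add _ _ _

lemma mon_single (i : ι) (n : ℕ) : mon p c f (Finsupp.single i n) = t p c f i ^ n := by
  rw [mon, Finsupp.prod_single_index]
  exact pow_zero _

lemma t_mul_mon_mem (i : ι) (e : E p ι) : t p c f i * mon p c f e.1 ∈ W p c f := by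
  classical
  by_cases h : e.1 i + 1 < p
  · have : t p c f i * mon p c f e.1 = mon p c f (Finsupp.single i 1 + e.1) := by
      rw [mon_add, mon_single, pow_one]
    rw [this]
    refine mon_mem_W p c f ⟨Finsupp.single i 1 + e.1, fun j => ?_⟩
    rw [Finsupp.add_apply]
    by_cases hj : j = i
    · subst hj
      rw [Finsupp.single_eq_same]
      omega
    · rw [Finsupp.single_eq_of_ne hj, zero_add]
      exact e.2 j
  · have hei : e.1 i = p - 1 := by have := e.2 i; omega
    have hp : 0 < p := (Fact.out : p.Prime).pos
    -- e = erase i e + single i (p - 1)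
    have he : e.1 = e.1.erase i + Finsupp.single i (p - 1) := by
      rw [← hei]
      exact (Finsupp.erase_add_single i e.1).symm
    have h1 : t p c f i * mon p c f e.1 = mon p c f (e.1.erase i) * t p c f i ^ p := by
      conv_lhs => rw [he, mon_add, mon_single]
      have : t p c f i ^ p = t p c f i * t p c f i ^ (p - 1) := by
        rw [← pow_succ']
        congr 1
        omega
      rw [this]
      ring
    have h2 : mon p c f (e.1.erase i) * t p c f i ^ p =
        f i • mon p c f (e.1.erase i) +
          mon p c f (e.1.erase i) * (t p c f i ^ p - algebraMap A (A' p c f) (f i)) := by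
      rw [smul_def']
      ring
    rw [h1, h2]
    apply Submodule.add_mem
    · apply Submodule.smul_mem
      refine mon_mem_W p c f ⟨e.1.erase i, fun j => ?_⟩
      by_cases hj : j = i
      · subst hj
        rw [Finsupp.erase_same]
        exact hp
      · rw [Finsupp.erase_ne hj]
        exact e.2 j
    · apply N_le_W
      exact Ideal.mul_mem_left _ _ (t_pow_sub_mem p c f i)

lemma t_mul_mem_W (i : ι) {w : A' p c f} (hw : w ∈ W p c f) : t p c f i * w ∈ W p c f := by
  have hle : (W p c f).map (LinearMap.mulLeft A (t p c f i)) ≤ W p c f := by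
    rw [W, Submodule.map_sup, sup_le_iff]
    constructor
    · rw [Submodule.map_span, Submodule.span_le]
      rintro _ ⟨_, ⟨e, rfl⟩, rfl⟩
      exact t_mul_mon_mem p c f i e
    · rintro _ ⟨n, hn, rfl⟩
      apply N_le_W
      exact Ideal.mul_mem_left _ _ hn
  exact hle ⟨w, hw, rfl⟩

lemma mk_mem_W (P : MvPolynomial ι A) :
    (Ideal.Quotient.mk (Ideal.span (Set.range (F p c f)))) P ∈ W p c f := by
  induction P using MvPolynomial.induction_on with
  | C a =>
    have h1 : (Ideal.Quotient.mk (Ideal.span (Set.range (F p c f)))) (MvPolynomial.C a) =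
        a • mon p c f (0 : ι →₀ ℕ) := by
      rw [mon, Finsupp.prod_zero_index, smul_def', mul_one]
      rfl
    rw [h1]
    apply Submodule.smul_mem
    exact mon_mem_W p c f ⟨0, fun j => (Fact.out : p.Prime).pos⟩
  | add P Q hP hQ =>
    rw [map_add]
    exact Submodule.add_mem _ hP hQ
  | mul_X P i hP =>
    rw [map_mul, mul_comm]
    exact t_mul_mem_W p c f i hP

/-- every element is congruent modulo `N` to a combination of reduced monomials -/
lemma exists_repr (x : A' p c f) :
    ∃ a : E p ι →₀ A, x - (a.sum fun e r => r • mon p c f e.1) ∈ N p c f := by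
  obtain ⟨P, rfl⟩ := Ideal.Quotient.mk_surjective x
  have h := mk_mem_W p c f P
  rw [W, Submodule.mem_sup] at h
  obtain ⟨y, hy, n, hn, hyn⟩ := h
  rw [Finsupp.mem_span_range_iff_exists_finsupp] at hy
  obtain ⟨a, ha⟩ := hy
  refine ⟨a, ?_⟩
  rw [ha, ← hyn, add_sub_cancel_left]
  exact hn

end span

section frob

variable [Fact p.Prime] [CharP (ResidueField A) p]

/-- the quotient `B = A' / N` -/
abbrev B : Type u := A' p c f ⧸ N p c f

/-- the map `A → B` -/
noncomputable def rho : A →+* B p c f :=
  (Ideal.Quotient.mk (N p c f)).comp (algebraMap A (A' p c f))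

lemma rho_eq_zero {a : A} (ha : a ∈ maximalIdeal A) : rho p c f a = 0 := by
  rw [rho, RingHom.comp_apply, Ideal.Quotient.eq_zero_iff_mem]
  exact Ideal.mem_map_of_mem _ ha

lemma nontrivial_B : Nontrivial (B p c f) :=
  Ideal.Quotient.nontrivial_iff.mpr (N_ne_top p c f)

/-- the map `K → B` -/
noncomputable def kappa : ResidueField A →+* B p c f :=
  Ideal.Quotient.lift (maximalIdeal A) (rho p c f) (fun _ ha => rho_eq_zero p c f ha)

lemma charP_B : CharP (B p c f) p := by
  have := nontrivial_B p c f
  exact charP_of_injective_ringHom (kappa p c f).injective p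

lemma pi_t_pow (i : ι) : (Ideal.Quotient.mk (N p c f)) (t p c f i) ^ p = rho p c f (f i) := by
  rw [← map_pow, rho, RingHom.comp_apply, Ideal.Quotient.eq]
  exact t_pow_sub_mem p c f i

lemma pi_mon_pow (e : ι →₀ ℕ) :
    (Ideal.Quotient.mk (N p c f)) (mon p c f e) ^ p = rho p c f (fmon f e) := by
  rw [mon, fmon, map_finsuppProd, map_finsuppProd, Finsupp.prod, Finsupp.prod, ← Finset.prod_pow]
  apply Finset.prod_congr rfl
  intro i _
  rw [map_pow, map_pow, ← pow_mul, mul_comm, pow_mul, pi_t_pow]

/-- the Frobenius of a combination of reduced monomials -/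
lemma pi_pow (x : A' p c f) (a : E p ι →₀ A)
    (hx : x - (a.sum fun e r => r • mon p c f e.1) ∈ N p c f) :
    (Ideal.Quotient.mk (N p c f)) x ^ p =
      rho p c f (a.sum fun e r => r ^ p * fmon f e.1) := by
  have := charP_B p c f
  have h1 : (Ideal.Quotient.mk (N p c f)) x =
      (Ideal.Quotient.mk (N p c f)) (a.sum fun e r => r • mon p c f e.1) :=
    Ideal.Quotient.eq.mpr hx
  have key : ∀ e : E p ι, ((Ideal.Quotient.mk (N p c f)) (a e • mon p c f e.1)) ^ p =
      rho p c f (a e ^ p * fmon f e.1) := by
    intro e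
    have h2 : (Ideal.Quotient.mk (N p c f)) (a e • mon p c f e.1) =
        rho p c f (a e) * (Ideal.Quotient.mk (N p c f)) (mon p c f e.1) := by
      rw [smul_def', map_mul]
      rfl
    rw [h2]
    have h3 := mul_pow (rho p c f (a e)) ((Ideal.Quotient.mk (N p c f)) (mon p c f e.1)) p
    rw [h3, pi_mon_pow, map_mul, map_pow]
  rw [h1, Finsupp.sum, Finsupp.sum, map_sum, map_sum]
  refine (sum_pow_char (R := B p c f) p _ _).trans ?_
  apply Finset.sum_congr rfl
  intro e _
  exact key e

end frob

section dichotomy

variable [Fact p.Prime] [CharP (ResidueField A) p] (hm : maximalIdeal A ^ 2 = ⊥)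
  (hind : LinearIndependent (↥(frobenius (ResidueField A) p).fieldRange)
      (fun e : {e : ι →₀ ℕ // ∀ i, e i < p} => EGA41.pMonomial (fun i => residue A (f i)) e.1))

lemma residue_fmon (e : ι →₀ ℕ) :
    residue A (fmon f e) = EGA41.pMonomial (fun i => residue A (f i)) e := by
  rw [fmon, EGA41.pMonomial, map_finsuppProd]
  apply Finsupp.prod_congr
  intro i _
  rw [map_pow]

include hind in
lemma coeff_mem_of_mem (a : E p ι →₀ A)
    (hy : (a.sum fun e r => r ^ p * fmon f e.1) ∈ maximalIdeal A) (e : E p ι) :
    a e ∈ maximalIdeal A := by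
  have hp : p ≠ 0 := (Fact.out : p.Prime).ne_zero
  let g : A → ↥(frobenius (ResidueField A) p).fieldRange := fun r =>
    ⟨residue A r ^ p, (RingHom.mem_fieldRange).mpr ⟨residue A r, rfl⟩⟩
  have hg0 : g 0 = 0 := by
    apply Subtype.ext
    change residue A 0 ^ p = 0
    rw [map_zero, zero_pow hp]
  have hl : Finsupp.linearCombination (↥(frobenius (ResidueField A) p).fieldRange)
      (fun e : {e : ι →₀ ℕ // ∀ i, e i < p} => EGA41.pMonomial (fun i => residue A (f i)) e.1)
      (a.mapRange g hg0) = 0 := by
    rw [Finsupp.linearCombination_apply,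
      Finsupp.sum_mapRange_index (h := fun (i : {e : ι →₀ ℕ // ∀ i, e i < p})
        (s : ↥(frobenius (ResidueField A) p).fieldRange) =>
          s • EGA41.pMonomial (fun i => residue A (f i)) i.1) (fun _ => zero_smul _ _)]
    rw [← residue_eq_zero_iff, Finsupp.sum, map_sum] at hy
    rw [Finsupp.sum, ← hy]
    apply Finset.sum_congr rfl
    intro e' _
    rw [map_mul, map_pow, residue_fmon]
    rfl
  have h0 := (linearIndependent_iff.mp hind) _ hl
  have h1 : g (a e) = 0 := by
    have := DFunLike.congr_fun h0 e
    rwa [Finsupp.mapRange_apply] at this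
  have h2 : residue A (a e) ^ p = 0 := congrArg Subtype.val h1
  rw [← residue_eq_zero_iff]
  exact pow_eq_zero_iff hp |>.mp h2

include hm hind in
/-- every element of `A'` is in `N` or a unit -/
lemma mem_or_isUnit (x : A' p c f) : x ∈ N p c f ∨ IsUnit x := by
  have hp : p ≠ 0 := (Fact.out : p.Prime).ne_zero
  obtain ⟨a, ha⟩ := exists_repr p c f x
  have hpow := pi_pow p c f x a ha
  by_cases hy : (a.sum fun e r => r ^ p * fmon f e.1) ∈ maximalIdeal A
  · left
    have hsum : (a.sum fun e r => r • mon p c f e.1) ∈ N p c f := by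
      rw [Finsupp.sum]
      apply Ideal.sum_mem
      intro e _
      rw [smul_def']
      apply Ideal.mul_mem_right
      exact Ideal.mem_map_of_mem _ (coeff_mem_of_mem p f hind a hy e)
    have := Ideal.add_mem _ ha hsum
    rwa [sub_add_cancel] at this
  · right
    have hu : IsUnit (a.sum fun e r => r ^ p * fmon f e.1) := by
      by_contra hnu
      exact hy ((mem_maximalIdeal _).mpr hnu)
    have hu' : IsUnit (algebraMap A (A' p c f) (a.sum fun e r => r ^ p * fmon f e.1)) :=
      hu.map _
    have hn : x ^ p - algebraMap A (A' p c f) (a.sum fun e r => r ^ p * fmon f e.1) ∈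
        N p c f := by
      rw [← Ideal.Quotient.eq, map_pow, hpow]
      rfl
    have hnil : IsNilpotent
        (x ^ p - algebraMap A (A' p c f) (a.sum fun e r => r ^ p * fmon f e.1)) :=
      mem_nilradical.mp (N_le_nilradical p c f hm hn)
    have h3 := hnil.isUnit_add_left_of_commute hu' (Commute.all _ _)
    rw [add_sub_cancel] at h3
    exact (isUnit_pow_iff hp).mp h3

include hm hind in
lemma final : ∃ _ : IsLocalRing (A' p c f),
    maximalIdeal (A' p c f) = (maximalIdeal A).map (algebraMap A (A' p c f)) := by
  have hnt : Nontrivial (A' p c f) := (theta p c f).domain_nontrivial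
  have hloc : IsLocalRing (A' p c f) := by
    apply IsLocalRing.of_isUnit_or_isUnit_one_sub_self
    intro a
    rcases mem_or_isUnit p c f hm hind a with h | h
    · right
      exact (mem_nilradical.mp (N_le_nilradical p c f hm h)).isUnit_one_sub
    · left
      exact h
  refine ⟨hloc, ?_⟩
  apply le_antisymm
  · intro x hx
    rcases mem_or_isUnit p c f hm hind x with h | h
    · exact h
    · exact absurd h ((mem_maximalIdeal x).mp hx)
  · exact IsLocalRing.le_maximalIdeal (N_ne_top p c f)

end dichotomy

end


/-- Let A be a local ring with maximal ideal m of square zero and residue field K of characteristic p >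
0, F_i(T_i) = T_i^p + p Σ_{k=1}^{p-1} c_{ik} T_i^{p-k} − f_i (i in a finite index set) with c_{ik},
f_i ∈ A, and suppose the residues of the f_i in K are p-independent over K^p. Then A' = A[T_i]/(F_i)
is local with maximal ideal m A'. (The identification of the residue field with K(a_i^{1/p}) is not
restated.) -/
theorem result {A : Type u} [CommRing A]
    [IsLocalRing A] (hm : maximalIdeal A ^ 2 = ⊥) (p : ℕ) [Fact p.Prime] [CharP (ResidueField A) p]
    {ι : Type u} [Finite ι] (c : ι → Fin p → A) (f : ι → A)
    (hind : LinearIndependent (↥(frobenius (ResidueField A) p).fieldRange)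
      (fun e : {e : ι →₀ ℕ // ∀ i, e i < p} => EGA41.pMonomial (fun i => residue A (f i)) e.1)) :
    let F : ι → MvPolynomial ι A := fun i =>
      MvPolynomial.X i ^ p + (p : MvPolynomial ι A) * (Finset.univ.sum fun j : Fin p =>
        if (j : ℕ) = 0 then 0 else MvPolynomial.C (c i j) * MvPolynomial.X i ^ (p - (j : ℕ))) - MvPolynomial.C (f i)
    ∃ _ : IsLocalRing (MvPolynomial ι A ⧸ Ideal.span (Set.range F)),
      maximalIdeal (MvPolynomial ι A ⧸ Ideal.span (Set.range F)) =
        (maximalIdeal A).map (algebraMap A (MvPolynomial ι A ⧸ Ideal.span (Set.range F))) := by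
  intro F
  exact final p c f hm hind

end Groth.Agent.S4605
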