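import Groth.Statements.S4606
-- import your own Groth.Agent.* helpers here
import Groth.Agent.S2463
import Groth.Agent.Lib.AdicJacobianH44
import Groth.Agent.Lib.H56AdicSmooth2
import Groth.Agent.Lib.AdicFSPow50

set_option autoImplicit false
universe u
open TensorProduct KaehlerDifferential IsLocalRing
open EGA41

namespace Groth.Agent.S4606

/-- Let B be a Noetherian A-algebra formally smooth for the discrete topologies, B → C a surjection with
kernel J, p a prime of C and q its contraction to A. Then C_p is formally smooth over A_q (A_q
discrete, C_p with the adic topology of its maximal ideal) if and only if κ(p) ⊗ J/J² → κ(p) ⊗ (C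
⊗_B Ω_{B/A}) is injective. (The equivalent variant with the q-adic topology on A_q is not stated.) -/
theorem result {A B C : Type u} [CommRing A]
    [CommRing B] [CommRing C] [Algebra A B] [Algebra B C] [Algebra A C] [IsScalarTower A B C] [IsNoetherianRing B]
    [Algebra.FormallySmooth A B] (hsurj : Function.Surjective (algebraMap B C)) (p : Ideal C) [p.IsPrime]
    [Algebra (Localization.AtPrime (p.comap (algebraMap A C))) (Localization.AtPrime p)]
    [IsScalarTower A (Localization.AtPrime (p.comap (algebraMap A C))) (Localization.AtPrime p)] :
    CAlgX.IsAdicFormallySmooth (Localization.AtPrime (p.comap (algebraMap A C))) (Localization.AtPrime p)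
        (maximalIdeal (Localization.AtPrime p)) ↔
      Function.Injective ((kerCotangentToTensor A B C).lTensor p.ResidueField) := by
  have : Module.Finite B (RingHom.ker (algebraMap B C)).Cotangent := by
    have : Module.Finite B (RingHom.ker (algebraMap B C)) :=
      Module.Finite.of_fg (IsNoetherian.noetherian _)
    exact Module.Finite.of_surjective (RingHom.ker (algebraMap B C)).toCotangent
      (Ideal.toCotangent_surjective _)
  have htfae := Groth.Agent.S2463.result (A := A) (B := B) (C := C) hsurj p
  have h01 := htfae.out 0 1
  rw [← h01]
  constructor
  · -- adic over `A_q` ⇒ adic over `A` ⇒ formally smooth over `A`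
    intro hadic
    have hadicA : CAlgX.IsAdicFormallySmooth A (Localization.AtPrime p)
        (maximalIdeal (Localization.AtPrime p)) :=
      Groth.Agent.Lib.H56AdicSmooth.isAdicFormallySmooth_of_isLocalization
        (p.comap (algebraMap A C)).primeCompl (Localization.AtPrime (p.comap (algebraMap A C)))
        (Localization.AtPrime p) _ hadic
    have hQ : (p.comap (algebraMap B C)).IsPrime := Ideal.comap_isPrime _ _
    let g : Localization.AtPrime (p.comap (algebraMap B C)) →+* Localization.AtPrime p :=
      Localization.localRingHom _ p (algebraMap B C) rfl
    have hg : Function.Surjective g :=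
      RingHom.surjective_localRingHom_of_surjective (algebraMap B C) hsurj p
    let _ : Algebra (Localization.AtPrime (p.comap (algebraMap B C))) (Localization.AtPrime p) :=
      g.toAlgebra
    have tower : IsScalarTower A (Localization.AtPrime (p.comap (algebraMap B C)))
        (Localization.AtPrime p) := IsScalarTower.of_algebraMap_eq (fun c => by
      rw [RingHom.algebraMap_toAlgebra,
        IsScalarTower.algebraMap_apply A B (Localization.AtPrime (p.comap (algebraMap B C))),
        Localization.localRingHom_to_map, IsScalarTower.algebraMap_apply A C (Localization.AtPrime p),
        IsScalarTower.algebraMap_apply A B C])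
    have : Algebra.FormallyEtale B (Localization.AtPrime (p.comap (algebraMap B C))) :=
      .of_isLocalization (p.comap (algebraMap B C)).primeCompl
    have : Algebra.FormallySmooth A (Localization.AtPrime (p.comap (algebraMap B C))) :=
      .comp A B _
    have : IsNoetherianRing (Localization.AtPrime (p.comap (algebraMap B C))) :=
      IsLocalization.isNoetherianRing (p.comap (algebraMap B C)).primeCompl _ inferInstance
    exact Groth.Agent.Lib.AdicJacobianH44.formallySmooth_of_isAdicFormallySmooth A
      (Localization.AtPrime (p.comap (algebraMap B C))) (Localization.AtPrime p) hg hadicA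
  · intro hfs
    have : Algebra.FormallySmooth (Localization.AtPrime (p.comap (algebraMap A C)))
        (Localization.AtPrime p) :=
      Algebra.FormallySmooth.localization_base (R := A) (p.comap (algebraMap A C)).primeCompl
    exact Groth.Agent.Lib.AdicFSPow50.isAdicFormallySmooth_of_formallySmooth _

end Groth.Agent.S4606
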