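import Groth.Statements.S4607
import Mathlib.RingTheory.Flat.Basic
import Mathlib.RingTheory.Flat.FaithfullyFlat.Basic
import Mathlib.RingTheory.Spectrum.Prime.RingHom
-- import your own Groth.Agent.* helpers here

set_option autoImplicit false
universe u
open TensorProduct
open EGA41

namespace Groth.Agent.S4607

/-- First assertion, case of two factors: for A-algebras A' and A'' the image of Spec(A' ⊗_A A'') in
Spec A is the intersection of the images of Spec A' and Spec A''. -/
theorem result {A A' A'' : Type u} [CommRing A] [CommRing A'] [CommRing A'']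
    [Algebra A A'] [Algebra A A''] :
    Set.range (PrimeSpectrum.comap (algebraMap A (A' ⊗[A] A''))) =
      Set.range (PrimeSpectrum.comap (algebraMap A A')) ∩ Set.range (PrimeSpectrum.comap (algebraMap A A'')) := by
  ext p
  simp only [Set.mem_inter_iff, ← PrimeSpectrum.nontrivial_iff_mem_rangeComap]
  constructor
  · intro h
    constructor
    · -- the map κ ⊗ A' → κ ⊗ (A' ⊗ A'') is a ring hom so the source is nontrivial
      exact RingHom.domain_nontrivial
        (Algebra.TensorProduct.map (AlgHom.id A p.asIdeal.ResidueField)
          (Algebra.TensorProduct.includeLeft : A' →ₐ[A] A' ⊗[A] A'')).toRingHom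
    · exact RingHom.domain_nontrivial
        (Algebra.TensorProduct.map (AlgHom.id A p.asIdeal.ResidueField)
          (Algebra.TensorProduct.includeRight : A'' →ₐ[A] A' ⊗[A] A'')).toRingHom
  · rintro ⟨h₁, h₂⟩
    have h₃ : Nontrivial ((p.asIdeal.ResidueField ⊗[A] A') ⊗[p.asIdeal.ResidueField]
        (p.asIdeal.ResidueField ⊗[A] A'')) :=
      Algebra.TensorProduct.nontrivial_of_algebraMap_injective_of_flat_left _ _ _
        (algebraMap p.asIdeal.ResidueField (p.asIdeal.ResidueField ⊗[A] A'')).injective
    exact (TensorProduct.AlgebraTensorModule.distribBaseChange A p.asIdeal.ResidueField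
      A' A'').toEquiv.nontrivial

end Groth.Agent.S4607
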