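import Groth.Statements.S4608
-- import your own Groth.Agent.* helpers here

set_option autoImplicit false
universe u
open AlgebraicGeometry CategoryTheory CategoryTheory.Limits
open EGA41

namespace Groth.Agent.S4608

theorem isClosedEmbedding_inl (X Y : Scheme.{u}) :
    Topology.IsClosedEmbedding (coprod.inl : X ⟶ X ⨿ Y).base := by
  refine ⟨(coprod.inl : X ⟶ X ⨿ Y).isOpenEmbedding.isEmbedding, ?_⟩
  rw [← isOpen_compl_iff, (isCompl_range_inl_inr X Y).compl_eq]
  exact (coprod.inr : Y ⟶ X ⨿ Y).isOpenEmbedding.isOpen_range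

theorem isClosedEmbedding_inr (X Y : Scheme.{u}) :
    Topology.IsClosedEmbedding (coprod.inr : Y ⟶ X ⨿ Y).base := by
  refine ⟨(coprod.inr : Y ⟶ X ⨿ Y).isOpenEmbedding.isEmbedding, ?_⟩
  rw [← isOpen_compl_iff, (isCompl_range_inl_inr X Y).symm.compl_eq]
  exact (coprod.inl : X ⟶ X ⨿ Y).isOpenEmbedding.isOpen_range

theorem preimage_desc {X' X'' Y : Scheme.{u}} (f' : X' ⟶ Y) (f'' : X'' ⟶ Y) (U : Set Y) :
    (coprod.desc f' f'').base ⁻¹' U =
      (coprod.inl : X' ⟶ X' ⨿ X'').base '' (f'.base ⁻¹' U) ∪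
        (coprod.inr : X'' ⟶ X' ⨿ X'').base '' (f''.base ⁻¹' U) := by
  have h1 : ∀ x, (coprod.desc f' f'').base ((coprod.inl : X' ⟶ X' ⨿ X'').base x) = f'.base x := by
    intro x
    rw [← Scheme.Hom.comp_apply, coprod.inl_desc]
  have h2 : ∀ x, (coprod.desc f' f'').base ((coprod.inr : X'' ⟶ X' ⨿ X'').base x) = f''.base x := by
    intro x
    rw [← Scheme.Hom.comp_apply, coprod.inr_desc]
  ext z
  obtain ⟨(x | x), rfl⟩ := (coprodMk X' X'').surjective z
  · rw [coprodMk_inl]
    constructor
    · intro h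
      exact Or.inl ⟨x, by simpa [h1] using h, rfl⟩
    · rintro (⟨y, hy, hxy⟩ | ⟨y, hy, hxy⟩)
      · have := (coprod.inl : X' ⟶ X' ⨿ X'').isOpenEmbedding.injective hxy
        subst this
        simpa [h1] using hy
      · exact absurd hxy (inr_ne_inl _ _ _ _)
  · rw [coprodMk_inr]
    constructor
    · intro h
      exact Or.inr ⟨x, by simpa [h2] using h, rfl⟩
    · rintro (⟨y, hy, hxy⟩ | ⟨y, hy, hxy⟩)
      · exact absurd hxy (inl_ne_inr _ _ _ _)
      · have := (coprod.inr : X'' ⟶ X' ⨿ X'').isOpenEmbedding.injective hxy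
        subst this
        simpa [h2] using hy


/-- A morphism from a disjoint union X' ⨿ X'' → Y is quasi-compact if and only if its two components
are. -/
theorem result {X' X'' Y : Scheme.{u}} (f' : X' ⟶ Y) (f'' : X'' ⟶ Y) :
    QuasiCompact (coprod.desc f' f'') ↔ QuasiCompact f' ∧ QuasiCompact f'' := by
  constructor
  · intro h
    constructor
    · constructor
      intro U hU hUc
      have := (isClosedEmbedding_inl X' X'').isCompact_preimage (h.isCompact_preimage U hU hUc)
      rwa [← Set.preimage_comp, ← TopCat.coe_comp, ← Scheme.Hom.comp_base, coprod.inl_desc] at this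
    · constructor
      intro U hU hUc
      have := (isClosedEmbedding_inr X' X'').isCompact_preimage (h.isCompact_preimage U hU hUc)
      rwa [← Set.preimage_comp, ← TopCat.coe_comp, ← Scheme.Hom.comp_base, coprod.inr_desc] at this
  · rintro ⟨h', h''⟩
    constructor
    intro U hU hUc
    rw [preimage_desc]
    exact ((h'.isCompact_preimage U hU hUc).image (coprod.inl : X' ⟶ X' ⨿ X'').continuous).union
      ((h''.isCompact_preimage U hU hUc).image (coprod.inr : X'' ⟶ X' ⨿ X'').continuous)

end Groth.Agent.S4608
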