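import Groth.Statements.S4609
-- import your own Groth.Agent.* helpers here

set_option autoImplicit false
universe u
open AlgebraicGeometry CategoryTheory CategoryTheory.Limits
open EGA41

namespace Groth.Agent.S4609

theorem preimage_desc {X' X'' Y : Scheme.{u}} (f' : X' ⟶ Y) (f'' : X'' ⟶ Y) (U : Set Y) :
    (coprod.desc f' f'').base ⁻¹' U =
      (coprod.inl : X' ⟶ X' ⨿ X'').base '' (f'.base ⁻¹' U) ∪
        (coprod.inr : X'' ⟶ X' ⨿ X'').base '' (f''.base ⁻¹' U) := by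
  have h1 : ∀ x, (coprod.desc f' f'').base ((coprod.inl : X' ⟶ X' ⨿ X'').base x) = f'.base x := by
    intro x
    rw [← Scheme.Hom.comp_apply, coprod.inl_desc]
  have h2 : ∀ x, (coprod.desc f' f'').base ((coprod.inr : X'' ⟶ X' ⨿ X'').base x) = f''.base x := by
    intro x
    rw [← Scheme.Hom.comp_apply, coprod.inr_desc]
  ext z
  obtain ⟨(x | x), rfl⟩ := (coprodMk X' X'').surjective z
  · rw [coprodMk_inl]
    constructor
    · intro h
      exact Or.inl ⟨x, by simpa [h1] using h, rfl⟩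
    · rintro (⟨y, hy, hxy⟩ | ⟨y, hy, hxy⟩)
      · have := (coprod.inl : X' ⟶ X' ⨿ X'').isOpenEmbedding.injective hxy
        subst this
        simpa [h1] using hy
      · exact absurd hxy (inr_ne_inl _ _ _ _)
  · rw [coprodMk_inr]
    constructor
    · intro h
      exact Or.inr ⟨x, by simpa [h2] using h, rfl⟩
    · rintro (⟨y, hy, hxy⟩ | ⟨y, hy, hxy⟩)
      · exact absurd hxy (inl_ne_inr _ _ _ _)
      · have := (coprod.inr : X'' ⟶ X' ⨿ X'').isOpenEmbedding.injective hxy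
        subst this
        simpa [h2] using hy

/-- A union of two quasi-separated sets lying in complementary clopen pieces is quasi-separated. -/
theorem isQuasiSeparated_union {α : Type*} [TopologicalSpace α] {R₁ R₂ s t : Set α}
    (hR : IsCompl R₁ R₂) (hR₁ : IsOpen R₁) (hR₂ : IsOpen R₂) (hs : s ⊆ R₁) (ht : t ⊆ R₂)
    (Hs : IsQuasiSeparated s) (Ht : IsQuasiSeparated t) : IsQuasiSeparated (s ∪ t) := by
  have hc₁ : IsClosed R₁ := by rw [← isOpen_compl_iff, hR.compl_eq]; exact hR₂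
  have hc₂ : IsClosed R₂ := by rw [← isOpen_compl_iff, hR.symm.compl_eq]; exact hR₁
  have hdisj : Disjoint R₁ R₂ := hR.disjoint
  have huniv : R₁ ∪ R₂ = Set.univ := hR.sup_eq_top
  have key₁ : ∀ U : Set α, U ⊆ s ∪ t → U ∩ R₁ ⊆ s := by
    rintro U hU x ⟨hxU, hx₁⟩
    rcases hU hxU with h | h
    · exact h
    · exact absurd (ht h) (Set.disjoint_left.1 hdisj hx₁)
  have key₂ : ∀ U : Set α, U ⊆ s ∪ t → U ∩ R₂ ⊆ t := by
    rintro U hU x ⟨hxU, hx₂⟩
    rcases hU hxU with h | h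
    · exact absurd hx₂ (Set.disjoint_left.1 hdisj (hs h))
    · exact h
  intro U V hU hUo hUc hV hVo hVc
  have e : U ∩ V = ((U ∩ R₁) ∩ (V ∩ R₁)) ∪ ((U ∩ R₂) ∩ (V ∩ R₂)) := by
    ext x
    constructor
    · rintro ⟨hxU, hxV⟩
      have : x ∈ R₁ ∪ R₂ := by rw [huniv]; trivial
      rcases this with h | h
      · exact Or.inl ⟨⟨hxU, h⟩, ⟨hxV, h⟩⟩
      · exact Or.inr ⟨⟨hxU, h⟩, ⟨hxV, h⟩⟩
    · rintro (⟨⟨hxU, -⟩, ⟨hxV, -⟩⟩ | ⟨⟨hxU, -⟩, ⟨hxV, -⟩⟩) <;> exact ⟨hxU, hxV⟩
  rw [e]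
  exact (Hs _ _ (key₁ U hU) (hUo.inter hR₁) (hUc.inter_right hc₁) (key₁ V hV) (hVo.inter hR₁)
      (hVc.inter_right hc₁)).union
    (Ht _ _ (key₂ U hU) (hUo.inter hR₂) (hUc.inter_right hc₂) (key₂ V hV) (hVo.inter hR₂)
      (hVc.inter_right hc₂))


/-- A morphism from a disjoint union X' ⨿ X'' → Y is quasi-separated if and only if its two components
are. -/
theorem result {X' X'' Y : Scheme.{u}} (f' : X' ⟶ Y) (f'' : X'' ⟶ Y) :
    QuasiSeparated (coprod.desc f' f'') ↔ QuasiSeparated f' ∧ QuasiSeparated f'' := by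
  constructor
  · intro h
    constructor
    · rw [← coprod.inl_desc f' f'']; infer_instance
    · rw [← coprod.inr_desc f' f'']; infer_instance
  · rintro ⟨h', h''⟩
    rw [HasAffineProperty.iff_of_iSup_eq_top (P := @QuasiSeparated) (fun U : Y.affineOpens => U)
      (iSup_affineOpens_eq_top Y)]
    intro U
    change QuasiSeparatedSpace ↥((coprod.desc f' f'') ⁻¹ᵁ (U : Y.Opens))
    refine (isQuasiSeparated_iff_quasiSeparatedSpace _
      ((coprod.desc f' f'') ⁻¹ᵁ (U : Y.Opens)).2).1 ?_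
    change IsQuasiSeparated ((coprod.desc f' f'').base ⁻¹' ((U : Y.Opens) : Set Y))
    rw [preimage_desc]
    refine isQuasiSeparated_union (isCompl_range_inl_inr X' X'')
      (coprod.inl : X' ⟶ X' ⨿ X'').isOpenEmbedding.isOpen_range
      (coprod.inr : X'' ⟶ X' ⨿ X'').isOpenEmbedding.isOpen_range
      (Set.image_subset_range _ _) (Set.image_subset_range _ _) ?_ ?_
    · exact (f'.isQuasiSeparated_preimage U.2.isQuasiSeparated).image_of_isEmbedding
        (coprod.inl : X' ⟶ X' ⨿ X'').isOpenEmbedding.isEmbedding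
    · exact (f''.isQuasiSeparated_preimage U.2.isQuasiSeparated).image_of_isEmbedding
        (coprod.inr : X'' ⟶ X' ⨿ X'').isOpenEmbedding.isEmbedding

end Groth.Agent.S4609
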