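import Groth.Statements.S4613
-- import your own Groth.Agent.* helpers here

set_option autoImplicit false
universe u
open AlgebraicGeometry CategoryTheory
open EGA41

namespace Groth.Agent.S4613

theorem ker_fg_of_fp_of_surjective {A B : Type u} [CommRing A] [CommRing B] (f : A →+* B)
    (hf : Function.Surjective f) (hfp : f.FinitePresentation) : (RingHom.ker f).FG := by
  algebraize [f]
  have := Algebra.FinitePresentation.ker_fG_of_surjective (R := A) (Algebra.ofId A B) hf
  exact this


/-- For a closed immersion j : X → Y: j is locally of finite presentation if and only if its ideal sheaf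
is of finite type, i.e. for every affine open U of Y the kernel of Γ(U, O_Y) → Γ(j⁻¹U, O_X) is
finitely generated. (An immersion with image closed in an open U reduces to this case.) -/
theorem result {X Y : Scheme.{u}} (j : X ⟶ Y)
    [IsClosedImmersion j] :
    LocallyOfFinitePresentation j ↔ ∀ U : Y.affineOpens, (RingHom.ker (j.app U).hom).FG := by
  constructor
  · intro H U
    have hU' : IsAffineOpen (j ⁻¹ᵁ (U : Y.Opens)) := U.2.preimage j
    have h1 := HasRingHomProperty.appLE (P := @LocallyOfFinitePresentation) j H U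
      ⟨j ⁻¹ᵁ (U : Y.Opens), hU'⟩ le_rfl
    rw [← Scheme.Hom.app_eq_appLE] at h1
    exact ker_fg_of_fp_of_surjective _ (j.app_surjective U U.2) h1
  · intro H
    rw [IsZariskiLocalAtTarget.iff_of_iSup_eq_top (P := @LocallyOfFinitePresentation)
      (fun U : Y.affineOpens => (U : Y.Opens)) (iSup_affineOpens_eq_top Y)]
    intro U
    have hU' : IsAffineOpen (j ⁻¹ᵁ (U : Y.Opens)) := U.2.preimage j
    have : IsAffine (U : Y.Opens).toScheme := U.2
    have : IsAffine (j ⁻¹ᵁ (U : Y.Opens)).toScheme := hU'
    rw [HasRingHomProperty.iff_of_isAffine (P := @LocallyOfFinitePresentation)]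
    have hsurj : Function.Surjective (j ∣_ (U : Y.Opens)).appTop.hom :=
      (j ∣_ (U : Y.Opens)).app_surjective ⊤ (isAffineOpen_top _)
    refine RingHom.FinitePresentation.of_surjective _ hsurj ?_
    have key : ∀ V : Y.Opens, V = (U : Y.Opens) → (RingHom.ker (j.app V).hom).FG := by
      rintro V rfl
      exact H U
    have h2 := key ((U : Y.Opens).ι ''ᵁ ⊤) (U : Y.Opens).ι_image_top
    have hinj : Function.Injective
        (X.presheaf.map (eqToHom (image_morphismRestrict_preimage j (U : Y.Opens) ⊤)).op).hom :=
      ((ConcreteCategory.isIso_iff_bijective _).1 inferInstance).1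
    have h4 : ∀ x : Γ(Y, (U : Y.Opens).ι ''ᵁ ⊤), (j ∣_ (U : Y.Opens)).appTop.hom x =
        (X.presheaf.map (eqToHom (image_morphismRestrict_preimage j (U : Y.Opens) ⊤)).op).hom
          ((j.app ((U : Y.Opens).ι ''ᵁ ⊤)).hom x) := by
      intro x
      rw [morphismRestrict_appTop]
      rfl
    have h5 : RingHom.ker (j ∣_ (U : Y.Opens)).appTop.hom =
        RingHom.ker (j.app ((U : Y.Opens).ι ''ᵁ ⊤)).hom := by
      refine Ideal.ext fun x => ⟨fun hx => ?_, fun hx => ?_⟩
      · have hx' : (j ∣_ (U : Y.Opens)).appTop.hom x = 0 := hx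
        have h6 := (h4 x).symm.trans hx'
        exact (map_eq_zero_iff _ hinj).1 h6
      · have hx' : (j.app ((U : Y.Opens).ι ''ᵁ ⊤)).hom x = 0 := hx
        change (j ∣_ (U : Y.Opens)).appTop.hom x = 0
        exact (h4 x).trans ((congrArg _ hx').trans (map_zero _))
    rw [h5]
    exact h2

end Groth.Agent.S4613
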