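import Groth.Statements.S4616
-- import your own Groth.Agent.* helpers here
import Mathlib
import Groth.Agent.S2475
import Groth.Agent.S4570
import Groth.Agent.S4571
import Groth.Agent.Lib.AdmissibleH44
import Groth.Agent.Lib.PBasisField3H44
import Groth.Agent.Lib.MacLane4H44

set_option autoImplicit false
set_option linter.style.haveILetI false
universe u
open TensorProduct KaehlerDifferential IsLocalRing
open EGA41

namespace Groth.Agent.S4616

section Square
variable {F E k A : Type u} [CommRing F] [CommRing E] [CommRing k] [CommRing A]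
  [Algebra F E] [Algebra E k] [Algebra F k] [IsScalarTower F E k]
  [Algebra k A] [Algebra F A] [Algebra E A] [IsScalarTower F k A] [IsScalarTower E k A]
  [IsScalarTower F E A]

/-- the kernel of `Ω[k⁄F] → Ω[k⁄E]` is spanned by the differentials of elements of `E`. -/
lemma ker_map_eq_span :
    LinearMap.ker (KaehlerDifferential.map F E k k) =
      Submodule.span k (Set.range fun e : E => D F k (algebraMap E k e)) := by
  rw [← KaehlerDifferential.range_mapBaseChange]
  apply le_antisymm
  · rintro _ ⟨x, rfl⟩
    induction x using TensorProduct.induction_on with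
    | zero => rw [map_zero]; exact Submodule.zero_mem _
    | tmul c ω =>
      rw [KaehlerDifferential.mapBaseChange_tmul]
      apply Submodule.smul_mem
      have hω : ω ∈ Submodule.span E (Set.range (D F E)) := by
        rw [KaehlerDifferential.span_range_derivation]; trivial
      induction hω using Submodule.span_induction with
      | mem ω hω =>
        obtain ⟨e, rfl⟩ := hω
        rw [KaehlerDifferential.map_D]
        exact Submodule.subset_span ⟨e, rfl⟩
      | zero => rw [map_zero]; exact Submodule.zero_mem _
      | add x y _ _ hx hy => rw [map_add]; exact Submodule.add_mem _ hx hy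
      | smul a x _ hx =>
        rw [map_smul, ← algebraMap_smul k a]
        exact Submodule.smul_mem _ _ hx
    | add x y hx hy => rw [map_add]; exact Submodule.add_mem _ hx hy
  · rw [Submodule.span_le]
    rintro _ ⟨e, rfl⟩
    refine ⟨1 ⊗ₜ D F E e, ?_⟩
    rw [KaehlerDifferential.mapBaseChange_tmul, one_smul, KaehlerDifferential.map_D]

lemma square_apply (y : A ⊗[k] Ω[k⁄F]) :
    KaehlerDifferential.map F E A A (mapBaseChange F k A y) =
      mapBaseChange E k A ((KaehlerDifferential.map F E k k).baseChange A y) := by
  induction y using TensorProduct.induction_on with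
  | zero => simp only [map_zero]
  | tmul a ω =>
    rw [KaehlerDifferential.mapBaseChange_tmul, map_smul, LinearMap.baseChange_tmul,
      KaehlerDifferential.mapBaseChange_tmul]
    congr 1
    have hω : ω ∈ Submodule.span k (Set.range (D F k)) := by
      rw [KaehlerDifferential.span_range_derivation]; trivial
    induction hω using Submodule.span_induction with
    | mem ω hω =>
      obtain ⟨c, rfl⟩ := hω
      simp only [KaehlerDifferential.map_D, Algebra.algebraMap_self, RingHom.id_apply]
    | zero => simp only [map_zero]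
    | add x y _ _ hx hy => simp only [map_add, hx, hy]
    | smul c x _ hx =>
      rw [map_smul, ← algebraMap_smul A c (KaehlerDifferential.map F F k A x), map_smul, hx,
        map_smul, map_smul, algebraMap_smul]
  | add x y hx hy => simp only [map_add, hx, hy]

end Square

section Joint
variable {k A : Type u} [Field k] [CommRing A] [Algebra k A]
  {L : Type u} [Field L] [Algebra A L] [Algebra k L] [IsScalarTower k A L]
  {M : Type u} [AddCommGroup M] [Module k M]

lemma cancel_nat {M' : Type u} [AddCommGroup M'] [Module k M'] (g : M →ₗ[k] M')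
    (x : L ⊗[A] (A ⊗[k] M)) :
    AlgebraTensorModule.cancelBaseChange k A A L M' (((g.baseChange A).lTensor L) x) =
      g.baseChange L (AlgebraTensorModule.cancelBaseChange k A A L M x) := by
  induction x using TensorProduct.induction_on with
  | zero => simp only [map_zero]
  | tmul l y =>
    induction y using TensorProduct.induction_on with
    | zero => simp only [tmul_zero, map_zero]
    | tmul a m =>
      rw [LinearMap.lTensor_tmul, LinearMap.baseChange_tmul,
        AlgebraTensorModule.cancelBaseChange_tmul, AlgebraTensorModule.cancelBaseChange_tmul,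
        LinearMap.baseChange_tmul]
    | add y z hy hz => simp only [tmul_add, map_add, hy, hz]
  | add x y hx hy => simp only [map_add, hx, hy]

lemma joint_injective {ι : Type u} {M' : ι → Type u} [∀ i, AddCommGroup (M' i)]
    [∀ i, Module k (M' i)] (g : ∀ i, M →ₗ[k] M' i) (hg : ∀ m : M, (∀ i, g i m = 0) → m = 0)
    (x : L ⊗[A] (A ⊗[k] M)) (hx : ∀ i, (((g i).baseChange A).lTensor L) x = 0) : x = 0 := by
  have h1 : AlgebraTensorModule.cancelBaseChange k A A L M x = 0 := by
    apply Groth.Agent.Lib.AdmissibleH44.tensor_forall_ker g hg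
    intro i
    rw [← cancel_nat, hx i, map_zero]
  exact (AlgebraTensorModule.cancelBaseChange k A A L M).injective (by rw [h1, map_zero])

end Joint

section Core
variable {F k A : Type u} [Field F] [Field k] [CommRing A] [Algebra F k] [Algebra k A]
  [Algebra F A] [IsScalarTower F k A]
  {L : Type u} [Field L] [Algebra A L] [Algebra k L] [IsScalarTower k A L]
  {ι : Type u} (E : ι → Type u) [∀ i, CommRing (E i)] [∀ i, Algebra F (E i)]
  [∀ i, Algebra (E i) k] [∀ i, IsScalarTower F (E i) k] [∀ i, Algebra (E i) A]
  [∀ i, IsScalarTower (E i) k A] [∀ i, IsScalarTower F (E i) A]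

lemma injective_of_family
    (hsep : ∀ ω : Ω[k⁄F], (∀ i, KaehlerDifferential.map F (E i) k k ω = 0) → ω = 0)
    (hinj : ∀ i, Function.Injective ((mapBaseChange (E i) k A).lTensor L)) :
    Function.Injective ((mapBaseChange F k A).lTensor L) := by
  rw [injective_iff_map_eq_zero]
  intro x hx
  apply joint_injective (A := A) (L := L)
    (g := fun i => (KaehlerDifferential.map F (E i) k k)) hsep x
  intro i
  apply hinj i
  rw [map_zero, ← LinearMap.lTensor_comp_apply]
  have h1 : (mapBaseChange (E i) k A) ∘ₗ ((KaehlerDifferential.map F (E i) k k).baseChange A) =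
      (KaehlerDifferential.map F (E i) A A) ∘ₗ (mapBaseChange F k A) := by
    ext y
    exact (square_apply (F := F) (E := E i) (k := k) (A := A) _).symm
  rw [h1, LinearMap.lTensor_comp_apply, hx, map_zero]

end Core

section Specific
open Groth.Agent.Lib.MacLane4H44
variable (p : ℕ) [Fact p.Prime] {k : Type u} [Field k] [CharP k p] [Algebra (PF.{u} p) k]

lemma algebraMap_pf_mem (S : Subfield k) (x : PF.{u} p) : algebraMap (PF.{u} p) k x ∈ S := by
  obtain ⟨n, rfl⟩ := int_surjective p x
  rw [← IsScalarTower.algebraMap_apply ℤ (PF.{u} p) k, algebraMap_int_eq, eq_intCast]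
  exact intCast_mem S n

lemma closure_eq_fieldRange :
    Subfield.closure (Set.range (algebraMap (PF.{u} p) k) ∪ (Set.range fun y : k => y ^ p)) =
      (frobenius k p).fieldRange := by
  apply le_antisymm
  · rw [Subfield.closure_le]
    rintro x (⟨y, rfl⟩ | ⟨y, rfl⟩)
    · obtain ⟨z, rfl⟩ := surjective_frobenius (PF.{u} p) p y
      exact ⟨algebraMap (PF.{u} p) k z, by rw [frobenius_def, frobenius_def, map_pow]⟩
    · exact ⟨y, rfl⟩
  · rintro x ⟨y, rfl⟩
    exact Subfield.subset_closure (Or.inr ⟨y, rfl⟩)

lemma sep_family {ι : Type u} [Preorder ι] [IsDirected ι (· ≤ ·)] [Nonempty ι]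
    (kα : ι → Subfield k) (hanti : Antitone kα)
    (hint : ⨅ α, (kα α ⊔ (frobenius k p).fieldRange) = (frobenius k p).fieldRange)
    (ω : Ω[k⁄PF.{u} p])
    (hω : ∀ α, ω ∈ Submodule.span k (Set.range fun e : kα α => D (PF.{u} p) k (e : k))) :
    ω = 0 := by
  let kI : ι → IntermediateField (PF.{u} p) k := fun α =>
    (kα α).toIntermediateField (algebraMap_pf_mem p (kα α))
  have hkI : Antitone kI := fun a b hab x hx => hanti hab hx
  have hcond : (⨅ i, kI i ⊔ IntermediateField.adjoin (PF.{u} p) (Set.range fun y : k => y ^ p)) =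
      IntermediateField.adjoin (PF.{u} p) (Set.range fun y : k => y ^ p) := by
    apply IntermediateField.toSubfield_injective
    rw [IntermediateField.iInf_toSubfield]
    simp_rw [IntermediateField.sup_toSubfield, IntermediateField.adjoin_toSubfield,
      closure_eq_fieldRange p]
    exact hint
  refine (Groth.Agent.S2475.result p kI hkI).mp hcond ω (fun i => ?_)
  rw [← LinearMap.mem_ker, ker_map_eq_span]
  refine Submodule.span_mono ?_ (hω i)
  rintro _ ⟨e, rfl⟩
  exact ⟨⟨e.1, e.2⟩, rfl⟩

end Specific

open Groth.Agent.Lib.MacLane4H44 in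
/-- Let k be a field of characteristic p > 0, A a local k-algebra with maximal ideal m and residue field
K, (k_α) a decreasing directed family of subfields of k with ⋂ k_α(k^p) = k^p. Then A is formally
smooth over k for the m-adic topology if and only if the maps Sym^n_K(m/m²) → m^n/m^(n+1) are
bijective (n ≥ 1) and, for all large α, Ω_{k/k_α} ⊗_k K → Ω_{A/k_α} ⊗_A K is injective. -/
theorem result {k A : Type u}
    [Field k] (p : ℕ) [Fact p.Prime] [CharP k p] [CommRing A] [IsLocalRing A] [Algebra k A]
    {ι : Type u} [Preorder ι] [IsDirected ι (fun a b => a ≤ b)] [Nonempty ι] (kα : ι → Subfield k)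
    (hanti : Antitone kα) (hint : ⨅ α, (kα α ⊔ (frobenius k p).fieldRange) = (frobenius k p).fieldRange) :
    CAlgX.IsAdicFormallySmooth k A (maximalIdeal A) ↔
      (PP16.SymGrBijective A (maximalIdeal A) ∧ ∃ α₀ : ι, ∀ α : ι, α₀ ≤ α →
        Function.Injective ((mapBaseChange (kα α) k A).lTensor (ResidueField A))) := by
  constructor
  · intro h
    refine ⟨(Groth.Agent.S4571.result.mp h).1, Classical.arbitrary ι, fun α _ => ?_⟩
    exact Groth.Agent.S4570.injective_of_adic (Λ := kα α) (A := k) (B := A) (maximalIdeal A) h
  · rintro ⟨hsym, α₀, hα⟩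
    letI algk : Algebra (PF.{u} p) k := (toField p k).toAlgebra
    letI algA : Algebra (PF.{u} p) A :=
      ((algebraMap k A).comp (algebraMap (PF.{u} p) k)).toAlgebra
    haveI : IsScalarTower (PF.{u} p) k A := IsScalarTower.of_algebraMap_eq' rfl
    haveI : CharP (ResidueField A) p :=
      charP_of_injective_algebraMap (algebraMap k (ResidueField A)).injective p
    haveI : Algebra.FormallySmooth (PF.{u} p) (A ⧸ maximalIdeal A) :=
      Groth.Agent.Lib.PBasisField3H44.formallySmooth_of_perfectRing p (PF.{u} p) (ResidueField A)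
    have hproj : Module.Projective (A ⧸ maximalIdeal A) (maximalIdeal A).Cotangent := by
      letI : Field (A ⧸ maximalIdeal A) := Ideal.Quotient.field (maximalIdeal A)
      exact Module.Projective.of_free
    have hδ : Module.Projective (A ⧸ maximalIdeal A) ((A ⧸ maximalIdeal A) ⊗[A] (Ω[A⁄k])) := by
      letI : Field (A ⧸ maximalIdeal A) := Ideal.Quotient.field (maximalIdeal A)
      exact Module.Projective.of_free
    have hγ : Function.Injective
        ((mapBaseChange (PF.{u} p) k A).lTensor (A ⧸ maximalIdeal A)) := by
      letI : ∀ i : {α : ι // α₀ ≤ α}, Algebra (PF.{u} p) (kα i.1) := fun i =>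
        ((algebraMap (PF.{u} p) k).codRestrict (kα i.1) (algebraMap_pf_mem p (kα i.1))).toAlgebra
      haveI : ∀ i : {α : ι // α₀ ≤ α}, IsScalarTower (PF.{u} p) (kα i.1) k := fun i =>
        IsScalarTower.of_algebraMap_eq (fun x => rfl)
      haveI : ∀ i : {α : ι // α₀ ≤ α}, IsScalarTower (PF.{u} p) (kα i.1) A := fun i =>
        IsScalarTower.of_algebraMap_eq (fun x => rfl)
      have hsep : ∀ ω : Ω[k⁄PF.{u} p], (∀ i : {α : ι // α₀ ≤ α},
          KaehlerDifferential.map (PF.{u} p) (kα i.1) k k ω = 0) → ω = 0 := by
        intro ω hω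
        apply sep_family p kα hanti hint ω
        intro α
        obtain ⟨γ, hαγ, hγ⟩ := exists_ge_ge α α₀
        have h1 := hω ⟨γ, hγ⟩
        rw [← LinearMap.mem_ker, ker_map_eq_span] at h1
        refine Submodule.span_mono ?_ h1
        rintro _ ⟨e, rfl⟩
        exact ⟨⟨e.1, hanti hαγ e.2⟩, rfl⟩
      exact injective_of_family (F := PF.{u} p) (k := k) (A := A) (L := ResidueField A)
        (fun i : {α : ι // α₀ ≤ α} => ↥(kα i.1)) hsep (fun i => hα i.1 i.2)
    exact (Groth.Agent.S4570.result (Λ := PF.{u} p) (A := k) (B := A) (maximalIdeal A)).1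
      ⟨hproj, hsym, hγ, hδ⟩

end Groth.Agent.S4616
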