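import Groth.Statements.S4617
import Groth.Agent.Lib.H71Pi0Card

set_option autoImplicit false
open CategoryTheory AlgebraicGeometry
universe u
open FBase

namespace Groth.Agent.S4617

open CategoryTheory.Limits

theorem card_irreducibleComponents_le_of_surjective {A B : Type u} [TopologicalSpace A]
    [TopologicalSpace B] [QuasiSober B] (c : A → B) (hc : Continuous c)
    (hs : Function.Surjective c) :
    Cardinal.mk ↥(irreducibleComponents B) ≤ Cardinal.mk ↥(irreducibleComponents A) := by
  classical
  have key : ∀ Z : irreducibleComponents B, ∃ W : irreducibleComponents A,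
      closure (c '' (W : Set A)) = (Z : Set B) := by
    rintro ⟨Z, hZ⟩
    have hcl : IsClosed Z := isClosed_of_mem_irreducibleComponents Z hZ
    have hgen : closure {hZ.1.genericPoint} = Z := hZ.1.closure_genericPoint hcl
    obtain ⟨a, ha⟩ := hs hZ.1.genericPoint
    refine ⟨⟨irreducibleComponent a, irreducibleComponent_mem_irreducibleComponents a⟩, ?_⟩
    have hirr : IsIrreducible (closure (c '' irreducibleComponent a)) :=
      (isIrreducible_irreducibleComponent.image c hc.continuousOn).closure
    have hsub : Z ⊆ closure (c '' irreducibleComponent a) := by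
      rw [← hgen]
      apply closure_minimal _ isClosed_closure
      rw [Set.singleton_subset_iff, ← ha]
      exact subset_closure ⟨a, mem_irreducibleComponent, rfl⟩
    exact Set.Subset.antisymm (hZ.2 hirr hsub) hsub
  choose G hG using key
  refine Cardinal.mk_le_of_injective (f := G) ?_
  intro Z Z' h
  apply Subtype.ext
  rw [← hG Z, ← hG Z', h]

theorem card_irreducibleComponents_le_of_preimage {A B : Type u} [TopologicalSpace A]
    [TopologicalSpace B] (p : A → B) (hp : Continuous p)
    (H : ∀ Z : Set B, IsIrreducible Z → IsClosed Z → IsIrreducible (p ⁻¹' Z)) :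
    Cardinal.mk ↥(irreducibleComponents A) ≤ Cardinal.mk ↥(irreducibleComponents B) := by
  classical
  have key : ∀ W : irreducibleComponents A, ∃ Z : irreducibleComponents B,
      (W : Set A) = p ⁻¹' (Z : Set B) := by
    rintro ⟨W, hW⟩
    have hirr : IsIrreducible (closure (p '' W)) := (hW.1.image p hp.continuousOn).closure
    obtain ⟨Z, hZ, hsub⟩ := exists_mem_irreducibleComponents_subset_of_isIrreducible _ hirr
    refine ⟨⟨Z, hZ⟩, ?_⟩
    have hWZ : W ⊆ p ⁻¹' Z := fun w hw => hsub (subset_closure ⟨w, hw, rfl⟩)
    have hZirr : IsIrreducible (p ⁻¹' Z) :=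
      H Z hZ.1 (isClosed_of_mem_irreducibleComponents Z hZ)
    exact Set.Subset.antisymm hWZ (hW.2 hZirr hWZ)
  choose F hF using key
  refine Cardinal.mk_le_of_injective (f := F) ?_
  intro W W' h
  apply Subtype.ext
  rw [hF W, hF W', h]

section SepClosed
variable {k : Type u} [Field k] [IsSepClosed k]

theorem isIrreducible_preimage (K : Type u) [Field K] [Algebra k K]
    {X : Scheme.{u}} (f : X ⟶ Spec (CommRingCat.of k)) (Z : Set X) (hZ : IsIrreducible Z)
    (hZc : IsClosed Z) :
    IsIrreducible ((pullback.fst f (Spec.map (CommRingCat.ofHom (algebraMap k K)))) ⁻¹' Z) := by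
  set q := Spec.map (CommRingCat.ofHom (algebraMap k K))
  let Zc : TopologicalSpace.Closeds X := ⟨Z, hZc⟩
  let I := Scheme.IdealSheafData.vanishingIdeal Zc
  let ι : I.subscheme ⟶ X := I.subschemeι
  have hrange : Set.range ι = Z := by
    rw [Scheme.IdealSheafData.range_subschemeι, Scheme.IdealSheafData.coe_support_vanishingIdeal]
    rfl
  have hZirr : IrreducibleSpace ↥I.subscheme := by
    have hemb : Topology.IsEmbedding ι := ι.isClosedEmbedding.isEmbedding
    have h1 : IrreducibleSpace ↥(Set.range ι) :=
      isIrreducible_iff_irreducibleSpace.mp (hrange ▸ hZ)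
    exact hemb.toHomeomorph.irreducibleSpace_iff.2 h1
  have hgeo : GeometricallyIrreducible (ι ≫ f) :=
    Groth.Agent.Lib.H71SepClosedGeom.geometricallyIrreducible_of_irreducibleSpace (ι ≫ f)
  have hZK : IrreducibleSpace ↥(pullback (ι ≫ f) q) :=
    (geometrically_iff_of_commRing_of_isClosedUnderIsomorphisms ..).mp
      hgeo.geometrically_irreducibleSpace K
  have hZK' : IrreducibleSpace ↥(pullback ι (pullback.fst f q)) := by
    exact (pullbackRightPullbackFstIso f q ι).inv.surjective.irreducibleSpace
      (pullbackRightPullbackFstIso f q ι).inv.continuous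
  have himg : Set.range (pullback.snd ι (pullback.fst f q)) = (pullback.fst f q) ⁻¹' Z := by
    rw [Scheme.Pullback.range_snd, hrange]
  rw [← himg, ← Set.image_univ]
  exact (IrreducibleSpace.isIrreducible_univ _).image _
    (pullback.snd ι (pullback.fst f q)).continuous.continuousOn

end SepClosed


/-- Let X be a scheme over a field k, K any extension field of k and Ω an algebraically closed extension
field of k. Then the set of irreducible components of X ⊗_k K has cardinality at most that of the
set of irreducible components of X ⊗_k Ω. In particular the cardinality of the set of irreducible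
components of X ⊗_k Ω does not depend on the algebraically closed extension Ω. -/
theorem result {k K Ω : Type u} [Field k] [Field K] [Algebra k K]
    [Field Ω] [Algebra k Ω] [IsAlgClosed Ω] {X : Scheme.{u}} (f : X ⟶ Spec (CommRingCat.of k)) :
    Cardinal.mk ↥(irreducibleComponents ↥(FBase.bc f K)) ≤ Cardinal.mk ↥(irreducibleComponents ↥(FBase.bc f Ω)) := by
  change Cardinal.mk ↥(irreducibleComponents
      ↥(pullback f (Spec.map (CommRingCat.ofHom (algebraMap k K))))) ≤
    Cardinal.mk ↥(irreducibleComponents
      ↥(pullback f (Spec.map (CommRingCat.ofHom (algebraMap k Ω)))))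
  obtain ⟨M, _, φ, ψ, hφψ⟩ := Groth.Agent.Lib.H71Pi0Card.exists_common_extension k K Ω
  letI : Algebra Ω M := ψ.toAlgebra
  letI : Algebra K M := φ.toAlgebra
  haveI hs : Surjective (Spec.map (CommRingCat.ofHom (algebraMap K M))) :=
    Groth.Agent.Lib.H71SepClosedGeom.surjective_SpecMap M
  have hcomm : Spec.map (CommRingCat.ofHom (algebraMap Ω M)) ≫
      Spec.map (CommRingCat.ofHom (algebraMap k Ω)) =
      Spec.map (CommRingCat.ofHom (algebraMap K M)) ≫ Spec.map (CommRingCat.ofHom (algebraMap k K)) := by
    rw [← Spec.map_comp, ← Spec.map_comp, ← CommRingCat.ofHom_comp, ← CommRingCat.ofHom_comp]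
    congr 2
    exact hφψ.symm
  let c := Groth.Agent.Lib.H71GeomRedAt.pullbackCompare f
    (Spec.map (CommRingCat.ofHom (algebraMap k K))) (Spec.map (CommRingCat.ofHom (algebraMap k Ω)))
    (Spec.map (CommRingCat.ofHom (algebraMap K M))) (Spec.map (CommRingCat.ofHom (algebraMap Ω M))) hcomm
  have hc : Function.Surjective c := c.surjective
  have h1 := card_irreducibleComponents_le_of_surjective c c.continuous hc
  have h2 := card_irreducibleComponents_le_of_preimage
    (pullback.fst (pullback.snd f (Spec.map (CommRingCat.ofHom (algebraMap k Ω))))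
      (Spec.map (CommRingCat.ofHom (algebraMap Ω M))))
    (Scheme.Hom.continuous _)
    (fun Z hZ hZc => isIrreducible_preimage (k := Ω) M
      (pullback.snd f (Spec.map (CommRingCat.ofHom (algebraMap k Ω)))) Z hZ hZc)
  exact h1.trans h2

end Groth.Agent.S4617
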