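import Groth.Statements.S4622
import Mathlib.AlgebraicGeometry.Morphisms.Integral
import Mathlib.AlgebraicGeometry.Morphisms.UniversallyInjective
import Mathlib.FieldTheory.PurelyInseparable.Basic
-- import your own Groth.Agent.* helpers here

set_option autoImplicit false
open CategoryTheory AlgebraicGeometry
universe u
open FBase

namespace Groth.Agent.S4622

/-- A morphism that is integral, universally injective and surjective is a universal homeomorphism. -/
theorem isUnivHomeo_of_integral {X Y : Scheme.{u}} (s : X ⟶ Y) [IsIntegralHom s]
    [UniversallyInjective s] [Surjective s] : FlatMor.IsUnivHomeo s := by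
  intro X' Y' i₁ i₂ s' H
  have h1 : IsIntegralHom s' := MorphismProperty.of_isPullback H.flip inferInstance
  have h2 : UniversallyInjective s' := MorphismProperty.of_isPullback H.flip inferInstance
  have h3 : Surjective s' := MorphismProperty.of_isPullback H.flip inferInstance
  change IsHomeomorph s'.base
  rw [isHomeomorph_iff_continuous_isClosedMap_bijective]
  exact ⟨s'.continuous, s'.isClosedMap, s'.injective, s'.surjective⟩


/-- Let k be a separably closed field, k' an algebraic closure of k and X a scheme over k. Then the
projection X ⊗_k k' → X is a universal homeomorphism. -/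
theorem result {k k' : Type u} [Field k] [IsSepClosed k] [Field k'] [Algebra k k']
    [IsAlgClosure k k'] {X : Scheme.{u}} (f : X ⟶ Spec (CommRingCat.of k)) :
    FlatMor.IsUnivHomeo (FBase.bcπ f k') := by
  have hs1 : IsIntegralHom (Spec.map (CommRingCat.ofHom (algebraMap k k'))) := by
    rw [IsIntegralHom.SpecMap_iff]
    have : Algebra.IsAlgebraic k k' := IsAlgClosure.isAlgebraic
    exact algebraMap_isIntegral_iff.mpr inferInstance
  have hs2 : UniversallyInjective (Spec.map (CommRingCat.ofHom (algebraMap k k'))) := by
    have : Algebra.IsAlgebraic k k' := IsAlgClosure.isAlgebraic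
    refine ((tfae_universallyInjective _).out 0 1).2 ?_
    intro K _ g₁ g₂ hg
    obtain ⟨φ₁, rfl⟩ := Spec.map_surjective g₁
    obtain ⟨φ₂, rfl⟩ := Spec.map_surjective g₂
    simp only [← Spec.map_comp] at hg
    have hg' := Spec.map_injective hg
    congr 1
    ext x
    have := IsPurelyInseparable.injective_comp_algebraMap k k' K
      (a₁ := φ₁.hom) (a₂ := φ₂.hom) (by
        have h := congrArg CommRingCat.Hom.hom hg'
        simpa using h)
    exact congr($this x)
  have hs3 : Surjective (Spec.map (CommRingCat.ofHom (algebraMap k k'))) := by
    refine ⟨fun x => ?_⟩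
    have : Subsingleton ↥(Spec (CommRingCat.of k)) :=
      inferInstanceAs (Subsingleton (PrimeSpectrum k))
    have : Nonempty ↥(Spec (CommRingCat.of k')) :=
      inferInstanceAs (Nonempty (PrimeSpectrum k'))
    exact ⟨Classical.arbitrary _, Subsingleton.elim _ _⟩
  have hstab : (FlatMor.IsUnivHomeo.{u}).IsStableUnderBaseChange := by
    unfold FlatMor.IsUnivHomeo
    infer_instance
  unfold FBase.bcπ
  exact MorphismProperty.pullback_fst (P := FlatMor.IsUnivHomeo) _ _
    (isUnivHomeo_of_integral _)

end Groth.Agent.S4622
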