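import Groth.Statements.S4625
import Mathlib.RingTheory.Flat.Basic
import Mathlib.RingTheory.Ideal.Quotient.Basic
-- import your own Groth.Agent.* helpers here

set_option autoImplicit false
open CategoryTheory AlgebraicGeometry
universe u
open FBase

namespace Groth.Agent.S4625

open TensorProduct in
/-- Two field extensions of `k` embed into a common field. -/
theorem exists_common_field (k K L : Type u) [Field k] [Field K] [Algebra k K] [Field L] [Algebra k L] :
    ∃ (M : Type u) (_ : Field M) (a : K →+* M) (b : L →+* M),
      a.comp (algebraMap k K) = b.comp (algebraMap k L) := by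
  have : Nontrivial (K ⊗[k] L) :=
    Algebra.TensorProduct.nontrivial_of_algebraMap_injective_of_flat_left _ _ _
      (algebraMap k L).injective
  obtain ⟨m, hm⟩ := Ideal.exists_maximal (K ⊗[k] L)
  refine ⟨(K ⊗[k] L) ⧸ m, Ideal.Quotient.field m,
    (Ideal.Quotient.mk m).comp Algebra.TensorProduct.includeLeftRingHom,
    (Ideal.Quotient.mk m).comp (Algebra.TensorProduct.includeRight : L →ₐ[k] K ⊗[k] L).toRingHom, ?_⟩
  ext r
  simp only [RingHom.coe_comp, Function.comp_apply, AlgHom.toRingHom_eq_coe, RingHom.coe_coe,
    Algebra.TensorProduct.includeLeftRingHom_apply, Algebra.TensorProduct.includeRight_apply]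
  congr 1
  rw [Algebra.algebraMap_eq_smul_one, Algebra.algebraMap_eq_smul_one, TensorProduct.smul_tmul]

theorem surjective_spec_map_field {L M : Type u} [Field L] [Field M] (b : L →+* M) :
    Surjective (Spec.map (CommRingCat.ofHom b)) := by
  refine ⟨fun x => ?_⟩
  have : Subsingleton ↥(Spec (CommRingCat.of L)) :=
    inferInstanceAs (Subsingleton (PrimeSpectrum L))
  have : Nonempty ↥(Spec (CommRingCat.of M)) :=
    inferInstanceAs (Nonempty (PrimeSpectrum M))
  exact ⟨Classical.arbitrary _, Subsingleton.elim _ _⟩


/-- Let X be a scheme over a field k and K an extension field of k. Then X is geometrically connected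
over k if and only if X ⊗_k K, with its structure of K-scheme, is geometrically connected over K. -/
theorem result {k K : Type u} [Field k] [Field K] [Algebra k K]
    {X : Scheme.{u}} (f : X ⟶ Spec (CommRingCat.of k)) :
    GeometricallyConnected f ↔ GeometricallyConnected (FBase.bcStr f K) := by
  constructor
  · intro h
    unfold FBase.bcStr
    exact MorphismProperty.pullback_snd (P := @GeometricallyConnected) _ _ h
  · intro h
    refine ⟨geometrically_iff_of_commRing_of_isClosedUnderIsomorphisms.mpr fun L _ _ => ?_⟩
    obtain ⟨M, _, a, b, hab⟩ := exists_common_field k K L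
    -- the base change to `M`, computed through `K`, is connected
    have h1 : ConnectedSpace ↥(Limits.pullback (FBase.bcStr f K) (Spec.map (CommRingCat.ofHom a))) :=
      GeometricallyConnected.geometrically_connectedSpace (f := FBase.bcStr f K) _ _ _
        (.of_hasPullback _ _)
    have e1 : Spec.map (CommRingCat.ofHom a) ≫ Spec.map (CommRingCat.ofHom (algebraMap k K)) =
        Spec.map (CommRingCat.ofHom b) ≫ Spec.map (CommRingCat.ofHom (algebraMap k L)) := by
      rw [← Spec.map_comp, ← Spec.map_comp, ← CommRingCat.ofHom_comp, ← CommRingCat.ofHom_comp, hab]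
    have h2 : ConnectedSpace ↥(Limits.pullback f
        (Spec.map (CommRingCat.ofHom a) ≫ Spec.map (CommRingCat.ofHom (algebraMap k K)))) :=
      (Limits.pullbackLeftPullbackSndIso f (Spec.map (CommRingCat.ofHom (algebraMap k K)))
        (Spec.map (CommRingCat.ofHom a))).symm.hom.homeomorph.connectedSpace_iff.2 h1
    rw [e1] at h2
    have h3 : ConnectedSpace ↥(Limits.pullback
        (Limits.pullback.snd f (Spec.map (CommRingCat.ofHom (algebraMap k L))))
        (Spec.map (CommRingCat.ofHom b))) :=
      (Limits.pullbackLeftPullbackSndIso f (Spec.map (CommRingCat.ofHom (algebraMap k L)))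
        (Spec.map (CommRingCat.ofHom b))).hom.homeomorph.connectedSpace_iff.2 h2
    have : Surjective (Spec.map (CommRingCat.ofHom b)) := surjective_spec_map_field b
    have h4 : Surjective (Limits.pullback.fst
        (Limits.pullback.snd f (Spec.map (CommRingCat.ofHom (algebraMap k L))))
        (Spec.map (CommRingCat.ofHom b))) := inferInstance
    exact h4.surj.connectedSpace (Scheme.Hom.continuous _)

end Groth.Agent.S4625
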