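import Groth.Statements.S4629
import Groth.Agent.Lib.GeomReducedProd

set_option autoImplicit false
open CategoryTheory AlgebraicGeometry
universe u
open FBase

namespace Groth.Agent.S4629

open CategoryTheory.Limits in
/-- If X and Y are schemes over a field k which are both geometrically reduced over k, then X ×_k Y is
geometrically reduced over k. -/
theorem result {k : Type u} [Field k] {X Y : Scheme.{u}}
    (f : X ⟶ Spec (CommRingCat.of k)) (g : Y ⟶ Spec (CommRingCat.of k)) [GeometricallyReduced f]
    [GeometricallyReduced g] : GeometricallyReduced (pullback.fst f g ≫ f) := by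
  refine ⟨geometrically_iff_of_isClosedUnderIsomorphisms.mpr fun K _ y => ?_⟩
  have h1 : IsReduced (pullback g y) :=
    pullback_of_geometrically (GeometricallyReduced.geometrically_isReduced) K y
  have h2 : IsReduced (pullback f (pullback.fst g y ≫ g)) :=
    Groth.Agent.Lib.GeomReducedProd.isReduced_pullback f _
  have h3 : IsReduced (pullback (pullback.snd f g ≫ g) y) :=
    isReduced_of_isOpenImmersion (pullbackAssoc f g g y).hom
  have e : pullback.fst f g ≫ f = pullback.snd f g ≫ g := pullback.condition
  rw [e]
  exact h3

end Groth.Agent.S4629
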