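import Groth.Statements.S4632
import Groth.Agent.Lib.QuasiFlatGen
import Groth.Agent.Lib.QcImageClosure

set_option autoImplicit false
open CategoryTheory AlgebraicGeometry
universe u
open FDesc

namespace Groth.Agent.S4632

open CategoryTheory.Limits in
/-- Let f : X → Y be a quasi-compact dominant morphism and g : Y' → Y a quasi-flat morphism (for
instance a flat one). Then the base change X ×_Y Y' → Y' is dominant. -/
theorem result {X Y Y' : Scheme.{u}} (f : X ⟶ Y) (g : Y' ⟶ Y)
    [QuasiCompact f] [IsDominant f] (hg : FDesc.IsQuasiFlat g) : IsDominant (pullback.snd f g) := by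
  refine ⟨fun y' => ?_⟩
  have h1 : g y' ∈ closure (Set.range f) := by
    rw [f.denseRange.closure_range]; trivial
  obtain ⟨x, hx⟩ :=
    Groth.Agent.Lib.QcImageClosure.exists_specializes_of_mem_closure_range f (g y') h1
  obtain ⟨y'', hy'', hgy''⟩ := Groth.Agent.Lib.QuasiFlatGen.generalizingMap_of_isQuasiFlat g hg hx
  obtain ⟨w, -, hw⟩ := Scheme.Pullback.exists_preimage_pullback x y'' hgy''.symm
  exact hy''.mem_closed isClosed_closure (subset_closure ⟨w, hw⟩)

end Groth.Agent.S4632
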