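import Groth.Statements.S4633
import Groth.Agent.Lib.CycBCShift
import Groth.Agent.Lib.QuasiFlatGen
import Groth.Agent.S3429

set_option autoImplicit false
open CategoryTheory AlgebraicGeometry
universe u
open FDesc

namespace Groth.Agent.S4633

open CategoryTheory.Limits in
/-- the closure of a maximal point of a scheme is an irreducible component -/
theorem closure_mem_irreducibleComponents {T : Scheme.{u}} (t : T) (ht : ∀ y : T, y ⤳ t → y = t) :
    closure ({t} : Set T) ∈ irreducibleComponents ↥T := by
  refine ⟨isIrreducible_singleton.closure, ?_⟩
  intro W hW hle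
  have hWc : IsIrreducible (closure W) := hW.closure
  obtain ⟨w, hw⟩ := QuasiSober.sober hWc isClosed_closure
  have h1 : t ∈ closure W := subset_closure (hle (subset_closure rfl))
  rw [← hw.def] at h1
  have h2 : w ⤳ t := specializes_iff_mem_closure.mpr h1
  have h3 := ht w h2
  subst h3
  intro z hz
  rw [hw.def]
  exact subset_closure hz

/-- the generic point of an irreducible component is a maximal point -/
theorem maximal_of_closure_mem_irreducibleComponents {T : Scheme.{u}} (t : T)
    (ht : closure ({t} : Set T) ∈ irreducibleComponents ↥T) : ∀ y : T, y ⤳ t → y = t := by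
  intro y hy
  have h1 : closure ({t} : Set T) ⊆ closure ({y} : Set T) :=
    (isClosed_closure.closure_subset_iff).mpr (Set.singleton_subset_iff.mpr
      (specializes_iff_mem_closure.mp hy))
  have h2 := ht.2 isIrreducible_singleton.closure h1
  have h3 : y ∈ closure ({t} : Set T) := h2 (subset_closure rfl)
  exact ((specializes_iff_mem_closure.mpr h3).antisymm hy).eq.symm

open CategoryTheory.Limits in
/-- Let f : X → Y be a morphism such that every irreducible component of X dominates an irreducible
component of Y (the closure of its image under f is an irreducible component of Y), and let g : Y' →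
Y be quasi-flat (for instance flat). Then every irreducible component of X ×_Y Y' dominates an
irreducible component of Y'. -/
theorem result {X Y Y' : Scheme.{u}} (f : X ⟶ Y) (g : Y' ⟶ Y)
    (hf : ∀ Z ∈ irreducibleComponents ↥X, closure (⇑f '' Z) ∈ irreducibleComponents ↥Y)
    (hg : FDesc.IsQuasiFlat g) (Z' : Set ↥(pullback f g)) (hZ' : Z' ∈ irreducibleComponents ↥(pullback f g)) :
    closure (⇑(pullback.snd f g) '' Z') ∈ irreducibleComponents ↥Y' := by
  obtain ⟨ξ', hξ'⟩ := QuasiSober.sober hZ'.1 (isClosed_of_mem_irreducibleComponents _ hZ')
  have hξ'max : ∀ y : ↥(Limits.pullback f g), y ⤳ ξ' → y = ξ' :=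
    maximal_of_closure_mem_irreducibleComponents ξ' (by rw [hξ'.def]; exact hZ')
  have hsq : IsPullback (Limits.pullback.fst f g) (Limits.pullback.snd f g) f g :=
    IsPullback.of_hasPullback f g
  -- the first projection is quasi-flat, hence generalizing
  have hp : FDesc.IsQuasiFlat (Limits.pullback.fst f g) :=
    Groth.Agent.S3429.isQuasiFlat_of_isPullback hsq.flip hg
  have hgen := Groth.Agent.Lib.QuasiFlatGen.generalizingMap_of_isQuasiFlat _ hp
  -- the image of `ξ'` in `X` is maximal
  have hξmax : ∀ x : X, x ⤳ Limits.pullback.fst f g ξ' → x = Limits.pullback.fst f g ξ' := by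
    intro x hx
    obtain ⟨x'', hx''1, hx''2⟩ := hgen hx
    rw [hξ'max x'' hx''1] at hx''2
    exact hx''2.symm
  -- its image in `Y` is maximal
  have hηmax : ∀ y : Y, y ⤳ f (Limits.pullback.fst f g ξ') → y = f (Limits.pullback.fst f g ξ') := by
    apply maximal_of_closure_mem_irreducibleComponents
    have h1 := hf _ (closure_mem_irreducibleComponents _ hξmax)
    have h2 : closure (⇑f '' closure {Limits.pullback.fst f g ξ'}) =
        closure {f (Limits.pullback.fst f g ξ')} := by
      apply Set.Subset.antisymm
      · refine closure_minimal ?_ isClosed_closure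
        refine (image_closure_subset_closure_image f.continuous).trans ?_
        rw [Set.image_singleton]
      · refine closure_mono ?_
        rw [Set.singleton_subset_iff]
        exact ⟨_, subset_closure rfl, rfl⟩
    rwa [h2] at h1
  -- the image of `ξ'` in `Y'` is maximal
  have hη'max : ∀ y : Y', y ⤳ Limits.pullback.snd f g ξ' → y = Limits.pullback.snd f g ξ' := by
    intro y hy
    have hcomm : g (Limits.pullback.snd f g ξ') = f (Limits.pullback.fst f g ξ') := by
      have := congrArg (fun φ : Limits.pullback f g ⟶ Y => φ ξ') (Limits.pullback.condition (f := f) (g := g))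
      exact this.symm
    have h1 : g y ⤳ f (Limits.pullback.fst f g ξ') := by
      rw [← hcomm]; exact hy.map g.continuous
    have h2 : g y = g (Limits.pullback.snd f g ξ') := by rw [hcomm]; exact hηmax _ h1
    exact Groth.Agent.Lib.CycBCShift.max_snd_of_max hsq ξ' hξ'max y h2 hy
  have hcl : closure (⇑(Limits.pullback.snd f g) '' Z') = closure {Limits.pullback.snd f g ξ'} := by
    rw [← hξ'.def]
    apply Set.Subset.antisymm
    · refine closure_minimal ?_ isClosed_closure
      refine (image_closure_subset_closure_image (Limits.pullback.snd f g).continuous).trans ?_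
      rw [Set.image_singleton]
    · refine closure_mono ?_
      rw [Set.singleton_subset_iff]
      exact ⟨_, subset_closure rfl, rfl⟩
  rw [hcl]
  exact closure_mem_irreducibleComponents _ hη'max

end Groth.Agent.S4633
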