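import Groth.Statements.S4635
import Mathlib
import Groth.Agent.Lib.TensorNoEmb2
import Groth.Agent.Lib.AssPoints
import Groth.Agent.Lib.StructureModule

set_option autoImplicit false
open CategoryTheory AlgebraicGeometry
universe u
open FBase

namespace Groth.Agent.S4635


open CategoryTheory.Limits TopologicalSpace Opposite

open Groth.Agent.Lib.TensorNoEmb2 Groth.Agent.Lib.AssPoints Groth.Agent.Lib.QCohStalk
open TensorProduct

variable {k : Type u} [Field k] {X Y : Scheme.{u}}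
  (f : X ⟶ Spec (CommRingCat.of k)) (g : Y ⟶ Spec (CommRingCat.of k))

/-- the global sections of the fibre product of two integral affine `k`-schemes have no
embedded weakly associated primes -/
theorem noEmb_pullback_affine (A B : CommRingCat.{u}) [IsDomain A] [IsDomain B]
    (p : Spec A ⟶ Spec (CommRingCat.of k)) (q : Spec B ⟶ Spec (CommRingCat.of k)) :
    NoEmb Γ(pullback p q, ⊤) := by
  obtain ⟨φ, rfl⟩ : ∃ φ, Spec.map φ = p := ⟨_, Spec.map_preimage _⟩
  obtain ⟨ψ, rfl⟩ : ∃ ψ, Spec.map ψ = q := ⟨_, Spec.map_preimage _⟩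
  letI : Algebra k A := φ.hom.toAlgebra
  letI : Algebra k B := ψ.hom.toAlgebra
  let e : pullback (Spec.map φ) (Spec.map ψ) ≅ Spec (.of (A ⊗[k] B)) := pullbackSpecIso k A B
  let e1 : Γ(pullback (Spec.map φ) (Spec.map ψ), ⊤) ≅ Γ(Spec (.of (A ⊗[k] B)), ⊤) :=
    (Scheme.Γ.mapIso e.op).symm
  let e2 := e1 ≪≫ Scheme.ΓSpecIso (.of (A ⊗[k] B))
  exact noEmb_of_ringEquiv e2.commRingCatIsoToRingEquiv.symm (noEmb_tensor k A B)

theorem exists_affine_noEmb [IsIntegral X] [IsIntegral Y] (z : ↥(pullback f g)) :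
    ∃ U : (pullback f g).Opens, IsAffineOpen U ∧ z ∈ U ∧ NoEmb Γ(pullback f g, U) := by
  let 𝒰 := Scheme.Pullback.openCoverOfLeftRight X.affineOpenCover.openCover
    Y.affineOpenCover.openCover f g
  obtain ⟨ij, w, hw⟩ := 𝒰.exists_eq z
  let j := 𝒰.f ij
  let a : Spec (X.affineOpenCover.X ij.1) ⟶ X := X.affineOpenCover.f ij.1
  let b : Spec (Y.affineOpenCover.X ij.2) ⟶ Y := Y.affineOpenCover.f ij.2
  have w' : ↥(pullback (a ≫ f) (b ≫ g)) := w
  haveI : Nonempty ↥(Spec (X.affineOpenCover.X ij.1)) := ⟨(pullback.fst (a ≫ f) (b ≫ g)).base w'⟩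
  haveI : Nonempty ↥(Spec (Y.affineOpenCover.X ij.2)) := ⟨(pullback.snd (a ≫ f) (b ≫ g)).base w'⟩
  haveI : IsIntegral (Spec (X.affineOpenCover.X ij.1)) := isIntegral_of_isOpenImmersion a
  haveI : IsIntegral (Spec (Y.affineOpenCover.X ij.2)) := isIntegral_of_isOpenImmersion b
  haveI : IsDomain (X.affineOpenCover.X ij.1) := (affine_isIntegral_iff _).mp inferInstance
  haveI : IsDomain (Y.affineOpenCover.X ij.2) := (affine_isIntegral_iff _).mp inferInstance
  have hP : NoEmb Γ(pullback (a ≫ f) (b ≫ g), ⊤) := noEmb_pullback_affine _ _ (a ≫ f) (b ≫ g)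
  have j' : pullback (a ≫ f) (b ≫ g) ⟶ pullback f g := j
  haveI : IsOpenImmersion j := inferInstance
  haveI : IsAffine (𝒰.X ij) := inferInstanceAs (IsAffine (pullback (a ≫ f) (b ≫ g)))
  refine ⟨j ''ᵁ ⊤, (isAffineOpen_top _).image_of_isOpenImmersion j, ⟨w, trivial, hw⟩, ?_⟩
  exact noEmb_of_ringEquiv (j.appIso ⊤).commRingCatIsoToRingEquiv.symm hP

theorem result' [IsIntegral X] [IsIntegral Y] :
    AssSch.NoEmbedded (Coh.structureModule (pullback f g)) := by
  intro x hx y hy hyx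
  obtain ⟨U, hU, hxU, hne⟩ := exists_affine_noEmb f g x
  have hyU : y ∈ U := hyx.mem_open U.2 hxU
  set G := Coh.structureModule (pullback f g) with hG
  haveI : G.IsQuasicoherent := Groth.Agent.Lib.StructureModule.isQCoh_structureModule _
  have hx' : Curv2.IsWeakAssPoint G x := (isAssPoint_iff_isWeakAssPoint G x).mp hx
  have hy' : Curv2.IsWeakAssPoint G y := (isAssPoint_iff_isWeakAssPoint G y).mp hy
  obtain ⟨m, hm⟩ := exists_minimal_of_isWeakAssPoint G hU ⟨x, hxU⟩
    (isLocAt_of_isQuasicoherent G hU _) hx'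
  obtain ⟨m', hm'⟩ := exists_minimal_of_isWeakAssPoint G hU ⟨y, hyU⟩
    (isLocAt_of_isQuasicoherent G hU _) hy'
  have hspec : (⟨y, hyU⟩ : U) ⤳ ⟨x, hxU⟩ := (subtype_specializes_iff _ _).mpr hyx
  have hspec' : hU.primeIdealOf ⟨y, hyU⟩ ⤳ hU.primeIdealOf ⟨x, hxU⟩ :=
    hspec.map hU.isoSpec.hom.continuous
  have hle : (hU.primeIdealOf ⟨y, hyU⟩).asIdeal ≤ (hU.primeIdealOf ⟨x, hxU⟩).asIdeal :=
    (PrimeSpectrum.le_iff_specializes _ _).mpr hspec'
  have key : (hU.primeIdealOf ⟨x, hxU⟩).asIdeal = (hU.primeIdealOf ⟨y, hyU⟩).asIdeal :=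
    hne m m' _ _ hm hm' hle
  have key' : hU.primeIdealOf ⟨x, hxU⟩ = hU.primeIdealOf ⟨y, hyU⟩ := PrimeSpectrum.ext key
  have h1 := hU.fromSpec_primeIdealOf ⟨x, hxU⟩
  have h2 := hU.fromSpec_primeIdealOf ⟨y, hyU⟩
  rw [key'] at h1
  exact h1.symm.trans h2


open CategoryTheory.Limits in
/-- Let X and Y be integral locally Noetherian schemes over a field k such that X ×_k Y is locally
Noetherian. Then the structure sheaf of X ×_k Y has no embedded associated points. -/
theorem result {k : Type u} [Field k] {X Y : Scheme.{u}}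
    (f : X ⟶ Spec (CommRingCat.of k)) (g : Y ⟶ Spec (CommRingCat.of k)) [IsIntegral X] [IsIntegral Y]
    [IsLocallyNoetherian X] [IsLocallyNoetherian Y] [IsLocallyNoetherian (pullback f g)] :
    AssSch.NoEmbedded (Coh.structureModule (pullback f g)) := by
  exact result' f g

end Groth.Agent.S4635
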