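import Groth.Statements.S4636
import Groth.Agent.Lib.AssPoints
-- import your own Groth.Agent.* helpers here

set_option autoImplicit false
open CategoryTheory AlgebraicGeometry
universe u
open AssSch

namespace Groth.Agent.S4636

open Groth.Agent.Lib.AssPoints Groth.Agent.Lib.QCohStalk Opposite

/-- A point with nontrivial stalk has a weakly associated generization with nontrivial stalk. -/
theorem exists_ass_specializes {X : Scheme.{u}} (F : X.Modules) [F.IsQuasicoherent] (x : X)
    (hx : Nontrivial ↑(F.presheaf.stalk x)) :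
    ∃ y : X, y ⤳ x ∧ y ∈ AssSch.Ass F := by
  obtain ⟨ξ, hξ⟩ := exists_ne (0 : F.presheaf.stalk x)
  obtain ⟨U, hxU, s, rfl⟩ := TopCat.Presheaf.exists_germ_eq F.presheaf ξ
  obtain ⟨y, hyU, hyx, hyass, -⟩ := exists_isWeakAssPoint_of_germ_ne_zero F s x hxU hξ
  exact ⟨y, hyx, (isAssPoint_iff_isWeakAssPoint F y).mpr hyass⟩

theorem nontrivial_of_mem_ass {X : Scheme.{u}} (F : X.Modules) (x : X)
    (hx : x ∈ AssSch.Ass F) : Nontrivial ↑(F.presheaf.stalk x) := by
  by_contra hnt
  rw [not_nontrivial_iff_subsingleton] at hnt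
  obtain ⟨ξ, hξ⟩ := (isAssPoint_iff_isWeakAssPoint F x).mp hx
  have : (1 : X.presheaf.stalk x) ∈ IsLocalRing.maximalIdeal (X.presheaf.stalk x) := by
    rw [← hξ]
    apply Ideal.le_radical
    rw [LinearMap.mem_ker, LinearMap.toSpanSingleton_apply]
    exact Subsingleton.elim _ _
  exact (Ideal.ne_top_iff_one _).mp (IsLocalRing.maximalIdeal.isMaximal _).ne_top this

/-- Let X be a locally Noetherian scheme, F a coherent O_X-module and x a point of X. Then x is a
maximal associated point of F (an associated point such that every associated point specialising to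
x equals x) if and only if x is the generic point of an irreducible component of Supp F, i.e. F_x ≠
0 and every point y with F_y ≠ 0 that specialises to x equals x. -/
theorem result {X : Scheme.{u}} [IsLocallyNoetherian X] (F : X.Modules)
    (hF : Coh.IsCoh F) (x : X) :
    (x ∈ AssSch.Ass F ∧ ∀ y ∈ AssSch.Ass F, y ⤳ x → y = x) ↔
      (Nontrivial ↑(F.presheaf.stalk x) ∧ ∀ y : X, Nontrivial ↑(F.presheaf.stalk y) → y ⤳ x → y = x) := by
  haveI : F.IsQuasicoherent := hF.1
  constructor
  · rintro ⟨hx, hmax⟩
    refine ⟨nontrivial_of_mem_ass F x hx, fun y hy hyx => ?_⟩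
    obtain ⟨z, hzy, hz⟩ := exists_ass_specializes F y hy
    have hzx : z = x := hmax z hz (hzy.trans hyx)
    subst hzx
    exact (hzy.antisymm hyx).symm.eq
  · rintro ⟨hx, hmax⟩
    obtain ⟨z, hzx, hz⟩ := exists_ass_specializes F x hx
    have : z = x := hmax z (nontrivial_of_mem_ass F z hz) hzx
    subst this
    exact ⟨hz, fun y hy hyx => hmax y (nontrivial_of_mem_ass F y hy) hyx⟩

end Groth.Agent.S4636
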