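import Groth.Statements.S4638
import Groth.Agent.Lib.AssPoints
-- import your own Groth.Agent.* helpers here

set_option autoImplicit false
open CategoryTheory AlgebraicGeometry
universe u
open AssSch

namespace Groth.Agent.S4638

open Groth.Agent.Lib.AssPoints Groth.Agent.Lib.QCohStalk Opposite

/-- Let X be a locally Noetherian scheme, F a quasi-coherent O_X-module and f a global section of O_X.
Then f is F-regular, i.e. multiplication by the germ of f is injective on every stalk of F, if and
only if every associated point of F lies in the open subset X_f where f does not vanish. -/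
theorem result {X : Scheme.{u}} [IsLocallyNoetherian X] (F : X.Modules)
    (hF : Coh.IsQCoh F) (f : Γ(X, ⊤)) :
    (∀ x : X, IsSMulRegular ↑(F.presheaf.stalk x) (X.presheaf.germ ⊤ x trivial f)) ↔
      AssSch.Ass F ⊆ (X.basicOpen f : Set ↥X) := by
  haveI : F.IsQuasicoherent := hF
  constructor
  · intro hreg x hx
    rw [SetLike.mem_coe, Scheme.mem_basicOpen_top]
    by_contra hnu
    have hx' : Curv2.IsWeakAssPoint F x := (isAssPoint_iff_isWeakAssPoint F x).mp hx
    obtain ⟨ξ, hξ⟩ := hx'
    have hmem : X.presheaf.germ ⊤ x trivial f ∈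
        IsLocalRing.maximalIdeal (X.presheaf.stalk x) := hnu
    rw [← hξ] at hmem
    obtain ⟨n, hn⟩ := hmem
    rw [LinearMap.mem_ker, LinearMap.toSpanSingleton_apply] at hn
    have hξ0 : ξ = 0 := ((hreg x).pow n) (by beta_reduce; rw [hn, smul_zero])
    subst hξ0
    have : (1 : X.presheaf.stalk x) ∈ IsLocalRing.maximalIdeal (X.presheaf.stalk x) := by
      rw [← hξ]
      apply Ideal.le_radical
      rw [LinearMap.mem_ker, LinearMap.toSpanSingleton_apply, smul_zero]
    exact (Ideal.ne_top_iff_one _).mp (IsLocalRing.maximalIdeal.isMaximal _).ne_top this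
  · intro hsub x
    rw [IsSMulRegular]
    intro a b hab
    rw [← sub_eq_zero]
    have hab' : X.presheaf.germ ⊤ x trivial f • (a - b) = 0 := by
      rw [smul_sub]
      exact sub_eq_zero.mpr hab
    set ξ := a - b with hξdef
    clear_value ξ
    by_contra hne
    obtain ⟨U, hxU, s, rfl⟩ := TopCat.Presheaf.exists_germ_eq F.presheaf ξ
    -- `f • s` has zero germ at `x`, hence vanishes near `x`
    have h1 : F.presheaf.germ U x hxU
        ((X.presheaf.map (homOfLE le_top : U ⟶ ⊤).op f : Γ(X, U)) • (s : Γ(F, U))) = 0 := by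
      rw [germ_smul, TopCat.Presheaf.germ_res_apply]
      exact hab'
    obtain ⟨W, hxW, iU, iV, hW⟩ := TopCat.Presheaf.germ_eq F.presheaf x hxU hxU _ 0
      (by rw [h1, map_zero])
    rw [map_zero] at hW
    set s' : Γ(F, W) := F.presheaf.map iU.op s with hs'
    have hs'x : F.presheaf.germ W x hxW s' ≠ 0 := by
      rw [hs', TopCat.Presheaf.germ_res_apply]
      exact hne
    have hfs' : X.presheaf.map (homOfLE le_top : W ⟶ ⊤).op f • s' = 0 := by
      rw [Scheme.Modules.map_smul] at hW
      rw [← hW, hs', ← ConcreteCategory.comp_apply, ← Functor.map_comp]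
      rfl
    obtain ⟨y, hyW, -, hyass, hys'⟩ := exists_isWeakAssPoint_of_germ_ne_zero F s' x hxW hs'x
    have hy : y ∈ AssSch.Ass F := (isAssPoint_iff_isWeakAssPoint F y).mpr hyass
    have hyf := hsub hy
    rw [SetLike.mem_coe, Scheme.mem_basicOpen_top] at hyf
    apply hys'
    have h2 : X.presheaf.germ ⊤ y trivial f • F.presheaf.germ W y hyW s' = 0 := by
      rw [← TopCat.Presheaf.germ_res_apply X.presheaf (homOfLE le_top : W ⟶ ⊤) y hyW f,
        ← germ_smul, hfs', map_zero]
    exact hyf.smul_eq_zero.mp h2

end Groth.Agent.S4638
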