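import Groth.Statements.S4639
import Groth.Agent.Lib.FpqcDescent
import Groth.Agent.Lib.QcImageClosure

set_option autoImplicit false
open CategoryTheory AlgebraicGeometry
universe u
open FDesc
open CategoryTheory.Limits MorphismProperty

namespace Groth.Agent.S4639

set_option backward.isDefEq.respectTransparency.types false in
/-- The property of being quasi-compact and universally bicontinuous (every base change is a
homeomorphism onto its image) descends along a surjective, flat and quasi-compact base change. -/
theorem result :
    MorphismProperty.DescendsAlong
      (MorphismProperty.universally (topologically (fun f => Topology.IsEmbedding f)) ⊓ @QuasiCompact : MorphismProperty Scheme.{u})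
      (@Surjective ⊓ @Flat ⊓ @QuasiCompact : MorphismProperty Scheme.{u}) := by
  apply MorphismProperty.DescendsAlong.mk'
  intro X Y Z f g _ hf hfst
  have hsurj : Surjective f := hf.1.1
  have hflat : Flat f := hf.1.2
  have hqcf : QuasiCompact f := hf.2
  have hqc_fst : QuasiCompact (pullback.fst f g) := hfst.2
  have hqc : QuasiCompact g :=
    Groth.Agent.Lib.FpqcDescent.quasiCompact_of_isPullback_of_surjective
      (IsPullback.of_hasPullback f g)
  refine ⟨universally_mk' _ _ fun {T} t _ => ?_, hqc⟩
  change Topology.IsEmbedding (pullback.fst t g)
  have hs : Surjective (pullback.snd f t) := MorphismProperty.pullback_snd _ _ hsurj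
  have hfl : Flat (pullback.snd f t) := MorphismProperty.pullback_snd _ _ hflat
  apply Groth.Agent.Lib.QcImageClosure.isEmbedding_of_pullback_fst (pullback.snd f t) (pullback.fst t g)
  have key : IsPullback (pullback.fst (pullback.snd f t) (pullback.fst t g))
      (pullback.lift (pullback.fst _ _ ≫ pullback.fst f t) (pullback.snd _ _ ≫ pullback.snd t g)
        (by rw [Category.assoc, Category.assoc, pullback.condition, ← pullback.condition (f := t),
          ← Category.assoc, ← Category.assoc, pullback.condition]))
      (pullback.fst f t) (pullback.fst f g) := by
    have s := (IsPullback.of_hasPullback (pullback.snd f t) (pullback.fst t g)).paste_vert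
      (IsPullback.of_hasPullback t g)
    refine IsPullback.of_bot (v₂₁ := pullback.snd f g) (v₂₂ := f) (h₃₁ := g) ?_ ?_
      (IsPullback.of_hasPullback f g)
    · rw [pullback.lift_snd, pullback.condition]
      exact s
    · rw [pullback.lift_fst]
  exact hfst.1 _ _ _ key

end Groth.Agent.S4639
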