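import Groth.Statements.S4640
import Mathlib.RingTheory.Flat.TorsionFree
import Mathlib.RingTheory.Localization.BaseChange

set_option autoImplicit false
universe u
open FDesc

namespace Groth.Agent.S4640

open TensorProduct

section aux

variable {A K : Type u} [CommRing A] [IsDomain A] [Field K] [Algebra A K] [IsFractionRing A K]
  {M : Type u} [AddCommGroup M] [Module A M]

/-- Scalars from `A⁰` may be cancelled in a `K`-submodule of `K ⊗ M`. -/
lemma mem_of_smul_mem (P' : Submodule K (K ⊗[A] M)) (s : nonZeroDivisors A) (x : K ⊗[A] M)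
    (h : s • x ∈ P') : x ∈ P' := by
  have hs : (algebraMap A K (s : A)) ≠ 0 := by
    have := IsFractionRing.injective A K
    intro h0
    exact nonZeroDivisors.coe_ne_zero s (this (by rw [h0, map_zero]))
  have h1 : (algebraMap A K (s : A)) • x ∈ P' := by
    rw [algebraMap_smul]; exact h
  have h2 := P'.smul_mem (algebraMap A K (s : A))⁻¹ h1
  rwa [smul_smul, inv_mul_cancel₀ hs, one_smul] at h2

omit [IsDomain A] [IsFractionRing A K] in
lemma smul_mem' (P' : Submodule K (K ⊗[A] M)) (a : A) (x : K ⊗[A] M)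
    (h : x ∈ P') : a • x ∈ P' := by
  rw [← algebraMap_smul K a x]; exact P'.smul_mem _ h

omit [IsDomain A] in
/-- `1 ⊗ n = 0` forces `n = 0` for torsion-free `N`. -/
lemma eq_zero_of_one_tmul_eq_zero {N : Type u} [AddCommGroup N] [Module A N]
    (hN : Submodule.torsion A N = ⊥) (n : N) (h : (1 : K) ⊗ₜ[A] n = 0) : n = 0 := by
  have h' : TensorProduct.mk A K N 1 n = 0 := h
  rw [IsLocalizedModule.eq_zero_iff (nonZeroDivisors A)] at h'
  obtain ⟨s, hs⟩ := h'
  have : n ∈ Submodule.torsion A N := (Submodule.mem_torsion_iff n).mpr ⟨s, hs⟩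
  rw [hN] at this
  exact (Submodule.mem_bot A).mp this

end aux

open TensorProduct in
/-- Let A be a Dedekind domain with fraction field K, M an A-module and P' a K-submodule of K ⊗_A M. Let
φ : M → (K ⊗_A M)/P' be m ↦ class of 1 ⊗ m. Then a submodule Q of M equals ker φ if and only if M/Q
is a flat A-module and the kernel of the induced surjection K ⊗_A M → K ⊗_A (M/Q) is P'. Thus M/ker
φ is the unique flat quotient of M with generic fibre (K ⊗_A M)/P'. (The published statement takes A
Noetherian, regular and of dimension 1; a field is allowed here, where the statement is immediate.) -/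
theorem result {A K : Type u} [CommRing A] [IsDedekindDomain A] [Field K]
    [Algebra A K] [IsFractionRing A K] {M : Type u} [AddCommGroup M] [Module A M]
    (P' : Submodule K (K ⊗[A] M)) (Q : Submodule A M) :
    Q = LinearMap.ker ((P'.restrictScalars A).mkQ ∘ₗ TensorProduct.mk A K M 1) ↔
      (Module.Flat A (M ⧸ Q) ∧ LinearMap.ker (Q.mkQ.baseChange K) = P') := by
  have hφ : ∀ m : M, m ∈ LinearMap.ker ((P'.restrictScalars A).mkQ ∘ₗ TensorProduct.mk A K M 1) ↔
      (1 : K) ⊗ₜ[A] m ∈ P' := by
    intro m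
    rw [LinearMap.mem_ker, LinearMap.comp_apply, Submodule.mkQ_apply,
      Submodule.Quotient.mk_eq_zero]
    rfl
  have hbc : ∀ m : M, Q.mkQ.baseChange K ((1 : K) ⊗ₜ[A] m) = (1 : K) ⊗ₜ[A] (Q.mkQ m) := by
    intro m; simp
  have hmk : ∀ m : M, Q.mkQ m = 0 ↔ m ∈ Q := by
    intro m; rw [Submodule.mkQ_apply, Submodule.Quotient.mk_eq_zero]
  constructor
  · intro hQ
    have htors : Submodule.torsion A (M ⧸ Q) = ⊥ := by
      rw [eq_bot_iff]
      intro x hx
      obtain ⟨s, hs⟩ := (Submodule.mem_torsion_iff x).mp hx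
      obtain ⟨m, rfl⟩ := Q.mkQ_surjective x
      rw [Submodule.mem_bot]
      have h1 : (s : A) • m ∈ Q := by
        have : Q.mkQ ((s : A) • m) = 0 := by rw [map_smul]; exact hs
        exact (hmk _).mp this
      rw [hQ, hφ] at h1
      have h2 : s • ((1 : K) ⊗ₜ[A] m) ∈ P' := by
        have : s • ((1 : K) ⊗ₜ[A] m) = (1 : K) ⊗ₜ[A] ((s : A) • m) := by
          rw [TensorProduct.tmul_smul]; rfl
        rw [this]; exact h1
      have h3 := mem_of_smul_mem P' s _ h2
      rw [← hφ, ← hQ] at h3
      exact (hmk _).mpr h3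
    refine ⟨IsDedekindDomain.flat_iff_torsion_eq_bot.mpr htors, ?_⟩
    ext x
    obtain ⟨⟨m, s⟩, hms⟩ := IsLocalizedModule.surj (nonZeroDivisors A) (TensorProduct.mk A K M 1) x
    have hms' : s • x = (1 : K) ⊗ₜ[A] m := hms
    rw [LinearMap.mem_ker]
    constructor
    · intro hx
      have h1 : (1 : K) ⊗ₜ[A] (Q.mkQ m) = 0 := by
        rw [← hbc, ← hms']
        have : Q.mkQ.baseChange K (s • x) = s • Q.mkQ.baseChange K x := by
          change Q.mkQ.baseChange K ((s : A) • x) = (s : A) • Q.mkQ.baseChange K x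
          rw [← algebraMap_smul K (s : A) x, map_smul, algebraMap_smul]
        rw [this, hx, smul_zero]
      have h2 := eq_zero_of_one_tmul_eq_zero (K := K) htors _ h1
      have h3 : m ∈ Q := (hmk _).mp h2
      rw [hQ, hφ, ← hms'] at h3
      exact mem_of_smul_mem P' s x h3
    · intro hx
      have h1 : (1 : K) ⊗ₜ[A] m ∈ P' := by
        rw [← hms']; exact smul_mem' P' (s : A) x hx
      rw [← hφ, ← hQ] at h1
      have h2 : Q.mkQ.baseChange K (s • x) = 0 := by
        rw [hms', hbc]
        have : Q.mkQ m = 0 := (hmk _).mpr h1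
        rw [this, TensorProduct.tmul_zero]
      have h3 : s • Q.mkQ.baseChange K x = 0 := by
        rw [← h2]
        change (s : A) • Q.mkQ.baseChange K x = Q.mkQ.baseChange K ((s : A) • x)
        rw [← algebraMap_smul K (s : A) x, map_smul, algebraMap_smul]
      have h4 := mem_of_smul_mem (⊥ : Submodule K (K ⊗[A] (M ⧸ Q))) s _
        (by rw [h3]; exact Submodule.zero_mem _)
      exact (Submodule.mem_bot K).mp h4
  · rintro ⟨hflat, hker⟩
    have htors : Submodule.torsion A (M ⧸ Q) = ⊥ := Module.Flat.torsion_eq_bot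
    ext m
    rw [hφ, ← hker, LinearMap.mem_ker, hbc]
    constructor
    · intro hm
      have : Q.mkQ m = 0 := (hmk _).mpr hm
      rw [this, TensorProduct.tmul_zero]
    · intro h
      have := eq_zero_of_one_tmul_eq_zero (K := K) htors _ h
      exact (hmk _).mp this

end Groth.Agent.S4640
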