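import Groth.Statements.S4643
import Groth.Agent.Lib.H73FibDim2
import Groth.Agent.Lib.H77DimFieldExt

set_option autoImplicit false
open CategoryTheory AlgebraicGeometry
universe u
open FBase

namespace Groth.Agent.S4643

open Groth.Agent.Lib.H30DimField Groth.Agent.Lib.H73FibDim CategoryTheory.Limits

/-- fibres of the second projection have the dimension of `X` -/
theorem dim_fibre_snd {k : Type u} [Field k] {X Y : Scheme.{u}}
    (f : X ⟶ Spec (CommRingCat.of k)) (g : Y ⟶ Spec (CommRingCat.of k)) [LocallyOfFiniteType f]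
    (y : Y) :
    topologicalKrullDim ↥((pullback.snd f g) ⁻¹' {y}) = topologicalKrullDim X := by
  have h1 : IsPullback ((pullback.snd f g).fiberι y) ((pullback.snd f g).fiberToSpecResidueField y)
      (pullback.snd f g) (Y.fromSpecResidueField y) := IsPullback.of_hasPullback _ _
  have h2 : IsPullback (pullback.fst f g) (pullback.snd f g) f g := IsPullback.of_hasPullback _ _
  have h3 := h1.paste_horiz h2
  have h4 := Groth.Agent.Lib.H77DimFieldExt.dim_eq_of_isPullback_field f
    ((pullback.snd f g).fiberToSpecResidueField y) _ _ h3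
  rw [← h4]
  exact ((pullback.snd f g).fiberHomeo y).symm.isHomeomorph.topologicalKrullDim_eq


open CategoryTheory.Limits in
/-- Let X and Y be schemes locally of finite type over a field k. Then the dimension of X ×_k Y is the
sum of the dimensions of X and Y (Krull dimensions of the underlying spaces, valued in WithBot ℕ∞,
the empty scheme having dimension ⊥). -/
theorem result {k : Type u} [Field k] {X Y : Scheme.{u}}
    (f : X ⟶ Spec (CommRingCat.of k)) (g : Y ⟶ Spec (CommRingCat.of k)) [LocallyOfFiniteType f] [LocallyOfFiniteType g] :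
    topologicalKrullDim ↥(pullback f g) = topologicalKrullDim ↥X + topologicalKrullDim ↥Y := by
  rcases isEmpty_or_nonempty X with hX | hX
  · haveI : IsEmpty ↥(pullback f g) := ⟨fun p => hX.elim (pullback.fst f g p)⟩
    rw [dim_eq_bot_of_isEmpty X, dim_eq_bot_of_isEmpty ↥(pullback f g)]
    simp
  rcases isEmpty_or_nonempty Y with hY | hY
  · haveI : IsEmpty ↥(pullback f g) := ⟨fun p => hY.elim (pullback.snd f g p)⟩
    rw [dim_eq_bot_of_isEmpty Y, dim_eq_bot_of_isEmpty ↥(pullback f g)]
    simp
  letI : X.Over (Spec (CommRingCat.of k)) := ⟨f⟩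
  letI : Y.Over (Spec (CommRingCat.of k)) := ⟨g⟩
  letI : (pullback f g).Over (Spec (CommRingCat.of k)) := ⟨pullback.snd f g ≫ g⟩
  haveI : (pullback.snd f g).IsOver (Spec (CommRingCat.of k)) := ⟨rfl⟩
  haveI : LocallyOfFiniteType (X ↘ Spec (CommRingCat.of k)) := ‹LocallyOfFiniteType f›
  haveI : LocallyOfFiniteType (Y ↘ Spec (CommRingCat.of k)) := ‹LocallyOfFiniteType g›
  haveI : LocallyOfFiniteType (pullback.snd f g) := MorphismProperty.pullback_snd _ _ inferInstance
  haveI : LocallyOfFiniteType ((pullback f g) ↘ Spec (CommRingCat.of k)) :=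
    inferInstanceAs (LocallyOfFiniteType (pullback.snd f g ≫ g))
  have hX0 : (0 : WithBot ℕ∞) ≤ topologicalKrullDim X := by
    obtain ⟨x⟩ := hX
    exact le_trans (by exact_mod_cast Nat.zero_le _) (td_le_dim k x)
  have hY0 : (0 : WithBot ℕ∞) ≤ topologicalKrullDim Y := by
    obtain ⟨y⟩ := hY
    exact le_trans (by exact_mod_cast Nat.zero_le _) (td_le_dim k y)
  -- key lower bound
  have key : ∀ a b : ℕ, (a : WithBot ℕ∞) ≤ topologicalKrullDim X →
      (b : WithBot ℕ∞) ≤ topologicalKrullDim Y →
      ((a + b : ℕ) : WithBot ℕ∞) ≤ topologicalKrullDim ↥(pullback f g) := by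
    intro a b ha hb
    obtain ⟨y, hy⟩ := exists_td_ge k (Y := Y) b hb
    rw [← dim_fibre_snd f g y] at ha
    obtain ⟨p, hp, hle⟩ := exists_td_ge_of_le_fibre_dim k (pullback.snd f g) y a ha
    refine le_trans ?_ (td_le_dim k p)
    have : a + b ≤ (td k (pullback f g) p).toNat := by omega
    exact_mod_cast this
  -- write the dimensions as ℕ∞
  obtain ⟨m, hm⟩ : ∃ m : ℕ∞, topologicalKrullDim X = (m : WithBot ℕ∞) := by
    have : topologicalKrullDim X ≠ ⊥ := fun h => by rw [h] at hX0; simp at hX0
    exact ⟨_, (WithBot.coe_unbot _ this).symm⟩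
  obtain ⟨n, hn⟩ : ∃ n : ℕ∞, topologicalKrullDim Y = (n : WithBot ℕ∞) := by
    have : topologicalKrullDim Y ≠ ⊥ := fun h => by rw [h] at hY0; simp at hY0
    exact ⟨_, (WithBot.coe_unbot _ this).symm⟩
  apply le_antisymm
  · -- upper bound
    rw [hm, hn]
    induction m using ENat.recTopCoe with
    | top =>
      have : ((⊤ : ℕ∞) : WithBot ℕ∞) + (n : WithBot ℕ∞) = ((⊤ : ℕ∞) : WithBot ℕ∞) := by
        rw [← WithBot.coe_add, top_add]
      rw [this]
      exact le_top
    | coe a =>
      induction n using ENat.recTopCoe with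
      | top =>
        have : ((a : ℕ∞) : WithBot ℕ∞) + ((⊤ : ℕ∞) : WithBot ℕ∞) = ((⊤ : ℕ∞) : WithBot ℕ∞) := by
          rw [← WithBot.coe_add, add_top]
        rw [this]
        exact le_top
      | coe b =>
        have h0 : (((a : ℕ∞) : WithBot ℕ∞) + ((b : ℕ∞) : WithBot ℕ∞)) =
            ((a + b : ℕ) : WithBot ℕ∞) := by push_cast; rfl
        rw [h0]
        apply dim_le_of_td_le k
        intro p
        have h1 := td_sub_le_fibre_dim' k (pullback.snd f g) p
        rw [dim_fibre_snd f g, hm] at h1
        have h2 : (td k (pullback f g) p - td k Y (pullback.snd f g p)).toNat ≤ a := by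
          exact_mod_cast h1
        have h3 := td_le_dim k (pullback.snd f g p)
        rw [hn] at h3
        have h4 : (td k Y (pullback.snd f g p)).toNat ≤ b := by exact_mod_cast h3
        have h5 := td_nonneg k Y (pullback.snd f g p)
        push_cast
        omega
  · -- lower bound
    obtain ⟨l, hl⟩ : ∃ l : ℕ∞, topologicalKrullDim ↥(pullback f g) = (l : WithBot ℕ∞) := by
      have h00 := key 0 0 (by exact_mod_cast hX0) (by exact_mod_cast hY0)
      have : topologicalKrullDim ↥(pullback f g) ≠ ⊥ := fun h => by rw [h] at h00; simp at h00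
      exact ⟨_, (WithBot.coe_unbot _ this).symm⟩
    rw [hm, hn, hl, ← WithBot.coe_add, WithBot.coe_le_coe]
    have key' : ∀ a b : ℕ, (a : ℕ∞) ≤ m → (b : ℕ∞) ≤ n → ((a + b : ℕ) : ℕ∞) ≤ l := by
      intro a b ha hb
      have := key a b (by rw [hm]; exact_mod_cast ha) (by rw [hn]; exact_mod_cast hb)
      rw [hl] at this
      exact_mod_cast this
    induction m using ENat.recTopCoe with
    | top =>
      rw [top_add]
      rw [top_le_iff, ENat.eq_top_iff_forall_ge]
      intro a
      have := key' a 0 le_top zero_le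
      simpa using this
    | coe a =>
      induction n using ENat.recTopCoe with
      | top =>
        rw [add_top, top_le_iff, ENat.eq_top_iff_forall_ge]
        intro b
        have := key' 0 b zero_le le_top
        simpa using this
      | coe b =>
        have := key' a b le_rfl le_rfl
        exact_mod_cast this

end Groth.Agent.S4643
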