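import Groth.Statements.S4648
import Groth.Agent.Lib.ConsTop4
import Groth.Agent.Lib.QcImageClosure
import Groth.Agent.Lib.QuasiFlatGen
import Groth.Agent.S3398

set_option autoImplicit false
open CategoryTheory AlgebraicGeometry
universe u
open FDesc

namespace Groth.Agent.S4648

/-- Let f : X → Y be a quasi-flat, surjective and quasi-compact morphism and Z a subset of Y. Then Z is
a locally closed pro-constructible subset of Y if and only if f⁻¹(Z) is a locally closed
pro-constructible subset of X. -/
theorem result {X Y : Scheme.{u}} (f : X ⟶ Y)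
    (hf : FDesc.IsQuasiFlat f) [Surjective f] [QuasiCompact f] (Z : Set ↥Y) :
    (IsLocallyClosed Z ∧ ProCons.IsProConstructible Z) ↔
      (IsLocallyClosed (⇑f ⁻¹' Z) ∧ ProCons.IsProConstructible (⇑f ⁻¹' Z)) := by
  have hgen := Groth.Agent.Lib.QuasiFlatGen.generalizingMap_of_isQuasiFlat f hf
  have hsurj : Function.Surjective f := f.surjective
  constructor
  · rintro ⟨h1, h2⟩
    exact ⟨h1.preimage f.continuous, Groth.Agent.Lib.ConsTop.isProConstructible_preimage f h2⟩
  · rintro ⟨h1, h2⟩
    have hZimg : ⇑f '' (⇑f ⁻¹' Z) = Z := Set.image_preimage_eq Z hsurj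
    have hZpro : ProCons.IsProConstructible Z := by
      have := Groth.Agent.S3398.result f _ h2
      rwa [hZimg] at this
    refine ⟨?_, hZpro⟩
    -- `f⁻¹ (closure Z) = closure (f⁻¹ Z)`
    have hcl : ⇑f ⁻¹' closure Z = closure (⇑f ⁻¹' Z) := by
      apply Set.Subset.antisymm
      · intro x hx
        obtain ⟨z, hzZ, hz⟩ := Groth.Agent.Lib.ConsTop.exists_specializes_of_mem_closure Y hZpro hx
        obtain ⟨x', hx', hfx'⟩ := hgen hz
        exact hx'.mem_closed isClosed_closure (subset_closure (by
          change f x' ∈ Z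
          rw [hfx']; exact hzZ))
      · exact closure_minimal (Set.preimage_mono subset_closure)
          (isClosed_closure.preimage f.continuous)
    -- the preimage of `T = closure Z \ Z` is closed
    have hFcl : IsClosed (⇑f ⁻¹' (closure Z \ Z)) := by
      rw [Set.preimage_diff, hcl]
      have := h1.isOpen_coborder
      rw [coborder, isOpen_compl_iff] at this
      exact this
    have hTimg : ⇑f '' (⇑f ⁻¹' (closure Z \ Z)) = closure Z \ Z :=
      Set.image_preimage_eq _ hsurj
    have hTcl : IsClosed (closure Z \ Z) := by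
      rw [← closure_subset_iff_isClosed]
      intro t' ht'
      rw [← hTimg] at ht'
      obtain ⟨x, hxF, hx⟩ := Groth.Agent.Lib.QcImageClosure.exists_specializes_of_mem_closure_image f _
        hFcl t' ht'
      obtain ⟨x₁, rfl⟩ := hsurj t'
      obtain ⟨x₂, hx₂, hfx₂⟩ := hgen hx
      have hx₂F : x₂ ∈ ⇑f ⁻¹' (closure Z \ Z) := by
        change f x₂ ∈ closure Z \ Z
        rw [hfx₂]; exact hxF
      exact hx₂.mem_closed hFcl hx₂F
    rw [isLocallyClosed_iff_isOpen_coborder, coborder, isOpen_compl_iff]
    exact hTcl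

end Groth.Agent.S4648
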