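import Groth.Statements.S4649
import Groth.Agent.Lib.H71IrrConnCard
import Groth.Agent.S4630
import Groth.Agent.S4631
import Groth.Agent.Lib.FieldBC13
import Mathlib.AlgebraicGeometry.Noetherian
import Mathlib.AlgebraicGeometry.Morphisms.FiniteType

set_option autoImplicit false
open CategoryTheory AlgebraicGeometry
universe u
open FBase

namespace Groth.Agent.S4649

/-- Let X be a scheme of finite type over a field k and Ω an algebraically closed extension field of k.
Then X is geometrically pointwise integral over k (every local ring of every X ⊗_k K is a domain) if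
and only if X is geometrically reduced over k and the number of irreducible components of X ⊗_k Ω
equals the number of connected components of X ⊗_k Ω (the geometric numbers of irreducible and of
connected components agree). -/
theorem result {k Ω : Type u} [Field k] [Field Ω] [Algebra k Ω] [IsAlgClosed Ω]
    {X : Scheme.{u}} (f : X ⟶ Spec (CommRingCat.of k)) [LocallyOfFiniteType f] [QuasiCompact f] :
    (∀ x : X, FBase.IsGeomPtIntegralAt f x) ↔
      (GeometricallyReduced f ∧
        Nat.card ↥(irreducibleComponents ↥(FBase.bc f Ω)) = Nat.card (_root_.ConnectedComponents ↥(FBase.bc f Ω))) := by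
  set q := Spec.map (CommRingCat.ofHom (algebraMap k Ω)) with hq
  -- the base change is a Noetherian scheme
  haveI hlft : LocallyOfFiniteType (Limits.pullback.snd f q) :=
    MorphismProperty.pullback_snd _ _ inferInstance
  haveI hlN : IsLocallyNoetherian (Limits.pullback f q) :=
    LocallyOfFiniteType.isLocallyNoetherian (Limits.pullback.snd f q)
  haveI hcomp : CompactSpace ↥(Limits.pullback f q) := inferInstance
  haveI hN : IsNoetherian (Limits.pullback f q) := {}
  haveI hNS : TopologicalSpace.NoetherianSpace ↥(FBase.bc f Ω) :=
    inferInstanceAs (TopologicalSpace.NoetherianSpace ↥(Limits.pullback f q))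
  -- reduction to the local rings of the base change
  have hA : (∀ x : X, FBase.IsGeomPtIntegralAt f x) ↔
      ∀ y : ↥(FBase.bc f Ω), IsDomain ↑((FBase.bc f Ω).presheaf.stalk y) := by
    constructor
    · intro h y
      exact (Groth.Agent.S4631.result (FBase.bcStr f Ω) y).1
        ((Groth.Agent.S4630.result f y).1 (h _))
    · intro h x
      obtain ⟨y, rfl⟩ := Groth.Agent.Lib.FieldBC13.surjective_fst Ω f x
      exact (Groth.Agent.S4630.result f y).2
        ((Groth.Agent.S4631.result (FBase.bcStr f Ω) y).2 (h y))
  rw [hA, Groth.Agent.Lib.H71IrrConnCard.forall_isDomain_stalk_iff,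
    Groth.Agent.Lib.H71IrrConnCard.pairwiseDisjoint_iff_card_eq]
  constructor
  · rintro ⟨hred, hcard⟩
    refine ⟨?_, hcard⟩
    have hI := hA.2 ((Groth.Agent.Lib.H71IrrConnCard.forall_isDomain_stalk_iff _).2
      ⟨hred, Groth.Agent.Lib.H71IrrConnCard.pairwiseDisjoint_iff_card_eq.2 hcard⟩)
    refine ⟨(geometrically_iff_of_commRing_of_isClosedUnderIsomorphisms ..).mpr fun K _ _ => ?_⟩
    have : ∀ x' : ↥(Limits.pullback f (Spec.map (CommRingCat.ofHom (algebraMap k K)))),
        _root_.IsReduced ((Limits.pullback f
          (Spec.map (CommRingCat.ofHom (algebraMap k K)))).presheaf.stalk x') := by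
      intro x'
      have hd : IsDomain ↑((Limits.pullback f
          (Spec.map (CommRingCat.ofHom (algebraMap k K)))).presheaf.stalk x') := hI _ K x' rfl
      infer_instance
    exact isReduced_of_isReduced_stalk _
  · rintro ⟨hgr, hcard⟩
    refine ⟨?_, hcard⟩
    exact (geometrically_iff_of_commRing_of_isClosedUnderIsomorphisms ..).mp
      hgr.geometrically_isReduced Ω

end Groth.Agent.S4649
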