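import Groth.Statements.S4650
import Mathlib.Topology.Sober
import Mathlib.AlgebraicGeometry.Properties

set_option autoImplicit false
open CategoryTheory AlgebraicGeometry
universe u
open FDesc

namespace Groth.Agent.S4650

/-- Let f : X → Y be a morphism of schemes along which generizations lift (this holds for flat,
quasi-flat or open morphisms). Then every irreducible component of X dominates an irreducible
component of Y: the closure of its image is an irreducible component of Y. -/
theorem result {X Y : Scheme.{u}} (f : X ⟶ Y)
    (hf : GeneralizingMap ⇑f) (T : Set ↥X) (hT : T ∈ irreducibleComponents ↥X) :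
    closure (⇑f '' T) ∈ irreducibleComponents ↥Y := by
  have hTirr : IsIrreducible T := hT.1
  have hTcl : IsClosed T := isClosed_of_mem_irreducibleComponents T hT
  have hξ : IsGenericPoint hTirr.genericPoint T := hTirr.isGenericPoint_genericPoint hTcl
  set ξ := hTirr.genericPoint with hξdef
  have hξT : closure ({ξ} : Set ↥X) = T := hξ.def
  have hirr : IsIrreducible (closure (⇑f '' T)) :=
    (hTirr.image f f.continuous.continuousOn).closure
  have hcl : closure (⇑f '' T) = closure ({f ξ} : Set ↥Y) := by
    apply subset_antisymm
    · apply closure_minimal _ isClosed_closure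
      rw [← hξT]
      refine (image_closure_subset_closure_image f.continuous).trans ?_
      rw [Set.image_singleton]
    · apply closure_mono
      rw [Set.singleton_subset_iff]
      exact ⟨ξ, hξ.mem, rfl⟩
  refine ⟨hirr, fun Z hZ hle => ?_⟩
  have hZc : IsIrreducible (closure Z) := hZ.closure
  have hη : IsGenericPoint hZc.genericPoint (closure Z) :=
    hZc.isGenericPoint_genericPoint isClosed_closure
  set η := hZc.genericPoint with hηdef
  have hspec : η ⤳ f ξ := by
    rw [specializes_iff_mem_closure, hη.def]
    apply subset_closure
    apply hle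
    rw [hcl]
    exact subset_closure rfl
  obtain ⟨ξ', hξ'ξ, hfξ'⟩ := hf hspec
  have hirr' : IsIrreducible (closure ({ξ'} : Set ↥X)) := isIrreducible_singleton.closure
  have hTle : T ≤ closure ({ξ'} : Set ↥X) := by
    rw [← hξT]
    exact closure_minimal (Set.singleton_subset_iff.mpr (specializes_iff_mem_closure.mp hξ'ξ))
      isClosed_closure
  have hle' : closure ({ξ'} : Set ↥X) ≤ T := hT.2 hirr' hTle
  have hξξ' : ξ ⤳ ξ' := by
    rw [specializes_iff_mem_closure, hξT]
    exact hle' (subset_closure rfl)
  have heq : ξ' = ξ := (hξ'ξ.antisymm hξξ').eq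
  rw [heq] at hfξ'
  calc Z ≤ closure Z := subset_closure
    _ = closure ({η} : Set ↥Y) := hη.def.symm
    _ = closure (⇑f '' T) := by rw [← hfξ', hcl]

end Groth.Agent.S4650
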