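import Groth.Statements.S4651
import Mathlib.Topology.Sober
import Mathlib.AlgebraicGeometry.Properties
import Mathlib.Topology.Separation.Basic

set_option autoImplicit false
open CategoryTheory AlgebraicGeometry
universe u
open FDesc

namespace Groth.Agent.S4651

section Top

variable {X Y : Type*} [TopologicalSpace X] [TopologicalSpace Y]

/-- The image of the generic point of an irreducible component under a continuous generalizing map
is the generic point of an irreducible component. -/
lemma closure_image_mem_irreducibleComponents [QuasiSober Y] (f : X → Y) (hc : Continuous f)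
    (hf : GeneralizingMap f) (ξ : X) (hξ : closure {ξ} ∈ irreducibleComponents X) :
    closure {f ξ} ∈ irreducibleComponents Y := by
  refine ⟨isIrreducible_singleton.closure, ?_⟩
  intro Z' hZ' hle
  -- generic point of the closure of Z'
  obtain ⟨η, hη⟩ := QuasiSober.sober hZ'.closure isClosed_closure
  have hη' : closure {η} = closure Z' := hη
  have h1 : η ⤳ f ξ := by
    rw [specializes_iff_mem_closure, hη']
    exact subset_closure (hle (subset_closure rfl))
  obtain ⟨ξ', hξ'1, hξ'2⟩ := hf h1
  -- ξ' ⤳ ξ and maximality give ξ ⤳ ξ'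
  have h2 : closure {ξ} ⊆ closure {ξ'} := by
    rw [← specializes_iff_closure_subset]; exact hξ'1
  have h3 : closure {ξ'} ⊆ closure {ξ} := hξ.2 isIrreducible_singleton.closure h2
  have h4 : ξ ⤳ ξ' := by
    rw [specializes_iff_closure_subset]; exact h3
  have h5 : f ξ ⤳ η := by
    rw [← hξ'2]; exact h4.map hc
  calc Z' ⊆ closure Z' := subset_closure
    _ = closure {η} := hη'.symm
    _ ⊆ closure {f ξ} := by rw [← specializes_iff_closure_subset]; exact h5

theorem locallyFinite_irreducibleComponents [QuasiSober X] [QuasiSober Y] [T0Space Y]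
    (f : X → Y) (hc : Continuous f)
    (hY : ∀ y : Y, ∃ U : Set Y, IsOpen U ∧ y ∈ U ∧
      {Z ∈ irreducibleComponents Y | (Z ∩ U).Nonempty}.Finite)
    (hf : GeneralizingMap f) (hfin : ∀ y : Y, (f ⁻¹' {y}).Finite) (x : X) :
    ∃ U : Set X, IsOpen U ∧ x ∈ U ∧ {T ∈ irreducibleComponents X | (T ∩ U).Nonempty}.Finite := by
  obtain ⟨U, hUo, hxU, hUfin⟩ := hY (f x)
  refine ⟨f ⁻¹' U, hUo.preimage hc, hxU, ?_⟩
  -- generic points of the finitely many components meeting U
  let G : Set Y := {y | closure {y} ∈ {Z ∈ irreducibleComponents Y | (Z ∩ U).Nonempty}}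
  have hG : G.Finite := by
    apply Set.Finite.preimage _ hUfin
    intro y _ y' _ h
    exact (inseparable_iff_closure_eq.mpr h).eq
  have hF : (f ⁻¹' G).Finite := Set.Finite.preimage' hG (fun y _ => hfin y)
  apply (hF.image (fun ξ => closure {ξ})).subset
  rintro T ⟨hT, t, htT, htU⟩
  obtain ⟨ξ, hξ⟩ := QuasiSober.sober hT.1 (isClosed_of_mem_irreducibleComponents T hT)
  have hξ' : closure {ξ} = T := hξ
  refine ⟨ξ, ?_, hξ'⟩
  have hξt : ξ ⤳ t := by
    rw [specializes_iff_mem_closure, hξ']; exact htT
  have hξU : ξ ∈ f ⁻¹' U := hξt.mem_open (hUo.preimage hc) htU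
  refine ⟨closure_image_mem_irreducibleComponents f hc hf ξ (hξ' ▸ hT), f ξ, subset_closure rfl, hξU⟩

end Top

/-- Let Y be a scheme whose family of irreducible components is locally finite (every point has an open
neighbourhood meeting only finitely many irreducible components), and let f : X → Y be a morphism
along which generizations lift (e.g. flat, quasi-flat or open) such that every fibre f⁻¹(y) is a
finite set (e.g. f quasi-finite or radicial). Then the family of irreducible components of X is
locally finite. -/
theorem result {X Y : Scheme.{u}} (f : X ⟶ Y)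
    (hY : ∀ y : Y, ∃ U : Set ↥Y, IsOpen U ∧ y ∈ U ∧ {Z ∈ irreducibleComponents ↥Y | (Z ∩ U).Nonempty}.Finite)
    (hf : GeneralizingMap ⇑f) (hfin : ∀ y : Y, (⇑f ⁻¹' {y}).Finite) (x : X) :
    ∃ U : Set ↥X, IsOpen U ∧ x ∈ U ∧ {T ∈ irreducibleComponents ↥X | (T ∩ U).Nonempty}.Finite := by
  exact locallyFinite_irreducibleComponents (⇑f) f.continuous hY hf hfin x

end Groth.Agent.S4651
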