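import Groth.Statements.S4652
import Groth.Agent.Lib.LocFreeFP

set_option autoImplicit false
open CategoryTheory AlgebraicGeometry
universe u
open FDesc

namespace Groth.Agent.S4652

/-- Let X be a scheme, F a finitely presented O_X-module and x a point of X. Then F_x is a flat module
over the local ring O_{X,x} if and only if x has an open neighbourhood U such that the restriction
of F to U is finite locally free. -/
theorem result {X : Scheme.{u}} (F : X.Modules) (hF : CohB1.IsFP F) (x : X) :
    FlatMod.IsFlatAt F x ↔ ∃ U : X.Opens, x ∈ U ∧ FlatMod.IsFinLocFree ((Scheme.Modules.pullback U.ι).obj F) := by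
  constructor
  · intro hflat
    obtain ⟨n, hn⟩ := Groth.Agent.Lib.LocFreeFP.exists_locFreeAt_of_isFP_of_flat F hF x hflat
    obtain ⟨U, hxU, ⟨e⟩⟩ := hn.exists_restrict_iso
    refine ⟨U, hxU, ?_⟩
    have h1 : FlatMod.IsFinLocFree (F.restrict U.ι) :=
      Groth.Agent.Lib.FinLocFree.isFinLocFree_of_iso e.symm
        (Groth.Agent.Lib.PerfectLocal.isFinLocFree_freeMod _ n)
    exact Groth.Agent.Lib.FinLocFree.isFinLocFree_of_iso
      ((Scheme.Modules.restrictFunctorIsoPullback U.ι).app F) h1
  · rintro ⟨U, hxU, h⟩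
    have h1 : FlatMod.IsFinLocFree (F.restrict U.ι) :=
      Groth.Agent.Lib.FinLocFree.isFinLocFree_of_iso
        ((Scheme.Modules.restrictFunctorIsoPullback U.ι).app F).symm h
    have h2 := Groth.Agent.Lib.LocFreeFP.free_stalk_of_isFinLocFree h1 ⟨x, hxU⟩
    have h3 : Module.Free (X.presheaf.stalk x) (F.presheaf.stalk x) :=
      (Groth.Agent.Lib.RestrictStalk.free_restrict_iff U.ι F ⟨x, hxU⟩).mp h2
    exact (inferInstance : Module.Flat (X.presheaf.stalk x) (F.presheaf.stalk x))

end Groth.Agent.S4652
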