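import Groth.Statements.S4654
import Groth.Agent.Lib.ModStalkLin
import Mathlib.RingTheory.Flat.Equalizer

set_option autoImplicit false
set_option linter.style.haveILetI false
open CategoryTheory AlgebraicGeometry
universe u
open FDesc

namespace Groth.Agent.S4654

section helpers

open TensorProduct in
/-- 2-out-of-3 for flatness in a short exact sequence with flat cokernel. -/
theorem flat_iff_of_exact_of_flat {R M N P : Type*} [CommRing R] [AddCommGroup M] [AddCommGroup N]
    [AddCommGroup P] [Module R M] [Module R N] [Module R P] [Module.Flat R P]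
    (g : M →ₗ[R] N) (f : N →ₗ[R] P) (hg : Function.Injective g) (hf : Function.Surjective f)
    (H : Function.Exact g f) : Module.Flat R N ↔ Module.Flat R M := by
  have hc1 : ∀ (I : Ideal R) (z : I ⊗[R] M), (g.lTensor R) ((I.subtype.rTensor M) z) =
      (I.subtype.rTensor N) ((g.lTensor I) z) := by
    intro I z
    induction z using TensorProduct.induction_on with
    | zero => simp
    | tmul a m => simp
    | add a b ha hb => simp [ha, hb]
  have hc2 : ∀ (I : Ideal R) (z : I ⊗[R] N), (f.lTensor R) ((I.subtype.rTensor N) z) =
      (I.subtype.rTensor P) ((f.lTensor I) z) := by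
    intro I z
    induction z using TensorProduct.induction_on with
    | zero => simp
    | tmul a m => simp
    | add a b ha hb => simp [ha, hb]
  constructor
  · intro hN
    rw [Module.Flat.iff_rTensor_injective']
    intro I
    have h1 : Function.Injective (g.lTensor I) :=
      LinearMap.lTensor_injective_of_exact_of_flat f hf g hg H I
    have h2 : Function.Injective (I.subtype.rTensor N) :=
      Module.Flat.rTensor_preserves_injective_linearMap _ Subtype.val_injective
    intro a b hab
    apply h1
    apply h2
    rw [← hc1, ← hc1, hab]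
  · intro hM
    rw [Module.Flat.iff_rTensor_injective']
    intro I
    have hM' : Function.Injective (I.subtype.rTensor M) :=
      Module.Flat.rTensor_preserves_injective_linearMap _ Subtype.val_injective
    have hP' : Function.Injective (I.subtype.rTensor P) :=
      Module.Flat.rTensor_preserves_injective_linearMap _ Subtype.val_injective
    have hgA : Function.Injective (g.lTensor R) :=
      LinearMap.lTensor_injective_of_exact_of_flat f hf g hg H R
    have hexA' : Function.Exact (g.lTensor I) (f.lTensor I) := lTensor_exact I H hf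
    rw [injective_iff_map_eq_zero]
    intro y hy
    have h1 : (f.lTensor I) y = 0 := by
      apply hP'
      rw [← hc2, hy, map_zero, map_zero]
    obtain ⟨z, rfl⟩ := (hexA' y).1 h1
    have h2 : (I.subtype.rTensor M) z = 0 := by
      apply hgA
      rw [hc1, hy, map_zero]
    have h3 : z = 0 := by
      apply hM'
      rw [h2, map_zero]
    rw [h3, map_zero]

end helpers


/-- Let f : X → Y be a morphism of schemes and 0 → F' → F → F'' → 0 a short exact sequence of
quasi-coherent O_X-modules such that F'' is flat over Y. Then F is flat over Y if and only if F' is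
flat over Y. -/
theorem result {X Y : Scheme.{u}} (f : X ⟶ Y) (S : ShortComplex X.Modules)
    (hS : S.ShortExact) (h₁ : Coh.IsQCoh S.X₁) (h₂ : Coh.IsQCoh S.X₂) (h₃ : Coh.IsQCoh S.X₃)
    (hflat : FlatMod.IsFlatOver f S.X₃) :
    FlatMod.IsFlatOver f S.X₂ ↔ FlatMod.IsFlatOver f S.X₁ := by
  have key : ∀ x : X, FlatMod.IsFlatOverAt f S.X₂ x ↔ FlatMod.IsFlatOverAt f S.X₁ x := by
    intro x
    obtain ⟨hinj, hex, hsurj⟩ := Groth.Agent.Lib.ModStalkLin.stalkLin_exact hS x
    letI m1 := FlatMod.moduleStalkOver f S.X₁ x
    letI m2 := FlatMod.moduleStalkOver f S.X₂ x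
    letI m3 := FlatMod.moduleStalkOver f S.X₃ x
    let g' : S.X₁.presheaf.stalk x →ₗ[Y.presheaf.stalk (f.base x)] S.X₂.presheaf.stalk x :=
      { toFun := Groth.Agent.Lib.ModStalkLin.stalkLin S.f x
        map_add' := fun a b => map_add _ a b
        map_smul' := fun r m =>
          (Groth.Agent.Lib.ModStalkLin.stalkLin S.f x).map_smul ((f.stalkMap x).hom r) m }
    let f' : S.X₂.presheaf.stalk x →ₗ[Y.presheaf.stalk (f.base x)] S.X₃.presheaf.stalk x :=
      { toFun := Groth.Agent.Lib.ModStalkLin.stalkLin S.g x
        map_add' := fun a b => map_add _ a b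
        map_smul' := fun r m =>
          (Groth.Agent.Lib.ModStalkLin.stalkLin S.g x).map_smul ((f.stalkMap x).hom r) m }
    haveI : Module.Flat (Y.presheaf.stalk (f.base x)) (S.X₃.presheaf.stalk x) := hflat x
    exact flat_iff_of_exact_of_flat g' f' hinj hsurj hex
  exact ⟨fun h x => (key x).1 (h x), fun h x => (key x).2 (h x)⟩

end Groth.Agent.S4654
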