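import Groth.Statements.S4656
import Mathlib.RingTheory.Flat.FaithfullyFlat.Algebra

set_option autoImplicit false
open CategoryTheory AlgebraicGeometry
universe u
open FDesc

namespace Groth.Agent.S4656

open TensorProduct in
/-- Flatness descends along a faithfully flat algebra: if `C` is faithfully flat over `B` and flat over
`A`, then `B` is flat over `A`. -/
lemma flat_of_faithfullyFlat_of_flat (A B C : Type*) [CommRing A] [CommRing B] [CommRing C]
    [Algebra A B] [Algebra B C] [Algebra A C] [IsScalarTower A B C]
    [Module.FaithfullyFlat B C] [Module.Flat A C] : Module.Flat A B := by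
  rw [Module.Flat.iff_lTensor_preserves_injective_linearMap]
  intro N P _ _ _ _ f hf
  let f' : B ⊗[A] N →ₗ[B] B ⊗[A] P := AlgebraTensorModule.map (LinearMap.id : B →ₗ[B] B) f
  have hf' : (f' : B ⊗[A] N → B ⊗[A] P) = f.lTensor B := by
    ext x
    induction x using TensorProduct.induction_on with
    | zero => simp
    | tmul b n => simp [f']
    | add x y hx hy => simp only [map_add, hx, hy]
  rw [← hf', ← Module.FaithfullyFlat.lTensor_injective_iff_injective B C]
  have key : (AlgebraTensorModule.cancelBaseChange A B C C P).toLinearMap.restrictScalars A ∘ₗ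
      ((f'.lTensor C).restrictScalars A) =
      (f.lTensor C) ∘ₗ
        (AlgebraTensorModule.cancelBaseChange A B C C N).toLinearMap.restrictScalars A := by
    apply LinearMap.ext
    intro x
    induction x using TensorProduct.induction_on with
    | zero => simp
    | tmul c y =>
      induction y using TensorProduct.induction_on with
      | zero => simp
      | tmul b n => simp [f']
      | add y z hy hz =>
        simp only [tmul_add, map_add, hy, hz]
    | add x y hx hy => simp only [map_add, hx, hy]
  have hinj : Function.Injective (f.lTensor C) :=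
    Module.Flat.lTensor_preserves_injective_linearMap f hf
  intro x y hxy
  apply (AlgebraTensorModule.cancelBaseChange A B C C N).injective
  apply hinj
  have hx := LinearMap.congr_fun key x
  have hy := LinearMap.congr_fun key y
  simp only [LinearMap.comp_apply, LinearMap.restrictScalars_apply, LinearEquiv.coe_coe] at hx hy
  rw [← hx, ← hy, hxy]

lemma ringHom_flat_of_comp {A B C : Type*} [CommRing A] [CommRing B] [CommRing C]
    [IsLocalRing B] [IsLocalRing C] (φ : A →+* B) (ψ : B →+* C) [IsLocalHom ψ]
    (hψ : ψ.Flat) (h : (ψ.comp φ).Flat) : φ.Flat := by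
  let := φ.toAlgebra
  let := ψ.toAlgebra
  let := (ψ.comp φ).toAlgebra
  have : IsScalarTower A B C := IsScalarTower.of_algebraMap_eq' rfl
  have : Module.Flat B C := hψ
  have : IsLocalHom (algebraMap B C) := ‹IsLocalHom ψ›
  have : Module.FaithfullyFlat B C := Module.FaithfullyFlat.of_flat_of_isLocalHom
  have : Module.Flat A C := h
  exact flat_of_faithfullyFlat_of_flat A B C

/-- Let f : X → Y and g : Y → Z be morphisms of schemes and x a point of X at which f is flat (the local
ring of X at x is flat over that of Y at f(x)). Then the composite g ∘ f is flat at x if and only if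
g is flat at f(x). -/
theorem result {X Y Z : Scheme.{u}} (f : X ⟶ Y) (g : Y ⟶ Z) (x : X)
    (hf : (f.stalkMap x).hom.Flat) :
    ((f ≫ g).stalkMap x).hom.Flat ↔ (g.stalkMap (f x)).hom.Flat := by
  have hcomp : ((f ≫ g).stalkMap x).hom = (f.stalkMap x).hom.comp (g.stalkMap (f x)).hom := by
    rw [Scheme.Hom.stalkMap_comp]
    rfl
  rw [hcomp]
  constructor
  · intro h
    exact ringHom_flat_of_comp (g.stalkMap (f x)).hom (f.stalkMap x).hom hf h
  · intro h
    exact h.comp hf

end Groth.Agent.S4656
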