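import Groth.Statements.S4662
import Groth.Agent.Lib.H71EquiDimSch

set_option autoImplicit false
open CategoryTheory AlgebraicGeometry
universe u
open FBase

namespace Groth.Agent.S4662

open CategoryTheory.Limits in
/-- Let X and Y be integral schemes locally of finite type over a field k. Then every irreducible
component of X ×_k Y has dimension dim X + dim Y (Krull dimensions of the underlying spaces, valued
in WithBot ℕ∞). -/
theorem result {k : Type u} [Field k] {X Y : Scheme.{u}}
    (f : X ⟶ Spec (CommRingCat.of k)) (g : Y ⟶ Spec (CommRingCat.of k)) [IsIntegral X] [IsIntegral Y]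
    [LocallyOfFiniteType f] [LocallyOfFiniteType g] (Z : Set ↥(pullback f g))
    (hZ : Z ∈ irreducibleComponents ↥(pullback f g)) :
    topologicalKrullDim ↥Z = topologicalKrullDim ↥X + topologicalKrullDim ↥Y := by
  have hZi : IsIrreducible Z := hZ.1
  have hZc : IsClosed Z := isClosed_of_mem_irreducibleComponents Z hZ
  obtain ⟨w, hw⟩ := QuasiSober.sober hZi hZc
  have hmax : ∀ t : ↥(pullback f g), t ⤳ w → t = w := by
    intro t ht
    have h2 : Z ⊆ closure {t} := by
      rw [← hw.def]
      exact closure_minimal (Set.singleton_subset_iff.mpr (specializes_iff_mem_closure.mp ht))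
        isClosed_closure
    have h3 := hZ.2 isIrreducible_singleton.closure h2
    have h4 : w ⤳ t := by
      rw [specializes_iff_mem_closure, hw.def]
      exact h3 (subset_closure rfl)
    exact (ht.antisymm h4).eq
  have key := Groth.Agent.Lib.H71EquiDimSch.dim_closure_maximal_point_prod f g w hmax
  rw [← key, hw.def]

end Groth.Agent.S4662
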