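import Groth.Statements.S4664
import Groth.Agent.Lib.GeomDescent

set_option autoImplicit false
open CategoryTheory AlgebraicGeometry
universe u
open FBase

namespace Groth.Agent.S4664

lemma irreducibleSpace_of_surjective ⦃W Z : Scheme.{u}⦄ (p : W ⟶ Z) (hp : Surjective p)
    (hW : IrreducibleSpace W) : IrreducibleSpace Z := by
  rw [irreducibleSpace_def, Set.top_eq_univ]
  have h := (irreducibleSpace_def W).mp hW
  rw [Set.top_eq_univ] at h
  have h2 := h.image p p.continuous.continuousOn
  rwa [Set.image_univ, Set.range_eq_univ.mpr hp.surj] at h2

open CategoryTheory.Limits in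
/-- Let f : X → Y and g : Y' → Y be morphisms of schemes with g surjective, and let f' : X ×_Y Y' → Y'
be the base change of f. If every fibre of f' is geometrically irreducible, then every fibre of f is
geometrically irreducible. -/
theorem result {X Y Y' : Scheme.{u}} (f : X ⟶ Y)
    (g : Y' ⟶ Y) [Surjective g] [GeometricallyIrreducible (pullback.snd f g)] : GeometricallyIrreducible f := by
  refine ⟨?_⟩
  exact Groth.Agent.Lib.GeomDescent.geometrically_of_pullback_snd_of_surjective
    (fun Z : Scheme.{u} => IrreducibleSpace Z) irreducibleSpace_of_surjective f g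
    (GeometricallyIrreducible.geometrically_irreducibleSpace)

end Groth.Agent.S4664
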