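import Groth.Statements.S4665
import Groth.Agent.Lib.GeomDescent

set_option autoImplicit false
open CategoryTheory AlgebraicGeometry
universe u
open FBase

namespace Groth.Agent.S4665

lemma empty_or_connected_of_surjective ⦃W Z : Scheme.{u}⦄ (p : W ⟶ Z) (hp : Surjective p)
    (hW : IsEmpty ↥W ∨ ConnectedSpace ↥W) : IsEmpty ↥Z ∨ ConnectedSpace ↥Z := by
  rcases hW with hW | hW
  · left
    exact ⟨fun z => by obtain ⟨w, -⟩ := hp.surj z; exact hW.false w⟩
  · right
    exact Function.Surjective.connectedSpace hp.surj p.continuous

open CategoryTheory.Limits in
/-- Let f : X → Y and g : Y' → Y be morphisms of schemes with g surjective, and let f' : X ×_Y Y' → Y'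
be the base change of f. Say that a morphism has geometrically connected fibres when, for every
field K and every morphism from Spec K to its target, the base change to Spec K is empty or
connected (so an empty fibre counts as geometrically connected). If f' has geometrically connected
fibres in this sense, then so has f. -/
theorem result {X Y Y' : Scheme.{u}} (f : X ⟶ Y)
    (g : Y' ⟶ Y) [Surjective g]
    (h : geometrically (fun Z : Scheme.{u} => IsEmpty ↥Z ∨ ConnectedSpace ↥Z) (pullback.snd f g)) :
    geometrically (fun Z : Scheme.{u} => IsEmpty ↥Z ∨ ConnectedSpace ↥Z) f := by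
  exact Groth.Agent.Lib.GeomDescent.geometrically_of_pullback_snd_of_surjective
    (fun Z : Scheme.{u} => IsEmpty ↥Z ∨ ConnectedSpace ↥Z) empty_or_connected_of_surjective f g h

end Groth.Agent.S4665
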