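import Groth.Statements.S4666
import Groth.Agent.Lib.IdealComap
import Groth.Agent.Lib.H72PullbackStalk
import Mathlib.RingTheory.Flat.FaithfullyFlat.Algebra
import Mathlib.AlgebraicGeometry.Morphisms.Flat

set_option autoImplicit false
open CategoryTheory AlgebraicGeometry
universe u
open FDesc

namespace Groth.Agent.S4666

open AlgebraicGeometry CategoryTheory in
/-- Key local statement: if the extensions of `J₁(U)` and `J₂(U)` to all affine opens over `U` agree,
then every `a ∈ J₁(U)` is, locally at each point `y ∈ U`, in `J₂(U)`. -/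
theorem exists_mem_colon {X Y : Scheme.{u}} (f : X ⟶ Y) [Flat f] [Surjective f]
    (J₁ J₂ : Y.IdealSheafData) (h : J₁.comap f = J₂.comap f) (U : Y.affineOpens)
    (a : Γ(Y, U.1)) (ha : a ∈ J₁.ideal U) (y : Y) (hy : y ∈ U.1) :
    ∃ s : Γ(Y, U.1), s * a ∈ J₂.ideal U ∧ y ∈ Y.basicOpen s := by
  obtain ⟨x, rfl⟩ := ‹Surjective f›.surj y
  obtain ⟨U', hU', hxU', hU'U⟩ : ∃ U' : X.Opens, IsAffineOpen U' ∧ x ∈ U' ∧ U' ≤ f ⁻¹ᵁ U.1 := by
    obtain ⟨_, ⟨U', hU', rfl⟩, hxU', hU'U⟩ :=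
      X.isBasis_affineOpens.exists_subset_of_mem_open (show x ∈ (f ⁻¹ᵁ U.1 : Set X) from hy)
        (f ⁻¹ᵁ U.1).isOpen
    exact ⟨U', hU', hxU', hU'U⟩
  have hmap : (J₁.ideal U).map (f.appLE U.1 U' hU'U).hom = (J₂.ideal U).map (f.appLE U.1 U' hU'U).hom := by
    rw [← Groth.Agent.Lib.IdealComap.ideal_comap J₁ f U.1 U.2 U' hU' hU'U,
      ← Groth.Agent.Lib.IdealComap.ideal_comap J₂ f U.1 U.2 U' hU' hU'U, h]
  -- local rings
  letI : Algebra (Y.presheaf.stalk (f x)) (X.presheaf.stalk x) := (f.stalkMap x).hom.toAlgebra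
  haveI : Module.Flat (Y.presheaf.stalk (f x)) (X.presheaf.stalk x) := Flat.stalkMap f x
  haveI : IsLocalHom (algebraMap (Y.presheaf.stalk (f x)) (X.presheaf.stalk x)) :=
    inferInstanceAs (IsLocalHom (f.stalkMap x).hom)
  haveI : Module.FaithfullyFlat (Y.presheaf.stalk (f x)) (X.presheaf.stalk x) :=
    Module.FaithfullyFlat.of_flat_of_isLocalHom
  letI algAA' : Algebra Γ(Y, U.1) (Y.presheaf.stalk (f x)) :=
    TopCat.Presheaf.algebra_section_stalk Y.presheaf (⟨f x, hy⟩ : U.1)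
  haveI locA : IsLocalization.AtPrime (Y.presheaf.stalk (f x))
      (U.2.primeIdealOf ⟨f x, hy⟩).asIdeal := U.2.isLocalization_stalk ⟨f x, hy⟩
  -- the germ of `a` lies in the extension of `J₂(U)` to the local ring of `Y` at `f x`
  have h1 : (f.stalkMap x).hom ((Y.presheaf.germ U.1 (f x) hy).hom a) ∈
      ((J₂.ideal U).map (Y.presheaf.germ U.1 (f x) hy).hom).map (f.stalkMap x).hom := by
    rw [Groth.Agent.Lib.H72PullbackStalk.germ_appLE f hU'U x hxU' a, Ideal.map_map]
    have h2 : (f.stalkMap x).hom.comp (Y.presheaf.germ U.1 (f x) hy).hom =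
        (X.presheaf.germ U' x hxU').hom.comp (f.appLE U.1 U' hU'U).hom := by
      ext r
      exact Groth.Agent.Lib.H72PullbackStalk.germ_appLE f hU'U x hxU' r
    rw [h2, ← Ideal.map_map, ← hmap]
    exact Ideal.mem_map_of_mem _ (Ideal.mem_map_of_mem _ ha)
  have h3 : (Y.presheaf.germ U.1 (f x) hy).hom a ∈
      (J₂.ideal U).map (Y.presheaf.germ U.1 (f x) hy).hom := by
    have := Ideal.comap_map_eq_self_of_faithfullyFlat (B := X.presheaf.stalk x)
      ((J₂.ideal U).map (Y.presheaf.germ U.1 (f x) hy).hom)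
    rw [← this]
    exact h1
  have h4 : (algebraMap Γ(Y, U.1) (Y.presheaf.stalk (f x))) a ∈
      (J₂.ideal U).map (algebraMap Γ(Y, U.1) (Y.presheaf.stalk (f x))) := h3
  rw [IsLocalization.mem_map_algebraMap_iff
    (U.2.primeIdealOf ⟨f x, hy⟩).asIdeal.primeCompl] at h4
  obtain ⟨⟨i, s⟩, his⟩ := h4
  rw [← map_mul] at his
  obtain ⟨t, ht⟩ := (IsLocalization.eq_iff_exists
    (U.2.primeIdealOf ⟨f x, hy⟩).asIdeal.primeCompl (Y.presheaf.stalk (f x))).mp his
  refine ⟨t.1 * s.1, ?_, ?_⟩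
  · have : t.1 * s.1 * a = t.1 * i.1 := by
      rw [← ht]; ring
    rw [this]
    exact Ideal.mul_mem_left _ _ i.2
  · rw [Scheme.mem_basicOpen _ _ (f x) hy]
    have hu : IsUnit (algebraMap Γ(Y, U.1) (Y.presheaf.stalk (f x)) ((t * s : _) : Γ(Y, U.1))) :=
      IsLocalization.map_units (Y.presheaf.stalk (f x)) (t * s)
    exact hu

open AlgebraicGeometry CategoryTheory in
theorem le_of_comap_eq {X Y : Scheme.{u}} (f : X ⟶ Y) [Flat f] [Surjective f]
    (J₁ J₂ : Y.IdealSheafData) (h : J₁.comap f = J₂.comap f) : J₁ ≤ J₂ := by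
  rw [Scheme.IdealSheafData.le_def]
  intro U a ha
  let C : Set Γ(Y, U.1) := {s | s * a ∈ J₂.ideal U}
  have hcover : U.1 ≤ ⨆ s : C, Y.basicOpen s.1 := by
    intro y hy
    obtain ⟨s, hs1, hs2⟩ := exists_mem_colon f J₁ J₂ h U a ha y hy
    exact TopologicalSpace.Opens.mem_iSup.mpr ⟨⟨s, hs1⟩, hs2⟩
  have hspan : Ideal.span C = ⊤ := (U.2.self_le_iSup_basicOpen_iff).mp hcover
  have h1 : (1 : Γ(Y, U.1)) ∈ Ideal.span C := by rw [hspan]; exact Submodule.mem_top
  have hC : ∀ s ∈ Ideal.span C, s * a ∈ J₂.ideal U := by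
    intro s hs
    induction hs using Submodule.span_induction with
    | mem s hs => exact hs
    | zero => rw [zero_mul]; exact Ideal.zero_mem _
    | add s t _ _ hs ht => rw [add_mul]; exact Ideal.add_mem _ hs ht
    | smul r s _ hs => rw [smul_eq_mul, mul_assoc]; exact Ideal.mul_mem_left _ _ hs
  have := hC 1 h1
  rwa [one_mul] at this


/-- Let f : X → Y be a flat and surjective morphism of schemes. Then the map sending a quasi-coherent
sheaf of ideals of O_Y (a closed subscheme of Y) to its inverse image in X is injective. -/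
theorem result {X Y : Scheme.{u}} (f : X ⟶ Y) [Flat f] [Surjective f] :
    Function.Injective fun J : Y.IdealSheafData => J.comap f := by
  intro J₁ J₂ h
  exact le_antisymm (le_of_comap_eq f J₁ J₂ h) (le_of_comap_eq f J₂ J₁ h.symm)

end Groth.Agent.S4666
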