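import Groth.Statements.S4674
import Mathlib.LinearAlgebra.TensorProduct.Pi

set_option autoImplicit false
open scoped TensorProduct
universe u v w
open FDesc

namespace Groth.Agent.S4674

section

variable {A : Type u} {B : Type v} [CommRing A] [CommRing B] [Algebra A B]
variable (M : Type w) [AddCommGroup M] [Module A M]

/-- The multiplication map `B ⊗[A] A → B`. -/
noncomputable def mu : B ⊗[A] A →ₗ[A] B :=
  TensorProduct.lift
    { toFun := fun b => (LinearMap.toSpanSingleton A B b)
      map_add' := fun b b' => by ext; simp
      map_smul' := fun a b => by ext; simp }

omit [AddCommGroup M] [Module A M] in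
@[simp] lemma mu_tmul (b : B) (a : A) : mu (b ⊗ₜ[A] a) = a • b := by
  simp [mu]

lemma mu_mem (I : Ideal A) (w : B ⊗[A] I) :
    mu (LinearMap.lTensor B (Submodule.subtype I) w) ∈ I.map (algebraMap A B) := by
  induction w using TensorProduct.induction_on with
  | zero => simp
  | tmul b a =>
    simp only [LinearMap.lTensor_tmul, Submodule.subtype_apply, mu_tmul, Algebra.smul_def]
    exact Ideal.mul_mem_right _ _ (Ideal.mem_map_of_mem _ a.2)
  | add x y hx hy =>
    rw [map_add, map_add]
    exact add_mem hx hy

end

/-- Let B be a flat A-algebra and M a finitely presented A-module. Then the annihilator of the B-module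
B ⊗_A M is the ideal of B generated by the image of the annihilator of M. -/
theorem result {A : Type u} {B : Type v} [CommRing A] [CommRing B] [Algebra A B]
    [Module.Flat A B] (M : Type w) [AddCommGroup M] [Module A M] [Module.FinitePresentation A M] :
    Module.annihilator B (B ⊗[A] M) = (Module.annihilator A M).map (algebraMap A B) := by
  classical
  apply le_antisymm
  · -- the hard direction, using flatness
    obtain ⟨n, s, hs⟩ := Module.Finite.exists_fin (R := A) (M := M)
    -- the map a ↦ (a • s i)
    let φ : A →ₗ[A] (Fin n → M) := LinearMap.pi fun i => LinearMap.toSpanSingleton A M (s i)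
    have hker : LinearMap.ker φ = Module.annihilator A M := by
      ext a
      simp only [LinearMap.mem_ker, Module.mem_annihilator]
      constructor
      · intro h m
        have hm : m ∈ Submodule.span A (Set.range s) := hs ▸ Submodule.mem_top
        induction hm using Submodule.span_induction with
        | mem x hx =>
          obtain ⟨i, rfl⟩ := hx
          have := congr_fun h i
          simpa [φ] using this
        | zero => simp
        | add x y _ _ hx hy => rw [smul_add, hx, hy, add_zero]
        | smul c x _ hx => rw [smul_comm, hx, smul_zero]
      · intro h
        ext i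
        simp [φ, h (s i)]
    have hex := Module.Flat.lTensor_exact B (LinearMap.exact_subtype_ker_map φ)
    intro b hb
    rw [Module.mem_annihilator] at hb
    -- b ⊗ 1 is killed by lTensor φ
    have h0 : LinearMap.lTensor B φ (b ⊗ₜ[A] (1 : A)) = 0 := by
      apply (TensorProduct.piRight A A B (fun _ : Fin n => M)).injective
      rw [map_zero, LinearMap.lTensor_tmul, TensorProduct.piRight_apply,
        TensorProduct.piRightHom_tmul]
      ext i
      have := hb ((1 : B) ⊗ₜ[A] s i)
      rw [TensorProduct.smul_tmul', smul_eq_mul, mul_one] at this
      simpa [φ] using this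
    obtain ⟨w, hw⟩ := (hex _).mp h0
    have hmem := mu_mem (LinearMap.ker φ) w
    rw [hw, mu_tmul, one_smul, hker] at hmem
    exact hmem
  · -- the easy direction
    rw [Ideal.map_le_iff_le_comap]
    intro a ha
    rw [Ideal.mem_comap, Module.mem_annihilator]
    rw [Module.mem_annihilator] at ha
    intro x
    induction x using TensorProduct.induction_on with
    | zero => simp
    | tmul b m =>
      rw [TensorProduct.smul_tmul', smul_eq_mul, ← Algebra.smul_def, TensorProduct.smul_tmul, ha m,
        TensorProduct.tmul_zero]
    | add x y hx hy => rw [smul_add, hx, hy, add_zero]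

end Groth.Agent.S4674
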