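import Groth.Statements.S4675
import Mathlib.Algebra.Module.Submodule.Equiv

set_option autoImplicit false
universe u v
open FDesc

namespace Groth.Agent.S4675

/-- Let B be a ring, not necessarily commutative, and V, W two left B-modules which are isomorphic. For
a B-linear map u : V → W the following are equivalent: every B-linear map V → W can be written
uniquely as u ∘ c with c a B-linear endomorphism of V (that is, u is a basis of Hom_B(V, W) for its
right module structure over End_B(V)); u is bijective. -/
theorem result {B : Type u} [Ring B] {V W : Type v} [AddCommGroup V] [AddCommGroup W]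
    [Module B V] [Module B W] (e : V ≃ₗ[B] W) (u : V →ₗ[B] W) :
    (∀ v : V →ₗ[B] W, ∃! c : V →ₗ[B] V, v = u ∘ₗ c) ↔ Function.Bijective u := by
  constructor
  · intro h
    obtain ⟨c', hc', -⟩ := h e.toLinearMap
    -- a section of u
    let s : W →ₗ[B] V := c' ∘ₗ e.symm.toLinearMap
    have hus : u ∘ₗ s = LinearMap.id := by
      ext w
      have := LinearMap.congr_fun hc' (e.symm w)
      simp only [LinearEquiv.coe_coe, LinearEquiv.apply_symm_apply, LinearMap.comp_apply] at this
      simp [s, ← this]
    have hsurj : Function.Surjective u := fun w => ⟨s w, LinearMap.congr_fun hus w⟩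
    -- the projection onto the kernel of u is killed by u, hence zero by uniqueness
    obtain ⟨c0, -, huniq⟩ := h 0
    have h1 : (LinearMap.id - s ∘ₗ u : V →ₗ[B] V) = c0 := by
      apply huniq
      rw [LinearMap.comp_sub, LinearMap.comp_id, ← LinearMap.comp_assoc, hus, LinearMap.id_comp,
        sub_self]
    have h2 : (0 : V →ₗ[B] V) = c0 := by
      apply huniq
      rw [LinearMap.comp_zero]
    have hsu : s ∘ₗ u = LinearMap.id := by
      have := h1.trans h2.symm
      rw [sub_eq_zero] at this
      exact this.symm
    refine ⟨?_, hsurj⟩
    intro x y hxy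
    have hx := LinearMap.congr_fun hsu x
    have hy := LinearMap.congr_fun hsu y
    simp only [LinearMap.comp_apply, LinearMap.id_apply] at hx hy
    rw [← hx, ← hy, hxy]
  · intro hu
    let eu : V ≃ₗ[B] W := LinearEquiv.ofBijective u hu
    intro v
    refine ⟨eu.symm.toLinearMap ∘ₗ v, ?_, ?_⟩
    · ext x
      simp only [LinearMap.comp_apply, LinearEquiv.coe_coe]
      exact (LinearEquiv.apply_ofBijective_symm_apply u (h := hu) (v x)).symm
    · intro c hc
      ext x
      simp only [LinearMap.comp_apply, LinearEquiv.coe_coe, hc]
      exact (LinearEquiv.ofBijective_symm_apply_apply u (h := hu) (c x)).symm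

end Groth.Agent.S4675
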