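import Groth.Statements.S4681
import Mathlib.RingTheory.Flat.FaithfullyFlat.Basic
import Mathlib.RingTheory.Flat.Stability
import Mathlib.LinearAlgebra.TensorProduct.Tower

set_option autoImplicit false
set_option linter.style.haveILetI false
open CategoryTheory AlgebraicGeometry
universe u
open FDesc

namespace Groth.Agent.S4681

open TensorProduct

theorem flat_of_faithfullyFlat_module {A B N : Type u} [CommRing A] [CommRing B] [Algebra A B]
    [AddCommGroup N] [Module B N] [Module A N] [IsScalarTower A B N]
    [Module.FaithfullyFlat B N] [Module.Flat A N] : Module.Flat A B := by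
  rw [Module.Flat.iff_lTensor_preserves_injective_linearMap]
  intro N' N'' _ _ _ _ f hf
  have h1 : Function.Injective (f.baseChange B) := by
    rw [← Module.FaithfullyFlat.lTensor_injective_iff_injective B N]
    have h2 := AlgebraTensorModule.lTensor_comp_cancelBaseChange (R := A) (A := B) (B := B)
      (M := N) f
    have h3 : Function.Injective
        (AlgebraTensorModule.lTensor B N f ∘ₗ
          (AlgebraTensorModule.cancelBaseChange A B B N N').toLinearMap) := by
      rw [LinearMap.coe_comp]
      refine Function.Injective.comp ?_ (LinearEquiv.injective _)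
      exact Module.Flat.lTensor_preserves_injective_linearMap (M := N) f hf
    rw [h2, LinearMap.coe_comp] at h3
    exact Function.Injective.of_comp h3
  exact h1

/-- `N` is flat over `C` through the ring map `h`. -/
def FlatVia {C R : Type u} (N : Type u) [CommRing C] [CommRing R] [AddCommGroup N] [Module R N]
    (h : C →+* R) : Prop :=
  letI := Module.compHom N h
  Module.Flat C N

/-- The maximal ideal of `C` does not generate `N` through the ring map `h`. -/
def NeTopVia {C R : Type u} (N : Type u) [CommRing C] [IsLocalRing C] [CommRing R]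
    [AddCommGroup N] [Module R N] (h : C →+* R) : Prop :=
  letI := Module.compHom N h
  IsLocalRing.maximalIdeal C • (⊤ : Submodule C N) ≠ ⊤

theorem flatVia_comp {C B R N : Type u} [CommRing C] [CommRing B] [CommRing R] [AddCommGroup N]
    [Module R N] (α : C →+* B) (β : B →+* R) (hα : α.Flat) (hN : FlatVia N β) :
    FlatVia N (β.comp α) := by
  unfold FlatVia at *
  letI : Algebra C B := α.toAlgebra
  letI : Module B N := Module.compHom N β
  letI : Module C N := Module.compHom N (β.comp α)
  haveI : IsScalarTower C B N := ⟨fun c b n => by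
    change β (α c * b) • n = β (α c) • (β b • n)
    rw [map_mul, mul_smul]⟩
  haveI : Module.Flat C B := hα
  haveI : Module.Flat B N := hN
  exact Module.Flat.trans C B N

theorem neTopVia_comp {C B R N : Type u} [CommRing C] [CommRing B] [CommRing R] [IsLocalRing C]
    [IsLocalRing B] [AddCommGroup N] [Module R N] (α : C →+* B) [IsLocalHom α] (β : B →+* R)
    (h : NeTopVia N β) : NeTopVia N (β.comp α) := by
  unfold NeTopVia at *
  intro htop
  apply h
  letI : Module B N := Module.compHom N β
  letI : Module C N := Module.compHom N (β.comp α)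
  rw [eq_top_iff]
  intro n _
  have hn : n ∈ (IsLocalRing.maximalIdeal C • ⊤ : Submodule C N) := by rw [htop]; trivial
  refine Submodule.smul_induction_on hn ?_ ?_
  · intro c hc n _
    have h1 : α c ∈ IsLocalRing.maximalIdeal B := map_nonunit α c hc
    exact Submodule.smul_mem_smul (M := N) h1 (Submodule.mem_top (x := n))
  · intro x y hx hy
    exact add_mem hx hy

theorem flat_of_flatVia {C B R N : Type u} [CommRing C] [CommRing B] [CommRing R]
    [IsLocalRing B] [AddCommGroup N] [Module R N] (α : C →+* B) (β : B →+* R)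
    (hB : FlatVia N β) (hne : NeTopVia N β) (hC : FlatVia N (β.comp α)) : α.Flat := by
  unfold FlatVia NeTopVia at *
  letI : Algebra C B := α.toAlgebra
  letI : Module B N := Module.compHom N β
  letI : Module C N := Module.compHom N (β.comp α)
  haveI : IsScalarTower C B N := ⟨fun c b n => by
    change β (α c * b) • n = β (α c) • (β b • n)
    rw [map_mul, mul_smul]⟩
  haveI : Module.Flat B N := hB
  haveI : Module.FaithfullyFlat B N :=
    ⟨fun m hm => by rw [IsLocalRing.eq_maximalIdeal hm]; exact hne⟩
  haveI : Module.Flat C N := hC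
  exact flat_of_faithfullyFlat_module (A := C) (B := B) (N := N)

theorem stalkMap_comp_hom {X Y Z : Scheme.{u}} (f : X ⟶ Y) (g : Y ⟶ Z) (x : X) :
    ((f ≫ g).stalkMap x).hom = (f.stalkMap x).hom.comp (g.stalkMap (f x)).hom := by
  rw [Scheme.Hom.stalkMap_comp]
  rfl

/-- Let f : X → Y and g : Y → Z be morphisms of schemes and F a quasi-coherent O_X-module which is
faithfully flat relative to Y: flat over Y, and for every point y of Y there is a point x over y
with F_x ⊗ κ(y) ≠ 0. Then g is flat and surjective (faithfully flat) if and only if F is faithfully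
flat relative to Z for the morphism f followed by g: flat over Z, and for every point z of Z there
is a point x of X over z with F_x ⊗ κ(z) ≠ 0. -/
theorem result {X Y Z : Scheme.{u}} (f : X ⟶ Y) (g : Y ⟶ Z)
    (F : X.Modules) (hF : Coh.IsQCoh F) (hFfl : FlatMod.IsFlatOver f F)
    (hFff : (∀ y : ↥Y, ∃ x : ↥X, f x = y ∧
      letI := FlatMod.moduleStalkOver f F x
      IsLocalRing.maximalIdeal (Y.presheaf.stalk (f x)) • (⊤ : Submodule (Y.presheaf.stalk (f x)) (F.presheaf.stalk x)) ≠ ⊤)) :
    (Flat g ∧ Surjective g) ↔
      (FlatMod.IsFlatOver (f ≫ g) F ∧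
        (∀ z : ↥Z, ∃ x : ↥X, (f ≫ g) x = z ∧
      letI := FlatMod.moduleStalkOver (f ≫ g) F x
      IsLocalRing.maximalIdeal (Z.presheaf.stalk ((f ≫ g) x)) • (⊤ : Submodule (Z.presheaf.stalk ((f ≫ g) x)) (F.presheaf.stalk x)) ≠ ⊤)) := by
  have key1 : ∀ x : X, FlatVia (F.presheaf.stalk x) (f.stalkMap x).hom := fun x => hFfl x
  have key2 : ∀ x : X, FlatMod.IsFlatOverAt (f ≫ g) F x ↔
      FlatVia (F.presheaf.stalk x) ((f.stalkMap x).hom.comp (g.stalkMap (f x)).hom) := by
    intro x
    rw [← stalkMap_comp_hom]
    rfl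
  have key3 : ∀ x : X, (letI := FlatMod.moduleStalkOver (f ≫ g) F x
      IsLocalRing.maximalIdeal (Z.presheaf.stalk ((f ≫ g) x)) •
        (⊤ : Submodule (Z.presheaf.stalk ((f ≫ g) x)) (F.presheaf.stalk x)) ≠ ⊤) ↔
      NeTopVia (F.presheaf.stalk x) ((f.stalkMap x).hom.comp (g.stalkMap (f x)).hom) := by
    intro x
    rw [← stalkMap_comp_hom]
    rfl
  constructor
  · rintro ⟨hg, hs⟩
    refine ⟨fun x => ?_, fun z => ?_⟩
    · rw [key2]
      exact flatVia_comp _ _ (Flat.stalkMap g (f x)) (key1 x)
    · obtain ⟨y, rfl⟩ := g.surjective z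
      obtain ⟨x, rfl, hx⟩ := hFff y
      refine ⟨x, rfl, ?_⟩
      rw [key3]
      exact neTopVia_comp _ _ hx
  · rintro ⟨hfl, hex⟩
    refine ⟨Flat.of_stalkMap g fun y => ?_, ⟨fun z => ?_⟩⟩
    · obtain ⟨x, rfl, hx⟩ := hFff y
      exact flat_of_flatVia (N := F.presheaf.stalk x) _ (f.stalkMap x).hom (key1 x) hx
        ((key2 x).mp (hfl x))
    · obtain ⟨x, hx, -⟩ := hex z
      exact ⟨f x, hx⟩

end Groth.Agent.S4681
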