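import Groth.Statements.S4682
import Groth.Agent.Lib.H71VanishBC
import Groth.Agent.Lib.GeomReducedProd

set_option autoImplicit false
open CategoryTheory AlgebraicGeometry
universe u
open FBase

namespace Groth.Agent.S4682

/-- Let Y be a scheme over a field K', let K be an extension field of K' which is separable over K'
(Spec K → Spec K' is geometrically reduced), let g : Y ⊗_{K'} K → Y be the projection and T a closed
subset of Y ⊗_{K'} K. Then T is defined over K' as a closed subset, that is T = g⁻¹(T') for some
closed subset T' of Y, if and only if the reduced closed subscheme of Y ⊗_{K'} K with support T is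
defined over K', that is, there is a quasi-coherent ideal sheaf of O_Y whose inverse image in Y
⊗_{K'} K is the vanishing ideal sheaf of T. -/
theorem result {K' K : Type u} [Field K'] [Field K] [Algebra K' K]
    {Y : Scheme.{u}} (fY : Y ⟶ Spec (CommRingCat.of K'))
    [GeometricallyReduced (Spec.map (CommRingCat.ofHom (algebraMap K' K)))]
    (T : TopologicalSpace.Closeds ↥(FBase.bc fY K)) :
    (∃ T' : TopologicalSpace.Closeds ↥Y, (T : Set ↥(FBase.bc fY K)) = ⇑(FBase.bcπ fY K) ⁻¹' (T' : Set ↥Y)) ↔
      ∃ J : Y.IdealSheafData, J.comap (FBase.bcπ fY K) = Scheme.IdealSheafData.vanishingIdeal T := by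
  constructor
  · rintro ⟨T', hT'⟩
    refine ⟨Scheme.IdealSheafData.vanishingIdeal T', ?_⟩
    have hT : T = T'.preimage (FBase.bcπ fY K).continuous := by
      ext1; exact hT'
    rw [hT]
    haveI : IsReduced (Limits.pullback
        ((Scheme.IdealSheafData.vanishingIdeal T').subschemeι ≫ fY)
        (Spec.map (CommRingCat.ofHom (algebraMap K' K)))) := by
      haveI := Groth.Agent.Lib.ReducedSubscheme.isReduced_subscheme_vanishingIdeal T'
      haveI : IsReduced (Limits.pullback (Spec.map (CommRingCat.ofHom (algebraMap K' K)))
          ((Scheme.IdealSheafData.vanishingIdeal T').subschemeι ≫ fY)) :=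
        Groth.Agent.Lib.GeomReducedProd.isReduced_pullback _ _
      exact isReduced_of_isOpenImmersion (Limits.pullbackSymmetry _ _).hom
    exact (Groth.Agent.Lib.H71VanishBC.vanishingIdeal_preimage_eq_comap fY
      (Spec.map (CommRingCat.ofHom (algebraMap K' K)))
      (Groth.Agent.Lib.H71VanishBC.free_of_field K' _) T').symm
  · rintro ⟨J, hJ⟩
    refine ⟨J.support, ?_⟩
    have h1 := congrArg (fun I => (Scheme.IdealSheafData.support I : Set ↥(FBase.bc fY K))) hJ
    simp only [Scheme.IdealSheafData.support_comap,
      Scheme.IdealSheafData.coe_support_vanishingIdeal] at h1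
    rw [← h1]
    rfl

end Groth.Agent.S4682
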