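import Groth.Statements.S4683
import Mathlib
import Groth.Agent.Lib.H90PrimDec2

set_option autoImplicit false
open CategoryTheory AlgebraicGeometry
universe u
open AssSch

namespace Groth.Agent.S4683

open CategoryTheory.Limits

/-- Let X be a locally Noetherian scheme and M a coherent O_X-module without embedded associated points.
Then M has only one reduced irredundant decomposition: if (q_x : M → G_x) and (q'_x : M → G'_x) are
two families of coherent quotients of M indexed by the associated points x of M, with Ass(G_x) =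
Ass(G'_x) = {x} for every x and each family jointly monomorphic (M embeds in the product), then for
every x there is an isomorphism G_x ≅ G'_x under M (it is unique, q_x being an epimorphism). -/
theorem result {X : Scheme.{u}} [IsLocallyNoetherian X] (M : X.Modules)
    (hM : Coh.IsCoh M) (hne : AssSch.NoEmbedded M)
    (G G' : ↥(AssSch.Ass M) → X.Modules) (q : ∀ x, M ⟶ G x) (q' : ∀ x, M ⟶ G' x)
    (hq : ∀ x, Epi (q x)) (hq' : ∀ x, Epi (q' x)) (hG : ∀ x, Coh.IsCoh (G x)) (hG' : ∀ x, Coh.IsCoh (G' x))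
    (hA : ∀ x, AssSch.Ass (G x) = {x.1}) (hA' : ∀ x, AssSch.Ass (G' x) = {x.1})
    (hm : ∀ (T : X.Modules) (a b : T ⟶ M), (∀ x, a ≫ q x = b ≫ q x) → a = b)
    (hm' : ∀ (T : X.Modules) (a b : T ⟶ M), (∀ x, a ≫ q' x = b ≫ q' x) → a = b) (x : ↥(AssSch.Ass M)) :
    ∃ e : G x ≅ G' x, q x ≫ e.hom = q' x := by
  haveI : ∀ y, (G y).IsQuasicoherent := fun y => (hG y).1
  haveI : ∀ y, (G' y).IsQuasicoherent := fun y => (hG' y).1
  haveI := hq x
  haveI := hq' x
  have h1 : kernel.ι (q x) ≫ q' x = 0 :=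
    Groth.Agent.Lib.H90PrimDec.kernel_ι_comp_eq_zero M hM hne G q (fun y => (hG y).1) hA hm x
      (q' x) (hA' x)
  have h2 : kernel.ι (q' x) ≫ q x = 0 :=
    Groth.Agent.Lib.H90PrimDec.kernel_ι_comp_eq_zero M hM hne G' q' (fun y => (hG' y).1) hA' hm' x
      (q x) (hA x)
  let c1 := Abelian.epiIsCokernelOfKernel (KernelFork.ofι (kernel.ι (q x)) (kernel.condition _))
    (kernelIsKernel (q x))
  let c2 := Abelian.epiIsCokernelOfKernel (KernelFork.ofι (kernel.ι (q' x)) (kernel.condition _))
    (kernelIsKernel (q' x))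
  let e1 : G x ⟶ G' x := c1.desc (CokernelCofork.ofπ (q' x) h1)
  let e2 : G' x ⟶ G x := c2.desc (CokernelCofork.ofπ (q x) h2)
  have he1 : q x ≫ e1 = q' x := c1.fac (CokernelCofork.ofπ (q' x) h1) WalkingParallelPair.one
  have he2 : q' x ≫ e2 = q x := c2.fac (CokernelCofork.ofπ (q x) h2) WalkingParallelPair.one
  refine ⟨⟨e1, e2, ?_, ?_⟩, he1⟩
  · rw [← cancel_epi (q x), ← Category.assoc, he1, he2, Category.comp_id]
  · rw [← cancel_epi (q' x), ← Category.assoc, he2, he1, Category.comp_id]

end Groth.Agent.S4683
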