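import Groth.Statements.S4686
import Groth.Agent.Lib.FibreStalk33
import Groth.Agent.Lib.ReducedSubscheme
import Mathlib

set_option autoImplicit false
open CategoryTheory AlgebraicGeometry
universe u
open FBase

namespace Groth.Agent.S4686

open IsLocalRing CategoryTheory.Limits

theorem length_eq_of_ringEquiv {C C' : Type*} [CommRing C] [CommRing C'] (e : C ≃+* C') :
    Module.length C C = Module.length C' C' := by
  letI : Algebra C C' := e.toRingHom.toAlgebra
  have h1 : Module.length C C' = Module.length C' C' :=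
    Module.length_eq_of_surjective (S := C) (R := C') (M := C') e.surjective
  let l : C ≃ₗ[C] C' :=
    { e with
      map_smul' := fun r x => by
        show e (r * x) = e r * e x
        exact map_mul e r x }
  rw [← h1, l.length_eq]

/-- the unique prime of the local ring at a maximal point -/
theorem eq_maximalIdeal_of_isPrime {X : Scheme.{u}} (x : X) (hx : ∀ z : X, z ⤳ x → z = x)
    (J : Ideal (X.presheaf.stalk x)) (hJ : J.IsPrime) : J = maximalIdeal (X.presheaf.stalk x) := by
  have key : ∀ p : ↥(Spec (X.presheaf.stalk x)), X.fromSpecStalk x p = x := by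
    intro p
    apply hx
    have : X.fromSpecStalk x p ∈ Set.range (X.fromSpecStalk x) := ⟨p, rfl⟩
    rw [Scheme.range_fromSpecStalk] at this
    exact this
  have hinj : Function.Injective (X.fromSpecStalk x) := (X.fromSpecStalk x).isEmbedding.injective
  have h2 : (⟨J, hJ⟩ : PrimeSpectrum (X.presheaf.stalk x)) =
      ⟨maximalIdeal (X.presheaf.stalk x), inferInstance⟩ :=
    hinj ((key _).trans (key _).symm)
  exact congrArg PrimeSpectrum.asIdeal h2

/-- the local ring of a reduced scheme at a maximal point is a field: its maximal ideal is zero -/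
theorem maximalIdeal_eq_bot {X : Scheme.{u}} [AlgebraicGeometry.IsReduced X] (x : X)
    (hx : ∀ z : X, z ⤳ x → z = x) : maximalIdeal (X.presheaf.stalk x) = ⊥ := by
  have h1 : nilradical (X.presheaf.stalk x) = ⊥ := nilradical_eq_zero _
  rw [← h1, nilradical_eq_sInf]
  apply le_antisymm
  · apply le_sInf
    intro J hJ
    rw [eq_maximalIdeal_of_isPrime x hx J hJ]
  · exact sInf_le (inferInstance : (maximalIdeal (X.presheaf.stalk x)).IsPrime)

/-- the local ring of a fibre, for a point of the fibre over any `y` -/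
theorem nonempty_fibreStalkEquiv {X Y : Scheme.{u}} (π : X ⟶ Y) (x : X) (y : Y) (hy : π x = y)
    (w : π.fiber y) (hw : π.fiberι y w = x) :
    Nonempty ((X.presheaf.stalk x ⧸ Ideal.map (π.stalkMap x).hom
      (maximalIdeal (Y.presheaf.stalk (π x)))) ≃+* (π.fiber y).presheaf.stalk w) := by
  subst hy
  have : w = π.asFiber x :=
    (π.fiberι (π x)).isEmbedding.injective (hw.trans (π.fiberι_asFiber x).symm)
  subst this
  exact ⟨Groth.Agent.Lib.FibreStalk33.fibreStalkEquiv π x⟩

/-- residue field maps of closed immersions are isomorphisms -/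
theorem isIso_residueFieldMap {X Y : Scheme.{u}} (i : X ⟶ Y) [IsClosedImmersion i] (x : X) :
    IsIso (i.residueFieldMap x) := by
  have hsurj : Function.Surjective (i.residueFieldMap x) := by
    intro c
    obtain ⟨b, rfl⟩ := IsLocalRing.residue_surjective (R := X.presheaf.stalk x) c
    obtain ⟨a, rfl⟩ := i.stalkMap_surjective x b
    refine ⟨Y.residue (i x) a, ?_⟩
    have := congr($(Scheme.residue_residueFieldMap i x) a)
    rw [CommRingCat.comp_apply, CommRingCat.comp_apply] at this
    exact this
  have hinj : Function.Injective (i.residueFieldMap x) := (i.residueFieldMap x).hom.injective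
  exact (ConcreteCategory.isIso_iff_bijective _).mpr ⟨hinj, hsurj⟩


/-- **Length at maximal points under flat base change of a reduced closed subscheme** -/
theorem length_stalk_eq_mul {X Y Yr Z : Scheme.{u}} (π : X ⟶ Y) [Flat π] (i : Yr ⟶ Y)
    [IsClosedImmersion i] [AlgebraicGeometry.IsReduced Yr]
    (j : Z ⟶ X) (πZ : Z ⟶ Yr) (hc : IsPullback j πZ π i) (x : X) (hx : ∀ t : X, t ⤳ x → t = x)
    (z : Z) (hz : j z = x) :
    Module.length (X.presheaf.stalk x) (X.presheaf.stalk x) =
      Module.length (Y.presheaf.stalk (π x)) (Y.presheaf.stalk (π x)) *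
        Module.length (Z.presheaf.stalk z) (Z.presheaf.stalk z) := by
  letI : Algebra (Y.presheaf.stalk (π x)) (X.presheaf.stalk x) := (π.stalkMap x).hom.toAlgebra
  haveI : Module.Flat (Y.presheaf.stalk (π x)) (X.presheaf.stalk x) := Flat.stalkMap π x
  haveI : IsLocalHom (algebraMap (Y.presheaf.stalk (π x)) (X.presheaf.stalk x)) :=
    inferInstanceAs (IsLocalHom (π.stalkMap x).hom)
  have h1 := IsLocalRing.length_baseChange (Y.presheaf.stalk (π x)) (X.presheaf.stalk x)
    (Y.presheaf.stalk (π x))
  rw [(TensorProduct.AlgebraTensorModule.rid (Y.presheaf.stalk (π x)) (X.presheaf.stalk x)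
    (X.presheaf.stalk x)).length_eq] at h1
  rw [h1]
  congr 1
  -- the point of `Yr`
  have hyr : π x = i (πZ z) := by
    rw [← hz, ← Scheme.Hom.comp_apply, hc.w, Scheme.Hom.comp_apply]
  have hyr_max : ∀ w : Yr, w ⤳ πZ z → w = πZ z := by
    intro w hw
    have h2 : i w ⤳ π x := by
      rw [hyr]; exact hw.map i.continuous
    obtain ⟨x', hx', hx'w⟩ := (Flat.generalizingMap (f := π)) h2
    have h3 := hx x' hx'
    rw [h3, hyr] at hx'w
    exact (i.isClosedEmbedding.injective hx'w).symm
  have hbot := maximalIdeal_eq_bot (πZ z) hyr_max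
  -- the map on fibres
  have hφiso : IsIso (pullback.map _ _ _ _ j (Spec.map (i.residueFieldMap (πZ z))) i hc.w.symm
      (by simp) : πZ.fiber (πZ z) ⟶ π.fiber (i (πZ z))) := by
    haveI := isIso_residueFieldMap i (πZ z)
    exact (isPullback_fiberToSpecResidueField_of_isPullback hc (πZ z)).isIso_fst_of_isIso
  have hfac : (pullback.map _ _ _ _ j (Spec.map (i.residueFieldMap (πZ z))) i hc.w.symm
      (by simp) : πZ.fiber (πZ z) ⟶ π.fiber (i (πZ z))) ≫ π.fiberι (i (πZ z)) =
      πZ.fiberι (πZ z) ≫ j := pullback.lift_fst _ _ _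
  generalize (pullback.map _ _ _ _ j (Spec.map (i.residueFieldMap (πZ z))) i hc.w.symm
      (by simp) : πZ.fiber (πZ z) ⟶ π.fiber (i (πZ z))) = φ at hφiso hfac
  haveI := hφiso
  have hw₂ : π.fiberι (i (πZ z)) (φ (πZ.asFiber z)) = x := by
    have h4 : (φ ≫ π.fiberι (i (πZ z))) (πZ.asFiber z) =
        (πZ.fiberι (πZ z) ≫ j) (πZ.asFiber z) := by rw [hfac]; rfl
    rw [Scheme.Hom.comp_apply, Scheme.Hom.comp_apply, Scheme.Hom.fiberι_asFiber, hz] at h4
    exact h4
  obtain ⟨E1⟩ := nonempty_fibreStalkEquiv π x (i (πZ z)) hyr (φ (πZ.asFiber z)) hw₂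
  let E2 : (π.fiber (i (πZ z))).presheaf.stalk (φ (πZ.asFiber z)) ≃+*
      (πZ.fiber (πZ z)).presheaf.stalk (πZ.asFiber z) :=
    (asIso (φ.stalkMap (πZ.asFiber z))).commRingCatIsoToRingEquiv
  let E3 := Groth.Agent.Lib.FibreStalk33.fibreStalkEquiv πZ z
  have hI : Ideal.map (πZ.stalkMap z).hom (maximalIdeal (Yr.presheaf.stalk (πZ z))) = ⊥ := by
    rw [hbot, Ideal.map_bot]
  let E4 : (Z.presheaf.stalk z ⧸ Ideal.map (πZ.stalkMap z).hom
      (maximalIdeal (Yr.presheaf.stalk (πZ z)))) ≃+* Z.presheaf.stalk z :=
    (Ideal.quotEquivOfEq hI).trans (RingEquiv.quotientBot _)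
  let E := E1.trans (E2.trans (E3.symm.trans E4))
  rw [← length_eq_of_ringEquiv E]
  exact Module.length_eq_of_surjective Ideal.Quotient.mk_surjective


/-- the base change square of a closed subscheme -/
theorem isPullback_bc {k' k'' : Type u} [Field k'] [Field k''] [Algebra k' k'']
    {Y Yr : Scheme.{u}} (str : Y ⟶ Spec (CommRingCat.of k')) (i : Yr ⟶ Y) :
    IsPullback
      (pullback.map (i ≫ str) (Spec.map (CommRingCat.ofHom (algebraMap k' k''))) str
        (Spec.map (CommRingCat.ofHom (algebraMap k' k''))) i (𝟙 _) (𝟙 _)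
        (Category.comp_id _) ((Category.comp_id _).trans (Category.id_comp _).symm))
      (pullback.fst (i ≫ str) (Spec.map (CommRingCat.ofHom (algebraMap k' k''))))
      (pullback.fst str (Spec.map (CommRingCat.ofHom (algebraMap k' k'')))) i := by
  refine IsPullback.of_right (h₁₂ := pullback.snd str (Spec.map (CommRingCat.ofHom (algebraMap k' k''))))
    (h₂₂ := str) (v₁₃ := Spec.map (CommRingCat.ofHom (algebraMap k' k''))) ?_ ?_
    (IsPullback.of_hasPullback str (Spec.map (CommRingCat.ofHom (algebraMap k' k'')))).flip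
  · have h1 : pullback.map (i ≫ str) (Spec.map (CommRingCat.ofHom (algebraMap k' k''))) str
        (Spec.map (CommRingCat.ofHom (algebraMap k' k''))) i (𝟙 _) (𝟙 _)
        (Category.comp_id _) ((Category.comp_id _).trans (Category.id_comp _).symm) ≫
        pullback.snd str (Spec.map (CommRingCat.ofHom (algebraMap k' k''))) =
        pullback.snd (i ≫ str) (Spec.map (CommRingCat.ofHom (algebraMap k' k''))) := by
      rw [pullback.lift_snd, Category.comp_id]
    rw [h1]
    exact (IsPullback.of_hasPullback (i ≫ str) (Spec.map (CommRingCat.ofHom (algebraMap k' k'')))).flip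
  · rw [pullback.lift_fst]


open CategoryTheory.Limits in
/-- Let X be an integral locally Noetherian scheme over a field k, k′ an extension field of k such that
X′ = X ⊗_k k′ is locally Noetherian, and k″ an extension field of k′; put X″ = X′ ⊗_{k′} k″ and Z″ =
(X′)_red ⊗_{k′} k″, with its canonical closed immersion j : Z″ → X″ (a homeomorphism). Let x″ be a
maximal point of X″ (the generic point of an irreducible component), x′ its image in X′ and z″ the
point of Z″ with j(z″) = x″. Then length(O_{X″,x″}) = length(O_{X′,x′}) · length(O_{Z″,z″}), each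
local ring being measured as a module over itself, with values in ℕ∞. -/
theorem result {k k' k'' : Type u} [Field k] [Field k'] [Field k''] [Algebra k k']
    [Algebra k' k''] {X : Scheme.{u}} (f : X ⟶ Spec (CommRingCat.of k)) [IsIntegral X] [IsLocallyNoetherian X]
    [IsLocallyNoetherian (FBase.bc f k')] (x'' : ↥(FBase.bc (FBase.bcStr f k') k''))
    (hx'' : ∀ z : ↥(FBase.bc (FBase.bcStr f k') k''), z ⤳ x'' → z = x'')
    (z'' : ↥(FBase.bc ((FBase.bc f k').nilradical.subschemeι ≫ FBase.bcStr f k') k''))
    (hz'' : pullback.map ((FBase.bc f k').nilradical.subschemeι ≫ FBase.bcStr f k')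
        (Spec.map (CommRingCat.ofHom (algebraMap k' k''))) (FBase.bcStr f k')
        (Spec.map (CommRingCat.ofHom (algebraMap k' k''))) (FBase.bc f k').nilradical.subschemeι (𝟙 _) (𝟙 _)
        (Category.comp_id _) ((Category.comp_id _).trans (Category.id_comp _).symm) z'' = x'') :
    Module.length ((FBase.bc (FBase.bcStr f k') k'').presheaf.stalk x'') ((FBase.bc (FBase.bcStr f k') k'').presheaf.stalk x'') =
      Module.length ((FBase.bc f k').presheaf.stalk (FBase.bcπ (FBase.bcStr f k') k'' x''))
          ((FBase.bc f k').presheaf.stalk (FBase.bcπ (FBase.bcStr f k') k'' x'')) *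
        Module.length ((FBase.bc ((FBase.bc f k').nilradical.subschemeι ≫ FBase.bcStr f k') k'').presheaf.stalk z'')
          ((FBase.bc ((FBase.bc f k').nilradical.subschemeι ≫ FBase.bcStr f k') k'').presheaf.stalk z'') := by
  haveI : Flat (Spec.map (CommRingCat.ofHom (algebraMap k' k''))) := by
    rw [HasRingHomProperty.Spec_iff (P := @Flat)]
    exact (RingHom.flat_algebraMap_iff).mpr inferInstance
  haveI : Flat (FBase.bcπ (FBase.bcStr f k') k'') :=
    MorphismProperty.pullback_fst (P := @Flat) _ _ inferInstance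
  haveI : AlgebraicGeometry.IsReduced (FBase.bc f k').nilradical.subscheme := by
    have h := Groth.Agent.Lib.ReducedSubscheme.isReduced_subscheme_vanishingIdeal
      (⊤ : TopologicalSpace.Closeds ↥(FBase.bc f k'))
    rwa [Scheme.IdealSheafData.vanishingIdeal_top] at h
  exact length_stalk_eq_mul (FBase.bcπ (FBase.bcStr f k') k'') (FBase.bc f k').nilradical.subschemeι
    _ _ (isPullback_bc (k'' := k'') (FBase.bcStr f k') (FBase.bc f k').nilradical.subschemeι)
    x'' hx'' z'' hz''

end Groth.Agent.S4686
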