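import Groth.Statements.S4687
import Groth.Agent.Lib.FibreStalk33
import Mathlib

set_option autoImplicit false
open CategoryTheory AlgebraicGeometry
universe u
open FBase

namespace Groth.Agent.S4687

open IsLocalRing in
/-- a flat morphism with reduced fibres preserves the length of the local ring at maximal points -/
theorem length_stalk_eq {X Y : Scheme.{u}} (π : X ⟶ Y) [Flat π] (x : X)
    [AlgebraicGeometry.IsReduced (π.fiber (π x))] (hx : ∀ z : X, z ⤳ x → z = x) :
    Module.length (X.presheaf.stalk x) (X.presheaf.stalk x) =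
      Module.length (Y.presheaf.stalk (π x)) (Y.presheaf.stalk (π x)) := by
  letI : Algebra (Y.presheaf.stalk (π x)) (X.presheaf.stalk x) := (π.stalkMap x).hom.toAlgebra
  haveI : Module.Flat (Y.presheaf.stalk (π x)) (X.presheaf.stalk x) := Flat.stalkMap π x
  haveI : IsLocalHom (algebraMap (Y.presheaf.stalk (π x)) (X.presheaf.stalk x)) :=
    inferInstanceAs (IsLocalHom (π.stalkMap x).hom)
  have h1 := IsLocalRing.length_baseChange (Y.presheaf.stalk (π x)) (X.presheaf.stalk x)
    (Y.presheaf.stalk (π x))
  rw [(TensorProduct.AlgebraTensorModule.rid (Y.presheaf.stalk (π x)) (X.presheaf.stalk x)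
    (X.presheaf.stalk x)).length_eq] at h1
  rw [h1]
  -- the unique prime of the stalk
  have huniq : ∀ J : Ideal (X.presheaf.stalk x), J.IsPrime → J = maximalIdeal (X.presheaf.stalk x) := by
    intro J hJ
    have key : ∀ p : ↥(Spec (X.presheaf.stalk x)), X.fromSpecStalk x p = x := by
      intro p
      apply hx
      have : X.fromSpecStalk x p ∈ Set.range (X.fromSpecStalk x) := ⟨p, rfl⟩
      rw [Scheme.range_fromSpecStalk] at this
      exact this
    have hinj : Function.Injective (X.fromSpecStalk x) := (X.fromSpecStalk x).isEmbedding.injective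
    have h2 : (⟨J, hJ⟩ : PrimeSpectrum (X.presheaf.stalk x)) =
        ⟨maximalIdeal (X.presheaf.stalk x), inferInstance⟩ :=
      hinj ((key _).trans (key _).symm)
    exact congrArg PrimeSpectrum.asIdeal h2
  -- the closed fibre is reduced
  have hmax : (maximalIdeal (Y.presheaf.stalk (π x))).map
      (algebraMap (Y.presheaf.stalk (π x)) (X.presheaf.stalk x)) = maximalIdeal (X.presheaf.stalk x) := by
    have hred : _root_.IsReduced ((π.fiber (π x)).presheaf.stalk (π.asFiber x)) := inferInstance
    have hred' : _root_.IsReduced (X.presheaf.stalk x ⧸ (maximalIdeal (Y.presheaf.stalk (π x))).map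
        (algebraMap (Y.presheaf.stalk (π x)) (X.presheaf.stalk x))) :=
      isReduced_of_injective (Groth.Agent.Lib.FibreStalk33.fibreStalkEquiv π x).toRingHom
        (Groth.Agent.Lib.FibreStalk33.fibreStalkEquiv π x).injective
    have hrad := (Ideal.isRadical_iff_quotient_reduced _).mpr hred'
    have hle : (maximalIdeal (Y.presheaf.stalk (π x))).map
        (algebraMap (Y.presheaf.stalk (π x)) (X.presheaf.stalk x)) ≤ maximalIdeal (X.presheaf.stalk x) :=
      le_maximalIdeal
        (map_maximalIdeal_lt_top (algebraMap (Y.presheaf.stalk (π x)) (X.presheaf.stalk x))).ne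
    apply le_antisymm hle
    rw [← hrad.radical, Ideal.radical_eq_sInf]
    apply le_sInf
    rintro J ⟨-, hJ⟩
    rw [huniq J hJ]
  rw [hmax]
  have : Module.length (X.presheaf.stalk x)
      (X.presheaf.stalk x ⧸ maximalIdeal (X.presheaf.stalk x)) = 1 := by
    rw [Module.length_eq_one_iff]
    exact isSimpleModule_iff_quot_maximal.mpr ⟨_, inferInstance, ⟨LinearEquiv.refl _ _⟩⟩
  rw [this, mul_one]


/-- Let X be an integral locally Noetherian scheme over a field k, k′ an extension field of k such that
X′ = X ⊗_k k′ is locally Noetherian, and k″ an extension field of k′ which is separable over k′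
(Spec k″ → Spec k′ geometrically reduced) and such that (X′)_red ⊗_{k′} k″ is locally Noetherian.
Then for every maximal point x″ of X″ = X′ ⊗_{k′} k″ (generic point of an irreducible component),
with image x′ in X′, the local rings O_{X″,x″} and O_{X′,x′} have the same length, each as a module
over itself, with values in ℕ∞. -/
theorem result {k k' k'' : Type u} [Field k] [Field k'] [Field k''] [Algebra k k']
    [Algebra k' k''] {X : Scheme.{u}} (f : X ⟶ Spec (CommRingCat.of k)) [IsIntegral X] [IsLocallyNoetherian X]
    [IsLocallyNoetherian (FBase.bc f k')] [GeometricallyReduced (Spec.map (CommRingCat.ofHom (algebraMap k' k'')))]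
    [IsLocallyNoetherian (FBase.bc ((FBase.bc f k').nilradical.subschemeι ≫ FBase.bcStr f k') k'')]
    (x'' : ↥(FBase.bc (FBase.bcStr f k') k'')) (hx'' : ∀ z : ↥(FBase.bc (FBase.bcStr f k') k''), z ⤳ x'' → z = x'') :
    Module.length ((FBase.bc (FBase.bcStr f k') k'').presheaf.stalk x'') ((FBase.bc (FBase.bcStr f k') k'').presheaf.stalk x'') =
      Module.length ((FBase.bc f k').presheaf.stalk (FBase.bcπ (FBase.bcStr f k') k'' x''))
        ((FBase.bc f k').presheaf.stalk (FBase.bcπ (FBase.bcStr f k') k'' x'')) := by
  haveI : Flat (Spec.map (CommRingCat.ofHom (algebraMap k' k''))) := by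
    rw [HasRingHomProperty.Spec_iff (P := @Flat)]
    exact (RingHom.flat_algebraMap_iff).mpr inferInstance
  haveI : Flat (FBase.bcπ (FBase.bcStr f k') k'') :=
    MorphismProperty.pullback_fst (P := @Flat) _ _ inferInstance
  haveI : GeometricallyReduced (FBase.bcπ (FBase.bcStr f k') k'') :=
    inferInstanceAs (GeometricallyReduced (Limits.pullback.fst (FBase.bcStr f k')
      (Spec.map (CommRingCat.ofHom (algebraMap k' k'')))))
  exact length_stalk_eq (FBase.bcπ (FBase.bcStr f k') k'') x'' hx''

end Groth.Agent.S4687
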