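import Groth.Statements.S4688
import Mathlib.RingTheory.KrullDimension.Polynomial
import Mathlib.RingTheory.Ideal.GoingDown
import Mathlib.RingTheory.Polynomial.Quotient
import Mathlib.RingTheory.Localization.Algebra
import Mathlib.RingTheory.KrullDimension.Field
import Mathlib.RingTheory.Localization.FractionRing

set_option autoImplicit false
universe u
open EGA4

namespace Groth.Agent.S4688

open Polynomial

theorem liesOver_map_C (A : Type u) [CommRing A] (p : Ideal A) :
    (p.map (C : A →+* A[X])).LiesOver p := by
  constructor
  ext a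
  rw [Ideal.under_def, Ideal.mem_comap, Polynomial.algebraMap_eq, Ideal.mem_map_C_iff]
  constructor
  · intro ha n
    rw [coeff_C]
    split_ifs
    · exact ha
    · exact zero_mem _
  · intro h
    simpa using h 0

attribute [local instance] Polynomial.algebra Polynomial.isLocalization in
theorem height_le_one_of_comap_C_eq_bot (D : Type u) [CommRing D] [IsDomain D]
    (Q : Ideal D[X]) [Q.IsPrime] (hQ : ∀ d : D, C d ∈ Q → d = 0) : Q.height ≤ 1 := by
  let K := FractionRing D
  have disj : Disjoint (((nonZeroDivisors D).map (C : D →+* D[X]) : Submonoid D[X]) : Set D[X])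
      (Q : Set D[X]) := by
    refine Set.disjoint_left.mpr ?_
    rintro _ ⟨d, hd, rfl⟩ hdQ
    exact nonZeroDivisors.ne_zero hd (hQ d hdQ)
  have h1 := IsLocalization.height_map_of_disjoint (S := K[X])
    ((nonZeroDivisors D).map (C : D →+* D[X])) Q disj
  have hprime : (Q.map (algebraMap D[X] K[X])).IsPrime :=
    IsLocalization.isPrime_of_isPrime_disjoint ((nonZeroDivisors D).map (C : D →+* D[X]))
      K[X] Q ‹_› disj
  have h2 := Ideal.height_le_ringKrullDim_of_ne_top hprime.ne_top
  rw [Polynomial.ringKrullDim_of_isNoetherianRing, ringKrullDim_eq_zero_of_field, zero_add,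
    h1] at h2
  exact_mod_cast h2

open Polynomial in
/-- Let A be a Noetherian ring, p a prime ideal of A and q a prime ideal of the polynomial ring A[T]
lying over p. Then the extended ideal p A[T] has the same height as p, and if q is different from p
A[T] one has ht(q) = ht(p) + 1. (The remaining assertions of the published item, that p A[T] is
prime over p and that there are infinitely many pairwise incomparable such q, are not restated.) -/
theorem result (A : Type u) [CommRing A] [IsNoetherianRing A]
    (p : Ideal A) [p.IsPrime] (q : Ideal A[X]) [q.IsPrime] [q.LiesOver p] :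
    (p.map (Polynomial.C : A →+* A[X])).height = p.height ∧
      (q ≠ p.map (Polynomial.C : A →+* A[X]) → q.height = p.height + 1) := by
  have hP0 : (p.map (C : A →+* A[X])).LiesOver p := liesOver_map_C A p
  have hle : p.map (C : A →+* A[X]) ≤ q := by
    rw [Ideal.map_le_iff_le_comap]
    exact (Ideal.LiesOver.over (P := q) (p := p)).le
  have hP0h : (p.map (C : A →+* A[X])).height = p.height := by
    have h := Ideal.height_eq_height_add_of_liesOver_of_hasGoingDown p (p.map (C : A →+* A[X]))
    rw [h, Polynomial.algebraMap_eq, Ideal.map_quotient_self, Ideal.height_bot, add_zero]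
  refine ⟨hP0h, fun hne => ?_⟩
  refine le_antisymm ?_ ?_
  · refine (Ideal.height_le_height_add_of_liesOver p q).trans ?_
    gcongr
    rw [Polynomial.algebraMap_eq]
    set e := (Ideal.polynomialQuotientEquivQuotientPolynomial p).symm with he
    rw [← e.height_map]
    have : (Ideal.map (Ideal.Quotient.mk (Ideal.map C p)) q).IsPrime :=
      Ideal.map_isPrime_of_surjective Ideal.Quotient.mk_surjective (by rwa [Ideal.mk_ker])
    have : (Ideal.map e (Ideal.map (Ideal.Quotient.mk (Ideal.map C p)) q)).IsPrime :=
      Ideal.map_isPrime_of_equiv e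
    refine height_le_one_of_comap_C_eq_bot (A ⧸ p) _ ?_
    intro d hd
    obtain ⟨a, rfl⟩ := Ideal.Quotient.mk_surjective d
    have h1 : (C (Ideal.Quotient.mk p a) : (A ⧸ p)[X]) =
        e (Ideal.Quotient.mk (Ideal.map C p) (C a)) := by
      rw [he, Ideal.polynomialQuotientEquivQuotientPolynomial_symm_mk, Polynomial.map_C]
    rw [h1, Ideal.mem_map_of_equiv] at hd
    obtain ⟨y, hy, hye⟩ := hd
    rw [EmbeddingLike.apply_eq_iff_eq] at hye
    rw [hye, Ideal.mem_quotient_iff_mem hle] at hy
    have : a ∈ p := by
      rw [Ideal.LiesOver.over (P := q) (p := p), Ideal.under_def, Ideal.mem_comap,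
        Polynomial.algebraMap_eq]
      exact hy
    exact Ideal.Quotient.eq_zero_iff_mem.mpr this
  · rw [← hP0h]
    exact Ideal.height_add_one_le_of_lt_of_isPrime (lt_of_le_of_ne hle (Ne.symm hne))

end Groth.Agent.S4688
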