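-- Statement S4689.
import Groth.Statements.S4689
import Groth.Agent.Lib.H56DimFormula2
import Mathlib

set_option autoImplicit false
universe u
open EGA4

namespace Groth.Agent.S4689

open IsLocalRing

theorem main (A B : Type u) [CommRing A] [IsDomain A]
    [IsNoetherianRing A] [IsLocalRing A] (hA : CAlg.IsUniversallyCatenary A) [CommRing B] [IsDomain B]
    [Algebra A B] [FaithfulSMul A B] [Module.Finite A B] (n : Ideal B) [n.IsMaximal] :
    ringKrullDim (Localization.AtPrime n) = ringKrullDim A := by
  haveI : Algebra.IsIntegral A B := Algebra.IsIntegral.of_finite A B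
  -- n lies over the maximal ideal
  have hmax : (n.comap (algebraMap A B)).IsMaximal :=
    Ideal.isMaximal_comap_of_isIntegral_of_isMaximal n
  have hcomap : n.comap (algebraMap A B) = maximalIdeal A := IsLocalRing.eq_maximalIdeal hmax
  haveI : n.LiesOver (maximalIdeal A) := ⟨hcomap.symm⟩
  have hform := Groth.Agent.Lib.H56DimFormula.dimension_formula A hA B (maximalIdeal A) n
  haveI : Algebra.IsAlgebraic A B := Algebra.IsIntegral.isAlgebraic
  haveI : Module.Finite (A ⧸ maximalIdeal A) (B ⧸ n) := inferInstance
  haveI : Algebra.IsAlgebraic (A ⧸ maximalIdeal A) (B ⧸ n) :=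
    Algebra.IsIntegral.isAlgebraic
  rw [trdeg_eq_zero, trdeg_eq_zero, add_zero, add_zero,
    Cardinal.ofENat_inj] at hform
  rw [IsLocalization.AtPrime.ringKrullDim_eq_height n (Localization.AtPrime n), hform,
    IsLocalRing.maximalIdeal_height_eq_ringKrullDim]

/-- Let A be a universally catenary Noetherian local domain and B a domain containing A which is a
finite A-algebra. Then for every maximal ideal n of B the local ring B_n has the same Krull
dimension as A. -/
theorem result (A B : Type u) [CommRing A] [IsDomain A]
    [IsNoetherianRing A] [IsLocalRing A] (hA : CAlg.IsUniversallyCatenary A) [CommRing B] [IsDomain B]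
    [Algebra A B] [FaithfulSMul A B] [Module.Finite A B] (n : Ideal B) [n.IsMaximal] :
    ringKrullDim (Localization.AtPrime n) = ringKrullDim A := by
  exact main A B hA n

end Groth.Agent.S4689
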