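import Groth.Statements.S4691
import Groth.Agent.Lib.FibreStalk33
import Groth.Agent.Lib.DimFibre33
import Groth.Agent.Lib.RegularDimOne

set_option autoImplicit false
universe u
open EGA4

namespace Groth.Agent.S4691

open AlgebraicGeometry CategoryTheory in
/-- Let Y be a locally Noetherian scheme, f : X → Y a morphism locally of finite type and n a natural
number such that every fibre of f has dimension at most n. Then dim X ≤ dim Y + n. -/
theorem result {X Y : Scheme.{u}} (f : X ⟶ Y) [IsLocallyNoetherian Y]
    [LocallyOfFiniteType f] (n : ℕ) (h : ∀ y : Y, topologicalKrullDim (f.fiber y) ≤ n) :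
    topologicalKrullDim X ≤ topologicalKrullDim Y + n := by
  haveI : IsLocallyNoetherian X := LocallyOfFiniteType.isLocallyNoetherian f
  rw [Groth.Agent.Lib.SpecDim.topologicalKrullDim_eq_krullDim (A := X),
    Order.krullDim_eq_iSup_coheight]
  apply iSup_le
  intro x
  rw [← ringKrullDim_stalk_eq_coheight]
  have h1 := Groth.Agent.Lib.DimFibre33.ringKrullDim_le_add' (f.stalkMap x).hom
  have h2 : ringKrullDim (X.presheaf.stalk x ⧸ Ideal.map (f.stalkMap x).hom
      (IsLocalRing.maximalIdeal (Y.presheaf.stalk (f x)))) =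
      ringKrullDim ((f.fiber (f x)).presheaf.stalk (f.asFiber x)) :=
    ringKrullDim_eq_of_ringEquiv (Groth.Agent.Lib.FibreStalk33.fibreStalkEquiv f x)
  have h3 : ringKrullDim ((f.fiber (f x)).presheaf.stalk (f.asFiber x)) ≤ n :=
    (Groth.Agent.Lib.RegularDimOne.dim_stalk_le _ _).trans (h (f x))
  have h4 : ringKrullDim (Y.presheaf.stalk (f x)) ≤ topologicalKrullDim Y :=
    Groth.Agent.Lib.RegularDimOne.dim_stalk_le Y (f x)
  rw [h2] at h1
  exact h1.trans (add_le_add h4 h3)

end Groth.Agent.S4691
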