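import Groth.Statements.S4692
import Groth.Agent.S4691
import Groth.Agent.Lib.DimFormulaScheme2

set_option autoImplicit false
universe u
open EGA4

namespace Groth.Agent.S4692

open AlgebraicGeometry CategoryTheory in
/-- Let Y be a locally Noetherian scheme all of whose local rings are universally catenary, X an
irreducible scheme, f : X → Y a morphism locally of finite type and n a natural number. If every
fibre of f has dimension at least n then dim X ≥ dim Y + n; if every fibre has dimension exactly n
then dim X = dim Y + n. (The empty scheme has dimension ⊥, so either hypothesis forces f to be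
surjective.) -/
theorem result {X Y : Scheme.{u}} (f : X ⟶ Y) [IsLocallyNoetherian Y]
    [LocallyOfFiniteType f] [IrreducibleSpace X] (hY : ∀ y : Y, CAlg.IsUniversallyCatenary (Y.presheaf.stalk y))
    (n : ℕ) :
    ((∀ y : Y, (n : WithBot ℕ∞) ≤ topologicalKrullDim (f.fiber y)) →
        topologicalKrullDim Y + n ≤ topologicalKrullDim X) ∧
      ((∀ y : Y, topologicalKrullDim (f.fiber y) = n) →
        topologicalKrullDim X = topologicalKrullDim Y + n) := by
  have partA : (∀ y : Y, (n : WithBot ℕ∞) ≤ topologicalKrullDim (f.fiber y)) →
      topologicalKrullDim Y + n ≤ topologicalKrullDim X := by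
    intro h
    have hsurj : ∀ y : Y, ∃ x : X, f x = y := by
      intro y
      have h1 := h y
      have hne : Nonempty (f.fiber y) := by
        by_contra hne
        rw [not_nonempty_iff] at hne
        have h2 : topologicalKrullDim (f.fiber y) = ⊥ := by
          rw [Groth.Agent.Lib.SpecDim.topologicalKrullDim_eq_krullDim (A := f.fiber y)]
          exact Order.krullDim_eq_bot
        rw [h2] at h1
        exact absurd h1 (by simp)
      obtain ⟨x'⟩ := hne
      refine ⟨f.fiberι y x', ?_⟩
      have : f.fiberι y x' ∈ Set.range (f.fiberι y) := Set.mem_range_self x'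
      rw [f.range_fiberι] at this
      exact this
    have hξ : ∀ x : X, genericPoint X ⤳ x := genericPoint_specializes
    have hfξ : ∀ y : Y, f (genericPoint X) ⤳ y := fun y => by
      obtain ⟨x, rfl⟩ := hsurj y
      exact (hξ x).map f.continuous
    obtain ⟨e₀, he⟩ := Groth.Agent.Lib.GenericFibrePoint.exists_nat_trdeg_residueField f
      (genericPoint X)
    have hne : n ≤ e₀ := by
      obtain ⟨x', hx'⟩ := Groth.Agent.Lib.DimFormulaScheme.exists_le_ringKrullDim_stalk
        (f.fiber (f (genericPoint X))) n (h (f (genericPoint X)))
      have h1 := Groth.Agent.Lib.DimFormulaScheme.ringKrullDim_stalk_fiber_le f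
        (f (genericPoint X)) x'
      have hfx : f (f.fiberι (f (genericPoint X)) x') = f (genericPoint X) := by
        have : f.fiberι (f (genericPoint X)) x' ∈ Set.range (f.fiberι (f (genericPoint X))) :=
          Set.mem_range_self x'
        rw [f.range_fiberι] at this
        exact this
      have h2 := Groth.Agent.Lib.DimFormulaScheme.dim_stalk_le_add f (genericPoint X) hξ hfξ e₀ he
        (f.fiberι (f (genericPoint X)) x')
      rw [hfx, Groth.Agent.Lib.DimFormulaScheme.ringKrullDim_stalk_eq_zero_of_forall_specializes
        (f (genericPoint X)) hfξ, zero_add] at h2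
      have h3 : (n : WithBot ℕ∞) ≤ e₀ := hx'.trans (h1.trans h2)
      exact_mod_cast h3
    haveI : Nonempty Y := ⟨f (genericPoint X)⟩
    rw [Groth.Agent.Lib.SpecDim.topologicalKrullDim_eq_krullDim (A := Y),
      Groth.Agent.Lib.SpecDim.topologicalKrullDim_eq_krullDim (A := X),
      Order.krullDim_eq_iSup_coheight_of_nonempty, Order.krullDim_eq_iSup_coheight_of_nonempty]
    have key : (⨆ y : Y, Order.coheight y) + (n : ℕ∞) ≤ ⨆ x : X, Order.coheight x := by
      rw [ENat.iSup_add]
      apply iSup_le
      intro y
      obtain ⟨x₀, rfl⟩ := hsurj y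
      obtain ⟨z, hfz, hz⟩ := Groth.Agent.Lib.DimFormulaScheme.exists_dim_stalk_eq_add f
        (genericPoint X) hξ hfξ hY e₀ he x₀
      rw [ringKrullDim_stalk_eq_coheight, ringKrullDim_stalk_eq_coheight] at hz
      have hz' : Order.coheight z = Order.coheight (f x₀) + (e₀ : ℕ∞) := by
        exact_mod_cast hz
      refine le_iSup_of_le z ?_
      rw [hz']
      gcongr
    exact_mod_cast key
  refine ⟨partA, fun h => le_antisymm ?_ (partA (fun y => (h y).ge))⟩
  exact Groth.Agent.S4691.result f n (fun y => (h y).le)

end Groth.Agent.S4692
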