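import Groth.Statements.S4693
import Groth.Agent.Lib.FlatGoingDown

set_option autoImplicit false
universe u
open EGA4

namespace Groth.Agent.S4693
open Groth.Agent.Lib.FlatGoingDown

/-- Let A → B be a local homomorphism of Noetherian local rings such that the closed fibre ring B/m_A B
has Krull dimension 0 (that is, m_A B is an ideal of definition of B). Then dim B ≤ dim A. If
moreover some finite B-module which is flat over A has support equal to all of Spec B (for instance
if B is flat over A), then dim B = dim A. -/
theorem result (A B : Type u) [CommRing A] [CommRing B] [IsNoetherianRing A]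
    [IsNoetherianRing B] [IsLocalRing A] [IsLocalRing B] [Algebra A B] [IsLocalHom (algebraMap A B)]
    (h0 : ringKrullDim (EGA4.FibRing A B) = 0) :
    ringKrullDim B ≤ ringKrullDim A ∧
      (∀ (N : Type u) [AddCommGroup N] [Module B N] [Module A N] [IsScalarTower A B N] [Module.Finite B N]
          [Module.Flat A N], Module.support B N = Set.univ → ringKrullDim B = ringKrullDim A) := by
  haveI : (IsLocalRing.maximalIdeal B).LiesOver (IsLocalRing.maximalIdeal A) :=
    ⟨(IsLocalRing.maximalIdeal_comap (algebraMap A B)).symm⟩
  have hfib : ((IsLocalRing.maximalIdeal B).map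
      (Ideal.Quotient.mk ((IsLocalRing.maximalIdeal A).map (algebraMap A B)))).height = 0 := by
    have hmax : (IsLocalRing.maximalIdeal B).map
        (Ideal.Quotient.mk ((IsLocalRing.maximalIdeal A).map (algebraMap A B))) =
        IsLocalRing.maximalIdeal (EGA4.FibRing A B) := by
      apply IsLocalRing.eq_maximalIdeal
      apply Ideal.IsMaximal.map_of_surjective_of_ker_le Ideal.Quotient.mk_surjective
      rw [Ideal.mk_ker]
      exact IsLocalRing.map_maximalIdeal_le (algebraMap A B)
    rw [hmax]
    have := IsLocalRing.maximalIdeal_height_eq_ringKrullDim (R := EGA4.FibRing A B)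
    rw [h0] at this
    exact_mod_cast this
  refine ⟨?_, ?_⟩
  · have h1 := Ideal.height_le_height_add_of_liesOver (IsLocalRing.maximalIdeal A)
      (IsLocalRing.maximalIdeal B)
    rw [hfib, add_zero] at h1
    rw [← IsLocalRing.maximalIdeal_height_eq_ringKrullDim,
      ← IsLocalRing.maximalIdeal_height_eq_ringKrullDim]
    exact_mod_cast h1
  · intro N _ _ _ _ _ _ hN
    have := hasGoingDown_of_flat_module (A := A) (B := B) N hN
    have h1 := Ideal.height_eq_height_add_of_liesOver_of_hasGoingDown (IsLocalRing.maximalIdeal A)
      (IsLocalRing.maximalIdeal B)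
    rw [hfib, add_zero] at h1
    rw [← IsLocalRing.maximalIdeal_height_eq_ringKrullDim,
      ← IsLocalRing.maximalIdeal_height_eq_ringKrullDim, h1]

end Groth.Agent.S4693
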