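import Groth.Statements.S4694
import Groth.Agent.Lib.DepthFlat33
import Mathlib.RingTheory.FiniteLength
import Mathlib.RingTheory.Artinian.Module
import Mathlib.RingTheory.Artinian.Ring

set_option autoImplicit false
universe u
open EGA4

namespace Groth.Agent.S4694

open Groth.Agent.Lib IsLocalRing

/-- The maximal ideal is an associated prime of a nonzero module of finite length. -/
theorem maximalIdeal_mem_associatedPrimes_of_isFiniteLength {B F : Type u} [CommRing B]
    [IsLocalRing B] [IsNoetherianRing B] [AddCommGroup F] [Module B F] [Nontrivial F]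
    (h : IsFiniteLength B F) : maximalIdeal B ∈ associatedPrimes B F := by
  obtain ⟨_, hart⟩ := isFiniteLength_iff_isNoetherian_isArtinian.mp h
  obtain ⟨p, hp⟩ := associatedPrimes.nonempty B F
  obtain ⟨hprime, f, hf⟩ := (isAssociatedPrime_iff_exists_injective_linearMap p F).mp hp
  have h1 : IsArtinian B (B ⧸ p) := isArtinian_of_injective f hf
  have h2 : IsArtinianRing (B ⧸ p) := isArtinian_of_tower B h1
  have h3 : p.IsMaximal :=
    Ideal.Quotient.maximal_of_isField _ (IsArtinianRing.isField_of_isDomain _)
  rw [← IsLocalRing.eq_maximalIdeal h3]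
  exact hp

open TensorProduct in
/-- Let A → B be a local homomorphism of Noetherian local rings, M a finite A-module and N a nonzero
finite B-module, flat over A, whose closed-fibre module N/m_A N has finite length. Then the depth of
the B-module N ⊗_A M equals the depth of the A-module M. (The companion equality of codepths in the
published item is not restated.) -/
theorem result {A B M N : Type u} [CommRing A] [CommRing B]
    [IsNoetherianRing A] [IsNoetherianRing B] [IsLocalRing A] [IsLocalRing B] [Algebra A B]
    [IsLocalHom (algebraMap A B)] [AddCommGroup M] [Module A M] [Module.Finite A M]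
    [AddCommGroup N] [Module B N] [Module A N] [IsScalarTower A B N] [Module.Finite B N] [Nontrivial N]
    [Module.Flat A N] (hN : IsFiniteLength B (EGA4.FibMod A B N)) :
    LocCoh.depth B (N ⊗[A] M) = LocCoh.depth A M := by
  rw [DepthFlat33.depth_tensor_eq_add M N]
  have hnt : Nontrivial (EGA4.FibMod A B N) := by
    rw [Submodule.Quotient.nontrivial_iff]
    intro htop
    have hle : EGA4.mB A B ≤ maximalIdeal B := IsLocalRing.map_maximalIdeal_le (algebraMap A B)
    have h2 : (⊤ : Submodule B N) ≤ maximalIdeal B • (⊤ : Submodule B N) :=
      htop.symm.le.trans (Submodule.smul_mono_left hle)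
    have h3 := Submodule.eq_bot_of_le_smul_of_le_jacobson_bot (maximalIdeal B)
      (⊤ : Submodule B N) Module.Finite.fg_top h2
      (IsLocalRing.jacobson_eq_maximalIdeal _ bot_ne_top).ge
    exact not_subsingleton N ((Submodule.subsingleton_iff B).mp (subsingleton_of_bot_eq_top h3.symm))
  have h0 : LocCoh.depth B (EGA4.FibMod A B N) = 0 :=
    (DepthFlat33.depth_eq_zero_iff _).mpr (maximalIdeal_mem_associatedPrimes_of_isFiniteLength hN)
  change LocCoh.depth A M + LocCoh.depth B (EGA4.FibMod A B N) = _
  rw [h0, add_zero]

end Groth.Agent.S4694
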