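import Groth.Statements.S4699
import Groth.Agent.Lib.H74Gen6
import Groth.Agent.Lib.H8CMOpen

set_option autoImplicit false
universe u
open EGA4

namespace Groth.Agent.S4699

/-- Let A be a Noetherian ring, M a finite A-module and I an ideal of A whose radical p is a prime ideal
lying in the support of M (so V(I) is an irreducible closed subset whose generic point is in Supp
M). Then there is an element f outside p such that, for every prime q containing I with f outside q,
the dimension of M_q is the dimension of M_p plus the dimension of (A/I)_q, and the depth of M_q is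
the depth of M_p plus the depth of (A/I)_q (the module (A/I)_q = A_q / I A_q being regarded over
A_q). -/
theorem result (A : Type u) [CommRing A] [IsNoetherianRing A]
    (M : Type u) [AddCommGroup M] [Module A M] [Module.Finite A M] (I : Ideal A) [I.radical.IsPrime]
    (hp : (⟨I.radical, inferInstance⟩ : PrimeSpectrum A) ∈ Module.support A M) :
    ∃ f : A, f ∉ I.radical ∧ ∀ (q : Ideal A) [q.IsPrime], I ≤ q → f ∉ q →
      Module.supportDim (Localization.AtPrime q) (LocalizedModule q.primeCompl M) =
          Module.supportDim (Localization.AtPrime I.radical) (LocalizedModule I.radical.primeCompl M) +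
            Module.supportDim (Localization.AtPrime q)
              (Localization.AtPrime q ⧸ I.map (algebraMap A (Localization.AtPrime q))) ∧
        LocCoh.depth (Localization.AtPrime q) (LocalizedModule q.primeCompl M) =
          LocCoh.depth (Localization.AtPrime I.radical) (LocalizedModule I.radical.primeCompl M) +
            LocCoh.depth (Localization.AtPrime q)
              (Localization.AtPrime q ⧸ I.map (algebraMap A (Localization.AtPrime q))) := by
  classical
  have : Nontrivial (LocalizedModule I.radical.primeCompl M) := Module.mem_support_iff.mp hp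
  obtain ⟨g₁, hg₁, hk₁⟩ := Groth.Agent.Lib.H74Gen.good_depth I.radical M
  obtain ⟨g₂, hg₂, hk₂⟩ := Groth.Agent.Lib.H74Gen.good_quotient_of_radical I
  obtain ⟨g₃, hg₃, hk₃⟩ := Groth.Agent.Lib.H74Gen.dim_generic I.radical hp
  refine ⟨g₁ * g₂ * g₃, Groth.Agent.Lib.H74Gen.mul_notMem _
    (Groth.Agent.Lib.H74Gen.mul_notMem _ hg₁ hg₂) hg₃, ?_⟩
  intro q hqprime hIq hfq
  have hq₃ : g₃ ∉ q := fun h => hfq (Ideal.mul_mem_left _ _ h)
  have hq₁₂ : g₁ * g₂ ∉ q := fun h => hfq (Ideal.mul_mem_right _ _ h)
  have hq₁ : g₁ ∉ q := fun h => hq₁₂ (Ideal.mul_mem_right _ _ h)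
  have hq₂ : g₂ ∉ q := fun h => hq₁₂ (Ideal.mul_mem_left _ _ h)
  have hpq : I.radical ≤ q := hqprime.radical_le_iff.mpr hIq
  set Q : PrimeSpectrum A := ⟨q, hqprime⟩ with hQ
  have e := Groth.Agent.Lib.H8CMOpen.localizedQuotEquiv I q
  constructor
  · have h1 := hk₃ Q hpq hq₃
    have h2 := Groth.Agent.Lib.H74Gen.dm_quotient_radical I Q hIq
    have h3 : Module.supportDim (Localization.AtPrime q)
        (Localization.AtPrime q ⧸ I.map (algebraMap A (Localization.AtPrime q))) =
        Groth.Agent.Lib.H74Gen.dm A Q (A ⧸ I) := (Module.supportDim_eq_of_equiv e).symm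
    rw [h3, h2]
    exact h1
  · have h1 := hk₁ Q hpq hq₁
    have h2 := hk₂ Q hpq hq₂
    rw [zero_add] at h2
    have h3 : LocCoh.depth (Localization.AtPrime q)
        (Localization.AtPrime q ⧸ I.map (algebraMap A (Localization.AtPrime q))) =
        Groth.Agent.Lib.H74Gen.dp A Q (A ⧸ I) :=
      (Groth.Agent.Lib.DepthFlat33.depth_congr e).symm
    rw [h3, h2]
    exact h1

end Groth.Agent.S4699
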