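import Groth.Statements.S4702
import Groth.Agent.Lib.H30IrrFib
import Groth.Agent.Lib.DimFormulaScheme3

set_option autoImplicit false
universe u

namespace Groth.Agent.S4702

open AlgebraicGeometry CategoryTheory
open Groth.Agent.Lib.H30DimField Groth.Agent.Lib.H30DimRel Groth.Agent.Lib.H30FlatDim
  Groth.Agent.Lib.H30IrrFib Groth.Agent.Lib.H30FibRes

/-- the dimension of the closure of a point of a fibre -/
theorem krullDim_closure_fiber {X Y : Scheme.{u}} (f : X ⟶ Y) [LocallyOfFiniteType f] (y : Y)
    (w : f.fiber y) :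
    topologicalKrullDim ↥(closure ({w} : Set (f.fiber y))) =
      ((rt f (f.fiberι y w) : ℕ) : WithBot ℕ∞) := by
  letI := fiberOver f y
  haveI := lft_fiber f y
  haveI := jacobsonSpace (Y.residueField y) (f.fiber y)
  have h1 := Groth.Agent.S6462.part1 (isDimFun (Y.residueField y) (f.fiber y))
    (td_eq_zero_of_isClosed (Y.residueField y) (f.fiber y)) w
  rw [h1, td_eq_of_trdeg_eq (Y.residueField y) (f.fiber y) w (rt f (f.fiberι y w))
    ((trdeg_fiber_eq f y w).trans (trdeg_eq_rt f _)), Int.toNat_natCast]

open AlgebraicGeometry CategoryTheory in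
/-- Let Y be an irreducible locally Noetherian scheme of dimension 1, X an irreducible scheme and f : X
→ Y a dominant morphism of finite type. Then for every point y in the image of f, every irreducible
component of the fibre of f at y has dimension equal to the dimension of the generic fibre. -/
theorem result {X Y : Scheme.{u}} (f : X ⟶ Y) [IsLocallyNoetherian Y]
    [IrreducibleSpace Y] [IrreducibleSpace X] (hY : topologicalKrullDim Y = 1) [LocallyOfFiniteType f]
    [QuasiCompact f] (hf : DenseRange f.base) (y : Y) (hy : y ∈ Set.range f.base)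
    (Z : Set ↥(f.fiber y)) (hZ : Z ∈ irreducibleComponents ↥(f.fiber y)) :
    topologicalKrullDim Z = topologicalKrullDim ↥(f.fiber (genericPoint Y)) := by
  set ξ := genericPoint X with hξdef
  have hξ : ∀ x : X, ξ ⤳ x := fun x => genericPoint_specializes x
  have hfξgen : IsGenericPoint (f ξ) (Set.univ : Set Y) := by
    have h2 := (genericPoint_spec X).image f.continuous
    rw [Set.image_univ, hf.closure_eq] at h2
    exact h2
  have hfξ : ∀ y' : Y, f ξ ⤳ y' := fun y' => by
    rw [specializes_iff_mem_closure, hfξgen.def]; trivial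
  have hfξeq : genericPoint Y = f ξ := ((genericPoint_spec Y).eq hfξgen)
  have he := trdeg_eq_rt f ξ
  have hR := Groth.Agent.Lib.DimFormulaScheme.topologicalKrullDim_fiber_eq f ξ hξ hfξ (rt f ξ) he
  rw [hfξeq, hR]
  -- the generic point of `Z`
  obtain ⟨z, hz⟩ : ∃ z, IsGenericPoint z Z :=
    QuasiSober.sober hZ.1 (isClosed_of_mem_irreducibleComponents Z hZ)
  have hzeq : closure {z} = Z := hz.def
  have hzmax : ∀ z' : f.fiber y, z' ⤳ z → z' = z :=
    (closure_mem_irreducibleComponents_iff z).mp (hzeq ▸ hZ)
  rw [← hzeq, krullDim_closure_fiber f y z]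
  set x := f.fiberι y z with hx
  have hfx : f x = y := by
    have : x ∈ Set.range (f.fiberι y) := ⟨z, rfl⟩
    rw [f.range_fiberι y] at this
    exact this
  have hxmax : ∀ x' : X, f x' = f x → x' ⤳ x → x' = x := by
    intro x' h1 h2
    obtain ⟨z', hz'⟩ : x' ∈ Set.range (f.fiberι y) := by
      rw [f.range_fiberι y]
      exact h1.trans hfx
    have h3 : z' ⤳ z := by
      apply (f.fiberι y).isEmbedding.isInducing.specializes_iff.mp
      rw [hz']
      exact h2
    rw [← hz', hzmax z' h3]
  -- lower bound
  have hlow : rt f ξ ≤ rt f x := by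
    have h1 := rt_le_fibreDimAt f x
    obtain ⟨w, hwy, hwx, -, hw⟩ := exists_rt_eq_fibreDimAt f x
    rw [← hw, hxmax w hwy hwx] at h1
    exact_mod_cast h1
  -- upper bound
  have hup : rt f x ≤ rt f ξ := by
    obtain ⟨a, b, ha, hb, hineq⟩ :=
      Groth.Agent.Lib.DimFormulaScheme.stalk_ineq_generic f ξ hξ (rt f ξ) he x
    rw [trdeg_eq_rt f x] at hineq
    have h1 : a + rt f x ≤ b + rt f ξ := by exact_mod_cast hineq
    have hb1 : b ≤ 1 := by
      have h2 : ringKrullDim (Y.presheaf.stalk (f x)) ≤ topologicalKrullDim Y := by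
        rw [ringKrullDim_stalk_eq_coheight,
          Groth.Agent.Lib.SpecDim.topologicalKrullDim_eq_krullDim (A := Y)]
        exact Order.coheight_le_krullDim _
      rw [hb, hY] at h2
      exact_mod_cast h2
    rcases Nat.eq_zero_or_pos b with hb0 | hbpos
    · omega
    · have hne : x ≠ ξ := by
        intro hxξ
        have h3 : ringKrullDim (Y.presheaf.stalk (f x)) = 0 := by
          rw [hxξ]
          exact Groth.Agent.Lib.DimFormulaScheme.ringKrullDim_stalk_eq_zero_of_forall_specializes
            (f ξ) hfξ
        rw [hb] at h3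
        have : b = 0 := by exact_mod_cast h3
        omega
      have hlt : x < ξ :=
        lt_iff_le_not_ge.mpr ⟨hξ x, fun hge => hne ((Specializes.antisymm hge (hξ x)).eq)⟩
      have h4 := Order.coheight_add_one_le hlt
      have ha1 : 1 ≤ a := by
        have h5 : (1 : ℕ∞) ≤ Order.coheight x := le_trans (by simp) h4
        have h6 : ((1 : ℕ∞) : WithBot ℕ∞) ≤ ringKrullDim (X.presheaf.stalk x) := by
          rw [ringKrullDim_stalk_eq_coheight]
          exact_mod_cast h5
        rw [ha] at h6
        exact_mod_cast h6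
      omega
  rw [le_antisymm hup hlow]

end Groth.Agent.S4702
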