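-- Statement S4703.
import Groth.Statements.S4703
import Groth.Agent.S9259
import Groth.Agent.Lib.H30FinDom
import Groth.Agent.Lib.AdicNoeth
import Mathlib

set_option autoImplicit false
universe u
open EGA4

namespace Groth.Agent.S4703

section Helpers
open TensorProduct
open Groth.Agent.Lib.H30FinDom Groth.Agent.Lib.H14GeomP

theorem gen_mp (A C : Type u) [CommRing A] [CommRing C] [Algebra A C]
    (h : CAlg.IsRegularHom A C)
    (B : Type u) [CommRing B] [IsDomain B] [Algebra A B] [Module.Finite A B]
    (q : Ideal (B ⊗[A] C)) [q.IsPrime] (hq : q.comap (algebraMap B (B ⊗[A] C)) = ⊥) :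
    IsRegularLocalRing (Localization.AtPrime q) := by
  let K := FractionRing B
  haveI : Algebra.EssFiniteType B K := Algebra.EssFiniteType.of_isLocalization K (nonZeroDivisors B)
  haveI : Algebra.EssFiniteType A K := Algebra.EssFiniteType.comp A B K
  have hreg : IsRegularRing (K ⊗[A] C) := Groth.Agent.S9259.crit_mp A C h K inferInstance
  haveI : IsRegularRing ((B ⊗[A] C) ⊗[B] K) :=
    good_regular.of_equiv (equivLoc A C B K) hreg
  exact Groth.Agent.S9259.regularLocal_of_localization (B ⊗[A] C) ((B ⊗[A] C) ⊗[B] K)
    (Algebra.algebraMapSubmonoid (B ⊗[A] C) (nonZeroDivisors B)) q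
    ((disjoint_iff A C B q).mpr hq)

theorem gen_mpr (A C : Type u) [CommRing A] [CommRing C] [Algebra A C] [Module.Flat A C]
    [IsNoetherianRing C]
    (h : ∀ (B : Type u) [CommRing B] [IsDomain B] [Algebra A B] [Module.Finite A B]
        (q : Ideal (B ⊗[A] C)) [q.IsPrime],
        q.comap (algebraMap B (B ⊗[A] C)) = ⊥ → IsRegularLocalRing (Localization.AtPrime q)) :
    CAlg.IsRegularHom A C := by
  refine ⟨inferInstance, fun p _ => ⟨Groth.Agent.S9259.fiber_noeth A C p, fun k' _ _ hfin => ?_⟩⟩
  letI : Algebra A k' :=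
    ((algebraMap p.ResidueField k').comp (algebraMap A p.ResidueField)).toAlgebra
  haveI : IsScalarTower A p.ResidueField k' := IsScalarTower.of_algebraMap_eq (fun x => rfl)
  obtain ⟨B, hBfin, hBfrac⟩ := exists_finite_subalgebra A p k'
  -- T Noetherian
  haveI : Module.Finite C (C ⊗[A] B) := inferInstance
  haveI : IsNoetherianRing (C ⊗[A] B) := IsNoetherianRing.of_finite C (C ⊗[A] B)
  haveI : IsNoetherianRing (B ⊗[A] C) :=
    isNoetherianRing_of_ringEquiv _ (Algebra.TensorProduct.comm A C B).toRingEquiv
  haveI : IsNoetherianRing ((B ⊗[A] C) ⊗[B] k') := by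
    have := IsLocalization.isNoetherianRing
      (Algebra.algebraMapSubmonoid (B ⊗[A] C) (nonZeroDivisors B)) ((B ⊗[A] C) ⊗[B] k')
      inferInstance
    exact this
  have hreg : IsRegularRing ((B ⊗[A] C) ⊗[B] k') := by
    rw [isRegularRing_iff]
    intro Q hQ
    obtain ⟨q, hq, hdisj, ⟨e⟩⟩ := exists_equiv_of_prime
      (Algebra.algebraMapSubmonoid (B ⊗[A] C) (nonZeroDivisors B)) Q
    haveI := h B q ((disjoint_iff A C B q).mp hdisj)
    exact IsRegularLocalRing.of_ringEquiv e
  have hreg2 : IsRegularRing (k' ⊗[A] C) := good_regular.of_equiv (equivLoc A C B k').symm hreg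
  exact good_regular.of_equiv
    (Algebra.TensorProduct.cancelBaseChange A p.ResidueField p.ResidueField k' C).symm.toRingEquiv
    hreg2

theorem main (A : Type u) [CommRing A] [IsNoetherianRing A] [IsLocalRing A] :
    CAlg.IsRegularHom A (EGA4.Cpl A) ↔
      ∀ (B : Type u) [CommRing B] [IsDomain B] [Algebra A B] [Module.Finite A B]
        (q : Ideal (B ⊗[A] EGA4.Cpl A)) [q.IsPrime],
        q.comap (algebraMap B (B ⊗[A] EGA4.Cpl A)) = ⊥ → IsRegularLocalRing (Localization.AtPrime q) := by
  haveI : IsNoetherianRing (EGA4.Cpl A) :=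
    Groth.Agent.Lib.AdicNoeth.isNoetherianRing_adicCompletion (IsLocalRing.maximalIdeal A)
  constructor
  · intro h B _ _ _ _ q _ hq
    exact gen_mp A (EGA4.Cpl A) h B q hq
  · intro h
    exact gen_mpr A (EGA4.Cpl A) h

end Helpers

open TensorProduct in
/-- For the property 'geometrically regular', case of a local ring: let A be a Noetherian local ring
with completion Â. Then the formal fibres of A are geometrically regular (the completion map A → Â
is a regular homomorphism) if and only if, for every finite A-algebra B which is a domain and every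
prime ideal q of B ⊗_A Â whose contraction to B is zero, the local ring of B ⊗_A Â at q is regular.
(The published statement is for semi-local rings; this row takes A local.) -/
theorem result (A : Type u) [CommRing A] [IsNoetherianRing A] [IsLocalRing A] :
    CAlg.IsRegularHom A (EGA4.Cpl A) ↔
      ∀ (B : Type u) [CommRing B] [IsDomain B] [Algebra A B] [Module.Finite A B]
        (q : Ideal (B ⊗[A] EGA4.Cpl A)) [q.IsPrime],
        q.comap (algebraMap B (B ⊗[A] EGA4.Cpl A)) = ⊥ → IsRegularLocalRing (Localization.AtPrime q) := by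
  exact main A

end Groth.Agent.S4703
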