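import Groth.Statements.S4711
import Mathlib.RingTheory.Spectrum.Prime.Topology
import Mathlib.Topology.Spectral.Basic
import Mathlib.AlgebraicGeometry.AffineScheme
-- import your own Groth.Agent.* helpers here

set_option autoImplicit false
universe u
open EGA4

namespace Groth.Agent.S4711

open Topology in
/-- a nonempty compact locally closed piece contains a locally closed point -/
theorem exists_locallyClosed_point_of_piece {Y : Type*} [TopologicalSpace Y] [T0Space Y]
    (U C : Set Y) (hU : IsOpen U) (hUc : IsCompact U) (hC : IsClosed C) (hne : (U ∩ C).Nonempty) :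
    ∃ y ∈ U ∩ C, IsLocallyClosed ({y} : Set Y) := by
  have hL : IsCompact (U ∩ C) := hUc.inter_right hC
  have hcpt : CompactSpace ↥(U ∩ C) := isCompact_iff_compactSpace.mp hL
  have hne' : (Set.univ : Set ↥(U ∩ C)).Nonempty := by
    obtain ⟨y, hy⟩ := hne
    exact ⟨⟨y, hy⟩, trivial⟩
  obtain ⟨y, -, hycl⟩ := isClosed_univ.exists_closed_singleton hne'
  obtain ⟨K, hK, hKy⟩ := isClosed_induced_iff.mp hycl
  refine ⟨y, y.2, U, C ∩ K, hU, hC.inter hK, ?_⟩
  ext w
  constructor
  · intro hw
    rw [Set.mem_singleton_iff] at hw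
    subst hw
    have : y ∈ Subtype.val ⁻¹' K := by rw [hKy]; exact Set.mem_singleton y
    exact ⟨y.2.1, y.2.2, this⟩
  · rintro ⟨hwU, hwC, hwK⟩
    have : (⟨w, hwU, hwC⟩ : ↥(U ∩ C)) ∈ Subtype.val ⁻¹' K := hwK
    rw [hKy, Set.mem_singleton_iff] at this
    rw [Set.mem_singleton_iff, ← this]

open Topology in
theorem exists_locallyClosed_point_spec (R : Type u) [CommRing R] (E : Set (PrimeSpectrum R))
    (hE : IsConstructible E) (hne : E.Nonempty) : ∃ y ∈ E, IsLocallyClosed ({y} : Set _) := by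
  revert hne
  refine IsConstructible.induction_of_isTopologicalBasis
    (P := fun s _ => s.Nonempty → ∃ y ∈ s, IsLocallyClosed ({y} : Set (PrimeSpectrum R)))
    (fun r : R => (PrimeSpectrum.basicOpen r : Set (PrimeSpectrum R)))
    PrimeSpectrum.isTopologicalBasis_basic_opens PrimeSpectrum.isCompact_basicOpen ?_ ?_ E hE
  · intro i s hs hne
    have hC : IsClosed (⋃ j ∈ s, (PrimeSpectrum.basicOpen j : Set (PrimeSpectrum R)))ᶜ := by
      rw [isClosed_compl_iff]
      exact isOpen_biUnion fun j _ => (PrimeSpectrum.basicOpen j).isOpen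
    rw [Set.sdiff_eq] at hne ⊢
    exact exists_locallyClosed_point_of_piece _ _ (PrimeSpectrum.basicOpen i).isOpen
      (PrimeSpectrum.isCompact_basicOpen i) hC hne
  · intro s _ t _ hs ht hne
    rcases hne with ⟨y, hy | hy⟩
    · obtain ⟨z, hz, hz'⟩ := hs ⟨y, hy⟩
      exact ⟨z, Or.inl hz, hz'⟩
    · obtain ⟨z, hz, hz'⟩ := ht ⟨y, hy⟩
      exact ⟨z, Or.inr hz, hz'⟩

open AlgebraicGeometry Topology in
/-- In any scheme X, every nonempty locally constructible subset E contains a point x such that the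
one-point set {x} is locally closed in X (equivalently x is isolated in its closure). -/
theorem result (X : Scheme.{u}) (E : Set X)
    (hE : Topology.IsLocallyConstructible E) (hne : E.Nonempty) :
    ∃ x ∈ E, IsLocallyClosed ({x} : Set X) := by
  obtain ⟨e, he⟩ := hne
  obtain ⟨_, ⟨U, hU, rfl⟩, heU, -⟩ :=
    (X.isBasis_affineOpens).exists_subset_of_mem_open (Set.mem_univ e) isOpen_univ
  let φ : ↥(U : Set X) ≃ₜ PrimeSpectrum Γ(X, U) := Scheme.homeoOfIso hU.isoSpec
  let ι : PrimeSpectrum Γ(X, U) → X := Subtype.val ∘ φ.symm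
  have hι : IsOpenEmbedding ι := U.isOpen.isOpenEmbedding_subtypeVal.comp φ.symm.isOpenEmbedding
  have hE' : IsLocallyConstructible (ι ⁻¹' E) := hE.preimage_of_isOpenEmbedding hι
  have hne' : (ι ⁻¹' E).Nonempty := ⟨φ ⟨e, heU⟩, by simpa [ι] using he⟩
  obtain ⟨y, hyE, hy⟩ := exists_locallyClosed_point_spec _ _ hE'.isConstructible hne'
  refine ⟨ι y, hyE, ?_⟩
  have := hy.image hι.isInducing hι.isOpen_range.isLocallyClosed
  rwa [Set.image_singleton] at this

end Groth.Agent.S4711
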