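import Groth.Statements.S4712
import Mathlib.RingTheory.Ideal.KrullsHeightTheorem
import Mathlib.RingTheory.Ideal.Height
import Mathlib.RingTheory.Spectrum.Prime.Topology
import Mathlib.Topology.Inseparable
import Mathlib.Topology.Sober
-- import your own Groth.Agent.* helpers here

set_option autoImplicit false
universe u
open EGA4

namespace Groth.Agent.S4712

/-- In a Noetherian domain with a chain `0 < Q < Q'` of primes, for every `f ≠ 0` there is a nonzero
prime avoiding `f`. -/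
theorem exists_prime_not_mem_domain (D : Type u) [CommRing D] [IsDomain D] [IsNoetherianRing D]
    (Q Q' : Ideal D) [Q.IsPrime] [Q'.IsPrime] (hQ : Q ≠ ⊥) (hQQ' : Q < Q') (f : D) (hf : f ≠ 0) :
    ∃ P : Ideal D, P.IsPrime ∧ P ≠ ⊥ ∧ f ∉ P := by
  classical
  by_contra hcon
  push Not at hcon
  -- every nonzero prime contains f
  have hall : ∀ P : Ideal D, P.IsPrime → P ≠ ⊥ → f ∈ P := hcon
  have hfin : (Ideal.span {f}).minimalPrimes.Finite :=
    Ideal.finite_minimalPrimes_of_isNoetherianRing D _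
  set S := hfin.toFinset with hS
  have hmemS : ∀ p, p ∈ S ↔ p ∈ (Ideal.span {f}).minimalPrimes := fun p => hfin.mem_toFinset
  have hbot_lt : ∀ p : Ideal D, p ≠ ⊥ → ⊥ < p := fun p hp => bot_lt_iff_ne_bot.mpr hp
  have hheight : ∀ p ∈ S, p.height ≤ 1 := fun p hp =>
    Ideal.height_le_one_of_isPrincipal_of_mem_minimalPrimes _ p ((hmemS p).mp hp)
  have hprimeS : ∀ p ∈ S, p.IsPrime := fun p hp => ((hmemS p).mp hp).isPrime
  have hfS : ∀ p ∈ S, f ∈ p := fun p hp =>
    ((hmemS p).mp hp).1.2 (Ideal.mem_span_singleton_self f)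
  -- two-step chains have height at least 2
  have hchain : ∀ p q : Ideal D, p.IsPrime → q.IsPrime → p ≠ ⊥ → p < q → ¬ q.height ≤ 1 := by
    intro p q hp hq hp0 hpq hq1
    have h1 : (⊥ : Ideal D).height + 1 ≤ p.height :=
      Ideal.height_add_one_le_of_lt_of_isPrime (hbot_lt p hp0)
    have h2 : p.height + 1 ≤ q.height := Ideal.height_add_one_le_of_lt_of_isPrime hpq
    rw [Ideal.height_bot, zero_add] at h1
    have h3 : (1 : ℕ∞) + 1 ≤ 1 := (add_le_add_left h1 1).trans (h2.trans hq1)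
    exact absurd h3 (by decide)
  -- Q' is not contained in the union
  have hnot : ¬ ((Q' : Set D) ⊆ ⋃ p ∈ (S : Set (Ideal D)), (p : Set D)) := by
    intro hsub
    obtain ⟨p, hpS, hle⟩ := (Ideal.subset_union_prime (f := fun p : Ideal D => p) ⊥ ⊥
      (fun p hp _ _ => hprimeS p hp)).mp hsub
    have hpr := hprimeS p hpS
    exact hchain Q p inferInstance hpr hQ (lt_of_lt_of_le hQQ' hle) (hheight p hpS)
  obtain ⟨g, hgQ', hg⟩ := Set.not_subset.mp hnot
  simp only [Set.mem_iUnion, SetLike.mem_coe, not_exists] at hg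
  -- S is nonempty
  have hfQ : f ∈ Q := hall Q inferInstance hQ
  obtain ⟨p₀, hp₀, -⟩ := Ideal.exists_minimalPrimes_le (I := Ideal.span {f}) (J := Q)
    ((Ideal.span_singleton_le_iff_mem _).mpr hfQ)
  have hg0 : g ≠ 0 := by
    rintro rfl
    exact hg p₀ ((hmemS p₀).mpr hp₀) p₀.zero_mem
  -- a minimal prime over g inside Q'
  obtain ⟨q, hq, hqQ'⟩ := Ideal.exists_minimalPrimes_le (I := Ideal.span {g}) (J := Q')
    ((Ideal.span_singleton_le_iff_mem _).mpr hgQ')
  have hqprime : q.IsPrime := hq.isPrime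
  have hgq : g ∈ q := hq.1.2 (Ideal.mem_span_singleton_self g)
  have hq0 : q ≠ ⊥ := fun h => hg0 (by simpa [h] using hgq)
  have hq1 : q.height ≤ 1 := Ideal.height_le_one_of_isPrincipal_of_mem_minimalPrimes _ q hq
  have hfq : f ∈ q := hall q hqprime hq0
  obtain ⟨p, hp, hpq⟩ := Ideal.exists_minimalPrimes_le (I := Ideal.span {f}) (J := q)
    ((Ideal.span_singleton_le_iff_mem _).mpr hfq)
  have hpS : p ∈ S := (hmemS p).mpr hp
  have hp0 : p ≠ ⊥ := fun h => hf (by simpa [h] using hfS p hpS)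
  rcases hpq.lt_or_eq with hlt | heq
  · exact hchain p q (hprimeS p hpS) hqprime hp0 hlt hq1
  · exact hg p hpS (heq ▸ hgq)


/-- the key topological property of Noetherian spectra -/
def PropG (Y : Type*) [TopologicalSpace Y] : Prop :=
  ∀ x y y' : Y, x ⤳ y → y ⤳ y' → x ≠ y → y ≠ y' → ∀ W : Set Y, IsOpen W → x ∈ W →
    ∃ w ∈ W, x ⤳ w ∧ w ≠ x

theorem PropG.of_homeomorph {Y Y' : Type*} [TopologicalSpace Y] [TopologicalSpace Y']
    (e : Y ≃ₜ Y') (h : PropG Y') : PropG Y := by
  intro x y y' hxy hyy' hne hne' W hW hxW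
  obtain ⟨w, hw, hxw, hwx⟩ := h (e x) (e y) (e y') (hxy.map e.continuous) (hyy'.map e.continuous)
    (fun h => hne (e.injective h)) (fun h => hne' (e.injective h)) (e '' W) (e.isOpenMap W hW)
    ⟨x, hxW, rfl⟩
  obtain ⟨w', hw'W, rfl⟩ := hw
  refine ⟨w', hw'W, ?_, fun h => hwx (by rw [h])⟩
  exact (e.isInducing.specializes_iff).mp hxw



theorem exists_prime_not_mem (B : Type u) [CommRing B] [IsNoetherianRing B]
    (P Q Q' : Ideal B) [P.IsPrime] [Q.IsPrime] [Q'.IsPrime] (hPQ : P < Q) (hQQ' : Q < Q') (f : B)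
    (hf : f ∉ P) : ∃ P' : Ideal B, P'.IsPrime ∧ P < P' ∧ f ∉ P' := by
  let π := Ideal.Quotient.mk P
  have hπ : Function.Surjective π := Ideal.Quotient.mk_surjective
  have hker : RingHom.ker π = P := Ideal.mk_ker
  have hQ : (Q.map π).IsPrime := Ideal.map_isPrime_of_surjective hπ (by rw [hker]; exact hPQ.le)
  have hQ' : (Q'.map π).IsPrime :=
    Ideal.map_isPrime_of_surjective hπ (by rw [hker]; exact (hPQ.trans hQQ').le)
  have hcm : ∀ I : Ideal B, P ≤ I → (I.map π).comap π = I := by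
    intro I hI
    rw [Ideal.comap_map_of_surjective π hπ, ← RingHom.ker_eq_comap_bot, hker, sup_eq_left.mpr hI]
  have hQne : Q.map π ≠ ⊥ := by
    intro h
    have := hcm Q hPQ.le
    rw [h, ← RingHom.ker_eq_comap_bot, hker] at this
    exact hPQ.ne this
  have hlt : Q.map π < Q'.map π := by
    refine lt_of_le_of_ne (Ideal.map_mono hQQ'.le) ?_
    intro h
    have h1 := hcm Q hPQ.le
    have h2 := hcm Q' (hPQ.trans hQQ').le
    rw [h, h2] at h1
    exact hQQ'.ne h1.symm
  have hfne : π f ≠ 0 := by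
    intro h
    exact hf (Ideal.Quotient.eq_zero_iff_mem.mp h)
  obtain ⟨Pb, hPb, hPbne, hfPb⟩ := exists_prime_not_mem_domain (B ⧸ P) (Q.map π) (Q'.map π) hQne hlt
    (π f) hfne
  refine ⟨Pb.comap π, Ideal.comap_isPrime π Pb, ?_, fun h => hfPb h⟩
  have hbot : (⊥ : Ideal (B ⧸ P)).comap π = P := by
    rw [← RingHom.ker_eq_comap_bot, hker]
  have hle : P ≤ Pb.comap π := by
    calc P = (⊥ : Ideal (B ⧸ P)).comap π := hbot.symm
      _ ≤ Pb.comap π := Ideal.comap_mono bot_le
  refine lt_of_le_of_ne hle ?_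
  intro h
  apply hPbne
  have : Pb.comap π = (⊥ : Ideal (B ⧸ P)).comap π := by
    rw [← h, hbot]
  exact Ideal.comap_injective_of_surjective π hπ this

theorem propG_primeSpectrum (B : Type u) [CommRing B] [IsNoetherianRing B] :
    PropG (PrimeSpectrum B) := by
  intro x y y' hxy hyy' hne hne' W hW hxW
  rw [← PrimeSpectrum.le_iff_specializes] at hxy hyy'
  obtain ⟨_, ⟨f, rfl⟩, hxf, hfW⟩ :=
    PrimeSpectrum.isTopologicalBasis_basic_opens.exists_subset_of_mem_open hxW hW
  have hf : f ∉ x.asIdeal := (PrimeSpectrum.mem_basicOpen f x).mp hxf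
  have h1 : x.asIdeal < y.asIdeal := lt_of_le_of_ne hxy (fun h => hne (PrimeSpectrum.ext h))
  have h2 : y.asIdeal < y'.asIdeal := lt_of_le_of_ne hyy' (fun h => hne' (PrimeSpectrum.ext h))
  obtain ⟨P', hP', hlt, hfP'⟩ := exists_prime_not_mem B x.asIdeal y.asIdeal y'.asIdeal h1 h2 f hf
  refine ⟨⟨P', hP'⟩, hfW ((PrimeSpectrum.mem_basicOpen f _).mpr hfP'), ?_, ?_⟩
  · rw [← PrimeSpectrum.le_iff_specializes]
    exact hlt.le
  · intro h
    have : P' = x.asIdeal := congrArg PrimeSpectrum.asIdeal h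
    exact hlt.ne this.symm


theorem lemmaH {X : Type*} [TopologicalSpace X] [T0Space X]
    (hloc : ∀ y' : X, ∃ V : Set X, IsOpen V ∧ y' ∈ V ∧ PropG ↥V)
    (x' : X) (U : Set X) (hU : IsOpen U) (hx'U : x' ∈ U) (hcl : closure {x'} ∩ U ⊆ {x'})
    (y : X) (hy : y ∈ closure ({x'} : Set X)) (hne : y ≠ x') : IsClosed ({y} : Set X) := by
  rw [← closure_subset_iff_isClosed]
  intro y' hy'
  rw [Set.mem_singleton_iff]
  by_contra hyy'
  have hxy : x' ⤳ y := specializes_iff_mem_closure.mpr hy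
  have hyy : y ⤳ y' := specializes_iff_mem_closure.mpr hy'
  obtain ⟨V, hV, hy'V, hG⟩ := hloc y'
  have hyV : y ∈ V := hyy.mem_open hV hy'V
  have hx'V : x' ∈ V := hxy.mem_open hV hyV
  obtain ⟨w, hwW, hxw, hwx⟩ := hG ⟨x', hx'V⟩ ⟨y, hyV⟩ ⟨y', hy'V⟩
    ((subtype_specializes_iff _ _).mpr hxy) ((subtype_specializes_iff _ _).mpr hyy)
    (fun h => hne (congrArg Subtype.val h).symm) (fun h => hyy' (congrArg Subtype.val h).symm)
    (Subtype.val ⁻¹' U) (hU.preimage continuous_subtype_val) hx'U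
  have h1 : (w : X) ∈ closure ({x'} : Set X) :=
    specializes_iff_mem_closure.mp ((subtype_specializes_iff _ _).mp hxw)
  have h2 : (w : X) = x' := hcl ⟨h1, hwW⟩
  exact hwx (Subtype.ext h2)



theorem propG_primeSpectrum' (B : Type u) [CommRing B] [IsNoetherianRing B] :
    PropG (PrimeSpectrum B) := propG_primeSpectrum B

open AlgebraicGeometry in
theorem exists_open_propG (X : Scheme.{u}) [IsLocallyNoetherian X] (y : X) :
    ∃ V : Set X, IsOpen V ∧ y ∈ V ∧ PropG ↥V := by
  obtain ⟨_, ⟨V, hV, rfl⟩, hyV, -⟩ :=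
    (X.isBasis_affineOpens).exists_subset_of_mem_open (Set.mem_univ y) isOpen_univ
  have hN : IsNoetherianRing Γ(X, V) := IsLocallyNoetherian.component_noetherian ⟨V, hV⟩
  refine ⟨V, V.isOpen, hyV, ?_⟩
  exact PropG.of_homeomorph (Scheme.homeoOfIso hV.isoSpec) (propG_primeSpectrum Γ(X, V))

attribute [local instance] specializationOrder in
theorem dim_le_one_aux {T : Type*} [TopologicalSpace T] [QuasiSober T] [T0Space T] (x : T)
    (hgen : ∀ a : T, x ⤳ a) (hcl : ∀ a : T, a ≠ x → IsClosed ({a} : Set T)) :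
    topologicalKrullDim T ≤ 1 := by
  have h1 : topologicalKrullDim T = Order.krullDim T :=
    Order.krullDim_eq_of_orderIso (irreducibleSetEquivPoints (α := T))
  rw [h1, Order.krullDim_le_one_iff]
  intro a
  by_cases ha : a = x
  · right
    intro b _
    rw [ha]
    exact hgen b
  · left
    intro b hb
    have hab : a ⤳ b := hb
    have : b ∈ closure ({a} : Set T) := specializes_iff_mem_closure.mp hab
    rw [(hcl a ha).closure_eq, Set.mem_singleton_iff] at this
    rw [this]


open AlgebraicGeometry in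
/-- Let X be a locally Noetherian scheme and x a point such that {x} is locally closed in X. Then the
closure of {x} has dimension at most 1, and every point of that closure other than x is a closed
point of X. -/
theorem result (X : Scheme.{u}) [IsLocallyNoetherian X] (x : X)
    (hx : IsLocallyClosed ({x} : Set X)) :
    topologicalKrullDim (closure ({x} : Set X)) ≤ 1 ∧
      ∀ y ∈ closure ({x} : Set X), y ≠ x → IsClosed ({y} : Set X) := by
  obtain ⟨U, C, hU, hC, hUC⟩ := hx
  have hxU : x ∈ U := (hUC ▸ Set.mem_singleton x : x ∈ U ∩ C).1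
  have hxC : x ∈ C := (hUC ▸ Set.mem_singleton x : x ∈ U ∩ C).2
  have hcl : closure {x} ∩ U ⊆ {x} := by
    rintro w ⟨hw1, hw2⟩
    have : w ∈ C := (hC.closure_subset_iff.mpr (Set.singleton_subset_iff.mpr hxC)) hw1
    rw [hUC]; exact ⟨hw2, this⟩
  have hsecond : ∀ y ∈ closure ({x} : Set X), y ≠ x → IsClosed ({y} : Set X) :=
    fun y hy hne => lemmaH (exists_open_propG X) x U hU hxU hcl y hy hne
  refine ⟨?_, hsecond⟩
  have hQS : QuasiSober ↥(closure ({x} : Set X)) :=
    (isClosed_closure.isClosedEmbedding_subtypeVal).quasiSober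
  refine dim_le_one_aux (T := ↥(closure ({x} : Set X))) ⟨x, subset_closure (Set.mem_singleton x)⟩ ?_ ?_
  · intro a
    rw [subtype_specializes_iff]
    exact specializes_iff_mem_closure.mpr a.2
  · intro a ha
    have h1 : IsClosed ({(a : X)} : Set X) := hsecond a a.2 (fun h => ha (Subtype.ext h))
    have : ({a} : Set ↥(closure ({x} : Set X))) = Subtype.val ⁻¹' {(a : X)} := by
      ext b
      simp [Subtype.ext_iff]
    rw [this]
    exact h1.preimage continuous_subtype_val

end Groth.Agent.S4712
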