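import Groth.Statements.S4713
import Groth.Agent.S4712
-- import your own Groth.Agent.* helpers here

set_option autoImplicit false
universe u
open EGA4

namespace Groth.Agent.S4713

open AlgebraicGeometry in
/-- In a locally Noetherian scheme X, every nonempty closed subset contains a closed point of X. -/
theorem result (X : Scheme.{u}) [IsLocallyNoetherian X]
    (Z : Set X) (hZ : IsClosed Z) (hne : Z.Nonempty) : ∃ x ∈ Z, IsClosed ({x} : Set X) := by
  obtain ⟨z, hz⟩ := hne
  obtain ⟨_, ⟨U, hU, rfl⟩, hzU, -⟩ :=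
    (X.isBasis_affineOpens).exists_subset_of_mem_open (Set.mem_univ z) isOpen_univ
  have hcpt : CompactSpace ↥(U : Set X) := isCompact_iff_compactSpace.mp hU.isCompact
  have hSne : (Subtype.val ⁻¹' Z : Set ↥(U : Set X)).Nonempty := ⟨⟨z, hzU⟩, hz⟩
  obtain ⟨x'', hx''Z, hx''cl⟩ :=
    (hZ.preimage (continuous_subtype_val (p := fun a => a ∈ (U : Set X)))).exists_closed_singleton hSne
  have hcl : closure {(x'' : X)} ∩ (U : Set X) ⊆ {(x'' : X)} := by
    rintro w ⟨hw1, hw2⟩
    have h1 : (⟨w, hw2⟩ : ↥(U : Set X)) ∈ closure ({x''} : Set ↥(U : Set X)) := by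
      rw [Topology.IsInducing.subtypeVal.closure_eq_preimage_closure_image, Set.image_singleton]
      exact hw1
    rw [hx''cl.closure_eq, Set.mem_singleton_iff] at h1
    rw [Set.mem_singleton_iff, ← h1]
  by_cases hclosed : IsClosed ({(x'' : X)} : Set X)
  · exact ⟨x'', hx''Z, hclosed⟩
  · have hnot : ¬ closure ({(x'' : X)} : Set X) ⊆ {(x'' : X)} := by
      rwa [closure_subset_iff_isClosed]
    obtain ⟨y, hy, hyne⟩ := Set.not_subset.mp hnot
    refine ⟨y, ?_, ?_⟩
    · exact (hZ.closure_subset_iff.mpr (Set.singleton_subset_iff.mpr hx''Z)) hy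
    · exact Groth.Agent.S4712.lemmaH (Groth.Agent.S4712.exists_open_propG X) x'' U U.isOpen x''.2 hcl y hy
        (by simpa using hyne)

end Groth.Agent.S4713
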