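-- Statement S4714.
import Groth.Statements.S4714
import Groth.Agent.Lib.H30LocDimTop
import Mathlib

set_option autoImplicit false
universe u
open EGA4

namespace Groth.Agent.S4714

open AlgebraicGeometry CategoryTheory
open Groth.Agent.Lib.H30LocDimTop Groth.Agent.Lib.H30DimField

/-- Hauptidealsatz: no prime strictly between `P` and a minimal prime over `P + (a)` -/
theorem no_prime_between {R : Type u} [CommRing R] [IsNoetherianRing R] (P Q : Ideal R)
    [hP : P.IsPrime] (a : R)
    (hQ : Q ∈ (P ⊔ Ideal.span {a}).minimalPrimes) (Z : Ideal R) [hZ : Z.IsPrime]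
    (h1 : P ≤ Z) (h2 : Z ≤ Q) : Z = P ∨ Z = Q := by
  by_contra hcon
  push Not at hcon
  obtain ⟨hZP, hZQ⟩ := hcon
  have hQp : Q.IsPrime := hQ.1.1
  have hht := Ideal.map_height_le_one_of_mem_minimalPrimes hQ
  set π := Ideal.Quotient.mk P with hπ
  have hsurj : Function.Surjective π := Ideal.Quotient.mk_surjective
  have hker : RingHom.ker π = P := Ideal.mk_ker
  have hcm : ∀ J : Ideal R, P ≤ J → (J.map π).comap π = J := by
    intro J hJ
    rw [Ideal.comap_map_of_surjective π hsurj, ← RingHom.ker_eq_comap_bot, hker]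
    exact sup_eq_left.mpr hJ
  haveI hZm : (Z.map π).IsPrime := Ideal.map_isPrime_of_surjective hsurj (by rw [hker]; exact h1)
  haveI hQm : (Q.map π).IsPrime :=
    Ideal.map_isPrime_of_surjective hsurj (by rw [hker]; exact h1.trans h2)
  haveI hbot : (⊥ : Ideal (R ⧸ P)).IsPrime := Ideal.isPrime_bot
  have hlt1 : (⊥ : Ideal (R ⧸ P)) < Z.map π := by
    refine lt_of_le_of_ne bot_le fun h => hZP ?_
    rw [← hcm Z h1, ← h, ← RingHom.ker_eq_comap_bot, hker]
  have hlt2 : Z.map π < Q.map π := by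
    refine lt_of_le_of_ne (Ideal.map_mono h2) fun h => hZQ ?_
    rw [← hcm Z h1, h, hcm Q (h1.trans h2)]
  have h3 := Ideal.height_strict_mono_of_isPrime_of_isPrime hlt1
  have h4 := Ideal.height_strict_mono_of_isPrime_of_isPrime hlt2
  have h5 : (1 : ℕ∞) ≤ (Z.map π).height := Order.one_le_iff_pos.mpr (lt_of_le_of_lt bot_le h3)
  have h6 : (Z.map π).height < 1 := lt_of_lt_of_le h4 hht
  exact absurd h5 (not_le.mpr h6)

set_option backward.isDefEq.respectTransparency.types false in
theorem mem_zeroLocus_fromSpecStalk (X : Scheme.{u}) (f : Γ(X, ⊤)) (y : X)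
    (Q : PrimeSpectrum (X.presheaf.stalk y)) :
    X.fromSpecStalk y Q ∈ X.zeroLocus (U := ⊤) {f} ↔
      X.presheaf.germ ⊤ y trivial f ∈ Q.asIdeal := by
  rw [Scheme.mem_zeroLocus_iff]
  simp only [Set.mem_singleton_iff, forall_eq]
  have h1 : (X.fromSpecStalk y Q ∈ X.basicOpen f) ↔
      Q ∈ (X.fromSpecStalk y) ⁻¹ᵁ (X.basicOpen f) := Iff.rfl
  rw [h1, Scheme.preimage_basicOpen_top, Scheme.fromSpecStalk_appTop]
  simp only [CommRingCat.comp_apply]
  rw [Scheme.basicOpen_res, basicOpen_eq_of_affine]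
  show ¬ (Q ∈ (⊤ : Set _) ∧ Q ∈ PrimeSpectrum.basicOpen _) ↔ _
  rw [PrimeSpectrum.mem_basicOpen]
  simp


theorem exists_immediate (X : Scheme.{u}) [IsLocallyNoetherian X] (f : Γ(X, ⊤)) (ξ y : X)
    (h : ξ ⤳ y) (hy : y ∈ X.zeroLocus (U := ⊤) {f}) (hξ : ξ ∉ X.zeroLocus (U := ⊤) {f}) :
    ∃ y' : X, y' ∈ X.zeroLocus (U := ⊤) {f} ∧ PtTop.IsImmediateSpecialization ξ y' := by
  let R := X.presheaf.stalk y
  let F : PrimeSpectrum R → X := fun p => X.fromSpecStalk y p
  have hF : Topology.IsEmbedding F := (X.fromSpecStalk y).isEmbedding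
  have hrange : Set.range F = {z | z ⤳ y} := X.range_fromSpecStalk
  have hFtop : F (IsLocalRing.closedPoint R) = y := X.fromSpecStalk_closedPoint
  have hkey : ∀ Q : PrimeSpectrum R, F Q ∈ X.zeroLocus (U := ⊤) {f} ↔
      X.presheaf.germ ⊤ y trivial f ∈ Q.asIdeal := mem_zeroLocus_fromSpecStalk X f y
  set a : R := X.presheaf.germ ⊤ y trivial f with ha
  obtain ⟨P, hP⟩ : ξ ∈ Set.range F := by rw [hrange]; exact h
  have haP : a ∉ P.asIdeal := by
    rw [← hkey P, hP]; exact hξ
  have hamax : a ∈ IsLocalRing.maximalIdeal R := by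
    have := (hkey (IsLocalRing.closedPoint R)).mp (by rw [hFtop]; exact hy)
    exact this
  have hle : P.asIdeal ⊔ Ideal.span {a} ≤ IsLocalRing.maximalIdeal R :=
    sup_le (IsLocalRing.le_maximalIdeal P.2.ne_top)
      ((Ideal.span_singleton_le_iff_mem _).mpr hamax)
  have hne : P.asIdeal ⊔ Ideal.span {a} ≠ ⊤ := fun h =>
    (IsLocalRing.maximalIdeal.isMaximal R).ne_top (top_le_iff.mp (h ▸ hle))
  obtain ⟨Q, hQ⟩ := Ideal.nonempty_minimalPrimes hne
  haveI hQp : Q.IsPrime := hQ.1.1
  have hPQ : P.asIdeal ≤ Q := le_sup_left.trans hQ.1.2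
  have haQ : a ∈ Q := hQ.1.2 (le_sup_right (a := P.asIdeal) (Ideal.mem_span_singleton_self a))
  let Q' : PrimeSpectrum R := ⟨Q, hQp⟩
  refine ⟨F Q', (hkey Q').mpr haQ, ?_, ?_, ?_⟩
  · rw [← hP]
    exact ((PrimeSpectrum.le_iff_specializes P Q').mp hPQ).map hF.continuous
  · rw [← hP]
    intro he
    have := hF.injective he
    exact haP (this ▸ haQ)
  · intro z hz1 hz2
    have hzy : z ⤳ y := by
      have hq : F Q' ∈ Set.range F := ⟨Q', rfl⟩
      rw [hrange] at hq
      exact hz2.trans hq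
    obtain ⟨r, rfl⟩ : z ∈ Set.range F := by rw [hrange]; exact hzy
    rw [← hP] at hz1 ⊢
    have h1 : P ≤ r := (PrimeSpectrum.le_iff_specializes P r).mpr
      (hF.isInducing.specializes_iff.mp hz1)
    have h2 : r ≤ Q' := (PrimeSpectrum.le_iff_specializes r Q').mpr
      (hF.isInducing.specializes_iff.mp hz2)
    haveI := P.2
    haveI := r.2
    rcases no_prime_between P.asIdeal Q a hQ r.asIdeal h1 h2 with he | he
    · exact Or.inl (congrArg F (PrimeSpectrum.ext he))
    · exact Or.inr (congrArg F (PrimeSpectrum.ext he))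


theorem add_one_le_of_forall (a b : WithBot ℕ∞)
    (h : ∀ m : ℕ, (m : WithBot ℕ∞) ≤ a → ((m + 1 : ℕ) : WithBot ℕ∞) ≤ b) : a + 1 ≤ b := by
  induction a with
  | bot => simp
  | coe a =>
    induction a with
    | top =>
      have hb : b = ⊤ := by
        induction b with
        | bot =>
          have := h 0 (by exact_mod_cast le_top)
          simp at this
        | coe b =>
          have hb' : b = ⊤ := by
            rw [ENat.eq_top_iff_forall_ge]
            intro m
            have := h m (by exact_mod_cast le_top)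
            have h2 : ((m + 1 : ℕ) : ℕ∞) ≤ b := by exact_mod_cast this
            exact le_trans (by exact_mod_cast Nat.le_succ m) h2
          rw [hb']; rfl
      rw [hb]; exact le_top
    | coe n =>
      have := h n le_rfl
      exact_mod_cast this

open TopologicalSpace in
theorem exists_generization {X : Type u} [TopologicalSpace X] [QuasiSober X] (Y : Set X)
    (hYc : IsClosed Y) (hY : interior Y = ∅) (O : Set X) (hO : IsOpen O) [NoetherianSpace ↥O]
    (y : X) (hyO : y ∈ O) (hyY : y ∈ Y) : ∃ ξ : X, ξ ⤳ y ∧ ξ ≠ y := by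
  by_contra hcon
  push Not at hcon
  haveI : QuasiSober ↥O := hO.isOpenEmbedding_subtypeVal.quasiSober
  have hcomp : closure {(⟨y, hyO⟩ : ↥O)} ∈ irreducibleComponents ↥O := by
    apply Groth.Agent.Lib.GenericDense68.closure_singleton_mem_irreducibleComponents
    intro z hz
    have h1 : z.1 ⤳ y := Topology.IsInducing.subtypeVal.specializes_iff.mpr hz
    have h2 : z = ⟨y, hyO⟩ := Subtype.ext (hcon z.1 h1)
    rw [h2]
  obtain ⟨o, ho, hne, hsub⟩ :=
    NoetherianSpace.exists_isOpen_nonempty_subset_irreducibleComponent _ hcomp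
  have hV : IsOpen (Subtype.val '' o : Set X) := hO.isOpenMap_subtype_val o ho
  have hVY : (Subtype.val '' o : Set X) ⊆ Y := by
    rintro _ ⟨z, hz, rfl⟩
    have h1 : (⟨y, hyO⟩ : ↥O) ⤳ z := specializes_iff_mem_closure.mpr (hsub hz)
    have h2 : y ⤳ z.1 := Topology.IsInducing.subtypeVal.specializes_iff.mpr h1
    exact h2.mem_closed hYc hyY
  have h3 : (Subtype.val '' o : Set X) ⊆ interior Y := interior_maximal hVY hV
  rw [hY] at h3
  obtain ⟨z, hz⟩ := hne
  exact h3 ⟨z, hz, rfl⟩

section Top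

variable {X : Type u} [TopologicalSpace X] (δ : X → ℤ) [QuasiSober X] [T0Space X] [JacobsonSpace X]
  (hδ : PtTop.IsDimensionFunction δ) (h0 : ∀ c : X, IsClosed ({c} : Set X) → δ c = 0)

include hδ h0 in
theorem dim_le_of_forall (W : Set X) (hW : IsClosed W) (N : ℕ) (hN : ∀ w ∈ W, δ w ≤ N) :
    topologicalKrullDim ↥W ≤ (N : WithBot ℕ∞) := by
  haveI : QuasiSober ↥W := hW.isClosedEmbedding_subtypeVal.quasiSober
  have hδW := restrict_convex δ hδ W (fun v hv _ _ z hvz _ => hvz.mem_closed hW hv)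
  exact krullDim_le (fun z : ↥W => δ z.1) hδW (fun z => delta_nonneg δ hδ h0 z.1) N
    (fun z => hN z.1 z.2)

include hδ h0 in
theorem le_dim_of_mem (W : Set X) (hW : IsClosed W) (w : X) (hw : w ∈ W) :
    (((δ w).toNat : ℕ) : WithBot ℕ∞) ≤ topologicalKrullDim ↥W := by
  rw [← krullDim_closure δ hδ h0 w]
  exact dim_mono ((IsClosed.closure_subset_iff hW).mpr (Set.singleton_subset_iff.mpr hw))

include hδ h0 in
theorem exists_mem_le (W : Set X) (hW : IsClosed W) (m : ℕ)
    (hm : (m : WithBot ℕ∞) ≤ topologicalKrullDim ↥W) : ∃ w ∈ W, (m : ℤ) ≤ δ w := by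
  rcases Nat.eq_zero_or_pos m with rfl | hpos
  · have h1 : Nonempty (TopologicalSpace.IrreducibleCloseds ↥W) := by
      rw [← Order.krullDim_nonneg_iff]
      exact hm
    obtain ⟨T⟩ := h1
    obtain ⟨w, -⟩ := T.2.nonempty
    exact ⟨w.1, w.2, by simpa using delta_nonneg δ hδ h0 w.1⟩
  · by_contra hcon
    push Not at hcon
    have h1 := dim_le_of_forall δ hδ h0 W hW (m - 1) (fun w hw => by
      have := hcon w hw
      have h2 : ((m - 1 : ℕ) : ℤ) = (m : ℤ) - 1 := by
        rw [Nat.cast_sub hpos]; simp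
      rw [h2]; omega)
    have h2 := le_trans hm h1
    have h3 : m ≤ m - 1 := by exact_mod_cast h2
    omega

end Top

theorem main (k : Type u) [Field k] (X : Scheme.{u}) (p : X ⟶ Spec (CommRingCat.of k))
    [LocallyOfFiniteType p] (f : Γ(X, ⊤)) (hY : interior (X.zeroLocus (U := ⊤) {f}) = ∅) :
    topologicalKrullDim (X.zeroLocus (U := ⊤) {f}) + 1 ≤ topologicalKrullDim X ∧
      ((∃ Z ∈ irreducibleComponents (X : Type u), topologicalKrullDim Z = topologicalKrullDim X) →
        (∀ Z ∈ irreducibleComponents (X : Type u), topologicalKrullDim Z = topologicalKrullDim X →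
          (Z ∩ X.zeroLocus (U := ⊤) {f}).Nonempty) →
        topologicalKrullDim (X.zeroLocus (U := ⊤) {f}) + 1 = topologicalKrullDim X) := by
  letI : X.Over (Spec (CommRingCat.of k)) := ⟨p⟩
  haveI : LocallyOfFiniteType (X ↘ Spec (CommRingCat.of k)) := ‹LocallyOfFiniteType p›
  have hYc : IsClosed (X.zeroLocus (U := ⊤) {f}) := X.zeroLocus_isClosed _
  have hδ := isDimensionFunction_of_isDimFun (isDimFun k X)
  have h0 := td_eq_zero_of_isClosed k X
  haveI := jacobsonSpace k X
  haveI := isLocallyNoetherian k X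
  have hgen : ∀ y ∈ X.zeroLocus (U := ⊤) {f}, ∃ ξ : X, ξ ⤳ y ∧ ξ ≠ y := by
    intro y hy
    obtain ⟨O, hO, hyO⟩ : ∃ O : X.Opens, IsAffineOpen O ∧ y ∈ O := by
      obtain ⟨_, ⟨V, hV, rfl⟩, hyV, -⟩ :=
        (X.isBasis_affineOpens).exists_subset_of_mem_open (Set.mem_univ y) isOpen_univ
      exact ⟨V, hV, hyV⟩
    have hNR : IsNoetherianRing Γ(X, O) := IsLocallyNoetherian.component_noetherian ⟨O, hO⟩
    haveI hN : TopologicalSpace.NoetherianSpace ↥(O : Set X) := noetherianSpace_of_isAffineOpen O hO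
    exact exists_generization _ hYc hY (O : Set X) O.isOpen y hyO hy
  have hdimX : ∀ ξ : X, (((td k X ξ).toNat : ℕ) : WithBot ℕ∞) ≤ topologicalKrullDim X := by
    intro ξ
    rw [← krullDim_closure (td k X) hδ h0 ξ]
    exact Topology.IsInducing.topologicalKrullDim_le (f := Subtype.val)
      Topology.IsInducing.subtypeVal
  have part1 : topologicalKrullDim (X.zeroLocus (U := ⊤) {f}) + 1 ≤ topologicalKrullDim X := by
    apply add_one_le_of_forall
    intro m hm
    obtain ⟨y, hyY, hmy⟩ := exists_mem_le (td k X) hδ h0 _ hYc m hm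
    obtain ⟨ξ, hξy, hne⟩ := hgen y hyY
    have h1 := hδ.1 ξ y hξy hne
    refine le_trans ?_ (hdimX ξ)
    have h2 : m + 1 ≤ (td k X ξ).toNat := by omega
    exact_mod_cast h2
  refine ⟨part1, ?_⟩
  rintro ⟨Z, hZ, hZdim⟩ hall
  apply le_antisymm part1
  obtain ⟨ξ, hξ⟩ : ∃ ξ, IsGenericPoint ξ Z :=
    QuasiSober.sober hZ.1 (isClosed_of_mem_irreducibleComponents Z hZ)
  have hZeq : closure {ξ} = Z := hξ.def
  have hdimZ : topologicalKrullDim Z = (((td k X ξ).toNat : ℕ) : WithBot ℕ∞) := by
    rw [← hZeq]; exact krullDim_closure (td k X) hδ h0 ξ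
  obtain ⟨y, hyZ, hyY⟩ := hall Z hZ hZdim
  have hξy : ξ ⤳ y := by rw [specializes_iff_mem_closure, hZeq]; exact hyZ
  have hξY : ξ ∉ X.zeroLocus (U := ⊤) {f} := by
    intro hξY
    obtain ⟨η, hη, hne⟩ := hgen ξ hξY
    exact hne ((closure_mem_irreducibleComponents_iff ξ).mp (hZeq ▸ hZ) η hη)
  obtain ⟨y', hy'Y, himm⟩ := exists_immediate X f ξ y hξy hyY hξY
  have h1 := hδ.2 ξ y' himm
  have h2 := le_dim_of_mem (td k X) hδ h0 _ hYc y' hy'Y
  have h3 := td_nonneg k X y'
  rw [← hZdim, hdimZ]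
  have h4 : (td k X ξ).toNat = (td k X y').toNat + 1 := by omega
  rw [h4]
  push_cast
  exact add_le_add_left h2 1

open AlgebraicGeometry CategoryTheory in
/-- For a section of the structure sheaf: let X be a scheme locally of finite type over a field k and f
a global section of O_X whose zero locus Y is nowhere dense in X. Then dim Y + 1 ≤ dim X. If
moreover some irreducible component of X has dimension equal to dim X and Y meets every such
component, then dim Y + 1 = dim X. (The published statement is for a section of an invertible sheaf;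
the existence of a component of maximal dimension, implicit in the published wording, is made a
hypothesis of the equality clause.) -/
theorem result (k : Type u) [Field k] (X : Scheme.{u}) (p : X ⟶ Spec (CommRingCat.of k))
    [LocallyOfFiniteType p] (f : Γ(X, ⊤)) (hY : interior (X.zeroLocus (U := ⊤) {f}) = ∅) :
    topologicalKrullDim (X.zeroLocus (U := ⊤) {f}) + 1 ≤ topologicalKrullDim X ∧
      ((∃ Z ∈ irreducibleComponents (X : Type u), topologicalKrullDim Z = topologicalKrullDim X) →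
        (∀ Z ∈ irreducibleComponents (X : Type u), topologicalKrullDim Z = topologicalKrullDim X →
          (Z ∩ X.zeroLocus (U := ⊤) {f}).Nonempty) →
        topologicalKrullDim (X.zeroLocus (U := ⊤) {f}) + 1 = topologicalKrullDim X) := by
  exact main k X p f hY

end Groth.Agent.S4714
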