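import Groth.Statements.S4715
import Groth.Agent.Lib.DimLift
-- import your own Groth.Agent.* helpers here

set_option autoImplicit false
universe u
open EGA4

namespace Groth.Agent.S4715

open AlgebraicGeometry CategoryTheory in
/-- no nontrivial specializations inside the fibres of a locally quasi-finite morphism -/
theorem eq_of_specializes_of_fibre {X Y : Scheme.{u}} (f : X ⟶ Y) [LocallyQuasiFinite f]
    (a a' : X) (h : a ⤳ a') (hf : f.base a = f.base a') : a = a' := by
  have hd : _root_.IsDiscrete (f ⁻¹' {f.base a'}) := f.isDiscrete_preimage_singleton (f.base a')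
  have hdt : DiscreteTopology ↥(f ⁻¹' {f.base a'}) := isDiscrete_iff_discreteTopology.mp hd
  have ha : a ∈ f ⁻¹' {f.base a'} := hf
  have ha' : a' ∈ f ⁻¹' {f.base a'} := rfl
  have h2 : (⟨a, ha⟩ : ↥(f ⁻¹' {f.base a'})) ⤳ ⟨a', ha'⟩ := (subtype_specializes_iff _ _).mpr h
  have := specializes_iff_eq.mp h2
  exact congrArg Subtype.val this

open AlgebraicGeometry CategoryTheory in
/-- Let f : X → Y be a quasi-finite morphism (of finite type with discrete fibres) of locally Noetherian
schemes. Then dim X is at most the dimension of the closure of f(X), which is at most dim Y. -/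
theorem result {X Y : Scheme.{u}} (f : X ⟶ Y) [IsLocallyNoetherian X] [IsLocallyNoetherian Y]
    [LocallyQuasiFinite f] [LocallyOfFiniteType f] [QuasiCompact f] :
    topologicalKrullDim X ≤ topologicalKrullDim (closure (Set.range f.base)) ∧
      topologicalKrullDim (closure (Set.range f.base)) ≤ topologicalKrullDim Y := by
  refine ⟨?_, topologicalKrullDim_subspace_le Y _⟩
  have hQS : QuasiSober ↥(closure (Set.range f.base)) :=
    (isClosed_closure.isClosedEmbedding_subtypeVal).quasiSober
  let φ : X → ↥(closure (Set.range f.base)) := fun x => ⟨f.base x, subset_closure ⟨x, rfl⟩⟩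
  have hφ : Continuous φ := f.continuous.subtype_mk _
  refine Groth.Agent.Lib.DimLift.topDim_le_of_fibres φ hφ ?_
  intro a a' h heq
  exact eq_of_specializes_of_fibre f a a' h (congrArg Subtype.val heq)

end Groth.Agent.S4715
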