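import Groth.Statements.S4716
import Groth.Agent.Lib.DimLift
import Mathlib.Topology.NoetherianSpace
-- import your own Groth.Agent.* helpers here

set_option autoImplicit false
universe u
open EGA4

namespace Groth.Agent.S4716

open Topology TopologicalSpace in
theorem generalizingMap_of_isOpenMap {X Y : Type*} [TopologicalSpace X] [TopologicalSpace Y]
    [QuasiSober X] [T0Space Y] (f : X → Y) (hc : Continuous f) (ho : IsOpenMap f)
    (hN : ∀ x : X, ∃ U : Set X, IsOpen U ∧ x ∈ U ∧ NoetherianSpace ↥U) : GeneralizingMap f := by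
  intro x' y hy
  -- hy : y ⤳ f x'
  obtain ⟨U, hU, hx'U, hUN⟩ := hN x'
  let F : Set X := f ⁻¹' closure {y}
  have hF : IsClosed F := isClosed_closure.preimage hc
  have hx'F : x' ∈ F := specializes_iff_mem_closure.mp hy
  have hTN : NoetherianSpace ↥(U ∩ F) := NoetherianSpace.inter_of_left U F
  let t' : ↥(U ∩ F) := ⟨x', hx'U, hx'F⟩
  let C : Set ↥(U ∩ F) := irreducibleComponent t'
  have hC : C ∈ irreducibleComponents ↥(U ∩ F) := irreducibleComponent_mem_irreducibleComponents t'
  obtain ⟨o, ho_open, ⟨c₀, hc₀⟩, hoC⟩ :=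
    NoetherianSpace.exists_isOpen_nonempty_subset_irreducibleComponent C hC
  obtain ⟨W, hW, hWo⟩ := isOpen_induced_iff.mp ho_open
  -- the image of `o` in `X` is `W ∩ U ∩ F`
  have hfW : IsOpen (f '' (W ∩ U)) := ho _ (hW.inter hU)
  have hc₀W : (c₀ : X) ∈ W ∩ U := ⟨by rw [← hWo] at hc₀; exact hc₀, c₀.2.1⟩
  have hyW : y ∈ f '' (W ∩ U) := by
    have h1 : f c₀ ∈ closure ({y} : Set Y) := c₀.2.2
    have h2 : f c₀ ∈ f '' (W ∩ U) := ⟨c₀, hc₀W, rfl⟩
    obtain ⟨z, hz1, hz2⟩ := mem_closure_iff.mp h1 _ hfW h2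
    rw [Set.mem_singleton_iff] at hz2
    rwa [← hz2]
  obtain ⟨c, ⟨hcW, hcU⟩, hfc⟩ := hyW
  have hcF : c ∈ F := by
    change f c ∈ closure {y}
    rw [hfc]; exact subset_closure rfl
  have hcC : (⟨c, hcU, hcF⟩ : ↥(U ∩ F)) ∈ C := by
    apply hoC
    rw [← hWo]
    exact hcW
  -- the generic point
  have hirr : IsIrreducible (closure (Subtype.val '' C : Set X)) :=
    (isIrreducible_irreducibleComponent.image Subtype.val
      continuous_subtype_val.continuousOn).closure
  obtain ⟨ξ, hξ⟩ := QuasiSober.sober hirr isClosed_closure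
  have hξx' : ξ ⤳ x' := by
    rw [specializes_iff_mem_closure, hξ.def]
    exact subset_closure ⟨t', mem_irreducibleComponent, rfl⟩
  have hξc : ξ ⤳ c := by
    rw [specializes_iff_mem_closure, hξ.def]
    exact subset_closure ⟨_, hcC, rfl⟩
  have hξF : ξ ∈ F := by
    have : closure (Subtype.val '' C : Set X) ⊆ F := by
      rw [hF.closure_subset_iff]
      rintro _ ⟨t, -, rfl⟩
      exact t.2.2
    exact this hξ.mem
  refine ⟨ξ, hξx', ?_⟩
  have h1 : f ξ ⤳ y := hfc ▸ hξc.map hc
  have h2 : y ⤳ f ξ := specializes_iff_mem_closure.mpr hξF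
  exact (h1.antisymm h2).eq


open AlgebraicGeometry CategoryTheory in
/-- Consider locally Noetherian schemes X and Y and a morphism f : X → Y that is surjective and whose
underlying map is either open or closed. Then dim X ≥ dim Y. -/
theorem result {X Y : Scheme.{u}} (f : X ⟶ Y) [IsLocallyNoetherian X]
    [IsLocallyNoetherian Y] (hs : Function.Surjective f.base) (h : IsOpenMap f.base ∨ IsClosedMap f.base) :
    topologicalKrullDim Y ≤ topologicalKrullDim X := by
  rcases h with ho | hcl
  · refine Groth.Agent.Lib.DimLift.topDim_le_of_generalizingMap f.base f.continuous hs ?_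
    refine generalizingMap_of_isOpenMap f.base f.continuous ho ?_
    intro x
    obtain ⟨_, ⟨U, hU, rfl⟩, hxU, -⟩ :=
      (X.isBasis_affineOpens).exists_subset_of_mem_open (Set.mem_univ x) isOpen_univ
    have hN : IsNoetherianRing Γ(X, U) := IsLocallyNoetherian.component_noetherian ⟨U, hU⟩
    exact ⟨U, U.isOpen, hxU, noetherianSpace_of_isAffineOpen U hU⟩
  · exact Groth.Agent.Lib.DimLift.topDim_le_of_specializingMap f.base f.continuous hs
      hcl.specializingMap

end Groth.Agent.S4716
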