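import Groth.Statements.S4717
import Groth.Agent.Lib.DimLift
import Groth.Agent.S4715
import Mathlib.AlgebraicGeometry.Morphisms.Proper
-- import your own Groth.Agent.* helpers here

set_option autoImplicit false
universe u
open EGA4

namespace Groth.Agent.S4717

open AlgebraicGeometry CategoryTheory in
/-- Let f : X → Y be a finite morphism of locally Noetherian schemes. Then dim X equals the dimension of
the image f(X); in particular if f is surjective then dim X = dim Y. -/
theorem result {X Y : Scheme.{u}} (f : X ⟶ Y) [IsLocallyNoetherian X] [IsLocallyNoetherian Y]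
    [IsFinite f] :
    topologicalKrullDim X = topologicalKrullDim (Set.range f.base) ∧
      (Function.Surjective f.base → topologicalKrullDim X = topologicalKrullDim Y) := by
  have hclosed : IsClosedMap f.base := f.isClosedMap
  have hspec : SpecializingMap f.base := hclosed.specializingMap
  constructor
  · have hrc : IsClosed (Set.range f.base) := hclosed.isClosed_range
    have hQS : QuasiSober ↥(Set.range f.base) := (hrc.isClosedEmbedding_subtypeVal).quasiSober
    let φ : X → ↥(Set.range f.base) := fun x => ⟨f.base x, ⟨x, rfl⟩⟩
    have hφ : Continuous φ := f.continuous.subtype_mk _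
    apply le_antisymm
    · refine Groth.Agent.Lib.DimLift.topDim_le_of_fibres φ hφ ?_
      intro a a' h heq
      exact Groth.Agent.S4715.eq_of_specializes_of_fibre f a a' h (congrArg Subtype.val heq)
    · refine Groth.Agent.Lib.DimLift.topDim_le_of_specializingMap φ hφ ?_ ?_
      · rintro ⟨_, x, rfl⟩
        exact ⟨x, rfl⟩
      · intro x' y hy
        have h1 : f.base x' ⤳ (y : Y) := (subtype_specializes_iff _ _).mp hy
        obtain ⟨x, hx, hfx⟩ := hspec h1
        exact ⟨x, hx, Subtype.ext hfx⟩
  · intro hsurj
    apply le_antisymm
    · refine Groth.Agent.Lib.DimLift.topDim_le_of_fibres f.base f.continuous ?_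
      intro a a' h heq
      exact Groth.Agent.S4715.eq_of_specializes_of_fibre f a a' h heq
    · exact Groth.Agent.Lib.DimLift.topDim_le_of_specializingMap f.base f.continuous hsurj hspec

end Groth.Agent.S4717
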