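import Groth.Statements.S4718
import Groth.Agent.Lib.H8Fin

set_option autoImplicit false
universe u
open EGA4

namespace Groth.Agent.S4718

open IsLocalRing Module LocCoh Groth.Agent.Lib.H8Fin

/-- Let A be a Noetherian local ring, B a Noetherian ring, A → B a ring homomorphism and M a nonzero
B-module which is finite as an A-module. Then M is a Cohen–Macaulay A-module if and only if, for all
primes q of B lying over the maximal ideal of A and belonging to the support of M, the B_q-module
M_q is Cohen–Macaulay and all these modules M_q have the same dimension. -/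
theorem result (A B : Type u) [CommRing A] [CommRing B]
    [IsNoetherianRing A] [IsLocalRing A] [IsNoetherianRing B] [Algebra A B]
    (M : Type u) [AddCommGroup M] [Module B M] [Module A M] [IsScalarTower A B M] [Module.Finite A M]
    [Nontrivial M] :
    LocCoh.IsCohenMacaulayModule A M ↔
      (∀ q ∈ {q : PrimeSpectrum B | q.asIdeal.comap (algebraMap A B) = IsLocalRing.maximalIdeal A ∧
          q ∈ Module.support B M},
        LocCoh.IsCohenMacaulayModule (Localization.AtPrime q.asIdeal) (LocalizedModule q.asIdeal.primeCompl M)) ∧
      (∀ q ∈ {q : PrimeSpectrum B | q.asIdeal.comap (algebraMap A B) = IsLocalRing.maximalIdeal A ∧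
          q ∈ Module.support B M},
        ∀ q' ∈ {q : PrimeSpectrum B | q.asIdeal.comap (algebraMap A B) = IsLocalRing.maximalIdeal A ∧
          q ∈ Module.support B M},
          Module.supportDim (Localization.AtPrime q.asIdeal) (LocalizedModule q.asIdeal.primeCompl M) =
            Module.supportDim (Localization.AtPrime q'.asIdeal) (LocalizedModule q'.asIdeal.primeCompl M)) := by
  classical
  haveI : Module.Finite B M := Module.Finite.of_restrictScalars_finite A B M
  have hD := depth_eq_iInf_of_isLocalRing A B M
  have hS := supportDim_eq_iSup_of_isLocalRing A B M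
  change _ ↔ (∀ q ∈ overMax A B M, _) ∧ (∀ q ∈ overMax A B M, ∀ q' ∈ overMax A B M, _)
  -- depth ≤ dim at each prime of the family
  have hle : ∀ q ∈ overMax A B M,
      ((depth (Localization.AtPrime q.asIdeal) (LocalizedModule q.asIdeal.primeCompl M) : ℕ∞) :
        WithBot ℕ∞) ≤ Module.supportDim (Localization.AtPrime q.asIdeal)
        (LocalizedModule q.asIdeal.primeCompl M) := by
    intro q hq
    haveI : Nontrivial (LocalizedModule q.asIdeal.primeCompl M) := Module.mem_support_iff.mp hq.2
    exact Groth.Agent.Lib.DepthRees.depth_le_supportDim _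
  -- the family is nonempty
  have hne : ∃ q₀, q₀ ∈ overMax A B M := by
    by_contra hcon
    rw [not_exists] at hcon
    have : Module.supportDim A M = ⊥ := by
      rw [hS]
      apply le_antisymm _ bot_le
      exact iSup₂_le fun q hq ↦ absurd hq (hcon q)
    exact Module.supportDim_ne_bot_of_nontrivial A M this
  obtain ⟨q₀, hq₀⟩ := hne
  unfold IsCohenMacaulayModule
  constructor
  · intro hCM
    rw [hS, hD] at hCM
    have key : ∀ q ∈ overMax A B M,
        Module.supportDim (Localization.AtPrime q.asIdeal)
          (LocalizedModule q.asIdeal.primeCompl M) =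
        ((depth (Localization.AtPrime q.asIdeal) (LocalizedModule q.asIdeal.primeCompl M) : ℕ∞) :
          WithBot ℕ∞) ∧
        Module.supportDim (Localization.AtPrime q.asIdeal)
          (LocalizedModule q.asIdeal.primeCompl M) =
        ⨆ q ∈ overMax A B M, Module.supportDim (Localization.AtPrime q.asIdeal)
          (LocalizedModule q.asIdeal.primeCompl M) := by
      intro q hq
      have h1 : Module.supportDim (Localization.AtPrime q.asIdeal)
          (LocalizedModule q.asIdeal.primeCompl M) ≤
          ⨆ q ∈ overMax A B M, Module.supportDim (Localization.AtPrime q.asIdeal)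
          (LocalizedModule q.asIdeal.primeCompl M) :=
        le_iSup₂ (f := fun (q : PrimeSpectrum B) (_ : q ∈ overMax A B M) ↦
          Module.supportDim (Localization.AtPrime q.asIdeal)
            (LocalizedModule q.asIdeal.primeCompl M)) q hq
      have h2 : ((⨅ q ∈ overMax A B M, depth (Localization.AtPrime q.asIdeal)
          (LocalizedModule q.asIdeal.primeCompl M) : ℕ∞) : WithBot ℕ∞) ≤
          ((depth (Localization.AtPrime q.asIdeal) (LocalizedModule q.asIdeal.primeCompl M) : ℕ∞) :
          WithBot ℕ∞) := WithBot.coe_le_coe.mpr (iInf₂_le q hq)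
      have h3 := hle q hq
      rw [hCM] at h1
      exact ⟨le_antisymm (h1.trans h2) h3, le_antisymm (hCM ▸ h1) ((hCM ▸ h2).trans h3)⟩
    exact ⟨fun q hq ↦ (key q hq).1, fun q hq q' hq' ↦ (key q hq).2.trans (key q' hq').2.symm⟩
  · rintro ⟨hCMq, heq⟩
    rw [hS, hD]
    have hsup : (⨆ q ∈ overMax A B M, Module.supportDim (Localization.AtPrime q.asIdeal)
          (LocalizedModule q.asIdeal.primeCompl M)) =
        Module.supportDim (Localization.AtPrime q₀.asIdeal)
          (LocalizedModule q₀.asIdeal.primeCompl M) := by
      apply le_antisymm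
      · exact iSup₂_le fun q hq ↦ (heq q hq q₀ hq₀).le
      · exact le_iSup₂ (f := fun (q : PrimeSpectrum B) (_ : q ∈ overMax A B M) ↦
          Module.supportDim (Localization.AtPrime q.asIdeal)
            (LocalizedModule q.asIdeal.primeCompl M)) q₀ hq₀
    have hdeq : ∀ q ∈ overMax A B M,
        depth (Localization.AtPrime q.asIdeal) (LocalizedModule q.asIdeal.primeCompl M) =
        depth (Localization.AtPrime q₀.asIdeal) (LocalizedModule q₀.asIdeal.primeCompl M) := by
      intro q hq
      have h1 := hCMq q hq
      have h2 := hCMq q₀ hq₀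
      unfold IsCohenMacaulayModule at h1 h2
      have := heq q hq q₀ hq₀
      rw [h1, h2] at this
      exact WithBot.coe_injective this
    have hinf : (⨅ q ∈ overMax A B M, depth (Localization.AtPrime q.asIdeal)
          (LocalizedModule q.asIdeal.primeCompl M)) =
        depth (Localization.AtPrime q₀.asIdeal) (LocalizedModule q₀.asIdeal.primeCompl M) := by
      apply le_antisymm
      · exact iInf₂_le q₀ hq₀
      · exact le_iInf₂ fun q hq ↦ (hdeq q hq).ge
    rw [hsup, hinf]
    exact hCMq q₀ hq₀

end Groth.Agent.S4718
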