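import Groth.Statements.S4719
import Groth.Agent.Lib.H8Fin2

set_option autoImplicit false
universe u
open EGA4

namespace Groth.Agent.S4719

open IsLocalRing Module LocCoh Groth.Agent.Lib.H8Fin

theorem le_coe_iInf {ι : Type*} (S : Set ι) (d : ι → ℕ∞) (c : WithBot ℕ∞)
    (h : ∀ q ∈ S, c ≤ ((d q : ℕ∞) : WithBot ℕ∞)) :
    c ≤ (((⨅ q ∈ S, d q : ℕ∞)) : WithBot ℕ∞) := by
  induction c using WithBot.recBotCoe with
  | bot => exact bot_le
  | coe c =>
    rw [WithBot.coe_le_coe]
    exact le_iInf₂ fun q hq ↦ WithBot.coe_le_coe.mp (h q hq)

/-- Let A → B be a homomorphism of Noetherian rings and M a B-module which is finite as an A-module. (i)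
If M satisfies (S_k) as an A-module, it satisfies (S_k) as a B-module. (ii) If for every two primes
q, q' of B in the support of M having the same contraction to A the modules M_q and M_{q'} have the
same dimension, then (S_k) for M as a B-module implies (S_k) for M as an A-module. (The published
statement asks the equal-dimension condition for all pairs of primes of B with the same contraction;
this row asks it only for primes in the support of M, which is all its proof uses.) -/
theorem result (k : ℕ) (A B : Type u) [CommRing A] [CommRing B] [IsNoetherianRing A]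
    [IsNoetherianRing B] [Algebra A B] (M : Type u) [AddCommGroup M] [Module B M] [Module A M]
    [IsScalarTower A B M] [Module.Finite A M] :
    (LocCoh.HasSk k A M → LocCoh.HasSk k B M) ∧
      ((∀ q ∈ Module.support B M, ∀ q' ∈ Module.support B M,
          q.asIdeal.comap (algebraMap A B) = q'.asIdeal.comap (algebraMap A B) →
            Module.supportDim (Localization.AtPrime q.asIdeal) (LocalizedModule q.asIdeal.primeCompl M) =
              Module.supportDim (Localization.AtPrime q'.asIdeal) (LocalizedModule q'.asIdeal.primeCompl M)) →
        LocCoh.HasSk k B M → LocCoh.HasSk k A M) := by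
  classical
  constructor
  · intro hA q hq
    rcases subsingleton_or_nontrivial (LocalizedModule q.primeCompl M) with hs | hn
    · rw [Groth.Agent.Lib.H8CM.depth_eq_top_of_subsingleton]
      exact le_top
    have hsupp : (⟨q, hq⟩ : PrimeSpectrum B) ∈ Module.support B M := Module.mem_support_iff.mpr hn
    have hmem : (⟨q, hq⟩ : PrimeSpectrum B) ∈ over A B M (q.comap (algebraMap A B)) :=
      ⟨rfl, hsupp⟩
    have h1 := hA (q.comap (algebraMap A B))
    rw [supportDim_eq_iSup_over A B M (q.comap (algebraMap A B)),
      depth_eq_iInf_over A B M (q.comap (algebraMap A B))] at h1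
    have h2 : Module.supportDim (Localization.AtPrime q) (LocalizedModule q.primeCompl M) ≤
        ⨆ q' ∈ over A B M (q.comap (algebraMap A B)),
          Module.supportDim (Localization.AtPrime q'.asIdeal)
            (LocalizedModule q'.asIdeal.primeCompl M) :=
      le_iSup₂ (f := fun (q' : PrimeSpectrum B) (_ : q' ∈ over A B M (q.comap (algebraMap A B))) ↦
        Module.supportDim (Localization.AtPrime q'.asIdeal)
          (LocalizedModule q'.asIdeal.primeCompl M)) ⟨q, hq⟩ hmem
    have h3 : (⨅ q' ∈ over A B M (q.comap (algebraMap A B)),
        depth (Localization.AtPrime q'.asIdeal) (LocalizedModule q'.asIdeal.primeCompl M)) ≤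
        depth (Localization.AtPrime q) (LocalizedModule q.primeCompl M) :=
      iInf₂_le (⟨q, hq⟩ : PrimeSpectrum B) hmem
    exact (min_le_min_left _ h2).trans (h1.trans (WithBot.coe_le_coe.mpr h3))
  · intro heq hB p hp
    rw [supportDim_eq_iSup_over A B M p, depth_eq_iInf_over A B M p]
    by_cases hne : ∃ q₀, q₀ ∈ over A B M p
    · obtain ⟨q₀, hq₀⟩ := hne
      have hsup : (⨆ q ∈ over A B M p, Module.supportDim (Localization.AtPrime q.asIdeal)
          (LocalizedModule q.asIdeal.primeCompl M)) =
          Module.supportDim (Localization.AtPrime q₀.asIdeal)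
            (LocalizedModule q₀.asIdeal.primeCompl M) := by
        apply le_antisymm
        · exact iSup₂_le fun q hq ↦ (heq q hq.2 q₀ hq₀.2 (hq.1.trans hq₀.1.symm)).le
        · exact le_iSup₂ (f := fun (q : PrimeSpectrum B) (_ : q ∈ over A B M p) ↦
            Module.supportDim (Localization.AtPrime q.asIdeal)
              (LocalizedModule q.asIdeal.primeCompl M)) q₀ hq₀
      rw [hsup]
      apply le_coe_iInf
      intro q hq
      rw [← heq q hq.2 q₀ hq₀.2 (hq.1.trans hq₀.1.symm)]
      exact hB q.asIdeal
    · rw [not_exists] at hne
      have : (⨅ q ∈ over A B M p, depth (Localization.AtPrime q.asIdeal)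
          (LocalizedModule q.asIdeal.primeCompl M)) = ⊤ := by
        rw [eq_top_iff]
        exact le_iInf₂ fun q hq ↦ absurd hq (hne q)
      rw [this]
      exact le_top

end Groth.Agent.S4719
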