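import Groth.Statements.S4720
-- import your own Groth.Agent.* helpers here

set_option autoImplicit false
universe u
open EGA4
open AlgebraicGeometry CategoryTheory Opposite

namespace Groth.Agent.S4720

section

variable (A : Type u) [CommRing A] (J : Ideal A) (M : Type u) [AddCommGroup M] [Module A M]

/-- vanishing of `m/1` at all points of an open set -/
def LocZero (U : Set (PrimeSpectrum A)) (m : M) : Prop :=
  ∀ x ∈ U, ∃ s : A, s ∉ x.asIdeal ∧ s • m = 0

theorem mk_one_eq_zero_iff (x : PrimeSpectrum A) (m : M) :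
    (LocalizedModule.mk m (1 : x.asIdeal.primeCompl) : LocalizedModule x.asIdeal.primeCompl M) = 0 ↔
      ∃ s : A, s ∉ x.asIdeal ∧ s • m = 0 := by
  rw [← LocalizedModule.zero_mk (1 : x.asIdeal.primeCompl), LocalizedModule.mk_eq]
  constructor
  · rintro ⟨u, hu⟩
    refine ⟨u, u.2, ?_⟩
    simpa [Submonoid.smul_def] using hu
  · rintro ⟨s, hs, hsm⟩
    exact ⟨⟨s, hs⟩, by simpa [Submonoid.smul_def] using hsm⟩

theorem restr_toOpen_apply (m : M) (x : EGA4.openCompl A J) :
    (EGA4.restrCompl A J M
      (StructureSheaf.toOpenₗ (CommRingCat.of A) (ModuleCat.of (CommRingCat.of A) M) ⊤ m)).1 x =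
      LocalizedModule.mk m 1 := rfl



theorem injective_restr_iff :
    Function.Injective (EGA4.restrCompl A J M) ↔
      ∀ m : M, LocZero A M ((PrimeSpectrum.zeroLocus (J : Set A))ᶜ) m → m = 0 := by
  have hbij := StructureSheaf.toOpenₗ_top_bijective (R := CommRingCat.of A)
    (M := ModuleCat.of (CommRingCat.of A) M)
  constructor
  · intro hinj m hm
    apply hbij.1
    rw [map_zero]
    apply hinj
    refine Subtype.ext (funext fun x => ?_)
    rw [restr_toOpen_apply]
    exact (mk_one_eq_zero_iff A M x.1 m).mpr (hm x.1 x.2)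
  · intro h
    rw [injective_iff_map_eq_zero]
    intro s hs
    obtain ⟨m, rfl⟩ := hbij.2 s
    have : m = 0 := by
      apply h
      intro x hx
      rw [← mk_one_eq_zero_iff]
      have := congrArg (fun t => t.1 ⟨x, hx⟩) hs
      exact this
    subst this
    exact map_zero _


end

/-- Let A be a Noetherian ring, Z a subset of Spec A stable under specialization, M an A-module and N a
submodule of M. If M is Z-pure, so is N; conversely, if N and M/N are Z-pure, so is M. -/
theorem result (A : Type u) [CommRing A] [IsNoetherianRing A]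
    (Z : Set (PrimeSpectrum A)) (hZ : StableUnderSpecialization Z) (M : Type u) [AddCommGroup M] [Module A M]
    (N : Submodule A M) :
    (EGA4.IsPureAlong Z M → EGA4.IsPureAlong Z ↥N) ∧
      (EGA4.IsPureAlong Z ↥N → EGA4.IsPureAlong Z (M ⧸ N) → EGA4.IsPureAlong Z M) := by
  constructor
  · intro hM J hJ
    rw [injective_restr_iff]
    intro n hn
    have h1 := (injective_restr_iff A J M).mp (hM J hJ) (n : M) (by
      intro x hx
      obtain ⟨s, hs, hsn⟩ := hn x hx
      exact ⟨s, hs, by rw [← Submodule.coe_smul, hsn, Submodule.coe_zero]⟩)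
    exact Subtype.ext h1
  · intro hN hQ J hJ
    rw [injective_restr_iff]
    intro m hm
    have h1 : N.mkQ m = 0 := (injective_restr_iff A J (M ⧸ N)).mp (hQ J hJ) (N.mkQ m) (by
      intro x hx
      obtain ⟨s, hs, hsm⟩ := hm x hx
      exact ⟨s, hs, by rw [← map_smul, hsm, map_zero]⟩)
    have hmN : m ∈ N := by simpa using h1
    have h2 : (⟨m, hmN⟩ : N) = 0 := (injective_restr_iff A J N).mp (hN J hJ) ⟨m, hmN⟩ (by
      intro x hx
      obtain ⟨s, hs, hsm⟩ := hm x hx
      exact ⟨s, hs, Subtype.ext (by simpa using hsm)⟩)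
    exact congrArg Subtype.val h2

end Groth.Agent.S4720
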