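import Groth.Statements.S4722
import Mathlib.RingTheory.Ideal.AssociatedPrime.Localization
import Mathlib.RingTheory.Ideal.AssociatedPrime.Finiteness
-- import your own Groth.Agent.* helpers here

set_option autoImplicit false
universe u
open EGA4

namespace Groth.Agent.S4722

open Submodule in
/-- Lemma A -/
theorem lemmaA (A : Type u) [CommRing A] [IsNoetherianRing A] (Q : Type u) [AddCommGroup Q]
    [Module A Q] [Module.Finite A Q] [Nontrivial Q] (p : Ideal A)
    (hp : associatedPrimes A Q ⊆ {p}) :
    ∃ T : Submodule A Q, T ≠ ⊥ ∧ (∃ ψ : T →ₗ[A] A ⧸ p, Function.Injective ψ) ∧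
      associatedPrimes A (Q ⧸ T) ⊆ {p} := by
  classical
  obtain ⟨p', hp'⟩ := associatedPrimes.nonempty A Q
  obtain rfl : p' = p := hp hp'
  have hprime : p'.IsPrime := hp'.isPrime
  obtain ⟨-, f₀, hf₀⟩ := (isAssociatedPrime_iff_exists_injective_linearMap p' Q).mp hp'
  -- non-zero-divisor property
  have hnzd : ∀ s : A, s ∉ p' → ∀ z : Q, s • z = 0 → z = 0 := by
    intro s hs z hz
    by_contra hne
    have : s ∈ ⋃ q ∈ associatedPrimes A Q, (q : Set A) := by
      rw [biUnion_associatedPrimes_eq_zero_divisors]
      exact ⟨z, hne, hz⟩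
    simp only [Set.mem_iUnion, SetLike.mem_coe] at this
    obtain ⟨q, hq, hsq⟩ := this
    rw [hp hq] at hsq
    exact hs hsq
  let C : Submodule A Q := LinearMap.range f₀
  let T : Submodule A Q :=
    { carrier := {z | ∃ s : A, s ∉ p' ∧ s • z ∈ C}
      zero_mem' := ⟨1, hprime.one_notMem, by simp⟩
      add_mem' := by
        rintro a b ⟨s, hs, hsa⟩ ⟨t, ht, htb⟩
        refine ⟨s * t, fun h => (hprime.mem_or_mem h).elim hs ht, ?_⟩
        rw [smul_add]
        refine C.add_mem ?_ ?_
        · rw [mul_comm, mul_smul]; exact C.smul_mem t hsa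
        · rw [mul_smul]; exact C.smul_mem s htb
      smul_mem' := by
        rintro c a ⟨s, hs, hsa⟩
        exact ⟨s, hs, by rw [smul_comm]; exact C.smul_mem c hsa⟩ }
  have hCT : C ≤ T := fun z hz => ⟨1, hprime.one_notMem, by simpa using hz⟩
  have hmemT : ∀ z, z ∈ T ↔ ∃ s : A, s ∉ p' ∧ s • z ∈ C := fun z => Iff.rfl
  refine ⟨T, ?_, ?_, ?_⟩
  · intro hbot
    have hnt : Nontrivial (A ⧸ p') := Ideal.Quotient.nontrivial_iff.mpr hprime.ne_top
    have h1 : f₀ 1 ∈ T := hCT ⟨1, rfl⟩
    rw [hbot, Submodule.mem_bot] at h1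
    have : (1 : A ⧸ p') = 0 := hf₀ (by rw [h1, map_zero])
    exact one_ne_zero this
  · obtain ⟨S, hS⟩ : T.FG := IsNoetherian.noetherian T
    have hch : ∀ y : Q, ∃ s : A, y ∈ T → (s ∉ p' ∧ s • y ∈ C) := by
      intro y
      by_cases hy : y ∈ T
      · obtain ⟨s, hs, hsy⟩ := hy
        exact ⟨s, fun _ => ⟨hs, hsy⟩⟩
      · exact ⟨0, fun h => absurd h hy⟩
    choose σ hσ using hch
    have hST : ∀ y ∈ S, y ∈ T := fun y hy => hS ▸ Submodule.subset_span hy
    let s : A := ∏ y ∈ S, σ y
    have hs : s ∉ p' := by
      intro h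
      obtain ⟨y, hy, hyp⟩ := (hprime.prod_mem_iff).mp h
      exact (hσ y (hST y hy)).1 hyp
    have hsT : ∀ z ∈ T, s • z ∈ C := by
      intro z hz
      rw [← hS] at hz
      refine Submodule.span_induction ?_ ?_ ?_ ?_ hz
      · intro y hy
        have : s = (∏ y' ∈ S.erase y, σ y') * σ y := (Finset.prod_erase_mul S σ hy).symm
        rw [this, mul_smul]
        exact C.smul_mem _ (hσ y (hST y hy)).2
      · simp
      · intro a b _ _ ha hb
        rw [smul_add]; exact C.add_mem ha hb
      · intro c a _ ha
        rw [smul_comm]; exact C.smul_mem c ha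
    let φ : T →ₗ[A] C := LinearMap.codRestrict C ((s • LinearMap.id) ∘ₗ T.subtype)
      (fun z => by simpa using hsT z z.2)
    refine ⟨(LinearEquiv.ofInjective f₀ hf₀).symm.toLinearMap ∘ₗ φ, ?_⟩
    rw [LinearMap.coe_comp]
    refine (LinearEquiv.injective _).comp ?_
    intro a b hab
    have h1 : (φ a : Q) = (φ b : Q) := congrArg Subtype.val hab
    simp only [φ, LinearMap.codRestrict_apply, LinearMap.coe_comp, Function.comp_apply,
      Submodule.subtype_apply, LinearMap.smul_apply, LinearMap.id_apply] at h1
    have h2 : s • ((a : Q) - (b : Q)) = 0 := by rw [smul_sub, h1, sub_self]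
    exact Subtype.ext (sub_eq_zero.mp (hnzd s hs _ h2))
  · intro q hq
    rw [Set.mem_singleton_iff]
    obtain ⟨hqprime, ybar, hqy⟩ := (isAssociatedPrime_iff).mp hq
    obtain ⟨y, rfl⟩ := T.mkQ_surjective ybar
    have hmemq : ∀ t : A, t ∈ q ↔ t • y ∈ T := by
      intro t
      rw [hqy, Submodule.mem_colon_singleton, Submodule.mem_bot, ← map_smul, Submodule.mkQ_apply,
        Submodule.Quotient.mk_eq_zero]
    have hyT : y ∉ T := by
      intro hy
      apply hqprime.ne_top
      rw [Ideal.eq_top_iff_one, hmemq, one_smul]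
      exact hy
    apply le_antisymm
    · intro t ht
      by_contra htp
      obtain ⟨s, hs, hsty⟩ := (hmemq t).mp ht
      apply hyT
      refine ⟨s * t, fun h => (hprime.mem_or_mem h).elim hs htp, ?_⟩
      rw [mul_smul]; exact hsty
    · have hann : Module.annihilator A Q ≤ q := by
        intro t ht
        rw [hmemq, Module.mem_annihilator.mp ht y]
        exact T.zero_mem
      obtain ⟨p'', hp'', hle⟩ := Ideal.exists_minimalPrimes_le hann
      have := hp (Module.associatedPrimes.minimalPrimes_annihilator_subset_associatedPrimes A Q hp'')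
      rw [Set.mem_singleton_iff] at this
      rw [← this]; exact hle


/-- the successive-quotient condition -/
def Qpred {A : Type u} [CommRing A] {M : Type u} [AddCommGroup M] [Module A M] (p : Ideal A)
    (N₁ N₂ : Submodule A M) : Prop :=
  ∃ g : (↥N₁ ⧸ Submodule.comap N₁.subtype N₂) →ₗ[A] (A ⧸ p), Function.Injective g

theorem chain_of_ass (A : Type u) [CommRing A] [IsNoetherianRing A]
    (M : Type u) [AddCommGroup M] [Module A M] [Module.Finite A M] (p : Ideal A)
    (F : Submodule A M) (hF : associatedPrimes A (M ⧸ F) ⊆ {p}) :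
    ∃ (m : ℕ) (c : Fin (m + 1) → Submodule A M), Antitone c ∧ c 0 = ⊤ ∧ c (Fin.last m) = F ∧
      ∀ i : Fin m, Qpred p (c i.castSucc) (c i.succ) := by
  induction F using WellFoundedGT.induction with
  | ind F ih =>
    by_cases htop : F = ⊤
    · refine ⟨0, fun _ => ⊤, fun _ _ _ => le_rfl, rfl, htop.symm, fun i => i.elim0⟩
    · have hnt : Nontrivial (M ⧸ F) := Submodule.Quotient.nontrivial_iff.mpr htop
      obtain ⟨T, hTne, ⟨ψ, hψ⟩, hTass⟩ := lemmaA A (M ⧸ F) p hF
      let π : M →ₗ[A] (M ⧸ F) ⧸ T := T.mkQ ∘ₗ F.mkQ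
      have hπ : Function.Surjective π := T.mkQ_surjective.comp F.mkQ_surjective
      let F' : Submodule A M := LinearMap.ker π
      have hmemF' : ∀ y, y ∈ F' ↔ F.mkQ y ∈ T := by
        intro y
        simp only [F', π, LinearMap.mem_ker, LinearMap.coe_comp, Function.comp_apply,
          Submodule.mkQ_apply, Submodule.Quotient.mk_eq_zero]
      have hle : F ≤ F' := by
        intro y hy
        rw [hmemF']
        have : F.mkQ y = 0 := by simpa using hy
        rw [this]; exact T.zero_mem
      have hlt : F < F' := by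
        refine lt_of_le_of_ne hle ?_
        intro heq
        apply hTne
        rw [eq_bot_iff]
        intro z hz
        obtain ⟨y, rfl⟩ := F.mkQ_surjective z
        have : y ∈ F := by rw [heq, hmemF']; exact hz
        simpa using this
      have hF'ass : associatedPrimes A (M ⧸ F') ⊆ {p} := by
        rw [LinearEquiv.AssociatedPrimes.eq (LinearMap.quotKerEquivOfSurjective π hπ)]
        exact hTass
      obtain ⟨m, c, hanti, h0, hlast, hQ⟩ := ih F' hlt hF'ass
      refine ⟨m + 1, Fin.snoc c F, ?_, ?_, ?_, ?_⟩
      · intro i j hij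
        induction j using Fin.lastCases with
        | last =>
          rw [Fin.snoc_last]
          induction i using Fin.lastCases with
          | last => rw [Fin.snoc_last]
          | cast i' =>
            rw [Fin.snoc_castSucc]
            calc F ≤ F' := hle
              _ = c (Fin.last m) := hlast.symm
              _ ≤ c i' := hanti (Fin.le_last _)
        | cast j' =>
          induction i using Fin.lastCases with
          | last =>
            exfalso
            have : Fin.last (m + 1) ≤ j'.castSucc := hij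
            exact absurd (Fin.castSucc_lt_last j') (not_lt.mpr this)
          | cast i' =>
            rw [Fin.snoc_castSucc, Fin.snoc_castSucc]
            exact hanti (by simpa using hij)
      · have : (0 : Fin (m + 2)) = Fin.castSucc (0 : Fin (m + 1)) := rfl
        rw [this, Fin.snoc_castSucc, h0]
      · rw [Fin.snoc_last]
      · intro i
        induction i using Fin.lastCases with
        | last =>
          rw [Fin.snoc_castSucc, Fin.succ_last, Fin.snoc_last, hlast]
          -- the new quotient
          let θ : ↥F' →ₗ[A] ↥T := LinearMap.codRestrict T (F.mkQ ∘ₗ F'.subtype)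
            (fun y => (hmemF' y).mp y.2)
          have hker : Submodule.comap F'.subtype F = LinearMap.ker (ψ ∘ₗ θ) := by
            ext y
            simp only [Submodule.mem_comap, Submodule.subtype_apply, LinearMap.mem_ker,
              LinearMap.coe_comp, Function.comp_apply]
            rw [← map_zero ψ, hψ.eq_iff]
            simp only [θ, Subtype.ext_iff, LinearMap.codRestrict_apply, LinearMap.coe_comp,
              Function.comp_apply, Submodule.subtype_apply, Submodule.mkQ_apply,
              Submodule.coe_zero, Submodule.Quotient.mk_eq_zero]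
          refine ⟨Submodule.liftQ _ (ψ ∘ₗ θ) (le_of_eq hker), ?_⟩
          rw [← LinearMap.ker_eq_bot]
          exact Submodule.ker_liftQ_eq_bot' _ _ hker
        | cast i' =>
          have h1 : (i'.castSucc).succ = (i'.succ).castSucc := rfl
          rw [h1, Fin.snoc_castSucc, Fin.snoc_castSucc]
          exact hQ i'


/-- Let A be a Noetherian ring and M a finite A-module whose set of associated primes is a single prime
p. Then M has a finite decreasing filtration by submodules M = M_0 ⊇ M_1 ⊇ ⋯ ⊇ M_m = 0 such that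
each quotient M_h/M_{h+1} is isomorphic to a submodule of A/p (i.e. embeds A-linearly into A/p). -/
theorem result (A : Type u) [CommRing A] [IsNoetherianRing A]
    (M : Type u) [AddCommGroup M] [Module A M] [Module.Finite A M] (p : Ideal A)
    (hp : associatedPrimes A M = {p}) :
    ∃ (m : ℕ) (F : Fin (m + 1) → Submodule A M), Antitone F ∧ F 0 = ⊤ ∧ F (Fin.last m) = ⊥ ∧
      ∀ i : Fin m, ∃ g : (↥(F i.castSucc) ⧸ Submodule.comap (F i.castSucc).subtype (F i.succ)) →ₗ[A] (A ⧸ p),
        Function.Injective g := by
  have h0 : associatedPrimes A (M ⧸ (⊥ : Submodule A M)) ⊆ {p} := by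
    rw [LinearEquiv.AssociatedPrimes.eq (Submodule.quotEquivOfEqBot (⊥ : Submodule A M) rfl), hp]
  obtain ⟨m, c, hanti, hc0, hlast, hQ⟩ := chain_of_ass A M p ⊥ h0
  exact ⟨m, c, hanti, hc0, hlast, hQ⟩

end Groth.Agent.S4722
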