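import Groth.Statements.S4725
-- import your own Groth.Agent.* helpers here

set_option autoImplicit false
universe u
open EGA4

namespace Groth.Agent.S4725

/-- The direct limit of a nonempty directed system of commutative integral domains is an integral domain
(no injectivity of the transition maps is assumed). -/
theorem result (ι : Type u) [Preorder ι] [Nonempty ι] [IsDirectedOrder ι] (G : ι → Type u)
    [∀ i, CommRing (G i)] (f : ∀ i j, i ≤ j → G i →+* G j) [DirectedSystem G (fun i j h ↦ f i j h)]
    [∀ i, IsDomain (G i)] : IsDomain (Ring.DirectLimit G (fun i j h ↦ f i j h)) := by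
  have hnt : Nontrivial (Ring.DirectLimit G (fun i j h ↦ f i j h)) := by
    refine ⟨⟨0, 1, fun h01 => ?_⟩⟩
    obtain ⟨i⟩ := ‹Nonempty ι›
    have h1 : Ring.DirectLimit.of G (fun i j h ↦ f i j h) i 1 = 0 := by
      rw [map_one]; exact h01.symm
    obtain ⟨j, hij, hj⟩ := Ring.DirectLimit.of.zero_exact h1
    rw [map_one] at hj
    exact one_ne_zero hj
  have hnzd : NoZeroDivisors (Ring.DirectLimit G (fun i j h ↦ f i j h)) := by
    refine ⟨fun {a b} hab => ?_⟩
    obtain ⟨i, x, rfl⟩ := Ring.DirectLimit.exists_of a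
    obtain ⟨j, y, rfl⟩ := Ring.DirectLimit.exists_of b
    obtain ⟨k, hik, hjk⟩ := exists_ge_ge i j
    have hx : Ring.DirectLimit.of G (fun i j h ↦ f i j h) i x =
        Ring.DirectLimit.of G (fun i j h ↦ f i j h) k (f i k hik x) :=
      (Ring.DirectLimit.of_f (f := fun i j h ↦ f i j h) hik x).symm
    have hy : Ring.DirectLimit.of G (fun i j h ↦ f i j h) j y =
        Ring.DirectLimit.of G (fun i j h ↦ f i j h) k (f j k hjk y) :=
      (Ring.DirectLimit.of_f (f := fun i j h ↦ f i j h) hjk y).symm
    rw [hx, hy, ← map_mul] at hab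
    obtain ⟨l, hkl, hl⟩ := Ring.DirectLimit.of.zero_exact hab
    rw [map_mul] at hl
    rcases mul_eq_zero.mp hl with h | h
    · left
      rw [hx, ← Ring.DirectLimit.of_f (f := fun i j h ↦ f i j h) hkl, h, map_zero]
    · right
      rw [hy, ← Ring.DirectLimit.of_f (f := fun i j h ↦ f i j h) hkl, h, map_zero]
  exact NoZeroDivisors.to_isDomain _

end Groth.Agent.S4725
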