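import Groth.Statements.S4726
import Mathlib.LinearAlgebra.TensorProduct.Pi
import Mathlib.LinearAlgebra.TensorProduct.RightExactness
import Mathlib.Data.Finset.Order
-- import your own Groth.Agent.* helpers here

set_option autoImplicit false
universe u
open EGA4

namespace Groth.Agent.S4726

open TensorProduct in
theorem descend {R S : Type u} [CommRing R] [CommRing S] [Algebra R S] (M : Type u)
    [AddCommGroup M] [Module S M] (n m : ℕ) (f : (Fin n → S) →ₗ[S] M)
    (g : (Fin m → S) →ₗ[S] (Fin n → S)) (hf : Function.Surjective f) (hfg : Function.Exact g f)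
    (b : Fin m → Fin n → R) (hb : ∀ j k, algebraMap R S (b j k) = g (Pi.single j 1) k) :
    ∃ (Mi : Type u) (_ : AddCommGroup Mi) (_ : Module R Mi), Module.FinitePresentation R Mi ∧
      Nonempty (M ≃ₗ[S] S ⊗[R] Mi) := by
  -- the map over R
  let gi : (Fin m → R) →ₗ[R] (Fin n → R) := Fintype.linearCombination R b
  let N : Submodule R (Fin n → R) := LinearMap.range gi
  refine ⟨(Fin n → R) ⧸ N, inferInstance, inferInstance, ?_, ?_⟩
  · refine Module.finitePresentation_of_surjective N.mkQ N.mkQ_surjective ?_
    rw [Submodule.ker_mkQ]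
    have : N = (⊤ : Submodule R (Fin m → R)).map gi := (Submodule.map_top gi).symm
    rw [this]
    exact (Module.Finite.fg_top).map gi
  · let en : S ⊗[R] (Fin n → R) ≃ₗ[S] (Fin n → S) := TensorProduct.piScalarRight R S S (Fin n)
    let em : S ⊗[R] (Fin m → R) ≃ₗ[S] (Fin m → S) := TensorProduct.piScalarRight R S S (Fin m)
    let π₁ : S ⊗[R] (Fin n → R) →ₗ[S] S ⊗[R] ((Fin n → R) ⧸ N) := N.mkQ.baseChange S
    let π₂ : S ⊗[R] (Fin n → R) →ₗ[S] M := f ∘ₗ en.toLinearMap
    have hπ₁ : Function.Surjective π₁ := LinearMap.lTensor_surjective S N.mkQ_surjective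
    have hπ₂ : Function.Surjective π₂ := hf.comp en.surjective
    have hex₁ : Function.Exact (gi.baseChange S) π₁ := by
      have h0 : Function.Exact gi N.mkQ := by
        rw [LinearMap.exact_iff, Submodule.ker_mkQ]
      exact lTensor_exact S h0 N.mkQ_surjective
    -- compatibility square
    have hsq : en.toLinearMap ∘ₗ gi.baseChange S = g ∘ₗ em.toLinearMap := by
      apply TensorProduct.AlgebraTensorModule.curry_injective
      ext j k
      simp only [en, em, gi, AlgebraTensorModule.curry_apply, LinearMap.restrictScalars_comp,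
        curry_apply, LinearMap.coe_comp, LinearMap.coe_restrictScalars, LinearEquiv.coe_coe,
        Function.comp_apply, LinearMap.baseChange_tmul, LinearMap.coe_single,
        Fintype.linearCombination_apply_single,
        one_smul, piScalarRight_apply, piScalarRightHom_tmul]
      have h1 : (fun j_1 => (Pi.single j (1 : R) : Fin m → R) j_1 • (1 : S)) = Pi.single j (1 : S) := by
        ext l
        by_cases hl : l = j
        · subst hl; simp
        · simp [Pi.single_eq_of_ne hl]
      rw [h1, ← hb, Algebra.smul_def, mul_one]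
    -- kernels agree
    have hker : LinearMap.ker π₂ = LinearMap.ker π₁ := by
      rw [(LinearMap.exact_iff.mp hex₁)]
      ext x
      simp only [π₂, LinearMap.mem_ker, LinearMap.coe_comp, LinearEquiv.coe_coe, Function.comp_apply,
        LinearMap.mem_range]
      rw [hfg (en x)]
      constructor
      · rintro ⟨y, hy⟩
        refine ⟨em.symm y, en.injective ?_⟩
        have := LinearMap.congr_fun hsq (em.symm y)
        simp only [LinearMap.coe_comp, LinearEquiv.coe_coe, Function.comp_apply,
          LinearEquiv.apply_symm_apply] at this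
        rw [this, hy]
      · rintro ⟨y, rfl⟩
        refine ⟨em y, ?_⟩
        have := LinearMap.congr_fun hsq y
        simp only [LinearMap.coe_comp, LinearEquiv.coe_coe, Function.comp_apply] at this
        exact this.symm
    exact ⟨(LinearMap.quotKerEquivOfSurjective π₂ hπ₂).symm ≪≫ₗ
      Submodule.quotEquivOfEq _ _ hker ≪≫ₗ LinearMap.quotKerEquivOfSurjective π₁ hπ₁⟩


open TensorProduct in
/-- Let (A_i) be a directed system of commutative rings with direct limit A and M a finitely presented
A-module. Then there exist an index i and a finitely presented A_i-module M_i such that M is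
isomorphic, as an A-module, to A ⊗_{A_i} M_i (A being an A_i-algebra through the canonical map). -/
theorem result (ι : Type u) [Preorder ι] [Nonempty ι] [IsDirectedOrder ι]
    (G : ι → Type u) [∀ i, CommRing (G i)] (f : ∀ i j, i ≤ j → G i →+* G j)
    [DirectedSystem G (fun i j h ↦ f i j h)] (M : Type u) [AddCommGroup M]
    [Module (Ring.DirectLimit G (fun i j h ↦ f i j h)) M]
    [Module.FinitePresentation (Ring.DirectLimit G (fun i j h ↦ f i j h)) M] :
    ∃ (i : ι) (Mi : Type u) (_ : AddCommGroup Mi) (_ : Module (G i) Mi), Module.FinitePresentation (G i) Mi ∧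
      letI : Algebra (G i) (Ring.DirectLimit G (fun i j h ↦ f i j h)) :=
        (Ring.DirectLimit.of G (fun i j h ↦ f i j h) i).toAlgebra
      Nonempty (M ≃ₗ[Ring.DirectLimit G (fun i j h ↦ f i j h)] (Ring.DirectLimit G (fun i j h ↦ f i j h)) ⊗[G i] Mi) := by
  classical
  obtain ⟨n, m, φ, g, hφ, hex⟩ := Module.FinitePresentation.exists_fin'
    (Ring.DirectLimit G (fun i j h ↦ f i j h)) M
  -- choose preimages of the matrix entries
  have hch : ∀ jk : Fin m × Fin n, ∃ (i : ι) (x : G i),
      Ring.DirectLimit.of G (fun i j h ↦ f i j h) i x = g (Pi.single jk.1 1) jk.2 :=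
    fun jk => Ring.DirectLimit.exists_of _
  choose idx x hx using hch
  obtain ⟨i, hi⟩ := Finset.exists_le (Finset.univ.image idx)
  have hle : ∀ jk, idx jk ≤ i := fun jk => hi _ (Finset.mem_image_of_mem _ (Finset.mem_univ _))
  letI : Algebra (G i) (Ring.DirectLimit G (fun i j h ↦ f i j h)) :=
    (Ring.DirectLimit.of G (fun i j h ↦ f i j h) i).toAlgebra
  obtain ⟨Mi, _, _, hfp, hiso⟩ := descend (R := G i) (S := Ring.DirectLimit G (fun i j h ↦ f i j h))
    M n m φ g hφ hex (fun j k => f (idx (j, k)) i (hle (j, k)) (x (j, k))) (by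
      intro j k
      rw [RingHom.algebraMap_toAlgebra, Ring.DirectLimit.of_f (f := fun i j h ↦ f i j h)]
      exact hx (j, k))
  exact ⟨i, Mi, inferInstance, inferInstance, hfp, hiso⟩

end Groth.Agent.S4726
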