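-- Statement S4728.
import Groth.Statements.S4728
import Groth.Agent.Lib.H30NormalHom
import Mathlib

set_option autoImplicit false
universe u
open EGA4

namespace Groth.Agent.S4728

section Helpers
open TensorProduct

theorem isDomain_of_local_normal (R : Type u) [CommRing R] [IsLocalRing R]
    (h : EGA4.IsNormalRing R) : IsDomain R := by
  have := (h (IsLocalRing.maximalIdeal R)).1
  have e : R ≃ₐ[R] Localization.AtPrime (IsLocalRing.maximalIdeal R) :=
    IsLocalization.atUnits R (IsLocalRing.maximalIdeal R).primeCompl (fun x hx => by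
      have h1 : x ∉ IsLocalRing.maximalIdeal R := hx
      have h2 : IsUnit x := by simpa [IsLocalRing.mem_maximalIdeal] using h1
      exact h2)
  exact e.toMulEquiv.isDomain _

theorem main (A A' : Type u) [CommRing A] [CommRing A']
    [IsNoetherianRing A] [IsNoetherianRing A'] [IsLocalRing A] [IsLocalRing A'] [IsDomain A]
    (hA : ringKrullDim A = 1) [Algebra A A'] [IsLocalHom (algebraMap A A')] (h : EGA4.IsNormalHom A A') :
    ((IsLocalRing.maximalIdeal A).map (algebraMap A A')).IsPrime ∧
      ((IsLocalRing.maximalIdeal A).map (algebraMap A A')).height = 1 := by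
  classical
  set m := IsLocalRing.maximalIdeal A with hm
  set I := m.map (algebraMap A A') with hI
  -- I ≤ maximal ideal of A'
  have hIle : I ≤ IsLocalRing.maximalIdeal A' := by
    rw [hI, Ideal.map_le_iff_le_comap]
    intro x hx
    rw [Ideal.mem_comap, IsLocalRing.mem_maximalIdeal]
    intro hu
    have := (isUnit_map_iff (algebraMap A A') x).mp hu
    exact ((IsLocalRing.mem_maximalIdeal x).mp hx) this
  have hIne : I ≠ ⊤ := fun h1 => (IsLocalRing.maximalIdeal.isMaximal A').ne_top (top_le_iff.mp (h1 ▸ hIle))
  -- the closed fibre is normal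
  have hN : EGA4.IsNormalRing ((IsLocalRing.ResidueField A) ⊗[A] A') :=
    Groth.Agent.Lib.H30NormalHom.isNormalRing_field_tensor_of_isNormalHom A A' h _
  -- identify with the quotient
  have e1 : (A' ⧸ I) ≃ₐ[A'] A' ⊗[A] (A ⧸ m) :=
    Algebra.TensorProduct.quotIdealMapEquivTensorQuot A' m
  have e2 : A' ⊗[A] (A ⧸ m) ≃ₐ[A] (A ⧸ m) ⊗[A] A' := Algebra.TensorProduct.comm A A' (A ⧸ m)
  have hQ : EGA4.IsNormalRing (A' ⧸ I) :=
    Groth.Agent.Lib.H30GeomNormal.isNormalRing_of_ringEquiv
      (e1.toRingEquiv.trans e2.toRingEquiv).symm hN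
  haveI : Nontrivial (A' ⧸ I) := Ideal.Quotient.nontrivial_iff.mpr hIne
  haveI : IsLocalRing (A' ⧸ I) :=
    IsLocalRing.of_surjective' (Ideal.Quotient.mk I) Ideal.Quotient.mk_surjective
  haveI : IsDomain (A' ⧸ I) := isDomain_of_local_normal _ hQ
  have hprime : I.IsPrime := (Ideal.Quotient.isDomain_iff_prime I).mp inferInstance
  refine ⟨hprime, ?_⟩
  haveI := hprime
  -- pick nonzero a ∈ m
  have hmne : m ≠ ⊥ := by
    intro hbot
    have : IsField A := IsLocalRing.isField_iff_maximalIdeal_eq.mpr hbot
    have h0 : ringKrullDim A = 0 := by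
      letI := this.toField
      exact ringKrullDim_eq_zero_of_field A
    rw [h0] at hA
    exact zero_ne_one hA
  obtain ⟨a, ham, ha0⟩ := Submodule.exists_mem_ne_zero_of_ne_bot hmne
  haveI : Module.Flat A A' := h.1
  haveI : Ring.KrullDimLE 1 A := Ring.krullDimLE_iff.mpr (by rw [hA]; rfl)
  have hreg : algebraMap A A' a ∈ nonZeroDivisors A' := by
    have h0 : IsSMulRegular A a := fun x y hxy => by
      simp only [smul_eq_mul] at hxy
      exact mul_left_cancel₀ ha0 hxy
    have h1 : IsSMulRegular A' (algebraMap A A' a) := h0.of_flat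
    rw [mem_nonZeroDivisors_iff_right]
    intro x hx
    apply h1
    simp only [smul_eq_mul]
    rw [mul_comm, hx, mul_zero]
  have haI : algebraMap A A' a ∈ I := Ideal.mem_map_of_mem _ ham
  -- I is minimal over span {φ a}
  have hmin : I ∈ (Ideal.span {algebraMap A A' a}).minimalPrimes := by
    refine ⟨⟨hprime, (Ideal.span_singleton_le_iff_mem _).mpr haI⟩, ?_⟩
    rintro q ⟨hqp, hq⟩ hqI
    haveI := hqp
    have haq : algebraMap A A' a ∈ q := (Ideal.span_singleton_le_iff_mem _).mp hq
    have hpne : q.comap (algebraMap A A') ≠ ⊥ := by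
      intro hbot
      have : a ∈ q.comap (algebraMap A A') := haq
      rw [hbot] at this
      exact ha0 this
    have hpmax : (q.comap (algebraMap A A')).IsMaximal :=
      Ideal.IsPrime.isMaximal_of_ne_bot inferInstance hpne
    have : q.comap (algebraMap A A') = m := IsLocalRing.eq_maximalIdeal hpmax
    rw [hI, Ideal.map_le_iff_le_comap, this]
  have hle : I.height ≤ 1 :=
    Ideal.height_le_one_of_isPrincipal_of_mem_minimalPrimes _ I hmin
  have hge : 1 ≤ I.height := by
    by_contra hlt
    have h0 : I.height = 0 := by
      have : I.height < 1 := not_le.mp hlt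
      exact Order.lt_one_iff.mp this
    have hmem : I ∈ minimalPrimes A' := Ideal.height_eq_zero_iff.mp h0
    have := Ideal.disjoint_nonZeroDivisors_of_mem_minimalPrimes hmem
    exact Set.disjoint_left.mp this haI hreg
  exact le_antisymm hle hge

end Helpers

/-- Let A be a Noetherian local domain of dimension 1 with maximal ideal m, A' a Noetherian local ring
and A → A' a local homomorphism which is normal (flat, with geometrically normal fibres). Then the
ideal m A' of A' is prime and the local ring of A' at m A' has dimension 1. (The remaining clauses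
of the published item, describing A' inside its total ring of fractions, are not restated.) -/
theorem result (A A' : Type u) [CommRing A] [CommRing A']
    [IsNoetherianRing A] [IsNoetherianRing A'] [IsLocalRing A] [IsLocalRing A'] [IsDomain A]
    (hA : ringKrullDim A = 1) [Algebra A A'] [IsLocalHom (algebraMap A A')] (h : EGA4.IsNormalHom A A') :
    ((IsLocalRing.maximalIdeal A).map (algebraMap A A')).IsPrime ∧
      ((IsLocalRing.maximalIdeal A).map (algebraMap A A')).height = 1 := by
  exact main A A' hA h

end Groth.Agent.S4728
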