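import Groth.Statements.S4729
import Mathlib.RingTheory.Localization.Ideal
import Mathlib.RingTheory.Support

set_option autoImplicit false
universe u
open EGA4

namespace Groth.Agent.S4729

theorem result (A : Type u) [CommRing A] (M : Type u) [AddCommGroup M] [Module A M]
    [Module.Finite A M] (p q : Ideal A) [p.IsPrime] [q.IsPrime] (hpq : p ≤ q) :
    Module.supportDim (Localization.AtPrime p) (LocalizedModule p.primeCompl M) ≤
      Module.supportDim (Localization.AtPrime q) (LocalizedModule q.primeCompl M) := by
  -- notation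
  let Ap := Localization.AtPrime p
  let Aq := Localization.AtPrime q
  -- the underlying ideal of `A` of a prime of `A_p`, and its properties
  have hund : ∀ P : PrimeSpectrum Ap, (P.asIdeal.under A).IsPrime ∧
      Disjoint (q.primeCompl : Set A) (P.asIdeal.under A) := by
    intro P
    obtain ⟨h1, h2⟩ := (IsLocalization.isPrime_iff_isPrime_disjoint p.primeCompl Ap P.asIdeal).mp P.2
    refine ⟨h1, Set.disjoint_left.mpr fun x hx hx' => ?_⟩
    exact Set.disjoint_left.mp h2 (fun hxp => hx (hpq hxp)) hx'
  let φ₀ : PrimeSpectrum Ap → PrimeSpectrum Aq := fun P =>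
    ⟨Ideal.map (algebraMap A Aq) (P.asIdeal.under A),
      IsLocalization.isPrime_of_isPrime_disjoint q.primeCompl Aq _ (hund P).1 (hund P).2⟩
  have hφ₀_under : ∀ P, (φ₀ P).asIdeal.under A = P.asIdeal.under A := fun P =>
    IsLocalization.under_map_of_isPrime_disjoint q.primeCompl Aq (hund P).1 (hund P).2
  have hmem : ∀ P : PrimeSpectrum Ap, P ∈ Module.support Ap (LocalizedModule p.primeCompl M) →
      φ₀ P ∈ Module.support Aq (LocalizedModule q.primeCompl M) := by
    intro P hP
    rw [Module.mem_support_iff'] at hP ⊢
    obtain ⟨m', hm'⟩ := hP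
    induction m' using LocalizedModule.induction_on with
    | h m s =>
    refine ⟨LocalizedModule.mk m 1, ?_⟩
    intro r hr hzero
    obtain ⟨a, t, rfl⟩ := IsLocalization.exists_mk'_eq q.primeCompl r
    rw [← Localization.mk_eq_mk'] at hzero
    erw [LocalizedModule.mk_smul_mk] at hzero
    rw [← LocalizedModule.zero_mk (t * 1), LocalizedModule.mk_eq] at hzero
    obtain ⟨u, hu⟩ := hzero
    simp only [smul_zero] at hu
    -- `a ∉ P.under A`
    have ha : a ∉ P.asIdeal.under A := by
      intro ha
      apply hr
      rw [IsLocalization.mk'_mem_iff]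
      exact Ideal.mem_map_of_mem _ ha
    have hu' : (u : A) * (t * 1 : q.primeCompl) ∉ P.asIdeal.under A := by
      intro h
      have hd := (hund P).2
      exact Set.disjoint_left.mp hd (u * (t * 1)).2 (by simpa using h)
    have hprod : (u : A) * ((t * 1 : q.primeCompl) : A) * a ∉ P.asIdeal.under A := by
      intro h
      rcases (hund P).1.mem_or_mem h with h | h
      · exact hu' h
      · exact ha h
    apply hm' (algebraMap A Ap ((u : A) * ((t * 1 : q.primeCompl) : A) * a)) hprod
    rw [algebraMap_smul, LocalizedModule.smul'_mk]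
    have : ((u : A) * ((t * 1 : q.primeCompl) : A) * a) • m = 0 := by
      rw [mul_smul, mul_smul]
      exact hu
    rw [this, LocalizedModule.zero_mk]
  let φ : Module.support Ap (LocalizedModule p.primeCompl M) →
      Module.support Aq (LocalizedModule q.primeCompl M) := fun P => ⟨φ₀ P.1, hmem P.1 P.2⟩
  have hφ : StrictMono φ := by
    intro P Q hPQ
    have hPQ' : P.1.asIdeal < Q.1.asIdeal := hPQ
    have h1 : P.1.asIdeal.under A < Q.1.asIdeal.under A :=
      (IsLocalization.orderEmbedding p.primeCompl Ap).strictMono hPQ'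
    refine lt_of_le_of_ne ?_ ?_
    · exact Ideal.map_mono (f := algebraMap A Aq) h1.le
    · intro h
      have h2 : (φ₀ P.1).asIdeal = (φ₀ Q.1).asIdeal := congrArg (fun x => x.1.asIdeal) h
      have h3 := congrArg (Ideal.under A) h2
      rw [hφ₀_under, hφ₀_under] at h3
      exact h1.ne h3
  exact Order.krullDim_le_of_strictMono φ hφ

end Groth.Agent.S4729
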