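import Groth.Statements.S4730
import Mathlib

set_option autoImplicit false
universe u
open EGA4

namespace Groth.Agent.S4730
open Polynomial

variable (A : Type u) [CommRing A]

/-- the `A/p`-algebra map `(A/p)[X] → A[X]/q`. -/
noncomputable def phi (p : Ideal A) [p.IsPrime] (q : Ideal A[X]) [q.IsPrime] [q.LiesOver p] :
    (A ⧸ p)[X] →ₐ[A ⧸ p] (A[X] ⧸ q) :=
  Polynomial.aeval (Ideal.Quotient.mk q X)

lemma phi_map (p : Ideal A) [p.IsPrime] (q : Ideal A[X]) [q.IsPrime] [q.LiesOver p] (f : A[X]) :
    phi A p q (f.map (Ideal.Quotient.mk p)) = Ideal.Quotient.mk q f := by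
  induction f using Polynomial.induction_on' with
  | add f g hf hg => simp [Polynomial.map_add, hf, hg]
  | monomial n a =>
    simp only [phi, Polynomial.map_monomial, Polynomial.aeval_monomial]
    rw [Ideal.Quotient.algebraMap_mk_of_liesOver, ← map_pow, ← map_mul]
    congr 1
    rw [Polynomial.algebraMap_apply, Algebra.algebraMap_self, RingHom.id_apply,
      Polynomial.C_mul_X_pow_eq_monomial]

lemma phi_surjective (p : Ideal A) [p.IsPrime] (q : Ideal A[X]) [q.IsPrime] [q.LiesOver p] :
    Function.Surjective (phi A p q) := by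
  intro s
  obtain ⟨f, rfl⟩ := Ideal.Quotient.mk_surjective s
  exact ⟨_, phi_map A p q f⟩

lemma trdeg_eq_one (p : Ideal A) [p.IsPrime] (q : Ideal A[X]) [q.IsPrime] [q.LiesOver p]
    (h : q = p.map C) : Algebra.trdeg (A ⧸ p) (A[X] ⧸ q) = 1 := by
  have hinj : Function.Injective (phi A p q) := by
    rw [injective_iff_map_eq_zero]
    intro g hg
    obtain ⟨f, rfl⟩ := Polynomial.map_surjective _ Ideal.Quotient.mk_surjective g
    rw [phi_map, Ideal.Quotient.eq_zero_iff_mem, h, Ideal.mem_map_C_iff] at hg
    ext n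
    simp [Ideal.Quotient.eq_zero_iff_mem, hg n]
  have e := AlgEquiv.ofBijective (phi A p q) ⟨hinj, phi_surjective A p q⟩
  rw [← e.trdeg_eq, Polynomial.trdeg_of_isDomain]

lemma trdeg_zero_of_mem (p : Ideal A) [p.IsPrime] (q : Ideal A[X]) [q.IsPrime] [q.LiesOver p]
    (f : A[X]) (hfq : f ∈ q) (hf : f.map (Ideal.Quotient.mk p) ≠ 0) :
    Algebra.trdeg (A ⧸ p) (A[X] ⧸ q) = 0 := by
  have hx : IsAlgebraic (A ⧸ p) (Ideal.Quotient.mk q X) := by
    refine ⟨f.map (Ideal.Quotient.mk p), hf, ?_⟩
    have := phi_map A p q f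
    rw [phi] at this
    rw [this, Ideal.Quotient.eq_zero_iff_mem]
    exact hfq
  have : Algebra.IsAlgebraic (A ⧸ p) (A[X] ⧸ q) := ⟨fun s => by
    obtain ⟨g, rfl⟩ := phi_surjective A p q s
    exact Algebra.isAlgebraic_adjoin_singleton_iff.mpr hx _
      (Polynomial.aeval_mem_adjoin_singleton _ _)⟩
  exact _root_.trdeg_eq_zero

attribute [local instance] Polynomial.algebra Polynomial.isLocalization in
lemma height_eq_one (B : Type u) [CommRing B] [IsDomain B] (Q : Ideal B[X]) [Q.IsPrime]
    (hQ : Q ≠ ⊥) (hQB : Q.comap C = ⊥) : Q.height = 1 := by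
  classical
  let K := FractionRing B
  have disj : Disjoint ((nonZeroDivisors B).map C : Set B[X]) (Q : Set B[X]) := by
    refine Set.disjoint_left.mpr fun a ⟨b, hb, hba⟩ ha ↦ ?_
    have hb0 : b ∈ Q.comap C := by
      rw [Ideal.mem_comap]
      change C b = a at hba
      rw [hba]; exact ha
    rw [hQB, Ideal.mem_bot] at hb0
    exact nonZeroDivisors.ne_zero hb hb0
  rw [← IsLocalization.height_map_of_disjoint (S := K[X]) ((nonZeroDivisors B).map C) Q disj]
  have hp : (Q.map (algebraMap B[X] K[X])).IsPrime :=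
    IsLocalization.isPrime_of_isPrime_disjoint ((nonZeroDivisors B).map C) K[X] Q ‹_› disj
  have hinj : Function.Injective (algebraMap B[X] K[X]) :=
    Polynomial.map_injective _ (IsFractionRing.injective B K)
  have hne : Q.map (algebraMap B[X] K[X]) ≠ ⊥ := by
    rw [Ne, Ideal.map_eq_bot_iff_of_injective hinj]
    exact hQ
  have : (Q.map (algebraMap B[X] K[X])).IsMaximal := IsPrime.to_maximal_ideal hne
  exact IsPrincipalIdealRing.height_eq_one_of_isMaximal _ (Polynomial.not_isField K)


open Polynomial in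
/-- Let A be a Noetherian ring, p a prime ideal of A and q a prime ideal of the polynomial ring A[T]
lying over p. Then ht(p) + 1 = ht(q) + deg.tr_{κ(p)} κ(q), the transcendence degree being that of
the domain A[T]/q over the domain A/p. -/
theorem result (A : Type u) [CommRing A] [IsNoetherianRing A]
    (p : Ideal A) [p.IsPrime] (q : Ideal A[X]) [q.IsPrime] [q.LiesOver p] :
    (p.height : Cardinal.{u}) + 1 = (q.height : Cardinal.{u}) + Algebra.trdeg (A ⧸ p) (A[X] ⧸ q) := by
  have hht := Ideal.height_eq_height_add_of_liesOver_of_hasGoingDown p q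
  have hIq : p.map (algebraMap A A[X]) ≤ q := by
    rw [Ideal.map_le_iff_le_comap, ← Ideal.under_def, ← Ideal.LiesOver.over (P := q) (p := p)]
  have hker : RingHom.ker (Ideal.Quotient.mk (p.map (algebraMap A A[X]))) ≤ q := by
    rw [Ideal.mk_ker]; exact hIq
  by_cases h : q = p.map C
  · have h1 : q.map (Ideal.Quotient.mk (p.map (algebraMap A A[X]))) = ⊥ := by
      rw [Ideal.map_eq_bot_iff_le_ker, Ideal.mk_ker]; exact h.le
    have : Nontrivial (A[X] ⧸ (p.map (algebraMap A A[X]))) :=
      Ideal.Quotient.nontrivial_iff.mpr (fun htop => (‹q.IsPrime›).ne_top (top_le_iff.mp (htop ▸ hIq)))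
    rw [h1, Ideal.height_bot, add_zero] at hht
    rw [trdeg_eq_one A p q h, hht]
  · obtain ⟨f, hfq, hf⟩ : ∃ f ∈ q, f.map (Ideal.Quotient.mk p) ≠ 0 := by
      by_contra hcon
      push Not at hcon
      apply h
      refine le_antisymm ?_ hIq
      intro f hf
      rw [Ideal.mem_map_C_iff]
      intro n
      have := hcon f hf
      have h2 := congrArg (fun g => g.coeff n) this
      simpa [Ideal.Quotient.eq_zero_iff_mem] using h2
    rw [trdeg_zero_of_mem A p q f hfq hf, add_zero]
    let e := (Ideal.polynomialQuotientEquivQuotientPolynomial p).symm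
    have hqbar : (q.map (Ideal.Quotient.mk (p.map (algebraMap A A[X])))).IsPrime :=
      Ideal.map_isPrime_of_surjective Ideal.Quotient.mk_surjective hker
    have : ((q.map (Ideal.Quotient.mk (p.map (algebraMap A A[X])))).map e).IsPrime :=
      Ideal.map_isPrime_of_equiv e
    have hmem : ∀ g : A[X], g.map (Ideal.Quotient.mk p) ∈
        (q.map (Ideal.Quotient.mk (p.map (algebraMap A A[X])))).map e → g ∈ q := by
      intro g hg
      rw [← Ideal.polynomialQuotientEquivQuotientPolynomial_symm_mk] at hg
      obtain ⟨x, hx, hxe⟩ := (Ideal.mem_map_of_equiv e _).mp hg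
      have hxg : x = Ideal.Quotient.mk (p.map C) g := e.injective hxe
      rw [hxg] at hx
      exact (Ideal.mem_quotient_iff_mem hIq).mp hx
    have h1 : ((q.map (Ideal.Quotient.mk (p.map (algebraMap A A[X])))).map e).height = 1 := by
      apply height_eq_one
      · intro hbot
        apply hf
        have : f.map (Ideal.Quotient.mk p) ∈
            (q.map (Ideal.Quotient.mk (p.map (algebraMap A A[X])))).map e := by
          rw [← Ideal.polynomialQuotientEquivQuotientPolynomial_symm_mk]
          exact Ideal.mem_map_of_mem _ (Ideal.mem_map_of_mem _ hfq)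
        rwa [hbot, Ideal.mem_bot] at this
      · rw [eq_bot_iff]
        intro b hb
        obtain ⟨a, rfl⟩ := Ideal.Quotient.mk_surjective b
        rw [Ideal.mem_comap] at hb
        have : C (Ideal.Quotient.mk p a) = (C a).map (Ideal.Quotient.mk p) := by simp
        rw [this] at hb
        have := hmem _ hb
        have ha : a ∈ p := by
          rw [Ideal.LiesOver.over (P := q) (p := p), Ideal.under_def, Ideal.mem_comap]
          exact this
        rw [Ideal.mem_bot, Ideal.Quotient.eq_zero_iff_mem]
        exact ha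
    rw [e.height_map] at h1
    rw [h1] at hht
    rw [hht]
    simp [Cardinal.ofENat_add]

end Groth.Agent.S4730
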