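import Groth.Statements.S4731
import Mathlib

set_option autoImplicit false
universe u
open EGA4

namespace Groth.Agent.S4731

theorem isNoetherian_of_torsionBy {S M : Type*} [CommRing S] [AddCommGroup M] [Module S M]
    (c : Ideal S) (hM : Module.IsTorsionBySet S M c) [IsNoetherianRing (S ⧸ c)]
    [Module.Finite S M] : IsNoetherian S M := by
  let _ := hM.module
  have : IsScalarTower S (S ⧸ c) M := hM.isScalarTower
  have : Module.Finite (S ⧸ c) M := Module.Finite.of_restrictScalars_finite S (S ⧸ c) M
  have hN : IsNoetherian (S ⧸ c) M := isNoetherian_of_isNoetherianRing_of_finite (S ⧸ c) M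
  exact (hM.semilinearMap.isNoetherian_iff_of_bijective Function.bijective_id).mpr hN

/-- Let S → R be an injective homomorphism of commutative rings making R a finite S-module, with R
Noetherian; let c be the conductor of S in R, the ideal of those s in S with s R contained in (the
image of) S. If S/c is Noetherian, then every increasing sequence of ideals of S contained in c is
eventually constant. -/
theorem result (S R : Type u) [CommRing S] [CommRing R] [Algebra S R]
    [FaithfulSMul S R] [IsNoetherianRing R] [Module.Finite S R] (c : Ideal S)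
    (hc : ∀ s : S, s ∈ c ↔ ∀ r : R, ∃ s' : S, algebraMap S R s' = algebraMap S R s * r)
    [IsNoetherianRing (S ⧸ c)] (a : ℕ →o Ideal S) (ha : ∀ n, a n ≤ c) :
    ∃ N : ℕ, ∀ n, N ≤ n → a n = a N := by
  classical
  have hinj : Function.Injective (algebraMap S R) := FaithfulSMul.algebraMap_injective S R
  -- closure of `c` under multiplication by `R`
  have hcR : ∀ s ∈ c, ∀ r : R, ∃ s' ∈ c, algebraMap S R s' = algebraMap S R s * r := by
    intro s hs r
    obtain ⟨s', hs'⟩ := (hc s).mp hs r
    refine ⟨s', (hc s').mpr fun r' => ?_, hs'⟩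
    obtain ⟨s'', hs''⟩ := (hc s).mp hs (r * r')
    exact ⟨s'', by rw [hs'', hs', mul_assoc]⟩
  -- Step 1: the extensions to `R` stabilise
  let e : ℕ →o Ideal R :=
    ⟨fun n => (a n).map (algebraMap S R), fun m n h => Ideal.map_mono (a.monotone h)⟩
  obtain ⟨N1, hN1⟩ :=
    monotone_stabilizes_iff_noetherian.mpr (inferInstance : IsNoetherian R R) e
  let b : Submodule S R := ((a N1).map (algebraMap S R)).restrictScalars S
  let P : Submodule S R := c • b
  let A : ℕ → Submodule S R := fun n => Submodule.map (Algebra.linearMap S R) (a n)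
  have hAmono : Monotone A := fun m n h => Submodule.map_mono (a.monotone h)
  have hAb : ∀ n, N1 ≤ n → A n ≤ b := by
    rintro n hn _ ⟨x, hx, rfl⟩
    show algebraMap S R x ∈ (a N1).map (algebraMap S R)
    have : e N1 = e n := hN1 n hn
    show algebraMap S R x ∈ e N1
    rw [this]
    exact Ideal.mem_map_of_mem _ hx
  have hPA : ∀ n, N1 ≤ n → P ≤ A n := by
    intro n hn
    refine Submodule.smul_le.mpr ?_
    intro s hs y hy
    have hy' : y ∈ (a n).map (algebraMap S R) := by
      have : e N1 = e n := hN1 n hn
      show y ∈ e n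
      rw [← this]
      exact hy
    have key : ∀ y ∈ (a n).map (algebraMap S R), ∀ s ∈ c, s • y ∈ A n := by
      intro y hy
      refine Submodule.span_induction ?_ ?_ ?_ ?_ hy
      · rintro _ ⟨x, hx, rfl⟩ s _
        refine ⟨s * x, (a n).mul_mem_left s hx, ?_⟩
        simp [Algebra.smul_def]
      · intro s _
        rw [smul_zero]
        exact (A n).zero_mem
      · intro y z _ _ hy hz s hs
        rw [smul_add]
        exact (A n).add_mem (hy s hs) (hz s hs)
      · intro r y _ hy s hs
        obtain ⟨s', hs'c, hs'⟩ := hcR s hs r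
        have : s • (r • y) = s' • y := by
          rw [Algebra.smul_def s, Algebra.smul_def s', hs', smul_eq_mul, mul_assoc]
        rw [this]
        exact hy s' hs'c
    exact key y hy' s hs
  -- Step 2: the quotient `b / c b` is a Noetherian `S`-module
  let Bbar : Submodule S (R ⧸ P) := b.map P.mkQ
  have hfg : b.FG := by
    have h1 : Module.Finite R ((a N1).map (algebraMap S R)) :=
      Module.IsNoetherian.finite R _
    have h2 : Module.Finite S ((a N1).map (algebraMap S R)) := Module.Finite.trans R _
    exact Module.Finite.iff_fg.mp h2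
  have hBfin : Module.Finite S Bbar := Module.Finite.iff_fg.mpr (hfg.map _)
  have htors : Module.IsTorsionBySet S Bbar c := by
    rintro ⟨x, hx⟩ ⟨s, hs⟩
    obtain ⟨y, hy, rfl⟩ := hx
    apply Subtype.ext
    show s • P.mkQ y = 0
    rw [← map_smul, Submodule.mkQ_apply, Submodule.Quotient.mk_eq_zero]
    exact Submodule.smul_mem_smul hs hy
  have hBnoeth : IsNoetherian S Bbar := isNoetherian_of_torsionBy c htors
  -- Step 3: the chain of images stabilises
  let f : ℕ →o Submodule S Bbar :=
    ⟨fun n => Submodule.comap Bbar.subtype ((A (N1 + n)).map P.mkQ), fun m n h =>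
      Submodule.comap_mono (Submodule.map_mono (hAmono (Nat.add_le_add_left h N1)))⟩
  obtain ⟨N2, hN2⟩ := monotone_stabilizes_iff_noetherian.mpr hBnoeth f
  refine ⟨N1 + N2, fun n hn => ?_⟩
  obtain ⟨k, rfl⟩ := Nat.exists_eq_add_of_le hn
  have hk : f N2 = f (N2 + k) := hN2 (N2 + k) (Nat.le_add_right _ _)
  have himg : ∀ m, (A (N1 + m)).map P.mkQ = Submodule.map Bbar.subtype (f m) := by
    intro m
    show _ = Submodule.map Bbar.subtype (Submodule.comap Bbar.subtype ((A (N1 + m)).map P.mkQ))
    rw [Submodule.map_comap_subtype, inf_eq_right.mpr]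
    exact Submodule.map_mono (hAb _ (Nat.le_add_right _ _))
  have hA : ∀ m, A (N1 + m) = Submodule.comap P.mkQ ((A (N1 + m)).map P.mkQ) := by
    intro m
    rw [Submodule.comap_map_mkQ, sup_eq_right.mpr (hPA _ (Nat.le_add_right _ _))]
  have hAeq : A (N1 + N2 + k) = A (N1 + N2) := by
    rw [add_assoc, hA (N2 + k), hA N2, himg, himg, hk]
  exact Submodule.map_injective_of_injective (f := Algebra.linearMap S R) hinj hAeq

end Groth.Agent.S4731
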