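import Groth.Statements.S4732
import Mathlib.RingTheory.RegularLocalRing.Polynomial
import Mathlib.AlgebraicGeometry.Morphisms.ClosedImmersion
import Mathlib.AlgebraicGeometry.Morphisms.Immersion

set_option autoImplicit false
universe u
open EGA4

namespace Groth.Agent.S4732

open AlgebraicGeometry CategoryTheory

/-- Every stalk of the spectrum of a regular ring is a regular local ring. -/
theorem isRegularLocalRing_stalk_Spec (R : Type u) [CommRing R] [IsRegularRing R]
    (y : Spec (CommRingCat.of R)) :
    IsRegularLocalRing ((Spec (CommRingCat.of R)).presheaf.stalk y) := by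
  have : IsLocalization.AtPrime ((Spec.structureSheaf R).presheaf.stalk y) y.asIdeal :=
    inferInstance
  let e : Localization.AtPrime y.asIdeal ≃ₐ[R] ((Spec.structureSheaf R).presheaf.stalk y) :=
    IsLocalization.algEquiv y.asIdeal.primeCompl _ _
  exact IsRegularLocalRing.of_ringEquiv e.toRingEquiv

/-- An affine scheme of finite type over a field embeds as a closed subscheme of an affine space. -/
theorem exists_closedImmersion_affineSpace (k : Type u) [Field k] {W : Scheme.{u}} [IsAffine W]
    (h : W ⟶ Spec (CommRingCat.of k)) [LocallyOfFiniteType h] :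
    ∃ (n : ℕ) (i : W ⟶ Spec (CommRingCat.of (MvPolynomial (Fin n) k))),
      IsClosedImmersion i ∧ i ≫ Spec.map (CommRingCat.ofHom (MvPolynomial.C)) = h := by
  have hft : (h.appTop).hom.FiniteType :=
    (HasRingHomProperty.iff_of_isAffine (P := @LocallyOfFiniteType)).mp inferInstance
  let ψ : k →+* Γ(W, ⊤) := ((Scheme.ΓSpecIso (CommRingCat.of k)).inv ≫ h.appTop).hom
  have hψ : ψ.FiniteType := by
    have h0 : ((Scheme.ΓSpecIso (CommRingCat.of k)).inv).hom.FiniteType :=
      RingHom.FiniteType.of_surjective _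
        (Scheme.ΓSpecIso (CommRingCat.of k)).symm.commRingCatIsoToRingEquiv.surjective
    exact hft.comp h0
  algebraize [ψ]
  obtain ⟨n, φ, hφ⟩ := Algebra.FiniteType.iff_quotient_mvPolynomial''.mp
    (inferInstance : Algebra.FiniteType k Γ(W, ⊤))
  refine ⟨n, W.isoSpec.hom ≫ Spec.map (CommRingCat.ofHom φ.toRingHom), ?_, ?_⟩
  · have : IsClosedImmersion (Spec.map (CommRingCat.ofHom φ.toRingHom)) :=
      IsClosedImmersion.spec_of_surjective _ hφ
    infer_instance
  · rw [Category.assoc, ← Spec.map_comp]
    have h1 : CommRingCat.ofHom (MvPolynomial.C (σ := Fin n) (R := k)) ≫ CommRingCat.ofHom φ.toRingHom =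
        (Scheme.ΓSpecIso (CommRingCat.of k)).inv ≫ h.appTop := by
      ext a
      exact φ.commutes a
    rw [h1, Spec.map_comp, ← Category.assoc, Scheme.isoSpec_hom_naturality h, Category.assoc,
      Scheme.isoSpec_Spec_hom, ← Spec.map_comp, Iso.inv_hom_id, Spec.map_id, Category.comp_id]

open AlgebraicGeometry CategoryTheory in
/-- Let k be a field, X a scheme locally of finite type over k and x a point of X. Then there are an
open neighbourhood U of x, a k-scheme Y all of whose local rings are regular, and an immersion U → Y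
compatible with the structure morphisms to Spec k. -/
theorem result (k : Type u) [Field k] {X : Scheme.{u}}
    (f : X ⟶ Spec (CommRingCat.of k)) [LocallyOfFiniteType f] (x : X) :
    ∃ (U : X.Opens) (_ : x ∈ U) (Y : Scheme.{u}) (g : Y ⟶ Spec (CommRingCat.of k)) (i : (U : Scheme.{u}) ⟶ Y),
      IsImmersion i ∧ i ≫ g = U.ι ≫ f ∧ ∀ y : Y, IsRegularLocalRing (Y.presheaf.stalk y) := by
  have key : ∃ U : X.Opens, IsAffineOpen U ∧ x ∈ U := by
    obtain ⟨_, ⟨U, hU, rfl⟩, hxU, -⟩ :=
      X.isBasis_affineOpens.exists_subset_of_mem_open (Set.mem_univ x) isOpen_univ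
    exact ⟨U, hU, hxU⟩
  obtain ⟨U, hU, hxU⟩ := key
  have : IsAffine (U : Scheme.{u}) := hU
  obtain ⟨n, i, hi, hcomp⟩ := exists_closedImmersion_affineSpace k (U.ι ≫ f)
  refine ⟨U, hxU, Spec (CommRingCat.of (MvPolynomial (Fin n) k)),
    Spec.map (CommRingCat.ofHom (MvPolynomial.C)), i, inferInstance, hcomp, ?_⟩
  intro y
  exact isRegularLocalRing_stalk_Spec _ y

end Groth.Agent.S4732
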