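import Groth.Statements.S4734
import Groth.Agent.Lib.H74NF5

set_option autoImplicit false
universe u
open EGA4

namespace Groth.Agent.S4734

/-- Let A be a Noetherian ring, I a nilpotent ideal of A and M a finite A-module whose support is all of
Spec A and which is normally flat along I. Then for every prime p of A: M satisfies Serre's
condition (S_n) at p if and only if the A-module A/I does; and the codepth of M_p is at most n if
and only if the codepth of the A_p-module (A/I)_p is at most n (codepth written additively as dim ≤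
depth + n). -/
theorem result (n : ℕ) (A : Type u) [CommRing A] [IsNoetherianRing A]
    (I : Ideal A) (hI : IsNilpotent I) (M : Type u) [AddCommGroup M] [Module A M] [Module.Finite A M]
    (hsupp : Module.support A M = Set.univ) (hM : EGA4.IsNormallyFlat I M) (p : Ideal A) [p.IsPrime] :
    (EGA4.HasSkAt n A M p ↔ EGA4.HasSkAt n A (A ⧸ I) p) ∧
      (Module.supportDim (Localization.AtPrime p) (LocalizedModule p.primeCompl M) ≤
          ((LocCoh.depth (Localization.AtPrime p) (LocalizedModule p.primeCompl M) : ℕ∞) : WithBot ℕ∞) + n ↔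
        Module.supportDim (Localization.AtPrime p) (LocalizedModule p.primeCompl (A ⧸ I)) ≤
          ((LocCoh.depth (Localization.AtPrime p) (LocalizedModule p.primeCompl (A ⧸ I)) : ℕ∞) : WithBot ℕ∞) + n) := by
  obtain ⟨K, hK⟩ := id hI
  have hK' : I ^ K = ⊥ := hK
  have hsupp' : Module.support A M = Module.support A (A ⧸ I) := by
    rw [hsupp]
    ext q
    simp only [Set.mem_univ, true_iff]
    exact Groth.Agent.Lib.H74NF.mem_support_quotient I q
      (Groth.Agent.Lib.H74NF.le_of_pow_eq_bot I K hK' q)
  have hdm : ∀ (t : Ideal A) [ht : t.IsPrime],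
      Module.supportDim (Localization.AtPrime t) (LocalizedModule t.primeCompl M) =
        Module.supportDim (Localization.AtPrime t) (LocalizedModule t.primeCompl (A ⧸ I)) :=
    fun t ht => Groth.Agent.Lib.H74NF.dm_eq_of_support_eq M (A ⧸ I) hsupp' ⟨t, ht⟩
  have hdp : ∀ (t : Ideal A) [ht : t.IsPrime],
      LocCoh.depth (Localization.AtPrime t) (LocalizedModule t.primeCompl M) =
        LocCoh.depth (Localization.AtPrime t) (LocalizedModule t.primeCompl (A ⧸ I)) := by
    intro t ht
    have hmem : (⟨t, ht⟩ : PrimeSpectrum A) ∈ Module.support A M := by rw [hsupp]; trivial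
    have hnt : Nontrivial (LocalizedModule (⟨t, ht⟩ : PrimeSpectrum A).asIdeal.primeCompl M) :=
      Module.mem_support_iff.mp hmem
    exact Groth.Agent.Lib.H74NF.dp_eq_of_isNormallyFlat I M hI hM ⟨t, ht⟩
  refine ⟨?_, ?_⟩
  · rw [Groth.Agent.Lib.H74SkTensor.hasSkAt_iff, Groth.Agent.Lib.H74SkTensor.hasSkAt_iff]
    unfold Groth.Agent.Lib.H74SkTensor.SkIneq
    constructor
    · intro h t ht htp
      rw [← hdm t, ← hdp t]
      exact h t htp
    · intro h t ht htp
      rw [hdm t, hdp t]
      exact h t htp
  · rw [hdm p, hdp p]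

end Groth.Agent.S4734
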