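import Groth.Statements.S4737
import Groth.Agent.Lib.FormalFibreQuotient96
-- import your own Groth.Agent.* helpers here

set_option autoImplicit false
universe u
open EGA4

namespace Groth.Agent.S4737

/-- The property 'geometrically regular', case of a local ring: let A be a Noetherian local ring whose
completion map A → Â is regular (the formal fibres of A are geometrically regular). Then for every
proper ideal I of A, the completion map of the local ring A/I is regular. -/
theorem result (A : Type u) [CommRing A] [IsNoetherianRing A] [IsLocalRing A]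
    (hA : CAlg.IsRegularHom A (EGA4.Cpl A)) (I : Ideal A) [Nontrivial (A ⧸ I)] :
    CAlg.IsRegularHom (A ⧸ I) (EGA4.Cpl (A ⧸ I)) := by
  obtain ⟨alg, tower, hpo⟩ := Groth.Agent.Lib.FormalFibreQuotient96.exists_isPushout A I
  have hso : (algebraMap A (A ⧸ I)).SurjectiveOnStalks :=
    RingHom.surjectiveOnStalks_of_surjective Ideal.Quotient.mk_surjective
  obtain ⟨hflat, hfib⟩ := hA
  constructor
  · infer_instance
  · intro p' _
    have hreg := Groth.Agent.Lib.FibreBaseChangeApps.isGeometricallyRegular_fiber_of_surjectiveOnStalks
      A (A ⧸ I) (EGA4.Cpl A) (EGA4.Cpl (A ⧸ I)) hso p' (hfib (p'.comap (algebraMap A (A ⧸ I)))).2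
    exact ⟨Groth.Agent.Lib.FibreBaseChangeApps.isNoetherianRing_of_isGeometricallyRegular _ _ hreg, hreg⟩

end Groth.Agent.S4737
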