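import Groth.Statements.S4738
import Groth.Agent.Lib.FormalFibreQuotient96
import Groth.Agent.Lib.FibreBaseChange2
import Groth.Agent.Lib.GeomReducedFibres
-- import your own Groth.Agent.* helpers here

set_option autoImplicit false
universe u
open EGA4

namespace Groth.Agent.S4738

/-- For the property 'geometrically reduced', case of a local ring: if the formal fibres of a Noetherian
local ring A are geometrically reduced, then so are the formal fibres of A/I for every proper ideal
I of A. -/
theorem result (A : Type u) [CommRing A] [IsNoetherianRing A] [IsLocalRing A]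
    (hA : EGA4.HasGeomReducedFormalFibres A) (I : Ideal A) [Nontrivial (A ⧸ I)] :
    EGA4.HasGeomReducedFormalFibres (A ⧸ I) := by
  obtain ⟨alg, tower, hpo⟩ := Groth.Agent.Lib.FormalFibreQuotient96.exists_isPushout A I
  intro p' _
  rw [Algebra.isGeometricallyReduced_field_iff]
  obtain ⟨inst, -, ⟨e⟩⟩ := Groth.Agent.Lib.FibreBaseChange2.exists_algebra_ringEquiv_fibre A (A ⧸ I)
    (EGA4.Cpl A) (EGA4.Cpl (A ⧸ I)) p' (AlgebraicClosure p'.ResidueField)
  have h1 : Algebra.IsGeometricallyReduced (p'.comap (algebraMap A (A ⧸ I))).ResidueField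
      ((p'.comap (algebraMap A (A ⧸ I))).Fiber (EGA4.Cpl A)) := hA (p'.comap (algebraMap A (A ⧸ I)))
  have h2 := Groth.Agent.Lib.GeomReducedFibres.isReduced_tensorProduct_of_isGeometricallyReduced
    (p'.comap (algebraMap A (A ⧸ I))).ResidueField
    ((p'.comap (algebraMap A (A ⧸ I))).Fiber (EGA4.Cpl A)) (AlgebraicClosure p'.ResidueField)
  exact isReduced_of_injective e e.injective

end Groth.Agent.S4738
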