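import Groth.Statements.S4739
import Groth.Agent.Lib.H14AdicLocal

set_option autoImplicit false
universe u
open EGA4

namespace Groth.Agent.S4739

open TensorProduct in
/-- Let A → B be a local homomorphism of Noetherian local rings and Â the completion of A, and suppose
B' = B ⊗_A Â is Noetherian. Then for every prime ideal n' of B' lying over the maximal ideal of B
and containing the image of the maximal ideal of A through Â (that is, lying over the maximal ideal
m_A Â of Â), the completion of B and the completion of the local ring B'_{n'} are isomorphic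
(existence of a ring isomorphism only). -/
theorem result (A B : Type u) [CommRing A] [CommRing B] [IsNoetherianRing A]
    [IsNoetherianRing B] [IsLocalRing A] [IsLocalRing B] [Algebra A B] [IsLocalHom (algebraMap A B)]
    [IsNoetherianRing (B ⊗[A] EGA4.Cpl A)] (n' : Ideal (B ⊗[A] EGA4.Cpl A)) [n'.IsPrime]
    (h1 : n'.comap (algebraMap B (B ⊗[A] EGA4.Cpl A)) = IsLocalRing.maximalIdeal B)
    (h2 : (IsLocalRing.maximalIdeal A).map
        ((Algebra.TensorProduct.includeRight.toRingHom : EGA4.Cpl A →+* B ⊗[A] EGA4.Cpl A).comp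
          (algebraMap A (EGA4.Cpl A))) ≤ n') :
    Nonempty (EGA4.Cpl B ≃+* EGA4.Cpl (Localization.AtPrime n')) := by
  classical
  have hfgA : (IsLocalRing.maximalIdeal A).FG :=
    (isNoetherianRing_iff_ideal_fg A).1 inferInstance _
  set J : Ideal (B ⊗[A] EGA4.Cpl A) :=
    (IsLocalRing.maximalIdeal B).map (algebraMap B (B ⊗[A] EGA4.Cpl A)) with hJ
  have hJn : J ≤ n' := by
    rw [hJ, Ideal.map_le_iff_le_comap, h1]
  -- tensors `b ⊗ e` with `e ∈ 𝔪_A Â` lie in `J`
  have hstep : ∀ (b : B) (e : EGA4.Cpl A),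
      e ∈ (IsLocalRing.maximalIdeal A).map (algebraMap A (EGA4.Cpl A)) → b ⊗ₜ[A] e ∈ J := by
    intro b e he
    refine Submodule.span_induction (p := fun e _ => b ⊗ₜ[A] e ∈ J) ?_ ?_ ?_ ?_ he
    · rintro _ ⟨a, ha, rfl⟩
      have h3 : b ⊗ₜ[A] (algebraMap A (EGA4.Cpl A) a) =
          algebraMap B (B ⊗[A] EGA4.Cpl A) (algebraMap A B a * b) := by
        rw [Algebra.TensorProduct.algebraMap_apply, Algebra.algebraMap_self, RingHom.id_apply,
          Algebra.algebraMap_eq_smul_one, ← TensorProduct.smul_tmul, Algebra.smul_def]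
      rw [h3]
      refine Ideal.mem_map_of_mem _ (Ideal.mul_mem_right _ _ ?_)
      exact (IsLocalRing.map_maximalIdeal_le (algebraMap A B)) (Ideal.mem_map_of_mem _ ha)
    · rw [TensorProduct.tmul_zero]; exact J.zero_mem
    · intro x y _ _ hx hy
      rw [TensorProduct.tmul_add]; exact J.add_mem hx hy
    · intro c x _ hx
      have h3 : b ⊗ₜ[A] (c • x) = ((1 : B) ⊗ₜ[A] c) * (b ⊗ₜ[A] x) := by
        rw [Algebra.TensorProduct.tmul_mul_tmul, one_mul, smul_eq_mul]
      rw [h3]
      exact J.mul_mem_left _ hx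
  -- `B → B'/J` is surjective
  have hsurj : ∀ y : B ⊗[A] EGA4.Cpl A, ∃ b : B,
      y - algebraMap B (B ⊗[A] EGA4.Cpl A) b ∈ J := by
    intro y
    induction y using TensorProduct.induction_on with
    | zero => exact ⟨0, by simp⟩
    | tmul b c =>
      obtain ⟨a, ha⟩ := Groth.Agent.Lib.H14AdicLocal.exists_sub_mem_map A
        (IsLocalRing.maximalIdeal A) hfgA c
      refine ⟨algebraMap A B a * b, ?_⟩
      have h3 : b ⊗ₜ[A] c - algebraMap B (B ⊗[A] EGA4.Cpl A) (algebraMap A B a * b) =
          b ⊗ₜ[A] (c - algebraMap A (EGA4.Cpl A) a) := by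
        rw [TensorProduct.tmul_sub, Algebra.TensorProduct.algebraMap_apply, Algebra.algebraMap_self,
          RingHom.id_apply, Algebra.algebraMap_eq_smul_one (R := A) (A := EGA4.Cpl A),
          ← TensorProduct.smul_tmul, Algebra.smul_def]
      rw [h3]
      exact hstep b _ ha
    | add x y hx hy =>
      obtain ⟨b1, hb1⟩ := hx
      obtain ⟨b2, hb2⟩ := hy
      refine ⟨b1 + b2, ?_⟩
      have : x + y - algebraMap B (B ⊗[A] EGA4.Cpl A) (b1 + b2) =
          (x - algebraMap B (B ⊗[A] EGA4.Cpl A) b1) + (y - algebraMap B (B ⊗[A] EGA4.Cpl A) b2) := by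
        rw [map_add]; ring
      rw [this]
      exact J.add_mem hb1 hb2
  -- `n' = J`
  have hnJ : n' = J := by
    refine le_antisymm (fun y hy => ?_) hJn
    obtain ⟨b, hb⟩ := hsurj y
    have hb' : algebraMap B (B ⊗[A] EGA4.Cpl A) b ∈ n' := by
      have := n'.sub_mem hy (hJn hb)
      rwa [sub_sub_cancel] at this
    have hbm : b ∈ IsLocalRing.maximalIdeal B := by
      rw [← h1]; exact hb'
    have := J.add_mem hb (Ideal.mem_map_of_mem (algebraMap B (B ⊗[A] EGA4.Cpl A)) hbm)
    rwa [sub_add_cancel] at this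
  -- `n'` is maximal
  haveI hmaxn : n'.IsMaximal := by
    rw [Ideal.isMaximal_iff]
    refine ⟨fun h => (Ideal.IsPrime.ne_top inferInstance) ((Ideal.eq_top_iff_one n').2 h), ?_⟩
    intro K y hK hy hyK
    obtain ⟨b, hb⟩ := hsurj y
    have hbK : algebraMap B (B ⊗[A] EGA4.Cpl A) b ∈ K := by
      have := K.sub_mem hyK (hK (hJn hb))
      rwa [sub_sub_cancel] at this
    have hbu : IsUnit b := by
      by_contra hbn
      have hbm : b ∈ IsLocalRing.maximalIdeal B := (IsLocalRing.mem_maximalIdeal b).2 hbn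
      have hb' : algebraMap B (B ⊗[A] EGA4.Cpl A) b ∈ n' := by
        have : b ∈ n'.comap (algebraMap B (B ⊗[A] EGA4.Cpl A)) := by rw [h1]; exact hbm
        exact this
      have := n'.add_mem (hJn hb) hb'
      rw [sub_add_cancel] at this
      exact hy this
    have := K.mul_mem_left (algebraMap B (B ⊗[A] EGA4.Cpl A) (↑hbu.unit⁻¹ : B)) hbK
    rwa [← map_mul, IsUnit.val_inv_mul, map_one] at this
  -- the local homomorphism `B → B'_{n'}`
  haveI : IsNoetherianRing (Localization.AtPrime n') :=
    IsLocalization.isNoetherianRing n'.primeCompl _ inferInstance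
  haveI hloc : IsLocalHom (algebraMap B (Localization.AtPrime n')) := by
    refine ⟨fun b hb => ?_⟩
    by_contra hbn
    have hbm : b ∈ IsLocalRing.maximalIdeal B := (IsLocalRing.mem_maximalIdeal b).2 hbn
    have hb' : algebraMap B (B ⊗[A] EGA4.Cpl A) b ∈ n' := by
      have : b ∈ n'.comap (algebraMap B (B ⊗[A] EGA4.Cpl A)) := by rw [h1]; exact hbm
      exact this
    rw [IsScalarTower.algebraMap_apply B (B ⊗[A] EGA4.Cpl A) (Localization.AtPrime n'),
      IsLocalization.AtPrime.isUnit_to_map_iff (Localization.AtPrime n') n'] at hb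
    exact hb hb'
  haveI : Module.Flat A (EGA4.Cpl A) := AdicCompletion.flat_of_isNoetherian _
  haveI : Module.Flat B (B ⊗[A] EGA4.Cpl A) := inferInstance
  haveI : Module.Flat (B ⊗[A] EGA4.Cpl A) (Localization.AtPrime n') :=
    IsLocalization.flat _ n'.primeCompl
  haveI : Module.Flat B (Localization.AtPrime n') :=
    Module.Flat.trans B (B ⊗[A] EGA4.Cpl A) (Localization.AtPrime n')
  have hmaxS : (IsLocalRing.maximalIdeal B).map (algebraMap B (Localization.AtPrime n')) =
      IsLocalRing.maximalIdeal (Localization.AtPrime n') := by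
    rw [IsScalarTower.algebraMap_eq B (B ⊗[A] EGA4.Cpl A) (Localization.AtPrime n'),
      ← Ideal.map_map, ← hJ, ← hnJ, Localization.AtPrime.map_eq_maximalIdeal]
  have hresS : ∀ y : Localization.AtPrime n', ∃ b : B,
      y - algebraMap B (Localization.AtPrime n') b ∈
        IsLocalRing.maximalIdeal (Localization.AtPrime n') := by
    intro y
    obtain ⟨c, hc⟩ : ∃ c : B ⊗[A] EGA4.Cpl A,
        y - algebraMap _ _ c ∈ IsLocalRing.maximalIdeal (Localization.AtPrime n') := by
      obtain ⟨c, hc⟩ := (IsLocalization.AtPrime.equivQuotMaximalIdeal n'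
        (Localization.AtPrime n')).surjective (Ideal.Quotient.mk _ y)
      obtain ⟨c, rfl⟩ := Ideal.Quotient.mk_surjective c
      refine ⟨c, ?_⟩
      have hq : Ideal.Quotient.mk (IsLocalRing.maximalIdeal (Localization.AtPrime n')) y =
          Ideal.Quotient.mk (IsLocalRing.maximalIdeal (Localization.AtPrime n'))
            (algebraMap (B ⊗[A] EGA4.Cpl A) (Localization.AtPrime n') c) := by
        rw [← hc]
        rfl
      exact Ideal.Quotient.eq.1 hq
    obtain ⟨b, hb⟩ := hsurj c
    refine ⟨b, ?_⟩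
    have : y - algebraMap B (Localization.AtPrime n') b =
        (y - algebraMap (B ⊗[A] EGA4.Cpl A) _ c) +
          algebraMap (B ⊗[A] EGA4.Cpl A) (Localization.AtPrime n')
            (c - algebraMap B (B ⊗[A] EGA4.Cpl A) b) := by
      rw [IsScalarTower.algebraMap_apply B (B ⊗[A] EGA4.Cpl A) (Localization.AtPrime n'), map_sub]
      ring
    rw [this]
    refine add_mem hc ?_
    rw [← Localization.AtPrime.map_eq_maximalIdeal]
    exact Ideal.mem_map_of_mem _ (hJn hb)
  exact ⟨RingEquiv.ofBijective _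
    (Groth.Agent.Lib.H14AdicLocal.cplMap_bijective B (Localization.AtPrime n') hmaxS hresS)⟩

end Groth.Agent.S4739
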