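import Groth.Statements.S4741
import Groth.Agent.S14109
import Groth.Agent.Lib.CMFlat33

set_option autoImplicit false
universe u
open EGA4

namespace Groth.Agent.S4741

open AlgebraicGeometry CategoryTheory in
/-- Suppose X and Y are locally Noetherian schemes, f : X → Y is a morphism that is surjective, and Z is
a closed subset of Y. Then codim(f⁻¹(Z), X) ≤ codim(Z, Y), where the codimension of a closed subset
means the infimum over its points of the dimensions of the local rings there; when f is in addition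
flat, these two codimensions coincide. (In the published version the equality part assumes f
quasi-flat; here f is taken to be flat.) -/
theorem result {X Y : Scheme.{u}} (f : X ⟶ Y) [IsLocallyNoetherian X]
    [IsLocallyNoetherian Y] (hf : Function.Surjective f.base) (Z : Set Y) (hZ : IsClosed Z) :
    (⨅ x ∈ f.base ⁻¹' Z, ringKrullDim (X.presheaf.stalk x)) ≤ ⨅ y ∈ Z, ringKrullDim (Y.presheaf.stalk y) ∧
      (Flat f → (⨅ x ∈ f.base ⁻¹' Z, ringKrullDim (X.presheaf.stalk x)) = ⨅ y ∈ Z, ringKrullDim (Y.presheaf.stalk y)) := by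
  have hsurj : Surjective f := ⟨hf⟩
  have h1 : (⨅ x ∈ f.base ⁻¹' Z, ringKrullDim (X.presheaf.stalk x)) ≤
      ⨅ y ∈ Z, ringKrullDim (Y.presheaf.stalk y) := by
    refine le_iInf₂ fun y hy => ?_
    obtain ⟨x, rfl, hdim⟩ := Groth.Agent.S14109.exists_fiberStalk_dim_zero f y
    refine (iInf₂_le x hy).trans ?_
    rw [← ringKrullDim_eq_of_ringEquiv (Groth.Agent.Lib.FibreStalk33.fibreStalkEquiv f x)] at hdim
    have key := Groth.Agent.Lib.DimFibre33.ringKrullDim_le_add' (f.stalkMap x).hom
    rw [hdim, add_zero] at key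
    exact key
  refine ⟨h1, fun hflat => le_antisymm h1 ?_⟩
  refine le_iInf₂ fun x hx => ?_
  refine (iInf₂_le (f.base x) hx).trans ?_
  have key := Groth.Agent.Lib.CMFlat33.ringKrullDim_eq_add' (f.stalkMap x).hom (Flat.stalkMap f x)
  rw [key]
  have h0 : (0 : WithBot ℕ∞) ≤ ringKrullDim
      (↑(X.presheaf.stalk x) ⧸ Ideal.map (f.stalkMap x).hom
        (IsLocalRing.maximalIdeal ↑(Y.presheaf.stalk (f.base x)))) := by
    have : Nontrivial (↑(X.presheaf.stalk x) ⧸ Ideal.map (f.stalkMap x).hom
        (IsLocalRing.maximalIdeal ↑(Y.presheaf.stalk (f.base x)))) :=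
      Ideal.Quotient.nontrivial_iff.mpr (IsLocalRing.map_maximalIdeal_lt_top _).ne
    exact ringKrullDim_nonneg_of_nontrivial
  exact le_add_of_nonneg_right h0

end Groth.Agent.S4741
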