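import Groth.Statements.S4742
import Groth.Agent.Lib.EquidimCat33

set_option autoImplicit false
universe u
open EGA4

namespace Groth.Agent.S4742

open Groth.Agent.Lib.EquidimCat33

/-- Let A be a Noetherian local ring which is equidimensional and catenary, t an element of A belonging
to a system of parameters (dim A/tA + 1 = dim A), and Z a set of prime ideals of A stable under
specialization. Write X = Spec A, X₀ = V(t), X₁ = X ∖ X₀ and Z₀ = Z ∩ X₀, Z₁ = Z ∩ X₁. Then
codim(Z₀, X₀) ≤ codim(Z, X) ≤ codim(Z₁, X₁), where each codimension is the infimum of the heights of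
the primes concerned, heights for Z₀ being taken in A/tA. -/
theorem result (A : Type u) [CommRing A] [IsNoetherianRing A] [IsLocalRing A]
    (hA : EGA4.IsEquidim A) (hA' : CAlg.IsCatenary A) (t : A)
    (ht : ringKrullDim (A ⧸ Ideal.span {t}) + 1 = ringKrullDim A) (Z : Set (PrimeSpectrum A))
    (hZ : StableUnderSpecialization Z) :
    (⨅ p ∈ {p ∈ Z | t ∈ p.asIdeal}, (p.asIdeal.map (Ideal.Quotient.mk (Ideal.span {t}))).height) ≤
        ⨅ p ∈ Z, p.asIdeal.height ∧
      (⨅ p ∈ Z, p.asIdeal.height) ≤ ⨅ p ∈ {p ∈ Z | t ∉ p.asIdeal}, p.asIdeal.height := by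
  constructor
  · refine le_iInf₂ fun p hp => ?_
    by_cases htp : t ∈ p.asIdeal
    · refine (iInf₂_le p ⟨hp, htp⟩).trans ?_
      exact le_self_add.trans (height_map_quotient_add_one_le hA hA' t ht p htp)
    · have htm : t ∈ IsLocalRing.maximalIdeal A := by
        rw [IsLocalRing.mem_maximalIdeal, mem_nonunits_iff]
        intro hu
        have h1 : Ideal.span {t} = ⊤ := Ideal.span_singleton_eq_top.mpr hu
        have h2 : Subsingleton (A ⧸ Ideal.span {t}) := by
          rw [h1]; exact Ideal.Quotient.subsingleton_iff.mpr rfl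
        rw [ringKrullDim_eq_bot_of_subsingleton, WithBot.bot_add] at ht
        exact (ringKrullDim_nonneg_of_nontrivial (R := A)).not_gt (ht ▸ WithBot.bot_lt_coe _)
      have hne : p.asIdeal ⊔ Ideal.span {t} ≠ ⊤ := by
        intro h
        have : p.asIdeal ⊔ Ideal.span {t} ≤ IsLocalRing.maximalIdeal A :=
          sup_le (IsLocalRing.le_maximalIdeal p.2.ne_top)
            ((Ideal.span_singleton_le_iff_mem _).mpr htm)
        exact (IsLocalRing.maximalIdeal.isMaximal A).ne_top (top_le_iff.mp (h ▸ this))
      obtain ⟨q, hq⟩ := Ideal.nonempty_minimalPrimes hne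
      let P' : PrimeSpectrum A := ⟨q, hq.1.1⟩
      have hcov : p ⋖ P' := covBy_of_mem_minimalPrimes p P' t htp hq
      have hP'Z : P' ∈ Z := hZ ((PrimeSpectrum.le_iff_specializes p P').mp hcov.le) hp
      have htP' : t ∈ P'.asIdeal :=
        hq.1.2 (Ideal.mem_sup_right (Ideal.mem_span_singleton_self t))
      refine (iInf₂_le P' ⟨hP'Z, htP'⟩).trans ?_
      have h1 := height_map_quotient_add_one_le hA hA' t ht P' htP'
      rw [height_eq_add_one_of_covBy hA hA' hcov] at h1
      exact (ENat.add_le_add_iff_right ENat.one_ne_top).mp h1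
  · exact le_iInf₂ fun p hp => iInf₂_le p hp.1

end Groth.Agent.S4742
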