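import Groth.Statements.S4746
import Mathlib
import Groth.Agent.Lib.FlatGeomReduced98
import Groth.Agent.Lib.FormalFibreNagata98
import Groth.Agent.Lib.AdicNoeth

set_option autoImplicit false
set_option maxHeartbeats 400000
universe u
open EGA4

namespace Groth.Agent.S4746

/-- For the property 'reduced': let A → B be a local homomorphism of Noetherian local rings making B a
flat A-module, such that the residue field of B is a finite extension of the residue field k of A,
and such that the formal fibres of A are geometrically reduced. If the k-algebra k ⊗_A B̂, where B̂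
is the completion of B, is geometrically reduced over k, then every fibre k(p) ⊗_A B of A → B is
geometrically reduced over k(p). -/
theorem result (A B : Type u) [CommRing A] [CommRing B]
    [IsNoetherianRing A] [IsNoetherianRing B] [IsLocalRing A] [IsLocalRing B] [Algebra A B]
    [IsLocalHom (algebraMap A B)] [Module.Flat A B]
    [Module.Finite (IsLocalRing.ResidueField A) (IsLocalRing.ResidueField B)]
    (hA : EGA4.HasGeomReducedFormalFibres A)
    (h : Algebra.IsGeometricallyReduced (IsLocalRing.maximalIdeal A).ResidueField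
      ((IsLocalRing.maximalIdeal A).Fiber (EGA4.Cpl B))) :
    ∀ (p : Ideal A) [p.IsPrime], Algebra.IsGeometricallyReduced p.ResidueField (p.Fiber B) := by
  classical
  have hNag : CAlg.IsNagata A :=
    Groth.Agent.Lib.FormalFibreNagata98.isNagata_of_geomReducedFormalFibres A hA
  haveI : IsScalarTower A B (EGA4.Cpl B) := IsScalarTower.of_algebraMap_eq (fun a => rfl)
  haveI : IsNoetherianRing (EGA4.Cpl B) :=
    Groth.Agent.Lib.AdicNoeth.isNoetherianRing_adicCompletion _
  haveI hflatB : Module.Flat B (EGA4.Cpl B) := AdicCompletion.flat_of_isNoetherian _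
  haveI : Module.Flat A (EGA4.Cpl B) := Module.Flat.trans A B (EGA4.Cpl B)
  haveI : Module.FaithfullyFlat B (EGA4.Cpl B) := Module.FaithfullyFlat.of_flat_of_isLocalHom
  have hJ : ∀ t ∈ IsLocalRing.maximalIdeal A,
      algebraMap A (EGA4.Cpl B) t ∈ (⊥ : Ideal (EGA4.Cpl B)).jacobson := by
    intro t ht
    rw [IsLocalRing.jacobson_eq_maximalIdeal ⊥ bot_ne_top]
    have h1 : algebraMap A B t ∈ IsLocalRing.maximalIdeal B := by
      rw [IsLocalRing.mem_maximalIdeal, mem_nonunits_iff] at ht ⊢
      intro hu
      exact ht (isUnit_of_map_unit (algebraMap A B) t hu)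
    have h2 : algebraMap B (EGA4.Cpl B) (algebraMap A B t) ∈
        IsLocalRing.maximalIdeal (EGA4.Cpl B) := by
      rw [AdicCompletion.maximalIdeal_eq_map]; exact Ideal.mem_map_of_mem _ h1
    rw [IsScalarTower.algebraMap_apply A B (EGA4.Cpl B)]
    exact h2
  have hfib : ∀ (K : Type u) [Field K] [Algebra A K],
      IsLocalRing.maximalIdeal A ≤ RingHom.ker (algebraMap A K) →
      IsReduced (TensorProduct A K (EGA4.Cpl B)) := fun K _ _ hle =>
    Groth.Agent.Lib.FlatGeomReduced98.isReduced_tensor_field_of_geomReduced A (EGA4.Cpl B) h K hle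
  intro p _
  haveI hgr : Algebra.IsGeometricallyReduced p.ResidueField (p.Fiber (EGA4.Cpl B)) :=
    Groth.Agent.Lib.FlatGeomReduced98.geomReduced_fibres A (EGA4.Cpl B) hNag hJ hfib p
  exact Algebra.IsGeometricallyReduced.of_injective
    (Algebra.TensorProduct.map (AlgHom.id p.ResidueField p.ResidueField)
      (IsScalarTower.toAlgHom A B (EGA4.Cpl B)))
    (Groth.Agent.Lib.FlatGeomReduced98.map_injective_of_faithfullyFlat A B (EGA4.Cpl B)
      p.ResidueField)

end Groth.Agent.S4746
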