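import Groth.Statements.S4747
import Mathlib
import Groth.Agent.Lib.CMFlatFibres98

set_option autoImplicit false
set_option maxHeartbeats 400000
universe u
open EGA4

namespace Groth.Agent.S4747

open TensorProduct in
/-- For the property 'Cohen–Macaulay': let A → B be a local homomorphism of Noetherian local rings
making B a flat A-module, such that the residue field of B is a finite extension of the residue
field k of A, and such that the formal fibres of A are Cohen–Macaulay. If for every finite extension
k' of k the ring k' ⊗_k (k ⊗_A B̂) is Cohen–Macaulay (B̂ the completion of B), then for every prime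
p of A and every finite extension K of k(p) the ring K ⊗_{k(p)} (k(p) ⊗_A B) is Cohen–Macaulay; in
particular all fibres of A → B are Cohen–Macaulay. -/
theorem result (A B : Type u) [CommRing A] [CommRing B]
    [IsNoetherianRing A] [IsNoetherianRing B] [IsLocalRing A] [IsLocalRing B] [Algebra A B]
    [IsLocalHom (algebraMap A B)] [Module.Flat A B]
    [Module.Finite (IsLocalRing.ResidueField A) (IsLocalRing.ResidueField B)]
    (hA : EGA4.HasCMFormalFibres A)
    (h : ∀ (k' : Type u) [Field k'] [Algebra (IsLocalRing.maximalIdeal A).ResidueField k'],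
      Module.Finite (IsLocalRing.maximalIdeal A).ResidueField k' →
        LocCoh.IsCohenMacaulayRing (k' ⊗[(IsLocalRing.maximalIdeal A).ResidueField]
          ((IsLocalRing.maximalIdeal A).Fiber (EGA4.Cpl B)))) :
    ∀ (p : Ideal A) [p.IsPrime] (K : Type u) [Field K] [Algebra p.ResidueField K],
      Module.Finite p.ResidueField K → LocCoh.IsCohenMacaulayRing (K ⊗[p.ResidueField] (p.Fiber B)) := by
  intro p _ K _ _ hK
  have h0 := h (IsLocalRing.maximalIdeal A).ResidueField inferInstance
  have h1 : LocCoh.IsCohenMacaulayRing
      ((IsLocalRing.maximalIdeal A).Fiber (EGA4.Cpl B)) :=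
    Groth.Agent.Lib.CMRingEquiv96.isCohenMacaulayRing_of_ringEquiv
      (R := (IsLocalRing.maximalIdeal A).ResidueField ⊗[(IsLocalRing.maximalIdeal A).ResidueField]
        ((IsLocalRing.maximalIdeal A).Fiber (EGA4.Cpl B)))
      (Algebra.TensorProduct.lid (IsLocalRing.maximalIdeal A).ResidueField
        ((IsLocalRing.maximalIdeal A).Fiber (EGA4.Cpl B))).toRingEquiv
  have hmain := Groth.Agent.Lib.CMFlatFibres98.main A B hA h1
  have h2 : LocCoh.IsCohenMacaulayRing (p.Fiber B) := hmain.2 p
  haveI := hK
  have h3 : Algebra.EssFiniteType p.ResidueField K := inferInstance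
  exact Groth.Agent.Lib.CMFieldExt33.isCohenMacaulayRing_tensor_of_essFiniteType
    p.ResidueField K (p.Fiber B)

end Groth.Agent.S4747
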