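-- Statement S4748.
import Groth.Statements.S4748
import Groth.Agent.S2690
import Groth.Agent.Lib.H14NormalHom
import Groth.Agent.Lib.H14NormalConn
import Groth.Agent.Lib.H30GeomNormal
import Mathlib

set_option autoImplicit false
universe u
open EGA4

namespace Groth.Agent.S4748

section Helpers
open TensorProduct

theorem ascent (k S k' : Type u) [Field k] [CommRing S] [Algebra k S]
    [Field k'] [Algebra k k'] (q' : Ideal (S ⊗[k] k')) [q'.IsPrime]
    (hsep : Algebra.IsGeometricallyReduced k k')
    (h : IsDomain (Localization.AtPrime (q'.comap (algebraMap S (S ⊗[k] k')))) ∧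
          IsIntegrallyClosed (Localization.AtPrime (q'.comap (algebraMap S (S ⊗[k] k'))))) :
    IsDomain (Localization.AtPrime q') ∧ IsIntegrallyClosed (Localization.AtPrime q') := by
  set q := q'.comap (algebraMap S (S ⊗[k] k')) with hq
  haveI := h.1
  haveI := h.2
  have hR : EGA4.IsNormalRing (Localization.AtPrime q) :=
    Groth.Agent.Lib.H14NormalConn.isNormalRing_of_isIntegrallyClosed _
  have h1 : EGA4.IsNormalRing (k' ⊗[k] Localization.AtPrime q) :=
    Groth.Agent.S2690.result k (Localization.AtPrime q) k' hR
  have h2 : EGA4.IsNormalRing (Localization.AtPrime q ⊗[k] k') :=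
    Groth.Agent.Lib.H30GeomNormal.isNormalRing_of_ringEquiv
      (Algebra.TensorProduct.comm k k' (Localization.AtPrime q)).toRingEquiv h1
  letI : Algebra (S ⊗[k] k') (Localization.AtPrime q ⊗[k] k') :=
    (Algebra.TensorProduct.map (IsScalarTower.toAlgHom k S (Localization.AtPrime q))
      (AlgHom.id k k')).toRingHom.toAlgebra
  haveI : IsScalarTower S (S ⊗[k] k') (Localization.AtPrime q ⊗[k] k') :=
    IsScalarTower.of_algebraMap_eq (fun x => by
      rw [RingHom.algebraMap_toAlgebra]
      simp [Algebra.TensorProduct.algebraMap_apply])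
  haveI : IsLocalization (Algebra.algebraMapSubmonoid (S ⊗[k] k') q.primeCompl)
      (Localization.AtPrime q ⊗[k] k') :=
    IsLocalization.tensorProduct_tensorProduct k k' q.primeCompl (Localization.AtPrime q) (by
      ext x
      rw [RingHom.algebraMap_toAlgebra]
      simp)
  refine Groth.Agent.Lib.H30GeomNormal.normal_atPrime_of_isLocalization
    (Algebra.algebraMapSubmonoid (S ⊗[k] k') q.primeCompl) q' ?_ h2
  rw [Set.disjoint_left]
  rintro _ ⟨s, hs, rfl⟩ hsq
  exact hs hsq

end Helpers

open TensorProduct in
/-- For the property 'normal' (affine form): let k be a field, S a Noetherian k-algebra and k' an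
extension field of k such that S is of finite type over k or k' is essentially of finite type over
k; let q' be a prime of S ⊗_k k' and q its contraction to S. If (S ⊗_k k')_{q'} is an integrally
closed domain then so is S_q; conversely, if k' is separable over k (geometrically reduced) and S_q
is an integrally closed domain, then so is (S ⊗_k k')_{q'}. -/
theorem result (k S k' : Type u) [Field k] [CommRing S] [Algebra k S]
    [IsNoetherianRing S] [Field k'] [Algebra k k'] (hft : Algebra.FiniteType k S ∨ Algebra.EssFiniteType k k')
    [IsNoetherianRing (S ⊗[k] k')] (q' : Ideal (S ⊗[k] k')) [q'.IsPrime] :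
    ((IsDomain (Localization.AtPrime q') ∧ IsIntegrallyClosed (Localization.AtPrime q')) →
        (IsDomain (Localization.AtPrime (q'.comap (algebraMap S (S ⊗[k] k')))) ∧
          IsIntegrallyClosed (Localization.AtPrime (q'.comap (algebraMap S (S ⊗[k] k')))))) ∧
      (Algebra.IsGeometricallyReduced k k' →
        (IsDomain (Localization.AtPrime (q'.comap (algebraMap S (S ⊗[k] k')))) ∧
          IsIntegrallyClosed (Localization.AtPrime (q'.comap (algebraMap S (S ⊗[k] k'))))) →
          (IsDomain (Localization.AtPrime q') ∧ IsIntegrallyClosed (Localization.AtPrime q'))) := by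
  refine ⟨fun h => ?_, fun hsep h => ascent k S k' q' hsep h⟩
  exact Groth.Agent.Lib.H14NormalHom.normal_descent_atPrime S (S ⊗[k] k') q' h

end Groth.Agent.S4748
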