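-- Statement S4749.
import Groth.Statements.S4749
import Groth.Agent.Lib.H30NormalHom
import Mathlib

set_option autoImplicit false
universe u
open EGA4

namespace Groth.Agent.S4749



open TensorProduct in
/-- Case of normal morphisms, affine form: let A → B be a homomorphism of Noetherian rings and A' a
Noetherian A-algebra, and assume that B or A' is of finite type over A. If A → B is normal then the
base change A' → A' ⊗_A B is normal; the converse holds when A' is faithfully flat over A. -/
theorem result (A B A' : Type u) [CommRing A] [CommRing B] [CommRing A']
    [IsNoetherianRing A] [IsNoetherianRing B] [IsNoetherianRing A'] [Algebra A B] [Algebra A A']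
    (hft : Algebra.FiniteType A B ∨ Algebra.FiniteType A A') :
    (EGA4.IsNormalHom A B → EGA4.IsNormalHom A' (A' ⊗[A] B)) ∧
      (Module.FaithfullyFlat A A' → EGA4.IsNormalHom A' (A' ⊗[A] B) → EGA4.IsNormalHom A B) := by
  refine ⟨fun h => Groth.Agent.Lib.H30NormalHom.isNormalHom_baseChange A B A' h, fun hff h => ?_⟩
  haveI := hff
  exact Groth.Agent.Lib.H30NormalHom.isNormalHom_of_baseChange A B A' h

end Groth.Agent.S4749
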