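import Groth.Statements.S4752
import Groth.Agent.Lib.GeomReducedFibres
-- import your own Groth.Agent.* helpers here

set_option autoImplicit false
universe u
open EGA4

namespace Groth.Agent.S4752

open TensorProduct in
theorem aux (A B C : Type u) [CommRing A] [CommRing B] [CommRing C] [IsNoetherianRing B]
    [Algebra A B] [Algebra B C] [Algebra A C] [IsScalarTower A B C]
    [Module.Flat A B] [Module.Flat B C]
    (hAB : ∀ (p : Ideal A) [p.IsPrime], Algebra.IsGeometricallyReduced p.ResidueField (p.Fiber B))
    (hBC : ∀ (q : Ideal B) [q.IsPrime], Algebra.IsGeometricallyReduced q.ResidueField (q.Fiber C)) :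
    Module.Flat A C ∧ ∀ (p : Ideal A) [p.IsPrime], Algebra.IsGeometricallyReduced p.ResidueField (p.Fiber C) := by
  refine ⟨Module.Flat.trans A B C, fun p _ => ?_⟩
  rw [Algebra.isGeometricallyReduced_field_iff]
  have := hAB p
  have h1 : IsReduced (AlgebraicClosure p.ResidueField ⊗[p.ResidueField] (p.Fiber B)) :=
    (Algebra.isGeometricallyReduced_field_iff _ _).1 ‹_›
  have h2 : IsReduced (AlgebraicClosure p.ResidueField ⊗[A] B) :=
    isReduced_of_injective
      (Algebra.TensorProduct.cancelBaseChange A p.ResidueField (AlgebraicClosure p.ResidueField)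
        (AlgebraicClosure p.ResidueField) B).symm
      (Algebra.TensorProduct.cancelBaseChange A p.ResidueField (AlgebraicClosure p.ResidueField)
        (AlgebraicClosure p.ResidueField) B).symm.injective
  have h3 : IsReduced (B ⊗[A] AlgebraicClosure p.ResidueField) :=
    isReduced_of_injective (Algebra.TensorProduct.comm A B (AlgebraicClosure p.ResidueField))
      (Algebra.TensorProduct.comm A B (AlgebraicClosure p.ResidueField)).injective
  have h4 : IsReduced (C ⊗[B] (B ⊗[A] AlgebraicClosure p.ResidueField)) :=
    Groth.Agent.Lib.GeomReducedFibres.isReduced_tensorProduct_of_geomReducedFibres B C hBC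
      (B ⊗[A] AlgebraicClosure p.ResidueField)
  have h5 : IsReduced (C ⊗[A] AlgebraicClosure p.ResidueField) :=
    isReduced_of_injective
      (Algebra.TensorProduct.cancelBaseChange A B C C (AlgebraicClosure p.ResidueField)).symm
      (Algebra.TensorProduct.cancelBaseChange A B C C
        (AlgebraicClosure p.ResidueField)).symm.injective
  have h6 : IsReduced (AlgebraicClosure p.ResidueField ⊗[A] C) :=
    isReduced_of_injective (Algebra.TensorProduct.comm A (AlgebraicClosure p.ResidueField) C)
      (Algebra.TensorProduct.comm A (AlgebraicClosure p.ResidueField) C).injective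
  exact isReduced_of_injective
    (Algebra.TensorProduct.cancelBaseChange A p.ResidueField (AlgebraicClosure p.ResidueField)
      (AlgebraicClosure p.ResidueField) C)
    (Algebra.TensorProduct.cancelBaseChange A p.ResidueField (AlgebraicClosure p.ResidueField)
      (AlgebraicClosure p.ResidueField) C).injective


/-- Case of reduced morphisms, affine form: let A → B → C be homomorphisms of Noetherian rings, both
flat and with geometrically reduced fibres. Then the composite A → C is flat with geometrically
reduced fibres. -/
theorem result (A B C : Type u) [CommRing A] [CommRing B] [CommRing C] [IsNoetherianRing A]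
    [IsNoetherianRing B] [IsNoetherianRing C] [Algebra A B] [Algebra B C] [Algebra A C] [IsScalarTower A B C]
    [Module.Flat A B] [Module.Flat B C]
    (hAB : ∀ (p : Ideal A) [p.IsPrime], Algebra.IsGeometricallyReduced p.ResidueField (p.Fiber B))
    (hBC : ∀ (q : Ideal B) [q.IsPrime], Algebra.IsGeometricallyReduced q.ResidueField (q.Fiber C)) :
    Module.Flat A C ∧ ∀ (p : Ideal A) [p.IsPrime], Algebra.IsGeometricallyReduced p.ResidueField (p.Fiber C) := by
  exact aux A B C hAB hBC

end Groth.Agent.S4752
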