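import Groth.Statements.S4753
import Groth.Agent.Lib.WeaklyEtale
-- import your own Groth.Agent.* helpers here

set_option autoImplicit false
universe u
open EGA4

namespace Groth.Agent.S4753

open TensorProduct in
/-- A faithfully flat ring map `B → C` is universally injective: `B ⊗[A] M → C ⊗[A] M` is
injective for every `A`-module `M`. -/
theorem rTensor_injective_of_faithfullyFlat (A B C M : Type*) [CommRing A] [CommRing B]
    [CommRing C] [Algebra A B] [Algebra B C] [Algebra A C] [IsScalarTower A B C]
    [Module.FaithfullyFlat B C] [AddCommGroup M] [Module A M] :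
    Function.Injective (LinearMap.rTensor M (IsScalarTower.toAlgHom A B C).toLinearMap) := by
  have h1 : Function.Injective (TensorProduct.mk B C (B ⊗[A] M) 1) :=
    Module.FaithfullyFlat.tensorProduct_mk_injective (A := B) (B := C) (B ⊗[A] M)
  have h2 : ∀ x : B ⊗[A] M,
      LinearMap.rTensor M (IsScalarTower.toAlgHom A B C).toLinearMap x =
        (AlgebraTensorModule.cancelBaseChange A B C C M) (TensorProduct.mk B C (B ⊗[A] M) 1 x) := by
    intro x
    induction x using TensorProduct.induction_on with
    | zero => simp
    | tmul b m =>
      simp [Algebra.smul_def]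
    | add x y hx hy => simp only [map_add, hx, hy]
  intro x y hxy
  rw [h2, h2] at hxy
  exact h1 ((AlgebraTensorModule.cancelBaseChange A B C C M).injective hxy)

open TensorProduct in
theorem lTensor_injective_of_faithfullyFlat (A B C M : Type*) [CommRing A] [CommRing B]
    [CommRing C] [Algebra A B] [Algebra B C] [Algebra A C] [IsScalarTower A B C]
    [Module.FaithfullyFlat B C] [AddCommGroup M] [Module A M] :
    Function.Injective (LinearMap.lTensor M (IsScalarTower.toAlgHom A B C).toLinearMap) := by
  have h := rTensor_injective_of_faithfullyFlat A B C M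
  have h2 : LinearMap.lTensor M (IsScalarTower.toAlgHom A B C).toLinearMap =
      (TensorProduct.comm A C M).toLinearMap ∘ₗ
        LinearMap.rTensor M (IsScalarTower.toAlgHom A B C).toLinearMap ∘ₗ
          (TensorProduct.comm A M B).toLinearMap := by
    ext m b
    simp
  rw [h2]
  simp only [LinearMap.coe_comp, LinearEquiv.coe_coe]
  exact (TensorProduct.comm A C M).injective.comp (h.comp (TensorProduct.comm A M B).injective)


/-- Case of reduced morphisms, affine form: let A → B → C be homomorphisms of Noetherian rings such that
B → C is faithfully flat with geometrically reduced fibres and the composite A → C is flat with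
geometrically reduced fibres. Then A → B is flat with geometrically reduced fibres. -/
theorem result (A B C : Type u) [CommRing A] [CommRing B] [CommRing C]
    [IsNoetherianRing A] [IsNoetherianRing B] [IsNoetherianRing C] [Algebra A B] [Algebra B C] [Algebra A C]
    [IsScalarTower A B C] [Module.FaithfullyFlat B C] [Module.Flat A C]
    (hBC : ∀ (q : Ideal B) [q.IsPrime], Algebra.IsGeometricallyReduced q.ResidueField (q.Fiber C))
    (hAC : ∀ (p : Ideal A) [p.IsPrime], Algebra.IsGeometricallyReduced p.ResidueField (p.Fiber C)) :
    Module.Flat A B ∧ ∀ (p : Ideal A) [p.IsPrime], Algebra.IsGeometricallyReduced p.ResidueField (p.Fiber B) := by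
  refine ⟨Groth.Agent.Lib.WeaklyEtale.flat_of_flat_of_faithfullyFlat A B C, fun p _ => ?_⟩
  have := hAC p
  let f : p.Fiber B →ₐ[p.ResidueField] p.Fiber C :=
    Algebra.TensorProduct.map (AlgHom.id p.ResidueField p.ResidueField)
      (IsScalarTower.toAlgHom A B C)
  refine Algebra.IsGeometricallyReduced.of_injective f ?_
  have h := lTensor_injective_of_faithfullyFlat A B C p.ResidueField
  have h2 : ∀ x : p.Fiber B,
      f x = LinearMap.lTensor p.ResidueField (IsScalarTower.toAlgHom A B C).toLinearMap x := by
    intro x
    induction x using TensorProduct.induction_on with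
    | zero => simp
    | tmul a b => simp [f]
    | add x y hx hy => simp only [map_add, hx, hy]
  intro x y hxy
  rw [h2, h2] at hxy
  exact h hxy

end Groth.Agent.S4753
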