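import Groth.Statements.S4755
import Groth.Agent.Lib.FormalFibreQuotient96
import Groth.Agent.Lib.FibreBaseChange2
import Groth.Agent.Lib.CMRingEquiv96
-- import your own Groth.Agent.* helpers here

set_option autoImplicit false
universe u
open EGA4

namespace Groth.Agent.S4755

/-- For the property 'Cohen–Macaulay', case of a local ring: if the formal fibres of a Noetherian local
ring A are Cohen–Macaulay, then so are the formal fibres of A/I for every proper ideal I of A. -/
theorem result (A : Type u) [CommRing A] [IsNoetherianRing A] [IsLocalRing A]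
    (hA : EGA4.HasCMFormalFibres A) (I : Ideal A) [Nontrivial (A ⧸ I)] :
    EGA4.HasCMFormalFibres (A ⧸ I) := by
  obtain ⟨alg, tower, hpo⟩ := Groth.Agent.Lib.FormalFibreQuotient96.exists_isPushout A I
  have hso : (algebraMap A (A ⧸ I)).SurjectiveOnStalks :=
    RingHom.surjectiveOnStalks_of_surjective Ideal.Quotient.mk_surjective
  intro p' _
  obtain ⟨e⟩ := Groth.Agent.Lib.FibreBaseChange2.nonempty_ringEquiv_fiber A (A ⧸ I)
    (EGA4.Cpl A) (EGA4.Cpl (A ⧸ I)) hso p'
  have h1 : LocCoh.IsCohenMacaulayRing ((p'.comap (algebraMap A (A ⧸ I))).Fiber (EGA4.Cpl A)) :=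
    hA (p'.comap (algebraMap A (A ⧸ I)))
  exact Groth.Agent.Lib.CMRingEquiv96.isCohenMacaulayRing_of_ringEquiv e.symm

end Groth.Agent.S4755
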