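import Groth.Statements.S4757
import Groth.Agent.Lib.GeomReducedFibres
-- import your own Groth.Agent.* helpers here

set_option autoImplicit false
universe u
open EGA4

namespace Groth.Agent.S4757

open TensorProduct in
theorem aux (A B : Type u) [CommRing A] [CommRing B] [Algebra A B] [Module.Flat A B]
    (h : ∀ (p : Ideal A) [p.IsPrime], Algebra.IsGeometricallyReduced p.ResidueField (p.Fiber B))
    (S : Submonoid A)
    (A' B' : Type u) [CommRing A'] [CommRing B'] [Algebra A A'] [Algebra B B'] [Algebra A' B']
    [Algebra A B'] [IsScalarTower A A' B'] [IsScalarTower A B B'] [IsLocalization S A']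
    [IsLocalization (Algebra.algebraMapSubmonoid B S) B'] :
    Module.Flat A' B' ∧ ∀ (p' : Ideal A') [p'.IsPrime],
      Algebra.IsGeometricallyReduced p'.ResidueField (p'.Fiber B') := by
  constructor
  · have h1 : Module.Flat B B' := IsLocalization.flat B' (Algebra.algebraMapSubmonoid B S)
    have h2 : Module.Flat A B' := Module.Flat.trans A B B'
    exact (Module.flat_iff_of_isLocalization A' S B').2 h2
  · intro p' _
    rw [Algebra.isGeometricallyReduced_field_iff]
    have hpo : Algebra.IsPushout A A' B B' := (Algebra.isPushout_of_isLocalization S A' B B').symm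
    have h1 : IsReduced (AlgebraicClosure p'.ResidueField ⊗[A] B) :=
      Groth.Agent.Lib.GeomReducedFibres.isReduced_tensorProduct_field A B h
        (AlgebraicClosure p'.ResidueField)
    have h2 : IsReduced (AlgebraicClosure p'.ResidueField ⊗[A'] (A' ⊗[A] B)) :=
      isReduced_of_injective
        (Algebra.TensorProduct.cancelBaseChange A A' (AlgebraicClosure p'.ResidueField)
          (AlgebraicClosure p'.ResidueField) B)
        (Algebra.TensorProduct.cancelBaseChange A A' (AlgebraicClosure p'.ResidueField)
          (AlgebraicClosure p'.ResidueField) B).injective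
    have h3 : IsReduced (AlgebraicClosure p'.ResidueField ⊗[A'] B') :=
      isReduced_of_injective
        (Algebra.TensorProduct.congr (AlgEquiv.refl (R := A') (A₁ := AlgebraicClosure p'.ResidueField))
          (Algebra.IsPushout.equiv A A' B B').symm)
        (Algebra.TensorProduct.congr (AlgEquiv.refl (R := A') (A₁ := AlgebraicClosure p'.ResidueField))
          (Algebra.IsPushout.equiv A A' B B').symm).injective
    exact isReduced_of_injective
      (Algebra.TensorProduct.cancelBaseChange A' p'.ResidueField (AlgebraicClosure p'.ResidueField)
        (AlgebraicClosure p'.ResidueField) B')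
      (Algebra.TensorProduct.cancelBaseChange A' p'.ResidueField (AlgebraicClosure p'.ResidueField)
        (AlgebraicClosure p'.ResidueField) B').injective


/-- Let A → B be a flat homomorphism of Noetherian rings with geometrically reduced fibres and S a
multiplicative subset of A. Then the induced homomorphism S⁻¹A → S⁻¹B (arbitrary localizations at S
and at its image) is flat with geometrically reduced fibres. -/
theorem result (A B : Type u) [CommRing A] [CommRing B] [IsNoetherianRing A]
    [IsNoetherianRing B] [Algebra A B] [Module.Flat A B]
    (h : ∀ (p : Ideal A) [p.IsPrime], Algebra.IsGeometricallyReduced p.ResidueField (p.Fiber B)) (S : Submonoid A)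
    (A' B' : Type u) [CommRing A'] [CommRing B'] [Algebra A A'] [Algebra B B'] [Algebra A' B'] [Algebra A B']
    [IsScalarTower A A' B'] [IsScalarTower A B B'] [IsLocalization S A']
    [IsLocalization (Algebra.algebraMapSubmonoid B S) B'] :
    Module.Flat A' B' ∧ ∀ (p' : Ideal A') [p'.IsPrime], Algebra.IsGeometricallyReduced p'.ResidueField (p'.Fiber B') := by
  exact aux A B h S A' B'

end Groth.Agent.S4757
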