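import Groth.Statements.S4758
import Groth.Agent.Lib.LimBaseChange

set_option autoImplicit false
universe u
open CategoryTheory AlgebraicGeometry
open Lim8

namespace Groth.Agent.S4758

open Groth.Agent.Lib.LimBaseChange in
theorem surjective_π_of_forall {I : Type u} [SmallCategory I] [IsCofiltered I]
    (D : I ⥤ Scheme.{u}) (c : Limits.Cone D) (hc : Limits.IsLimit c)
    [∀ (i j : I) (f : i ⟶ j), IsAffineHom (D.map f)] (i : I)
    (h : ∀ (j : I) (φ : j ⟶ i), Surjective (D.map φ)) : Surjective (c.π.app i) := by
  constructor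
  intro x
  let g := (D.obj i).fromSpecResidueField x
  have hne : ∀ j : Over i, Nonempty ((bcDiagram D i g).obj j) := by
    intro j
    have := h j.left j.hom
    obtain ⟨y, hy⟩ := (D.map j.hom).surjective x
    obtain ⟨t, ht⟩ : ∃ t, g t = x := ⟨Classical.arbitrary _, by
      simp [g, Scheme.fromSpecResidueField_apply]⟩
    obtain ⟨z, -, -⟩ := Scheme.Pullback.exists_preimage_pullback (f := D.map j.hom) (g := g) y t
      (by rw [hy, ht])
    exact ⟨z⟩
  have haff : ∀ j : Over i, IsAffine ((bcDiagram D i g).obj j) := by
    intro j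
    have h0 : IsAffineHom (D.map j.hom) := ‹∀ (i j : I) (f : i ⟶ j), IsAffineHom (D.map f)› _ _ j.hom
    have : IsAffineHom (Limits.pullback.snd (D.map j.hom) g) :=
      MorphismProperty.pullback_snd (P := @IsAffineHom) _ _ h0
    change IsAffine (Limits.pullback (D.map j.hom) g)
    exact isAffine_of_isAffineHom (Limits.pullback.snd (D.map j.hom) g)
  have hcpt : ∀ j : Over i, CompactSpace ((bcDiagram D i g).obj j) := fun j => inferInstance
  have hne' : Nonempty (bcCone D c i g).pt :=
    Scheme.nonempty_of_isLimit (bcDiagram D i g) (bcCone D c i g) (isLimitBcCone D c hc i g)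
  obtain ⟨z⟩ := hne'
  refine ⟨(Limits.pullback.fst (c.π.app i) g) z, ?_⟩
  have e : (Limits.pullback.fst (c.π.app i) g ≫ c.π.app i) z =
      (Limits.pullback.snd (c.π.app i) g ≫ g) z := by
    rw [Limits.pullback.condition]
  simp only [Scheme.Hom.comp_apply] at e
  rw [e]
  simp [g, Scheme.fromSpecResidueField_apply]

/-- Let S = lim S_i be a cofiltered limit of schemes with affine transition maps and let i be an index.
The canonical projection S ⟶ S_i is surjective if and only if every transition map S_j ⟶ S_i is
surjective. -/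
theorem result {I : Type u} [SmallCategory I] [IsCofiltered I]
    (D : I ⥤ Scheme.{u}) (c : Limits.Cone D) (hc : Limits.IsLimit c)
    [∀ (i j : I) (f : i ⟶ j), IsAffineHom (D.map f)] (i : I) :
    Surjective (c.π.app i) ↔ ∀ (j : I) (φ : j ⟶ i), Surjective (D.map φ) := by
  constructor
  · intro h j φ
    have e : c.π.app j ≫ D.map φ = c.π.app i := c.w φ
    rw [← e] at h
    exact Surjective.of_comp (c.π.app j) (D.map φ)
  · exact surjective_π_of_forall D c hc i

end Groth.Agent.S4758
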