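import Groth.Statements.S4766
import Groth.Agent.Lib.LimOpenMap
import Groth.Agent.Lib.LimBaseChange
import Mathlib.AlgebraicGeometry.Morphisms.UniversallyOpen

set_option autoImplicit false
universe u
open CategoryTheory AlgebraicGeometry
open Lim8

namespace Groth.Agent.S4766

theorem coe_comp_eq {X Y Z : Scheme.{u}} (a : X ⟶ Y) (b : Y ⟶ Z) :
    (⇑(a ≫ b) : X → Z) = ⇑b ∘ ⇑a :=
  funext fun x => Scheme.Hom.comp_apply a b x

open Groth.Agent.Lib.LimBaseChange Limits in
set_option backward.isDefEq.respectTransparency false in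
theorem isOpenMap_snd_π {I : Type u} [SmallCategory I] [IsCofiltered I]
    (D : I ⥤ Scheme.{u}) (c : Limits.Cone D) (hc : Limits.IsLimit c)
    [∀ {i j : I} (f : i ⟶ j), IsAffineHom (D.map f)] (i : I)
    (hs : ∀ (j : I) (_ : j ⟶ i), Surjective (c.π.app j))
    (h : ∀ (j : I) (φ : j ⟶ i), UniversallyOpen (D.map φ))
    {T : Scheme.{u}} (f : T ⟶ D.obj i) : IsOpenMap (pullback.snd (c.π.app i) f) := by
  have hs' : ∀ (j : Over i) (_ : j ⟶ Over.mk (𝟙 i)),
      Function.Surjective ((bcCone D c i f).π.app j) := by
    intro j _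
    have h0 : Surjective (c.π.app j.left) := hs j.left j.hom
    have : Surjective ((bcCone D c i f).π.app j) :=
      MorphismProperty.of_isPullback (P := @Surjective) (isPullback_bcCone_π D c i f j).flip h0
    exact this.surj
  have h' : ∀ (j : Over i) (φ : j ⟶ Over.mk (𝟙 i)), IsOpenMap ((bcDiagram D i f).map φ) := by
    intro j φ
    have h0 : UniversallyOpen (D.map φ.left) := h j.left φ.left
    have : UniversallyOpen ((bcDiagram D i f).map φ) :=
      MorphismProperty.of_isPullback (P := @UniversallyOpen)
        (isPullback_bcDiagram_map D i f φ).flip h0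
    exact ((bcDiagram D i f).map φ).isOpenMap
  have hA := Groth.Agent.Lib.LimOpenMap.isOpenMap_π_of_forall (bcDiagram D i f) (bcCone D c i f)
    (isLimitBcCone D c hc i f) (Over.mk (𝟙 i)) hs' h'
  have hiso : IsIso (pullback.snd (D.map (𝟙 i)) f) := by
    have : IsIso (D.map (𝟙 i)) := inferInstance
    infer_instance
  have e : (bcCone D c i f).π.app (Over.mk (𝟙 i)) ≫ pullback.snd (D.map (𝟙 i)) f =
      pullback.snd (c.π.app i) f := by
    simp [bcCone]
  have hB : IsOpenMap (pullback.snd (D.map (𝟙 i)) f) :=
    (pullback.snd (D.map (𝟙 i)) f).homeomorph.isOpenMap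
  rw [← e, coe_comp_eq]
  exact hB.comp hA

theorem isOpenMap_of_comp_surjective {X Y Z : Type*} [TopologicalSpace X] [TopologicalSpace Y]
    [TopologicalSpace Z] (p : X → Y) (q : Y → Z) (hp : Function.Surjective p) (hpc : Continuous p)
    (h : IsOpenMap (q ∘ p)) : IsOpenMap q := by
  intro V hV
  have : q '' V = (q ∘ p) '' (p ⁻¹' V) := by
    rw [Set.image_comp, Set.image_preimage_eq V hp]
  rw [this]
  exact h _ (hV.preimage hpc)

open Groth.Agent.Lib.LimBaseChange Limits in
set_option backward.isDefEq.respectTransparency false in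
theorem isOpenMap_snd_map {I : Type u} [SmallCategory I] [IsCofiltered I]
    (D : I ⥤ Scheme.{u}) (c : Limits.Cone D)
    (i : I) {j : I} (φ : j ⟶ i) (hs : Surjective (c.π.app j)) (h : UniversallyOpen (c.π.app i))
    {T : Scheme.{u}} (f : T ⟶ D.obj i) : IsOpenMap (pullback.snd (D.map φ) f) := by
  have h1 : Surjective ((bcCone D c i f).π.app (Over.mk φ)) :=
    MorphismProperty.of_isPullback (P := @Surjective)
      (isPullback_bcCone_π D c i f (Over.mk φ)).flip hs
  have e : (bcCone D c i f).π.app (Over.mk φ) ≫ pullback.snd (D.map φ) f =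
      pullback.snd (c.π.app i) f := by
    simp [bcCone]
  have h2 : IsOpenMap (pullback.snd (c.π.app i) f) := (pullback.snd (c.π.app i) f).isOpenMap
  refine isOpenMap_of_comp_surjective ((bcCone D c i f).π.app (Over.mk φ))
    (pullback.snd (D.map φ) f) h1.surj ((bcCone D c i f).π.app (Over.mk φ)).continuous ?_
  rw [← e, coe_comp_eq] at h2
  exact h2

/-- Let S = lim S_i be a cofiltered limit of schemes with affine transition maps and let i be an index
such that the projection S ⟶ S_j is surjective for every j over i. Then the projection S ⟶ S_i is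
universally open if and only if every transition map S_j ⟶ S_i is universally open. This is the case
of universally open morphisms. -/
theorem result {I : Type u} [SmallCategory I] [IsCofiltered I]
    (D : I ⥤ Scheme.{u}) (c : Limits.Cone D) (hc : Limits.IsLimit c)
    [∀ (i j : I) (f : i ⟶ j), IsAffineHom (D.map f)] (i : I)
    (hs : ∀ (j : I) (φ : j ⟶ i), Surjective (c.π.app j)) :
    UniversallyOpen (c.π.app i) ↔ ∀ (j : I) (φ : j ⟶ i), UniversallyOpen (D.map φ) := by
  have hA : ∀ {i j : I} (f : i ⟶ j), IsAffineHom (D.map f) := fun f => inferInstance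
  constructor
  · intro h j φ
    rw [UniversallyOpen.eq]
    apply MorphismProperty.universally_mk'
    intro T f _
    have h1 := isOpenMap_snd_map D c i φ (hs j φ) h f
    have e : Limits.pullback.fst f (D.map φ) =
        (Limits.pullbackSymmetry f (D.map φ)).hom ≫ Limits.pullback.snd (D.map φ) f := by simp
    change IsOpenMap (Limits.pullback.fst f (D.map φ))
    rw [e, coe_comp_eq]
    exact h1.comp (Limits.pullbackSymmetry f (D.map φ)).hom.homeomorph.isOpenMap
  · intro h
    rw [UniversallyOpen.eq]
    apply MorphismProperty.universally_mk'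
    intro T f _
    have h1 := isOpenMap_snd_π D c hc i hs h f
    have e : Limits.pullback.fst f (c.π.app i) =
        (Limits.pullbackSymmetry f (c.π.app i)).hom ≫ Limits.pullback.snd (c.π.app i) f := by simp
    change IsOpenMap (Limits.pullback.fst f (c.π.app i))
    rw [e, coe_comp_eq]
    exact h1.comp (Limits.pullbackSymmetry f (c.π.app i)).hom.homeomorph.isOpenMap

end Groth.Agent.S4766
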