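import Groth.Statements.S4767
import Groth.Agent.Lib.LimConnected
-- import your own Groth.Agent.* helpers here

set_option autoImplicit false
universe u
open CategoryTheory AlgebraicGeometry
open Lim8

namespace Groth.Agent.S4767

/-- Let S = lim S_i be a cofiltered limit of schemes with affine transition maps, some stage S_{i₀}
being quasi-compact and quasi-separated, and assume that the underlying topological space of S is
Noetherian. If S is not irreducible, then there is an index i over i₀ such that S_j is not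
irreducible for every index j over i. -/
theorem result {I : Type u} [SmallCategory I] [IsCofiltered I]
    (D : I ⥤ Scheme.{u}) (c : Limits.Cone D) (hc : Limits.IsLimit c)
    [∀ (i j : I) (f : i ⟶ j), IsAffineHom (D.map f)] (i₀ : I)
    [CompactSpace (D.obj i₀)] [QuasiSeparatedSpace (D.obj i₀)]
    [TopologicalSpace.NoetherianSpace c.pt] (h : ¬ IrreducibleSpace c.pt) :
    ∃ (i : I) (_ : i ⟶ i₀), ∀ (j : I) (_ : j ⟶ i), ¬ IrreducibleSpace (D.obj j) := by
  have hA : ∀ {i j : I} (f : i ⟶ j), IsAffineHom (D.map f) := fun f => inferInstance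
  by_cases hne : Nonempty c.pt
  · have hpre : ¬ PreirreducibleSpace c.pt := fun hp =>
      h { toPreirreducibleSpace := hp, toNonempty := hne }
    have hex : ∃ U V : Set c.pt, IsOpen U ∧ IsOpen V ∧ U.Nonempty ∧ V.Nonempty ∧ U ∩ V = ∅ := by
      by_contra hcon
      push Not at hcon
      apply hpre
      constructor
      intro U V hU hV hUne hVne
      rw [Set.univ_inter] at hUne hVne ⊢
      exact hcon U V hU hV hUne hVne
    obtain ⟨U, V, hU, hV, hUne, hVne, hUV⟩ := hex
    obtain ⟨a, A, hAaff, hAU, hAne⟩ :=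
      Groth.Agent.Lib.LimConnected.exists_preimage_subset_of_nonempty D c hc hU hUne
    obtain ⟨b, B, hBaff, hBV, hBne⟩ :=
      Groth.Agent.Lib.LimConnected.exists_preimage_subset_of_nonempty D c hc hV hVne
    have H : ((c.π.app a) ⁻¹' (A : Set (D.obj a))) ∩ ((c.π.app b) ⁻¹' (B : Set (D.obj b))) = ∅ := by
      rw [Set.eq_empty_iff_forall_notMem]
      rintro x ⟨hx1, hx2⟩
      exact (Set.eq_empty_iff_forall_notMem.1 hUV x) ⟨hAU hx1, hBV hx2⟩
    obtain ⟨l, ga, gb, g0, hl⟩ := Groth.Agent.Lib.LimConnected.exists_disjoint_preimage D c hc i₀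
      A hAaff.isCompact B hBaff.isCompact H
    refine ⟨l, g0, fun j g hirr => ?_⟩
    obtain ⟨x, hx⟩ := hAne
    obtain ⟨x', hx'⟩ := hBne
    have h1 : ((D.map (g ≫ ga)) ⁻¹' (A : Set (D.obj a))).Nonempty :=
      ⟨(c.π.app j) x, by
        show (D.map (g ≫ ga)) ((c.π.app j) x) ∈ A
        rw [Groth.Agent.Lib.LimConnected.π_comp_apply]; exact hx⟩
    have h2 : ((D.map (g ≫ gb)) ⁻¹' (B : Set (D.obj b))).Nonempty :=
      ⟨(c.π.app j) x', by
        show (D.map (g ≫ gb)) ((c.π.app j) x') ∈ B
        rw [Groth.Agent.Lib.LimConnected.π_comp_apply]; exact hx'⟩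
    obtain ⟨y, hy1, hy2⟩ := nonempty_preirreducible_inter
      (A.2.preimage (D.map (g ≫ ga)).continuous) (B.2.preimage (D.map (g ≫ gb)).continuous) h1 h2
    have h3 : (D.map (g ≫ ga)) y ∈ A := hy1
    have h4 : (D.map (g ≫ gb)) y ∈ B := hy2
    rw [Groth.Agent.Lib.LimConnected.map_comp_apply] at h3 h4
    exact (Set.eq_empty_iff_forall_notMem.1 hl ((D.map g) y)) ⟨h3, h4⟩
  · rw [not_nonempty_iff] at hne
    obtain ⟨k, g, hk⟩ := Groth.Agent.Lib.LimConnected.exists_isEmpty_of_isEmpty D c hc i₀ hne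
    refine ⟨k, g, fun j φ hirr => ?_⟩
    obtain ⟨x⟩ := hirr.toNonempty
    exact hk.false ((D.map φ) x)

end Groth.Agent.S4767
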