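import Groth.Statements.S4768
import Groth.Agent.Lib.LimConnected
-- import your own Groth.Agent.* helpers here

set_option autoImplicit false
universe u
open CategoryTheory AlgebraicGeometry
open Lim8

namespace Groth.Agent.S4768

/-- Let S = lim S_i be a cofiltered limit of schemes with affine transition maps, some stage S_{i₀}
being quasi-compact and quasi-separated. If S is not preconnected (that is, S is the disjoint union
of two nonempty open subsets), then there is an index i over i₀ such that S_j is not preconnected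
for every index j over i. (The published statement assumes the stage only quasi-compact, which is
not enough: over the affine space in infinitely many variables with a doubled origin, the closed
subschemes cut out by the first n coordinates form a system with affine transition maps in which
every stage is connected while the limit consists of two disjoint points. The published proof
descends the two pieces of S to quasi-compact open subsets of a stage and needs their intersection
to become empty at a later stage, which uses that quasi-compact open subsets of the stage are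
constructible; so the stage is taken quasi-separated here, as in part (i).) -/
theorem result {I : Type u} [SmallCategory I] [IsCofiltered I]
    (D : I ⥤ Scheme.{u}) (c : Limits.Cone D) (hc : Limits.IsLimit c)
    [∀ (i j : I) (f : i ⟶ j), IsAffineHom (D.map f)] (i₀ : I)
    [CompactSpace (D.obj i₀)] [QuasiSeparatedSpace (D.obj i₀)] (h : ¬ PreconnectedSpace c.pt) :
    ∃ (i : I) (_ : i ⟶ i₀), ∀ (j : I) (_ : j ⟶ i), ¬ PreconnectedSpace (D.obj j) := by
  have hA : ∀ {i j : I} (f : i ⟶ j), IsAffineHom (D.map f) := fun f => inferInstance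
  have hπaff : ∀ i, IsAffineHom (c.π.app i) := isAffineHom_π_app D c hc
  have hcpt : CompactSpace c.pt := QuasiCompact.compactSpace_of_compactSpace (c.π.app i₀)
  rw [preconnectedSpace_iff_clopen] at h
  push Not at h
  obtain ⟨U, hU, hU1, hU2⟩ := h
  have hUne : U.Nonempty := by
    first
      | exact hU1
      | exact Set.nonempty_iff_ne_empty.2 hU1
  have hVne : (Uᶜ).Nonempty := by
    first
      | exact Set.nonempty_compl.2 hU2
      | exact hU2
  obtain ⟨a, A, hAc, hAU⟩ := exists_preimage_eq D c hc ⟨U, hU.2⟩ hU.1.isCompact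
  obtain ⟨b, B, hBc, hBV⟩ := exists_preimage_eq D c hc ⟨Uᶜ, hU.compl.2⟩ hU.compl.1.isCompact
  have hA' : ∀ x : c.pt, (c.π.app a) x ∈ A ↔ x ∈ U := by
    intro x
    have : x ∈ (⟨U, hU.2⟩ : c.pt.Opens) ↔ x ∈ U := Iff.rfl
    rw [← this, ← hAU]
    rfl
  have hB' : ∀ x : c.pt, (c.π.app b) x ∈ B ↔ x ∉ U := by
    intro x
    have : x ∈ (⟨Uᶜ, hU.compl.2⟩ : c.pt.Opens) ↔ x ∉ U := Iff.rfl
    rw [← this, ← hBV]
    rfl
  have H : ((c.π.app a) ⁻¹' (A : Set (D.obj a))) ∩ ((c.π.app b) ⁻¹' (B : Set (D.obj b))) = ∅ := by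
    rw [Set.eq_empty_iff_forall_notMem]
    rintro x ⟨hx1, hx2⟩
    exact ((hB' x).1 hx2) ((hA' x).1 hx1)
  obtain ⟨l₁, ga, gb, g0, hl₁⟩ := Groth.Agent.Lib.LimConnected.exists_disjoint_preimage D c hc i₀
    A hAc B hBc H
  have hl₁c : CompactSpace (D.obj l₁) := QuasiCompact.compactSpace_of_compactSpace (D.map g0)
  have Hcov : c.π.app l₁ ⁻¹ᵁ (⊤ : (D.obj l₁).Opens) ≤
      c.π.app l₁ ⁻¹ᵁ ((D.map ga ⁻¹ᵁ A) ⊔ (D.map gb ⁻¹ᵁ B)) := by
    intro x _
    by_cases hx : x ∈ U
    · left
      show (D.map ga) ((c.π.app l₁) x) ∈ A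
      rw [Groth.Agent.Lib.LimConnected.π_comp_apply]
      exact (hA' x).2 hx
    · right
      show (D.map gb) ((c.π.app l₁) x) ∈ B
      rw [Groth.Agent.Lib.LimConnected.π_comp_apply]
      exact (hB' x).2 hx
  obtain ⟨l, g, hl⟩ := exists_map_preimage_le_map_preimage D c hc
    (U := (⊤ : (D.obj l₁).Opens)) (by simpa using isCompact_univ) Hcov
  refine ⟨l, g ≫ g0, fun j φ hconn => ?_⟩
  let A'' : Set (D.obj j) := (D.map (φ ≫ g ≫ ga)) ⁻¹' (A : Set (D.obj a))
  let B'' : Set (D.obj j) := (D.map (φ ≫ g ≫ gb)) ⁻¹' (B : Set (D.obj b))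
  have hA''o : IsOpen A'' := A.2.preimage (D.map (φ ≫ g ≫ ga)).continuous
  have hB''o : IsOpen B'' := B.2.preimage (D.map (φ ≫ g ≫ gb)).continuous
  have hcov : ∀ y : D.obj j, y ∈ A'' ∨ y ∈ B'' := by
    intro y
    have := hl (show (D.map φ) y ∈ D.map g ⁻¹ᵁ (⊤ : (D.obj l₁).Opens) from trivial)
    rcases this with h1 | h1
    · left
      show (D.map (φ ≫ g ≫ ga)) y ∈ A
      rw [Groth.Agent.Lib.LimConnected.map_comp_apply, Groth.Agent.Lib.LimConnected.map_comp_apply]
      exact h1
    · right
      show (D.map (φ ≫ g ≫ gb)) y ∈ B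
      rw [Groth.Agent.Lib.LimConnected.map_comp_apply, Groth.Agent.Lib.LimConnected.map_comp_apply]
      exact h1
  have hdisj : ∀ y : D.obj j, y ∈ A'' → y ∈ B'' → False := by
    intro y h1 h2
    have h1' : (D.map (φ ≫ g ≫ ga)) y ∈ A := h1
    have h2' : (D.map (φ ≫ g ≫ gb)) y ∈ B := h2
    rw [← Category.assoc, Groth.Agent.Lib.LimConnected.map_comp_apply] at h1' h2'
    exact (Set.eq_empty_iff_forall_notMem.1 hl₁ ((D.map (φ ≫ g)) y)) ⟨h1', h2'⟩
  have hA''c : IsClopen A'' := by
    refine ⟨?_, hA''o⟩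
    have : A'' = B''ᶜ := by
      ext y
      constructor
      · intro hy hy'
        exact hdisj y hy hy'
      · intro hy
        exact (hcov y).resolve_right hy
    rw [this]
    exact hB''o.isClosed_compl
  obtain ⟨x, hx⟩ := hUne
  obtain ⟨x', hx'⟩ := hVne
  have hxA : (c.π.app j) x ∈ A'' := by
    show (D.map (φ ≫ g ≫ ga)) ((c.π.app j) x) ∈ A
    rw [Groth.Agent.Lib.LimConnected.π_comp_apply]
    exact (hA' x).2 hx
  have hxB : (c.π.app j) x' ∈ B'' := by
    show (D.map (φ ≫ g ≫ gb)) ((c.π.app j) x') ∈ B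
    rw [Groth.Agent.Lib.LimConnected.π_comp_apply]
    exact (hB' x').2 hx'
  rcases isClopen_iff.1 hA''c with h | h
  · rw [h] at hxA; exact hxA
  · have : (c.π.app j) x' ∈ A'' := by rw [h]; trivial
    exact hdisj _ this hxB

end Groth.Agent.S4768
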