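import Groth.Statements.S4769
import Groth.Agent.Lib.LimComponents
import Groth.Agent.S4763
-- import your own Groth.Agent.* helpers here

set_option autoImplicit false
universe u
open CategoryTheory AlgebraicGeometry
open Lim8

namespace Groth.Agent.S4769

/-- Let S = lim S_i be a cofiltered limit of schemes whose transition maps are affine and dominant, some
stage S_{i₀} being quasi-compact, and assume that the underlying topological space of S is
Noetherian. Then there is an index i over i₀ such that, for every j over i, the map sending an
irreducible component Y of S to the closure of its image under S ⟶ S_j is a bijection from the set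
of irreducible components of S onto the set of irreducible components of S_j. -/
theorem result {I : Type u} [SmallCategory I] [IsCofiltered I]
    (D : I ⥤ Scheme.{u}) (c : Limits.Cone D) (hc : Limits.IsLimit c)
    [∀ (i j : I) (f : i ⟶ j), IsAffineHom (D.map f)] (i₀ : I)
    [CompactSpace (D.obj i₀)] [TopologicalSpace.NoetherianSpace c.pt]
    (hd : ∀ (i j : I) (φ : i ⟶ j), IsDominant (D.map φ)) :
    ∃ (i : I) (_ : i ⟶ i₀), ∀ (j : I) (_ : j ⟶ i),
      Set.BijOn (fun Y : Set c.pt => closure (⇑(c.π.app j) '' (Y : Set c.pt) : Set (D.obj j)))
        (irreducibleComponents c.pt) (irreducibleComponents (D.obj j)) := by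
  have hA : ∀ {i j : I} (f : i ⟶ j), IsAffineHom (D.map f) := fun f => inferInstance
  have hdom : ∀ k, IsDominant (c.π.app k) := fun k =>
    Groth.Agent.S4763.isDominant_π_of_forall D c hc k (fun j φ => hd j k φ)
  have hfin : (irreducibleComponents c.pt).Finite :=
    TopologicalSpace.NoetherianSpace.finite_irreducibleComponents
  obtain ⟨i, f₀, hi⟩ :=
    Groth.Agent.Lib.LimComponents.exists_forall_forall_not_closure_image_subset D c hc i₀
      (irreducibleComponents c.pt) hfin (fun Z hZ => isClosed_of_mem_irreducibleComponents Z hZ)
  refine ⟨i, f₀, fun j g => ?_⟩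
  refine Groth.Agent.Lib.LimComponents.bijOn_irreducibleComponents (X := c.pt) (c.π.app j)
    (c.π.app j).continuous (hdom j).denseRange hfin ?_
  intro Y₁ hY₁ Y₂ hY₂ hsub
  by_contra hne
  have hns : ¬ Y₁ ⊆ Y₂ := fun h => hne (le_antisymm h (hY₁.2 hY₂.1 h))
  exact hi j g Y₁ hY₁ Y₂ hY₂ hns hsub

end Groth.Agent.S4769
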