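import Groth.Statements.S4772
import Groth.Agent.Lib.LimConnected
import Groth.Agent.S4763
-- import your own Groth.Agent.* helpers here

set_option autoImplicit false
universe u
open CategoryTheory AlgebraicGeometry
open Lim8

namespace Groth.Agent.S4772

/-- Let S = lim S_i be a cofiltered limit of schemes whose transition maps are affine and dominant, some
stage S_{i₀} being quasi-compact. Then S is connected (in particular nonempty) if and only if there
is an index i over i₀ such that S_j is connected for every j over i. -/
theorem result {I : Type u} [SmallCategory I] [IsCofiltered I]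
    (D : I ⥤ Scheme.{u}) (c : Limits.Cone D) (hc : Limits.IsLimit c)
    [∀ (i j : I) (f : i ⟶ j), IsAffineHom (D.map f)] (i₀ : I)
    [CompactSpace (D.obj i₀)] (hd : ∀ (i j : I) (φ : i ⟶ j), IsDominant (D.map φ)) :
    ConnectedSpace c.pt ↔ ∃ (i : I) (_ : i ⟶ i₀), ∀ (j : I) (_ : j ⟶ i), ConnectedSpace (D.obj j) := by
  have hA : ∀ {i j : I} (f : i ⟶ j), IsAffineHom (D.map f) := fun f => inferInstance
  have hdom : ∀ k, IsDominant (c.π.app k) := fun k =>
    Groth.Agent.S4763.isDominant_π_of_forall D c hc k (fun j φ => hd j k φ)
  constructor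
  · intro h
    refine ⟨i₀, 𝟙 i₀, fun j _ => ?_⟩
    have h' : ConnectedSpace (((Functor.const I).obj c.pt).obj j) := h
    exact Groth.Agent.Lib.LimConnected.connectedSpace_of_denseRange (c.π.app j)
      (c.π.app j).continuous (hdom j).denseRange
  · rintro ⟨i, f, hconn⟩
    exact Groth.Agent.Lib.LimConnected.connectedSpace_of_forall D c hc i₀ hdom i f hconn

end Groth.Agent.S4772
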