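import Groth.Statements.S4775
import Groth.Agent.Lib.LimReduced
import Groth.Agent.S4758
import Groth.Agent.S4764

set_option autoImplicit false
universe u
open CategoryTheory AlgebraicGeometry
open Lim8

namespace Groth.Agent.S4775

/-- Let S = lim S_i be a cofiltered limit of schemes whose transition maps are affine, flat and
surjective. Then S is reduced if and only if every S_i is reduced. -/
theorem result {I : Type u} [SmallCategory I] [IsCofiltered I]
    (D : I ⥤ Scheme.{u}) (c : Limits.Cone D) (hc : Limits.IsLimit c)
    [∀ (i j : I) (f : i ⟶ j), IsAffineHom (D.map f)]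
    (hf : ∀ (i j : I) (φ : i ⟶ j), Flat (D.map φ) ∧ Surjective (D.map φ)) :
    IsReduced c.pt ↔ ∀ (i : I), IsReduced (D.obj i) := by
  have hA : ∀ {i j : I} (f : i ⟶ j), IsAffineHom (D.map f) := fun f => inferInstance
  constructor
  · intro h i
    have h1 : Flat (c.π.app i) :=
      Groth.Agent.S4764.result D c hc i (fun j φ => (hf j i φ).1)
    have h2 : Surjective (c.π.app i) :=
      (Groth.Agent.S4758.result D c hc i).2 (fun j φ => (hf j i φ).2)
    have h3 : IsReduced (((Functor.const I).obj c.pt).obj i) := h
    exact Groth.Agent.Lib.LimReduced.isReduced_of_flat_of_surjective (c.π.app i)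
  · intro h
    by_contra hcon
    obtain ⟨i, hi⟩ := Groth.Agent.Lib.LimReduced.exists_not_isReduced D c hc hcon
    exact hi i (𝟙 i) (h i)

end Groth.Agent.S4775
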