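import Groth.Statements.S4776
import Groth.Agent.Lib.LimConnected
import Groth.Agent.Lib.LimReduced
import Groth.Agent.S4758
import Groth.Agent.S4775
-- import your own Groth.Agent.* helpers here

set_option autoImplicit false
universe u
open CategoryTheory AlgebraicGeometry
open Lim8

namespace Groth.Agent.S4776

/-- Let S = lim S_i be a cofiltered limit of schemes whose transition maps are affine, flat and
surjective, some stage S_{i₀} being quasi-compact, and assume that the underlying topological space
of S is Noetherian. Then S is integral if and only if there is an index i over i₀ such that S_j is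
integral for every j over i. (The published statement carries neither the quasi-compactness nor the
Noetherian hypothesis; its proof combines the reducedness criterion with the irreducibility
criterion for limits, and the latter is proved only under these two hypotheses, so they are assumed
here.) -/
theorem result {I : Type u} [SmallCategory I] [IsCofiltered I]
    (D : I ⥤ Scheme.{u}) (c : Limits.Cone D) (hc : Limits.IsLimit c)
    [∀ (i j : I) (f : i ⟶ j), IsAffineHom (D.map f)] (i₀ : I)
    [CompactSpace (D.obj i₀)] [TopologicalSpace.NoetherianSpace c.pt]
    (hf : ∀ (i j : I) (φ : i ⟶ j), Flat (D.map φ) ∧ Surjective (D.map φ)) :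
    IsIntegral c.pt ↔ ∃ (i : I) (_ : i ⟶ i₀), ∀ (j : I) (_ : j ⟶ i), IsIntegral (D.obj j) := by
  have hA : ∀ {i j : I} (f : i ⟶ j), IsAffineHom (D.map f) := fun f => inferInstance
  have hsurj : ∀ k, Surjective (c.π.app k) := fun k =>
    (Groth.Agent.S4758.result D c hc k).2 (fun j φ => (hf j k φ).2)
  have hdom : ∀ k, IsDominant (c.π.app k) := fun k => inferInstance
  constructor
  · intro h
    refine ⟨i₀, 𝟙 i₀, fun j _ => ?_⟩
    have hred : IsReduced (D.obj j) :=
      (Groth.Agent.S4775.result D c hc hf).1 inferInstance j
    have h' : IrreducibleSpace (((Functor.const I).obj c.pt).obj j) :=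
      (inferInstance : IrreducibleSpace c.pt)
    have hirr : IrreducibleSpace (D.obj j) :=
      Groth.Agent.Lib.LimConnected.irreducibleSpace_of_denseRange (c.π.app j)
        (c.π.app j).continuous (hdom j).denseRange
    exact isIntegral_of_irreducibleSpace_of_isReduced _
  · rintro ⟨i, f, hint⟩
    have hred : IsReduced c.pt := by
      by_contra hcon
      obtain ⟨i', hi'⟩ := Groth.Agent.Lib.LimReduced.exists_not_isReduced D c hc hcon
      have := hint (IsCofiltered.min i' i) (IsCofiltered.minToRight i' i)
      exact hi' (IsCofiltered.min i' i) (IsCofiltered.minToLeft i' i) inferInstance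
    have hirr : IrreducibleSpace c.pt :=
      Groth.Agent.Lib.LimConnected.irreducibleSpace_of_forall D c hc i₀ hdom i f
        (fun j g => by have := hint j g; infer_instance)
    exact isIntegral_of_irreducibleSpace_of_isReduced _

end Groth.Agent.S4776
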