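import Groth.Statements.S4780
import Groth.Agent.Lib.H80UnivOpenAffineSpace

set_option autoImplicit false
universe u
open CategoryTheory AlgebraicGeometry
open Lim8

namespace Groth.Agent.S4780

/-- Let f : X ⟶ Y be a morphism of schemes. If, for every integer n > 0, the base change of f to affine
n-space over Y, X ×_Y 𝔸ⁿ_Y ⟶ 𝔸ⁿ_Y, is an open map of topological spaces, then f is universally open. -/
theorem result {X Y : Scheme.{u}} (f : X ⟶ Y)
    (h : ∀ n : ℕ, 0 < n →
      IsOpenMap ⇑(Limits.pullback.snd f (AffineSpace (ULift.{u} (Fin n)) Y ↘ Y))) :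
    UniversallyOpen f := by
  open AffineSpace in
  have hmap : ∀ n : ℕ, 0 < n → IsOpenMap (AffineSpace.map (ULift.{u} (Fin n)) f) := by
    intro n hn
    have hpb := (AffineSpace.isPullback_map (n := ULift.{u} (Fin n)) f).flip
    have e1 : hpb.isoPullback.hom ≫ Limits.pullback.snd f (AffineSpace (ULift.{u} (Fin n)) Y ↘ Y) =
        AffineSpace.map (ULift.{u} (Fin n)) f := hpb.isoPullback_hom_snd
    rw [← e1]
    simp only [Scheme.Hom.comp_base, TopCat.coe_comp]
    exact (h n hn).comp hpb.isoPullback.hom.homeomorph.isOpenMap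
  have hf : IsOpenMap f := by
    intro U hU
    have h1 := hmap 1 Nat.one_pos
    have h2 : IsOpenMap (AffineSpace (ULift.{u} (Fin 1)) Y ↘ Y) := AffineSpace.isOpenMap_over _
    have h3 : f '' U = (AffineSpace (ULift.{u} (Fin 1)) Y ↘ Y) ''
        ((AffineSpace.map (ULift.{u} (Fin 1)) f) ''
          ((AffineSpace (ULift.{u} (Fin 1)) X ↘ X) ⁻¹' U)) := by
      have hw : ∀ w, (AffineSpace (ULift.{u} (Fin 1)) Y ↘ Y)
          ((AffineSpace.map (ULift.{u} (Fin 1)) f) w) =
          f ((AffineSpace (ULift.{u} (Fin 1)) X ↘ X) w) := fun w => by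
        rw [← Scheme.Hom.comp_apply, AffineSpace.map_over, Scheme.Hom.comp_apply]
      ext y
      constructor
      · rintro ⟨x, hx, rfl⟩
        obtain ⟨w, rfl⟩ := (AffineSpace (ULift.{u} (Fin 1)) X ↘ X).surjective x
        exact ⟨_, ⟨w, hx, rfl⟩, hw w⟩
      · rintro ⟨_, ⟨w, hwU, rfl⟩, rfl⟩
        exact ⟨_, hwU, (hw w).symm⟩
    rw [h3]
    exact h2 _ (h1 _ (hU.preimage (AffineSpace (ULift.{u} (Fin 1)) X ↘ X).continuous))
  apply Groth.Agent.Lib.H80UnivOpenAffineSpace.universallyOpen_of_forall_isOpenMap_map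
  intro n
  rcases Nat.eq_zero_or_pos n with rfl | hn
  · have e2 : AffineSpace.map (ULift.{u} (Fin 0)) f =
        (AffineSpace (ULift.{u} (Fin 0)) X ↘ X) ≫ f ≫
          inv (AffineSpace (ULift.{u} (Fin 0)) Y ↘ Y) := by
      rw [← Category.assoc, IsIso.eq_comp_inv, AffineSpace.map_over]
    rw [e2]
    simp only [Scheme.Hom.comp_base, TopCat.coe_comp]
    exact ((inv (AffineSpace (ULift.{u} (Fin 0)) Y ↘ Y)).homeomorph.isOpenMap.comp hf).comp
      (AffineSpace (ULift.{u} (Fin 0)) X ↘ X).homeomorph.isOpenMap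
  · exact hmap n hn

end Groth.Agent.S4780
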