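import Groth.Statements.S4781
import Mathlib
import Groth.Agent.Lib.H79FlatGenDimSch
import Groth.Agent.Lib.H56OpenFibDim3
import Groth.Agent.Lib.H56ConsNhds

set_option autoImplicit false
universe u
open CategoryTheory AlgebraicGeometry
open Cons9

namespace Groth.Agent.S4781

open AlgebraicGeometry CategoryTheory Limits Topology
open Groth.Agent.Lib.H56LocDim Groth.Agent.Lib.H56OpenDim Groth.Agent.Lib.H56ConsNhds
  Groth.Agent.Lib.H30DimRel Groth.Agent.Lib.H30IrrFib Groth.Agent.Lib.H30FlatDim
  Groth.Agent.Lib.H79FlatGenDimSch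

variable {X S : Scheme.{u}}

/-- the generic point of an irreducible scheme dominating an irreducible scheme maps to the generic
point -/
theorem map_genericPoint (f : X ⟶ S) [IrreducibleSpace S] [IrreducibleSpace X] [IsDominant f] :
    f (genericPoint X) = genericPoint S := by
  have h1 : IsGenericPoint (f (genericPoint X)) (Set.univ : Set S) := by
    have h2 : IsGenericPoint (f (genericPoint X)) (closure (f '' Set.univ)) :=
      (genericPoint_spec X).image f.continuous
    rwa [Set.image_univ, f.denseRange.closure_range] at h2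
  exact (h1.eq (genericPoint_spec S))

/-- on an irreducible `X`, the generic fibre has dimension `rt f ξ`. -/
theorem dim_generic_fiber (f : X ⟶ S) [LocallyOfFiniteType f] [IrreducibleSpace X] :
    topologicalKrullDim (f.fiber (f (genericPoint X))) =
      ((rt f (genericPoint X) : ℕ) : WithBot ℕ∞) := by
  apply le_antisymm
  · rw [dim_fiber_le_iff]
    intro x hx
    obtain ⟨w, hw1, hw2, hw3, hw⟩ := exists_rt_eq_fibreDimAt f x
    have : genericPoint X = w :=
      hw3 (genericPoint X) hx.symm (genericPoint_specializes w)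
    rw [← hw, this]
  · have := (fibreDimAt_of_maximal f (genericPoint X)
      (fun ξ hξ => (hξ.antisymm (genericPoint_specializes ξ)).eq)).symm
    rw [this]
    rw [dim_fiber_eq_iSup]
    exact le_iSup (fun x : {x : X // f.base x = f (genericPoint X)} => FlatMor.fibreDimAt f x.1)
      ⟨genericPoint X, rfl⟩

theorem main (f : X ⟶ S)
    [IsNoetherian S] [IrreducibleSpace S] [IrreducibleSpace X] [IsDominant f]
    [LocallyOfFiniteType f] [QuasiCompact f] :
    ∃ U : S.Opens, genericPoint S ∈ U ∧ ∀ s ∈ U, ∀ T ∈ irreducibleComponents ↥(⇑f ⁻¹' {s}),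
      topologicalKrullDim ↥T = topologicalKrullDim ↥(⇑f ⁻¹' {genericPoint S}) := by
  set ξ := genericPoint X with hξ
  set k := rt f ξ with hk
  have hfξ : f ξ = genericPoint S := map_genericPoint f
  have hdimη : topologicalKrullDim (f.fiber (genericPoint S)) = ((k : ℕ) : WithBot ℕ∞) := by
    rw [← hfξ]; exact dim_generic_fiber f
  -- the bad set
  have hG : IsLocallyConstructible
      {z : S | ((k + 1 : ℕ) : WithBot ℕ∞) ≤ topologicalKrullDim (f.fiber z)} :=
    isLocallyConstructible_le_dim_fiber f (k + 1)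
  have hC : IsLocallyConstructible
      {z : S | ((k + 1 : ℕ) : WithBot ℕ∞) ≤ topologicalKrullDim (f.fiber z)}ᶜ :=
    hG.isConstructible.compl.isLocallyConstructible
  have hnhds := mem_nhds_of_isLocallyConstructible S hC (genericPoint S) (by
    intro ξ' hξ'
    have : ξ' = genericPoint S := (hξ'.antisymm (genericPoint_specializes ξ')).eq
    rw [this]
    simp only [Set.mem_compl_iff, Set.mem_ofPred_eq, not_le, hdimη]
    exact_mod_cast Nat.lt_succ_self k)
  obtain ⟨U₀, hU₀sub, hU₀open, hηU₀⟩ := mem_nhds_iff.mp hnhds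
  refine ⟨⟨U₀, hU₀open⟩, hηU₀, ?_⟩
  intro s hs T hT
  have hs' : topologicalKrullDim (f.fiber s) ≤ ((k : ℕ) : WithBot ℕ∞) := by
    have h1 : ¬ ((k + 1 : ℕ) : WithBot ℕ∞) ≤ topologicalKrullDim (f.fiber s) := hU₀sub hs
    rw [not_le] at h1
    exact (lt_succ_iff_le _ _).1 h1
  -- transport `T` to the fibre scheme
  let e := f.fiberHomeo s
  set Z : Set (f.fiber s) := e ⁻¹' T with hZ
  have hZc : Z ∈ irreducibleComponents (f.fiber s) := by
    refine preimage_mem_irreducibleComponents hT e.isOpenEmbedding ?_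
    obtain ⟨t, ht⟩ := hT.1.1
    exact ⟨t, ht, e.surjective t⟩
  have hdimZT : topologicalKrullDim ↥Z = topologicalKrullDim ↥T :=
    IsHomeomorph.topologicalKrullDim_eq _
      (e.subtype (p := (· ∈ Z)) (q := (· ∈ T)) (fun _ => Iff.rfl)).isHomeomorph
  have hdimη' : topologicalKrullDim ↥(⇑f ⁻¹' {genericPoint S}) = ((k : ℕ) : WithBot ℕ∞) := by
    rw [← hdimη]
    exact (IsHomeomorph.topologicalKrullDim_eq _ (f.fiberHomeo (genericPoint S)).isHomeomorph).symm
  rw [← hdimZT, hdimη']
  -- generic point of `Z`
  obtain ⟨z, hz⟩ : ∃ z, IsGenericPoint z Z :=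
    QuasiSober.sober hZc.1 (isClosed_of_mem_irreducibleComponents Z hZc)
  have hfx : f (f.fiberι s z) = s := by
    have : f.fiberι s z ∈ Set.range (f.fiberι s) := ⟨z, rfl⟩
    rw [f.range_fiberι s] at this
    exact this
  obtain ⟨hdimZ, hmax⟩ := dim_component_eq_rt f (f.fiberι s z) s hfx z rfl Z hZc hz
  rw [hdimZ]
  apply le_antisymm
  · rw [← hdimZ]
    exact (topologicalKrullDim_subspace_le _ _).trans hs'
  · have h1 := fibreDimAt_le_of_specializes f (f.fiberι s z) ξ (genericPoint_specializes _)
    have h2 : FlatMor.fibreDimAt f ξ = ((k : ℕ) : WithBot ℕ∞) :=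
      fibreDimAt_of_maximal f ξ (fun ξ' hξ' => (hξ'.antisymm (genericPoint_specializes ξ')).eq)
    obtain ⟨w, hw1, hw2, -, hw⟩ := exists_rt_eq_fibreDimAt f (f.fiberι s z)
    rw [hmax w hw1 hw2] at hw
    rw [h2, ← hw] at h1
    exact h1


/-- Let S be a Noetherian irreducible scheme with generic point η, let X be an irreducible scheme and f
: X ⟶ S a dominant morphism of finite type. Then there is an open neighbourhood U of η in S such
that, for every s ∈ U, all irreducible components of the fibre f⁻¹(s) have dimension equal to dim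
f⁻¹(η). Fibres are taken as subspaces of X and dimensions are topological Krull dimensions. -/
theorem result {X S : Scheme.{u}} (f : X ⟶ S)
    [IsNoetherian S] [IrreducibleSpace S] [IrreducibleSpace X] [IsDominant f]
    [LocallyOfFiniteType f] [QuasiCompact f] :
    ∃ U : S.Opens, genericPoint S ∈ U ∧ ∀ s ∈ U, ∀ T ∈ irreducibleComponents ↥(⇑f ⁻¹' {s}),
      topologicalKrullDim ↥T = topologicalKrullDim ↥(⇑f ⁻¹' {genericPoint S}) := by
  exact main f

end Groth.Agent.S4781
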