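import Groth.Statements.S4784
import Mathlib.AlgebraicGeometry.AffineTransitionLimit
import Mathlib.AlgebraicGeometry.PullbackCarrier
import Mathlib.AlgebraicGeometry.ResidueField
import Mathlib.CategoryTheory.Limits.Shapes.Pullback.Connected
import Mathlib.CategoryTheory.Comma.Over.Pullback

set_option autoImplicit false
universe u
open CategoryTheory AlgebraicGeometry

namespace Groth.Agent.S4784

open Limits

section aux

variable {I : Type u} [SmallCategory I] [IsCofiltered I]
    (D : I ⥤ Scheme.{u}) (c : Limits.Cone D) (hc : Limits.IsLimit c)
    (i : I) {K : Scheme.{u}} (κ : K ⟶ D.obj i)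

set_option backward.isDefEq.respectTransparency false in
/-- The base-changed diagram. -/
noncomputable def D' : Over i ⥤ Scheme.{u} where
  obj j := pullback (D.map j.hom) κ
  map {j k} f := pullback.lift (pullback.fst _ _ ≫ D.map f.left) (pullback.snd _ _)
    (by rw [Category.assoc, ← D.map_comp, Over.w f, pullback.condition])
  map_id j := by apply pullback.hom_ext <;> simp
  map_comp f g := by apply pullback.hom_ext <;> simp

set_option backward.isDefEq.respectTransparency false in
/-- The projection to the original diagram. -/
noncomputable def α : D' D i κ ⟶ Over.forget i ⋙ D where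
  app j := pullback.fst (D.map j.hom) κ
  naturality j k f := by
    simp [D']

set_option backward.isDefEq.respectTransparency false in
/-- The base-changed cone. -/
noncomputable def c' : Cone (D' D i κ) where
  pt := pullback (c.π.app i) κ
  π :=
  { app j := pullback.lift (pullback.fst _ _ ≫ c.π.app j.left) (pullback.snd _ _)
      (by rw [Category.assoc, c.w, pullback.condition])
    naturality j k f := by
      apply pullback.hom_ext <;> simp [D'] }

attribute [local instance] CategoryTheory.isConnected_of_hasTerminal

set_option backward.isDefEq.respectTransparency false in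
/-- The base-changed cone is a limit cone. -/
noncomputable def hc' : IsLimit (c' D c i κ) :=
  isLimitOfIsPullbackOfIsConnected (α D i κ) _ (c.whisker (Over.forget i))
    { hom := pullback.fst _ _
      w := fun j => by simp [c', α] }
    (fun j => by
      refine IsPullback.of_right (h₁₂ := pullback.snd (D.map j.hom) κ) (v₁₃ := κ)
        (h₂₂ := D.map j.hom) ?_ ?_ (IsPullback.of_hasPullback _ _).flip
      · have h1 : (c' D c i κ).π.app j ≫ pullback.snd (D.map j.hom) κ = pullback.snd _ _ := by
          simp [c']
        have h2 : (c.whisker (Over.forget i)).π.app j ≫ D.map j.hom = c.π.app i := by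
          simp
        rw [h1, h2]
        exact (IsPullback.of_hasPullback _ _).flip
      · simp [c', α])
    ((Functor.Initial.isLimitWhiskerEquiv (Over.forget i) c).symm hc)

end aux

/-- Let S = lim S_i be a cofiltered limit of schemes with affine transition maps and let i be an index.
Then the image of the projection S ⟶ S_i equals the intersection, over all indices j over i, of the
images of the transition maps S_j ⟶ S_i. -/
theorem result {I : Type u} [SmallCategory I] [IsCofiltered I]
    (D : I ⥤ Scheme.{u}) (c : Limits.Cone D) (hc : Limits.IsLimit c)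
    [∀ (i j : I) (f : i ⟶ j), IsAffineHom (D.map f)] (i : I) :
    Set.range ⇑(c.π.app i) = ⋂ (j : I) (φ : j ⟶ i), Set.range ⇑(D.map φ) := by
  apply Set.Subset.antisymm
  · rintro _ ⟨s, rfl⟩
    simp only [Set.mem_iInter]
    intro j φ
    refine ⟨c.π.app j s, ?_⟩
    rw [← Scheme.Hom.comp_apply, c.w]
  · intro x hx
    simp only [Set.mem_iInter] at hx
    let κ := (D.obj i).fromSpecResidueField x
    have hA : ∀ (a b : I) (f : a ⟶ b), IsAffineHom (D.map f) := fun a b f => inferInstance
    have haff : ∀ j : Over i, IsAffine ((D' D i κ).obj j) := fun j =>
      have : IsAffineHom (D.map j.hom) := hA _ _ j.hom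
      inferInstanceAs (IsAffine (pullback (D.map j.hom) κ))
    have : ∀ {j k : Over i} (f : j ⟶ k), IsAffineHom ((D' D i κ).map f) := fun {j k} f =>
      have := haff j
      have := haff k
      inferInstance
    have : ∀ j : Over i, Nonempty ((D' D i κ).obj j) := by
      intro j
      obtain ⟨y, hy⟩ := hx j.left j.hom
      have hne : Nonempty (Spec ((D.obj i).residueField x)) := inferInstance
      obtain ⟨p⟩ := hne
      have hp : κ p = x := Scheme.fromSpecResidueField_apply x p
      obtain ⟨z, -, -⟩ := Scheme.Pullback.exists_preimage_pullback (f := D.map j.hom) (g := κ)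
        y p (by rw [hy, hp])
      exact ⟨z⟩
    have : ∀ j : Over i, CompactSpace ((D' D i κ).obj j) := fun j =>
      have := haff j
      inferInstance
    obtain ⟨z⟩ := Scheme.nonempty_of_isLimit (D' D i κ) (c' D c i κ) (hc' D c hc i κ)
    refine ⟨pullback.fst (c.π.app i) κ z, ?_⟩
    rw [← Scheme.Hom.comp_apply, pullback.condition, Scheme.Hom.comp_apply]
    exact Scheme.fromSpecResidueField_apply x _

end Groth.Agent.S4784
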