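import Groth.Statements.S4806
import Mathlib.AlgebraicGeometry.ZariskisMainTheorem
import Mathlib.RingTheory.LocalRing.Module
import Mathlib.RingTheory.Support
-- import your own Groth.Agent.* helpers here

set_option autoImplicit false
universe u
open CategoryTheory AlgebraicGeometry
open Lim8

namespace Groth.Agent.S4806

open TensorProduct in

lemma surjective_of_fiber_surjective {R S : Type*} [CommRing R] [CommRing S] [Algebra R S]
    [Module.Finite R S]
    (H : ∀ (P : Ideal R) [P.IsPrime],
      Function.Surjective (algebraMap P.ResidueField (P.Fiber S))) :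
    Function.Surjective (algebraMap R S) := by
  let N : Submodule R S := LinearMap.range (Algebra.linearMap R S)
  suffices hN : N = ⊤ by
    intro s
    have : s ∈ N := hN ▸ Submodule.mem_top
    exact this
  rw [← Submodule.Quotient.subsingleton_iff, ← Module.support_eq_empty_iff (R := R),
    Set.eq_empty_iff_forall_notMem]
  intro p
  rw [Module.mem_support_iff_nontrivial_residueField_tensorProduct, not_nontrivial_iff_subsingleton]
  refine ⟨fun z w ↦ ?_⟩
  have key : ∀ z : p.asIdeal.ResidueField ⊗[R] (S ⧸ N), z = 0 := by
    intro z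
    obtain ⟨w, rfl⟩ := LinearMap.lTensor_surjective p.asIdeal.ResidueField N.mkQ_surjective z
    obtain ⟨k, rfl⟩ := H p.asIdeal w
    rw [Algebra.TensorProduct.algebraMap_apply, Algebra.algebraMap_self, RingHom.id_apply,
      LinearMap.lTensor_tmul]
    have : N.mkQ (1 : S) = 0 := by
      rw [Submodule.mkQ_apply, Submodule.Quotient.mk_eq_zero]
      exact ⟨1, by simp⟩
    rw [this, tmul_zero]
  rw [key z, key w]

open AlgebraicGeometry CategoryTheory Limits in
lemma isEmpty_or_isIso_of_isClosedImmersion {Z : Scheme.{u}} {K : Type u} [Field K]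
    (g : Z ⟶ Spec (CommRingCat.of K)) [IsClosedImmersion g] : IsEmpty Z ∨ IsIso g := by
  by_cases h : IsEmpty Z
  · exact Or.inl h
  · right
    rw [not_isEmpty_iff] at h
    have : Surjective g := ⟨fun y ↦ ⟨h.some, Subsingleton.elim _ _⟩⟩
    exact isIso_of_isClosedImmersion_of_surjective g

open AlgebraicGeometry CategoryTheory Limits in
lemma surjective_of_isClosedImmersion_spec {R S : CommRingCat.{u}} (ψ : R ⟶ S)
    (h : IsClosedImmersion (Spec.map ψ)) : Function.Surjective ψ.hom := by
  have h1 := (IsClosedImmersion.isAffine_surjective_of_isAffine (Spec.map ψ)).2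
  have h2 := Scheme.ΓSpecIso_naturality ψ
  have h3 : ψ = (Scheme.ΓSpecIso R).inv ≫ (Spec.map ψ).appTop ≫ (Scheme.ΓSpecIso S).hom := by
    rw [h2, Iso.inv_hom_id_assoc]
  rw [h3]
  simp only [CommRingCat.hom_comp, RingHom.coe_comp]
  exact (ConcreteCategory.bijective_of_isIso (Scheme.ΓSpecIso S).hom).2.comp
    (h1.comp (ConcreteCategory.bijective_of_isIso (Scheme.ΓSpecIso R).inv).2)

set_option backward.isDefEq.respectTransparency false in
open AlgebraicGeometry CategoryTheory Limits Scheme in
lemma surjective_of_fiber_spec {R S : CommRingCat.{u}} (φ : R ⟶ S) [IsFinite (Spec.map φ)]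
    (hf : ∀ y, IsClosedImmersion ((Spec.map φ).fiberToSpecResidueField y)) :
    Function.Surjective φ.hom := by
  algebraize [φ.hom]
  have hfin : Module.Finite R S := by
    have := (IsFinite.SpecMap_iff (f := φ)).mp inferInstance
    exact this
  apply surjective_of_fiber_surjective
  intro P hP
  obtain ⟨x, rfl⟩ : ∃ x : Spec R, P = x.asIdeal := ⟨⟨P, hP⟩, rfl⟩
  have key : IsClosedImmersion (Spec.map <|
      CommRingCat.ofHom <| algebraMap x.asIdeal.ResidueField (x.asIdeal.Fiber S)) := by
    refine (MorphismProperty.arrow_mk_iso_iff @IsClosedImmersion (Arrow.isoMk ?_ ?_ ?_)).mp (hf x)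
    · refine asIso (pullback.map _ _ _ _ (𝟙 _) (Spec.map (Spec.residueFieldIso _ x).inv) (𝟙 _)
        ?_ ?_) ≪≫ pullbackSymmetry _ _ ≪≫ pullbackSpecIso ..
      · simp; rfl
      · simp [← Spec.map_comp, fromSpecResidueField, Spec.fromSpecStalk_eq]
    · exact asIso (Spec.map (Spec.residueFieldIso _ x).inv)
    · simp [Hom.fiberToSpecResidueField]
  exact surjective_of_isClosedImmersion_spec _ key

set_option backward.isDefEq.respectTransparency false in
open AlgebraicGeometry CategoryTheory Limits Scheme in
lemma isClosedImmersion_of_fiber {X Y : Scheme.{u}} (f : X ⟶ Y) [IsFinite f]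
    (hf : ∀ y, IsClosedImmersion (f.fiberToSpecResidueField y)) : IsClosedImmersion f := by
  change id _
  wlog hY : ∃ R, Y = Spec R
  · refine (IsZariskiLocalAtTarget.iff_of_openCover Y.affineCover).mpr fun i ↦
      this (f := pullback.snd _ _) (fun x ↦ ?_) ⟨_, rfl⟩
    have (x : Y) : IsLocallyArtinian (f.fiber x) := inferInstance
    refine (MorphismProperty.cancel_right_of_respectsIso @IsClosedImmersion _
      (Spec.map ((Y.affineCover.f i).residueFieldMap _))).mp ?_
    let g : (pullback.snd f (Y.affineCover.f i)).fiber x ⟶ f.fiber (Y.affineCover.f i x) :=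
      pullback.map _ _ _ _ (pullback.fst _ _) (Spec.map ((Y.affineCover.f i).residueFieldMap _))
        (Y.affineCover.f i) (by simp [pullback.condition]) (by simp)
    have : IsClosedImmersion g := .of_isPreimmersion _ (isClosed_discrete _)
    convert! (inferInstance : IsClosedImmersion <| g ≫ f.fiberToSpecResidueField _) using 1
    simp [g, Hom.fiberToSpecResidueField]
  obtain ⟨R, rfl⟩ := hY
  wlog hX : ∃ S, X = Spec S
  · have hXaff : IsAffine X := isAffine_of_isAffineHom f
    have h1 := this R (X.isoSpec.inv ≫ f) (fun x ↦ ?_) ⟨_, rfl⟩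
    · exact (MorphismProperty.cancel_left_of_respectsIso @IsClosedImmersion _ _).mp h1
    let g : (X.isoSpec.inv ≫ f).fiber x ⟶ f.fiber x :=
      pullback.map _ _ _ _ X.isoSpec.inv (𝟙 _) (𝟙 _) (by simp) (by simp)
    have : IsIso g := by dsimp [g]; infer_instance
    convert (inferInstance : IsClosedImmersion <| g ≫ f.fiberToSpecResidueField _)
    simp [g, Hom.fiberToSpecResidueField]
  obtain ⟨S, rfl⟩ := hX
  obtain ⟨φ, rfl⟩ := Spec.map_surjective f
  exact IsClosedImmersion.spec_of_surjective φ (surjective_of_fiber_spec φ hf)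

/-- Let f : X ⟶ Y be a proper morphism of finite presentation. Then f is a closed immersion if and only
if, for every point y of Y, the scheme-theoretic fibre of f at y is empty or its structure morphism
to Spec κ(y) is an isomorphism. -/
theorem result {X Y : Scheme.{u}} (f : X ⟶ Y) [IsProper f]
    [LocallyOfFinitePresentation f] :
    IsClosedImmersion f ↔ ∀ y : Y, IsEmpty (f.fiber y) ∨ IsIso (f.fiberToSpecResidueField y) := by
  constructor
  · intro hf y
    have : IsClosedImmersion (f.fiberToSpecResidueField y) := by
      dsimp [Scheme.Hom.fiberToSpecResidueField]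
      exact MorphismProperty.pullback_snd (P := @IsClosedImmersion) _ _ hf
    exact isEmpty_or_isIso_of_isClosedImmersion (K := Y.residueField y)
      (f.fiberToSpecResidueField y)
  · intro H
    have hcl : ∀ y, IsClosedImmersion (f.fiberToSpecResidueField y) := by
      intro y
      rcases H y with h | h
      · have : IsOpenImmersion (f.fiberToSpecResidueField y) := isOpenImmersion_of_isEmpty _
        exact .of_isPreimmersion _ (by
          rw [Set.range_eq_empty]; exact isClosed_empty)
      · infer_instance
    have : LocallyQuasiFinite f := .of_fiberToSpecResidueField f fun y ↦ inferInstance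
    have : IsFinite f := IsFinite.of_isProper_of_locallyQuasiFinite f
    exact isClosedImmersion_of_fiber f hcl

end Groth.Agent.S4806
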