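import Groth.Statements.S4816
import Groth.Agent.Lib.LimDescentIff

set_option autoImplicit false
universe u
open CategoryTheory AlgebraicGeometry
open Lim8

namespace Groth.Agent.S4816

open CategoryTheory.Limits Groth.Agent.Lib.LimDescent in
/-- `Z₁ ×_B B'` factors through `Z₂ ×_B B'` over `B'` iff the base change of the projection
`Z₁ ×_B Z₂ ⟶ Z₁` is an isomorphism. -/
theorem exists_fac_iff_isIso {B Z₁ Z₂ B' : Scheme.{u}} (ι₁ : Z₁ ⟶ B) (ι₂ : Z₂ ⟶ B) [Mono ι₂]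
    (b : B' ⟶ B) :
    (∃ k : pullback ι₁ b ⟶ pullback ι₂ b, k ≫ pullback.snd ι₂ b = pullback.snd ι₁ b) ↔
      IsIso (bcMap (pullback.fst ι₁ ι₂) ι₁ b) := by
  constructor
  · rintro ⟨k, hk⟩
    have w1 : pullback.fst ι₁ b ≫ ι₁ = (k ≫ pullback.fst ι₂ b) ≫ ι₂ := by
      have e1 : pullback.fst ι₁ b ≫ ι₁ = pullback.snd ι₁ b ≫ b := pullback.condition
      have e2 : pullback.fst ι₂ b ≫ ι₂ = pullback.snd ι₂ b ≫ b := pullback.condition
      rw [e1, Category.assoc, e2, ← Category.assoc, hk]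
    have w2 : pullback.lift (pullback.fst ι₁ b) (k ≫ pullback.fst ι₂ b) w1 ≫
        (pullback.fst ι₁ ι₂ ≫ ι₁) = pullback.snd ι₁ b ≫ b := by
      rw [pullback.lift_fst_assoc, pullback.condition]
    let σ : pullback ι₁ b ⟶ pullback (pullback.fst ι₁ ι₂ ≫ ι₁) b :=
      pullback.lift (pullback.lift (pullback.fst ι₁ b) (k ≫ pullback.fst ι₂ b) w1)
        (pullback.snd ι₁ b) w2
    have hσ : σ ≫ bcMap (pullback.fst ι₁ ι₂) ι₁ b = 𝟙 _ := by
      apply pullback.hom_ext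
      · rw [Category.assoc, bcMap_fst, pullback.lift_fst_assoc, pullback.lift_fst,
          Category.id_comp]
      · rw [Category.assoc, bcMap_snd, pullback.lift_snd, Category.id_comp]
    haveI : Mono (bcMap (pullback.fst ι₁ ι₂) ι₁ b) :=
      MorphismProperty.of_isPullback (P := MorphismProperty.monomorphisms Scheme.{u})
        (isPullback_bcMap (pullback.fst ι₁ ι₂) ι₁ b)
        (inferInstance : Mono (pullback.fst ι₁ ι₂))
    haveI : IsSplitEpi (bcMap (pullback.fst ι₁ ι₂) ι₁ b) := ⟨⟨⟨σ, hσ⟩⟩⟩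
    exact isIso_of_mono_of_isSplitEpi _
  · intro h
    have w : (pullback.fst (pullback.fst ι₁ ι₂ ≫ ι₁) b ≫ pullback.snd ι₁ ι₂) ≫ ι₂ =
        pullback.snd (pullback.fst ι₁ ι₂ ≫ ι₁) b ≫ b := by
      have e : pullback.snd ι₁ ι₂ ≫ ι₂ = pullback.fst ι₁ ι₂ ≫ ι₁ := pullback.condition.symm
      rw [Category.assoc, e]
      exact pullback.condition
    refine ⟨inv (bcMap (pullback.fst ι₁ ι₂) ι₁ b) ≫ pullback.lift _ _ w, ?_⟩
    rw [Category.assoc, pullback.lift_snd, IsIso.inv_comp_eq, bcMap_snd]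


open CategoryTheory.Limits in
/-- Let S = lim S_i be a cofiltered limit of schemes with affine transition maps and S_{i₀} a
quasi-compact stage; let ι₁ : Z₁ ⟶ S_{i₀} and ι₂ : Z₂ ⟶ S_{i₀} be two subschemes of finite
presentation of S_{i₀} (immersions which are locally of finite presentation and quasi-compact), with
base changes Z₁ ×_{S_{i₀}} T ⟶ T to T = S and to T = S_j. Then Z₁ ×_{S_{i₀}} S is a subscheme of Z₂
×_{S_{i₀}} S (its immersion into S factors through that of Z₂ ×_{S_{i₀}} S) if and only if, for some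
index j over i₀, Z₁ ×_{S_{i₀}} S_j is a subscheme of Z₂ ×_{S_{i₀}} S_j. -/
theorem result {I : Type u} [SmallCategory I] [IsCofiltered I]
    (D : I ⥤ Scheme.{u}) (c : Limits.Cone D) (hc : Limits.IsLimit c)
    [∀ (i j : I) (f : i ⟶ j), IsAffineHom (D.map f)] (i₀ : I) [CompactSpace (D.obj i₀)]
    {Z₁ Z₂ : Scheme.{u}} (ι₁ : Z₁ ⟶ D.obj i₀) (ι₂ : Z₂ ⟶ D.obj i₀)
    [IsImmersion ι₁] [LocallyOfFinitePresentation ι₁] [QuasiCompact ι₁]
    [IsImmersion ι₂] [LocallyOfFinitePresentation ι₂] [QuasiCompact ι₂] :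
    (∃ k : pullback ι₁ (c.π.app i₀) ⟶ pullback ι₂ (c.π.app i₀),
        k ≫ pullback.snd ι₂ (c.π.app i₀) = pullback.snd ι₁ (c.π.app i₀)) ↔
      ∃ (j : I) (φ : j ⟶ i₀) (k : pullback ι₁ (D.map φ) ⟶ pullback ι₂ (D.map φ)),
        k ≫ pullback.snd ι₂ (D.map φ) = pullback.snd ι₁ (D.map φ) := by
  haveI : ∀ {i j : I} (f : i ⟶ j), IsAffineHom (D.map f) := fun f => inferInstance
  haveI : CompactSpace Z₁ := QuasiCompact.compactSpace_of_compactSpace ι₁
  rw [exists_fac_iff_isIso ι₁ ι₂ (c.π.app i₀)]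
  constructor
  · intro h
    obtain ⟨j, hj⟩ := Groth.Agent.Lib.LimDescent.exists_isIso_stage'' D c hc
      (pullback.fst ι₁ ι₂) ι₁ h
    exact ⟨j.left, j.hom, (exists_fac_iff_isIso ι₁ ι₂ (D.map j.hom)).mpr hj⟩
  · rintro ⟨j, φ, hk⟩
    have h1 : IsIso (Groth.Agent.Lib.LimDescent.bcMap (pullback.fst ι₁ ι₂) ι₁ (D.map φ)) :=
      (exists_fac_iff_isIso ι₁ ι₂ (D.map φ)).mp hk
    exact MorphismProperty.of_isPullback (P := MorphismProperty.isomorphisms Scheme.{u})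
      (Groth.Agent.Lib.LimDescent.isPullback_pbProj_bcMap D c (pullback.fst ι₁ ι₂) ι₁ (Over.mk φ)) h1

end Groth.Agent.S4816
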