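import Groth.Statements.S4821
import Mathlib.RingTheory.MvPolynomial.Localization
import Mathlib.RingTheory.Localization.Ideal
-- import your own Groth.Agent.* helpers here

set_option autoImplicit false
universe u
open Cons9

namespace Groth.Agent.S4821

/-- Let A be an integral domain with fraction field K, and (P_i) a finite family of polynomials in
A[T_1, …, T_m], generating an ideal 𝔞; for a point s of Spec A write 𝔞_s for the ideal of κ(s)[T_1,
…, T_m] generated by the images of the P_i. If the zero locus of 𝔞_η in affine m-space over K = κ(η)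
is empty, that is if 𝔞_η is the unit ideal, then there is an open neighbourhood D(f) (f ≠ 0) of the
generic point such that 𝔞_s is the unit ideal (its zero locus is empty) for every s in D(f). -/
theorem result {A : Type u} [CommRing A] [IsDomain A] {m : ℕ}
    (P : Finset (MvPolynomial (Fin m) A))
    (hη : Ideal.span ((MvPolynomial.map (algebraMap A (FractionRing A))) '' (P : Set (MvPolynomial (Fin m) A))) = ⊤) :
    ∃ f : A, f ≠ 0 ∧ ∀ p : PrimeSpectrum A, f ∉ p.asIdeal →
      Ideal.span ((MvPolynomial.map (algebraMap A p.asIdeal.ResidueField)) '' (P : Set (MvPolynomial (Fin m) A))) = ⊤ := by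
  classical
  let K := FractionRing A
  let _ := MvPolynomial.algebraMvPolynomial (σ := Fin m) (R := A) (S := K)
  let I : Ideal (MvPolynomial (Fin m) A) := Ideal.span (P : Set (MvPolynomial (Fin m) A))
  have hI : I.map (algebraMap (MvPolynomial (Fin m) A) (MvPolynomial (Fin m) K)) = ⊤ := by
    rw [MvPolynomial.algebraMap_def, Ideal.map_span]
    exact hη
  have hdis : ¬ Disjoint (((nonZeroDivisors A).map (MvPolynomial.C (σ := Fin m)) :
      Submonoid (MvPolynomial (Fin m) A)) : Set (MvPolynomial (Fin m) A)) (I : Set _) := by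
    rw [← IsLocalization.map_algebraMap_ne_top_iff_disjoint
      ((nonZeroDivisors A).map (MvPolynomial.C (σ := Fin m))) (MvPolynomial (Fin m) K)]
    simpa using hI
  rw [Set.not_disjoint_iff] at hdis
  obtain ⟨_, ⟨f, hf, rfl⟩, hfI⟩ := hdis
  refine ⟨f, nonZeroDivisors.ne_zero hf, fun p hp ↦ ?_⟩
  rw [← Ideal.map_span, Ideal.eq_top_iff_one]
  have h1 : MvPolynomial.map (algebraMap A p.asIdeal.ResidueField) (MvPolynomial.C f) ∈
      Ideal.map (MvPolynomial.map (algebraMap A p.asIdeal.ResidueField)) I :=
    Ideal.mem_map_of_mem _ hfI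
  rw [MvPolynomial.map_C] at h1
  have h2 : algebraMap A p.asIdeal.ResidueField f ≠ 0 := by
    rw [Ne, Ideal.algebraMap_residueField_eq_zero]
    exact hp
  have h3 := Ideal.mul_mem_left _ (MvPolynomial.C (algebraMap A p.asIdeal.ResidueField f)⁻¹) h1
  rwa [← MvPolynomial.C_mul, inv_mul_cancel₀ h2, MvPolynomial.C_1] at h3

end Groth.Agent.S4821
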