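import Groth.Statements.S4834
import Groth.Agent.Lib.FilteredHom

set_option autoImplicit false
open CategoryTheory CategoryTheory.Limits
universe u
open Lim8

namespace Groth.Agent.S4834

/-- Let A be a commutative ring, M an A-module of finite type and (N_λ) an inductive system of A-modules
indexed by a nonempty directed preordered set. Then the canonical map colim_λ Hom_A(M, N_λ) →
Hom_A(M, colim_λ N_λ), sending a compatible system of homomorphisms to its inductive limit, is
injective. This is the finite type case, in the form its proof gives. -/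
theorem result {A : Type u} [CommRing A] (M : ModuleCat.{u} A)
    [Module.Finite A M] {J : Type u} [Preorder J] [IsDirected J (· ≤ ·)] [Nonempty J]
    (N : J ⥤ ModuleCat.{u} A) :
    Function.Injective (colimit.post N (coyoneda.obj (Opposite.op M))) := by
  intro x y hxy
  obtain ⟨i, g, rfl⟩ := Types.jointly_surjective' x
  obtain ⟨j, g', rfl⟩ := Types.jointly_surjective' y
  obtain ⟨k, hik, hjk⟩ := exists_ge_ge i j
  have h1 : ∀ (i : J) (g : (N ⋙ coyoneda.obj (Opposite.op M)).obj i),
      colimit.post N (coyoneda.obj (Opposite.op M))
        (colimit.ι (N ⋙ coyoneda.obj (Opposite.op M)) i g) = g ≫ colimit.ι N i := by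
    intro i g
    have := ConcreteCategory.congr_hom (colimit.ι_post N (coyoneda.obj (Opposite.op M)) i) g
    rw [ConcreteCategory.comp_apply] at this
    rw [this]
    rfl
  rw [h1, h1] at hxy
  obtain ⟨l, f, hf⟩ := Groth.Agent.Lib.FilteredHom.hom_eq_at_later N M
    (g ≫ N.map (homOfLE hik)) (g' ≫ N.map (homOfLE hjk)) (by
      rw [Category.assoc, Category.assoc, colimit.w, colimit.w]
      exact hxy)
  rw [Types.FilteredColimit.colimit_eq_iff]
  refine ⟨l, homOfLE hik ≫ f, homOfLE hjk ≫ f, ?_⟩
  simpa using hf

end Groth.Agent.S4834
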