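import Groth.Statements.S4841
import Groth.Agent.Lib.LimComponents
import Groth.Agent.Lib.LimEmbedding96
-- import your own Groth.Agent.* helpers here

set_option autoImplicit false
universe u
open CategoryTheory AlgebraicGeometry
open Lim8

namespace Groth.Agent.S4841

/-- Let S = lim S_i be a cofiltered limit of schemes whose transition maps are affine and topological
embeddings (homeomorphisms onto subspaces), some stage S_{i₀} having Noetherian underlying space,
and assume that the underlying space of S is Noetherian. Then there is an index i over i₀ such that,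
for every j over i, the map sending an irreducible component Y of S to the closure of its image
under S ⟶ S_j is a bijection from the set of irreducible components of S onto the set of irreducible
components of S_j. -/
theorem result {I : Type u} [SmallCategory I] [IsCofiltered I]
    (D : I ⥤ Scheme.{u}) (c : Limits.Cone D) (hc : Limits.IsLimit c)
    [∀ (i j : I) (f : i ⟶ j), IsAffineHom (D.map f)] (i₀ : I)
    [TopologicalSpace.NoetherianSpace (D.obj i₀)] [TopologicalSpace.NoetherianSpace c.pt]
    (he : ∀ (i j : I) (φ : i ⟶ j), Topology.IsEmbedding ⇑(D.map φ)) :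
    ∃ (i : I) (_ : i ⟶ i₀), ∀ (j : I) (_ : j ⟶ i),
      Set.BijOn (fun Y : Set c.pt => closure (⇑(c.π.app j) '' (Y : Set c.pt) : Set (D.obj j)))
        (irreducibleComponents c.pt) (irreducibleComponents (D.obj j)) := by
  have hA : ∀ {i j : I} (f : i ⟶ j), IsAffineHom (D.map f) := fun f => inferInstance
  obtain ⟨i₁, ψ₁, hdom⟩ :=
    Groth.Agent.Lib.LimEmbedding96.exists_forall_isDominant_π D c hc i₀ he
  have hfin : (irreducibleComponents c.pt).Finite :=
    TopologicalSpace.NoetherianSpace.finite_irreducibleComponents
  obtain ⟨i, f₁, hi⟩ :=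
    Groth.Agent.Lib.LimComponents.exists_forall_forall_not_closure_image_subset D c hc i₁
      (irreducibleComponents c.pt) hfin (fun Z hZ => isClosed_of_mem_irreducibleComponents Z hZ)
  refine ⟨i, f₁ ≫ ψ₁, fun j g => ?_⟩
  refine Groth.Agent.Lib.LimComponents.bijOn_irreducibleComponents (X := c.pt) (c.π.app j)
    (c.π.app j).continuous (hdom j (g ≫ f₁)).denseRange hfin ?_
  intro Y₁ hY₁ Y₂ hY₂ hsub
  by_contra hne
  have hns : ¬ Y₁ ⊆ Y₂ := fun h => hne (le_antisymm h (hY₁.2 hY₂.1 h))
  exact hi j g Y₁ hY₁ Y₂ hY₂ hns hsub

end Groth.Agent.S4841
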