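import Groth.Statements.S4847
import Groth.Agent.S0392
import Groth.Agent.Lib.CohFinite
import Mathlib

set_option autoImplicit false
universe u
open EGA43

namespace Groth.Agent.S4847

open TensorProduct IsLocalRing

/-- transfer of flatness between `(B/I) ⊗ M` and `M / I M`. -/
theorem flat_quot_iff {B M : Type u} [CommRing B] [AddCommGroup M] [Module B M] (I : Ideal B) :
    Module.Flat (B ⧸ I) ((B ⧸ I) ⊗[B] M) ↔
      Module.Flat (B ⧸ I) (M ⧸ (I • (⊤ : Submodule B M))) := by
  let e0 : ((B ⧸ I) ⊗[B] M) ≃ₗ[B] (M ⧸ (I • (⊤ : Submodule B M))) :=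
    TensorProduct.quotTensorEquivQuotSMul M I
  let e : ((B ⧸ I) ⊗[B] M) ≃ₗ[B ⧸ I] (M ⧸ (I • (⊤ : Submodule B M))) :=
    e0.extendScalarsOfSurjective Ideal.Quotient.mk_surjective
  exact ⟨fun h => Module.Flat.of_linearEquiv e.symm, fun h => Module.Flat.of_linearEquiv e⟩

theorem alg {R B C M : Type u} [CommRing R] [CommRing B] [CommRing C]
    [IsLocalRing R] [IsLocalRing B] [IsLocalRing C]
    [IsNoetherianRing R] [IsNoetherianRing B] [IsNoetherianRing C]
    [Algebra R B] [Algebra B C] [Algebra R C] [IsScalarTower R B C]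
    [IsLocalHom (algebraMap R B)] [IsLocalHom (algebraMap B C)]
    [AddCommGroup M] [Module C M] [Module B M] [Module R M]
    [IsScalarTower B C M] [IsScalarTower R B M] [Module.Finite C M] [Nontrivial M] :
    (Module.Flat R M ∧ Module.Flat (B ⧸ (maximalIdeal R).map (algebraMap R B))
      (M ⧸ ((maximalIdeal R).map (algebraMap R B) • (⊤ : Submodule B M)))) ↔
    (Module.Flat R B ∧ Module.Flat B M) := by
  constructor
  · rintro ⟨h1, h2⟩
    exact Groth.Agent.S0392.result (R := R) (S := B) (S' := C) (M := M)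
      ((flat_quot_iff _).mpr h2)
  · rintro ⟨h1, h2⟩
    refine ⟨Module.Flat.trans R B M, (flat_quot_iff _).mp ?_⟩
    infer_instance

open AlgebraicGeometry CategoryTheory Limits in
theorem main {X Y S : Scheme.{u}}
    [IsLocallyNoetherian X] [IsLocallyNoetherian Y] [IsLocallyNoetherian S]
    (f : X ⟶ Y) (h : Y ⟶ S) (F : X.Modules) (hF : Coh.IsCoh F) (x : X)
    (hx : Nontrivial ↑(F.presheaf.stalk x)) :
    letI := FlatMod.moduleStalkOver f F x
    (FlatMod.IsFlatOverAt (f ≫ h) F x ∧
      Module.Flat (↑(Y.presheaf.stalk (f x)) ⧸ Ideal.map (h.stalkMap (f x)).hom (IsLocalRing.maximalIdeal ↑(S.presheaf.stalk (h (f x)))))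
        (↑(F.presheaf.stalk x) ⧸ (Ideal.map (h.stalkMap (f x)).hom (IsLocalRing.maximalIdeal ↑(S.presheaf.stalk (h (f x)))) •
          (⊤ : Submodule ↑(Y.presheaf.stalk (f x)) ↑(F.presheaf.stalk x))))) ↔
    ((h.stalkMap (f x)).hom.Flat ∧ FlatMod.IsFlatOverAt f F x) := by
  let algRB : Algebra (S.presheaf.stalk (h (f x))) (Y.presheaf.stalk (f x)) :=
    (h.stalkMap (f x)).hom.toAlgebra
  let algBC : Algebra (Y.presheaf.stalk (f x)) (X.presheaf.stalk x) :=
    (f.stalkMap x).hom.toAlgebra
  let algRC : Algebra (S.presheaf.stalk (h (f x))) (X.presheaf.stalk x) :=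
    ((f ≫ h).stalkMap x).hom.toAlgebra
  let modBM : Module (Y.presheaf.stalk (f x)) (F.presheaf.stalk x) :=
    FlatMod.moduleStalkOver f F x
  let modRM : Module (S.presheaf.stalk (h (f x))) (F.presheaf.stalk x) :=
    FlatMod.moduleStalkOver (f ≫ h) F x
  have hcomp : ((f ≫ h).stalkMap x).hom = (f.stalkMap x).hom.comp (h.stalkMap (f x)).hom := by
    rw [Scheme.Hom.stalkMap_comp]
    rfl
  have : IsScalarTower (S.presheaf.stalk (h (f x))) (Y.presheaf.stalk (f x))
      (X.presheaf.stalk x) := IsScalarTower.of_algebraMap_eq' hcomp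
  have : IsScalarTower (Y.presheaf.stalk (f x)) (X.presheaf.stalk x) (F.presheaf.stalk x) :=
    .of_algebraMap_smul fun r n => rfl
  have : IsScalarTower (S.presheaf.stalk (h (f x))) (Y.presheaf.stalk (f x))
      (F.presheaf.stalk x) := by
    refine .of_algebraMap_smul fun r n => ?_
    exact congrArg (fun t : X.presheaf.stalk x => t • n)
      (congrArg (fun φ : _ →+* _ => φ r) hcomp).symm
  have : IsLocalHom (algebraMap (S.presheaf.stalk (h (f x))) (Y.presheaf.stalk (f x))) :=
    inferInstanceAs (IsLocalHom (h.stalkMap (f x)).hom)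
  have : IsLocalHom (algebraMap (Y.presheaf.stalk (f x)) (X.presheaf.stalk x)) :=
    inferInstanceAs (IsLocalHom (f.stalkMap x).hom)
  have : Module.Finite (X.presheaf.stalk x) (F.presheaf.stalk x) :=
    Groth.Agent.Lib.CohFinite.finite_stalk_of_isCoh F hF x
  exact alg (R := S.presheaf.stalk (h (f x))) (B := Y.presheaf.stalk (f x))
    (C := X.presheaf.stalk x) (M := F.presheaf.stalk x)

open AlgebraicGeometry CategoryTheory Limits in
/-- Case 1° (fibrewise flatness criterion for locally Noetherian schemes): let S, X and Y be locally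
Noetherian schemes, f : X ⟶ Y and h : Y ⟶ S arbitrary morphisms, F a coherent O_X-module and x a
point of X with images y in Y and s in S, such that the stalk F_x is nonzero. Then F is flat over S
at x and F_x / m_s F_x is flat over O_{Y,y} / m_s O_{Y,y} (that is, the fibre module F_s is flat
over the fibre Y_s at x) if and only if h is flat at y and F is flat over Y at x. No finiteness
hypothesis on f or h is required in this case. -/
theorem result {X Y S : Scheme.{u}}
    [IsLocallyNoetherian X] [IsLocallyNoetherian Y] [IsLocallyNoetherian S]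
    (f : X ⟶ Y) (h : Y ⟶ S) (F : X.Modules) (hF : Coh.IsCoh F) (x : X)
    (hx : Nontrivial ↑(F.presheaf.stalk x)) :
    letI := FlatMod.moduleStalkOver f F x
    (FlatMod.IsFlatOverAt (f ≫ h) F x ∧
      Module.Flat (↑(Y.presheaf.stalk (f x)) ⧸ Ideal.map (h.stalkMap (f x)).hom (IsLocalRing.maximalIdeal ↑(S.presheaf.stalk (h (f x)))))
        (↑(F.presheaf.stalk x) ⧸ (Ideal.map (h.stalkMap (f x)).hom (IsLocalRing.maximalIdeal ↑(S.presheaf.stalk (h (f x)))) •
          (⊤ : Submodule ↑(Y.presheaf.stalk (f x)) ↑(F.presheaf.stalk x))))) ↔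
    ((h.stalkMap (f x)).hom.Flat ∧ FlatMod.IsFlatOverAt f F x) := by
  exact main f h F hF x hx

end Groth.Agent.S4847
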