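import Groth.Statements.S4852
import Groth.Agent.Lib.NilFlat

set_option autoImplicit false
universe u
open TensorProduct
open EGA43

namespace Groth.Agent.S4852

/-- The quotient of a semilocal commutative ring by its Jacobson radical is semisimple. -/
theorem isSemisimpleRing_quotient_jacobson (A : Type*) [CommRing A] [Finite (MaximalSpectrum A)] :
    IsSemisimpleRing (A ⧸ Ring.jacobson A) := by
  have hfin : Finite {I : Ideal A | I.IsMaximal} :=
    Finite.of_injective (fun I : {I : Ideal A | I.IsMaximal} => (⟨I.1, I.2⟩ : MaximalSpectrum A))
      (fun I I' h => Subtype.ext (congrArg MaximalSpectrum.asIdeal h))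
  have hmax : ∀ I : {I : Ideal A | I.IsMaximal}, I.1.IsMaximal := fun I => I.2
  have hss : ∀ I : {I : Ideal A | I.IsMaximal}, IsSemisimpleRing (A ⧸ I.1) := fun I =>
    let _ := Ideal.Quotient.field I.1
    inferInstance
  rw [Ring.jacobson_eq_sInf_isMaximal, sInf_eq_iInf']
  exact (Ideal.quotientInfRingEquivPiQuotient _ fun I I' ne =>
    Ideal.isCoprime_of_isMaximal <| Subtype.coe_ne_coe.mpr ne).symm.isSemisimpleRing

/-- Let A be a semi-local ring (finitely many maximal ideals) whose Jacobson radical is nilpotent, for
instance an Artinian ring, and let (u_i : A → B_i) be a family of ring homomorphisms whose kernels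
have zero intersection. Then an A-module M is flat if and only if, for every i, the B_i-module B_i
⊗_A M is flat. -/
theorem result {A : Type u} [CommRing A]
    [Finite (MaximalSpectrum A)] (hnil : IsNilpotent (Ring.jacobson A))
    {ι : Type u} (B : ι → Type u) [∀ i, CommRing (B i)] [∀ i, Algebra A (B i)]
    (hB : ∀ a : A, (∀ i, algebraMap A (B i) a = 0) → a = 0)
    (M : Type u) [AddCommGroup M] [Module A M] :
    Module.Flat A M ↔ ∀ i, Module.Flat (B i) (B i ⊗[A] M) := by
  constructor
  · intro h i
    infer_instance
  · intro h
    have hss := isSemisimpleRing_quotient_jacobson A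
    have hproj : Module.Projective (A ⧸ Ring.jacobson A)
        (M ⧸ (Ring.jacobson A • ⊤ : Submodule A M)) :=
      Module.projective_of_isSemisimpleRing _ _
    exact Groth.Agent.Lib.NilFlat.flat_of_forall_flat_baseChange (Ring.jacobson A) M hnil B hB h

end Groth.Agent.S4852
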