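import Groth.Statements.S4860
import Mathlib

set_option autoImplicit false
universe u
open EGA43

namespace Groth.Agent.S4860

section Aux

variable (B : Type u) [CommRing B] [IsDomain B]

/-- if `B_f` is a field then every nonzero element divides a power of `f`. -/
theorem exists_mul_eq_pow (f : B) (hf : f ≠ 0) (hfield : IsField (Localization.Away f))
    (g : B) (hg : g ≠ 0) : ∃ (h : B) (n : ℕ), g * h = f ^ n := by
  have hinj : Function.Injective (algebraMap B (Localization.Away f)) :=
    IsLocalization.injective (Localization.Away f)
      (powers_le_nonZeroDivisors_of_noZeroDivisors hf)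
  have hg' : algebraMap B (Localization.Away f) g ≠ 0 := by
    intro h0
    exact hg (hinj (by rw [h0, map_zero]))
  obtain ⟨y, hy⟩ := hfield.mul_inv_cancel hg'
  obtain ⟨h, s, rfl⟩ := IsLocalization.exists_mk'_eq (Submonoid.powers f) y
  obtain ⟨n, hn⟩ := s.2
  refine ⟨h, n, ?_⟩
  rw [IsLocalization.mul_mk'_eq_mk'_of_mul, IsLocalization.mk'_eq_iff_eq_mul, one_mul] at hy
  have hn' : f ^ n = (s : B) := hn
  rw [hn']
  exact hinj hy

theorem a_imp_b (f : B) (hf : f ≠ 0) (hfield : IsField (Localization.Away f)) :
    Algebra.FiniteType B (FractionRing B) := by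
  refine ⟨⟨{(algebraMap B (FractionRing B) f)⁻¹}, ?_⟩⟩
  rw [eq_top_iff]
  intro x _
  obtain ⟨a, g, hg, rfl⟩ := IsFractionRing.div_surjective (A := B) x
  have hg0 : g ≠ 0 := nonZeroDivisors.ne_zero hg
  obtain ⟨h, n, hgh⟩ := exists_mul_eq_pow B f hf hfield g hg0
  have hf' : algebraMap B (FractionRing B) f ≠ 0 := by
    rwa [Ne, IsFractionRing.to_map_eq_zero_iff]
  have hg' : algebraMap B (FractionRing B) g ≠ 0 := by
    rwa [Ne, IsFractionRing.to_map_eq_zero_iff]
  have e : algebraMap B (FractionRing B) a / algebraMap B (FractionRing B) g =
      algebraMap B (FractionRing B) (a * h) * ((algebraMap B (FractionRing B) f)⁻¹) ^ n := by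
    have := congrArg (algebraMap B (FractionRing B)) hgh
    rw [map_mul, map_pow] at this
    have hh' : algebraMap B (FractionRing B) h ≠ 0 := by
      intro h0
      rw [h0, mul_zero] at this
      exact pow_ne_zero n hf' this.symm
    rw [map_mul, inv_pow, ← this]
    field_simp
  rw [e]
  refine Subalgebra.mul_mem _ (Subalgebra.algebraMap_mem _ _) (Subalgebra.pow_mem _ ?_ n)
  exact Algebra.subset_adjoin (by simp)

theorem c_imp_a (K : Type u) [Field K] [Algebra B K]
    (hinj : Function.Injective (algebraMap B K)) [hft : Algebra.FiniteType B K] :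
    ∃ f : B, f ≠ 0 ∧ IsField (Localization.Away f) := by
  classical
  have : FaithfulSMul B K := (faithfulSMul_iff_algebraMap_injective B K).mpr hinj
  let _ := FractionRing.liftAlgebra B K
  have : IsScalarTower B (FractionRing B) K := FractionRing.isScalarTower_liftAlgebra B K
  have : Algebra.FiniteType (FractionRing B) K :=
    Algebra.FiniteType.of_restrictScalars_finiteType B (FractionRing B) K
  have : Module.Finite (FractionRing B) K := finite_of_finite_type_of_isJacobsonRing _ _
  have : Algebra.IsAlgebraic (FractionRing B) K := Algebra.IsAlgebraic.of_finite _ _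
  have halg : Algebra.IsAlgebraic B K :=
    (IsFractionRing.comap_isAlgebraic_iff (A := B) (K := FractionRing B) (C := K)).mpr this
  obtain ⟨s, hs⟩ := hft.out
  obtain ⟨f, hf, hint⟩ := Algebra.IsAlgebraic.exists_integral_multiples B s
  refine ⟨f, hf, ?_⟩
  have hfK : algebraMap B K f ≠ 0 := fun h0 => hf (hinj (by rw [h0, map_zero]))
  let _ : Algebra (Localization.Away f) K :=
    (IsLocalization.Away.lift (S := Localization.Away f) f (g := algebraMap B K)
      (isUnit_iff_ne_zero.mpr hfK)).toAlgebra
  have htower : IsScalarTower B (Localization.Away f) K :=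
    IsScalarTower.of_algebraMap_eq fun b => by
      rw [RingHom.algebraMap_toAlgebra, IsLocalization.Away.lift_eq]
  have hinjL : Function.Injective (algebraMap (Localization.Away f) K) := by
    rw [RingHom.algebraMap_toAlgebra]
    refine (IsLocalization.lift_injective_iff _).2 (fun a b => ?_)
    have h1 : Function.Injective (algebraMap B (Localization.Away f)) :=
      IsLocalization.injective (Localization.Away f)
        (powers_le_nonZeroDivisors_of_noZeroDivisors hf)
    exact ⟨fun h => by rw [h1 h], fun h => by rw [hinj h]⟩
  -- every generator is integral over `B_f`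
  have hgen : ∀ x ∈ s, IsIntegral (Localization.Away f) x := by
    intro x hx
    have h1 : IsIntegral (Localization.Away f) (f • x) := (hint x hx).tower_top
    have e : IsLocalization.Away.invSelf (S := Localization.Away f) f *
        algebraMap B (Localization.Away f) f = 1 := by
      rw [mul_comm]; exact IsLocalization.Away.mul_invSelf f
    have h2 : x = algebraMap (Localization.Away f) K
        (IsLocalization.Away.invSelf (S := Localization.Away f) f) * (f • x) := by
      calc x = algebraMap (Localization.Away f) K 1 * x := by rw [map_one, one_mul]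
        _ = algebraMap (Localization.Away f) K
              (IsLocalization.Away.invSelf (S := Localization.Away f) f) *
            (algebraMap (Localization.Away f) K (algebraMap B (Localization.Away f) f) * x) := by
          rw [← e, map_mul, mul_assoc]
        _ = _ := by
          congr 1
          rw [← IsScalarTower.algebraMap_apply B (Localization.Away f) K, Algebra.smul_def]
    rw [h2]
    exact IsIntegral.mul isIntegral_algebraMap h1
  have hall : Algebra.IsIntegral (Localization.Away f) K := by
    refine ⟨fun x => ?_⟩
    have hx : x ∈ Algebra.adjoin B (s : Set K) := by rw [hs]; trivial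
    have hle : Algebra.adjoin B (s : Set K) ≤
        (integralClosure (Localization.Away f) K).restrictScalars B :=
      Algebra.adjoin_le fun y hy => hgen y hy
    exact hle hx
  exact isField_of_isIntegral_of_isField hinjL (Field.toIsField K)

theorem a_imp_d (f : B) (hf : f ≠ 0) (hfield : IsField (Localization.Away f)) :
    IsOpen ({⟨⊥, Ideal.bot_prime⟩} : Set (PrimeSpectrum B)) := by
  have : ({⟨⊥, Ideal.bot_prime⟩} : Set (PrimeSpectrum B)) =
      (PrimeSpectrum.basicOpen f : Set (PrimeSpectrum B)) := by
    ext p
    simp only [Set.mem_singleton_iff, SetLike.mem_coe, PrimeSpectrum.mem_basicOpen]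
    constructor
    · rintro rfl
      exact fun h => hf h
    · intro hfp
      by_contra hne
      have hpne : p.asIdeal ≠ ⊥ := fun h => hne (PrimeSpectrum.ext h)
      have hdisj : Disjoint (Submonoid.powers f : Set B) (p.asIdeal : Set B) := by
        rw [Set.disjoint_left]
        rintro _ ⟨n, rfl⟩ hmem
        exact hfp (p.2.mem_of_pow_mem n hmem)
      have hprime := IsLocalization.isPrime_of_isPrime_disjoint (Submonoid.powers f)
        (Localization.Away f) p.asIdeal p.2 hdisj
      have : Nontrivial (Localization.Away f) := hfield.nontrivial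
      apply (Ring.not_isField_iff_exists_prime (R := Localization.Away f)).mpr _ hfield
      refine ⟨_, ?_, hprime⟩
      intro hbot
      obtain ⟨x, hx, hx0⟩ := Submodule.exists_mem_ne_zero_of_ne_bot hpne
      have h1 : algebraMap B (Localization.Away f) x ∈
          Ideal.map (algebraMap B (Localization.Away f)) p.asIdeal := Ideal.mem_map_of_mem _ hx
      rw [hbot, Ideal.mem_bot] at h1
      have hinj : Function.Injective (algebraMap B (Localization.Away f)) :=
        IsLocalization.injective (Localization.Away f)
          (powers_le_nonZeroDivisors_of_noZeroDivisors hf)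
      exact hx0 (hinj (by rw [h1, map_zero]))
  rw [this]
  exact (PrimeSpectrum.basicOpen f).2

theorem d_imp_a (hd : IsOpen ({⟨⊥, Ideal.bot_prime⟩} : Set (PrimeSpectrum B))) :
    ∃ f : B, f ≠ 0 ∧ IsField (Localization.Away f) := by
  obtain ⟨U, ⟨f, rfl⟩, hmem, hsub⟩ :=
    (PrimeSpectrum.isTopologicalBasis_basic_opens (R := B)).exists_subset_of_mem_open
      (Set.mem_singleton _) hd
  have hf : f ≠ 0 := by
    rintro rfl
    simp at hmem
  refine ⟨f, hf, ?_⟩
  have hdom : IsDomain (Localization.Away f) :=
    IsLocalization.isDomain_localization (powers_le_nonZeroDivisors_of_noZeroDivisors hf)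
  by_contra hnf
  obtain ⟨q, hq0, hq⟩ := (Ring.not_isField_iff_exists_prime (R := Localization.Away f)).mp hnf
  have hpq : (⟨q.comap (algebraMap B (Localization.Away f)), inferInstance⟩ : PrimeSpectrum B) ∈
      (PrimeSpectrum.basicOpen f : Set (PrimeSpectrum B)) := by
    simp only [SetLike.mem_coe, PrimeSpectrum.mem_basicOpen, Ideal.mem_comap]
    intro hmem
    exact hq.ne_top (Ideal.eq_top_of_isUnit_mem _ hmem (IsLocalization.Away.algebraMap_isUnit f))
  have := hsub hpq
  rw [Set.mem_singleton_iff, PrimeSpectrum.ext_iff] at this
  simp only at this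
  apply hq0
  rw [← IsLocalization.map_under (Submonoid.powers f) (Localization.Away f) q, Ideal.under_def,
    this, Ideal.map_bot]

end Aux

/-- For an integral domain B the following are equivalent: a) the localization B_f is a field for some
nonzero f; b) the fraction field of B is a finitely generated B-algebra; c) there is a field
containing B (an injective algebra map from B) which is a finitely generated B-algebra; d) the
generic point of Spec B is open. -/
theorem result (B : Type u) [CommRing B] [IsDomain B] :
    [∃ f : B, f ≠ 0 ∧ IsField (Localization.Away f),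
      Algebra.FiniteType B (FractionRing B),
      ∃ (K : Type u) (_ : Field K) (_ : Algebra B K), Function.Injective (algebraMap B K) ∧ Algebra.FiniteType B K,
      IsOpen ({⟨⊥, Ideal.bot_prime⟩} : Set (PrimeSpectrum B))].TFAE := by
  tfae_have 1 → 2 := by
    rintro ⟨f, hf, hfield⟩
    exact a_imp_b B f hf hfield
  tfae_have 2 → 3 := by
    intro hb
    exact ⟨FractionRing B, inferInstance, inferInstance, IsFractionRing.injective B _, hb⟩
  tfae_have 3 → 1 := by
    rintro ⟨K, hK, hBK, hinj, hft⟩
    exact c_imp_a B K hinj
  tfae_have 1 → 4 := by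
    rintro ⟨f, hf, hfield⟩
    exact a_imp_d B f hf hfield
  tfae_have 4 → 1 := d_imp_a B
  tfae_finish

end Groth.Agent.S4860
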