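import Groth.Statements.S4862
import Mathlib.RingTheory.Localization.Away.AdjoinRoot
import Mathlib.RingTheory.Localization.Ideal
import Mathlib.RingTheory.IntegralClosure.IsIntegralClosure.Basic
-- import your own Groth.Agent.* helpers here

set_option autoImplicit false
universe u
open EGA43

namespace Groth.Agent.S4862

/-- For a commutative ring A the following are equivalent: a) A is a Jacobson ring; b) for every prime
ideal p of A which is not maximal and every nonzero f of B = A/p, the localization B_f is not a
field; b′) every finitely generated A-algebra which is a field is a finite A-module. -/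
theorem result (A : Type u) [CommRing A] :
    [IsJacobsonRing A,
      ∀ (p : Ideal A) [p.IsPrime], ¬ p.IsMaximal → ∀ f : A ⧸ p, f ≠ 0 → ¬ IsField (Localization.Away f),
      ∀ (K : Type u) [Field K] [Algebra A K], Algebra.FiniteType A K → Module.Finite A K].TFAE := by
  tfae_have 1 → 3 := by
    intro h K _ _ hK
    exact finite_of_finite_type_of_isJacobsonRing A K
  tfae_have 3 → 2 := by
    intro h p hp hnm f hf hK
    let _ := hK.toField
    have hft : Algebra.FiniteType A (A ⧸ p) :=
      Algebra.FiniteType.of_surjective (Algebra.ofId A (A ⧸ p)) Ideal.Quotient.mk_surjective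
    have hft2 : Algebra.FiniteType A (Localization.Away f) := inferInstance
    have hfin : Module.Finite A (Localization.Away f) := h (Localization.Away f) hft2
    have hint : Algebra.IsIntegral A (Localization.Away f) := inferInstance
    have hmax := Algebra.ker_algebraMap_isMaximal_of_isIntegral A (Localization.Away f)
    apply hnm
    convert hmax
    ext a
    rw [RingHom.mem_ker, IsScalarTower.algebraMap_apply A (A ⧸ p) (Localization.Away f)]
    have hinj : Function.Injective (algebraMap (A ⧸ p) (Localization.Away f)) :=
      IsLocalization.injective _ (powers_le_nonZeroDivisors_of_noZeroDivisors hf)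
    rw [map_eq_zero_iff _ hinj, Ideal.Quotient.algebraMap_eq, Ideal.Quotient.eq_zero_iff_mem]
  tfae_have 2 → 1 := by
    intro h
    rw [isJacobsonRing_iff_prime_eq]
    intro P hP
    apply le_antisymm _ Ideal.le_jacobson
    intro x hx
    by_contra hxP
    -- localize A away from x and pick a maximal ideal over P
    have hdisj : Disjoint (Submonoid.powers x : Set A) (P : Set A) := by
      rw [Set.disjoint_left]
      rintro _ ⟨n, rfl⟩ hn
      exact hxP (hP.mem_of_pow_mem n hn)
    have hne : Ideal.map (algebraMap A (Localization.Away x)) P ≠ ⊤ := by
      have := (IsLocalization.map_algebraMap_ne_top_iff_disjoint (Submonoid.powers x)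
        (Localization.Away x) P).mpr hdisj
      exact this
    obtain ⟨m, hm, hPm⟩ := Ideal.exists_le_maximal _ hne
    set Q := Ideal.comap (algebraMap A (Localization.Away x)) m with hQ
    have hQprime : Q.IsPrime := Ideal.comap_isPrime _ _
    have hPQ : P ≤ Q := Ideal.map_le_iff_le_comap.mp hPm
    have hxQ : x ∉ Q := by
      intro hxQ
      have hu : IsUnit (algebraMap A (Localization.Away x) x) :=
        IsLocalization.Away.algebraMap_isUnit x
      exact hm.ne_top (Ideal.eq_top_of_isUnit_mem _ hxQ hu)
    have hQm : Ideal.map (algebraMap A (Localization.Away x)) Q = m :=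
      IsLocalization.map_comap (Submonoid.powers x) _ m
    have hQnm : ¬ Q.IsMaximal := by
      intro hQmax
      have : P.jacobson ≤ Q := by
        apply sInf_le
        exact ⟨hPQ, hQmax⟩
      exact hxQ (this hx)
    have hne0 : (Ideal.Quotient.mk Q x) ≠ 0 := by
      rwa [Ne, Ideal.Quotient.eq_zero_iff_mem]
    apply h Q hQnm _ hne0
    -- the localization of A/Q away from x is the field (A_x)/m
    have hloc : IsLocalization (Algebra.algebraMapSubmonoid (A ⧸ Q) (Submonoid.powers x))
        (Localization.Away x ⧸ Q.map (algebraMap A (Localization.Away x))) := inferInstance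
    have hsub : Algebra.algebraMapSubmonoid (A ⧸ Q) (Submonoid.powers x) =
        Submonoid.powers (Ideal.Quotient.mk Q x) := by
      simp [Algebra.algebraMapSubmonoid, Submonoid.map_powers]
    rw [hsub] at hloc
    have hfield : IsField (Localization.Away x ⧸ Q.map (algebraMap A (Localization.Away x))) := by
      rw [hQm]
      exact (Ideal.Quotient.maximal_ideal_iff_isField_quotient m).mp hm
    have e : Localization.Away (Ideal.Quotient.mk Q x) ≃+*
        (Localization.Away x ⧸ Q.map (algebraMap A (Localization.Away x))) :=
      (IsLocalization.algEquiv (Submonoid.powers (Ideal.Quotient.mk Q x)) _ _).toRingEquiv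
    exact e.toMulEquiv.isField hfield
  tfae_finish

end Groth.Agent.S4862
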