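import Groth.Statements.S4872
import Mathlib.AlgebraicGeometry.AffineSpace

set_option autoImplicit false
universe u
open CategoryTheory AlgebraicGeometry
open EGA43

namespace Groth.Agent.S4872

open Limits in
/-- (c) ⇒ (d) -/
lemma c_to_d {X S : Scheme.{u}} (p : X ⟶ S) {ι : Type u} (Z : ι → Scheme.{u})
    (f : ∀ i, Z i ⟶ X)
    (hc : ∀ (U : X.Opens) (Y : Scheme.{u}) (j : Y ⟶ (U : Scheme.{u})), IsClosedImmersion j →
        (∀ i, ∃ g : ((f i) ⁻¹ᵁ U : Scheme.{u}) ⟶ Y, g ≫ j = (f i) ∣_ U) → IsIso j) :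
    ∀ (X' : Scheme.{u}) (q : X' ⟶ S), IsSeparated q → ∀ (U : X.Opens) (u v : (U : Scheme.{u}) ⟶ X'),
        u ≫ q = U.ι ≫ p → v ≫ q = U.ι ≫ p → (∀ i, ((f i) ∣_ U) ≫ u = ((f i) ∣_ U) ≫ v) → u = v := by
  intro X' q hq U u v hu hv huv
  let A : Over S := Over.mk (U.ι ≫ p)
  let B : Over S := Over.mk q
  let u' : A ⟶ B := Over.homMk u hu
  let v' : A ⟶ B := Over.homMk v hv
  have : IsSeparated B.hom := hq
  have hcl : IsClosedImmersion (equalizer.ι u' v').left := inferInstance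
  have hiso : IsIso (equalizer.ι u' v').left := by
    refine hc U _ _ hcl fun i => ?_
    let C : Over S := Over.mk (((f i) ∣_ U) ≫ U.ι ≫ p)
    let w : C ⟶ A := Over.homMk ((f i) ∣_ U) rfl
    have hw : w ≫ u' = w ≫ v' := by
      ext
      exact huv i
    exact ⟨(equalizer.lift w hw).left, by rw [← Over.comp_left, equalizer.lift_ι]; rfl⟩
  have := congrArg (fun m => m.left) (equalizer.condition u' v')
  simp only [Over.comp_left] at this
  exact (cancel_epi _).mp this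

/-- (d) ⇒ (b) -/
lemma d_to_b {X S : Scheme.{u}} (p : X ⟶ S) {ι : Type u} (Z : ι → Scheme.{u})
    (f : ∀ i, Z i ⟶ X)
    (hd : ∀ (X' : Scheme.{u}) (q : X' ⟶ S), IsSeparated q → ∀ (U : X.Opens) (u v : (U : Scheme.{u}) ⟶ X'),
        u ≫ q = U.ι ≫ p → v ≫ q = U.ι ≫ p → (∀ i, ((f i) ∣_ U) ≫ u = ((f i) ∣_ U) ≫ v) → u = v) :
    ∀ (V : (X).Opens) (t : Γ(X, V)), (∀ i, (f i).app V t = 0) → t = 0 := by
  intro V t ht
  let t' : Γ((V : Scheme.{u}), ⊤) := V.topIso.inv t
  let u : (V : Scheme.{u}) ⟶ 𝔸(PUnit.{u+1}; S) := AffineSpace.homOfVector (V.ι ≫ p) (fun _ => t')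
  let v : (V : Scheme.{u}) ⟶ 𝔸(PUnit.{u+1}; S) := AffineSpace.homOfVector (V.ι ≫ p) (fun _ => 0)
  have key : ∀ i, ((f i) ∣_ V).appTop t' = 0 := by
    intro i
    rw [morphismRestrict_appTop]
    have nat := (f i).naturality (eqToHom V.ι_image_top).op
    have ht' : t' = X.presheaf.map (eqToHom V.ι_image_top).op t := rfl
    have h0 : (f i).app (V.ι ''ᵁ ⊤) t' = 0 := by
      rw [ht', ← CommRingCat.comp_apply, nat, CommRingCat.comp_apply, ht i, map_zero]
    show (ConcreteCategory.hom ((Z i).presheaf.map _)) ((f i).app (V.ι ''ᵁ ⊤) t') = 0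
    rw [h0, map_zero]
  have huv : u = v := by
    refine hd _ (𝔸(PUnit.{u+1}; S) ↘ S) inferInstance V u v (AffineSpace.homOfVector_over _ _)
      (AffineSpace.homOfVector_over _ _) fun i => ?_
    simp only [u, v]
    rw [AffineSpace.comp_homOfVector, AffineSpace.comp_homOfVector]
    congr 1
    ext x
    simp only [Function.comp_apply, key i, map_zero]
  have h1 : u.appTop (AffineSpace.coord S PUnit.unit) = t' :=
    AffineSpace.homOfVector_appTop_coord _ _ _
  have h2 : v.appTop (AffineSpace.coord S PUnit.unit) = 0 :=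
    AffineSpace.homOfVector_appTop_coord _ _ _
  have h3 : t' = 0 := by rw [← h1, huv, h2]
  have h4 : V.topIso.hom t' = t := by
    simp only [t']
    rw [← CommRingCat.comp_apply, Iso.inv_hom_id]; rfl
  rw [← h4, h3, map_zero]

lemma eq_zero_of_map_eqToHom {X : Scheme.{u}} {A B : X.Opens} (h : A = B) (s : Γ(X, B))
    (hs : X.presheaf.map (eqToHom h).op s = 0) : s = 0 := by
  subst h
  simpa using hs

/-- (b) ⇒ (c) -/
lemma b_to_c {X S : Scheme.{u}} (p : X ⟶ S) {ι : Type u} (Z : ι → Scheme.{u})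
    (f : ∀ i, Z i ⟶ X)
    (hb : ∀ (V : (X).Opens) (t : Γ(X, V)), (∀ i, (f i).app V t = 0) → t = 0) :
    ∀ (U : X.Opens) (Y : Scheme.{u}) (j : Y ⟶ (U : Scheme.{u})), IsClosedImmersion j →
        (∀ i, ∃ g : ((f i) ⁻¹ᵁ U : Scheme.{u}) ⟶ Y, g ≫ j = (f i) ∣_ U) → IsIso j := by
  intro U Y j hj hg
  have hinj : ∀ W' : (U : Scheme.{u}).Opens, Function.Injective (j.app W') := by
    intro W'
    rw [injective_iff_map_eq_zero]
    intro s hs
    let t : Γ(X, U.ι ''ᵁ W') := s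
    have ht : ∀ i, (f i).app (U.ι ''ᵁ W') t = 0 := by
      intro i
      obtain ⟨g, hg⟩ := hg i
      have h0 : ∀ (m : ((f i) ⁻¹ᵁ U : Scheme.{u}) ⟶ (U : Scheme.{u})) (_ : m = g ≫ j),
          m.app W' s = 0 := by
        rintro _ rfl
        rw [Scheme.Hom.comp_app]
        show (g.app (j ⁻¹ᵁ W')) (j.app W' s) = 0
        rw [hs, map_zero]
      have h1 : ((f i) ∣_ U).app W' s = 0 := h0 _ hg.symm
      rw [morphismRestrict_app] at h1
      exact eq_zero_of_map_eqToHom _ _ h1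
    exact hb _ t ht
  show MorphismProperty.isomorphisms Scheme j
  rw [IsZariskiLocalAtTarget.iff_of_iSup_eq_top (P := MorphismProperty.isomorphisms Scheme)
    (fun W : (U : Scheme.{u}).affineOpens => W.1) (iSup_affineOpens_eq_top _)]
  intro W
  show IsIso (j ∣_ W.1)
  have : IsAffine (W.1 : Scheme.{u}) := W.2
  have : IsClosedImmersion (j ∣_ W.1) := IsZariskiLocalAtTarget.restrict hj _
  apply IsClosedImmersion.isIso_of_injective_of_isAffine
  rw [morphismRestrict_appTop, injective_iff_map_eq_zero]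
  intro s hs
  have h1 : (j.app (W.1.ι ''ᵁ ⊤)) s = 0 := eq_zero_of_map_eqToHom _ _ hs
  exact (injective_iff_map_eq_zero _).mp (hinj _) s h1


/-- Conditions b), c), d) (schematically dominant families): let p : X ⟶ S be a morphism and (f_i : Z_i
⟶ X) a family of morphisms. The following are equivalent: b) for every open V of X, a section of O_X
over V whose images in all the Γ(f_i⁻¹(V), O_{Z_i}) are zero is zero; c) for every open U of X, a
closed immersion j : Y ⟶ U through which each restriction f_i⁻¹(U) ⟶ U factors is an isomorphism; d)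
for every separated S-scheme X', every open U of X and every pair of S-morphisms u, v : U ⟶ X'
having the same composite with each f_i⁻¹(U) ⟶ U, one has u = v. -/
theorem result {X S : Scheme.{u}} (p : X ⟶ S) {ι : Type u} (Z : ι → Scheme.{u})
    (f : ∀ i, Z i ⟶ X) :
    [(∀ (V : (X).Opens) (t : Γ(X, V)), (∀ i, (f i).app V t = 0) → t = 0),
      ∀ (U : X.Opens) (Y : Scheme.{u}) (j : Y ⟶ (U : Scheme.{u})), IsClosedImmersion j →
        (∀ i, ∃ g : ((f i) ⁻¹ᵁ U : Scheme.{u}) ⟶ Y, g ≫ j = (f i) ∣_ U) → IsIso j,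
      ∀ (X' : Scheme.{u}) (q : X' ⟶ S), IsSeparated q → ∀ (U : X.Opens) (u v : (U : Scheme.{u}) ⟶ X'),
        u ≫ q = U.ι ≫ p → v ≫ q = U.ι ≫ p → (∀ i, ((f i) ∣_ U) ≫ u = ((f i) ∣_ U) ≫ v) → u = v].TFAE := by
  tfae_have 1 → 2 := b_to_c p Z f
  tfae_have 2 → 3 := c_to_d p Z f
  tfae_have 3 → 1 := d_to_b p Z f
  tfae_finish

end Groth.Agent.S4872
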