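import Groth.Statements.S4878
import Mathlib.LinearAlgebra.DirectSum.Finsupp

set_option autoImplicit false
universe u
open TensorProduct
open EGA43

namespace Groth.Agent.S4878

open TensorProduct Classical in
lemma finsuppScalarRight_rTensor {A : Type u} [CommRing A] {M M' : Type u} [AddCommGroup M]
    [Module A M] [AddCommGroup M'] [Module A M'] (J : Type u) (u : M →ₗ[A] M')
    (x : M ⊗[A] (J →₀ A)) (j : J) :
    (TensorProduct.finsuppScalarRight A A M' J (u.rTensor (J →₀ A) x)) j =
      u ((TensorProduct.finsuppScalarRight A A M J x) j) := by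
  induction x using TensorProduct.induction_on with
  | zero => simp
  | tmul m p =>
    simp only [LinearMap.rTensor_tmul, TensorProduct.finsuppScalarRight_apply_tmul_apply, map_smul]
  | add x y hx hy =>
    rw [map_add, map_add, Finsupp.add_apply, hx, hy, map_add, Finsupp.add_apply, map_add]

open TensorProduct Classical in
lemma free_case {A : Type u} [CommRing A] {M : Type u} [AddCommGroup M] [Module A M]
    {ι : Type u} (M' : ι → Type u) [∀ i, AddCommGroup (M' i)] [∀ i, Module A (M' i)]
    (u : ∀ i, M →ₗ[A] M' i) (hu : ⨅ i, LinearMap.ker (u i) = ⊥) (J : Type u)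
    (x : M ⊗[A] (J →₀ A)) (hx : ∀ i, (u i).rTensor (J →₀ A) x = 0) : x = 0 := by
  apply (TensorProduct.finsuppScalarRight A A M J).injective
  rw [map_zero]
  ext j
  have hmem : (TensorProduct.finsuppScalarRight A A M J x) j ∈ ⨅ i, LinearMap.ker (u i) := by
    rw [Submodule.mem_iInf]
    intro i
    rw [LinearMap.mem_ker, ← finsuppScalarRight_rTensor, hx i]
    simp
  rw [hu] at hmem
  simpa using hmem

/-- Let A be a commutative ring, (u_i : M → M_i) a family of A-linear maps whose kernels have zero
intersection, and N a projective A-module. Then the kernels of the maps u_i ⊗ 1 : M ⊗_A N → M_i ⊗_A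
N have zero intersection. -/
theorem result {A : Type u} [CommRing A]
    {M : Type u} [AddCommGroup M] [Module A M] {ι : Type u} (M' : ι → Type u)
    [∀ i, AddCommGroup (M' i)] [∀ i, Module A (M' i)] (u : ∀ i, M →ₗ[A] M' i)
    (hu : ⨅ i, LinearMap.ker (u i) = ⊥)
    (N : Type u) [AddCommGroup N] [Module A N] [Module.Projective A N] :
    ⨅ i, LinearMap.ker ((u i).rTensor N) = ⊥ := by
  rw [eq_bot_iff]
  intro x hx
  rw [Submodule.mem_iInf] at hx
  rw [Submodule.mem_bot]
  obtain ⟨s, hs⟩ := (Module.projective_def' (R := A) (P := N)).mp inferInstance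
  have hy : s.lTensor M x = 0 := by
    apply free_case M' u hu N
    intro i
    have h1 : (u i).rTensor (N →₀ A) (s.lTensor M x) = s.lTensor (M' i) ((u i).rTensor N x) := by
      rw [← LinearMap.comp_apply, ← LinearMap.comp_apply, LinearMap.rTensor_comp_lTensor,
        LinearMap.lTensor_comp_rTensor]
    rw [h1, LinearMap.mem_ker.mp (hx i), map_zero]
  have hx' : x = (Finsupp.linearCombination A id).lTensor M (s.lTensor M x) := by
    rw [← LinearMap.comp_apply, ← LinearMap.lTensor_comp, hs, LinearMap.lTensor_id,
      LinearMap.id_apply]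
  rw [hx', hy, map_zero]

end Groth.Agent.S4878
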