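import Groth.Statements.S4880
import Groth.Agent.Lib.GenOpenSch45

set_option autoImplicit false
universe u
open CategoryTheory AlgebraicGeometry
open EGA43

namespace Groth.Agent.S4880

/-- For a Noetherian irreducible scheme X the following are equivalent: a) the generic point of X is an
isolated point; b) the underlying set of X is finite; c) X has dimension at most 1 and finitely many
closed points. -/
theorem result (X : Scheme.{u}) [IsNoetherian X]
    [IrreducibleSpace X] :
    [IsOpen ({genericPoint X} : Set X),
      Finite X,
      topologicalKrullDim X ≤ 1 ∧ {x : X | IsClosed ({x} : Set X)}.Finite].TFAE := by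
  classical
  have hgen : IsGenericPoint (genericPoint X) (⊤ : Set X) := genericPoint_spec X
  have hη : ∀ x : X, genericPoint X ⤳ x := fun x =>
    specializes_iff_mem_closure.mpr (by rw [hgen.def]; trivial)
  -- every point other than the generic point is closed, as soon as `{η}` is open
  have key1 : IsOpen ({genericPoint X} : Set X) → ∀ x : X, x ≠ genericPoint X →
      IsClosed ({x} : Set X) := fun h x hx =>
    Groth.Agent.Lib.GenOpen45.isClosed_singleton_of_specializes h.isLocallyClosed (hη x)
      (Ne.symm hx)
  -- if all points other than `η` are closed and there are finitely many closed points, `{η}` is open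
  have key2 : (∀ x : X, x ≠ genericPoint X → IsClosed ({x} : Set X)) →
      {x : X | IsClosed ({x} : Set X)}.Finite → IsOpen ({genericPoint X} : Set X) := by
    intro h hfin
    have hsub : ({genericPoint X}ᶜ : Set X) ⊆ {x : X | IsClosed ({x} : Set X)} :=
      fun x hx => h x hx
    have hc : IsClosed ({genericPoint X}ᶜ : Set X) := by
      rw [← Set.biUnion_of_singleton ({genericPoint X}ᶜ : Set X)]
      exact (hfin.subset hsub).isClosed_biUnion fun x hx => h x hx
    rw [← compl_compl ({genericPoint X} : Set X)]
    exact hc.isOpen_compl
  tfae_have 1 → 2 := by
    intro h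
    have := Groth.Agent.Lib.GenOpen45.finite_closure_singleton h.isLocallyClosed
    rw [hgen.def] at this
    exact Set.finite_univ_iff.mp this
  tfae_have 2 → 1 := by
    intro h
    refine key2 (fun x hx => ?_) (Set.toFinite _)
    -- in a finite T0 irreducible space, reduce to openness of `{η}` directly
    have hc : IsClosed (⋃ y ∈ ({genericPoint X}ᶜ : Set X), closure ({y} : Set X)) :=
      (Set.toFinite _).isClosed_biUnion fun y _ => isClosed_closure
    have hopen : IsOpen ({genericPoint X} : Set X) := by
      have e : ({genericPoint X} : Set X) =
          (⋃ y ∈ ({genericPoint X}ᶜ : Set X), closure ({y} : Set X))ᶜ := by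
        ext z
        simp only [Set.mem_singleton_iff, Set.mem_compl_iff, Set.mem_iUnion, exists_prop, not_exists,
          not_and]
        constructor
        · rintro rfl y hy hmem
          exact hy ((specializes_iff_mem_closure.mpr hmem).antisymm (hη y)).eq
        · intro hz
          by_contra hne
          exact hz z hne (subset_closure rfl)
      rw [e]; exact hc.isOpen_compl
    exact key1 hopen x hx
  tfae_have 1 → 3 := by
    intro h
    have hfinX : Finite X := by
      have := Groth.Agent.Lib.GenOpen45.finite_closure_singleton h.isLocallyClosed
      rw [hgen.def] at this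
      exact Set.finite_univ_iff.mp this
    refine ⟨?_, Set.toFinite _⟩
    rw [topologicalKrullDim, Order.krullDim_le_one_iff]
    intro T
    obtain ⟨t, ht⟩ := QuasiSober.sober T.isIrreducible T.isClosed
    by_cases hte : t = genericPoint X
    · right
      intro T' _ z _
      have : (T : Set X) = Set.univ := by rw [← ht.def, hte, hgen.def]; rfl
      show z ∈ (T : Set X)
      rw [this]; trivial
    · left
      intro T' hle
      have hcl := key1 h t hte
      have hT : (T : Set X) = {t} := by rw [← ht.def, hcl.closure_eq]
      intro z hz
      have hz' : z ∈ ({t} : Set X) := hT ▸ hz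
      rw [Set.mem_singleton_iff] at hz'
      obtain ⟨w, hw⟩ := T'.isIrreducible.nonempty
      have hw' : w ∈ ({t} : Set X) := hT ▸ hle hw
      rw [Set.mem_singleton_iff] at hw'
      rw [hz', ← hw']; exact hw
  tfae_have 3 → 1 := by
    rintro ⟨hdim, hfin⟩
    refine key2 (fun x hx => ?_) hfin
    rw [topologicalKrullDim, Order.krullDim_le_one_iff] at hdim
    let T : TopologicalSpace.IrreducibleCloseds X :=
      ⟨closure {x}, isIrreducible_singleton.closure, isClosed_closure⟩
    rcases hdim T with hmin | hmax
    · rw [← closure_subset_iff_isClosed]
      intro x' hx'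
      let T' : TopologicalSpace.IrreducibleCloseds X :=
        ⟨closure {x'}, isIrreducible_singleton.closure, isClosed_closure⟩
      have hle : T' ≤ T := fun z hz =>
        (isClosed_closure.closure_subset_iff.mpr (Set.singleton_subset_iff.mpr hx')) hz
      have hge : T ≤ T' := hmin hle
      have hxx' : x ∈ closure ({x'} : Set X) := hge (subset_closure rfl)
      exact ((specializes_iff_mem_closure.mpr hx').antisymm
        (specializes_iff_mem_closure.mpr hxx')).eq.symm
    · exfalso
      let Ttop : TopologicalSpace.IrreducibleCloseds X :=
        ⟨Set.univ, (inferInstance : IrreducibleSpace X).isIrreducible_univ, isClosed_univ⟩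
      have hge : Ttop ≤ T := hmax (fun z _ => Set.mem_univ z)
      have hxg : IsGenericPoint x (⊤ : Set X) := by
        rw [IsGenericPoint]
        exact Set.eq_univ_of_univ_subset hge
      exact hx (hxg.eq hgen)
  tfae_finish

end Groth.Agent.S4880
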