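import Groth.Statements.S4882
-- import your own Groth.Agent.* helpers here

set_option autoImplicit false
universe u
open EGA43

namespace Groth.Agent.S4882

/-- Let X be a Jacobson space and Z a locally quasi-constructible subset of X, i.e. every point of X has
an open neighbourhood U such that U ∩ Z is a finite union of locally closed subsets of X. Then the
subspace Z is a Jacobson space, and a point of Z is closed in Z if and only if it is closed in X. -/
theorem result {X : Type u} [TopologicalSpace X] [JacobsonSpace X]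
    (Z : Set X)
    (hZ : ∀ x : X, ∃ U : Set X, IsOpen U ∧ x ∈ U ∧
      ∃ T : Set (Set X), T.Finite ∧ (∀ t ∈ T, IsLocallyClosed t) ∧ U ∩ Z = ⋃₀ T) :
    JacobsonSpace ↥Z ∧ ∀ z : ↥Z, IsClosed ({z} : Set ↥Z) ↔ IsClosed ({(z : X)} : Set X) := by
  have hpiece : ∀ z : ↥Z, ∃ t : Set X, IsLocallyClosed t ∧ (z : X) ∈ t ∧ t ⊆ Z := by
    intro z
    obtain ⟨N, hN, hzN, T, hT, hTlc, hNT⟩ := hZ z.1
    have hzT : z.1 ∈ ⋃₀ T := by rw [← hNT]; exact ⟨hzN, z.2⟩
    obtain ⟨t, htT, hzt⟩ := hzT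
    refine ⟨t, hTlc t htT, hzt, fun w hw => ?_⟩
    have : w ∈ N ∩ Z := by rw [hNT]; exact ⟨t, htT, hw⟩
    exact this.2
  have hclosed : ∀ z : ↥Z, IsClosed ({z} : Set ↥Z) ↔ IsClosed ({(z : X)} : Set X) := by
    intro z
    constructor
    · intro hz
      obtain ⟨t, htlc, hzt, htZ⟩ := hpiece z
      obtain ⟨C, hC, hCeq⟩ := isClosed_induced_iff.mp hz
      apply isClosed_singleton_of_isLocallyClosed_singleton
      have : ({(z : X)} : Set X) = t ∩ C := by
        ext w
        simp only [Set.mem_singleton_iff, Set.mem_inter_iff]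
        constructor
        · rintro rfl
          refine ⟨hzt, ?_⟩
          have : z ∈ Subtype.val ⁻¹' C := by rw [hCeq]; rfl
          exact this
        · rintro ⟨hwt, hwC⟩
          have : (⟨w, htZ hwt⟩ : ↥Z) ∈ Subtype.val ⁻¹' C := hwC
          rw [hCeq] at this
          exact congrArg Subtype.val this
      rw [this]
      exact htlc.inter hC.isLocallyClosed
    · intro hz
      have : ({z} : Set ↥Z) = Subtype.val ⁻¹' ({(z : X)} : Set X) := by
        ext w
        simp [Subtype.ext_iff]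
      rw [this]
      exact hz.preimage continuous_subtype_val
  refine ⟨?_, hclosed⟩
  rw [jacobsonSpace_iff_locallyClosed]
  intro W hW hWlc
  obtain ⟨w, hw⟩ := hW
  obtain ⟨t, htlc, hwt, htZ⟩ := hpiece w
  obtain ⟨L, hL, hLeq⟩ : ∃ L : Set X, IsLocallyClosed L ∧ W = Subtype.val ⁻¹' L := by
    obtain ⟨U, C, hU, hC, rfl⟩ := hWlc
    obtain ⟨U', hU', rfl⟩ := isOpen_induced_iff.mp hU
    obtain ⟨C', hC', rfl⟩ := isClosed_induced_iff.mp hC
    exact ⟨U' ∩ C', hU'.isLocallyClosed.inter hC'.isLocallyClosed, rfl⟩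
  have hwL : (w : X) ∈ L := by
    have : w ∈ Subtype.val ⁻¹' L := by rw [← hLeq]; exact hw
    exact this
  obtain ⟨x, ⟨hxt, hxL⟩, hxcl⟩ := nonempty_inter_closedPoints (Z := t ∩ L) ⟨w.1, hwt, hwL⟩
    (htlc.inter hL)
  refine ⟨⟨x, htZ hxt⟩, ?_, ?_⟩
  · rw [hLeq]; exact hxL
  · exact (hclosed ⟨x, htZ hxt⟩).mpr hxcl

end Groth.Agent.S4882
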