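import Groth.Statements.S4885
import Mathlib
-- import your own Groth.Agent.* helpers here

set_option autoImplicit false
universe u
open EGA43

namespace Groth.Agent.S4885

/-- Every finite algebra A' over a commutative ring A is a directed colimit (filtered inductive limit)
of A-algebras which are finite and of finite presentation over A. -/
theorem result (A A' : Type u) [CommRing A] [CommRing A']
    [Algebra A A'] [Module.Finite A A'] :
    ∃ (ι : Type u) (_ : Preorder ι) (G : ι → Type u) (_ : ∀ i, CommRing (G i)) (_ : ∀ i, Algebra A (G i))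
      (g : ∀ i j, i ≤ j → G i →ₐ[A] G j) (_ : ∀ i, Algebra (G i) A') (_ : ∀ i, IsScalarTower A (G i) A'),
      FlatCA.IsDirectedColimitRing G (fun i j h => (g i j h).toRingHom) A' ∧
        ∀ i, Module.Finite A (G i) ∧ Algebra.FinitePresentation A (G i) := by
  classical
  obtain ⟨C, instC, instAC, hCfin, _, hCfp, φ, hφ⟩ := Module.Finite.exists_free_surjective A A'
  let ι := {I : Ideal C // I.FG ∧ I ≤ RingHom.ker (φ : C →+* A')}
  let G : ι → Type u := fun I => C ⧸ I.1
  let g : ∀ I J : ι, I ≤ J → G I →ₐ[A] G J := fun I J h =>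
    Ideal.Quotient.liftₐ I.1 (Ideal.Quotient.mkₐ A J.1)
      (fun a ha => Ideal.Quotient.eq_zero_iff_mem.mpr (h ha))
  let ψ : ∀ I : ι, G I →ₐ[A] A' := fun I =>
    Ideal.Quotient.liftₐ I.1 φ (fun a ha => I.2.2 ha)
  have hg : ∀ (I J : ι) (h : I ≤ J) (c : C),
      g I J h (Ideal.Quotient.mk I.1 c) = Ideal.Quotient.mk J.1 c := fun _ _ _ _ => rfl
  have hψ : ∀ (I : ι) (c : C), ψ I (Ideal.Quotient.mk I.1 c) = φ c := fun _ _ => rfl
  refine ⟨ι, inferInstance, G, fun I => inferInstanceAs (CommRing (C ⧸ I.1)),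
    fun I => inferInstanceAs (Algebra A (C ⧸ I.1)), g,
    fun I => (ψ I).toRingHom.toAlgebra, ?_, ?_, ?_⟩
  · intro I
    let _ : Algebra (G I) A' := (ψ I).toRingHom.toAlgebra
    refine IsScalarTower.of_algebraMap_eq fun a => ?_
    exact ((ψ I).commutes a).symm
  · refine ⟨?_, ?_, ?_, ?_, ?_, ?_, ?_⟩
    · exact ⟨fun I J => ⟨⟨I.1 ⊔ J.1, Submodule.FG.sup I.2.1 J.2.1, sup_le I.2.2 J.2.2⟩,
        (le_sup_left : I.1 ≤ I.1 ⊔ J.1), (le_sup_right : J.1 ≤ I.1 ⊔ J.1)⟩⟩
    · exact ⟨⟨⊥, Submodule.fg_bot, bot_le⟩⟩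
    · intro I
      apply Ideal.Quotient.ringHom_ext
      ext c
      rfl
    · intro I J K hIJ hJK
      apply Ideal.Quotient.ringHom_ext
      ext c
      rfl
    · intro I J h
      apply Ideal.Quotient.ringHom_ext
      ext c
      rfl
    · intro a
      obtain ⟨c, rfl⟩ := hφ a
      exact ⟨⟨⊥, Submodule.fg_bot, bot_le⟩, Ideal.Quotient.mk _ c, rfl⟩
    · intro I x hx
      obtain ⟨c, rfl⟩ := Ideal.Quotient.mk_surjective x
      have hc : φ c = 0 := hx
      refine ⟨⟨I.1 ⊔ Ideal.span {c}, Submodule.FG.sup I.2.1 (Submodule.fg_span_singleton c),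
        sup_le I.2.2 ?_⟩, (le_sup_left : I.1 ≤ I.1 ⊔ Ideal.span {c}), ?_⟩
      · rw [Ideal.span_singleton_le_iff_mem]
        exact hc
      · show Ideal.Quotient.mk _ c = 0
        rw [Ideal.Quotient.eq_zero_iff_mem]
        exact Ideal.mem_sup_right (Ideal.mem_span_singleton_self c)
  · intro I
    refine ⟨?_, ?_⟩
    · exact inferInstanceAs (Module.Finite A (C ⧸ I.1))
    · exact Algebra.FinitePresentation.quotient I.2.1

end Groth.Agent.S4885
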