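-- Statement S4888.
import Groth.Statements.S4888
import Groth.Agent.Lib.H30LocDimTop
import Mathlib

set_option autoImplicit false
universe u
open CategoryTheory AlgebraicGeometry
open EGA43

namespace Groth.Agent.S4888

open Groth.Agent.Lib.H30LocDimTop Groth.Agent.Lib.H30EquiDim Groth.Agent.Lib.H30DimField

/-- the hypothesis of the third assertion gives a good neighbourhood -/
theorem good_of_disjoint {X : Type u} [TopologicalSpace X] [QuasiSober X] (Y : Set X)
    (hY : IsClosed Y) (x : X) (hx : x ∈ Y) (U : Set X)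
    (hdisj : ∀ C ∈ irreducibleComponents ↥Y, (⟨x, hx⟩ : ↥Y) ∉ C →
      Disjoint (Subtype.val ⁻¹' U) C) :
    ∀ y ∈ U ∩ Y, ∃ ξ ∈ Y, ξ ⤳ x ∧ ξ ⤳ y := by
  haveI : QuasiSober ↥Y := hY.isClosedEmbedding_subtypeVal.quasiSober
  rintro y ⟨hyU, hyY⟩
  let y' : ↥Y := ⟨y, hyY⟩
  have hZ := irreducibleComponent_mem_irreducibleComponents y'
  have hyZ : y' ∈ irreducibleComponent y' := mem_irreducibleComponent
  have hxZ : (⟨x, hx⟩ : ↥Y) ∈ irreducibleComponent y' := by
    by_contra hcon
    have := hdisj _ hZ hcon
    exact Set.disjoint_left.mp this (show y' ∈ Subtype.val ⁻¹' U from hyU) hyZ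
  obtain ⟨ξ', hξ'⟩ := QuasiSober.sober (isIrreducible_irreducibleComponent (x := y'))
    isClosed_irreducibleComponent
  refine ⟨ξ'.1, ξ'.2, ?_, ?_⟩
  · exact (subtype_specializes_iff ξ' ⟨x, hx⟩).mp (hξ'.specializes hxZ)
  · exact (subtype_specializes_iff ξ' y').mp (hξ'.specializes hyZ)

theorem main (X : Scheme.{u}) [IsLocallyNoetherian X] [JacobsonSpace X]
    (h2 : ∀ x : X, CAlg.IsUniversallyCatenary (X.presheaf.stalk x))
    (h3 : ∀ X' ∈ irreducibleComponents (X : Type u), ∀ x ∈ X', IsClosed ({x} : Set X) →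
      topologicalKrullDim (↥X' : Type u) = topologicalKrullDim ↥{t : X | t ∈ X' ∧ t ⤳ x})
    (Y : Set X) (hY : IsClosed Y) (x : X) (hx : x ∈ Y) :
    FlatMor.localDim ↥Y ⟨x, hx⟩ =
        topologicalKrullDim ↥(closure ({x} : Set X)) + topologicalKrullDim ↥{t : X | t ∈ Y ∧ t ⤳ x} ∧
      FlatMor.localDim ↥Y ⟨x, hx⟩ =
        ⨆ C ∈ {C : Set ↥Y | C ∈ irreducibleComponents ↥Y ∧ (⟨x, hx⟩ : ↥Y) ∈ C}, topologicalKrullDim ↥C ∧
      ∀ U : Set X, IsOpen U → x ∈ U →
        (∀ C ∈ irreducibleComponents ↥Y, (⟨x, hx⟩ : ↥Y) ∉ C → Disjoint (Subtype.val ⁻¹' U) C) →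
        topologicalKrullDim ↥(U ∩ Y) = FlatMor.localDim ↥Y ⟨x, hx⟩ := by
  obtain ⟨δ, hS, h0⟩ := exists_isSetup X h2 h3
  have hδ := isDimensionFunction_of_isDimFun hS.2.2
  obtain ⟨O, hO, hxO⟩ : ∃ O : X.Opens, IsAffineOpen O ∧ x ∈ O := by
    obtain ⟨_, ⟨V, hV, rfl⟩, hyV, -⟩ :=
      (X.isBasis_affineOpens).exists_subset_of_mem_open (Set.mem_univ x) isOpen_univ
    exact ⟨V, hV, hyV⟩
  have hNR : IsNoetherianRing Γ(X, O) := IsLocallyNoetherian.component_noetherian ⟨O, hO⟩
  have hN : TopologicalSpace.NoetherianSpace ↥(O : Set X) := noetherianSpace_of_isAffineOpen O hO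
  have hex := exists_good_nhd Y hY x hx (O : Set X) O.isOpen hxO hN
  have hLD := localDim_eq_M δ hδ h0 Y hY x hx hex
  refine ⟨?_, ?_, ?_⟩
  · rw [hLD, closure_add_gen δ hδ h0 Y hY x hx]
  · rw [hLD, iSup_components δ hδ h0 Y hY x hx]
  · intro U hU hxU hdisj
    rw [hLD]
    exact dim_good δ hδ h0 Y hY x hx U hU hxU (good_of_disjoint Y hY x hx U hdisj)

/-- Let X be a locally Noetherian Jacobson scheme whose local rings are universally catenary and whose
irreducible components are equidimensional (for every irreducible component X' and closed point x of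
X', dim X' equals the dimension of the space of generizations of x in X'); let Y be a closed subset
of X and x a point of Y. Then dim_x(Y) = dim(U ∩ Y) = dim cl{x} + codim(cl{x}, Y) = sup_i dim(Y_i);
that is, the local dimension of Y at x equals the dimension of the closure of x plus the codimension
of that closure in Y (the Krull dimension of the space of generizations of x in Y), equals the
supremum of the dimensions of the irreducible components Y_i of Y through x, and equals dim(U ∩ Y)
for every open neighbourhood U of x meeting no irreducible component of Y that avoids x. (The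
published statement assumes only the Jacobson and universally-catenary conditions; its proof applies
the dimension formula for dense opens to the irreducible components, which needs their
equidimensionality, and for an irreducible Noetherian Jacobson scheme with universally catenary
local rings having two closed points with local rings of different dimensions n − 1 and n — such
schemes exist — the two sides differ at the first of these points; so equidimensionality of the
components is assumed here.) -/
theorem result (X : Scheme.{u}) [IsLocallyNoetherian X] [JacobsonSpace X]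
    (h2 : ∀ x : X, CAlg.IsUniversallyCatenary (X.presheaf.stalk x))
    (h3 : ∀ X' ∈ irreducibleComponents (X : Type u), ∀ x ∈ X', IsClosed ({x} : Set X) →
      topologicalKrullDim (↥X' : Type u) = topologicalKrullDim ↥{t : X | t ∈ X' ∧ t ⤳ x})
    (Y : Set X) (hY : IsClosed Y) (x : X) (hx : x ∈ Y) :
    FlatMor.localDim ↥Y ⟨x, hx⟩ =
        topologicalKrullDim ↥(closure ({x} : Set X)) + topologicalKrullDim ↥{t : X | t ∈ Y ∧ t ⤳ x} ∧
      FlatMor.localDim ↥Y ⟨x, hx⟩ =
        ⨆ C ∈ {C : Set ↥Y | C ∈ irreducibleComponents ↥Y ∧ (⟨x, hx⟩ : ↥Y) ∈ C}, topologicalKrullDim ↥C ∧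
      ∀ U : Set X, IsOpen U → x ∈ U →
        (∀ C ∈ irreducibleComponents ↥Y, (⟨x, hx⟩ : ↥Y) ∉ C → Disjoint (Subtype.val ⁻¹' U) C) →
        topologicalKrullDim ↥(U ∩ Y) = FlatMor.localDim ↥Y ⟨x, hx⟩ := by
  exact main X h2 h3 Y hY x hx

end Groth.Agent.S4888
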