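-- Statement S4889.
import Groth.Statements.S4889
import Groth.Agent.Lib.H30LocDimTop
import Groth.Agent.Lib.H30DimRel
import Groth.Agent.Lib.QCohSupport
import Groth.Agent.Lib.ModStalk
import Mathlib

set_option autoImplicit false
universe u
open CategoryTheory AlgebraicGeometry
open EGA43

namespace Groth.Agent.S4889

open Groth.Agent.Lib.H30LocDimTop Groth.Agent.Lib.H30EquiDim Groth.Agent.Lib.H30DimField
  Groth.Agent.Lib.H30DimRel

/-- Krull dimension of a sober T0 space through its specialization order -/
theorem topologicalKrullDim_eq_krullDim_points (G : Type u) [TopologicalSpace G] [QuasiSober G]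
    [T0Space G] : topologicalKrullDim G = @Order.krullDim G (specializationPreorder G) :=
  @Order.krullDim_eq_of_orderIso _ _ _ (specializationOrder G).toPreorder
    (irreducibleSetEquivPoints)

/-- The dimension of the stalk module of a quasi-coherent module of finite type is the dimension
of the space of generizations of the point in the support. -/
theorem supportDim_stalk {X : Scheme.{u}} (F : X.Modules) (hF : Coh.IsCoh F) (x : X) :
    Module.supportDim ↑(X.presheaf.stalk x) ↑(F.presheaf.stalk x) =
      topologicalKrullDim ↥{t : X | t ∈ CohB1.support F ∧ t ⤳ x} := by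
  haveI : F.IsQuasicoherent := hF.1
  have hcl : IsClosed (CohB1.support F) := Groth.Agent.Lib.ModStalk.isClosed_support_of_isFT F hF.2
  haveI := quasiSober_gen (CohB1.support F) hcl x
  rw [topologicalKrullDim_eq_krullDim_points]
  unfold Module.supportDim
  letI : Preorder ↥{t : X | t ∈ CohB1.support F ∧ t ⤳ x} :=
    specializationPreorder ↥{t : X | t ∈ CohB1.support F ∧ t ⤳ x}
  rw [← @Order.krullDim_orderDual ↥{t : X | t ∈ CohB1.support F ∧ t ⤳ x}
    (specializationPreorder ↥{t : X | t ∈ CohB1.support F ∧ t ⤳ x})]
  have hemb : Topology.IsEmbedding (X.fromSpecStalk x) := (X.fromSpecStalk x).isEmbedding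
  have hmem : ∀ P : PrimeSpectrum (X.presheaf.stalk x),
      P ∈ Module.support (X.presheaf.stalk x) (F.presheaf.stalk x) ↔
        X.fromSpecStalk x P ∈ CohB1.support F := by
    intro P
    rw [Groth.Agent.Lib.QCohSupport.mem_support_stalk_iff]
    show _ ↔ ¬ Subsingleton _
    rw [not_subsingleton_iff_nontrivial]
  let φ : ↥(Module.support (X.presheaf.stalk x) (F.presheaf.stalk x)) →
      (↥{t : X | t ∈ CohB1.support F ∧ t ⤳ x})ᵒᵈ := fun P =>
    OrderDual.toDual ⟨X.fromSpecStalk x P.1, (hmem P.1).mp P.2,
      Groth.Agent.Lib.QCohSupport.fromSpecStalk_specializes x P.1⟩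
  have hinj : Function.Injective φ := by
    intro P Q h
    have h1 : X.fromSpecStalk x P.1 = X.fromSpecStalk x Q.1 :=
      congrArg (fun t : (↥{t : X | t ∈ CohB1.support F ∧ t ⤳ x})ᵒᵈ => (OrderDual.ofDual t).1) h
    exact Subtype.ext (hemb.injective h1)
  have hsurj : Function.Surjective φ := by
    intro t
    have h1 : (OrderDual.ofDual t).1 ∈ Set.range (X.fromSpecStalk x) := by
      rw [Scheme.range_fromSpecStalk]
      exact (OrderDual.ofDual t).2.2
    obtain ⟨P, hP⟩ := h1
    refine ⟨⟨P, (hmem P).mpr (by rw [hP]; exact (OrderDual.ofDual t).2.1)⟩, ?_⟩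
    apply OrderDual.ofDual.injective
    exact Subtype.ext hP
  refine Order.krullDim_eq_of_orderIso ⟨Equiv.ofBijective φ ⟨hinj, hsurj⟩, ?_⟩
  intro P Q
  show (⟨X.fromSpecStalk x P.1, _⟩ : ↥{t : X | t ∈ CohB1.support F ∧ t ⤳ x}) ⤳
    ⟨X.fromSpecStalk x Q.1, _⟩ ↔ P.1 ≤ Q.1
  refine (subtype_specializes_iff _ _).trans ?_
  exact (hemb.isInducing.specializes_iff).trans (PrimeSpectrum.le_iff_specializes P.1 Q.1).symm

theorem main {X S : Scheme.{u}} [IsLocallyNoetherian S]
    [JacobsonSpace S] (h2 : ∀ s : S, CAlg.IsUniversallyCatenary (S.presheaf.stalk s))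
    (h3 : ∀ S' ∈ irreducibleComponents (S : Type u), ∀ s ∈ S', IsClosed ({s} : Set S) →
      topologicalKrullDim (↥S' : Type u) = topologicalKrullDim ↥{t : S | t ∈ S' ∧ t ⤳ s})
    (g : X ⟶ S) [LocallyOfFiniteType g] (F : X.Modules) (hF : Coh.IsCoh F) (x : X) (hx : x ∈ CohB1.support F) :
    topologicalKrullDim ↥(closure ({x} : Set X)) + Module.supportDim ↑(X.presheaf.stalk x) ↑(F.presheaf.stalk x) =
      FlatMor.localDim ↥(CohB1.support F) ⟨x, hx⟩ := by
  obtain ⟨δS, hS, h0S⟩ := exists_isSetup S h2 h3
  haveI : JacobsonSpace X := LocallyOfFiniteType.jacobsonSpace g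
  haveI : IsLocallyNoetherian X := LocallyOfFiniteType.isLocallyNoetherian g
  have hδ := isDimensionFunction_of_isDimFun (isDimFun_ind g δS hS)
  have h0 := ind_closed g δS h0S
  have hcl : IsClosed (CohB1.support F) := Groth.Agent.Lib.ModStalk.isClosed_support_of_isFT F hF.2
  obtain ⟨O, hO, hxO⟩ : ∃ O : X.Opens, IsAffineOpen O ∧ x ∈ O := by
    obtain ⟨_, ⟨V, hV, rfl⟩, hyV, -⟩ :=
      (X.isBasis_affineOpens).exists_subset_of_mem_open (Set.mem_univ x) isOpen_univ
    exact ⟨V, hV, hyV⟩
  have hNR : IsNoetherianRing Γ(X, O) := IsLocallyNoetherian.component_noetherian ⟨O, hO⟩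
  have hN : TopologicalSpace.NoetherianSpace ↥(O : Set X) := noetherianSpace_of_isAffineOpen O hO
  have hex := exists_good_nhd (CohB1.support F) hcl x hx (O : Set X) O.isOpen hxO hN
  rw [localDim_eq_M _ hδ h0 _ hcl x hx hex, supportDim_stalk F hF x,
    closure_add_gen _ hδ h0 _ hcl x hx]

/-- Stated as the dimension equality to which its two-line proof reduces it: let S be a locally
Noetherian Jacobson scheme whose local rings are universally catenary and whose irreducible
components are equidimensional (for every irreducible component S' and every closed point s of S',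
dim S' equals the dimension of the space of generizations of s in S'); let g : X ⟶ S be a morphism
locally of finite type, F a coherent O_X-module, Y its support and x a point of Y. Then dim(cl{x}) +
dim(F_x) = dim_x(Y), where dim(F_x) is the Krull dimension of the O_{X,x}-module F_x (the Krull
dimension of its support in Spec O_{X,x}) and dim_x(Y) is the local dimension of Y at x. (The
published statement reads prof*_x(F) = dim_x(Y) − coprof(F_x), with the rectified depth prof*_x(F) =
prof(F_x) + dim cl{x} and the codepth coprof(F_x) = dim(F_x) − prof(F_x); for the nonzero finitely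
generated module F_x this is the equality stated here. The published form of the special case in
which the base is X itself assumes only the Jacobson and universally-catenary conditions; this row
keeps the equidimensionality of the irreducible components of the base, which the proof uses and
without which the formula fails.) -/
theorem result {X S : Scheme.{u}} [IsLocallyNoetherian S]
    [JacobsonSpace S] (h2 : ∀ s : S, CAlg.IsUniversallyCatenary (S.presheaf.stalk s))
    (h3 : ∀ S' ∈ irreducibleComponents (S : Type u), ∀ s ∈ S', IsClosed ({s} : Set S) →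
      topologicalKrullDim (↥S' : Type u) = topologicalKrullDim ↥{t : S | t ∈ S' ∧ t ⤳ s})
    (g : X ⟶ S) [LocallyOfFiniteType g] (F : X.Modules) (hF : Coh.IsCoh F) (x : X) (hx : x ∈ CohB1.support F) :
    topologicalKrullDim ↥(closure ({x} : Set X)) + Module.supportDim ↑(X.presheaf.stalk x) ↑(F.presheaf.stalk x) =
      FlatMor.localDim ↥(CohB1.support F) ⟨x, hx⟩ := by
  exact main h2 h3 g F hF x hx

end Groth.Agent.S4889
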