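import Groth.Statements.S4893
-- import your own Groth.Agent.* helpers here

set_option autoImplicit false
universe u
open EGA43

namespace Groth.Agent.S4893

lemma exists_map_mem_of_isLocallyClosed {X Y : Type u} [TopologicalSpace X] [TopologicalSpace Y]
    (f : X → Y)
    (hinj : ∀ U₁ U₂ : Set Y, IsOpen U₁ → IsOpen U₂ → f ⁻¹' U₁ = f ⁻¹' U₂ → U₁ = U₂)
    (S : Set Y) (hS : IsLocallyClosed S) (hne : S.Nonempty) : ∃ x, f x ∈ S := by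
  by_contra hcon
  push Not at hcon
  obtain ⟨U, C, hU, hC, rfl⟩ := hS
  have h1 : f ⁻¹' (U ∩ Cᶜ) = f ⁻¹' U := by
    ext x
    simp only [Set.mem_preimage, Set.mem_inter_iff, Set.mem_compl_iff, and_iff_left_iff_imp]
    intro hx hxC
    exact hcon x ⟨hx, hxC⟩
  have h2 := hinj _ _ (hU.inter hC.isOpen_compl) hU h1
  obtain ⟨y, hyU, hyC⟩ := hne
  have : y ∈ U ∩ Cᶜ := by rw [h2]; exact hyU
  exact this.2 hyC

lemma sub_of_preimage_sub {X Y : Type u} [TopologicalSpace X] [TopologicalSpace Y]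
    (f : X → Y)
    (hinj : ∀ U₁ U₂ : Set Y, IsOpen U₁ → IsOpen U₂ → f ⁻¹' U₁ = f ⁻¹' U₂ → U₁ = U₂)
    (Y' : Set Y) (hY' : (∀ y : Y, ∃ U : Set Y, IsOpen U ∧ y ∈ U ∧ ∃ T : Set (Set Y), T.Finite ∧
      (∀ t ∈ T, IsLocallyClosed t) ∧ U ∩ Y' = ⋃₀ T))
    (U₁ U₂ : Set ↥Y') (hU₁ : IsOpen U₁) (hU₂ : IsOpen U₂)
    (hsub : (Y'.restrictPreimage f) ⁻¹' U₁ ⊆ (Y'.restrictPreimage f) ⁻¹' U₂) : U₁ ⊆ U₂ := by
  obtain ⟨O₁, hO₁, rfl⟩ := isOpen_induced_iff.mp hU₁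
  obtain ⟨O₂, hO₂, rfl⟩ := isOpen_induced_iff.mp hU₂
  intro y hy
  by_contra hy2
  obtain ⟨N, hN, hyN, T, hT, hTlc, hNT⟩ := hY' y.1
  have hyT : y.1 ∈ ⋃₀ T := by rw [← hNT]; exact ⟨hyN, y.2⟩
  obtain ⟨t, htT, hyt⟩ := hyT
  have htY' : t ⊆ Y' := fun z hz => by
    have : z ∈ N ∩ Y' := by rw [hNT]; exact ⟨t, htT, hz⟩
    exact this.2
  have hSlc : IsLocallyClosed (t ∩ O₁ ∩ O₂ᶜ) :=
    ((hTlc t htT).inter hO₁.isLocallyClosed).inter hO₂.isClosed_compl.isLocallyClosed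
  obtain ⟨x, ⟨⟨hxt, hx1⟩, hx2⟩⟩ := exists_map_mem_of_isLocallyClosed f hinj _ hSlc
    ⟨y.1, ⟨hyt, hy⟩, hy2⟩
  have hxY' : x ∈ f ⁻¹' Y' := htY' hxt
  have : (⟨x, hxY'⟩ : f ⁻¹' Y') ∈ (Y'.restrictPreimage f) ⁻¹' (Subtype.val ⁻¹' O₁) := hx1
  exact hx2 (hsub this)

/-- Let f : X → Y be a quasi-homeomorphism (continuous, with U ↦ f⁻¹(U) a bijection from the open
subsets of Y onto the open subsets of X) and Y' a locally quasi-constructible subset of Y. Then the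
restriction f⁻¹(Y') → Y' of f is a quasi-homeomorphism. -/
theorem result {X Y : Type u} [TopologicalSpace X]
    [TopologicalSpace Y] (f : X → Y) (hf : Continuous f)
    (hq : ((∀ U₁ U₂ : Set Y, IsOpen U₁ → IsOpen U₂ → (f) ⁻¹' U₁ = (f) ⁻¹' U₂ → U₁ = U₂) ∧ (∀ V : Set X, IsOpen V → ∃ U : Set Y, IsOpen U ∧ (f) ⁻¹' U = V)))
    (Y' : Set Y) (hY' : (∀ y : Y, ∃ U : Set Y, IsOpen U ∧ y ∈ U ∧ ∃ T : Set (Set Y), T.Finite ∧ (∀ t ∈ T, IsLocallyClosed t) ∧ U ∩ Y' = ⋃₀ T)) :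
    ((∀ U₁ U₂ : Set ↥Y', IsOpen U₁ → IsOpen U₂ → (Y'.restrictPreimage f) ⁻¹' U₁ = (Y'.restrictPreimage f) ⁻¹' U₂ → U₁ = U₂) ∧ (∀ V : Set ↥(f ⁻¹' Y'), IsOpen V → ∃ U : Set ↥Y', IsOpen U ∧ (Y'.restrictPreimage f) ⁻¹' U = V)) := by
  constructor
  · intro U₁ U₂ hU₁ hU₂ heq
    exact Set.Subset.antisymm
      (sub_of_preimage_sub f hq.1 Y' hY' U₁ U₂ hU₁ hU₂ heq.subset)
      (sub_of_preimage_sub f hq.1 Y' hY' U₂ U₁ hU₂ hU₁ heq.symm.subset)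
  · intro V hV
    obtain ⟨O, hO, rfl⟩ := isOpen_induced_iff.mp hV
    obtain ⟨P, hP, rfl⟩ := hq.2 O hO
    exact ⟨Subtype.val ⁻¹' P, hP.preimage continuous_subtype_val, rfl⟩

end Groth.Agent.S4893
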