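import Groth.Statements.S4890
import Groth.Agent.S4893

set_option autoImplicit false
universe u
open EGA43

namespace Groth.Agent.S4890

lemma sub_of_preimage_sub' {P Q : Type u} [TopologicalSpace P] [TopologicalSpace Q] (g : P → Q)
    (hinj : ∀ U₁ U₂ : Set Q, IsOpen U₁ → IsOpen U₂ → g ⁻¹' U₁ = g ⁻¹' U₂ → U₁ = U₂)
    (U₁ U₂ : Set Q) (h1 : IsOpen U₁) (h2 : IsOpen U₂) (h : g ⁻¹' U₁ ⊆ g ⁻¹' U₂) : U₁ ⊆ U₂ := by
  have : g ⁻¹' (U₁ ∩ U₂) = g ⁻¹' U₁ := by
    rw [Set.preimage_inter]; exact Set.inter_eq_left.mpr h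
  have := hinj _ _ (h1.inter h2) h1 this
  exact Set.inter_eq_left.mp this

lemma isCompact_preimage_iff {P Q : Type u} [TopologicalSpace P] [TopologicalSpace Q] (g : P → Q)
    (hg : Continuous g)
    (hinj : ∀ U₁ U₂ : Set Q, IsOpen U₁ → IsOpen U₂ → g ⁻¹' U₁ = g ⁻¹' U₂ → U₁ = U₂)
    (hsurj : ∀ V : Set P, IsOpen V → ∃ U : Set Q, IsOpen U ∧ g ⁻¹' U = V)
    (U : Set Q) (hU : IsOpen U) : IsCompact U ↔ IsCompact (g ⁻¹' U) := by
  constructor
  · intro hc
    rw [isCompact_iff_finite_subcover]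
    intro ι V hV hcov
    choose O hO hOV using fun i => hsurj (V i) (hV i)
    have hcov' : U ⊆ ⋃ i, O i := by
      apply sub_of_preimage_sub' g hinj _ _ hU (isOpen_iUnion hO)
      rw [Set.preimage_iUnion]
      simpa only [hOV] using hcov
    obtain ⟨t, ht⟩ := hc.elim_finite_subcover O hO hcov'
    refine ⟨t, ?_⟩
    have := Set.preimage_mono (f := g) ht
    simpa only [Set.preimage_iUnion, hOV] using this
  · intro hc
    rw [isCompact_iff_finite_subcover]
    intro ι O hO hcov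
    have hcov' : g ⁻¹' U ⊆ ⋃ i, g ⁻¹' (O i) := by
      rw [← Set.preimage_iUnion]; exact Set.preimage_mono hcov
    obtain ⟨t, ht⟩ := hc.elim_finite_subcover (fun i => g ⁻¹' (O i))
      (fun i => (hO i).preimage hg) hcov'
    refine ⟨t, ?_⟩
    apply sub_of_preimage_sub' g hinj _ _ hU
      (isOpen_iUnion fun i => isOpen_iUnion fun _ => hO i)
    simpa only [Set.preimage_iUnion] using ht

lemma compactSpace_iff {P Q : Type u} [TopologicalSpace P] [TopologicalSpace Q] (g : P → Q)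
    (hg : Continuous g)
    (hinj : ∀ U₁ U₂ : Set Q, IsOpen U₁ → IsOpen U₂ → g ⁻¹' U₁ = g ⁻¹' U₂ → U₁ = U₂)
    (hsurj : ∀ V : Set P, IsOpen V → ∃ U : Set Q, IsOpen U ∧ g ⁻¹' U = V) :
    CompactSpace Q ↔ CompactSpace P := by
  rw [← isCompact_univ_iff, ← isCompact_univ_iff,
    isCompact_preimage_iff g hg hinj hsurj Set.univ isOpen_univ, Set.preimage_univ]

lemma noetherianSpace_iff' {P Q : Type u} [TopologicalSpace P] [TopologicalSpace Q] (g : P → Q)
    (hg : Continuous g)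
    (hinj : ∀ U₁ U₂ : Set Q, IsOpen U₁ → IsOpen U₂ → g ⁻¹' U₁ = g ⁻¹' U₂ → U₁ = U₂)
    (hsurj : ∀ V : Set P, IsOpen V → ∃ U : Set Q, IsOpen U ∧ g ⁻¹' U = V) :
    TopologicalSpace.NoetherianSpace Q ↔ TopologicalSpace.NoetherianSpace P := by
  rw [TopologicalSpace.noetherianSpace_iff_opens, TopologicalSpace.noetherianSpace_iff_opens]
  constructor
  · intro h V
    obtain ⟨U, hU, hUV⟩ := hsurj V V.2
    rw [← hUV, ← isCompact_preimage_iff g hg hinj hsurj U hU]
    exact h ⟨U, hU⟩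
  · intro h U
    rw [isCompact_preimage_iff g hg hinj hsurj U U.2]
    exact h ⟨g ⁻¹' U, U.2.preimage hg⟩

/-- Let f : X → Y be a quasi-homeomorphism (U ↦ f⁻¹(U) is a bijection on open subsets) and Y' a locally
quasi-constructible subset of Y, i.e. every point of Y has an open neighbourhood whose trace on Y'
is a finite union of locally closed subsets; put X' = f⁻¹(Y'). Then Y' is quasi-compact if and only
if X' is, and Y' is a Noetherian space if and only if X' is. -/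
theorem result {X Y : Type u} [TopologicalSpace X]
    [TopologicalSpace Y] (f : X → Y) (hf : Continuous f)
    (hq : Function.Bijective (fun U : TopologicalSpace.Opens Y =>
      (⟨f ⁻¹' (U : Set Y), U.isOpen.preimage hf⟩ : TopologicalSpace.Opens X)))
    (Y' : Set Y)
    (hY' : ∀ y : Y, ∃ U : Set Y, IsOpen U ∧ y ∈ U ∧
      ∃ T : Set (Set Y), T.Finite ∧ (∀ t ∈ T, IsLocallyClosed t) ∧ U ∩ Y' = ⋃₀ T) :
    (IsCompact Y' ↔ IsCompact (f ⁻¹' Y')) ∧
      (TopologicalSpace.NoetherianSpace ↥Y' ↔ TopologicalSpace.NoetherianSpace ↥(f ⁻¹' Y')) := by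
  have hq' : (∀ U₁ U₂ : Set Y, IsOpen U₁ → IsOpen U₂ → f ⁻¹' U₁ = f ⁻¹' U₂ → U₁ = U₂) ∧
      (∀ V : Set X, IsOpen V → ∃ U : Set Y, IsOpen U ∧ f ⁻¹' U = V) := by
    constructor
    · intro U₁ U₂ h1 h2 heq
      have := hq.1 (a₁ := ⟨U₁, h1⟩) (a₂ := ⟨U₂, h2⟩) (TopologicalSpace.Opens.ext heq)
      exact congrArg (fun W : TopologicalSpace.Opens Y => (W : Set Y)) this
    · intro V hV
      obtain ⟨U, hU⟩ := hq.2 ⟨V, hV⟩
      exact ⟨U, U.2, congrArg (fun W : TopologicalSpace.Opens X => (W : Set X)) hU⟩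
  have hres := Groth.Agent.S4893.result f hf hq' Y' hY'
  have hcont : Continuous (Y'.restrictPreimage f) := hf.restrictPreimage
  constructor
  · rw [isCompact_iff_compactSpace, isCompact_iff_compactSpace]
    exact compactSpace_iff _ hcont hres.1 hres.2
  · exact noetherianSpace_iff' _ hcont hres.1 hres.2

end Groth.Agent.S4890
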