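import Groth.Statements.S4897
import Mathlib
import Groth.Agent.S4890
import Groth.Agent.S4893

set_option autoImplicit false
universe u
open EGA43

namespace Groth.Agent.S4897
set_option backward.isDefEq.respectTransparency.types false

open Topology Set

section
variable {X Y : Type u} [TopologicalSpace X] [TopologicalSpace Y] (f : X → Y)

/-- the Boolean algebra generated by open sets -/
def BA (Y : Type u) [TopologicalSpace Y] : BooleanSubalgebra (Set Y) :=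
  BooleanSubalgebra.closure {U : Set Y | IsOpen U}

lemma isOpen_mem_BA {U : Set Y} (hU : IsOpen U) : U ∈ BA Y := BooleanSubalgebra.subset_closure hU

lemma isLocallyClosed_mem_BA {Z : Set Y} (hZ : IsLocallyClosed Z) : Z ∈ BA Y := by
  obtain ⟨U, C, hU, hC, rfl⟩ := hZ
  exact BooleanSubalgebra.inf_mem (isOpen_mem_BA hU)
    (BooleanSubalgebra.compl_mem_iff.mp (by simpa using isOpen_mem_BA hC.isOpen_compl))

lemma isConstructible_mem_BA {Z : Set Y} (hZ : IsConstructible Z) : Z ∈ BA Y :=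
  BooleanSubalgebra.closure_mono (fun _ h => h.1) hZ

variable (hinj : ∀ U₁ U₂ : Set Y, IsOpen U₁ → IsOpen U₂ → f ⁻¹' U₁ = f ⁻¹' U₂ → U₁ = U₂)
include hinj

lemma eq_empty_of_preimage_eq_empty {Z : Set Y} (hZ : Z ∈ BA Y) (h : f ⁻¹' Z = ∅) : Z = ∅ := by
  revert h
  induction Z, hZ using BooleanSubalgebra.closure_sdiff_sup_induction with
  | isSublattice => exact ⟨fun _ ha _ hb => IsOpen.union ha hb, fun _ ha _ hb => IsOpen.inter ha hb⟩
  | bot_mem => exact isOpen_empty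
  | top_mem => exact isOpen_univ
  | sdiff x hx y hy =>
    intro h
    by_contra hne
    have hlc : IsLocallyClosed (x \ y) := by
      rw [Set.sdiff_eq]
      exact hx.isLocallyClosed.inter (IsOpen.isClosed_compl hy).isLocallyClosed
    obtain ⟨a, ha⟩ := Groth.Agent.S4893.exists_map_mem_of_isLocallyClosed f hinj _ hlc
      (Set.nonempty_iff_ne_empty.mpr hne)
    have : a ∈ f ⁻¹' (x \ y) := ha
    rw [h] at this
    exact this
  | sup x hx y hy ihx ihy =>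
    intro h
    have h' : f ⁻¹' x ∪ f ⁻¹' y = ∅ := h
    rw [Set.union_empty_iff] at h'
    show x ∪ y = ∅
    rw [ihx h'.1, ihy h'.2, Set.union_empty]

lemma eq_of_preimage_eq {Z₁ Z₂ : Set Y} (h₁ : Z₁ ∈ BA Y) (h₂ : Z₂ ∈ BA Y)
    (h : f ⁻¹' Z₁ = f ⁻¹' Z₂) : Z₁ = Z₂ := by
  have e1 : Z₁ \ Z₂ = ∅ := eq_empty_of_preimage_eq_empty f hinj (BooleanSubalgebra.sdiff_mem h₁ h₂)
    (by rw [Set.preimage_sdiff, h, Set.sdiff_self])
  have e2 : Z₂ \ Z₁ = ∅ := eq_empty_of_preimage_eq_empty f hinj (BooleanSubalgebra.sdiff_mem h₂ h₁)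
    (by rw [Set.preimage_sdiff, h, Set.sdiff_self])
  exact Set.Subset.antisymm (Set.sdiff_eq_empty.mp e1) (Set.sdiff_eq_empty.mp e2)

variable (hf : Continuous f)
  (hsurj : ∀ V : Set X, IsOpen V → ∃ U : Set Y, IsOpen U ∧ f ⁻¹' U = V)
include hf hsurj

lemma isRetrocompact_preimage_iff {U : Set Y} (hU : IsOpen U) :
    IsRetrocompact U ↔ IsRetrocompact (f ⁻¹' U) := by
  constructor
  · intro h K' hK'c hK'o
    obtain ⟨K, hK, rfl⟩ := hsurj K' hK'o
    have hKc : IsCompact K :=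
      (Groth.Agent.S4890.isCompact_preimage_iff f hf hinj hsurj K hK).mpr hK'c
    rw [← Set.preimage_inter]
    exact (Groth.Agent.S4890.isCompact_preimage_iff f hf hinj hsurj _ (hU.inter hK)).mp (h hKc hK)
  · intro h K hKc hKo
    rw [Groth.Agent.S4890.isCompact_preimage_iff f hf hinj hsurj _ (hU.inter hKo),
      Set.preimage_inter]
    exact h ((Groth.Agent.S4890.isCompact_preimage_iff f hf hinj hsurj K hKo).mp hKc)
      (hKo.preimage hf)

lemma isConstructible_preimage {Z : Set Y} (hZ : IsConstructible Z) :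
    IsConstructible (f ⁻¹' Z) :=
  hZ.preimage hf fun _ hs hrc => (isRetrocompact_preimage_iff f hinj hf hsurj hs).mp hrc

lemma exists_isConstructible_preimage_eq {Z' : Set X} (hZ' : IsConstructible Z') :
    ∃ Z : Set Y, IsConstructible Z ∧ f ⁻¹' Z = Z' := by
  induction hZ' using IsConstructible.empty_union_induction with
  | open_retrocompact U' hU'o hU'c =>
    obtain ⟨U, hU, rfl⟩ := hsurj U' hU'o
    exact ⟨U, ((isRetrocompact_preimage_iff f hinj hf hsurj hU).mpr hU'c).isConstructible hU, rfl⟩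
  | union s hs t ht ihs iht =>
    obtain ⟨Zs, hZs, rfl⟩ := ihs
    obtain ⟨Zt, hZt, rfl⟩ := iht
    exact ⟨Zs ∪ Zt, hZs.union hZt, Set.preimage_union⟩
  | compl s hs ihs =>
    obtain ⟨Zs, hZs, rfl⟩ := ihs
    exact ⟨Zsᶜ, hZs.compl, Set.preimage_compl⟩

omit hinj hf in
lemma exists_isLocallyClosed_preimage_eq {Z' : Set X} (hZ' : IsLocallyClosed Z') :
    ∃ Z : Set Y, IsLocallyClosed Z ∧ f ⁻¹' Z = Z' := by
  obtain ⟨U', C', hU', hC', rfl⟩ := hZ'
  obtain ⟨U, hU, rfl⟩ := hsurj U' hU'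
  obtain ⟨W, hW, hWC⟩ := hsurj C'ᶜ hC'.isOpen_compl
  refine ⟨U ∩ Wᶜ, hU.isLocallyClosed.inter hW.isClosed_compl.isLocallyClosed, ?_⟩
  rw [Set.preimage_inter, Set.preimage_compl, hWC, compl_compl]

lemma restrict_qh {U : Set Y} (hU : IsOpen U) :
    (∀ U₁ U₂ : Set ↥U, IsOpen U₁ → IsOpen U₂ →
      (U.restrictPreimage f) ⁻¹' U₁ = (U.restrictPreimage f) ⁻¹' U₂ → U₁ = U₂) ∧
    (∀ V : Set ↥(f ⁻¹' U), IsOpen V → ∃ W : Set ↥U, IsOpen W ∧ (U.restrictPreimage f) ⁻¹' W = V) :=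
  Groth.Agent.S4893.result f hf ⟨hinj, hsurj⟩ U (fun y => ⟨univ, isOpen_univ, trivial, {U},
    Set.finite_singleton _, by simpa using hU.isLocallyClosed, by simp⟩)

lemma isLocallyConstructible_preimage {Z : Set Y} (hZ : IsLocallyConstructible Z) :
    IsLocallyConstructible (f ⁻¹' Z) := by
  intro x
  obtain ⟨U, hUx, hU, hUZ⟩ := hZ (f x)
  refine ⟨f ⁻¹' U, hf.continuousAt.preimage_mem_nhds hUx, hU.preimage hf, ?_⟩
  obtain ⟨hi, hs⟩ := restrict_qh f hinj hf hsurj hU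
  exact isConstructible_preimage (U.restrictPreimage f) hi (hf.restrictPreimage) hs hUZ

end

section
variable {Y : Type u} [TopologicalSpace Y]

lemma image_val_mem_BA {U : Set Y} (hU : IsOpen U) {S : Set ↥U} (hS : IsConstructible S) :
    Subtype.val '' S ∈ BA Y := by
  induction hS using IsConstructible.empty_union_induction with
  | open_retrocompact V hVo hVc => exact isOpen_mem_BA (hU.isOpenMap_subtype_val V hVo)
  | union s hs t ht ihs iht =>
    rw [Set.image_union]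
    exact BooleanSubalgebra.sup_mem ihs iht
  | compl s hs ihs =>
    rw [Set.image_compl_eq_range_sdiff_image Subtype.val_injective, Subtype.range_coe]
    exact BooleanSubalgebra.sdiff_mem (isOpen_mem_BA hU) ihs

end

section
variable {X Y : Type u} [TopologicalSpace X] [TopologicalSpace Y] (f : X → Y)
  (hinj : ∀ U₁ U₂ : Set Y, IsOpen U₁ → IsOpen U₂ → f ⁻¹' U₁ = f ⁻¹' U₂ → U₁ = U₂)
include hinj

omit [TopologicalSpace X] hinj in
lemma inter_mem_BA_of_isLocallyConstructible {Z : Set Y} (hZ : IsLocallyConstructible Z) (y : Y) :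
    ∃ U : Set Y, IsOpen U ∧ y ∈ U ∧ Z ∩ U ∈ BA Y := by
  obtain ⟨U, hUy, hU, hUZ⟩ := hZ y
  refine ⟨U, hU, mem_of_mem_nhds hUy, ?_⟩
  have := image_val_mem_BA hU hUZ
  rwa [Subtype.image_preimage_coe, Set.inter_comm] at this

lemma eq_of_preimage_eq_of_isLocallyConstructible {Z₁ Z₂ : Set Y}
    (h₁ : IsLocallyConstructible Z₁) (h₂ : IsLocallyConstructible Z₂)
    (h : f ⁻¹' Z₁ = f ⁻¹' Z₂) : Z₁ = Z₂ := by
  ext y
  obtain ⟨U₁, hU₁, hy₁, hB₁⟩ := inter_mem_BA_of_isLocallyConstructible h₁ y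
  obtain ⟨U₂, hU₂, hy₂, hB₂⟩ := inter_mem_BA_of_isLocallyConstructible h₂ y
  have e : Z₁ ∩ U₁ ∩ U₂ = Z₂ ∩ U₂ ∩ U₁ := by
    have hp : f ⁻¹' (Z₁ ∩ U₁ ∩ U₂) = f ⁻¹' (Z₂ ∩ U₂ ∩ U₁) := by
      rw [Set.preimage_inter, Set.preimage_inter, Set.preimage_inter, Set.preimage_inter, h,
        Set.inter_right_comm]
    exact eq_of_preimage_eq f hinj
      (BooleanSubalgebra.inf_mem hB₁ (isOpen_mem_BA hU₂))
      (BooleanSubalgebra.inf_mem hB₂ (isOpen_mem_BA hU₁)) hp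
  constructor
  · intro hy
    have : y ∈ Z₁ ∩ U₁ ∩ U₂ := ⟨⟨hy, hy₁⟩, hy₂⟩
    rw [e] at this
    exact this.1.1
  · intro hy
    have : y ∈ Z₂ ∩ U₂ ∩ U₁ := ⟨⟨hy, hy₂⟩, hy₁⟩
    rw [← e] at this
    exact this.1.1

lemma exists_isLocallyConstructible_preimage_eq (hf : Continuous f)
    (hsurj : ∀ V : Set X, IsOpen V → ∃ U : Set Y, IsOpen U ∧ f ⁻¹' U = V)
    {Z' : Set X} (hZ' : IsLocallyConstructible Z') :
    ∃ Z : Set Y, IsLocallyConstructible Z ∧ f ⁻¹' Z = Z' := by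
  have hloc : ∀ x : X, ∃ U : Set Y, IsOpen U ∧ f x ∈ U ∧ ∃ Zc : Set ↥U, IsConstructible Zc ∧
      f ⁻¹' (Subtype.val '' Zc) = Z' ∩ f ⁻¹' U := by
    intro x
    obtain ⟨U', hU'x, hU'o, hU'Z⟩ := hZ' x
    obtain ⟨U, hU, rfl⟩ := hsurj U' hU'o
    obtain ⟨hi, hs⟩ := restrict_qh f hinj hf hsurj hU
    obtain ⟨Zc, hZc, hZce⟩ := exists_isConstructible_preimage_eq (U.restrictPreimage f) hi
      hf.restrictPreimage hs hU'Z
    refine ⟨U, hU, (mem_of_mem_nhds hU'x : x ∈ f ⁻¹' U), Zc, hZc, ?_⟩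
    ext x0
    constructor
    · rintro ⟨⟨y, hy⟩, hyZ, hyx⟩
      have hyx' : y = f x0 := hyx
      subst hyx'
      have h1 : (⟨x0, hy⟩ : ↥(f ⁻¹' U)) ∈ (U.restrictPreimage f) ⁻¹' Zc := hyZ
      rw [hZce] at h1
      exact ⟨h1, hy⟩
    · rintro ⟨hx0Z, hx0U⟩
      have h1 : (⟨x0, hx0U⟩ : ↥(f ⁻¹' U)) ∈ (Subtype.val ⁻¹' Z' : Set ↥(f ⁻¹' U)) := hx0Z
      rw [← hZce] at h1
      exact ⟨⟨f x0, hx0U⟩, h1, rfl⟩
  choose U hU hxU Zc hZc hZce using hloc
  refine ⟨⋃ x, Subtype.val '' Zc x, ?_, ?_⟩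
  · have hcov : ⋃ x, U x = univ := by
      apply hinj _ _ (isOpen_iUnion hU) isOpen_univ
      rw [Set.preimage_iUnion, Set.preimage_univ]
      exact Set.eq_univ_of_forall fun x => Set.mem_iUnion.mpr ⟨x, hxU x⟩
    have key : ∀ x x1, Subtype.val '' Zc x ∩ U x1 ⊆ Subtype.val '' Zc x1 := by
      intro x x1
      have hp : f ⁻¹' (Subtype.val '' Zc x ∩ U x1) = f ⁻¹' (Subtype.val '' Zc x1 ∩ U x) := by
        rw [Set.preimage_inter, Set.preimage_inter, hZce, hZce, Set.inter_right_comm]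
      have e : Subtype.val '' Zc x ∩ U x1 = Subtype.val '' Zc x1 ∩ U x :=
        eq_of_preimage_eq f hinj
          (BooleanSubalgebra.inf_mem (image_val_mem_BA (hU x) (hZc x)) (isOpen_mem_BA (hU x1)))
          (BooleanSubalgebra.inf_mem (image_val_mem_BA (hU x1) (hZc x1)) (isOpen_mem_BA (hU x))) hp
      rw [e]
      exact Set.inter_subset_left
    intro y
    obtain ⟨x1, hx1⟩ : ∃ x1, y ∈ U x1 := by
      have : y ∈ ⋃ x, U x := by rw [hcov]; trivial
      exact Set.mem_iUnion.mp this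
    refine ⟨U x1, (hU x1).mem_nhds hx1, hU x1, ?_⟩
    have : (Subtype.val ⁻¹' (⋃ x, Subtype.val '' Zc x) : Set ↥(U x1)) = Zc x1 := by
      ext ⟨z, hz⟩
      simp only [Set.mem_preimage, Set.mem_iUnion]
      constructor
      · rintro ⟨x, hx⟩
        obtain ⟨⟨z', hz'⟩, hz'Z, hzz'⟩ := key x x1 ⟨hx, hz⟩
        have hzz'' : z' = z := hzz'
        subst hzz''
        exact hz'Z
      · intro h
        exact ⟨x1, ⟨⟨z, hz⟩, h, rfl⟩⟩
    rw [this]
    exact hZc x1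
  · rw [Set.preimage_iUnion]
    simp_rw [hZce]
    rw [← Set.inter_iUnion]
    have : ⋃ x, f ⁻¹' U x = univ :=
      Set.eq_univ_of_forall fun x => Set.mem_iUnion.mpr ⟨x, hxU x⟩
    rw [this, Set.inter_univ]

end


/-- Let f : X → Y be a quasi-homeomorphism, i.e. a continuous map such that U ↦ f⁻¹(U) is a bijection
from the open subsets of Y onto the open subsets of X. Then Z ↦ f⁻¹(Z) induces bijections from the
locally closed (resp. constructible, resp. locally constructible) subsets of Y onto those of X. -/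
theorem result {X Y : Type u}
    [TopologicalSpace X] [TopologicalSpace Y] (f : X → Y) (hf : Continuous f)
    (hq : Function.Bijective (fun U : TopologicalSpace.Opens Y =>
      (⟨f ⁻¹' (U : Set Y), U.isOpen.preimage hf⟩ : TopologicalSpace.Opens X))) :
    Function.Bijective (fun Z : {Z : Set Y // IsLocallyClosed Z} =>
        (⟨f ⁻¹' Z.1, Z.2.preimage hf⟩ : {Z : Set X // IsLocallyClosed Z})) ∧
      Set.BijOn (fun Z : Set Y => f ⁻¹' Z) {Z | Topology.IsConstructible Z} {Z | Topology.IsConstructible Z} ∧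
      Set.BijOn (fun Z : Set Y => f ⁻¹' Z) {Z | Topology.IsLocallyConstructible Z}
        {Z | Topology.IsLocallyConstructible Z} := by
  have hinj : ∀ U₁ U₂ : Set Y, IsOpen U₁ → IsOpen U₂ → f ⁻¹' U₁ = f ⁻¹' U₂ → U₁ = U₂ := by
    intro U₁ U₂ h1 h2 h
    have := hq.1 (a₁ := ⟨U₁, h1⟩) (a₂ := ⟨U₂, h2⟩) (TopologicalSpace.Opens.ext h)
    exact congrArg (fun W : TopologicalSpace.Opens Y => (W : Set Y)) this
  have hsurj : ∀ V : Set X, IsOpen V → ∃ U : Set Y, IsOpen U ∧ f ⁻¹' U = V := by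
    intro V hV
    obtain ⟨U, hU⟩ := hq.2 ⟨V, hV⟩
    exact ⟨U.1, U.2, congrArg (fun W : TopologicalSpace.Opens X => (W : Set X)) hU⟩
  refine ⟨⟨?_, ?_⟩, ⟨?_, ?_, ?_⟩, ⟨?_, ?_, ?_⟩⟩
  · rintro ⟨Z₁, h₁⟩ ⟨Z₂, h₂⟩ h
    apply Subtype.ext
    exact eq_of_preimage_eq f hinj (isLocallyClosed_mem_BA h₁) (isLocallyClosed_mem_BA h₂)
      (congrArg Subtype.val h)
  · rintro ⟨Z', hZ'⟩
    obtain ⟨Z, hZ, hZe⟩ := exists_isLocallyClosed_preimage_eq f hsurj hZ'
    exact ⟨⟨Z, hZ⟩, Subtype.ext hZe⟩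
  · intro Z hZ
    exact isConstructible_preimage f hinj hf hsurj hZ
  · intro Z₁ h₁ Z₂ h₂ h
    exact eq_of_preimage_eq f hinj (isConstructible_mem_BA h₁) (isConstructible_mem_BA h₂) h
  · intro Z' hZ'
    obtain ⟨Z, hZ, hZe⟩ := exists_isConstructible_preimage_eq f hinj hf hsurj hZ'
    exact ⟨Z, hZ, hZe⟩
  · intro Z hZ
    exact isLocallyConstructible_preimage f hinj hf hsurj hZ
  · intro Z₁ h₁ Z₂ h₂ h
    exact eq_of_preimage_eq_of_isLocallyConstructible f hinj h₁ h₂ h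
  · intro Z' hZ'
    obtain ⟨Z, hZ, hZe⟩ := exists_isLocallyConstructible_preimage_eq f hinj hf hsurj hZ'
    exact ⟨Z, hZ, hZe⟩

end Groth.Agent.S4897
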