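import Groth.Statements.S4903
-- import your own Groth.Agent.* helpers here

set_option autoImplicit false
universe u
open EGA43

namespace Groth.Agent.S4903

section helpers

variable {X : Type u} [TopologicalSpace X]

/-- finite unions of locally closed sets -/
def QC (Z : Set X) : Prop :=
  ∃ T : Set (Set X), T.Finite ∧ (∀ t ∈ T, IsLocallyClosed t) ∧ Z = ⋃₀ T

/-- locally finite unions of locally closed sets -/
def LQC (Z : Set X) : Prop :=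
  ∀ x : X, ∃ U : Set X, IsOpen U ∧ x ∈ U ∧
    ∃ T : Set (Set X), T.Finite ∧ (∀ t ∈ T, IsLocallyClosed t) ∧ U ∩ Z = ⋃₀ T

lemma QC.of_isLocallyClosed {t : Set X} (h : IsLocallyClosed t) : QC t :=
  ⟨{t}, Set.finite_singleton _, by simpa using h, by simp⟩

lemma QC.empty : QC (∅ : Set X) := ⟨∅, Set.finite_empty, by simp, by simp⟩

lemma QC.univ : QC (Set.univ : Set X) := QC.of_isLocallyClosed isOpen_univ.isLocallyClosed

lemma QC.union {A B : Set X} (hA : QC A) (hB : QC B) : QC (A ∪ B) := by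
  obtain ⟨TA, hTA, hTA', rfl⟩ := hA
  obtain ⟨TB, hTB, hTB', rfl⟩ := hB
  refine ⟨TA ∪ TB, hTA.union hTB, ?_, (Set.sUnion_union _ _).symm⟩
  rintro t (ht | ht)
  · exact hTA' t ht
  · exact hTB' t ht

lemma QC.inter {A B : Set X} (hA : QC A) (hB : QC B) : QC (A ∩ B) := by
  obtain ⟨TA, hTA, hTA', rfl⟩ := hA
  obtain ⟨TB, hTB, hTB', rfl⟩ := hB
  refine ⟨Set.image2 (· ∩ ·) TA TB, hTA.image2 _ hTB, ?_, ?_⟩
  · rintro _ ⟨a, ha, b, hb, rfl⟩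
    exact (hTA' a ha).inter (hTB' b hb)
  · ext x
    simp only [Set.mem_inter_iff, Set.mem_sUnion, Set.mem_image2]
    constructor
    · rintro ⟨⟨a, ha, hxa⟩, ⟨b, hb, hxb⟩⟩
      exact ⟨a ∩ b, ⟨a, ha, b, hb, rfl⟩, hxa, hxb⟩
    · rintro ⟨_, ⟨a, ha, b, hb, rfl⟩, hxa, hxb⟩
      exact ⟨⟨a, ha, hxa⟩, ⟨b, hb, hxb⟩⟩

lemma QC.compl_of_isLocallyClosed {t : Set X} (h : IsLocallyClosed t) : QC tᶜ := by
  obtain ⟨A, C, hA, hC, rfl⟩ := h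
  rw [Set.compl_inter]
  exact (QC.of_isLocallyClosed hA.isClosed_compl.isLocallyClosed).union
    (QC.of_isLocallyClosed hC.isOpen_compl.isLocallyClosed)

lemma QC.compl {A : Set X} (hA : QC A) : QC Aᶜ := by
  obtain ⟨T, hT, hT', rfl⟩ := hA
  induction T, hT using Set.Finite.induction_on with
  | empty => simpa using QC.univ
  | @insert a s _ _ ih =>
    rw [Set.sUnion_insert, Set.compl_union]
    exact (QC.compl_of_isLocallyClosed (hT' a (Set.mem_insert _ _))).inter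
      (ih fun t ht => hT' t (Set.mem_insert_of_mem _ ht))

lemma QC.diff {A B : Set X} (hA : QC A) (hB : QC B) : QC (A \ B) := by
  rw [Set.sdiff_eq]; exact hA.inter hB.compl

lemma QC.lqc {Z : Set X} (h : QC Z) : LQC Z := by
  intro x
  obtain ⟨T, hT, hT', hZ⟩ := h
  exact ⟨Set.univ, isOpen_univ, Set.mem_univ x, T, hT, hT', by simpa using hZ⟩

lemma LQC.inter_open {Z V : Set X} (h : LQC Z) (hV : IsOpen V) : LQC (V ∩ Z) := by
  intro x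
  obtain ⟨U, hU, hxU, hq⟩ := h x
  have hq' : QC (U ∩ Z) := hq
  have : QC (U ∩ (V ∩ Z)) := by
    have h1 := (QC.of_isLocallyClosed hV.isLocallyClosed).inter hq'
    have h2 : V ∩ (U ∩ Z) = U ∩ (V ∩ Z) := by ext; simp; tauto
    rwa [h2] at h1
  exact ⟨U, hU, hxU, this⟩

lemma LQC.diff {Z Z' : Set X} (h : LQC Z) (h' : LQC Z') : LQC (Z \ Z') := by
  intro x
  obtain ⟨U, hU, hxU, hq⟩ := h x
  obtain ⟨U', hU', hxU', hq'⟩ := h' x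
  have hq1 : QC (U ∩ Z) := hq
  have hq2 : QC (U' ∩ Z') := hq'
  have : QC ((U ∩ U') ∩ (Z \ Z')) := by
    have h1 := (hq1.inter (QC.of_isLocallyClosed hU'.isLocallyClosed)).diff hq2
    have h2 : ((U ∩ Z) ∩ U') \ (U' ∩ Z') = (U ∩ U') ∩ (Z \ Z') := by
      ext y; simp only [Set.mem_sdiff, Set.mem_inter_iff]; tauto
    rwa [h2] at h1
  exact ⟨U ∩ U', hU.inter hU', ⟨hxU, hxU'⟩, this⟩

variable (X₀ : Set X)

lemma imp12 (h : ∀ Z : Set X, IsLocallyClosed Z → Z.Nonempty → (Z ∩ X₀).Nonempty) :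
    ∀ Z : Set X, LQC Z → Z.Nonempty → (Z ∩ X₀).Nonempty := by
  rintro Z hZ ⟨z, hz⟩
  obtain ⟨U, -, hzU, T, -, hT, hUT⟩ := hZ z
  have hzT : z ∈ ⋃₀ T := hUT ▸ ⟨hzU, hz⟩
  obtain ⟨t, htT, hzt⟩ := hzT
  have htsub : t ⊆ U ∩ Z := hUT ▸ Set.subset_sUnion_of_mem htT
  obtain ⟨p, hpt, hp0⟩ := h t (hT t htT) ⟨z, hzt⟩
  exact ⟨p, (htsub hpt).2, hp0⟩

lemma imp23 (h : ∀ Z : Set X, LQC Z → Z.Nonempty → (Z ∩ X₀).Nonempty) :
    ∀ Z : Set X, LQC Z → Z ⊆ closure (Z ∩ X₀) := by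
  intro Z hZ z hz
  rw [mem_closure_iff]
  intro o ho hzo
  obtain ⟨p, ⟨hpo, hpZ⟩, hp0⟩ := h (o ∩ Z) (hZ.inter_open ho) ⟨z, hzo, hz⟩
  exact ⟨p, hpo, hpZ, hp0⟩

lemma imp35 (h : ∀ Z : Set X, LQC Z → Z ⊆ closure (Z ∩ X₀)) :
    ∀ Z Z' : Set X, LQC Z → LQC Z' → Z ∩ X₀ = Z' ∩ X₀ → Z = Z' := by
  have key : ∀ Z Z' : Set X, LQC Z → LQC Z' → Z ∩ X₀ = Z' ∩ X₀ → Z ⊆ Z' := by
    intro Z Z' hZ hZ' heq z hz
    by_contra hz'
    have h1 := h (Z \ Z') (hZ.diff hZ') ⟨hz, hz'⟩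
    have h2 : (Z \ Z') ∩ X₀ = ∅ := by
      ext p
      simp only [Set.mem_inter_iff, Set.mem_sdiff, Set.mem_empty_iff_false, iff_false]
      rintro ⟨⟨hpZ, hpZ'⟩, hp0⟩
      have : p ∈ Z' ∩ X₀ := heq ▸ ⟨hpZ, hp0⟩
      exact hpZ' this.1
    rw [h2, closure_empty] at h1
    exact h1
  intro Z Z' hZ hZ' heq
  exact Set.Subset.antisymm (key Z Z' hZ hZ' heq) (key Z' Z hZ' hZ heq.symm)

lemma imp54 (h : ∀ Z Z' : Set X, LQC Z → LQC Z' → Z ∩ X₀ = Z' ∩ X₀ → Z = Z') :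
    ∀ Z Z' : Set X, QC Z → QC Z' → Z ∩ X₀ = Z' ∩ X₀ → Z = Z' :=
  fun Z Z' hZ hZ' heq => h Z Z' hZ.lqc hZ'.lqc heq

lemma imp41 (h : ∀ Z Z' : Set X, QC Z → QC Z' → Z ∩ X₀ = Z' ∩ X₀ → Z = Z') :
    ∀ Z : Set X, IsLocallyClosed Z → Z.Nonempty → (Z ∩ X₀).Nonempty := by
  intro Z hZ hne
  by_contra hcon
  rw [Set.not_nonempty_iff_eq_empty] at hcon
  have := h Z ∅ (QC.of_isLocallyClosed hZ) QC.empty (by simpa using hcon)
  exact hne.ne_empty this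

/-- locally closed subsets of a subspace are traces of locally closed subsets -/
lemma exists_isLocallyClosed_preimage {t₀ : Set ↥X₀} (h : IsLocallyClosed t₀) :
    ∃ s : Set X, IsLocallyClosed s ∧ Subtype.val ⁻¹' s = t₀ := by
  obtain ⟨A₀, C₀, hA₀, hC₀, rfl⟩ := h
  obtain ⟨A, hA, rfl⟩ := isOpen_induced_iff.mp hA₀
  obtain ⟨C, hC, rfl⟩ := isClosed_induced_iff.mp hC₀
  exact ⟨A ∩ C, ⟨A, C, hA, hC, rfl⟩, rfl⟩

/-- quasi-constructible subsets of a subspace are traces of quasi-constructible subsets -/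
lemma exists_QC_preimage {W₀ : Set ↥X₀} (h : QC W₀) :
    ∃ W : Set X, QC W ∧ Subtype.val ⁻¹' W = W₀ := by
  obtain ⟨T₀, hT₀, hT₀', rfl⟩ := h
  have hex : ∀ t : Set ↥X₀, ∃ s : Set X, t ∈ T₀ → IsLocallyClosed s ∧ Subtype.val ⁻¹' s = t := by
    intro t
    by_cases ht : t ∈ T₀
    · obtain ⟨s, hs, hst⟩ := exists_isLocallyClosed_preimage X₀ (hT₀' t ht)
      exact ⟨s, fun _ => ⟨hs, hst⟩⟩
    · exact ⟨∅, fun h => absurd h ht⟩
  choose s hs using hex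
  refine ⟨⋃₀ (s '' T₀), ⟨s '' T₀, hT₀.image s, ?_, rfl⟩, ?_⟩
  · rintro _ ⟨t, ht, rfl⟩
    exact (hs t ht).1
  · ext p
    simp only [Set.mem_preimage, Set.mem_sUnion, Set.mem_image]
    constructor
    · rintro ⟨_, ⟨t, ht, rfl⟩, hp⟩
      refine ⟨t, ht, ?_⟩
      have := (hs t ht).2
      rw [← this]; exact hp
    · rintro ⟨t, ht, hp⟩
      refine ⟨s t, ⟨t, ht, rfl⟩, ?_⟩
      have := (hs t ht).2
      rw [← this] at hp; exact hp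

lemma last (ha : ∀ Z : Set X, IsLocallyClosed Z → Z.Nonempty → (Z ∩ X₀).Nonempty)
    (Z₀ : Set ↥X₀) (hZ₀ : LQC Z₀) : ∃ Z : Set X, LQC Z ∧ Subtype.val ⁻¹' Z = Z₀ := by
  have hc := imp54 X₀ (imp35 X₀ (imp23 X₀ (imp12 X₀ ha)))
  -- local data
  have hex : ∀ x₀ : ↥X₀, ∃ (U : Set X) (W : Set X), IsOpen U ∧ x₀.1 ∈ U ∧ QC W ∧
      Subtype.val ⁻¹' W = (Subtype.val ⁻¹' U : Set ↥X₀) ∩ Z₀ := by
    intro x₀
    obtain ⟨U₀, hU₀, hxU₀, hq⟩ := hZ₀ x₀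
    have hq' : QC (U₀ ∩ Z₀) := hq
    obtain ⟨U, hU, rfl⟩ := isOpen_induced_iff.mp hU₀
    obtain ⟨W, hW, hWeq⟩ := exists_QC_preimage X₀ hq'
    exact ⟨U, W, hU, hxU₀, hW, hWeq⟩
  choose U W hU hxU hW hWeq using hex
  let ZU : ↥X₀ → Set X := fun x₀ => U x₀ ∩ W x₀
  have hZUqc : ∀ x₀, QC (ZU x₀) := fun x₀ =>
    (QC.of_isLocallyClosed (hU x₀).isLocallyClosed).inter (hW x₀)
  have hZUtrace : ∀ x₀, (Subtype.val ⁻¹' ZU x₀ : Set ↥X₀) = (Subtype.val ⁻¹' U x₀) ∩ Z₀ := by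
    intro x₀
    rw [Set.preimage_inter, hWeq x₀, ← Set.inter_assoc, Set.inter_self]
  -- compatibility on overlaps
  have hA : ∀ x₀ x₁ : ↥X₀, U x₀ ∩ ZU x₁ = U x₁ ∩ ZU x₀ := by
    intro x₀ x₁
    apply hc _ _ ((QC.of_isLocallyClosed (hU x₀).isLocallyClosed).inter (hZUqc x₁))
      ((QC.of_isLocallyClosed (hU x₁).isLocallyClosed).inter (hZUqc x₀))
    have hmem : ∀ (x : ↥X₀) (q : X) (hq : q ∈ X₀), q ∈ ZU x ↔ q ∈ U x ∧ (⟨q, hq⟩ : ↥X₀) ∈ Z₀ := by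
      intro x q hq
      have := Set.ext_iff.mp (hZUtrace x) ⟨q, hq⟩
      simpa using this
    ext q
    constructor
    · rintro ⟨⟨hqU, hqZ⟩, hq0⟩
      have h1 := (hmem x₁ q hq0).mp hqZ
      exact ⟨⟨h1.1, (hmem x₀ q hq0).mpr ⟨hqU, h1.2⟩⟩, hq0⟩
    · rintro ⟨⟨hqU, hqZ⟩, hq0⟩
      have h1 := (hmem x₀ q hq0).mp hqZ
      exact ⟨⟨h1.1, (hmem x₁ q hq0).mpr ⟨hqU, h1.2⟩⟩, hq0⟩
  let Z : Set X := ⋃ x₀, ZU x₀
  have hB : ∀ x₀, U x₀ ∩ Z = ZU x₀ := by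
    intro x₀
    apply Set.Subset.antisymm
    · rintro p ⟨hpU, hpZ⟩
      obtain ⟨x₁, hp1⟩ := Set.mem_iUnion.mp hpZ
      have : p ∈ U x₁ ∩ ZU x₀ := hA x₀ x₁ ▸ ⟨hpU, hp1⟩
      exact this.2
    · intro p hp
      exact ⟨hp.1, Set.mem_iUnion.mpr ⟨x₀, hp⟩⟩
  have hC : ∀ x : X, ∃ x₀, x ∈ U x₀ := by
    intro x
    by_contra hcon
    push Not at hcon
    have hcl : IsClosed (⋃ x₀, U x₀)ᶜ := (isOpen_iUnion hU).isClosed_compl
    obtain ⟨p, hp, hp0⟩ := ha _ hcl.isLocallyClosed ⟨x, by simpa using hcon⟩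
    exact hp (Set.mem_iUnion.mpr ⟨⟨p, hp0⟩, hxU ⟨p, hp0⟩⟩)
  refine ⟨Z, ?_, ?_⟩
  · intro x
    obtain ⟨x₀, hx⟩ := hC x
    have : QC (U x₀ ∩ Z) := hB x₀ ▸ hZUqc x₀
    exact ⟨U x₀, hU x₀, hx, this⟩
  · ext p
    constructor
    · intro hp
      obtain ⟨x₁, hp1⟩ := Set.mem_iUnion.mp hp
      have : p ∈ (Subtype.val ⁻¹' ZU x₁ : Set ↥X₀) := hp1
      rw [hZUtrace] at this
      exact this.2
    · intro hp
      have : p ∈ (Subtype.val ⁻¹' ZU p : Set ↥X₀) := by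
        rw [hZUtrace]; exact ⟨hxU p, hp⟩
      exact Set.mem_iUnion.mpr ⟨p, this⟩

end helpers

/-- Conditions a), b), b′), c″), c‴) and its last assertion: given a topological space X and a subset X₀
⊆ X, the statements below are equivalent. Every locally closed subset of X that is nonempty
intersects X₀. Every nonempty locally quasi-constructible subset of X intersects X₀; here a subset
is locally quasi-constructible when each point of X has an open neighbourhood on which the subset's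
trace can be written as a union of finitely many locally closed sets. Each locally
quasi-constructible Z ⊆ X is contained in the closure of Z ∩ X₀. Any two quasi-constructible subsets
of X (unions of finitely many locally closed sets) having equal traces on X₀ coincide. Any two
locally quasi-constructible subsets of X having equal traces on X₀ coincide. Assuming these
conditions, each locally quasi-constructible subset of the subspace X₀ arises as the trace on X₀ of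
some locally quasi-constructible subset of X. -/
theorem result {X : Type u} [TopologicalSpace X] (X₀ : Set X) :
    [∀ Z : Set X, IsLocallyClosed Z → Z.Nonempty → (Z ∩ X₀).Nonempty,
      ∀ Z : Set X, (∀ x : X, ∃ U : Set X, IsOpen U ∧ x ∈ U ∧ ∃ T : Set (Set X), T.Finite ∧ (∀ t ∈ T, IsLocallyClosed t) ∧ U ∩ Z = ⋃₀ T) → Z.Nonempty → (Z ∩ X₀).Nonempty,
      ∀ Z : Set X, (∀ x : X, ∃ U : Set X, IsOpen U ∧ x ∈ U ∧ ∃ T : Set (Set X), T.Finite ∧ (∀ t ∈ T, IsLocallyClosed t) ∧ U ∩ Z = ⋃₀ T) → Z ⊆ closure (Z ∩ X₀),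
      ∀ Z Z' : Set X, (∃ T : Set (Set X), T.Finite ∧ (∀ t ∈ T, IsLocallyClosed t) ∧ Z = ⋃₀ T) → (∃ T : Set (Set X), T.Finite ∧ (∀ t ∈ T, IsLocallyClosed t) ∧ Z' = ⋃₀ T) → Z ∩ X₀ = Z' ∩ X₀ → Z = Z',
      ∀ Z Z' : Set X, (∀ x : X, ∃ U : Set X, IsOpen U ∧ x ∈ U ∧ ∃ T : Set (Set X), T.Finite ∧ (∀ t ∈ T, IsLocallyClosed t) ∧ U ∩ Z = ⋃₀ T) → (∀ x : X, ∃ U : Set X, IsOpen U ∧ x ∈ U ∧ ∃ T : Set (Set X), T.Finite ∧ (∀ t ∈ T, IsLocallyClosed t) ∧ U ∩ Z' = ⋃₀ T) → Z ∩ X₀ = Z' ∩ X₀ → Z = Z'].TFAE ∧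
    ((∀ Z : Set X, IsLocallyClosed Z → Z.Nonempty → (Z ∩ X₀).Nonempty) →
      ∀ Z₀ : Set ↥X₀, (∀ x : ↥X₀, ∃ U : Set ↥X₀, IsOpen U ∧ x ∈ U ∧ ∃ T : Set (Set ↥X₀), T.Finite ∧ (∀ t ∈ T, IsLocallyClosed t) ∧ U ∩ Z₀ = ⋃₀ T) →
        ∃ Z : Set X, (∀ x : X, ∃ U : Set X, IsOpen U ∧ x ∈ U ∧ ∃ T : Set (Set X), T.Finite ∧ (∀ t ∈ T, IsLocallyClosed t) ∧ U ∩ Z = ⋃₀ T) ∧ Subtype.val ⁻¹' Z = Z₀) := by
  refine ⟨?_, fun ha Z₀ hZ₀ => last X₀ ha Z₀ hZ₀⟩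
  tfae_have 1 → 2 := imp12 X₀
  tfae_have 2 → 3 := imp23 X₀
  tfae_have 3 → 5 := imp35 X₀
  tfae_have 5 → 4 := imp54 X₀
  tfae_have 4 → 1 := imp41 X₀
  tfae_finish

end Groth.Agent.S4903
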