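import Groth.Statements.S4904
-- import your own Groth.Agent.* helpers here

set_option autoImplicit false
universe u
open EGA43

namespace Groth.Agent.S4904

section helpers

variable {X Y : Type u} [TopologicalSpace X] [TopologicalSpace Y] (f : X → Y) (hf : Continuous f)

/-- injectivity of preimage on opens, in terms of sets -/
lemma preimage_inj_of_bij
    (hq : Function.Bijective (fun U : TopologicalSpace.Opens Y =>
      (⟨f ⁻¹' (U : Set Y), U.isOpen.preimage hf⟩ : TopologicalSpace.Opens X)))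
    {A B : Set Y} (hA : IsOpen A) (hB : IsOpen B) (h : f ⁻¹' A = f ⁻¹' B) : A = B := by
  have := hq.1 (a₁ := ⟨A, hA⟩) (a₂ := ⟨B, hB⟩) (TopologicalSpace.Opens.ext h)
  exact congrArg (fun U : TopologicalSpace.Opens Y => (U : Set Y)) this

/-- every nonempty locally closed subset meets the range -/
lemma locallyClosed_meets_range
    (hq : Function.Bijective (fun U : TopologicalSpace.Opens Y =>
      (⟨f ⁻¹' (U : Set Y), U.isOpen.preimage hf⟩ : TopologicalSpace.Opens X)))
    {Z : Set Y} (hZ : IsLocallyClosed Z) (hne : Z.Nonempty) : ∃ x, f x ∈ Z := by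
  obtain ⟨A, C, hA, hC, rfl⟩ := hZ
  by_contra hcon
  push Not at hcon
  have h1 : f ⁻¹' (A ∩ Cᶜ) = f ⁻¹' A := by
    ext x
    constructor
    · intro hx; exact hx.1
    · intro hx
      refine ⟨hx, fun hxC => hcon x ⟨hx, hxC⟩⟩
  have h2 := preimage_inj_of_bij f hf hq (hA.inter hC.isOpen_compl) hA h1
  obtain ⟨z, hzA, hzC⟩ := hne
  have : z ∈ A ∩ Cᶜ := by rw [h2]; exact hzA
  exact this.2 hzC

/-- the key separation property for traces of locally quasi-constructible sets on opens -/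
lemma subset_of_preimage_subset
    (hq : Function.Bijective (fun U : TopologicalSpace.Opens Y =>
      (⟨f ⁻¹' (U : Set Y), U.isOpen.preimage hf⟩ : TopologicalSpace.Opens X)))
    (Y' : Set Y)
    (hY' : ∀ y : Y, ∃ U : Set Y, IsOpen U ∧ y ∈ U ∧
      ∃ T : Set (Set Y), T.Finite ∧ (∀ t ∈ T, IsLocallyClosed t) ∧ U ∩ Y' = ⋃₀ T)
    {U W : Set Y} (hU : IsOpen U) (hW : IsOpen W)
    (h : f ⁻¹' (U ∩ Y') ⊆ f ⁻¹' W) : U ∩ Y' ⊆ W := by
  intro s hs
  by_contra hsW
  obtain ⟨Us, hUs, hsUs, T, -, hT, hUT⟩ := hY' s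
  have hsT : s ∈ ⋃₀ T := hUT ▸ ⟨hsUs, hs.2⟩
  obtain ⟨t, htT, hst⟩ := hsT
  have htsub : t ⊆ Us ∩ Y' := hUT ▸ Set.subset_sUnion_of_mem htT
  have hlc : IsLocallyClosed (t ∩ U ∩ Wᶜ) :=
    ((hT t htT).inter hU.isLocallyClosed).inter hW.isClosed_compl.isLocallyClosed
  obtain ⟨x, hx⟩ := locallyClosed_meets_range f hf hq hlc ⟨s, ⟨hst, hs.1⟩, hsW⟩
  exact hx.2 (h ⟨hx.1.2, (htsub hx.1.1).2⟩)

/-- compactness transfers along a quasi-homeomorphism for such traces -/
lemma isCompact_iff_preimage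
    (hq : Function.Bijective (fun U : TopologicalSpace.Opens Y =>
      (⟨f ⁻¹' (U : Set Y), U.isOpen.preimage hf⟩ : TopologicalSpace.Opens X)))
    (S : Set Y) (hS : ∀ W : Set Y, IsOpen W → f ⁻¹' S ⊆ f ⁻¹' W → S ⊆ W) :
    IsCompact S ↔ IsCompact (f ⁻¹' S) := by
  constructor
  · intro hc
    rw [isCompact_iff_finite_subcover]
    intro ι V hV hcov
    have hex : ∀ i, ∃ Ui : Set Y, IsOpen Ui ∧ f ⁻¹' Ui = V i := by
      intro i
      obtain ⟨Ui, hUi⟩ := hq.2 ⟨V i, hV i⟩
      exact ⟨Ui, Ui.isOpen, congrArg (fun U : TopologicalSpace.Opens X => (U : Set X)) hUi⟩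
    choose Uo hUo hUV using hex
    have h1 : S ⊆ ⋃ i, Uo i := by
      apply hS _ (isOpen_iUnion hUo)
      rw [Set.preimage_iUnion]
      simpa [hUV] using hcov
    obtain ⟨t, ht⟩ := hc.elim_finite_subcover Uo hUo h1
    refine ⟨t, ?_⟩
    intro x hx
    have := ht hx
    simp only [Set.mem_iUnion] at this ⊢
    obtain ⟨i, hi, hxi⟩ := this
    exact ⟨i, hi, by rw [← hUV i]; exact hxi⟩
  · intro hc
    rw [isCompact_iff_finite_subcover]
    intro ι Uo hUo hcov
    have h1 : f ⁻¹' S ⊆ ⋃ i, f ⁻¹' Uo i := by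
      rw [← Set.preimage_iUnion]; exact Set.preimage_mono hcov
    obtain ⟨t, ht⟩ := hc.elim_finite_subcover (fun i => f ⁻¹' Uo i)
      (fun i => (hUo i).preimage hf) h1
    refine ⟨t, ?_⟩
    apply hS _ (isOpen_biUnion fun i _ => hUo i)
    simpa [Set.preimage_iUnion] using ht

end helpers

/-- Let f : X → Y be a quasi-homeomorphism (U ↦ f⁻¹(U) is a bijection on open subsets) and Y' a locally
quasi-constructible subset of Y, X' = f⁻¹(Y'). Then Y' is retrocompact in Y, i.e. Y' ∩ U is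
quasi-compact for every quasi-compact open subset U of Y, if and only if X' is retrocompact in X. -/
theorem result {X Y : Type u} [TopologicalSpace X]
    [TopologicalSpace Y] (f : X → Y) (hf : Continuous f)
    (hq : Function.Bijective (fun U : TopologicalSpace.Opens Y =>
      (⟨f ⁻¹' (U : Set Y), U.isOpen.preimage hf⟩ : TopologicalSpace.Opens X)))
    (Y' : Set Y)
    (hY' : ∀ y : Y, ∃ U : Set Y, IsOpen U ∧ y ∈ U ∧
      ∃ T : Set (Set Y), T.Finite ∧ (∀ t ∈ T, IsLocallyClosed t) ∧ U ∩ Y' = ⋃₀ T) :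
    (∀ U : Set Y, IsOpen U → IsCompact U → IsCompact (U ∩ Y')) ↔
      (∀ V : Set X, IsOpen V → IsCompact V → IsCompact (V ∩ f ⁻¹' Y')) := by
  have huniv : ∀ y : Y, ∃ U : Set Y, IsOpen U ∧ y ∈ U ∧
      ∃ T : Set (Set Y), T.Finite ∧ (∀ t ∈ T, IsLocallyClosed t) ∧ U ∩ Set.univ = ⋃₀ T := by
    intro y
    exact ⟨Set.univ, isOpen_univ, Set.mem_univ y, {Set.univ}, Set.finite_singleton _,
      by simpa using isOpen_univ.isLocallyClosed, by simp⟩
  have hopen : ∀ U : Set Y, IsOpen U → (IsCompact U ↔ IsCompact (f ⁻¹' U)) := by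
    intro U hU
    apply isCompact_iff_preimage f hf hq
    intro W hW h
    have := subset_of_preimage_subset f hf hq Set.univ huniv hU hW (by simpa using h)
    simpa using this
  have htrace : ∀ U : Set Y, IsOpen U →
      (IsCompact (U ∩ Y') ↔ IsCompact (f ⁻¹' U ∩ f ⁻¹' Y')) := by
    intro U hU
    rw [← Set.preimage_inter]
    apply isCompact_iff_preimage f hf hq
    intro W hW h
    exact subset_of_preimage_subset f hf hq Y' hY' hU hW h
  constructor
  · intro h V hV hVc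
    obtain ⟨U, hUV⟩ := hq.2 ⟨V, hV⟩
    have hUV' : f ⁻¹' (U : Set Y) = V :=
      congrArg (fun U : TopologicalSpace.Opens X => (U : Set X)) hUV
    have hUc : IsCompact (U : Set Y) := (hopen U U.isOpen).mpr (hUV' ▸ hVc)
    have := (htrace U U.isOpen).mp (h U U.isOpen hUc)
    rwa [hUV'] at this
  · intro h U hU hUc
    have h1 : IsCompact (f ⁻¹' U) := (hopen U hU).mp hUc
    exact (htrace U hU).mpr (h _ (hU.preimage hf) h1)

end Groth.Agent.S4904
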