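import Groth.Statements.S4906
import Groth.Agent.Lib.RectDepth33

set_option autoImplicit false
universe u
open CategoryTheory AlgebraicGeometry
open EGA43

namespace Groth.Agent.S4906

/-- Let X be a regular biequidimensional scheme — Noetherian, with regular local rings, of finite
dimension, with all irreducible components of dimension dim X and with dim T = dim cl{y} +
codim(cl{y}, T) for every closed irreducible T and point y of T — and F a coherent O_X-module. Then
for every point x of the support of F one has prof(F_x) + dim cl{x} + proj.dim(F_x) = dim X, that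
is, the rectified depth prof*_x(F) equals dim X − proj.dim_{O_{X,x}}(F_x). -/
theorem result (X : Scheme.{u}) [IsNoetherian X]
    (hreg : ∀ x : X, IsRegularLocalRing ↑(X.presheaf.stalk x))
    (hfin : topologicalKrullDim X < ⊤)
    (hcomp : ∀ C ∈ irreducibleComponents (X : Type u), topologicalKrullDim ↥C = topologicalKrullDim X)
    (hchain : ∀ (y : X) (T : Set X), IsClosed T → IsIrreducible T → y ∈ T →
      topologicalKrullDim ↥T = topologicalKrullDim ↥(closure ({y} : Set X)) + topologicalKrullDim ↥{t : X | t ∈ T ∧ t ⤳ y})
    (F : X.Modules) (hF : Coh.IsCoh F) (x : X) (hx : x ∈ CohB1.support F) :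
    ((LocCoh.depth ↑(X.presheaf.stalk x) ↑(F.presheaf.stalk x) : ℕ∞) : WithBot ℕ∞) +
        topologicalKrullDim ↥(closure ({x} : Set X)) +
        projectiveDimension (ModuleCat.of ↑(X.presheaf.stalk x) ↑(F.presheaf.stalk x)) =
      topologicalKrullDim X := by
  have hR : IsRegularLocalRing ↑(X.presheaf.stalk x) := hreg x
  have hfin' : Module.Finite ↑(X.presheaf.stalk x) ↑(F.presheaf.stalk x) :=
    Groth.Agent.Lib.CohFinite.finite_stalk_of_isCoh F hF x
  have hnt : Nontrivial ↑(F.presheaf.stalk x) := not_subsingleton_iff_nontrivial.mp hx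
  have hdom : IsDomain ↑(X.presheaf.stalk x) := Groth.Agent.Lib.RegularLocal.isDomain _
  have hAB := Groth.Agent.Lib.RectDepth33.depth_add_projectiveDimension
    ↑(X.presheaf.stalk x) ↑(F.presheaf.stalk x)
  have hdim := Groth.Agent.Lib.RectDepth33.dim_closure_add_dim_stalk X x hcomp hchain
  rw [← hdim, ← hAB]
  abel

end Groth.Agent.S4906
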