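import Groth.Statements.S4907
import Groth.Agent.Lib.RectDepth33b

set_option autoImplicit false
universe u
open CategoryTheory AlgebraicGeometry
open EGA43

namespace Groth.Agent.S4907

/-- Let X be a regular biequidimensional scheme (Noetherian, regular local rings, finite dimension, all
irreducible components of dimension dim X, and dim T = dim cl{y} + codim(cl{y}, T) for every closed
irreducible T and point y of T) and F a coherent O_X-module. Then the rectified depth x ↦ prof(F_x)
+ dim cl{x} is lower semicontinuous: for every integer n the set of x with prof(F_x) + dim cl{x} ≥ n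
is open. -/
theorem result (X : Scheme.{u}) [IsNoetherian X]
    (hreg : ∀ x : X, IsRegularLocalRing ↑(X.presheaf.stalk x))
    (hfin : topologicalKrullDim X < ⊤)
    (hcomp : ∀ C ∈ irreducibleComponents (X : Type u), topologicalKrullDim ↥C = topologicalKrullDim X)
    (hchain : ∀ (y : X) (T : Set X), IsClosed T → IsIrreducible T → y ∈ T →
      topologicalKrullDim ↥T = topologicalKrullDim ↥(closure ({y} : Set X)) + topologicalKrullDim ↥{t : X | t ∈ T ∧ t ⤳ y})
    (F : X.Modules) (hF : Coh.IsCoh F) (n : ℕ) :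
    IsOpen {x : X | (n : WithBot ℕ∞) ≤
      ((LocCoh.depth ↑(X.presheaf.stalk x) ↑(F.presheaf.stalk x) : ℕ∞) : WithBot ℕ∞) +
        topologicalKrullDim ↥(closure ({x} : Set X))} := by
  rcases isEmpty_or_nonempty X with hX | hX
  · rw [Set.eq_empty_of_isEmpty {x : X | (n : WithBot ℕ∞) ≤
      ((LocCoh.depth ↑(X.presheaf.stalk x) ↑(F.presheaf.stalk x) : ℕ∞) : WithBot ℕ∞) +
        topologicalKrullDim ↥(closure ({x} : Set X))}]
    exact isOpen_empty
  have hXN : IsLocallyNoetherian X := inferInstance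
  have hdom : ∀ x : X, IsDomain ↑(X.presheaf.stalk x) := fun x =>
    have := hreg x
    Groth.Agent.Lib.RegularLocal.isDomain _
  have hdim : ∀ x : X, topologicalKrullDim ↥(closure ({x} : Set X)) +
      ringKrullDim ↑(X.presheaf.stalk x) = topologicalKrullDim X := fun x =>
    have := hdom x
    Groth.Agent.Lib.RectDepth33.dim_closure_add_dim_stalk X x hcomp hchain
  -- the dimension of `X` is a natural number
  obtain ⟨x₀⟩ := hX
  have hD : ∃ D₀ : ℕ, topologicalKrullDim X = D₀ := by
    have h0 := hdim x₀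
    have := hreg x₀
    obtain ⟨d, hd⟩ := Groth.Agent.Lib.CMFlat33.exists_nat_ringKrullDim ↑(X.presheaf.stalk x₀)
    have hc0 : (0 : WithBot ℕ∞) ≤ topologicalKrullDim ↥(closure ({x₀} : Set X)) := by
      have : Nonempty (TopologicalSpace.IrreducibleCloseds ↥(closure ({x₀} : Set X))) :=
        ⟨{ carrier := closure {(⟨x₀, subset_closure rfl⟩ : ↥(closure ({x₀} : Set X)))}
           isIrreducible' := isIrreducible_singleton.closure
           isClosed' := isClosed_closure }⟩
      exact Order.krullDim_nonneg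
    have hge : (0 : WithBot ℕ∞) ≤ topologicalKrullDim X := by
      rw [← h0, hd]
      exact add_nonneg hc0 (by exact_mod_cast Nat.zero_le d)
    cases hv : topologicalKrullDim X with
    | bot => rw [hv] at hge; simp at hge
    | coe v =>
      rw [hv] at hfin
      have hv' : v ≠ ⊤ := by
        rintro rfl
        exact lt_irrefl _ hfin
      obtain ⟨D₀, rfl⟩ := ENat.ne_top_iff_exists.mp hv'
      exact ⟨D₀, rfl⟩
  obtain ⟨D₀, hD₀⟩ := hD
  obtain ⟨k, hk⟩ : ∃ k : ℕ, k = D₀ + 1 - n := ⟨_, rfl⟩
  convert Groth.Agent.Lib.RectDepth33.isOpen_setOf_dim_stalk_lt_depth_add X hreg F hF k using 1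
  ext x
  simp only [Set.mem_ofPred_eq]
  have := hreg x
  obtain ⟨d, hd⟩ := Groth.Agent.Lib.CMFlat33.exists_nat_ringKrullDim ↑(X.presheaf.stalk x)
  have h0 := hdim x
  rw [hd, hD₀] at h0
  -- `dim cl{x}` is a natural number `c₀` with `c₀ + d = D₀`
  obtain ⟨c₀, hc₀, hcd⟩ : ∃ c₀ : ℕ, topologicalKrullDim ↥(closure ({x} : Set X)) = c₀ ∧
      c₀ + d = D₀ := by
    cases hc : topologicalKrullDim ↥(closure ({x} : Set X)) with
    | bot => rw [hc] at h0; simp at h0
    | coe c =>
      rw [hc] at h0
      have hc' : c ≠ ⊤ := by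
        rintro rfl
        have : ((⊤ : ℕ∞) : WithBot ℕ∞) + (d : WithBot ℕ∞) = ((⊤ : ℕ∞) : WithBot ℕ∞) := by
          rw [show (d : WithBot ℕ∞) = ((d : ℕ∞) : WithBot ℕ∞) from rfl, ← WithBot.coe_add,
            top_add]
        rw [this] at h0
        rw [show (D₀ : WithBot ℕ∞) = ((D₀ : ℕ∞) : WithBot ℕ∞) from rfl] at h0
        exact ENat.top_ne_natCast D₀ (WithBot.coe_inj.mp h0)
      obtain ⟨c₀, rfl⟩ := ENat.ne_top_iff_exists.mp hc'
      refine ⟨c₀, rfl, ?_⟩
      exact_mod_cast h0
  rw [hd, hc₀]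
  have hfinF : Module.Finite ↑(X.presheaf.stalk x) ↑(F.presheaf.stalk x) :=
    Groth.Agent.Lib.CohFinite.finite_stalk_of_isCoh F hF x
  rcases eq_or_ne (LocCoh.depth ↑(X.presheaf.stalk x) ↑(F.presheaf.stalk x)) ⊤ with htop | htop
  · rw [htop]
    have h1 : ∀ m : ℕ, ((⊤ : ℕ∞) : WithBot ℕ∞) + (m : WithBot ℕ∞) = ((⊤ : ℕ∞) : WithBot ℕ∞) := by
      intro m
      rw [show (m : WithBot ℕ∞) = ((m : ℕ∞) : WithBot ℕ∞) from rfl, ← WithBot.coe_add, top_add]
    rw [h1, h1]
    constructor
    · intro _
      exact WithBot.coe_lt_coe.mpr (ENat.natCast_lt_top d)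
    · intro _
      exact WithBot.coe_le_coe.mpr le_top
  · obtain ⟨δ, hδ⟩ := ENat.ne_top_iff_exists.mp htop
    have hnt : Nontrivial ↑(F.presheaf.stalk x) := by
      by_contra hcon
      rw [not_nontrivial_iff_subsingleton] at hcon
      exact htop (Groth.Agent.Lib.DepthFlat33.depth_eq_top_of_subsingleton _)
    have hle := Groth.Agent.Lib.DepthRees.depth_le_supportDim
      (R := ↑(X.presheaf.stalk x)) ↑(F.presheaf.stalk x)
    have hle2 := hle.trans (Module.supportDim_le_ringKrullDim _ _)
    rw [hd, ← hδ] at hle2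
    have hδd : δ ≤ d := by exact_mod_cast hle2
    rw [← hδ]
    constructor
    · intro h
      have h' : n ≤ δ + c₀ := by exact_mod_cast h
      have : d < δ + k := by omega
      exact_mod_cast this
    · intro h
      have h' : d < δ + k := by exact_mod_cast h
      have : n ≤ δ + c₀ := by omega
      exact_mod_cast this

end Groth.Agent.S4907
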