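import Groth.Statements.S4908
import Groth.Agent.Lib.H72Separating

set_option autoImplicit false
universe u
open CategoryTheory AlgebraicGeometry
open EGA43

namespace Groth.Agent.S4908

/-- Case Z_λ = X: let X be a scheme, u_i : F ⟶ G_i a family of homomorphisms of quasi-coherent
O_X-modules and g : X' ⟶ X a faithfully flat morphism. If the family (g^*u_i : g^*F ⟶ g^*G_i) is
separating — a section of g^*F over an open subset killed by every g^*u_i is zero — then the family
(u_i) is separating. (The published statement allows homomorphisms into direct images (f_λ)_*G_λ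
along morphisms f_λ : Z_λ ⟶ X; this row is the case Z_λ = X, to which the general case reduces.) -/
theorem result {X X' : Scheme.{u}} (F : X.Modules) [Coh.IsQCoh F] {ι : Type u}
    (G : ι → X.Modules) [∀ i, Coh.IsQCoh (G i)] (u : ∀ i, F ⟶ G i) (g : X' ⟶ X) [Flat g] [Surjective g]
    (h : (∀ (V : (X').Opens) (t : ↑(((Scheme.Modules.pullback g).obj F).presheaf.obj (Opposite.op V))), (∀ i, (Scheme.Modules.Hom.mapPresheaf ((Scheme.Modules.pullback g).map (u i))).app (Opposite.op V) t = 0) → t = 0)) :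
    (∀ (V : (X).Opens) (t : ↑((F).presheaf.obj (Opposite.op V))), (∀ i, (Scheme.Modules.Hom.mapPresheaf (u i)).app (Opposite.op V) t = 0) → t = 0) := by
  haveI : F.IsQuasicoherent := ‹Coh.IsQCoh F›
  haveI : ∀ i, (G i).IsQuasicoherent := fun i => ‹∀ i, Coh.IsQCoh (G i)› i
  intro V t ht
  refine TopCat.Presheaf.section_ext
    ((Groth.Agent.Lib.ModStalk.toSheafAb X).obj F) V _ _ (fun x hx => ?_)
  obtain ⟨x', rfl⟩ := ‹AlgebraicGeometry.Surjective g›.surj x
  -- affine charts
  obtain ⟨U, hU, hxU, hUV⟩ : ∃ U : X.Opens, AlgebraicGeometry.IsAffineOpen U ∧ g x' ∈ U ∧ U ≤ V := by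
    obtain ⟨_, ⟨U, hU, rfl⟩, hxU, hUV⟩ :=
      X.isBasis_affineOpens.exists_subset_of_mem_open hx V.isOpen
    exact ⟨U, hU, hxU, hUV⟩
  obtain ⟨U', hU', hxU', hU'U⟩ : ∃ U' : X'.Opens, AlgebraicGeometry.IsAffineOpen U' ∧ x' ∈ U' ∧
      U' ≤ g ⁻¹ᵁ U := by
    obtain ⟨_, ⟨U', hU', rfl⟩, hxU', hU'U⟩ :=
      X'.isBasis_affineOpens.exists_subset_of_mem_open (show x' ∈ (g ⁻¹ᵁ U : Set X') from hxU)
        (g ⁻¹ᵁ U).isOpen
    exact ⟨U', hU', hxU', hU'U⟩
  let m : Γ(F, U) := F.presheaf.map (CategoryTheory.homOfLE hUV).op t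
  have hθ : Groth.Agent.Lib.H72PullbackNat.thetaFun g F hU' hU hU'U m = 0 := by
    refine h U' _ (fun i => ?_)
    rw [AlgebraicGeometry.Scheme.Modules.mapPresheaf_app]
    change ((AlgebraicGeometry.Scheme.Modules.pullback g).map (u i)).app U'
      (Groth.Agent.Lib.H72PullbackNat.thetaFun g F hU' hU hU'U m) = 0
    rw [← Groth.Agent.Lib.H72PullbackNat.thetaFun_naturality g (u i) hU' hU hU'U m]
    have h1 : (u i).app U m = 0 := by
      have hnat := (AlgebraicGeometry.Scheme.Modules.Hom.mapPresheaf (u i)).naturality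
        (CategoryTheory.homOfLE hUV).op
      have h2 := congrArg (fun φ => φ.hom t) hnat
      have h3 := ht i
      rw [AlgebraicGeometry.Scheme.Modules.mapPresheaf_app] at h3
      change (u i).app U (F.presheaf.map (CategoryTheory.homOfLE hUV).op t) =
        (G i).presheaf.map (CategoryTheory.homOfLE hUV).op ((u i).app V t) at h2
      change (u i).app V t = 0 at h3
      rw [h3, map_zero] at h2
      exact h2
    rw [h1]
    exact Groth.Agent.Lib.H72Separating.thetaFun_zero g (G i) hU' hU hU'U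
  have hgerm := Groth.Agent.Lib.H72Separating.germ_eq_zero_of_thetaFun_eq_zero g F x'
    (AlgebraicGeometry.Flat.stalkMap g x') hU' hU hU'U hxU' m hθ
  have hres : F.presheaf.germ U (g x') hxU m = F.presheaf.germ V (g x') hx t :=
    TopCat.Presheaf.germ_res_apply F.presheaf (CategoryTheory.homOfLE hUV) (g x') hxU t
  change F.presheaf.germ V (g x') hx t = F.presheaf.germ V (g x') hx 0
  rw [← hres, hgerm, map_zero]

end Groth.Agent.S4908
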