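import Groth.Statements.S4912
import Groth.Agent.Lib.H72SeparatingArt
import Groth.Agent.Lib.DimZeroTop

set_option autoImplicit false
universe u
open CategoryTheory AlgebraicGeometry
open EGA43

namespace Groth.Agent.S4912

/-- Case Z_λ = X: let X be an Artinian scheme (Noetherian of dimension ≤ 0), u_i : F ⟶ G_i a separating
family of homomorphisms of quasi-coherent O_X-modules (a section of F over an open subset killed by
every u_i is zero) and g : X' ⟶ X a flat morphism; for instance X the spectrum of a field and g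
arbitrary. Then the family (g^*u_i) on X' is separating. (The published statement allows
homomorphisms into direct images (f_λ)_*G_λ; this row is the case Z_λ = X, to which the general case
reduces.) -/
theorem result {X X' : Scheme.{u}} [IsNoetherian X]
    (hX : topologicalKrullDim X ≤ 0) (F : X.Modules) [Coh.IsQCoh F] {ι : Type u}
    (G : ι → X.Modules) [∀ i, Coh.IsQCoh (G i)] (u : ∀ i, F ⟶ G i) (g : X' ⟶ X) [Flat g]
    (h : (∀ (V : (X).Opens) (t : ↑((F).presheaf.obj (Opposite.op V))), (∀ i, (Scheme.Modules.Hom.mapPresheaf (u i)).app (Opposite.op V) t = 0) → t = 0)) :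
    (∀ (V : (X').Opens) (t : ↑(((Scheme.Modules.pullback g).obj F).presheaf.obj (Opposite.op V))), (∀ i, (Scheme.Modules.Hom.mapPresheaf ((Scheme.Modules.pullback g).map (u i))).app (Opposite.op V) t = 0) → t = 0) := by
  haveI : F.IsQuasicoherent := ‹Coh.IsQCoh F›
  haveI : ∀ i, (G i).IsQuasicoherent := fun i => ‹∀ i, Coh.IsQCoh (G i)› i
  intro V t ht
  refine TopCat.Presheaf.section_ext
    ((Groth.Agent.Lib.ModStalk.toSheafAb X').obj ((Scheme.Modules.pullback g).obj F)) V _ _
    (fun z hz => ?_)
  -- affine charts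
  obtain ⟨U, hU, hzU⟩ : ∃ U : X.Opens, AlgebraicGeometry.IsAffineOpen U ∧ g z ∈ U := by
    obtain ⟨_, ⟨U, hU, rfl⟩, hxU, -⟩ :=
      X.isBasis_affineOpens.exists_subset_of_mem_open (Set.mem_univ (g z)) isOpen_univ
    exact ⟨U, hU, hxU⟩
  obtain ⟨U', hU', hzU', hU'le⟩ : ∃ U' : X'.Opens, AlgebraicGeometry.IsAffineOpen U' ∧ z ∈ U' ∧
      U' ≤ g ⁻¹ᵁ U ⊓ V := by
    obtain ⟨_, ⟨U', hU', rfl⟩, hxU', hU'U⟩ :=
      X'.isBasis_affineOpens.exists_subset_of_mem_open
        (show z ∈ ((g ⁻¹ᵁ U ⊓ V : X'.Opens) : Set X') from ⟨hzU, hz⟩) (g ⁻¹ᵁ U ⊓ V).isOpen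
    exact ⟨U', hU', hxU', hU'U⟩
  have hU'U : U' ≤ g ⁻¹ᵁ U := hU'le.trans inf_le_left
  have hU'V : U' ≤ V := hU'le.trans inf_le_right
  -- the restriction of `t` to `U'` vanishes
  have key : ((Scheme.Modules.pullback g).obj F).presheaf.map (CategoryTheory.homOfLE hU'V).op t
      = 0 := by
    letI : Algebra Γ(X, U) Γ(X', U') := (g.appLE U U' hU'U).hom.toAlgebra
    letI : Module Γ(X, U) Γ((Scheme.Modules.pullback g).obj F, U') :=
      Module.compHom _ (g.appLE U U' hU'U).hom
    letI : ∀ i, Module Γ(X, U) Γ((Scheme.Modules.pullback g).obj (G i), U') :=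
      fun i => Module.compHom _ (g.appLE U U' hU'U).hom
    haveI : IsScalarTower Γ(X, U) Γ(X', U') Γ((Scheme.Modules.pullback g).obj F, U') :=
      .of_algebraMap_smul fun _ _ => rfl
    haveI : ∀ i, IsScalarTower Γ(X, U) Γ(X', U') Γ((Scheme.Modules.pullback g).obj (G i), U') :=
      fun i => .of_algebraMap_smul fun _ _ => rfl
    haveI : Module.Flat Γ(X, U) Γ(X', U') :=
      AlgebraicGeometry.HasRingHomProperty.appLE (P := @AlgebraicGeometry.Flat) g ‹_›
        ⟨U, hU⟩ ⟨U', hU'⟩ hU'U
    haveI : IsNoetherianRing Γ(X, U) :=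
      AlgebraicGeometry.IsLocallyNoetherian.component_noetherian ⟨U, hU⟩
    haveI : Ring.KrullDimLE 0 Γ(X, U) :=
      Groth.Agent.Lib.DimZeroTop.krullDimLE_zero_of_isAffineOpen hX hU
    haveI : IsArtinianRing Γ(X, U) := IsNoetherianRing.isArtinianRing_of_krullDimLE_zero
    obtain ⟨θ, hθ, hθm⟩ :=
      Groth.Agent.Lib.H72PullbackNat.exists_isBaseChange_sections' g F hU' hU hU'U
    choose θi hθi hθim using fun i =>
      Groth.Agent.Lib.H72PullbackNat.exists_isBaseChange_sections' g (G i) hU' hU hU'U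
    refine Groth.Agent.Lib.H72SeparatingArt.jointly_injective_of_isBaseChange_of_isArtinianRing
      θ hθ θi hθi
      (fun i => (Groth.Agent.Lib.H72PullbackNat.secModMap (u i) U).hom)
      (fun i => (Groth.Agent.Lib.H72PullbackNat.secModMap
        ((Scheme.Modules.pullback g).map (u i)) U').hom)
      (fun i m => ?_) (fun m hm => ?_) _ (fun i => ?_)
    · rw [hθim, hθm, Groth.Agent.Lib.H72PullbackNat.secModMap_apply,
        Groth.Agent.Lib.H72PullbackNat.secModMap_apply]
      exact Groth.Agent.Lib.H72PullbackNat.thetaFun_naturality g (u i) hU' hU hU'U m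
    · refine h U m (fun i => ?_)
      rw [AlgebraicGeometry.Scheme.Modules.mapPresheaf_app]
      exact hm i
    · rw [Groth.Agent.Lib.H72PullbackNat.secModMap_apply]
      have hnat := (AlgebraicGeometry.Scheme.Modules.Hom.mapPresheaf
        ((Scheme.Modules.pullback g).map (u i))).naturality (CategoryTheory.homOfLE hU'V).op
      have h2 := congrArg (fun φ => φ.hom t) hnat
      have h3 := ht i
      rw [AlgebraicGeometry.Scheme.Modules.mapPresheaf_app] at h3
      change ((Scheme.Modules.pullback g).map (u i)).app U'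
          (((Scheme.Modules.pullback g).obj F).presheaf.map (CategoryTheory.homOfLE hU'V).op t) =
        ((Scheme.Modules.pullback g).obj (G i)).presheaf.map (CategoryTheory.homOfLE hU'V).op
          (((Scheme.Modules.pullback g).map (u i)).app V t) at h2
      change ((Scheme.Modules.pullback g).map (u i)).app V t = 0 at h3
      rw [h3, map_zero] at h2
      exact h2
  have h7 := TopCat.Presheaf.germ_res_apply ((Scheme.Modules.pullback g).obj F).presheaf
    (CategoryTheory.homOfLE hU'V) z hzU' t
  change ((Scheme.Modules.pullback g).obj F).presheaf.germ V z hz t =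
    ((Scheme.Modules.pullback g).obj F).presheaf.germ V z hz 0
  rw [← h7, key, map_zero, map_zero]

end Groth.Agent.S4912
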