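import Groth.Statements.S4914
-- import your own Groth.Agent.* helpers here

set_option autoImplicit false
open CategoryTheory AlgebraicGeometry
universe u v w
open EGA43

namespace Groth.Agent.S4914

/-- Let ψ : X → Y be a continuous map, x a point of X, and (Y_i) a locally finite covering of Y by
closed subsets. If for every index i with ψ x ∈ Y_i the restriction ψ⁻¹(Y_i) → Y_i of ψ is open at
x, then ψ is open at x. -/
theorem result {α : Type u} {β : Type v} {ι : Type w} [TopologicalSpace α]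
    [TopologicalSpace β] (ψ : α → β) (hψ : Continuous ψ) (x : α) (Y : ι → Set β) (hY : LocallyFinite Y)
    (hcl : ∀ i, IsClosed (Y i)) (hcov : ⋃ i, Y i = Set.univ)
    (h : ∀ i, ∀ hi : ψ x ∈ Y i, EGA43.IsOpenAt ((Y i).restrictPreimage ψ) ⟨x, hi⟩) :
    EGA43.IsOpenAt ψ x := by
  classical
  intro U hU
  obtain ⟨W, hW, hWfin⟩ := hY (ψ x)
  -- indices meeting W, split by whether they contain ψ x
  set J := {i | (Y i ∩ W).Nonempty} with hJ
  let J0 := {i ∈ J | ψ x ∉ Y i}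
  let J1 := {i ∈ J | ψ x ∈ Y i}
  have hJ0fin : J0.Finite := hWfin.subset (fun i hi => hi.1)
  have hJ1fin : J1.Finite := hWfin.subset (fun i hi => hi.1)
  -- neighbourhoods coming from the hypothesis
  have hN : ∀ i ∈ J1, ∃ N ∈ nhds (ψ x), N ∩ Y i ⊆ ψ '' U := by
    intro i hi
    have h1 := h i hi.2 (Subtype.val ⁻¹' U) (continuous_subtype_val.continuousAt hU)
    rw [mem_nhds_subtype] at h1
    obtain ⟨N, hN, hNsub⟩ := h1
    refine ⟨N, hN, ?_⟩
    rintro z ⟨hzN, hzY⟩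
    obtain ⟨⟨u, hu⟩, huU, huz⟩ := hNsub (show (⟨z, hzY⟩ : Y i) ∈ Subtype.val ⁻¹' N from hzN)
    exact ⟨u, huU, congrArg Subtype.val huz⟩
  choose! N hNn hNsub using hN
  have hA : (⋂ i ∈ J1, N i) ∈ nhds (ψ x) := (Filter.biInter_mem hJ1fin).mpr hNn
  have hB : (⋂ i ∈ J0, (Y i)ᶜ) ∈ nhds (ψ x) :=
    (Filter.biInter_mem hJ0fin).mpr fun i hi => (hcl i).isOpen_compl.mem_nhds hi.2
  refine Filter.mem_of_superset (Filter.inter_mem hW (Filter.inter_mem hA hB)) ?_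
  rintro z ⟨hzW, hzA, hzB⟩
  have hzcov : z ∈ ⋃ i, Y i := hcov ▸ Set.mem_univ z
  obtain ⟨i, hzi⟩ := Set.mem_iUnion.mp hzcov
  have hiJ : i ∈ J := ⟨z, hzi, hzW⟩
  by_cases hxi : ψ x ∈ Y i
  · exact hNsub i ⟨hiJ, hxi⟩ ⟨Set.mem_iInter₂.mp hzA i ⟨hiJ, hxi⟩, hzi⟩
  · exact absurd hzi (Set.mem_iInter₂.mp hzB i ⟨hiJ, hxi⟩)

end Groth.Agent.S4914
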