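import Groth.Statements.S4917
import Groth.Agent.Lib.H30EquidimAt
import Groth.Agent.Lib.H56OpenDimSch2
import Groth.Agent.Lib.FibreDimStrata

set_option autoImplicit false
open CategoryTheory AlgebraicGeometry
universe u v w
open EGA43

namespace Groth.Agent.S4917

open Groth.Agent.Lib.H30GenFib Groth.Agent.Lib.H30DimRel Groth.Agent.Lib.H30IrrFib
  Groth.Agent.Lib.H30EquidimAt

/-- Upper bound: if `f` is open at the maximal points of the fibre through `x` generizing `x`,
then the local fibre dimension at `x` is at most the relative transcendence degree at some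
generization lying over any prescribed generization of `f x`. -/
theorem fibreDimAt_le_of_isOpenAt {X Y : Scheme.{u}} [IsLocallyNoetherian Y]
    (f : X ⟶ Y) [LocallyOfFiniteType f] (x : X)
    (h : ∀ w : X, f w = f x → w ⤳ x → (∀ w' : X, f w' = f x → w' ⤳ w → w' = w) →
      EGA43.IsOpenAt f.base w) (y' : Y) (hy' : y' ⤳ f x) :
    ∃ ξ : X, ξ ⤳ x ∧ f ξ = y' ∧ FlatMor.fibreDimAt f x ≤ ((rt f ξ : ℕ) : WithBot ℕ∞) := by
  obtain ⟨w, hfw, hwx, hwmax, hrt⟩ := exists_rt_eq_fibreDimAt f x
  have hopen := h w hfw hwx hwmax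
  obtain ⟨ξ, hξw, hfξ, htr⟩ :=
    Groth.Agent.Lib.H56OpenDim.exists_generization_trdeg_le f w hopen y' (by rw [hfw]; exact hy')
  refine ⟨ξ, hξw.trans hwx, hfξ, ?_⟩
  rw [← hrt]
  rw [trdeg_eq_rt f w, trdeg_eq_rt f ξ] at htr
  exact_mod_cast htr

/-- Translate the hypothesis on the fibre scheme into a hypothesis on points of `X`. -/
theorem isOpenAt_of_fibre_hyp {X Y : Scheme.{u}} (f : X ⟶ Y) (x : X)
    (h : ∀ z : ↥(f.fiber (f.base x)), f.asFiber x ∈ closure {z} →
      (∀ z' : ↥(f.fiber (f.base x)), z ∈ closure {z'} → z' = z) →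
      EGA43.IsOpenAt f.base ((f.fiberι (f.base x)).base z))
    (w : X) (hfw : f w = f x) (hwx : w ⤳ x)
    (hwmax : ∀ w' : X, f w' = f x → w' ⤳ w → w' = w) : EGA43.IsOpenAt f.base w := by
  obtain ⟨z, hz⟩ : w ∈ Set.range (f.fiberι (f x)) := by
    rw [f.range_fiberι]; exact hfw
  have hemb := (f.fiberι (f x)).isEmbedding
  have h1 : z ⤳ f.asFiber x := by
    apply hemb.isInducing.specializes_iff.mp
    rw [hz, f.fiberι_asFiber]
    exact hwx
  have h2 : ∀ z' : ↥(f.fiber (f.base x)), z ∈ closure {z'} → z' = z := by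
    intro z' hz'
    have hsp : z' ⤳ z := specializes_iff_mem_closure.mpr hz'
    have hsp' : f.fiberι (f x) z' ⤳ w := by
      have := hsp.map (f.fiberι (f x)).continuous
      rwa [hz] at this
    have hfz' : f (f.fiberι (f x) z') = f x := by
      have : f.fiberι (f x) z' ∈ Set.range (f.fiberι (f x)) := ⟨z', rfl⟩
      rw [f.range_fiberι (f x)] at this
      exact this
    have := hwmax _ hfz' hsp'
    exact hemb.injective (this.trans hz.symm)
  have := h z (specializes_iff_mem_closure.mp h1) h2
  rw [← hz]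
  exact this


/-- Assume Y is a locally Noetherian scheme and X is an irreducible scheme, and consider a dominant
morphism f : X ⟶ Y that is locally of finite type. Fix a point x of X and write y = f x. If, for
every irreducible component of the fibre X_y that contains x, the morphism f is open at the generic
point of that component, then f is equidimensional at x. -/
theorem result {X Y : Scheme.{u}} [IsLocallyNoetherian Y]
    [IrreducibleSpace X] (f : X ⟶ Y) [LocallyOfFiniteType f] [IsDominant f] (x : X)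
    (h : ∀ z : ↥(f.fiber (f.base x)), f.asFiber x ∈ closure {z} →
      (∀ z' : ↥(f.fiber (f.base x)), z ∈ closure {z'} → z' = z) →
      EGA43.IsOpenAt f.base ((f.fiberι (f.base x)).base z)) :
    EGA43.IsEquidimAt f x := by
  have hh := isOpenAt_of_fibre_hyp f x h
  set ξ₀ := genericPoint X with hξ₀
  have hξ₀max : IsMaxPt ξ₀ := fun ξ hξ => (hξ.antisymm (genericPoint_specializes ξ)).eq
  -- `f ξ₀` is a maximal point of `Y`
  have hdense : closure ({f ξ₀} : Set Y) = Set.univ := by
    have h1 : closure (f '' closure ({ξ₀} : Set X)) = closure (f '' {ξ₀}) :=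
      closure_image_closure f.continuous
    rw [(genericPoint_spec X).def, Set.image_univ, Set.image_singleton] at h1
    rw [← h1]
    exact f.denseRange.closure_range
  have hfξ₀max : IsMaxPt (f ξ₀) := by
    intro η hη
    have : f ξ₀ ⤳ η := by
      rw [specializes_iff_mem_closure, hdense]; trivial
    exact (hη.antisymm this).eq
  rw [isEquidimAt_iff]
  refine ⟨rt f ξ₀, ⟨{z | FlatMor.fibreDimAt f z ≤ ((rt f ξ₀ : ℕ) : WithBot ℕ∞)},
    Groth.Agent.S0402.result f _⟩, ?_, ?_, ?_⟩
  · -- `x` lies in the open set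
    obtain ⟨ξ, hξx, hfξ, hle⟩ := fibreDimAt_le_of_isOpenAt f x hh (f ξ₀)
      ((genericPoint_specializes x).map f.continuous)
    show FlatMor.fibreDimAt f x ≤ _
    refine hle.trans ?_
    -- `rt f ξ ≤ rt f ξ₀`
    obtain ⟨w', hfw', hw'ξ, hw'max, hrt'⟩ := exists_rt_eq_fibreDimAt f ξ
    have hw' : ξ₀ = w' := hw'max ξ₀ (hfξ.symm ▸ rfl) (genericPoint_specializes w')
    rw [← hw'] at hrt'
    rw [hrt']
    exact Groth.Agent.Lib.FibreDimStrata.rt_le_fibreDimAt f ξ
  · intro ζ _ hζmax
    have : ζ = ξ₀ := (hζmax ξ₀ (genericPoint_specializes ζ)).symm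
    subst this
    exact ⟨hfξ₀max, (genericPoint_specializes x).map f.continuous⟩
  · intro z hz
    exact le_antisymm hz (Groth.Agent.Lib.H30IrrFib.rt_le_fibreDimAt f z)

end Groth.Agent.S4917
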