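import Groth.Statements.S4919
import Mathlib
import Groth.Agent.Lib.H56OpenComp2

set_option autoImplicit false
open CategoryTheory AlgebraicGeometry
universe u v w
open EGA43

namespace Groth.Agent.S4919

/-- Let Y be an irreducible locally Noetherian scheme with generic point η, f : X ⟶ Y a morphism locally
of finite type, y a point of Y and Z an irreducible component of the fibre f⁻¹(y) (a maximal
irreducible subset of f⁻¹(y), with the topology induced from X) such that f is open at the generic
point ζ of Z. Then there is an irreducible component X' of X containing Z and dominating Y such that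
the local dimension of X' ∩ f⁻¹(y) at ζ equals dim Z, and dim Z = dim (X' ∩ f⁻¹(η)). (The published
statement writes the middle term as the dimension of the whole of X' ∩ f⁻¹(y); its proof yields only
the local dimension at the generic point of Z, and the global equality can fail: for the
endomorphism (a, b) ↦ (ab, b² − b) of the affine plane over a field, the fibre over the origin is
the line b = 0 together with the isolated point (0, 1), at which the map is étale, hence open; with
Z that point, X' is the whole plane, X' ∩ f⁻¹(y) has dimension 1 and dim Z = 0. So the local form is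
stated here.) -/
theorem result {X Y : Scheme.{u}} [IrreducibleSpace Y]
    [IsLocallyNoetherian Y] (f : X ⟶ Y) [LocallyOfFiniteType f] (y : Y) (Z : Set X)
    (hZy : Z ⊆ f.base ⁻¹' {y}) (hZ : IsIrreducible Z)
    (hZmax : ∀ Z' : Set X, IsIrreducible Z' → Z' ⊆ f.base ⁻¹' {y} → Z ⊆ Z' → Z' = Z)
    (hopen : ∀ ζ ∈ Z, Z ⊆ closure {ζ} → EGA43.IsOpenAt f.base ζ) :
    ∃ X' ∈ irreducibleComponents (X : Type u), Z ⊆ X' ∧ Dense (f.base '' X') ∧
      (∀ ζ ∈ Z, Z ⊆ closure {ζ} → ∀ hζ : ζ ∈ X' ∩ f.base ⁻¹' {y},
        FlatMor.localDim ↥(X' ∩ f.base ⁻¹' {y}) ⟨ζ, hζ⟩ = topologicalKrullDim ↥Z) ∧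
      topologicalKrullDim ↥Z = topologicalKrullDim ↥(X' ∩ f.base ⁻¹' {genericPoint Y}) := by
  -- subsets of `closure {w}` containing `w` are irreducible
  have hirr : ∀ (w : X) (S : Set X), w ∈ S → S ⊆ closure {w} → IsIrreducible S := by
    intro w S hwS hS
    rw [← isIrreducible_iff_closure]
    have : closure S = closure {w} :=
      le_antisymm (closure_minimal hS isClosed_closure)
        (closure_mono (Set.singleton_subset_iff.mpr hwS))
    rw [this]
    exact isIrreducible_singleton.closure
  obtain ⟨ζ, hζgen⟩ := QuasiSober.sober hZ.closure isClosed_closure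
  have hζdef : closure ({ζ} : Set X) = closure Z := hζgen.def
  have hZsub : Z ⊆ closure {ζ} := hζdef ▸ subset_closure
  obtain ⟨z₀, hz₀⟩ := hZ.nonempty
  have hfζ : f.base ζ = y := by
    have h1 : y ⤳ f.base ζ := by
      rw [specializes_iff_mem_closure]
      have hζcl : ζ ∈ closure Z := hζdef ▸ subset_closure rfl
      have h2 : f.base ζ ∈ closure (f.base '' Z) :=
        image_closure_subset_closure_image f.continuous ⟨ζ, hζcl, rfl⟩
      refine closure_mono ?_ h2
      rintro _ ⟨z, hz, rfl⟩
      exact hZy hz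
    have h2 : f.base ζ ⤳ y := by
      have h3 : ζ ⤳ z₀ := specializes_iff_mem_closure.mpr (hZsub hz₀)
      have h4 := h3.map f.continuous
      have h5 : f.base z₀ = y := hZy hz₀
      rwa [h5] at h4
    exact (h2.antisymm h1).eq
  subst hfζ
  have hZeq : closure ({ζ} : Set X) ∩ f.base ⁻¹' {f.base ζ} = Z :=
    hZmax _ (hirr ζ _ ⟨subset_closure rfl, rfl⟩ Set.inter_subset_left) Set.inter_subset_right
      (fun z hz => ⟨hZsub hz, hZy hz⟩)
  have hζZ : ζ ∈ Z := hZeq ▸ ⟨subset_closure rfl, rfl⟩
  have hζmax : ∀ w : X, w ⤳ ζ → f.base w = f.base ζ → w = ζ := by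
    intro w hw hfw
    have hsub : closure ({ζ} : Set X) ⊆ closure {w} := specializes_iff_closure_subset.mp hw
    have h1 : closure ({w} : Set X) ∩ f.base ⁻¹' {f.base ζ} = Z :=
      hZmax _ (hirr w _ ⟨subset_closure rfl, hfw⟩ Set.inter_subset_left) Set.inter_subset_right
        (fun z hz => ⟨hsub (hZsub hz), hZy hz⟩)
    have hwZ : w ∈ Z := h1 ▸ ⟨subset_closure rfl, hfw⟩
    have h2 : ζ ⤳ w := specializes_iff_mem_closure.mpr (hZsub hwZ)
    exact (hw.antisymm h2).eq
  have hηmax : ∀ η' : Y, η' ⤳ genericPoint Y → η' = genericPoint Y := fun η' hη' =>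
    (hη'.antisymm (genericPoint_specializes η')).eq
  obtain ⟨X', hX', hζX', hcl, hloc, hdim⟩ :=
    Groth.Agent.Lib.H56OpenDim.exists_irreducibleComponent_of_isOpenAt f ζ hζmax
      (hopen ζ hζZ hZsub) (genericPoint Y) (genericPoint_specializes _) hηmax
  have hX'closed : IsClosed X' := isClosed_of_mem_irreducibleComponents X' hX'
  have hdimZ : topologicalKrullDim ↥Z =
      (Groth.Agent.Lib.H56OpenDim.tdeg f ζ : WithBot ℕ∞) := by
    rw [← hZeq]
    exact Groth.Agent.Lib.H56OpenDim.dim_closure_inter_fiber f ζ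
  refine ⟨X', hX', ?_, ?_, ?_, ?_⟩
  · exact hZsub.trans (hX'closed.closure_subset_iff.mpr (Set.singleton_subset_iff.mpr hζX'))
  · rw [dense_iff_closure_eq, hcl]
    exact (genericPoint_spec Y).def
  · intro ζ' hζ'Z hZζ' hζ'
    have h1 : ζ' ⤳ ζ := specializes_iff_mem_closure.mpr (hZζ' hζZ)
    have h2 : ζ ⤳ ζ' := specializes_iff_mem_closure.mpr (hZsub hζ'Z)
    obtain rfl : ζ' = ζ := (h1.antisymm h2).eq
    rw [hdimZ]
    exact hloc
  · rw [hdimZ, hdim]

end Groth.Agent.S4919
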