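import Groth.Statements.S4920
import Mathlib
import Groth.Agent.Lib.H56OpenComp

set_option autoImplicit false
open CategoryTheory AlgebraicGeometry
universe u v w
open EGA43

namespace Groth.Agent.S4920

/-- Let Y be an irreducible locally Noetherian scheme with generic point η, f : X ⟶ Y a morphism locally
of finite type and y a point of Y such that f is open at every point of the fibre over y. For z in Y
write E(z) for the set of dimensions of the irreducible components of the fibre X_z. Then E(y) ⊆
E(η), and consequently dim X_y ≤ dim X_η. -/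
theorem result {X Y : Scheme.{u}} [IrreducibleSpace Y] [IsLocallyNoetherian Y]
    (f : X ⟶ Y) [LocallyOfFiniteType f] (y : Y) (h : ∀ x : X, f.base x = y → EGA43.IsOpenAt f.base x) :
    letI E : Y → Set (WithBot ℕ∞) := fun z =>
      (fun Z : Set ↥(f.fiber z) => topologicalKrullDim ↥Z) '' irreducibleComponents ↥(f.fiber z)
    E y ⊆ E (genericPoint Y) ∧
      topologicalKrullDim ↥(f.fiber y) ≤ topologicalKrullDim ↥(f.fiber (genericPoint Y)) := by
  refine ⟨?_, Groth.Agent.Lib.H56OpenDim.dim_fiber_le_of_specializes_of_isOpenAt f y h _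
    (genericPoint_specializes y)⟩
  rintro _ ⟨Z, hZ, rfl⟩
  obtain ⟨w, hw⟩ := QuasiSober.sober hZ.1 (isClosed_of_mem_irreducibleComponents Z hZ)
  obtain rfl := hw.def
  have hwmax : ∀ w' : ↥(f.fiber y), w' ⤳ w → w' = w :=
    (Groth.Agent.Lib.H30DimField.closure_mem_irreducibleComponents_iff w).mp hZ
  have hfib : ∀ (z : Y) (v : ↥(f.fiber z)), f.base ((f.fiberι z).base v) = z :=
    fun z v => (f.fiberHomeo z v).2
  set ζ : X := (f.fiberι y).base w with hζ
  have hfζ : f.base ζ = y := hfib y w
  have hζmax : ∀ v : X, v ⤳ ζ → f.base v = f.base ζ → v = ζ := by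
    intro v hv hfv
    have hfv' : f.base v = y := hfv.trans hfζ
    let v' : ↥(f.fiber y) := (f.fiberHomeo y).symm ⟨v, hfv'⟩
    have hv' : (f.fiberι y).base v' = v := f.fiberι_fiberHomeo_symm y ⟨v, hfv'⟩
    have hsp : v' ⤳ w := by
      rw [← (f.fiberι y).isEmbedding.isInducing.specializes_iff, hv']
      exact hv
    rw [← hv', hwmax v' hsp]
  have hηmax : ∀ η' : Y, η' ⤳ genericPoint Y → η' = genericPoint Y := fun η' hη' =>
    (hη'.antisymm (genericPoint_specializes η')).eq
  obtain ⟨ξ, hξζ, hfξ, hξmax, htd⟩ :=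
    Groth.Agent.Lib.H56OpenDim.exists_maximal_generization_tdeg_eq f ζ hζmax (h ζ hfζ)
      (genericPoint Y) (genericPoint_specializes _) hηmax
  let w' : ↥(f.fiber (genericPoint Y)) := (f.fiberHomeo (genericPoint Y)).symm ⟨ξ, hfξ⟩
  have hw' : (f.fiberι (genericPoint Y)).base w' = ξ :=
    f.fiberι_fiberHomeo_symm (genericPoint Y) ⟨ξ, hfξ⟩
  have hw'max : ∀ v : ↥(f.fiber (genericPoint Y)), v ⤳ w' → v = w' := by
    intro v hv
    apply (f.fiberι (genericPoint Y)).isEmbedding.injective
    rw [hw']
    apply hξmax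
    have := hv.map (f.fiberι (genericPoint Y)).continuous
    rwa [hw'] at this
  refine ⟨closure {w'},
    (Groth.Agent.Lib.H30DimField.closure_mem_irreducibleComponents_iff w').mpr hw'max, ?_⟩
  change topologicalKrullDim ↥(closure ({w'} : Set ↥(f.fiber (genericPoint Y)))) =
    topologicalKrullDim ↥(closure ({w} : Set ↥(f.fiber y)))
  rw [Groth.Agent.Lib.H56OpenDim.dim_closure_fiber_point,
    Groth.Agent.Lib.H56OpenDim.dim_closure_fiber_point, hw']
  exact_mod_cast htd

end Groth.Agent.S4920
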