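import Groth.Statements.S4921
import Mathlib
import Groth.Agent.Lib.H56OpenFibDim2

set_option autoImplicit false
open CategoryTheory AlgebraicGeometry
universe u v w
open EGA43

namespace Groth.Agent.S4921

/-- Let Y be a locally Noetherian scheme, f : X ⟶ Y a proper morphism and y a point of Y such that f is
open at every point of the fibre over y. Then the function z ↦ dim X_z is constant on a
neighbourhood of y. -/
theorem result {X Y : Scheme.{u}} [IsLocallyNoetherian Y] (f : X ⟶ Y)
    [IsProper f] (y : Y) (h : ∀ x : X, f.base x = y → EGA43.IsOpenAt f.base x) :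
    ∃ V ∈ nhds y, ∀ z ∈ V, topologicalKrullDim ↥(f.fiber z) = topologicalKrullDim ↥(f.fiber y) := by
  have hlft : LocallyOfFiniteType f := inferInstance
  have hcl : IsClosedMap f.base := f.isClosedMap
  obtain ⟨V₁, hV₁, hle⟩ := Groth.Agent.Lib.H56OpenDim.exists_nhds_dim_fiber_le f hcl y
  obtain ⟨V₀, hV₀, hgen⟩ :=
    Groth.Agent.Lib.H56ConsNhds.exists_nhds_forall_exists_generic_of_isLocallyNoetherian Y y
  refine ⟨V₀ ∩ V₁, Filter.inter_mem hV₀ hV₁, fun z hz => le_antisymm (hle z hz.2) ?_⟩
  obtain ⟨η, hηz, hηy, -⟩ := hgen z hz.1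
  apply Groth.Agent.Lib.H56OpenDim.withBot_enat_le_of_forall_nat
  intro n hn
  have h1 := Groth.Agent.Lib.H56OpenDim.dim_fiber_le_of_specializes_of_isOpenAt f y h η hηy
  have h2 : η ∈ {z : Y | (n : WithBot ℕ∞) ≤ topologicalKrullDim (f.fiber z)} := hn.trans h1
  exact hηz.mem_closed (Groth.Agent.Lib.H56OpenDim.isClosed_le_dim_fiber f hcl n) h2

end Groth.Agent.S4921
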