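import Groth.Statements.S4922
import Mathlib
import Groth.Agent.Lib.H56OpenFibDim3

set_option autoImplicit false
open CategoryTheory AlgebraicGeometry
universe u v w
open EGA43

namespace Groth.Agent.S4922

/-- Let Y be a locally Noetherian scheme, f : X ⟶ Y an open morphism of finite type and y a point of Y.
If dim X_y = dim X_{η} for the generic point η of every irreducible component of Y containing y,
then z ↦ dim X_z is constant on a neighbourhood of y. -/
theorem result {X Y : Scheme.{u}} [IsLocallyNoetherian Y]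
    (f : X ⟶ Y) [LocallyOfFiniteType f] [QuasiCompact f] (hf : IsOpenMap f.base) (y : Y)
    (h : ∀ η : Y, y ∈ closure {η} → closure {η} ∈ irreducibleComponents (Y : Type u) →
      topologicalKrullDim ↥(f.fiber y) = topologicalKrullDim ↥(f.fiber η)) :
    ∃ V ∈ nhds y, ∀ z ∈ V, topologicalKrullDim ↥(f.fiber z) = topologicalKrullDim ↥(f.fiber y) := by
  have hopen : ∀ x : X, EGA43.IsOpenAt f.base x := fun x U hU => hf.image_mem_nhds hU
  have hmono : ∀ z z' : Y, z' ⤳ z →
      topologicalKrullDim (f.fiber z) ≤ topologicalKrullDim (f.fiber z') := fun z z' hz =>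
    Groth.Agent.Lib.H56OpenDim.dim_fiber_le_of_specializes_of_isOpenAt f z
      (fun x _ => hopen x) z' hz
  obtain ⟨V₀, hV₀, hgen⟩ :=
    Groth.Agent.Lib.H56ConsNhds.exists_nhds_forall_exists_generic_of_isLocallyNoetherian Y y
  have hC := Groth.Agent.Lib.H56OpenDim.mem_nhds_le_dim_fiber f y (fun ξ hξ => hmono y ξ hξ)
  refine ⟨V₀ ∩ _, Filter.inter_mem hV₀ hC, fun z hz => le_antisymm ?_ hz.2⟩
  obtain ⟨η, hηz, hηy, hcomp⟩ := hgen z hz.1
  calc topologicalKrullDim (f.fiber z) ≤ topologicalKrullDim (f.fiber η) := hmono z η hηz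
    _ = topologicalKrullDim (f.fiber y) :=
      (h η (specializes_iff_mem_closure.mp hηy) hcomp).symm

end Groth.Agent.S4922
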