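import Groth.Statements.S4924
import Mathlib
import Groth.Agent.Lib.H56OpenFibDim4

set_option autoImplicit false
open CategoryTheory AlgebraicGeometry
universe u v w
open EGA43

namespace Groth.Agent.S4924

/-- Let Y be a locally Noetherian scheme, f : X ⟶ Y an open morphism of finite type and y a point of Y.
Then there is an open neighbourhood U of the fibre f⁻¹(y) in X such that the function z ↦ dim (U ∩
f⁻¹(z)) is constant on a neighbourhood of y. -/
theorem result {X Y : Scheme.{u}} [IsLocallyNoetherian Y]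
    (f : X ⟶ Y) [LocallyOfFiniteType f] [QuasiCompact f] (hf : IsOpenMap f.base) (y : Y) :
    ∃ U : X.Opens, f.base ⁻¹' {y} ⊆ (U : Set X) ∧ ∃ V ∈ nhds y, ∀ z ∈ V,
      topologicalKrullDim ↥((U : Set X) ∩ f.base ⁻¹' {z}) = topologicalKrullDim ↥((U : Set X) ∩ f.base ⁻¹' {y}) := by
  have hXN : IsLocallyNoetherian X := LocallyOfFiniteType.isLocallyNoetherian f
  obtain ⟨N, hN⟩ := Groth.Agent.Lib.H56OpenDim.exists_nat_dim_fiber_le f y
  obtain ⟨d, hd⟩ : ∃ d, topologicalKrullDim (f.fiber y) = d := ⟨_, rfl⟩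
  induction d using WithBot.recBotCoe with
  | bot =>
    -- empty fibre
    refine ⟨⊥, ?_, Set.univ, Filter.univ_mem, fun z _ => ?_⟩
    · intro x hx
      exfalso
      have h0 := (Groth.Agent.Lib.H56LocDim.le_dim_fiber_iff f y 0).mpr
        ⟨x, hx, by exact_mod_cast Groth.Agent.Lib.H56LocDim.fibreDimAt_nonneg f x⟩
      rw [hd] at h0
      simp at h0
    · rw [Groth.Agent.Lib.H56OpenDim.dim_inter_preimage_eq,
        Groth.Agent.Lib.H56OpenDim.dim_inter_preimage_eq]
      have hemp : ∀ w : Y, topologicalKrullDim (((⊥ : X.Opens).ι ≫ f).fiber w) = ⊥ := by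
        intro w
        have : IsEmpty (((⊥ : X.Opens).ι ≫ f).fiber w) :=
          ⟨fun p => (((⊥ : X.Opens).ι ≫ f).fiberι w p).2.elim⟩
        have : IsEmpty (TopologicalSpace.IrreducibleCloseds (((⊥ : X.Opens).ι ≫ f).fiber w)) :=
          ⟨fun T => this.false T.isIrreducible'.1.some⟩
        exact Order.krullDim_eq_bot
      rw [hemp, hemp]
  | coe d =>
    rw [hd] at hN
    have hdN : d ≤ (N : ℕ∞) := by exact_mod_cast hN
    obtain ⟨k, rfl⟩ := ENat.ne_top_iff_exists.mp (ne_top_of_le_ne_top (ENat.natCast_ne_top N) hdN)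
    let U : X.Opens := ⟨{x : X | FlatMor.fibreDimAt f x ≤ k}, Groth.Agent.S0402.result f k⟩
    have hyU : f.base ⁻¹' {y} ⊆ (U : Set X) := by
      intro x hx
      exact (Groth.Agent.Lib.H56LocDim.dim_fiber_le_iff f y k).mp hd.le x hx
    let g : (U : Scheme.{u}) ⟶ Y := U.ι ≫ f
    have hgopen : IsOpenMap g.base := by
      have : g.base = f.base ∘ U.ι.base := rfl
      rw [this]
      exact hf.comp U.ι.isOpenEmbedding.isOpenMap
    have hgle : ∀ z : Y, topologicalKrullDim (g.fiber z) ≤ (k : WithBot ℕ∞) := by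
      intro z
      rw [Groth.Agent.Lib.H56LocDim.dim_fiber_le_iff]
      intro u _
      rw [Groth.Agent.Lib.H56OpenDim.fibreDimAt_ι_comp]
      exact u.2
    have hgy : topologicalKrullDim (g.fiber y) = (k : WithBot ℕ∞) := by
      apply le_antisymm (hgle y)
      obtain ⟨x, hx, hkx⟩ := (Groth.Agent.Lib.H56LocDim.le_dim_fiber_iff f y k).mp hd.ge
      rw [Groth.Agent.Lib.H56LocDim.le_dim_fiber_iff]
      refine ⟨⟨x, hyU hx⟩, hx, ?_⟩
      rw [Groth.Agent.Lib.H56OpenDim.fibreDimAt_ι_comp]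
      exact hkx
    have hgopenAt : ∀ u : (U : Scheme.{u}), EGA43.IsOpenAt g.base u :=
      fun u W hW => hgopen.image_mem_nhds hW
    have hC := Groth.Agent.Lib.H56OpenDim.mem_nhds_le_dim_fiber g y (fun ξ hξ =>
      Groth.Agent.Lib.H56OpenDim.dim_fiber_le_of_specializes_of_isOpenAt g y
        (fun u _ => hgopenAt u) ξ hξ)
    refine ⟨U, hyU, _, hC, fun z hz => ?_⟩
    rw [Groth.Agent.Lib.H56OpenDim.dim_inter_preimage_eq,
      Groth.Agent.Lib.H56OpenDim.dim_inter_preimage_eq]
    exact le_antisymm ((hgle z).trans hgy.ge) hz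

end Groth.Agent.S4924
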