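import Groth.Statements.S4925
-- import your own Groth.Agent.* helpers here

set_option autoImplicit false
open CategoryTheory AlgebraicGeometry
universe u v w
open EGA43

namespace Groth.Agent.S4925

/-- Let f : X ⟶ Y and g : Y ⟶ Z be morphisms of schemes and x a point of X. If f is universally open at
x and g is universally open at f x, then f ≫ g is universally open at x. -/
theorem result {X Y Z : Scheme.{u}} (f : X ⟶ Y) (g : Y ⟶ Z) (x : X)
    (hf : EGA43.IsUnivOpenAt f x) (hg : EGA43.IsUnivOpenAt g (f.base x)) :
    EGA43.IsUnivOpenAt (f ≫ g) x := by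
  intro Z' g' x' hx'
  let e := Limits.pullbackRightPullbackFstIso g g' f
  set x'' := e.inv.base x' with hx''
  have hex : e.hom.base x'' = x' := by
    rw [hx'', ← Scheme.Hom.comp_apply, e.inv_hom_id]; rfl
  have he1 : (Limits.pullback.fst f (Limits.pullback.fst g g')).base x'' = x := by
    rw [hx'', ← Scheme.Hom.comp_apply, Limits.pullbackRightPullbackFstIso_inv_fst]
    exact hx'
  have hcomp : ∀ z, (Limits.pullback.snd (f ≫ g) g').base (e.hom.base z) =
      (Limits.pullback.snd g g').base ((Limits.pullback.snd f (Limits.pullback.fst g g')).base z) := by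
    intro z
    rw [← Scheme.Hom.comp_apply, ← Scheme.Hom.comp_apply,
      Limits.pullbackRightPullbackFstIso_hom_snd]
  -- f is open at x'' after base change to Y ×_Z Z'
  have h1 := hf _ (Limits.pullback.fst g g') x'' he1
  -- g is open at the image point after base change to Z'
  have hy : (Limits.pullback.fst g g').base
      ((Limits.pullback.snd f (Limits.pullback.fst g g')).base x'') = f.base x := by
    rw [← Scheme.Hom.comp_apply, ← Limits.pullback.condition, Scheme.Hom.comp_apply]
    exact congrArg f.base he1
  have h2 := hg Z' g' _ hy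
  intro U hU
  have hU' : e.hom.base ⁻¹' U ∈ nhds x'' := by
    apply e.hom.continuous.continuousAt
    rw [hex]; exact hU
  have h3 := h2 _ (h1 _ hU')
  rw [← hcomp, hex] at h3
  refine Filter.mem_of_superset h3 ?_
  rintro _ ⟨_, ⟨z, hz, rfl⟩, rfl⟩
  rw [← hcomp]
  exact ⟨_, hz, rfl⟩

end Groth.Agent.S4925
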