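import Groth.Statements.S4926
-- import your own Groth.Agent.* helpers here

set_option autoImplicit false
open CategoryTheory AlgebraicGeometry
universe u v w
open EGA43

namespace Groth.Agent.S4926

/-- Let f : X ⟶ Y and g : Y ⟶ Z be morphisms of schemes and x a point of X. If f ≫ g is universally open
at x, then g is universally open at the point f x. -/
theorem result {X Y Z : Scheme.{u}} (f : X ⟶ Y) (g : Y ⟶ Z) (x : X)
    (h : EGA43.IsUnivOpenAt (f ≫ g) x) : EGA43.IsUnivOpenAt g (f.base x) := by
  intro Z' g' y' hy'
  -- a point of X ×_Y (Y ×_Z Z') over x and y'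
  obtain ⟨x'', hx1, hx2⟩ := Scheme.Pullback.exists_preimage_pullback (f := f)
    (g := Limits.pullback.fst g g') x y' hy'.symm
  let e := Limits.pullbackRightPullbackFstIso g g' f
  have he1 : (Limits.pullback.fst (f ≫ g) g').base (e.hom.base x'') = x := by
    rw [← Scheme.Hom.comp_apply, Limits.pullbackRightPullbackFstIso_hom_fst]
    exact hx1
  have hopen := h Z' g' (e.hom.base x'') he1
  -- transport along the homeomorphism e
  have hcomp : ∀ z, (Limits.pullback.snd (f ≫ g) g').base (e.hom.base z) =
      (Limits.pullback.snd g g').base ((Limits.pullback.snd f (Limits.pullback.fst g g')).base z) := by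
    intro z
    rw [← Scheme.Hom.comp_apply, ← Scheme.Hom.comp_apply,
      Limits.pullbackRightPullbackFstIso_hom_snd]
  intro U hU
  have hU' : (Limits.pullback.snd f (Limits.pullback.fst g g')).base ⁻¹' U ∈ nhds x'' := by
    apply (Limits.pullback.snd f (Limits.pullback.fst g g')).continuous.continuousAt
    rw [hx2]; exact hU
  have hUe : e.hom.base '' ((Limits.pullback.snd f (Limits.pullback.fst g g')).base ⁻¹' U) ∈
      nhds (e.hom.base x'') :=
    (Scheme.Hom.isOpenEmbedding e.hom).isOpenMap.image_mem_nhds hU'
  have := hopen _ hUe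
  rw [hcomp, hx2] at this
  refine Filter.mem_of_superset this ?_
  rintro _ ⟨_, ⟨z, hz, rfl⟩, rfl⟩
  rw [hcomp]
  exact ⟨_, hz, rfl⟩

end Groth.Agent.S4926
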