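import Groth.Statements.S4932
import Mathlib
import Groth.Agent.Lib.H56ValFib

set_option autoImplicit false
open CategoryTheory AlgebraicGeometry
universe u v w
open EGA43

namespace Groth.Agent.S4932

/-- Let A be a valuation ring (not necessarily discrete), X an irreducible scheme and f : X ⟶ Spec A a
dominant morphism of finite type. If the fibre X_0 of f over the closed point is nonempty, then dim
X_0 = dim X_1, where X_1 is the fibre over the generic point. -/
theorem result {A : Type u} [CommRing A] [IsDomain A]
    [ValuationRing A] {X : Scheme.{u}} [IrreducibleSpace X] (f : X ⟶ Spec (CommRingCat.of A))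
    [LocallyOfFiniteType f] [QuasiCompact f] [IsDominant f]
    (h0 : Nonempty ↥(f.fiber (IsLocalRing.closedPoint A))) :
    topologicalKrullDim ↥(f.fiber (IsLocalRing.closedPoint A)) =
      topologicalKrullDim ↥(f.fiber (genericPoint (Spec (CommRingCat.of A)))) := by
  obtain ⟨w⟩ := h0
  refine Groth.Agent.Lib.H56ValTrdeg.dim_fiber_eq_of_irreducible_Spec A f _ _
    ⟨(f.fiberι _).base w, (f.fiberHomeo _ w).2⟩
    ⟨genericPoint X, Groth.Agent.Lib.H56ValTrdeg.map_genericPoint_of_isDominant f⟩

end Groth.Agent.S4932
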