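import Groth.Statements.S4935
import Mathlib.RingTheory.IntegralClosure.GoingDown
import Mathlib.RingTheory.IntegralClosure.IntegrallyClosed
import Mathlib.RingTheory.Localization.FractionRing
import Mathlib.RingTheory.Ideal.GoingUp

set_option autoImplicit false
universe u
open EGA43

namespace Groth.Agent.S4935

/-- Main lemma: going down to a prime lying under a prime over the maximal ideal, for a local domain
`R` whose normalization is local. -/
theorem main {R B : Type u} [CommRing R] [IsDomain R] [IsLocalRing R]
    (hloc : IsLocalRing (integralClosure R (FractionRing R)))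
    [CommRing B] [IsDomain B] [Algebra R B]
    (hinj : Function.Injective (algebraMap R B)) [Algebra.IsIntegral R B] (n : Ideal B) [n.IsPrime]
    (hn : n.comap (algebraMap R B) = IsLocalRing.maximalIdeal R) (p : Ideal R) [p.IsPrime] :
    ∃ q : Ideal B, q.IsPrime ∧ q ≤ n ∧ q.comap (algebraMap R B) = p := by
  classical
  let K := FractionRing R
  let L := FractionRing B
  have hinjRL : Function.Injective (algebraMap R L) := by
    rw [IsScalarTower.algebraMap_eq R B L]
    exact (IsFractionRing.injective B L).comp hinj
  have : FaithfulSMul R L := (faithfulSMul_iff_algebraMap_injective R L).2 hinjRL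
  let algKL : Algebra K L := FractionRing.liftAlgebra R L
  have towRKL : IsScalarTower R K L := FractionRing.isScalarTower_liftAlgebra R L
  let A' := integralClosure R K
  let C := integralClosure R L
  have : IsIntegrallyClosed A' :=
    integralClosure.isIntegrallyClosedOfFiniteExtension K (L := K)
  -- the map `A' → C`
  let ψ : A' →ₐ[R] C := ((IsScalarTower.toAlgHom R K L).comp A'.val).codRestrict C
    (fun x => IsIntegral.map (IsScalarTower.toAlgHom R K L) x.2)
  let algA'C : Algebra A' C := ψ.toRingHom.toAlgebra
  have towRA'C : IsScalarTower R A' C := IsScalarTower.of_algebraMap_eq (fun r => (ψ.commutes r).symm)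
  have hψinj : Function.Injective (algebraMap A' C) := by
    intro x y hxy
    have h1 : algebraMap K L x.1 = algebraMap K L y.1 := congrArg Subtype.val hxy
    exact Subtype.ext ((algebraMap K L).injective h1)
  have : FaithfulSMul A' C := (faithfulSMul_iff_algebraMap_injective A' C).2 hψinj
  have : Algebra.IsIntegral A' C := Algebra.IsIntegral.tower_top (R := R)
  -- the map `B → C`
  let χ : B →ₐ[R] C := (IsScalarTower.toAlgHom R B L).codRestrict C
    (fun b => IsIntegral.map (IsScalarTower.toAlgHom R B L) (Algebra.IsIntegral.isIntegral b))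
  let algBC : Algebra B C := χ.toRingHom.toAlgebra
  have towRBC : IsScalarTower R B C := IsScalarTower.of_algebraMap_eq (fun r => (χ.commutes r).symm)
  have hχinj : Function.Injective (algebraMap B C) := by
    intro x y hxy
    have h1 : algebraMap B L x = algebraMap B L y := congrArg Subtype.val hxy
    exact IsFractionRing.injective B L h1
  have : Algebra.IsIntegral B C := Algebra.IsIntegral.tower_top (R := R)
  have : FaithfulSMul B C := (faithfulSMul_iff_algebraMap_injective B C).2 hχinj
  have : FaithfulSMul R A' := (faithfulSMul_iff_algebraMap_injective R A').2 (by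
    intro x y hxy
    have h1 : algebraMap R K x = algebraMap R K y := congrArg Subtype.val hxy
    exact IsFractionRing.injective R K h1)
  -- a prime of `C` over `n`
  obtain ⟨n', -, hn'prime, hn'⟩ := Ideal.exists_ideal_over_prime_of_isIntegral n (⊥ : Ideal C)
    (by simp [← RingHom.ker_eq_comap_bot])
  -- its contraction to `A'` is the maximal ideal
  have hcomapR : (n'.comap (algebraMap A' C)).comap (algebraMap R A') =
      IsLocalRing.maximalIdeal R := by
    rw [Ideal.comap_comap, ← IsScalarTower.algebraMap_eq R A' C, IsScalarTower.algebraMap_eq R B C,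
      ← Ideal.comap_comap, hn', hn]
  have hmax : (n'.comap (algebraMap A' C)).IsMaximal := by
    apply Ideal.isMaximal_of_isIntegral_of_isMaximal_comap (R := R)
    rw [hcomapR]
    infer_instance
  have hm' : n'.comap (algebraMap A' C) = IsLocalRing.maximalIdeal A' :=
    IsLocalRing.eq_maximalIdeal hmax
  -- a prime of `A'` over `p`
  obtain ⟨p', -, hp'prime, hp'⟩ := Ideal.exists_ideal_over_prime_of_isIntegral p (⊥ : Ideal A')
    (by simp [← RingHom.ker_eq_comap_bot])
  have hle : p' ≤ n'.comap (algebraMap A' C) := by
    rw [hm']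
    exact IsLocalRing.le_maximalIdeal hp'prime.ne_top
  -- going down
  have : n'.LiesOver (n'.comap (algebraMap A' C)) := ⟨rfl⟩
  obtain ⟨q', hq'le, hq'prime, hq'over⟩ :=
    Ideal.exists_ideal_le_liesOver_of_le (p := p') (q := n'.comap (algebraMap A' C)) n' hle
  refine ⟨q'.comap (algebraMap B C), inferInstance, ?_, ?_⟩
  · rw [← hn']
    exact Ideal.comap_mono hq'le
  · rw [Ideal.comap_comap, ← IsScalarTower.algebraMap_eq R B C, IsScalarTower.algebraMap_eq R A' C,
      ← Ideal.comap_comap, ← hp']
    congr 1
    exact (hq'over.over).symm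

/-- Let A be a unibranch local domain, B a domain containing A and integral over A, and 𝔫 a prime ideal
of B lying over the maximal ideal of A. Then Spec B_𝔫 → Spec A is surjective: for every prime ideal
𝔭 of A there is a prime ideal 𝔮 ⊆ 𝔫 of B with 𝔮 ∩ A = 𝔭. -/
theorem result {A B : Type u} [CommRing A] [IsDomain A]
    [IsLocalRing A] (hA : CAlg2.IsUnibranch A) [CommRing B] [IsDomain B] [Algebra A B]
    (hinj : Function.Injective (algebraMap A B)) [Algebra.IsIntegral A B] (n : Ideal B) [n.IsPrime]
    (hn : n.comap (algebraMap A B) = IsLocalRing.maximalIdeal A) (p : Ideal A) [p.IsPrime] :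
    ∃ q : Ideal B, q.IsPrime ∧ q ≤ n ∧ q.comap (algebraMap A B) = p := by
  obtain ⟨hdom, hloc⟩ := hA
  have hnil : nilradical A = ⊥ := nilradical_eq_zero A
  have hbij : Function.Bijective (Ideal.Quotient.mk (nilradical A)) :=
    ⟨(RingHom.injective_iff_ker_eq_bot _).2 (by rw [Ideal.mk_ker, hnil]),
      Ideal.Quotient.mk_surjective⟩
  let e : A ≃+* CAlg2.red A := RingEquiv.ofBijective (Ideal.Quotient.mk (nilradical A)) hbij
  have : IsLocalRing (CAlg2.red A) := e.isLocalRing
  let _ : Algebra (CAlg2.red A) B := ((algebraMap A B).comp e.symm.toRingHom).toAlgebra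
  have halg : ∀ x : CAlg2.red A, algebraMap (CAlg2.red A) B x = algebraMap A B (e.symm x) :=
    fun _ => rfl
  have tow : IsScalarTower A (CAlg2.red A) B := IsScalarTower.of_algebraMap_eq (fun a => by
    rw [halg]
    congr 1
    exact (e.symm_apply_apply a).symm)
  have : Algebra.IsIntegral (CAlg2.red A) B := Algebra.IsIntegral.tower_top (R := A)
  have hinj' : Function.Injective (algebraMap (CAlg2.red A) B) := by
    intro x y hxy
    rw [halg, halg] at hxy
    exact e.symm.injective (hinj hxy)
  have hn' : n.comap (algebraMap (CAlg2.red A) B) = IsLocalRing.maximalIdeal (CAlg2.red A) := by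
    ext x
    rw [Ideal.mem_comap, halg, ← Ideal.mem_comap, hn, IsLocalRing.mem_maximalIdeal,
      IsLocalRing.mem_maximalIdeal, mem_nonunits_iff, mem_nonunits_iff]
    exact not_congr (MulEquiv.isUnit_map e.symm)
  have : (p.comap e.symm.toRingHom).IsPrime := Ideal.comap_isPrime _ _
  obtain ⟨q, hq, hqn, hqp⟩ := main hloc hinj' n hn' (p.comap e.symm.toRingHom)
  refine ⟨q, hq, hqn, ?_⟩
  rw [IsScalarTower.algebraMap_eq A (CAlg2.red A) B, ← Ideal.comap_comap, hqp, Ideal.comap_comap]
  ext a
  rw [Ideal.mem_comap]
  show e.symm (e a) ∈ p ↔ a ∈ p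
  rw [e.symm_apply_apply]

end Groth.Agent.S4935
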