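import Groth.Statements.S4946
import Groth.Agent.Lib.H80QuasiSec4
import Groth.Agent.Lib.H80QuasiSec5

set_option autoImplicit false
open CategoryTheory AlgebraicGeometry
universe u v w
open EGA43

namespace Groth.Agent.S4946

/-- Let Y be an irreducible locally Noetherian scheme which is regular of dimension 1 (all local rings
regular of dimension at most 1), f : X ⟶ Y a morphism locally of finite type and y a point of Y.
Then the following are equivalent: d) every irreducible component of X meeting the fibre X_y
dominates Y; e) for every point x closed in X_y and every irreducible component X_i of X containing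
x, there are an irreducible reduced scheme T and an immersion T ⟶ X with image containing x and
contained in X_i, such that T ⟶ Y is quasi-finite and dominant. -/
theorem result {X Y : Scheme.{u}} [IrreducibleSpace Y]
    [IsLocallyNoetherian Y] (hY : ∀ y : Y, IsRegularLocalRing (Y.presheaf.stalk y) ∧ ringKrullDim (Y.presheaf.stalk y) ≤ 1)
    (f : X ⟶ Y) [LocallyOfFiniteType f] (y : Y) :
    (∀ Z ∈ irreducibleComponents (X : Type u), (Z ∩ f.base ⁻¹' {y}).Nonempty → Dense (f.base '' Z)) ↔
      ∀ x : X, f.base x = y → (∀ x' : X, f.base x' = y → x ⤳ x' → x' = x) →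
        ∀ Xi ∈ irreducibleComponents (X : Type u), x ∈ Xi →
          ∃ (T : Scheme.{u}) (i : T ⟶ X), IsImmersion i ∧ IrreducibleSpace ↥T ∧ IsReduced T ∧ x ∈ Set.range i.base ∧
            Set.range i.base ⊆ Xi ∧
            LocallyOfFiniteType (i ≫ f) ∧ LocallyQuasiFinite (i ≫ f) ∧ QuasiCompact (i ≫ f) ∧ IsDominant (i ≫ f) := by
  constructor
  · intro hd x hxy hxcl Xi hXi hxXi
    subst hxy
    obtain ⟨ξ, hξ⟩ := QuasiSober.sober hXi.1 (isClosed_of_mem_irreducibleComponents Xi hXi)
    have hξx : ξ ⤳ x := by
      rw [specializes_iff_mem_closure, hξ.def]; exact hxXi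
    have hdense : Dense (f.base '' Xi) := hd Xi hXi ⟨x, hxXi, rfl⟩
    have hfξ : f.base ξ = genericPoint Y := by
      have h1 : f.base '' Xi ⊆ closure {f.base ξ} := by
        rw [← hξ.def]
        refine (image_closure_subset_closure_image f.continuous).trans ?_
        rw [Set.image_singleton]
      have h2 : IsGenericPoint (f.base ξ) (⊤ : Set Y) := by
        refine le_antisymm (Set.subset_univ _) ?_
        intro z _
        have hz : z ∈ closure (f.base '' Xi) := hdense z
        exact (closure_minimal h1 isClosed_closure) hz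
      exact h2.eq (genericPoint_spec Y)
    obtain ⟨T, i, h1, h2, h3, h4, h5, h6, h7, h8, h9⟩ :=
      Groth.Agent.Lib.H80QuasiSec.exists_quasiSection f x (hY _).1 (hY _).2 hxcl ξ hξx hfξ
    exact ⟨T, i, h1, h2, h3, h4, h5.trans hξ.def.le, h6, h7, h8, h9⟩
  · intro he Z hZ hne
    obtain ⟨x, hxZ, hfx, hxcl⟩ := Groth.Agent.Lib.H80QuasiSec.exists_closed_point_fibre f y Z
      (isClosed_of_mem_irreducibleComponents Z hZ) hne
    obtain ⟨T, i, -, -, -, -, hiZ, -, -, -, hdom⟩ := he x hfx hxcl Z hZ hxZ
    refine hdom.denseRange.mono ?_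
    rintro _ ⟨t, rfl⟩
    exact ⟨i.base t, hiZ ⟨t, rfl⟩, rfl⟩

end Groth.Agent.S4946
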