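import Groth.Statements.S4947
import Groth.Agent.S5802
import Groth.Agent.Lib.RegularLocal
import Groth.Agent.Lib.RegOrd2

set_option autoImplicit false
universe u
open EGA43

namespace Groth.Agent.S4947

open IsLocalRing Groth.Agent.Lib.RegOrd in
theorem exists_transcendence {A : Type u} [CommRing A] [IsDomain A] [IsNoetherianRing A]
    [IsLocalRing A] {e : ℕ} (x : Fin (e + 1) → A) {K : Type u} [Field K] [Algebra A K]
    [IsFractionRing A K] (hx : Ideal.span (Set.range x) = maximalIdeal A)
    (hq : CAlgX.IsQuasiRegular x) [IsLocalRing (ordRing x K hx hq)]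
    (φ : ResidueField A →+* ResidueField (ordRing x K hx hq))
    (hφ : φ.comp (residue A) =
      (residue (ordRing x K hx hq)).comp (algebraMap A (ordRing x K hx hq))) :
    letI := φ.toAlgebra
    ∃ (ι : Type u) (t : ι → ResidueField (ordRing x K hx hq)),
      AlgebraicIndependent (ResidueField A) t ∧
        IntermediateField.adjoin (ResidueField A) (Set.range t) = ⊤ := by
  let _ := φ.toAlgebra
  have h1 := Groth.Agent.Lib.RegOrd.algebraicIndependent x hx hq φ hφ
  have h2 := Groth.Agent.Lib.RegOrd.adjoin_eq_top x hx hq φ hφ
  refine ⟨ULift.{u} (Fin e), fun i => residue _ (yy x hx hq i.down), ?_, ?_⟩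
  · exact h1.comp ULift.down ULift.down_injective
  · rw [← h2]
    congr 1
    exact (Equiv.ulift.surjective.range_comp
      (fun j : Fin e => residue (ordRing x K hx hq) (yy x hx hq j)))

/-- Let A be a regular local ring which is not a field, K its fraction field and k its residue field.
Then there is a discrete valuation ring V between A and K, with fraction field K, dominating A,
whose residue field is a purely transcendental extension of k: for some ring map from k compatible
with A → V there is an algebraically independent family generating the residue field of V as a field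
over k. -/
theorem result (A : Type u) [CommRing A] [IsRegularLocalRing A]
    (hA : ¬ IsField A) :
    ∃ (V : Subalgebra A (FractionRing A)) (_ : IsDomain V) (_ : IsDiscreteValuationRing V), IsFractionRing V (FractionRing A) ∧
      (IsLocalRing.maximalIdeal V).comap (algebraMap A V) = IsLocalRing.maximalIdeal A ∧
      ∃ (φ : IsLocalRing.ResidueField A →+* IsLocalRing.ResidueField V),
        φ.comp (IsLocalRing.residue A) = (IsLocalRing.residue V).comp (algebraMap A V) ∧
        letI := φ.toAlgebra
        ∃ (ι : Type u) (t : ι → IsLocalRing.ResidueField V), AlgebraicIndependent (IsLocalRing.ResidueField A) t ∧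
          IntermediateField.adjoin (IsLocalRing.ResidueField A) (Set.range t) = ⊤ := by
  classical
  haveI : IsDomain A := Groth.Agent.Lib.RegularLocal.isDomain A
  have hd : ringKrullDim A = ((IsLocalRing.maximalIdeal A).spanFinrank : ℕ) :=
    (IsRegularLocalRing.spanFinrank_maximalIdeal (R := A)).symm
  have hfg : (IsLocalRing.maximalIdeal A).FG := Ideal.fg_of_isNoetherianRing _
  obtain ⟨s, hs1, hs2⟩ := Submodule.FG.exists_span_finset_card_eq_spanFinrank hfg
  -- the dimension is positive
  have hpos : (IsLocalRing.maximalIdeal A).spanFinrank ≠ 0 := by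
    intro h0
    apply hA
    rw [IsLocalRing.isField_iff_maximalIdeal_eq]
    exact (Submodule.spanFinrank_eq_zero_iff_eq_bot hfg).mp h0
  obtain ⟨e, he⟩ := Nat.exists_eq_succ_of_ne_zero hpos
  have hcard : s.card = e + 1 := by rw [hs1, he]
  let x : Fin (e + 1) → A := fun i => ((s.equivFinOfCardEq hcard).symm i : A)
  have hrange : Set.range x = (s : Set A) := by
    ext a
    constructor
    · rintro ⟨i, rfl⟩
      exact ((s.equivFinOfCardEq hcard).symm i).2
    · intro ha
      refine ⟨s.equivFinOfCardEq hcard ⟨a, ha⟩, ?_⟩
      simp [x]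
  have hx : Ideal.span (Set.range x) = IsLocalRing.maximalIdeal A := by
    rw [hrange]
    exact hs2
  have hd' : ringKrullDim A = ((e + 1 : ℕ) : WithBot ℕ∞) := by rw [hd, he]
  have hreg := Groth.Agent.Lib.RegularLocal.isRegular_ofFn A (e + 1) hd' x hx
  have hq : CAlgX.IsQuasiRegular x :=
    Groth.Agent.S5802.result A (e + 1) x hreg.toIsWeaklyRegular
  have hdvr := Groth.Agent.Lib.RegOrd.isDiscreteValuationRing x (K := FractionRing A) hx hq 0
  refine ⟨Groth.Agent.Lib.RegOrd.ordRing x (FractionRing A) hx hq, inferInstance, hdvr,
    Groth.Agent.Lib.RegOrd.isFractionRing x hx hq, ?_, ?_⟩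
  · haveI := Groth.Agent.Lib.RegOrd.isLocalHom_algebraMap (K := FractionRing A) x hx hq
    exact IsLocalRing.maximalIdeal_comap _
  · haveI := Groth.Agent.Lib.RegOrd.isLocalHom_algebraMap (K := FractionRing A) x hx hq
    refine ⟨IsLocalRing.ResidueField.map (algebraMap A _), ?_, ?_⟩
    · exact IsLocalRing.ResidueField.map_comp_residue _
    · exact exists_transcendence x hx hq _ (IsLocalRing.ResidueField.map_comp_residue _)

end Groth.Agent.S4947

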