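import Groth.Statements.S4951
import Mathlib.Topology.Separation.Basic

set_option autoImplicit false
universe u
open EGA43

namespace Groth.Agent.S4951


open TopologicalSpace in
/-- In a locally Noetherian quasi-sober space, a point in the closure of an open set `V` is a
specialization of a point of `V`. -/
lemma exists_specializes_of_mem_closure {X : Type u} [TopologicalSpace X] [QuasiSober X]
    (hloc : ∀ x : X, ∃ U ∈ nhds x, NoetherianSpace ↥U) {V : Set X} (hV : IsOpen V) {x : X}
    (hx : x ∈ closure V) : ∃ t ∈ V, t ⤳ x := by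
  by_contra hcon0
  have hcon : ∀ t ∈ V, ¬ t ⤳ x := fun t ht h => hcon0 ⟨t, ht, h⟩
  obtain ⟨N', hN', hNoeth⟩ := hloc x
  set N : Set X := interior N' with hNdef
  have hNopen : IsOpen N := isOpen_interior
  have hxN : x ∈ N := mem_interior_iff_mem_nhds.2 hN'
  have : NoetherianSpace ↥N := NoetherianSpace.of_subset (W := N') interior_subset
  have : QuasiSober ↥N := hNopen.isOpenEmbedding_subtypeVal.quasiSober
  obtain ⟨S, hSfin, hSclosed, hSirr, hSU⟩ :=
    NoetherianSpace.exists_finite_set_isClosed_irreducible (α := ↥N) isClosed_univ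
  let xN : ↥N := ⟨x, hxN⟩
  -- the open neighbourhood of `x` avoiding the members of `S` not containing `x`
  let O : Set ↥N := ⋂ T ∈ {T ∈ S | xN ∉ T}, Tᶜ
  have hOopen : IsOpen O :=
    (hSfin.subset (fun T hT => hT.1)).isOpen_biInter (fun T hT => (hSclosed T hT.1).isOpen_compl)
  have hxO : xN ∈ O := by
    simp only [O, Set.mem_iInter, Set.mem_compl_iff]
    intro T hT
    exact hT.2
  have hOV : ∀ y ∈ O, (y : X) ∉ V := by
    intro y hy hyV
    have hyS : y ∈ ⋃₀ S := by rw [← hSU]; trivial
    obtain ⟨T, hTS, hyT⟩ := hyS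
    have hxT : xN ∈ T := by
      by_contra hxT
      have : y ∈ Tᶜ := by
        simp only [O, Set.mem_iInter] at hy
        exact hy T ⟨hTS, hxT⟩
      exact this hyT
    have hgen := (hSirr T hTS).isGenericPoint_genericPoint (hSclosed T hTS)
    set g := (hSirr T hTS).genericPoint with hg
    have hgx : g ⤳ xN := hgen.specializes hxT
    have hgx' : (g : X) ⤳ x := hgx.map continuous_subtype_val
    have hgV : (g : X) ∉ V := fun h => hcon _ h hgx'
    have hclosed : IsClosed ((Subtype.val : ↥N → X) ⁻¹' Vᶜ) :=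
      hV.isClosed_compl.preimage continuous_subtype_val
    have hTsub : T ⊆ (Subtype.val : ↥N → X) ⁻¹' Vᶜ :=
      (hgen.mem_closed_set_iff hclosed).1 hgV
    exact hTsub hyT hyV
  have hopen : IsOpen ((Subtype.val : ↥N → X) '' O) := hNopen.isOpenMap_subtype_val O hOopen
  have hxmem : x ∈ (Subtype.val : ↥N → X) '' O := ⟨xN, hxO, rfl⟩
  obtain ⟨z, ⟨y, hyO, rfl⟩, hzV⟩ := mem_closure_iff.1 hx _ hopen hxmem
  exact hOV y hyO hzV

/-- Let X be a locally Noetherian topological space in which every irreducible closed subset has a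
unique generic point (X quasi-sober and T₀), and Z a closed nowhere dense subset of X such that for
every point x of Z the set of generizations of x distinct from x is connected (possibly empty). If X
is connected, then X − Z is connected. (Uniqueness of generic points, automatic for the underlying
space of a scheme, is needed: in the four-point space {u, v, z₁, z₂} whose open sets are ∅, {u},
{v}, {u, v} and the whole space, the closed nowhere dense set Z = {z₁, z₂} satisfies the hypothesis,
since z₂ is a generization of z₁ and conversely, yet X − Z = {u, v} is not connected.) -/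
theorem result {X : Type u} [TopologicalSpace X]
    [QuasiSober X] [T0Space X] (hloc : ∀ x : X, ∃ U ∈ nhds x, TopologicalSpace.NoetherianSpace ↥U) [ConnectedSpace X]
    (Z : Set X) (hZ : IsClosed Z) (hZn : IsNowhereDense Z)
    (hgen : ∀ x ∈ Z, IsPreconnected ({x' : X | x' ⤳ x} \ {x})) :
    IsConnected Zᶜ := by
  classical
  obtain ⟨hZopen, hZdense⟩ := isClosed_isNowhereDense_iff_compl.1 ⟨hZ, hZn⟩
  refine ⟨hZdense.nonempty, ?_⟩
  intro u v hu hv huv hu' hv'
  by_contra hdisj
  rw [Set.not_nonempty_iff_eq_empty] at hdisj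
  set U₁ : Set X := Zᶜ ∩ u with hU₁
  set U₂ : Set X := Zᶜ ∩ v with hU₂
  have hU₁open : IsOpen U₁ := hZopen.inter hu
  have hU₂open : IsOpen U₂ := hZopen.inter hv
  have hU₁₂ : U₁ ∩ U₂ = ∅ := by
    rw [← hdisj]
    ext y
    simp only [hU₁, hU₂, Set.mem_inter_iff]
    tauto
  have hcover : Zᶜ ⊆ U₁ ∪ U₂ := by
    intro y hy
    rcases huv hy with h | h
    · exact Or.inl ⟨hy, h⟩
    · exact Or.inr ⟨hy, h⟩
  have hclcover : (Set.univ : Set X) ⊆ closure U₁ ∪ closure U₂ := by
    rw [← closure_union]
    intro y _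
    exact closure_mono hcover (hZdense y)
  -- the two closures meet
  obtain ⟨w₀, -, hw₀1, hw₀2⟩ := isPreconnected_closed_iff.1 isPreconnected_univ
    (closure U₁) (closure U₂) isClosed_closure isClosed_closure hclcover
    (by obtain ⟨y, hy⟩ := hu'; exact ⟨y, trivial, subset_closure hy⟩)
    (by obtain ⟨y, hy⟩ := hv'; exact ⟨y, trivial, subset_closure hy⟩)
  set W : Set X := closure U₁ ∩ closure U₂ with hW
  have hWclosed : IsClosed W := isClosed_closure.inter isClosed_closure
  have hWZ : W ⊆ Z := by
    intro y hy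
    by_contra hyZ
    rcases hcover hyZ with h | h
    · obtain ⟨z, hz1, hz2⟩ := mem_closure_iff.1 hy.2 U₁ hU₁open h
      have : z ∈ U₁ ∩ U₂ := ⟨hz1, hz2⟩
      rw [hU₁₂] at this
      exact this
    · obtain ⟨z, hz1, hz2⟩ := mem_closure_iff.1 hy.1 U₂ hU₂open h
      have : z ∈ U₁ ∩ U₂ := ⟨hz2, hz1⟩
      rw [hU₁₂] at this
      exact this
  -- pick the generic point of an irreducible component of `W`
  have : QuasiSober ↥W := hWclosed.isClosedEmbedding_subtypeVal.quasiSober
  let w₀' : ↥W := ⟨w₀, hw₀1, hw₀2⟩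
  have hcomp_irr : IsIrreducible (irreducibleComponent w₀') := isIrreducible_irreducibleComponent
  have hcomp_closed : IsClosed (irreducibleComponent w₀') := isClosed_irreducibleComponent
  have hgp := hcomp_irr.isGenericPoint_genericPoint hcomp_closed
  set ξ : ↥W := hcomp_irr.genericPoint with hξ
  have hξmax : ∀ y : ↥W, y ⤳ ξ → y = ξ := by
    intro y hy
    have hcl : IsIrreducible (closure ({y} : Set ↥W)) := isIrreducible_singleton.closure
    have hsub : irreducibleComponent w₀' ⊆ closure ({y} : Set ↥W) := by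
      rw [← hgp.def]
      exact closure_minimal (Set.singleton_subset_iff.2 (specializes_iff_mem_closure.1 hy))
        isClosed_closure
    have hmem : irreducibleComponent w₀' ∈ irreducibleComponents ↥W :=
      irreducibleComponent_mem_irreducibleComponents w₀'
    have hle : closure ({y} : Set ↥W) ⊆ irreducibleComponent w₀' := hmem.2 hcl hsub
    have hyξ : ξ ⤳ y := hgp.specializes (hle (subset_closure rfl))
    exact (hy.antisymm hyξ).eq
  set x : X := (ξ : X) with hx
  have hxW : x ∈ W := ξ.2
  have hxZ : x ∈ Z := hWZ hxW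
  -- both closures contain a proper generization of `x`
  obtain ⟨t₁, ht₁U, ht₁x⟩ := exists_specializes_of_mem_closure hloc hU₁open hxW.1
  obtain ⟨t₂, ht₂U, ht₂x⟩ := exists_specializes_of_mem_closure hloc hU₂open hxW.2
  have ht₁ne : t₁ ≠ x := fun h => ht₁U.1 (h ▸ hxZ)
  have ht₂ne : t₂ ≠ x := fun h => ht₂U.1 (h ▸ hxZ)
  obtain ⟨x', ⟨hx'gen, hx'ne⟩, hx'1, hx'2⟩ := isPreconnected_closed_iff.1 (hgen x hxZ)
    (closure U₁) (closure U₂) isClosed_closure isClosed_closure
    (fun y _ => hclcover trivial)
    ⟨t₁, ⟨ht₁x, ht₁ne⟩, subset_closure ht₁U⟩ ⟨t₂, ⟨ht₂x, ht₂ne⟩, subset_closure ht₂U⟩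
  -- `x'` is a proper generization of `x` inside `W`: contradiction with maximality
  have : (⟨x', hx'1, hx'2⟩ : ↥W) ⤳ ξ := by
    rw [← Topology.IsInducing.subtypeVal.specializes_iff]
    exact hx'gen
  have := hξmax _ this
  exact hx'ne (congrArg Subtype.val this)

end Groth.Agent.S4951
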