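import Groth.Statements.S4956
import Groth.Agent.Lib.H80SecDimConstFP
import Groth.Agent.Lib.H80SecOpen

set_option autoImplicit false
open CategoryTheory AlgebraicGeometry
universe u v w
open EGA43

namespace Groth.Agent.S4956

/-- Let f : X ⟶ Y be a morphism of finite presentation with a section g, X_y^0 the connected component
of f⁻¹(y) containing g y, every X_y^0 geometrically irreducible over κ(y), and y₀ a point of Y such
that f is universally open at the generic point of X_{y₀}^0. Suppose moreover that either (α) the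
fibre over y₀ is geometrically reduced at g y₀ and the local ring O_{Y,y₀} is Noetherian, or (β) dim
X_{y'} = dim X_{y'}^0 for the generic point y' of every irreducible component of Y containing y₀.
Then y ↦ dim X_y^0 is constant on a neighbourhood of y₀. -/
theorem result {X Y : Scheme.{u}} (f : X ⟶ Y)
    [LocallyOfFinitePresentation f] [QuasiCompact f] [QuasiSeparated f] (g : Y ⟶ X) (hg : g ≫ f = 𝟙 Y)
    (hirr : ∀ y : Y, (∀ (K : Type u) [Field K] [Algebra (IsLocalRing.ResidueField (Y.presheaf.stalk y)) K],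
        IsIrreducible ((FBase.bcπ (f.fiberToSpecResidueField y) K ≫ f.fiberι y).base ⁻¹' connectedComponentIn (f.base ⁻¹' {y}) (g.base y))))
    (y₀ : Y) (hopen : ∀ ξ ∈ connectedComponentIn (f.base ⁻¹' {y₀}) (g.base y₀), connectedComponentIn (f.base ⁻¹' {y₀}) (g.base y₀) ⊆ closure {ξ} → EGA43.IsUnivOpenAt f ξ)
    (hαβ : (FBase.IsGeomReducedAt (f.fiberToSpecResidueField (f.base (g.base y₀))) (f.asFiber (g.base y₀)) ∧
        IsNoetherianRing (Y.presheaf.stalk y₀)) ∨
      (∀ y' : Y, y₀ ∈ closure {y'} → closure {y'} ∈ irreducibleComponents (Y : Type u) →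
        topologicalKrullDim ↥(f.fiber y') = topologicalKrullDim ↥(connectedComponentIn (f.base ⁻¹' {y'}) (g.base y')))) :
    ∃ V ∈ nhds y₀, ∀ z ∈ V, topologicalKrullDim ↥(connectedComponentIn (f.base ⁻¹' {z}) (g.base z)) = topologicalKrullDim ↥(connectedComponentIn (f.base ⁻¹' {y₀}) (g.base y₀)) := by
  have hlft : LocallyOfFiniteType f := inferInstance
  have hfg : ∀ y : Y, f.base (g.base y) = y := by
    intro y
    have := congrArg (fun φ : Y ⟶ Y => φ.base y) hg
    simpa using this
  have hC : ∀ y : Y, IsIrreducible (connectedComponentIn (f.base ⁻¹' {y}) (g.base y)) := fun y =>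
    Groth.Agent.Lib.H80SecOpen.isIrreducible_sectionComponent f g y (hirr y _)
  have key : ∀ y : Y, topologicalKrullDim ↥(connectedComponentIn (f.base ⁻¹' {y}) (g.base y)) =
      FlatMor.fibreDimAt f (g.base y) := fun y =>
    Groth.Agent.Lib.H80SecCompBC.dim_connectedComponentIn_eq' f y (g.base y) (hfg y) (hC y)
  -- generizations have smaller section dimension
  have husc : ∀ y' z : Y, y' ⤳ z → FlatMor.fibreDimAt f (g.base y') ≤
      FlatMor.fibreDimAt f (g.base z) := by
    intro y' z hy'z
    obtain ⟨wz, -, -, -, hwz⟩ := Groth.Agent.Lib.H30IrrFib.exists_rt_eq_fibreDimAt f (g.base z)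
    have hopenz := Groth.Agent.S0402.result f (Groth.Agent.Lib.H30DimRel.rt f wz)
    have hgz : g.base z ∈ {x : X | FlatMor.fibreDimAt f x ≤
        ((Groth.Agent.Lib.H30DimRel.rt f wz : ℕ) : WithBot ℕ∞)} := le_of_eq hwz.symm
    have hsp : g.base y' ⤳ g.base z := hy'z.map g.base.hom.continuous
    have := hsp.mem_open hopenz hgz
    rw [← hwz]
    exact this
  obtain ⟨w, -, -, -, hw4⟩ := Groth.Agent.Lib.H30IrrFib.exists_rt_eq_fibreDimAt f (g.base y₀)
  -- lower bound at all generizations of `y₀`
  have hle : ∀ ξ : Y, ξ ⤳ y₀ → ((Groth.Agent.Lib.H30DimRel.rt f w : ℕ) : WithBot ℕ∞) ≤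
      FlatMor.fibreDimAt f (g.base ξ) := by
    intro ξ hξ
    rw [hw4, ← key, ← key]
    rcases hαβ with ⟨hα, hN⟩ | hβ
    · by_cases hne : ξ = y₀
      · rw [hne]
      obtain ⟨A, hAring, hAdom, hAdvr, h, η, hcl, hη⟩ :=
        Groth.Agent.Lib.H80SecDimConstFP.exists_dvr_map_of_isNoetherianRing_stalk y₀ ξ hne hξ
      subst hcl
      have hηne : η ≠ IsLocalRing.closedPoint A := by
        intro e
        apply hne
        rw [← hη, e]
      have := Groth.Agent.Lib.H80SecDimConstFP.dim_sectionComponent_le_of_dvr_map f g hg hirr h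
        (IsLocalRing.closedPoint A) η rfl hηne hopen hα
      rw [hη] at this
      exact this
    · obtain ⟨q, hqξ, hqcomp⟩ := Groth.Agent.Lib.H80SecDimConstFP.exists_maximal_generization ξ
      have hqy₀ : q ⤳ y₀ := hqξ.trans hξ
      have h1 := Groth.Agent.Lib.H80SecDimConst.dim_sectionComponent_le_of_dim_fiber_eq f g hg y₀ q
        hqy₀ (hC y₀) hopen (hβ q (specializes_iff_mem_closure.mp hqy₀) hqcomp)
      refine h1.trans ?_
      rw [key, key]
      exact husc q ξ hqξ
  have hnhds := Groth.Agent.Lib.H80FibDimCons.setOf_le_fibreDimAt_section_mem_nhds f g y₀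
    (Groth.Agent.Lib.H30DimRel.rt f w) hle
  have hopenU := Groth.Agent.S0402.result f (Groth.Agent.Lib.H30DimRel.rt f w)
  have hmem : g.base y₀ ∈ {x : X | FlatMor.fibreDimAt f x ≤
      ((Groth.Agent.Lib.H30DimRel.rt f w : ℕ) : WithBot ℕ∞)} := le_of_eq hw4.symm
  have hpre := (hopenU.preimage g.base.hom.continuous).mem_nhds hmem
  refine ⟨_, Filter.inter_mem hnhds hpre, ?_⟩
  rintro z ⟨hzN, hzU⟩
  rw [key, key, ← hw4]
  exact le_antisymm hzU hzN

end Groth.Agent.S4956
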