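import Groth.Statements.S4958
import Mathlib
import Groth.Agent.Lib.H56OpenComp4

set_option autoImplicit false
open CategoryTheory AlgebraicGeometry
universe u v w
open EGA43

namespace Groth.Agent.S4958

/-- Let Y be an irreducible locally Noetherian scheme with generic point η, f : X ⟶ Y a morphism of
finite type and y a point of Y whose local ring O_{Y,y} is universally catenary. Suppose that dim
O_{X,z} = dim O_{Y,y} for every maximal point z of the fibre X_y. For z' in Y let E(z') be the set
of dimensions of the irreducible components of X_{z'}. Then E(y) ⊆ E(η), and hence dim X_y ≤ dim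
X_η. -/
theorem result {X Y : Scheme.{u}} [IrreducibleSpace Y]
    [IsLocallyNoetherian Y] (f : X ⟶ Y) [LocallyOfFiniteType f] [QuasiCompact f] (y : Y)
    (hcat : CAlg.IsUniversallyCatenary (Y.presheaf.stalk y))
    (hb : ∀ z : X, f.base z = y → (∀ z' : X, f.base z' = y → z ∈ closure {z'} → z' = z) →
      ringKrullDim (X.presheaf.stalk z) = ringKrullDim (Y.presheaf.stalk y)) :
    letI E : Y → Set (WithBot ℕ∞) := fun z =>
      (fun Z : Set ↥(f.fiber z) => topologicalKrullDim ↥Z) '' irreducibleComponents ↥(f.fiber z)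
    E y ⊆ E (genericPoint Y) ∧
      topologicalKrullDim ↥(f.fiber y) ≤ topologicalKrullDim ↥(f.fiber (genericPoint Y)) := by
  have hsub : Groth.Agent.Lib.H56OpenDim.compDims f y ⊆
      Groth.Agent.Lib.H56OpenDim.compDims f (genericPoint Y) := by
    rintro n ⟨z, hz, hzmax, rfl⟩
    have hdim := hb z hz (fun z' hz' hcl => hzmax z' (specializes_iff_mem_closure.mpr hcl)
      (hz'.trans hz.symm))
    obtain ⟨ζ, -, hζmax, hfζmax, htd⟩ :=
      Groth.Agent.Lib.H56OpenDim.exists_maxPt_tdeg_eq_of_dim_eq f z (hz ▸ hcat) hzmax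
        (by rw [hdim, hz])
    have hη : genericPoint Y = f.base ζ := hfζmax _ (genericPoint_specializes _)
    exact ⟨ζ, hη.symm, fun v hv _ => hζmax v hv, htd⟩
  refine ⟨?_, Groth.Agent.Lib.H56OpenDim.dim_fiber_le_of_compDims_subset f y _ hsub⟩
  simp only [Groth.Agent.Lib.H56OpenDim.image_dim_irreducibleComponents_fiber]
  exact Set.image_mono hsub

end Groth.Agent.S4958
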