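import Groth.Statements.S4959
-- import your own Groth.Agent.* helpers here

set_option autoImplicit false
open CategoryTheory AlgebraicGeometry
universe u v w
open EGA43

namespace Groth.Agent.S4959

open CategoryTheory.Limits in
/-- Let f : X ⟶ Y be a morphism of schemes and g : Y' ⟶ Y a surjective morphism which is either proper,
or flat and quasi-compact. If the base change f' : X ×_Y Y' ⟶ Y' is universally submersive (all of
its base changes are topological quotient maps), then f is universally submersive. -/
theorem result {X Y Y' : Scheme.{u}} (f : X ⟶ Y) (g : Y' ⟶ Y) [Surjective g]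
    (hg : IsProper g ∨ (Flat g ∧ QuasiCompact g))
    (h : MorphismProperty.universally (topologically @Topology.IsQuotientMap) (pullback.snd f g)) :
    MorphismProperty.universally (topologically @Topology.IsQuotientMap) f := by
  intro X' Z i₁ i₂ f' H
  -- Z' = Z ×_Y Y'
  let p₁ : pullback i₂ g ⟶ Z := pullback.fst i₂ g
  let p₂ : pullback i₂ g ⟶ Y' := pullback.snd i₂ g
  have hp₁ : Topology.IsQuotientMap p₁ := by
    have : Surjective p₁ := by dsimp only [p₁]; infer_instance
    rcases hg with hg | ⟨hg1, hg2⟩
    · have : IsProper p₁ := by dsimp only [p₁]; infer_instance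
      exact (Scheme.Hom.isClosedMap p₁).isQuotientMap p₁.continuous p₁.surjective
    · have : Flat p₁ := by dsimp only [p₁]; infer_instance
      have : QuasiCompact p₁ := by dsimp only [p₁]; infer_instance
      exact Flat.isQuotientMap_of_surjective p₁
  -- X'' = X' ×_Z Z'
  let q₁ : pullback f' p₁ ⟶ X' := pullback.fst f' p₁
  let q₂ : pullback f' p₁ ⟶ pullback i₂ g := pullback.snd f' p₁
  have hbig : IsPullback q₂ (q₁ ≫ i₁) (p₁ ≫ i₂) f :=
    (IsPullback.of_hasPullback f' p₁).flip.paste_vert H
  have hw : (q₁ ≫ i₁) ≫ f = (q₂ ≫ p₂) ≫ g := by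
    have e2 : p₁ ≫ i₂ = p₂ ≫ g := pullback.condition
    rw [← hbig.w, Category.assoc, e2]
  let r : pullback f' p₁ ⟶ pullback f g := pullback.lift (q₁ ≫ i₁) (q₂ ≫ p₂) hw
  have hsq : IsPullback q₂ r p₂ (pullback.snd f g) := by
    have hbig' : IsPullback q₂ (r ≫ pullback.fst f g) (p₂ ≫ g) f := by
      have e1 : r ≫ pullback.fst f g = q₁ ≫ i₁ := pullback.lift_fst _ _ _
      have e2 : p₂ ≫ g = p₁ ≫ i₂ := pullback.condition.symm
      rw [e1, e2]
      exact hbig
    exact IsPullback.of_bot hbig' (pullback.lift_snd _ _ _).symm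
      (IsPullback.of_hasPullback f g).flip
  have hq₂ : Topology.IsQuotientMap q₂ := h _ _ _ hsq
  have hcomp : Topology.IsQuotientMap (f' ∘ q₁) := by
    have e : (f' : X' → Z) ∘ q₁ = p₁ ∘ q₂ := by
      have : q₁ ≫ f' = q₂ ≫ p₁ := pullback.condition
      ext x
      have := congrArg (fun φ => φ.base x) this
      simpa using this
    rw [e]
    exact hp₁.comp hq₂
  exact Topology.IsQuotientMap.of_comp q₁.continuous f'.continuous hcomp

end Groth.Agent.S4959
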