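import Groth.Statements.S4965
import Groth.Agent.Lib.H79CompDimsOpen
import Groth.Agent.Lib.H79FibDimLocConst
import Groth.Agent.Lib.Fitting82E
import Groth.Agent.Lib.Fitting82C
import Groth.Agent.Lib.H90OXModFP
import Groth.Agent.Lib.SupportPullback

set_option autoImplicit false
open CategoryTheory AlgebraicGeometry
universe u v w
open EGA43

namespace Groth.Agent.S4965

set_option linter.style.haveILetI false

open TopologicalSpace Topology Groth.Agent.Lib.H79CompDimsOpen Groth.Agent.Lib.H56OpenDim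

theorem isHomeomorph_preimage_inter_range {Z X : Type*} [TopologicalSpace Z] [TopologicalSpace X]
    (i : Z → X) (hi : IsEmbedding i) (A : Set X) :
    IsHomeomorph (fun z : ↥(i ⁻¹' A) => (⟨i z.1, z.2, z.1, rfl⟩ : ↥(A ∩ Set.range i))) := by
  rw [isHomeomorph_iff_isEmbedding_surjective]
  constructor
  · have h1 : IsEmbedding (fun z : ↥(i ⁻¹' A) => i z.1) := hi.comp IsEmbedding.subtypeVal
    exact h1.codRestrict (A ∩ Set.range i) (fun z => ⟨z.2, z.1, rfl⟩)
  · rintro ⟨x, hxA, z, rfl⟩
    exact ⟨⟨z, hxA⟩, rfl⟩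


/-- Let f : X ⟶ Y be a proper morphism of finite presentation and F a finitely presented O_X-module
which is f-flat; for y in Y write F_y for the restriction of F to the fibre X_y. Let Φ be a finite
set of natural numbers. Then the set of points y of Y such that the set of dimensions of the
irreducible components of Supp(F_y) contains Φ is open in Y. -/
theorem result {X Y : Scheme.{u}} (f : X ⟶ Y) [IsProper f]
    [LocallyOfFinitePresentation f] (F : X.Modules) (hF : CohB1.IsFP F) (hflat : FlatMod.IsFlatOver f F) (Φ : Finset ℕ) :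
    IsOpen {y : Y | ∀ n ∈ Φ, ∃ Z ∈ irreducibleComponents ↥{z : ↥(f.fiber y) | Nontrivial (((Scheme.Modules.pullback (f.fiberι y)).obj F).presheaf.stalk z)},
      topologicalKrullDim ↥Z = (n : WithBot ℕ∞)} := by
  haveI : SheafOfModules.IsFinitePresentation (R := X.ringCatSheaf) F := hF
  haveI : F.IsQuasicoherent := inferInstance
  haveI : F.IsFiniteType := inferInstance
  let I := Fitt.sheafIdeal F 0
  let i := I.subschemeι
  have hi : Set.range i = CohB1.support F := by
    rw [I.range_subschemeι]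
    exact Groth.Agent.Lib.Fitting82.support_sheafIdeal_zero F
  haveI : LocallyOfFinitePresentation i := by
    apply Groth.Agent.Lib.H79FibDimLocConst.lfp_subschemeι_of_fg
    intro U
    rw [Groth.Agent.Lib.Fitting82.sheafIdeal_ideal F 0 U]
    haveI := Groth.Agent.Lib.H90OXModFP.finitePresentation_sections F U.2
    exact Groth.Agent.Lib.Fitting82.ideal_fg_of_finitePresentation 0
  haveI : IsProper (i ≫ f) := inferInstance
  haveI : QuasiCompact (i ≫ f) := inferInstance
  haveI : LocallyOfFinitePresentation (i ≫ f) := inferInstance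
  have hgen : ∀ z : I.subscheme, ∀ η : Y, η ⤳ (i ≫ f) z →
      ∃ ξ : I.subscheme, ξ ⤳ z ∧ (i ≫ f) ξ = η ∧
        FlatMor.fibreDimAt (i ≫ f) z ≤ FlatMor.fibreDimAt (i ≫ f) ξ := by
    intro z η hη
    obtain ⟨ξ, hξ0, hξ1, hξ2⟩ := exists_specializes_fibreDimAt_le_of_flat f F hflat i hi
      z η (by rw [← Scheme.Hom.comp_apply]; exact hη)
    exact ⟨ξ, hξ0, by rw [Scheme.Hom.comp_apply]; exact hξ1, hξ2⟩
  have key : ∀ (y : Y) (n : ℕ), HasCompDim ↥{z : ↥(f.fiber y) | Nontrivial (((Scheme.Modules.pullback (f.fiberι y)).obj F).presheaf.stalk z)} (n : WithBot ℕ∞) ↔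
      n ∈ compDims (i ≫ f) y := by
    intro y n
    have hset : {z : ↥(f.fiber y) | Nontrivial (((Scheme.Modules.pullback (f.fiberι y)).obj F).presheaf.stalk z)} =
        (f.fiberι y) ⁻¹' CohB1.support F := by
      ext z
      simp only [Set.mem_ofPred_eq, Set.mem_preimage, CohB1.support]
      rw [← not_subsingleton_iff_nontrivial,
        Groth.Agent.Lib.SupportPullback.subsingleton_stalk_pullback_iff (f.fiberι y) F z]
    rw [hset, ← hasCompDim_fiber_iff]
    have h1 := hasCompDim_iff_of_isHomeomorph _ ((i ≫ f).fiberHomeo y).isHomeomorph (n : WithBot ℕ∞)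
    have h2 := hasCompDim_iff_of_isHomeomorph _ (isHomeomorph_preimage_inter_range i
      i.isClosedEmbedding.isEmbedding (f ⁻¹' {y})) (n : WithBot ℕ∞)
    have h3 := hasCompDim_iff_of_isHomeomorph _ (isHomeomorph_preimage_inter_range (f.fiberι y)
      (f.fiberι y).isEmbedding (CohB1.support F)) (n : WithBot ℕ∞)
    rw [hi] at h2
    rw [Scheme.Hom.range_fiberι] at h3
    rw [h1, h3, Set.inter_comm, ← h2]
    rfl
  have hset : {y : Y | ∀ n ∈ Φ, ∃ Z ∈ irreducibleComponents ↥{z : ↥(f.fiber y) | Nontrivial (((Scheme.Modules.pullback (f.fiberι y)).obj F).presheaf.stalk z)},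
      topologicalKrullDim ↥Z = (n : WithBot ℕ∞)} = ⋂ n ∈ Φ, {y : Y | n ∈ compDims (i ≫ f) y} := by
    ext y
    simp only [Set.mem_ofPred_eq, Set.mem_iInter]
    exact forall₂_congr fun n _ => key y n
  rw [hset]
  exact isOpen_biInter_finset fun n _ => isOpen_setOf_mem_compDims_of_gen (i ≫ f) hgen n

end Groth.Agent.S4965
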