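import Groth.Statements.S4973
import Mathlib.AlgebraicGeometry.Morphisms.ClosedImmersion
import Mathlib.AlgebraicGeometry.PullbackCarrier
import Mathlib.AlgebraicGeometry.IdealSheaf.Subscheme
import Mathlib.AlgebraicGeometry.FunctionField

set_option autoImplicit false
open CategoryTheory AlgebraicGeometry
universe u v w
open EGA43

namespace Groth.Agent.S4973

open CategoryTheory.Limits in
/-- Let Y₀ and Y be integral schemes, g : Y ⟶ Y₀ a dominant morphism, f₀ : X₀ ⟶ Y₀ a dominant morphism
whose fibre over the generic point of Y₀ is irreducible, and X'₀ an irreducible component of X₀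
meeting that generic fibre (it is unique), regarded as a reduced closed subscheme of X₀. If X = X₀
×_{Y₀} Y is an integral scheme, then the morphism X'₀ ×_{Y₀} Y ⟶ X induced by the inclusion of X'₀
is an isomorphism. -/
theorem result {X₀ Y₀ Y : Scheme.{u}} [IsIntegral Y₀] [IsIntegral Y]
    (g : Y ⟶ Y₀) [IsDominant g] (f₀ : X₀ ⟶ Y₀) [IsDominant f₀]
    (hirr : IsIrreducible (f₀.base ⁻¹' {genericPoint Y₀}))
    (C : TopologicalSpace.Closeds X₀) (hC : (C : Set X₀) ∈ irreducibleComponents (X₀ : Type u))
    (hCη : ((C : Set X₀) ∩ f₀.base ⁻¹' {genericPoint Y₀}).Nonempty) [IsIntegral (pullback f₀ g)]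
    (e₁ : ((Scheme.IdealSheafData.vanishingIdeal C).subschemeι ≫ f₀) ≫ 𝟙 Y₀ =
      (Scheme.IdealSheafData.vanishingIdeal C).subschemeι ≫ f₀) (e₂ : g ≫ 𝟙 Y₀ = 𝟙 Y ≫ g) :
    IsIso (pullback.map ((Scheme.IdealSheafData.vanishingIdeal C).subschemeι ≫ f₀) g f₀ g
      (Scheme.IdealSheafData.vanishingIdeal C).subschemeι (𝟙 Y) (𝟙 Y₀) e₁ e₂) := by
  set ι := (Scheme.IdealSheafData.vanishingIdeal C).subschemeι with hι
  set j := pullback.map (ι ≫ f₀) g f₀ g ι (𝟙 Y) (𝟙 Y₀) e₁ e₂ with hj
  -- `j` is a closed immersion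
  have hpb : IsPullback j (pullback.fst (ι ≫ f₀) g) (pullback.fst f₀ g) ι := by
    have hR := (IsPullback.of_hasPullback f₀ g).flip
    have hB := (IsPullback.of_hasPullback (ι ≫ f₀) g).flip
    refine IsPullback.of_right ?_ ?_ hR
    · have e1 : j ≫ pullback.snd f₀ g = pullback.snd (ι ≫ f₀) g := by
        rw [hj, pullback.lift_snd, Category.comp_id]
      rw [e1]
      exact hB
    · rw [hj, pullback.lift_fst]
  haveI hcl : IsClosedImmersion j :=
    MorphismProperty.of_isPullback (P := @IsClosedImmersion) hpb.flip inferInstance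
  -- the range of `j`
  have hrange : Set.range j = (pullback.fst f₀ g) ⁻¹' (C : Set X₀) := by
    rw [hj, Scheme.Pullback.range_map]
    have h1 : Set.range ι = (C : Set X₀) := by
      rw [hι, Scheme.IdealSheafData.range_subschemeι,
        Scheme.IdealSheafData.coe_support_vanishingIdeal]
    have h2 : Set.range (𝟙 Y : Y ⟶ Y) = Set.univ := by
      rw [Set.range_eq_univ]
      exact fun y => ⟨y, rfl⟩
    rw [h1, h2, Set.preimage_univ, Set.inter_univ]
  -- generic points
  have hgη : g (genericPoint Y) = genericPoint Y₀ := by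
    have hgen : IsGenericPoint (g (genericPoint Y)) (Set.univ : Set Y₀) := by
      rw [isGenericPoint_def, ← Set.univ_subset_iff, ← g.denseRange.closure_range]
      apply closure_minimal _ isClosed_closure
      rintro _ ⟨y, rfl⟩
      have h1 : genericPoint Y ⤳ y := (genericPoint_spec Y).specializes (Set.mem_univ y)
      exact (h1.map g.continuous).mem_closed isClosed_closure (subset_closure rfl)
    exact hgen.eq (genericPoint_spec Y₀)
  -- the generic fibre lies in `C`
  obtain ⟨c, hcC, hcF⟩ := hCη
  have hcF' : f₀ c = genericPoint Y₀ := hcF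
  have hCirr : IsIrreducible (C : Set X₀) := hC.1
  have hFC : f₀.base ⁻¹' {genericPoint Y₀} ⊆ (C : Set X₀) := by
    set γ := hCirr.genericPoint with hγ
    have hγC : IsGenericPoint γ (C : Set X₀) := hCirr.isGenericPoint_genericPoint C.isClosed
    have hγc : γ ⤳ c := hγC.specializes hcC
    have hfγ : f₀ γ = genericPoint Y₀ := by
      have h1 : f₀ γ ⤳ genericPoint Y₀ := hcF' ▸ hγc.map f₀.continuous
      have h2 : genericPoint Y₀ ⤳ f₀ γ := (genericPoint_spec Y₀).specializes (Set.mem_univ _)
      exact (h1.antisymm h2).eq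
    have hγF : γ ∈ f₀.base ⁻¹' {genericPoint Y₀} := hfγ
    have hcirr : IsIrreducible (closure (f₀.base ⁻¹' {genericPoint Y₀})) := hirr.closure
    have hle : (C : Set X₀) ≤ closure (f₀.base ⁻¹' {genericPoint Y₀}) := by
      rw [← hγC.def]
      exact closure_mono (Set.singleton_subset_iff.mpr hγF)
    exact subset_closure.trans (hC.2 hcirr hle)
  -- the generic point of the base change lies in the range of `j`
  obtain ⟨z, hz1, hz2⟩ := Scheme.Pullback.exists_preimage_pullback (f := f₀) (g := g) c
    (genericPoint Y) (hcF'.trans hgη.symm)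
  set ξ := genericPoint ↥(pullback f₀ g) with hξ
  have hξz : ξ ⤳ z := (genericPoint_spec _).specializes (Set.mem_univ z)
  have hsnd : (pullback.snd f₀ g) ξ = genericPoint Y := by
    have h1 : (pullback.snd f₀ g) ξ ⤳ genericPoint Y := hz2 ▸ hξz.map (pullback.snd f₀ g).continuous
    have h2 : genericPoint Y ⤳ (pullback.snd f₀ g) ξ :=
      (genericPoint_spec Y).specializes (Set.mem_univ _)
    exact (h1.antisymm h2).eq
  have hfst : (pullback.fst f₀ g) ξ ∈ (C : Set X₀) := by
    apply hFC
    change f₀ ((pullback.fst f₀ g) ξ) = genericPoint Y₀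
    rw [← Scheme.Hom.comp_apply, pullback.condition, Scheme.Hom.comp_apply, hsnd, hgη]
  have hξmem : ξ ∈ Set.range j := by
    rw [hrange]
    exact hfst
  haveI : Surjective j := by
    refine ⟨fun x => ?_⟩
    have hclosed : IsClosed (Set.range j) := j.isClosedEmbedding.isClosed_range
    have hx : ξ ⤳ x := (genericPoint_spec _).specializes (Set.mem_univ x)
    exact hx.mem_closed hclosed hξmem
  exact isIso_of_isClosedImmersion_of_surjective j

end Groth.Agent.S4973
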