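-- Statement S4974.
import Groth.Statements.S4974
import Groth.Agent.S4944
import Groth.Agent.Lib.HenselQFLocalization61
import Mathlib

set_option autoImplicit false
open CategoryTheory AlgebraicGeometry
universe u v w
open EGA43

namespace Groth.Agent.S4974

open IsLocalRing in
theorem hens (A : Type*) [CommRing A] [IsLocalRing A]
    [IsAdicComplete (maximalIdeal A) A] : HenselianLocalRing A where
  is_henselian f hf a₀ h₁ h₂ :=
    (IsAdicComplete.henselianRing A (maximalIdeal A)).is_henselian f hf a₀ h₁ (h₂.map _)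

/-- ring-level core -/
theorem ring_core (A : Type u) [CommRing A] [IsDomain A] [HenselianLocalRing A]
    (D : Type u) [CommRing D] [IsDomain D] [Algebra A D] [Algebra.FiniteType A D]
    (Q : Ideal D) [Q.IsPrime] [Q.LiesOver (IsLocalRing.maximalIdeal A)] [Algebra.QuasiFiniteAt A Q] :
    Module.Finite A D ∧ IsLocalRing D := by
  obtain ⟨ε, hε, hεQ, hfin, hloc⟩ :=
    Groth.Agent.Lib.HenselQFLocalization61.exists_idem_isLocalization A D Q
  have hε1 : ε = 1 := by
    rcases IsIdempotentElem.iff_eq_zero_or_one.mp hε with h | h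
    · exact absurd (h ▸ Q.zero_mem) hεQ
    · exact h
  subst hε1
  have hbot : Ideal.span {(1 : D) - 1} = ⊥ := by simp
  let e : (D ⧸ Ideal.span {(1 : D) - 1}) ≃ₐ[A] D :=
    (Ideal.quotientEquivAlgOfEq A hbot).trans (AlgEquiv.quotientBot A D)
  refine ⟨Module.Finite.equiv e.toLinearEquiv, ?_⟩
  have : IsLocalRing (D ⧸ Ideal.span {(1 : D) - 1}) := IsLocalization.AtPrime.isLocalRing _ Q
  exact e.toRingEquiv.isLocalRing


theorem main {A : Type u} [CommRing A] [IsDomain A]
    [IsNoetherianRing A] [IsLocalRing A] [IsAdicComplete (IsLocalRing.maximalIdeal A) A] {X : Scheme.{u}}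
    (f : X ⟶ Spec (CommRingCat.of A)) [LocallyOfFiniteType f] (x : X) (hx : f.base x = IsLocalRing.closedPoint A)
    (hf : EGA43.IsEquidimAt f x) (hcl : ∀ x' : X, f.base x' = f.base x → x ⤳ x' → x' = x) :
    ∃ (A' : Type u) (_ : CommRing A') (_ : IsDomain A') (_ : IsLocalRing A') (_ : Algebra A A') (_ : Module.Finite A A'),
      Function.Injective (algebraMap A A') ∧
      ∃ h : Spec (CommRingCat.of A') ⟶ X, h ≫ f = Spec.map (CommRingCat.ofHom (algebraMap A A')) ∧
        IsImmersion h ∧ x ∈ Set.range h.base := by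
  have hH : HenselianLocalRing A := hens A
  have : IrreducibleSpace (Spec (CommRingCat.of A)) :=
    inferInstanceAs (IrreducibleSpace (PrimeSpectrum A))
  obtain ⟨T, i, hi, hTirr, hTred, ⟨t₀, ht₀⟩, hlft, hlqf, hqc, hdom⟩ :=
    Groth.Agent.S4944.result f x hf hcl
  have hTint : IsIntegral T := isIntegral_of_irreducibleSpace_of_isReduced T
  obtain ⟨_, ⟨W, hW : IsAffineOpen W, rfl⟩, ht₀W, -⟩ :=
    T.isBasis_affineOpens.exists_subset_of_mem_open (Set.mem_univ t₀) isOpen_univ
  have hWne : Nonempty W := ⟨⟨t₀, ht₀W⟩⟩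
  have hDdom : IsDomain Γ(T, W) := inferInstance
  let g : Spec Γ(T, W) ⟶ Spec (CommRingCat.of A) := hW.fromSpec ≫ i ≫ f
  let φ : CommRingCat.of A ⟶ Γ(T, W) := Spec.preimage g
  have hφ : Spec.map φ = g := Spec.map_preimage g
  letI : Algebra A Γ(T, W) := φ.hom.toAlgebra
  have halg : algebraMap A Γ(T, W) = φ.hom := RingHom.algebraMap_toAlgebra _
  have hglft : LocallyOfFiniteType g := inferInstance
  have hglqf : LocallyQuasiFinite g := inferInstance
  have hft : Algebra.FiniteType A Γ(T, W) := by
    have h1 : φ.hom.FiniteType := by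
      rw [← hφ] at hglft
      exact (HasRingHomProperty.Spec_iff (P := @LocallyOfFiniteType)).mp hglft
    exact h1
  have hqf : Algebra.QuasiFinite A Γ(T, W) := by
    have h1 : φ.hom.QuasiFinite := by
      rw [← hφ] at hglqf
      exact (HasRingHomProperty.Spec_iff (P := @LocallyQuasiFinite)).mp hglqf
    exact h1
  -- the prime
  obtain ⟨q, hq⟩ : ∃ q : Spec Γ(T, W), hW.fromSpec.base q = t₀ := by
    have : t₀ ∈ Set.range hW.fromSpec.base := by rw [hW.range_fromSpec]; exact ht₀W
    exact this
  have hgq : g.base q = IsLocalRing.closedPoint A := by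
    simp only [g, Scheme.Hom.comp_base, TopCat.hom_comp, ContinuousMap.comp_apply]
    rw [hq, ht₀, hx]
  have hQprime : q.asIdeal.IsPrime := q.isPrime
  have hQover : q.asIdeal.LiesOver (IsLocalRing.maximalIdeal A) := by
    constructor
    rw [Ideal.under_def, halg]
    have h2 : (Spec.map φ).base q = IsLocalRing.closedPoint A := by rw [hφ]; exact hgq
    have h3 := congrArg PrimeSpectrum.asIdeal h2
    exact h3.symm
  have hQqf : Algebra.QuasiFiniteAt A q.asIdeal := inferInstance
  obtain ⟨hfin, hloc⟩ := ring_core A Γ(T, W) q.asIdeal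
  -- injectivity
  have hinj : Function.Injective (algebraMap A Γ(T, W)) := by
    have hWdom : IsDominant hW.fromSpec := by
      constructor
      have hr : Set.range hW.fromSpec.base = (W : Set T) := hW.range_fromSpec
      rw [DenseRange, hr]
      exact (W.isOpen.dense ⟨t₀, ht₀W⟩)
    have hgdom : IsDominant g := inferInstance
    have h4 : DenseRange (Spec.map φ).base := by rw [hφ]; exact hgdom.denseRange
    have h5 : RingHom.ker φ.hom ≤ nilradical A :=
      (PrimeSpectrum.denseRange_comap_iff_ker_le_nilRadical φ.hom).mp h4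
    rw [halg, RingHom.injective_iff_ker_eq_bot, eq_bot_iff]
    intro a ha
    have := h5 ha
    rw [nilradical_eq_zero] at this
    exact this
  refine ⟨Γ(T, W), inferInstance, hDdom, hloc, inferInstance, hfin, hinj, hW.fromSpec ≫ i, ?_, inferInstance, q, ?_⟩
  · rw [Category.assoc]
    change g = _
    rw [← hφ]
    congr 1
  · simp only [Scheme.Hom.comp_base, TopCat.hom_comp, ContinuousMap.comp_apply]
    rw [hq, ht₀]

/-- Consider a complete Noetherian local domain A and put Y = Spec A. Suppose f : X ⟶ Y is locally of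
finite type, and take a point x ∈ X mapping to the closed point of Y, where f is equidimensional at
x and x is closed in the fibre containing it. Then one can find a local domain A' that contains A
and is finite as an A-algebra, together with a Y-morphism h : Spec A' ⟶ X that is an immersion and
has x in its image. -/
theorem result {A : Type u} [CommRing A] [IsDomain A]
    [IsNoetherianRing A] [IsLocalRing A] [IsAdicComplete (IsLocalRing.maximalIdeal A) A] {X : Scheme.{u}}
    (f : X ⟶ Spec (CommRingCat.of A)) [LocallyOfFiniteType f] (x : X) (hx : f.base x = IsLocalRing.closedPoint A)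
    (hf : EGA43.IsEquidimAt f x) (hcl : ∀ x' : X, f.base x' = f.base x → x ⤳ x' → x' = x) :
    ∃ (A' : Type u) (_ : CommRing A') (_ : IsDomain A') (_ : IsLocalRing A') (_ : Algebra A A') (_ : Module.Finite A A'),
      Function.Injective (algebraMap A A') ∧
      ∃ h : Spec (CommRingCat.of A') ⟶ X, h ≫ f = Spec.map (CommRingCat.ofHom (algebraMap A A')) ∧
        IsImmersion h ∧ x ∈ Set.range h.base := by
  exact main f x hx hf hcl

end Groth.Agent.S4974
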