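import Groth.Statements.S5927
import Groth.Agent.Lib.H80SecDimConst

set_option autoImplicit false
open CategoryTheory AlgebraicGeometry
universe u
open EGA43

namespace Groth.Agent.S5927

/-- Let Y be a locally Noetherian scheme, f : X ⟶ Y a morphism locally of finite type with a section g :
Y ⟶ X, X_y^0 the connected component of f⁻¹(y) containing g y, every X_y^0 geometrically irreducible
over κ(y), and y₀ a point of Y such that f is universally open at the generic point of X_{y₀}^0.
Suppose moreover that either (α) the fibre f⁻¹(y₀) is geometrically reduced at g y₀, or (β) dim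
f⁻¹(y') = dim X_{y'}^0 for the generic point y' of every irreducible component of Y containing y₀.
Then y ↦ dim X_y^0 is constant on a neighbourhood of y₀. -/
theorem result {X Y : Scheme.{u}} [IsLocallyNoetherian Y] (f : X ⟶ Y)
    [LocallyOfFiniteType f] (g : Y ⟶ X) (hg : g ≫ f = 𝟙 Y)
    (hirr : ∀ y : Y, (∀ (K : Type u) [Field K] [Algebra (IsLocalRing.ResidueField (Y.presheaf.stalk y)) K],
        IsIrreducible ((FBase.bcπ (f.fiberToSpecResidueField y) K ≫ f.fiberι y).base ⁻¹' connectedComponentIn (f.base ⁻¹' {y}) (g.base y))))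
    (y₀ : Y) (hopen : ∀ ξ ∈ connectedComponentIn (f.base ⁻¹' {y₀}) (g.base y₀), connectedComponentIn (f.base ⁻¹' {y₀}) (g.base y₀) ⊆ closure {ξ} → EGA43.IsUnivOpenAt f ξ)
    (hαβ : FBase.IsGeomReducedAt (f.fiberToSpecResidueField (f.base (g.base y₀))) (f.asFiber (g.base y₀)) ∨
      (∀ y' : Y, y₀ ∈ closure {y'} → closure {y'} ∈ irreducibleComponents (Y : Type u) →
        topologicalKrullDim ↥(f.fiber y') = topologicalKrullDim ↥(connectedComponentIn (f.base ⁻¹' {y'}) (g.base y')))) :
    (∃ V ∈ nhds y₀, ∀ z ∈ V, topologicalKrullDim ↥(connectedComponentIn (f.base ⁻¹' {z}) (g.base z)) = topologicalKrullDim ↥(connectedComponentIn (f.base ⁻¹' {y₀}) (g.base y₀))) := by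
  have hfg : ∀ y : Y, f.base (g.base y) = y := by
    intro y
    have := congrArg (fun φ : Y ⟶ Y => φ.base y) hg
    simpa using this
  -- irreducibility of the section components
  have hC : ∀ y : Y, IsIrreducible (connectedComponentIn (f.base ⁻¹' {y}) (g.base y)) := by
    intro y
    have h := hirr y (IsLocalRing.ResidueField (Y.presheaf.stalk y))
    obtain ⟨π, hπ⟩ : ∃ π, π = (FBase.bcπ (f.fiberToSpecResidueField y)
      (IsLocalRing.ResidueField (Y.presheaf.stalk y)) ≫ f.fiberι y) := ⟨_, rfl⟩
    rw [← hπ] at h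
    have hsurj : Function.Surjective (FBase.bcπ (f.fiberToSpecResidueField y)
        (IsLocalRing.ResidueField (Y.presheaf.stalk y))).base := by
      unfold FBase.bcπ
      have : IsIso (Spec.map (CommRingCat.ofHom (algebraMap
          (IsLocalRing.ResidueField (Y.presheaf.stalk y))
          (IsLocalRing.ResidueField (Y.presheaf.stalk y))))) := by
        have : CommRingCat.ofHom (algebraMap (IsLocalRing.ResidueField (Y.presheaf.stalk y))
          (IsLocalRing.ResidueField (Y.presheaf.stalk y))) = 𝟙 _ := rfl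
        rw [this]; infer_instance
      exact (inferInstance : Surjective (Limits.pullback.fst (f.fiberToSpecResidueField y)
        (Spec.map (CommRingCat.ofHom (algebraMap
          (IsLocalRing.ResidueField (Y.presheaf.stalk y))
          (IsLocalRing.ResidueField (Y.presheaf.stalk y))))))).surj
    have hrange : Set.range π.base = f.base ⁻¹' {y} := by
      rw [hπ, Scheme.Hom.comp_base, TopCat.coe_comp, Set.range_comp, hsurj.range_eq,
        Set.image_univ, Scheme.Hom.range_fiberι]
    have hsub : connectedComponentIn (f.base ⁻¹' {y}) (g.base y) ⊆ Set.range π.base := by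
      rw [hrange]; exact connectedComponentIn_subset _ _
    have := h.image π.base π.base.hom.continuous.continuousOn
    rwa [Set.image_preimage_eq_of_subset hsub] at this
  have key : ∀ y : Y, topologicalKrullDim ↥(connectedComponentIn (f.base ⁻¹' {y}) (g.base y)) =
      FlatMor.fibreDimAt f (g.base y) := fun y =>
    Groth.Agent.Lib.H80SecCompBC.dim_connectedComponentIn_eq' f y (g.base y) (hfg y) (hC y)
  -- lower bound at the maximal generizations of `y₀`
  have hle : ∀ y' : Y, y₀ ∈ closure {y'} → closure {y'} ∈ irreducibleComponents (Y : Type u) →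
      topologicalKrullDim ↥(connectedComponentIn (f.base ⁻¹' {y₀}) (g.base y₀)) ≤
        topologicalKrullDim ↥(connectedComponentIn (f.base ⁻¹' {y'}) (g.base y')) := by
    intro y' hy' hcomp
    have hsp : y' ⤳ y₀ := specializes_iff_mem_closure.mpr hy'
    rcases hαβ with hα | hβ
    · exact Groth.Agent.Lib.H80SecDimConst.dim_sectionComponent_le_of_isGeomReducedAt f g hg hirr
        y₀ y' hsp hopen hα
    · exact Groth.Agent.Lib.H80SecDimConst.dim_sectionComponent_le_of_dim_fiber_eq f g hg y₀ y' hsp
        (hC y₀) hopen (hβ y' hy' hcomp)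
  obtain ⟨N, hN, hNprop⟩ := Groth.Agent.Lib.H80SecDimConst.exists_nhds_maximal_generizations Y y₀
  obtain ⟨w, -, -, -, hw4⟩ := Groth.Agent.Lib.H30IrrFib.exists_rt_eq_fibreDimAt f (g.base y₀)
  have hopenU := Groth.Agent.S0402.result f (Groth.Agent.Lib.H30DimRel.rt f w)
  have hmem : g.base y₀ ∈ {x : X | FlatMor.fibreDimAt f x ≤
      ((Groth.Agent.Lib.H30DimRel.rt f w : ℕ) : WithBot ℕ∞)} := le_of_eq hw4.symm
  have hpre := (hopenU.preimage g.base.hom.continuous).mem_nhds hmem
  refine ⟨N ∩ _, Filter.inter_mem hN hpre, ?_⟩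
  rintro z ⟨hzN, hzU⟩
  apply le_antisymm
  · rw [key, key, ← hw4]
    exact hzU
  · obtain ⟨y', hy'z, hy'y₀, hy'comp⟩ := hNprop z hzN
    refine (hle y' hy'y₀ hy'comp).trans ?_
    rw [key, key]
    obtain ⟨wz, -, -, -, hwz⟩ := Groth.Agent.Lib.H30IrrFib.exists_rt_eq_fibreDimAt f (g.base z)
    have hopenz := Groth.Agent.S0402.result f (Groth.Agent.Lib.H30DimRel.rt f wz)
    have hgz : g.base z ∈ {x : X | FlatMor.fibreDimAt f x ≤
        ((Groth.Agent.Lib.H30DimRel.rt f wz : ℕ) : WithBot ℕ∞)} := le_of_eq hwz.symm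
    have hsp : g.base y' ⤳ g.base z := hy'z.map g.base.hom.continuous
    have := hsp.mem_open hopenz hgz
    rw [← hwz]
    exact this

end Groth.Agent.S5927
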