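import Groth.Statements.S4975
import Groth.Agent.Lib.H80SecOpen
import Groth.Agent.S3458
import Groth.Agent.S5927

set_option autoImplicit false
open CategoryTheory AlgebraicGeometry
universe u v w
open EGA43

namespace Groth.Agent.S4975

/-- Let f : X ⟶ Y be a morphism locally of finite type with Y locally Noetherian, g : Y ⟶ X a section of
f, X_y^0 the connected component of f⁻¹(y) containing g y, and X^0 ⊆ X their union. Suppose every
X_y^0 is geometrically integral over κ(y) (its preimage in X_y ⊗ K is irreducible and has reduced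
local rings, for every field extension K of κ(y)). Then y ↦ dim X_y^0 is locally constant on Y if
and only if f is universally open at every point of X^0; and when this holds, X^0 is open in X. (The
published statement also lists, as a further equivalent condition, flatness of the base change of f
to the reduced closed subscheme Y_red at the points of X^0; that condition is not stated here.) -/
theorem result {X Y : Scheme.{u}}
    [IsLocallyNoetherian Y] (f : X ⟶ Y) [LocallyOfFiniteType f] (g : Y ⟶ X) (hg : g ≫ f = 𝟙 Y)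
    (hint : ∀ y : Y, (∀ (K : Type u) [Field K] [Algebra (IsLocalRing.ResidueField (Y.presheaf.stalk y)) K],
        IsIrreducible ((FBase.bcπ (f.fiberToSpecResidueField y) K ≫ f.fiberι y).base ⁻¹' connectedComponentIn (f.base ⁻¹' {y}) (g.base y)) ∧
        ∀ x' : ↥(FBase.bc (f.fiberToSpecResidueField y) K),
          (FBase.bcπ (f.fiberToSpecResidueField y) K ≫ f.fiberι y).base x' ∈ connectedComponentIn (f.base ⁻¹' {y}) (g.base y) →
          _root_.IsReduced ((FBase.bc (f.fiberToSpecResidueField y) K).presheaf.stalk x'))) :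
    (IsLocallyConstant (fun y : Y => topologicalKrullDim ↥(connectedComponentIn (f.base ⁻¹' {y}) (g.base y))) ↔ ∀ x ∈ MoreMor.sectionComponents f g, EGA43.IsUnivOpenAt f x) ∧
      (IsLocallyConstant (fun y : Y => topologicalKrullDim ↥(connectedComponentIn (f.base ⁻¹' {y}) (g.base y))) → IsOpen (MoreMor.sectionComponents f g)) := by
  have hfg : ∀ y : Y, f.base (g.base y) = y := by
    intro y
    have := congrArg (fun φ : Y ⟶ Y => φ.base y) hg
    simpa using this
  have hirr : ∀ y : Y, (∀ (K : Type u) [Field K]
      [Algebra (IsLocalRing.ResidueField (Y.presheaf.stalk y)) K],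
      IsIrreducible ((FBase.bcπ (f.fiberToSpecResidueField y) K ≫ f.fiberι y).base ⁻¹'
        connectedComponentIn (f.base ⁻¹' {y}) (g.base y))) := fun y K _ _ => (hint y K).1
  have hC : ∀ y : Y, IsIrreducible (connectedComponentIn (f.base ⁻¹' {y}) (g.base y)) := fun y =>
    Groth.Agent.Lib.H80SecOpen.isIrreducible_sectionComponent f g y (hirr y _)
  have hα : ∀ x ∈ MoreMor.sectionComponents f g,
      FBase.IsGeomReducedAt (f.fiberToSpecResidueField (f.base x)) (f.asFiber x) := by
    intro x hx K _ _ x' hx'
    refine (hint (f.base x) K).2 x' ?_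
    rw [Scheme.Hom.comp_base, TopCat.coe_comp, Function.comp_apply]
    have h1 : (FBase.bcπ (f.fiberToSpecResidueField (f.base x)) K).base x' = f.asFiber x := hx'
    rw [h1]
    have h2 : (f.fiberι (f.base x)).base (f.asFiber x) = x := Scheme.Hom.fiberι_asFiber f x
    rw [h2]
    exact hx
  have hmemC : ∀ (y : Y) (ξ : X), ξ ∈ connectedComponentIn (f.base ⁻¹' {y}) (g.base y) →
      ξ ∈ MoreMor.sectionComponents f g := by
    intro y ξ hξ
    have hfξ : f.base ξ = y := (connectedComponentIn_subset _ _ hξ : ξ ∈ f.base ⁻¹' {y})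
    show ξ ∈ connectedComponentIn (f.base ⁻¹' {f.base ξ}) (g.base (f.base ξ))
    rw [hfξ]
    exact hξ
  have hgmem : ∀ y : Y, g.base y ∈ MoreMor.sectionComponents f g := fun y =>
    hmemC y _ (mem_connectedComponentIn (hfg y))
  have h1 : IsLocallyConstant (fun y : Y => topologicalKrullDim
      ↥(connectedComponentIn (f.base ⁻¹' {y}) (g.base y))) →
      ∀ x ∈ MoreMor.sectionComponents f g, EGA43.IsUnivOpenAt f x := by
    intro hd x hx
    refine Groth.Agent.S3458.result f g hg (fun y K _ _ => hirr y K) (f.base x) ?_ x hx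
    exact ⟨_, (hd.isOpen_fiber (topologicalKrullDim
      ↥(connectedComponentIn (f.base ⁻¹' {f.base x}) (g.base (f.base x))))).mem_nhds rfl,
      fun z hz => hz⟩
  have h2 : (∀ x ∈ MoreMor.sectionComponents f g, EGA43.IsUnivOpenAt f x) →
      IsLocallyConstant (fun y : Y => topologicalKrullDim
        ↥(connectedComponentIn (f.base ⁻¹' {y}) (g.base y))) := by
    intro huo
    rw [IsLocallyConstant.iff_exists_open]
    intro y₀
    obtain ⟨V, hV, hVd⟩ := Groth.Agent.S5927.result f g hg hirr y₀
      (fun ξ hξ _ => huo ξ (hmemC y₀ ξ hξ)) (Or.inl (hα (g.base y₀) (hgmem y₀)))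
    obtain ⟨O, hOV, hO, hy₀O⟩ := mem_nhds_iff.mp hV
    exact ⟨O, hO, hy₀O, fun z hz => hVd z (hOV hz)⟩
  refine ⟨⟨h1, h2⟩, ?_⟩
  intro hd
  rw [isOpen_iff_mem_nhds]
  intro x hx
  apply Groth.Agent.Lib.H80SecOpen.sectionComponents_mem_nhds f g hg (fun z => (hC z).2) x
  intro t ht
  exact Groth.Agent.Lib.H80SecOpen.mem_sectionComponents_of_specializes f g hg hirr x hx
    (fun ξ hξ _ => h1 hd ξ (hmemC (f.base x) ξ hξ)) (hα (g.base (f.base x)) (hgmem _)) (hα x hx) t ht

end Groth.Agent.S4975
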