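-- Statement S4981.
import Groth.Statements.S4981
import Groth.Agent.Lib.H30EquidimAt
import Groth.Agent.Lib.H56ValFib2
import Groth.Agent.Lib.H30FieldPt
import Groth.Agent.S4974
import Groth.Agent.Lib.CompleteNagata98
import Groth.Agent.Lib.H87Japanese
import Groth.Agent.Lib.H80DvrUnivOpen
import Groth.Agent.Lib.H90DevAtom
import Groth.Agent.S2363
import Groth.Agent.Lib.AdicDim
import Mathlib

set_option autoImplicit false
open CategoryTheory AlgebraicGeometry
universe u v w
open EGA43

namespace Groth.Agent.S4981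

section helpers
open CategoryTheory.Limits TopologicalSpace IsLocalRing



open Groth.Agent.Lib.H30GenFib Groth.Agent.Lib.H56OpenDim Groth.Agent.Lib.H56LocDim
  Groth.Agent.Lib.H56ValTrdeg in
/-- An irreducible scheme locally of finite type and dominant over a valuation ring is
equidimensional at every point. -/
theorem isEquidimAt_of_irreducible_Spec (R : Type u) [CommRing R] [IsDomain R] [ValuationRing R]
    {Z : Scheme.{u}} [IrreducibleSpace Z] (f : Z ⟶ Spec (CommRingCat.of R)) [LocallyOfFiniteType f]
    (hgen : f (genericPoint Z) = genericPoint (Spec (CommRingCat.of R))) (x : Z) :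
    EGA43.IsEquidimAt f x := by
  rw [Groth.Agent.Lib.H30EquidimAt.isEquidimAt_iff]
  refine ⟨tdeg f (genericPoint Z), ⊤, trivial, ?_, ?_⟩
  · intro ζ _ hζ
    have hζg : ζ = genericPoint Z := (hζ _ (genericPoint_specializes ζ)).symm
    rw [hζg, hgen]
    refine ⟨fun ξ _ => ?_, genericPoint_specializes _⟩
    exact ((genericPoint_specializes ξ).antisymm ‹_›).eq.symm
  · intro z _
    obtain ⟨w, -, hfw, hwmax, hw⟩ := exists_maxInFibre_fibreDimAt_eq f z
    have hmem : tdeg f w ∈ compDims f (f w) := ⟨w, rfl, hwmax, rfl⟩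
    rw [compDims_eq_singleton_Spec R f (f w) ⟨w, rfl⟩] at hmem
    rw [hw, Set.mem_singleton_iff.mp hmem]


open Groth.Agent.Lib.H56OpenDim in
theorem tdeg_eq_zero_of_surjective {P S : Scheme.{u}} (h : P ⟶ S) (x : P)
    (hs : Function.Surjective (h.residueFieldMap x).hom) : tdeg h x = 0 := by
  unfold tdeg
  letI := (h.residueFieldMap x).hom.toAlgebra
  haveI : Algebra.IsAlgebraic (S.residueField (h x)) (P.residueField x) := by
    refine ⟨fun b => ?_⟩
    obtain ⟨a, rfl⟩ := hs b
    exact isAlgebraic_algebraMap a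
  rw [trdeg_eq_zero]
  simp

open Groth.Agent.Lib.H56OpenDim Groth.Agent.Lib.H56ValTrdeg in
/-- A point with surjective residue field map is closed in its fibre. -/
theorem eq_of_specializes_of_surjective {P S : Scheme.{u}} (h : P ⟶ S) [LocallyOfFiniteType h]
    (x : P) (hs : Function.Surjective (h.residueFieldMap x).hom) (x'' : P) (hfib : h x'' = h x)
    (hsp : x ⤳ x'') : x'' = x := by
  by_contra hne
  have h1 := tdeg_lt_of_specializes_of_ne h x x'' hsp hfib.symm (fun e => hne e.symm)
  rw [tdeg_eq_zero_of_surjective h x hs] at h1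
  exact Nat.not_lt_zero _ h1



/-- Normalisation of a finite local domain over a complete DVR is a DVR finite over it. -/
theorem exists_dvr_over (A : Type u) [CommRing A] [IsDomain A] [IsDiscreteValuationRing A]
    [IsAdicComplete (maximalIdeal A) A]
    (A' : Type u) [CommRing A'] [IsDomain A'] [IsLocalRing A'] [Algebra A A'] [Module.Finite A A']
    (hinj : Function.Injective (algebraMap A A')) :
    ∃ (B : Type u) (_ : CommRing B) (_ : IsDomain B) (_ : IsDiscreteValuationRing B)
      (φ : A →+* B) (ψ : A' →+* B), φ.Finite ∧ IsLocalHom φ ∧ IsLocalHom ψ ∧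
        ψ.comp (algebraMap A A') = φ := by
  set K' := FractionRing A' with hK'
  have hinjK' : Function.Injective (algebraMap A K') := by
    rw [IsScalarTower.algebraMap_eq A A' K']
    exact (IsFractionRing.injective A' K').comp hinj
  haveI : FaithfulSMul A K' := (faithfulSMul_iff_algebraMap_injective A K').mpr hinjK'
  letI := FractionRing.liftAlgebra A K'
  haveI := FractionRing.isScalarTower_liftAlgebra A K'
  haveI : Module.IsTorsionFree A A' := Module.isTorsionFree_iff_algebraMap_injective.mpr hinj
  haveI hfd : FiniteDimensional (FractionRing A) K' := inferInstance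
  have hN2 := Groth.Agent.Lib.CompleteNagata98.isN2_of_complete_local_domain A
  have hfinB : Module.Finite A (integralClosure A K') :=
    Groth.Agent.Lib.H87Japanese.finite_of_isN2 A hN2 (FractionRing A) K' hfd
  set B := integralClosure A K' with hB
  haveI : IsNoetherianRing B := Algebra.FiniteType.isNoetherianRing A B
  haveI : IsIntegrallyClosed B :=
    integralClosure.isIntegrallyClosedOfFiniteExtension (FractionRing A)
  haveI : Ring.DimensionLEOne B := inferInstance
  haveI : Algebra.IsIntegral A B := inferInstance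
  have hinjB : Function.Injective (algebraMap A B) := by
    intro a b hab
    apply hinjK'
    exact congrArg Subtype.val hab
  haveI : FaithfulSMul A B := (faithfulSMul_iff_algebraMap_injective A B).mpr hinjB
  have hnf : ¬ IsField B := by
    intro hf
    exact IsDiscreteValuationRing.not_isField A
      (isField_of_isIntegral_of_isField hinjB hf)
  haveI hH : HenselianLocalRing A := Groth.Agent.S4974.hens A
  obtain ⟨Q, hQmax, hQ⟩ := Ideal.exists_ideal_over_maximal_of_isIntegral (S := B)
    (maximalIdeal A) (by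
      rw [(RingHom.injective_iff_ker_eq_bot _).mp hinjB]; exact bot_le)
  haveI : Q.IsPrime := hQmax.isPrime
  haveI : Q.LiesOver (maximalIdeal A) := ⟨hQ.symm⟩
  haveI hloc : IsLocalRing B := (Groth.Agent.S4974.ring_core A B Q).2
  have hDed : IsDedekindDomain B := { }
  haveI hDVR : IsDiscreteValuationRing B := ((IsDiscreteValuationRing.TFAE B hnf).out 0 2).mpr hDed
  have hψmem : ∀ x : A', (IsScalarTower.toAlgHom A A' K') x ∈ integralClosure A K' := fun x =>
    (Algebra.IsIntegral.isIntegral (R := A) x).map (IsScalarTower.toAlgHom A A' K')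
  let ψ : A' →ₐ[A] B := (IsScalarTower.toAlgHom A A' K').codRestrict _ hψmem
  have hψinj : Function.Injective ψ := by
    intro a b hab
    apply IsFractionRing.injective A' K'
    exact congrArg Subtype.val hab
  refine ⟨B, inferInstance, inferInstance, hDVR, algebraMap A B, ψ.toRingHom,
    RingHom.finite_algebraMap.mpr hfinB, inferInstance, ?_, ψ.comp_algebraMap⟩
  apply RingHom.IsIntegral.isLocalHom _ hψinj
  intro b
  have h1 : ((ψ : A' →+* B).comp (algebraMap A A')).IsIntegralElem b := by
    rw [ψ.comp_algebraMap]; exact Algebra.IsIntegral.isIntegral (R := A) b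
  exact RingHom.IsIntegralElem.of_comp h1


open Groth.Agent.Lib.H30FieldPt Groth.Agent.Lib.H80DvrUnivOpen in
theorem forward {X Y : Scheme.{u}} (f : X ⟶ Y) [LocallyOfFiniteType f] (x : X)
    (hUO : EGA43.IsUnivOpenAt f x)
    (A : Type u) [CommRing A] [IsDomain A] [IsDiscreteValuationRing A]
    [IsAdicComplete (maximalIdeal A) A]
    (g : Spec (CommRingCat.of A) ⟶ Y) (hg : g.base (closedPoint A) = f.base x)
    (u₀ : Spec (CommRingCat.of (ResidueField A)) ⟶ X)
    (hu₀ : u₀ ≫ f = Spec.map (CommRingCat.ofHom (residue A)) ≫ g) (hx : x ∈ Set.range u₀.base) :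
    ∃ (B : CommRingCat.{u}) (_ : IsDomain B) (_ : IsDiscreteValuationRing B) (φ : A →+* B)
      (_ : IsLocalHom φ) (v : Spec B ⟶ X),
      φ.Finite ∧ v ≫ f = Spec.map (CommRingCat.ofHom φ) ≫ g ∧
      Spec.map (CommRingCat.ofHom (ResidueField.map φ)) ≫ u₀ =
        Spec.map (CommRingCat.ofHom (residue B)) ≫ v := by
  let σ₀ : Spec (CommRingCat.of (ResidueField A)) ⟶ pullback f g :=
    pullback.lift u₀ (Spec.map (CommRingCat.ofHom (residue A))) hu₀
  have hσ₀fst : σ₀ ≫ pullback.fst f g = u₀ := pullback.lift_fst _ _ _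
  have hσ₀snd : σ₀ ≫ pullback.snd f g = Spec.map (CommRingCat.ofHom (residue A)) :=
    pullback.lift_snd _ _ _
  set x' := σ₀ (closedPoint (ResidueField A)) with hx'
  have hfst : (pullback.fst f g) x' = x := by
    obtain ⟨p, hp⟩ := hx
    have hpc : p = closedPoint (ResidueField A) := Subsingleton.elim _ _
    rw [← hp, hpc]
    have e : (σ₀ ≫ pullback.fst f g) (closedPoint (ResidueField A)) =
        u₀ (closedPoint (ResidueField A)) := by rw [hσ₀fst]
    exact e
  have hsnd : (pullback.snd f g) x' = closedPoint A := by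
    have e : (σ₀ ≫ pullback.snd f g) (closedPoint (ResidueField A)) = closedPoint A := by
      rw [hσ₀snd]; exact residue_closedPoint A
    exact e
  obtain ⟨z', hz'sp, hz'ne⟩ := dvrCond_of_isUnivOpenAt f x hUO A g hg x' hfst hsnd
  have hz'bot : ((pullback.snd f g) z').asIdeal = ⊥ := asIdeal_eq_bot_of_ne_closedPoint _ hz'ne
  let C : Closeds ↥(pullback f g) := ⟨closure {z'}, isClosed_closure⟩
  have hCirr : IsIrreducible (C : Set ↥(pullback f g)) := isIrreducible_singleton.closure
  set I := Scheme.IdealSheafData.vanishingIdeal C with hI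
  set ι := I.subschemeι with hι
  haveI hZint : IsIntegral I.subscheme := Groth.Agent.Lib.H90DevAtom.isIntegral_subscheme C hCirr
  have hrange : Set.range ι = closure {z'} := by
    rw [hι, Scheme.IdealSheafData.range_subschemeι, hI,
      Scheme.IdealSheafData.coe_support_vanishingIdeal]
    rfl
  obtain ⟨xZ, hxZ⟩ : ∃ xZ : I.subscheme, ι xZ = x' := by
    have : x' ∈ Set.range ι := by rw [hrange]; exact hz'sp.mem_closure
    exact this
  obtain ⟨zZ, hzZ⟩ : ∃ zZ : I.subscheme, ι zZ = z' := by
    have : z' ∈ Set.range ι := by rw [hrange]; exact subset_closure rfl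
    exact this
  have hzZgen : zZ = genericPoint I.subscheme := by
    have h1 : IsGenericPoint zZ (⊤ : Set I.subscheme) := by
      rw [isGenericPoint_def, ι.isEmbedding.isInducing.closure_eq_preimage_closure_image,
        Set.image_singleton, hzZ, ← hrange]
      ext w
      simp
    exact h1.eq (genericPoint_spec _)
  let fZ : I.subscheme ⟶ Spec (CommRingCat.of A) := ι ≫ pullback.snd f g
  have hgen : fZ (genericPoint I.subscheme) = genericPoint (Spec (CommRingCat.of A)) := by
    rw [← hzZgen, genericPoint_eq_bot_of_affine]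
    apply PrimeSpectrum.ext
    have e : fZ zZ = (pullback.snd f g) z' := by
      rw [← hzZ]; rfl
    rw [e, hz'bot]
    rfl
  have hEq : EGA43.IsEquidimAt fZ xZ := isEquidimAt_of_irreducible_Spec A fZ hgen xZ
  have hsurj : Function.Surjective ((pullback.snd f g).residueFieldMap x').hom :=
    surjective_residueFieldMap_of_residue_section (pullback.snd f g) σ₀ hσ₀snd
  have hfZx : fZ xZ = closedPoint A := by
    have e : fZ xZ = (pullback.snd f g) (ι xZ) := rfl
    rw [e, hxZ, hsnd]
  have hcl : ∀ x'' : I.subscheme, fZ x'' = fZ xZ → xZ ⤳ x'' → x'' = xZ := by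
    intro x'' hfib hsp
    apply ι.isEmbedding.injective
    rw [hxZ]
    apply eq_of_specializes_of_surjective (pullback.snd f g) x' hsurj (ι x'')
    · have e : fZ x'' = (pullback.snd f g) (ι x'') := rfl
      rw [← e, hfib, hfZx, hsnd]
    · rw [← hxZ]
      exact hsp.map ι.continuous
  obtain ⟨A', _, _, _, _, _, hinjA', h, hh, himm, hxZh⟩ :=
    Groth.Agent.S4974.result fZ xZ hfZx hEq hcl
  obtain ⟨B, _, _, _, φ, ψ, hφfin, hφloc, hψloc, hψφ⟩ := exists_dvr_over A A' hinjA'
  -- the point of `Spec A'` over `xZ` is the closed point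
  have hhcl : h (closedPoint A') = xZ := by
    obtain ⟨q, hq⟩ := hxZh
    have hq1 : (Spec.map (CommRingCat.ofHom (algebraMap A A'))) q = closedPoint A := by
      rw [← hh]
      have e : (h ≫ fZ) q = fZ (h q) := rfl
      rw [e, hq, hfZx]
    have hq2 : Ideal.comap (algebraMap A A') q.asIdeal = maximalIdeal A :=
      congrArg PrimeSpectrum.asIdeal hq1
    have hqmax : q.asIdeal.IsMaximal := by
      haveI : q.asIdeal.IsPrime := q.isPrime
      apply Ideal.isMaximal_of_isIntegral_of_isMaximal_comap (R := A) q.asIdeal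
      rw [hq2]; infer_instance
    have : q = closedPoint A' := PrimeSpectrum.ext (IsLocalRing.eq_maximalIdeal hqmax)
    rw [← this, hq]
  let σ₂ : Spec (CommRingCat.of (ResidueField B)) ⟶ pullback f g :=
    Spec.map (CommRingCat.ofHom (residue B)) ≫ Spec.map (CommRingCat.ofHom ψ) ≫ h ≫ ι
  let σ₁ : Spec (CommRingCat.of (ResidueField B)) ⟶ pullback f g :=
    Spec.map (CommRingCat.ofHom (ResidueField.map φ)) ≫ σ₀
  have hσ₂pt : σ₂ (closedPoint (ResidueField B)) = x' := by
    have e1 : (Spec.map (CommRingCat.ofHom (residue B))) (closedPoint (ResidueField B)) =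
        closedPoint B := residue_closedPoint B
    have e2 : (Spec.map (CommRingCat.ofHom ψ)) (closedPoint B) = closedPoint A' :=
      (IsLocalRing.comap_closedPoint ψ)
    have e : σ₂ (closedPoint (ResidueField B)) =
        ι (h ((Spec.map (CommRingCat.ofHom ψ)) ((Spec.map (CommRingCat.ofHom (residue B)))
          (closedPoint (ResidueField B))))) := rfl
    rw [e, e1, e2, hhcl, hxZ]
  have hσ₁pt : σ₁ (closedPoint (ResidueField B)) = x' := by
    have e : σ₁ (closedPoint (ResidueField B)) =
        σ₀ ((Spec.map (CommRingCat.ofHom (ResidueField.map φ))) (closedPoint (ResidueField B))) :=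
      rfl
    rw [e, hx']
    congr 1
    exact Subsingleton.elim _ _
  have h12 : σ₁ ≫ pullback.snd f g = σ₂ ≫ pullback.snd f g := by
    have e1 : σ₁ ≫ pullback.snd f g =
        Spec.map (CommRingCat.ofHom ((ResidueField.map φ).comp (residue A))) := by
      simp only [σ₁, Category.assoc, hσ₀snd]
      rw [← Spec.map_comp]
      rfl
    have e2 : σ₂ ≫ pullback.snd f g =
        Spec.map (CommRingCat.ofHom ((residue B).comp φ)) := by
      have e3 : h ≫ ι ≫ pullback.snd f g = Spec.map (CommRingCat.ofHom (algebraMap A A')) := hh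
      simp only [σ₂, Category.assoc, e3]
      rw [← Spec.map_comp, ← Spec.map_comp, ← hψφ]
      rfl
    rw [e1, e2]
    rfl
  have hsurj₂ : Function.Surjective
      ((pullback.snd f g).residueFieldMap (σ₂ (closedPoint (ResidueField B)))).hom := by
    have : ∀ p : ↥(pullback f g), p = x' →
        Function.Surjective ((pullback.snd f g).residueFieldMap p).hom := by
      rintro _ rfl; exact hsurj
    exact this _ hσ₂pt
  have hσ : σ₁ = σ₂ := hom_ext_of_surjective_residueFieldMap (pullback.snd f g) σ₁ σ₂ h12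
    (hσ₁pt.trans hσ₂pt.symm) hsurj₂
  refine ⟨CommRingCat.of B, inferInstance, inferInstance, φ, hφloc,
    Spec.map (CommRingCat.ofHom ψ) ≫ h ≫ ι ≫ pullback.fst f g, hφfin, ?_, ?_⟩
  · have e3 : h ≫ ι ≫ pullback.snd f g = Spec.map (CommRingCat.ofHom (algebraMap A A')) := hh
    simp only [Category.assoc, pullback.condition]
    rw [reassoc_of% e3, ← Spec.map_comp_assoc, ← hψφ]
    rfl
  · have e4 : σ₁ ≫ pullback.fst f g = σ₂ ≫ pullback.fst f g := by rw [hσ]
    simp only [σ₁, σ₂, Category.assoc, hσ₀fst] at e4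
    exact e4



/-- A finite ring hom from a DVR to a domain which is not a field is injective. -/
theorem injective_of_finite (A₁ B : Type u) [CommRing A₁] [IsDomain A₁]
    [IsDiscreteValuationRing A₁] [CommRing B] [IsDomain B] [IsDiscreteValuationRing B]
    (φ : A₁ →+* B) (hfin : φ.Finite) : Function.Injective φ := by
  letI := φ.toAlgebra
  haveI : Module.Finite A₁ B := hfin
  haveI : Algebra.IsIntegral A₁ B := inferInstance
  obtain ⟨ϖ, hϖ⟩ := IsDiscreteValuationRing.exists_irreducible B
  have hmem : ϖ ∈ ((maximalIdeal B : Ideal B) : Set B) \ ((⊥ : Ideal B) : Set B) := by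
    refine ⟨?_, ?_⟩
    · rw [hϖ.maximalIdeal_eq]; exact Ideal.mem_span_singleton_self ϖ
    · intro h0
      exact hϖ.ne_zero h0
  have hlt := Ideal.comap_lt_comap_of_integral_mem_sdiff (R := A₁) (I := (⊥ : Ideal B))
    (J := maximalIdeal B) bot_le hmem (Algebra.IsIntegral.isIntegral ϖ)
  have hle : (maximalIdeal B).comap (algebraMap A₁ B) ≤ maximalIdeal A₁ :=
    IsLocalRing.le_maximalIdeal (Ideal.IsPrime.ne_top inferInstance)
  have hne : (⟨(⊥ : Ideal B).comap (algebraMap A₁ B), inferInstance⟩ : PrimeSpectrum A₁) ≠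
      closedPoint A₁ := by
    intro h
    have h' : (⊥ : Ideal B).comap (algebraMap A₁ B) = maximalIdeal A₁ :=
      congrArg PrimeSpectrum.asIdeal h
    rw [h'] at hlt
    exact absurd (lt_of_lt_of_le hlt hle) (lt_irrefl _)
  have hbot := Groth.Agent.Lib.H80DvrUnivOpen.asIdeal_eq_bot_of_ne_closedPoint _ hne
  rw [RingHom.injective_iff_ker_eq_bot]
  exact hbot



/-- A DVR admits a local injective extension to a complete DVR whose residue field is a given
algebraically closed extension of the residue field. -/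
theorem exists_complete_dvr (A : Type u) [CommRing A] [IsDomain A] [IsDiscreteValuationRing A]
    (L : Type u) [Field L] [IsAlgClosed L] (ψ : ResidueField A →+* L) :
    ∃ (A₁ : Type u) (_ : CommRing A₁) (_ : IsDomain A₁) (_ : IsDiscreteValuationRing A₁)
      (_ : IsAdicComplete (maximalIdeal A₁) A₁) (_ : IsAlgClosed (ResidueField A₁))
      (χ : A →+* A₁) (_ : IsLocalHom χ) (e : L →+* ResidueField A₁),
      Function.Injective χ ∧ e.comp ψ = ResidueField.map χ := by
  letI : Algebra (ResidueField A) L := ψ.toAlgebra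
  obtain ⟨B₁, _, _, hN, hloc, hlh, hflat, e, he⟩ := Groth.Agent.S2363.result (A := A) L
  have hmax : maximalIdeal B₁ = (maximalIdeal A).map (algebraMap A B₁) := by
    have hfield : IsField (B₁ ⧸ (maximalIdeal A).map (algebraMap A B₁)) :=
      e.toMulEquiv.isField (Field.toIsField L)
    exact (IsLocalRing.eq_maximalIdeal (Ideal.Quotient.maximal_of_isField _ hfield)).symm
  have hff : Module.FaithfullyFlat A B₁ := Module.FaithfullyFlat.of_flat_of_isLocalHom
  have hinj : Function.Injective (algebraMap A B₁) := FaithfulSMul.algebraMap_injective A B₁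
  obtain ⟨π, hπ⟩ := IsDiscreteValuationRing.exists_irreducible A
  have hπm : maximalIdeal A = Ideal.span {π} := hπ.maximalIdeal_eq
  have hmax' : maximalIdeal B₁ = Ideal.span {algebraMap A B₁ π} := by
    rw [hmax, hπm, Ideal.map_span, Set.image_singleton]
  have hnil : ¬ IsNilpotent (algebraMap A B₁ π) := by
    rintro ⟨n, hn⟩
    rw [← map_pow] at hn
    have h2 : π ^ n = 0 := hinj (by rw [hn, map_zero])
    exact hπ.ne_zero (pow_eq_zero_iff (fun h => by rw [h, pow_zero] at h2; exact one_ne_zero h2)
      |>.mp h2)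
  have hB₁ := Groth.Agent.Lib.AdicDim.exists_isDiscreteValuationRing_of_maximalIdeal_eq_span_singleton
      hmax' hnil
  obtain ⟨hdom₁, hdvr₁⟩ := (Groth.Agent.Lib.AdicDim.isDiscreteValuationRing_iff_adicCompletion B₁).mp hB₁
  let E : L ≃+* ResidueField (AdicCompletion (maximalIdeal B₁) B₁) :=
    e.symm.trans ((Ideal.quotEquivOfEq hmax.symm).trans
      (RingEquiv.ofBijective (ResidueField.map (algebraMap B₁ (AdicCompletion (maximalIdeal B₁) B₁)))
        (AdicCompletion.residueField_map_bijective B₁)))
  refine ⟨AdicCompletion (maximalIdeal B₁) B₁, inferInstance, hdom₁, hdvr₁, inferInstance,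
    IsAlgClosed.of_ringEquiv L _ E,
    (algebraMap B₁ (AdicCompletion (maximalIdeal B₁) B₁)).comp (algebraMap A B₁),
    RingHom.isLocalHom_comp _ _, E.toRingHom, ?_, ?_⟩
  · exact (AdicCompletion.of_injective (maximalIdeal B₁) B₁).comp hinj
  · apply RingHom.ext
    intro c
    obtain ⟨a, rfl⟩ := residue_surjective c
    have h1 : ψ (residue A a) = e (Ideal.Quotient.mk _ (algebraMap A B₁ a)) := (he a).symm
    have h2 : E (ψ (residue A a)) = ResidueField.map (algebraMap B₁ (AdicCompletion (maximalIdeal B₁) B₁))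
        (residue B₁ (algebraMap A B₁ a)) := by
      rw [h1]
      simp only [E, RingEquiv.trans_apply, RingEquiv.symm_apply_apply]
      rfl
    change E (ψ (residue A a)) = _
    rw [h2, ResidueField.map_residue, ResidueField.map_residue]
    rfl



open Groth.Agent.Lib.H30FieldPt Groth.Agent.Lib.H80DvrUnivOpen in
theorem exists_generization {X Y : Scheme.{u}} (f : X ⟶ Y)
    (x : X)
    (H : ∀ (A : Type u) [CommRing A] [IsDomain A] [IsDiscreteValuationRing A]
        [IsAdicComplete (IsLocalRing.maximalIdeal A) A] [IsAlgClosed (IsLocalRing.ResidueField A)]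
        (g : Spec (CommRingCat.of A) ⟶ Y), g.base (IsLocalRing.closedPoint A) = f.base x →
        ∀ u₀ : Spec (CommRingCat.of (IsLocalRing.ResidueField A)) ⟶ X,
          u₀ ≫ f = Spec.map (CommRingCat.ofHom (IsLocalRing.residue A)) ≫ g →
          x ∈ Set.range u₀.base →
          ∃ (B : CommRingCat.{u}) (_ : IsDomain B) (_ : IsDiscreteValuationRing B) (φ : A →+* B)
            (_ : IsLocalHom φ) (v : Spec B ⟶ X),
            φ.Finite ∧ v ≫ f = Spec.map (CommRingCat.ofHom φ) ≫ g ∧
            Spec.map (CommRingCat.ofHom (IsLocalRing.ResidueField.map φ)) ≫ u₀ =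
              Spec.map (CommRingCat.ofHom (IsLocalRing.residue B)) ≫ v)
    (A : Type u) [CommRing A] [IsDomain A] [IsDiscreteValuationRing A]
    (g : Spec (CommRingCat.of A) ⟶ Y) (hg : g.base (IsLocalRing.closedPoint A) = f.base x)
    (x' : ↥(pullback f g)) (hfst : (pullback.fst f g).base x' = x)
    (hsnd : (pullback.snd f g).base x' = IsLocalRing.closedPoint A)
    (L : Type u) [Field L] [IsAlgClosed L] (τ : Spec (CommRingCat.of L) ⟶ pullback f g)
    (hτpt : ∀ p, τ p = x') :
    ∃ z' : ↥(pullback f g), z' ⤳ x' ∧ (pullback.snd f g).base z' ≠ IsLocalRing.closedPoint A := by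
  let ψ₀c : CommRingCat.of A ⟶ CommRingCat.of L := Spec.preimage (τ ≫ pullback.snd f g)
  have hψ₀c : Spec.map ψ₀c = τ ≫ pullback.snd f g := Spec.map_preimage _
  let ψ₀ : A →+* L := ψ₀c.hom
  have hψ₀ : Spec.map (CommRingCat.ofHom ψ₀) = τ ≫ pullback.snd f g := hψ₀c
  have hψ₀pt : (Spec.map (CommRingCat.ofHom ψ₀)) (closedPoint L) = closedPoint A := by
    rw [hψ₀]
    exact (congrArg (pullback.snd f g) (hτpt _)).trans hsnd
  have hker : ∀ a ∈ maximalIdeal A, ψ₀ a = 0 := by
    intro a ha
    have h1 : Ideal.comap ψ₀ (closedPoint L).asIdeal = maximalIdeal A :=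
      congrArg PrimeSpectrum.asIdeal hψ₀pt
    rw [← h1] at ha
    have h0 : (closedPoint L).asIdeal = ⊥ := by
      change maximalIdeal L = ⊥
      exact IsLocalRing.isField_iff_maximalIdeal_eq.mp (Field.toIsField _)
    rw [h0] at ha
    exact ha
  let ψ : ResidueField A →+* L := Ideal.Quotient.lift (maximalIdeal A) ψ₀ hker
  have hψres : ψ.comp (residue A) = ψ₀ := Ideal.Quotient.lift_comp_mk _ _ _
  obtain ⟨A₁, _, _, _, _, _, χ, hχloc, e, hχinj, heψ⟩ := exists_complete_dvr A L ψ
  -- ring identity `e ∘ ψ₀ = residue A₁ ∘ χ`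
  have hring : e.comp ψ₀ = (residue A₁).comp χ := by
    rw [← hψres, ← RingHom.comp_assoc, heψ]
    ext a
    simp [ResidueField.map_residue]
  let g₁ : Spec (CommRingCat.of A₁) ⟶ Y := Spec.map (CommRingCat.ofHom χ) ≫ g
  have hg₁ : g₁ (closedPoint A₁) = f x := by
    have e1 : (Spec.map (CommRingCat.ofHom χ)) (closedPoint A₁) = closedPoint A :=
      IsLocalRing.comap_closedPoint χ
    exact (congrArg g e1).trans hg
  let u₀ : Spec (CommRingCat.of (ResidueField A₁)) ⟶ X :=
    Spec.map (CommRingCat.ofHom e) ≫ τ ≫ pullback.fst f g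
  have hu₀ : u₀ ≫ f = Spec.map (CommRingCat.ofHom (residue A₁)) ≫ g₁ := by
    simp only [u₀, g₁, Category.assoc, pullback.condition]
    rw [← Category.assoc τ, ← hψ₀, ← Spec.map_comp_assoc, ← Spec.map_comp_assoc,
      ← CommRingCat.ofHom_comp, ← CommRingCat.ofHom_comp, hring]
  have hxu₀ : x ∈ Set.range u₀ := by
    refine ⟨closedPoint (ResidueField A₁), ?_⟩
    exact (congrArg (pullback.fst f g) (hτpt _)).trans hfst
  obtain ⟨B, _, _, φ, hφloc, v, hφfin, hv, hres⟩ := H A₁ g₁ hg₁ u₀ hu₀ hxu₀
  have hφinj : Function.Injective φ := injective_of_finite A₁ B φ hφfin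
  let w : Spec B ⟶ pullback f g :=
    pullback.lift v (Spec.map (CommRingCat.ofHom φ) ≫ Spec.map (CommRingCat.ofHom χ))
      (by rw [hv, Category.assoc])
  have hwfst : w ≫ pullback.fst f g = v := pullback.lift_fst _ _ _
  have hwsnd : w ≫ pullback.snd f g =
      Spec.map (CommRingCat.ofHom φ) ≫ Spec.map (CommRingCat.ofHom χ) := pullback.lift_snd _ _ _
  let η : Spec B := (⟨⊥, Ideal.isPrime_bot⟩ : PrimeSpectrum B)
  -- the closed point goes to x'
  have hwcl : w (closedPoint B) = x' := by
    let ρ₁ : Spec (CommRingCat.of (ResidueField B)) ⟶ pullback f g :=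
      Spec.map (CommRingCat.ofHom (residue B)) ≫ w
    let ρ₂ : Spec (CommRingCat.of (ResidueField B)) ⟶ pullback f g :=
      Spec.map (CommRingCat.ofHom (ResidueField.map φ)) ≫ Spec.map (CommRingCat.ofHom e) ≫ τ
    have hρ : ρ₁ = ρ₂ := by
      apply pullback.hom_ext
      · simp only [ρ₁, ρ₂, Category.assoc, hwfst]
        rw [← hres]
      · simp only [ρ₁, ρ₂, Category.assoc, hwsnd]
        rw [← hψ₀, ← Spec.map_comp, ← Spec.map_comp, ← Spec.map_comp, ← Spec.map_comp,
          ← CommRingCat.ofHom_comp, ← CommRingCat.ofHom_comp, ← CommRingCat.ofHom_comp,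
          ← CommRingCat.ofHom_comp, hring]
        congr 2
    have e1 : (Spec.map (CommRingCat.ofHom (residue B))) (closedPoint (ResidueField B)) =
        closedPoint B := residue_closedPoint B
    have e2 : ρ₁ (closedPoint (ResidueField B)) = w (closedPoint B) := congrArg w e1
    have e3 : ρ₂ (closedPoint (ResidueField B)) = x' := hτpt _
    rw [← e2, hρ, e3]
  refine ⟨w η, ?_, ?_⟩
  · have h1 : η ⤳ closedPoint B := IsLocalRing.specializes_closedPoint (R := B) η
    have h2 := h1.map w.continuous
    rw [hwcl] at h2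
    exact h2
  · have e4 : (pullback.snd f g) (w η) =
        (Spec.map (CommRingCat.ofHom χ)) ((Spec.map (CommRingCat.ofHom φ)) η) := by
      have e5 : (w ≫ pullback.snd f g) η =
          (Spec.map (CommRingCat.ofHom φ) ≫ Spec.map (CommRingCat.ofHom χ)) η := by rw [hwsnd]
      exact e5
    rw [e4]
    intro hcon
    have h5 : Ideal.comap χ (Ideal.comap φ ⊥) = maximalIdeal A :=
      congrArg PrimeSpectrum.asIdeal hcon
    have h6 : Ideal.comap φ ⊥ = ⊥ := by
      rw [← RingHom.ker_eq_comap_bot]; exact (RingHom.injective_iff_ker_eq_bot φ).mp hφinj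
    have h7 : Ideal.comap χ ⊥ = ⊥ := by
      rw [← RingHom.ker_eq_comap_bot]; exact (RingHom.injective_iff_ker_eq_bot χ).mp hχinj
    rw [h6, h7] at h5
    exact IsDiscreteValuationRing.not_a_field A h5.symm

open Groth.Agent.Lib.H30FieldPt Groth.Agent.Lib.H80DvrUnivOpen in
theorem backward {X Y : Scheme.{u}} [IsLocallyNoetherian Y] (f : X ⟶ Y) [LocallyOfFiniteType f]
    (x : X)
    (H : ∀ (A : Type u) [CommRing A] [IsDomain A] [IsDiscreteValuationRing A]
        [IsAdicComplete (IsLocalRing.maximalIdeal A) A] [IsAlgClosed (IsLocalRing.ResidueField A)]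
        (g : Spec (CommRingCat.of A) ⟶ Y), g.base (IsLocalRing.closedPoint A) = f.base x →
        ∀ u₀ : Spec (CommRingCat.of (IsLocalRing.ResidueField A)) ⟶ X,
          u₀ ≫ f = Spec.map (CommRingCat.ofHom (IsLocalRing.residue A)) ≫ g →
          x ∈ Set.range u₀.base →
          ∃ (B : CommRingCat.{u}) (_ : IsDomain B) (_ : IsDiscreteValuationRing B) (φ : A →+* B)
            (_ : IsLocalHom φ) (v : Spec B ⟶ X),
            φ.Finite ∧ v ≫ f = Spec.map (CommRingCat.ofHom φ) ≫ g ∧
            Spec.map (CommRingCat.ofHom (IsLocalRing.ResidueField.map φ)) ≫ u₀ =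
              Spec.map (CommRingCat.ofHom (IsLocalRing.residue B)) ≫ v) :
    EGA43.IsUnivOpenAt f x := by
  apply isUnivOpenAt_of_dvrCond
  intro A _ _ _ g hg x' hfst hsnd
  let τ : Spec (CommRingCat.of (AlgebraicClosure ((pullback f g).residueField x'))) ⟶
      pullback f g :=
    Spec.map (CommRingCat.ofHom (algebraMap ((pullback f g).residueField x')
      (AlgebraicClosure ((pullback f g).residueField x')))) ≫
      (pullback f g).fromSpecResidueField x'
  have hτpt : ∀ p, τ p = x' := by
    intro p
    exact (Scheme.Hom.comp_apply _ _ _).trans (Scheme.fromSpecResidueField_apply _ _)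
  exact exists_generization f x H A g hg x' hfst hsnd
    (AlgebraicClosure ((pullback f g).residueField x')) τ hτpt


end helpers

/-- Let Y be a locally Noetherian scheme, f : X ⟶ Y a morphism locally of finite type, y a point of Y
and x a point of the fibre X_y. Then f is universally open at x if and only if the following holds:
for every complete discrete valuation ring A with algebraically closed residue field k, every
morphism g : Spec A ⟶ Y sending the closed point to y, and every Y-morphism u₀ : Spec k ⟶ X with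
image x, there exist a discrete valuation ring B which is a finite A-algebra through a local
homomorphism φ : A → B, and a Y-morphism u : Spec B ⟶ X, such that the restriction of u to the
closed point Spec κ(B) equals u₀ composed with the morphism Spec κ(B) ⟶ Spec k. -/
theorem result {X Y : Scheme.{u}} [IsLocallyNoetherian Y]
    (f : X ⟶ Y) [LocallyOfFiniteType f] (x : X) :
    EGA43.IsUnivOpenAt f x ↔
      ∀ (A : Type u) [CommRing A] [IsDomain A] [IsDiscreteValuationRing A]
        [IsAdicComplete (IsLocalRing.maximalIdeal A) A] [IsAlgClosed (IsLocalRing.ResidueField A)]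
        (g : Spec (CommRingCat.of A) ⟶ Y), g.base (IsLocalRing.closedPoint A) = f.base x →
        ∀ u₀ : Spec (CommRingCat.of (IsLocalRing.ResidueField A)) ⟶ X,
          u₀ ≫ f = Spec.map (CommRingCat.ofHom (IsLocalRing.residue A)) ≫ g → x ∈ Set.range u₀.base →
          ∃ (B : CommRingCat.{u}) (_ : IsDomain B) (_ : IsDiscreteValuationRing B) (φ : A →+* B)
            (_ : IsLocalHom φ) (v : Spec B ⟶ X),
            φ.Finite ∧ v ≫ f = Spec.map (CommRingCat.ofHom φ) ≫ g ∧
            Spec.map (CommRingCat.ofHom (IsLocalRing.ResidueField.map φ)) ≫ u₀ =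
              Spec.map (CommRingCat.ofHom (IsLocalRing.residue B)) ≫ v := by
  exact ⟨fun hUO A _ _ _ _ _ g hg u₀ hu₀ hx => forward f x hUO A g hg u₀ hu₀ hx, backward f x⟩

end Groth.Agent.S4981
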