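-- Statement S4990.
import Groth.Statements.S4990
import Mathlib.RingTheory.Ideal.KrullsHeightTheorem
import Mathlib.RingTheory.Ideal.GoingDown

set_option autoImplicit false
universe u
open CategoryTheory CategoryTheory.Limits AlgebraicGeometry TopologicalSpace
open Unram17

namespace Groth.Agent.S4990

/-- Let Y be locally Noetherian and f : X ⟶ Y locally of finite type, smooth on an open neighbourhood of
a point x with image y. Then the Krull dimension of the local ring of X at x is the sum of the Krull
dimension of the local ring of Y at y and of the Krull dimension of the local ring of the fibre, the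
quotient of the local ring at x by the extension of the maximal ideal at y. -/
theorem result {X Y : Scheme.{u}} (f : X ⟶ Y)
    [IsLocallyNoetherian Y] [LocallyOfFiniteType f] (x : ↥X)
    (hx : ∃ U : X.Opens, x ∈ U ∧ Smooth (U.ι ≫ f)) :
    ringKrullDim ↑(X.presheaf.stalk x) =
      ringKrullDim ↑(Y.presheaf.stalk (f.base x)) +
        ringKrullDim (↑(X.presheaf.stalk x) ⧸
          (IsLocalRing.maximalIdeal ↑(Y.presheaf.stalk (f.base x))).map (f.stalkMap x).hom) := by
  obtain ⟨U, hxU, hsm⟩ := hx
  have : IsLocallyNoetherian X := LocallyOfFiniteType.isLocallyNoetherian f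
  -- the stalk map is flat
  have hflat : (f.stalkMap x).hom.Flat := by
    let x' : ↥(U : Scheme) := ⟨x, hxU⟩
    have h1 : ((U.ι ≫ f).stalkMap x').hom.Flat := Flat.stalkMap (U.ι ≫ f) x'
    have e1 : (U.ι ≫ f).stalkMap x' = f.stalkMap (U.ι x') ≫ U.ι.stalkMap x' :=
      Scheme.Hom.stalkMap_comp _ _ _
    have h3 : (f.stalkMap (U.ι x')).hom.Flat := by
      have e2 : (f.stalkMap (U.ι x')).hom =
          (inv (U.ι.stalkMap x')).hom.comp ((U.ι ≫ f).stalkMap x').hom := by
        rw [e1]
        ext a
        have := congrArg (fun φ => φ.hom ((f.stalkMap (U.ι x')).hom a))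
          (IsIso.hom_inv_id (U.ι.stalkMap x'))
        simp only [CommRingCat.hom_comp, RingHom.comp_apply, CommRingCat.hom_id,
          RingHom.id_apply] at this
        exact this.symm
      rw [e2]
      exact RingHom.Flat.comp h1 (RingHom.Flat.of_bijective
        (ConcreteCategory.bijective_of_isIso (inv (U.ι.stalkMap x'))))
    exact h3
  -- set up the algebra
  let : Algebra (Y.presheaf.stalk (f.base x)) (X.presheaf.stalk x) := (f.stalkMap x).hom.toAlgebra
  have : Module.Flat (Y.presheaf.stalk (f.base x)) (X.presheaf.stalk x) := hflat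
  have halg : algebraMap (Y.presheaf.stalk (f.base x)) (X.presheaf.stalk x) = (f.stalkMap x).hom :=
    rfl
  have : (IsLocalRing.maximalIdeal (X.presheaf.stalk x)).LiesOver
      (IsLocalRing.maximalIdeal (Y.presheaf.stalk (f.base x))) := by
    refine ⟨?_⟩
    rw [Ideal.under_def, halg, IsLocalRing.maximalIdeal_comap]
  have key := Ideal.height_eq_height_add_of_liesOver_of_hasGoingDown
    (IsLocalRing.maximalIdeal (Y.presheaf.stalk (f.base x)))
    (IsLocalRing.maximalIdeal (X.presheaf.stalk x))
  rw [halg] at key
  set I := (IsLocalRing.maximalIdeal (Y.presheaf.stalk (f.base x))).map (f.stalkMap x).hom with hI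
  have hIle : I ≤ IsLocalRing.maximalIdeal (X.presheaf.stalk x) :=
    IsLocalRing.map_maximalIdeal_le _
  have hIne : I ≠ ⊤ := fun h => (IsLocalRing.maximalIdeal.isMaximal _).ne_top (top_le_iff.mp (h ▸ hIle))
  have : Nontrivial (X.presheaf.stalk x ⧸ I) := Ideal.Quotient.nontrivial_iff.mpr hIne
  have : IsLocalRing (X.presheaf.stalk x ⧸ I) :=
    IsLocalRing.of_surjective' (Ideal.Quotient.mk I) Ideal.Quotient.mk_surjective
  have hmax : (IsLocalRing.maximalIdeal (X.presheaf.stalk x)).map (Ideal.Quotient.mk I) =
      IsLocalRing.maximalIdeal (X.presheaf.stalk x ⧸ I) := by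
    apply IsLocalRing.eq_maximalIdeal
    rcases Ideal.map_eq_top_or_isMaximal_of_surjective (Ideal.Quotient.mk I)
      Ideal.Quotient.mk_surjective (IsLocalRing.maximalIdeal.isMaximal (X.presheaf.stalk x)) with h | h
    · exfalso
      have := congrArg (Ideal.comap (Ideal.Quotient.mk I)) h
      rw [Ideal.comap_map_of_surjective _ Ideal.Quotient.mk_surjective, ← RingHom.ker_eq_comap_bot,
        Ideal.mk_ker, sup_eq_left.mpr hIle, Ideal.comap_top] at this
      exact (IsLocalRing.maximalIdeal.isMaximal _).ne_top this
    · exact h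
  rw [hmax] at key
  rw [← IsLocalRing.maximalIdeal_height_eq_ringKrullDim,
    ← IsLocalRing.maximalIdeal_height_eq_ringKrullDim (R := Y.presheaf.stalk (f.base x)),
    ← IsLocalRing.maximalIdeal_height_eq_ringKrullDim (R := X.presheaf.stalk x ⧸ I), key]
  rfl

end Groth.Agent.S4990
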