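import Groth.Statements.S4993
import Groth.Agent.Lib.H87SmoothRank
import Groth.Agent.S7408

set_option autoImplicit false
universe u
open CategoryTheory CategoryTheory.Limits AlgebraicGeometry TopologicalSpace
open Unram17

namespace Groth.Agent.S4993

open Groth.Agent.Lib.H87SmoothRank

set_option linter.style.haveILetI false

theorem etale_stableUnderCompositionWithLocalizationAwaySource :
    RingHom.StableUnderCompositionWithLocalizationAwaySource RingHom.Etale :=
  (RingHom.Etale.stableUnderComposition.stableUnderCompositionWithLocalizationAway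
    (RingHom.Etale.propertyIsLocal.HoldsForLocalizationAway RingHom.Etale.containsIdentities)).1

set_option backward.isDefEq.respectTransparency false in
/-- a monomorphism between smooth `S`-schemes with equal fibre dimensions is étale -/
theorem etale_of_mono_of_fibreDimAt_eq {X Y S : Scheme.{u}} (f : Y ⟶ S) [Smooth f] (g : X ⟶ Y)
    [Smooth (g ≫ f)] [Mono g]
    (hdim : ∀ x : ↥X, FlatMor.fibreDimAt f (g.base x) = FlatMor.fibreDimAt (g ≫ f) x) :
    Etale g := by
  rw [HasRingHomProperty.iff_exists_appLE (P := @Etale)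
    etale_stableUnderCompositionWithLocalizationAwaySource]
  intro x
  obtain ⟨_, ⟨W, hW, rfl⟩, hxW, -⟩ :=
    S.isBasis_affineOpens.exists_subset_of_mem_open (Set.mem_univ (f (g x))) isOpen_univ
  obtain ⟨U, hU, -, e₁, m, hgxU, hm, hdm⟩ :=
    exists_chart_isStandardSmooth f (g x) hW (f ⁻¹ᵁ W) hxW le_rfl
  obtain ⟨U', hU', hUU', e₂, n, hxU', hn, hdn⟩ :=
    exists_chart_isStandardSmooth (g ≫ f) x hW (g ⁻¹ᵁ U) hgxU (fun y hy => e₁ hy)
  have hmn : m = n := by
    have h1 := hdim x
    rw [hdm, hdn] at h1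
    exact_mod_cast h1
  subst hmn
  refine ⟨⟨U, hU⟩, ⟨U', hU'⟩, hxU', hUU', ?_⟩
  letI : Algebra Γ(S, W) Γ(Y, U) := (f.appLE W U e₁).hom.toAlgebra
  letI : Algebra Γ(S, W) Γ(X, U') := ((g ≫ f).appLE W U' e₂).hom.toAlgebra
  letI : Algebra Γ(Y, U) Γ(X, U') := (g.appLE U U' hUU').hom.toAlgebra
  haveI : IsScalarTower Γ(S, W) Γ(Y, U) Γ(X, U') := .of_algebraMap_eq' (by
    change ((g ≫ f).appLE W U' e₂).hom = (g.appLE U U' hUU').hom.comp (f.appLE W U e₁).hom
    rw [← CommRingCat.hom_comp, Scheme.Hom.appLE_comp_appLE])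
  haveI : Algebra.IsStandardSmoothOfRelativeDimension m Γ(S, W) Γ(Y, U) := hm
  haveI : Algebra.IsStandardSmoothOfRelativeDimension m Γ(S, W) Γ(X, U') := hn
  haveI : Algebra.IsStandardSmooth Γ(S, W) Γ(Y, U) :=
    Algebra.IsStandardSmoothOfRelativeDimension.isStandardSmooth m
  haveI : Algebra.IsStandardSmooth Γ(S, W) Γ(X, U') :=
    Algebra.IsStandardSmoothOfRelativeDimension.isStandardSmooth m
  haveI : Nonempty U := ⟨⟨g x, hgxU⟩⟩
  haveI : Nonempty U' := ⟨⟨x, hxU'⟩⟩
  haveI : Nontrivial Γ(Y, U) := Y.component_nontrivial U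
  haveI : Nontrivial Γ(X, U') := X.component_nontrivial U'
  obtain ⟨bA⟩ := nonempty_basis_kaehler (R := Γ(S, W)) (S := Γ(Y, U)) m
  obtain ⟨bB⟩ := nonempty_basis_kaehler (R := Γ(S, W)) (S := Γ(X, U')) m
  haveI : Algebra.FormallyUnramified Γ(Y, U) Γ(X, U') :=
    HasRingHomProperty.appLE (P := @FormallyUnramified) g inferInstance ⟨U, hU⟩ ⟨U', hU'⟩ hUU'
  haveI : Algebra.FormallyEtale Γ(Y, U) Γ(X, U') := formallyEtale_of_basis (R := Γ(S, W)) bA bB
  haveI : Algebra.FinitePresentation Γ(Y, U) Γ(X, U') :=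
    Algebra.FinitePresentation.of_restrict_scalars_finitePresentation Γ(S, W) Γ(Y, U) Γ(X, U')
  exact (⟨inferInstance, inferInstance⟩ : Algebra.Etale Γ(Y, U) Γ(X, U'))

/-- Let f : Y ⟶ S and h : X ⟶ S be smooth and let g : X ⟶ Y satisfy g ≫ f = h. Then g is an open
immersion if and only if g is a monomorphism and, for every point x of X, the local dimension at
g(x) of the fibre of f through g(x) equals the local dimension at x of the fibre of h through x. -/
theorem result {X Y S : Scheme.{u}} (f : Y ⟶ S) (h : X ⟶ S)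
    [Smooth f] [Smooth h] (g : X ⟶ Y) (w : g ≫ f = h) :
    IsOpenImmersion g ↔ Mono g ∧ ∀ x : ↥X, FlatMor.fibreDimAt f (g.base x) = FlatMor.fibreDimAt h x := by
  subst w
  constructor
  · intro hg
    refine ⟨inferInstance, fun x => ?_⟩
    exact Groth.Agent.S7408.result f (g ≫ f) g (𝟙 S) (by rw [Category.comp_id]) x
  · rintro ⟨hmono, hdim⟩
    haveI := etale_of_mono_of_fibreDimAt_eq f g hdim
    exact IsOpenImmersion.of_flat_of_mono g

end Groth.Agent.S4993
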