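import Groth.Statements.S4996
import Groth.Agent.Lib.H14GeomP5
import Groth.Agent.Lib.SmoothRegular
import Groth.Agent.Lib.H87GenSmoothReg
import Groth.Agent.Lib.SmoothLocusBC

set_option autoImplicit false
set_option linter.style.haveILetI false
universe u
open Unram17

namespace Groth.Agent.S4996


open TensorProduct in
attribute [local instance] Algebra.TensorProduct.rightAlgebra in
/-- A finitely presented algebra over a field which is geometrically regular is (formally) smooth. -/
theorem formallySmooth_of_geomRegular (K C : Type u) [Field K] [CommRing C] [Algebra K C]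
    [Algebra.FinitePresentation K C] (h : CAlg.IsGeometricallyRegular K C) :
    Algebra.FormallySmooth K C := by
  let Kb := AlgebraicClosure K
  haveI : IsNoetherianRing C := Algebra.FiniteType.isNoetherianRing K C
  haveI : Algebra.FinitePresentation Kb (Kb ⊗[K] C) := inferInstance
  haveI : IsNoetherianRing (Kb ⊗[K] C) := Algebra.FiniteType.isNoetherianRing Kb _
  have hreg : IsRegularRing (Kb ⊗[K] C) :=
    Groth.Agent.Lib.H14GeomP.isRegularRing_tensor_of_g0 K C Kb h
  have hsmb : ∀ Q : PrimeSpectrum (Kb ⊗[K] C), Q ∈ Algebra.smoothLocus Kb (Kb ⊗[K] C) := by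
    intro Q
    haveI : IsRegularLocalRing (Localization.AtPrime Q.asIdeal) :=
      (isRegularRing_iff.mp hreg) Q.asIdeal
    haveI : Algebra.EssFiniteType Kb (Localization.AtPrime Q.asIdeal) :=
      Algebra.EssFiniteType.comp Kb (Kb ⊗[K] C) _
    exact Groth.Agent.Lib.H87GenSmoothReg.formallySmooth_of_isRegularLocalRing Kb
      (Localization.AtPrime Q.asIdeal)
  have huniv : Algebra.smoothLocus K C = Set.univ := by
    rw [Set.eq_univ_iff_forall]
    intro q
    haveI : Module.FaithfullyFlat C (Kb ⊗[K] C) := by
      let e : (C ⊗[K] Kb) ≃ₗ[C] (Kb ⊗[K] C) :=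
        { (Algebra.TensorProduct.comm K C Kb).toLinearEquiv.toAddEquiv with
          map_smul' := by
            intro c x
            change (Algebra.TensorProduct.comm K C Kb) (c • x) =
              c • (Algebra.TensorProduct.comm K C Kb) x
            rw [Algebra.smul_def, Algebra.smul_def, map_mul]
            congr 1 }
      exact Module.FaithfullyFlat.of_linearEquiv C (C ⊗[K] Kb) e.symm
    obtain ⟨Q, rfl⟩ := PrimeSpectrum.comap_surjective_of_faithfullyFlat (A := C) (B := Kb ⊗[K] C) q
    exact Groth.Agent.Lib.SmoothLocusBC.comap_mem_smoothLocus_tensor K Kb C Q (hsmb Q)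
  exact Algebra.smoothLocus_eq_univ_iff.mp huniv

open TensorProduct in
/-- Let B be a finitely presented algebra over a commutative ring A. Then B is smooth over A if and only
if B is flat over A and every fibre ring κ(p) ⊗_A B, p a prime of A, is geometrically regular over
the residue field κ(p), i.e. stays a regular ring after base change to any finite extension of κ(p). -/
theorem result (A B : Type u) [CommRing A] [CommRing B]
    [Algebra A B] [Algebra.FinitePresentation A B] :
    Algebra.Smooth A B ↔
      Module.Flat A B ∧ ∀ (p : Ideal A) [p.IsPrime], CAlg.IsGeometricallyRegular p.ResidueField (p.Fiber B) := by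
  constructor
  · intro hsm
    refine ⟨inferInstance, ?_⟩
    intro p hp k' _ _ hfin
    haveI : Algebra.Smooth p.ResidueField (p.Fiber B) := by
      unfold Ideal.Fiber; infer_instance
    haveI : Algebra.Smooth k' (TensorProduct p.ResidueField k' (p.Fiber B)) := inferInstance
    exact Groth.Agent.Lib.SmoothRegular.isRegularRing_of_smooth k' _
  · rintro ⟨hflat, hfib⟩
    refine Algebra.Smooth.of_formallySmooth_fiber (fun p hp => ?_)
    exact Groth.Agent.S4996.formallySmooth_of_geomRegular p.ResidueField (p.Fiber B) (hfib p)

end Groth.Agent.S4996
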