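import Groth.Statements.S4997
import Groth.Agent.Lib.UnramifiedLocusBC
import Mathlib.RingTheory.Unramified.LocalStructure
import Mathlib.RingTheory.QuasiFinite.Basic
import Mathlib.RingTheory.RingHom.QuasiFinite
import Mathlib.AlgebraicGeometry.Morphisms.QuasiFinite

set_option autoImplicit false
universe u
open CategoryTheory CategoryTheory.Limits AlgebraicGeometry TopologicalSpace
open Unram17

namespace Groth.Agent.S4997

section helpers

/-- A finite nonzero algebra over a field `K` which is flat over `K[x₁,…,xₙ]` forces `n = 0`. -/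
lemma eq_zero_of_flat_of_finite (K B : Type*) [Field K] [CommRing B] [Algebra K B] [Nontrivial B]
    [Module.Finite K B] (n : ℕ) [Algebra (MvPolynomial (Fin n) K) B]
    [IsScalarTower K (MvPolynomial (Fin n) K) B] [Module.Flat (MvPolynomial (Fin n) K) B] :
    n = 0 := by
  by_contra hn
  obtain ⟨k, rfl⟩ := Nat.exists_eq_succ_of_ne_zero hn
  let i : Fin (k + 1) := 0
  let c : B := algebraMap (MvPolynomial (Fin (k + 1)) K) B (MvPolynomial.X i)
  have hc : IsIntegral K c := Algebra.IsIntegral.isIntegral c
  let m := minpoly K c
  let h : MvPolynomial (Fin (k + 1)) K := Polynomial.aeval (MvPolynomial.X i) m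
  have hh : h ≠ 0 := by
    intro h0
    let ev : MvPolynomial (Fin (k + 1)) K →ₐ[K] Polynomial K :=
      MvPolynomial.aeval (fun _ ↦ Polynomial.X)
    have h1 : ev h = m := by
      show ev (Polynomial.aeval (MvPolynomial.X i) m) = m
      rw [← Polynomial.aeval_algHom_apply, MvPolynomial.aeval_X, Polynomial.aeval_X_left_apply]
    rw [h0, map_zero] at h1
    exact minpoly.ne_zero hc h1.symm
  have hmap : algebraMap (MvPolynomial (Fin (k + 1)) K) B h = 0 := by
    show algebraMap (MvPolynomial (Fin (k + 1)) K) B (Polynomial.aeval (MvPolynomial.X i) m) = 0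
    rw [← Polynomial.aeval_algebraMap_apply]
    exact minpoly.aeval K c
  have hreg : IsSMulRegular (MvPolynomial (Fin (k + 1)) K) h :=
    (IsRegular.of_ne_zero hh).left.isSMulRegular
  have hreg' : IsSMulRegular B (algebraMap (MvPolynomial (Fin (k + 1)) K) B h) := hreg.of_flat
  rw [hmap] at hreg'
  have : (1 : B) = 0 := hreg' (by simp)
  exact one_ne_zero this

/-- Over a field, a smooth quasi-finite algebra is étale near every prime. -/
lemma exists_etale_away (K C : Type u) [Field K] [CommRing C] [Algebra K C] [Algebra.Smooth K C]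
    [Algebra.QuasiFinite K C] (q : Ideal C) [q.IsPrime] :
    ∃ g ∉ q, Algebra.Etale K (Localization.Away g) := by
  have hsm : Algebra.IsSmoothAt K q := by
    have : (⟨q, inferInstance⟩ : PrimeSpectrum C) ∈ Algebra.smoothLocus K C := by
      rw [Algebra.smoothLocus_eq_univ]; trivial
    exact this
  obtain ⟨g, hg, n, _, htower, hstd⟩ :=
    Algebra.IsSmoothAt.exists_isStandardEtale_mvPolynomial (R := K) (p := q)
  refine ⟨g, hg, ?_⟩
  have hfin : Module.Finite K (Localization.Away g) := Module.Finite.of_quasiFinite
  have hnt : Nontrivial (Localization.Away g) := by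
    by_contra hns
    rw [not_nontrivial_iff_subsingleton] at hns
    have h0 : (0 : C) ∈ Submonoid.powers g :=
      (IsLocalization.subsingleton_iff (M := Submonoid.powers g) (S := Localization.Away g)).mp hns
    obtain ⟨k, hk⟩ := h0
    have hk' : g ^ k = 0 := hk
    exact hg (‹q.IsPrime›.mem_of_pow_mem k (hk' ▸ q.zero_mem))
  have het : Algebra.Etale (MvPolynomial (Fin n) K) (Localization.Away g) := inferInstance
  have hflat : Module.Flat (MvPolynomial (Fin n) K) (Localization.Away g) := inferInstance
  have hn : n = 0 := eq_zero_of_flat_of_finite K (Localization.Away g) n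
  subst hn
  have h1 : Algebra.Etale K (MvPolynomial (Fin 0) K) :=
    Algebra.Etale.of_equiv (MvPolynomial.isEmptyAlgEquiv K (Fin 0)).symm
  exact Algebra.Etale.comp K (MvPolynomial (Fin 0) K) (Localization.Away g)

/-- Over a field, a smooth quasi-finite algebra is étale. -/
theorem etale_of_smooth_of_quasiFinite_field (K C : Type u) [Field K] [CommRing C] [Algebra K C]
    [Algebra.Smooth K C] [Algebra.QuasiFinite K C] : Algebra.Etale K C := by
  rw [← RingHom.etale_algebraMap]
  let s : Set C := {g | Algebra.Etale K (Localization.Away g)}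
  have hs : Ideal.span s = ⊤ := by
    by_contra hne
    obtain ⟨M, hM, hle⟩ := Ideal.exists_le_maximal _ hne
    obtain ⟨g, hg, hget⟩ := exists_etale_away K C M
    exact hg (hle (Ideal.subset_span hget))
  refine RingHom.Etale.ofLocalizationSpanTarget (algebraMap K C) s hs fun r ↦ ?_
  rw [← IsScalarTower.algebraMap_eq]
  exact RingHom.etale_algebraMap.mpr r.2

/-- Ring hom version, with source a field given by `IsField`. -/
theorem formallyUnramified_of_smooth_of_quasiFinite {R C : Type u} [CommRing R] [CommRing C]
    (hR : IsField R) (φ : R →+* C) (h1 : φ.Smooth) (h2 : φ.QuasiFinite) :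
    φ.FormallyUnramified := by
  let _ := hR.toField
  algebraize [φ]
  have : Algebra.Etale R C := etale_of_smooth_of_quasiFinite_field R C
  have h3 : (algebraMap R C).FormallyUnramified :=
    RingHom.formallyUnramified_algebraMap.mpr inferInstance
  rwa [RingHom.algebraMap_toAlgebra] at h3

/-- Scheme version over an affine base whose ring of global sections is a field. -/
theorem formallyUnramified_of_smooth_of_locallyQuasiFinite_field {Z T : Scheme.{u}} (g : Z ⟶ T)
    [IsAffine T] (hT : IsField Γ(T, ⊤)) [Smooth g] [LocallyQuasiFinite g] :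
    FormallyUnramified g := by
  rw [HasRingHomProperty.iff_of_source_openCover (P := @FormallyUnramified) Z.affineCover]
  intro i
  have h1 := (HasRingHomProperty.iff_of_source_openCover (P := @Smooth) Z.affineCover).mp
    ‹Smooth g› i
  have h2 := (HasRingHomProperty.iff_of_source_openCover (P := @LocallyQuasiFinite)
    Z.affineCover).mp ‹LocallyQuasiFinite g› i
  exact formallyUnramified_of_smooth_of_quasiFinite hT _ h1 h2

theorem etale_of_smooth_of_locallyQuasiFinite {X Y : Scheme.{u}} (f : X ⟶ Y) [Smooth f]
    [LocallyQuasiFinite f] : Etale f := by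
  have hun : FormallyUnramified f := by
    refine Groth.Agent.Lib.UnramifiedLocusBC.formallyUnramified_of_forall_stalkMap f fun x ↦ ?_
    have hP : IsPullback (f.fiberι (f x)) (f.fiberToSpecResidueField (f x)) f
        (Y.fromSpecResidueField (f x)) := IsPullback.of_hasPullback _ _
    have hsm : Smooth (f.fiberToSpecResidueField (f x)) :=
      MorphismProperty.of_isPullback (P := @Smooth) hP inferInstance
    have hqf : LocallyQuasiFinite (f.fiberToSpecResidueField (f x)) :=
      MorphismProperty.of_isPullback (P := @LocallyQuasiFinite) hP inferInstance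
    have hT : IsField Γ(Spec (Y.residueField (f x)), ⊤) :=
      MulEquiv.isField (Field.toIsField (Y.residueField (f x)))
        (Scheme.ΓSpecIso (Y.residueField (f x))).commRingCatIsoToRingEquiv.toMulEquiv
    have hun : FormallyUnramified (f.fiberToSpecResidueField (f x)) :=
      formallyUnramified_of_smooth_of_locallyQuasiFinite_field _ hT
    have h1 := FormallyUnramified.stalkMap (f.fiberToSpecResidueField (f x)) (f.asFiber x)
    rw [Groth.Agent.Lib.UnramifiedLocusBC.formallyUnramified_stalkMap_iff_of_isPullback hP
      (f.asFiber x)] at h1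
    rwa [Scheme.Hom.fiberι_asFiber] at h1
  exact Etale.of_formallyUnramified_of_flat f

theorem locallyQuasiFinite_of_etale {X Y : Scheme.{u}} (f : X ⟶ Y) [Etale f] :
    LocallyQuasiFinite f := by
  rw [HasRingHomProperty.iff_appLE (P := @LocallyQuasiFinite)]
  intro U V e
  have h := f.etale_appLE U.2 V.2 e
  algebraize [(f.appLE U V e).hom]
  have : Algebra.QuasiFinite Γ(Y, U) Γ(X, V) := inferInstance
  exact this

end helpers

/-- A morphism of schemes is etale if and only if it is smooth and locally quasi-finite. -/
theorem result {X Y : Scheme.{u}} (f : X ⟶ Y) :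
    Etale f ↔ Smooth f ∧ LocallyQuasiFinite f := by
  constructor
  · intro h
    exact ⟨inferInstance, locallyQuasiFinite_of_etale f⟩
  · rintro ⟨h1, h2⟩
    exact etale_of_smooth_of_locallyQuasiFinite f

end Groth.Agent.S4997
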