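-- Statement S4998.
import Groth.Statements.S4998
import Mathlib.RingTheory.Etale.Field
import Mathlib.RingTheory.Unramified.Finite
import Mathlib.RingTheory.Kaehler.Basic

set_option autoImplicit false
universe u
open Unram17

namespace Groth.Agent.S4998

/-- Let A be an algebra of finite type over a field k. Then A is formally unramified over k if and only
if A is finite over k and every element of A has separable minimal polynomial over k (equivalently,
A is a finite product of finite separable extensions of k). -/
theorem result (k A : Type u) [Field k] [CommRing A]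
    [Algebra k A] [Algebra.FiniteType k A] :
    Algebra.FormallyUnramified k A ↔ Module.Finite k A ∧ Algebra.IsSeparable k A := by
  classical
  constructor
  · intro hunr
    have hfin : Module.Finite k A := Algebra.FormallyUnramified.finite_of_free k A
    refine ⟨hfin, ?_⟩
    have het : Algebra.FormallyEtale k A := Algebra.FormallyEtale.of_formallyUnramified_of_field k A
    obtain ⟨I, hI, Ai, hfield, halg, e, hsep⟩ :=
      (Algebra.FormallyEtale.iff_exists_algEquiv_prod (K := k) (A := A)).mp het
    have := Fintype.ofFinite I
    refine ⟨fun x => ?_⟩
    change (minpoly k x).Separable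
    rw [← minpoly.algEquiv_eq e x]
    set y := e x with hy
    let S : Finset (Polynomial k) := Finset.univ.image (fun i => minpoly k (y i))
    have hint : ∀ i, IsIntegral k (y i) := fun i => Algebra.IsSeparable.isIntegral k (y i)
    have hP : Polynomial.aeval y (∏ p ∈ S, p) = 0 := by
      ext i
      have h1 := Polynomial.aeval_algHom_apply (Pi.evalAlgHom k Ai i) y (∏ p ∈ S, p)
      simp only [Pi.evalAlgHom_apply] at h1
      rw [← h1]
      have hdvd : minpoly k (y i) ∣ ∏ p ∈ S, p :=
        Finset.dvd_prod_of_mem _ (Finset.mem_image_of_mem _ (Finset.mem_univ i))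
      obtain ⟨q, hq⟩ := hdvd
      rw [hq, map_mul, minpoly.aeval, zero_mul]
      rfl
    have hdvd : minpoly k y ∣ ∏ p ∈ S, p := minpoly.dvd k y hP
    refine Polynomial.Separable.of_dvd ?_ hdvd
    apply Polynomial.separable_prod'
    · intro p hp q hq hpq
      obtain ⟨i, -, rfl⟩ := Finset.mem_image.mp hp
      obtain ⟨j, -, rfl⟩ := Finset.mem_image.mp hq
      rw [(minpoly.irreducible (hint i)).coprime_iff_not_dvd]
      intro hdiv
      apply hpq
      have hassoc : Associated (minpoly k (y i)) (minpoly k (y j)) :=
        (minpoly.irreducible (hint i)).associated_of_dvd (minpoly.irreducible (hint j)) hdiv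
      exact Polynomial.eq_of_monic_of_associated (minpoly.monic (hint i)) (minpoly.monic (hint j)) hassoc
    · intro p hp
      obtain ⟨i, -, rfl⟩ := Finset.mem_image.mp hp
      exact Algebra.IsSeparable.isSeparable k (y i)
  · rintro ⟨hfin, hsep⟩
    refine ⟨?_⟩
    have hD : ∀ x : A, KaehlerDifferential.D k A x = 0 := by
      intro x
      have hs : (minpoly k x).Separable := Algebra.IsSeparable.isSeparable k x
      obtain ⟨a, b, hab⟩ := hs
      have h0 : KaehlerDifferential.D k A (Polynomial.aeval x (minpoly k x)) = 0 := by
        rw [minpoly.aeval, map_zero]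
      rw [Derivation.map_aeval] at h0
      have h1 := congrArg (Polynomial.aeval x) hab
      simp only [map_add, map_mul, minpoly.aeval, mul_zero, zero_add, map_one] at h1
      calc KaehlerDifferential.D k A x
          = (Polynomial.aeval x b * Polynomial.aeval x (Polynomial.derivative (minpoly k x))) •
              KaehlerDifferential.D k A x := by rw [h1, one_smul]
        _ = 0 := by rw [mul_smul, h0, smul_zero]
    have htop : (⊤ : Submodule A (KaehlerDifferential k A)) = ⊥ := by
      rw [← KaehlerDifferential.span_range_derivation, Submodule.span_eq_bot]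
      rintro _ ⟨x, rfl⟩
      exact hD x
    exact (Submodule.subsingleton_iff A).mp (subsingleton_iff_bot_eq_top.mp htop.symm)

end Groth.Agent.S4998
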