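import Groth.Statements.S4999
import Groth.Agent.Lib.SmoothOmega6
import Groth.Agent.Lib.H71GenericSmoothRing

set_option autoImplicit false
universe u
open Unram17

namespace Groth.Agent.S4999

/-- Let A be an algebra of finite type over a field k. Then A is smooth over k if and only if the module
of differentials of A over k is projective (locally free) and, at every minimal prime p of A, the
local ring A_p is geometrically reduced over k, which for this Artinian local ring says that A_p is
a field and a separable (not necessarily algebraic) extension of k. -/
theorem result (k A : Type u) [Field k] [CommRing A]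
    [Algebra k A] [Algebra.FiniteType k A] :
    Algebra.Smooth k A ↔
      Module.Projective A (KaehlerDifferential k A) ∧
        ∀ (p : Ideal A) [p.IsPrime], p ∈ minimalPrimes A →
          Algebra.IsGeometricallyReduced k (Localization.AtPrime p) := by
  constructor
  · intro hsm
    have hfp : Algebra.FinitePresentation k A := hsm.finitePresentation
    refine ⟨inferInstance, ?_⟩
    intro p hp hpmin
    have hsub : (PrimeSpectrum.basicOpen (1 : A) : Set (PrimeSpectrum A)) ⊆ Algebra.smoothLocus k A := by
      rw [Algebra.smoothLocus_eq_univ]; exact Set.subset_univ _
    have : Algebra.Smooth k (Localization.Away (1 : A)) :=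
      Algebra.basicOpen_subset_smoothLocus_iff_smooth.mp hsub
    exact Groth.Agent.Lib.H71GenericSmoothRing.isGeometricallyReduced_atPrime_of_smooth_away k A 1 p
      (fun h1 => hp.ne_top ((Ideal.eq_top_iff_one p).mpr h1))
  · rintro ⟨hproj, h⟩
    exact Groth.Agent.Lib.SmoothOmega6.smooth_of_projective_of_geomReduced k A h

end Groth.Agent.S4999
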