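import Groth.Statements.S5026
import Mathlib
import Groth.Agent.Lib.H93SmoothCrit
import Groth.Agent.Lib.H30DimFieldRing
import Groth.Agent.S2790

set_option autoImplicit false
universe u
open Unram17

namespace Groth.Agent.S5026

section Helpers

namespace G1
open KaehlerDifferential TensorProduct IsLocalRing

variable {k R : Type u} [Field k] [CommRing R] [Algebra k R] [IsLocalRing R]

/-- `1 ⊗ d x ∈ κ ⊗ Ω[R/k]`. -/
noncomputable def tm (x : R) : ResidueField R ⊗[R] Ω[R⁄k] := (1 : ResidueField R) ⊗ₜ[R] D k R x

lemma tm_add (x y : R) : tm (k := k) (x + y) = tm x + tm y := by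
  simp [tm, tmul_add]

lemma tm_mul (a x : R) : tm (k := k) (a * x) = residue R a • tm x + residue R x • tm a := by
  simp only [tm, Derivation.leibniz, tmul_add, tmul_smul]
  rfl

lemma tm_zero : tm (k := k) (0 : R) = 0 := by simp [tm]

lemma mapBaseChange_tm (x : R) :
    mapBaseChange k R (ResidueField R) (tm x) = D k (ResidueField R) (residue R x) := by
  rw [tm, mapBaseChange_tmul, one_smul, KaehlerDifferential.map_D]
  rfl

variable {ι : Type*}

/-- Nakayama: the `d x_i` span `Ω[R/k]` iff their classes span `κ ⊗ Ω[R/k]`. -/
lemma nakayama [Module.Finite R Ω[R⁄k]] (x : ι → R) :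
    Submodule.span R (Set.range fun i => D k R (x i)) = ⊤ ↔
      Submodule.span (ResidueField R) (Set.range fun i => tm (k := k) (x i)) = ⊤ := by
  rw [← IsLocalRing.map_tensorProduct_mk_eq_top
    (N := Submodule.span R (Set.range fun i => D k R (x i))), Submodule.map_span, ← Set.range_comp,
    ← Submodule.restrictScalars_eq_top_iff R (ResidueField R),
    Submodule.restrictScalars_span R (ResidueField R) IsLocalRing.residue_surjective]
  rfl

/-- Elements of the span of elements `x i ∈ 𝔪` have `tm` in the span of the `tm (x i)`. -/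
lemma tm_mem_of_mem_span (x : ι → R) (s : Set ι) (hxs : ∀ i ∈ s, x i ∈ maximalIdeal R)
    {y : R} (hy : y ∈ Ideal.span (x '' s)) :
    y ∈ maximalIdeal R ∧
      tm (k := k) y ∈ Submodule.span (ResidueField R) (Set.range fun i => tm (k := k) (x i)) := by
  refine Submodule.span_induction ?_ ?_ ?_ ?_ hy
  · rintro _ ⟨i, hi, rfl⟩
    exact ⟨hxs i hi, Submodule.subset_span ⟨i, rfl⟩⟩
  · exact ⟨zero_mem _, by rw [tm_zero]; exact zero_mem _⟩
  · rintro a b _ _ ⟨ha1, ha2⟩ ⟨hb1, hb2⟩
    exact ⟨add_mem ha1 hb1, by rw [tm_add]; exact add_mem ha2 hb2⟩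
  · rintro a b _ ⟨hb1, hb2⟩
    refine ⟨Ideal.mul_mem_left _ _ hb1, ?_⟩
    rw [smul_eq_mul, tm_mul, (residue_eq_zero_iff b).mpr hb1, zero_smul, add_zero]
    exact Submodule.smul_mem _ _ hb2

/-- If part of the `x i` generate `𝔪` and the rest have differentials spanning `Ω[κ/k]`, then
the `1 ⊗ d x_i` span `κ ⊗ Ω[R/k]`. -/
lemma backward (x : ι → R) (s : Set ι) (hxs : ∀ i ∈ s, x i ∈ maximalIdeal R)
    (G1 : Ideal.span (x '' s) = maximalIdeal R)
    (G2 : Submodule.span (ResidueField R)
      ((fun i => D k (ResidueField R) (residue R (x i))) '' sᶜ) = ⊤) :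
    Submodule.span (ResidueField R) (Set.range fun i => tm (k := k) (x i)) = ⊤ := by
  rw [eq_top_iff]
  intro t _
  set S := Submodule.span (ResidueField R) (Set.range fun i => tm (k := k) (x i)) with hS
  -- first kill the image in `Ω[κ/k]`
  have h1 : mapBaseChange k R (ResidueField R) t ∈
      Submodule.map (mapBaseChange k R (ResidueField R))
        (Submodule.span (ResidueField R) ((fun i => tm (k := k) (x i)) '' sᶜ)) := by
    rw [Submodule.map_span, ← Set.image_comp]
    have : (mapBaseChange k R (ResidueField R)) ∘ (fun i => tm (k := k) (x i)) =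
        fun i => D k (ResidueField R) (residue R (x i)) := by
      funext i
      exact mapBaseChange_tm (x i)
    rw [this, G2]
    trivial
  obtain ⟨t', ht', htt'⟩ := h1
  have ht'S : t' ∈ S := by
    refine Submodule.span_mono ?_ ht'
    rintro _ ⟨i, -, rfl⟩
    exact ⟨i, rfl⟩
  have h2 : mapBaseChange k R (ResidueField R) (t - t') = 0 := by
    rw [map_sub, htt', sub_self]
  obtain ⟨z, hz⟩ := (KaehlerDifferential.exact_kerCotangentToTensor_mapBaseChange k R
    (ResidueField R) IsLocalRing.residue_surjective (t - t')).mp h2
  obtain ⟨y, rfl⟩ := Ideal.toCotangent_surjective _ z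
  rw [kerCotangentToTensor_toCotangent] at hz
  have hy : (y : R) ∈ Ideal.span (x '' s) := by
    rw [G1, ← IsLocalRing.ker_residue]
    exact y.2
  have h3 := (tm_mem_of_mem_span (k := k) x s hxs hy).2
  have h4 : t - t' ∈ S := by rw [← hz]; exact h3
  have := add_mem h4 ht'S
  rwa [sub_add_cancel] at this

/-- If the `1 ⊗ d x_i` span `κ ⊗ Ω[R/k]` and `x i ∈ 𝔪` for `i ∈ s`, the remaining
differentials span `Ω[κ/k]`. -/
lemma forward_G2 (x : ι → R) (s : Set ι) (hxs : ∀ i ∈ s, x i ∈ maximalIdeal R)
    (h : Submodule.span (ResidueField R) (Set.range fun i => tm (k := k) (x i)) = ⊤) :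
    Submodule.span (ResidueField R)
      ((fun i => D k (ResidueField R) (residue R (x i))) '' sᶜ) = ⊤ := by
  have hsurj := KaehlerDifferential.mapBaseChange_surjective k R (ResidueField R)
    IsLocalRing.residue_surjective
  rw [eq_top_iff, ← LinearMap.range_eq_top.mpr hsurj, LinearMap.range_eq_map, ← h,
    Submodule.map_span, Submodule.span_le]
  rintro _ ⟨_, ⟨i, rfl⟩, rfl⟩
  rw [mapBaseChange_tm]
  by_cases hi : i ∈ s
  · rw [(residue_eq_zero_iff (x i)).mpr (hxs i hi), map_zero]
    exact zero_mem _
  · exact Submodule.subset_span ⟨i, hi, rfl⟩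

/-- An element of `J = ker (R → κ)` dying in the cotangent space has `tm = 0`. -/
lemma tm_eq_zero_of_toCotangent_eq_zero (J : Ideal R)
    (hJ : J = RingHom.ker (algebraMap R (ResidueField R))) (y : J) (hy : J.toCotangent y = 0) :
    tm (k := k) (y : R) = 0 := by
  subst hJ
  rw [tm, ← kerCotangentToTensor_toCotangent, hy, map_zero]

/-- If the `1 ⊗ d x_i` are linearly independent, `x i ∈ 𝔪` for `i ∈ s` and `s` has as many
elements as the dimension of the cotangent space, then the `x i`, `i ∈ s`, generate `𝔪`. -/
lemma forward_G1 [IsNoetherianRing R] [Fintype ι] (x : ι → R) (s : Finset ι)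
    (hxs : ∀ i ∈ s, x i ∈ maximalIdeal R)
    (hli : LinearIndependent (ResidueField R) (fun i => tm (k := k) (x i)))
    (hcard : s.card = Module.finrank (ResidueField R) (CotangentSpace R)) :
    Ideal.span (x '' (s : Set ι)) = maximalIdeal R := by
  classical
  let xs : s → maximalIdeal R := fun i => ⟨x i, hxs i i.2⟩
  let t : s → CotangentSpace R := fun i => (maximalIdeal R).toCotangent (xs i)
  have hJ : maximalIdeal R = RingHom.ker (algebraMap R (ResidueField R)) :=
    (IsLocalRing.ker_residue (R := R)).symm
  have hlit : LinearIndependent (ResidueField R) t := by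
    rw [Fintype.linearIndependent_iff]
    intro a ha
    choose b hb using fun i => IsLocalRing.residue_surjective (a i)
    have h1 : (maximalIdeal R).toCotangent (∑ i, b i • xs i) = 0 := by
      rw [map_sum, ← ha]
      refine Finset.sum_congr rfl (fun i _ => ?_)
      rw [map_smul, ← hb i]
      rfl
    have h2 := tm_eq_zero_of_toCotangent_eq_zero (k := k) (maximalIdeal R) hJ _ h1
    have h3 : tm (k := k) ((∑ i, b i • xs i : maximalIdeal R) : R) =
        ∑ i : s, a i • tm (k := k) (x i) := by
      have : ((∑ i, b i • xs i : maximalIdeal R) : R) = ∑ i : s, b i * x i := by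
        simp [xs]
      rw [this]
      have hsum : ∀ (u : Finset s), tm (k := k) (∑ i ∈ u, b i * x i) =
          ∑ i ∈ u, a i • tm (k := k) (x i) := by
        intro u
        induction u using Finset.induction_on with
        | empty => simp [tm_zero]
        | insert j u hj ih =>
          rw [Finset.sum_insert hj, Finset.sum_insert hj, tm_add, ih, tm_mul, hb,
            (residue_eq_zero_iff (x j)).mpr (hxs j j.2), zero_smul, add_zero]
      exact hsum Finset.univ
    rw [h3] at h2
    have hli' : LinearIndependent (ResidueField R) (fun i : s => tm (k := k) (x i)) :=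
      hli.comp (fun i : s => (i : ι)) Subtype.val_injective
    exact Fintype.linearIndependent_iff.mp hli' a h2
  have hspan : Submodule.span (ResidueField R) (Set.range t) = ⊤ :=
    hlit.span_eq_top_of_card_eq_finrank' (by rw [Fintype.card_coe, hcard])
  have hspan' : Submodule.span (ResidueField R)
      ((maximalIdeal R).toCotangent '' (Set.range xs)) = ⊤ := by
    rw [← Set.range_comp]; exact hspan
  rw [CotangentSpace.span_image_eq_top_iff] at hspan'
  have h5 := congrArg (Submodule.map (maximalIdeal R).subtype) hspan'
  rw [Submodule.map_span, Submodule.map_top, Submodule.range_subtype, ← Set.range_comp] at h5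
  rw [← h5]
  congr 1
  ext y
  constructor
  · rintro ⟨i, hi, rfl⟩
    exact ⟨⟨i, hi⟩, rfl⟩
  · rintro ⟨i, rfl⟩
    exact ⟨i, i.2, rfl⟩

end G1

namespace G2
open MvPolynomial KaehlerDifferential TensorProduct IsLocalRing Groth.Agent.Lib.H93SmoothCrit

lemma card_filter_lt (n r : ℕ) (h : r ≤ n) :
    (Finset.univ.filter (fun i : Fin n => (i : ℕ) < r)).card = r := by
  have : Finset.univ.filter (fun i : Fin n => (i : ℕ) < r) =
      (Finset.univ : Finset (Fin r)).map (Fin.castLEEmb h) := by
    ext i
    simp only [Finset.mem_filter, Finset.mem_univ, true_and, Finset.mem_map, Fin.castLEEmb_apply]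
    constructor
    · intro hi
      exact ⟨⟨i, hi⟩, by ext; rfl⟩
    · rintro ⟨j, rfl⟩
      exact j.2
  rw [this, Finset.card_map, Finset.card_univ, Fintype.card_fin]

theorem main (k A : Type u) [Field k] [CommRing A] [Algebra k A] [Algebra.FiniteType k A]
    (n r : ℕ) [Algebra (MvPolynomial (Fin n) k) A] [IsScalarTower k (MvPolynomial (Fin n) k) A]
    (p : Ideal A) [p.IsPrime]
    (hn : FlatMor.localDim (PrimeSpectrum A) ⟨p, inferInstance⟩ = (n : WithBot ℕ∞))
    (hr : ringKrullDim (Localization.AtPrime p) = (r : WithBot ℕ∞))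
    (hg : ∀ i : Fin n, (i : ℕ) < r → algebraMap (MvPolynomial (Fin n) k) A (MvPolynomial.X i) ∈ p) :
    Algebra.IsEtaleAt (MvPolynomial (Fin n) k) p ↔
      Ideal.span ((fun i : Fin n =>
          algebraMap A (Localization.AtPrime p) (algebraMap (MvPolynomial (Fin n) k) A (MvPolynomial.X i))) ''
            {i : Fin n | (i : ℕ) < r}) = IsLocalRing.maximalIdeal (Localization.AtPrime p) ∧
        Submodule.span p.ResidueField ((fun i : Fin n =>
          KaehlerDifferential.D k p.ResidueField
            (IsLocalRing.residue (Localization.AtPrime p)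
              (algebraMap A (Localization.AtPrime p) (algebraMap (MvPolynomial (Fin n) k) A (MvPolynomial.X i))))) ''
            {i : Fin n | r ≤ (i : ℕ)}) = ⊤ := by
  classical
  haveI : Algebra.FinitePresentation k A :=
    Algebra.FinitePresentation.of_finiteType.mp inferInstance
  haveI : Algebra.EssFiniteType k (Localization.AtPrime p) :=
    Algebra.EssFiniteType.comp k A (Localization.AtPrime p)
  set x : Fin n → Localization.AtPrime p := fun i =>
    algebraMap A (Localization.AtPrime p) (algebraMap (MvPolynomial (Fin n) k) A (MvPolynomial.X i))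
    with hx
  set s : Set (Fin n) := {i : Fin n | (i : ℕ) < r} with hs
  have hsc : {i : Fin n | r ≤ (i : ℕ)} = sᶜ := by
    ext i; simp [hs, not_lt]
  have hxs : ∀ i ∈ s, x i ∈ maximalIdeal (Localization.AtPrime p) := by
    intro i hi
    exact (IsLocalization.AtPrime.to_map_mem_maximal_iff _ p _).mpr (hg i hi)
  rw [Groth.Agent.S2790.result k A n p hn, hsc]
  change Submodule.span (Localization.AtPrime p)
    (Set.range fun i => D k (Localization.AtPrime p) (x i)) = ⊤ ↔ _
  rw [G1.nakayama]
  constructor
  · intro h
    refine ⟨?_, G1.forward_G2 x s hxs h⟩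
    have hSP := (G1.nakayama (k := k) x).mpr h
    obtain ⟨g, hgp, hstd⟩ := F3.CL k A p n hn (fun i => D k (Localization.AtPrime p) (x i)) hSP
    obtain ⟨hsm, hfree, hfin, hrank⟩ := F4.free_of_away k A p n g hgp
    have hrank' : Module.finrank p.ResidueField
        (p.ResidueField ⊗[Localization.AtPrime p] Ω[Localization.AtPrime p⁄k]) = n := by
      rw [Module.finrank_baseChange, hrank]
    have hli : LinearIndependent p.ResidueField (fun i => G1.tm (k := k) (x i)) :=
      linearIndependent_of_top_le_span_of_card_eq_finrank h.ge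
        (by rw [Fintype.card_fin]; exact hrank'.symm)
    haveI hreg : IsRegularLocalRing (Localization.AtPrime p) :=
      Groth.Agent.Lib.H56RegSmooth.isRegularLocalRing_of_isSmoothAt p hsm
    have hcot : Module.finrank p.ResidueField (CotangentSpace (Localization.AtPrime p)) = r := by
      have h1 := (IsRegularLocalRing.iff_finrank_cotangentSpace (R := Localization.AtPrime p)).mp hreg
      rw [hr] at h1
      exact_mod_cast h1
    have hrn : r ≤ n := by
      have h1 : (r : WithBot ℕ∞) ≤ n := by
        rw [← hr, ← hn, Groth.Agent.Lib.H30DimFieldRing.localDim_primeSpectrum_eq_iInf (k := k) p]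
        refine le_iInf fun m => ?_
        haveI := m.2.1.isPrime
        rw [IsLocalization.AtPrime.ringKrullDim_eq_height p,
          IsLocalization.AtPrime.ringKrullDim_eq_height m.1]
        exact_mod_cast Ideal.height_mono m.2.2
      exact_mod_cast h1
    have h2 := G1.forward_G1 (k := k) x (Finset.univ.filter (fun i : Fin n => (i : ℕ) < r))
      (fun i hi => hxs i (by simpa [hs] using hi)) hli (by rw [card_filter_lt n r hrn, hcot])
    rw [← h2]
    congr 2
    ext i
    simp [hs]
  · rintro ⟨h1, h2⟩
    exact G1.backward x s hxs h1 h2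

end G2

end Helpers

/-- Let k be a field, A a k-algebra of finite type equipped with a k-algebra map from the polynomial
ring in n variables (images g_i of the variables), p a prime of A such that Spec A has local
dimension n at p, r the Krull dimension of the local ring A_p, and suppose g_i ∈ p for the indices i
< r. Then A is etale at p over the polynomial ring if and only if the images of the g_i with i < r
generate the maximal ideal of A_p and the differentials of the residue classes of the g_i with i ≥ r
generate the module of differentials of the residue field κ(p) over k. (The published statement adds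
that these conditions imply that A is smooth at p over k and that κ(p) is separable over k; this row
does not state that consequence.) -/
theorem result (k A : Type u) [Field k]
    [CommRing A] [Algebra k A] [Algebra.FiniteType k A] (n r : ℕ) [Algebra (MvPolynomial (Fin n) k) A]
    [IsScalarTower k (MvPolynomial (Fin n) k) A] (p : Ideal A) [p.IsPrime]
    (hn : FlatMor.localDim (PrimeSpectrum A) ⟨p, inferInstance⟩ = (n : WithBot ℕ∞))
    (hr : ringKrullDim (Localization.AtPrime p) = (r : WithBot ℕ∞))
    (hg : ∀ i : Fin n, (i : ℕ) < r → algebraMap (MvPolynomial (Fin n) k) A (MvPolynomial.X i) ∈ p) :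
    Algebra.IsEtaleAt (MvPolynomial (Fin n) k) p ↔
      Ideal.span ((fun i : Fin n =>
          algebraMap A (Localization.AtPrime p) (algebraMap (MvPolynomial (Fin n) k) A (MvPolynomial.X i))) ''
            {i : Fin n | (i : ℕ) < r}) = IsLocalRing.maximalIdeal (Localization.AtPrime p) ∧
        Submodule.span p.ResidueField ((fun i : Fin n =>
          KaehlerDifferential.D k p.ResidueField
            (IsLocalRing.residue (Localization.AtPrime p)
              (algebraMap A (Localization.AtPrime p) (algebraMap (MvPolynomial (Fin n) k) A (MvPolynomial.X i))))) ''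
            {i : Fin n | r ≤ (i : ℕ)}) = ⊤ := by
  exact G2.main k A n r p hn hr hg

end Groth.Agent.S5026
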