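import Groth.Statements.S5002
import Mathlib.RingTheory.Finiteness.NilpotentKer
import Mathlib.RingTheory.Kaehler.Basic

set_option autoImplicit false
universe u
open PP16

namespace Groth.Agent.S5002

open scoped TensorProduct

/-- Suppose A is a commutative ring and B is a finite-type A-algebra. For each n, the ring of principal
parts of order n of B over A is then finitely generated as a B-module, where B acts via the first
factor. -/
theorem result (n : ℕ) (A B : Type u) [CommRing A] [CommRing B] [Algebra A B]
    [Algebra.FiniteType A B] : Module.Finite B (PP16.P n A B) := by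
  have hle : KaehlerDifferential.ideal A B ^ (n + 1) ≤
      RingHom.ker (Algebra.TensorProduct.lmul'' A : B ⊗[A] B →ₐ[B] B) := by
    refine (Ideal.pow_le_self (Nat.succ_ne_zero n)).trans ?_
    intro x hx
    exact hx
  let f : PP16.P n A B →ₐ[B] B :=
    Ideal.Quotient.liftₐ (KaehlerDifferential.ideal A B ^ (n + 1))
      (Algebra.TensorProduct.lmul'' A : B ⊗[A] B →ₐ[B] B) (fun x hx => hle hx)
  have hf_mk : ∀ x : B ⊗[A] B, f (Ideal.Quotient.mk _ x) = Algebra.TensorProduct.lmul'' A x :=
    fun x => rfl
  have hf₁ : Function.Surjective f := by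
    intro b
    refine ⟨Ideal.Quotient.mk _ (b ⊗ₜ[A] (1 : B)), ?_⟩
    rw [hf_mk]
    change b * 1 = b
    rw [mul_one]
  have hker : RingHom.ker f = (KaehlerDifferential.ideal A B).map
      (Ideal.Quotient.mk (KaehlerDifferential.ideal A B ^ (n + 1))) := by
    apply le_antisymm
    · intro y hy
      obtain ⟨x, rfl⟩ := Ideal.Quotient.mk_surjective y
      rw [RingHom.mem_ker] at hy
      have hy' : f (Ideal.Quotient.mk _ x) = 0 := hy
      rw [hf_mk] at hy'
      exact Ideal.mem_map_of_mem _ hy'
    · rw [Ideal.map_le_iff_le_comap]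
      intro x hx
      rw [Ideal.mem_comap, RingHom.mem_ker]
      change f (Ideal.Quotient.mk _ x) = 0
      rw [hf_mk]
      exact hx
  have hf₂ : RingHom.ker f ≤ nilradical (PP16.P n A B) := by
    intro y hy
    rw [hker] at hy
    refine ⟨n + 1, ?_⟩
    have h1 : y ^ (n + 1) ∈ ((KaehlerDifferential.ideal A B).map
        (Ideal.Quotient.mk (KaehlerDifferential.ideal A B ^ (n + 1)))) ^ (n + 1) :=
      Ideal.pow_mem_pow hy _
    rw [← Ideal.map_pow, Ideal.map_quotient_self, Ideal.mem_bot] at h1
    exact h1
  have hf₃ : (RingHom.ker f).FG := by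
    rw [hker]
    exact (KaehlerDifferential.ideal_fg A B).map _
  exact Module.finite_of_surjective_of_ker_le_nilradical f hf₁ hf₂ hf₃

end Groth.Agent.S5002
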