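import Groth.Statements.S5004
import Groth.Agent.Lib.QuasiRegLoc

set_option autoImplicit false
universe u
open CategoryTheory CategoryTheory.Limits AlgebraicGeometry TopologicalSpace
open Nrm16

namespace Groth.Agent.S5004

/-- On a locally Noetherian scheme, every quasi-regular (quasi-coherent) ideal sheaf is a regular ideal
sheaf. -/
theorem result {X : Scheme.{u}} [IsLocallyNoetherian X] (I : X.IdealSheafData)
    (h : RegImm.IsRegularIdeal RegImm.Kind.quasi I) : RegImm.IsRegularIdeal RegImm.Kind.regular I := by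
  intro x hx
  obtain ⟨U, hxU, rs, hrs, hI⟩ := h x hx
  have hN : IsNoetherianRing Γ(X, U.1) := IsLocallyNoetherian.component_noetherian U
  obtain ⟨g, hg1, hg⟩ :=
    Groth.Agent.Lib.QuasiRegLoc.exists_isWeaklyRegular_map_of_isQuasiRegular rs hrs
  have hloc : IsLocalization.Away g Γ(X, X.basicOpen g) := U.2.isLocalization_basicOpen g
  have hzl := (Scheme.IdealSheafData.mem_support_iff_of_mem (I := I) hxU).mp hx
  rw [Scheme.mem_zeroLocus_iff] at hzl
  -- `x` lies in `D(g)`
  have hxg : x ∈ X.basicOpen g := by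
    have h1 : x ∉ X.basicOpen (1 - g) := by
      apply hzl
      rw [SetLike.mem_coe, hI]
      have : (1 : Γ(X, U.1)) - g = -(g - 1) := by ring
      rw [this]
      exact neg_mem hg1
    have h2 : x ∈ X.basicOpen ((g + (1 - g)) : Γ(X, U.1)) := by
      have : g + (1 - g) = (1 : Γ(X, U.1)) := by ring
      rw [this, Scheme.basicOpen_one]
      exact hxU
    rcases X.basicOpen_add_le g (1 - g) h2 with h3 | h3
    · exact h3
    · exact absurd h3 h1
  refine ⟨X.affineBasicOpen g, hxg, rs.map (algebraMap Γ(X, U.1) Γ(X, X.basicOpen g)), ?_, ?_⟩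
  · have hI' : I.ideal (X.affineBasicOpen g) =
        Ideal.ofList (rs.map (algebraMap Γ(X, U.1) Γ(X, X.basicOpen g))) := by
      rw [← I.map_ideal_basicOpen U g, hI, Ideal.map_ofList]
      rfl
    refine ⟨hg Γ(X, X.basicOpen g), ?_⟩
    -- properness
    intro htop
    have h1 : I.ideal (X.affineBasicOpen g) = ⊤ := by
      rw [hI']
      have := htop
      rw [smul_eq_mul, Ideal.mul_top] at this
      exact this.symm
    have hzl' := (Scheme.IdealSheafData.mem_support_iff_of_mem (I := I)
      (U := X.affineBasicOpen g) hxg).mp hx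
    rw [Scheme.mem_zeroLocus_iff] at hzl'
    have h2 := hzl' 1 (by rw [h1]; trivial)
    rw [Scheme.basicOpen_one] at h2
    exact h2 hxg
  · rw [← I.map_ideal_basicOpen U g, hI, Ideal.map_ofList]
    rfl

end Groth.Agent.S5004

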