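import Groth.Statements.S5006
import Mathlib.RingTheory.Nakayama
import Mathlib.RingTheory.Noetherian.Nilpotent
import Mathlib.RingTheory.Finiteness.Ideal
import Mathlib.RingTheory.LocalRing.MaximalIdeal.Basic
import Mathlib.RingTheory.Localization.AtPrime.Basic

set_option autoImplicit false
universe u
open Nrm16

namespace Groth.Agent.S5006

/-- Let A be a commutative ring, I a finitely generated ideal and p a prime ideal containing I. Then
some basic open neighbourhood of p in Spec A is contained in the closed set V(I) (so that V(I) ⟶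
Spec A is a local homeomorphism onto an open set near p) if and only if there is an integer n > 0
with I^n A_p = I^(n+1) A_p in the local ring at p. Affine form. -/
theorem result (A : Type u) [CommRing A] (I : Ideal A) (hI : I.FG)
    (p : Ideal A) [p.IsPrime] (hp : I ≤ p) :
    (∃ f : A, f ∉ p ∧ ∀ q : Ideal A, q.IsPrime → f ∉ q → I ≤ q) ↔
      ∃ n : ℕ, 0 < n ∧
        (I ^ n).map (algebraMap A (Localization.AtPrime p)) =
          (I ^ (n + 1)).map (algebraMap A (Localization.AtPrime p)) := by
  constructor
  · rintro ⟨f, hfp, hf⟩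
    -- I * (f) is contained in the nilradical
    have hle : I * Ideal.span {f} ≤ nilradical A := by
      rw [nilradical_eq_sInf]
      refine le_sInf fun q hq => ?_
      have hq' : q.IsPrime := hq
      by_cases hfq : f ∈ q
      · exact Ideal.mul_le_right.trans ((Ideal.span_singleton_le_iff_mem q).mpr hfq)
      · exact Ideal.mul_le_left.trans (hf q hq' hfq)
    have hfg : (I * Ideal.span {f}).FG := hI.mul ⟨{f}, by simp⟩
    obtain ⟨n, hn⟩ := (hfg.isNilpotent_iff_le_nilradical).mpr hle
    have hn' : (I * Ideal.span {f}) ^ (n + 1) = ⊥ := by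
      rw [pow_succ, hn]; exact Ideal.bot_mul _
    have hzero : (I ^ (n + 1)).map (algebraMap A (Localization.AtPrime p)) = ⊥ := by
      rw [Ideal.map_eq_bot_iff_le_ker]
      intro x hx
      rw [RingHom.mem_ker]
      have h1 : x * f ^ (n + 1) ∈ (I * Ideal.span {f}) ^ (n + 1) := by
        rw [mul_pow]
        exact Ideal.mul_mem_mul hx (Ideal.pow_mem_pow (Ideal.mem_span_singleton_self f) _)
      rw [hn', Ideal.mem_bot] at h1
      have h2 : IsUnit (algebraMap A (Localization.AtPrime p) (f ^ (n + 1))) :=
        IsLocalization.map_units (M := p.primeCompl) _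
          ⟨f ^ (n + 1), (p.primeCompl).pow_mem hfp _⟩
      have h3 : algebraMap A (Localization.AtPrime p) x *
          algebraMap A (Localization.AtPrime p) (f ^ (n + 1)) = 0 := by
        rw [← map_mul, h1, map_zero]
      exact (h2.mul_left_eq_zero).mp h3
    refine ⟨n + 1, Nat.succ_pos n, ?_⟩
    rw [hzero, eq_comm, eq_bot_iff, ← hzero]
    exact Ideal.map_mono (Ideal.pow_le_pow_right (Nat.le_succ _))
  · rintro ⟨n, hn0, hn⟩
    set J := (I ^ n).map (algebraMap A (Localization.AtPrime p)) with hJ
    have hJfg : J.FG := (hI.pow).map _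
    have hIp : I.map (algebraMap A (Localization.AtPrime p)) ≤
        Ideal.jacobson (⊥ : Ideal (Localization.AtPrime p)) := by
      rw [IsLocalRing.jacobson_eq_maximalIdeal _ bot_ne_top, ← Localization.AtPrime.map_eq_maximalIdeal]
      exact Ideal.map_mono hp
    have hJle : J ≤ I.map (algebraMap A (Localization.AtPrime p)) • J := by
      rw [smul_eq_mul, hJ, ← Ideal.map_mul, ← pow_succ', ← hn]
    have hJbot : J = ⊥ :=
      Submodule.eq_bot_of_le_smul_of_le_jacobson_bot _ J hJfg hJle hIp
    -- every element of I^n is killed by some element outside p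
    have hkill : ∀ x ∈ I ^ n, ∃ s : A, s ∉ p ∧ s * x = 0 := by
      intro x hx
      have h0 : algebraMap A (Localization.AtPrime p) x = 0 := by
        have : algebraMap A (Localization.AtPrime p) x ∈ J := Ideal.mem_map_of_mem _ hx
        rwa [hJbot, Ideal.mem_bot] at this
      obtain ⟨s, hs⟩ := (IsLocalization.map_eq_zero_iff p.primeCompl _ x).mp h0
      exact ⟨s.1, s.2, hs⟩
    obtain ⟨S, hS⟩ := (hI.pow : (I ^ n).FG)
    classical
    choose! s hs using hkill
    have hSmem : ∀ x ∈ S, x ∈ I ^ n := fun x hx => hS ▸ Ideal.subset_span hx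
    refine ⟨∏ x ∈ S, s x, ?_, ?_⟩
    · exact fun h => by
        obtain ⟨x, hxS, hx⟩ := (Ideal.IsPrime.prod_mem_iff).mp h
        exact (hs x (hSmem x hxS)).1 hx
    · intro q hq hfq x hx
      have hle : I ^ n ≤ LinearMap.ker (LinearMap.mulLeft A (∏ x ∈ S, s x)) := by
        rw [← hS, Ideal.span, Submodule.span_le]
        intro y hy
        change (∏ x ∈ S, s x) * y = 0
        obtain ⟨c, hc⟩ := Finset.dvd_prod_of_mem s hy
        rw [hc, mul_comm (s y), mul_assoc, (hs y (hSmem y hy)).2, mul_zero]
      have h1 : (∏ x ∈ S, s x) * x ^ n = 0 := hle (Ideal.pow_mem_pow hx n)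
      have h2 : (∏ x ∈ S, s x) * x ^ n ∈ q := by rw [h1]; exact q.zero_mem
      rcases hq.mem_or_mem h2 with h3 | h3
      · exact absurd h3 hfq
      · exact hq.mem_of_pow_mem n h3

end Groth.Agent.S5006
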