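import Groth.Statements.S5007
import Groth.Agent.Lib.UnramifiedLocusBC

set_option autoImplicit false
universe u
open CategoryTheory CategoryTheory.Limits AlgebraicGeometry TopologicalSpace
open Unram17

namespace Groth.Agent.S5007

section helpers
open AlgebraicGeometry CategoryTheory CategoryTheory.Limits

theorem main {X Y S : Scheme.{u}} (g : Y ⟶ S) (h : X ⟶ S)
    [LocallyOfFinitePresentation g] [LocallyOfFinitePresentation h] (f : X ⟶ Y) (w : f ≫ g = h) :
    FormallyUnramified f ↔ ∀ s : ↥S, FormallyUnramified (pullback.snd f (g.fiberι s)) := by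
  constructor
  · intro hf s
    exact MorphismProperty.pullback_snd (P := @FormallyUnramified) _ _ hf
  · intro H
    have : LocallyOfFiniteType (f ≫ g) := by rw [w]; infer_instance
    have : LocallyOfFiniteType f := locallyOfFiniteType_of_comp f g
    refine Groth.Agent.Lib.UnramifiedLocusBC.formallyUnramified_of_forall_stalkMap f fun x ↦ ?_
    have hy : f x ∈ Set.range (g.fiberι (g (f x))) := by
      rw [Scheme.Hom.range_fiberι]; rfl
    obtain ⟨y', hy'⟩ := hy
    obtain ⟨p, hp1, hp2⟩ := Scheme.Pullback.exists_preimage_pullback (f := f)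
      (g := g.fiberι (g (f x))) x y' hy'.symm
    have := H (g (f x))
    have h1 := FormallyUnramified.stalkMap (pullback.snd f (g.fiberι (g (f x)))) p
    have h2 := (Groth.Agent.Lib.UnramifiedLocusBC.formallyUnramified_stalkMap_iff_of_isPullback
      (IsPullback.of_hasPullback f (g.fiberι (g (f x)))) p).mp h1
    rwa [hp1] at h2

end helpers

/-- Let g : Y ⟶ S and h : X ⟶ S be locally of finite presentation and f : X ⟶ Y a morphism over S. Then
f is (formally) unramified if and only if for every point s of S the base change of f along the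
fibre Y_s ⟶ Y, which is the fibre map X_s ⟶ Y_s, is (formally) unramified. -/
theorem result {X Y S : Scheme.{u}} (g : Y ⟶ S) (h : X ⟶ S)
    [LocallyOfFinitePresentation g] [LocallyOfFinitePresentation h] (f : X ⟶ Y) (w : f ≫ g = h) :
    FormallyUnramified f ↔ ∀ s : ↥S, FormallyUnramified (pullback.snd f (g.fiberι s)) :=
  main g h f w

end Groth.Agent.S5007
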