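import Groth.Statements.S5008
import Groth.Agent.Lib.LocalSpecLift

set_option autoImplicit false
universe u
open CategoryTheory CategoryTheory.Limits AlgebraicGeometry TopologicalSpace
open Unram17

namespace Groth.Agent.S5008

open Groth.Agent.Lib.LocalSpecLift

set_option maxHeartbeats 800000 in
/-- The converse direction, given a presentation `π₀`. -/
lemma aux {X Y : Scheme.{u}} (f : X ⟶ Y) (x : ↥X) {W : Y.Opens} (hW : IsAffineOpen W)
    {V : X.Opens} (hV : IsAffineOpen V) (hVW : V ≤ f ⁻¹ᵁ W) (hxV : x ∈ V)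
    (H : ∀ (B B' : Type u) [CommRing B] [CommRing B'] [IsLocalRing B] [IsLocalRing B']
      (φ : B' →+* B), Function.Surjective φ → RingHom.ker φ ^ 2 = ⊥ →
      ∀ (α : Spec (CommRingCat.of B) ⟶ X) (β : Spec (CommRingCat.of B') ⟶ Y),
        α.base (IsLocalRing.closedPoint B) = x → Spec.map (CommRingCat.ofHom φ) ≫ β = α ≫ f →
        ∃ γ : Spec (CommRingCat.of B') ⟶ X,
          Spec.map (CommRingCat.ofHom φ) ≫ γ = α ∧ γ ≫ f = β) :
    letI := (f.appLE W V hVW).hom.toAlgebra
    ∀ (n : ℕ) (π₀ : MvPolynomial (Fin n) Γ(Y, W) →ₐ[Γ(Y, W)] Γ(X, V)),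
      Function.Surjective π₀ →
      Algebra.FormallySmooth Γ(Y, W) (Localization.AtPrime (hV.primeIdealOf ⟨x, hxV⟩).asIdeal) := by
  letI := (f.appLE W V hVW).hom.toAlgebra
  intro n π₀ hπ₀
  set p := hV.primeIdealOf ⟨x, hxV⟩ with hp
  let q : Ideal (MvPolynomial (Fin n) Γ(Y, W)) := p.asIdeal.comap π₀.toRingHom
  have hq : q.IsPrime := Ideal.comap_isPrime _ _
  let P := Localization.AtPrime q
  let Sp := Localization.AtPrime p.asIdeal
  let π : P →+* Sp := Localization.localRingHom q p.asIdeal π₀.toRingHom rfl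
  have hπs : Function.Surjective π :=
    RingHom.surjective_localRingHom_of_surjective π₀.toRingHom hπ₀ p.asIdeal
  let πₐ : P →ₐ[Γ(Y, W)] Sp := ⟨π, fun r => by
    change π (algebraMap (MvPolynomial (Fin n) Γ(Y, W)) P (algebraMap _ _ r)) = _
    rw [Localization.localRingHom_to_map]
    change algebraMap Γ(X, V) Sp (π₀ (algebraMap _ _ r)) = _
    rw [π₀.commutes, ← IsScalarTower.algebraMap_apply]⟩
  have : Algebra.FormallySmooth (MvPolynomial (Fin n) Γ(Y, W)) P :=
    Algebra.FormallySmooth.of_isLocalization q.primeCompl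
  have : Algebra.FormallySmooth Γ(Y, W) P :=
    Algebra.FormallySmooth.comp Γ(Y, W) (MvPolynomial (Fin n) Γ(Y, W)) P
  let κ := πₐ.kerSquareLift
  have hκs : Function.Surjective κ.toRingHom := by
    intro c
    obtain ⟨c', rfl⟩ := hπs c
    exact ⟨Ideal.Quotient.mk _ c', rfl⟩
  have hκk : RingHom.ker κ.toRingHom ^ 2 = ⊥ := by
    rw [AlgHom.ker_kerSquareLift]
    exact Ideal.cotangentIdeal_square _
  have hloc : IsLocalHom κ.toRingHom := isLocalHom_of_sq_zero _ hκs hκk
  have := RingHom.domain_isLocalRing κ.toRingHom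
  -- the morphisms
  let cS : ↥(Spec (CommRingCat.of Sp)) := IsLocalRing.closedPoint Sp
  have hαx : (Spec.map (CommRingCat.ofHom (algebraMap Γ(X, V) Sp)) ≫ hV.fromSpec).base
      (IsLocalRing.closedPoint Sp) = x := by
    have h0 : hV.fromSpec p = x := hV.fromSpec_primeIdealOf ⟨x, hxV⟩
    have h1 : (Spec.map (CommRingCat.ofHom (algebraMap Γ(X, V) Sp))) cS = p :=
      PrimeSpectrum.ext (IsLocalization.AtPrime.comap_maximalIdeal Sp p.asIdeal)
    change hV.fromSpec ((Spec.map (CommRingCat.ofHom (algebraMap Γ(X, V) Sp))) cS) = x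
    exact (congrArg hV.fromSpec h1).trans h0
  obtain ⟨γ, hγ1, hγ2⟩ := H Sp _ κ.toRingHom hκs hκk
    (Spec.map (CommRingCat.ofHom (algebraMap Γ(X, V) Sp)) ≫ hV.fromSpec)
    (Spec.map (CommRingCat.ofHom (algebraMap Γ(Y, W) _)) ≫ hW.fromSpec) hαx (by
      rw [← Spec.map_comp_assoc, ← CommRingCat.ofHom_comp, Category.assoc,
        ← hW.SpecMap_appLE_fromSpec f hV hVW, ← Spec.map_comp_assoc]
      congr 2
      refine CommRingCat.hom_ext (RingHom.ext fun r => ?_)
      change κ (algebraMap _ _ r) = algebraMap Γ(X, V) Sp (algebraMap _ _ r)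
      rw [κ.commutes, ← IsScalarTower.algebraMap_apply])
  -- γ factors through V
  have hγc : γ.base (IsLocalRing.closedPoint _) ∈ V := by
    have h1 : (Spec.map (CommRingCat.ofHom κ.toRingHom)) cS = IsLocalRing.closedPoint _ :=
      IsLocalRing.comap_closedPoint κ.toRingHom
    rw [← h1]
    change (Spec.map (CommRingCat.ofHom κ.toRingHom) ≫ γ) cS ∈ V
    rw [hγ1]
    change (Spec.map (CommRingCat.ofHom (algebraMap Γ(X, V) Sp)) ≫ hV.fromSpec).base
      (IsLocalRing.closedPoint Sp) ∈ V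
    rw [hαx]
    exact hxV
  obtain ⟨g₀, hg₀⟩ := exists_eq_SpecMap_fromSpec γ hV hγc
  have e1 : g₀ ≫ CommRingCat.ofHom κ.toRingHom = CommRingCat.ofHom (algebraMap Γ(X, V) Sp) := by
    apply SpecMap_fromSpec_inj hV
    rw [Spec.map_comp, Category.assoc, ← hg₀, hγ1]
  have e2 : f.appLE W V hVW ≫ g₀ = CommRingCat.ofHom (algebraMap Γ(Y, W) _) := by
    apply SpecMap_fromSpec_inj hW
    rw [Spec.map_comp, Category.assoc, hW.SpecMap_appLE_fromSpec f hV hVW, ← Category.assoc,
      ← hg₀, hγ2]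
  have e1' : ∀ s, κ (g₀.hom s) = algebraMap Γ(X, V) Sp s := fun s => congr($e1 s)
  have e2' : ∀ r, g₀.hom (algebraMap Γ(Y, W) Γ(X, V) r) = algebraMap Γ(Y, W) _ r :=
    fun r => congr($e2 r)
  have hunit : ∀ s : p.asIdeal.primeCompl, IsUnit (g₀.hom s) := by
    intro s
    have h2 : IsUnit (κ.toRingHom (g₀.hom s)) := by
      change IsUnit (κ (g₀.hom s))
      rw [e1']
      exact IsLocalization.map_units Sp s
    exact hloc.map_nonunit _ h2
  let g : Sp →+* _ := IsLocalization.lift (M := p.asIdeal.primeCompl) (g := g₀.hom) hunit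
  have hg : ∀ s, g (algebraMap Γ(X, V) Sp s) = g₀.hom s := fun s => IsLocalization.lift_eq hunit s
  let gₐ : Sp →ₐ[Γ(Y, W)] _ := ⟨g, fun r => by
    change g (algebraMap Γ(Y, W) Sp r) = _
    rw [IsScalarTower.algebraMap_apply Γ(Y, W) Γ(X, V) Sp, hg, e2']⟩
  refine Algebra.FormallySmooth.of_split πₐ gₐ ?_
  have h3 : (κ.toRingHom.comp g) = RingHom.id Sp := by
    refine IsLocalization.ringHom_ext p.asIdeal.primeCompl (RingHom.ext fun s => ?_)
    change κ (g (algebraMap Γ(X, V) Sp s)) = algebraMap Γ(X, V) Sp s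
    rw [hg, e1']
  exact AlgHom.ext fun c => congr($h3 c)

/-- Let f : X ⟶ Y be locally of finite presentation and x a point of X. Then f is smooth at x if and
only if for every surjection of local rings B' → B with square-zero kernel, every morphism Spec B ⟶
X sending the closed point to x and every morphism Spec B' ⟶ Y making the square commute, there is a
lift Spec B' ⟶ X compatible with both. (No Noetherian hypothesis on Y.) -/
theorem result {X Y : Scheme.{u}} (f : X ⟶ Y)
    [LocallyOfFinitePresentation f] (x : ↥X) :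
    x ∈ f.smoothLocus ↔ ∀ (B B' : Type u) [CommRing B] [CommRing B'] [IsLocalRing B] [IsLocalRing B'] (φ : B' →+* B),
      Function.Surjective φ → RingHom.ker φ ^ 2 = ⊥ →
      ∀ (α : Spec (CommRingCat.of B) ⟶ X) (β : Spec (CommRingCat.of B') ⟶ Y),
        α.base (IsLocalRing.closedPoint B) = x → Spec.map (CommRingCat.ofHom φ) ≫ β = α ≫ f →
        ∃ γ : Spec (CommRingCat.of B') ⟶ X, Spec.map (CommRingCat.ofHom φ) ≫ γ = α ∧ γ ≫ f = β := by
  constructor
  · intro hx B B' _ _ _ _ φ hs hk α β hα hsq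
    obtain ⟨W, hW, V, hV, hVW, hxV, hsm⟩ := exists_smooth_of_formallySmooth_stalk f x hx
    have : IsLocalHom φ := IsLocalHom.of_surjective φ hs
    let i := Spec.map (CommRingCat.ofHom φ)
    let cB : ↥(Spec (CommRingCat.of B)) := IsLocalRing.closedPoint B
    let cB' : ↥(Spec (CommRingCat.of B')) := IsLocalRing.closedPoint B'
    have hcl : i cB = cB' := IsLocalRing.comap_closedPoint φ
    have hα' : α cB = x := hα
    obtain ⟨a, ha⟩ := exists_eq_SpecMap_fromSpec α hV (by rw [hα]; exact hxV)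
    have hβ : β.base (IsLocalRing.closedPoint B') ∈ W := by
      have h1 : β cB' = f x := by
        rw [← hcl, ← Scheme.Hom.comp_apply, hsq, Scheme.Hom.comp_apply, hα']
      change β cB' ∈ W
      rw [h1]
      exact hVW hxV
    obtain ⟨b, hb⟩ := exists_eq_SpecMap_fromSpec β hW hβ
    have hsq' : b ≫ CommRingCat.ofHom φ = f.appLE W V hVW ≫ a := by
      apply SpecMap_fromSpec_inj hW
      rw [Spec.map_comp, Category.assoc, ← hb, hsq, ha, Spec.map_comp, Category.assoc,
        Category.assoc, hW.SpecMap_appLE_fromSpec f hV hVW]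
    letI : Algebra Γ(Y, W) Γ(X, V) := (f.appLE W V hVW).hom.toAlgebra
    letI : Algebra Γ(Y, W) B' := b.hom.toAlgebra
    letI : Algebra Γ(Y, W) B := (b ≫ CommRingCat.ofHom φ).hom.toAlgebra
    have hS : Algebra.Smooth Γ(Y, W) Γ(X, V) := hsm
    have : Algebra.FormallySmooth Γ(Y, W) Γ(X, V) := hS.formallySmooth
    let a' : Γ(X, V) →ₐ[Γ(Y, W)] B := ⟨a.hom, fun r => by
      change a.hom ((f.appLE W V hVW).hom r) = (b ≫ CommRingCat.ofHom φ).hom r
      rw [hsq']
      rfl⟩
    let φ' : B' →ₐ[Γ(Y, W)] B := ⟨φ, fun r => rfl⟩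
    let l := Algebra.FormallySmooth.liftOfSurjective a' φ' hs ⟨2, hk⟩
    have hl : φ'.comp l = a' := Algebra.FormallySmooth.comp_liftOfSurjective a' φ' hs ⟨2, hk⟩
    refine ⟨Spec.map (CommRingCat.ofHom l.toRingHom) ≫ hV.fromSpec, ?_, ?_⟩
    · rw [← Spec.map_comp_assoc, ← CommRingCat.ofHom_comp, ha]
      congr 2
      exact CommRingCat.hom_ext (congrArg AlgHom.toRingHom hl)
    · rw [Category.assoc, ← hW.SpecMap_appLE_fromSpec f hV hVW, ← Spec.map_comp_assoc, hb]
      congr 2
      exact CommRingCat.hom_ext (RingHom.ext fun r => l.commutes r)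
  · intro H
    obtain ⟨_, ⟨W, hW, rfl⟩, hxW, -⟩ :=
      Y.isBasis_affineOpens.exists_subset_of_mem_open (Set.mem_univ (f x)) isOpen_univ
    obtain ⟨_, ⟨V, hV, rfl⟩, hxV, hVW⟩ :=
      X.isBasis_affineOpens.exists_subset_of_mem_open hxW (W.2.preimage f.continuous)
    rw [Scheme.Hom.mem_smoothLocus, formallySmooth_stalkMap_iff W hW V hV hVW hxV]
    have hfp := f.finitePresentation_appLE hW hV hVW
    algebraize [(f.appLE W V hVW).hom]
    set p := hV.primeIdealOf ⟨x, hxV⟩ with hp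
    change Algebra.FormallySmooth Γ(Y, W) (Localization.AtPrime p.asIdeal)
    have hft : Algebra.FiniteType Γ(Y, W) Γ(X, V) := Algebra.FiniteType.of_finitePresentation
    obtain ⟨n, π₀, hπ₀⟩ := Algebra.FiniteType.iff_quotient_mvPolynomial''.mp hft
    exact Groth.Agent.S5008.aux f x hW hV hVW hxV H n π₀ hπ₀

end Groth.Agent.S5008
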