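import Groth.Statements.S5009
import Groth.Agent.S1487
import Groth.Agent.Lib.UnramifiedLocusBC

set_option autoImplicit false
universe u
open CategoryTheory CategoryTheory.Limits AlgebraicGeometry TopologicalSpace
open Unram17

namespace Groth.Agent.S5009

section helpers
open TensorProduct IsLocalRing

/-- A surjection with square-zero kernel reflects units. -/
lemma isLocalHom_of_sq_zero {B' B : Type*} [CommRing B'] [CommRing B] (φ : B' →+* B)
    (hs : Function.Surjective φ) (hk : RingHom.ker φ ^ 2 = ⊥) : IsLocalHom φ := by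
  constructor
  intro b hb
  obtain ⟨c, hc⟩ := hs ((hb.unit⁻¹ : Bˣ) : B)
  have h1 : φ (b * c - 1) = 0 := by
    rw [map_sub, map_mul, hc, map_one, IsUnit.mul_val_inv, sub_self]
  have hn : IsNilpotent (b * c - 1) := by
    refine ⟨2, ?_⟩
    have : (b * c - 1) ^ 2 ∈ RingHom.ker φ ^ 2 := Ideal.pow_mem_pow (RingHom.mem_ker.mpr h1) 2
    rw [hk] at this
    exact this
  have hu : IsUnit (b * c) := by
    have := hn.isUnit_add_one
    simpa using this
  exact isUnit_of_mul_isUnit_left hu

/-- Formal unramifiedness can be tested on sections of `(A ⊗ A) ⧸ J² → A`. -/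
lemma formallyUnramified_of_sections_unique {R A : Type u} [CommRing R] [CommRing A] [Algebra R A]
    (H : ∀ g₁ g₂ : A →ₐ[R] ((A ⊗[R] A) ⧸ (RingHom.ker (Algebra.TensorProduct.lmul' R (S := A)).toRingHom ^ 2)),
      (Algebra.TensorProduct.lmul' R (S := A)).kerSquareLift.comp g₁ = AlgHom.id R A →
      (Algebra.TensorProduct.lmul' R (S := A)).kerSquareLift.comp g₂ = AlgHom.id R A → g₁ = g₂) :
    Algebra.FormallyUnramified R A := by
  constructor
  by_contra! h
  obtain ⟨f₁, f₂, e⟩ := (KaehlerDifferential.endEquiv R A).injective.nontrivial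
  apply e
  ext1
  exact H _ _ f₁.2 f₂.2

end helpers

/-- Let f : X ⟶ Y be locally of finite presentation and x a point of X. Then f is (formally) unramified
on an open neighbourhood of x if and only if for every surjection of local rings B' → B with
square-zero kernel, every morphism Spec B ⟶ X sending the closed point to x and every morphism Spec
B' ⟶ Y making the square commute, any two lifts Spec B' ⟶ X compatible with both are equal. -/
theorem result {X Y : Scheme.{u}} (f : X ⟶ Y)
    [LocallyOfFinitePresentation f] (x : ↥X) :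
    (∃ U : X.Opens, x ∈ U ∧ FormallyUnramified (U.ι ≫ f)) ↔
      ∀ (B B' : Type u) [CommRing B] [CommRing B'] [IsLocalRing B] [IsLocalRing B'] (φ : B' →+* B),
      Function.Surjective φ → RingHom.ker φ ^ 2 = ⊥ →
      ∀ (α : Spec (CommRingCat.of B) ⟶ X) (β : Spec (CommRingCat.of B') ⟶ Y),
        α.base (IsLocalRing.closedPoint B) = x → Spec.map (CommRingCat.ofHom φ) ≫ β = α ≫ f →
        ∀ γ₁ γ₂ : Spec (CommRingCat.of B') ⟶ X,
          Spec.map (CommRingCat.ofHom φ) ≫ γ₁ = α → γ₁ ≫ f = β →
          Spec.map (CommRingCat.ofHom φ) ≫ γ₂ = α → γ₂ ≫ f = β → γ₁ = γ₂ := by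
  constructor
  · rintro ⟨U, hxU, hU⟩ B B' _ _ _ _ φ hs hk α β hα hsq γ₁ γ₂ h1 h1' h2 h2'
    let i := Spec.map (CommRingCat.ofHom φ)
    have : IsClosedImmersion i := IsClosedImmersion.spec_of_surjective _ hs
    have hnil : IsNilpotent i.ker := by
      let e : (B' ⧸ RingHom.ker φ) ≃+* B := RingHom.quotientKerEquivOfSurjective hs
      have hi : i = Spec.map (CommRingCat.ofHom e.toRingHom) ≫
          Groth.Agent.S1489.thick (RingHom.ker φ) := by
        rw [← Spec.map_comp, ← CommRingCat.ofHom_comp]
        congr 2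
      have : IsIso (Spec.map (CommRingCat.ofHom e.toRingHom)) := by
        have : IsIso (CommRingCat.ofHom e.toRingHom) :=
          (e.toCommRingCatIso).isIso_hom
        infer_instance
      rw [hi, Scheme.Hom.ker_comp_of_isIso]
      exact Groth.Agent.S1487.isNilpotent_ker_thick (RingHom.ker φ) hk
    have : IsLocalHom φ := IsLocalHom.of_surjective φ hs
    let cB : ↥(Spec (CommRingCat.of B)) := IsLocalRing.closedPoint B
    let cB' : ↥(Spec (CommRingCat.of B')) := IsLocalRing.closedPoint B'
    have hcl : i cB = cB' := IsLocalRing.comap_closedPoint φ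
    have hrange : ∀ γ : Spec (CommRingCat.of B') ⟶ X, i ≫ γ = α →
        Set.range γ ⊆ (U : Set X) := by
      intro γ hγ
      rintro _ ⟨p, rfl⟩
      have hp : p ⤳ cB' := IsLocalRing.specializes_closedPoint (R := B') p
      have h3 : γ p ⤳ γ cB' := hp.map γ.continuous
      have h4 : γ cB' = x := by
        rw [← hcl, ← Scheme.Hom.comp_apply, hγ]
        exact hα
      rw [h4] at h3
      exact h3.mem_open U.isOpen hxU
    have hr1 : Set.range γ₁ ⊆ Set.range U.ι := by
      rw [Scheme.Opens.range_ι]; exact hrange γ₁ h1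
    have hr2 : Set.range γ₂ ⊆ Set.range U.ι := by
      rw [Scheme.Opens.range_ι]; exact hrange γ₂ h2
    have e1 : IsOpenImmersion.lift U.ι γ₁ hr1 ≫ U.ι = γ₁ := IsOpenImmersion.lift_fac _ _ _
    have e2 : IsOpenImmersion.lift U.ι γ₂ hr2 ≫ U.ι = γ₂ := IsOpenImmersion.lift_fac _ _ _
    have key : IsOpenImmersion.lift U.ι γ₁ hr1 = IsOpenImmersion.lift U.ι γ₂ hr2 := by
      refine FormallyUnramified.hom_ext i hnil (U.ι ≫ f) ?_ ?_
      · rw [← cancel_mono U.ι, Category.assoc, Category.assoc, e1, e2, h1, h2]
      · rw [← Category.assoc, ← Category.assoc, e1, e2, h1', h2']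
    rw [← e1, ← e2, key]
  · intro H
    rw [Groth.Agent.Lib.UnramifiedLocusBC.exists_nhds_formallyUnramified_iff]
    let ψ : Y.presheaf.stalk (f x) ⟶ X.presheaf.stalk x := f.stalkMap x
    algebraize [ψ.hom]
    show Algebra.FormallyUnramified (Y.presheaf.stalk (f x)) (X.presheaf.stalk x)
    apply formallyUnramified_of_sections_unique
    intro g₁ g₂ hg₁ hg₂
    let κ := (Algebra.TensorProduct.lmul' (Y.presheaf.stalk (f x)) (S := X.presheaf.stalk x)).kerSquareLift
    have hκs : Function.Surjective κ.toRingHom := by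
      intro c
      refine ⟨Ideal.Quotient.mk _ (c ⊗ₜ 1), ?_⟩
      change Algebra.TensorProduct.lmul' (Y.presheaf.stalk (f x)) (S := X.presheaf.stalk x)
        (c ⊗ₜ 1) = c
      simp
    have hκk : RingHom.ker κ.toRingHom ^ 2 = ⊥ := by
      rw [AlgHom.ker_kerSquareLift]
      exact Ideal.cotangentIdeal_square _
    have : IsLocalHom κ.toRingHom := isLocalHom_of_sq_zero _ hκs hκk
    have := RingHom.domain_isLocalRing κ.toRingHom
    have hψ : CommRingCat.ofHom ψ.hom = f.stalkMap x := rfl
    have key := H (X.presheaf.stalk x) _ κ.toRingHom hκs hκk (X.fromSpecStalk x)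
      (Spec.map (CommRingCat.ofHom (algebraMap (Y.presheaf.stalk (f x)) _)) ≫
        Y.fromSpecStalk (f x))
      Scheme.fromSpecStalk_closedPoint
      (by
        rw [← Spec.map_comp_assoc, ← CommRingCat.ofHom_comp]
        have : κ.toRingHom.comp (algebraMap (Y.presheaf.stalk (f x)) _) = ψ.hom :=
          κ.comp_algebraMap
        rw [this, hψ, Scheme.SpecMap_stalkMap_fromSpecStalk])
      (Spec.map (CommRingCat.ofHom g₁.toRingHom) ≫ X.fromSpecStalk x)
      (Spec.map (CommRingCat.ofHom g₂.toRingHom) ≫ X.fromSpecStalk x)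
      (by
        rw [← Spec.map_comp_assoc, ← CommRingCat.ofHom_comp]
        have : κ.toRingHom.comp g₁.toRingHom = RingHom.id _ := congrArg AlgHom.toRingHom hg₁
        rw [this]
        exact (congrArg (· ≫ X.fromSpecStalk x) (Spec.map_id _)).trans (Category.id_comp _))
      (by
        rw [Category.assoc, ← Scheme.SpecMap_stalkMap_fromSpecStalk, ← Spec.map_comp_assoc,
          ← hψ, ← CommRingCat.ofHom_comp]
        have : g₁.toRingHom.comp ψ.hom = algebraMap (Y.presheaf.stalk (f x)) _ :=
          g₁.comp_algebraMap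
        rw [this])
      (by
        rw [← Spec.map_comp_assoc, ← CommRingCat.ofHom_comp]
        have : κ.toRingHom.comp g₂.toRingHom = RingHom.id _ := congrArg AlgHom.toRingHom hg₂
        rw [this]
        exact (congrArg (· ≫ X.fromSpecStalk x) (Spec.map_id _)).trans (Category.id_comp _))
      (by
        rw [Category.assoc, ← Scheme.SpecMap_stalkMap_fromSpecStalk, ← Spec.map_comp_assoc,
          ← hψ, ← CommRingCat.ofHom_comp]
        have : g₂.toRingHom.comp ψ.hom = algebraMap (Y.presheaf.stalk (f x)) _ :=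
          g₂.comp_algebraMap
        rw [this])
    rw [cancel_mono, Spec.map_inj] at key
    exact AlgHom.ext fun c => congr($key c)

end Groth.Agent.S5009
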