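import Groth.Statements.S5011
import Mathlib.RingTheory.Unramified.LocalRing
import Mathlib.RingTheory.RingHom.Unramified
import Mathlib.AlgebraicGeometry.Morphisms.FormallyUnramified
import Mathlib.AlgebraicGeometry.Morphisms.Etale
import Mathlib.AlgebraicGeometry.Morphisms.FiniteType

set_option autoImplicit false
universe u
open CategoryTheory CategoryTheory.Limits AlgebraicGeometry TopologicalSpace
open Unram17

namespace Groth.Agent.S5011

open IsLocalRing

/-- Local criterion: a local homomorphism essentially of finite type is formally unramified iff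
the fibre ring `S ⧸ 𝔪_R S` is a finite separable field extension of the residue field of `R`. -/
lemma formallyUnramified_iff_fibre {R S : Type u} [CommRing R] [CommRing S] [IsLocalRing R]
    [IsLocalRing S] (φ : R →+* S) [IsLocalHom φ] (hφ : φ.EssFiniteType) :
    φ.FormallyUnramified ↔
      letI := (Ideal.quotientMap ((maximalIdeal R).map φ) φ Ideal.le_comap_map).toAlgebra
      IsField (S ⧸ (maximalIdeal R).map φ) ∧
        Module.Finite (R ⧸ maximalIdeal R) (S ⧸ (maximalIdeal R).map φ) ∧
        Algebra.IsSeparable (R ⧸ maximalIdeal R) (S ⧸ (maximalIdeal R).map φ) := by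
  let _ := φ.toAlgebra
  have hloc : IsLocalHom (algebraMap R S) := ‹IsLocalHom φ›
  have hess : Algebra.EssFiniteType R S := hφ
  let alg : Algebra (ResidueField R) (S ⧸ (maximalIdeal R).map φ) :=
    (Ideal.quotientMap ((maximalIdeal R).map φ) φ Ideal.le_comap_map).toAlgebra
  change Algebra.FormallyUnramified R S ↔
    IsField (S ⧸ (maximalIdeal R).map φ) ∧
      Module.Finite (ResidueField R) (S ⧸ (maximalIdeal R).map φ) ∧
      Algebra.IsSeparable (ResidueField R) (S ⧸ (maximalIdeal R).map φ)
  -- the algebra equivalence with the residue field, once `𝔪_R S = 𝔪_S`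
  have key : ∀ (hmap : (maximalIdeal R).map φ = maximalIdeal S),
      ∃ e : (S ⧸ (maximalIdeal R).map φ) ≃ₐ[ResidueField R] ResidueField S, True := by
    intro hmap
    refine ⟨{ Ideal.quotEquivOfEq hmap with
      commutes' := ?_ }, trivial⟩
    intro r
    obtain ⟨r, rfl⟩ := Ideal.Quotient.mk_surjective r
    change Ideal.quotEquivOfEq hmap (Ideal.quotientMap _ φ Ideal.le_comap_map
      (Ideal.Quotient.mk _ r)) = algebraMap (ResidueField R) (ResidueField S) (residue R r)
    rw [Ideal.quotientMap_mk, Ideal.quotEquivOfEq_mk, ResidueField.algebraMap_residue]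
    rfl
  rw [Algebra.FormallyUnramified.iff_map_maximalIdeal_eq]
  constructor
  · rintro ⟨hsep, hmap⟩
    have hmap' : (maximalIdeal R).map φ = maximalIdeal S := hmap
    obtain ⟨e, -⟩ := key hmap'
    have hun : Algebra.FormallyUnramified R S :=
      Algebra.FormallyUnramified.iff_map_maximalIdeal_eq.mpr ⟨hsep, hmap⟩
    refine ⟨?_, ?_, ?_⟩
    · exact MulEquiv.isField (Field.toIsField (ResidueField S)) e.toMulEquiv
    · have : Module.Finite (ResidueField R) (ResidueField S) := inferInstance
      exact Module.Finite.equiv e.symm.toLinearEquiv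
    · exact AlgEquiv.Algebra.isSeparable e.symm
  · rintro ⟨hfield, hfin, hsep⟩
    have hmax : ((maximalIdeal R).map φ).IsMaximal := Ideal.Quotient.maximal_of_isField _ hfield
    have hmap : (maximalIdeal R).map φ = maximalIdeal S := IsLocalRing.eq_maximalIdeal hmax
    obtain ⟨e, -⟩ := key hmap
    refine ⟨?_, hmap⟩
    exact AlgEquiv.Algebra.isSeparable e

/-- Let f : X ⟶ Y be locally of finite presentation. Then f is etale if and only if f is flat and, for
every point x of X with image y, the quotient of the local ring of X at x by the extension of the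
maximal ideal of the local ring of Y at y is a field, finite and separable over the residue field
κ(y); that is, every fibre of f is a sum of spectra of finite separable extensions of the residue
field. -/
theorem result {X Y : Scheme.{u}} (f : X ⟶ Y)
    [LocallyOfFinitePresentation f] :
    Etale f ↔ Flat f ∧ ∀ x : ↥X,
      letI φ := (f.stalkMap x).hom
      letI 𝔪 := IsLocalRing.maximalIdeal ↑(Y.presheaf.stalk (f.base x))
      letI := (Ideal.quotientMap (𝔪.map φ) φ Ideal.le_comap_map).toAlgebra
      IsField (↑(X.presheaf.stalk x) ⧸ 𝔪.map φ) ∧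
        Module.Finite (↑(Y.presheaf.stalk (f.base x)) ⧸ 𝔪) (↑(X.presheaf.stalk x) ⧸ 𝔪.map φ) ∧
        Algebra.IsSeparable (↑(Y.presheaf.stalk (f.base x)) ⧸ 𝔪) (↑(X.presheaf.stalk x) ⧸ 𝔪.map φ) := by
  rw [Etale.iff_flat_and_formallyUnramified]
  have hfp : LocallyOfFinitePresentation f := inferInstance
  have key : FormallyUnramified f ↔ ∀ x, (f.stalkMap x).hom.FormallyUnramified :=
    ⟨fun h x => FormallyUnramified.stalkMap f x, fun H =>
      HasRingHomProperty.of_stalkMap RingHom.FormallyUnramified.ofLocalizationPrime H⟩
  constructor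
  · rintro ⟨hflat, hun, -⟩
    refine ⟨hflat, fun x => ?_⟩
    exact (formallyUnramified_iff_fibre (f.stalkMap x).hom
      (LocallyOfFiniteType.stalkMap f x)).mp (key.mp hun x)
  · rintro ⟨hflat, H⟩
    exact ⟨hflat, key.mpr fun x => (formallyUnramified_iff_fibre (f.stalkMap x).hom
      (LocallyOfFiniteType.stalkMap f x)).mpr (H x), hfp⟩

end Groth.Agent.S5011
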