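import Groth.Statements.S5014
import Mathlib.RingTheory.Kaehler.JacobiZariski
import Mathlib.RingTheory.Kaehler.Polynomial
import Mathlib.RingTheory.Etale.Locus
import Mathlib.LinearAlgebra.TensorProduct.Basis

set_option autoImplicit false
universe u
open Unram17

namespace Groth.Agent.S5014

open scoped TensorProduct
open KaehlerDifferential Algebra

/-- For `R → S → T` with `T` formally smooth over `R`, `T` is formally etale over `S` iff
`T ⊗[S] Ω[S⁄R] → Ω[T⁄R]` is bijective. -/
lemma formallyEtale_iff_bijective_mapBaseChange (R S T : Type u) [CommRing R] [CommRing S]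
    [CommRing T] [Algebra R S] [Algebra R T] [Algebra S T] [IsScalarTower R S T]
    [Algebra.FormallySmooth R T] :
    Algebra.FormallyEtale S T ↔ Function.Bijective (mapBaseChange R S T) := by
  constructor
  · intro h
    constructor
    · rw [injective_iff_map_eq_zero]
      intro x hx
      obtain ⟨z, rfl⟩ := (H1Cotangent.exact_δ_mapBaseChange R S T x).mp hx
      rw [Subsingleton.elim z 0, map_zero]
    · intro y
      exact (exact_mapBaseChange_map R S T y).mp (Subsingleton.elim _ _)
  · intro h
    refine ⟨⟨fun a b => ?_⟩, ⟨fun a b => ?_⟩⟩
    · suffices ∀ c : Ω[T⁄S], c = 0 by rw [this a, this b]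
      intro c
      obtain ⟨y, rfl⟩ := KaehlerDifferential.map_surjective R S T c
      obtain ⟨x, rfl⟩ := h.2 y
      exact (exact_mapBaseChange_map R S T _).mpr ⟨x, rfl⟩
    · suffices ∀ c : H1Cotangent S T, c = 0 by rw [this a, this b]
      intro z
      have h1 : mapBaseChange R S T (H1Cotangent.δ R S T z) = 0 :=
        (H1Cotangent.exact_δ_mapBaseChange R S T _).mpr ⟨z, rfl⟩
      have h2 : H1Cotangent.δ R S T z = 0 := h.1 (by rw [h1, map_zero])
      obtain ⟨w, rfl⟩ := (H1Cotangent.exact_map_δ R S T z).mp h2
      rw [Subsingleton.elim w 0, map_zero]

/-- Let C be a smooth algebra over a commutative ring A, equipped with an A-algebra map from the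
polynomial ring in r variables (images s_i of the variables), and let q be a prime of C. Then C is
etale at q over the polynomial ring if and only if the differentials of the s_i are linearly
independent and generate the module of differentials of the local ring C_q over A, i.e. form a basis
of it. -/
theorem result (A C : Type u) [CommRing A] [CommRing C]
    [Algebra A C] [Algebra.Smooth A C] (r : ℕ) [Algebra (MvPolynomial (Fin r) A) C]
    [IsScalarTower A (MvPolynomial (Fin r) A) C] (q : Ideal C) [q.IsPrime] :
    Algebra.IsEtaleAt (MvPolynomial (Fin r) A) q ↔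
      LinearIndependent (Localization.AtPrime q)
          (fun i : Fin r => KaehlerDifferential.D A (Localization.AtPrime q)
            (algebraMap C (Localization.AtPrime q) (algebraMap (MvPolynomial (Fin r) A) C (MvPolynomial.X i)))) ∧
        Submodule.span (Localization.AtPrime q)
          (Set.range fun i : Fin r => KaehlerDifferential.D A (Localization.AtPrime q)
            (algebraMap C (Localization.AtPrime q) (algebraMap (MvPolynomial (Fin r) A) C (MvPolynomial.X i)))) = ⊤ := by
  have hsm : Algebra.FormallySmooth A (Localization.AtPrime q) := by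
    have : Algebra.FormallySmooth C (Localization.AtPrime q) :=
      Algebra.FormallySmooth.of_isLocalization q.primeCompl
    exact Algebra.FormallySmooth.comp A C (Localization.AtPrime q)
  change Algebra.FormallyEtale (MvPolynomial (Fin r) A) (Localization.AtPrime q) ↔ _
  rw [formallyEtale_iff_bijective_mapBaseChange A (MvPolynomial (Fin r) A) (Localization.AtPrime q)]
  set v : Fin r → Ω[Localization.AtPrime q⁄A] := fun i =>
    KaehlerDifferential.D A (Localization.AtPrime q)
      (algebraMap C (Localization.AtPrime q)
        (algebraMap (MvPolynomial (Fin r) A) C (MvPolynomial.X i))) with hv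
  let b := (KaehlerDifferential.mvPolynomialBasis A (Fin r)).baseChange (Localization.AtPrime q)
  have hb : ∀ i, mapBaseChange A (MvPolynomial (Fin r) A) (Localization.AtPrime q) (b i) = v i := by
    intro i
    rw [Module.Basis.baseChange_apply, mapBaseChange_tmul, one_smul,
      KaehlerDifferential.mvPolynomialBasis_apply, KaehlerDifferential.map_D, hv]
    simp only
    rw [IsScalarTower.algebraMap_apply (MvPolynomial (Fin r) A) C (Localization.AtPrime q)]
  have hfac : mapBaseChange A (MvPolynomial (Fin r) A) (Localization.AtPrime q) =
      (Finsupp.linearCombination (Localization.AtPrime q) v) ∘ₗ b.repr.toLinearMap := by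
    apply b.ext
    intro i
    rw [hb]
    simp
  rw [hfac]
  have hbij : Function.Bijective ((Finsupp.linearCombination (Localization.AtPrime q) v) ∘ₗ
      b.repr.toLinearMap) ↔
      Function.Bijective (Finsupp.linearCombination (Localization.AtPrime q) v) := by
    rw [LinearMap.coe_comp]
    exact Function.Bijective.of_comp_iff _ b.repr.bijective
  rw [hbij]
  constructor
  · rintro ⟨h1, h2⟩
    refine ⟨h1, ?_⟩
    rw [← Finsupp.range_linearCombination]
    exact LinearMap.range_eq_top.mpr h2
  · rintro ⟨h1, h2⟩
    refine ⟨h1, ?_⟩
    rw [← LinearMap.range_eq_top, Finsupp.range_linearCombination]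
    exact h2

end Groth.Agent.S5014
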