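import Groth.Statements.S5015
import Groth.Agent.Lib.OmegaDer81F
import Groth.Agent.Lib.H90OXModExact
import Groth.Agent.Lib.H72PullbackQCoh
import Groth.Agent.Lib.IdealMod

set_option autoImplicit false
universe u
open CategoryTheory CategoryTheory.Limits AlgebraicGeometry TopologicalSpace
open Unram17

namespace Groth.Agent.S5015

open Groth.Agent.Lib.OmegaDer81 TensorProduct

section
variable {X Y S : Scheme.{u}} (g : Y ⟶ S) (f : X ⟶ Y)
    {ΩY : Y.Modules} (dY : OmegaSh.Der g ΩY) (hY : OmegaSh.IsUniversal dY)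
    {ΩX : X.Modules} (dX : OmegaSh.Der (f ≫ g) ΩX) (hX : OmegaSh.IsUniversal dX)
    (c : (Scheme.Modules.pullback f).obj ΩY ⟶ ΩX) (hc : OmegaSh.IsDiffCompat f dY dX c)
    {V : S.Opens} {U : Y.Opens} {U' : X.Opens}
    (hV : IsAffineOpen V) (hU : IsAffineOpen U) (hU' : IsAffineOpen U')
    (e : U ≤ g ⁻¹ᵁ V) (hUU' : U' ≤ f ⁻¹ᵁ U)

include hY hX hc hV hU hU' e in
set_option backward.isDefEq.respectTransparency false in
/-- on a chart: `c` is surjective on sections iff the ring map is formally unramified -/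
theorem surjective_app_iff :
    Function.Surjective (c.app U') ↔ (f.appLE U U' hUU').hom.FormallyUnramified := by
  have e' : U' ≤ (f ≫ g) ⁻¹ᵁ V := fun x hx => e (hUU' hx)
  letI : Algebra Γ(S, V) Γ(Y, U) := (g.appLE V U e).hom.toAlgebra
  letI : Algebra Γ(S, V) Γ(X, U') := ((f ≫ g).appLE V U' e').hom.toAlgebra
  letI : Algebra Γ(Y, U) Γ(X, U') := (f.appLE U U' hUU').hom.toAlgebra
  haveI : IsScalarTower Γ(S, V) Γ(Y, U) Γ(X, U') := .of_algebraMap_eq' (by
    change ((f ≫ g).appLE V U' e').hom = (f.appLE U U' hUU').hom.comp (g.appLE V U e).hom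
    rw [← CommRingCat.hom_comp, Scheme.Hom.appLE_comp_appLE])
  obtain ⟨κ, h1, h2, -, -⟩ := exists_chart_kappa f dY hY dX hX c hc hU hV hU' hV e e' hUU'
  rw [h2]
  exact surjective_lift_iff_formallyUnramified κ h1

end

/-- Let g : Y ⟶ S and h : X ⟶ S be morphisms and f : X ⟶ Y with f ≫ g = h. Given sheaves of
differentials of Y over S and of X over S (universal derivations dY, dX) and the canonical map c
from the pullback of the former to the latter (the O_X-linear map carrying the pullback of dY s to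
dX of the pullback of s), f is formally unramified if and only if c is an epimorphism of
O_X-modules. -/
theorem result {X Y S : Scheme.{u}} (g : Y ⟶ S) (h : X ⟶ S)
    (f : X ⟶ Y) (w : f ≫ g = h)
    (ΩY : Y.Modules) (dY : OmegaSh.Der g ΩY) (hY : OmegaSh.IsUniversal dY)
    (ΩX : X.Modules) (dX : OmegaSh.Der h ΩX) (hX : OmegaSh.IsUniversal dX)
    (c : (Scheme.Modules.pullback f).obj ΩY ⟶ ΩX) (hc : OmegaSh.IsDiffCompat f dY dX c) :
    FormallyUnramified f ↔ Epi c := by
  subst w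
  haveI : ΩY.IsQuasicoherent := isQuasicoherent_of_isUniversal g dY hY
  haveI : ΩX.IsQuasicoherent := isQuasicoherent_of_isUniversal (f ≫ g) dX hX
  have charts : ∀ (x : X) (W : X.Opens), x ∈ W → ∃ (V : S.Opens) (U : Y.Opens) (U' : X.Opens),
      IsAffineOpen V ∧ IsAffineOpen U ∧ IsAffineOpen U' ∧ U ≤ g ⁻¹ᵁ V ∧ U' ≤ f ⁻¹ᵁ U ∧
        U' ≤ W ∧ x ∈ U' := by
    intro x W hxW
    obtain ⟨_, ⟨V, hV, rfl⟩, hxV, -⟩ :=
      S.isBasis_affineOpens.exists_subset_of_mem_open (Set.mem_univ (g (f x))) isOpen_univ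
    obtain ⟨_, ⟨U, hU, rfl⟩, hxU, hUV⟩ :=
      Y.isBasis_affineOpens.exists_subset_of_mem_open (show f x ∈ g ⁻¹ᵁ V from hxV)
        (g ⁻¹ᵁ V).isOpen
    obtain ⟨_, ⟨U', hU', rfl⟩, hxU', hU'W⟩ :=
      X.isBasis_affineOpens.exists_subset_of_mem_open
        (show x ∈ f ⁻¹ᵁ U ⊓ W from ⟨hxU, hxW⟩) (f ⁻¹ᵁ U ⊓ W).isOpen
    exact ⟨V, U, U', hV, hU, hU', hUV, fun y hy => (hU'W hy).1, fun y hy => (hU'W hy).2, hxU'⟩
  constructor
  · intro hf
    apply Groth.Agent.Lib.IdealMod.epi_of_locally_surjective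
    intro W s x hxW
    obtain ⟨V, U, U', hV, hU, hU', e, hUU', hU'W, hxU'⟩ := charts x W hxW
    have hsurj : Function.Surjective (c.app U') :=
      (surjective_app_iff g f dY hY dX hX c hc hV hU hU' e hUU').mpr
        (hf.formallyUnramified_appLE hU hU' hUU')
    obtain ⟨t, ht⟩ := hsurj (ΩX.val.map (homOfLE hU'W).op s)
    exact ⟨U', hU'W, hxU', t, ht⟩
  · intro hepi
    rw [HasRingHomProperty.iff_exists_appLE (P := @FormallyUnramified)
      (RingHom.FormallyUnramified.stableUnderComposition.stableUnderCompositionWithLocalizationAway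
        RingHom.FormallyUnramified.holdsForLocalizationAway).1]
    intro x
    obtain ⟨V, U, U', hV, hU, hU', e, hUU', -, hxU'⟩ := charts x ⊤ trivial
    refine ⟨⟨U, hU⟩, ⟨U', hU'⟩, hxU', hUU', ?_⟩
    exact (surjective_app_iff g f dY hY dX hX c hc hV hU hU' e hUU').mp
      (Groth.Agent.Lib.H90OXModExact.surjective_app_of_epi c hU')

end Groth.Agent.S5015
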