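import Groth.Statements.S5017
import Groth.Agent.Lib.MonoFibres
import Groth.Agent.Lib.H80EtaleStalk

set_option autoImplicit false
universe u
open CategoryTheory CategoryTheory.Limits AlgebraicGeometry TopologicalSpace
open Unram17

namespace Groth.Agent.S5017

section helpers

open IsLocalRing in
/-- Ring-level core: for a local hom `φ : R → S`, `R/m_R → S/m_R S` is bijective iff
`m_R S = m_S` and the residue field map is surjective. -/
lemma bijective_quotientMap_iff {R S : Type*} [CommRing R] [CommRing S] [IsLocalRing R]
    [IsLocalRing S] (φ : R →+* S) [IsLocalHom φ] :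
    Function.Bijective (Ideal.quotientMap ((maximalIdeal R).map φ) φ Ideal.le_comap_map) ↔
      (maximalIdeal R).map φ = maximalIdeal S ∧ Function.Surjective (ResidueField.map φ) := by
  have hle : (maximalIdeal R).map φ ≤ maximalIdeal S :=
    ((local_hom_TFAE φ).out 0 2).mp ‹_›
  constructor
  · intro hb
    have hmax : ((maximalIdeal R).map φ).IsMaximal := by
      have e := RingEquiv.ofBijective _ hb
      have : IsField (S ⧸ (maximalIdeal R).map φ) :=
        e.symm.toMulEquiv.isField
          ((Ideal.Quotient.maximal_ideal_iff_isField_quotient (maximalIdeal R)).mp inferInstance)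
      exact Ideal.Quotient.maximal_of_isField _ this
    have heq : (maximalIdeal R).map φ = maximalIdeal S := eq_maximalIdeal hmax
    refine ⟨heq, fun b ↦ ?_⟩
    obtain ⟨b, rfl⟩ := residue_surjective b
    obtain ⟨a, ha⟩ := hb.2 (Ideal.Quotient.mk _ b)
    obtain ⟨a, rfl⟩ := Ideal.Quotient.mk_surjective a
    refine ⟨residue R a, ?_⟩
    rw [ResidueField.map_residue]
    rw [Ideal.quotientMap_mk, Ideal.Quotient.eq] at ha
    exact (Ideal.Quotient.eq.mpr (hle ha))
  · rintro ⟨heq, hs⟩
    have : Nontrivial (S ⧸ (maximalIdeal R).map φ) := by
      rw [heq]; infer_instance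
    let _ : Field (R ⧸ maximalIdeal R) := Ideal.Quotient.field _
    refine ⟨RingHom.injective _, fun b ↦ ?_⟩
    obtain ⟨b, rfl⟩ := Ideal.Quotient.mk_surjective b
    obtain ⟨a, ha⟩ := hs (residue S b)
    obtain ⟨a, rfl⟩ := residue_surjective a
    refine ⟨Ideal.Quotient.mk _ a, ?_⟩
    rw [Ideal.quotientMap_mk, Ideal.Quotient.eq, heq]
    rw [ResidueField.map_residue] at ha
    exact Ideal.Quotient.eq.mp ha

end helpers

/-- Let f : X ⟶ Y be locally of finite type. Then f is a monomorphism if and only if, for every point x
of X with image y, x is the only point of its fibre and the canonical map from the residue field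
κ(y) to the quotient of the local ring of X at x by the extension of the maximal ideal at y is
bijective (each nonempty fibre is Spec κ(y)). -/
theorem result {X Y : Scheme.{u}} (f : X ⟶ Y) [LocallyOfFiniteType f] :
    Mono f ↔ ∀ x : ↥X,
      (∀ x' : ↥X, f.base x' = f.base x → x' = x) ∧
        Function.Bijective
          (Ideal.quotientMap
            ((IsLocalRing.maximalIdeal ↑(Y.presheaf.stalk (f.base x))).map (f.stalkMap x).hom)
            (f.stalkMap x).hom Ideal.le_comap_map) := by
  constructor
  · intro hf x
    have hun : FormallyUnramified f := Groth.Agent.Lib.MonoFibres.formallyUnramified_of_mono f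
    have hui : UniversallyInjective f := inferInstance
    refine ⟨fun x' h ↦ f.injective h, ?_⟩
    rw [bijective_quotientMap_iff]
    have h1 := (Groth.Agent.Lib.H80EtaleStalk.stalk_formallyUnramified_iff f x).mp
      (FormallyUnramified.stalkMap f x)
    refine ⟨h1.1, ?_⟩
    have h3 := (((tfae_universallyInjective f).out 0 2 rfl rfl).mp hui).2 x
    let _ := (f.residueFieldMap x).hom.toAlgebra
    have hsep : Algebra.IsSeparable (Y.residueField (f x)) (X.residueField x) := h1.2.2
    have hpi : IsPurelyInseparable (Y.residueField (f x)) (X.residueField x) := h3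
    exact IsPurelyInseparable.surjective_algebraMap_of_isSeparable
      (Y.residueField (f x)) (X.residueField x)
  · intro H
    have hinj : Function.Injective f := fun x x' h ↦ (H x').1 x h
    have hb : ∀ x, (IsLocalRing.maximalIdeal (Y.presheaf.stalk (f x))).map (f.stalkMap x).hom =
        IsLocalRing.maximalIdeal (X.presheaf.stalk x) ∧
        Function.Surjective (f.residueFieldMap x).hom := fun x ↦
      (bijective_quotientMap_iff (f.stalkMap x).hom).mp (H x).2
    have hbij : ∀ x, Function.Bijective (f.residueFieldMap x).hom := fun x ↦
      ⟨RingHom.injective _, (hb x).2⟩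
    have hun : FormallyUnramified f := by
      refine Groth.Agent.Lib.UnramifiedLocusBC.formallyUnramified_of_forall_stalkMap f fun x ↦ ?_
      rw [Groth.Agent.Lib.H80EtaleStalk.stalk_formallyUnramified_iff]
      refine ⟨(hb x).1, ?_⟩
      let _ := (f.residueFieldMap x).hom.toAlgebra
      have hs : Function.Surjective
          (algebraMap (Y.residueField (f x)) (X.residueField x)) := (hb x).2
      refine ⟨Module.Finite.of_surjective (Algebra.linearMap _ _) hs, ⟨fun b ↦ ?_⟩⟩
      obtain ⟨a, rfl⟩ := hs b
      exact isSeparable_algebraMap a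
    have hui : UniversallyInjective f := by
      refine ((tfae_universallyInjective f).out 0 2 rfl rfl).mpr ⟨hinj, fun x ↦ ?_⟩
      let _ := (f.residueFieldMap x).hom.toAlgebra
      have hs : Function.Surjective
          (algebraMap (Y.residueField (f x)) (X.residueField x)) := (hb x).2
      show IsPurelyInseparable (Y.residueField (f x)) (X.residueField x)
      rw [isPurelyInseparable_iff]
      intro b
      obtain ⟨a, rfl⟩ := hs b
      exact ⟨isIntegral_algebraMap, fun _ ↦ ⟨a, rfl⟩⟩
    have h1 : Surjective (pullback.diagonal f) := (UniversallyInjective.iff_diagonal f).mp hui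
    have h2 : IsIso (pullback.diagonal f) :=
      (isIso_iff_isOpenImmersion_and_surjective _).mpr ⟨inferInstance, h1⟩
    exact (pullback.isIso_diagonal_iff f).mp h2

end Groth.Agent.S5017
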