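import Groth.Statements.S5018
import Groth.Agent.Lib.OmegaDer81D
import Groth.Agent.Lib.QCohLocFree81
import Groth.Agent.Lib.FormallySmoothHomAffine
import Mathlib.RingTheory.Smooth.Kaehler

set_option autoImplicit false
universe u
open CategoryTheory CategoryTheory.Limits AlgebraicGeometry TopologicalSpace
open Unram17

namespace Groth.Agent.S5018

/-- Let f : X ⟶ Y be formally smooth and locally of finite type, and let (Ω', d) be a sheaf of
differentials of X over Y, i.e. d a universal Y-derivation of O_X into Ω'. Then Ω' is finite locally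
free. (The published statement also shows that the sheaf of differentials is locally projective for
every formally smooth f; this row states only the case of f locally of finite type.) -/
theorem result {X Y : Scheme.{u}} (f : X ⟶ Y)
    (hf : MoreMor.IsFormallySmoothHom f) [LocallyOfFiniteType f]
    (Ω' : X.Modules) (d : OmegaSh.Der f Ω') (hd : OmegaSh.IsUniversal d) :
    FlatMod.IsFinLocFree Ω' := by
  haveI : Ω'.IsQuasicoherent := Groth.Agent.Lib.OmegaDer81.isQuasicoherent_of_isUniversal f d hd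
  let ι : Type u := {U : X.affineOpens // ∃ V : Y.affineOpens, U.1 ≤ f ⁻¹ᵁ V.1}
  have hU : ⨆ i : ι, i.1.1 = ⊤ := by
    rw [eq_top_iff]
    intro x _
    obtain ⟨_, ⟨V, hV, rfl⟩, hxV, -⟩ :=
      Y.isBasis_affineOpens.exists_subset_of_mem_open (Set.mem_univ (f x)) isOpen_univ
    obtain ⟨_, ⟨W, hW, rfl⟩, hxW, hWV⟩ :=
      X.isBasis_affineOpens.exists_subset_of_mem_open (show x ∈ f ⁻¹ᵁ V from hxV)
        (f ⁻¹ᵁ V).isOpen
    exact TopologicalSpace.Opens.mem_iSup.mpr ⟨⟨⟨W, hW⟩, ⟨V, hV⟩, hWV⟩, hxW⟩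
  have key : ∀ i : ι, Module.Finite Γ(X, i.1.1) Γ(Ω', i.1.1) ∧
      Module.Projective Γ(X, i.1.1) Γ(Ω', i.1.1) := by
    intro i
    obtain ⟨V, hle⟩ := i.2
    letI : Algebra Γ(Y, V.1) Γ(X, i.1.1) := (f.appLE V.1 i.1.1 hle).hom.toAlgebra
    obtain ⟨ε, -⟩ := Groth.Agent.Lib.OmegaDer81.exists_linearEquiv_sections f d i.1.2 V.2 hle hd
    haveI : Algebra.FiniteType Γ(Y, V.1) Γ(X, i.1.1) :=
      LocallyOfFiniteType.finiteType_appLE f V.2 i.1.2 hle
    haveI : Algebra.FormallySmooth Γ(Y, V.1) Γ(X, i.1.1) :=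
      Groth.Agent.Lib.FormallySmoothHomAffine.formallySmooth_appLE f hf i.1.1 V.1 i.1.2 V.2 hle
    exact ⟨Module.Finite.equiv ε, Module.Projective.of_equiv ε⟩
  exact Groth.Agent.Lib.QCohLocFree81.isFinLocFree_of_affine_cover_projective Ω'
    (fun i : ι => i.1.1) hU (fun i => i.1.2) (fun i => (key i).1) (fun i => (key i).2)

end Groth.Agent.S5018
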