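import Groth.Statements.S5021
import Mathlib
import Groth.Agent.Lib.H87ConormalSmooth2
import Groth.Agent.Lib.H87SmoothRank
import Groth.Agent.Lib.QCohLocFree81
import Groth.Agent.Lib.ConormalStalk81
import Groth.Agent.Lib.LocFreeRank

set_option linter.style.haveILetI false

set_option autoImplicit false
universe u
open CategoryTheory CategoryTheory.Limits AlgebraicGeometry TopologicalSpace
open Unram17
open TensorProduct KaehlerDifferential

namespace Groth.Agent.S5021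

section Aux

namespace R1
open Groth.Agent.Lib.H87ConormalSmooth Groth.Agent.Lib.H87ConormalMono

variable {C B A : Type*} [CommRing C] [CommRing B] [CommRing A] [Algebra C B] [Algebra B A]
  [Algebra C A] [IsScalarTower C B A]
variable {N : Type*} [AddCommGroup N] [Module A N] [Module B N] [IsScalarTower B A N]

/-- split conormal sequence in base change form -/
theorem nonempty_equiv_prod [Algebra.FormallySmooth C A] [Module.Projective A Ω[A⁄C]]
    (hBA : Function.Surjective (algebraMap B A))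
    (uI : RingHom.ker (algebraMap B A) →ₗ[B] N) (hI : IsBaseChange A uI) :
    Nonempty ((A ⊗[B] Ω[B⁄C]) ≃ₗ[A] N × Ω[A⁄C]) := by
  let ψ : N →ₗ[A] A ⊗[B] Ω[B⁄C] := hI.lift (kerToTensor C B A)
  have hψ : ∀ x, ψ (uI x) = (TensorProduct.mk B A Ω[B⁄C] 1) (KaehlerDifferential.D C B x) := by
    intro x
    rw [hI.lift_eq]
    rfl
  have hinj : Function.Injective ψ :=
    injective_phi_of_formallySmooth hBA uI hI (TensorProduct.mk B A Ω[B⁄C] 1)
      (TensorProduct.isBaseChange B Ω[B⁄C] A) ψ hψ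
  have huIs : Function.Surjective uI := by
    apply surjective_of_span_eq_top hBA uI
    rw [eq_top_iff]
    intro m _
    exact hI.inductionOn m (fun m => m ∈ Submodule.span A (Set.range uI))
      (Submodule.zero_mem _) (fun x => Submodule.subset_span ⟨x, rfl⟩)
      (fun a n hn => Submodule.smul_mem _ a hn) (fun n₁ n₂ h₁ h₂ => Submodule.add_mem _ h₁ h₂)
  have hex0 := exact_kerCotangentToTensor_mapBaseChange C B A hBA
  have hex : Function.Exact ψ (mapBaseChange C B A) := by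
    intro y
    rw [hex0 y]
    constructor
    · rintro ⟨z, rfl⟩
      obtain ⟨x, rfl⟩ := Ideal.toCotangent_surjective _ z
      refine ⟨uI x, ?_⟩
      rw [hψ, kerCotangentToTensor_toCotangent]
      rfl
    · rintro ⟨n, rfl⟩
      obtain ⟨x, rfl⟩ := huIs n
      refine ⟨(RingHom.ker (algebraMap B A)).toCotangent x, ?_⟩
      rw [hψ, kerCotangentToTensor_toCotangent]
      rfl
  have hsurj : Function.Surjective (mapBaseChange C B A) := mapBaseChange_surjective C B A hBA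
  obtain ⟨s, hs⟩ := Module.projective_lifting_property (mapBaseChange C B A) LinearMap.id hsurj
  exact ⟨(hex.splitSurjectiveEquiv hinj ⟨s, hs⟩).1⟩

omit [Module B N] [IsScalarTower B A N] in
theorem finite_projective_of_equiv 
    [Module.Finite B Ω[B⁄C]] [Module.Projective B Ω[B⁄C]]
    (e : (A ⊗[B] Ω[B⁄C]) ≃ₗ[A] N × Ω[A⁄C]) :
    Module.Finite A N ∧ Module.Projective A N := by
  have hf : Module.Finite A (N × Ω[A⁄C]) := Module.Finite.equiv e
  have hp : Module.Projective A (N × Ω[A⁄C]) := Module.Projective.of_equiv e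
  constructor
  · exact Module.Finite.of_surjective (LinearMap.fst A N Ω[A⁄C]) LinearMap.fst_surjective
  · exact Module.Projective.of_split (LinearMap.inl A N Ω[A⁄C]) (LinearMap.fst A N Ω[A⁄C])
      (LinearMap.fst_comp_inl A N Ω[A⁄C])

omit [Module B N] [IsScalarTower B A N] in
theorem rank_count {L : Type*} [CommRing L] [Algebra A L] [Nontrivial L]
    {m m' n : ℕ} (bB : Module.Basis (Fin m) B Ω[B⁄C]) (bA : Module.Basis (Fin m') A Ω[A⁄C])
    (e : (A ⊗[B] Ω[B⁄C]) ≃ₗ[A] N × Ω[A⁄C])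
    {Mx : Type*} [AddCommGroup Mx] [Module L Mx] [Module A Mx] [IsScalarTower A L Mx]
    (g : N →ₗ[A] Mx) (hg : IsBaseChange L g) [Module.Free L Mx] [Module.Finite L Mx]
    (hn : Module.finrank L Mx = n) : m = n + m' := by
  haveI : Nontrivial A := (algebraMap A L).domain_nontrivial
  haveI : Nontrivial B := (algebraMap B A).domain_nontrivial
  haveI : Module.Free B Ω[B⁄C] := Module.Free.of_basis bB
  haveI : Module.Free A Ω[A⁄C] := Module.Free.of_basis bA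
  haveI : Module.Finite B Ω[B⁄C] := Module.Finite.of_basis bB
  haveI : Module.Finite A Ω[A⁄C] := Module.Finite.of_basis bA
  haveI : Module.Free L (L ⊗[A] N) := Module.Free.of_equiv hg.equiv.symm
  haveI : Module.Finite L (L ⊗[A] N) := Module.Finite.equiv hg.equiv.symm
  let e1 : L ⊗[A] (A ⊗[B] Ω[B⁄C]) ≃ₗ[L] L ⊗[A] (N × Ω[A⁄C]) :=
    TensorProduct.AlgebraTensorModule.congr (LinearEquiv.refl L L) e
  let e2 : L ⊗[A] (N × Ω[A⁄C]) ≃ₗ[L] (L ⊗[A] N) × (L ⊗[A] Ω[A⁄C]) :=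
    TensorProduct.prodRight A L L N Ω[A⁄C]
  have h1 : Module.finrank L (L ⊗[A] (A ⊗[B] Ω[B⁄C])) = m := by
    rw [Module.finrank_baseChange, Module.finrank_baseChange,
      Module.finrank_eq_card_basis bB, Fintype.card_fin]
  have h2 : Module.finrank L ((L ⊗[A] N) × (L ⊗[A] Ω[A⁄C])) = n + m' := by
    rw [Module.finrank_prod, hg.equiv.finrank_eq, hn, Module.finrank_baseChange,
      Module.finrank_eq_card_basis bA, Fintype.card_fin]
  rw [← h1, ← h2]
  exact (e1.trans e2).finrank_eq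

end R1

namespace S1
open Groth.Agent.Lib.Conormal81 Groth.Agent.Lib.QCohStalk Groth.Agent.Lib.UnitBaseChange

variable {X' X Y : Scheme.{u}} (f : X ⟶ Y) (j : X' ⟶ X) [IsImmersion j] [QuasiCompact j]

set_option backward.isDefEq.respectTransparency false in
set_option maxHeartbeats 1600000 in
theorem chart_equiv [Smooth (j ≫ f)] {U : X.Opens} {V : Y.Opens} (hU : IsGoodChart j U)
    (hV : IsAffineOpen V) (e : U ≤ f ⁻¹ᵁ V) :
    letI algCB : Algebra Γ(Y, V) Γ(X, U) := (f.appLE V U e).hom.toAlgebra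
    letI algBA : Algebra Γ(X, U) Γ(X', j ⁻¹ᵁ U) := (j.appLE U (j ⁻¹ᵁ U) le_rfl).hom.toAlgebra
    letI algCA : Algebra Γ(Y, V) Γ(X', j ⁻¹ᵁ U) :=
      ((j ≫ f).appLE V (j ⁻¹ᵁ U) (j.preimage_mono e)).hom.toAlgebra
    Nonempty ((Γ(X', j ⁻¹ᵁ U) ⊗[Γ(X, U)] Ω[Γ(X, U)⁄Γ(Y, V)]) ≃ₗ[Γ(X', j ⁻¹ᵁ U)]
      Γ(Omega.conormal j, j ⁻¹ᵁ U) × Ω[Γ(X', j ⁻¹ᵁ U)⁄Γ(Y, V)]) := by
  have hWa : IsAffineOpen (j ⁻¹ᵁ U) := hU.isAffineOpen_preimage
  have hW : j ⁻¹ᵁ U = j ⁻¹ᵁ U := rfl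
  have e' : j ⁻¹ᵁ U ≤ (j ≫ f) ⁻¹ᵁ V := j.preimage_mono e
  letI algCB : Algebra Γ(Y, V) Γ(X, U) := (f.appLE V U e).hom.toAlgebra
  letI algBA : Algebra Γ(X, U) Γ(X', j ⁻¹ᵁ U) := (j.appLE U (j ⁻¹ᵁ U) hW.ge).hom.toAlgebra
  letI algCA : Algebra Γ(Y, V) Γ(X', j ⁻¹ᵁ U) :=
    ((j ≫ f).appLE V (j ⁻¹ᵁ U) e').hom.toAlgebra
  haveI : IsScalarTower Γ(Y, V) Γ(X, U) Γ(X', j ⁻¹ᵁ U) := by
    apply IsScalarTower.of_algebraMap_eq'
    have := Scheme.Hom.appLE_comp_appLE j f V U (j ⁻¹ᵁ U) e hW.ge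
    exact congrArg CommRingCat.Hom.hom this.symm
  letI : Module Γ(X, U) Γ((Scheme.Modules.pullback j).obj (ClSub.idealMod j.ker), j ⁻¹ᵁ U) :=
    Module.compHom _ (j.appLE U (j ⁻¹ᵁ U) hW.ge).hom
  haveI : IsScalarTower Γ(X, U) Γ(X', j ⁻¹ᵁ U)
      Γ((Scheme.Modules.pullback j).obj (ClSub.idealMod j.ker), j ⁻¹ᵁ U) :=
    .of_algebraMap_smul fun _ _ => rfl
  obtain ⟨uI, hI, -⟩ := exists_uI j hU.1 hWa hW
  have hBA : Function.Surjective (algebraMap Γ(X, U) Γ(X', j ⁻¹ᵁ U)) :=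
    appLE_surjective_of_eq j hU.app_surjective hW
  have hsm : Algebra.Smooth Γ(Y, V) Γ(X', j ⁻¹ᵁ U) := (j ≫ f).smooth_appLE hV hWa e'
  haveI : Algebra.FormallySmooth Γ(Y, V) Γ(X', j ⁻¹ᵁ U) := hsm.1
  have key : Nonempty ((Γ(X', j ⁻¹ᵁ U) ⊗[Γ(X, U)] Ω[Γ(X, U)⁄Γ(Y, V)]) ≃ₗ[Γ(X', j ⁻¹ᵁ U)]
      Γ((Scheme.Modules.pullback j).obj (ClSub.idealMod j.ker), j ⁻¹ᵁ U) ×
        Ω[Γ(X', j ⁻¹ᵁ U)⁄Γ(Y, V)]) :=
    R1.nonempty_equiv_prod (C := Γ(Y, V)) hBA uI hI
  exact key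

end S1

namespace S2
open Groth.Agent.Lib.Conormal81 Groth.Agent.Lib.QCohStalk Groth.Agent.Lib.UnitBaseChange
open Groth.Agent.Lib.H87SmoothRank

variable {X' X Y : Scheme.{u}} (f : X ⟶ Y) (j : X' ⟶ X) [IsImmersion j] [QuasiCompact j]

theorem chart_finite_projective [Smooth f] [Smooth (j ≫ f)] {U : X.Opens} {V : Y.Opens}
    (hU : IsGoodChart j U) (hV : IsAffineOpen V) (e : U ≤ f ⁻¹ᵁ V) :
    Module.Finite Γ(X', j ⁻¹ᵁ U) Γ(Omega.conormal j, j ⁻¹ᵁ U) ∧
      Module.Projective Γ(X', j ⁻¹ᵁ U) Γ(Omega.conormal j, j ⁻¹ᵁ U) := by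
  letI algCB : Algebra Γ(Y, V) Γ(X, U) := (f.appLE V U e).hom.toAlgebra
  letI algBA : Algebra Γ(X, U) Γ(X', j ⁻¹ᵁ U) := (j.appLE U (j ⁻¹ᵁ U) le_rfl).hom.toAlgebra
  letI algCA : Algebra Γ(Y, V) Γ(X', j ⁻¹ᵁ U) :=
    ((j ≫ f).appLE V (j ⁻¹ᵁ U) (j.preimage_mono e)).hom.toAlgebra
  haveI : IsScalarTower Γ(Y, V) Γ(X, U) Γ(X', j ⁻¹ᵁ U) := by
    apply IsScalarTower.of_algebraMap_eq'
    have := Scheme.Hom.appLE_comp_appLE j f V U (j ⁻¹ᵁ U) e le_rfl
    exact congrArg CommRingCat.Hom.hom this.symm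
  obtain ⟨ε⟩ := S1.chart_equiv f j hU hV e
  have hsm : Algebra.Smooth Γ(Y, V) Γ(X, U) := f.smooth_appLE hV hU.1 e
  haveI : Algebra.FormallySmooth Γ(Y, V) Γ(X, U) := hsm.1
  haveI : Algebra.FinitePresentation Γ(Y, V) Γ(X, U) := hsm.2
  exact R1.finite_projective_of_equiv (C := Γ(Y, V)) (B := Γ(X, U)) ε

theorem isFinLocFree_conormal [Smooth f] [Smooth (j ≫ f)] :
    FlatMod.IsFinLocFree (Omega.conormal j) := by
  let ι : Type u :=
    {p : X.Opens × Y.Opens // IsGoodChart j p.1 ∧ IsAffineOpen p.2 ∧ p.1 ≤ f ⁻¹ᵁ p.2}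
  refine Groth.Agent.Lib.QCohLocFree81.isFinLocFree_of_affine_cover_projective (Omega.conormal j)
    (fun p : ι => j ⁻¹ᵁ p.1.1) ?_ (fun p => p.2.1.isAffineOpen_preimage) ?_ ?_
  · rw [eq_top_iff]
    intro z _
    obtain ⟨V, hV, hzV, -⟩ := Opens.isBasis_iff_nbhd.mp Y.isBasis_affineOpens
      (show f (j z) ∈ (⊤ : Y.Opens) from trivial)
    obtain ⟨U, hU, hzU, -, hUV⟩ := exists_goodChart' j z ⊤ (f ⁻¹ᵁ V) trivial hzV
    exact Opens.mem_iSup.mpr ⟨⟨(U, V), hU, hV, hUV⟩, hzU⟩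
  · rintro ⟨⟨U, V⟩, hU, hV, e⟩
    exact (chart_finite_projective f j hU hV e).1
  · rintro ⟨⟨U, V⟩, hU, hV, e⟩
    exact (chart_finite_projective f j hU hV e).2

open Groth.Agent.Lib.ModStalk Groth.Agent.Lib.ModStalkLin Groth.Agent.Lib.FreeModSch
  Groth.Agent.Lib.FreeModStalk Groth.Agent.Lib.FinLocFree Groth.Agent.Lib.PerfectLocal
  Groth.Agent.Lib.LocFreeCrit Groth.Agent.Lib.RestrictStalk Groth.Agent.Lib.ModStalkIso
  Groth.Agent.Lib.LocFreeFP Groth.Agent.Lib.LocFreeRank in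
set_option backward.isDefEq.respectTransparency.types false in
theorem finrank_stalk_of_restrict_iso {X : Scheme.{u}} {M : X.Modules} (U : X.Opens) {n : ℕ}
    (e : M.restrict U.ι ≅ FlatMod.freeMod U n) (y : U) :
    Module.Free (X.presheaf.stalk y.1) (M.presheaf.stalk y.1) ∧
    Module.finrank (X.presheaf.stalk y.1) (M.presheaf.stalk y.1) = n := by
  have h1 : Module.Free (U.toScheme.presheaf.stalk y) ((M.restrict U.ι).presheaf.stalk y) :=
    Module.Free.of_equiv (stalkLinEquiv e y).symm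
  have h2 : Module.Free (X.presheaf.stalk y.1) (M.presheaf.stalk y.1) :=
    (free_restrict_iff U.ι M y).mp h1
  refine ⟨h2, ?_⟩
  have h4 := finrank_restrict_eq U.ι M y
  have h5 : Module.finrank (U.toScheme.presheaf.stalk y)
      ((FlatMod.freeMod U.toScheme n).presheaf.stalk y) = n := by
    rw [Module.finrank_eq_card_basis (stalkBasis (X := U.toScheme) (n := n) y),
      Fintype.card_fin]
  rw [(stalkLinEquiv e y).finrank_eq, h5] at h4
  exact h4.symm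

set_option maxHeartbeats 1600000 in
theorem main [Smooth f] [Smooth (j ≫ f)] (x : X') :
    ∃ (U : X'.Opens) (n : ℕ), x ∈ U ∧
      Nonempty ((Omega.conormal j).restrict U.ι ≅ FlatMod.freeMod (↑U) n) ∧
      FlatMor.fibreDimAt f (j.base x) = FlatMor.fibreDimAt (j ≫ f) x + (n : WithBot ℕ∞) := by
  obtain ⟨U₀, n, hxU₀, ⟨e₀⟩⟩ := isFinLocFree_conormal f j x
  refine ⟨U₀, n, hxU₀, ⟨e₀⟩, ?_⟩
  obtain ⟨hfree, hrank⟩ := finrank_stalk_of_restrict_iso U₀ e₀ ⟨x, hxU₀⟩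
  -- charts
  obtain ⟨V, hV, hxV, -⟩ := Opens.isBasis_iff_nbhd.mp Y.isBasis_affineOpens
      (show f (j x) ∈ (⊤ : Y.Opens) from trivial)
  obtain ⟨U, hU, hxU, -, hUV⟩ := exists_goodChart' j x ⊤ (f ⁻¹ᵁ V) trivial hxV
  obtain ⟨r, m, hxr, hm, hdim⟩ := exists_basicOpen_isStandardSmooth f (j x) hV hU.1 hUV hxU
  have hU₁ : IsGoodChart j (X.basicOpen r) := hU.basicOpen r
  have e₁ : X.basicOpen r ≤ f ⁻¹ᵁ V := (X.basicOpen_le r).trans hUV
  obtain ⟨s, m', hxs, hm', hdim'⟩ := exists_basicOpen_isStandardSmooth (j ≫ f) x hV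
    hU₁.isAffineOpen_preimage (j.preimage_mono e₁) hxr
  obtain ⟨b, hb⟩ := hU₁.app_surjective s
  have hU₂ : IsGoodChart j (X.basicOpen b) := hU₁.basicOpen b
  have e₂ : X.basicOpen b ≤ f ⁻¹ᵁ V := (X.basicOpen_le b).trans e₁
  have hpre : j ⁻¹ᵁ (X.basicOpen b) = X'.basicOpen s := by
    rw [Scheme.preimage_basicOpen, hb]
  have hxb : x ∈ j ⁻¹ᵁ (X.basicOpen b) := hpre ▸ hxs
  have hWa : IsAffineOpen (j ⁻¹ᵁ (X.basicOpen b)) := hU₂.isAffineOpen_preimage
  -- standard smoothness on the final chart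
  have hm₂ : (f.appLE V (X.basicOpen b) e₂).hom.IsStandardSmoothOfRelativeDimension m := by
    haveI : IsLocalization.Away b Γ(X, X.basicOpen b) := hU₁.1.isLocalization_basicOpen b
    have h0 := RingHom.IsStandardSmoothOfRelativeDimension.algebraMap_isLocalizationAway
      (R := Γ(X, X.basicOpen r)) (Rᵣ := Γ(X, X.basicOpen b)) b
    have h1 := h0.comp hm
    rw [zero_add] at h1
    rw [← f.appLE_map e₁ (homOfLE (X.basicOpen_le b)).op]
    exact h1
  have hm₂' : ((j ≫ f).appLE V (j ⁻¹ᵁ (X.basicOpen b))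
      (j.preimage_mono e₂)).hom.IsStandardSmoothOfRelativeDimension m' := by
    have key : ∀ (W : X'.Opens) (_ : W = X'.basicOpen s) (h : W ≤ (j ≫ f) ⁻¹ᵁ V),
        ((j ≫ f).appLE V W h).hom.IsStandardSmoothOfRelativeDimension m' := by
      rintro _ rfl h; exact hm'
    exact key _ hpre _
  letI algCB : Algebra Γ(Y, V) Γ(X, X.basicOpen b) := (f.appLE V (X.basicOpen b) e₂).hom.toAlgebra
  letI algBA : Algebra Γ(X, X.basicOpen b) Γ(X', j ⁻¹ᵁ (X.basicOpen b)) :=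
    (j.appLE (X.basicOpen b) (j ⁻¹ᵁ (X.basicOpen b)) le_rfl).hom.toAlgebra
  letI algCA : Algebra Γ(Y, V) Γ(X', j ⁻¹ᵁ (X.basicOpen b)) :=
    ((j ≫ f).appLE V (j ⁻¹ᵁ (X.basicOpen b)) (j.preimage_mono e₂)).hom.toAlgebra
  haveI : IsScalarTower Γ(Y, V) Γ(X, X.basicOpen b) Γ(X', j ⁻¹ᵁ (X.basicOpen b)) := by
    apply IsScalarTower.of_algebraMap_eq'
    have := Scheme.Hom.appLE_comp_appLE j f V (X.basicOpen b) (j ⁻¹ᵁ (X.basicOpen b)) e₂ le_rfl
    exact congrArg CommRingCat.Hom.hom this.symm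
  haveI : Algebra.IsStandardSmoothOfRelativeDimension m Γ(Y, V) Γ(X, X.basicOpen b) := hm₂
  haveI : Algebra.IsStandardSmoothOfRelativeDimension m' Γ(Y, V) Γ(X', j ⁻¹ᵁ (X.basicOpen b)) :=
    hm₂'
  haveI : Nonempty (X.basicOpen b) := ⟨⟨j x, hxb⟩⟩
  haveI : Nonempty (j ⁻¹ᵁ (X.basicOpen b) : X'.Opens) := ⟨⟨x, hxb⟩⟩
  haveI : Nontrivial Γ(X, X.basicOpen b) := X.component_nontrivial _
  haveI : Nontrivial Γ(X', j ⁻¹ᵁ (X.basicOpen b)) := X'.component_nontrivial _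
  obtain ⟨bB⟩ := nonempty_basis_kaehler (R := Γ(Y, V)) (S := Γ(X, X.basicOpen b)) m
  obtain ⟨bA⟩ := nonempty_basis_kaehler (R := Γ(Y, V)) (S := Γ(X', j ⁻¹ᵁ (X.basicOpen b))) m'
  obtain ⟨ε⟩ := S1.chart_equiv f j hU₂ hV e₂
  obtain ⟨hfin, -⟩ := chart_finite_projective f j hU₂ hV e₂
  -- the stalk
  obtain ⟨y, rfl⟩ : ∃ y : (j ⁻¹ᵁ (X.basicOpen b) : X'.Opens), (y : X') = x := ⟨⟨x, hxb⟩, rfl⟩
  letI := moduleSectionStalk (Omega.conormal j) y
  haveI := isScalarTower_sectionStalk (Omega.conormal j) y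
  haveI := hWa.isLocalization_stalk y
  haveI := isLocalizedModule_germ (Omega.conormal j) hWa y
  have hg : IsBaseChange (X'.presheaf.stalk y.1) (germLinear (Omega.conormal j) y) :=
    IsLocalizedModule.isBaseChange (hWa.primeIdealOf y).asIdeal.primeCompl _ _
  haveI : Module.Finite (X'.presheaf.stalk y.1) ((Omega.conormal j).presheaf.stalk y.1) :=
    Module.Finite.of_isLocalizedModule (hWa.primeIdealOf y).asIdeal.primeCompl
      (germLinear (Omega.conormal j) y)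
  haveI : Module.Free (X'.presheaf.stalk y.1) ((Omega.conormal j).presheaf.stalk y.1) := hfree
  have hrank' : Module.finrank (X'.presheaf.stalk y.1)
      ((Omega.conormal j).presheaf.stalk y.1) = n := hrank
  have hcount : m = n + m' :=
    R1.rank_count (C := Γ(Y, V)) (L := X'.presheaf.stalk y.1) bB bA ε
      (germLinear (Omega.conormal j) y) hg hrank'
  rw [hdim, hdim', hcount]
  push_cast
  rw [add_comm]

end S2

end Aux

/-- Let f : X ⟶ Y be smooth and j : X' ⟶ X a quasi-compact immersion such that j ≫ f is smooth. Then for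
every point x of X' there are an open neighbourhood U of x and an integer n with the conormal sheaf
of j free of rank n on U, and the local dimension at j(x) of the fibre of f through j(x) equals the
local dimension at x of the fibre of j ≫ f through x plus n. (The published statement allows any
immersion j; this row assumes j quasi-compact, the case in which the conormal sheaf used here is
known to be the conormal sheaf of j.) -/
theorem result {X' X Y : Scheme.{u}} (f : X ⟶ Y) [Smooth f]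
    (j : X' ⟶ X) [IsImmersion j] [QuasiCompact j] [Smooth (j ≫ f)] (x : ↥X') :
    ∃ (U : X'.Opens) (n : ℕ), x ∈ U ∧ Nonempty ((Omega.conormal j).restrict U.ι ≅ FlatMod.freeMod (↑U) n) ∧
      FlatMor.fibreDimAt f (j.base x) = FlatMor.fibreDimAt (j ≫ f) x + (n : WithBot ℕ∞) := by
  exact S2.main f j x

end Groth.Agent.S5021
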