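import Groth.Statements.S5022
import Mathlib
import Groth.Agent.Lib.H87SmoothRank
import Groth.Agent.Lib.H80SmoothFiber
import Groth.Agent.Lib.LocFreeRank
import Groth.Agent.S2063

set_option linter.style.haveILetI false
set_option backward.isDefEq.respectTransparency.types false

set_option autoImplicit false
universe u
open CategoryTheory CategoryTheory.Limits AlgebraicGeometry TopologicalSpace
open Unram17

namespace Groth.Agent.S5022

section Aux
open TensorProduct KaehlerDifferential IsLocalRing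

namespace Q1

/-- base change of a module to a field through a localization model -/
theorem finrank_tensor_eq {S F K L M Mx : Type*} [CommRing S] [CommRing F] [Algebra S F] [Field K]
    [Algebra F K] [Algebra S K] [IsScalarTower S F K] [CommRing L] [Algebra S L] [Algebra L K]
    [IsScalarTower S L K] [AddCommGroup M] [Module S M] [AddCommGroup Mx] [Module L Mx]
    [Module S Mx] [IsScalarTower S L Mx] (g : M →ₗ[S] Mx) (hg : IsBaseChange L g)
    [Module.Free L Mx] [Nontrivial L] :
    Module.finrank K (K ⊗[F] (F ⊗[S] M)) = Module.finrank L Mx := by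
  let e2 : K ⊗[F] (F ⊗[S] M) ≃ₗ[K] K ⊗[S] M :=
    TensorProduct.AlgebraTensorModule.cancelBaseChange S F K K M
  let e3 : K ⊗[L] (L ⊗[S] M) ≃ₗ[K] K ⊗[S] M :=
    TensorProduct.AlgebraTensorModule.cancelBaseChange S L K K M
  let e4 : K ⊗[L] (L ⊗[S] M) ≃ₗ[K] K ⊗[L] Mx :=
    TensorProduct.AlgebraTensorModule.congr (LinearEquiv.refl K K) hg.equiv
  rw [(e2.trans (e3.symm.trans e4)).finrank_eq, Module.finrank_baseChange]

attribute [local instance] Algebra.TensorProduct.rightAlgebra

variable {R S : Type u} [CommRing R] [CommRing S] [Algebra R S] (p : Ideal R) [p.IsPrime]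
  (q' : Ideal (p.Fiber S)) [q'.IsPrime]

/-- the prime of `S` under a prime of the fibre -/
noncomputable abbrev rr : Ideal S :=
  q'.comap (Algebra.TensorProduct.includeRight : S →ₐ[R] p.Fiber S)

instance : (rr p q').LiesOver p := by
  constructor
  ext a
  have h1 : a ∈ p ↔ algebraMap R (p.Fiber S) a ∈ q' := by
    conv_lhs => rw [Ideal.over_def q' p]
    rfl
  have h2 : (Algebra.TensorProduct.includeRight : S →ₐ[R] p.Fiber S) (algebraMap R S a) =
      algebraMap R (p.Fiber S) a := by
    rw [AlgHom.commutes]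
  rw [h1, ← h2]
  rfl

/-- the rank of the differentials of the fibre at a point, computed from a localization model of
the differentials of `S` over `R` -/
theorem finrank_fibre_kaehler {L Mx : Type*} [CommRing L] [Algebra S L]
    [IsLocalization.AtPrime L (rr p q')] [AddCommGroup Mx] [Module L Mx]
    [Module S Mx] [IsScalarTower S L Mx] (g : Ω[S⁄R] →ₗ[S] Mx) (hg : IsBaseChange L g)
    [Module.Free L Mx] [Nontrivial L] :
    Module.finrank q'.ResidueField (q'.ResidueField ⊗[p.Fiber S] Ω[p.Fiber S⁄p.ResidueField]) =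
      Module.finrank L Mx := by
  let K := q'.ResidueField
  letI : Algebra S K := ((algebraMap (p.Fiber S) K).comp (algebraMap S (p.Fiber S))).toAlgebra
  haveI : IsScalarTower S (p.Fiber S) K := IsScalarTower.of_algebraMap_eq' rfl
  have hunit : ∀ s : (rr p q').primeCompl, IsUnit (algebraMap S K s) := by
    intro s
    apply IsUnit.mk0
    intro h0
    have h1 : algebraMap (p.Fiber S) K (algebraMap S (p.Fiber S) s) = 0 := h0
    rw [Ideal.algebraMap_residueField_eq_zero] at h1
    exact s.2 h1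
  letI : Algebra L K := (IsLocalization.lift (M := (rr p q').primeCompl) (S := L) hunit).toAlgebra
  haveI : IsScalarTower S L K := IsScalarTower.of_algebraMap_eq' (by
    ext s
    exact (IsLocalization.lift_eq (M := (rr p q').primeCompl) (S := L) hunit s).symm)
  let e1 : K ⊗[p.Fiber S] Ω[p.Fiber S⁄p.ResidueField] ≃ₗ[K] K ⊗[p.Fiber S] (p.Fiber S ⊗[S] Ω[S⁄R]) :=
    TensorProduct.AlgebraTensorModule.congr (LinearEquiv.refl K K)
      (KaehlerDifferential.tensorKaehlerEquiv R p.ResidueField S (p.Fiber S)).symm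
  rw [e1.finrank_eq]
  exact finrank_tensor_eq (S := S) (F := p.Fiber S) (K := K) (L := L) g hg

end Q1

namespace Q2
open Q1
attribute [local instance] Algebra.TensorProduct.rightAlgebra

variable {R S : Type u} [CommRing R] [CommRing S] [Algebra R S] (p : Ideal R) [p.IsPrime]
  (q' : Ideal (p.Fiber S)) [q'.IsPrime]

theorem isSmoothAt_of_fibre [Algebra.FinitePresentation R S]
    (hsm : Algebra.IsSmoothAt p.ResidueField q')
    (hflat : Module.Flat R (Localization.AtPrime (rr p q'))) :
    Algebra.IsSmoothAt R (rr p q') := by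
  letI := Localization.AtPrime.algebraOfLiesOver p (rr p q')
  let Rp := Localization.AtPrime p
  let Sr := Localization.AtPrime (rr p q')
  let Fq := Localization.AtPrime q'
  have hflat' : Module.Flat Rp Sr :=
    (Module.flat_iff_of_isLocalization Rp p.primeCompl Sr).mpr hflat
  let e : Fq ≃ₐ[Rp] Sr ⧸ p.map (algebraMap R Sr) := Ideal.Fiber.localizationAlgEquivQuotient p q'
  let π : Sr →+* Fq := (e.symm : (Sr ⧸ p.map (algebraMap R Sr)) →+* Fq).comp
    (Ideal.Quotient.mk (p.map (algebraMap R Sr)))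
  have hπ : Function.Surjective π := e.symm.surjective.comp Ideal.Quotient.mk_surjective
  have hker : RingHom.ker π = (maximalIdeal Rp).map (algebraMap Rp Sr) := by
    have h1 : RingHom.ker π = p.map (algebraMap R Sr) := by
      ext z
      rw [RingHom.mem_ker]
      change e.symm (Ideal.Quotient.mk _ z) = 0 ↔ _
      rw [EmbeddingLike.map_eq_zero_iff, Ideal.Quotient.eq_zero_iff_mem]
    rw [h1, ← Localization.AtPrime.map_eq_maximalIdeal, Ideal.map_map,
      ← IsScalarTower.algebraMap_eq]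
  have hχ : @RingHom.FormallySmooth p.ResidueField Fq _ _ (algebraMap p.ResidueField Fq) := by
    rw [RingHom.formallySmooth_algebraMap]
    exact hsm
  have hcomm : (algebraMap p.ResidueField Fq).comp (algebraMap Rp p.ResidueField) =
      π.comp (algebraMap Rp Sr) := by
    ext a
    change algebraMap p.ResidueField Fq (algebraMap Rp p.ResidueField a) =
      e.symm (Ideal.Quotient.mk _ (algebraMap Rp Sr a))
    have h2 : (Ideal.Quotient.mk (p.map (algebraMap R Sr))) (algebraMap Rp Sr a) =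
        algebraMap Rp (Sr ⧸ p.map (algebraMap R Sr)) a := rfl
    rw [h2, AlgEquiv.commutes, ← IsScalarTower.algebraMap_apply]
  have hfib := Groth.Agent.Lib.H80SmoothFiber.formallySmooth_residueField_tensor_of_surjective
    (R := Rp) (S := Sr) (T := Fq) (K := p.ResidueField) (Field.toIsField _) π hπ hker
    (algebraMap Rp p.ResidueField) IsLocalRing.residue_surjective
    (algebraMap p.ResidueField Fq) hχ hcomm
  exact Groth.Agent.Lib.H80SmoothFiber.isSmoothAt_of_flat_of_fiber p (rr p q') hflat' hfib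


theorem isSmoothAt_of_flat_of_finrank [Algebra.FinitePresentation R S] (n : ℕ)
    {L Mx : Type u} [CommRing L] [Algebra S L] [IsLocalization.AtPrime L (rr p q')] [Nontrivial L]
    [AddCommGroup Mx] [Module L Mx] [Module S Mx] [IsScalarTower S L Mx]
    (g : Ω[S⁄R] →ₗ[S] Mx) (hg : IsBaseChange L g) [Module.Free L Mx]
    (hn : Module.finrank L Mx = n)
    (hdim : FlatMor.localDim (PrimeSpectrum (p.Fiber S)) ⟨q', inferInstance⟩ = (n : WithBot ℕ∞))
    [Algebra R L] [IsScalarTower R S L] (hflat : Module.Flat R L) :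
    Algebra.IsSmoothAt R (rr p q') := by
  apply isSmoothAt_of_fibre p q'
  · haveI : Algebra.FiniteType R S := inferInstance
    rw [Groth.Agent.S2063.result (k := p.ResidueField) (S := p.Fiber S) q',
      finrank_fibre_kaehler p q' g hg, hn, hdim]
    exact le_rfl
  · let e : L ≃ₐ[S] Localization.AtPrime (rr p q') :=
      IsLocalization.algEquiv (rr p q').primeCompl L (Localization.AtPrime (rr p q'))
    exact Module.Flat.of_linearEquiv (e.toLinearEquiv.restrictScalars R).symm

end Q2

namespace Q3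
open Groth.Agent.Lib.H87SmoothRank Groth.Agent.Lib.H56LocDim Groth.Agent.Lib.QCohStalk
  Groth.Agent.Lib.OmegaDer81

/-- version of `exists_basicOpen_isStandardSmooth` for a single smooth chart -/
theorem exists_basicOpen_isStandardSmooth' {X Y : Scheme.{u}} (f : X ⟶ Y) (x : X)
    {U : Y.Opens} {V : X.Opens} (hU : IsAffineOpen U) (hV : IsAffineOpen V) (e : V ≤ f ⁻¹ᵁ U)
    (hx : x ∈ V) (h1 : RingHom.Smooth (f.appLE U V e).hom) :
    ∃ (r : Γ(X, V)) (n : ℕ), x ∈ X.basicOpen r ∧
      (f.appLE U (X.basicOpen r)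
        ((X.basicOpen_le r).trans e)).hom.IsStandardSmoothOfRelativeDimension n ∧
      FlatMor.fibreDimAt f x = (n : WithBot ℕ∞) := by
  rw [RingHom.smooth_iff_locally_isStandardSmooth,
    RingHom.locally_iff_isLocalization RingHom.isStandardSmooth_respectsIso] at h1
  obtain ⟨s, hs, hfs⟩ := h1
  have hs' := iSup_basicOpen_of_span_eq_top V (s : Set Γ(X, V)) hs
  have hx' : x ∈ (⨆ i ∈ s, X.basicOpen i) := hs'.symm ▸ hx
  obtain ⟨r, hr, hrs⟩ : ∃ r ∈ s, x ∈ X.basicOpen r := by simpa using hx'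
  haveI : IsLocalization.Away r Γ(X, X.basicOpen r) := hV.isLocalization_basicOpen r
  have h2 : (f.appLE U (X.basicOpen r) ((X.basicOpen_le r).trans e)).hom.IsStandardSmooth := by
    rw [← f.appLE_map e (homOfLE (X.basicOpen_le r)).op]
    exact hfs r hr _
  obtain ⟨n, hn⟩ := exists_relDim_of_isStandardSmooth _ h2
  refine ⟨r, n, hrs, hn, ?_⟩
  have hVr : IsAffineOpen (X.basicOpen r) := hV.basicOpen r
  have hq : hVr.fromSpec.base (hVr.primeIdealOf ⟨x, hrs⟩) = x := hVr.fromSpec_primeIdealOf ⟨x, hrs⟩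
  rw [← hq, fibreDimAt_fromSpec f hVr hU ((X.basicOpen_le r).trans e)]
  letI := (f.appLE U (X.basicOpen r) ((X.basicOpen_le r).trans e)).hom.toAlgebra
  exact fibLocDim_of_isStandardSmoothOfRelativeDimension Γ(Y, U) Γ(X, X.basicOpen r) n hn _

set_option backward.isDefEq.respectTransparency false in
theorem forward {X Y : Scheme.{u}} (f : X ⟶ Y) [LocallyOfFinitePresentation f] (Ω' : X.Modules)
    (d : OmegaSh.Der f Ω') (hd : OmegaSh.IsUniversal d) (x : X) (hx : x ∈ f.smoothLocus) :
    (f.stalkMap x).hom.Flat ∧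
      ∃ (U : X.Opens) (n : ℕ), x ∈ U ∧ Nonempty (Ω'.restrict U.ι ≅ FlatMod.freeMod (↑U) n) ∧
        FlatMor.fibreDimAt f x = (n : WithBot ℕ∞) := by
  obtain ⟨U, hU, V, hV, hVU, hxV, hsm⟩ := exists_smooth_of_formallySmooth_stalk f x hx
  constructor
  · exact (RingHom.Flat.respectsIso.arrow_mk_iso_iff
      (IsAffineOpen.arrowStalkMapIso f U hU V hV hVU hxV)).mpr
      (RingHom.Flat.localRingHom hsm.flat _ _
        congr($(IsAffineOpen.comap_primeIdealOf_appLE U hU V hV hVU hxV).1).symm)
  · obtain ⟨r, n, hxr, hn, hdim⟩ := exists_basicOpen_isStandardSmooth' f x hU hV hVU hxV hsm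
    refine ⟨X.basicOpen r, n, hxr, ?_, hdim⟩
    have hVr : IsAffineOpen (X.basicOpen r) := hV.basicOpen r
    have e' : X.basicOpen r ≤ f ⁻¹ᵁ U := (X.basicOpen_le r).trans hVU
    letI : Algebra Γ(Y, U) Γ(X, X.basicOpen r) := (f.appLE U (X.basicOpen r) e').hom.toAlgebra
    haveI : Algebra.IsStandardSmoothOfRelativeDimension n Γ(Y, U) Γ(X, X.basicOpen r) := hn
    haveI : Nonempty (X.basicOpen r) := ⟨⟨x, hxr⟩⟩
    haveI : Nontrivial Γ(X, X.basicOpen r) := X.component_nontrivial _
    obtain ⟨b⟩ := nonempty_basis_kaehler (R := Γ(Y, U)) (S := Γ(X, X.basicOpen r)) n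
    obtain ⟨ε, -⟩ := exists_linearEquiv_sections f d hVr hU e' hd
    haveI : Ω'.IsQuasicoherent := isQuasicoherent_of_isUniversal f d hd
    exact nonempty_restrict_iso_freeMod_of_basis Ω' hVr (b.map ε)

end Q3

namespace Q4
open Q1 Q2
open Groth.Agent.Lib.H87SmoothRank Groth.Agent.Lib.H56LocDim Groth.Agent.Lib.QCohStalk
  Groth.Agent.Lib.OmegaDer81

theorem atPrime_congr {S L : Type*} [CommRing S] [CommRing L] [Algebra S L] {I J : Ideal S}
    [I.IsPrime] [J.IsPrime] (h : I = J) [IsLocalization.AtPrime L I] :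
    IsLocalization.AtPrime L J := by
  subst h; infer_instance

theorem isSmoothAt_congr {R S : Type*} [CommRing R] [CommRing S] [Algebra R S] {I J : Ideal S}
    [I.IsPrime] [J.IsPrime] (h : I = J) (hI : Algebra.IsSmoothAt R I) : Algebra.IsSmoothAt R J := by
  subst h; exact hI

open Groth.Agent.Lib.ModStalk Groth.Agent.Lib.ModStalkLin Groth.Agent.Lib.FreeModSch
  Groth.Agent.Lib.FreeModStalk Groth.Agent.Lib.FinLocFree Groth.Agent.Lib.PerfectLocal
  Groth.Agent.Lib.LocFreeCrit Groth.Agent.Lib.RestrictStalk Groth.Agent.Lib.ModStalkIso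
  Groth.Agent.Lib.LocFreeFP Groth.Agent.Lib.LocFreeRank in
theorem finrank_stalk_of_restrict_iso {X : Scheme.{u}} {M : X.Modules} (U : X.Opens) {n : ℕ}
    (e : M.restrict U.ι ≅ FlatMod.freeMod U n) (y : U) :
    Module.Free (X.presheaf.stalk y.1) (M.presheaf.stalk y.1) ∧
    Module.finrank (X.presheaf.stalk y.1) (M.presheaf.stalk y.1) = n := by
  have h1 : Module.Free (U.toScheme.presheaf.stalk y) ((M.restrict U.ι).presheaf.stalk y) :=
    Module.Free.of_equiv (stalkLinEquiv e y).symm
  have h2 : Module.Free (X.presheaf.stalk y.1) (M.presheaf.stalk y.1) :=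
    (free_restrict_iff U.ι M y).mp h1
  refine ⟨h2, ?_⟩
  have h4 := finrank_restrict_eq U.ι M y
  have h5 : Module.finrank (U.toScheme.presheaf.stalk y)
      ((FlatMod.freeMod U.toScheme n).presheaf.stalk y) = n := by
    rw [Module.finrank_eq_card_basis (stalkBasis (X := U.toScheme) (n := n) y),
      Fintype.card_fin]
  rw [(stalkLinEquiv e y).finrank_eq, h5] at h4
  exact h4.symm

set_option maxHeartbeats 1600000 in
theorem backward {X Y : Scheme.{u}} (f : X ⟶ Y) [LocallyOfFinitePresentation f] (Ω' : X.Modules)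
    (d : OmegaSh.Der f Ω') (hd : OmegaSh.IsUniversal d) (x : X)
    (hflat : (f.stalkMap x).hom.Flat) (U : X.Opens) (n : ℕ) (hxU : x ∈ U)
    (e : Ω'.restrict U.ι ≅ FlatMod.freeMod (↑U) n)
    (hdim : FlatMor.fibreDimAt f x = (n : WithBot ℕ∞)) : x ∈ f.smoothLocus := by
  obtain ⟨hfree, hrank⟩ := finrank_stalk_of_restrict_iso U e ⟨x, hxU⟩
  obtain ⟨_, ⟨W, hW, rfl⟩, hxW, -⟩ :=
    Y.isBasis_affineOpens.exists_subset_of_mem_open (Set.mem_univ (f x)) isOpen_univ
  obtain ⟨_, ⟨V, hV, rfl⟩, hxV, hVW⟩ :=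
    X.isBasis_affineOpens.exists_subset_of_mem_open hxW (W.2.preimage f.continuous)
  have hfp := f.finitePresentation_appLE hW hV hVW
  rw [Scheme.Hom.mem_smoothLocus, formallySmooth_stalkMap_iff W hW V hV hVW hxV]
  letI algRS : Algebra Γ(Y, W) Γ(X, V) := (f.appLE W V hVW).hom.toAlgebra
  haveI : Algebra.FinitePresentation Γ(Y, W) Γ(X, V) := hfp
  obtain ⟨y, rfl⟩ : ∃ y : V, (y : X) = x := ⟨⟨x, hxV⟩, rfl⟩
  let q₀ : PrimeSpectrum Γ(X, V) := hV.primeIdealOf y
  let p₀ : PrimeSpectrum Γ(Y, W) := PrimeSpectrum.comap (algebraMap Γ(Y, W) Γ(X, V)) q₀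
  let q'₀ := PrimeSpectrum.preimageEquivFiber Γ(Y, W) Γ(X, V) p₀ ⟨q₀, rfl⟩
  have hr : rr p₀.asIdeal q'₀.asIdeal = q₀.asIdeal := by
    have := (PrimeSpectrum.preimageEquivFiber Γ(Y, W) Γ(X, V) p₀).symm_apply_apply ⟨q₀, rfl⟩
    exact congrArg (fun z => z.1.asIdeal) this
  change Algebra.IsSmoothAt Γ(Y, W) q₀.asIdeal
  refine isSmoothAt_congr hr ?_
  -- the stalk as a localization
  haveI hloc := hV.isLocalization_stalk y
  haveI : IsLocalization.AtPrime (X.presheaf.stalk y.1) (rr p₀.asIdeal q'₀.asIdeal) :=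
    atPrime_congr (I := q₀.asIdeal) hr.symm
  letI := moduleSectionStalk Ω' y
  haveI := isScalarTower_sectionStalk Ω' y
  haveI : Ω'.IsQuasicoherent := isQuasicoherent_of_isUniversal f d hd
  haveI := isLocalizedModule_germ Ω' hV y
  obtain ⟨ε, -⟩ := exists_linearEquiv_sections f d hV hW hVW hd
  have hg0 : IsBaseChange (X.presheaf.stalk y.1) (germLinear Ω' y) :=
    IsLocalizedModule.isBaseChange (hV.primeIdealOf y).asIdeal.primeCompl _ _
  have hg : IsBaseChange (X.presheaf.stalk y.1) ((germLinear Ω' y).comp ε.toLinearMap) :=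
    IsBaseChange.comp_equiv ε _ hg0
  letI algRL : Algebra Γ(Y, W) (X.presheaf.stalk y.1) :=
    ((algebraMap Γ(X, V) (X.presheaf.stalk y.1)).comp (algebraMap Γ(Y, W) Γ(X, V))).toAlgebra
  haveI : IsScalarTower Γ(Y, W) Γ(X, V) (X.presheaf.stalk y.1) := .of_algebraMap_eq' rfl
  -- flatness
  have hflatRL : Module.Flat Γ(Y, W) (X.presheaf.stalk y.1) := by
    letI algRL' : Algebra Γ(Y, W) (Y.presheaf.stalk (f y.1)) :=
      Y.presheaf.algebra_section_stalk ⟨f y.1, hVW y.2⟩
    haveI hlocY : IsLocalization.AtPrime (Y.presheaf.stalk (f y.1))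
        (hW.primeIdealOf ⟨f y.1, hVW y.2⟩).asIdeal := hW.isLocalization_stalk ⟨f y.1, hVW y.2⟩
    haveI : Module.Flat Γ(Y, W) (Y.presheaf.stalk (f y.1)) :=
      IsLocalization.flat _ (hW.primeIdealOf ⟨f y.1, hVW y.2⟩).asIdeal.primeCompl
    letI algL'L : Algebra (Y.presheaf.stalk (f y.1)) (X.presheaf.stalk y.1) :=
      (f.stalkMap y.1).hom.toAlgebra
    haveI : Module.Flat (Y.presheaf.stalk (f y.1)) (X.presheaf.stalk y.1) := hflat
    haveI : IsScalarTower Γ(Y, W) (Y.presheaf.stalk (f y.1)) (X.presheaf.stalk y.1) := by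
      apply IsScalarTower.of_algebraMap_eq'
      ext a
      change (X.presheaf.germ V y.1 y.2).hom ((f.appLE W V hVW).hom a) =
        (f.stalkMap y.1).hom ((Y.presheaf.germ W (f y.1) (hVW y.2)).hom a)
      rw [Scheme.Hom.germ_stalkMap_apply, Scheme.Hom.appLE]
      simp only [CommRingCat.hom_comp, RingHom.comp_apply]
      exact TopCat.Presheaf.germ_res_apply _ _ _ _ _
    exact Module.Flat.trans Γ(Y, W) (Y.presheaf.stalk (f y.1)) (X.presheaf.stalk y.1)
  -- dimension
  have hdim' : FlatMor.localDim (PrimeSpectrum (p₀.asIdeal.Fiber Γ(X, V)))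
      ⟨q'₀.asIdeal, inferInstance⟩ = (n : WithBot ℕ∞) := by
    have h1 := fibreDimAt_fromSpec f hV hW hVW q₀
    have h2 : hV.fromSpec.base q₀ = y.1 := hV.fromSpec_primeIdealOf y
    rw [h2, hdim] at h1
    rw [h1, ← localDim_fibre_eq _ q₀ p₀ rfl]
    exact (localDim_eq_of_homeomorph
      (PrimeSpectrum.preimageHomeomorphFiber Γ(Y, W) Γ(X, V) p₀) ⟨q₀, rfl⟩).symm
  haveI : Module.Free (X.presheaf.stalk y.1) (Ω'.presheaf.stalk y.1) := hfree
  exact isSmoothAt_of_flat_of_finrank p₀.asIdeal q'₀.asIdeal n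
    ((germLinear Ω' y).comp ε.toLinearMap) hg hrank hdim' hflatRL

end Q4

end Aux

/-- Let f : X ⟶ Y be locally of finite presentation, (Ω', d) a sheaf of differentials of X over Y (d
universal) and x a point of X. Then f is smooth at x if and only if the stalk map at x is flat and
there are an open neighbourhood U of x and an integer n with Ω' free of rank n on U and n equal to
the local dimension at x of the fibre of f through x. -/
theorem result {X Y : Scheme.{u}} (f : X ⟶ Y)
    [LocallyOfFinitePresentation f] (Ω' : X.Modules) (d : OmegaSh.Der f Ω') (hd : OmegaSh.IsUniversal d) (x : ↥X) :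
    x ∈ f.smoothLocus ↔
      (f.stalkMap x).hom.Flat ∧
        ∃ (U : X.Opens) (n : ℕ), x ∈ U ∧ Nonempty (Ω'.restrict U.ι ≅ FlatMod.freeMod (↑U) n) ∧
          FlatMor.fibreDimAt f x = (n : WithBot ℕ∞) := by
  constructor
  · intro hx
    exact Q3.forward f Ω' d hd x hx
  · rintro ⟨hflat, U, n, hxU, ⟨e⟩, hdim⟩
    exact Q4.backward f Ω' d hd x hflat U n hxU e hdim

end Groth.Agent.S5022
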