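import Groth.Statements.S5023
import Groth.Agent.Lib.OmegaDer81G
import Groth.Agent.Lib.H90OXModAffineIso
import Groth.Agent.Lib.H72PullbackQCoh
import Groth.Agent.Lib.QCohBiprod

set_option autoImplicit false
universe u
open CategoryTheory CategoryTheory.Limits AlgebraicGeometry TopologicalSpace
open Nrm16

namespace Groth.Agent.S5023

open Groth.Agent.Lib.OmegaDer81 TensorProduct

section
variable {X Y S Z : Scheme.{u}} (a : X ⟶ S) (b : Y ⟶ S)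
    (p : Z ⟶ X) (q : Z ⟶ Y) (hZ : IsPullback p q a b)
    {ΩX : X.Modules} (dX : OmegaSh.Der a ΩX) (hX : OmegaSh.IsUniversal dX)
    {ΩY : Y.Modules} (dY : OmegaSh.Der b ΩY) (hY : OmegaSh.IsUniversal dY)
    {ΩZ : Z.Modules} (dZ : OmegaSh.Der (p ≫ a) ΩZ) (hZu : OmegaSh.IsUniversal dZ)
    (c₁ : (Scheme.Modules.pullback p).obj ΩX ⟶ ΩZ) (hc₁ : OmegaSh.IsDiffCompat p dX dZ c₁)
    (c₂ : (Scheme.Modules.pullback q).obj ΩY ⟶ ΩZ) (hc₂ : OmegaSh.IsDiffCompat q dY dZ c₂)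
    {V : S.Opens} {UX : X.Opens} {UY : Y.Opens}
    (hV : IsAffineOpen V) (hUX : IsAffineOpen UX) (hUY : IsAffineOpen UY)
    (eX : UX ≤ a ⁻¹ᵁ V) (eY : UY ≤ b ⁻¹ᵁ V)

include hZ hX hY hZu hc₁ hc₂ hV hUX hUY eX eY in
set_option backward.isDefEq.respectTransparency false in
/-- on a product chart: `(y₁, y₂) ↦ c₁ y₁ + c₂ y₂` is bijective -/
theorem chart_sum :
    (∀ y₁ y₂, c₁.app (p ⁻¹ᵁ UX ⊓ q ⁻¹ᵁ UY) y₁ + c₂.app (p ⁻¹ᵁ UX ⊓ q ⁻¹ᵁ UY) y₂ = 0 →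
      y₁ = 0 ∧ y₂ = 0) ∧
    ∀ ω : Γ(ΩZ, p ⁻¹ᵁ UX ⊓ q ⁻¹ᵁ UY), ∃ y₁ y₂,
      c₁.app (p ⁻¹ᵁ UX ⊓ q ⁻¹ᵁ UY) y₁ + c₂.app (p ⁻¹ᵁ UX ⊓ q ⁻¹ᵁ UY) y₂ = ω := by
  have hW := isAffineOpen_pullbackChart a b p q hZ hV hUY hUX eY eX
  have hpo := isPushout_pullbackChart a b p q hZ hV hUY hUX eY eX
  have e' : p ⁻¹ᵁ UX ⊓ q ⁻¹ᵁ UY ≤ (p ≫ a) ⁻¹ᵁ V := fun x hx => eX hx.1
  letI : Algebra Γ(S, V) Γ(X, UX) := (a.appLE V UX eX).hom.toAlgebra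
  letI : Algebra Γ(S, V) Γ(Y, UY) := (b.appLE V UY eY).hom.toAlgebra
  letI : Algebra Γ(S, V) Γ(Z, p ⁻¹ᵁ UX ⊓ q ⁻¹ᵁ UY) :=
    ((p ≫ a).appLE V (p ⁻¹ᵁ UX ⊓ q ⁻¹ᵁ UY) e').hom.toAlgebra
  letI : Algebra Γ(X, UX) Γ(Z, p ⁻¹ᵁ UX ⊓ q ⁻¹ᵁ UY) :=
    (p.appLE UX (p ⁻¹ᵁ UX ⊓ q ⁻¹ᵁ UY) inf_le_left).hom.toAlgebra
  letI : Algebra Γ(Y, UY) Γ(Z, p ⁻¹ᵁ UX ⊓ q ⁻¹ᵁ UY) :=
    (q.appLE UY (p ⁻¹ᵁ UX ⊓ q ⁻¹ᵁ UY) inf_le_right).hom.toAlgebra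
  have hcomp : (p ≫ a).appLE V (p ⁻¹ᵁ UX ⊓ q ⁻¹ᵁ UY) e' =
      a.appLE V UX eX ≫ p.appLE UX (p ⁻¹ᵁ UX ⊓ q ⁻¹ᵁ UY) inf_le_left := by
    rw [Scheme.Hom.appLE_comp_appLE]
  haveI : IsScalarTower Γ(S, V) Γ(X, UX) Γ(Z, p ⁻¹ᵁ UX ⊓ q ⁻¹ᵁ UY) := .of_algebraMap_eq' (by
    change ((p ≫ a).appLE V (p ⁻¹ᵁ UX ⊓ q ⁻¹ᵁ UY) e').hom =
      (p.appLE UX (p ⁻¹ᵁ UX ⊓ q ⁻¹ᵁ UY) inf_le_left).hom.comp (a.appLE V UX eX).hom
    rw [← CommRingCat.hom_comp, hcomp])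
  haveI : IsScalarTower Γ(S, V) Γ(Y, UY) Γ(Z, p ⁻¹ᵁ UX ⊓ q ⁻¹ᵁ UY) := .of_algebraMap_eq' (by
    change ((p ≫ a).appLE V (p ⁻¹ᵁ UX ⊓ q ⁻¹ᵁ UY) e').hom =
      (q.appLE UY (p ⁻¹ᵁ UX ⊓ q ⁻¹ᵁ UY) inf_le_right).hom.comp (b.appLE V UY eY).hom
    rw [← CommRingCat.hom_comp, hcomp, hpo.w])
  haveI : Algebra.IsPushout Γ(S, V) Γ(X, UX) Γ(Y, UY) Γ(Z, p ⁻¹ᵁ UX ⊓ q ⁻¹ᵁ UY) :=
    CommRingCat.isPushout_iff_isPushout.mp hpo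
  obtain ⟨κ₁, τ₁, ε₁, h11, h12, h13⟩ :=
    exists_chart_description p dX hX dZ hZu c₁ hc₁ hUX hV hW hV eX e' inf_le_left
  obtain ⟨κ₂, τ₂, ε₂, h21, h22, h23⟩ :=
    exists_chart_description q dY hY dZ hZu c₂ hc₂ hUY hV hW hV eY e' inf_le_right
  have hε : ε₁ = ε₂ := by
    apply LinearEquiv.toLinearMap_injective
    exact linearMap_ext_D _ _ fun s => by
      rw [LinearEquiv.coe_coe, LinearEquiv.coe_coe, h12, h22]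
  subst hε
  have hL₁ := lift_eq_mapBaseChange κ₁ h11
  have hL₂ := lift_eq_mapBaseChange κ₂ h21
  constructor
  · intro y₁ y₂ hy
    rw [h13, h23, ← map_add, LinearEquiv.map_eq_zero_iff, hL₁, hL₂] at hy
    obtain ⟨hx1, hx2⟩ := eq_zero_of_add_mapBaseChange_eq_zero _ _ hy
    exact ⟨(LinearEquiv.map_eq_zero_iff τ₁).mp hx1, (LinearEquiv.map_eq_zero_iff τ₂).mp hx2⟩
  · intro ω
    obtain ⟨x, y, hxy⟩ := exists_add_mapBaseChange_eq (A := Γ(S, V)) (B := Γ(X, UX))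
      (C := Γ(Y, UY)) (ε₁.symm ω)
    refine ⟨τ₁.symm x, τ₂.symm y, ?_⟩
    rw [h13, h23, LinearEquiv.apply_symm_apply, LinearEquiv.apply_symm_apply, ← map_add, hL₁, hL₂,
      hxy, LinearEquiv.apply_symm_apply]

end

section biprod

variable {Z : Scheme.{u}} {M N T : Z.Modules}

theorem biprod_decomp (W : Z.Opens) (z : Γ(M ⊞ N, W)) :
    z = (biprod.inl : M ⟶ M ⊞ N).app W ((biprod.fst : M ⊞ N ⟶ M).app W z) +
      (biprod.inr : N ⟶ M ⊞ N).app W ((biprod.snd : M ⊞ N ⟶ N).app W z) := by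
  have h := congrArg (fun χ => (Scheme.Modules.Hom.app χ W) z) (biprod.total (X := M) (Y := N))
  simp only [Scheme.Modules.Hom.id_app, Scheme.Modules.Hom.add_app] at h
  exact h.symm

theorem biprod_desc_inl (c₁ : M ⟶ T) (c₂ : N ⟶ T) (W : Z.Opens) (y : Γ(M, W)) :
    (biprod.desc c₁ c₂).app W ((biprod.inl : M ⟶ M ⊞ N).app W y) = c₁.app W y := by
  have h := congrArg (fun χ => (Scheme.Modules.Hom.app χ W) y) (biprod.inl_desc c₁ c₂)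
  exact h

theorem biprod_desc_inr (c₁ : M ⟶ T) (c₂ : N ⟶ T) (W : Z.Opens) (y : Γ(N, W)) :
    (biprod.desc c₁ c₂).app W ((biprod.inr : N ⟶ M ⊞ N).app W y) = c₂.app W y := by
  have h := congrArg (fun χ => (Scheme.Modules.Hom.app χ W) y) (biprod.inr_desc c₁ c₂)
  exact h

theorem bijective_biprod_desc (c₁ : M ⟶ T) (c₂ : N ⟶ T) (W : Z.Opens)
    (h1 : ∀ y₁ y₂, c₁.app W y₁ + c₂.app W y₂ = 0 → y₁ = 0 ∧ y₂ = 0)
    (h2 : ∀ ω : Γ(T, W), ∃ y₁ y₂, c₁.app W y₁ + c₂.app W y₂ = ω) :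
    Function.Bijective ((biprod.desc c₁ c₂).app W) := by
  constructor
  · rw [injective_iff_map_eq_zero]
    intro z hz
    rw [biprod_decomp W z, map_add, biprod_desc_inl, biprod_desc_inr] at hz
    obtain ⟨ha, hb⟩ := h1 _ _ hz
    rw [biprod_decomp W z, ha, hb, map_zero, map_zero, add_zero]
  · intro ω
    obtain ⟨y₁, y₂, hy⟩ := h2 ω
    refine ⟨(biprod.inl : M ⟶ M ⊞ N).app W y₁ + (biprod.inr : N ⟶ M ⊞ N).app W y₂, ?_⟩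
    rw [map_add, biprod_desc_inl, biprod_desc_inr, hy]

end biprod

/-- Let a : X ⟶ S and b : Y ⟶ S be morphisms and Z a fibre product of X and Y over S with projections p,
q and structure morphism h. Given sheaves of differentials (universal derivations) of X, Y and Z
over S and the canonical compatible maps c₁ : p^*Ω_X ⟶ Ω_Z and c₂ : q^*Ω_Y ⟶ Ω_Z, the induced map
from the coproduct p^*Ω_X ⨿ q^*Ω_Y to Ω_Z is an isomorphism. -/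
theorem result {X Y S Z : Scheme.{u}} (a : X ⟶ S) (b : Y ⟶ S)
    (p : Z ⟶ X) (q : Z ⟶ Y) (h : Z ⟶ S) (wp : p ≫ a = h) (wq : q ≫ b = h) (hZ : IsPullback p q a b)
    (ΩX : X.Modules) (dX : OmegaSh.Der a ΩX) (hX : OmegaSh.IsUniversal dX)
    (ΩY : Y.Modules) (dY : OmegaSh.Der b ΩY) (hY : OmegaSh.IsUniversal dY)
    (ΩZ : Z.Modules) (dZ : OmegaSh.Der h ΩZ) (hZu : OmegaSh.IsUniversal dZ)
    (c₁ : (Scheme.Modules.pullback p).obj ΩX ⟶ ΩZ) (hc₁ : OmegaSh.IsDiffCompat p dX dZ c₁)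
    (c₂ : (Scheme.Modules.pullback q).obj ΩY ⟶ ΩZ) (hc₂ : OmegaSh.IsDiffCompat q dY dZ c₂) :
    IsIso (coprod.desc c₁ c₂) := by
  subst wp
  haveI : ΩX.IsQuasicoherent := isQuasicoherent_of_isUniversal a dX hX
  haveI : ΩY.IsQuasicoherent := isQuasicoherent_of_isUniversal b dY hY
  haveI : ΩZ.IsQuasicoherent := isQuasicoherent_of_isUniversal (p ≫ a) dZ hZu
  haveI : ((Scheme.Modules.pullback p).obj ΩX ⊞ (Scheme.Modules.pullback q).obj ΩY).IsQuasicoherent :=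
    Groth.Agent.Lib.QCohBiprod.isQuasicoherent_biprod _ _
  have hiso : IsIso (biprod.desc c₁ c₂) := by
    let ι : Type u := {t : S.affineOpens × X.affineOpens × Y.affineOpens //
      t.2.1.1 ≤ a ⁻¹ᵁ t.1.1 ∧ t.2.2.1 ≤ b ⁻¹ᵁ t.1.1}
    refine Groth.Agent.Lib.H90OXModAffineIso.isIso_of_bijective_app_affine_cover (biprod.desc c₁ c₂)
      (fun i : ι => p ⁻¹ᵁ i.1.2.1.1 ⊓ q ⁻¹ᵁ i.1.2.2.1) ?_
      (fun i => isAffineOpen_pullbackChart a b p q hZ i.1.1.2 i.1.2.2.2 i.1.2.1.2 i.2.2 i.2.1)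
      (fun i => ?_)
    · rw [eq_top_iff]
      intro x _
      obtain ⟨_, ⟨V, hV, rfl⟩, hxV, -⟩ :=
        S.isBasis_affineOpens.exists_subset_of_mem_open (Set.mem_univ (a (p x))) isOpen_univ
      have hw : b (q x) = a (p x) := by
        rw [← Scheme.Hom.comp_apply, ← Scheme.Hom.comp_apply, hZ.w]
      obtain ⟨_, ⟨UY, hUY, rfl⟩, hxUY, hUYV⟩ :=
        Y.isBasis_affineOpens.exists_subset_of_mem_open (show q x ∈ b ⁻¹ᵁ V from by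
          change b (q x) ∈ V
          rw [hw]
          exact hxV) (b ⁻¹ᵁ V).isOpen
      obtain ⟨_, ⟨UX, hUX, rfl⟩, hxUX, hUXV⟩ :=
        X.isBasis_affineOpens.exists_subset_of_mem_open (show p x ∈ a ⁻¹ᵁ V from hxV)
          (a ⁻¹ᵁ V).isOpen
      exact TopologicalSpace.Opens.mem_iSup.mpr
        ⟨⟨⟨⟨V, hV⟩, ⟨UX, hUX⟩, ⟨UY, hUY⟩⟩, hUXV, hUYV⟩, hxUX, hxUY⟩
    · obtain ⟨h1, h2⟩ := chart_sum a b p q hZ dX hX dY hY dZ hZu c₁ hc₁ c₂ hc₂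
        i.1.1.2 i.1.2.1.2 i.1.2.2.2 i.2.1 i.2.2
      exact bijective_biprod_desc c₁ c₂ _ h1 h2
  have hfac : coprod.desc c₁ c₂ = (biprod.isoCoprod _ _).inv ≫ biprod.desc c₁ c₂ := by
    apply coprod.hom_ext
    · rw [coprod.inl_desc, biprod.isoCoprod_inv, coprod.inl_desc_assoc, biprod.inl_desc]
    · rw [coprod.inr_desc, biprod.isoCoprod_inv, coprod.inr_desc_assoc, biprod.inr_desc]
  rw [hfac]
  infer_instance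

end Groth.Agent.S5023
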