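import Groth.Statements.S5027
import Mathlib
import Groth.Agent.Lib.H93SmoothCrit
import Groth.Agent.Lib.MacLane4H44
import Groth.Agent.S9448
import Groth.Agent.S5026

set_option autoImplicit false
universe u
open Unram17

namespace Groth.Agent.S5027

section Helpers

namespace K1
open KaehlerDifferential TensorProduct IsLocalRing Groth.Agent.S5026

variable {k R : Type u} [Field k] [CommRing R] [Algebra k R] [IsLocalRing R]

lemma tm_sum {ι : Type*} (u : Finset ι) (b x : ι → R) (hx : ∀ i ∈ u, x i ∈ maximalIdeal R) :
    G1.tm (k := k) (∑ i ∈ u, b i * x i) = ∑ i ∈ u, residue R (b i) • G1.tm (k := k) (x i) := by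
  classical
  induction u using Finset.induction_on with
  | empty => simp [G1.tm_zero]
  | insert j u hj ih =>
    rw [Finset.sum_insert hj, Finset.sum_insert hj, G1.tm_add,
      ih (fun i hi => hx i (Finset.mem_insert_of_mem hi)), G1.tm_mul,
      (residue_eq_zero_iff (x j)).mpr (hx j (Finset.mem_insert_self j u)), zero_smul, add_zero]

/-- If generators of `𝔪` have independent differentials modulo `𝔪`, then
`𝔪/𝔪² → κ ⊗ Ω[R/k]` is injective. -/
lemma injective_of_linearIndependent {ι : Type*} [Fintype ι] (gen : ι → R)
    (hgen : Ideal.span (Set.range gen) = maximalIdeal R)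
    (hli : LinearIndependent (ResidueField R) (fun i => G1.tm (k := k) (gen i))) :
    Function.Injective (kerCotangentToTensor k R (ResidueField R)) := by
  classical
  rw [injective_iff_map_eq_zero]
  intro z hz
  obtain ⟨y, rfl⟩ := Ideal.toCotangent_surjective _ z
  rw [kerCotangentToTensor_toCotangent] at hz
  have hker : RingHom.ker (algebraMap R (ResidueField R)) = maximalIdeal R :=
    IsLocalRing.ker_residue (R := R)
  have hgenm : ∀ i, gen i ∈ maximalIdeal R := fun i => by
    rw [← hgen]; exact Ideal.subset_span ⟨i, rfl⟩
  have hy : (y : R) ∈ Ideal.span (Set.range gen) := by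
    rw [hgen, ← hker]; exact y.2
  obtain ⟨b, hb⟩ := (Ideal.mem_span_range_iff_exists_fun).mp hy
  have h1 : G1.tm (k := k) (y : R) = ∑ i, residue R (b i) • G1.tm (k := k) (gen i) := by
    rw [← hb]
    exact tm_sum Finset.univ b gen (fun i _ => hgenm i)
  have h2 : ∀ i, residue R (b i) = 0 := by
    have h3 : ∑ i, residue R (b i) • G1.tm (k := k) (gen i) = 0 := by
      rw [← h1]; exact hz
    exact Fintype.linearIndependent_iff.mp hli _ h3
  rw [Ideal.toCotangent_eq_zero, ← hb, pow_two]
  refine Ideal.sum_mem _ (fun i _ => ?_)
  refine Ideal.mul_mem_mul ?_ ?_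
  · rw [hker]; exact (residue_eq_zero_iff (b i)).mp (h2 i)
  · rw [hker]; exact hgenm i

/-- Formal smoothness of the residue field from injectivity of the conormal map. -/
lemma formallySmooth_residueField [Algebra.FormallySmooth k R]
    (hinj : Function.Injective (kerCotangentToTensor k R (ResidueField R))) :
    Algebra.FormallySmooth k (ResidueField R) := by
  rw [Algebra.formallySmooth_iff]
  exact ⟨inferInstance, (Algebra.FormallySmooth.kerCotangentToTensor_injective_iff
    IsLocalRing.residue_surjective).mp hinj⟩

/-- Transport: an element of `J = ker (R → κ)` with `tm = 0` dies in `J.Cotangent`, when the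
conormal map is injective. -/
lemma toCotangent_eq_zero_of_tm_eq_zero
    (hinj : Function.Injective (kerCotangentToTensor k R (ResidueField R)))
    (J : Ideal R) (hJ : J = RingHom.ker (algebraMap R (ResidueField R))) (y : J)
    (hy : G1.tm (k := k) (y : R) = 0) : J.toCotangent y = 0 := by
  subst hJ
  apply hinj
  rw [map_zero, kerCotangentToTensor_toCotangent]
  exact hy

/-- If the conormal map is injective, elements of `𝔪` independent in the cotangent space have
independent `tm`. -/
lemma linearIndependent_tm [IsNoetherianRing R] {ι : Type*} [Fintype ι]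
    (hinj : Function.Injective (kerCotangentToTensor k R (ResidueField R)))
    (gen : ι → maximalIdeal R)
    (hli : LinearIndependent (ResidueField R) (fun i => (maximalIdeal R).toCotangent (gen i))) :
    LinearIndependent (ResidueField R) (fun i => G1.tm (k := k) (gen i : R)) := by
  classical
  rw [Fintype.linearIndependent_iff]
  intro a ha
  choose b hb using fun i => IsLocalRing.residue_surjective (a i)
  have hJ : maximalIdeal R = RingHom.ker (algebraMap R (ResidueField R)) :=
    (IsLocalRing.ker_residue (R := R)).symm
  have h1 : G1.tm (k := k) ((∑ i, b i • gen i : maximalIdeal R) : R) = 0 := by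
    have : ((∑ i, b i • gen i : maximalIdeal R) : R) = ∑ i, b i * (gen i : R) := by simp
    rw [this, tm_sum Finset.univ b (fun i => (gen i : R)) (fun i _ => (gen i).2), ← ha]
    refine Finset.sum_congr rfl (fun i _ => ?_)
    rw [hb]
  have h2 := toCotangent_eq_zero_of_tm_eq_zero hinj (maximalIdeal R) hJ _ h1
  rw [map_sum] at h2
  have h3 : ∑ i, a i • (maximalIdeal R).toCotangent (gen i) = 0 := by
    rw [← h2]
    refine Finset.sum_congr rfl (fun i _ => ?_)
    rw [map_smul, ← hb i]
    rfl
  exact Fintype.linearIndependent_iff.mp hli a h3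

/-- The `tm y` span `κ ⊗ Ω[R/k]`. -/
lemma span_range_tm :
    Submodule.span (ResidueField R) (Set.range (G1.tm (k := k) (R := R))) = ⊤ := by
  rw [eq_top_iff]
  rintro t -
  induction t using TensorProduct.induction_on with
  | zero => exact zero_mem _
  | add a b ha hb => exact add_mem ha hb
  | tmul c ω =>
    have hω : ω ∈ Submodule.span R (Set.range (D k R)) := by
      rw [KaehlerDifferential.span_range_derivation]; trivial
    refine Submodule.span_induction ?_ ?_ ?_ ?_ hω
    · rintro _ ⟨y, rfl⟩
      have : c ⊗ₜ[R] D k R y = c • G1.tm (k := k) y := by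
        rw [G1.tm, TensorProduct.smul_tmul', smul_eq_mul, mul_one]
      rw [this]
      exact Submodule.smul_mem _ _ (Submodule.subset_span ⟨y, rfl⟩)
    · rw [tmul_zero]; exact zero_mem _
    · intro a b _ _ ha hb
      rw [tmul_add]; exact add_mem ha hb
    · intro a b _ hb
      rw [tmul_smul, ← algebraMap_smul (ResidueField R) a]
      exact Submodule.smul_mem _ _ hb

/-- Extend an independent family of `tm`'s to a spanning family using further `tm`'s. -/
lemma exists_extension {r n : ℕ} (gen : Fin r → R)
    (hli : LinearIndependent (ResidueField R) (fun i => G1.tm (k := k) (gen i)))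
    [Module.Finite (ResidueField R) (ResidueField R ⊗[R] Ω[R⁄k])]
    (hV : Module.finrank (ResidueField R) (ResidueField R ⊗[R] Ω[R⁄k]) = n) :
    ∃ y : Fin (n - r) → R,
      Submodule.span (ResidueField R) (Set.range (fun i => G1.tm (k := k) (gen i)) ∪
        Set.range (fun j => G1.tm (k := k) (y j))) = ⊤ := by
  classical
  set W₀ := Submodule.span (ResidueField R) (Set.range (fun i => G1.tm (k := k) (gen i))) with hW₀
  have hW₀r : Module.finrank (ResidueField R) W₀ = r := by
    rw [hW₀, finrank_span_eq_card hli, Fintype.card_fin]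
  have hQ : Module.finrank (ResidueField R) ((ResidueField R ⊗[R] Ω[R⁄k]) ⧸ W₀) = n - r := by
    rw [Submodule.finrank_quotient, hV, hW₀r]
  set S := W₀.mkQ '' (Set.range (G1.tm (k := k) (R := R))) with hS
  have hSspan : Submodule.span (ResidueField R) S = ⊤ := by
    rw [hS, ← Submodule.map_span, span_range_tm, Submodule.map_top, Submodule.range_mkQ]
  obtain ⟨f, hf, hspan, -⟩ := Submodule.exists_fun_fin_finrank_span_eq (ResidueField R) S
  have hd : Module.finrank (ResidueField R) (Submodule.span (ResidueField R) S) = n - r := by
    rw [hSspan, finrank_top, hQ]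
  have hf' : ∀ i, ∃ z : R, W₀.mkQ (G1.tm (k := k) z) = f i := by
    intro i
    obtain ⟨_, ⟨z, rfl⟩, hz⟩ := hf i
    exact ⟨z, hz⟩
  choose y' hy' using hf'
  refine ⟨fun j => y' (Fin.cast hd.symm j), ?_⟩
  rw [Submodule.span_union, ← hW₀, ← Submodule.map_mkQ_eq_top, Submodule.map_span, ← Set.range_comp]
  refine eq_top_iff.mpr ?_
  have h1 : (⊤ : Submodule (ResidueField R) ((ResidueField R ⊗[R] Ω[R⁄k]) ⧸ W₀)) =
      Submodule.span (ResidueField R) (Set.range f) := by rw [hspan, hSspan]
  rw [h1]
  refine Submodule.span_mono ?_
  rintro _ ⟨i, rfl⟩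
  refine ⟨Fin.cast hd i, ?_⟩
  simp only [Function.comp_apply]
  rw [hy']
  congr 1

end K1

namespace K2
open MvPolynomial KaehlerDifferential TensorProduct IsLocalRing Groth.Agent.Lib.H93SmoothCrit
  Groth.Agent.S5026

variable (k A : Type u) [Field k] [CommRing A] [Algebra k A] [Algebra.FiniteType k A]
  (n r : ℕ) (p : Ideal A) [p.IsPrime]

theorem backward
    (hn : FlatMor.localDim (PrimeSpectrum A) ⟨p, inferInstance⟩ = (n : WithBot ℕ∞))
    (g : Fin n → Localization.AtPrime p)
    (hG1 : Ideal.span (g '' {i : Fin n | (i : ℕ) < r}) =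
      IsLocalRing.maximalIdeal (Localization.AtPrime p))
    (hG2 : Submodule.span p.ResidueField ((fun i : Fin n =>
      KaehlerDifferential.D k p.ResidueField (IsLocalRing.residue (Localization.AtPrime p) (g i))) ''
        {i : Fin n | r ≤ (i : ℕ)}) = ⊤) :
    IsRegularLocalRing (Localization.AtPrime p) ∧ Algebra.IsGeometricallyReduced k p.ResidueField := by
  classical
  haveI : Algebra.FinitePresentation k A :=
    Algebra.FinitePresentation.of_finiteType.mp inferInstance
  haveI : Algebra.EssFiniteType k (Localization.AtPrime p) :=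
    Algebra.EssFiniteType.comp k A (Localization.AtPrime p)
  set s : Set (Fin n) := {i : Fin n | (i : ℕ) < r} with hs
  have hsc : {i : Fin n | r ≤ (i : ℕ)} = sᶜ := by
    ext i; simp [hs, not_lt]
  have hxs : ∀ i ∈ s, g i ∈ maximalIdeal (Localization.AtPrime p) := by
    intro i hi
    rw [← hG1]
    exact Ideal.subset_span ⟨i, hi, rfl⟩
  rw [hsc] at hG2
  have hspan := G1.backward (k := k) g s hxs hG1 hG2
  have hSP := (G1.nakayama (k := k) g).mpr hspan
  obtain ⟨g₀, hg₀, hstd⟩ := F3.CL k A p n hn (fun i => D k (Localization.AtPrime p) (g i)) hSP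
  obtain ⟨hsm, hfree, hfin, hrank⟩ := F4.free_of_away k A p n g₀ hg₀
  haveI := hsm
  have hrank' : Module.finrank p.ResidueField
      (p.ResidueField ⊗[Localization.AtPrime p] Ω[Localization.AtPrime p⁄k]) = n := by
    rw [Module.finrank_baseChange, hrank]
  have hli : LinearIndependent p.ResidueField (fun i => G1.tm (k := k) (g i)) :=
    linearIndependent_of_top_le_span_of_card_eq_finrank hspan.ge
      (by rw [Fintype.card_fin]; exact hrank'.symm)
  refine ⟨Groth.Agent.Lib.H56RegSmooth.isRegularLocalRing_of_isSmoothAt p hsm, ?_⟩
  -- residue field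
  have hinj := K1.injective_of_linearIndependent (k := k) (fun i : s => g i)
    (by
      rw [← hG1]
      congr 1
      ext y
      constructor
      · rintro ⟨i, rfl⟩; exact ⟨i, i.2, rfl⟩
      · rintro ⟨i, hi, rfl⟩; exact ⟨⟨i, hi⟩, rfl⟩)
    (hli.comp (fun i : s => (i : Fin n)) Subtype.val_injective)
  haveI := K1.formallySmooth_residueField (k := k) hinj
  exact (Groth.Agent.Lib.MacLane4H44.formallySmooth_iff_isGeometricallyReduced k
    p.ResidueField).mp inferInstance

theorem forward
    (hn : FlatMor.localDim (PrimeSpectrum A) ⟨p, inferInstance⟩ = (n : WithBot ℕ∞))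
    (hr : ringKrullDim (Localization.AtPrime p) = (r : WithBot ℕ∞))
    [hreg : IsRegularLocalRing (Localization.AtPrime p)]
    [hgr : Algebra.IsGeometricallyReduced k p.ResidueField] :
    ∃ g : Fin n → Localization.AtPrime p,
      Ideal.span (g '' {i : Fin n | (i : ℕ) < r}) =
          IsLocalRing.maximalIdeal (Localization.AtPrime p) ∧
        Submodule.span p.ResidueField ((fun i : Fin n =>
          KaehlerDifferential.D k p.ResidueField
            (IsLocalRing.residue (Localization.AtPrime p) (g i))) ''
            {i : Fin n | r ≤ (i : ℕ)}) = ⊤ := by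
  classical
  haveI : Algebra.FinitePresentation k A :=
    Algebra.FinitePresentation.of_finiteType.mp inferInstance
  haveI : Algebra.EssFiniteType k (Localization.AtPrime p) :=
    Algebra.EssFiniteType.comp k A (Localization.AtPrime p)
  haveI hκ : Algebra.FormallySmooth k p.ResidueField :=
    (Groth.Agent.Lib.MacLane4H44.formallySmooth_iff_isGeometricallyReduced k
      p.ResidueField).mpr hgr
  haveI hsmAt : Algebra.IsSmoothAt k p :=
    Groth.Agent.Lib.H56RegSmooth.isSmoothAt_of_isRegularLocalRing k A p
  -- standard smooth neighbourhood of relative dimension `n`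
  obtain ⟨g₀, hg₀, hstd⟩ := Algebra.IsSmoothAt.exists_notMem_isStandardSmooth (R := k) p
  obtain ⟨ι, σ, _, _, ⟨P⟩⟩ := hstd
  haveI hstd' : Algebra.IsStandardSmoothOfRelativeDimension P.dimension k (Localization.Away g₀) :=
    P.isStandardSmoothOfRelativeDimension rfl
  have hdim : P.dimension = n := by
    have h1 := Groth.Agent.S9448.F6.localDim_of_away_isStandardSmooth k A ⟨p, inferInstance⟩ g₀ hg₀
      P.dimension
    rw [hn] at h1
    exact_mod_cast h1.symm
  rw [hdim] at hstd'
  obtain ⟨hsm, hfree, hfin, hrank⟩ := F4.free_of_away k A p n g₀ hg₀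
  haveI := hsm
  have hrank' : Module.finrank p.ResidueField
      (p.ResidueField ⊗[Localization.AtPrime p] Ω[Localization.AtPrime p⁄k]) = n := by
    rw [Module.finrank_baseChange, hrank]
  -- injectivity of the conormal map
  have hinj : Function.Injective (kerCotangentToTensor k (Localization.AtPrime p) p.ResidueField) :=
    (Algebra.FormallySmooth.kerCotangentToTensor_injective_iff
      IsLocalRing.residue_surjective).mpr ((Algebra.formallySmooth_iff k p.ResidueField).mp hκ).2
  -- minimal generators of the maximal ideal
  have hcot : Module.finrank p.ResidueField (CotangentSpace (Localization.AtPrime p)) = r := by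
    have h1 := (IsRegularLocalRing.iff_finrank_cotangentSpace
      (R := Localization.AtPrime p)).mp hreg
    rw [hr] at h1
    exact_mod_cast h1
  have hTspan : Submodule.span p.ResidueField
      (Set.range (maximalIdeal (Localization.AtPrime p)).toCotangent) = ⊤ := by
    rw [Set.range_eq_univ.mpr (Ideal.toCotangent_surjective _), Submodule.span_univ]
  obtain ⟨f, hf, hfspan, hfli⟩ := Submodule.exists_fun_fin_finrank_span_eq p.ResidueField
    (Set.range (maximalIdeal (Localization.AtPrime p)).toCotangent)
  have hd : Module.finrank p.ResidueField (Submodule.span p.ResidueField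
      (Set.range (maximalIdeal (Localization.AtPrime p)).toCotangent)) = r := by
    rw [hTspan, finrank_top, hcot]
  choose gen' hgen' using hf
  let gen : Fin r → maximalIdeal (Localization.AtPrime p) := fun i => gen' (Fin.cast hd.symm i)
  have hgenli : LinearIndependent p.ResidueField
      (fun i => (maximalIdeal (Localization.AtPrime p)).toCotangent (gen i)) := by
    have h1 : (fun i => (maximalIdeal (Localization.AtPrime p)).toCotangent (gen i)) =
        f ∘ (Fin.cast hd.symm) := by
      funext i
      exact hgen' _
    rw [h1]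
    exact hfli.comp _ (Fin.cast_injective _)
  have hgenspan : Ideal.span (Set.range fun i => (gen i : Localization.AtPrime p)) =
      maximalIdeal (Localization.AtPrime p) := by
    have h1 : Submodule.span p.ResidueField
        ((maximalIdeal (Localization.AtPrime p)).toCotangent '' Set.range gen) = ⊤ := by
      rw [← Set.range_comp]
      exact hgenli.span_eq_top_of_card_eq_finrank' (by rw [Fintype.card_fin, hcot])
    rw [CotangentSpace.span_image_eq_top_iff] at h1
    have h5 := congrArg (Submodule.map (maximalIdeal (Localization.AtPrime p)).subtype) h1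
    rw [Submodule.map_span, Submodule.map_top, Submodule.range_subtype, ← Set.range_comp] at h5
    exact h5
  have htmli := K1.linearIndependent_tm (k := k) hinj gen hgenli
  have hrn : r ≤ n := by
    have := htmli.fintype_card_le_finrank
    rwa [Fintype.card_fin, hrank'] at this
  obtain ⟨y, hy⟩ := K1.exists_extension (k := k) (fun i => (gen i : Localization.AtPrime p)) htmli
    hrank'
  -- assemble
  let g : Fin n → Localization.AtPrime p := fun i =>
    if h : (i : ℕ) < r then (gen ⟨i, h⟩ : Localization.AtPrime p) else y ⟨i - r, by omega⟩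
  set s : Set (Fin n) := {i : Fin n | (i : ℕ) < r} with hs
  have hsc : {i : Fin n | r ≤ (i : ℕ)} = sᶜ := by
    ext i; simp [hs, not_lt]
  have hxs : ∀ i ∈ s, g i ∈ maximalIdeal (Localization.AtPrime p) := by
    intro i hi
    have hi' : (i : ℕ) < r := hi
    simp only [g, dif_pos hi']
    exact (gen _).2
  have himg : g '' s = Set.range fun i => (gen i : Localization.AtPrime p) := by
    ext z
    constructor
    · rintro ⟨i, hi, rfl⟩
      have hi' : (i : ℕ) < r := hi
      exact ⟨⟨i, hi'⟩, by simp only [g, dif_pos hi']⟩
    · rintro ⟨j, rfl⟩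
      refine ⟨⟨j, by omega⟩, j.2, ?_⟩
      have hj : ((⟨j, by omega⟩ : Fin n) : ℕ) < r := j.2
      simp only [g, dif_pos hj]
  have hrange : Submodule.span p.ResidueField (Set.range fun i => G1.tm (k := k) (g i)) = ⊤ := by
    rw [eq_top_iff, ← hy]
    refine Submodule.span_mono ?_
    rintro _ (⟨j, rfl⟩ | ⟨j, rfl⟩)
    · refine ⟨⟨j, by omega⟩, ?_⟩
      have hj : ((⟨j, by omega⟩ : Fin n) : ℕ) < r := j.2
      simp only [g, dif_pos hj]
    · refine ⟨⟨r + j, by omega⟩, ?_⟩
      have hj : ¬ ((⟨r + j, by omega⟩ : Fin n) : ℕ) < r := by simp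
      simp only [g, dif_neg hj]
      congr 2
      ext
      simp
  refine ⟨g, ?_, ?_⟩
  · rw [himg, hgenspan]
  · rw [hsc]
    exact G1.forward_G2 (k := k) g s hxs hrange

end K2

end Helpers

/-- Let A be an algebra of finite type over a field k, p a prime of A such that Spec A has local
dimension n at p, and r the Krull dimension of the local ring A_p. Then A_p is regular and the
residue field κ(p) is a separable extension of k (geometrically reduced over k) if and only if there
exist n elements of the local ring A_p (germs at p in place of sections over an open neighbourhood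
of p, which is equivalent) of which those with index < r generate the maximal ideal and the residue
classes of the remaining ones have differentials generating the module of differentials of κ(p) over
k. -/
theorem result (k A : Type u) [Field k]
    [CommRing A] [Algebra k A] [Algebra.FiniteType k A] (n r : ℕ) (p : Ideal A) [p.IsPrime]
    (hn : FlatMor.localDim (PrimeSpectrum A) ⟨p, inferInstance⟩ = (n : WithBot ℕ∞))
    (hr : ringKrullDim (Localization.AtPrime p) = (r : WithBot ℕ∞)) :
    (IsRegularLocalRing (Localization.AtPrime p) ∧ Algebra.IsGeometricallyReduced k p.ResidueField) ↔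
      ∃ g : Fin n → Localization.AtPrime p,
        Ideal.span (g '' {i : Fin n | (i : ℕ) < r}) = IsLocalRing.maximalIdeal (Localization.AtPrime p) ∧
          Submodule.span p.ResidueField ((fun i : Fin n =>
            KaehlerDifferential.D k p.ResidueField (IsLocalRing.residue (Localization.AtPrime p) (g i))) ''
              {i : Fin n | r ≤ (i : ℕ)}) = ⊤ := by
  exact ⟨fun ⟨h1, h2⟩ => K2.forward k A n r p hn hr, fun ⟨g, h1, h2⟩ => K2.backward k A n r p hn g h1 h2⟩

end Groth.Agent.S5027
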