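import Groth.Statements.S5029
import Groth.Agent.Lib.SymQCAlgUniq
import Groth.Agent.Lib.RelSpecLocal
import Groth.Agent.Lib.SymSmooth
import Groth.Agent.Lib.SemilocalFree
import Mathlib.RingTheory.RingHom.Smooth

set_option autoImplicit false
universe u
open CategoryTheory CategoryTheory.Limits AlgebraicGeometry TopologicalSpace
open Unram17

namespace Groth.Agent.S5029

/-- Let S be a scheme and E a quasi-coherent O_S-module that is finite locally free. If A is a
quasi-coherent O_S-algebra which is the symmetric algebra of E (through j : E ⟶ A), then the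
structure morphism of the relative spectrum of A, i.e. of the vector bundle V(E), is smooth. -/
theorem result {S : Scheme.{u}} (E : S.Modules) (hE : Coh.IsQCoh E)
    (hlf : FlatMod.IsFinLocFree E) (A : RelSpec.QCAlg S) (j : E ⟶ A.toModule) (hA : RelSpec.IsSymAlg E A j) :
    Smooth A.π := by
  haveI : E.IsQuasicoherent := hE
  haveI : SheafOfModules.IsFinitePresentation (R := S.ringCatSheaf) E :=
    Groth.Agent.Lib.H90Invertible.isFinitePresentation_of_isFinLocFree hlf
  refine Groth.Agent.Lib.RelSpecLocal.π_of_forall (P := @Smooth)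
    (fun f _ => inferInstance) A fun U hU => ?_
  rw [HasRingHomProperty.Spec_iff (P := @Smooth)]
  obtain ⟨e, he, -⟩ := Groth.Agent.Lib.SymQCAlg.exists_ringEquiv E A j hA U hU
  haveI hfp : Module.FinitePresentation Γ(S, U) Γ(E, U) :=
    Groth.Agent.Lib.H90OXModFP.finitePresentation_sections E hU
  haveI hflat : Module.Flat Γ(S, U) Γ(E, U) :=
    Groth.Agent.Lib.QCohFlat.flat_sections_of_flat_stalks E hU fun x => by
      have := Groth.Agent.Lib.LocFreeFP.free_stalk_of_isFinLocFree hlf x.1
      infer_instance
  haveI : Module.Projective Γ(S, U) Γ(E, U) := Module.Flat.projective_of_finitePresentation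
  haveI : Module.Finite Γ(S, U) Γ(E, U) := inferInstance
  have h1 : (algebraMap Γ(S, U) (SymmetricAlgebra Γ(S, U) Γ(E, U))).Smooth :=
    RingHom.smooth_algebraMap.mpr (Groth.Agent.Lib.SymSmooth.smooth_symmetricAlgebra _ _)
  have h2 : (e.symm.toRingHom).Smooth := RingHom.Smooth.of_bijective e.symm.bijective
  have h3 : (A.str.app (Opposite.op U)).hom =
      e.symm.toRingHom.comp (algebraMap Γ(S, U) (SymmetricAlgebra Γ(S, U) Γ(E, U))) := by
    ext a
    change (A.str.app (Opposite.op U)).hom a = e.symm (algebraMap _ _ a)
    rw [← he a, e.symm_apply_apply]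
  rw [h3]
  exact h1.comp h2

end Groth.Agent.S5029
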