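import Groth.Statements.S5035
import Groth.Agent.Lib.HenselOfQF22
import Groth.Agent.Lib.HenselQFLocalization61

set_option autoImplicit false
universe u
open Hensel

namespace Groth.Agent.S5035

/-- a) iff c') (affine form): a local ring R is henselian if and only if, for every R-algebra S of
finite type and every prime q of S lying over the maximal ideal of R such that S is quasi-finite
over R at q, the local ring S_q is a finitely generated R-module. -/
theorem result (R : Type u) [CommRing R] [IsLocalRing R] :
    HenselianLocalRing R ↔
      ∀ (S : Type u) [CommRing S] [Algebra R S] [Algebra.FiniteType R S] (q : Ideal S) [q.IsPrime],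
        q.LiesOver (IsLocalRing.maximalIdeal R) → Algebra.QuasiFiniteAt R q →
          Module.Finite R (Localization.AtPrime q) := by
  constructor
  · intro hR S _ _ _ q _ hlies hqf
    exact Groth.Agent.Lib.HenselQFLocalization61.finite_localization_atPrime_of_quasiFiniteAt R S q
  · intro H
    refine { toIsLocalRing := inferInstance, is_henselian := ?_ }
    intro f hf a₀ h₁ h₂
    have hfinS : Module.Finite R (AdjoinRoot f) := hf.finite_adjoinRoot
    refine Groth.Agent.Lib.HenselOfQF22.exists_root_of_finite f hf a₀ h₁ h₂ ?_
    intro q _ hlies
    exact H (AdjoinRoot f) q hlies inferInstance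

end Groth.Agent.S5035
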