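import Groth.Statements.S5036
import Groth.Agent.Lib.ZMTFin
import Groth.Agent.Lib.HenselFin
import Mathlib.AlgebraicGeometry.Morphisms.FlatRank
import Mathlib.AlgebraicGeometry.Morphisms.FlatMono

set_option autoImplicit false
open CategoryTheory CategoryTheory.Limits AlgebraicGeometry
universe u
open Hensel

namespace Groth.Agent.S5036

section helpers
open AlgebraicGeometry CategoryTheory Limits

variable {S S₀ : Scheme.{u}} (i : S₀ ⟶ S)

/-- hypothesis a) -/
def HypA : Prop :=
  ∀ (S' : Scheme.{u}) (g : S' ⟶ S), IsFinite g →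
      ∀ V : Set ↥(pullback g i), IsClopen V →
        ∃! U : Set ↥S', IsClopen U ∧ (pullback.fst g i).base ⁻¹' U = V

variable {i}

theorem isEmpty_of_finite (ha : HypA i) {T : Scheme.{u}} (h : T ⟶ S) [IsFinite h]
    (hT : IsEmpty ↥(pullback h i)) : IsEmpty T := by
  obtain ⟨U, hU, huniq⟩ := ha T h inferInstance ∅ isClopen_empty
  have h1 := huniq ∅ ⟨isClopen_empty, by simp⟩
  have h2 := huniq Set.univ ⟨isClopen_univ, Set.eq_empty_of_isEmpty _⟩
  have : (Set.univ : Set T) = ∅ := h2.trans h1.symm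
  exact Set.univ_eq_empty_iff.mp this

theorem eq_empty_of_isClosed (ha : HypA i) (Z : Set S) (hZ : IsClosed Z)
    (hdisj : ∀ s₀ : S₀, i s₀ ∉ Z) : Z = ∅ := by
  let I := Scheme.IdealSheafData.vanishingIdeal ⟨Z, hZ⟩
  have hr : Set.range I.subschemeι = Z := by
    rw [I.range_subschemeι]
    simp [I]
  have hE : IsEmpty ↥(pullback I.subschemeι i) := by
    constructor
    intro z
    apply hdisj (pullback.snd I.subschemeι i z)
    rw [← hr]
    refine ⟨pullback.fst I.subschemeι i z, ?_⟩
    rw [← Scheme.Hom.comp_apply, pullback.condition]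
    rfl
  have := isEmpty_of_finite ha I.subschemeι hE
  rw [← hr]
  exact Set.range_eq_empty _

theorem eq_empty_of_isClosed_of_finite (ha : HypA i) {T : Scheme.{u}} (h : T ⟶ S) [IsFinite h]
    (C : Set T) (hC : IsClosed C) (hdisj : ∀ z : ↥(pullback h i), pullback.fst h i z ∉ C) :
    C = ∅ := by
  have h1 : h '' C = ∅ := by
    refine eq_empty_of_isClosed ha _ (h.isClosedMap _ hC) ?_
    rintro s₀ ⟨c, hc, hcs⟩
    obtain ⟨z, hz1, hz2⟩ := Scheme.Pullback.exists_preimage_pullback c s₀ hcs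
    exact hdisj z (hz1 ▸ hc)
  exact Set.image_eq_empty.mp h1


/-- A section of an étale morphism is an open immersion. -/
theorem isOpenImmersion_of_section {X Y : Scheme.{u}} (g : X ⟶ Y) [Etale g] (u : Y ⟶ X)
    (hu : u ≫ g = 𝟙 Y) : IsOpenImmersion u := by
  have h1 : Etale (u ≫ g) := by rw [hu]; infer_instance
  have h2 : Etale u := Etale.of_comp u g
  have h3 : Mono u := mono_of_mono_fac hu
  exact IsOpenImmersion.of_flat_of_mono u

/-- A section of a separated morphism is a closed immersion. -/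
theorem isClosedImmersion_of_section {X Y : Scheme.{u}} (g : X ⟶ Y) [IsSeparated g] (u : Y ⟶ X)
    (hu : u ≫ g = 𝟙 Y) : IsClosedImmersion u := by
  have h1 : IsClosedImmersion (u ≫ g) := by rw [hu]; infer_instance
  exact IsClosedImmersion.of_comp u g

theorem section_unique (ha : HypA i) {S' : Scheme.{u}} (g : S' ⟶ S) [Etale g] [IsSeparated g]
    (u u' : S ⟶ S') (hu : u ≫ g = 𝟙 S) (hu' : u' ≫ g = 𝟙 S) (h : i ≫ u = i ≫ u') : u = u' := by
  have ho := isOpenImmersion_of_section g u' hu'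
  have hc := isClosedImmersion_of_section g u' hu'
  have hsub : Set.range u ⊆ Set.range u' := by
    have hW : (u ⁻¹' (Set.range u'))ᶜ = ∅ := by
      refine eq_empty_of_isClosed ha _ ?_ ?_
      · exact (u'.isOpenEmbedding.isOpen_range.preimage u.continuous).isClosed_compl
      · intro s₀ hs
        apply hs
        refine ⟨i s₀, ?_⟩
        rw [← Scheme.Hom.comp_apply, ← Scheme.Hom.comp_apply, h]
    rintro _ ⟨s, rfl⟩
    have : s ∈ u ⁻¹' (Set.range u') := by
      by_contra hs
      have : s ∈ (u ⁻¹' (Set.range u'))ᶜ := hs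
      rw [hW] at this
      exact this
    exact this
  have hl : IsOpenImmersion.lift u' u hsub ≫ u' = u := IsOpenImmersion.lift_fac _ _ _
  have hl1 : IsOpenImmersion.lift u' u hsub = 𝟙 S := by
    calc IsOpenImmersion.lift u' u hsub = IsOpenImmersion.lift u' u hsub ≫ u' ≫ g := by
          rw [hu', Category.comp_id]
      _ = u ≫ g := by rw [← Category.assoc, hl]
      _ = 𝟙 S := hu
  rw [← hl, hl1, Category.id_comp]


open Groth.Agent.Lib in
theorem exists_section_of_quasiCompact [IsClosedImmersion i]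
    [CompactSpace ↥S] [QuasiSeparatedSpace ↥S] (ha : HypA i)
    {S' : Scheme.{u}} (g : S' ⟶ S) [Etale g] [IsSeparated g] [QuasiCompact g]
    (u₀ : S₀ ⟶ pullback g i) (hu₀ : u₀ ≫ pullback.snd g i = 𝟙 S₀) :
    ∃ u : S ⟶ S', u ≫ g = 𝟙 S ∧ i ≫ u = u₀ ≫ pullback.fst g i := by
  have hlqf : LocallyQuasiFinite g := HenselFin.locallyQuasiFinite_of_etale g
  obtain ⟨T, j, π, hj, hjqc, hπ, hjπ⟩ := ZMTFin.zmt_finite g
  have hu₀open : IsOpenImmersion u₀ := isOpenImmersion_of_section _ u₀ hu₀
  let m : pullback g i ⟶ pullback π i :=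
    pullback.map g i π i j (𝟙 _) (𝟙 _) (by simp [hjπ]) (by simp)
  have hm : IsOpenImmersion m := inferInstance
  have hm1 : m ≫ pullback.fst π i = pullback.fst g i ≫ j := pullback.lift_fst _ _ _
  have hm2 : m ≫ pullback.snd π i = pullback.snd g i :=
    (pullback.lift_snd _ _ _).trans (Category.comp_id _)
  let v₀ : S₀ ⟶ pullback π i := u₀ ≫ m
  have hv₀ : v₀ ≫ pullback.snd π i = 𝟙 S₀ := by
    simp only [v₀, Category.assoc, hm2, hu₀]
  have hv₀c : IsClosedImmersion v₀ := isClosedImmersion_of_section _ v₀ hv₀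
  have hv₀o : IsOpenImmersion v₀ := inferInstance
  have hVclopen : IsClopen (Set.range v₀) :=
    ⟨v₀.isClosedEmbedding.isClosed_range, v₀.isOpenEmbedding.isOpen_range⟩
  obtain ⟨U, ⟨hUclopen, hUV⟩, -⟩ := ha T π hπ _ hVclopen
  -- points of `V`
  have hfstv : ∀ s₀ : S₀, pullback.fst π i (v₀ s₀) = j (pullback.fst g i (u₀ s₀)) := by
    intro s₀
    simp only [v₀, ← Scheme.Hom.comp_apply, Category.assoc, hm1]
  have hUj : U ⊆ Set.range j := by
    have := eq_empty_of_isClosed_of_finite ha π (U \ Set.range j)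
      (hUclopen.1.sdiff j.isOpenEmbedding.isOpen_range) ?_
    · exact Set.sdiff_eq_empty.mp this
    · rintro z ⟨hzU, hzj⟩
      have : z ∈ Set.range v₀ := by rw [← hUV]; exact hzU
      obtain ⟨s₀, rfl⟩ := this
      apply hzj
      exact ⟨_, (hfstv s₀).symm⟩
  -- the clopen `U'` of `S'`
  let UT : T.Opens := ⟨U, hUclopen.2⟩
  let U' : S'.Opens := j ⁻¹ᵁ UT
  have hmemU' : ∀ x : S', x ∈ U' ↔ j x ∈ U := fun x => Iff.rfl
  let p : (U' : Scheme.{u}) ⟶ S := U'.ι ≫ g
  have hpet : Etale p := inferInstance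
  have hci : IsClosedImmersion (U'.ι ≫ j) := by
    refine IsClosedImmersion.of_isPreimmersion _ ?_
    have : Set.range (U'.ι ≫ j) = U := by
      rw [Scheme.Hom.comp_base, TopCat.coe_comp, Set.range_comp, Scheme.Opens.range_ι]
      ext t
      constructor
      · rintro ⟨x, hx, rfl⟩
        exact hx
      · intro ht
        obtain ⟨x, rfl⟩ := hUj ht
        exact ⟨x, ht, rfl⟩
    rw [this]
    exact hUclopen.1
  have hpfin : IsFinite p := by
    have : p = (U'.ι ≫ j) ≫ π := by simp only [p, Category.assoc, hjπ]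
    rw [this]
    infer_instance
  -- the crux: `fst ⁻¹ U' = range u₀`
  have hcrux : ∀ x₀ : ↥(pullback g i), pullback.fst g i x₀ ∈ U' → x₀ ∈ Set.range u₀ := by
    intro x₀ hx₀
    have h1 : m x₀ ∈ (pullback.fst π i).base ⁻¹' U := by
      change pullback.fst π i (m x₀) ∈ U
      rw [← Scheme.Hom.comp_apply, hm1, Scheme.Hom.comp_apply]
      exact hx₀
    rw [hUV] at h1
    obtain ⟨s₀, hs₀⟩ := h1
    refine ⟨s₀, m.isOpenEmbedding.injective ?_⟩
    rw [← hs₀]
    simp only [v₀, Scheme.Hom.comp_apply]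
  have hcrux' : ∀ s₀ : S₀, pullback.fst g i (u₀ s₀) ∈ U' := by
    intro s₀
    rw [hmemU', ← hfstv]
    have : v₀ s₀ ∈ (pullback.fst π i).base ⁻¹' U := by
      rw [hUV]; exact ⟨s₀, rfl⟩
    exact this
  -- the base change of `p` to `S₀` is an isomorphism
  let e : pullback p i ⟶ pullback g i :=
    pullback.map p i g i U'.ι (𝟙 _) (𝟙 _) (by simp [p]) (by simp)
  have he : IsOpenImmersion e := inferInstance
  have he1 : e ≫ pullback.fst g i = pullback.fst p i ≫ U'.ι := pullback.lift_fst _ _ _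
  have he2 : e ≫ pullback.snd g i = pullback.snd p i :=
    (pullback.lift_snd _ _ _).trans (Category.comp_id _)
  have herange : Set.range e ⊆ Set.range u₀ := by
    rintro _ ⟨z, rfl⟩
    apply hcrux
    rw [← Scheme.Hom.comp_apply, he1, Scheme.Hom.comp_apply]
    exact (pullback.fst p i z).2
  have hl : IsOpenImmersion.lift u₀ e herange ≫ u₀ = e := IsOpenImmersion.lift_fac _ _ _
  have hl1 : IsOpenImmersion.lift u₀ e herange = pullback.snd p i := by
    calc IsOpenImmersion.lift u₀ e herange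
        = IsOpenImmersion.lift u₀ e herange ≫ u₀ ≫ pullback.snd g i := by
          rw [hu₀, Category.comp_id]
      _ = e ≫ pullback.snd g i := by rw [← Category.assoc, hl]
      _ = pullback.snd p i := he2
  have hsndopen : IsOpenImmersion (pullback.snd p i) := by
    have : IsOpenImmersion (pullback.snd p i ≫ u₀) := by rw [← hl1, hl]; exact he
    exact IsOpenImmersion.of_comp _ u₀
  have hsndsurj : Surjective (pullback.snd p i) := by
    constructor
    intro s₀
    let x : U' := ⟨pullback.fst g i (u₀ s₀), hcrux' s₀⟩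
    have hx : p x = i s₀ := by
      change g (pullback.fst g i (u₀ s₀)) = i s₀
      rw [← Scheme.Hom.comp_apply, ← Scheme.Hom.comp_apply, pullback.condition,
        ← Category.assoc, hu₀, Category.id_comp]
    obtain ⟨z, -, hz⟩ := Scheme.Pullback.exists_preimage_pullback (f := p) (g := i) x s₀ hx
    exact ⟨z, hz⟩
  have hsndiso : IsIso (pullback.snd p i) :=
    (isIso_iff_isOpenImmersion_and_surjective _).mpr ⟨hsndopen, hsndsurj⟩
  -- the rank of `p` is one
  have hflat : Flat p := inferInstance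
  have hfp : LocallyOfFinitePresentation p := inferInstance
  have hrank_i : ∀ s₀ : S₀, Scheme.Hom.finrank p (i s₀) = 1 := by
    intro s₀
    rw [← Scheme.Hom.finrank_pullback_snd p i s₀, Scheme.Hom.finrank_eq_one_of_isIso]
    rfl
  have hlc : IsLocallyConstant (Scheme.Hom.finrank p) := Scheme.Hom.isLocallyConstant_finrank p
  have hrank : Scheme.Hom.finrank p = 1 := by
    have hW : {s | Scheme.Hom.finrank p s = 1}ᶜ = ∅ := by
      refine eq_empty_of_isClosed ha _ ?_ ?_
      · exact (hlc.isOpen_fiber 1).isClosed_compl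
      · intro s₀ hs
        exact hs (hrank_i s₀)
    ext s
    by_contra hs
    have : s ∈ {s | Scheme.Hom.finrank p s = 1}ᶜ := hs
    rw [hW] at this
    exact this
  have hpiso : IsIso p := (Scheme.Hom.isIso_iff_finrank_eq p).mpr hrank
  -- the section
  refine ⟨inv p ≫ U'.ι, ?_, ?_⟩
  · rw [Category.assoc]
    exact IsIso.inv_hom_id p
  · have hw : Set.range (u₀ ≫ pullback.fst g i) ⊆ Set.range U'.ι := by
      rintro _ ⟨s₀, rfl⟩
      rw [Scheme.Opens.range_ι, Scheme.Hom.comp_apply]
      exact hcrux' s₀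
    have hw1 : IsOpenImmersion.lift U'.ι (u₀ ≫ pullback.fst g i) hw ≫ U'.ι =
      u₀ ≫ pullback.fst g i := IsOpenImmersion.lift_fac _ _ _
    have hw2 : IsOpenImmersion.lift U'.ι (u₀ ≫ pullback.fst g i) hw ≫ p = i := by
      simp only [p]
      rw [← Category.assoc, hw1, Category.assoc, pullback.condition, ← Category.assoc, hu₀,
        Category.id_comp]
    have hw3 : i ≫ inv p = IsOpenImmersion.lift U'.ι (u₀ ≫ pullback.fst g i) hw := by
      have := congrArg (· ≫ inv p) hw2
      simp only [Category.assoc, IsIso.hom_inv_id, Category.comp_id] at this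
      exact this.symm
    rw [← Category.assoc, hw3, hw1]


theorem exists_section [IsClosedImmersion i]
    [CompactSpace ↥S] [QuasiSeparatedSpace ↥S] (ha : HypA i)
    {S' : Scheme.{u}} (g : S' ⟶ S) [Etale g] [IsSeparated g]
    (u₀ : S₀ ⟶ pullback g i) (hu₀ : u₀ ≫ pullback.snd g i = 𝟙 S₀) :
    ∃ u : S ⟶ S', u ≫ g = 𝟙 S ∧ i ≫ u = u₀ ≫ pullback.fst g i := by
  have hS₀ : CompactSpace ↥S₀ := QuasiCompact.compactSpace_of_compactSpace i
  have hK : IsCompact (Set.range (u₀ ≫ pullback.fst g i)) :=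
    isCompact_range (u₀ ≫ pullback.fst g i).continuous
  obtain ⟨W, hWc, hWo, hKW, -⟩ :=
    PrespectralSpace.exists_isCompact_and_isOpen_between hK isOpen_univ (Set.subset_univ _)
  let S'' : S'.Opens := ⟨W, hWo⟩
  have hS''c : CompactSpace ↥(S'' : Scheme.{u}) := isCompact_iff_compactSpace.mp hWc
  let g'' : (S'' : Scheme.{u}) ⟶ S := S''.ι ≫ g
  have hg''qc : QuasiCompact g'' := quasiCompact_of_compactSpace g''
  have hw : Set.range (u₀ ≫ pullback.fst g i) ⊆ Set.range S''.ι := by
    rw [Scheme.Opens.range_ι]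
    exact hKW
  let w : S₀ ⟶ (S'' : Scheme.{u}) := IsOpenImmersion.lift S''.ι (u₀ ≫ pullback.fst g i) hw
  have hw1 : w ≫ S''.ι = u₀ ≫ pullback.fst g i := IsOpenImmersion.lift_fac _ _ _
  have hw2 : w ≫ g'' = 𝟙 S₀ ≫ i := by
    simp only [g'']
    rw [← Category.assoc, hw1, Category.assoc, pullback.condition, ← Category.assoc, hu₀]
  let u₀'' : S₀ ⟶ pullback g'' i := pullback.lift w (𝟙 S₀) hw2
  have hu₀'' : u₀'' ≫ pullback.snd g'' i = 𝟙 S₀ := pullback.lift_snd _ _ _
  obtain ⟨u'', h1, h2⟩ := exists_section_of_quasiCompact ha g'' u₀'' hu₀''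
  refine ⟨u'' ≫ S''.ι, ?_, ?_⟩
  · rw [Category.assoc]; exact h1
  · rw [← Category.assoc, h2, pullback.lift_fst, hw1]


end helpers

/-- a) implies b): let S be a quasi-compact quasi-separated scheme and i : S₀ ⟶ S a closed immersion.
Suppose that for every finite morphism g : S' ⟶ S, every open-closed subset of S' ×_S S₀ is the
inverse image under the first projection of exactly one open-closed subset of S'. Then for every
étale separated morphism g : S' ⟶ S and every section u₀ of S' ×_S S₀ ⟶ S₀ there is exactly one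
section u of g whose restriction to S₀ is u₀ (that is, i ≫ u = u₀ followed by the first projection). -/
theorem result {S S₀ : Scheme.{u}} (i : S₀ ⟶ S) [IsClosedImmersion i]
    [CompactSpace ↥S] [QuasiSeparatedSpace ↥S]
    (ha : ∀ (S' : Scheme.{u}) (g : S' ⟶ S), IsFinite g →
      ∀ V : Set ↥(pullback g i), IsClopen V → ∃! U : Set ↥S', IsClopen U ∧ (pullback.fst g i).base ⁻¹' U = V)
    {S' : Scheme.{u}} (g : S' ⟶ S) [Etale g] [IsSeparated g]
    (u₀ : S₀ ⟶ pullback g i) (hu₀ : u₀ ≫ pullback.snd g i = 𝟙 S₀) :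
    ∃! u : S ⟶ S', u ≫ g = 𝟙 S ∧ i ≫ u = u₀ ≫ pullback.fst g i := by
  have ha' : HypA i := ha
  obtain ⟨u, h1, h2⟩ := exists_section ha' g u₀ hu₀
  refine ⟨u, ⟨h1, h2⟩, ?_⟩
  rintro u' ⟨h1', h2'⟩
  exact section_unique ha' g u' u h1' h1 (h2'.trans h2.symm)

end Groth.Agent.S5036
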