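import Groth.Statements.S5039
import Groth.Agent.Lib.HznNagata98
import Groth.Agent.Lib.NagataFT98E
import Groth.Agent.Lib.HenselizationNoeth

set_option autoImplicit false
universe u
open Hensel

namespace Groth.Agent.S5039

/-- For a Noetherian ring, universally Japanese is the same as Nagata. -/
theorem uj_iff_nagata (A : Type u) [CommRing A] [IsNoetherianRing A] :
    CAlg.IsUniversallyJapanese A ↔ CAlg.IsNagata A := by
  constructor
  · intro hUJ
    refine ⟨inferInstance, fun p _ => hUJ (A ⧸ p) ?_⟩
    exact Algebra.FiniteType.of_surjective (Ideal.Quotient.mkₐ A p)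
      (Ideal.Quotient.mkₐ_surjective A p)
  · intro hA T _ _ _ hft
    haveI := hft
    exact Groth.Agent.Lib.NagataFT98.isN2_of_isNagata
      (Groth.Agent.Lib.NagataFT98.isNagata_of_finiteType A hA T)

/-- Let R be a Noetherian local ring and S its henselization. Then S is universally Japanese if and only
if R is. -/
theorem result (R S : Type u) [CommRing R] [IsLocalRing R] [IsNoetherianRing R]
    [CommRing S] [IsLocalRing S] [Algebra R S] [IsLocalHom (algebraMap R S)] [Hensel.IsHenselization R S] :
    CAlg.IsUniversallyJapanese S ↔ CAlg.IsUniversallyJapanese R := by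
  haveI : IsNoetherianRing S :=
    (Groth.Agent.Lib.HenselizationNoeth.isNoetherianRing_iff_of_isHenselization R S).mp
      inferInstance
  rw [uj_iff_nagata S, uj_iff_nagata R]
  exact Groth.Agent.Lib.HznNagata98.isNagata_henselization_iff R S

end Groth.Agent.S5039
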