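import Groth.Statements.S5040
import Groth.Agent.Lib.H56FormalCat
import Groth.Agent.Lib.H56HznPrimes
import Groth.Agent.S0511

set_option autoImplicit false
universe u
open Hensel

namespace Groth.Agent.S5040

/-- Let R be a Noetherian local ring with henselization S. If R is formally catenary (the completion of
R/p is equidimensional for every prime ideal p), then S is formally catenary. -/
theorem result (R S : Type u) [CommRing R] [IsLocalRing R] [IsNoetherianRing R]
    [CommRing S] [IsLocalRing S] [Algebra R S] [IsLocalHom (algebraMap R S)] [Hensel.IsHenselization R S]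
    (h : EGA4.IsFormallyCatenary R) : EGA4.IsFormallyCatenary S := by
  have hS : IsNoetherianRing S := (Groth.Agent.S0511.result R S).mp inferInstance
  intro q hq
  change EGA4.IsEquidim (EGA4.Cpl (S ⧸ q))
  have hmin := Groth.Agent.Lib.H56HznPrimes.mem_minimalPrimes_of_isHenselization R S q
  have hp := h (q.under R)
  change EGA4.IsEquidim (EGA4.Cpl (R ⧸ q.under R)) at hp
  -- step 1: `R̂ / pR̂` is equidimensional
  obtain ⟨e1⟩ := Groth.Agent.Lib.H56FormalCat.nonempty_quotient_cpl_equiv R (q.under R)
  have h1 := Groth.Agent.Lib.H56FormalCat.isEquidim_of_ringEquiv e1.symm hp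
  -- step 2: transport along `R̂ ≃ Ŝ`
  let φ : EGA4.Cpl R ≃+* EGA4.Cpl S :=
    RingEquiv.ofBijective _ (Groth.Agent.Lib.H56FormalCat.complMap_bijective R S)
  have hφ : ∀ r : R, φ (algebraMap R (EGA4.Cpl R) r) =
      algebraMap S (EGA4.Cpl S) (algebraMap R S r) := fun r =>
    Groth.Agent.Lib.ComplMap.complMap_algebraMap (IsLocalRing.maximalIdeal R)
      (IsLocalRing.maximalIdeal S) (algebraMap R S)
      (Groth.Agent.Lib.HenselizationUP.map_maximalIdeal_eq R S).le r
  have hmap : (((q.under R).map (algebraMap R S)).map (algebraMap S (EGA4.Cpl S))) =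
      ((q.under R).map (algebraMap R (EGA4.Cpl R))).map (φ : EGA4.Cpl R →+* EGA4.Cpl S) := by
    rw [Ideal.map_map, Ideal.map_map]
    congr 1
  have e2 : (EGA4.Cpl R ⧸ (q.under R).map (algebraMap R (EGA4.Cpl R))) ≃+*
      (EGA4.Cpl S ⧸ ((q.under R).map (algebraMap R S)).map (algebraMap S (EGA4.Cpl S))) :=
    Ideal.quotientEquiv _ _ φ hmap
  have h2 := Groth.Agent.Lib.H56FormalCat.isEquidim_of_ringEquiv e2 h1
  -- step 3: the key lemma
  have h3 := Groth.Agent.Lib.H56FormalCat.isEquidim_quotient_of_mem_minimalPrimes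
    (T := EGA4.Cpl S) ((q.under R).map (algebraMap R S)) q hmin h2
  -- step 4: back to the completion of `S ⧸ q`
  obtain ⟨e4⟩ := Groth.Agent.Lib.H56FormalCat.nonempty_quotient_cpl_equiv S q
  exact Groth.Agent.Lib.H56FormalCat.isEquidim_of_ringEquiv e4 h3

end Groth.Agent.S5040
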