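import Groth.Statements.S5043
import Groth.Agent.Lib.H56SerreFlat
import Groth.Agent.Lib.H56HznPrimes
import Groth.Agent.Lib.DepthFlat33
import Groth.Agent.S0509
import Groth.Agent.S0511
import Mathlib.RingTheory.Ideal.AssociatedPrime.Localization

set_option autoImplicit false
universe u
open Hensel

namespace Groth.Agent.S5043

/-- Let R be a Noetherian local ring with henselization S. A prime ideal P of S is an associated prime
of S if and only if its inverse image in R is an associated prime of R. -/
theorem result (R S : Type u) [CommRing R] [IsLocalRing R] [IsNoetherianRing R]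
    [CommRing S] [IsLocalRing S] [Algebra R S] [IsLocalHom (algebraMap R S)] [Hensel.IsHenselization R S]
    (P : Ideal S) [P.IsPrime] :
    P ∈ associatedPrimes S S ↔ P.comap (algebraMap R S) ∈ associatedPrimes R R := by
  have hS : IsNoetherianRing S := (Groth.Agent.S0511.result R S).mp inferInstance
  have hff : Module.FaithfullyFlat R S := Groth.Agent.S0509.result R S
  have key : ∀ (A : Type u) [CommRing A] [IsNoetherianRing A] (p : Ideal A) [p.IsPrime],
      p ∈ associatedPrimes A A ↔
        LocCoh.depth (Localization.AtPrime p) (Localization.AtPrime p) = 0 := by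
    intro A _ _ p _
    rw [Groth.Agent.Lib.DepthFlat33.depth_eq_zero_iff]
    have h := Module.associatedPrimes.preimage_comap_associatedPrimes_eq_associatedPrimes_of_isLocalizedModule
      p.primeCompl (Localization.AtPrime p) (Algebra.linearMap A (Localization.AtPrime p))
    rw [← h, Set.mem_preimage]
    have h2 : Ideal.comap (algebraMap A (Localization.AtPrime p))
        (IsLocalRing.maximalIdeal (Localization.AtPrime p)) = p :=
      IsLocalization.AtPrime.under_maximalIdeal (Localization.AtPrime p) p
    rw [h2]
  have hmin := Groth.Agent.Lib.H56HznPrimes.mem_minimalPrimes_of_isHenselization R S P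
  have hover : P.LiesOver (P.under R) := ⟨rfl⟩
  obtain ⟨-, hdepth⟩ :=
    Groth.Agent.Lib.H56SerreFlat.dim_depth_eq_of_mem_minimalPrimes (P.under R) P hmin
  rw [key S P, key R (P.comap (algebraMap R S))]
  exact ⟨fun h => hdepth.trans h, fun h => hdepth.symm.trans h⟩

end Groth.Agent.S5043
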