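import Groth.Statements.S5046
import Groth.Agent.Lib.PunctConn96E
import Groth.Agent.Lib.LocConn96A
import Groth.Agent.Lib.H71GeomRedAt
-- import your own Groth.Agent.* helpers here

set_option autoImplicit false
set_option linter.style.haveILetI false
open CategoryTheory AlgebraicGeometry
universe u
open Unram

namespace Groth.Agent.S5046

/-- Let A be a Noetherian local domain of Krull dimension at least 2 which is geometrically unibranch, X
a connected locally Noetherian scheme and f : X ⟶ Spec A a flat morphism. Then for every closed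
subset T of X lying over the closed point of Spec A, the complement of T in X is connected. -/
theorem result (A : Type u) [CommRing A]
    [IsNoetherianRing A] [IsLocalRing A] [IsDomain A] (hA : CAlg2.IsGeomUnibranch A) (hdim : 2 ≤ ringKrullDim A)
    {X : Scheme.{u}} [IsLocallyNoetherian X] [ConnectedSpace ↥X] (f : X ⟶ Spec (CommRingCat.of A)) [Flat f]
    (T : Set ↥X) (hT : IsClosed T) (hTy : ∀ x ∈ T, f.base x = IsLocalRing.closedPoint A) :
    IsConnected Tᶜ := by
  refine Groth.Agent.Lib.LocConn96.isConnected_compl_of_forall_stalk T hT (fun x => ?_)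
  -- notation
  have hgen : ∀ q : Spec (X.presheaf.stalk x), (X.fromSpecStalk x) q ⤳ x := by
    intro q
    have : (X.fromSpecStalk x) q ∈ Set.range (X.fromSpecStalk x) := ⟨q, rfl⟩
    rw [Scheme.range_fromSpecStalk] at this
    exact this
  by_cases hfx : f.base x = IsLocalRing.closedPoint A
  · -- the ring map `A → 𝒪_{X,x}`
    set g : Spec (X.presheaf.stalk x) ⟶ Spec (CommRingCat.of A) := X.fromSpecStalk x ≫ f with hg
    set ψ : CommRingCat.of A ⟶ X.presheaf.stalk x := Spec.preimage g with hψ
    have hψg : Spec.map ψ = g := Spec.map_preimage g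
    letI : Algebra A (X.presheaf.stalk x) := ψ.hom.toAlgebra
    haveI : Flat g := by
      rw [hg]
      infer_instance
    haveI : Module.Flat A (X.presheaf.stalk x) := by
      have h1 : Flat (Spec.map ψ) := hψg ▸ ‹Flat g›
      exact Flat.SpecMap_iff.mp h1
    have hpt : ∀ q : Spec (X.presheaf.stalk x),
        PrimeSpectrum.comap ψ.hom q = f.base ((X.fromSpecStalk x) q) := by
      intro q
      have h1 : (Spec.map ψ) q = g q := by rw [hψg]
      exact h1
    haveI : IsLocalHom (algebraMap A (X.presheaf.stalk x)) := by
      have h1 := hpt (IsLocalRing.closedPoint (X.presheaf.stalk x))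
      rw [Scheme.fromSpecStalk_closedPoint, hfx] at h1
      have h2 : (IsLocalRing.maximalIdeal (X.presheaf.stalk x)).comap ψ.hom =
          IsLocalRing.maximalIdeal A := congrArg PrimeSpectrum.asIdeal h1
      exact ((IsLocalRing.local_hom_TFAE ψ.hom).out 0 4).mpr h2
    have key := Groth.Agent.Lib.PunctConn96.isConnected_compl_of_isGeomUnibranch_of_dim A
      (X.presheaf.stalk x) hA hdim ((X.fromSpecStalk x) ⁻¹' T) (fun q hq => ?_)
    · exact key
    · have h1 := hpt q
      rw [hTy _ hq] at h1
      have h2 : q.asIdeal.comap ψ.hom = IsLocalRing.maximalIdeal A :=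
        congrArg PrimeSpectrum.asIdeal h1
      rw [Ideal.map_le_iff_le_comap]
      exact h2.ge
  · -- `T` does not meet `Spec 𝒪_{X,x}`
    have hempty : (X.fromSpecStalk x) ⁻¹' Tᶜ = Set.univ := by
      rw [Set.eq_univ_iff_forall]
      intro q hq
      apply hfx
      have h1 : f.base ((X.fromSpecStalk x) q) ⤳ f.base x := (hgen q).map f.continuous
      rw [hTy _ hq] at h1
      have h2 : f.base x ∈ ({IsLocalRing.closedPoint A} : Set (PrimeSpectrum A)) :=
        h1.mem_closed (IsLocalRing.isClosed_singleton_closedPoint A) rfl
      exact h2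
    rw [hempty]
    refine ⟨⟨IsLocalRing.closedPoint (X.presheaf.stalk x), trivial⟩, ?_⟩
    refine isPreconnected_of_forall (IsLocalRing.closedPoint (X.presheaf.stalk x)) (fun y _ => ?_)
    refine ⟨closure {y}, Set.subset_univ _, ?_, subset_closure rfl,
      isPreconnected_singleton.closure⟩
    exact (IsLocalRing.specializes_closedPoint y).mem_closed isClosed_closure
      (subset_closure rfl)

end Groth.Agent.S5046
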