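import Groth.Statements.S5047
import Groth.Agent.Lib.EtaleFibreDim96B
import Groth.Agent.Lib.FibreConstructible4
-- import your own Groth.Agent.* helpers here

set_option autoImplicit false
open CategoryTheory AlgebraicGeometry
universe u
open Unram

namespace Groth.Agent.S5047

/-- Consider morphisms g : Y ⟶ S and h : X ⟶ S, both locally of finite presentation, where h is flat and
every local ring of every fibre of g is a normal domain (this holds, e.g., when g is smooth). Given
an S-morphism f : X ⟶ Y, the morphism f is an open immersion exactly when it is a monomorphism and,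
at each point x of X, the local dimension at x of the h-fibre containing x coincides with the local
dimension at f x of the g-fibre containing f x. -/
theorem result {X Y S : Scheme.{u}} (g : Y ⟶ S) (h : X ⟶ S)
    [LocallyOfFinitePresentation g] [LocallyOfFinitePresentation h] [Flat h]
    (hnorm : ∀ y : Y, IsDomain ((g.fiber (g.base y)).presheaf.stalk (g.asFiber y)) ∧
      IsIntegrallyClosed ((g.fiber (g.base y)).presheaf.stalk (g.asFiber y)))
    (f : X ⟶ Y) (w : f ≫ g = h) :
    IsOpenImmersion f ↔ (Mono f ∧ ∀ x : X, FlatMor.fibreDimAt h x = FlatMor.fibreDimAt g (f.base x)) := by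
  subst w
  haveI : LocallyOfFiniteType g := inferInstance
  haveI hlfp : LocallyOfFinitePresentation f :=
    Groth.Agent.Lib.AlgSpBasic.locallyOfFinitePresentation_of_comp f g inferInstance inferInstance
  constructor
  · intro hf
    refine ⟨inferInstance, fun x => ?_⟩
    have hfl : (f.stalkMap x).hom.Flat := Flat.stalkMap f x
    have hqf : f.QuasiFiniteAt x := f.quasiFiniteAt x
    have h0 : FlatMor.fibreDimAt f x = 0 :=
      (Groth.Agent.Lib.QFAt91.fibreDimAt_eq_zero_iff f x).mpr hqf
    have h1 := (Groth.Agent.Lib.H79FibDimComp.fibreDimAt_comp f g x).2 hfl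
    rw [h1, h0, zero_add]
  · rintro ⟨hmono, hdim⟩
    haveI hunr : FormallyUnramified f :=
      ((Groth.Agent.Lib.FibreConstructible.mono_iff_universallyInjective_and_formallyUnramified
        f).mp hmono).2
    haveI : Flat f := by
      refine Flat.of_stalkMap _ fun x => ?_
      haveI : FormallyUnramified ((⊤ : X.Opens).ι ≫ f) := inferInstance
      exact Groth.Agent.Lib.EtaleFibreDim96B.flat_stalkMap_of_fibreDim_eq f g x
        (Flat.stalkMap (f ≫ g) x) (hnorm (f x)).1 (hnorm (f x)).2 ⊤ trivial (hdim x)
    exact IsOpenImmersion.of_flat_of_mono f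

end Groth.Agent.S5047
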