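import Groth.Statements.S5048
import Mathlib.AlgebraicGeometry.Morphisms.UniversallyOpen
import Mathlib.Topology.Sober

set_option autoImplicit false
open CategoryTheory AlgebraicGeometry
universe u
open Unram

namespace Groth.Agent.S5048

/-- In a discrete subset, a specialization between members is an equality. -/
lemma eq_of_specializes_of_isDiscrete {α : Type*} [TopologicalSpace α] {S : Set α}
    (hS : IsDiscrete S) {a b : α} (ha : a ∈ S) (hb : b ∈ S) (h : a ⤳ b) : a = b := by
  obtain ⟨u, hu, hub⟩ := (isDiscrete_iff_forall_mem_exists_isOpen.1 hS) b hb
  have hbu : b ∈ u := (hub ▸ Set.mem_singleton b : b ∈ u ∩ S).1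
  have hau : a ∈ u := h.mem_open hu hbu
  have : a ∈ u ∩ S := ⟨hau, ha⟩
  rw [hub] at this
  exact this

/-- Let Y be an irreducible scheme with generic point η and f : X ⟶ Y flat, locally of finite type and
locally quasi-finite. Then a point x of X maps to η if and only if its closure is an irreducible
component of X; thus the irreducible components of X are in canonical bijection with the fibre over
η. -/
theorem result {X Y : Scheme.{u}} [IrreducibleSpace ↥Y] (f : X ⟶ Y)
    [Flat f] [LocallyOfFiniteType f] [LocallyQuasiFinite f] (x : X) :
    f.base x = genericPoint Y ↔ closure ({x} : Set ↥X) ∈ irreducibleComponents ↥X := by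
  constructor
  · intro hx
    refine ⟨isIrreducible_singleton.closure, ?_⟩
    intro s hs hxs
    -- generic point of closure s
    obtain ⟨x', hx'⟩ := QuasiSober.sober hs.closure isClosed_closure
    have hx'x : x' ⤳ x := by
      rw [specializes_iff_mem_closure, hx'.def]
      exact subset_closure (hxs (subset_closure (Set.mem_singleton x)))
    have hfx' : f.base x' = genericPoint Y := by
      have h1 : f.base x' ⤳ f.base x := hx'x.map f.continuous
      rw [hx] at h1
      exact (h1.antisymm (genericPoint_specializes _)).eq
    have hdisc := f.isDiscrete_preimage_singleton (genericPoint Y)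
    have : x' = x := eq_of_specializes_of_isDiscrete hdisc hfx' hx hx'x
    subst this
    rw [hx'.def]
    exact subset_closure
  · intro hx
    have hgen : genericPoint Y ⤳ f.base x := genericPoint_specializes _
    obtain ⟨x', hx'x, hfx'⟩ := (Flat.generalizingMap f) hgen
    have h1 : closure ({x} : Set X) ⊆ closure {x'} := by
      rw [← specializes_iff_closure_subset]
      exact hx'x
    have h2 : closure ({x'} : Set X) ⊆ closure {x} := hx.2 isIrreducible_singleton.closure h1
    have h3 : x ⤳ x' := specializes_iff_closure_subset.2 h2
    have : x = x' := (h3.antisymm hx'x).eq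
    rw [this]
    exact hfx'

end Groth.Agent.S5048
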