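import Groth.Statements.S5049
import Mathlib.AlgebraicGeometry.Morphisms.UniversallyOpen
import Mathlib.Topology.Sober

set_option autoImplicit false
open CategoryTheory AlgebraicGeometry
universe u
open Unram

namespace Groth.Agent.S5049

section Top

variable {α β : Type*} [TopologicalSpace α] [TopologicalSpace β]

/-- Under a generalizing map, generic points of irreducible components map to generic points
of irreducible components. -/
lemma closure_map_mem_irreducibleComponents [T0Space α] [QuasiSober β] {f : α → β}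
    (hf : GeneralizingMap f) {z : α} (hz : closure {z} ∈ irreducibleComponents α) :
    closure {f z} ∈ irreducibleComponents β := by
  refine ⟨isIrreducible_singleton.closure, ?_⟩
  intro W hW hzW
  obtain ⟨w, hw⟩ := QuasiSober.sober hW.closure isClosed_closure
  have hwz : w ⤳ f z := by
    rw [specializes_iff_mem_closure, hw.def]
    exact subset_closure (hzW (subset_closure (Set.mem_singleton _)))
  obtain ⟨z', hz'z, hfz'⟩ := hf hwz
  have h1 : closure ({z} : Set α) ⊆ closure {z'} := specializes_iff_closure_subset.1 hz'z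
  have h2 : closure ({z'} : Set α) ⊆ closure {z} := hz.2 isIrreducible_singleton.closure h1
  have h3 : z ⤳ z' := specializes_iff_closure_subset.2 h2
  have : z = z' := (h3.antisymm hz'z).eq
  subst this
  rw [hfz', hw.def]
  exact subset_closure

/-- Every irreducible component of a quasi-sober space has a generic point. -/
lemma exists_closure_eq_of_mem_irreducibleComponents [QuasiSober α] {Z : Set α}
    (hZ : Z ∈ irreducibleComponents α) : ∃ z : α, closure {z} = Z := by
  obtain ⟨z, hz⟩ := QuasiSober.sober hZ.1 (isClosed_of_mem_irreducibleComponents Z hZ)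
  exact ⟨z, hz.def⟩

end Top

/-- Let f : X ⟶ Y be flat, locally of finite type and locally quasi-finite. If the irreducible
components of Y form a locally finite family of subsets, then so do the irreducible components of X. -/
theorem result {X Y : Scheme.{u}} (f : X ⟶ Y)
    [Flat f] [LocallyOfFiniteType f] [LocallyQuasiFinite f]
    (hY : LocallyFinite (fun Z : ↥(irreducibleComponents ↥Y) => (Z : Set ↥Y))) :
    LocallyFinite (fun Z : ↥(irreducibleComponents ↥X) => (Z : Set ↥X)) := by
  intro x
  obtain ⟨t, ht, htfin⟩ := hY (f.base x)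
  obtain ⟨V0, hV0t, hV0open, hxV0⟩ := mem_nhds_iff.1 ht
  obtain ⟨_, ⟨(V : Y.Opens), hV, rfl⟩, hxV, hVV0⟩ :=
    Y.isBasis_affineOpens.exists_subset_of_mem_open hxV0 hV0open
  have hxfV : x ∈ f ⁻¹ᵁ V := hxV
  obtain ⟨_, ⟨(U : X.Opens), hU, rfl⟩, hxU, hUV⟩ :=
    X.isBasis_affineOpens.exists_subset_of_mem_open hxfV (f ⁻¹ᵁ V).isOpen
  refine ⟨U, U.isOpen.mem_nhds hxU, ?_⟩
  -- the finitely many generic points of `Y` whose component meets `t`
  let G : Set Y := {w | closure {w} ∈ irreducibleComponents Y ∧ (closure {w} ∩ t).Nonempty}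
  have hG : G.Finite := by
    choose gp hgp using fun W : irreducibleComponents Y =>
      exists_closure_eq_of_mem_irreducibleComponents W.2
    refine (htfin.image gp).subset ?_
    rintro w ⟨hw1, hw2⟩
    refine ⟨⟨closure {w}, hw1⟩, hw2, ?_⟩
    have : closure {gp ⟨closure {w}, hw1⟩} = closure {w} := hgp ⟨closure {w}, hw1⟩
    exact ((specializes_iff_closure_subset.2 this.ge).antisymm
      (specializes_iff_closure_subset.2 this.le)).eq
  -- fibres of `U ⟶ V` are finite
  have hfib : ∀ w : Y, ((U : Set X) ∩ f.base ⁻¹' {w}).Finite := by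
    intro w
    by_cases hw : w ∈ V
    · have : IsAffine U.toScheme := hU
      have : IsAffine V.toScheme := hV
      have hfin := (f.resLE V U hUV).finite_preimage_singleton ⟨w, hw⟩
      refine (hfin.image U.ι.base).subset ?_
      rintro p ⟨hpU, hpw⟩
      refine ⟨⟨p, hpU⟩, ?_, rfl⟩
      have h1 : (f.resLE V U hUV ≫ V.ι).base ⟨p, hpU⟩ = (U.ι ≫ f).base ⟨p, hpU⟩ := by
        rw [Scheme.Hom.resLE_comp_ι]
      apply Subtype.ext
      exact h1.trans hpw
    · convert Set.finite_empty
      rw [Set.eq_empty_iff_forall_notMem]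
      rintro p ⟨hpU, hpw⟩
      exact hw (hpw ▸ hUV hpU)
  have hFib : ((U : Set X) ∩ f.base ⁻¹' G).Finite := by
    have : (U : Set X) ∩ f.base ⁻¹' G = ⋃ w ∈ G, ((U : Set X) ∩ f.base ⁻¹' {w}) := by
      ext p
      simp
    rw [this]
    exact hG.biUnion (fun w _ => hfib w)
  choose gp hgp using fun Z : irreducibleComponents X =>
    exists_closure_eq_of_mem_irreducibleComponents Z.2
  refine Set.Finite.of_injOn (f := gp) ?_ ?_ hFib
  · rintro Z ⟨p, hpZ, hpU⟩
    have hpZ' : p ∈ closure {gp Z} := by rw [hgp Z]; exact hpZ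
    have hzU : gp Z ∈ (U : Set X) := by
      obtain ⟨q, hqU, hq⟩ := mem_closure_iff.1 hpZ' U U.isOpen hpU
      rw [Set.mem_singleton_iff] at hq
      exact hq ▸ hqU
    refine ⟨hzU, ?_, ?_⟩
    · apply closure_map_mem_irreducibleComponents (Flat.generalizingMap f)
      rw [hgp Z]
      exact Z.2
    · exact ⟨f.base (gp Z), subset_closure (Set.mem_singleton _), hV0t (hVV0 (hUV hzU))⟩
  · intro Z _ Z' _ h
    apply Subtype.ext
    rw [← hgp Z, ← hgp Z', h]

end Groth.Agent.S5049
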