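import Groth.Statements.S5051
import Groth.Agent.Lib.H59NGeom3

set_option autoImplicit false
open CategoryTheory AlgebraicGeometry
universe u
open Unram

namespace Groth.Agent.S5051

/-- Let f : X ⟶ Y be étale, separated and of finite type. Then y ↦ (number of points of the geometric
fibre of f at y) is lower semicontinuous on Y. -/
theorem result {X Y : Scheme.{u}} (f : X ⟶ Y) [Etale f] [IsSeparated f]
    [LocallyOfFiniteType f] [QuasiCompact f] :
    LowerSemicontinuous (fun y : Y => ENat.card ↥(MoreMor.geomFiber f y)) := by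
  intro y₀ c hc
  haveI : LocallyQuasiFinite f := Groth.Agent.Lib.H59NGeom.locallyQuasiFinite_of_etale f
  obtain ⟨O, hO, hy₀, hle⟩ := Groth.Agent.Lib.H59NGeom.exists_nhds_fibreIntegral_one_le f y₀
  refine Filter.mem_of_superset (hO.mem_nhds hy₀) ?_
  intro y hy
  change c < ENat.card ↥(MoreMor.geomFiber f y)
  refine lt_of_lt_of_le hc ?_
  change ENat.card ↥(MoreMor.geomFiber f y₀) ≤ ENat.card ↥(MoreMor.geomFiber f y)
  rw [Groth.Agent.Lib.H59NGeom.enatCard_geomFiber_eq, Groth.Agent.Lib.H59NGeom.enatCard_geomFiber_eq]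
  exact_mod_cast Int.toNat_le_toNat (hle y hy)

end Groth.Agent.S5051
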