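import Groth.Statements.S5052
import Groth.Agent.Lib.H59NGeom5

set_option autoImplicit false
open CategoryTheory AlgebraicGeometry
universe u
open Unram

namespace Groth.Agent.S5052

/-- Let f : X ⟶ Y be étale, separated and of finite type, and y a point of Y. The number of points of
the geometric fibre is constant on a neighbourhood of y if and only if the restriction of f over
some open neighbourhood of y is a finite morphism. -/
theorem result {X Y : Scheme.{u}} (f : X ⟶ Y) [Etale f] [IsSeparated f]
    [LocallyOfFiniteType f] [QuasiCompact f] (y : Y) :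
    (∃ U : Y.Opens, y ∈ U ∧ ∀ y' : Y, y' ∈ U → ENat.card ↥(MoreMor.geomFiber f y') = ENat.card ↥(MoreMor.geomFiber f y)) ↔
      ∃ U : Y.Opens, y ∈ U ∧ IsFinite (f ∣_ U) := by
  haveI : LocallyQuasiFinite f := Groth.Agent.Lib.H59NGeom.locallyQuasiFinite_of_etale f
  have hcard : ∀ z : Y, ENat.card ↥(MoreMor.geomFiber f z) =
      ((MoreMor.fibreIntegral f (fun _ => 1) z).toNat : ℕ∞) :=
    fun z => Groth.Agent.Lib.H59NGeom.enatCard_geomFiber_eq f z
  constructor
  · rintro ⟨U, hyU, hU⟩
    refine Groth.Agent.Lib.H59NGeom.exists_isFinite_of_const f y (U : Set Y) U.2 hyU ?_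
    intro z hz
    have h := hU z hz
    rw [hcard, hcard] at h
    have h' : (MoreMor.fibreIntegral f (fun _ => 1) z).toNat =
        (MoreMor.fibreIntegral f (fun _ => 1) y).toNat := by exact_mod_cast h
    have hz0 := Groth.Agent.Lib.H59NGeom.fibreIntegral_one_nonneg f z
    have hy0 := Groth.Agent.Lib.H59NGeom.fibreIntegral_one_nonneg f y
    omega
  · rintro ⟨U, hyU, hU⟩
    obtain ⟨O, hyO, hO⟩ :=
      Groth.Agent.Lib.H59NGeom.exists_nhds_fibreIntegral_one_eq f U hU y hyU
    refine ⟨O, hyO, fun y' hy' => ?_⟩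
    rw [hcard, hcard, hO y' hy']

end Groth.Agent.S5052
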