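import Groth.Statements.S5053
import Groth.Agent.Lib.H59NGeom5

set_option autoImplicit false
open CategoryTheory AlgebraicGeometry
universe u
open Unram

namespace Groth.Agent.S5053

/-- Let Y be a connected scheme and f : X ⟶ Y étale, separated and of finite type. Then f is finite if
and only if all geometric fibres of f have the same number of points. -/
theorem result {X Y : Scheme.{u}} [ConnectedSpace ↥Y] (f : X ⟶ Y)
    [Etale f] [IsSeparated f] [LocallyOfFiniteType f] [QuasiCompact f] :
    IsFinite f ↔ ∃ n : ℕ∞, ∀ y : Y, ENat.card ↥(MoreMor.geomFiber f y) = n := by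
  haveI : LocallyQuasiFinite f := Groth.Agent.Lib.H59NGeom.locallyQuasiFinite_of_etale f
  have hcard : ∀ z : Y, ENat.card ↥(MoreMor.geomFiber f z) =
      ((MoreMor.fibreIntegral f (fun _ => 1) z).toNat : ℕ∞) :=
    fun z => Groth.Agent.Lib.H59NGeom.enatCard_geomFiber_eq f z
  constructor
  · intro hf
    have hlc := Groth.Agent.Lib.H59NGeom.isLocallyConstant_fibreIntegral_one f
    obtain ⟨y₀⟩ : Nonempty ↥Y := inferInstance
    refine ⟨ENat.card ↥(MoreMor.geomFiber f y₀), fun y => ?_⟩
    rw [hcard, hcard, hlc.apply_eq_of_preconnectedSpace y y₀]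
  · rintro ⟨n, hn⟩
    have hex : ∀ y : Y, ∃ U : Y.Opens, y ∈ U ∧ IsFinite (f ∣_ U) := by
      intro y
      refine Groth.Agent.Lib.H59NGeom.exists_isFinite_of_const f y Set.univ isOpen_univ
        (Set.mem_univ _) ?_
      intro z _
      have h : ENat.card ↥(MoreMor.geomFiber f z) = ENat.card ↥(MoreMor.geomFiber f y) := by
        rw [hn z, hn y]
      rw [hcard, hcard] at h
      have h' : (MoreMor.fibreIntegral f (fun _ => 1) z).toNat =
          (MoreMor.fibreIntegral f (fun _ => 1) y).toNat := by exact_mod_cast h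
      have hz0 := Groth.Agent.Lib.H59NGeom.fibreIntegral_one_nonneg f z
      have hy0 := Groth.Agent.Lib.H59NGeom.fibreIntegral_one_nonneg f y
      omega
    choose U hyU hU using hex
    have hsup : iSup U = ⊤ := by
      rw [eq_top_iff]
      intro y _
      exact TopologicalSpace.Opens.mem_iSup.mpr ⟨y, hyU y⟩
    exact (IsZariskiLocalAtTarget.iff_of_iSup_eq_top (P := @IsFinite) U hsup).mpr hU

end Groth.Agent.S5053
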