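import Groth.Statements.S5057
import Mathlib.AlgebraicGeometry.IdealSheaf.Subscheme
import Mathlib.AlgebraicGeometry.PullbackCarrier

set_option autoImplicit false
open CategoryTheory CategoryTheory.Limits AlgebraicGeometry
universe u
open Hensel

namespace Groth.Agent.S5057

/-- Let i : S₀ ⟶ S be a closed immersion such that for every finite morphism g : S' ⟶ S every
open-closed subset of S' ×_S S₀ is the inverse image under the first projection of exactly one
open-closed subset of S'. Then for every finite morphism g : S' ⟶ S, every open subset of S'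
containing the image of S' ×_S S₀ is all of S'. -/
theorem result {S S₀ : Scheme.{u}} (i : S₀ ⟶ S) [IsClosedImmersion i]
    (ha : ∀ (S' : Scheme.{u}) (g : S' ⟶ S), IsFinite g →
      ∀ V : Set ↥(pullback g i), IsClopen V → ∃! U : Set ↥S', IsClopen U ∧ (pullback.fst g i).base ⁻¹' U = V)
    {S' : Scheme.{u}} (g : S' ⟶ S) [IsFinite g] (U : Set ↥S') (hU : IsOpen U)
    (hU₀ : Set.range (pullback.fst g i).base ⊆ U) : U = Set.univ := by
  classical
  -- the reduced closed subscheme structure on the complement of `U`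
  let Zc : TopologicalSpace.Closeds S' := ⟨Uᶜ, hU.isClosed_compl⟩
  let 𝓘 : S'.IdealSheafData := Scheme.IdealSheafData.vanishingIdeal Zc
  have hrange : Set.range 𝓘.subschemeι = Uᶜ := by
    rw [Scheme.IdealSheafData.range_subschemeι]
    exact Scheme.IdealSheafData.coe_support_vanishingIdeal Zc
  have hfin : IsFinite (𝓘.subschemeι ≫ g) := inferInstance
  -- the fibre product over `S₀` is empty
  have hempty : IsEmpty ↥(pullback (𝓘.subschemeι ≫ g) i) := by
    rw [Scheme.isEmpty_pullback_iff, Set.disjoint_iff_forall_ne]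
    rintro _ ⟨t, rfl⟩ _ ⟨s₀, rfl⟩ e
    have e' : g (𝓘.subschemeι t) = i s₀ := by simpa using e
    obtain ⟨z, hz, -⟩ := Scheme.Pullback.exists_preimage_pullback (f := g) (g := i) _ _ e'
    have h1 : 𝓘.subschemeι t ∈ U := hU₀ ⟨z, hz⟩
    have h2 : 𝓘.subschemeι t ∈ Uᶜ := hrange ▸ Set.mem_range_self t
    exact h2 h1
  obtain ⟨W, -, hW⟩ := ha 𝓘.subscheme (𝓘.subschemeι ≫ g) hfin ∅ isClopen_empty
  have h1 := hW ∅ ⟨isClopen_empty, Subsingleton.elim _ _⟩
  have h2 := hW Set.univ ⟨isClopen_univ, Subsingleton.elim _ _⟩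
  have h3 : (Set.univ : Set ↥𝓘.subscheme) = ∅ := h2.trans h1.symm
  have h4 : IsEmpty ↥𝓘.subscheme := by
    rw [← Set.univ_eq_empty_iff]
    exact h3
  have h5 : Set.range 𝓘.subschemeι = ∅ := Set.range_eq_empty _
  rw [hrange, Set.compl_empty_iff] at h5
  exact h5

end Groth.Agent.S5057
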