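import Groth.Statements.S5058
import Groth.Agent.Lib.DescFPSpread
import Groth.Agent.Lib.HenselizationConstr
import Groth.Agent.Lib.HenselizationNoeth
import Groth.Agent.Lib.HenselizationLiftFlat

set_option autoImplicit false
open CategoryTheory CategoryTheory.Limits AlgebraicGeometry
universe u
open Hensel

namespace Groth.Agent.S5058

/-- Let A be a henselian local ring and f : X ⟶ Spec A a morphism of finite presentation. Then there
exist a Noetherian henselian local ring A₀, a local ring homomorphism φ : A₀ → A, a morphism of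
finite type f₀ : X₀ ⟶ Spec A₀ and a cartesian square exhibiting X as the base change of X₀ along
Spec φ. -/
theorem result (A : Type u) [CommRing A] [HenselianLocalRing A]
    {X : Scheme.{u}} (f : X ⟶ Spec (CommRingCat.of A)) [LocallyOfFinitePresentation f] [QuasiCompact f] [QuasiSeparated f] :
    ∃ (A₀ : Type u) (_ : CommRing A₀) (_ : HenselianLocalRing A₀) (_ : IsNoetherianRing A₀) (φ : A₀ →+* A) (_ : IsLocalHom φ)
      (X₀ : Scheme.{u}) (f₀ : X₀ ⟶ Spec (CommRingCat.of A₀)) (g : X ⟶ X₀),
      LocallyOfFiniteType f₀ ∧ QuasiCompact f₀ ∧ IsPullback g f f₀ (Spec.map (CommRingCat.ofHom φ)) := by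
  have htop : Groth.Agent.Lib.SpreadPair.DescendsAlongLimit
      (⊤ : MorphismProperty Scheme.{u}) := by
    intro I _ _ D c hc _ i₀ X₀ Y₀ f₀ g₀ _ _ _ _ _ _ _ _
    exact ⟨Over.mk (𝟙 _), trivial⟩
  obtain ⟨A₀, hfg, X₀, f₀, g, -, h1, h2, h3, sq⟩ :=
    Groth.Agent.Lib.DescFP.exists_model_over_fg ⊤ htop A f trivial
  have hN0 : IsNoetherianRing ↥A₀ := by
    have : Algebra.FiniteType ℤ ↥A₀ := (Subalgebra.fg_iff_finiteType A₀).mp hfg
    exact Algebra.FiniteType.isNoetherianRing ℤ _
  let p : Ideal ↥A₀ := (IsLocalRing.maximalIdeal A).comap (algebraMap ↥A₀ A)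
  have hp : p.IsPrime := Ideal.comap_isPrime _ _
  have hNB : IsNoetherianRing (Localization.AtPrime p) :=
    IsLocalization.isNoetherianRing p.primeCompl _ hN0
  have hunit : ∀ y : p.primeCompl, IsUnit (algebraMap ↥A₀ A y) := by
    intro y
    by_contra h
    exact y.2 ((IsLocalRing.mem_maximalIdeal _).mpr h)
  let θ : Localization.AtPrime p →+* A := IsLocalization.lift hunit
  have hθ : IsLocalHom θ := by
    refine ⟨fun b hb => ?_⟩
    obtain ⟨a, s, rfl⟩ := IsLocalization.exists_mk'_eq p.primeCompl b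
    have h1 : θ (IsLocalization.mk' (Localization.AtPrime p) a s) * algebraMap ↥A₀ A s =
        algebraMap ↥A₀ A a := by
      have h0 : θ (algebraMap ↥A₀ (Localization.AtPrime p) s) = algebraMap ↥A₀ A s :=
        IsLocalization.lift_eq hunit (s : ↥A₀)
      rw [← h0, ← map_mul, IsLocalization.mk'_spec]
      exact IsLocalization.lift_eq hunit a
    have h2 : IsUnit (algebraMap ↥A₀ A a) := h1 ▸ hb.mul (hunit s)
    have ha : a ∈ p.primeCompl := fun hmem => (IsLocalRing.mem_maximalIdeal _).mp hmem h2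
    exact (IsLocalization.AtPrime.isUnit_mk'_iff (Localization.AtPrime p) p a s).mpr ha
  have hNH : IsNoetherianRing (Groth.Agent.Lib.HenselizationConstr.Hzn (Localization.AtPrime p)) :=
    Groth.Agent.Lib.HenselizationNoeth.isNoetherianRing_Hzn _
  let ψ : Groth.Agent.Lib.HenselizationConstr.Hzn (Localization.AtPrime p) →+* A :=
    Groth.Agent.Lib.HenselizationConstr.liftHzn θ
  have hψ : IsLocalHom ψ := Groth.Agent.Lib.HenselizationLiftFlat.isLocalHom_liftHzn θ
  have hψθ : ψ.comp (algebraMap (Localization.AtPrime p)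
      (Groth.Agent.Lib.HenselizationConstr.Hzn (Localization.AtPrime p))) = θ :=
    Groth.Agent.Lib.HenselizationConstr.liftHzn_comp_algebraMap θ
  let ι : ↥A₀ →+* Groth.Agent.Lib.HenselizationConstr.Hzn (Localization.AtPrime p) :=
    (algebraMap (Localization.AtPrime p)
      (Groth.Agent.Lib.HenselizationConstr.Hzn (Localization.AtPrime p))).comp
      (algebraMap ↥A₀ (Localization.AtPrime p))
  have hcomp : ψ.comp ι = algebraMap ↥A₀ A := by
    rw [← RingHom.comp_assoc, hψθ]
    exact IsLocalization.lift_comp hunit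
  have hSpec : Spec.map (CommRingCat.ofHom ψ) ≫ Spec.map (CommRingCat.ofHom ι) =
      Spec.map (CommRingCat.ofHom (algebraMap ↥A₀ A)) := by
    rw [← Spec.map_comp, ← CommRingCat.ofHom_comp, hcomp]
  have hlft : LocallyOfFiniteType f₀ := inferInstance
  refine ⟨Groth.Agent.Lib.HenselizationConstr.Hzn (Localization.AtPrime p), inferInstance,
    inferInstance, hNH, ψ, hψ, pullback f₀ (Spec.map (CommRingCat.ofHom ι)),
    pullback.snd f₀ (Spec.map (CommRingCat.ofHom ι)),
    pullback.lift g (f ≫ Spec.map (CommRingCat.ofHom ψ)) ?_, ?_, ?_, ?_⟩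
  · rw [sq.w, Category.assoc, hSpec]
  · infer_instance
  · infer_instance
  · have hright := IsPullback.of_hasPullback f₀ (Spec.map (CommRingCat.ofHom ι))
    refine IsPullback.of_right ?_ (pullback.lift_snd _ _ _) hright
    rw [pullback.lift_fst, hSpec]
    exact sq

end Groth.Agent.S5058
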