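import Groth.Statements.S5061
import Groth.Agent.Lib.H87PerfArtin

set_option autoImplicit false
open scoped TensorProduct
universe u
open EGA418

namespace Groth.Agent.S5061

/-- a) iff c): let k be a field of characteristic p > 0, P a perfect closure of k (a perfect field
purely inseparable over k) and K an extension field of k. Then the ring K ⊗_k P is Artinian if and
only if there exists a finite purely inseparable extension k' of k such that (k' ⊗_k K) modulo its
nilradical is geometrically reduced over k'. -/
theorem result (p : ℕ) [Fact p.Prime]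
    (k K : Type u) [Field k] [CharP k p] [Field K] [Algebra k K]
    (P : Type u) [Field P] [Algebra k P] [PerfectRing P p] [IsPRadical (algebraMap k P) p] :
    IsArtinianRing (K ⊗[k] P) ↔
      ∃ (k' : Type u) (_ : Field k') (_ : Algebra k k'), Module.Finite k k' ∧ IsPurelyInseparable k k' ∧
        Algebra.IsGeometricallyReduced k' ((k' ⊗[k] K) ⧸ nilradical (k' ⊗[k] K)) := by
  haveI hp : ExpChar k p := ExpChar.prime Fact.out
  haveI hpP : ExpChar P p := expChar_of_injective_algebraMap (algebraMap k P).injective p
  haveI : PerfectField P := PerfectRing.toPerfectField P p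
  haveI : IsPurelyInseparable k P := IsPRadical.isPurelyInseparable k P p
  constructor
  · intro hart
    have hN : IsNoetherianRing (K ⊗[k] P) := inferInstance
    have hN' : IsNoetherianRing (P ⊗[k] K) :=
      isNoetherianRing_of_ringEquiv _ (Algebra.TensorProduct.comm k K P).toRingEquiv
    obtain ⟨k', _, _, hfin, hpi, hGR⟩ :=
      Groth.Agent.Lib.H87PerfDescent.exists_finite_isGeometricallyReduced_of_isNoetherianRing
        k K P hN'
    exact ⟨k', inferInstance, inferInstance, hfin, hpi, hGR⟩
  · rintro ⟨k', _, _, hfin, hpi, hGR⟩
    haveI : ExpChar k' p := expChar_of_injective_algebraMap (algebraMap k k').injective p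
    let ι : k' →+* P := PerfectRing.lift (algebraMap k k') (algebraMap k P) p
    letI algP : Algebra k' P := ι.toAlgebra
    have tow : IsScalarTower k k' P := IsScalarTower.of_algebraMap_eq
      (fun x => (PerfectRing.lift_comp_apply (algebraMap k k') (algebraMap k P) p x).symm)
    haveI : IsPurelyInseparable k' P := IsPurelyInseparable.tower_top k k' P
    have hartR' : IsArtinianRing (K ⊗[k] k') := IsArtinianRing.of_finite K _
    have hartR : IsArtinianRing (k' ⊗[k] K) :=
      (Algebra.TensorProduct.comm k K k').surjective.isArtinianRing
    have hNR : IsNoetherianRing (k' ⊗[k] K) := inferInstance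
    have hnt : Nontrivial (k' ⊗[k] K) :=
      (Algebra.TensorProduct.includeRight_injective (R := k) (A := k') (B := K)
        (algebraMap k k').injective).nontrivial
    obtain ⟨m, hm⟩ := Ideal.exists_maximal (k' ⊗[k] K)
    have hmax : (nilradical (k' ⊗[k] K)).IsMaximal :=
      Groth.Agent.Lib.H87PerfDescent.eq_nilradical_of_isMaximal k K k' m ▸ hm
    have hT := Groth.Agent.Lib.H87PerfArtin.isArtinianRing_tensor k' P (k' ⊗[k] K) hmax hGR
    let e1 : P ⊗[k'] (k' ⊗[k] K) ≃ₐ[k'] P ⊗[k] K :=
      Algebra.TensorProduct.cancelBaseChange k k' k' P K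
    have h1 : IsArtinianRing (P ⊗[k] K) := e1.surjective.isArtinianRing
    exact (Algebra.TensorProduct.comm k P K).surjective.isArtinianRing

end Groth.Agent.S5061
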