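import Groth.Statements.S5062
import Groth.Agent.Lib.UnramGeomUnibranch96
import Groth.Agent.Lib.FiniteEtaleHom
import Groth.Agent.S9721

set_option autoImplicit false
set_option linter.style.haveILetI false
open CategoryTheory AlgebraicGeometry
universe u
open Hensel

namespace Groth.Agent.S5062

open IsLocalRing Polynomial

/-- Sections of `Spec E → Spec A` are `A`-algebra maps `E → A`. -/
theorem exists_algHom_of_section {A : Type u} [CommRing A] (E : Type u) [CommRing E] [Algebra A E]
    (u : Spec (CommRingCat.of A) ⟶ Spec (CommRingCat.of E))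
    (hu : u ≫ Spec.map (CommRingCat.ofHom (algebraMap A E)) = 𝟙 _) :
    ∃ τ : E →ₐ[A] A, u = Spec.map (CommRingCat.ofHom (τ : E →+* A)) := by
  let τ₀ : CommRingCat.of E ⟶ CommRingCat.of A := Spec.preimage u
  have hτ₀ : Spec.map τ₀ = u := Spec.map_preimage u
  have h1 : CommRingCat.ofHom (algebraMap A E) ≫ τ₀ = 𝟙 _ := by
    apply Spec.map_injective
    rw [Spec.map_comp, hτ₀, hu, Spec.map_id]
  refine ⟨{ toRingHom := τ₀.hom, commutes' := fun a => ?_ }, ?_⟩
  · have := congrArg (fun k => k.hom a) h1
    exact this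
  · rw [← hτ₀]
    rfl

/-- (⇒) -/
theorem exists_section {A : Type u} [CommRing A] [HenselianLocalRing A]
    [IsSepClosed (ResidueField A)] (X : Scheme.{u}) (f : X ⟶ Spec (CommRingCat.of A)) [Etale f]
    (x : X) (hx : f x = closedPoint A) :
    ∃ u : Spec (CommRingCat.of A) ⟶ X, u ≫ f = 𝟙 _ ∧ u (closedPoint A) = x := by
  obtain ⟨U', hU', hxU'⟩ : ∃ U' : X.Opens, IsAffineOpen U' ∧ x ∈ U' := by
    obtain ⟨_, ⟨U', hU', rfl⟩, hxU', -⟩ :=
      X.isBasis_affineOpens.exists_subset_of_mem_open (Set.mem_univ x) isOpen_univ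
    exact ⟨U', hU', hxU'⟩
  have htop : IsAffineOpen (⊤ : (Spec (CommRingCat.of A)).Opens) := isAffineOpen_top _
  have e : U' ≤ f ⁻¹ᵁ ⊤ := fun _ _ => trivial
  have het : Etale (U'.ι ≫ f) := inferInstance
  have hQ : (f.appLE ⊤ U' e).hom.Etale :=
    Groth.Agent.S9721.appLE_of_ι_comp (P := @Etale) f hU' htop e het
  algebraize [(f.appLE ⊤ U' e).hom]
  have hetA : Algebra.Etale Γ(Spec (CommRingCat.of A), ⊤) Γ(X, U') := RingHom.etale_algebraMap.mp hQ
  let p := (htop.primeIdealOf ⟨f x, e hxU'⟩).asIdeal
  let q := (hU'.primeIdealOf ⟨x, hxU'⟩).asIdeal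
  have hqp : q.LiesOver p :=
    ⟨congr($(IsAffineOpen.comap_primeIdealOf_appLE ⊤ htop U' hU' e hxU').1).symm⟩
  let γ : Γ(Spec (CommRingCat.of A), ⊤) ⟶ CommRingCat.of A := (Scheme.ΓSpecIso (CommRingCat.of A)).hom
  letI : Algebra Γ(Spec (CommRingCat.of A), ⊤) A := γ.hom.toAlgebra
  have hfs : htop.fromSpec = Spec.map (Scheme.ΓSpecIso (CommRingCat.of A)).inv := by
    rw [IsAffineOpen.fromSpec_top, Scheme.isoSpec_Spec_inv]
  have hcomap : (maximalIdeal A).comap (algebraMap Γ(Spec (CommRingCat.of A), ⊤) A) = p := by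
    have h1 : htop.fromSpec (htop.primeIdealOf ⟨f x, e hxU'⟩) = f x := htop.fromSpec_primeIdealOf _
    rw [hfs] at h1
    have h2 := congrArg PrimeSpectrum.asIdeal (h1.trans hx)
    -- h2 : comap inv p = maximalIdeal A
    have h3 : (maximalIdeal A) = p.comap (Scheme.ΓSpecIso (CommRingCat.of A)).inv.hom := by
      show (closedPoint A).asIdeal = (Spec.map (Scheme.ΓSpecIso (CommRingCat.of A)).inv
        (htop.primeIdealOf ⟨f x, e hxU'⟩)).asIdeal
      exact h2.symm
    rw [h3]
    ext a
    simp only [Ideal.mem_comap]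
    have : (Scheme.ΓSpecIso (CommRingCat.of A)).inv.hom (algebraMap Γ(Spec (CommRingCat.of A), ⊤) A a)
        = a := by
      show ((Scheme.ΓSpecIso (CommRingCat.of A)).hom ≫ (Scheme.ΓSpecIso (CommRingCat.of A)).inv).hom a = a
      rw [Iso.hom_inv_id]
      rfl
    rw [this]
  obtain ⟨σ, hσ⟩ := Groth.Agent.Lib.UnramGeomUnibranch96.exists_algHom_comap_eq (S := A) q p hcomap
  let σ' : Γ(X, U') ⟶ CommRingCat.of A := CommRingCat.ofHom (σ : Γ(X, U') →+* A)
  refine ⟨Spec.map σ' ≫ hU'.fromSpec, ?_, ?_⟩
  · have h1 : f.appLE ⊤ U' e ≫ σ' = γ := by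
      ext a
      exact σ.commutes a
    rw [Category.assoc, ← IsAffineOpen.SpecMap_appLE_fromSpec f htop hU' e, ← Category.assoc,
      ← Spec.map_comp, h1, hfs, ← Spec.map_comp, Iso.inv_hom_id, Spec.map_id]
  · have h1 : Spec.map σ' (closedPoint A) = hU'.primeIdealOf ⟨x, hxU'⟩ := by
      apply PrimeSpectrum.ext
      exact hσ
    show hU'.fromSpec (Spec.map σ' (closedPoint A)) = x
    rw [h1, hU'.fromSpec_primeIdealOf]

open AlgebraicGeometry CategoryTheory Limits in
/-- a) iff c): a local ring A is henselian with separably closed residue field if and only if, for every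
étale morphism f : X ⟶ Spec A and every point x of X lying over the closed point s, there is a
section u of f with u s = x. -/
theorem result (A : Type u) [CommRing A] [IsLocalRing A] :
    (HenselianLocalRing A ∧ IsSepClosed (IsLocalRing.ResidueField A)) ↔
      ∀ (X : Scheme.{u}) (f : X ⟶ Spec (CommRingCat.of A)), Etale f →
        ∀ x : X, f.base x = IsLocalRing.closedPoint A →
          ∃ u : Spec (CommRingCat.of A) ⟶ X, u ≫ f = 𝟙 _ ∧ u.base (IsLocalRing.closedPoint A) = x := by
  constructor
  · rintro ⟨hH, hS⟩ X f hf x hx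
    exact exists_section X f x hx
  · intro H
    -- sections for étale algebras
    have key : ∀ (E : Type u) [CommRing E] [Algebra A E] [Algebra.Etale A E] (Q : Ideal E)
        [Q.IsPrime], Q.comap (algebraMap A E) = maximalIdeal A →
        ∃ τ : E →ₐ[A] A, (maximalIdeal A).comap (τ : E →+* A) = Q := by
      intro E _ _ _ Q _ hQ
      let φ : CommRingCat.of A ⟶ CommRingCat.of E := CommRingCat.ofHom (algebraMap A E)
      have hφ : Etale (Spec.map φ) := by
        rw [HasRingHomProperty.Spec_iff (P := @Etale)]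
        show (algebraMap A E).Etale
        rw [RingHom.etale_algebraMap]
        infer_instance
      let x : Spec (CommRingCat.of E) := ⟨Q, inferInstance⟩
      have hx : Spec.map φ x = closedPoint A := by
        apply PrimeSpectrum.ext
        exact hQ
      obtain ⟨u, hu, hux⟩ := H _ (Spec.map φ) hφ x hx
      obtain ⟨τ, rfl⟩ := exists_algHom_of_section E u hu
      refine ⟨τ, ?_⟩
      exact congrArg PrimeSpectrum.asIdeal hux
    constructor
    · apply Groth.Agent.Lib.FiniteEtaleHom.henselianLocalRing_of_lift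
      intro E _ _ _ σ₀
      have hIm : Ideal.map (algebraMap A A) (maximalIdeal A) = maximalIdeal A := Ideal.map_id _
      let Q : Ideal E := RingHom.ker σ₀.toRingHom
      have hne : Nontrivial (A ⧸ Ideal.map (algebraMap A A) (maximalIdeal A)) := by
        rw [hIm]
        exact Ideal.Quotient.nontrivial_iff.2 (Ideal.IsPrime.ne_top inferInstance)
      have hdom : IsDomain (A ⧸ Ideal.map (algebraMap A A) (maximalIdeal A)) := by
        rw [hIm]
        infer_instance
      haveI : Q.IsPrime := RingHom.ker_isPrime _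
      have hQ : Q.comap (algebraMap A E) = maximalIdeal A := by
        ext a
        rw [Ideal.mem_comap, RingHom.mem_ker]
        show σ₀ (algebraMap A E a) = 0 ↔ _
        rw [σ₀.commutes, Ideal.Quotient.algebraMap_eq, Ideal.Quotient.eq_zero_iff_mem, hIm]
      obtain ⟨τ, hτ⟩ := key E Q hQ
      refine ⟨τ, ?_⟩
      ext b
      obtain ⟨a, ha⟩ := Ideal.Quotient.mk_surjective (σ₀ b)
      have h1 : b - algebraMap A E a ∈ Q := by
        rw [RingHom.mem_ker, map_sub]
        show σ₀ b - σ₀ (algebraMap A E a) = 0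
        rw [σ₀.commutes, Ideal.Quotient.algebraMap_eq, ha, sub_self]
      rw [← hτ, Ideal.mem_comap, map_sub] at h1
      have h2 : τ b - a ∈ maximalIdeal A := by
        have := τ.commutes a
        simpa [this] using h1
      show Ideal.Quotient.mk _ (τ b) = σ₀ b
      rw [← ha, Ideal.Quotient.eq, hIm]
      exact h2
    · apply IsSepClosed.of_exists_root
      intro p hpm hpirr hpsep
      obtain ⟨P, hPmap, -, hPm⟩ := Polynomial.lifts_and_degree_eq_and_monic
        ((Polynomial.mem_lifts p).2 (Polynomial.map_surjective _ residue_surjective p)) hpm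
      let SP : StandardEtalePair A := ⟨P, hPm, derivative P, ⟨1, 0, 1, by simp⟩⟩
      -- the field L = κ[X]/(p)
      haveI : Fact (Irreducible p) := ⟨hpirr⟩
      let L := AdjoinRoot p
      haveI : IsScalarTower A (ResidueField A) L := inferInstance
      have hmapL : ∀ (F : A[X]), aeval (AdjoinRoot.root p) F =
          aeval (AdjoinRoot.root p) (F.map (residue A)) := by
        intro F
        rw [← ResidueField.algebraMap_eq, Polynomial.aeval_map_algebraMap]
      have hroot : aeval (AdjoinRoot.root p) P = 0 := by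
        rw [hmapL, hPmap, AdjoinRoot.aeval_eq, AdjoinRoot.mk_self]
      have hunit : IsUnit (aeval (AdjoinRoot.root p) (derivative P)) := by
        rw [hmapL, ← Polynomial.derivative_map, hPmap]
        obtain ⟨a, b, hab⟩ := hpsep
        have h1 := congrArg (aeval (AdjoinRoot.root p)) hab
        rw [map_add, map_mul, map_mul, AdjoinRoot.aeval_eq p, AdjoinRoot.mk_self, mul_zero,
          zero_add, map_one] at h1
        exact IsUnit.of_mul_eq_one _ (by rw [mul_comm]; exact h1)
      have hmap : SP.HasMap (AdjoinRoot.root p) := ⟨hroot, hunit⟩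
      let ψ : SP.Ring →ₐ[A] L := SP.lift _ hmap
      let Q : Ideal SP.Ring := RingHom.ker ψ.toRingHom
      have : Q.IsPrime := RingHom.ker_isPrime _
      have hQ : Q.comap (algebraMap A SP.Ring) = maximalIdeal A := by
        ext a
        rw [Ideal.mem_comap, RingHom.mem_ker]
        show ψ (algebraMap A SP.Ring a) = 0 ↔ _
        rw [ψ.commutes]
        rw [IsScalarTower.algebraMap_apply A (ResidueField A) L, ResidueField.algebraMap_eq]
        rw [map_eq_zero_iff _ (algebraMap (ResidueField A) L).injective, residue_eq_zero_iff]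
      obtain ⟨τ, -⟩ := key SP.Ring Q hQ
      refine ⟨residue A (τ SP.X), ?_⟩
      have h1 : aeval (τ SP.X) P = 0 := by
        rw [Polynomial.aeval_algHom_apply]
        have := SP.hasMap_X.1
        rw [show SP.f = P from rfl] at this
        rw [this, map_zero]
      have h1' : P.eval (τ SP.X) = 0 := by
        rw [← Polynomial.coe_aeval_eq_eval]
        exact h1
      rw [← hPmap, Polynomial.eval_map, Polynomial.eval₂_at_apply, h1', map_zero]

end Groth.Agent.S5062
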