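import Groth.Statements.S5063
import Groth.Agent.Lib.EtaleLocusBC
import Mathlib.RingTheory.Unramified.LocalStructure
import Mathlib.AlgebraicGeometry.Morphisms.FlatMono
import Mathlib.AlgebraicGeometry.Morphisms.ClosedImmersion

set_option autoImplicit false
open CategoryTheory CategoryTheory.Limits AlgebraicGeometry
universe u
open Unram

namespace Groth.Agent.S5063

section helpers

/-- A closed immersion is formally unramified. -/
lemma formallyUnramified_of_isClosedImmersion {X Y : Scheme.{u}} (i : X ⟶ Y) [IsClosedImmersion i] :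
    FormallyUnramified i := by
  have : IsIso (pullback.diagonal i) := (pullback.isIso_diagonal_iff i).mpr inferInstance
  infer_instance

open Groth.Agent.Lib.UnramifiedLocusBC in
theorem backward {X Y : Scheme.{u}} (f : X ⟶ Y) [LocallyOfFinitePresentation f]
    (H : ∃ (ι : Type u) (Y' : ι → Scheme.{u}) (g : ∀ a, Y' a ⟶ Y) (U : ∀ a, (pullback f (g a)).Opens),
      (∀ a, Flat (g a)) ∧ (∀ x : X, ∃ a, x ∈ (pullback.fst f (g a)).base '' (U a : Set ↥(pullback f (g a)))) ∧
        ∀ a, IsClosedImmersion ((U a).ι ≫ pullback.snd f (g a))) : FormallyUnramified f := by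
  obtain ⟨ι, Y', g, U, -, hcov, hU⟩ := H
  refine formallyUnramified_of_forall_stalkMap f fun x ↦ ?_
  obtain ⟨a, u, hu, rfl⟩ := hcov x
  have := hU a
  have hsnd : LocallyOfFiniteType (pullback.snd f (g a)) :=
    MorphismProperty.of_isPullback (P := @LocallyOfFiniteType)
      (IsPullback.of_hasPullback f (g a)) inferInstance
  have h1 : ((pullback.snd f (g a)).stalkMap u).hom.FormallyUnramified :=
    (exists_nhds_formallyUnramified_iff _ u).mp
      ⟨U a, hu, formallyUnramified_of_isClosedImmersion _⟩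
  exact (formallyUnramified_stalkMap_iff_of_isPullback (IsPullback.of_hasPullback f (g a)) u).mp h1

/-- A morphism between étale `X`-schemes whose composite with the structure map is an open
immersion is an open immersion. -/
lemma isOpenImmersion_of_comp_etale {D P X : Scheme.{u}} (γ : D ⟶ P) (p : P ⟶ X) [Etale p]
    [IsOpenImmersion (γ ≫ p)] : IsOpenImmersion γ := by
  have : Etale γ := Etale.of_comp γ p
  have : Mono γ := mono_of_mono γ p
  exact IsOpenImmersion.of_flat_of_mono γ

open Groth.Agent.Lib.UnramifiedLocusBC in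
theorem forward_point {X Y : Scheme.{u}} (f : X ⟶ Y) [LocallyOfFinitePresentation f]
    [FormallyUnramified f] (x : X) :
    ∃ (Y' : Scheme.{u}) (g : Y' ⟶ Y) (U : (pullback f g).Opens), Etale g ∧
      x ∈ (pullback.fst f g).base '' (U : Set ↥(pullback f g)) ∧
      IsClosedImmersion (U.ι ≫ pullback.snd f g) := by
  obtain ⟨_, ⟨V, hV, rfl⟩, hxV, -⟩ :=
    Y.isBasis_affineOpens.exists_subset_of_mem_open (Set.mem_univ (f x)) isOpen_univ
  obtain ⟨_, ⟨W, hW, rfl⟩, hxW, hWV⟩ :=
    X.isBasis_affineOpens.exists_subset_of_mem_open hxV (V.2.preimage f.continuous)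
  replace hV : IsAffineOpen V := hV
  replace hW : IsAffineOpen W := hW
  replace hWV : W ≤ f ⁻¹ᵁ V := hWV
  let _ := (f.appLE V W hWV).hom.toAlgebra
  have : Algebra.FiniteType Γ(Y, V) Γ(X, W) := f.finiteType_appLE hV hW hWV
  have hunr : Algebra.FormallyUnramified Γ(Y, V) Γ(X, W) := by
    rw [← RingHom.formallyUnramified_algebraMap]
    exact HasRingHomProperty.appLE (P := @FormallyUnramified) f ‹_› ⟨V, hV⟩ ⟨W, hW⟩ hWV
  let Q := (hW.primeIdealOf ⟨x, hxW⟩).asIdeal
  have : Algebra.IsUnramifiedAt Γ(Y, V) Q := Algebra.formallyUnramified_iff_forall.mp hunr _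
  obtain ⟨r, hrQ, P, φ, hφ⟩ :=
    Algebra.IsUnramifiedAt.exists_hasStandardEtaleSurjectionOn (R := Γ(Y, V)) Q
  -- the basic open `D = D(r)`
  let D : X.Opens := X.basicOpen r
  have hD : IsAffineOpen D := hW.basicOpen r
  have hDW : D ≤ W := X.basicOpen_le r
  have hxD : x ∈ D := (mem_basicOpen_iff_primeIdealOf hW r hxW).mpr hrQ
  let _ : Algebra Γ(X, W) Γ(X, D) := (X.presheaf.map (homOfLE hDW).op).hom.toAlgebra
  have : IsLocalization.Away r Γ(X, D) := hW.isLocalization_basicOpen r
  let e : Localization.Away r ≃ₐ[Γ(X, W)] Γ(X, D) := IsLocalization.algEquiv (.powers r) _ _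
  let ψ : P.Ring →+* Γ(X, D) :=
    (e : Localization.Away r →+* Γ(X, D)).comp (φ : P.Ring →+* Localization.Away r)
  have hψ : Function.Surjective ψ := e.surjective.comp hφ
  have hψR : ψ.comp (algebraMap Γ(Y, V) P.Ring) = (f.appLE V D (hDW.trans hWV)).hom := by
    ext a
    show e (φ (algebraMap Γ(Y, V) P.Ring a)) = _
    rw [φ.commutes, IsScalarTower.algebraMap_apply Γ(Y, V) Γ(X, W) (Localization.Away r),
      e.commutes]
    have h3 : f.appLE V W hWV ≫ X.presheaf.map (homOfLE hDW).op = f.appLE V D (hDW.trans hWV) :=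
      Scheme.Hom.appLE_map f hWV (homOfLE hDW).op
    exact congr(($h3).hom a)
  let Y' : Scheme.{u} := Spec (CommRingCat.of P.Ring)
  let g : Y' ⟶ Y := Spec.map (CommRingCat.ofHom (algebraMap Γ(Y, V) P.Ring)) ≫ hV.fromSpec
  have hg : Etale g := by
    have : Etale (Spec.map (CommRingCat.ofHom (algebraMap Γ(Y, V) P.Ring))) := by
      rw [HasRingHomProperty.Spec_iff (P := @Etale)]
      exact RingHom.etale_algebraMap.mpr inferInstance
    infer_instance
  let c : (D : Scheme.{u}) ⟶ Y' := hD.isoSpec.hom ≫ Spec.map (CommRingCat.ofHom ψ)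
  have hc : IsClosedImmersion c := by
    have := IsClosedImmersion.spec_of_surjective (CommRingCat.ofHom ψ) hψ
    infer_instance
  have hcg : c ≫ g = D.ι ≫ f := by
    simp only [c, g, Category.assoc]
    rw [← Spec.map_comp_assoc, ← CommRingCat.ofHom_comp, hψR, CommRingCat.ofHom_hom,
      IsAffineOpen.SpecMap_appLE_fromSpec f hV hD, hD.isoSpec_hom_fromSpec_assoc]
  let γ : (D : Scheme.{u}) ⟶ pullback f g := pullback.lift D.ι c hcg.symm
  have : IsOpenImmersion (γ ≫ pullback.fst f g) := by
    rw [pullback.lift_fst]; infer_instance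
  have : Etale (pullback.fst f g) := MorphismProperty.of_isPullback (P := @Etale)
    (IsPullback.of_hasPullback f g).flip hg
  have hγ : IsOpenImmersion γ := isOpenImmersion_of_comp_etale γ (pullback.fst f g)
  refine ⟨Y', g, γ.opensRange, hg, ⟨γ ⟨x, hxD⟩, ⟨_, rfl⟩, ?_⟩, ?_⟩
  · show (γ ≫ pullback.fst f g) ⟨x, hxD⟩ = x
    rw [pullback.lift_fst]; rfl
  · have : γ.opensRange.ι ≫ pullback.snd f g = γ.isoOpensRange.inv ≫ c := by
      rw [← Scheme.Hom.isoOpensRange_inv_comp, Category.assoc, pullback.lift_snd]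
    rw [this]
    infer_instance

theorem forward {X Y : Scheme.{u}} (f : X ⟶ Y) [LocallyOfFinitePresentation f]
    (hf : FormallyUnramified f) :
    ∃ (ι : Type u) (Y' : ι → Scheme.{u}) (g : ∀ a, Y' a ⟶ Y) (U : ∀ a, (pullback f (g a)).Opens),
      (∀ a, Etale (g a)) ∧ (∀ x : X, ∃ a, x ∈ (pullback.fst f (g a)).base '' (U a : Set ↥(pullback f (g a)))) ∧
        ∀ a, IsClosedImmersion ((U a).ι ≫ pullback.snd f (g a)) := by
  choose Y' g U hg hx hU using forward_point f
  exact ⟨X, Y', g, U, hg, fun x ↦ ⟨x, hx x⟩, hU⟩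

end helpers

/-- Let f : X ⟶ Y be locally of finite presentation. If f is unramified then there are étale morphisms
g_a : Y'_a ⟶ Y and opens U_a of the fibre products X ×_Y Y'_a whose images under the first
projections cover X, such that each U_a ⟶ Y'_a (inclusion followed by the second projection) is a
closed immersion. Conversely, the existence of such a family with the g_a only assumed flat implies
that f is unramified. -/
theorem result {X Y : Scheme.{u}} (f : X ⟶ Y) [LocallyOfFinitePresentation f] :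
    (FormallyUnramified f → ∃ (ι : Type u) (Y' : ι → Scheme.{u}) (g : ∀ a, Y' a ⟶ Y) (U : ∀ a, (pullback f (g a)).Opens),
      (∀ a, Etale (g a)) ∧ (∀ x : X, ∃ a, x ∈ (pullback.fst f (g a)).base '' (U a : Set ↥(pullback f (g a)))) ∧
        ∀ a, IsClosedImmersion ((U a).ι ≫ pullback.snd f (g a))) ∧
    ((∃ (ι : Type u) (Y' : ι → Scheme.{u}) (g : ∀ a, Y' a ⟶ Y) (U : ∀ a, (pullback f (g a)).Opens),
      (∀ a, Flat (g a)) ∧ (∀ x : X, ∃ a, x ∈ (pullback.fst f (g a)).base '' (U a : Set ↥(pullback f (g a)))) ∧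
        ∀ a, IsClosedImmersion ((U a).ι ≫ pullback.snd f (g a))) → FormallyUnramified f) :=
  ⟨forward f, backward f⟩

end Groth.Agent.S5063
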