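import Groth.Statements.S5064
import Groth.Agent.Lib.EtaleLocusBC

set_option autoImplicit false
open CategoryTheory CategoryTheory.Limits AlgebraicGeometry
universe u
open Unram

namespace Groth.Agent.S5064

section helpers

set_option backward.isDefEq.respectTransparency false in
/-- If every point of `X` has an open neighbourhood on which `f` is étale, then `f` is étale. -/
lemma etale_of_forall_exists_nhds {X Y : Scheme.{u}} (f : X ⟶ Y)
    (H : ∀ x : X, ∃ U : X.Opens, x ∈ U ∧ Etale (U.ι ≫ f)) : Etale f := by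
  choose U hxU hU using H
  have hsup : ⨆ x, U x = ⊤ := top_le_iff.mp fun x _ ↦ TopologicalSpace.Opens.mem_iSup.mpr ⟨x, hxU x⟩
  rw [IsZariskiLocalAtSource.iff_of_iSup_eq_top (P := @Etale) _ hsup]
  exact hU

theorem forward {X Y : Scheme.{u}} (f : X ⟶ Y) [LocallyOfFinitePresentation f] (hf : Etale f) :
    ∃ (ι : Type u) (Y' : ι → Scheme.{u}) (g : ∀ a, Y' a ⟶ Y) (U : ∀ a, (pullback f (g a)).Opens),
      (∀ a, Etale (g a)) ∧ (∀ x : X, ∃ a, x ∈ (pullback.fst f (g a)).base '' (U a : Set ↥(pullback f (g a)))) ∧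
        ∀ a, IsOpenImmersion ((U a).ι ≫ pullback.snd f (g a)) := by
  refine ⟨PUnit, fun _ ↦ X, fun _ ↦ f, fun _ ↦ (pullback.diagonal f).opensRange, fun _ ↦ hf,
    fun x ↦ ⟨⟨⟩, pullback.diagonal f x, ⟨x, rfl⟩, ?_⟩, fun _ ↦ ?_⟩
  · rw [← Scheme.Hom.comp_apply, pullback.diagonal_fst]; rfl
  · have : (pullback.diagonal f).opensRange.ι ≫ pullback.snd f f =
        (pullback.diagonal f).isoOpensRange.inv := by
      rw [← Scheme.Hom.isoOpensRange_inv_comp, Category.assoc, pullback.diagonal_snd,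
        Category.comp_id]
    rw [this]
    infer_instance

theorem backward {X Y : Scheme.{u}} (f : X ⟶ Y) [LocallyOfFinitePresentation f]
    (H : ∃ (ι : Type u) (Y' : ι → Scheme.{u}) (g : ∀ a, Y' a ⟶ Y) (U : ∀ a, (pullback f (g a)).Opens),
      (∀ a, Flat (g a)) ∧ (∀ x : X, ∃ a, x ∈ (pullback.fst f (g a)).base '' (U a : Set ↥(pullback f (g a)))) ∧
        ∀ a, IsOpenImmersion ((U a).ι ≫ pullback.snd f (g a))) : Etale f := by
  obtain ⟨ι, Y', g, U, hg, hcov, hU⟩ := H
  refine etale_of_forall_exists_nhds f fun x ↦ ?_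
  obtain ⟨a, u, hu, rfl⟩ := hcov x
  have := hg a
  have := hU a
  exact Groth.Agent.Lib.EtaleLocusBC.exists_nhds_etale_of_isPullback_of_flat
    (IsPullback.of_hasPullback f (g a)) u (Flat.stalkMap (g a) _) ⟨U a, hu, inferInstance⟩

end helpers

/-- Let f : X ⟶ Y be locally of finite presentation. If f is étale then there are étale morphisms g_a :
Y'_a ⟶ Y and opens U_a of the fibre products X ×_Y Y'_a whose images under the first projections
cover X, such that each U_a ⟶ Y'_a (inclusion followed by the second projection) is an open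
immersion. Conversely, the existence of such a family with the g_a only assumed flat implies that f
is étale. -/
theorem result {X Y : Scheme.{u}} (f : X ⟶ Y) [LocallyOfFinitePresentation f] :
    (Etale f → ∃ (ι : Type u) (Y' : ι → Scheme.{u}) (g : ∀ a, Y' a ⟶ Y) (U : ∀ a, (pullback f (g a)).Opens),
      (∀ a, Etale (g a)) ∧ (∀ x : X, ∃ a, x ∈ (pullback.fst f (g a)).base '' (U a : Set ↥(pullback f (g a)))) ∧
        ∀ a, IsOpenImmersion ((U a).ι ≫ pullback.snd f (g a))) ∧
    ((∃ (ι : Type u) (Y' : ι → Scheme.{u}) (g : ∀ a, Y' a ⟶ Y) (U : ∀ a, (pullback f (g a)).Opens),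
      (∀ a, Flat (g a)) ∧ (∀ x : X, ∃ a, x ∈ (pullback.fst f (g a)).base '' (U a : Set ↥(pullback f (g a)))) ∧
        ∀ a, IsOpenImmersion ((U a).ι ≫ pullback.snd f (g a))) → Etale f) :=
  ⟨forward f, backward f⟩

end Groth.Agent.S5064
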