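import Groth.Statements.S5065
import Groth.Agent.Lib.IntClosureCompositum37

set_option autoImplicit false
universe u
open Unram

namespace Groth.Agent.S5065

open TensorProduct Groth.Agent.Lib.IntClosureCompositum37

/-- Let A ⊆ A' be integrally closed domains, L a field algebraic over the fraction field of A in which A
embeds and whose integral closure C over A is an étale A-algebra, and L₁ a field in which A' and L
both embed, compatibly over A, and which is generated as a field by the images of A' and L (a
compositum of L with the fraction field of A'; the map A' → L₁ is injective, so that the fraction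
field of A' is a subfield of L₁). Then the integral closure of A' in L₁ is an étale A'-algebra and
coincides with the A'-subalgebra generated by the image of C. -/
theorem result (A A' L L₁ : Type u) [CommRing A] [IsDomain A]
    [IsIntegrallyClosed A] [CommRing A'] [IsDomain A'] [IsIntegrallyClosed A'] [Algebra A A']
    [Field L] [Algebra A L] [Algebra.IsAlgebraic A L] (hinj : Function.Injective (algebraMap A L))
    [Algebra.Etale A ↥(integralClosure A L)]
    [Field L₁] [Algebra A' L₁] [Algebra L L₁] [Algebra A L₁] [IsScalarTower A A' L₁] [IsScalarTower A L L₁]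
    (hinj' : Function.Injective (algebraMap A' L₁))
    (hgen : Subfield.closure (Set.range (algebraMap A' L₁) ∪ Set.range (algebraMap L L₁)) = ⊤) :
    Algebra.Etale A' ↥(integralClosure A' L₁) ∧
      integralClosure A' L₁ = Algebra.adjoin A' ((algebraMap L L₁) '' {x : L | IsIntegral A x}) := by
  classical
  let C := integralClosure A L
  let K' := FractionRing A'
  let ιC : C →ₐ[A] L₁ := (IsScalarTower.toAlgHom A L L₁).comp C.val
  let ψ : A' ⊗[A] C →ₐ[A'] L₁ :=
    Algebra.TensorProduct.lift (Algebra.ofId A' L₁) ιC (fun _ _ => Commute.all _ _)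
  let κ : K' →ₐ[A'] L₁ := IsFractionRing.liftAlgHom (g := Algebra.ofId A' L₁) hinj'
  have hψ : ∀ (a : A') (c : C), ψ (a ⊗ₜ c) = algebraMap A' L₁ a * algebraMap L L₁ c.1 := by
    intro a c
    simp [ψ, ιC]
  have : Algebra.Etale A' (A' ⊗[A] C) := inferInstance
  obtain ⟨-, hart⟩ := reduced_artinian A' (A' ⊗[A] C) K'
  have hgen' : Subfield.closure (Set.range ψ ∪ Set.range κ) = ⊤ := by
    rw [eq_top_iff, ← hgen, Subfield.closure_le]
    rintro x (⟨a, rfl⟩ | ⟨l, rfl⟩)
    · apply Subfield.subset_closure
      left
      exact ⟨a ⊗ₜ 1, by rw [hψ]; simp⟩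
    · obtain ⟨a, ha0, haint⟩ :=
        (Algebra.IsAlgebraic.isAlgebraic (R := A) l).exists_integral_multiple
      have h1 : algebraMap L L₁ (a • l) ∈ Subfield.closure (Set.range ψ ∪ Set.range κ) := by
        apply Subfield.subset_closure
        left
        exact ⟨1 ⊗ₜ ⟨a • l, haint⟩, by rw [hψ]; simp⟩
      have h2 : algebraMap L L₁ (algebraMap A L a) ∈
          Subfield.closure (Set.range ψ ∪ Set.range κ) := by
        apply Subfield.subset_closure
        left
        refine ⟨algebraMap A A' a ⊗ₜ 1, ?_⟩
        rw [hψ, ← IsScalarTower.algebraMap_apply A A' L₁, ← IsScalarTower.algebraMap_apply A L L₁]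
        simp
      have h3 : algebraMap A L a ≠ 0 := fun h => ha0 (hinj (by rw [h, map_zero]))
      have h4 : algebraMap L L₁ l =
          (algebraMap L L₁ (algebraMap A L a))⁻¹ * algebraMap L L₁ (a • l) := by
        rw [Algebra.smul_def, map_mul, ← mul_assoc, inv_mul_cancel₀ ((map_ne_zero _).mpr h3),
          one_mul]
      rw [h4]
      exact mul_mem (inv_mem h2) h1
  have hsurj := lift_surjective ψ κ hgen'
  obtain ⟨hmain1, e₀, he₀, hψe₀, hker⟩ := main_abstract ψ κ hsurj
  have hψint : ∀ c', IsIntegral A' (ψ c') := fun c' => (Algebra.IsIntegral.isIntegral c').map ψ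
  have hrange : integralClosure A' L₁ = ψ.range := by
    ext x
    constructor
    · intro hx
      obtain ⟨c, hc⟩ := hmain1 x hx
      exact ⟨c, hc⟩
    · rintro ⟨c, rfl⟩
      exact hψint c
  constructor
  · let ψD : A' ⊗[A] C →ₐ[A'] integralClosure A' L₁ :=
      ψ.codRestrict (integralClosure A' L₁) (fun c => hψint c)
    let _ : Algebra (A' ⊗[A] C) (integralClosure A' L₁) := ψD.toRingHom.toAlgebra
    have : IsScalarTower A' (A' ⊗[A] C) (integralClosure A' L₁) :=
      IsScalarTower.of_algebraMap_eq (fun a => (ψD.commutes a).symm)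
    have : IsLocalization.Away e₀ (integralClosure A' L₁) :=
      IsLocalization.away_of_isIdempotentElem_of_mul he₀
        (fun x y => by
          rw [← hker]
          show ψD x = ψD y ↔ _
          rw [← Subtype.coe_inj]
          rfl)
        (fun d => by
          obtain ⟨c, hc⟩ := hmain1 d.1 d.2
          exact ⟨c, Subtype.ext hc⟩)
    have : Algebra.Etale (A' ⊗[A] C) (integralClosure A' L₁) :=
      Algebra.Etale.of_isLocalizationAway e₀
    exact Algebra.Etale.comp A' (A' ⊗[A] C) (integralClosure A' L₁)
  · rw [hrange]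
    apply le_antisymm
    · rintro _ ⟨c', rfl⟩
      induction c' with
      | zero => rw [map_zero]; exact zero_mem _
      | add x y hx hy => rw [map_add]; exact add_mem hx hy
      | tmul a c =>
        show ψ (a ⊗ₜ c) ∈ _
        rw [hψ, ← Algebra.smul_def]
        exact Subalgebra.smul_mem _ (Algebra.subset_adjoin (Set.mem_image_of_mem (algebraMap L L₁)
          (show c.1 ∈ {x : L | IsIntegral A x} from c.2))) a
    · rw [Algebra.adjoin_le_iff]
      rintro _ ⟨x, hx, rfl⟩
      exact ⟨1 ⊗ₜ ⟨x, hx⟩, by show ψ _ = _; rw [hψ]; simp⟩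

end Groth.Agent.S5065
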