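import Groth.Statements.S5068
import Groth.Agent.Lib.H72TransRegFibre
import Groth.Agent.Lib.H14CIOpen
import Groth.Agent.Lib.ArtinianFlatten88
import Mathlib.RingTheory.Nakayama

set_option autoImplicit false
universe u
open CInt

namespace Groth.Agent.S5068

open RingTheory.Sequence in
/-- lifting a list along a ring map, elementwise -/
theorem exists_lift_list {C R : Type*} [CommRing C] [CommRing R] (φ : C →+* R) (J : Ideal C)
    (l : List R) (h : ∀ x ∈ l, ∃ c ∈ J, φ c = x) :
    ∃ l' : List C, (∀ c ∈ l', c ∈ J) ∧ l'.map φ = l := by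
  induction l with
  | nil => exact ⟨[], by simp, rfl⟩
  | cons x l ih =>
    obtain ⟨l', hl', hmap⟩ := ih fun y hy => h y (List.mem_cons_of_mem _ hy)
    obtain ⟨c, hc, hcx⟩ := h x List.mem_cons_self
    refine ⟨c :: l', ?_, by rw [List.map_cons, hcx, hmap]⟩
    intro d hd
    rcases List.mem_cons.mp hd with rfl | hd
    · exact hc
    · exact hl' d hd


/-- Suppose A and C are Noetherian local rings joined by a flat local homomorphism A → C whose closed
fibre C/m_A C is a regular local ring, and consider a local ring B obtained as a quotient of C by an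
ideal J (encoded as a surjective C-algebra B, with J taken to be the kernel). The ideal J admits a
generating sequence that is transversally regular relative to A (each term a non-zero-divisor modulo
the previous ones, and every partial quotient C/(f_1, …, f_j) A-flat) exactly when two things hold:
B is A-flat, and B/m_A B is a complete intersection (meaning its completion is a regular local ring
divided by a regular sequence). -/
theorem result (A C B : Type u) [CommRing A] [IsLocalRing A]
    [IsNoetherianRing A] [CommRing C] [IsLocalRing C] [IsNoetherianRing C] [Algebra A C] [IsLocalHom (algebraMap A C)]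
    [Module.Flat A C] (hreg : IsRegularLocalRing (EGA4.FibRing A C))
    [CommRing B] [IsLocalRing B] [Algebra C B] [Algebra A B] [IsScalarTower A C B] [IsLocalHom (algebraMap A B)]
    (hsurj : Function.Surjective (algebraMap C B)) :
    (∃ rs : List C, Ideal.ofList rs = RingHom.ker (algebraMap C B) ∧ RegImm.IsTransRegularSeq A C rs) ↔
      (Module.Flat A B ∧ Pi1.IsCompleteIntersection (EGA4.FibRing A B)) := by
  classical
  have := hreg
  -- notation
  set J : Ideal C := RingHom.ker (algebraMap C B) with hJ
  -- the map on closed fibres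
  have hmB : EGA4.mB A B = (EGA4.mB A C).map (algebraMap C B) := by
    show (IsLocalRing.maximalIdeal A).map (algebraMap A B) =
      ((IsLocalRing.maximalIdeal A).map (algebraMap A C)).map (algebraMap C B)
    rw [Ideal.map_map, ← IsScalarTower.algebraMap_eq]
  have hle : EGA4.mB A C ≤ (EGA4.mB A B).comap (algebraMap C B) := by
    rw [hmB]
    exact Ideal.le_comap_map
  let π : EGA4.FibRing A C →+* EGA4.FibRing A B := Ideal.quotientMap (EGA4.mB A B) (algebraMap C B) hle
  have hπ : Function.Surjective π := Ideal.quotientMap_surjective hsurj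
  have hkerπ : RingHom.ker π = J.map (Ideal.Quotient.mk (EGA4.mB A C)) := by
    ext x
    obtain ⟨c, rfl⟩ := Ideal.Quotient.mk_surjective x
    rw [RingHom.mem_ker]
    show Ideal.quotientMap (EGA4.mB A B) (algebraMap C B) hle (Ideal.Quotient.mk _ c) = 0 ↔ _
    rw [Ideal.quotientMap_mk, Ideal.Quotient.eq_zero_iff_mem, hmB,
      ← Ideal.mem_comap, Ideal.comap_map_of_surjective _ hsurj,
      Ideal.mem_map_iff_of_surjective _ Ideal.Quotient.mk_surjective]
    constructor
    · intro hc
      obtain ⟨a, ha, b, hb, rfl⟩ := Submodule.mem_sup.mp hc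
      refine ⟨b, ?_, ?_⟩
      · rw [Ideal.mem_comap] at hb
        rw [hJ, RingHom.mem_ker]
        simpa using hb
      · rw [map_add, Ideal.Quotient.eq_zero_iff_mem.mpr ha, zero_add]
    · rintro ⟨b, hb, hbc⟩
      have h1 : c - b ∈ EGA4.mB A C := by
        rw [← Ideal.Quotient.eq_zero_iff_mem, map_sub, hbc, sub_self]
      have h2 : c = (c - b) + b := by ring
      rw [h2]
      refine Submodule.add_mem _ (Submodule.mem_sup_left h1) (Submodule.mem_sup_right ?_)
      rw [Ideal.mem_comap]
      rw [hJ, RingHom.mem_ker] at hb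
      simp [hb]
  -- weak regularity on the fibre: ring form versus module form
  let eq : (C ⧸ ((IsLocalRing.maximalIdeal A).map (algebraMap A C) • (⊤ : Submodule C C))) ≃ₗ[C]
      EGA4.FibRing A C :=
    Submodule.quotEquivOfEq _ _ (by rw [smul_eq_mul, Ideal.mul_top])
  have hwr : ∀ rs : List C,
      RingTheory.Sequence.IsWeaklyRegular (EGA4.FibRing A C)
        (rs.map (Ideal.Quotient.mk (EGA4.mB A C))) ↔
      RingTheory.Sequence.IsWeaklyRegular
        (C ⧸ ((IsLocalRing.maximalIdeal A).map (algebraMap A C) • (⊤ : Submodule C C))) rs := by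
    intro rs
    rw [eq.isWeaklyRegular_congr rs]
    exact RingTheory.Sequence.isWeaklyRegular_map_algebraMap_iff (EGA4.FibRing A C)
      (EGA4.FibRing A C) rs
  constructor
  · rintro ⟨rs, hrs, htr⟩
    -- flatness of `B`
    let eB : (C ⧸ J) ≃ₐ[A] B :=
      Ideal.quotientKerAlgEquivOfSurjective (f := IsScalarTower.toAlgHom A C B) hsurj
    have hflat : Module.Flat A B := by
      have h1 := htr.2 rs.length le_rfl
      rw [List.take_length, hrs] at h1
      exact Module.Flat.of_linearEquiv eB.symm.toLinearEquiv
    refine ⟨hflat, ?_⟩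
    have htr' := (Groth.Agent.Lib.H72TransReg.isTransRegularSeq_iff rs).mp htr
    have hw := Groth.Agent.Lib.H72TransReg.isWeaklyRegular_quot_of_tr
      (IsLocalRing.maximalIdeal A) rs C htr'
    have hw' := (hwr rs).mpr hw
    have hker : Ideal.ofList (rs.map (Ideal.Quotient.mk (EGA4.mB A C))) = RingHom.ker π := by
      rw [hkerπ, ← hrs, Ideal.map_ofList]
    have hregseq : RingTheory.Sequence.IsRegular (EGA4.FibRing A C)
        (rs.map (Ideal.Quotient.mk (EGA4.mB A C))) := by
      refine ⟨hw', ?_⟩
      rw [smul_eq_mul, Ideal.mul_top, hker]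
      exact (RingHom.ker_ne_top π).symm
    exact Groth.Agent.Lib.H14CIOpen.isCompleteIntersection_of_ker_regular π hπ _ hker hregseq
  · rintro ⟨hflat, hCI⟩
    obtain ⟨rbar, hregseq, hker⟩ :=
      (Groth.Agent.Lib.H14CIOpen.isCompleteIntersection_iff_ker π hπ).mp hCI
    -- lift the sequence to `J`
    obtain ⟨rs, hrsJ, hmap⟩ := exists_lift_list (Ideal.Quotient.mk (EGA4.mB A C)) J rbar (by
      intro x hx
      have h1 : x ∈ RingHom.ker π := hker ▸ Ideal.subset_span hx
      rw [hkerπ, Ideal.mem_map_iff_of_surjective _ Ideal.Quotient.mk_surjective] at h1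
      exact h1)
    have hrs_le : Ideal.ofList rs ≤ J := Ideal.span_le.mpr fun c hc => hrsJ c hc
    -- `J ⊆ (rs) + m_A J`
    have hinf : J ⊓ EGA4.mB A C ≤ EGA4.mB A C • J := by
      have h := Groth.Agent.Lib.ArtinianFlatten88.ker_inf_smul_le
        (IsScalarTower.toAlgHom A C B).toLinearMap hsurj (IsLocalRing.maximalIdeal A)
      intro y hy
      have hk : y ∈ LinearMap.ker (IsScalarTower.toAlgHom A C B).toLinearMap := by
        rw [LinearMap.mem_ker]
        exact hy.1
      have hy2 : y ∈ (IsLocalRing.maximalIdeal A) • (⊤ : Submodule A C) := by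
        have := Ideal.smul_restrictScalars (R := A) (S := C) (IsLocalRing.maximalIdeal A)
          (⊤ : Submodule C C)
        rw [Submodule.restrictScalars_top] at this
        rw [← this, Submodule.restrictScalars_mem, smul_eq_mul, Ideal.mul_top]
        exact hy.2
      have h2 := h ⟨hk, hy2⟩
      have h3 : LinearMap.ker (IsScalarTower.toAlgHom A C B).toLinearMap =
          (J : Submodule C C).restrictScalars A := by
        ext z
        rfl
      rw [h3, ← Ideal.smul_restrictScalars, Submodule.restrictScalars_mem] at h2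
      exact h2
    have hsup : (J : Submodule C C) ≤ Ideal.ofList rs ⊔ EGA4.mB A C • (J : Submodule C C) := by
      intro c hc
      have h1 : Ideal.Quotient.mk (EGA4.mB A C) c ∈ RingHom.ker π := by
        rw [hkerπ]
        exact Ideal.mem_map_of_mem _ hc
      rw [← hker, ← hmap, ← Ideal.map_ofList, ← Ideal.mem_comap,
        Ideal.comap_map_of_surjective _ Ideal.Quotient.mk_surjective] at h1
      obtain ⟨a, ha, b, hb, rfl⟩ := Submodule.mem_sup.mp h1
      have hb' : b ∈ EGA4.mB A C := by
        rw [Ideal.mem_comap] at hb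
        exact Ideal.Quotient.eq_zero_iff_mem.mp (by simpa using hb)
      have hbJ : b ∈ J := by
        have : b = (a + b) - a := by ring
        rw [this]
        exact J.sub_mem hc (hrs_le ha)
      exact Submodule.add_mem _ (Submodule.mem_sup_left ha)
        (Submodule.mem_sup_right (hinf ⟨hbJ, hb'⟩))
    have hjac : EGA4.mB A C ≤ Ideal.jacobson ⊥ := by
      rw [IsLocalRing.jacobson_eq_maximalIdeal ⊥ bot_ne_top]
      exact IsLocalRing.map_maximalIdeal_le (algebraMap A C)
    have hJle : J ≤ Ideal.ofList rs :=
      Submodule.le_of_le_smul_of_le_jacobson_bot (IsNoetherian.noetherian J) hjac hsup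
    have hJeq : Ideal.ofList rs = J := le_antisymm hrs_le hJle
    refine ⟨rs, hJeq, ?_⟩
    rw [Groth.Agent.Lib.H72TransReg.isTransRegularSeq_iff]
    refine (Groth.Agent.Lib.H72TransReg.tr_iff_isWeaklyRegular_fibre C rs).mpr ?_
    rw [← hwr, hmap]
    exact hregseq.toIsWeaklyRegular

end Groth.Agent.S5068
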