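import Groth.Statements.S5071
import Groth.Agent.Lib.QuasiRegFlat89
import Groth.Agent.S5802

set_option autoImplicit false
universe u
open CInt

namespace Groth.Agent.S5071


open Groth.Agent.Lib.QuasiRegFlat89 in
theorem aux (A B : Type u) [CommRing A] [CommRing B] [Algebra A B] (I : Ideal B)
    (hB : Module.Flat A B) (h : ∀ k, Module.Flat A (B ⧸ I ^ k)) (n m : ℕ) (hnm : n < m) :
    Module.Flat A (RestrictScalars A B
      (↥(I ^ n) ⧸ (Submodule.comap (I ^ n).subtype (I ^ m)))) ∧
      ∀ (q : Ideal B) [q.IsPrime],
        Module.Flat A (RestrictScalars A B (LocalizedModule q.primeCompl ↥(I ^ n))) := by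
  have := h n
  have := h m
  constructor
  · have := flat_pow_quotient (A := A) I n m hnm.le
    exact flat_restrictScalars _
  · intro q _
    have := flat_ideal_of_flat_quotient (A := A) (I ^ n)
    have := flat_localizedModule (A := A) q.primeCompl ↥(I ^ n)
    exact flat_restrictScalars _

/-- Let B be an A-algebra and J an ideal of B generated by a sequence which is transversally regular
relative to A. Then for n < m the module J^n/J^m is flat over A, and for every prime q of B
containing J the localisation (J^n)_q is flat over A (modules regarded as A-modules by restriction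
of scalars). -/
theorem result (A B : Type u) [CommRing A] [CommRing B] [Algebra A B]
    (rs : List B) (hrs : RegImm.IsTransRegularSeq A B rs) (n m : ℕ) (hnm : n < m) :
    Module.Flat A (RestrictScalars A B
      (↥(Ideal.ofList rs ^ n) ⧸ (Submodule.comap (Ideal.ofList rs ^ n).subtype (Ideal.ofList rs ^ m)))) ∧
      ∀ (q : Ideal B) [q.IsPrime], Ideal.ofList rs ≤ q →
        Module.Flat A (RestrictScalars A B (LocalizedModule q.primeCompl ↥(Ideal.ofList rs ^ n))) := by
  obtain ⟨hreg, hfl⟩ := hrs
  have hJ : Ideal.ofList rs = Ideal.span (Set.range rs.get) := by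
    rw [← Groth.Agent.Lib.QuasiReg97.ofList_ofFn, List.ofFn_get]
  have hq : CAlgX.IsQuasiRegular rs.get :=
    Groth.Agent.S5802.result B rs.length rs.get (by rwa [List.ofFn_get])
  have hflJ : Module.Flat A (B ⧸ Ideal.span (Set.range rs.get)) := by
    have := hfl rs.length le_rfl
    rwa [List.take_length, hJ] at this
  have hflB : Module.Flat A B := by
    have h0 := hfl 0 (Nat.zero_le _)
    rw [List.take_zero] at h0
    have hbot : Ideal.ofList ([] : List B) = ⊥ := by
      simp [Ideal.ofList]
    rw [hbot] at h0
    exact Module.Flat.of_linearEquiv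
      ((AlgEquiv.quotientBot A B).toLinearEquiv.symm)
  have hpow : ∀ k, Module.Flat A (B ⧸ Ideal.ofList rs ^ k) := by
    rw [hJ]
    exact Groth.Agent.Lib.QuasiRegFlat89.flat_quotient_pow (A := A) rs.get hq
  obtain ⟨h1, h2⟩ := aux A B (Ideal.ofList rs) hflB hpow n m hnm
  exact ⟨h1, fun q _ _ => h2 q⟩

end Groth.Agent.S5071
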