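import Groth.Statements.S5072
import Groth.Agent.Lib.HenselizationTensorLocal61
import Groth.Agent.Lib.StrictHenselTensorCore61

set_option autoImplicit false
open scoped TensorProduct
universe u
open Hensel

namespace Groth.Agent.S5072

/-- Case of a local ring A and a local finite A-algebra B: let S be a strict henselization of A and T a
strict henselization of B. Then there is a maximal ideal q of B ⊗_A S such that T is isomorphic, as
a B-algebra, to the local ring (B ⊗_A S)_q. -/
theorem result (A B S T : Type u) [CommRing A] [IsLocalRing A]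
    [CommRing B] [IsLocalRing B] [Algebra A B] [Module.Finite A B]
    [CommRing S] [IsLocalRing S] [Algebra A S] [IsLocalHom (algebraMap A S)] [Hensel.IsStrictHenselization A S]
    [CommRing T] [IsLocalRing T] [Algebra B T] [IsLocalHom (algebraMap B T)] [Hensel.IsStrictHenselization B T] :
    ∃ (q : Ideal (B ⊗[A] S)) (_ : q.IsMaximal), Nonempty (Localization.AtPrime q ≃ₐ[B] T) := by
  classical
  -- `A → B` is local
  have hintAB : Algebra.IsIntegral A B := inferInstance
  have hlocAB : IsLocalHom (algebraMap A B) := by
    have hmax : ((IsLocalRing.maximalIdeal B).comap (algebraMap A B)).IsMaximal :=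
      Ideal.isMaximal_comap_of_isIntegral_of_isMaximal (IsLocalRing.maximalIdeal B)
    have h1 := IsLocalRing.eq_maximalIdeal hmax
    refine ⟨fun a ha => ?_⟩
    by_contra ha'
    have h2 : a ∈ IsLocalRing.maximalIdeal A := ha'
    rw [← h1] at h2
    exact h2 ha
  -- the map `S → T`
  let f : A →+* T := (algebraMap B T).comp (algebraMap A B)
  have hf : IsLocalHom f := RingHom.isLocalHom_comp _ _
  let _ : Algebra A T := f.toAlgebra
  have tABT : IsScalarTower A B T := .of_algebraMap_eq fun _ => rfl
  have hfloc : IsLocalHom (algebraMap A T) := hf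
  have hscS : IsSepClosure (IsLocalRing.ResidueField A) (IsLocalRing.ResidueField S) :=
    Hensel.IsStrictHenselization.isSepClosure
  have hsepS : Algebra.IsSeparable (IsLocalRing.ResidueField A) (IsLocalRing.ResidueField S) :=
    hscS.separable
  have hscT : IsSepClosed (IsLocalRing.ResidueField T) :=
    (Hensel.IsStrictHenselization.isSepClosure (R := B) (S := T)).sep_closed
  let τ₀ : IsLocalRing.ResidueField S →ₐ[IsLocalRing.ResidueField A] IsLocalRing.ResidueField T :=
    IsSepClosed.lift
  have hT : HenselianLocalRing T := Hensel.IsStrictHenselization.henselian (R := B)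
  have hτ : (τ₀ : IsLocalRing.ResidueField S →+* IsLocalRing.ResidueField T).comp
      (IsLocalRing.ResidueField.map (algebraMap A S)) = IsLocalRing.ResidueField.map f := by
    ext c
    obtain ⟨a, rfl⟩ := IsLocalRing.residue_surjective c
    have h1 : IsLocalRing.ResidueField.map (algebraMap A S) (IsLocalRing.residue A a)
        = algebraMap (IsLocalRing.ResidueField A) (IsLocalRing.ResidueField S)
          (IsLocalRing.residue A a) := rfl
    rw [RingHom.comp_apply, h1]
    change τ₀ _ = _
    rw [τ₀.commutes]
    rfl
  obtain ⟨g, ⟨hg, hgres⟩, -⟩ :=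
    Hensel.IsStrictHenselization.universal (R := A) (S := S) T f
      (τ₀ : IsLocalRing.ResidueField S →+* IsLocalRing.ResidueField T) hτ
  have hgloc : IsLocalHom g :=
    Groth.Agent.Lib.StrictHenselTensorCore61.isLocalHom_of_comp A S T g f hg
  let _ : Algebra S T := g.toAlgebra
  have tAST : IsScalarTower A S T :=
    .of_algebraMap_eq fun a => (congrArg (fun φ : A →+* T => φ a) hg).symm
  have hgloc' : IsLocalHom (algebraMap S T) := hgloc
  -- apply the local machinery
  have hSh : HenselianLocalRing S := Hensel.IsStrictHenselization.henselian (R := A)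
  have hlies : (Groth.Agent.Lib.HenselizationTensorPrime61.Q A B S T).LiesOver
      (IsLocalRing.maximalIdeal S) :=
    Groth.Agent.Lib.HenselizationTensorPrime61.Q_liesOver A B S T
  have hintL : Algebra.IsIntegral S
      (Localization.AtPrime (Groth.Agent.Lib.HenselizationTensorPrime61.Q A B S T)) :=
    Groth.Agent.Lib.HenselIntegralLocalization61.isIntegral_localization_atPrime S (S ⊗[A] B) _
  obtain ⟨hbij, -⟩ :=
    Groth.Agent.Lib.HenselizationTensorLocal61.isIntegral_of_isIntegral_localization_local
      A B S T hintL
  set Q := Groth.Agent.Lib.HenselizationTensorPrime61.Q A B S T with hQ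
  -- `Q` is maximal
  have hQmax : Q.IsMaximal := by
    have h1 : Q.comap (algebraMap S (S ⊗[A] B)) = IsLocalRing.maximalIdeal S :=
      (hlies.over).symm
    exact Ideal.isMaximal_of_isIntegral_of_isMaximal_comap Q
      (h1 ▸ IsLocalRing.maximalIdeal.isMaximal S)
  let c : B ⊗[A] S ≃+* S ⊗[A] B := (Algebra.TensorProduct.comm A B S).toRingEquiv
  let q : Ideal (B ⊗[A] S) := Q.comap c
  have hqmax : q.IsMaximal := Ideal.comap_isMaximal_of_surjective _ c.surjective
  have hqprime : q.IsPrime := hqmax.isPrime
  refine ⟨q, hqmax, ?_⟩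
  let e₁ : Localization.AtPrime q ≃+* Localization.AtPrime Q :=
    Localization.localRingEquiv q Q c rfl
  let e₂ : Localization.AtPrime Q ≃+* T :=
    RingEquiv.ofBijective (Groth.Agent.Lib.HenselizationTensorPrime61.Phi A B S T) hbij
  refine ⟨AlgEquiv.ofRingEquiv (f := e₁.trans e₂) fun b => ?_⟩
  rw [IsScalarTower.algebraMap_apply B (B ⊗[A] S) (Localization.AtPrime q),
    Algebra.TensorProduct.algebraMap_apply]
  change Groth.Agent.Lib.HenselizationTensorPrime61.Phi A B S T
    (Localization.localRingHom q Q c rfl (algebraMap (B ⊗[A] S) (Localization.AtPrime q)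
      (algebraMap B B b ⊗ₜ[A] (1 : S)))) = algebraMap B T b
  rw [Localization.localRingHom_to_map]
  change Groth.Agent.Lib.HenselizationTensorPrime61.Phi A B S T
    (algebraMap (S ⊗[A] B) (Localization.AtPrime Q) ((1 : S) ⊗ₜ[A] b)) = algebraMap B T b
  rw [Groth.Agent.Lib.HenselizationTensorPrime61.Phi_algebraMap,
    Groth.Agent.Lib.HenselizationTensorPrime61.phi_tmul, map_one, one_mul]

end Groth.Agent.S5072
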