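import Groth.Statements.S5073
import Mathlib.RingTheory.Ideal.MinimalPrime.Localization
import Mathlib.RingTheory.Ideal.MinimalPrime.Noetherian
import Mathlib.RingTheory.Ideal.Operations

set_option autoImplicit false
universe u
open EGA418

namespace Groth.Agent.S5073

section aux
variable {A : Type u} [CommRing A]

/-- For a minimal prime `q` and `s ∈ q`, some power of `s` is killed by an element outside `q`. -/
lemma exists_mul_pow_eq_zero {q : Ideal A} (hq : q ∈ minimalPrimes A) {s : A} (hs : s ∈ q) :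
    ∃ t : A, t ∉ q ∧ ∃ n : ℕ, t * s ^ n = 0 := by
  have : q.IsPrime := hq.1.1
  have h1 := IsLocalization.AtPrime.radical_map_of_mem_minimalPrimes
    (A := Localization.AtPrime q) q ⊥ hq
  have h2 : algebraMap A (Localization.AtPrime q) s ∈
      ((⊥ : Ideal A).map (algebraMap A (Localization.AtPrime q))).radical := by
    rw [h1]
    exact Ideal.mem_map_of_mem _ hs
  obtain ⟨n, hn⟩ := h2
  rw [Ideal.map_bot, Ideal.mem_bot, ← map_pow] at hn
  obtain ⟨⟨t, ht⟩, h⟩ := (IsLocalization.map_eq_zero_iff q.primeCompl _ _).mp hn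
  exact ⟨t, ht, n, h⟩

/-- The kernel of the localisation map at `p` is not contained in a minimal prime not below `p`. -/
lemma ker_not_le {p : Ideal A} [p.IsPrime] {q : Ideal A} (hq : q ∈ minimalPrimes A)
    (hqp : ¬ q ≤ p) : ¬ RingHom.ker (algebraMap A (Localization.AtPrime p)) ≤ q := by
  intro hle
  obtain ⟨s, hsq, hsp⟩ := Set.not_subset.mp hqp
  obtain ⟨t, htq, n, htn⟩ := exists_mul_pow_eq_zero hq hsq
  apply htq
  apply hle
  rw [RingHom.mem_ker, IsLocalization.map_eq_zero_iff p.primeCompl]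
  refine ⟨⟨s ^ n, ?_⟩, by simpa [mul_comm] using htn⟩
  exact fun h => hsp (Ideal.IsPrime.mem_of_pow_mem inferInstance n h)

/-- An ideal contained exactly in the members of `S` not containing `x`. -/
lemma exists_prod (S : Finset (Ideal A)) (hprime : ∀ q ∈ S, q.IsPrime) (x : A) :
    ∃ P : Ideal A, (∀ q ∈ S, x ∉ q → P ≤ q) ∧
      ∀ q : Ideal A, q.IsPrime → P ≤ q → ∃ q' ∈ S, x ∉ q' ∧ q' ≤ q := by
  classical
  refine ⟨(S.filter (fun q => x ∉ q)).prod id, fun q hqS hxq => ?_, fun q hq hle => ?_⟩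
  · exact (Ideal.IsPrime.prod_le (hprime q hqS)).mpr
      ⟨q, Finset.mem_filter.mpr ⟨hqS, hxq⟩, le_rfl⟩
  · obtain ⟨q', hq', hle'⟩ := (Ideal.IsPrime.prod_le hq).mp hle
    obtain ⟨hq'S, hxq'⟩ := Finset.mem_filter.mp hq'
    exact ⟨q', hq'S, hxq', hle'⟩

/-- Prime avoidance for a coset, for a finite set of pairwise incomparable primes. -/
lemma avoid (K : Ideal A) (S : Finset (Ideal A)) (hprime : ∀ q ∈ S, q.IsPrime)
    (hinc : ∀ q ∈ S, ∀ q' ∈ S, q' ≤ q → q ≤ q') (hK : ∀ q ∈ S, ¬ K ≤ q) (x : A) :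
    ∃ k ∈ K, ∀ q ∈ S, x + k ∉ q := by
  classical
  obtain ⟨P, hP1, hP2⟩ := exists_prod S hprime x
  have hnot : ¬ (((K * P : Ideal A) : Set A) ⊆
      ⋃ q ∈ (↑(S.filter (fun q => x ∈ q)) : Set (Ideal A)), (q : Set A)) := by
    rw [Ideal.subset_union_prime (f := fun q : Ideal A => q) ⊥ ⊥
      (fun q hq _ _ => hprime q (Finset.mem_filter.mp hq).1)]
    rintro ⟨q, hq, hle⟩
    obtain ⟨hqS, hxq⟩ := Finset.mem_filter.mp hq
    have hqp := hprime q hqS
    rcases (Ideal.IsPrime.mul_le hqp).mp hle with h | h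
    · exact hK q hqS h
    · obtain ⟨q', hq'S, hxq', hle'⟩ := hP2 q hqp h
      exact hxq' (hinc q hqS q' hq'S hle' hxq)
  obtain ⟨k, hkK', hk⟩ := Set.not_subset.mp hnot
  have hkK : k ∈ K := Ideal.mul_le_left (I := K) (J := P) hkK'
  have hkP : k ∈ P := Ideal.mul_le_right (I := K) (J := P) hkK'
  refine ⟨k, hkK, fun q hqS hmem => ?_⟩
  by_cases hxq : x ∈ q
  · apply hk
    have hkq : k ∈ q := by
      have := q.sub_mem hmem hxq
      simpa using this
    simp only [Set.mem_iUnion, SetLike.mem_coe]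
    exact ⟨q, Finset.mem_filter.mpr ⟨hqS, hxq⟩, hkq⟩
  · have hkq : k ∈ q := hP1 q hqS hxq hkP
    apply hxq
    have := q.sub_mem hmem hkq
    simpa using this

end aux

/-- Let A be a Noetherian local ring, p a prime ideal and x an element of A. Then there is an element x'
of A whose image in A_p equals that of x and which belongs to no minimal prime ideal of A not
contained in p. -/
theorem result (A : Type u) [CommRing A] [IsNoetherianRing A] [IsLocalRing A]
    (p : Ideal A) [p.IsPrime] (x : A) :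
    ∃ x' : A, algebraMap A (Localization.AtPrime p) x' = algebraMap A (Localization.AtPrime p) x ∧
      ∀ q ∈ minimalPrimes A, ¬ q ≤ p → x' ∉ q := by
  classical
  have hfin : {q ∈ minimalPrimes A | ¬ q ≤ p}.Finite :=
    (minimalPrimes.finite_of_isNoetherianRing A).subset (fun q hq => hq.1)
  have hSmem : ∀ q, q ∈ hfin.toFinset ↔ q ∈ minimalPrimes A ∧ ¬ q ≤ p := by
    intro q
    rw [Set.Finite.mem_toFinset]
    exact Iff.rfl
  obtain ⟨k, hkK, hk⟩ := avoid (RingHom.ker (algebraMap A (Localization.AtPrime p))) hfin.toFinset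
    (fun q hq => ((hSmem q).mp hq).1.1.1)
    (fun q hq q' hq' hle => ((hSmem q).mp hq).1.2 ⟨((hSmem q').mp hq').1.1.1, bot_le⟩ hle)
    (fun q hq => ker_not_le ((hSmem q).mp hq).1 ((hSmem q).mp hq).2) x
  refine ⟨x + k, ?_, fun q hq hqp => hk q ((hSmem q).mpr ⟨hq, hqp⟩)⟩
  rw [map_add, (RingHom.mem_ker).mp hkK, add_zero]

end Groth.Agent.S5073
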