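import Groth.Statements.S5075
import Groth.Agent.Lib.OpenImmFibres

set_option autoImplicit false
open CategoryTheory AlgebraicGeometry
universe u
open Unram

namespace Groth.Agent.S5075

section helpers

open CategoryTheory.Limits

/-- Uniqueness of lifts along a surjective morphism for formally unramified `p`. -/
lemma lift_unique {X S S' S'₀ : Scheme.{u}} (p : X ⟶ S) [LocallyOfFiniteType p]
    [FormallyUnramified p] (i : S'₀ ⟶ S') [Surjective i] (f f' : S' ⟶ X)
    (hp : f ≫ p = f' ≫ p) (hi : i ≫ f = i ≫ f') : f = f' := by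
  let t : S' ⟶ pullback p p := pullback.lift f f' hp
  have ht1 : t ≫ pullback.fst p p = f := pullback.lift_fst _ _ _
  have ht2 : t ≫ pullback.snd p p = f' := pullback.lift_snd _ _ _
  have hopen : IsOpenImmersion (pullback.snd (pullback.diagonal p) t) := inferInstance
  have hcond : (i ≫ f) ≫ pullback.diagonal p = i ≫ t := by
    apply pullback.hom_ext
    · rw [Category.assoc, pullback.diagonal_fst, Category.comp_id, Category.assoc, ht1]
    · rw [Category.assoc, pullback.diagonal_snd, Category.comp_id, Category.assoc, ht2, hi]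
  let l : S'₀ ⟶ pullback (pullback.diagonal p) t := pullback.lift (i ≫ f) i hcond
  have hl : l ≫ pullback.snd (pullback.diagonal p) t = i := pullback.lift_snd _ _ _
  have hsurj : Surjective (pullback.snd (pullback.diagonal p) t) := by
    refine ⟨fun s ↦ ?_⟩
    obtain ⟨s₀, rfl⟩ := Surjective.surj (f := i) s
    exact ⟨l s₀, by rw [← Scheme.Hom.comp_apply, hl]⟩
  have hiso : IsIso (pullback.snd (pullback.diagonal p) t) :=
    (isIso_iff_isOpenImmersion_and_surjective _).mpr ⟨hopen, hsurj⟩
  have h1 : pullback.fst (pullback.diagonal p) t = pullback.snd (pullback.diagonal p) t ≫ f := by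
    have := congr($(pullback.condition (f := pullback.diagonal p) (g := t)) ≫ pullback.fst p p)
    rwa [Category.assoc, pullback.diagonal_fst, Category.comp_id, Category.assoc, ht1] at this
  have h2 : pullback.fst (pullback.diagonal p) t = pullback.snd (pullback.diagonal p) t ≫ f' := by
    have := congr($(pullback.condition (f := pullback.diagonal p) (g := t)) ≫ pullback.snd p p)
    rwa [Category.assoc, pullback.diagonal_snd, Category.comp_id, Category.assoc, ht2] at this
  rw [← cancel_epi (pullback.snd (pullback.diagonal p) t), ← h1, ← h2]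

/-- If `a ≫ b = c` and the residue field map of `c` at `s` is surjective, then so is that of `b`
at `a s`. -/
lemma surjective_residueFieldMap_of_comp {A B C : Scheme.{u}} (a : A ⟶ B) (b : B ⟶ C) (c : A ⟶ C)
    (h : a ≫ b = c) (s : A) (hc : Function.Surjective (c.residueFieldMap s).hom) :
    Function.Surjective (b.residueFieldMap (a s)).hom := by
  subst h
  rw [Scheme.residueFieldMap_comp] at hc
  have hc' : Function.Surjective ((a.residueFieldMap s).hom ∘ (b.residueFieldMap (a s)).hom) := hc
  have hinj : Function.Injective (a.residueFieldMap s).hom := RingHom.injective _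
  intro y
  obtain ⟨z, hz⟩ := hc' ((a.residueFieldMap s).hom y)
  exact ⟨z, hinj hz⟩

lemma surjective_residueFieldMap_of_surjectiveOnStalks {A B : Scheme.{u}} (i : A ⟶ B)
    [SurjectiveOnStalks i] (s : A) : Function.Surjective (i.residueFieldMap s).hom := by
  have e := Scheme.residue_residueFieldMap i s
  have h1 : Function.Surjective ((A.residue s).hom ∘ (i.stalkMap s).hom) :=
    (Scheme.residue_surjective _ _).comp (i.stalkMap_surjective s)
  have h2 : Function.Surjective ((i.residueFieldMap s).hom ∘ (B.residue (i s)).hom) := by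
    have e' := congrArg (fun φ ↦ (φ.hom : _ → _)) e
    simp only [CommRingCat.hom_comp, RingHom.coe_comp] at e'
    rw [e']
    exact h1
  exact Function.Surjective.of_comp h2

theorem exists_lift {X S S' S'₀ : Scheme.{u}} (p : X ⟶ S) [Etale p]
    (g : S' ⟶ S) (i : S'₀ ⟶ S') [IsClosedImmersion i] [Surjective i]
    (f₀ : S'₀ ⟶ X) (h₀ : f₀ ≫ p = i ≫ g) :
    ∃ f : S' ⟶ X, f ≫ p = g ∧ i ≫ f = f₀ := by
  let p' := pullback.snd p g
  let q := pullback.fst p g
  have hpq : q ≫ p = p' ≫ g := pullback.condition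
  let σ₀ : S'₀ ⟶ pullback p g := pullback.lift f₀ i h₀
  have hσq : σ₀ ≫ q = f₀ := pullback.lift_fst _ _ _
  have hσp : σ₀ ≫ p' = i := pullback.lift_snd _ _ _
  -- the base change to S'₀
  let j := pullback.fst p' i
  let p'₀ := pullback.snd p' i
  let τ : S'₀ ⟶ pullback p' i := pullback.lift σ₀ (𝟙 _) (by rw [hσp, Category.id_comp])
  have hτj : τ ≫ j = σ₀ := pullback.lift_fst _ _ _
  have hτp : τ ≫ p'₀ = 𝟙 _ := pullback.lift_snd _ _ _
  have hτet : Etale τ := by
    have : Etale (τ ≫ p'₀) := by rw [hτp]; infer_instance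
    exact Etale.of_comp τ p'₀
  have hτmono : Mono τ := mono_of_mono_fac hτp
  have hτopen : IsOpenImmersion τ := IsOpenImmersion.of_flat_of_mono τ
  have hjsurj : Surjective j := MorphismProperty.of_isPullback (P := @Surjective)
    (IsPullback.of_hasPullback p' i).flip inferInstance
  have hjbij : Function.Bijective j := ⟨j.isClosedEmbedding.injective, hjsurj.surj⟩
  have hopen : IsOpen (Set.range σ₀) := by
    have h1 : Set.range σ₀ = j '' Set.range τ := by
      rw [← Set.range_comp]
      exact congrArg Set.range (congrArg (fun f : S'₀ ⟶ pullback p g ↦ (f : S'₀ → _)) hτj.symm)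
    rw [h1, ← isClosed_compl_iff, ← Set.image_compl_eq hjbij]
    exact j.isClosedEmbedding.isClosedMap _ hτopen.base_open.isOpen_range.isClosed_compl
  let U : (pullback p g).Opens := ⟨Set.range σ₀, hopen⟩
  have hrange : Set.range σ₀ ⊆ Set.range U.ι := by
    rw [Scheme.Opens.range_ι]
    exact subset_rfl
  let σ₀' : S'₀ ⟶ U := IsOpenImmersion.lift U.ι σ₀ hrange
  have hσ' : σ₀' ≫ U.ι = σ₀ := IsOpenImmersion.lift_fac _ _ _
  have hσ'surj : Function.Surjective σ₀' := by
    rintro ⟨x, s₀, rfl⟩
    refine ⟨s₀, ?_⟩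
    apply U.ι.isOpenEmbedding.injective
    rw [← Scheme.Hom.comp_apply, hσ']
    rfl
  let u : U.toScheme ⟶ S' := U.ι ≫ p'
  have hσu : σ₀' ≫ u = i := by rw [← Category.assoc, hσ', hσp]
  have hu_inj : Function.Injective u := by
    intro y₁ y₂ h
    obtain ⟨s₁, rfl⟩ := hσ'surj y₁
    obtain ⟨s₂, rfl⟩ := hσ'surj y₂
    rw [← Scheme.Hom.comp_apply, ← Scheme.Hom.comp_apply, hσu] at h
    rw [i.isClosedEmbedding.injective h]
  have hu_ui : UniversallyInjective u := by
    refine ((tfae_universallyInjective u).out 0 2 rfl rfl).mpr ⟨hu_inj, fun y ↦ ?_⟩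
    obtain ⟨s₀, rfl⟩ := hσ'surj y
    have hs : Function.Surjective (u.residueFieldMap (σ₀' s₀)).hom :=
      surjective_residueFieldMap_of_comp σ₀' u i hσu s₀
        (surjective_residueFieldMap_of_surjectiveOnStalks i s₀)
    let _ := (u.residueFieldMap (σ₀' s₀)).hom.toAlgebra
    have hs' : Function.Surjective
        (algebraMap (S'.residueField (u (σ₀' s₀))) (U.toScheme.residueField (σ₀' s₀))) := hs
    show IsPurelyInseparable (S'.residueField (u (σ₀' s₀))) (U.toScheme.residueField (σ₀' s₀))
    rw [isPurelyInseparable_iff]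
    intro b
    obtain ⟨a, rfl⟩ := hs' b
    exact ⟨isIntegral_algebraMap, fun _ ↦ ⟨a, rfl⟩⟩
  have hu_open : IsOpenImmersion u :=
    Groth.Agent.Lib.OpenImmFibres.isOpenImmersion_of_etale_of_universallyInjective u
  have hu_surj : Surjective u := by
    refine ⟨fun s ↦ ?_⟩
    obtain ⟨s₀, rfl⟩ := Surjective.surj (f := i) s
    exact ⟨σ₀' s₀, by rw [← Scheme.Hom.comp_apply, hσu]⟩
  have hu_iso : IsIso u := (isIso_iff_isOpenImmersion_and_surjective _).mpr ⟨hu_open, hu_surj⟩
  refine ⟨inv u ≫ U.ι ≫ q, ?_, ?_⟩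
  · rw [Category.assoc, Category.assoc, hpq, ← Category.assoc U.ι, IsIso.inv_hom_id_assoc]
  · have h1 : i ≫ inv u = σ₀' := by rw [← hσu, Category.assoc, IsIso.hom_inv_id, Category.comp_id]
    rw [← Category.assoc, h1, ← Category.assoc, hσ', hσq]

end helpers

/-- Let p : X ⟶ S be étale, g : S' ⟶ S a morphism and i : S'₀ ⟶ S' a surjective closed immersion (a
closed subscheme with the same underlying space). Then for every f₀ : S'₀ ⟶ X over S there is
exactly one f : S' ⟶ X over S with i ≫ f = f₀. -/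
theorem result {X S S' S'₀ : Scheme.{u}} (p : X ⟶ S) [Etale p]
    (g : S' ⟶ S) (i : S'₀ ⟶ S') [IsClosedImmersion i] [Surjective i]
    (f₀ : S'₀ ⟶ X) (h₀ : f₀ ≫ p = i ≫ g) :
    ∃! f : S' ⟶ X, f ≫ p = g ∧ i ≫ f = f₀ := by
  obtain ⟨f, hf1, hf2⟩ := exists_lift p g i f₀ h₀
  refine ⟨f, ⟨hf1, hf2⟩, fun f' ⟨hf1', hf2'⟩ ↦ ?_⟩
  exact lift_unique p i f' f (hf1'.trans hf1.symm) (hf2'.trans hf2.symm)

end Groth.Agent.S5075
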