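import Groth.Statements.S5076
import Mathlib

set_option autoImplicit false
universe u
open Unram

namespace Groth.Agent.S5076


section
variable {A C : Type u} [CommRing A] [CommRing C] [Algebra A C] [Module.Finite A C]
  (B : Subalgebra A C) (r : Ideal C) [r.IsMaximal] (u : C) (huB : u ∈ B)
  (hu₁ : ∀ r' : Ideal C, r'.IsMaximal → r' ≠ r → u ∈ r') (hu₂ : u ∉ r)

include huB hu₁ hu₂ in
/-- (*) every `t ∉ r` has a multiple in `B \ r`. -/
lemma exists_mul_mem (t : C) (ht : t ∉ r) : ∃ c : C, t * c ∈ B ∧ t * c ∉ r := by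
  haveI : Algebra.IsIntegral A C := Algebra.IsIntegral.of_finite A C
  haveI : Algebra.IsIntegral B C := Algebra.IsIntegral.tower_top (R := A)
  have hnmax : (r.comap (algebraMap B C)).IsMaximal :=
    Ideal.isMaximal_comap_of_isIntegral_of_isMaximal r
  by_contra hcon
  push Not at hcon
  have hJ : (Ideal.span {t}).comap (algebraMap B C) ≤ r.comap (algebraMap B C) := by
    intro b hb
    rw [Ideal.mem_comap] at hb ⊢
    obtain ⟨c, hc⟩ := Ideal.mem_span_singleton'.mp hb
    by_contra hbr
    have h1 : t * c ∈ B := by rw [mul_comm, hc]; exact b.2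
    have := hcon c h1
    rw [mul_comm, hc] at this
    exact hbr this
  obtain ⟨Q, hQ, hQp, hQc⟩ := Ideal.exists_ideal_over_prime_of_isIntegral
    (r.comap (algebraMap B C)) (Ideal.span {t}) hJ
  have hQmax : Q.IsMaximal :=
    Ideal.isMaximal_of_isIntegral_of_isMaximal_comap (R := B) Q (hQc ▸ hnmax)
  have htQ : t ∈ Q := hQ (Ideal.mem_span_singleton_self t)
  have hQr : Q ≠ r := fun h => ht (h ▸ htQ)
  have huQ : u ∈ Q := hu₁ Q hQmax hQr
  have : (⟨u, huB⟩ : B) ∈ Q.comap (algebraMap B C) := huQ
  rw [hQc] at this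
  exact hu₂ this

end



/-- determinant trick -/
lemma det_trick {A C : Type u} [CommRing A] [CommRing C] [Algebra A C] (B : Subalgebra A C)
    (I : Ideal A) (r : Ideal C) [r.IsPrime] (hIr : I.map (algebraMap A C) ≤ r)
    {k : ℕ} (y : Fin k → C) (hy : Submodule.span A (Set.range y) = ⊤)
    (s : C) (hs : s ∈ B) (hsr : s ∉ r) (b : Fin k → C) (hb : ∀ i, b i ∈ B)
    (h : ∀ i, s * y i - b i ∈ I • (⊤ : Submodule A C)) :
    ∃ t ∈ B, t ∉ r ∧ ∀ x : C, t * x ∈ B := by
  classical
  have h' : ∀ i, ∃ a : Fin k → A, (∀ j, a j ∈ I) ∧ ∑ j, a j • y j = s * y i - b i := by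
    intro i
    have := h i
    rw [← hy, Submodule.mem_ideal_smul_span_iff_exists_sum] at this
    obtain ⟨a, ha, hsum⟩ := this
    refine ⟨a, ha, ?_⟩
    rw [← hsum, Finsupp.sum_fintype]
    intro j; exact zero_smul _ _
  choose a haI hasum using h'
  let sB : B := ⟨s, hs⟩
  let MB : Matrix (Fin k) (Fin k) B :=
    sB • (1 : Matrix (Fin k) (Fin k) B) - (Matrix.of a).map (algebraMap A B)
  let M : Matrix (Fin k) (Fin k) C := MB.map (algebraMap B C)
  have hMy : M.mulVec y = b := by
    funext i
    have : ∀ j, M i j * y j = (if i = j then s * y j else 0) - a i j • y j := by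
      intro j
      simp only [M, MB, Matrix.map_apply, Matrix.sub_apply, Matrix.smul_apply, Matrix.of_apply,
        Matrix.one_apply, map_sub, sub_mul]
      rw [← IsScalarTower.algebraMap_apply A B C, ← Algebra.smul_def (a i j) (y j)]
      split_ifs with hij
      · simp [sB]
      · simp
    change ∑ j, M i j * y j = b i
    rw [Finset.sum_congr rfl fun j _ => this j, Finset.sum_sub_distrib, hasum i]
    simp
  refine ⟨(MB.det : C), MB.det.2, ?_, ?_⟩
  · -- not in r
    let π : B →+* C ⧸ r := (Ideal.Quotient.mk r).comp (algebraMap B C)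
    have h1 : π MB.det = (π sB) ^ k := by
      rw [RingHom.map_det]
      have : π.mapMatrix MB = (π sB) • (1 : Matrix (Fin k) (Fin k) (C ⧸ r)) := by
        ext i j
        simp only [RingHom.mapMatrix_apply, Matrix.map_apply, MB, Matrix.sub_apply,
          Matrix.smul_apply, Matrix.of_apply, map_sub, Matrix.one_apply]
        have hz : π (algebraMap A B (a i j)) = 0 := by
          change Ideal.Quotient.mk r (algebraMap B C (algebraMap A B (a i j))) = 0
          rw [← IsScalarTower.algebraMap_apply, Ideal.Quotient.eq_zero_iff_mem]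
          exact hIr (Ideal.mem_map_of_mem _ (haI i j))
        rw [hz, sub_zero]
        split_ifs <;> simp
      rw [this, Matrix.det_smul, Matrix.det_one, mul_one, Fintype.card_fin]
    intro hmem
    have h2 : π MB.det = 0 := Ideal.Quotient.eq_zero_iff_mem.mpr hmem
    rw [h1] at h2
    have h3 : π sB = 0 := eq_zero_of_pow_eq_zero h2
    exact hsr (Ideal.Quotient.eq_zero_iff_mem.mp h3)
  · -- multiplies C into B
    have hdet : (MB.det : C) = M.det := by
      change algebraMap B C MB.det = _
      rw [RingHom.map_det]; rfl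
    have hy' : ∀ j, (MB.det : C) * y j ∈ B := by
      intro j
      have h1 : M.det • y = (M.adjugate).mulVec b := by
        rw [← hMy, Matrix.mulVec_mulVec, Matrix.adjugate_mul, Matrix.smul_mulVec,
          Matrix.one_mulVec]
      have h2 := congrFun h1 j
      rw [Pi.smul_apply, smul_eq_mul] at h2
      rw [hdet, h2]
      have hadj : M.adjugate = (MB.adjugate).map (algebraMap B C) := by
        change ((algebraMap B C).mapMatrix MB).adjugate = _
        rw [← RingHom.map_adjugate]; rfl
      rw [hadj]
      simp only [Matrix.mulVec, dotProduct, Matrix.map_apply]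
      exact Subalgebra.sum_mem _ fun i _ => Subalgebra.mul_mem _ (MB.adjugate j i).2 (hb i)
    intro x
    have hx : x ∈ Submodule.span A (Set.range y) := hy ▸ Submodule.mem_top
    induction hx using Submodule.span_induction with
    | mem x hx => obtain ⟨j, rfl⟩ := hx; exact hy' j
    | zero => rw [mul_zero]; exact Subalgebra.zero_mem _
    | add x z _ _ hx hz => rw [mul_add]; exact Subalgebra.add_mem _ hx hz
    | smul c x _ hx => rw [mul_smul_comm]; exact Subalgebra.smul_mem _ hx c


lemma exists_smul_mem {A C : Type u} [CommRing A] [IsLocalRing A] [CommRing C] [Algebra A C]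
    [Module.Finite A C] (r : Ideal C) [r.IsMaximal] (u : C)
    (hu₁ : ∀ r' : Ideal C, r'.IsMaximal → r' ≠ r → u ∈ r') (hu₂ : u ∉ r)
    (hu₃ : Subalgebra.toSubmodule (Algebra.adjoin A {algebraMap C (Localization.AtPrime r) u}) ⊔
        Submodule.restrictScalars A (Ideal.map (algebraMap A (Localization.AtPrime r)) (IsLocalRing.maximalIdeal A)) = ⊤)
    (y : C) :
    ∃ s ∈ Algebra.adjoin A ({u} : Set C), s ∉ r ∧ ∃ b ∈ Algebra.adjoin A ({u} : Set C),
      s * y - b ∈ (IsLocalRing.maximalIdeal A).map (algebraMap A C) := by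
  have hy : algebraMap C (Localization.AtPrime r) y ∈ (⊤ : Submodule A (Localization.AtPrime r)) :=
    Submodule.mem_top
  rw [← hu₃, Submodule.mem_sup] at hy
  obtain ⟨β, hβ, z, hz, hβz⟩ := hy
  -- β comes from B
  have h1 : Algebra.adjoin A {algebraMap C (Localization.AtPrime r) u} =
      (Algebra.adjoin A ({u} : Set C)).map (IsScalarTower.toAlgHom A C (Localization.AtPrime r)) := by
    rw [AlgHom.map_adjoin, Set.image_singleton]; rfl
  rw [Subalgebra.mem_toSubmodule, h1] at hβ
  obtain ⟨b, hb, rfl⟩ := hβ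
  -- z = i / t
  rw [Submodule.restrictScalars_mem, IsScalarTower.algebraMap_eq A C (Localization.AtPrime r),
    ← Ideal.map_map, IsLocalization.mem_map_algebraMap_iff r.primeCompl] at hz
  obtain ⟨⟨⟨i, hi⟩, ⟨t, ht⟩⟩, hzt⟩ := hz
  simp only at hzt
  have h2 : algebraMap C (Localization.AtPrime r) ((y - b) * t - i) = 0 := by
    rw [map_sub, map_mul, map_sub, ← hzt, ← hβz]
    simp
  obtain ⟨⟨t', ht'⟩, h3⟩ := (IsLocalization.map_eq_zero_iff r.primeCompl _ _).mp h2
  simp only at h3
  have htt' : t' * t ∉ r := fun h => (Ideal.IsPrime.mem_or_mem inferInstance h).elim ht' ht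
  obtain ⟨c, hc1, hc2⟩ := exists_mul_mem (Algebra.adjoin A ({u} : Set C)) r u
    (Algebra.subset_adjoin rfl) hu₁ hu₂ (t' * t) htt'
  refine ⟨t' * t * c, hc1, hc2, t' * t * c * b, Subalgebra.mul_mem _ hc1 hb, ?_⟩
  have : t' * t * c * y - t' * t * c * b = c * t' * i := by
    have h4 : t' * ((y - b) * t) = t' * i := by
      have := h3; rw [mul_sub, sub_eq_zero] at this; exact this
    calc t' * t * c * y - t' * t * c * b = c * (t' * ((y - b) * t)) := by ring
      _ = c * t' * i := by rw [h4]; ring
  rw [this]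
  exact Ideal.mul_mem_left _ _ hi




/-- Let A be a local ring with maximal ideal m, C a finite A-algebra, r a maximal ideal of C, and u an
element of C which lies in every maximal ideal of C other than r, does not lie in r, and whose image
generates C_r modulo m C_r as an A-algebra. Let B = A[u] be the A-subalgebra of C generated by u and
n the inverse image of r in B. Then the canonical homomorphism B_n → C_r is bijective. -/
theorem result (A C : Type u) [CommRing A] [IsLocalRing A]
    [CommRing C] [Algebra A C] [Module.Finite A C] (r : Ideal C) [r.IsMaximal] (u : C)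
    (hu₁ : ∀ r' : Ideal C, r'.IsMaximal → r' ≠ r → u ∈ r') (hu₂ : u ∉ r)
    (hu₃ : Subalgebra.toSubmodule (Algebra.adjoin A {algebraMap C (Localization.AtPrime r) u}) ⊔
        Submodule.restrictScalars A (Ideal.map (algebraMap A (Localization.AtPrime r)) (IsLocalRing.maximalIdeal A)) = ⊤) :
    Function.Bijective (Localization.localRingHom (Ideal.comap (Algebra.adjoin A ({u} : Set C)).val.toRingHom r) r
      (Algebra.adjoin A ({u} : Set C)).val.toRingHom rfl) := by
  have key : ∀ y : C, ∃ t ∈ Algebra.adjoin A ({u} : Set C), t ∉ r ∧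
      t * y ∈ Algebra.adjoin A ({u} : Set C) := by
    classical
    obtain ⟨k, yv, hyv⟩ := Module.Finite.exists_fin (R := A) (M := C)
    choose s hsB hsr b hbB hsb using fun i => exists_smul_mem r u hu₁ hu₂ hu₃ (yv i)
    haveI : Algebra.IsIntegral A C := Algebra.IsIntegral.of_finite A C
    have hIr : (IsLocalRing.maximalIdeal A).map (algebraMap A C) ≤ r := by
      rw [Ideal.map_le_iff_le_comap]
      have : (r.comap (algebraMap A C)).IsMaximal :=
        Ideal.isMaximal_comap_of_isIntegral_of_isMaximal r
      rw [IsLocalRing.eq_maximalIdeal this]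
    have hS : (∏ i, s i) ∈ Algebra.adjoin A ({u} : Set C) :=
      Subalgebra.prod_mem _ fun i _ => hsB i
    have hSr : (∏ i, s i) ∉ r := by
      intro h
      obtain ⟨i, -, hi⟩ := (Ideal.IsPrime.prod_mem_iff).mp h
      exact hsr i hi
    obtain ⟨t, htB, htr, ht⟩ := det_trick (Algebra.adjoin A ({u} : Set C))
      (IsLocalRing.maximalIdeal A) r hIr yv hyv (∏ i, s i) hS hSr
      (fun i => (∏ j ∈ Finset.univ.erase i, s j) * b i)
      (fun i => Subalgebra.mul_mem _ (Subalgebra.prod_mem _ fun j _ => hsB j) (hbB i))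
      (fun i => by
        rw [Ideal.smul_top_eq_map, Submodule.restrictScalars_mem]
        have : (∏ i, s i) * yv i - (∏ j ∈ Finset.univ.erase i, s j) * b i =
            (∏ j ∈ Finset.univ.erase i, s j) * (s i * yv i - b i) := by
          rw [← Finset.prod_erase_mul Finset.univ s (Finset.mem_univ i)]
          ring
        rw [this]
        exact Ideal.mul_mem_left _ _ (hsb i))
    exact fun y => ⟨t, htB, htr, ht y⟩
  haveI : r.LiesOver (Ideal.comap (Algebra.adjoin A ({u} : Set C)).val.toRingHom r) := ⟨rfl⟩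
  have := Localization.localRingHom_bijective_of_saturated_inf_eq_top (P := r)
    (s := Algebra.adjoin A ({u} : Set C)) _ (by
      rw [eq_top_iff]
      intro y _
      obtain ⟨t, ht, htr, hty⟩ := key y
      exact ⟨t, ⟨htr, ht⟩, hty⟩) (Ideal.comap (Algebra.adjoin A ({u} : Set C)).val.toRingHom r)
  exact this

end Groth.Agent.S5076
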