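import Groth.Statements.S5077
import Mathlib

set_option autoImplicit false
universe u
open Unram

namespace Groth.Agent.S5077

open Polynomial

variable {A B : Type u} [CommRing A] [CommRing B] [Algebra A B]

theorem aeval_surjective (u : B) (hu : Algebra.adjoin A ({u} : Set B) = ⊤) :
    Function.Surjective (aeval u : A[X] →ₐ[A] B) := by
  intro b
  have hb : b ∈ Algebra.adjoin A ({u} : Set B) := by rw [hu]; trivial
  rw [Algebra.adjoin_singleton_eq_range_aeval] at hb
  exact hb

theorem wd (u : B) (J : Ideal B)
    (hJ : ∀ G : A[X], aeval u G = 0 → aeval u (derivative G) ∈ J) (g g₁ : A[X])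
    (h : aeval u g = aeval u g₁) :
    Ideal.Quotient.mk J (aeval u (derivative g)) =
      Ideal.Quotient.mk J (aeval u (derivative g₁)) := by
  rw [Ideal.Quotient.eq, ← map_sub, ← derivative_sub]
  exact hJ _ (by rw [map_sub, h, sub_self])

theorem sec_eq (u : B) (hu : Algebra.adjoin A ({u} : Set B) = ⊤) (b : B) :
    aeval u (Function.surjInv (aeval_surjective u hu) b) = b :=
  Function.surjInv_eq (aeval_surjective u hu) b

/-- the derivation `g(u) ↦ g'(u) mod J` on `B = A[u]` -/
noncomputable def der (u : B) (hu : Algebra.adjoin A ({u} : Set B) = ⊤) (J : Ideal B)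
    (hJ : ∀ G : A[X], aeval u G = 0 → aeval u (derivative G) ∈ J) :
    Derivation A B (B ⧸ J) where
  toFun b := Ideal.Quotient.mk _ (aeval u (derivative (Function.surjInv (aeval_surjective u hu) b)))
  map_add' b c := by
    rw [← map_add, ← map_add, ← derivative_add]
    apply wd u J hJ
    rw [map_add, sec_eq u hu, sec_eq u hu, sec_eq u hu]
  map_smul' a b := by
    simp only [RingHom.id_apply]
    rw [← Ideal.Quotient.mkₐ_eq_mk A, ← map_smul, ← map_smul, ← derivative_smul]
    apply wd u J hJ
    rw [map_smul, sec_eq u hu, sec_eq u hu]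
  map_one_eq_zero' := by
    change Ideal.Quotient.mk _ (aeval u (derivative (Function.surjInv (aeval_surjective u hu) 1))) = 0
    have := wd u J hJ (Function.surjInv (aeval_surjective u hu) 1) 1
      (by rw [sec_eq u hu, map_one])
    rw [this, derivative_one, map_zero, map_zero]
  leibniz' b c := by
    change Ideal.Quotient.mk _ (aeval u (derivative (Function.surjInv (aeval_surjective u hu) (b * c)))) =
      b • Ideal.Quotient.mk _ (aeval u (derivative (Function.surjInv (aeval_surjective u hu) c))) +
      c • Ideal.Quotient.mk _ (aeval u (derivative (Function.surjInv (aeval_surjective u hu) b)))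
    have := wd u J hJ (Function.surjInv (aeval_surjective u hu) (b * c))
      (Function.surjInv (aeval_surjective u hu) b * Function.surjInv (aeval_surjective u hu) c)
      (by rw [map_mul, sec_eq u hu, sec_eq u hu, sec_eq u hu])
    rw [this, derivative_mul, map_add, map_mul, map_mul, sec_eq u hu, sec_eq u hu,
      map_add, map_mul, map_mul]
    simp only [Algebra.smul_def, Ideal.Quotient.algebraMap_eq]
    ring

theorem der_u (u : B) (hu : Algebra.adjoin A ({u} : Set B) = ⊤) (J : Ideal B)
    (hJ : ∀ G : A[X], aeval u G = 0 → aeval u (derivative G) ∈ J) :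
    der u hu J hJ u = 1 := by
  change Ideal.Quotient.mk _ (aeval u (derivative (Function.surjInv (aeval_surjective u hu) u))) = 1
  have := wd u J hJ (Function.surjInv (aeval_surjective u hu) u) X
    (by rw [sec_eq u hu, aeval_X])
  rw [this, derivative_X, map_one, map_one]

/-- unramified at a maximal ideal `n`: no derivation into `B/n` with `D u = 1` can exist. -/
theorem not_forall_mem_of_unramified (u : B) (hu : Algebra.adjoin A ({u} : Set B) = ⊤)
    (n : Ideal B) [n.IsMaximal] (hn : Algebra.IsUnramifiedAt A n) :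
    ¬ ∀ G : A[X], aeval u G = 0 → aeval u (derivative G) ∈ n := by
  intro hJ
  let D := der u hu n hJ
  have hsub : Subsingleton (Ω[Localization.AtPrime n⁄A]) :=
    Algebra.FormallyUnramified.subsingleton_kaehlerDifferential
  have h0 : KaehlerDifferential.map A A B (Localization.AtPrime n) (KaehlerDifferential.D A B u) = 0 :=
    Subsingleton.elim _ _
  obtain ⟨⟨s, hs⟩, hsω⟩ := (IsLocalizedModule.eq_zero_iff n.primeCompl
    (KaehlerDifferential.map A A B (Localization.AtPrime n))).mp h0
  have h1 := congrArg D.liftKaehlerDifferential hsω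
  rw [Submonoid.mk_smul, map_smul, Derivation.liftKaehlerDifferential_comp_D, map_zero] at h1
  have h2 : D u = 1 := der_u u hu n hJ
  rw [h2, Algebra.smul_def, mul_one, Ideal.Quotient.algebraMap_eq,
    Ideal.Quotient.eq_zero_iff_mem] at h1
  exact hs h1



theorem exists_poly (A B : Type u) [CommRing A] [IsLocalRing A] [CommRing B] [Algebra A B]
    [Module.Finite A B] (u : B) (hu : Algebra.adjoin A ({u} : Set B) = ⊤) :
    ∃ F : A[X], F.Monic ∧ aeval u F = 0 ∧ ∀ R : A[X], R.degree < F.degree → aeval u R = 0 →
      ∀ i, R.coeff i ∈ IsLocalRing.maximalIdeal A := by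
  classical
  let m := IsLocalRing.maximalIdeal A
  letI : Field (A ⧸ m) := Ideal.Quotient.field m
  let I := m.map (algebraMap A B)
  have hfinA : Module.Finite A (B ⧸ I) :=
    Module.Finite.of_surjective (Ideal.Quotient.mkₐ A I).toLinearMap Ideal.Quotient.mk_surjective
  have hfin : Module.Finite (A ⧸ m) (B ⧸ I) := Module.Finite.of_restrictScalars_finite A _ _
  let ub : B ⧸ I := Ideal.Quotient.mk I u
  have hint : IsIntegral (A ⧸ m) ub := Algebra.IsIntegral.isIntegral ub
  let d := (minpoly (A ⧸ m) ub).natDegree
  -- key relation between aeval over A and over k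
  have haev : ∀ R : A[X], aeval ub (R.map (Ideal.Quotient.mk m)) = Ideal.Quotient.mk I (aeval u R) := by
    intro R
    change aeval ub (R.map (algebraMap A (A ⧸ m))) = _
    rw [aeval_map_algebraMap, ← Ideal.Quotient.mkₐ_eq_mk A, ← aeval_algHom_apply]
    rfl
  -- B = N + mB
  let N : Submodule A B := Submodule.span A (Set.range fun i : Fin d => u ^ (i : ℕ))
  have hN : (⊤ : Submodule A B) ≤ N ⊔ m • (⊤ : Submodule A B) := by
    intro b _
    obtain ⟨g, hg⟩ : ∃ g : A[X], aeval u g = b := by
      have hb : b ∈ Algebra.adjoin A ({u} : Set B) := by rw [hu]; trivial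
      rw [Algebra.adjoin_singleton_eq_range_aeval] at hb
      exact hb
    have h1 : Ideal.Quotient.mk I b ∈ Submodule.span (A ⧸ m)
        (Set.range fun i : Fin d => ub ^ (i : ℕ)) :=
      hint.mem_span_pow ⟨g.map (Ideal.Quotient.mk m), by rw [haev, hg]⟩
    obtain ⟨c, hc⟩ := (Submodule.mem_span_range_iff_exists_fun _).mp h1
    choose c' hc' using fun i => Ideal.Quotient.mk_surjective (c i)
    have h2 : b - ∑ i, c' i • u ^ (i : ℕ) ∈ I := by
      rw [← Ideal.Quotient.eq_zero_iff_mem, map_sub, map_sum, sub_eq_zero, ← hc]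
      refine Finset.sum_congr rfl fun i _ => ?_
      rw [← hc' i, Algebra.smul_def, Algebra.smul_def (c' i), map_mul, map_pow]
      rfl
    rw [Submodule.mem_sup]
    refine ⟨∑ i, c' i • u ^ (i : ℕ), ?_, b - ∑ i, c' i • u ^ (i : ℕ), ?_, by ring⟩
    · exact Submodule.sum_mem _ fun i _ => Submodule.smul_mem _ _ (Submodule.subset_span ⟨i, rfl⟩)
    · rw [Ideal.smul_top_eq_map, Submodule.restrictScalars_mem]
      exact h2
  have hNtop : (⊤ : Submodule A B) ≤ N :=
    Submodule.le_of_le_smul_of_le_jacobson_bot Module.Finite.fg_top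
      (IsLocalRing.maximalIdeal_le_jacobson ⊥) hN
  -- u^d in N
  have hud : u ^ d ∈ N := hNtop Submodule.mem_top
  obtain ⟨a, ha⟩ := (Submodule.mem_span_range_iff_exists_fun _).mp hud
  let F : A[X] := X ^ d - ∑ i : Fin d, C (a i) * X ^ (i : ℕ)
  have hlow : (∑ i : Fin d, C (a i) * X ^ (i : ℕ)).degree < (d : WithBot ℕ) :=
    degree_sum_fin_lt a
  have hFmonic : F.Monic := monic_X_pow_sub hlow
  have hFdeg : F.degree = d := by
    rw [degree_sub_eq_left_of_degree_lt (by rw [degree_X_pow]; exact hlow), degree_X_pow]
  have hFu : aeval u F = 0 := by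
    simp only [F, map_sub, map_pow, aeval_X, map_sum, map_mul, aeval_C]
    rw [← ha, sub_eq_zero]
    refine (Finset.sum_congr rfl fun i _ => ?_).symm
    rw [Algebra.smul_def]
  refine ⟨F, hFmonic, hFu, fun R hRdeg hRu i => ?_⟩
  have h3 : R.map (Ideal.Quotient.mk m) = 0 := by
    by_contra hne
    have h4 := minpoly.degree_le_of_ne_zero (A ⧸ m) ub hne (by rw [haev, hRu, map_zero])
    have h5 : (R.map (Ideal.Quotient.mk m)).degree ≤ R.degree := degree_map_le
    have h6 : (minpoly (A ⧸ m) ub).degree = d := degree_eq_natDegree (minpoly.ne_zero hint)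
    rw [h6] at h4
    rw [hFdeg] at hRdeg
    exact absurd (h4.trans h5) (not_le.mpr hRdeg)
  have h7 := congrArg (fun p => p.coeff i) h3
  simp only [coeff_map, coeff_zero] at h7
  exact Ideal.Quotient.eq_zero_iff_mem.mp h7



/-- Let A be a local ring and B a finite A-algebra generated by a single element u. Then there is a
monic polynomial F with coefficients in A such that F(u) = 0 and F'(u) does not belong to any
maximal ideal n of B at which B is unramified over A. -/
theorem result (A B : Type u) [CommRing A] [IsLocalRing A]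
    [CommRing B] [Algebra A B] [Module.Finite A B] (u : B) (hu : Algebra.adjoin A ({u} : Set B) = ⊤) :
    ∃ F : Polynomial A, F.Monic ∧ Polynomial.aeval u F = 0 ∧
      ∀ (n : Ideal B) [n.IsMaximal], Algebra.IsUnramifiedAt A n → Polynomial.aeval u (Polynomial.derivative F) ∉ n := by
  obtain ⟨F, hFm, hFu, hK⟩ := exists_poly A B u hu
  refine ⟨F, hFm, hFu, fun n _ hn hFn => ?_⟩
  apply not_forall_mem_of_unramified u hu n hn
  intro G hG
  haveI : Algebra.IsIntegral A B := Algebra.IsIntegral.of_finite A B
  have hmB : (IsLocalRing.maximalIdeal A).map (algebraMap A B) ≤ n := by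
    rw [Ideal.map_le_iff_le_comap]
    have : (n.comap (algebraMap A B)).IsMaximal :=
      Ideal.isMaximal_comap_of_isIntegral_of_isMaximal n
    rw [IsLocalRing.eq_maximalIdeal this]
  have hG' : G = G %ₘ F + F * (G /ₘ F) := (modByMonic_add_div G F).symm
  have hRu : aeval u (G %ₘ F) = 0 := by
    have := congrArg (aeval u) hG'
    rw [hG, map_add, map_mul, hFu, zero_mul, add_zero] at this
    exact this.symm
  have hRdeg : (G %ₘ F).degree < F.degree := degree_modByMonic_lt G hFm
  have hRc := hK (G %ₘ F) hRdeg hRu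
  have hR' : aeval u (derivative (G %ₘ F)) ∈ n := by
    rw [aeval_eq_sum_range]
    refine Ideal.sum_mem _ fun i _ => ?_
    rw [coeff_derivative, Algebra.smul_def]
    apply Ideal.mul_mem_right
    apply hmB
    apply Ideal.mem_map_of_mem
    exact Ideal.mul_mem_right _ _ (hRc _)
  rw [hG', derivative_add, derivative_mul, map_add, map_add, map_mul, map_mul, hFu, zero_mul,
    add_zero]
  exact Ideal.add_mem _ hR' (Ideal.mul_mem_right _ _ hFn)

end Groth.Agent.S5077
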