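import Groth.Statements.S5078
import Mathlib.RingTheory.AdicCompletion.Functoriality
import Mathlib.RingTheory.Finiteness.Projective

set_option autoImplicit false
universe u v
open Hensel

namespace Groth.Agent.S5078

theorem of_pi_bijective {A : Type u} [CommRing A] (I : Ideal A) [IsAdicComplete I A] (n : ℕ) :
    Function.Bijective (AdicCompletion.of I (Fin n → A)) := by
  have h1 : Function.Bijective (AdicCompletion.piEquivFin I n ∘ AdicCompletion.of I (Fin n → A)) := by
    have : (AdicCompletion.piEquivFin I n ∘ AdicCompletion.of I (Fin n → A)) =
        fun x j => AdicCompletion.of I A (x j) := by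
      funext x j
      simp [AdicCompletion.pi, AdicCompletion.map_of]
    rw [this]
    have hb := AdicCompletion.of_bijective I A
    constructor
    · intro x y hxy
      funext j
      exact hb.1 (congrFun hxy j)
    · intro y
      choose x hx using fun j => hb.2 (y j)
      exact ⟨x, funext hx⟩
  exact (Function.Bijective.of_comp_iff' (AdicCompletion.piEquivFin I n).bijective _).1 h1

/-- Let A be a ring, I an ideal such that A is I-adically separated and complete, and M a finitely
generated projective A-module. Then M is I-adically separated and complete. -/
theorem result {A : Type u} [CommRing A] (I : Ideal A) [IsAdicComplete I A]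
    (M : Type v) [AddCommGroup M] [Module A M] [Module.Finite A M] [Module.Projective A M] :
    IsAdicComplete I M := by
  obtain ⟨n, p, g, hp, hg, hpg⟩ := Module.Finite.exists_comp_eq_id_of_projective A M
  have hb := of_pi_bijective I n
  rw [← AdicCompletion.of_bijective_iff]
  constructor
  · -- injective
    have h : Function.Injective (AdicCompletion.of I (Fin n → A) ∘ g) := hb.1.comp hg
    have e : AdicCompletion.of I (Fin n → A) ∘ g = AdicCompletion.map I g ∘ AdicCompletion.of I M := by
      funext x
      simp [AdicCompletion.map_of]
    rw [e] at h
    exact Function.Injective.of_comp h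
  · -- surjective
    have hsurj : Function.Surjective (AdicCompletion.map I p) := by
      intro y
      refine ⟨AdicCompletion.map I g y, ?_⟩
      rw [AdicCompletion.map_comp_apply, hpg, AdicCompletion.map_id]
      rfl
    have h : Function.Surjective (AdicCompletion.map I p ∘ AdicCompletion.of I (Fin n → A)) :=
      hsurj.comp hb.2
    have e : AdicCompletion.map I p ∘ AdicCompletion.of I (Fin n → A) = AdicCompletion.of I M ∘ p := by
      funext x
      simp [AdicCompletion.map_of]
    rw [e] at h
    exact Function.Surjective.of_comp h

end Groth.Agent.S5078
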