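import Groth.Statements.S5081
import Mathlib.Algebra.Polynomial.Derivation

set_option autoImplicit false
universe u
open Unram

namespace Groth.Agent.S5081

open Polynomial

variable {A B : Type u} [CommRing A] [CommRing B] [Algebra A B]

theorem aeval_surjective (u : B) (hu : Algebra.adjoin A ({u} : Set B) = ⊤) :
    Function.Surjective (aeval u : A[X] →ₐ[A] B) := by
  intro b
  have hb : b ∈ Algebra.adjoin A ({u} : Set B) := by rw [hu]; trivial
  rw [Algebra.adjoin_singleton_eq_range_aeval] at hb
  exact hb

/-- every differential is a multiple of `du` -/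
theorem D_mem_span (u : B) (hu : Algebra.adjoin A ({u} : Set B) = ⊤) (ω : KaehlerDifferential A B) :
    ω ∈ Submodule.span B {KaehlerDifferential.D A B u} := by
  have htop : Submodule.span B (Set.range (KaehlerDifferential.D A B)) ≤
      Submodule.span B {KaehlerDifferential.D A B u} := by
    rw [Submodule.span_le]
    rintro _ ⟨b, rfl⟩
    obtain ⟨g, rfl⟩ := aeval_surjective u hu b
    rw [Derivation.map_aeval]
    exact Submodule.smul_mem _ _ (Submodule.subset_span rfl)
  rw [KaehlerDifferential.span_range_derivation] at htop
  exact htop trivial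

/-- well-definedness of the derivation `g(u) ↦ g'(u) mod F'(u)` -/
theorem wd (u : B) (F : A[X])
    (hker : RingHom.ker (aeval u : A[X] →ₐ[A] B) = Ideal.span {F}) (g g₁ : A[X])
    (h : aeval u g = aeval u g₁) :
    Ideal.Quotient.mk (Ideal.span {aeval u (derivative F)}) (aeval u (derivative g)) =
      Ideal.Quotient.mk (Ideal.span {aeval u (derivative F)}) (aeval u (derivative g₁)) := by
  have hmem : g - g₁ ∈ RingHom.ker (aeval u : A[X] →ₐ[A] B) := by
    rw [RingHom.mem_ker, map_sub, h, sub_self]
  have hF : aeval u F = 0 := by
    have : F ∈ RingHom.ker (aeval u : A[X] →ₐ[A] B) := by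
      rw [hker]; exact Ideal.subset_span rfl
    exact this
  rw [hker, Ideal.mem_span_singleton'] at hmem
  obtain ⟨q, hq⟩ := hmem
  rw [Ideal.Quotient.eq, Ideal.mem_span_singleton']
  refine ⟨aeval u q, ?_⟩
  have : derivative g - derivative g₁ = derivative q * F + q * derivative F := by
    rw [← derivative_sub, ← hq, derivative_mul]
  rw [← map_sub, this, map_add, map_mul, map_mul, hF, mul_zero, zero_add]

theorem sec_eq (u : B) (hu : Algebra.adjoin A ({u} : Set B) = ⊤) (b : B) :
    aeval u (Function.surjInv (aeval_surjective u hu) b) = b :=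
  Function.surjInv_eq (aeval_surjective u hu) b

/-- the derivation `g(u) ↦ g'(u) mod F'(u)` on `B = A[u]` -/
noncomputable def der (u : B) (hu : Algebra.adjoin A ({u} : Set B) = ⊤) (F : A[X])
    (hker : RingHom.ker (aeval u : A[X] →ₐ[A] B) = Ideal.span {F}) :
    Derivation A B (B ⧸ Ideal.span {aeval u (derivative F)}) where
  toFun b := Ideal.Quotient.mk _ (aeval u (derivative (Function.surjInv (aeval_surjective u hu) b)))
  map_add' b c := by
    rw [← map_add, ← map_add, ← derivative_add]
    apply wd u F hker
    rw [map_add, sec_eq u hu, sec_eq u hu, sec_eq u hu]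
  map_smul' a b := by
    simp only [RingHom.id_apply]
    rw [← Ideal.Quotient.mkₐ_eq_mk A, ← map_smul, ← map_smul, ← derivative_smul]
    apply wd u F hker
    rw [map_smul, sec_eq u hu, sec_eq u hu]
  map_one_eq_zero' := by
    change Ideal.Quotient.mk _ (aeval u (derivative (Function.surjInv (aeval_surjective u hu) 1))) = 0
    have := wd u F hker (Function.surjInv (aeval_surjective u hu) 1) 1
      (by rw [sec_eq u hu, map_one])
    rw [this, derivative_one, map_zero, map_zero]
  leibniz' b c := by
    change Ideal.Quotient.mk _ (aeval u (derivative (Function.surjInv (aeval_surjective u hu) (b * c)))) =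
      b • Ideal.Quotient.mk _ (aeval u (derivative (Function.surjInv (aeval_surjective u hu) c))) +
      c • Ideal.Quotient.mk _ (aeval u (derivative (Function.surjInv (aeval_surjective u hu) b)))
    have := wd u F hker (Function.surjInv (aeval_surjective u hu) (b * c))
      (Function.surjInv (aeval_surjective u hu) b * Function.surjInv (aeval_surjective u hu) c)
      (by rw [map_mul, sec_eq u hu, sec_eq u hu, sec_eq u hu])
    rw [this, derivative_mul, map_add, map_mul, map_mul, sec_eq u hu, sec_eq u hu,
      map_add, map_mul, map_mul]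
    simp only [Algebra.smul_def, Ideal.Quotient.algebraMap_eq]
    ring

theorem der_u (u : B) (hu : Algebra.adjoin A ({u} : Set B) = ⊤) (F : A[X])
    (hker : RingHom.ker (aeval u : A[X] →ₐ[A] B) = Ideal.span {F}) :
    der u hu F hker u = 1 := by
  change Ideal.Quotient.mk _ (aeval u (derivative (Function.surjInv (aeval_surjective u hu) u))) = 1
  have := wd u F hker (Function.surjInv (aeval_surjective u hu) u) X
    (by rw [sec_eq u hu, aeval_X])
  rw [this, derivative_X, map_one, map_one]

theorem result (A B : Type u) [CommRing A] [CommRing B] [Algebra A B]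
    [Module.Finite A B] (u : B) (hu : Algebra.adjoin A ({u} : Set B) = ⊤) (F : Polynomial A) (hF : Polynomial.aeval u F = 0) :
    Ideal.span {Polynomial.aeval u (Polynomial.derivative F)} ≤ Module.annihilator B (KaehlerDifferential A B) ∧
      (RingHom.ker (Polynomial.aeval u : Polynomial A →ₐ[A] B) = Ideal.span {F} →
        Module.annihilator B (KaehlerDifferential A B) = Ideal.span {Polynomial.aeval u (Polynomial.derivative F)}) := by
  have h1 : Ideal.span {Polynomial.aeval u (Polynomial.derivative F)} ≤
      Module.annihilator B (KaehlerDifferential A B) := by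
    rw [Ideal.span_le, Set.singleton_subset_iff, SetLike.mem_coe, Module.mem_annihilator]
    intro ω
    have hω := D_mem_span u hu ω
    rw [Submodule.mem_span_singleton] at hω
    obtain ⟨b, rfl⟩ := hω
    rw [smul_comm, ← Derivation.map_aeval, hF, map_zero, smul_zero]
  refine ⟨h1, fun hker => le_antisymm ?_ h1⟩
  intro b hb
  rw [Module.mem_annihilator] at hb
  have h2 := hb (KaehlerDifferential.D A B u)
  have h3 := congrArg (der u hu F hker).liftKaehlerDifferential h2
  rw [map_smul, Derivation.liftKaehlerDifferential_comp_D, der_u, map_zero] at h3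
  rw [Algebra.smul_def, mul_one, Ideal.Quotient.algebraMap_eq] at h3
  exact Ideal.Quotient.eq_zero_iff_mem.1 h3

end Groth.Agent.S5081
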