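import Groth.Statements.S5084
import Groth.Agent.S8863
import Groth.Agent.S8861
import Groth.Agent.Lib.AssPoints
import Groth.Agent.Lib.QCohBiproduct
import Mathlib.RingTheory.Ideal.AssociatedPrime.Finiteness

set_option autoImplicit false
universe u
open CategoryTheory CategoryTheory.Limits AlgebraicGeometry TopologicalSpace
open Mero

namespace Groth.Agent.S5084

open Mero Groth.Agent.Lib.AssPoints Groth.Agent.Lib.QCohStalk Opposite

variable {X : Scheme.{u}}

/-- a monomorphism of `O_X`-modules is injective on sections -/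
theorem injective_app_of_mono {M N : X.Modules} (φ : M ⟶ N) [Mono φ] (U : X.Opens) :
    Function.Injective (φ.app U) := by
  have h1 : (SheafOfModules.forget X.ringCatSheaf).PreservesMonomorphisms := by
    have : PreservesFiniteLimits (SheafOfModules.forget.{u} X.ringCatSheaf) := inferInstance
    have : PreservesLimitsOfShape WalkingCospan (SheafOfModules.forget.{u} X.ringCatSheaf) :=
      inferInstance
    exact preservesMonomorphisms_of_preservesLimitsOfShape _
  have h0 : @Mono (SheafOfModules X.ringCatSheaf) _ M N φ := ‹Mono φ›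
  have h2 : Mono ((SheafOfModules.forget X.ringCatSheaf).map φ) :=
    @Functor.PreservesMonomorphisms.preserves _ _ _ _ _ h1 M N φ h0
  exact PresheafOfModules.injective_of_mono ((SheafOfModules.forget X.ringCatSheaf).map φ) (op U)

/-- vanishing of `m / 1` -/
theorem toMerFun_eq_zero_iff (F : X.Modules) (U : X.Opens) (m : Γ(F, U)) :
    Mero.toMerFun F U m = 0 ↔ ∀ y : U, ∃ u : regStalk X y.1,
      (u : X.presheaf.stalk y.1) • F.presheaf.germ U y.1 y.2 m = 0 := by
  constructor
  · intro h y
    have h1 : (Mero.toMerFun F U m).1 y = 0 := by rw [h]; rfl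
    rw [Mero.toMerFun_apply, ← LocalizedModule.zero_mk 1, LocalizedModule.mk_eq] at h1
    obtain ⟨u, hu⟩ := h1
    simp only [one_smul, smul_zero, Submonoid.smul_def] at hu
    exact ⟨u, hu⟩
  · intro h
    apply Subtype.ext
    funext y
    obtain ⟨u, hu⟩ := h y
    change LocalizedModule.mk (F.presheaf.germ U y.1 y.2 m) 1 = 0
    rw [← LocalizedModule.zero_mk 1, LocalizedModule.mk_eq]
    refine ⟨u, ?_⟩
    simp only [one_smul, smul_zero, Submonoid.smul_def]
    exact hu

/-- in a Noetherian local ring whose maximal ideal is not associated, the maximal ideal contains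
a nonzerodivisor -/
theorem exists_mem_maximalIdeal_nonZeroDivisors (A : Type*) [CommRing A] [IsNoetherianRing A]
    [IsLocalRing A] (h : ¬ IsAssociatedPrime (IsLocalRing.maximalIdeal A) A) :
    ∃ t ∈ IsLocalRing.maximalIdeal A, t ∈ nonZeroDivisors A := by
  by_contra hcon
  push Not at hcon
  apply h
  have fin := associatedPrimes.finite A A
  have hsub : ((IsLocalRing.maximalIdeal A : Ideal A) : Set A) ⊆
      ⋃ p ∈ associatedPrimes A A, ((id p : Ideal A) : Set A) := by
    intro t ht
    have h1 : t ∈ ((nonZeroDivisors A : Set A))ᶜ := fun h2 => hcon t ht h2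
    rw [← biUnion_associatedPrimes_eq_compl_nonZeroDivisors] at h1
    exact h1
  obtain ⟨P, hP, hle⟩ := ((IsLocalRing.maximalIdeal A).subset_union_prime_finite fin (f := id) 0 0
    fun _ h _ _ ↦ h.isPrime).1 hsub
  have hPprime : P.IsPrime := hP.isPrime
  have heq : IsLocalRing.maximalIdeal A = P :=
    (IsLocalRing.maximalIdeal.isMaximal A).eq_of_le hPprime.ne_top hle
  rw [heq]
  exact hP

/-- elements of an associated maximal ideal are zero divisors -/
theorem isUnit_of_mem_nonZeroDivisors (A : Type*) [CommRing A] [IsNoetherianRing A]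
    [IsLocalRing A] (h : IsAssociatedPrime (IsLocalRing.maximalIdeal A) A) (u : A)
    (hu : u ∈ nonZeroDivisors A) : IsUnit u := by
  by_contra hnu
  have hum : u ∈ IsLocalRing.maximalIdeal A := (IsLocalRing.mem_maximalIdeal u).mpr hnu
  obtain ⟨hprime, a, ha⟩ := isAssociatedPrime_iff.mp h
  rw [ha, Submodule.mem_colon_singleton, Submodule.mem_bot, smul_eq_mul] at hum
  have ha0 : a = 0 := (mul_right_mem_nonZeroDivisors_eq_zero_iff hu).mp
    (by rw [mul_comm]; exact hum)
  apply hprime.ne_top
  rw [ha, ha0]
  ext r
  simp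


/-- Let X be a locally Noetherian scheme and F a quasi-coherent O_X-module. Then F is torsion-free — the
canonical map from F to its sheaf of meromorphic sections K_X(F), m ↦ m/1, is a monomorphism, i.e.
at every point no germ of a regular function kills a nonzero element of the stalk of F — if and only
if every associated point of F is an associated point of the structure sheaf (a point x such that
the maximal ideal of O_{X,x} is an associated prime of O_{X,x}). -/
theorem result (X : Scheme.{u}) [IsLocallyNoetherian X]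
    (F : X.Modules) (hF : Coh.IsQCoh F) :
    Mono (Mero.toMer F) ↔
      ∀ x : ↥X, Curv2.IsAssPoint F x →
        IsAssociatedPrime (IsLocalRing.maximalIdeal ↑(X.presheaf.stalk x)) ↑(X.presheaf.stalk x) := by
  haveI : F.IsQuasicoherent := hF
  constructor
  · intro hmono x hx
    by_contra hnot
    obtain ⟨t, htm, htreg⟩ := exists_mem_maximalIdeal_nonZeroDivisors (X.presheaf.stalk x) hnot
    obtain ⟨hprime, ν, hν⟩ := hx
    -- ν ≠ 0
    have hν0 : ν ≠ 0 := by
      intro h0
      apply hprime.ne_top
      rw [hν, h0, Ideal.eq_top_iff_one]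
      refine ⟨1, ?_⟩
      rw [Submodule.mem_colon_singleton, smul_zero]
      exact Submodule.zero_mem _
    rw [hν] at htm
    obtain ⟨n, hn⟩ := htm
    rw [Submodule.mem_colon_singleton, Submodule.mem_bot] at hn
    have hreg : t ^ n ∈ regStalk X x := by
      rw [Groth.Agent.S8863.result X x]
      exact pow_mem htreg n
    obtain ⟨V, hxV, τ, hτ, hτt⟩ := hreg
    obtain ⟨W, hxW, m, rfl⟩ := TopCat.Presheaf.exists_germ_eq F.presheaf ν
    set N : X.Opens := V ⊓ W with hN
    have hxN : x ∈ N := ⟨hxV, hxW⟩
    have h1 : F.presheaf.germ N x hxN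
        (X.presheaf.map (homOfLE (inf_le_left : N ≤ V)).op τ • res F (inf_le_right : N ≤ W) m) =
        F.presheaf.germ N x hxN 0 := by
      rw [Groth.Agent.Lib.QCohStalk.germ_smul, germ_res, TopCat.Presheaf.germ_res_apply, hτt, map_zero]
      exact hn
    obtain ⟨N', hxN', i₁, i₂, h2⟩ := TopCat.Presheaf.germ_eq F.presheaf x hxN hxN _ _ h1
    rw [map_zero] at h2
    have h3 : X.presheaf.map (homOfLE (i₁.le.trans inf_le_left : N' ≤ V)).op τ •
        res F (i₁.le.trans inf_le_right : N' ≤ W) m = 0 := by
      have h4 := res_smul F i₁.le (X.presheaf.map (homOfLE (inf_le_left : N ≤ V)).op τ)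
        (res F (inf_le_right : N ≤ W) m)
      rw [res_res] at h4
      have h5 : resO X i₁.le (X.presheaf.map (homOfLE (inf_le_left : N ≤ V)).op τ) =
          X.presheaf.map (homOfLE (i₁.le.trans inf_le_left : N' ≤ V)).op τ := by
        change (X.presheaf.map (homOfLE (inf_le_left : N ≤ V)).op ≫
          X.presheaf.map (homOfLE i₁.le).op) τ = _
        rw [← Functor.map_comp]
        rfl
      rw [h5] at h4
      rw [← h4]
      exact h2
    have h6 : Mero.toMerFun F N' (res F (i₁.le.trans inf_le_right : N' ≤ W) m) = 0 := by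
      rw [toMerFun_eq_zero_iff]
      intro y
      have hτ' : X.presheaf.map (homOfLE (i₁.le.trans inf_le_left : N' ≤ V)).op τ ∈
          regSub X N' := Mero.regSub_res _ hτ
      refine ⟨regGerm y ⟨_, hτ'⟩, ?_⟩
      change X.presheaf.germ N' y.1 y.2 _ • F.presheaf.germ N' y.1 y.2 _ = 0
      rw [← Groth.Agent.Lib.QCohStalk.germ_smul, h3, map_zero]
    have h7 : res F (i₁.le.trans inf_le_right : N' ≤ W) m = 0 := by
      apply injective_app_of_mono (Mero.toMer F) N'
      have h8 : (Mero.toMer F).app N' (0 : Γ(F, N')) = 0 := map_zero (Mero.toMerFun F N')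
      rw [h8]
      exact h6
    apply hν0
    rw [← germ_res F (i₁.le.trans inf_le_right : N' ≤ W) x hxN' m, h7, map_zero]
  · intro hAss
    apply Groth.Agent.Lib.QCohBiproduct.mono_of_injective_app
    intro U
    change Function.Injective (Mero.toMerFun F U)
    rw [injective_iff_map_eq_zero]
    intro m hm
    by_contra hm0
    have hex : ∃ (x : X) (hx : x ∈ U), F.presheaf.germ U x hx m ≠ 0 := by
      by_contra hcon
      push Not at hcon
      exact hm0 (Groth.Agent.S8861.eq_zero_of_germ_eq_zero F m hcon)
    obtain ⟨x, hx, hne⟩ := hex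
    obtain ⟨y, hy, -, hyass, hyne⟩ := exists_isWeakAssPoint_of_germ_ne_zero F m x hx hne
    have hyass' : Curv2.IsAssPoint F y := (isAssPoint_iff_isWeakAssPoint F y).mpr hyass
    have hO := hAss y hyass'
    obtain ⟨u, hu⟩ := (toMerFun_eq_zero_iff F U m).mp hm ⟨y, hy⟩
    have huu : IsUnit (u : X.presheaf.stalk y) :=
      isUnit_of_mem_nonZeroDivisors _ hO _ (Mero.regStalk_le_nonZeroDivisors y u.2)
    exact hyne (huu.smul_eq_zero.mp hu)

end Groth.Agent.S5084
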