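import Groth.Statements.S5082
import Groth.Agent.S5084
import Groth.Agent.S5087
import Groth.Agent.S12513
import Groth.Agent.Lib.MeroDiv82B
import Groth.Agent.Lib.MeroDivDepth
import Groth.Agent.Lib.DepthFlat33

set_option autoImplicit false
universe u
open CategoryTheory CategoryTheory.Limits AlgebraicGeometry TopologicalSpace
open Mero

namespace Groth.Agent.S5082

open Mero Groth.Agent.Lib.MeroDiv82 Opposite

variable (A : Type u) [CommRing A] [IsNoetherianRing A] [IsLocalRing A]

/-- the closed point of `Spec A` -/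
noncomputable def x₀ : (Spec (CommRingCat.of A) : Scheme.{u}) := IsLocalRing.closedPoint A

/-- global functions on `Spec A` -/
noncomputable def eΓ : Γ(Spec (CommRingCat.of A), ⊤) ≃+* A :=
  (Scheme.ΓSpecIso (CommRingCat.of A)).commRingCatIsoToRingEquiv

theorem eq_top_of_mem (U : (Spec (CommRingCat.of A)).Opens) (h : x₀ A ∈ U) : U = ⊤ :=
  (IsLocalRing.closedPoint_mem_iff U).mp h

theorem eΓ_mem_nonZeroDivisors (b : Γ(Spec (CommRingCat.of A), ⊤))
    (hb : b ∈ nonZeroDivisors Γ(Spec (CommRingCat.of A), ⊤)) : eΓ A b ∈ nonZeroDivisors A := by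
  rw [mem_nonZeroDivisors_iff_right]
  intro y hy
  have h1 : (eΓ A).symm y * b = 0 := by
    apply (eΓ A).injective
    rw [map_mul, RingEquiv.apply_symm_apply, hy, map_zero]
  have h2 := (mem_nonZeroDivisors_iff_right.mp hb) _ h1
  rw [← (eΓ A).apply_symm_apply y, h2, map_zero]

theorem symm_mem_nonZeroDivisors (t : A) (ht : t ∈ nonZeroDivisors A) :
    (eΓ A).symm t ∈ nonZeroDivisors Γ(Spec (CommRingCat.of A), ⊤) := by
  rw [mem_nonZeroDivisors_iff_right]
  intro y hy
  have h1 : eΓ A y * t = 0 := by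
    have := congrArg (eΓ A) hy
    rwa [map_mul, RingEquiv.apply_symm_apply, map_zero] at this
  have h2 := (mem_nonZeroDivisors_iff_right.mp ht) _ h1
  apply (eΓ A).injective
  rw [h2, map_zero]

/-- if the maximal ideal is associated, regular global functions are units -/
theorem isUnit_of_mem_regSub (hass : IsAssociatedPrime (IsLocalRing.maximalIdeal A) A)
    (b : Γ(Spec (CommRingCat.of A), ⊤)) (hb : b ∈ regSub (Spec (CommRingCat.of A)) ⊤) :
    IsUnit b := by
  rw [Groth.Agent.S12513.result _ ⊤ (isAffineOpen_top _)] at hb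
  have h1 := Groth.Agent.S5084.isUnit_of_mem_nonZeroDivisors A hass _
    (eΓ_mem_nonZeroDivisors A b hb)
  exact (isUnit_map_iff (eΓ A) b).mp h1

/-- depth zero: every divisor is trivial -/
theorem eq_one_of_isAssociatedPrime (hass : IsAssociatedPrime (IsLocalRing.maximalIdeal A) A)
    (D : Mero.Divisor (Spec (CommRingCat.of A))) : D = 1 := by
  obtain ⟨U, hU, f, hf⟩ := D.2 (x₀ A)
  obtain rfl := eq_top_of_mem A U hU
  obtain ⟨V, hV, i, a, b, hab⟩ := f.val.2 ⟨x₀ A, hU⟩
  obtain rfl := eq_top_of_mem A V hV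
  have hab' : ∀ y : (⊤ : (Spec (CommRingCat.of A)).Opens), f.val.1 y =
      LocalizedModule.mk ((Spec (CommRingCat.of A)).presheaf.germ ⊤ y.1 y.2 a) (regGerm y b) :=
    fun y => hab y
  have haR : a ∈ regSub (Spec (CommRingCat.of A)) ⊤ := fun y =>
    Groth.Agent.S5087.mem_nonZeroDivisors_of_unit f y _ (regGerm y b) (hab' y)
  have ua := isUnit_of_mem_regSub A hass a haR
  have ub := isUnit_of_mem_regSub A hass b.1 b.2
  apply Subtype.ext
  funext y
  rw [hf ⟨y, Opens.mem_top y⟩, Subgroup.coe_one, Pi.one_apply, germOf, QuotientGroup.eq_one_iff]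
  set α := (Spec (CommRingCat.of A)).presheaf.germ ⊤ y (Opens.mem_top y) a with hα
  set β := (Spec (CommRingCat.of A)).presheaf.germ ⊤ y (Opens.mem_top y) b.1 with hβ
  have uα : IsUnit α := ua.map _
  have uβ : IsUnit β := ub.map _
  refine ⟨uα.unit * uβ.unit⁻¹, ?_⟩
  apply Units.ext
  change algebraMap _ _ ((uα.unit * uβ.unit⁻¹ : (((Spec (CommRingCat.of A)).presheaf.stalk y))ˣ) :
    (Spec (CommRingCat.of A)).presheaf.stalk y) = f.val.1 ⟨y, Opens.mem_top y⟩
  rw [hab' ⟨y, Opens.mem_top y⟩]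
  symm
  rw [Groth.Agent.Lib.MeroDivDepth.mk_eq_algebraMap_iff]
  change α = β * _
  rw [Units.val_mul, IsUnit.unit_spec, mul_comm α, ← mul_assoc]
  have h1 : β * ((uβ.unit⁻¹ : (((Spec (CommRingCat.of A)).presheaf.stalk y))ˣ) :
      (Spec (CommRingCat.of A)).presheaf.stalk y) = 1 := by
    have := Units.mul_inv uβ.unit
    rwa [IsUnit.unit_spec] at this
  rw [h1, one_mul]

/-- a regular global function which is not a unit gives a nontrivial divisor -/
theorem isAssociatedPrime_of_forall_eq_one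
    (h : ∀ D : Mero.Divisor (Spec (CommRingCat.of A)), D = 1) :
    IsAssociatedPrime (IsLocalRing.maximalIdeal A) A := by
  by_contra hnot
  obtain ⟨t, htm, htreg⟩ := Groth.Agent.S5084.exists_mem_maximalIdeal_nonZeroDivisors A hnot
  set τ : Γ(Spec (CommRingCat.of A), ⊤) := (eΓ A).symm t with hτ
  have hτreg : τ ∈ regSub (Spec (CommRingCat.of A)) ⊤ := by
    rw [Groth.Agent.S12513.result _ ⊤ (isAffineOpen_top _)]
    exact symm_mem_nonZeroDivisors A t htreg
  set f : (Γ(Mero.kmod (Spec (CommRingCat.of A)), ⊤))ˣ := sectionUnit ⟨τ, hτreg⟩ 1 with hf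
  have h1 := congrArg (fun D : Mero.Divisor (Spec (CommRingCat.of A)) => D.1 (x₀ A))
    (h (Mero.div f))
  change Mero.germOf f ⟨x₀ A, Opens.mem_top _⟩ = 1 at h1
  rw [germOf, QuotientGroup.eq_one_iff] at h1
  obtain ⟨w, hw⟩ := h1
  have h2 := congrArg Units.val hw
  change algebraMap _ _ (w : (Spec (CommRingCat.of A)).presheaf.stalk (x₀ A)) =
    f.val.1 ⟨x₀ A, Opens.mem_top _⟩ at h2
  rw [hf, sectionUnit_val_apply, algebraMap_eq_mk] at h2
  have h3 : (w : (Spec (CommRingCat.of A)).presheaf.stalk (x₀ A)) =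
      (Spec (CommRingCat.of A)).presheaf.germ ⊤ (x₀ A) (Opens.mem_top _) τ := by
    apply algebraMap_KStalk_injective (x₀ A)
    rw [algebraMap_eq_mk, algebraMap_eq_mk, h2]
    apply mk_congr rfl
    exact map_one ((Spec (CommRingCat.of A)).presheaf.germ ⊤ (x₀ A) (Opens.mem_top _)).hom
  have h4 : IsUnit ((Spec (CommRingCat.of A)).presheaf.germ ⊤ (x₀ A) (Opens.mem_top _) τ) := by
    rw [← h3]
    exact w.isUnit
  have h5 : x₀ A ∈ (Spec (CommRingCat.of A)).basicOpen τ :=
    ((Spec (CommRingCat.of A)).mem_basicOpen τ (x₀ A) (Opens.mem_top _)).mpr h4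
  have h6 := eq_top_of_mem A _ h5
  have h7 : IsUnit τ := by
    apply (Spec (CommRingCat.of A)).toRingedSpace.isUnit_of_isUnit_germ ⊤ τ
    intro y hy
    have h8 : y ∈ (Spec (CommRingCat.of A)).basicOpen τ := by
      rw [h6]
      trivial
    exact ((Spec (CommRingCat.of A)).mem_basicOpen τ y hy).mp h8
  have h9 : IsUnit t := by
    have := h7.map (eΓ A)
    rwa [hτ, RingEquiv.apply_symm_apply] at this
  exact (IsLocalRing.mem_maximalIdeal t).mp htm h9


/-- Let A be a Noetherian local ring. Then the group of divisors of Spec A is trivial (every divisor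
equals the unit divisor, divisors being written multiplicatively) if and only if A has depth 0, that
is, if and only if every element of the maximal ideal of A is a zero-divisor. -/
theorem result (A : Type u) [CommRing A] [IsNoetherianRing A] [IsLocalRing A] :
    (∀ D : Mero.Divisor (Spec (CommRingCat.of A)), D = 1) ↔ LocCoh.depth A A = 0 := by
  rw [Groth.Agent.Lib.DepthFlat33.depth_eq_zero_iff A]
  exact ⟨isAssociatedPrime_of_forall_eq_one A, eq_one_of_isAssociatedPrime A⟩

end Groth.Agent.S5082
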