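import Groth.Statements.S5083

set_option autoImplicit false
universe u
open CategoryTheory CategoryTheory.Limits AlgebraicGeometry TopologicalSpace
open Mero

namespace Groth.Agent.S5083

variable {X : Scheme.{u}}

/-- the restriction of a global meromorphic function to an open, as a dependent function -/
theorem res_pred (f : Γ(Mero.kmod X, ⊤)) (U : X.Opens) :
    (Mero.kLoc X).pred (fun x : U => f.1 ⟨x.1, Opens.mem_top x.1⟩) :=
  ((Mero.kmod X).presheaf.map (homOfLE (le_top : U ≤ ⊤)).op f).2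

/-- multiplication by `f` maps `O(D)` to `O(D')` when `D = D' * div f` pointwise -/
theorem mul_pred (D D' : Mero.Divisor X) (f : (Γ(Mero.kmod X, ⊤))ˣ)
    (hf : ∀ x : X, D.1 x = D'.1 x * Mero.germOf f ⟨x, Opens.mem_top x⟩)
    (U : X.Opens) (t : ∀ x : U, Mero.KStalk X x.1) (ht : (Mero.divLoc X D).pred t) :
    (Mero.divLoc X D').pred (fun x : U => t x * f.val.1 ⟨x.1, Opens.mem_top x.1⟩) := by
  refine ⟨Mero.kLoc_mul X U _ _ ht.1 (res_pred f.val U), fun x g' hg' => ?_⟩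
  have h1 := ht.2 x (g' * Units.map (Mero.evalK X ⊤ ⟨x.1, Opens.mem_top x.1⟩).toMonoidHom f) (by
    rw [hf x.1, hg', Mero.germOf, ← QuotientGroup.mk_mul])
  have e : t x * f.val.1 ⟨x.1, Opens.mem_top x.1⟩ * (g' : Mero.KStalk X x.1) =
      t x * ((g' * Units.map (Mero.evalK X ⊤ ⟨x.1, Opens.mem_top x.1⟩).toMonoidHom f :
        (Mero.KStalk X x.1)ˣ) : Mero.KStalk X x.1) := by
    rw [Units.val_mul]
    change _ = t x * ((g' : Mero.KStalk X x.1) * f.val.1 ⟨x.1, Opens.mem_top x.1⟩)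
    ring
  rw [e]
  exact h1

/-- multiplication by `f` as a morphism `O(D) ⟶ O(D')` -/
noncomputable def mulHom (D D' : Mero.Divisor X) (f : (Γ(Mero.kmod X, ⊤))ˣ)
    (hf : ∀ x : X, D.1 x = D'.1 x * Mero.germOf f ⟨x, Opens.mem_top x⟩) :
    Mero.divMod D ⟶ Mero.divMod D' :=
  ⟨PresheafOfModules.homMk (M₁ := (Mero.divMod D).val) (M₂ := (Mero.divMod D').val)
    { app := fun U => AddCommGrpCat.ofHom
        { toFun := fun (t : Γ(Mero.divMod D, U.unop)) =>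
            (⟨fun x => t.1 x * f.val.1 ⟨x.1, Opens.mem_top x.1⟩,
              mul_pred D D' f hf U.unop t.1 t.2⟩ : Γ(Mero.divMod D', U.unop))
          map_zero' := Subtype.ext (funext fun x => zero_mul _)
          map_add' := fun _ _ => Subtype.ext (funext fun x => add_mul _ _ _) }
      naturality := by intros; rfl }
    (fun _ r t => Subtype.ext (funext fun x => smul_mul_assoc _ _ _))⟩

theorem mulHom_app_apply (D D' : Mero.Divisor X) (f : (Γ(Mero.kmod X, ⊤))ˣ)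
    (hf : ∀ x : X, D.1 x = D'.1 x * Mero.germOf f ⟨x, Opens.mem_top x⟩)
    (U : X.Opens) (t : Γ(Mero.divMod D, U)) (x : U) :
    (((mulHom D D' f hf).app U).hom t).1 x = t.1 x * f.val.1 ⟨x.1, Opens.mem_top x.1⟩ := rfl

theorem mulHom_comp (D D' : Mero.Divisor X) (f : (Γ(Mero.kmod X, ⊤))ˣ)
    (hf : ∀ x : X, D.1 x = D'.1 x * Mero.germOf f ⟨x, Opens.mem_top x⟩)
    (hf' : ∀ x : X, D'.1 x = D.1 x * Mero.germOf f⁻¹ ⟨x, Opens.mem_top x⟩) :
    mulHom D D' f hf ≫ mulHom D' D f⁻¹ hf' = 𝟙 _ := by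
  apply Scheme.Modules.hom_ext
  intro U
  ext t
  apply Subtype.ext
  funext x
  change t.1 x * f.val.1 ⟨x.1, Opens.mem_top x.1⟩ * (f⁻¹ : (Γ(Mero.kmod X, ⊤))ˣ).val.1 ⟨x.1, Opens.mem_top x.1⟩ = t.1 x
  have h1 : f.val * (f⁻¹ : (Γ(Mero.kmod X, ⊤))ˣ).val = 1 := Units.mul_inv f
  have h2 := congrArg (fun r : Γ(Mero.kmod X, ⊤) => r.1 ⟨x.1, Opens.mem_top x.1⟩) h1
  simp only [Mero.kmod_mul_apply, Mero.kmod_one_apply] at h2
  rw [mul_assoc, h2, mul_one]

theorem result (X : Scheme.{u}) (D D' : Mero.Divisor X) (h : Mero.LinEquiv D D') :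
    Nonempty (Mero.divMod D ≅ Mero.divMod D') := by
  obtain ⟨f, hf⟩ := h
  have hpt : ∀ x : X, D.1 x * (D'.1 x)⁻¹ = Mero.germOf f ⟨x, Opens.mem_top x⟩ := by
    intro x
    have := congrArg (fun E : Mero.Divisor X => E.1 x) hf
    exact this
  have h1 : ∀ x : X, D.1 x = D'.1 x * Mero.germOf f ⟨x, Opens.mem_top x⟩ := by
    intro x
    rw [← hpt x]
    exact ((mul_comm (D'.1 x) (D.1 x * (D'.1 x)⁻¹)).trans (inv_mul_cancel_right _ _)).symm
  have h2 : ∀ x : X, D'.1 x = D.1 x * Mero.germOf f⁻¹ ⟨x, Opens.mem_top x⟩ := by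
    intro x
    rw [h1 x, Mero.germOf, Mero.germOf, map_inv, QuotientGroup.mk_inv, mul_inv_cancel_right]
  have h3 : ∀ x : X, D.1 x = D'.1 x * Mero.germOf (f⁻¹)⁻¹ ⟨x, Opens.mem_top x⟩ := by
    rw [inv_inv]; exact h1
  refine ⟨⟨mulHom D D' f h1, mulHom D' D f⁻¹ h2, mulHom_comp D D' f h1 h2, ?_⟩⟩
  have := mulHom_comp D' D f⁻¹ h2 h3
  convert this using 3
  all_goals simp

end Groth.Agent.S5083
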