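import Groth.Statements.S5085

set_option autoImplicit false
universe u
open CategoryTheory CategoryTheory.Limits AlgebraicGeometry TopologicalSpace
open Mero

namespace Groth.Agent.S5085

/-- Equality of two fractions in `K_{X,y}` clears to an equality in the local ring. -/
theorem cross_eq {X : Scheme.{u}} {y : X} {a a' : X.presheaf.stalk y} {b b' : Mero.regStalk X y}
    (h : (LocalizedModule.mk a b : Mero.KStalk X y) = LocalizedModule.mk a' b') :
    (b' : X.presheaf.stalk y) * a = (b : X.presheaf.stalk y) * a' := by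
  obtain ⟨c, hc⟩ := LocalizedModule.mk_eq.1 h
  simp only [Submonoid.smul_def, smul_eq_mul] at hc
  have hcz := Mero.regStalk_le_nonZeroDivisors y c.2
  exact (mul_cancel_left_mem_nonZeroDivisors hcz).1 hc

theorem mk_eq_of_cross {X : Scheme.{u}} {y : X} {a a' : X.presheaf.stalk y} {b b' : Mero.regStalk X y}
    (h : (b' : X.presheaf.stalk y) * a = (b : X.presheaf.stalk y) * a') :
    (LocalizedModule.mk a b : Mero.KStalk X y) = LocalizedModule.mk a' b' := by
  refine LocalizedModule.mk_eq.2 ⟨1, ?_⟩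
  simp only [Submonoid.smul_def, smul_eq_mul, one_smul]
  simpa using h

/-- Let X be a scheme, U an open subset and V an open subset of U which is schematically dense in U (for
every open W ⊆ U, restriction of functions from W to W ∩ V is injective). Then restriction of
sections of the sheaf of meromorphic functions K_X from U to V is injective: the canonical map from
meromorphic functions to pseudo-functions is injective. -/
theorem result (X : Scheme.{u}) (U V : X.Opens) (hVU : V ≤ U)
    (hV : ∀ W : X.Opens, W ≤ U →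
      Function.Injective ⇑(X.presheaf.map (homOfLE (inf_le_left : W ⊓ V ≤ W)).op)) :
    Function.Injective ⇑((Mero.kmod X).presheaf.map (homOfLE hVU).op) := by
  intro s t hst
  have hpt : ∀ y : V, s.1 ⟨y.1, hVU y.2⟩ = t.1 ⟨y.1, hVU y.2⟩ := by
    intro y
    have := congrArg (fun r => r.1 y) hst
    exact this
  apply Subtype.ext
  funext x
  obtain ⟨Va, ma, ia, a, b, wa⟩ := s.2 x
  obtain ⟨Vb, mb, ib, a', b', wb⟩ := t.2 x
  let W : X.Opens := Va ⊓ Vb
  have hWU : W ≤ U := inf_le_left.trans ia.le
  let ra := X.presheaf.map (homOfLE (inf_le_left : W ≤ Va)).op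
  let rb := X.presheaf.map (homOfLE (inf_le_right : W ≤ Vb)).op
  let c : Γ(X, W) := rb b'.1 * ra a - ra b.1 * rb a'
  have hc0 : X.presheaf.map (homOfLE (inf_le_left : W ⊓ V ≤ W)).op c = 0 := by
    apply TopCat.Presheaf.section_ext X.sheaf (W ⊓ V)
    intro y hy
    change X.presheaf.germ (W ⊓ V) y hy (X.presheaf.map (homOfLE (inf_le_left : W ⊓ V ≤ W)).op c) =
      X.presheaf.germ (W ⊓ V) y hy 0
    rw [TopCat.Presheaf.germ_res_apply, map_zero]
    have hyW : y ∈ W := hy.1
    have hyV : y ∈ V := hy.2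
    have h1 := wa ⟨y, hyW.1⟩
    have h2 := wb ⟨y, hyW.2⟩
    have h3 := hpt ⟨y, hyV⟩
    dsimp only at h1 h2 h3
    have h4 : (LocalizedModule.mk (X.presheaf.germ Va y hyW.1 a) (Mero.regGerm ⟨y, hyW.1⟩ b) :
        Mero.KStalk X y) =
        LocalizedModule.mk (X.presheaf.germ Vb y hyW.2 a') (Mero.regGerm ⟨y, hyW.2⟩ b') := by
      rw [← h1, ← h2]
      exact h3
    have h5 := cross_eq h4
    simp only [c, ra, rb, map_sub, map_mul, TopCat.Presheaf.germ_res_apply]
    rw [sub_eq_zero]
    exact h5
  have hc : c = 0 := hV W hWU (by rw [hc0, map_zero])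
  have hxW : x.1 ∈ W := ⟨ma, mb⟩
  have h1 := wa ⟨x.1, ma⟩
  have h2 := wb ⟨x.1, mb⟩
  dsimp only at h1 h2
  have hgerm : X.presheaf.germ W x.1 hxW c = 0 := by rw [hc, map_zero]
  simp only [c, ra, rb, map_sub, map_mul, TopCat.Presheaf.germ_res_apply] at hgerm
  rw [sub_eq_zero] at hgerm
  have h6 := mk_eq_of_cross (b := Mero.regGerm ⟨x.1, ma⟩ b) (b' := Mero.regGerm ⟨x.1, mb⟩ b') hgerm
  calc s.1 x = _ := h1
    _ = _ := h6
    _ = t.1 x := h2.symm

end Groth.Agent.S5085
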