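import Groth.Statements.S5088
import Groth.Agent.Lib.MeroDiv82B
import Groth.Agent.Lib.RegMero82
import Groth.Agent.S5086
import Groth.Agent.S1576
import Groth.Agent.Lib.StructureModuleStalk
import Groth.Agent.Lib.CohFinAmple

set_option autoImplicit false
universe u
open CategoryTheory CategoryTheory.Limits AlgebraicGeometry TopologicalSpace
open Mero

namespace Groth.Agent.S5088

open Mero Groth.Agent.Lib.StrictTransform82 Groth.Agent.Lib.AssPoints
  Groth.Agent.Lib.StructureModule Groth.Agent.Lib.H90Invertible Groth.Agent.Lib.H78GlobGen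
  Groth.Agent.Lib.H78SecCoord Groth.Agent.Lib.H78TensorGen Groth.Agent.Lib.QCohStalk
  Groth.Agent.Lib.RegMero82 Groth.Agent.Lib.MeroDiv82

variable {X : Scheme.{u}} {L : X.Modules}

/-- weakly associated points of the structure module are the associated points of `O_X` -/
theorem isWeakAssPoint_iff (x : X) : Curv2.IsWeakAssPoint (Coh.structureModule X) x ↔
    IsAssociatedPrime (IsLocalRing.maximalIdeal (X.presheaf.stalk x)) (X.presheaf.stalk x) :=
  (isAssPoint_iff_isWeakAssPoint _ x).symm.trans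
    (Groth.Agent.Lib.StructureModuleStalk.isAssPoint_structureModule_iff x)

/-- a unit multiple of a generator is a generator -/
theorem isGen_unit_smul {V : X.Opens} {e : Γ(L, V)} (he : IsGen L V e) (u : Γ(X, V))
    (hu : IsUnit u) : IsGen L V (u • e) := by
  intro W h
  have hu' : IsUnit (X.presheaf.map (homOfLE h).op u) := hu.map _
  have heq : (fun a : Γ(X, W) => a • L.presheaf.map (homOfLE h).op (u • e)) =
      (fun a : Γ(X, W) => a • L.presheaf.map (homOfLE h).op e) ∘
        (fun a => a * X.presheaf.map (homOfLE h).op u) := by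
    funext a
    have h1 : L.presheaf.map (homOfLE h).op (u • e) =
        X.presheaf.map (homOfLE h).op u • L.presheaf.map (homOfLE h).op e := res_smul L h u e
    simp only [Function.comp]
    rw [h1, smul_smul]
  rw [heq]
  exact (he W h).comp (Units.mulRight hu'.unit).bijective

/-- if the germ of a section is a unit multiple of the germ of a generator, the section is a
generator on a neighbourhood -/
theorem exists_isGen_of_germ_eq {V W₀ : X.Opens} {e : Γ(L, V)} (he : IsGen L V e) (m : Γ(L, W₀))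
    (z : X) (hzV : z ∈ V) (hzW : z ∈ W₀) (c : X.presheaf.stalk z) (hc : IsUnit c)
    (h : L.presheaf.germ W₀ z hzW m = c • L.presheaf.germ V z hzV e) :
    ∃ (N : X.Opens) (hN : N ≤ W₀), z ∈ N ∧ IsGen L N (rs L hN m) := by
  set O : X.Opens := W₀ ⊓ V with hO
  have hzO : z ∈ O := ⟨hzW, hzV⟩
  set g : Γ(X, O) := coord he (inf_le_right : O ≤ V) (rs L (inf_le_left : O ≤ W₀) m) with hg
  have hge : g • rs L (inf_le_right : O ≤ V) e = rs L (inf_le_left : O ≤ W₀) m :=
    coord_spec he _ _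
  have hgz : X.presheaf.germ O z hzO g = c := by
    have h1 := congrArg (L.presheaf.germ O z hzO) hge
    rw [Mero.germ_smul, germ_res, germ_res, h] at h1
    have h2 : (X.presheaf.germ O z hzO g - c) • L.presheaf.germ V z hzV e = 0 := by
      rw [sub_smul, h1, sub_self]
    exact sub_eq_zero.mp (smul_germ_gen_eq_zero he z hzV _ h2)
  set N : X.Opens := X.basicOpen g with hN
  have hNO : N ≤ O := X.basicOpen_le g
  have hzN : z ∈ N := by
    rw [hN, X.mem_basicOpen g z hzO, hgz]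
    exact hc
  have hu : IsUnit (X.presheaf.map (homOfLE hNO).op g) :=
    X.toRingedSpace.isUnit_res_basicOpen g
  refine ⟨N, hNO.trans inf_le_left, hzN, ?_⟩
  have h3 : rs L (hNO.trans inf_le_left) m =
      X.presheaf.map (homOfLE hNO).op g • rs L (hNO.trans inf_le_right) e := by
    have h4 := congrArg (rs L hNO) hge
    have h5 : rs L hNO (g • rs L (inf_le_right : O ≤ V) e) =
        X.presheaf.map (homOfLE hNO).op g • rs L hNO (rs L (inf_le_right : O ≤ V) e) :=
      res_smul L hNO g (rs L (inf_le_right : O ≤ V) e)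
    rw [rs_rs] at h4
    rw [← h4]
    rw [rs_rs] at h5
    exact h5
  rw [h3]
  exact isGen_unit_smul (he.mono (hNO.trans inf_le_right)) _ hu

/-- **Semilocal generator.** Given finitely many pairwise incomparable points of an affine open
`W₀`, an invertible module has a section over `W₀` generating it near each of these points. -/
theorem exists_section_gen (hL : PicF.IsInvertible L) {W₀ : X.Opens} (hW₀ : IsAffineOpen W₀)
    (F : Finset W₀)
    (hF : ∀ i ∈ F, ∀ j ∈ F,
      (hW₀.primeIdealOf j).asIdeal ≤ (hW₀.primeIdealOf i).asIdeal → i = j) :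
    ∃ m : Γ(L, W₀), ∀ i ∈ F, ∃ (N : X.Opens) (hN : N ≤ W₀), i.1 ∈ N ∧ IsGen L N (rs L hN m) := by
  classical
  haveI : L.IsQuasicoherent := isQCoh_of_isInvertible hL
  have h0 : ∀ i : W₀, ∃ (V : X.Opens) (hiV : i.1 ∈ V) (e : Γ(L, V)) (m₁ : Γ(L, W₀))
      (c : X.presheaf.stalk i.1), IsGen L V e ∧ IsUnit c ∧
        L.presheaf.germ W₀ i.1 i.2 m₁ = c • L.presheaf.germ V i.1 hiV e := by
    intro i
    obtain ⟨V, hiV, e, he⟩ := (isInvertible_iff_exists_isGen L).mp hL i.1
    obtain ⟨f, hfV, hif⟩ := hW₀.exists_basicOpen_le ⟨i.1, hiV⟩ i.2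
    obtain ⟨n, m₁, hm₁⟩ := exists_pow_smul_eq_res L hW₀ f (rs L hfV e)
    refine ⟨V, hiV, e, m₁, X.presheaf.germ W₀ i.1 i.2 f ^ n, he, ?_, ?_⟩
    · exact ((X.mem_basicOpen f i.1 i.2).mp hif).pow n
    · have h1 := congrArg (L.presheaf.germ (X.basicOpen f) i.1 hif) hm₁
      rw [germ_res, Mero.germ_smul, map_pow, germ_res,
        TopCat.Presheaf.germ_res_apply] at h1
      exact h1.symm
  choose V hiV e m₁ c he hc hm₁ using h0
  have hz : ∀ i j : W₀, ∃ z : Γ(X, W₀), i ∈ F → j ∈ F → i ≠ j →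
      z ∉ (hW₀.primeIdealOf i).asIdeal ∧ z ∈ (hW₀.primeIdealOf j).asIdeal := by
    intro i j
    by_cases h : i ∈ F ∧ j ∈ F ∧ i ≠ j
    · have hnle : ¬ (hW₀.primeIdealOf j).asIdeal ≤ (hW₀.primeIdealOf i).asIdeal :=
        fun hle => h.2.2 (hF i h.1 j h.2.1 hle)
      obtain ⟨z, hzj, hzi⟩ := SetLike.not_le_iff_exists.mp hnle
      exact ⟨z, fun _ _ _ => ⟨hzi, hzj⟩⟩
    · exact ⟨0, fun h1 h2 h3 => (h ⟨h1, h2, h3⟩).elim⟩
  choose z hz using hz
  set δ : W₀ → Γ(X, W₀) := fun i => ∏ j ∈ F.erase i, z i j with hδ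
  have hδ1 : ∀ i ∈ F, δ i ∉ (hW₀.primeIdealOf i).asIdeal := by
    intro i hi hmem
    haveI := (hW₀.primeIdealOf i).isPrime
    obtain ⟨j, hj, hjmem⟩ := Ideal.IsPrime.prod_mem_iff.mp hmem
    obtain ⟨hji, hjF⟩ := Finset.mem_erase.mp hj
    exact (hz i j hi hjF hji.symm).1 hjmem
  have hδ0 : ∀ i ∈ F, ∀ j ∈ F, j ≠ i → δ j ∈ (hW₀.primeIdealOf i).asIdeal := by
    intro i hi j hj hji
    haveI := (hW₀.primeIdealOf i).isPrime
    exact Ideal.IsPrime.prod_mem_iff.mpr
      ⟨i, Finset.mem_erase.mpr ⟨hji.symm, hi⟩, (hz j i hj hi hji).2⟩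
  set m : Γ(L, W₀) := ∑ j ∈ F, δ j • m₁ j with hm
  refine ⟨m, fun i hi => ?_⟩
  have hr : ∀ j : W₀, ∃ r : X.presheaf.stalk i.1,
      L.presheaf.germ W₀ i.1 i.2 (m₁ j) = r • L.presheaf.germ (V i) i.1 (hiV i) (e i) := by
    intro j
    have h1 : L.presheaf.germ W₀ i.1 i.2 (m₁ j) ∈
        Submodule.span (X.presheaf.stalk i.1) {L.presheaf.germ (V i) i.1 (hiV i) (e i)} := by
      rw [span_germ_gen_eq_top (he i) i.1 (hiV i)]
      trivial
    obtain ⟨r, hr⟩ := Submodule.mem_span_singleton.mp h1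
    exact ⟨r, hr.symm⟩
  choose r hr using hr
  have hri : r i = c i := by
    have h2 : (r i - c i) • L.presheaf.germ (V i) i.1 (hiV i) (e i) = 0 := by
      rw [sub_smul, ← hr i, ← hm₁ i, sub_self]
    exact sub_eq_zero.mp (smul_germ_gen_eq_zero (he i) i.1 (hiV i) _ h2)
  set cc : X.presheaf.stalk i.1 := ∑ j ∈ F, X.presheaf.germ W₀ i.1 i.2 (δ j) * r j with hcc
  have hgerm : L.presheaf.germ W₀ i.1 i.2 m =
      cc • L.presheaf.germ (V i) i.1 (hiV i) (e i) := by
    rw [hm, map_sum, hcc, Finset.sum_smul]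
    apply Finset.sum_congr rfl
    intro j _
    rw [Mero.germ_smul, hr j, smul_smul]
  have hccu : IsUnit cc := by
    have hu1 : IsUnit (X.presheaf.germ W₀ i.1 i.2 (δ i) * r i) := by
      rw [hri]
      exact ((isUnit_germ_iff hW₀ i (δ i)).mpr (hδ1 i hi)).mul (hc i)
    have hn2 : (∑ j ∈ F.erase i, X.presheaf.germ W₀ i.1 i.2 (δ j) * r j) ∈
        IsLocalRing.maximalIdeal (X.presheaf.stalk i.1) := by
      apply Ideal.sum_mem
      intro j hj
      obtain ⟨hji, hjF⟩ := Finset.mem_erase.mp hj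
      apply Ideal.mul_mem_right
      rw [IsLocalRing.mem_maximalIdeal, mem_nonunits_iff, isUnit_germ_iff hW₀ i (δ j), not_not]
      exact hδ0 i hi j hjF hji
    by_contra hnu
    have h3 : cc ∈ IsLocalRing.maximalIdeal (X.presheaf.stalk i.1) :=
      (IsLocalRing.mem_maximalIdeal _).mpr hnu
    rw [hcc, ← Finset.add_sum_erase F _ hi] at h3
    have h4 := (Ideal.add_mem_iff_left _ hn2).mp h3
    exact (IsLocalRing.mem_maximalIdeal _).mp h4 hu1
  exact exists_isGen_of_germ_eq (he i) m i.1 (hiV i) i.2 cc hccu hgerm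

/-- local form of the meromorphic section defined by a section `m` generating `L` near all
associated points -/
theorem exists_local_form_of_section [IsLocallyNoetherian X] (hL : PicF.IsInvertible L)
    {W₀ : X.Opens} (m : Γ(L, W₀)) (G : X.Opens) (hGW : G ≤ W₀)
    (hG : ∀ z : X, Curv2.IsWeakAssPoint (Coh.structureModule X) z → z ∈ G)
    (hgen : ∀ z ∈ G, ∃ (N : X.Opens) (hN : N ≤ W₀), z ∈ N ∧ IsGen L N (rs L hN m)) (x : X) :
    ∃ (N : X.Opens) (_ : x ∈ N) (e : Γ(L, N)) (a b : Γ(X, N)), IsGen L N e ∧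
      a ∈ regSub X N ∧ b ∈ regSub X N ∧
      ∀ (z : X) (hz : z ∈ N) (hzG : z ∈ G),
        X.presheaf.germ N z hz a • L.presheaf.germ N z hz e =
          X.presheaf.germ N z hz b • L.presheaf.germ W₀ z (hGW hzG) m := by
  obtain ⟨V, hxV, E, hE⟩ := (isInvertible_iff_exists_isGen L).mp hL x
  obtain ⟨_, ⟨N, hN, rfl⟩, hxN, hNV⟩ :=
    X.isBasis_affineOpens.exists_subset_of_mem_open hxV V.2
  replace hNV : N ≤ V := hNV
  replace hN : IsAffineOpen N := hN
  set e : Γ(L, N) := rs L hNV E with he_def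
  have he : IsGen L N e := hE.mono hNV
  set O : X.Opens := N ⊓ G with hO
  set g : Γ(X, O) :=
    coord he (inf_le_left : O ≤ N) (rs L ((inf_le_right : O ≤ G).trans hGW) m) with hg
  have hge : g • rs L (inf_le_left : O ≤ N) e = rs L ((inf_le_right : O ≤ G).trans hGW) m :=
    coord_spec he _ _
  have hinj : Function.Injective ⇑(X.presheaf.map (homOfLE (inf_le_left : N ⊓ O ≤ N)).op) := by
    rw [injective_iff_map_eq_zero]
    intro f hf
    by_contra hne
    have hex : ∃ (y : X) (hy : y ∈ N), X.presheaf.germ N y hy f ≠ 0 := by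
      by_contra hcon
      push Not at hcon
      exact hne (Groth.Agent.S5086.eq_zero_of_germ X f hcon)
    obtain ⟨y, hy, hfy⟩ := hex
    obtain ⟨w, hwN, -, hwass, hw0⟩ :=
      Groth.Agent.S8904.exists_weakAss_germ_ne_zero X f y hy hfy
    apply hw0
    have hwO : w ∈ N ⊓ O := ⟨hwN, hwN, hG w hwass⟩
    rw [← TopCat.Presheaf.germ_res_apply X.presheaf
      (homOfLE (inf_le_left : N ⊓ O ≤ N)) w hwO f, hf, map_zero]
  obtain ⟨t, ht, htO⟩ := Groth.Agent.S5086.exists_regular_noeth X N hN O hinj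
  have htreg : t ∈ regSub X N := by
    rw [Groth.Agent.S12513.result X N hN]
    exact ht
  obtain ⟨a, b, hab⟩ := Groth.Agent.S5086.local_data_of_regular X O g N hN t htreg htO
  have hstar : ∀ (z : X) (hz : z ∈ N) (hzG : z ∈ G),
      X.presheaf.germ N z hz a • L.presheaf.germ N z hz e =
        X.presheaf.germ N z hz b.1 • L.presheaf.germ W₀ z (hGW hzG) m := by
    intro z hz hzG
    have hzO : z ∈ O := ⟨hz, hzG⟩
    have hzNO : z ∈ N ⊓ O := ⟨hz, hzO⟩
    have h1 := congrArg (X.presheaf.germ (N ⊓ O) z hzNO) hab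
    rw [map_mul, TopCat.Presheaf.germ_res_apply, TopCat.Presheaf.germ_res_apply,
      TopCat.Presheaf.germ_res_apply] at h1
    have h2 := congrArg (L.presheaf.germ O z hzO) hge
    rw [Mero.germ_smul, germ_res L (inf_le_left : O ≤ N) z hzO e,
      germ_res L ((inf_le_right : O ≤ G).trans hGW) z hzO m] at h2
    rw [← h1, ← h2, smul_smul]
  refine ⟨N, hxN, e, a, b.1, he, ?_, b.2, hstar⟩
  apply Groth.Agent.S8904.mem_regSub_of_weakAss
  intro z hz hzass
  have hzG : z ∈ G := hG z hzass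
  obtain ⟨N', hN', hzN', hgenN'⟩ := hgen z hzG
  have h1 : L.presheaf.germ N' z hzN' (rs L hN' m) ∈
      Submodule.span (X.presheaf.stalk z) {L.presheaf.germ N z hz e} := by
    rw [span_germ_gen_eq_top he z hz]
    trivial
  obtain ⟨u, hu⟩ := Submodule.mem_span_singleton.mp h1
  have huu : IsUnit u := isUnit_of_germ_gen_eq_smul he hgenN' z hz hzN' u hu.symm
  have h2 := hstar z hz hzG
  rw [← germ_res L hN' z hzN' m, ← hu, smul_smul] at h2
  have h3 : (X.presheaf.germ N z hz a - X.presheaf.germ N z hz b.1 * u) •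
      L.presheaf.germ N z hz e = 0 := by
    rw [sub_smul, h2, sub_self]
  have h4 := sub_eq_zero.mp (smul_germ_gen_eq_zero he z hz _ h3)
  rw [h4]
  exact Submonoid.mul_mem _ (b.2 ⟨z, hz⟩) huu.mem_nonZeroDivisors


/-- Case a): let X be a locally Noetherian scheme such that the set of associated points of O_X (the
points x such that the maximal ideal of O_{X,x} is an associated prime of O_{X,x}) is contained in
an affine open subset of X. Then every invertible O_X-module is isomorphic to O_X(D) for some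
divisor D on X; in other words the canonical homomorphism Div(X) → Pic(X) is surjective and Pic(X)
is the group of divisors modulo linear equivalence. -/
theorem result (X : Scheme.{u}) [IsLocallyNoetherian X]
    (hX : ∃ W : X.Opens, IsAffineOpen W ∧ ∀ x : ↥X,
      IsAssociatedPrime (IsLocalRing.maximalIdeal ↑(X.presheaf.stalk x)) ↑(X.presheaf.stalk x) → x ∈ W)
    (L : X.Modules) (hL : PicF.IsInvertible L) :
    ∃ D : Mero.Divisor X, Nonempty (L ≅ Mero.divMod D) := by
  classical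
  obtain ⟨W₀, hW₀, hass⟩ := hX
  have hassW : ∀ z : X, Curv2.IsWeakAssPoint (Coh.structureModule X) z → z ∈ W₀ :=
    fun z hz => hass z ((isWeakAssPoint_iff z).mp hz)
  have hfin : {x : X | x ∈ W₀ ∧ Curv2.IsAssPoint (Coh.structureModule X) x}.Finite :=
    Groth.Agent.S1576.finite_assPoints_affine X _
      (Groth.Agent.Lib.CohFinAmple.isCoh_structureModule X) W₀ hW₀
  let F₀ : Finset W₀ :=
    (hfin.preimage (f := (Subtype.val : W₀ → X)) Subtype.val_injective.injOn).toFinset
  have hF₀ : ∀ y : W₀, y ∈ F₀ ↔ Curv2.IsWeakAssPoint (Coh.structureModule X) y.1 := by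
    intro y
    change y ∈ (hfin.preimage (f := (Subtype.val : W₀ → X))
      Subtype.val_injective.injOn).toFinset ↔ _
    rw [Set.Finite.mem_toFinset, Set.mem_preimage, Set.mem_setOf_eq,
      isAssPoint_iff_isWeakAssPoint]
    exact ⟨fun h => h.2, fun h => ⟨y.2, h⟩⟩
  let pr : W₀ → Ideal Γ(X, W₀) := fun i => (hW₀.primeIdealOf i).asIdeal
  let S : Finset (Ideal Γ(X, W₀)) := F₀.image pr
  let F : Finset W₀ := F₀.filter (fun i => Maximal (· ∈ S) (pr i))
  have hFinc : ∀ i ∈ F, ∀ j ∈ F,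
      (hW₀.primeIdealOf j).asIdeal ≤ (hW₀.primeIdealOf i).asIdeal → i = j := by
    intro i hi j hj hle
    obtain ⟨hi0, himax⟩ := Finset.mem_filter.mp hi
    obtain ⟨hj0, hjmax⟩ := Finset.mem_filter.mp hj
    have h1 : pr i ≤ pr j := hjmax.2 himax.1 hle
    have h2 : pr i = pr j := le_antisymm h1 hle
    exact primeIdealOf_injective hW₀ i j (PrimeSpectrum.ext h2)
  obtain ⟨m, hm⟩ := exists_section_gen hL hW₀ F hFinc
  set G : X.Opens := sSup {N : X.Opens | ∃ hN : N ≤ W₀, IsGen L N (rs L hN m)} with hGdef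
  have hGW : G ≤ W₀ := sSup_le (fun N hN => hN.1)
  have hgen : ∀ z ∈ G, ∃ (N : X.Opens) (hN : N ≤ W₀), z ∈ N ∧ IsGen L N (rs L hN m) := by
    intro z hz
    obtain ⟨N, ⟨hN, hNgen⟩, hzN⟩ := Opens.mem_sSup.mp hz
    exact ⟨N, hN, hzN, hNgen⟩
  have hG : ∀ z : X, Curv2.IsWeakAssPoint (Coh.structureModule X) z → z ∈ G := by
    intro z hz
    have hzW := hassW z hz
    have hz0 : (⟨z, hzW⟩ : W₀) ∈ F₀ := (hF₀ ⟨z, hzW⟩).mpr hz
    have hzS : pr ⟨z, hzW⟩ ∈ S := Finset.mem_image_of_mem pr hz0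
    obtain ⟨q, hle, hq⟩ := S.exists_le_maximal hzS
    obtain ⟨i, hi0, rfl⟩ := Finset.mem_image.mp hq.1
    have hiF : i ∈ F := Finset.mem_filter.mpr ⟨hi0, hq⟩
    obtain ⟨N, hN, hiN, hNgen⟩ := hm i hiF
    have hiG : i.1 ∈ G := Opens.mem_sSup.mpr ⟨N, ⟨hN, hNgen⟩, hiN⟩
    have hspec : z ⤳ i.1 := specializes_of_primeIdealOf_le hW₀ i ⟨z, hzW⟩ hle
    exact hspec.mem_open G.2 hiG
  choose N hxN e a b he haR hbR hstar using
    exists_local_form_of_section hL m G hGW hG hgen
  have hcompat : ∀ (x x' z : X) (hz : z ∈ N x) (hz' : z ∈ N x'),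
      X.presheaf.germ (N x') z hz' (b x') • L.presheaf.germ (N x) z hz (a x • e x) =
        X.presheaf.germ (N x) z hz (b x) • L.presheaf.germ (N x') z hz' (a x' • e x') := by
    intro x x' z hz hz'
    set O : X.Opens := N x ⊓ N x' with hO
    set σ : Γ(L, O) :=
      X.presheaf.map (homOfLE (inf_le_right : O ≤ N x')).op (b x') •
          rs L (inf_le_left : O ≤ N x) (a x • e x) -
        X.presheaf.map (homOfLE (inf_le_left : O ≤ N x)).op (b x) •
          rs L (inf_le_right : O ≤ N x') (a x' • e x') with hσ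
    have hσgerm : ∀ (w : X) (hw : w ∈ O), L.presheaf.germ O w hw σ =
        X.presheaf.germ (N x') w hw.2 (b x') • L.presheaf.germ (N x) w hw.1 (a x • e x) -
          X.presheaf.germ (N x) w hw.1 (b x) •
            L.presheaf.germ (N x') w hw.2 (a x' • e x') := by
      intro w hw
      rw [hσ, map_sub, Mero.germ_smul, Mero.germ_smul, germ_res, germ_res,
        TopCat.Presheaf.germ_res_apply, TopCat.Presheaf.germ_res_apply]
    have hσ0 : σ = 0 := by
      apply eq_zero_of_germ_weakAss hL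
      intro w hw hwass
      have hwG := hG w hwass
      rw [hσgerm w hw, Mero.germ_smul, Mero.germ_smul, hstar x w hw.1 hwG,
        hstar x' w hw.2 hwG, smul_smul, smul_smul, mul_comm, sub_self]
    have h1 := hσgerm z ⟨hz, hz'⟩
    rw [hσ0, map_zero] at h1
    exact (sub_eq_zero.mp h1.symm)
  obtain ⟨s, hs⟩ := exists_merMod_section N hxN (fun x => a x • e x)
    (fun x => ⟨b x, hbR x⟩) hcompat
  exact nonempty_iso_divMod hL s (isRegularMero_of_local s (fun x =>
    ⟨N x, hxN x, e x, a x, ⟨b x, hbR x⟩, he x, haR x ⟨x, hxN x⟩, hs x x (hxN x)⟩))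

end Groth.Agent.S5088
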