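import Groth.Statements.S8866
import Groth.Agent.Lib.RegMero82

set_option autoImplicit false
universe u
open CategoryTheory CategoryTheory.Limits AlgebraicGeometry TopologicalSpace
open SDiv

namespace Groth.Agent.S8866

open Mero Groth.Agent.Lib.StrictTransform82 Groth.Agent.Lib.AssPoints
  Groth.Agent.Lib.StructureModule Groth.Agent.Lib.RegMero82

/-- in a reduced ring, a prime minimal over the annihilator of an element is a minimal prime -/
theorem mem_minimalPrimes_of_minimal_ann {A : Type*} [CommRing A] [IsReduced A] (p I : Ideal A)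
    (c : A) (hI : ∀ r : A, r ∈ I ↔ r * c = 0) (hp : p ∈ I.minimalPrimes) :
    p ∈ minimalPrimes A := by
  haveI : p.IsPrime := hp.1.1
  have hIp : I ≤ p := hp.1.2
  set T : Submonoid A := p.primeCompl ⊔ Submonoid.powers c with hT
  have hdisj : Disjoint ((⊥ : Ideal A) : Set A) (T : Set A) := by
    rw [Set.disjoint_left]
    intro r hr hrT
    have hr0 : r = 0 := hr
    obtain ⟨s, hs, t, ⟨n, rfl⟩, hst⟩ := Submonoid.mem_sup.mp hrT
    rw [hr0] at hst
    have h1 : (s * c) ^ (n + 1) = 0 := by
      rw [mul_pow, pow_succ c, ← mul_assoc, mul_comm (s ^ (n + 1)), pow_succ s]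
      have : c ^ n * (s ^ n * s) * c = s ^ n * c * (s * c ^ n) := by ring
      rw [this, hst, mul_zero]
    have h2 : s * c = 0 := pow_eq_zero_iff (n.succ_ne_zero) |>.mp h1
    exact hs (hIp ((hI s).mpr h2))
  obtain ⟨q, hq, -, hqT⟩ := Ideal.exists_le_prime_disjoint (⊥ : Ideal A) T hdisj
  obtain ⟨q₀, hq₀min, hq₀q⟩ := Ideal.exists_minimalPrimes_le (bot_le : (⊥ : Ideal A) ≤ q)
  haveI : q₀.IsPrime := hq₀min.1.1
  have hq₀T : ∀ r ∈ T, r ∉ q₀ := fun r hr hrq => Set.disjoint_left.mp hqT (hq₀q hrq) hr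
  have hcq₀ : c ∉ q₀ := hq₀T c (Submonoid.mem_sup_right (Submonoid.mem_powers c))
  have hq₀p : q₀ ≤ p := by
    intro r hr
    by_contra hrp
    exact hq₀T r (Submonoid.mem_sup_left hrp) hr
  have hpq₀ : p ≤ q₀ := by
    intro z hz
    obtain ⟨s, hs, n, hsn⟩ := Groth.Agent.S8904.exists_mul_pow_mem_of_mem_minimalPrimes hp hz
    rw [hI] at hsn
    have h1 : s * z ^ n * c ∈ q₀ := by rw [hsn]; exact q₀.zero_mem
    have hsq₀ : s ∉ q₀ := hq₀T s (Submonoid.mem_sup_left hs)
    rcases Ideal.IsPrime.mem_or_mem inferInstance h1 with h2 | h2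
    · rcases Ideal.IsPrime.mem_or_mem inferInstance h2 with h3 | h3
      · exact (hsq₀ h3).elim
      · exact Ideal.IsPrime.mem_of_pow_mem inferInstance n h3
    · exact (hcq₀ h2).elim
  rw [le_antisymm hpq₀ hq₀p]
  exact hq₀min

/-- on a reduced scheme weakly associated points are generic -/
theorem generic_of_isWeakAssPoint (X : Scheme.{u}) [IsReduced X] (x : X)
    (hx : Curv2.IsWeakAssPoint (Coh.structureModule X) x) (y : X) (hyx : y ⤳ x) : y = x := by
  obtain ⟨_, ⟨W, hW, rfl⟩, hxW, -⟩ :=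
    X.isBasis_affineOpens.exists_subset_of_mem_open (Set.mem_univ x) isOpen_univ
  replace hW : IsAffineOpen W := hW
  haveI := isQuasicoherent_structureModule X
  obtain ⟨c, hc⟩ := exists_minimal_of_isWeakAssPoint (Coh.structureModule X) hW ⟨x, hxW⟩
    (isLocAt_of_isQuasicoherent _ hW ⟨x, hxW⟩) hx
  have hmin : (hW.primeIdealOf ⟨x, hxW⟩).asIdeal ∈ minimalPrimes Γ(X, W) :=
    mem_minimalPrimes_of_minimal_ann _ (ann Γ(X, W) c) (show Γ(X, W) from c)
      (fun r => by rw [mem_ann]; rfl) hc
  have hyW : y ∈ W := hyx.mem_open W.2 hxW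
  have hle := Groth.Agent.S8904.primeIdealOf_le_of_specializes X hW ⟨x, hxW⟩ ⟨y, hyW⟩ hyx
  have hge := hmin.2 ⟨(hW.primeIdealOf ⟨y, hyW⟩).isPrime, bot_le⟩ hle
  have heq : hW.primeIdealOf ⟨y, hyW⟩ = hW.primeIdealOf ⟨x, hxW⟩ :=
    PrimeSpectrum.ext (le_antisymm hle hge)
  exact congrArg Subtype.val (primeIdealOf_injective hW _ _ heq)


/-- Let X be a reduced scheme in which every quasi-compact open subset has only finitely many
irreducible components, and fix an O_X-module L that is invertible. A regular meromorphic section of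
L then exists. For an integral scheme this is the case of one irreducible component. -/
theorem result (X : Scheme.{u}) [IsReduced X]
    (hfin : ∀ U : X.Opens, IsCompact (U : Set ↥X) → (irreducibleComponents ↥(U : Scheme.{u})).Finite)
    (L : X.Modules) (hL : PicF.IsInvertible L) : Mero.HasRegularMero L := by
  exact hasRegularMero (generic_of_isWeakAssPoint X) hfin hL

end Groth.Agent.S8866
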