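import Groth.Statements.S5089
import Groth.Agent.Lib.MeroDiv82B
import Groth.Agent.S8866

set_option autoImplicit false
universe u
open CategoryTheory CategoryTheory.Limits AlgebraicGeometry TopologicalSpace
open Mero

namespace Groth.Agent.S5089

open Mero Groth.Agent.Lib.MeroDiv82

/-- locally finitely many irreducible components implies quasi-compact opens have finitely many
irreducible components -/
theorem finite_irreducibleComponents_of_locallyFinite (X : Scheme.{u})
    (hX : ∀ x : ↥X, ∃ W : X.Opens, x ∈ W ∧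
      {Z : Set ↥X | Z ∈ irreducibleComponents ↥X ∧ (Z ∩ (W : Set ↥X)).Nonempty}.Finite)
    (U : X.Opens) (hU : IsCompact (U : Set X)) :
    (irreducibleComponents ↥(U : Scheme.{u})).Finite := by
  choose W hxW hW using hX
  obtain ⟨t, ht⟩ := hU.elim_nhds_subcover (fun x => (W x : Set X))
    (fun x _ => (W x).2.mem_nhds (hxW x))
  have hS : {Z : Set ↥X | Z ∈ irreducibleComponents ↥X ∧ (Z ∩ (U : Set ↥X)).Nonempty}.Finite := by
    apply (Set.Finite.biUnion t.finite_toSet (fun x _ => hW x)).subset
    rintro Z ⟨hZ, y, hyZ, hyU⟩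
    have hy := ht.2 hyU
    simp only [Set.mem_iUnion] at hy
    obtain ⟨x, hxt, hyW⟩ := hy
    simp only [Set.mem_iUnion]
    exact ⟨x, hxt, hZ, y, hyZ, hyW⟩
  apply (hS.image (fun Z => U.ι ⁻¹' Z)).subset
  intro Z' hZ'
  have himg : IsIrreducible (U.ι '' Z') := hZ'.1.image _ U.ι.continuous.continuousOn
  obtain ⟨Z, hZ, hsub⟩ := exists_mem_irreducibleComponents_subset_of_isIrreducible _ himg
  obtain ⟨y', hy'⟩ := hZ'.1.nonempty
  have hne : (Z ∩ Set.range U.ι).Nonempty := ⟨U.ι y', hsub ⟨y', hy', rfl⟩, y', rfl⟩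
  have hpre := preimage_mem_irreducibleComponents hZ U.ι.isOpenEmbedding hne
  have hle : Z' ⊆ U.ι ⁻¹' Z := fun z hz => hsub ⟨z, hz, rfl⟩
  have heq : U.ι ⁻¹' Z = Z' := Set.Subset.antisymm (hZ'.2 hpre.1 hle) hle
  refine ⟨Z, ⟨hZ, ?_⟩, heq⟩
  refine ⟨U.ι y', hsub ⟨y', hy', rfl⟩, ?_⟩
  exact y'.2


/-- Case b): let X be a reduced scheme whose set of irreducible components is locally finite (every
point has an open neighbourhood meeting only finitely many irreducible components). Then every
invertible O_X-module is isomorphic to O_X(D) for some divisor D on X; in other words the canonical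
homomorphism Div(X) → Pic(X) is surjective. -/
theorem result (X : Scheme.{u}) [IsReduced X]
    (hX : ∀ x : ↥X, ∃ W : X.Opens, x ∈ W ∧
      {Z : Set ↥X | Z ∈ irreducibleComponents ↥X ∧ (Z ∩ (W : Set ↥X)).Nonempty}.Finite)
    (L : X.Modules) (hL : PicF.IsInvertible L) :
    ∃ D : Mero.Divisor X, Nonempty (L ≅ Mero.divMod D) := by
  obtain ⟨s, hs⟩ := Groth.Agent.S8866.result X
    (finite_irreducibleComponents_of_locallyFinite X hX) L hL
  exact nonempty_iso_divMod hL s hs

end Groth.Agent.S5089
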