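import Groth.Statements.S5090
import Groth.Agent.Lib.LocFact82

set_option autoImplicit false
universe u
open CategoryTheory CategoryTheory.Limits AlgebraicGeometry TopologicalSpace
open Div21

namespace Groth.Agent.S5090

open Groth.Agent.Lib.LocFact82

/-- Under hypothesis (a''), every height-one prime of every local ring is generated by a
non-zero-divisor. -/
theorem principal_of_height_one (X : Scheme.{u})
    (H : ∀ ζ : ↥X, ringKrullDim ↑(X.presheaf.stalk ζ) = 1 → ∀ (x : ↥X) (h : ζ ⤳ x),
        ∃ t : ↑(X.presheaf.stalk x), t ∈ nonZeroDivisors ↑(X.presheaf.stalk x) ∧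
          (IsLocalRing.maximalIdeal ↑(X.presheaf.stalk ζ)).comap (X.presheaf.stalkSpecializes h).hom =
            Ideal.span {t})
    (x : X) (P : Ideal (X.presheaf.stalk x)) (hP : P.IsPrime) (h1 : P.height = 1) :
    ∃ t : ↑(X.presheaf.stalk x), t ∈ nonZeroDivisors ↑(X.presheaf.stalk x) ∧ P = Ideal.span {t} := by
  obtain ⟨ζ, h, rfl⟩ := exists_genPrime_eq X x P
  have hdim : ringKrullDim (X.presheaf.stalk ζ) = 1 := by
    rw [ringKrullDim_stalk_eq_height X h, h1]
    rfl
  exact H ζ hdim x h

/-- Under hypothesis (a''), a local ring having a non-maximal prime is a domain. -/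
theorem isDomain_of_exists_prime (X : Scheme.{u}) [IsLocallyNoetherian X]
    (H : ∀ ζ : ↥X, ringKrullDim ↑(X.presheaf.stalk ζ) = 1 → ∀ (x : ↥X) (h : ζ ⤳ x),
        ∃ t : ↑(X.presheaf.stalk x), t ∈ nonZeroDivisors ↑(X.presheaf.stalk x) ∧
          (IsLocalRing.maximalIdeal ↑(X.presheaf.stalk ζ)).comap (X.presheaf.stalkSpecializes h).hom =
            Ideal.span {t})
    (x : X) (𝔭 : Ideal (X.presheaf.stalk x)) (h𝔭 : 𝔭.IsPrime)
    (hne : 𝔭 ≠ IsLocalRing.maximalIdeal (X.presheaf.stalk x)) : IsDomain (X.presheaf.stalk x) := by
  obtain ⟨P, hP, h1⟩ := exists_height_eq_one 𝔭 hne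
  obtain ⟨t, ht, hPt⟩ := principal_of_height_one X H x P hP h1
  exact isDomain_of_prime_span_nzd P t ht hPt


/-- Equivalence of conditions a'') and c): let X be a locally Noetherian scheme which is reduced at each
of its isolated points (for every point x such that {x} is open, the local ring O_{X,x} is reduced).
Then the following are equivalent. (a'') Every integral closed subscheme of X of codimension 1 is
regularly immersed in X: for every point ζ whose local ring has dimension 1 and every specialization
x of ζ, the ideal of O_{X,x} defining the closure of ζ with its reduced structure (the preimage of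
the maximal ideal of O_{X,ζ} under the specialization map) is generated by one non-zero-divisor of
O_{X,x}. (c) X is locally factorial: every local ring of X is a unique factorisation domain. -/
theorem result (X : Scheme.{u}) [IsLocallyNoetherian X]
    (hred : ∀ x : ↥X, IsOpen ({x} : Set ↥X) → IsReduced ↑(X.presheaf.stalk x)) :
    (∀ ζ : ↥X, ringKrullDim ↑(X.presheaf.stalk ζ) = 1 → ∀ (x : ↥X) (h : ζ ⤳ x),
        ∃ t : ↑(X.presheaf.stalk x), t ∈ nonZeroDivisors ↑(X.presheaf.stalk x) ∧
          (IsLocalRing.maximalIdeal ↑(X.presheaf.stalk ζ)).comap (X.presheaf.stalkSpecializes h).hom =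
            Ideal.span {t}) ↔
      ∀ x : ↥X, ∃ _ : IsDomain ↑(X.presheaf.stalk x), UniqueFactorizationMonoid ↑(X.presheaf.stalk x) := by
  constructor
  · intro H x
    have hdom : IsDomain (X.presheaf.stalk x) := by
      by_cases hex : ∃ 𝔭 : Ideal (X.presheaf.stalk x), 𝔭.IsPrime ∧
          𝔭 ≠ IsLocalRing.maximalIdeal (X.presheaf.stalk x)
      · obtain ⟨𝔭, h𝔭, hne⟩ := hex
        exact isDomain_of_exists_prime X H x 𝔭 h𝔭 hne
      · push Not at hex
        have h1 : ∀ ζ : X, ζ ⤳ x → ζ = x := by
          intro ζ hζ
          refine eq_of_genPrime_eq X hζ specializes_rfl ?_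
          rw [genPrime_refl]
          exact hex _ inferInstance
        by_cases h2 : ∀ y : X, x ⤳ y → y = x
        · have := hred x (isOpen_singleton_of_forall_specializes X x h1 h2)
          exact isDomain_of_isReduced_of_unique_prime hex
        · push Not at h2
          obtain ⟨y, hxy, hne⟩ := h2
          have : IsDomain (X.presheaf.stalk y) := by
            refine isDomain_of_exists_prime X H y (genPrime X hxy) inferInstance ?_
            intro he
            rw [← genPrime_refl] at he
            exact hne (eq_of_genPrime_eq X hxy specializes_rfl he).symm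
          exact isDomain_stalk_of_specializes X hxy
    refine ⟨hdom, ?_⟩
    have hN : IsNoetherianRing (X.presheaf.stalk x) := inferInstance
    refine ufm_of_height_one_principal fun P hP h1 => ?_
    obtain ⟨t, -, hPt⟩ := principal_of_height_one X H x P hP h1
    exact ⟨t, hPt⟩
  · intro H ζ hdim x h
    obtain ⟨hdom, hufm⟩ := H x
    have h1 : (genPrime X h).height = 1 := by
      have := ringKrullDim_stalk_eq_height X h
      rw [hdim] at this
      exact_mod_cast this.symm
    obtain ⟨t, ht0, ht⟩ := exists_span_of_height_eq_one (genPrime X h) h1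
    exact ⟨t, mem_nonZeroDivisors_of_ne_zero ht0, ht⟩

end Groth.Agent.S5090
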