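import Groth.Statements.S5091
import Groth.Agent.S1699
import Groth.Agent.Lib.SerreSk

set_option autoImplicit false
universe u
open CategoryTheory CategoryTheory.Limits AlgebraicGeometry TopologicalSpace
open Div21

namespace Groth.Agent.S5091

/-- Let X be a locally Noetherian scheme, Y a closed subset and U = X − Y, with j : U → X the inclusion.
Then O_X → j_*O_U is injective — restriction of functions from every open V to V ∩ U is injective,
i.e. U is schematically dense in X — if and only if the local ring of X at every point of Y has
depth at least 1. -/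
theorem result (X : Scheme.{u}) [IsLocallyNoetherian X] (U : X.Opens) :
    CInt.IsSchematicallyDense U ↔
      ∀ x : ↥X, x ∉ U → (1 : ℕ∞) ≤ LocCoh.depth ↑(X.presheaf.stalk x) ↑(X.presheaf.stalk x) := by
  rw [Groth.Agent.S1699.result]
  have key : ∀ x : ↥X, IsAssociatedPrime (IsLocalRing.maximalIdeal ↑(X.presheaf.stalk x))
      ↑(X.presheaf.stalk x) ↔
      ¬ (1 : ℕ∞) ≤ LocCoh.depth ↑(X.presheaf.stalk x) ↑(X.presheaf.stalk x) := fun x =>
    Groth.Agent.Lib.SerreSk.maximalIdeal_mem_associatedPrimes_iff (X.presheaf.stalk x)
  constructor
  · intro h x hxU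
    by_contra hnd
    exact hxU (h x ((key x).mpr hnd))
  · intro h x hass
    by_contra hxU
    exact (key x).mp hass (h x hxU)

end Groth.Agent.S5091
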