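import Groth.Statements.S5092
import Groth.Agent.Lib.MeroPullback
-- import your own Groth.Agent.* helpers here

set_option autoImplicit false
universe u
open CategoryTheory CategoryTheory.Limits AlgebraicGeometry TopologicalSpace
open Mero

namespace Groth.Agent.S5092

/-- Suppose X and Y are schemes, both locally Noetherian, and f : X → Y is a morphism carrying each
associated point of O_X (that is, a point whose local ring has its maximal ideal among its
associated primes) to an associated point of O_Y. Then, given any open subset U of Y and any regular
function s on U (one whose germ at each point of U is a non-zero-divisor), the function on f⁻¹(U)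
obtained by pulling s back along f is again regular; as a result, every meromorphic function and
every divisor on Y admits a well-defined pullback along f. -/
theorem result {X Y : Scheme.{u}} [IsLocallyNoetherian X] [IsLocallyNoetherian Y]
    (f : X ⟶ Y)
    (hf : ∀ x : ↥X, IsAssociatedPrime (IsLocalRing.maximalIdeal ↑(X.presheaf.stalk x)) ↑(X.presheaf.stalk x) →
      IsAssociatedPrime (IsLocalRing.maximalIdeal ↑(Y.presheaf.stalk (f x))) ↑(Y.presheaf.stalk (f x))) :
    ∀ (U : Y.Opens) (s : Γ(Y, U)), s ∈ Mero.regSub Y U → f.app U s ∈ Mero.regSub X (f ⁻¹ᵁ U) := by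
  intro U s hs
  apply Groth.Agent.Lib.MeroPullback.app_mem_regSub_of_isUnit_at_weakAss
  intro x' hx' hass
  have h1 : Curv2.IsAssPoint (Coh.structureModule X) x' :=
    (Groth.Agent.Lib.AssPoints.isAssPoint_iff_isWeakAssPoint _ x').mpr hass
  have h2 := hf x' ((Groth.Agent.Lib.StructureModuleStalk.isAssPoint_structureModule_iff x').mp h1)
  exact Groth.Agent.Lib.MeroPullback.isUnit_of_mem_nonZeroDivisors_of_isAssociatedPrime h2
    (hs ⟨f x', hx'⟩)

end Groth.Agent.S5092
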