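import Groth.Statements.S5097

set_option autoImplicit false
universe u
open CategoryTheory CategoryTheory.Limits AlgebraicGeometry TopologicalSpace
open Mero

namespace Groth.Agent.S5097

/-- the inverse of a local equation of `D` satisfies the condition cutting out `O_X(D)` -/
theorem divCond_inv {X : Scheme.{u}} (D : Mero.Divisor X) {U : X.Opens} (f : (Γ(Mero.kmod X, U))ˣ)
    (hU : ∀ y : U, D.1 y.1 = Mero.germOf f y) (y : U) :
    Mero.DivCond D y.1 ((f⁻¹ : (Γ(Mero.kmod X, U))ˣ).val.1 y) := by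
  intro g hg
  rw [hU y] at hg
  have h1 := QuotientGroup.eq.1 hg
  obtain ⟨w, hw⟩ := h1
  refine ⟨(w : X.presheaf.stalk y.1), ?_⟩
  have h2 := congrArg Units.val hw
  rw [Units.val_mul, ← map_inv] at h2
  exact h2

/-- one half of the comparison -/
theorem half {X : Scheme.{u}} (D D' : Mero.Divisor X)
    (h : ∀ (U : X.Opens) (t : Γ(Mero.kmod X, U)),
      (∀ x : ↥U, Mero.DivCond D x.1 (t.1 x)) → (∀ x : ↥U, Mero.DivCond D' x.1 (t.1 x)))
    (x : X) {U U' : X.Opens} (hx : x ∈ U) (hx' : x ∈ U')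
    (f : (Γ(Mero.kmod X, U))ˣ) (f' : (Γ(Mero.kmod X, U'))ˣ)
    (hU : ∀ y : U, D.1 y.1 = Mero.germOf f y) (hU' : ∀ y : U', D'.1 y.1 = Mero.germOf f' y) :
    ∃ r : X.presheaf.stalk x, algebraMap _ (Mero.KStalk X x) r =
      ((Units.map (Mero.evalK X U ⟨x, hx⟩).toMonoidHom f)⁻¹ : (Mero.KStalk X x)ˣ).val *
        (Units.map (Mero.evalK X U' ⟨x, hx'⟩).toMonoidHom f' : (Mero.KStalk X x)ˣ).val := by
  have key := h U _ (divCond_inv D f hU) ⟨x, hx⟩ _ (hU' ⟨x, hx'⟩)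
  obtain ⟨r, hr⟩ := key
  exact ⟨r, hr⟩

theorem result (X : Scheme.{u}) (D D' : Mero.Divisor X)
    (h : ∀ (U : X.Opens) (t : Γ(Mero.kmod X, U)),
      (∀ x : ↥U, Mero.DivCond D x.1 (t.1 x)) ↔ (∀ x : ↥U, Mero.DivCond D' x.1 (t.1 x))) :
    D = D' := by
  apply Subtype.ext
  funext x
  obtain ⟨U, hx, f, hU⟩ := D.2 x
  obtain ⟨U', hx', f', hU'⟩ := D'.2 x
  obtain ⟨r, hr⟩ := half D D' (fun U t => (h U t).1) x hx hx' f f' hU hU'
  obtain ⟨r', hr'⟩ := half D' D (fun U t => (h U t).2) x hx' hx f' f hU' hU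
  set a := Units.map (Mero.evalK X U ⟨x, hx⟩).toMonoidHom f with ha
  set a' := Units.map (Mero.evalK X U' ⟨x, hx'⟩).toMonoidHom f' with ha'
  have hrr' : r * r' = 1 := by
    apply Mero.algebraMap_KStalk_injective x
    rw [map_mul, hr, hr', map_one]
    have e : a⁻¹ * a' * (a'⁻¹ * a) = (1 : (Mero.KStalk X x)ˣ) := by group
    exact congrArg Units.val e
  rw [hU ⟨x, hx⟩, hU' ⟨x, hx'⟩]
  change (QuotientGroup.mk a : Mero.Germ X x) = QuotientGroup.mk a'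
  rw [QuotientGroup.eq]
  refine ⟨Units.mkOfMulEqOne r r' hrr', ?_⟩
  apply Units.ext
  rw [Units.val_mul]
  exact hr

end Groth.Agent.S5097
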