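import Groth.Statements.S5102
import Groth.Agent.S5084
import Groth.Agent.Lib.MeroDiv82B
import Groth.Agent.S5096

set_option autoImplicit false
universe u
open CategoryTheory CategoryTheory.Limits AlgebraicGeometry TopologicalSpace
open Mero

namespace Groth.Agent.S5102

open Mero Groth.Agent.Lib.H90Invertible Groth.Agent.Lib.MeroDiv82
  Groth.Agent.Lib.H78TensorGen Groth.Agent.Lib.QCohStalk Groth.Agent.Lib.H78SecCoord Opposite

variable {X : Scheme.{u}}

/-- the module structure of `K_X` is multiplication by `r / 1` -/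
theorem smul_eq_toK_mul (W : X.Opens) (a : Γ(X, W)) (t : Γ(Mero.kmod X, W)) :
    a • t = Mero.toK X W a * t := by
  apply Subtype.ext
  funext y
  change X.presheaf.germ W y.1 y.2 a • t.1 y = (Mero.toK X W a).1 y * t.1 y
  rw [Algebra.smul_def, algebraMap_eq_mk, Mero.toK_apply]

/-- the image of a multiple of a restricted section -/
theorem app_smul_rs {J : X.Modules} (ι : J ⟶ Mero.kmod X) {U W : X.Opens} (hW : W ≤ U)
    (j : Γ(J, U)) (a : Γ(X, W)) :
    ι.app W (a • rs J hW j) =
      Mero.toK X W a * (Mero.kmod X).presheaf.map (homOfLE hW).op (ι.app U j) := by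
  rw [Scheme.Modules.Hom.app_smul, app_rs, smul_eq_toK_mul]

/-- multiplication by a unit of `K_X` is injective -/
theorem toK_eq_of_mul_unit {U W : X.Opens} (hW : W ≤ U) (f : (Γ(Mero.kmod X, U))ˣ)
    (a a' : Γ(X, W))
    (h : Mero.toK X W a * (Mero.kmod X).presheaf.map (homOfLE hW).op (f : Γ(Mero.kmod X, U)) =
      Mero.toK X W a' * (Mero.kmod X).presheaf.map (homOfLE hW).op (f : Γ(Mero.kmod X, U))) :
    a = a' := by
  apply Groth.Agent.S8864.toK_injective X W
  apply Subtype.ext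
  funext y
  have h1 := congrArg (fun t : Γ(Mero.kmod X, W) => t.1 y) h
  change (Mero.toK X W a).1 y * f.val.1 ⟨y.1, hW y.2⟩ =
    (Mero.toK X W a').1 y * f.val.1 ⟨y.1, hW y.2⟩ at h1
  have h2 := congrArg (fun t => t * (f⁻¹ : (Γ(Mero.kmod X, U))ˣ).val.1 ⟨y.1, hW y.2⟩) h1
  simp only [mul_assoc] at h2
  rw [Groth.Agent.S5096.units_apply_mul_inv, mul_one, mul_one] at h2
  exact h2

/-- the restriction of a section of `K_X` to the same open -/
theorem map_self (U : X.Opens) (t : Γ(Mero.kmod X, U)) :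
    (Mero.kmod X).presheaf.map (homOfLE (le_refl U)).op t = t := rfl

/-- a fractional ideal locally of the form `O · f` has a local generator -/
theorem isGen_of_range {J : X.Modules} (ι : J ⟶ Mero.kmod X) [Mono ι] {U : X.Opens}
    (f : (Γ(Mero.kmod X, U))ˣ)
    (H : ∀ (V : X.Opens) (hV : V ≤ U),
        Set.range ⇑(ι.val.app (Opposite.op V)) =
          {t : Γ(Mero.kmod X, V) | ∃ r : Γ(X, V),
            t = Mero.toK X V r * (Mero.kmod X).presheaf.map (homOfLE hV).op (f : Γ(Mero.kmod X, U))}) :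
    ∃ j : Γ(J, U), IsGen J U j := by
  have h1 : (f : Γ(Mero.kmod X, U)) ∈ Set.range ⇑(ι.val.app (Opposite.op U)) := by
    rw [H U le_rfl]
    exact ⟨1, by rw [map_one, one_mul]; rfl⟩
  obtain ⟨j, hj⟩ := h1
  replace hj : ι.app U j = (f : Γ(Mero.kmod X, U)) := hj
  refine ⟨j, ?_⟩
  intro W hW
  constructor
  · intro a a' haa'
    have h2 := congrArg (ι.app W) haa'
    change ι.app W (a • rs J hW j) = ι.app W (a' • rs J hW j) at h2
    rw [app_smul_rs, app_smul_rs, hj] at h2
    exact toK_eq_of_mul_unit hW f a a' h2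
  · intro t
    have h3 : ι.app W t ∈ Set.range ⇑(ι.val.app (Opposite.op W)) := ⟨t, rfl⟩
    rw [H W hW] at h3
    obtain ⟨r, hr⟩ := h3
    refine ⟨r, ?_⟩
    apply Groth.Agent.S5084.injective_app_of_mono ι W
    change ι.app W (r • rs J hW j) = ι.app W t
    rw [app_smul_rs, hj, hr]

/-- the image of a local generator of an invertible fractional ideal is locally a unit of `K_X` -/
theorem exists_unit_of_isGen {J : X.Modules} (ι : J ⟶ Mero.kmod X) [Mono ι] {U₀ : X.Opens}
    {j : Γ(J, U₀)} (hj : IsGen J U₀ j) (x : X) (hx : x ∈ U₀) :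
    ∃ (V : X.Opens) (_ : x ∈ V) (hVU : V ≤ U₀) (f : (Γ(Mero.kmod X, V))ˣ),
      (f : Γ(Mero.kmod X, V)) = (Mero.kmod X).presheaf.map (homOfLE hVU).op (ι.app U₀ j) := by
  obtain ⟨φ, hφ⟩ : ∃ φ : Γ(Mero.kmod X, U₀), φ = ι.app U₀ j := ⟨_, rfl⟩
  obtain ⟨V, hxV, i, a, b, hab⟩ := φ.2 ⟨x, hx⟩
  have hVU : V ≤ U₀ := i.le
  have hab' : ∀ (y : X) (hy : y ∈ V), φ.1 ⟨y, hVU hy⟩ =
      LocalizedModule.mk (X.presheaf.germ V y hy a) (regGerm ⟨y, hy⟩ b) := fun y hy => hab ⟨y, hy⟩
  have haR : a ∈ regSub X V := by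
    intro y
    change X.presheaf.germ V y.1 y.2 a ∈ nonZeroDivisors (X.presheaf.stalk y.1)
    rw [mem_nonZeroDivisors_iff_right]
    intro ρ hρ
    obtain ⟨N₀, hyN₀, r₀, rfl⟩ := X.presheaf.exists_germ_eq (x := y.1) ρ
    set N : X.Opens := N₀ ⊓ V with hN
    have hyN : y.1 ∈ N := ⟨hyN₀, y.2⟩
    have h1 : X.presheaf.germ N y.1 hyN
        (X.presheaf.map (homOfLE (inf_le_left : N ≤ N₀)).op r₀ *
          X.presheaf.map (homOfLE (inf_le_right : N ≤ V)).op a) =
        X.presheaf.germ N y.1 hyN 0 := by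
      rw [map_mul, TopCat.Presheaf.germ_res_apply, TopCat.Presheaf.germ_res_apply, map_zero]
      exact hρ
    obtain ⟨N', hyN', i₁, i₂, h2⟩ := TopCat.Presheaf.germ_eq X.presheaf y.1 hyN hyN _ _ h1
    rw [map_zero] at h2
    have hN'N₀ : N' ≤ N₀ := i₁.le.trans inf_le_left
    have hN'V : N' ≤ V := i₁.le.trans inf_le_right
    set r' : Γ(X, N') := X.presheaf.map (homOfLE hN'N₀).op r₀ with hr'
    have h3 : ∀ (z : X) (hz : z ∈ N'), X.presheaf.germ N' z hz r' *
        X.presheaf.germ V z (hN'V hz) a = 0 := by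
      intro z hz
      have h4 := congrArg (X.presheaf.germ N' z hz) h2
      rw [TopCat.Presheaf.germ_res_apply, map_mul, TopCat.Presheaf.germ_res_apply,
        TopCat.Presheaf.germ_res_apply, map_zero] at h4
      rw [hr', TopCat.Presheaf.germ_res_apply]
      exact h4
    have h5 : ι.app N' (r' • rs J (hN'V.trans hVU) j) = 0 := by
      rw [app_smul_rs, ← hφ]
      apply Subtype.ext
      funext z
      change (Mero.toK X N' r').1 z * φ.1 ⟨z.1, hVU (hN'V z.2)⟩ = 0
      rw [hab' z.1 (hN'V z.2), Mero.toK_apply]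
      refine LocalizedModule.mk_mul_mk.trans ?_
      rw [h3 z.1 z.2]
      exact LocalizedModule.zero_mk _
    have h6 : r' • rs J (hN'V.trans hVU) j = 0 := by
      apply Groth.Agent.S5084.injective_app_of_mono ι N'
      rw [h5]
      exact (map_zero (ι.val.app (op N')).hom).symm
    have h7 : r' = 0 := by
      apply (hj N' (hN'V.trans hVU)).1
      change r' • rs J (hN'V.trans hVU) j = (0 : Γ(X, N')) • rs J (hN'V.trans hVU) j
      rw [h6, zero_smul]
    have h8 : X.presheaf.germ N₀ y.1 hyN₀ r₀ = X.presheaf.germ N' y.1 hyN' r' := by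
      rw [hr', TopCat.Presheaf.germ_res_apply]
    rw [h8, h7, map_zero]
  refine ⟨V, hxV, hVU, sectionUnit ⟨a, haR⟩ b, ?_⟩
  apply Subtype.ext
  funext y
  rw [sectionUnit_val_apply, ← hφ]
  exact (hab' y.1 y.2).symm


/-- Let X be a scheme and J a fractional ideal, i.e. a sub-O_X-module of the sheaf of meromorphic
functions K_X (given by a monomorphism J → K_X). Then J is an invertible O_X-module if and only if
every point of X has an open neighbourhood U together with a unit f of the ring Γ(U, K_X) such that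
J|_U = O_U · f: over every open subset V of U, the sections of J are exactly the r · f|_V with r a
function on V. -/
theorem result (X : Scheme.{u}) (J : X.Modules)
    (ι : J ⟶ Mero.kmod X) [Mono ι] :
    PicF.IsInvertible J ↔ ∀ x : ↥X, ∃ (U : X.Opens) (_ : x ∈ U) (f : (Γ(Mero.kmod X, U))ˣ),
      ∀ (V : X.Opens) (hV : V ≤ U),
        Set.range ⇑(ι.val.app (Opposite.op V)) =
          {t : Γ(Mero.kmod X, V) | ∃ r : Γ(X, V),
            t = Mero.toK X V r * (Mero.kmod X).presheaf.map (homOfLE hV).op (f : Γ(Mero.kmod X, U))} := by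
  constructor
  · intro hJ x
    obtain ⟨U₀, hxU₀, j, hj⟩ := (isInvertible_iff_exists_isGen J).mp hJ x
    obtain ⟨V, hxV, hVU, f, hf⟩ := exists_unit_of_isGen ι hj x hxU₀
    refine ⟨V, hxV, f, ?_⟩
    intro V' hV'
    have hres : (Mero.kmod X).presheaf.map (homOfLE hV').op (f : Γ(Mero.kmod X, V)) =
        (Mero.kmod X).presheaf.map (homOfLE (hV'.trans hVU)).op (ι.app U₀ j) := by
      rw [hf]
      rfl
    rw [hres]
    ext t
    constructor
    · rintro ⟨σ, rfl⟩
      obtain ⟨r, hr⟩ := (hj V' (hV'.trans hVU)).2 σ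
      replace hr : r • rs J (hV'.trans hVU) j = σ := hr
      refine ⟨r, ?_⟩
      change ι.app V' σ = _
      rw [← hr, app_smul_rs]
    · rintro ⟨r, rfl⟩
      refine ⟨r • rs J (hV'.trans hVU) j, ?_⟩
      change ι.app V' (r • rs J (hV'.trans hVU) j) = _
      rw [app_smul_rs]
  · intro H
    rw [isInvertible_iff_exists_isGen]
    intro x
    obtain ⟨U, hxU, f, hf⟩ := H x
    obtain ⟨j, hj⟩ := isGen_of_range ι f hf
    exact ⟨U, hxU, j, hj⟩

end Groth.Agent.S5102
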