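import Groth.Statements.S5104
import Groth.Agent.Lib.RatLocal

set_option autoImplicit false
universe u
open CategoryTheory CategoryTheory.Limits AlgebraicGeometry TopologicalSpace
open Rat20

namespace Groth.Agent.S5104

/-- Let X be an S-scheme which is locally Noetherian, or reduced with locally finite set of irreducible
components; let Y be separated and locally of finite presentation over S, U a schematically dense
open subset of X, h : U → Y an S-morphism (a pseudo-S-morphism ω of X into Y) and x a point of X.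
Then ω is defined at x — some S-morphism from an open neighbourhood V of x to Y agrees with h on U ∩
V — if and only if the restriction of ω to Spec O_{X,x} is everywhere defined — some S-morphism Spec
O_{X,x} → Y agrees with h after pulling back to Spec O_{X,x} ×_X U. (The published statement does
not assume Y separated over S and compares morphisms only on some schematically dense open; this row
assumes Y separated over S, where the two readings agree.) -/
theorem result {X Y S : Scheme.{u}} (pX : X ⟶ S) (pY : Y ⟶ S)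
    [IsSeparated pY] [LocallyOfFinitePresentation pY]
    (hX : IsLocallyNoetherian X ∨ (IsReduced X ∧ ∀ x : ↥X, ∃ W : X.Opens, x ∈ W ∧
      {Z : Set ↥X | Z ∈ irreducibleComponents ↥X ∧ (Z ∩ (W : Set ↥X)).Nonempty}.Finite))
    (U : X.Opens) (hU : CInt.IsSchematicallyDense U) (h : (U : Scheme.{u}) ⟶ Y) (hh : h ≫ pY = U.ι ≫ pX)
    (x : ↥X) :
    (∃ (V : X.Opens) (v : (V : Scheme.{u}) ⟶ Y), x ∈ V ∧ v ≫ pY = V.ι ≫ pX ∧
        X.homOfLE (inf_le_right : U ⊓ V ≤ V) ≫ v = X.homOfLE (inf_le_left : U ⊓ V ≤ U) ≫ h) ↔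
      ∃ w : Spec (X.presheaf.stalk x) ⟶ Y, w ≫ pY = X.fromSpecStalk x ≫ pX ∧
        pullback.fst (X.fromSpecStalk x) U.ι ≫ w = pullback.snd (X.fromSpecStalk x) U.ι ≫ h := by
  classical
  constructor
  · rintro ⟨V, v, hxV, hvS, hv⟩
    refine ⟨V.fromSpecStalkOfMem x hxV ≫ v, ?_, ?_⟩
    · rw [Category.assoc, hvS, Scheme.Opens.fromSpecStalkOfMem_ι_assoc]
    · let a := pullback.fst (X.fromSpecStalk x) U.ι
      let b := pullback.snd (X.fromSpecStalk x) U.ι
      have hab : a ≫ X.fromSpecStalk x = b ≫ U.ι := pullback.condition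
      have hrange : Set.range (b ≫ U.ι) ⊆ Set.range (U ⊓ V).ι := by
        rw [Scheme.Opens.range_ι]
        rintro _ ⟨z, rfl⟩
        refine ⟨?_, ?_⟩
        · rw [Scheme.Hom.comp_apply]
          exact (b z).2
        · rw [← hab, Scheme.Hom.comp_apply]
          have h1 : X.fromSpecStalk x (a z) ∈ Set.range (X.fromSpecStalk x) := ⟨_, rfl⟩
          rw [Scheme.range_fromSpecStalk] at h1
          exact (h1 : X.fromSpecStalk x (a z) ⤳ x).mem_open V.isOpen hxV
      let l : pullback (X.fromSpecStalk x) U.ι ⟶ ((U ⊓ V : X.Opens) : Scheme.{u}) :=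
        IsOpenImmersion.lift (U ⊓ V).ι (b ≫ U.ι) hrange
      have hl : l ≫ (U ⊓ V).ι = b ≫ U.ι := IsOpenImmersion.lift_fac _ _ _
      have hl1 : l ≫ X.homOfLE (inf_le_left : U ⊓ V ≤ U) = b := by
        rw [← cancel_mono U.ι, Category.assoc, X.homOfLE_ι, hl]
      have hl2 : l ≫ X.homOfLE (inf_le_right : U ⊓ V ≤ V) = a ≫ V.fromSpecStalkOfMem x hxV := by
        rw [← cancel_mono V.ι, Category.assoc, X.homOfLE_ι, hl, Category.assoc,
          Scheme.Opens.fromSpecStalkOfMem_ι, hab]
      change a ≫ V.fromSpecStalkOfMem x hxV ≫ v = b ≫ h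
      rw [← reassoc_of% hl2, hv, reassoc_of% hl1]
  · rintro ⟨w, hw1, hw2⟩
    have hgi : X.IsGermInjective := by
      rcases hX with h1 | ⟨h1, h2⟩
      · intro p; infer_instance
      · intro p
        obtain ⟨W, hpW, hfin⟩ := h2 p
        exact Groth.Agent.Lib.RatLocal.isGermInjectiveAt_of_isReduced_of_finite p W hpW hfin
    haveI := hgi x
    obtain ⟨V₁, hxV₁, v₁, hv₁, hv₁S⟩ := spread_out_of_isGermInjective' pX pY w hw1
    have hgood : ∀ t : ↥((U ⊓ V₁ : X.Opens) : Scheme.{u}), (U ⊓ V₁).ι t ⤳ x →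
        t ∈ Groth.Agent.Lib.RatLocal.Good U h V₁ v₁ := by
      intro t hsp
      haveI : ((U ⊓ V₁ : X.Opens) : Scheme.{u}).IsGermInjectiveAt t :=
        (isGermInjectiveAt_iff_of_isOpenImmersion (f := (U ⊓ V₁).ι)).mp (hgi _)
      exact Groth.Agent.Lib.RatLocal.mem_good_of_specializes U h x w hw2 V₁ hxV₁ v₁ hv₁ t hsp
    have hι : ∀ (V : X.Opens) (hVV₁ : V ≤ V₁) (p : ↥((U ⊓ V : X.Opens) : Scheme.{u})),
        (U ⊓ V₁).ι (X.homOfLE (inf_le_inf_left U hVV₁) p) = (U ⊓ V).ι p := by
      intro V hVV₁ p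
      rw [← Scheme.Hom.comp_apply, X.homOfLE_ι]
    rcases hX with hN | ⟨hred, hfin⟩
    · -- locally Noetherian case
      let Zb : Set X := (U ⊓ V₁).ι '' (Groth.Agent.Lib.RatLocal.Good U h V₁ v₁)ᶜ
      have hlc : IsLocallyClosed Zb :=
        (Groth.Agent.Lib.RatLocal.isOpen_good U h V₁ v₁).isClosed_compl.isLocallyClosed.image
          (U ⊓ V₁).ι.isOpenEmbedding.isInducing
          (U ⊓ V₁).ι.isOpenEmbedding.isOpen_range.isLocallyClosed
      have hx : x ∉ closure Zb := by
        intro hx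
        obtain ⟨z, ⟨t, ht, rfl⟩, hsp⟩ :=
          Groth.Agent.Lib.NoethClosureSpec.exists_specializes_of_mem_closure hlc hx
        exact ht (hgood t hsp)
      let V : X.Opens := V₁ ⊓ ⟨(closure Zb)ᶜ, isClosed_closure.isOpen_compl⟩
      have hVV₁ : V ≤ V₁ := inf_le_left
      refine ⟨V, X.homOfLE hVV₁ ≫ v₁, ⟨hxV₁, hx⟩, ?_, ?_⟩
      · rw [Category.assoc, hv₁S, X.homOfLE_ι_assoc]
      · refine Groth.Agent.Lib.RatLocal.agree_of_forall_good U h V₁ v₁ V hVV₁ ?_
        intro p
        by_contra hn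
        have h1 : (U ⊓ V).ι p ∉ closure Zb := p.2.2.2
        apply h1
        apply subset_closure
        exact ⟨_, hn, hι V hVV₁ p⟩
    · -- reduced case
      haveI := hred
      obtain ⟨W, hxW, hfinW⟩ := hfin x
      let F : Set (Set X) := {Z | Z ∈ irreducibleComponents X ∧ (Z ∩ (W : Set X)).Nonempty}
      let Bad : Set X := ⋃₀ {Z | Z ∈ F ∧ x ∉ Z}
      have hBadclosed : IsClosed Bad := by
        change IsClosed (⋃₀ {Z | Z ∈ F ∧ x ∉ Z})
        rw [Set.sUnion_eq_biUnion]
        exact (hfinW.subset (fun Z hZ => hZ.1)).isClosed_biUnion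
          fun Z hZ => isClosed_of_mem_irreducibleComponents Z hZ.1.1
      have hxBad : x ∉ Bad := by
        rintro ⟨Z, ⟨-, hxZ⟩, hxZ'⟩
        exact hxZ hxZ'
      let V : X.Opens := V₁ ⊓ W ⊓ ⟨Badᶜ, hBadclosed.isOpen_compl⟩
      have hVV₁ : V ≤ V₁ := inf_le_left.trans inf_le_left
      refine ⟨V, X.homOfLE hVV₁ ≫ v₁, ⟨⟨hxV₁, hxW⟩, hxBad⟩, ?_, ?_⟩
      · rw [Category.assoc, hv₁S, X.homOfLE_ι_assoc]
      · refine Groth.Agent.Lib.RatLocal.agree_of_dense_good pX pY U h hh.symm.symm V₁ v₁ hv₁S V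
          hVV₁ ?_
        rw [dense_iff_inter_open]
        rintro O' hO' ⟨p', hp'⟩
        let p : X := (U ⊓ V).ι p'
        let Zc : Set X := irreducibleComponent p
        have hZc : Zc ∈ irreducibleComponents X := irreducibleComponent_mem_irreducibleComponents p
        have hpZc : p ∈ Zc := mem_irreducibleComponent
        have hpW : p ∈ W := p'.2.2.1.2
        have hpBad : p ∉ Bad := p'.2.2.2
        have hZcF : Zc ∈ F := ⟨hZc, ⟨p, hpZc, hpW⟩⟩
        have hxZc : x ∈ Zc := by
          by_contra hn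
          exact hpBad ⟨Zc, ⟨hZcF, hn⟩, hpZc⟩
        obtain ⟨ζ, hζ⟩ := QuasiSober.sober (isIrreducible_irreducibleComponent (x := p))
          (isClosed_irreducibleComponent (x := p))
        have hζp : ζ ⤳ p := hζ.specializes hpZc
        have hζx : ζ ⤳ x := hζ.specializes hxZc
        have hopen : IsOpen ((U ⊓ V).ι '' O') := (U ⊓ V).ι.isOpenEmbedding.isOpenMap _ hO'
        obtain ⟨ζ', hζ'O', hζ'⟩ := hζp.mem_open hopen ⟨p', hp', rfl⟩
        refine ⟨ζ', hζ'O', ?_⟩
        apply hgood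
        rw [hι V hVV₁ ζ', hζ']
        exact hζx

end Groth.Agent.S5104
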