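import Groth.Statements.S5114
-- import your own Groth.Agent.* helpers here
import Groth.Agent.Lib.QFinHenselH52
import Groth.Agent.Lib.HenselizationNoeth

set_option autoImplicit false
universe u
open SGA1

namespace Groth.Agent.S5114

open AlgebraicGeometry CategoryTheory CategoryTheory.Limits IsLocalRing
open Groth.Agent.Lib.QFinHenselH52 Groth.Agent.Lib.SubmFamilyH52

open AlgebraicGeometry CategoryTheory CategoryTheory.Limits in
/-- Let A be a complete Noetherian local ring, S = Spec A, and g : S' ⟶ S a surjective morphism of
finite type whose fibre over the closed point s is finite. If every point of S' specialises to some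
point of the fibre over s (equivalently: the disjoint union of the spectra of the local rings of S'
at the points over s maps onto S'), then g is universally submersive. (The published statement
asserts an equivalence and does not mention surjectivity of g; the converse fails: for A a complete
discrete valuation ring with fraction field K, S' = S ⊔ Spec K ⟶ S has a section, hence is
universally submersive, while the isolated point Spec K specialises to no point over s. This row
states the implication the published proof establishes, with the surjectivity it uses.) -/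
theorem result (A : Type u) [CommRing A]
    [IsNoetherianRing A] [IsLocalRing A] [IsAdicComplete (IsLocalRing.maximalIdeal A) A]
    {S' : Scheme.{u}} (g : S' ⟶ Spec (CommRingCat.of A)) [LocallyOfFiniteType g] [QuasiCompact g]
    [Surjective g]
    (hfin : (g.base ⁻¹' {IsLocalRing.closedPoint A}).Finite)
    (hsp : ∀ t : S', ∃ s' : S', g.base s' = IsLocalRing.closedPoint A ∧ t ⤳ s') :
    SGA1.UnivSubmersive g := by
  classical
  have hHens : HenselianLocalRing A :=
    Groth.Agent.Lib.HenselizationNoeth.henselianLocalRing_of_henselianRing A
  let ι : Type u := {x : S' // g x = closedPoint A}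
  have hι : Finite ι := hfin.to_subtype
  have hqf : ∀ x : ι, g.QuasiFiniteAt x.1 := fun x =>
    quasiFiniteAt_of_finite_fiber g x.1 (by rw [x.2]; exact hfin)
  choose R hR1 hR2 hR3 hR4 j hj1 hj2 hj3 using fun x : ι =>
    exists_finite_local_chart A g x.1 x.2 (hqf x)
  let Y : ι → Scheme.{u} := fun x => Spec (@CommRingCat.of (R x) (hR1 x))
  have hfinite : ∀ x, IsFinite (j x ≫ g) := fun x => by
    rw [hj2 x, IsFinite.SpecMap_iff]
    exact RingHom.finite_algebraMap.mpr (hR3 x)
  have huc : ∀ x, UniversallyClosed (j x ≫ g) := fun x => by
    have := hfinite x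
    infer_instance
  have hsurj : ∀ s : ↥(Spec (CommRingCat.of A)), ∃ x, s ∈ Set.range (j x ≫ g) := by
    intro s
    obtain ⟨t, rfl⟩ := g.surjective s
    obtain ⟨s', hs', hts'⟩ := hsp t
    let x : ι := ⟨s', hs'⟩
    have hopen : IsOpen (Set.range (j x)) := by
      have := hj1 x
      exact (j x).isOpenEmbedding.isOpen_range
    have hmem : s' ∈ Set.range (j x) := ⟨closedPoint (R x), hj3 x⟩
    obtain ⟨w, hw⟩ := hts'.mem_open hopen hmem
    exact ⟨x, w, by rw [Scheme.Hom.comp_apply, hw]⟩
  have h1 := univSubmersive_sigmaDesc Y (fun x => j x ≫ g) hsurj
  have h2 : Sigma.desc (fun x => j x ≫ g) = Sigma.desc j ≫ g := by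
    apply Sigma.hom_ext
    intro x
    rw [Sigma.ι_desc, Sigma.ι_desc_assoc]
  rw [h2] at h1
  exact univSubmersive_of_comp _ g h1

end Groth.Agent.S5114
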