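import Groth.Statements.S5115
-- import your own Groth.Agent.* helpers here
import Groth.Agent.Lib.RadicialDDH52

set_option autoImplicit false
universe u
open EtBase

namespace Groth.Agent.S5115

open AlgebraicGeometry CategoryTheory CategoryTheory.Limits in
/-- Let g : S' ⟶ S be faithfully flat (flat and surjective), quasi-compact and radicial (universally
injective). Then base change along g is an equivalence from the category of schemes etale over S to
the category of schemes etale over S'. -/
theorem result {S S' : Scheme.{u}} (g : S' ⟶ S)
    [Flat g] [Surjective g] [QuasiCompact g] [UniversallyInjective g] :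
    (EtCoh.bc g).IsEquivalence := by
  have hg : FlatMor.IsUnivHomeo g := Groth.Agent.Lib.RadicialDDH52.isUnivHomeo_of_fpqc_radicial g
  have key : ∀ (A B : S.Etale) (φ : A ⟶ B),
      ((EtCoh.bc g).map φ).left = ((Over.pullback g).map
        (Over.homMk φ.left (MorphismProperty.Over.w φ) : Over.mk A.hom ⟶ Over.mk B.hom)).left := by
    intro A B φ
    rfl
  have : (EtCoh.bc g).Full := by
    constructor
    intro A B ψ
    have : Etale (Over.mk B.hom).hom := B.prop
    let ψ' : (Over.pullback g).obj (Over.mk A.hom) ⟶ (Over.pullback g).obj (Over.mk B.hom) :=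
      Over.homMk ψ.left (MorphismProperty.Over.w ψ)
    obtain ⟨φ, hφ⟩ := (Groth.Agent.Lib.H80TopInv.bijective_pullback_map g hg
      (Over.mk B.hom) (Over.mk A.hom)).2 ψ'
    refine ⟨MorphismProperty.Over.homMk φ.left (Over.w φ) trivial, ?_⟩
    apply MorphismProperty.Over.Hom.ext
    exact (key A B _).trans (congrArg CommaMorphism.left hφ)
  have : (EtCoh.bc g).Faithful := by
    constructor
    intro A B φ ψ h
    have : Etale (Over.mk B.hom).hom := B.prop
    apply MorphismProperty.Over.Hom.ext
    have h1 := congrArg (fun x => x.left) h
    change ((EtCoh.bc g).map φ).left = ((EtCoh.bc g).map ψ).left at h1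
    have h1' := (key A B φ).symm.trans (h1.trans (key A B ψ))
    have h2 := (Groth.Agent.Lib.H80TopInv.bijective_pullback_map g hg
      (Over.mk B.hom) (Over.mk A.hom)).1 (Over.OverMorphism.ext h1')
    exact congrArg CommaMorphism.left h2
  have : (EtCoh.bc g).EssSurj := by
    constructor
    intro V
    have : Etale V.hom := V.prop
    obtain ⟨U, t, ht, e, he⟩ :=
      Groth.Agent.Lib.RadicialDDH52.exists_etale_pullback_iso g V.hom
    let P : S.Etale := MorphismProperty.Over.mk ⊤ t ht
    refine ⟨P, ⟨MorphismProperty.Over.isoMk e ?_⟩⟩
    exact he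
  exact { }

end Groth.Agent.S5115
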