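import Groth.Statements.S5118
import Mathlib.RingTheory.Etale.StandardEtale
import Mathlib.Algebra.DualNumber
import Mathlib.Algebra.TrivSqZeroExt.Ideal

set_option autoImplicit false
universe u
open SGA1t

namespace Groth.Agent.S5118

open Polynomial in
/-- the standard etale pair `(X ^ n - 1, 1)` when `n` is invertible -/
noncomputable def pair (A : Type u) [CommRing A] (n : ℕ) (hn : 1 ≤ n) (m : A)
    (hm : (n : A) * m = 1) : StandardEtalePair A where
  f := (X : A[X]) ^ n - 1
  monic_f := by
    have : (1 : A[X]) = C 1 := by simp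
    rw [this]
    exact monic_X_pow_sub_C (1 : A) (by omega)
  g := 1
  cond := by
    refine ⟨C m * X, -1, 1, ?_⟩
    obtain ⟨k, rfl⟩ : ∃ k, n = k + 1 := ⟨n - 1, by omega⟩
    rw [derivative_sub, derivative_X_pow, derivative_one, sub_zero, Nat.add_sub_cancel]
    have h1 : (C (((k + 1 : ℕ) : A)) * X ^ k) * (C m * X) = C (((k + 1 : ℕ) : A) * m) * X ^ (k + 1) := by
      rw [C_mul, pow_succ]; ring
    rw [h1, hm]
    simp

open Polynomial in
/-- The etaleness criterion for the Kummer group scheme: Let A be a commutative ring and n ≥ 1. The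
group scheme μ_n over Spec A is the spectrum of A[t]/(t^n − 1), a free A-module of rank n; it is
etale over A if and only if n is a unit of A (equivalently, n is prime to the characteristic of the
residue field at every point of Spec A). -/
theorem result (A : Type u) [CommRing A] (n : ℕ) (hn : 1 ≤ n) :
    Algebra.Etale A (AdjoinRoot ((X : A[X]) ^ n - 1)) ↔ IsUnit ((n : ℕ) : A) := by
  constructor
  · intro h
    have hu : Algebra.FormallyUnramified A (AdjoinRoot ((X : A[X]) ^ n - 1)) := inferInstance
    set k := A ⧸ Ideal.span {((n : ℕ) : A)} with hk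
    have hnk : ((n : ℕ) : k) = 0 := by
      have : ((n : ℕ) : k) = Ideal.Quotient.mk (Ideal.span {((n : ℕ) : A)}) ((n : ℕ) : A) := by simp
      rw [this, Ideal.Quotient.eq_zero_iff_mem]
      exact Ideal.mem_span_singleton_self _
    let B := DualNumber k
    have e1 : eval₂ (Algebra.ofId A B : A →+* B) (1 : B) ((X : A[X]) ^ n - 1) = 0 := by
      simp
    have e2 : eval₂ (Algebra.ofId A B : A →+* B) (1 + DualNumber.eps : B) ((X : A[X]) ^ n - 1) = 0 := by
      rw [eval₂_sub, eval₂_pow, eval₂_X, eval₂_one]
      have hpow : ∀ m : ℕ, (1 + DualNumber.eps : B) ^ m = 1 + (m : B) * DualNumber.eps := by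
        intro m
        induction m with
        | zero => simp
        | succ m ih =>
          rw [pow_succ, ih]
          have : (DualNumber.eps : B) * DualNumber.eps = 0 := DualNumber.eps_mul_eps
          push_cast
          linear_combination (m : B) * this
      have hnB : ((n : ℕ) : B) = 0 := by
        rw [← TrivSqZeroExt.inl_natCast, hnk, TrivSqZeroExt.inl_zero]
      rw [hpow, hnB, zero_mul, add_zero, sub_self]
    let g₁ : AdjoinRoot ((X : A[X]) ^ n - 1) →ₐ[A] B :=
      AdjoinRoot.liftAlgHom _ (Algebra.ofId A B) 1 e1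
    let g₂ : AdjoinRoot ((X : A[X]) ^ n - 1) →ₐ[A] B :=
      AdjoinRoot.liftAlgHom _ (Algebra.ofId A B) (1 + DualNumber.eps) e2
    have hg : g₁ = g₂ := by
      refine Algebra.FormallyUnramified.lift_unique' (TrivSqZeroExt.fstHom A k k) ?_ g₁ g₂ ?_
      · refine ⟨2, ?_⟩
        exact TrivSqZeroExt.kerIdeal_sq k k
      · apply AdjoinRoot.algHom_ext
        simp only [g₁, g₂, AlgHom.coe_comp, Function.comp_apply, AdjoinRoot.liftAlgHom_root]
        change TrivSqZeroExt.fst (1 : TrivSqZeroExt k k) =
          TrivSqZeroExt.fst ((1 : TrivSqZeroExt k k) + TrivSqZeroExt.inr 1)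
        simp
    have h1 := congrArg (fun g => TrivSqZeroExt.snd (g (AdjoinRoot.root _))) hg
    simp only [g₁, g₂, AdjoinRoot.liftAlgHom_root] at h1
    have h2 : TrivSqZeroExt.snd (1 : TrivSqZeroExt k k) =
        TrivSqZeroExt.snd ((1 : TrivSqZeroExt k k) + TrivSqZeroExt.inr 1) := h1
    simp at h2
    have htop : Ideal.span {((n : ℕ) : A)} = ⊤ := by
      rw [Ideal.eq_top_iff_one, ← Ideal.Quotient.eq_zero_iff_mem]
      exact h2.symm
    exact Ideal.span_singleton_eq_top.mp htop
  · intro h
    obtain ⟨m, hm⟩ := h.exists_right_inv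
    let P := pair A n hn m hm
    have hmap : P.HasMap (AdjoinRoot.root ((X : A[X]) ^ n - 1)) := by
      refine ⟨?_, ?_⟩
      · change aeval _ ((X : A[X]) ^ n - 1) = 0
        rw [AdjoinRoot.aeval_eq, AdjoinRoot.mk_self]
      · change IsUnit (aeval _ (1 : A[X]))
        simp
    have hX : eval₂ (Algebra.ofId A P.Ring : A →+* P.Ring) P.X ((X : A[X]) ^ n - 1) = 0 :=
      P.hasMap_X.1
    let e : P.Ring ≃ₐ[A] AdjoinRoot ((X : A[X]) ^ n - 1) :=
      AlgEquiv.ofAlgHom (P.lift _ hmap)
        (AdjoinRoot.liftAlgHom _ (Algebra.ofId A P.Ring) P.X hX)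
        (by
          apply AdjoinRoot.algHom_ext
          simp [AdjoinRoot.liftAlgHom_root])
        (by
          apply StandardEtalePair.hom_ext
          simp [AdjoinRoot.liftAlgHom_root])
    exact Algebra.Etale.of_equiv e

end Groth.Agent.S5118
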