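import Groth.Statements.S5119
-- import your own Groth.Agent.* helpers here

set_option autoImplicit false
universe u
open scoped LaurentPolynomial
open SGA1t

namespace Groth.Agent.S5119

lemma mulLeft_inj (n : ℕ) (hn : 1 ≤ n) :
    Function.Injective (AddMonoidHom.mulLeft (n : ℤ)) := by
  intro a b h
  have h' : (n : ℤ) * a = (n : ℤ) * b := h
  have hn0 : (n : ℤ) ≠ 0 := by omega
  exact mul_left_cancel₀ hn0 h'

/-- coefficient of `u_n c * T j` -/
lemma coeff_term (A : Type u) [CommRing A] (n : ℕ) (hn : 1 ≤ n) (c : A[T;T⁻¹]) (j m : ℤ) :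
    ((AddMonoidAlgebra.mapDomainRingHom A (AddMonoidHom.mulLeft (n : ℤ)) : A[T;T⁻¹] →+* A[T;T⁻¹]) c *
      LaurentPolynomial.T j).coeff m = if (n : ℤ) ∣ m - j then c.coeff ((m - j) / n) else 0 := by
  unfold LaurentPolynomial.T
  rw [AddMonoidAlgebra.coeff_mul_single_eq_coeff_mul (m₂ := m - j), mul_one]
  · change (Finsupp.mapDomain (AddMonoidHom.mulLeft (n : ℤ)) c.coeff) (m - j) = _
    split_ifs with hd
    · obtain ⟨k, hk⟩ := hd
      have hn0 : (n : ℤ) ≠ 0 := by omega
      rw [hk, Int.mul_ediv_cancel_left _ hn0]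
      exact Finsupp.mapDomain_apply (mulLeft_inj n hn) c.coeff k
    · apply Finsupp.mapDomain_of_notMem_range
      rintro ⟨k, hk⟩
      apply hd
      exact ⟨k, hk.symm⟩
  · intro m' _
    constructor
    · intro h; omega
    · intro h; omega

/-- The computation behind the exactness of the Kummer sequence 0 → μ_n → G_m → G_m → 0, i.e. faithful
flatness of the n-th power map u_n of G_m: Let A be a commutative ring and n ≥ 1, and let u_n be the
ring endomorphism of A[t, t⁻¹] with u_n(t) = t^n (on monomials, t^k ↦ t^{nk}). Then A[t, t⁻¹] is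
free of rank n over itself via u_n, with basis 1, t, …, t^{n−1}: every Laurent polynomial q can be
written in exactly one way as Σ_{i<n} u_n(c_i) t^i. -/
theorem result (A : Type u) [CommRing A] (n : ℕ) (hn : 1 ≤ n) (q : A[T;T⁻¹]) :
    ∃! c : Fin n → A[T;T⁻¹],
      q = ∑ i : Fin n, (AddMonoidAlgebra.mapDomainRingHom A (AddMonoidHom.mulLeft (n : ℤ)) : A[T;T⁻¹] →+* A[T;T⁻¹]) (c i) *
        LaurentPolynomial.T (i : ℤ) := by
  have hn0 : (n : ℤ) ≠ 0 := by omega
  have hnpos : (0 : ℤ) < n := by omega
  -- coefficient formula for a sum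
  have key : ∀ (c : Fin n → A[T;T⁻¹]) (i : Fin n) (k : ℤ),
      (∑ i : Fin n, (AddMonoidAlgebra.mapDomainRingHom A (AddMonoidHom.mulLeft (n : ℤ)) :
        A[T;T⁻¹] →+* A[T;T⁻¹]) (c i) * LaurentPolynomial.T (i : ℤ)).coeff ((n : ℤ) * k + i) =
      (c i).coeff k := by
    intro c i k
    rw [AddMonoidAlgebra.coeff_sum, Finsupp.finsetSum_apply, Finset.sum_eq_single i]
    · rw [coeff_term A n hn]
      have h1 : (n : ℤ) * k + (i : ℤ) - (i : ℤ) = (n : ℤ) * k := by ring
      rw [h1, if_pos (dvd_mul_right _ _), Int.mul_ediv_cancel_left _ hn0]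
    · intro j _ hji
      rw [coeff_term A n hn, if_neg]
      rintro ⟨t, ht⟩
      apply hji
      have hi := i.2
      have hj := j.2
      have : (j : ℤ) - i = (n : ℤ) * (k - t) := by linarith
      have hlt : |((j : ℤ) - i)| < n := by
        rw [abs_lt]; constructor <;> omega
      have hz : (k - t) = 0 := by
        by_contra hne
        have : (n : ℤ) ≤ |(n : ℤ) * (k - t)| := by
          rw [abs_mul, abs_of_pos hnpos]
          have : 1 ≤ |k - t| := Int.one_le_abs hne
          nlinarith
        rw [← ‹(j : ℤ) - i = (n : ℤ) * (k - t)›] at this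
        omega
      rw [hz, mul_zero] at this
      exact Fin.ext (by omega)
    · intro h; exact absurd (Finset.mem_univ i) h
  have hinj : ∀ i : Fin n, Function.Injective (fun k : ℤ => (n : ℤ) * k + i) := by
    intro i a b h
    have : (n : ℤ) * a = (n : ℤ) * b := by simpa using h
    exact mul_left_cancel₀ hn0 this
  refine ⟨fun i => AddMonoidAlgebra.comapDomain (fun k : ℤ => (n : ℤ) * k + i) (hinj i) q, ?_, ?_⟩
  · apply LaurentPolynomial.ext
    intro m
    have hm : m = (n : ℤ) * (m / n) + ((⟨(m % n).toNat, by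
        have := Int.emod_lt_of_pos m hnpos
        have := Int.emod_nonneg m hn0
        omega⟩ : Fin n) : ℤ) := by
      have := Int.emod_nonneg m hn0
      simp only [Int.toNat_of_nonneg this]
      exact (Int.mul_ediv_add_emod m n).symm
    rw [hm, key, AddMonoidAlgebra.coeff_comapDomain]
    simp only [Finsupp.comapDomain_apply]
  · intro c' hc'
    funext i
    apply LaurentPolynomial.ext
    intro k
    rw [AddMonoidAlgebra.coeff_comapDomain, Finsupp.comapDomain_apply, ← key c' i k, ← hc']

end Groth.Agent.S5119
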