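import Groth.Statements.S5120
import Mathlib.RingTheory.AdjoinRoot

set_option autoImplicit false
universe u
open SGA1t

namespace Groth.Agent.S5120

/-- unique expansion in a basis of powers -/
lemma existsUnique_of_basis {R S : Type*} [CommRing R] [CommRing S] [Algebra R S] (d : ℕ)
    (b : Module.Basis (Fin d) R S) (gen : S) (hb : ∀ i, b i = gen ^ (i : ℕ)) (x : S) :
    ∃! c : Fin d → R, x = ∑ i : Fin d, algebraMap R S (c i) * gen ^ (i : ℕ) := by
  have hsum : ∀ c : Fin d → R, ∑ i : Fin d, algebraMap R S (c i) * gen ^ (i : ℕ) =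
      b.equivFun.symm c := by
    intro c
    rw [Module.Basis.equivFun_symm_apply]
    refine Finset.sum_congr rfl fun i _ => ?_
    rw [hb, Algebra.smul_def]
  refine ⟨b.equivFun x, ?_, ?_⟩
  · show x = ∑ i : Fin d, algebraMap R S (b.equivFun x i) * gen ^ (i : ℕ)
    rw [hsum, LinearEquiv.symm_apply_apply]
  · intro c hc
    have hc' : x = ∑ i : Fin d, algebraMap R S (c i) * gen ^ (i : ℕ) := hc
    rw [hc', hsum, LinearEquiv.apply_symm_apply]

open Polynomial in
/-- the polynomial `X ^ p - X + Y` over `A[Y]` -/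
noncomputable def polyF (p : ℕ) (A : Type u) [CommRing A] : A[X][X] :=
  X ^ p - (X - C (X : A[X]))

open Polynomial in
lemma polyF_monic (p : ℕ) (hp : 2 ≤ p) (A : Type u) [CommRing A] [Nontrivial A] :
    (polyF p A).Monic := by
  unfold polyF
  apply monic_X_pow_sub
  calc degree (X - C (X : A[X])) = 1 := degree_X_sub_C _
    _ < (p : WithBot ℕ) := by exact_mod_cast hp

open Polynomial in
lemma polyF_natDegree (p : ℕ) (hp : 2 ≤ p) (A : Type u) [CommRing A] [Nontrivial A] :
    (polyF p A).natDegree = p := by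
  unfold polyF
  rw [natDegree_sub_eq_left_of_natDegree_lt, natDegree_X_pow]
  rw [natDegree_X_sub_C, natDegree_X_pow]
  omega

open Polynomial in
/-- The computation behind the exactness of the Artin-Schreier sequence 0 → Z/p → G_a → G_a → 0 in
characteristic p, i.e. faithful flatness of ℘ = id − F: Let p be a prime and A a ring of
characteristic p. Then A[t] is free of rank p over itself via the endomorphism t ↦ t − t^p, with
basis 1, t, …, t^{p−1}: every polynomial q can be written in exactly one way as Σ_{i<p} c_i(t − t^p)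
t^i. -/
theorem result (p : ℕ) [Fact p.Prime] (A : Type u) [CommRing A] [CharP A p]
    (q : A[X]) :
    ∃! c : Fin p → A[X], q = ∑ i : Fin p, aeval (X - X ^ p : A[X]) (c i) * X ^ (i : ℕ) := by
  have hp : 2 ≤ p := (Fact.out : p.Prime).two_le
  rcases subsingleton_or_nontrivial A with hA | hA
  · refine ⟨fun _ => 0, Subsingleton.elim _ _, fun _ _ => Subsingleton.elim _ _⟩
  set g : A[X] := X - X ^ p with hg
  set F := polyF p A with hF
  have hmonic : F.Monic := polyF_monic p hp A
  -- the two ring homomorphisms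
  have hev : eval₂ (aeval g : A[X] →ₐ[A] A[X]).toRingHom (X : A[X]) F = 0 := by
    rw [hF, polyF, eval₂_sub, eval₂_pow, eval₂_X, eval₂_sub, eval₂_X, eval₂_C]
    simp only [AlgHom.toRingHom_eq_coe, RingHom.coe_coe, aeval_X]
    rw [hg]; ring
  let φ : AdjoinRoot F →+* A[X] := AdjoinRoot.lift (aeval g : A[X] →ₐ[A] A[X]).toRingHom X hev
  let ψ : A[X] →+* AdjoinRoot F := eval₂RingHom ((AdjoinRoot.of F).comp C) (AdjoinRoot.root F)
  have hroot : AdjoinRoot.root F ^ p - (AdjoinRoot.root F - AdjoinRoot.of F X) = 0 := by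
    have := AdjoinRoot.eval₂_root F
    rw [hF, polyF, eval₂_sub, eval₂_pow, eval₂_X, eval₂_sub, eval₂_X, eval₂_C] at this
    exact this
  have hφψ : ∀ x, φ (ψ x) = x := by
    intro x
    have : (φ.comp ψ) = RingHom.id _ := by
      apply Polynomial.ringHom_ext
      · intro a
        simp [φ, ψ]
      · simp [φ, ψ]
    exact congrArg (fun f => f x) this
  have hψφ : ∀ y, ψ (φ y) = y := by
    intro y
    induction y using AdjoinRoot.induction_on with
    | ih f =>
      induction f using Polynomial.induction_on' with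
      | add f₁ f₂ h₁ h₂ => rw [map_add, map_add, map_add, h₁, h₂]
      | monomial n c =>
        rw [← C_mul_X_pow_eq_monomial, map_mul, map_pow, AdjoinRoot.mk_C, AdjoinRoot.mk_X,
          map_mul, map_pow, map_mul, map_pow]
        congr 1
        · have h1 : φ (AdjoinRoot.of F c) = aeval g c := by simp [φ]
          rw [h1]
          have h2 : (ψ.comp (aeval g : A[X] →ₐ[A] A[X]).toRingHom) = AdjoinRoot.of F := by
            apply Polynomial.ringHom_ext
            · intro a
              simp [ψ]
            · simp only [AlgHom.toRingHom_eq_coe, RingHom.coe_comp, RingHom.coe_coe,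
                Function.comp_apply, aeval_X]
              rw [hg, map_sub, map_pow]
              simp only [ψ, coe_eval₂RingHom, eval₂_X]
              linear_combination (-1 : AdjoinRoot F) * hroot
          exact congrArg (fun f => f c) h2
        · simp [φ, ψ]
  -- the basis
  obtain ⟨d, hd, b, hb⟩ : ∃ d, d = p ∧ ∃ b : Module.Basis (Fin d) A[X] (AdjoinRoot F),
      ∀ i, b i = AdjoinRoot.root F ^ (i : ℕ) :=
    ⟨F.natDegree, polyF_natDegree p hp A, (AdjoinRoot.powerBasis' hmonic).basis,
      (AdjoinRoot.powerBasis' hmonic).basis_eq_pow⟩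
  subst hd
  have hφc : ∀ c : Fin d → A[X], φ (∑ i : Fin d, algebraMap A[X] (AdjoinRoot F) (c i) *
      AdjoinRoot.root F ^ (i : ℕ)) = ∑ i : Fin d, aeval g (c i) * X ^ (i : ℕ) := by
    intro c
    rw [map_sum]
    refine Finset.sum_congr rfl fun i _ => ?_
    rw [map_mul, map_pow]
    simp [φ]
  obtain ⟨c, hc, hcu⟩ := existsUnique_of_basis d b (AdjoinRoot.root F) hb (ψ q)
  refine ⟨c, ?_, ?_⟩
  · change q = ∑ i : Fin d, aeval g (c i) * X ^ (i : ℕ)
    rw [← hφc, ← hc, hφψ]
  · intro c' hc'
    apply hcu
    change q = ∑ i : Fin d, aeval g (c' i) * X ^ (i : ℕ) at hc'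
    rw [← hφc] at hc'
    rw [hc', hψφ]

end Groth.Agent.S5120
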