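import Groth.Statements.S5128
import Mathlib.AlgebraicGeometry.Morphisms.FlatMono
import Mathlib.AlgebraicGeometry.Morphisms.Etale
import Mathlib.AlgebraicGeometry.Morphisms.UniversallyInjective
import Mathlib.AlgebraicGeometry.Morphisms.IsIso

set_option autoImplicit false
universe u
open SGA1

namespace Groth.Agent.S5128

open AlgebraicGeometry CategoryTheory CategoryTheory.Limits

section

variable {S X Y : Scheme.{u}} (p : X ⟶ S) (q : Y ⟶ S) [Etale q]

theorem graph_isOpenImmersion (f : X ⟶ Y) (hf : f ≫ q = p) :
    IsOpenImmersion (pullback.lift (𝟙 X) f ((Category.id_comp p).trans hf.symm) : X ⟶ pullback p q) := by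
  set g : X ⟶ pullback p q := pullback.lift (𝟙 X) f ((Category.id_comp p).trans hf.symm) with hg
  have h1 : g ≫ pullback.fst p q = 𝟙 X := pullback.lift_fst _ _ _
  have h2 : Etale (g ≫ pullback.fst p q) := by rw [h1]; infer_instance
  have h3 : Etale g :=
    MorphismProperty.of_postcomp (W := @Etale) (W' := @Etale) g (pullback.fst p q) inferInstance h2
  have h4 : Mono g := mono_of_mono_fac h1
  exact IsOpenImmersion.of_flat_of_mono g

/-- an etale, universally injective and surjective morphism is an isomorphism -/
theorem isIso_of_etale_of_universallyInjective_of_surjective {Z W : Scheme.{u}} (π : Z ⟶ W)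
    [Etale π] (h1 : UniversallyInjective π) (h2 : Surjective π) : IsIso π := by
  have hs : Surjective (pullback.diagonal π) := (UniversallyInjective.iff_diagonal π).mp h1
  have ho : IsOpenImmersion (pullback.diagonal π) := inferInstance
  have hiso : IsIso (pullback.diagonal π) :=
    (isIso_iff_isOpenImmersion_and_surjective _).mpr ⟨ho, hs⟩
  have hmono : Mono π := (pullback.isIso_diagonal_iff π).mp hiso
  have hoi : IsOpenImmersion π := IsOpenImmersion.of_flat_of_mono π
  exact (isIso_iff_isOpenImmersion_and_surjective _).mpr ⟨hoi, h2⟩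

end

open AlgebraicGeometry CategoryTheory CategoryTheory.Limits in
/-- Let X and Y be S-schemes with Y etale over S. The map f ↦ Γ_f sending an S-morphism f : X ⟶ Y to the
subset of X ×_S Y underlying its graph is a bijection from Hom_S(X, Y) onto the set of open subsets
Γ of X ×_S Y for which the restriction Γ → X of the first projection is radicial (universally
injective) and surjective. Stated as: the graph of every S-morphism is an open immersion, and every
such open Γ is the image of the graph of exactly one S-morphism. -/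
theorem result {S X Y : Scheme.{u}} (p : X ⟶ S)
    (q : Y ⟶ S) [Etale q] :
    (∀ f : {f : X ⟶ Y // f ≫ q = p},
      IsOpenImmersion (pullback.lift (𝟙 X) f.1 ((Category.id_comp p).trans f.2.symm) : X ⟶ pullback p q)) ∧
    ∀ Γ : (pullback p q).Opens, UniversallyInjective (Γ.ι ≫ pullback.fst p q) → Surjective (Γ.ι ≫ pullback.fst p q) →
      ∃! f : {f : X ⟶ Y // f ≫ q = p},
        Set.range (pullback.lift (𝟙 X) f.1 ((Category.id_comp p).trans f.2.symm) : X ⟶ pullback p q).base =
          (Γ : Set ↥(pullback p q)) := by
  refine ⟨fun f => graph_isOpenImmersion p q f.1 f.2, ?_⟩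
  intro Γ h1 h2
  have hiso : IsIso (Γ.ι ≫ pullback.fst p q) :=
    isIso_of_etale_of_universallyInjective_of_surjective _ h1 h2
  let f : X ⟶ Y := inv (Γ.ι ≫ pullback.fst p q) ≫ Γ.ι ≫ pullback.snd p q
  have hfq : f ≫ q = p := by
    simp only [f, Category.assoc]
    rw [← pullback.condition, ← Category.assoc Γ.ι, IsIso.inv_hom_id_assoc]
  have hgraph : ∀ (f' : X ⟶ Y) (hf' : f' ≫ q = p), f' = f →
      pullback.lift (𝟙 X) f' ((Category.id_comp p).trans hf'.symm) =
        inv (Γ.ι ≫ pullback.fst p q) ≫ Γ.ι := by
    intro f' hf' e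
    apply pullback.hom_ext
    · rw [pullback.lift_fst, Category.assoc, IsIso.inv_hom_id]
    · rw [pullback.lift_snd, Category.assoc, e]
  refine ⟨⟨f, hfq⟩, ?_, ?_⟩
  · change Set.range (pullback.lift (𝟙 X) f _).base = _
    rw [hgraph f hfq rfl, Scheme.Hom.comp_base, TopCat.coe_comp, Set.range_comp]
    have hsurj : Function.Surjective (inv (Γ.ι ≫ pullback.fst p q)).base := by
      have : IsIso (inv (Γ.ι ≫ pullback.fst p q)).base := inferInstance
      exact ((TopCat.homeoOfIso (asIso (inv (Γ.ι ≫ pullback.fst p q)).base))).surjective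
    rw [hsurj.range_eq, Set.image_univ]
    exact Scheme.Opens.range_ι Γ
  · rintro ⟨f', hf'⟩ hr
    apply Subtype.ext
    change f' = f
    have hoi := graph_isOpenImmersion p q f' hf'
    have hsub : Set.range (pullback.lift (𝟙 X) f' ((Category.id_comp p).trans hf'.symm)).base ⊆
        Set.range Γ.ι.base := by
      rw [Scheme.Opens.range_ι]; exact hr.le
    let h := IsOpenImmersion.lift Γ.ι (pullback.lift (𝟙 X) f' ((Category.id_comp p).trans hf'.symm)) hsub
    have hh : h ≫ Γ.ι = pullback.lift (𝟙 X) f' ((Category.id_comp p).trans hf'.symm) :=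
      IsOpenImmersion.lift_fac _ _ _
    have hπ : h ≫ (Γ.ι ≫ pullback.fst p q) = 𝟙 X := by
      rw [← Category.assoc, hh, pullback.lift_fst]
    have hinv : h = inv (Γ.ι ≫ pullback.fst p q) := by
      rw [← Category.comp_id h, ← IsIso.hom_inv_id (Γ.ι ≫ pullback.fst p q), ← Category.assoc, hπ,
        Category.id_comp]
    have : f' = (pullback.lift (𝟙 X) f' ((Category.id_comp p).trans hf'.symm)) ≫ pullback.snd p q :=
      (pullback.lift_snd _ _ _).symm
    rw [this, ← hh, hinv, Category.assoc]

end Groth.Agent.S5128
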