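import Groth.Statements.S5132

set_option autoImplicit false
open CategoryTheory AlgebraicGeometry
universe u
open SGA1

namespace Groth.Agent.S5132

open CategoryTheory.Limits in
/-- Quasi-compactness of a morphism descends along a surjective and quasi-compact base change; flatness
of the base change is not needed for this property. -/
theorem result :
    MorphismProperty.DescendsAlong @QuasiCompact (@Surjective ⊓ @QuasiCompact : MorphismProperty Scheme.{u}) := by
  apply IsZariskiLocalAtTarget.descendsAlong
  intro R X Y f g hf hfst
  obtain ⟨hs, hq⟩ := hf
  have hX : CompactSpace X := QuasiCompact.compactSpace_of_compactSpace f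
  have hXY : CompactSpace ↑(pullback f g) :=
    QuasiCompact.compactSpace_of_compactSpace (pullback.fst f g)
  have hsurj : Surjective (pullback.snd f g) := inferInstance
  rw [HasAffineProperty.iff_of_isAffine (P := @QuasiCompact)]
  exact (pullback.snd f g).surjective.compactSpace (pullback.snd f g).continuous

end Groth.Agent.S5132
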