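import Groth.Statements.S5133
import Mathlib.AlgebraicGeometry.IdealSheaf.Subscheme
import Mathlib.AlgebraicGeometry.PullbackCarrier

set_option autoImplicit false
open CategoryTheory CategoryTheory.Limits AlgebraicGeometry
universe u
open SGA1

namespace Groth.Agent.S5133

/-- Points in the closure of the image of a quasi-compact morphism are specializations of points
of the image. -/
lemma exists_specializes_of_mem_closure_range {X Y : Scheme.{u}} (f : X ⟶ Y) [QuasiCompact f]
    (y : Y) (hy : y ∈ closure (Set.range f)) : ∃ x : X, f x ⤳ y := by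
  wlog hY : ∃ R, Y = Spec R generalizing X Y
  · obtain ⟨i, v, rfl⟩ := Y.affineCover.exists_eq y
    have hv : v ∈ closure (Set.range (pullback.snd f (Y.affineCover.f i))) := by
      rw [Scheme.Pullback.range_snd,
        ← (Y.affineCover.f i).isOpenEmbedding.isOpenMap.preimage_closure_eq_closure_preimage
          (Y.affineCover.f i).continuous]
      exact hy
    obtain ⟨x', hx'⟩ := this (pullback.snd f (Y.affineCover.f i)) v hv ⟨_, rfl⟩
    refine ⟨pullback.fst f (Y.affineCover.f i) x', ?_⟩
    have e : f (pullback.fst f (Y.affineCover.f i) x') =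
        Y.affineCover.f i (pullback.snd f (Y.affineCover.f i) x') := by
      rw [← Scheme.Hom.comp_apply, pullback.condition, Scheme.Hom.comp_apply]
    rw [e]
    exact hx'.map (Y.affineCover.f i).continuous
  obtain ⟨R, rfl⟩ := hY
  obtain ⟨A, g, hg⟩ := compactSpace_iff_exists.mp (QuasiCompact.compactSpace_of_compactSpace f)
  obtain ⟨φ, hφ⟩ := Spec.map_surjective (g ≫ f)
  have hrange : Set.range f = Set.range (Spec.map φ) := by
    rw [hφ, Scheme.Hom.comp_base, TopCat.coe_comp, Set.range_comp, hg.range_eq, Set.image_univ]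
  rw [hrange] at hy
  have hy' : y ∈ closure (Set.range (PrimeSpectrum.comap φ.hom)) := hy
  rw [PrimeSpectrum.closure_range_comap] at hy'
  have hle : RingHom.ker φ.hom ≤ PrimeSpectrum.asIdeal (R := R) y :=
    (PrimeSpectrum.mem_zeroLocus (R := R) y _).mp hy'
  obtain ⟨p, hp, hpy⟩ := Ideal.exists_minimalPrimes_le hle
  obtain ⟨p', hp', -, hpp'⟩ := Ideal.exists_comap_eq_of_mem_minimalPrimes (I := ⊥) φ.hom p
    (by rwa [← RingHom.ker_eq_comap_bot])
  refine ⟨g ⟨p', hp'⟩, ?_⟩
  have e : f (g ⟨p', hp'⟩) = (⟨p, hpp' ▸ hp'.comap _⟩ : PrimeSpectrum R) := by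
    rw [← Scheme.Hom.comp_apply, ← hφ]
    apply PrimeSpectrum.ext
    exact hpp'
  rw [e]
  exact (PrimeSpectrum.le_iff_specializes (R := R) ⟨p, hpp' ▸ hp'.comap _⟩ y).mp hpy

/-- The version for the image of a closed subset. -/
lemma exists_specializes_of_mem_closure_image {X Y : Scheme.{u}} (f : X ⟶ Y) [QuasiCompact f]
    (Z : Set X) (hZ : IsClosed Z) (y : Y) (hy : y ∈ closure (f '' Z)) :
    ∃ z ∈ Z, f z ⤳ y := by
  let I := Scheme.IdealSheafData.vanishingIdeal ⟨Z, hZ⟩
  have hr : Set.range I.subschemeι = Z := by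
    rw [Scheme.IdealSheafData.range_subschemeι, Scheme.IdealSheafData.coe_support_vanishingIdeal]
    rfl
  have hrange : Set.range (I.subschemeι ≫ f) = f '' Z := by
    rw [Scheme.Hom.comp_base, TopCat.coe_comp, Set.range_comp, hr]
  obtain ⟨x, hx⟩ := exists_specializes_of_mem_closure_range (I.subschemeι ≫ f) y
    (by rw [hrange]; exact hy)
  refine ⟨I.subschemeι x, ?_, ?_⟩
  · rw [← hr]
    exact ⟨x, rfl⟩
  · rwa [Scheme.Hom.comp_apply] at hx

/-- For a quasi-compact morphism f : X ⟶ Y and a flat surjective base change g : Y' ⟶ Y, with no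
quasi-compactness asked of g, if the base change of f along g is a homeomorphism onto its image then
f is a homeomorphism onto its image. -/
theorem result {X Y Y' : Scheme.{u}} (f : X ⟶ Y)
    (g : Y' ⟶ Y) [QuasiCompact f] [Flat g] [Surjective g]
    (h : Topology.IsEmbedding (pullback.snd f g).base) : Topology.IsEmbedding f.base := by
  have hgen : GeneralizingMap g := Flat.generalizingMap g
  -- the key closedness property
  have key : ∀ Z : Set X, IsClosed Z → ∀ x : X, f x ∈ closure (f '' Z) → x ∈ Z := by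
    intro Z hZ x hx
    obtain ⟨z, hzZ, hz⟩ := exists_specializes_of_mem_closure_image f Z hZ (f x) hx
    obtain ⟨y', hy'⟩ := g.surjective (f x)
    obtain ⟨y'', hy''s, hy''⟩ := hgen (a := y') (b := f z) (by rw [hy']; exact hz)
    obtain ⟨z', hz'1, hz'2⟩ := Scheme.Pullback.exists_preimage_pullback (f := f) (g := g) z y''
      hy''.symm
    obtain ⟨x', hx'1, hx'2⟩ := Scheme.Pullback.exists_preimage_pullback (f := f) (g := g) x y'
      hy'.symm
    have hspec : z' ⤳ x' := by
      rw [← h.isInducing.specializes_iff]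
      rw [hz'2, hx'2]
      exact hy''s
    have hcl : IsClosed ((pullback.fst f g) ⁻¹' Z) := hZ.preimage (pullback.fst f g).continuous
    have hmem : x' ∈ (pullback.fst f g) ⁻¹' Z := hspec.mem_closed hcl (by
      change pullback.fst f g z' ∈ Z
      rw [hz'1]; exact hzZ)
    rw [← hx'1]
    exact hmem
  refine ⟨⟨le_antisymm (continuous_iff_le_induced.mp f.continuous) ?_⟩, ?_⟩
  · intro U hU
    rw [isOpen_induced_iff]
    refine ⟨(closure (f '' Uᶜ))ᶜ, isClosed_closure.isOpen_compl, ?_⟩
    ext x
    simp only [Set.mem_preimage, Set.mem_compl_iff]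
    constructor
    · intro hx
      by_contra hxU
      exact hx (subset_closure ⟨x, hxU, rfl⟩)
    · intro hxU hx
      exact key Uᶜ hU.isClosed_compl x hx hxU
  · intro x₁ x₂ hx
    obtain ⟨y', hy'⟩ := g.surjective (f x₁)
    obtain ⟨x₁', h11, h12⟩ := Scheme.Pullback.exists_preimage_pullback (f := f) (g := g) x₁ y'
      hy'.symm
    obtain ⟨x₂', h21, h22⟩ := Scheme.Pullback.exists_preimage_pullback (f := f) (g := g) x₂ y'
      (by rw [hy']; exact hx.symm)
    have : x₁' = x₂' := h.injective (by
      rw [h12, h22])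
    rw [← h11, ← h21, this]

end Groth.Agent.S5133
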