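import Groth.Statements.S5135
import Mathlib.LinearAlgebra.TensorProduct.RightExactness
import Mathlib.RingTheory.Flat.Basic

set_option autoImplicit false
universe u
open scoped TensorProduct
open SGA1

namespace Groth.Agent.S5135

section

variable (A A' : Type u) [CommRing A] [CommRing A'] [Algebra A A']
  (M : Type u) [AddCommGroup M] [Module A M] (N' : Submodule A' (A' ⊗[A] M))

/-- the first inclusion -/
noncomputable def i₁ : A' ⊗[A] M →ₗ[A] (A' ⊗[A] A') ⊗[A] M :=
  (Algebra.TensorProduct.includeLeft : A' →ₐ[A] A' ⊗[A] A').toLinearMap.rTensor M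

/-- the second inclusion -/
noncomputable def i₂ : A' ⊗[A] M →ₗ[A] (A' ⊗[A] A') ⊗[A] M :=
  (Algebra.TensorProduct.includeRight : A' →ₐ[A] A' ⊗[A] A').toLinearMap.rTensor M

/-- the test map -/
noncomputable def Φ : (A' ⊗[A] A') ⊗[A] M →ₗ[A] A' ⊗[A] ((A' ⊗[A] M) ⧸ N'.restrictScalars A) :=
  ((N'.restrictScalars A).mkQ.lTensor A') ∘ₗ (TensorProduct.assoc A A' A' M).toLinearMap

lemma assoc_i₁ (x : A' ⊗[A] M) :
    TensorProduct.assoc A A' A' M (i₁ A A' M x) = (TensorProduct.mk A A' M 1).lTensor A' x := by
  induction x using TensorProduct.induction_on with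
  | zero => simp
  | tmul a m => simp [i₁]
  | add x y hx hy => simp only [map_add, hx, hy]

lemma Φ_smul_i₂ (c d : A') (x : A' ⊗[A] M) :
    Φ A A' M N' ((c ⊗ₜ[A] d) • i₂ A A' M x) = c ⊗ₜ[A] (N'.restrictScalars A).mkQ (d • x) := by
  induction x using TensorProduct.induction_on with
  | zero => simp
  | tmul a m =>
    simp [i₂, Φ, TensorProduct.smul_tmul']
  | add x y hx hy =>
    simp only [map_add, smul_add, hx, hy, TensorProduct.tmul_add]

lemma Φ_smul_i₂_of_mem (b : A' ⊗[A] A') (x : A' ⊗[A] M) (hx : x ∈ N') :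
    Φ A A' M N' (b • i₂ A A' M x) = 0 := by
  induction b using TensorProduct.induction_on with
  | zero => simp
  | tmul c d =>
    rw [Φ_smul_i₂]
    have : (N'.restrictScalars A).mkQ (d • x) = 0 := by
      rw [Submodule.mkQ_apply, Submodule.Quotient.mk_eq_zero]
      exact N'.smul_mem d hx
    rw [this, TensorProduct.tmul_zero]
  | add b b' hb hb' =>
    rw [add_smul, map_add, hb, hb', add_zero]

lemma Φ_eq_zero_of_mem_span (y : (A' ⊗[A] A') ⊗[A] M)
    (hy : y ∈ Submodule.span (A' ⊗[A] A')
      ((N'.restrictScalars A).map (i₂ A A' M) : Set ((A' ⊗[A] A') ⊗[A] M))) :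
    Φ A A' M N' y = 0 := by
  have key : ∀ b : A' ⊗[A] A', Φ A A' M N' (b • y) = 0 := by
    induction hy using Submodule.span_induction with
    | mem z hz =>
      obtain ⟨x, hx, rfl⟩ := hz
      intro b
      exact Φ_smul_i₂_of_mem A A' M N' b x hx
    | zero => intro b; simp
    | add z w _ _ hz hw =>
      intro b
      rw [smul_add, map_add, hz, hw, add_zero]
    | smul b' z _ hz =>
      intro b
      rw [smul_smul]
      exact hz _
  simpa using key 1

end

/-- The affine case, in submodule form (descent of submodules, equivalently of quotient modules): for A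
⟶ A' faithfully flat, M an A-module and N' an A'-submodule of A' ⊗ M whose two extensions to (A' ⊗
A') ⊗ M, along a ↦ a ⊗ 1 and a ↦ 1 ⊗ a, generate the same submodule, N' is the base change of the
submodule of M formed by the elements m with 1 ⊗ m in N'. -/
theorem result (A A' : Type u) [CommRing A] [CommRing A'] [Algebra A A']
    [Module.FaithfullyFlat A A'] (M : Type u) [AddCommGroup M] [Module A M] (N' : Submodule A' (A' ⊗[A] M))
    (h : Submodule.span (A' ⊗[A] A')
          ((N'.restrictScalars A).map
            ((Algebra.TensorProduct.includeLeft : A' →ₐ[A] A' ⊗[A] A').toLinearMap.rTensor M) : Set ((A' ⊗[A] A') ⊗[A] M)) =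
        Submodule.span (A' ⊗[A] A')
          ((N'.restrictScalars A).map
            ((Algebra.TensorProduct.includeRight : A' →ₐ[A] A' ⊗[A] A').toLinearMap.rTensor M) : Set ((A' ⊗[A] A') ⊗[A] M))) :
    ((N'.restrictScalars A).comap (TensorProduct.mk A A' M 1)).baseChange A' = N' := by
  set σ : M →ₗ[A] A' ⊗[A] M := TensorProduct.mk A A' M 1 with hσ
  set N : Submodule A M := (N'.restrictScalars A).comap σ with hN
  apply le_antisymm
  · rw [Submodule.baseChange_eq_span, Submodule.span_le]
    rintro _ ⟨m, hm, rfl⟩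
    exact hm
  · intro n' hn'
    -- the quotient and the injective comparison map
    let π := (N'.restrictScalars A).mkQ
    let ρ : M ⧸ N →ₗ[A] (A' ⊗[A] M) ⧸ N'.restrictScalars A :=
      N.liftQ (π ∘ₗ σ) (by
        intro m hm
        rw [LinearMap.mem_ker, LinearMap.comp_apply, Submodule.mkQ_apply,
          Submodule.Quotient.mk_eq_zero]
        exact hm)
    have hρ : Function.Injective ρ := by
      rw [← LinearMap.ker_eq_bot]
      apply Submodule.ker_liftQ_eq_bot
      intro m hm
      rw [LinearMap.mem_ker, LinearMap.comp_apply, Submodule.mkQ_apply,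
        Submodule.Quotient.mk_eq_zero] at hm
      exact hm
    have hρ' : Function.Injective (ρ.lTensor A') :=
      Module.Flat.lTensor_preserves_injective_linearMap ρ hρ
    have hcomp : ρ ∘ₗ N.mkQ = π ∘ₗ σ := N.liftQ_mkQ _ _
    -- it suffices to show that `n'` dies in `A' ⊗ (M ⧸ N)`
    have hex := lTensor_exact A' (LinearMap.exact_subtype_mkQ N) N.mkQ_surjective
    have hzero : (N.mkQ.lTensor A') n' = 0 := by
      apply hρ'
      rw [map_zero, ← LinearMap.comp_apply, ← LinearMap.lTensor_comp, hcomp,
        LinearMap.lTensor_comp, LinearMap.comp_apply, ← assoc_i₁]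
      apply Φ_eq_zero_of_mem_span A A' M N'
      change _ ∈ Submodule.span (A' ⊗[A] A')
          ((N'.restrictScalars A).map
            ((Algebra.TensorProduct.includeRight : A' →ₐ[A] A' ⊗[A] A').toLinearMap.rTensor M) : Set ((A' ⊗[A] A') ⊗[A] M))
      rw [← h]
      exact Submodule.subset_span ⟨n', hn', rfl⟩
    obtain ⟨z, hz⟩ := (hex n').mp hzero
    exact ⟨z, hz⟩

end Groth.Agent.S5135
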