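import Groth.Statements.S5138
import Mathlib.AlgebraicGeometry.Morphisms.Flat
import Mathlib.AlgebraicGeometry.Morphisms.FlatMono
import Mathlib.AlgebraicGeometry.Morphisms.Etale
import Mathlib.AlgebraicGeometry.Noetherian
import Mathlib.RingTheory.Flat.FaithfullyFlat.Algebra

set_option autoImplicit false
open CategoryTheory AlgebraicGeometry
universe u
open SGA1

namespace Groth.Agent.S5138

open TensorProduct CategoryTheory.Limits

/-- flatness descends along a faithfully flat extension of the target ring -/
theorem flat_of_faithfullyFlat_of_flat (A B C : Type*) [CommRing A] [CommRing B] [CommRing C]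
    [Algebra A B] [Algebra B C] [Algebra A C] [IsScalarTower A B C]
    [Module.FaithfullyFlat B C] [Module.Flat A C] : Module.Flat A B := by
  rw [Module.Flat.iff_lTensor_preserves_injective_linearMap]
  intro N P _ _ _ _ f hf
  have h1 : Function.Injective (LinearMap.lTensor C f) :=
    Module.Flat.lTensor_preserves_injective_linearMap f hf
  let fB : B ⊗[A] N →ₗ[B] B ⊗[A] P := f.baseChange B
  have hfB : ∀ x, fB x = LinearMap.lTensor B f x := fun x => by
    simp [fB, LinearMap.baseChange_eq_ltensor]
  suffices h : Function.Injective fB by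
    intro x y hxy
    apply h
    rw [hfB, hfB, hxy]
  rw [← Module.FaithfullyFlat.lTensor_injective_iff_injective B C]
  let eN := AlgebraTensorModule.cancelBaseChange A B C C N
  let eP := AlgebraTensorModule.cancelBaseChange A B C C P
  have key : ∀ x, eP (LinearMap.lTensor C fB x) = LinearMap.lTensor C f (eN x) := by
    intro x
    induction x using TensorProduct.induction_on with
    | zero => simp
    | add x y hx hy => simp only [map_add, hx, hy]
    | tmul c y =>
      induction y using TensorProduct.induction_on with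
      | zero => simp
      | add x y hx hy => simp only [tmul_add, map_add, hx, hy]
      | tmul b n =>
        simp [eN, eP, fB]
  intro x y hxy
  apply eN.injective
  apply h1
  rw [← key, ← key, hxy]

theorem ringHom_flat_of_comp {A B C : Type*} [CommRing A] [CommRing B] [CommRing C]
    [IsLocalRing B] [IsLocalRing C]
    (φ : A →+* B) (ψ : B →+* C) [IsLocalHom ψ] (hψ : ψ.Flat) (h : (ψ.comp φ).Flat) : φ.Flat := by
  algebraize [φ, ψ, ψ.comp φ]
  have : IsLocalHom (algebraMap B C) := ‹IsLocalHom ψ›
  have : Module.FaithfullyFlat B C := Module.FaithfullyFlat.of_flat_of_isLocalHom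
  exact flat_of_faithfullyFlat_of_flat A B C

/-- flatness descends along flat surjective morphisms at the source -/
theorem flat_of_flat_comp_of_surjective {W V Y : Scheme.{u}} (a : W ⟶ V) (k : V ⟶ Y)
    [Flat a] [Surjective a] [Flat (a ≫ k)] : Flat k := by
  rw [Flat.iff_flat_stalkMap]
  intro v
  obtain ⟨w, rfl⟩ := a.surjective v
  have h1 : ((a ≫ k).stalkMap w).hom.Flat := Flat.stalkMap (a ≫ k) w
  have h2 : (a.stalkMap w).hom.Flat := Flat.stalkMap a w
  rw [Scheme.Hom.stalkMap_comp] at h1
  exact ringHom_flat_of_comp (k.stalkMap (a w)).hom (a.stalkMap w).hom h2 h1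

/-- etaleness descends along etale surjective morphisms at the source (locally Noetherian base) -/
theorem etale_of_etale_comp_of_surjective {W V Y : Scheme.{u}} (a : W ⟶ V) (k : V ⟶ Y)
    [IsLocallyNoetherian Y] [LocallyOfFiniteType k]
    [Etale a] [Surjective a] [Etale (a ≫ k)] : Etale k := by
  have hflat : Flat k := flat_of_flat_comp_of_surjective a k
  have hV : IsLocallyNoetherian V := LocallyOfFiniteType.isLocallyNoetherian k
  -- the diagonal
  let m : pullback (a ≫ k) (a ≫ k) ⟶ pullback k k :=
    pullback.map (a ≫ k) (a ≫ k) k k a a (𝟙 Y) ((Category.comp_id _).trans rfl)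
      ((Category.comp_id _).trans rfl)
  have hm : Etale m := MorphismProperty.pullbackMap (P := @Etale) (inferInstance : Etale a)
    (inferInstance : Etale a) rfl rfl
  have hcomm : a ≫ pullback.diagonal k = pullback.diagonal (a ≫ k) ≫ m := by
    have h1 : m ≫ pullback.fst k k = pullback.fst _ _ ≫ a := pullback.lift_fst _ _ _
    have h2 : m ≫ pullback.snd k k = pullback.snd _ _ ≫ a := pullback.lift_snd _ _ _
    apply pullback.hom_ext
    · rw [Category.assoc, Category.assoc, h1, pullback.diagonal_fst, Category.comp_id,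
        pullback.diagonal_fst_assoc]
    · rw [Category.assoc, Category.assoc, h2, pullback.diagonal_snd, Category.comp_id,
        pullback.diagonal_snd_assoc]
  have hflat2 : Flat (a ≫ pullback.diagonal k) := by
    rw [hcomm]; infer_instance
  have hΔflat : Flat (pullback.diagonal k) := flat_of_flat_comp_of_surjective a _
  have hΔlft : LocallyOfFiniteType (pullback.diagonal k) := by
    have : LocallyOfFiniteType (pullback.diagonal k ≫ pullback.fst k k) := by
      rw [pullback.diagonal_fst]; infer_instance
    exact locallyOfFiniteType_of_comp _ (pullback.fst k k)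
  have hΔoi : IsOpenImmersion (pullback.diagonal k) := IsOpenImmersion.of_flat_of_mono _
  have hunr : FormallyUnramified k := inferInstance
  rw [Etale.iff_flat_and_formallyUnramified]
  exact ⟨hflat, hunr, inferInstance⟩

theorem mem_etaleLocus_iff {X Y : Scheme.{u}} (f : X ⟶ Y) (x : X) :
    x ∈ Pi1X.etaleLocus f ↔ ∃ U : X.Opens, x ∈ U ∧ Etale (U.ι ≫ f) := by
  unfold Pi1X.etaleLocus
  rw [TopologicalSpace.Opens.mem_sSup]
  constructor
  · rintro ⟨U, hU, hx⟩; exact ⟨U, hx, hU⟩
  · rintro ⟨U, hx, hU⟩; exact ⟨U, hU, hx⟩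

theorem etale_of_le {X Y : Scheme.{u}} (f : X ⟶ Y) {W U : X.Opens} (h : W ≤ U)
    [Etale (U.ι ≫ f)] : Etale (W.ι ≫ f) := by
  have : W.ι ≫ f = X.homOfLE h ≫ (U.ι ≫ f) := by
    rw [← Category.assoc, Scheme.homOfLE_ι]
  rw [this]
  infer_instance

/-- For X ⟶ X' ⟶ Y locally of finite type over a locally Noetherian Y and a point x of X, if X ⟶ X' and
the composite X ⟶ Y are both etale near x then X' ⟶ Y is etale near the image of x; 'etale near a
point' is membership in the etale locus, the union of the opens on which the morphism is etale. (The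
published statement takes the morphisms of finite type; quasi-compactness plays no role in this
assertion about single points, so only local finiteness is assumed.) -/
theorem result {X X' Y : Scheme.{u}} (f : X ⟶ X') (g : X' ⟶ Y)
    [IsLocallyNoetherian Y] [LocallyOfFiniteType f] [LocallyOfFiniteType g] (x : X)
    (hf : x ∈ Pi1X.etaleLocus f) (hfg : x ∈ Pi1X.etaleLocus (f ≫ g)) : f.base x ∈ Pi1X.etaleLocus g := by
  obtain ⟨U, hxU, hU⟩ := (mem_etaleLocus_iff f x).mp hf
  obtain ⟨U', hxU', hU'⟩ := (mem_etaleLocus_iff (f ≫ g) x).mp hfg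
  let W : X.Opens := U ⊓ U'
  have hxW : x ∈ W := ⟨hxU, hxU'⟩
  have hW1 : Etale (W.ι ≫ f) := etale_of_le f (inf_le_left : W ≤ U)
  have hW2 : Etale (W.ι ≫ f ≫ g) := etale_of_le (f ≫ g) (inf_le_right : W ≤ U')
  -- the open image
  let V : X'.Opens := ⟨Set.range (W.ι ≫ f).base, (W.ι ≫ f).isOpenMap.isOpen_range⟩
  have hfxV : f.base x ∈ V := ⟨⟨x, hxW⟩, rfl⟩
  have hsub : Set.range (W.ι ≫ f).base ⊆ Set.range V.ι.base := by
    rw [Scheme.Opens.range_ι]; exact subset_rfl
  let a : (W : Scheme) ⟶ V := IsOpenImmersion.lift V.ι (W.ι ≫ f) hsub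
  have ha : a ≫ V.ι = W.ι ≫ f := IsOpenImmersion.lift_fac _ _ _
  have haet : Etale a := by
    have : Etale (a ≫ V.ι) := by rw [ha]; exact hW1
    exact MorphismProperty.of_postcomp (W := @Etale) (W' := @Etale) a V.ι inferInstance this
  have hasurj : Surjective a := by
    refine ⟨fun v => ?_⟩
    obtain ⟨w, hw⟩ := v.2
    refine ⟨w, ?_⟩
    apply V.ι.injective
    rw [← Scheme.Hom.comp_apply, ha]
    exact hw
  have hak : Etale (a ≫ V.ι ≫ g) := by
    rw [← Category.assoc, ha, Category.assoc]; exact hW2
  have hk : Etale (V.ι ≫ g) := etale_of_etale_comp_of_surjective a (V.ι ≫ g)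
  rw [mem_etaleLocus_iff]
  exact ⟨V, hfxV, hk⟩

end Groth.Agent.S5138
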