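import Groth.Statements.S5141
import Groth.Agent.S5139

set_option autoImplicit false
open CategoryTheory
universe u v u₂ v₂
open FibCat

namespace Groth.Agent.S5141

/-- In the sharper form given by its proof: for an equivalence F : 𝒳 ⟶ 𝒴 over C, a morphism φ of 𝒳 is
cartesian (over its image in C) if and only if F φ is; in particular an equivalence over C is a
cartesian functor. -/
theorem result {C : Type u} [Category.{v} C]
    {𝒳 𝒴 : BasedCategory.{v₂, u₂} C} (F : 𝒳 ⥤ᵇ 𝒴) (hF : FibCat.IsEquivOver F) {a b : 𝒳.obj} (φ : a ⟶ b) :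
    𝒴.p.IsCartesian (𝒳.p.map φ) (F.toFunctor.map φ) ↔ 𝒳.p.IsCartesian (𝒳.p.map φ) φ := by
  rw [Groth.Agent.S5139.result] at hF
  obtain ⟨⟨hfull, hfaith⟩, hes⟩ := hF
  constructor
  · intro hc
    refine ⟨?_⟩
    intro ξ ψ hψ
    have h1 : 𝒴.p.IsHomLift (𝒳.p.map φ) (F.toFunctor.map ψ) := inferInstance
    obtain ⟨τ, ⟨hτ1, hτ2⟩, hτu⟩ := hc.universal_property (F.toFunctor.map ψ)
    obtain ⟨χ, rfl⟩ := F.toFunctor.map_surjective τ
    have hχ : 𝒳.p.IsHomLift (𝟙 (𝒳.p.obj a)) χ := BasedFunctor.isHomLift_map F _ _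
    refine ⟨χ, ⟨hχ, ?_⟩, ?_⟩
    · apply F.toFunctor.map_injective
      rw [Functor.map_comp]; exact hτ2
    · rintro χ' ⟨hχ'1, hχ'2⟩
      apply F.toFunctor.map_injective
      apply hτu
      refine ⟨inferInstance, ?_⟩
      rw [← Functor.map_comp, hχ'2]
  · intro hc
    have hlift : 𝒴.p.IsHomLift (𝒳.p.map φ) (F.toFunctor.map φ) := inferInstance
    refine ⟨?_⟩
    intro η ψ' hψ'
    obtain ⟨ξ, e, he⟩ := hes η
    have hη : 𝒴.p.obj η = 𝒳.p.obj a := IsHomLift.domain_eq 𝒴.p (𝒳.p.map φ) ψ'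
    have he' : 𝒴.p.IsHomLift (𝟙 (𝒳.p.obj a)) e.hom := by
      rw [← hη]; exact he
    have heinv : 𝒴.p.IsHomLift (𝟙 (𝒳.p.obj a)) e.inv := IsHomLift.lift_id_inv 𝒴.p _ e
    have h1 : 𝒴.p.IsHomLift (𝒳.p.map φ) (e.hom ≫ ψ') := inferInstance
    obtain ⟨ψ, hψ⟩ := F.toFunctor.map_surjective (e.hom ≫ ψ')
    have h2 : 𝒳.p.IsHomLift (𝒳.p.map φ) ψ := by
      have : 𝒴.p.IsHomLift (𝒳.p.map φ) (F.toFunctor.map ψ) := by rw [hψ]; exact h1
      exact BasedFunctor.isHomLift_map F _ _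
    obtain ⟨χ, ⟨hχ1, hχ2⟩, hχu⟩ := hc.universal_property ψ
    refine ⟨e.inv ≫ F.toFunctor.map χ, ⟨inferInstance, ?_⟩, ?_⟩
    · rw [Category.assoc, ← Functor.map_comp, hχ2, hψ, Iso.inv_hom_id_assoc]
    · rintro τ ⟨hτ1, hτ2⟩
      obtain ⟨χ', hχ'⟩ := F.toFunctor.map_surjective (e.hom ≫ τ)
      have h3 : 𝒳.p.IsHomLift (𝟙 (𝒳.p.obj a)) χ' := by
        have : 𝒴.p.IsHomLift (𝟙 (𝒳.p.obj a)) (F.toFunctor.map χ') := by
          rw [hχ']; infer_instance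
        exact BasedFunctor.isHomLift_map F _ _
      have h4 : χ' = χ := by
        apply hχu
        refine ⟨h3, ?_⟩
        apply F.toFunctor.map_injective
        rw [Functor.map_comp, hχ', hψ, Category.assoc, hτ2]
      rw [← h4, hχ', Iso.inv_hom_id_assoc]

end Groth.Agent.S5141
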