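import Groth.Statements.S5142

set_option autoImplicit false
open CategoryTheory
universe u v u₂ v₂
open FibCat

namespace Groth.Agent.S5142

section

variable {C : Type u} [Category.{v} C] {𝒳 𝒴 : BasedCategory.{v₂, u₂} C}

/-- the structure isomorphism, with its type stated in `C` -/
def isoC (x : (FibCat.fp (FibCat.toSelf 𝒳) (FibCat.toSelf 𝒴)).obj) :
    𝒳.p.obj x.obj.fst ≅ 𝒴.p.obj x.obj.snd := x.obj.iso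

theorem isoC_lift (x : (FibCat.fp (FibCat.toSelf 𝒳) (FibCat.toSelf 𝒴)).obj) :
    (𝟭 C).IsHomLift (𝟙 (𝒳.p.obj x.obj.fst)) (isoC x).hom := x.property

theorem obj_eq (x : (FibCat.fp (FibCat.toSelf 𝒳) (FibCat.toSelf 𝒴)).obj) :
    𝒳.p.obj x.obj.fst = 𝒴.p.obj x.obj.snd := by
  have hx := isoC_lift x
  exact (IsHomLift.codomain_eq (𝟭 C) (𝟙 (𝒳.p.obj x.obj.fst)) (isoC x).hom).symm

theorem iso_hom_eq (x : (FibCat.fp (FibCat.toSelf 𝒳) (FibCat.toSelf 𝒴)).obj) :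
    (isoC x).hom = eqToHom (obj_eq x) := by
  have hx := isoC_lift x
  have := IsHomLift.fac' (𝟭 C) (𝟙 (𝒳.p.obj x.obj.fst)) (isoC x).hom
  simpa using this

theorem w_C {x y : (FibCat.fp (FibCat.toSelf 𝒳) (FibCat.toSelf 𝒴)).obj} (ψ : x ⟶ y) :
    𝒳.p.map ψ.hom.fst ≫ (isoC y).hom = (isoC x).hom ≫ 𝒴.p.map ψ.hom.snd := ψ.hom.w

theorem map_snd_eq {x y : (FibCat.fp (FibCat.toSelf 𝒳) (FibCat.toSelf 𝒴)).obj} (ψ : x ⟶ y) :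
    𝒴.p.map ψ.hom.snd = eqToHom (obj_eq x).symm ≫ 𝒳.p.map ψ.hom.fst ≫ eqToHom (obj_eq y) := by
  have := w_C ψ
  rw [iso_hom_eq, iso_hom_eq] at this
  rw [this]
  simp

theorem fst_lift_iff {x y : (FibCat.fp (FibCat.toSelf 𝒳) (FibCat.toSelf 𝒴)).obj} (ψ : x ⟶ y)
    {R S : C} (f : R ⟶ S) :
    (FibCat.fp (FibCat.toSelf 𝒳) (FibCat.toSelf 𝒴)).p.IsHomLift f ψ ↔ 𝒳.p.IsHomLift f ψ.hom.fst := by
  constructor
  · intro h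
    have h1 : 𝒳.p.obj x.obj.fst = R :=
      IsHomLift.domain_eq (FibCat.fp (FibCat.toSelf 𝒳) (FibCat.toSelf 𝒴)).p f ψ
    have h2 : 𝒳.p.obj y.obj.fst = S :=
      IsHomLift.codomain_eq (FibCat.fp (FibCat.toSelf 𝒳) (FibCat.toSelf 𝒴)).p f ψ
    have h3 : f = eqToHom h1.symm ≫ 𝒳.p.map ψ.hom.fst ≫ eqToHom h2 :=
      IsHomLift.fac (FibCat.fp (FibCat.toSelf 𝒳) (FibCat.toSelf 𝒴)).p f ψ
    exact IsHomLift.of_fac _ _ _ h1 h2 h3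
  · intro h
    have h1 : 𝒳.p.obj x.obj.fst = R := IsHomLift.domain_eq 𝒳.p f ψ.hom.fst
    have h2 : 𝒳.p.obj y.obj.fst = S := IsHomLift.codomain_eq 𝒳.p f ψ.hom.fst
    have h3 : f = eqToHom h1.symm ≫ 𝒳.p.map ψ.hom.fst ≫ eqToHom h2 :=
      IsHomLift.fac 𝒳.p f ψ.hom.fst
    exact IsHomLift.of_fac (FibCat.fp (FibCat.toSelf 𝒳) (FibCat.toSelf 𝒴)).p f ψ h1 h2 h3

theorem snd_lift_iff {x y : (FibCat.fp (FibCat.toSelf 𝒳) (FibCat.toSelf 𝒴)).obj} (ψ : x ⟶ y)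
    {R S : C} (f : R ⟶ S) :
    𝒴.p.IsHomLift f ψ.hom.snd ↔ 𝒳.p.IsHomLift f ψ.hom.fst := by
  constructor
  · intro h
    have h1 := IsHomLift.domain_eq 𝒴.p f ψ.hom.snd
    have h2 := IsHomLift.codomain_eq 𝒴.p f ψ.hom.snd
    have h3 := IsHomLift.fac 𝒴.p f ψ.hom.snd
    refine IsHomLift.of_fac _ _ _ ((obj_eq x).trans h1) ((obj_eq y).trans h2) ?_
    rw [h3, map_snd_eq]
    simp
  · intro h
    have h1 := IsHomLift.domain_eq 𝒳.p f ψ.hom.fst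
    have h2 := IsHomLift.codomain_eq 𝒳.p f ψ.hom.fst
    have h3 := IsHomLift.fac 𝒳.p f ψ.hom.fst
    refine IsHomLift.of_fac _ _ _ ((obj_eq x).symm.trans h1) ((obj_eq y).symm.trans h2) ?_
    rw [h3, map_snd_eq]
    simp

/-- build an object of the fibre product -/
def mkObj (a : 𝒳.obj) (c : 𝒴.obj) (h : 𝒳.p.obj a = 𝒴.p.obj c) :
    (FibCat.fp (FibCat.toSelf 𝒳) (FibCat.toSelf 𝒴)).obj :=
  ⟨{ fst := a, snd := c, iso := eqToIso h },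
    IsHomLift.eqToHom_domain_lift_id (p := 𝟭 C) h rfl⟩

/-- build a morphism of the fibre product -/
def mkHom {x y : (FibCat.fp (FibCat.toSelf 𝒳) (FibCat.toSelf 𝒴)).obj}
    (α : x.obj.fst ⟶ y.obj.fst) (β : x.obj.snd ⟶ y.obj.snd)
    (h : 𝒴.p.map β = eqToHom (obj_eq x).symm ≫ 𝒳.p.map α ≫ eqToHom (obj_eq y)) : x ⟶ y :=
  ObjectProperty.homMk
    { fst := α
      snd := β
      w := by
        change 𝒳.p.map α ≫ (isoC y).hom = (isoC x).hom ≫ 𝒴.p.map β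
        rw [iso_hom_eq, iso_hom_eq, h]
        simp }

theorem hom_ext' {x y : (FibCat.fp (FibCat.toSelf 𝒳) (FibCat.toSelf 𝒴)).obj} {f g : x ⟶ y}
    (h1 : f.hom.fst = g.hom.fst) (h2 : f.hom.snd = g.hom.snd) : f = g := by
  apply ObjectProperty.hom_ext
  exact Limits.CategoricalPullback.hom_ext h1 h2

theorem cart_of_components {x y : (FibCat.fp (FibCat.toSelf 𝒳) (FibCat.toSelf 𝒴)).obj} (φ : x ⟶ y)
    (h₁ : 𝒳.p.IsCartesian (𝒳.p.map φ.hom.fst) φ.hom.fst)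
    (h₂ : 𝒴.p.IsCartesian (𝒴.p.map φ.hom.snd) φ.hom.snd) :
    (FibCat.fp (FibCat.toSelf 𝒳) (FibCat.toSelf 𝒴)).p.IsCartesian
        ((FibCat.fp (FibCat.toSelf 𝒳) (FibCat.toSelf 𝒴)).p.map φ) φ := by
  refine ⟨?_⟩
  intro z ψ hψ
  have hψ1 : 𝒳.p.IsHomLift (𝒳.p.map φ.hom.fst) ψ.hom.fst := (fst_lift_iff ψ _).1 hψ
  have hψ2 : 𝒴.p.IsHomLift (𝒴.p.map φ.hom.snd) ψ.hom.snd := by
    rw [snd_lift_iff, map_snd_eq φ]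
    infer_instance
  let χ₁ := Functor.IsCartesian.map 𝒳.p (𝒳.p.map φ.hom.fst) φ.hom.fst ψ.hom.fst
  let χ₂ := Functor.IsCartesian.map 𝒴.p (𝒴.p.map φ.hom.snd) φ.hom.snd ψ.hom.snd
  have hχ₁ : 𝒳.p.IsHomLift (𝟙 (𝒳.p.obj x.obj.fst)) χ₁ := inferInstance
  have hχ₂ : 𝒴.p.IsHomLift (𝟙 (𝒴.p.obj x.obj.snd)) χ₂ := inferInstance
  have e₁ : χ₁ ≫ φ.hom.fst = ψ.hom.fst := Functor.IsCartesian.fac _ _ _ _
  have e₂ : χ₂ ≫ φ.hom.snd = ψ.hom.snd := Functor.IsCartesian.fac _ _ _ _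
  have hw : 𝒴.p.map χ₂ = eqToHom (obj_eq z).symm ≫ 𝒳.p.map χ₁ ≫ eqToHom (obj_eq x) := by
    rw [IsHomLift.fac' 𝒴.p (𝟙 (𝒴.p.obj x.obj.snd)) χ₂, IsHomLift.fac' 𝒳.p (𝟙 (𝒳.p.obj x.obj.fst)) χ₁]
    simp
  refine ⟨mkHom χ₁ χ₂ hw, ⟨?_, ?_⟩, ?_⟩
  · rw [fst_lift_iff]; exact hχ₁
  · exact hom_ext' e₁ e₂
  · rintro τ ⟨hτ1, hτ2⟩
    have hτf : 𝒳.p.IsHomLift (𝟙 (𝒳.p.obj x.obj.fst)) τ.hom.fst := (fst_lift_iff τ _).1 hτ1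
    have hτs : 𝒴.p.IsHomLift (𝟙 (𝒴.p.obj x.obj.snd)) τ.hom.snd := by
      rw [snd_lift_iff, ← obj_eq x]; exact hτf
    have t1 : τ.hom.fst ≫ φ.hom.fst = ψ.hom.fst := congrArg (fun k => k.hom.fst) hτ2
    have t2 : τ.hom.snd ≫ φ.hom.snd = ψ.hom.snd := congrArg (fun k => k.hom.snd) hτ2
    apply hom_ext'
    · exact Functor.IsCartesian.map_uniq 𝒳.p (𝒳.p.map φ.hom.fst) φ.hom.fst ψ.hom.fst τ.hom.fst t1
    · exact Functor.IsCartesian.map_uniq 𝒴.p (𝒴.p.map φ.hom.snd) φ.hom.snd ψ.hom.snd τ.hom.snd t2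

theorem fst_cart {x y : (FibCat.fp (FibCat.toSelf 𝒳) (FibCat.toSelf 𝒴)).obj} (φ : x ⟶ y)
    (hc : (FibCat.fp (FibCat.toSelf 𝒳) (FibCat.toSelf 𝒴)).p.IsCartesian
        ((FibCat.fp (FibCat.toSelf 𝒳) (FibCat.toSelf 𝒴)).p.map φ) φ) :
    𝒳.p.IsCartesian (𝒳.p.map φ.hom.fst) φ.hom.fst := by
  refine ⟨?_⟩
  intro a' ψ₁ hψ₁
  have ha' : 𝒳.p.obj a' = 𝒳.p.obj x.obj.fst := IsHomLift.domain_eq 𝒳.p (𝒳.p.map φ.hom.fst) ψ₁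
  let z : (FibCat.fp (FibCat.toSelf 𝒳) (FibCat.toSelf 𝒴)).obj := mkObj a' x.obj.snd (ha'.trans (obj_eq x))
  have hz1 : 𝒴.p.obj x.obj.snd = 𝒳.p.obj a' := (ha'.trans (obj_eq x)).symm
  have hw : 𝒴.p.map φ.hom.snd = eqToHom hz1 ≫ 𝒳.p.map ψ₁ ≫ eqToHom (obj_eq y) := by
    have k : 𝒳.p.map ψ₁ = eqToHom ha' ≫ 𝒳.p.map φ.hom.fst ≫ eqToHom rfl :=
      IsHomLift.fac' 𝒳.p (𝒳.p.map φ.hom.fst) ψ₁
    rw [map_snd_eq φ, k]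
    simp
  let ψ : z ⟶ y := mkHom (x := z) ψ₁ φ.hom.snd hw
  have hψ : (FibCat.fp (FibCat.toSelf 𝒳) (FibCat.toSelf 𝒴)).p.IsHomLift
      ((FibCat.fp (FibCat.toSelf 𝒳) (FibCat.toSelf 𝒴)).p.map φ) ψ := by
    rw [fst_lift_iff]; exact hψ₁
  let χ := Functor.IsCartesian.map (FibCat.fp (FibCat.toSelf 𝒳) (FibCat.toSelf 𝒴)).p
    ((FibCat.fp (FibCat.toSelf 𝒳) (FibCat.toSelf 𝒴)).p.map φ) φ ψ
  have hχ : (FibCat.fp (FibCat.toSelf 𝒳) (FibCat.toSelf 𝒴)).p.IsHomLift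
      (𝟙 ((FibCat.fp (FibCat.toSelf 𝒳) (FibCat.toSelf 𝒴)).p.obj x)) χ := inferInstance
  have e : χ ≫ φ = ψ := Functor.IsCartesian.fac _ _ _ _
  refine ⟨χ.hom.fst, ⟨(fst_lift_iff χ _).1 hχ, congrArg (fun k => k.hom.fst) e⟩, ?_⟩
  rintro χ₁' ⟨h1, h2⟩
  have hw' : 𝒴.p.map (𝟙 x.obj.snd) = eqToHom hz1 ≫ 𝒳.p.map χ₁' ≫ eqToHom (obj_eq x) := by
    have k : 𝒳.p.map χ₁' = eqToHom ha' ≫ 𝟙 (𝒳.p.obj x.obj.fst) ≫ eqToHom rfl :=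
      IsHomLift.fac' 𝒳.p (𝟙 (𝒳.p.obj x.obj.fst)) χ₁'
    rw [k]
    simp
  let χ' : z ⟶ x := mkHom (x := z) χ₁' (𝟙 x.obj.snd) hw'
  have hχ' : (FibCat.fp (FibCat.toSelf 𝒳) (FibCat.toSelf 𝒴)).p.IsHomLift
      (𝟙 ((FibCat.fp (FibCat.toSelf 𝒳) (FibCat.toSelf 𝒴)).p.obj x)) χ' := by
    rw [fst_lift_iff]; exact h1
  have e' : χ' ≫ φ = ψ := hom_ext' h2 (Category.id_comp _)
  have := Functor.IsCartesian.map_uniq (FibCat.fp (FibCat.toSelf 𝒳) (FibCat.toSelf 𝒴)).p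
    ((FibCat.fp (FibCat.toSelf 𝒳) (FibCat.toSelf 𝒴)).p.map φ) φ ψ χ' e'
  exact congrArg (fun k => k.hom.fst) this

theorem snd_cart {x y : (FibCat.fp (FibCat.toSelf 𝒳) (FibCat.toSelf 𝒴)).obj} (φ : x ⟶ y)
    (hc : (FibCat.fp (FibCat.toSelf 𝒳) (FibCat.toSelf 𝒴)).p.IsCartesian
        ((FibCat.fp (FibCat.toSelf 𝒳) (FibCat.toSelf 𝒴)).p.map φ) φ) :
    𝒴.p.IsCartesian (𝒴.p.map φ.hom.snd) φ.hom.snd := by
  refine ⟨?_⟩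
  intro c' ψ₂ hψ₂
  have hc' : 𝒴.p.obj c' = 𝒴.p.obj x.obj.snd := IsHomLift.domain_eq 𝒴.p (𝒴.p.map φ.hom.snd) ψ₂
  let z : (FibCat.fp (FibCat.toSelf 𝒳) (FibCat.toSelf 𝒴)).obj :=
    mkObj x.obj.fst c' ((obj_eq x).trans hc'.symm)
  have hz1 : 𝒴.p.obj c' = 𝒳.p.obj x.obj.fst := ((obj_eq x).trans hc'.symm).symm
  have hw : 𝒴.p.map ψ₂ = eqToHom hz1 ≫ 𝒳.p.map φ.hom.fst ≫ eqToHom (obj_eq y) := by
    have k : 𝒴.p.map ψ₂ = eqToHom hc' ≫ 𝒴.p.map φ.hom.snd ≫ eqToHom rfl :=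
      IsHomLift.fac' 𝒴.p (𝒴.p.map φ.hom.snd) ψ₂
    rw [k, map_snd_eq φ]
    simp
  let ψ : z ⟶ y := mkHom (x := z) φ.hom.fst ψ₂ hw
  have hψ : (FibCat.fp (FibCat.toSelf 𝒳) (FibCat.toSelf 𝒴)).p.IsHomLift
      ((FibCat.fp (FibCat.toSelf 𝒳) (FibCat.toSelf 𝒴)).p.map φ) ψ := by
    rw [fst_lift_iff]
    change 𝒳.p.IsHomLift (𝒳.p.map φ.hom.fst) φ.hom.fst
    infer_instance
  let χ := Functor.IsCartesian.map (FibCat.fp (FibCat.toSelf 𝒳) (FibCat.toSelf 𝒴)).p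
    ((FibCat.fp (FibCat.toSelf 𝒳) (FibCat.toSelf 𝒴)).p.map φ) φ ψ
  have hχ : (FibCat.fp (FibCat.toSelf 𝒳) (FibCat.toSelf 𝒴)).p.IsHomLift
      (𝟙 ((FibCat.fp (FibCat.toSelf 𝒳) (FibCat.toSelf 𝒴)).p.obj x)) χ := inferInstance
  have e : χ ≫ φ = ψ := Functor.IsCartesian.fac _ _ _ _
  have hχf : 𝒳.p.IsHomLift (𝟙 (𝒳.p.obj x.obj.fst)) χ.hom.fst := (fst_lift_iff χ _).1 hχ
  have hχs : 𝒴.p.IsHomLift (𝟙 (𝒴.p.obj x.obj.snd)) χ.hom.snd := by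
    rw [snd_lift_iff, ← obj_eq x]; exact hχf
  refine ⟨χ.hom.snd, ⟨hχs, congrArg (fun k => k.hom.snd) e⟩, ?_⟩
  rintro χ₂' ⟨h1, h2⟩
  have hw' : 𝒴.p.map χ₂' = eqToHom hz1 ≫ 𝒳.p.map (𝟙 x.obj.fst) ≫ eqToHom (obj_eq x) := by
    have k : 𝒴.p.map χ₂' = eqToHom hc' ≫ 𝟙 (𝒴.p.obj x.obj.snd) ≫ eqToHom rfl :=
      IsHomLift.fac' 𝒴.p (𝟙 (𝒴.p.obj x.obj.snd)) χ₂'
    rw [k]
    simp
  let χ' : z ⟶ x := mkHom (x := z) (𝟙 x.obj.fst) χ₂' hw'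
  have hχ' : (FibCat.fp (FibCat.toSelf 𝒳) (FibCat.toSelf 𝒴)).p.IsHomLift
      (𝟙 ((FibCat.fp (FibCat.toSelf 𝒳) (FibCat.toSelf 𝒴)).p.obj x)) χ' := by
    rw [fst_lift_iff]
    change 𝒳.p.IsHomLift (𝟙 (𝒳.p.obj x.obj.fst)) (𝟙 x.obj.fst)
    infer_instance
  have e' : χ' ≫ φ = ψ := hom_ext' (Category.id_comp _) h2
  have := Functor.IsCartesian.map_uniq (FibCat.fp (FibCat.toSelf 𝒳) (FibCat.toSelf 𝒴)).p
    ((FibCat.fp (FibCat.toSelf 𝒳) (FibCat.toSelf 𝒴)).p.map φ) φ ψ χ' e'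
  exact congrArg (fun k => k.hom.snd) this

end

/-- A morphism of the fibre product 𝒳 ×_C 𝒴 of two categories over C is cartesian if and only if its two
components are cartesian (each over its image in C). The fibre product is taken as the 2-fibre
product over C of the two structure functors, whose objects are pairs over one object of C together
with an isomorphism of C lying over an identity. -/
theorem result {C : Type u} [Category.{v} C] {𝒳 𝒴 : BasedCategory.{v₂, u₂} C}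
    {x y : (FibCat.fp (FibCat.toSelf 𝒳) (FibCat.toSelf 𝒴)).obj} (φ : x ⟶ y) :
    (FibCat.fp (FibCat.toSelf 𝒳) (FibCat.toSelf 𝒴)).p.IsCartesian
        ((FibCat.fp (FibCat.toSelf 𝒳) (FibCat.toSelf 𝒴)).p.map φ) φ ↔
      𝒳.p.IsCartesian (𝒳.p.map φ.hom.fst) φ.hom.fst ∧ 𝒴.p.IsCartesian (𝒴.p.map φ.hom.snd) φ.hom.snd :=
  ⟨fun hc => ⟨fst_cart φ hc, snd_cart φ hc⟩, fun h => cart_of_components φ h.1 h.2⟩

end Groth.Agent.S5142
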