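import Groth.Statements.S5143
import Groth.Agent.S5142

set_option autoImplicit false
open CategoryTheory
universe u v u₂ v₂
open FibCat

namespace Groth.Agent.S5143

open Groth.Agent.S5142

section

variable {𝒮 : Type*} {𝒳 : Type*} [Category 𝒮] [Category 𝒳] (p : 𝒳 ⥤ 𝒮)

theorem cart_map_of_cart {R S : 𝒮} {a b : 𝒳} (f : R ⟶ S) (φ : a ⟶ b) (h : p.IsCartesian f φ) :
    p.IsCartesian (p.map φ) φ := by
  subst_hom_lift p f φ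
  exact h

theorem cart_of_cart_map {R S : 𝒮} {a b : 𝒳} (f : R ⟶ S) (φ : a ⟶ b) [hl : p.IsHomLift f φ]
    (h : p.IsCartesian (p.map φ) φ) : p.IsCartesian f φ := by
  subst_hom_lift p f φ
  exact h

end

section

variable {C : Type u} [Category.{v} C] {𝒳 𝒴 : BasedCategory.{v₂, u₂} C}

theorem prefib (h𝒳 : 𝒳.p.IsPreFibered) (h𝒴 : 𝒴.p.IsPreFibered) :
    (FibCat.fp (FibCat.toSelf 𝒳) (FibCat.toSelf 𝒴)).p.IsPreFibered := by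
  refine ⟨?_⟩
  intro x R f
  let f' : R ⟶ 𝒳.p.obj x.obj.fst := f
  obtain ⟨b₁, φ₁, hφ₁⟩ := CategoryTheory.IsPreFibered.exists_isCartesian 𝒳.p (a := x.obj.fst) rfl f'
  obtain ⟨b₂, φ₂, hφ₂⟩ := CategoryTheory.IsPreFibered.exists_isCartesian 𝒴.p (a := x.obj.snd)
    (obj_eq x).symm f'
  have hb₁ : 𝒳.p.obj b₁ = R := IsHomLift.domain_eq 𝒳.p f' φ₁
  have hb₂ : 𝒴.p.obj b₂ = R := IsHomLift.domain_eq 𝒴.p f' φ₂
  let z : (FibCat.fp (FibCat.toSelf 𝒳) (FibCat.toSelf 𝒴)).obj := mkObj b₁ b₂ (hb₁.trans hb₂.symm)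
  have hw : 𝒴.p.map φ₂ = eqToHom (hb₁.trans hb₂.symm).symm ≫ 𝒳.p.map φ₁ ≫ eqToHom (obj_eq x) := by
    have k1 : 𝒳.p.map φ₁ = eqToHom hb₁ ≫ f' ≫ eqToHom rfl := IsHomLift.fac' 𝒳.p f' φ₁
    have k2 : 𝒴.p.map φ₂ = eqToHom hb₂ ≫ f' ≫ eqToHom (obj_eq x) := IsHomLift.fac' 𝒴.p f' φ₂
    rw [k1, k2]
    simp
  let φ : z ⟶ x := mkHom (x := z) φ₁ φ₂ hw
  refine ⟨z, φ, ?_⟩
  have hl : (FibCat.fp (FibCat.toSelf 𝒳) (FibCat.toSelf 𝒴)).p.IsHomLift f φ := by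
    rw [fst_lift_iff]
    exact (inferInstance : 𝒳.p.IsHomLift f' φ₁)
  apply cart_of_cart_map
  apply cart_of_components
  · exact cart_map_of_cart 𝒳.p f' φ₁ hφ₁
  · exact cart_map_of_cart 𝒴.p f' φ₂ hφ₂

theorem fib (h𝒳 : 𝒳.p.IsFibered) (h𝒴 : 𝒴.p.IsFibered) :
    (FibCat.fp (FibCat.toSelf 𝒳) (FibCat.toSelf 𝒴)).p.IsFibered := by
  have : (FibCat.fp (FibCat.toSelf 𝒳) (FibCat.toSelf 𝒴)).p.IsPreFibered :=
    prefib h𝒳.toIsPreFibered h𝒴.toIsPreFibered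
  refine ⟨?_⟩
  intro R S T f g a b c φ ψ hφ hψ
  have hφl : (FibCat.fp (FibCat.toSelf 𝒳) (FibCat.toSelf 𝒴)).p.IsHomLift f φ := inferInstance
  have hψl : (FibCat.fp (FibCat.toSelf 𝒳) (FibCat.toSelf 𝒴)).p.IsHomLift g ψ := inferInstance
  have hφ' := (Groth.Agent.S5142.result φ).1 (cart_map_of_cart _ f φ hφ)
  have hψ' := (Groth.Agent.S5142.result ψ).1 (cart_map_of_cart _ g ψ hψ)
  have hφ1l : 𝒳.p.IsHomLift f φ.hom.fst := (fst_lift_iff φ f).1 hφl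
  have hψ1l : 𝒳.p.IsHomLift g ψ.hom.fst := (fst_lift_iff ψ g).1 hψl
  have hφ2l : 𝒴.p.IsHomLift f φ.hom.snd := (snd_lift_iff φ f).2 hφ1l
  have hψ2l : 𝒴.p.IsHomLift g ψ.hom.snd := (snd_lift_iff ψ g).2 hψ1l
  have c1 : 𝒳.p.IsCartesian f φ.hom.fst := cart_of_cart_map 𝒳.p f φ.hom.fst hφ'.1
  have c2 : 𝒳.p.IsCartesian g ψ.hom.fst := cart_of_cart_map 𝒳.p g ψ.hom.fst hψ'.1
  have c3 : 𝒴.p.IsCartesian f φ.hom.snd := cart_of_cart_map 𝒴.p f φ.hom.snd hφ'.2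
  have c4 : 𝒴.p.IsCartesian g ψ.hom.snd := cart_of_cart_map 𝒴.p g ψ.hom.snd hψ'.2
  have d1 : 𝒳.p.IsCartesian (f ≫ g) (φ.hom.fst ≫ ψ.hom.fst) := Functor.IsFibered.comp f g _ _
  have d2 : 𝒴.p.IsCartesian (f ≫ g) (φ.hom.snd ≫ ψ.hom.snd) := Functor.IsFibered.comp f g _ _
  apply cart_of_cart_map
  apply cart_of_components
  · exact cart_map_of_cart 𝒳.p (f ≫ g) (φ.hom.fst ≫ ψ.hom.fst) d1
  · exact cart_map_of_cart 𝒴.p (f ≫ g) (φ.hom.snd ≫ ψ.hom.snd) d2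

end

/-- The fibre product over C of two fibred (resp. prefibred) categories over C is fibred (resp.
prefibred); fibred and prefibred are Mathlib's notions for the structure functors, and the fibre
product is the 2-fibre product over C of the two structure functors. -/
theorem result {C : Type u} [Category.{v} C] {𝒳 𝒴 : BasedCategory.{v₂, u₂} C} :
    (𝒳.p.IsFibered → 𝒴.p.IsFibered → (FibCat.fp (FibCat.toSelf 𝒳) (FibCat.toSelf 𝒴)).p.IsFibered) ∧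
      (𝒳.p.IsPreFibered → 𝒴.p.IsPreFibered → (FibCat.fp (FibCat.toSelf 𝒳) (FibCat.toSelf 𝒴)).p.IsPreFibered) :=
  ⟨fib, prefib⟩

end Groth.Agent.S5143
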