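import Groth.Statements.S5144
import Mathlib.CategoryTheory.FiberedCategory.Cocartesian

set_option autoImplicit false
open CategoryTheory
universe u v u₂ v₂
open FibCat

namespace Groth.Agent.S5144

section L1

variable {D : Type*} {𝒴 : Type*} [Category D] [Category 𝒴] (q : 𝒴 ⥤ D)

open Functor in
/-- In a fibred category co-cartesian morphisms are closed under composition. -/
theorem cocart_comp [q.IsFibered] {R S T : D} (f : R ⟶ S) (g : S ⟶ T) {a b c : 𝒴}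
    (φ : a ⟶ b) (ψ : b ⟶ c) [q.IsCocartesian f φ] [q.IsCocartesian g ψ] :
    q.IsCocartesian (f ≫ g) (φ ≫ ψ) := by
  refine ⟨?_⟩
  intro c' θ hθ
  have hc' : q.obj c' = T := IsHomLift.codomain_eq q (f ≫ g) θ
  let γ := IsPreFibered.pullbackMap hc' g
  let θ₁ := IsStronglyCartesian.map q g γ (f' := f ≫ g) rfl θ
  have hθ₁ : θ₁ ≫ γ = θ := IsStronglyCartesian.fac q g γ rfl θ
  let χ₁ := IsCocartesian.map q f φ θ₁
  have hχ₁ : φ ≫ χ₁ = θ₁ := IsCocartesian.fac q f φ θ₁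
  let χ := IsCocartesian.map q g ψ (χ₁ ≫ γ)
  have hχ : ψ ≫ χ = χ₁ ≫ γ := IsCocartesian.fac q g ψ (χ₁ ≫ γ)
  refine ⟨χ, ⟨inferInstance, ?_⟩, ?_⟩
  · rw [Category.assoc, hχ, ← Category.assoc, hχ₁, hθ₁]
  · rintro χ' ⟨h1, h2⟩
    let χ₁' := IsCartesian.map q g γ (ψ ≫ χ')
    have hχ₁' : χ₁' ≫ γ = ψ ≫ χ' := IsCartesian.fac q g γ (ψ ≫ χ')
    have e1 : φ ≫ χ₁' = θ₁ := by
      apply IsStronglyCartesian.map_uniq q g γ rfl θ
      rw [Category.assoc, hχ₁', ← Category.assoc, h2]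
    have e2 : χ₁' = χ₁ := IsCocartesian.map_uniq q f φ θ₁ χ₁' e1
    apply IsCocartesian.map_uniq q g ψ (χ₁ ≫ γ) χ'
    rw [← e2, hχ₁']

end L1

section Dict

variable {C : Type*} {𝒳 : Type*} [Category C] [Category 𝒳] (p : 𝒳 ⥤ C)

theorem homLift_op {R S : C} {a b : 𝒳} (f : R ⟶ S) (φ : a ⟶ b) (h : p.IsHomLift f φ) :
    p.op.IsHomLift f.op φ.op := by
  cases h
  exact Functor.IsHomLift.map (p := p.op) φ.op

theorem homLift_unop {R S : Cᵒᵖ} {a b : 𝒳ᵒᵖ} (f : R ⟶ S) (φ : a ⟶ b) (h : p.op.IsHomLift f φ) :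
    p.IsHomLift f.unop φ.unop := by
  cases h
  exact Functor.IsHomLift.map (p := p) φ.unop

open Functor in
theorem cart_op_of_cocart {R S : C} {a b : 𝒳} (f : R ⟶ S) (φ : a ⟶ b) (h : p.IsCocartesian f φ) :
    p.op.IsCartesian f.op φ.op := by
  have hl : p.op.IsHomLift f.op φ.op := homLift_op p f φ inferInstance
  refine ⟨?_⟩
  intro a' Φ' hΦ'
  have h1 : p.IsHomLift f Φ'.unop := homLift_unop p f.op Φ' hΦ'
  let χ₀ := IsCocartesian.map p f φ Φ'.unop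
  have hχ₀ : φ ≫ χ₀ = Φ'.unop := IsCocartesian.fac p f φ Φ'.unop
  have hχ₀l : p.IsHomLift (𝟙 S) χ₀ := inferInstance
  refine ⟨χ₀.op, ⟨homLift_op p (𝟙 S) χ₀ hχ₀l, ?_⟩, ?_⟩
  · apply Quiver.Hom.unop_inj
    exact hχ₀
  · rintro τ ⟨hτ1, hτ2⟩
    have h2 : p.IsHomLift (𝟙 S) τ.unop := homLift_unop p (𝟙 (Opposite.op S)) τ hτ1
    have h3 : φ ≫ τ.unop = Φ'.unop := congrArg Quiver.Hom.unop hτ2
    apply Quiver.Hom.unop_inj
    exact IsCocartesian.map_uniq p f φ Φ'.unop τ.unop h3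

open Functor in
theorem cocart_of_cart_op {R S : Cᵒᵖ} {a b : 𝒳ᵒᵖ} (F : R ⟶ S) (Φ : a ⟶ b)
    (h : p.op.IsCartesian F Φ) : p.IsCocartesian F.unop Φ.unop := by
  have hl : p.IsHomLift F.unop Φ.unop := homLift_unop p F Φ inferInstance
  refine ⟨?_⟩
  intro b' φ' hφ'
  have h1 : p.op.IsHomLift F φ'.op := homLift_op p F.unop φ' hφ'
  let χ₀ := IsCartesian.map p.op F Φ φ'.op
  have hχ₀ : χ₀ ≫ Φ = φ'.op := IsCartesian.fac p.op F Φ φ'.op
  have hχ₀l : p.op.IsHomLift (𝟙 R) χ₀ := inferInstance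
  refine ⟨χ₀.unop, ⟨homLift_unop p (𝟙 R) χ₀ hχ₀l, ?_⟩, ?_⟩
  · exact congrArg Quiver.Hom.unop hχ₀
  · rintro τ ⟨hτ1, hτ2⟩
    have h2 : p.op.IsHomLift (𝟙 R) τ.op := homLift_op p (𝟙 R.unop) τ hτ1
    have h3 : τ.op ≫ Φ = φ'.op := by
      apply Quiver.Hom.unop_inj
      exact hτ2
    have := IsCartesian.map_uniq p.op F Φ φ'.op τ.op h3
    exact congrArg Quiver.Hom.unop this

open Functor in
theorem cocart_op_of_cart {R S : C} {a b : 𝒳} (f : R ⟶ S) (φ : a ⟶ b) (h : p.IsCartesian f φ) :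
    p.op.IsCocartesian f.op φ.op := by
  have hl : p.op.IsHomLift f.op φ.op := homLift_op p f φ inferInstance
  refine ⟨?_⟩
  intro b' Φ' hΦ'
  have h1 : p.IsHomLift f Φ'.unop := homLift_unop p f.op Φ' hΦ'
  let χ₀ := IsCartesian.map p f φ Φ'.unop
  have hχ₀ : χ₀ ≫ φ = Φ'.unop := IsCartesian.fac p f φ Φ'.unop
  have hχ₀l : p.IsHomLift (𝟙 R) χ₀ := inferInstance
  refine ⟨χ₀.op, ⟨homLift_op p (𝟙 R) χ₀ hχ₀l, ?_⟩, ?_⟩
  · apply Quiver.Hom.unop_inj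
    exact hχ₀
  · rintro τ ⟨hτ1, hτ2⟩
    have h2 : p.IsHomLift (𝟙 R) τ.unop := homLift_unop p (𝟙 (Opposite.op R)) τ hτ1
    have h3 : τ.unop ≫ φ = Φ'.unop := congrArg Quiver.Hom.unop hτ2
    apply Quiver.Hom.unop_inj
    exact IsCartesian.map_uniq p f φ Φ'.unop τ.unop h3

open Functor in
theorem cart_of_cocart_op {R S : Cᵒᵖ} {a b : 𝒳ᵒᵖ} (F : R ⟶ S) (Φ : a ⟶ b)
    (h : p.op.IsCocartesian F Φ) : p.IsCartesian F.unop Φ.unop := by
  have hl : p.IsHomLift F.unop Φ.unop := homLift_unop p F Φ inferInstance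
  refine ⟨?_⟩
  intro a' φ' hφ'
  have h1 : p.op.IsHomLift F φ'.op := homLift_op p F.unop φ' hφ'
  let χ₀ := IsCocartesian.map p.op F Φ φ'.op
  have hχ₀ : Φ ≫ χ₀ = φ'.op := IsCocartesian.fac p.op F Φ φ'.op
  have hχ₀l : p.op.IsHomLift (𝟙 S) χ₀ := inferInstance
  refine ⟨χ₀.unop, ⟨homLift_unop p (𝟙 S) χ₀ hχ₀l, ?_⟩, ?_⟩
  · exact congrArg Quiver.Hom.unop hχ₀
  · rintro τ ⟨hτ1, hτ2⟩
    have h2 : p.op.IsHomLift (𝟙 S) τ.op := homLift_op p (𝟙 S.unop) τ hτ1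
    have h3 : Φ ≫ τ.op = φ'.op := by
      apply Quiver.Hom.unop_inj
      exact hτ2
    have := IsCocartesian.map_uniq p.op F Φ φ'.op τ.op h3
    exact congrArg Quiver.Hom.unop this

end Dict

/-- If p : 𝒳 ⥤ C is both prefibred and co-prefibred (its opposite functor is prefibred), then p is
fibred if and only if it is co-fibred (its opposite functor is fibred). Prefibred and fibred are
Mathlib's notions, which are the source's. -/
theorem result {C : Type u} [Category.{v} C] {𝒳 : Type u₂} [Category.{v₂} 𝒳]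
    (p : 𝒳 ⥤ C) [p.IsPreFibered] [p.op.IsPreFibered] : p.IsFibered ↔ p.op.IsFibered := by
  constructor
  · intro hp
    refine ⟨?_⟩
    intro R S T F G a b c Φ Ψ hΦ hΨ
    have h1 : p.IsCocartesian F.unop Φ.unop := cocart_of_cart_op p F Φ hΦ
    have h2 : p.IsCocartesian G.unop Ψ.unop := cocart_of_cart_op p G Ψ hΨ
    have h3 : p.IsCocartesian (G.unop ≫ F.unop) (Ψ.unop ≫ Φ.unop) :=
      cocart_comp p G.unop F.unop Ψ.unop Φ.unop
    exact cart_op_of_cocart p (G.unop ≫ F.unop) (Ψ.unop ≫ Φ.unop) h3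
  · intro hp
    refine ⟨?_⟩
    intro R S T f g a b c φ ψ hφ hψ
    have h1 : p.op.IsCocartesian f.op φ.op := cocart_op_of_cart p f φ hφ
    have h2 : p.op.IsCocartesian g.op ψ.op := cocart_op_of_cart p g ψ hψ
    have h3 : p.op.IsCocartesian (g.op ≫ f.op) (ψ.op ≫ φ.op) :=
      cocart_comp p.op g.op f.op ψ.op φ.op
    exact cart_of_cocart_op p (g.op ≫ f.op) (ψ.op ≫ φ.op) h3

end Groth.Agent.S5144
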