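import Groth.Statements.S5146
import Mathlib.CategoryTheory.Galois.Decomposition
import Mathlib.CategoryTheory.Galois.IsFundamentalgroup

set_option autoImplicit false
universe u v w
open CategoryTheory PreGaloisCategory
open Pi1

namespace Groth.Agent.S5146

open CategoryTheory.Limits

variable {C' : Type u} [Category.{v} C'] [GaloisCategory C']
  (F' : C' ⥤ FintypeCat.{w}) [FiberFunctor F']

/-- the fibre of the terminal object is a singleton -/
lemma fiber_terminal_subsingleton : Subsingleton (F'.obj (⊤_ C')) := by
  have hT : IsTerminal (F'.obj (⊤_ C')) := terminalIsTerminal.isTerminalObj F' _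
  refine ⟨fun t₁ t₂ => ?_⟩
  let c₁ : FintypeCat.of PUnit.{w+1} ⟶ F'.obj (⊤_ C') := FintypeCat.homMk (fun _ => t₁)
  let c₂ : FintypeCat.of PUnit.{w+1} ⟶ F'.obj (⊤_ C') := FintypeCat.homMk (fun _ => t₂)
  have : c₁ = c₂ := hT.hom_ext _ _
  exact congrArg (fun f => f PUnit.unit) this

lemma fiber_terminal_nonempty : Nonempty (F'.obj (⊤_ C')) := by
  have hT : IsTerminal (F'.obj (⊤_ C')) := terminalIsTerminal.isTerminalObj F' _
  exact ⟨hT.from (FintypeCat.of PUnit.{w+1}) PUnit.unit⟩

end Groth.Agent.S5146

namespace Groth.Agent.S5146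

open CategoryTheory.Limits in
/-- For an exact functor H : C ⥤ C' of Galois categories with compatible fibre functors F' and F' ∘ H,
the induced homomorphism u of fundamental groups and a pointed connected object (X, a) of C with
stabilizer U of a: the image of u lies in U if and only if H(X) has a section from the final object
of C' sending the point to a. -/
theorem result {C C' : Type u} [Category.{v} C] [Category.{v} C']
    [GaloisCategory C] [GaloisCategory C'] (H : C ⥤ C') [PreservesFiniteLimits H] [PreservesFiniteColimits H]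
    (F' : C' ⥤ FintypeCat.{w}) [FiberFunctor F'] [FiberFunctor (H ⋙ F')] (X : C) [IsConnected X]
    (a : (H ⋙ F').obj X) :
    (Pi1X.autWhisker H F').range ≤ MulAction.stabilizer (Aut (H ⋙ F')) a ↔
      ∃ s : ⊤_ C' ⟶ H.obj X, ∀ t : F'.obj (⊤_ C'), F'.map s t = a := by
  -- reformulate the left hand side
  have hiff : (Pi1X.autWhisker H F').range ≤ MulAction.stabilizer (Aut (H ⋙ F')) a ↔
      ∀ σ' : Aut F', σ' • (show F'.obj (H.obj X) from a) = a := by
    constructor
    · intro h σ'
      have := h ⟨σ', rfl⟩
      rw [MulAction.mem_stabilizer_iff] at this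
      exact this
    · rintro h _ ⟨σ', rfl⟩
      rw [MulAction.mem_stabilizer_iff]
      exact h σ'
  rw [hiff]
  constructor
  · intro h
    obtain ⟨Y', i, y, hy, hconn, hmono⟩ := fiber_in_connected_component F' (H.obj X) a
    -- the fibre of `Y'` is a singleton
    have hsub : Subsingleton (F'.obj Y') := by
      refine ⟨fun y₁ y₂ => ?_⟩
      obtain ⟨σ₁, hσ₁⟩ := MulAction.exists_smul_eq (Aut F') y y₁
      obtain ⟨σ₂, hσ₂⟩ := MulAction.exists_smul_eq (Aut F') y y₂
      have hinj : Function.Injective (F'.map i) :=
        ConcreteCategory.injective_of_mono_of_preservesPullback (F'.map i)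
      apply hinj
      rw [← hσ₁, ← hσ₂, ← mulAction_naturality, ← mulAction_naturality, hy, h σ₁, h σ₂]
    have hsubT := fiber_terminal_subsingleton F'
    have hneT := fiber_terminal_nonempty F'
    have hmonoT : Mono (terminal.from Y') := by
      apply F'.mono_of_mono_map
      apply ConcreteCategory.mono_of_injective
      intro y₁ y₂ _
      exact Subsingleton.elim _ _
    have hiso : IsIso (terminal.from Y') := by
      apply isIso_of_mono_of_eq_card_fiber F'
      rw [Nat.card_unique, Nat.card_unique]
    refine ⟨inv (terminal.from Y') ≫ i, fun t => ?_⟩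
    rw [F'.map_comp]
    change F'.map i (F'.map (inv (terminal.from Y')) t) = a
    rw [Subsingleton.elim (F'.map (inv (terminal.from Y')) t) y, hy]
  · rintro ⟨s, hs⟩ σ'
    obtain ⟨t⟩ := fiber_terminal_nonempty F'
    calc σ' • (show F'.obj (H.obj X) from a) = σ' • F'.map s t := by rw [hs t]
      _ = F'.map s (σ' • t) := mulAction_naturality F' σ' s t
      _ = a := hs _

end Groth.Agent.S5146
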