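import Groth.Statements.S5147
import Mathlib.CategoryTheory.Galois.Decomposition
import Mathlib.CategoryTheory.Galois.IsFundamentalgroup

set_option autoImplicit false
universe u v w
open CategoryTheory PreGaloisCategory
open Pi1

namespace Groth.Agent.S5147

open CategoryTheory.Limits

variable {C' : Type u} [Category.{v} C'] [GaloisCategory C']
  (F' : C' ⥤ FintypeCat.{w}) [FiberFunctor F']

/-- the fibre of the terminal object is a singleton -/
lemma fiber_terminal_subsingleton : Subsingleton (F'.obj (⊤_ C')) := by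
  have hT : IsTerminal (F'.obj (⊤_ C')) := terminalIsTerminal.isTerminalObj F' _
  refine ⟨fun t₁ t₂ => ?_⟩
  let c₁ : FintypeCat.of PUnit.{w+1} ⟶ F'.obj (⊤_ C') := FintypeCat.homMk (fun _ => t₁)
  let c₂ : FintypeCat.of PUnit.{w+1} ⟶ F'.obj (⊤_ C') := FintypeCat.homMk (fun _ => t₂)
  have : c₁ = c₂ := hT.hom_ext _ _
  exact congrArg (fun f => f PUnit.unit) this

lemma fiber_terminal_nonempty : Nonempty (F'.obj (⊤_ C')) := by
  have hT : IsTerminal (F'.obj (⊤_ C')) := terminalIsTerminal.isTerminalObj F' _
  exact ⟨hT.from (FintypeCat.of PUnit.{w+1}) PUnit.unit⟩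

/-- A connected object on whose fibre the fundamental group acts trivially is terminal. -/
lemma isIso_terminal_from_of_trivial (Y' : C') [IsConnected Y']
    (h : ∀ (σ' : Aut F') (y : F'.obj Y'), σ' • y = y) : IsIso (terminal.from Y') := by
  have hsub : Subsingleton (F'.obj Y') := by
    refine ⟨fun y₁ y₂ => ?_⟩
    obtain ⟨σ, hσ⟩ := MulAction.exists_smul_eq (Aut F') y₁ y₂
    rw [← hσ, h]
  have hne : Nonempty (F'.obj Y') := inferInstance
  have hsubT := fiber_terminal_subsingleton F'
  have hneT := fiber_terminal_nonempty F'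
  have hmonoT : Mono (terminal.from Y') := by
    apply F'.mono_of_mono_map
    apply ConcreteCategory.mono_of_injective
    intro y₁ y₂ _
    exact Subsingleton.elim _ _
  apply isIso_of_mono_of_eq_card_fiber F'
  rw [Nat.card_unique, Nat.card_unique]

/-- The fundamental group acts trivially on the fibre of a coproduct of terminal objects. -/
lemma trivial_on_sigma_terminal {ι : Type} [Finite ι] (σ' : Aut F')
    (x : F'.obj (∐ fun _ : ι => ⊤_ C')) : σ' • x = x := by
  have hc : IsColimit (F'.mapCocone (colimit.cocone (Discrete.functor fun _ : ι => ⊤_ C'))) :=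
    isColimitOfPreserves F' (colimit.isColimit _)
  obtain ⟨⟨j⟩, t₀, ht⟩ := Concrete.isColimit_exists_rep _ hc x
  obtain ⟨t, rfl⟩ : ∃ t : F'.obj (⊤_ C'), t = t₀ := ⟨t₀, rfl⟩
  have ht' : F'.map (Sigma.ι (fun _ : ι => ⊤_ C') j) t = x := ht
  have hsubT := fiber_terminal_subsingleton F'
  rw [← ht', mulAction_naturality, Subsingleton.elim (σ' • t) t]

end Groth.Agent.S5147

namespace Groth.Agent.S5147

open CategoryTheory.Limits in
/-- In the situation of the first assertion, the stabilizer U of a contains the normal subgroup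
generated by the image of u (hence also its closure, U being open) if and only if H(X) is isomorphic
to a finite coproduct of copies of the final object of C'. -/
theorem result {C C' : Type u} [Category.{v} C] [Category.{v} C']
    [GaloisCategory C] [GaloisCategory C'] (H : C ⥤ C') [PreservesFiniteLimits H] [PreservesFiniteColimits H]
    (F' : C' ⥤ FintypeCat.{w}) [FiberFunctor F'] [FiberFunctor (H ⋙ F')] (X : C) [IsConnected X]
    (a : (H ⋙ F').obj X) :
    Subgroup.normalClosure ((Pi1X.autWhisker H F').range : Set (Aut (H ⋙ F'))) ≤ MulAction.stabilizer (Aut (H ⋙ F')) a ↔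
      ∃ n : ℕ, Nonempty (H.obj X ≅ ∐ fun _ : Fin n => ⊤_ C') := by
  -- reformulate the left hand side: the fundamental group of `C'` acts trivially on `F' (H X)`
  have hiff : Subgroup.normalClosure ((Pi1X.autWhisker H F').range : Set (Aut (H ⋙ F'))) ≤
      MulAction.stabilizer (Aut (H ⋙ F')) a ↔
      ∀ (σ' : Aut F') (x : F'.obj (H.obj X)), σ' • x = x := by
    constructor
    · intro h σ' x
      obtain ⟨τ, hτ⟩ := MulAction.exists_smul_eq (Aut (H ⋙ F')) a (show (H ⋙ F').obj X from x)
      have hmem : τ⁻¹ * Pi1X.autWhisker H F' σ' * τ⁻¹⁻¹ ∈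
          Subgroup.normalClosure ((Pi1X.autWhisker H F').range : Set (Aut (H ⋙ F'))) :=
        Subgroup.conjugatesOfSet_subset_normalClosure
          (Group.mem_conjugatesOfSet_iff.mpr ⟨_, ⟨σ', rfl⟩, isConj_iff.mpr ⟨τ⁻¹, rfl⟩⟩)
      have := h hmem
      rw [MulAction.mem_stabilizer_iff, inv_inv, mul_smul, mul_smul, inv_smul_eq_iff, hτ] at this
      exact this
    · intro h
      unfold Subgroup.normalClosure
      rw [Subgroup.closure_le]
      intro g hg
      obtain ⟨b, ⟨σ', rfl⟩, hb⟩ := Group.mem_conjugatesOfSet_iff.mp hg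
      obtain ⟨c, rfl⟩ := isConj_iff.mp hb
      change _ ∈ MulAction.stabilizer (Aut (H ⋙ F')) a
      rw [MulAction.mem_stabilizer_iff, mul_smul, mul_smul]
      have h1 : Pi1X.autWhisker H F' σ' • (c⁻¹ • a) = c⁻¹ • a :=
        h σ' (show F'.obj (H.obj X) from c⁻¹ • a)
      rw [h1, smul_inv_smul]
  rw [hiff]
  constructor
  · intro h
    obtain ⟨ι, hfin, f, e, hconn⟩ := has_decomp_connected_components' (H.obj X)
    -- every component is terminal
    have hiso : ∀ i, IsIso (terminal.from (f i)) := by
      intro i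
      have := hconn i
      apply isIso_terminal_from_of_trivial F'
      intro σ' y
      have hmono : Mono (Sigma.ι f i ≫ e.hom) := by
        have : Mono (Sigma.ι f i) := MonoCoprod.mono_ι f i
        infer_instance
      have hinj : Function.Injective (F'.map (Sigma.ι f i ≫ e.hom)) :=
        ConcreteCategory.injective_of_mono_of_preservesPullback (F'.map (Sigma.ι f i ≫ e.hom))
      apply hinj
      rw [← mulAction_naturality, h]
    let e₁ : (∐ f) ≅ ∐ fun _ : ι => ⊤_ C' :=
      Sigma.mapIso (fun i => @asIso _ _ _ _ (terminal.from (f i)) (hiso i))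
    let eq : Fin (Nat.card ι) ≃ ι := (Finite.equivFin ι).symm
    let e₂ : (∐ fun _ : Fin (Nat.card ι) => ⊤_ C') ≅ ∐ fun _ : ι => ⊤_ C' :=
      Sigma.reindex eq (fun _ : ι => ⊤_ C')
    exact ⟨Nat.card ι, ⟨e.symm ≪≫ e₁ ≪≫ e₂.symm⟩⟩
  · rintro ⟨n, ⟨e⟩⟩ σ' x
    have hinj : Function.Injective (F'.map e.hom) :=
      ConcreteCategory.injective_of_mono_of_preservesPullback (F'.map e.hom)
    apply hinj
    rw [← mulAction_naturality]
    exact trivial_on_sigma_terminal F' (ι := Fin n) σ' _

end Groth.Agent.S5147
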