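import Groth.Statements.S5148
import Mathlib.CategoryTheory.Galois.Decomposition
import Mathlib.CategoryTheory.Galois.IsFundamentalgroup
import Mathlib.CategoryTheory.Galois.Topology
import Mathlib.CategoryTheory.Galois.Full

set_option autoImplicit false
universe u v w
open CategoryTheory PreGaloisCategory
open Pi1

namespace Groth.Agent.S5148

open CategoryTheory.Limits

section

variable {C C' : Type u} [Category.{v} C] [Category.{v} C']
  (H : C ⥤ C') (F' : C' ⥤ FintypeCat.{w})

/-- membership in the kernel of whiskering -/
lemma mem_ker_iff (σ : Aut F') :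
    σ ∈ (Pi1X.autWhisker H F').ker ↔ ∀ (X : C) (e : F'.obj (H.obj X)), σ.hom.app (H.obj X) e = e := by
  rw [MonoidHom.mem_ker]
  constructor
  · intro h X e
    have h1 : (Pi1X.autWhisker H F' σ).hom.app X = 𝟙 _ := by rw [h]; rfl
    have h2 : σ.hom.app (H.obj X) = 𝟙 _ := h1
    rw [h2]; rfl
  · intro h
    apply Iso.ext
    ext X e
    exact h X e

/-- whiskering is continuous -/
lemma continuous_autWhisker : Continuous (Pi1X.autWhisker H F') := by
  rw [Topology.IsInducing.continuous_iff (autEmbedding_isClosedEmbedding _).isInducing,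
    continuous_pi_iff]
  intro X
  have : (fun σ : Aut F' => autEmbedding (H ⋙ F') (Pi1X.autWhisker H F' σ) X) =
      (fun p : (∀ Y, Aut (F'.obj Y)) => p (H.obj X)) ∘ autEmbedding F' := by
    funext σ
    apply Iso.ext
    rfl
  change Continuous (fun σ : Aut F' => autEmbedding (H ⋙ F') (Pi1X.autWhisker H F' σ) X)
  rw [this]
  exact (continuous_apply _).comp (autEmbedding_isClosedEmbedding F').continuous

end

section

variable {C' : Type u} [Category.{v} C'] [GaloisCategory C']
  (F' : C' ⥤ FintypeCat.{w}) [FiberFunctor F']

/-- a morphism between connected objects from an inclusion of stabilizers -/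
lemma exists_hom_of_stabilizer_le (Y' X' : C') [IsConnected Y'] [IsConnected X']
    (y : F'.obj Y') (a' : F'.obj X')
    (hle : MulAction.stabilizer (Aut F') y ≤ MulAction.stabilizer (Aut F') a') :
    ∃ q : Y' ⟶ X', F'.map q y = a' := by
  have key : ∀ g h : Aut F', g • y = h • y → g • a' = h • a' := by
    intro g h hgh
    have h1 : (h⁻¹ * g) ∈ MulAction.stabilizer (Aut F') y := by
      rw [MulAction.mem_stabilizer_iff, mul_smul, hgh, inv_smul_smul]
    have h2 := hle h1
    rw [MulAction.mem_stabilizer_iff, mul_smul, inv_smul_eq_iff] at h2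
    exact h2
  choose γ hγ using fun z : F'.obj Y' => MulAction.exists_smul_eq (Aut F') y z
  let f : F'.obj Y' → F'.obj X' := fun z => γ z • a'
  have hf : ∀ g : Aut F', f (g • y) = g • a' := fun g => key _ _ (hγ (g • y))
  let φ : (functorToAction F').obj Y' ⟶ (functorToAction F').obj X' :=
    { hom := FintypeCat.homMk f
      comm := by
        intro g
        ext (z : F'.obj Y')
        change f (g • z) = g • f z
        obtain ⟨k, rfl⟩ := MulAction.exists_smul_eq (Aut F') y z
        rw [← mul_smul, hf, hf, mul_smul] }
  obtain ⟨q, hq⟩ := (functorToAction F').map_surjective φ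
  refine ⟨q, ?_⟩
  have h1 : F'.map q = FintypeCat.homMk f := congrArg (fun ψ => ψ.hom) hq
  rw [h1]
  change f y = a'
  have := hf 1
  rwa [one_smul, one_smul] at this

end

open CategoryTheory.Limits in
/-- For an exact functor H : C ⥤ C' of Galois categories with compatible fibre functors, the induced
homomorphism u of fundamental groups and a connected object X' of C' with a point a' of its fibre
and stabilizer U': the kernel of u lies in U' if and only if some connected subobject of some H(X)
maps to X'. -/
theorem result {C C' : Type u} [Category.{v} C] [Category.{v} C']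
    [GaloisCategory C] [GaloisCategory C'] (H : C ⥤ C') [PreservesFiniteLimits H] [PreservesFiniteColimits H]
    (F' : C' ⥤ FintypeCat.{w}) [FiberFunctor F'] [FiberFunctor (H ⋙ F')] (X' : C') [IsConnected X']
    (a' : F'.obj X') :
    (Pi1X.autWhisker H F').ker ≤ MulAction.stabilizer (Aut F') a' ↔
      ∃ (X : C) (Y' : C') (i : Y' ⟶ H.obj X) (q : Y' ⟶ X'), Mono i ∧ IsConnected Y' := by
  constructor
  · intro hker
    -- compactness argument
    let T : Set (Aut F') := (MulAction.stabilizer (Aut F') a' : Set (Aut F'))ᶜ
    have hTclosed : IsClosed T := (stabilizer_isOpen (Aut F') a').isClosed_compl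
    have hTcompact : IsCompact T := hTclosed.isCompact
    have himg : IsClosed ((Pi1X.autWhisker H F') '' T) :=
      (hTcompact.image (continuous_autWhisker H F')).isClosed
    have h1 : (1 : Aut (H ⋙ F')) ∉ (Pi1X.autWhisker H F') '' T := by
      rintro ⟨σ, hσT, hσ⟩
      exact hσT (hker (MonoidHom.mem_ker.mpr hσ))
    have hS : ((Pi1X.autWhisker H F') '' T)ᶜ ∈ nhds (1 : Aut (H ⋙ F')) :=
      himg.isOpen_compl.mem_nhds h1
    obtain ⟨A, -, hA⟩ := (nhds_one_has_basis_stabilizers (H ⋙ F')).mem_iff.mp hS
    have := A.isGalois
    have hstab : ∀ σ : Aut F', σ • (show F'.obj (H.obj A.obj) from A.pt) = A.pt → σ • a' = a' := by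
      intro σ hσ
      have h2 : Pi1X.autWhisker H F' σ ∈ MulAction.stabilizer (Aut (H ⋙ F')) A.pt := by
        rw [MulAction.mem_stabilizer_iff]
        exact hσ
      have h3 := hA h2
      by_contra hne
      exact h3 ⟨σ, hne, rfl⟩
    obtain ⟨Y', i, y, hy, hconn, hmono⟩ := fiber_in_connected_component F' (H.obj A.obj) A.pt
    have hle : MulAction.stabilizer (Aut F') y ≤ MulAction.stabilizer (Aut F') a' := by
      intro σ hσ
      rw [MulAction.mem_stabilizer_iff] at hσ ⊢
      apply hstab
      rw [← hy, mulAction_naturality, hσ]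
    obtain ⟨q, -⟩ := exists_hom_of_stabilizer_le F' Y' X' y a' hle
    exact ⟨A.obj, Y', i, q, hmono, hconn⟩
  · rintro ⟨X, Y', i, q, hmono, hconn⟩ σ hσ
    rw [mem_ker_iff] at hσ
    rw [MulAction.mem_stabilizer_iff]
    have : Nonempty (F'.obj Y') := nonempty_fiber_of_isConnected F' Y'
    obtain ⟨y, rfl⟩ := surjective_of_nonempty_fiber_of_isConnected F' q a'
    have hinj : Function.Injective (F'.map i) :=
      ConcreteCategory.injective_of_mono_of_preservesPullback (F'.map i)
    have hy : σ • y = y := by
      apply hinj
      rw [← mulAction_naturality]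
      exact hσ X _
    rw [mulAction_naturality, hy]

end Groth.Agent.S5148
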