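import Groth.Statements.S5149
import Groth.Agent.S5146
import Groth.Agent.S5148
import Mathlib.CategoryTheory.Galois.Equivalence

set_option autoImplicit false
universe u v w
open CategoryTheory PreGaloisCategory
open Pi1

namespace Groth.Agent.S5149

open CategoryTheory.Limits

open scoped FintypeCatDiscrete Pointwise

section

variable {C' : Type u} [Category.{v} C'] [GaloisCategory C']
  (F : C' ⥤ FintypeCat.{w}) [FiberFunctor F]

/-- every finite set with an action of the fundamental group with open stabilizers is a fibre -/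
lemma exists_object_of_finite_action
    (P : FintypeCat.{w}) [MulAction (Aut F) P]
    (hP : ∀ p : P, IsOpen (MulAction.stabilizer (Aut F) p : Set (Aut F))) :
    ∃ (X : C') (φ : F.obj X ≃ P), ∀ (g : Aut F) (z : F.obj X), φ (g • z) = g • φ z := by
  have hc : ContinuousSMul (Aut F) P := continuousSMul_iff_stabilizer_isOpen.mpr hP
  let Y : ContAction FintypeCat (Aut F) :=
    ⟨Action.FintypeCat.ofMulAction (Aut F) P, ⟨hc.1⟩⟩
  let X := (functorToContAction F).objPreimage Y
  let e : (functorToContAction F).obj X ≅ Y := (functorToContAction F).objObjPreimageIso Y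
  let e' : F.obj X ≅ P := (ObjectProperty.ι _ ⋙ Action.forget _ _).mapIso e
  refine ⟨X, FintypeCat.equivEquivIso.symm e', ?_⟩
  intro g z
  have := e.hom.hom.comm g
  have h2 := congrArg (fun k => k z) this
  exact h2

/-- For a closed subgroup `R` of the fundamental group and `τ ∉ R` there is a pointed connected
object whose stabilizer contains `R` but not `τ`. -/
lemma exists_pointed_connected_of_not_mem (R : Subgroup (Aut F)) (hR : IsClosed (R : Set (Aut F)))
    (τ : Aut F) (hτ : τ ∉ R) :
    ∃ (X' : C') (a' : F.obj X'), IsConnected X' ∧ R ≤ MulAction.stabilizer (Aut F) a' ∧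
      τ ∉ MulAction.stabilizer (Aut F) a' := by
  -- a neighbourhood of `1`
  have hopen : IsOpen {g : Aut F | τ * g ∈ (R : Set (Aut F))ᶜ} :=
    hR.isOpen_compl.preimage (continuous_const.mul continuous_id)
  have hmem : {g : Aut F | τ * g ∈ (R : Set (Aut F))ᶜ} ∈ nhds (1 : Aut F) :=
    hopen.mem_nhds (by simpa using hτ)
  obtain ⟨A, -, hA⟩ := (nhds_one_has_basis_stabilizers F).mem_iff.mp hmem
  -- the finite set of subsets of the fibre of `A`
  have : Fintype (Set (F.obj A.obj)) := Fintype.ofFinite _
  let P : FintypeCat.{w} := FintypeCat.of (Set (F.obj A.obj))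
  let _ : MulAction (Aut F) P := inferInstanceAs (MulAction (Aut F) (Set (F.obj A.obj)))
  have hP : ∀ p : P, IsOpen (MulAction.stabilizer (Aut F) p : Set (Aut F)) := by
    intro p
    let N : Subgroup (Aut F) := ⨅ e : F.obj A.obj, MulAction.stabilizer (Aut F) e
    have hN : IsOpen (N : Set (Aut F)) := by
      rw [Subgroup.coe_iInf]
      exact isOpen_iInter_of_finite fun e => stabilizer_isOpen (Aut F) e
    refine Subgroup.isOpen_mono (H₁ := N) ?_ hN
    intro n hn
    rw [MulAction.mem_stabilizer_iff]
    have hn' : ∀ e : F.obj A.obj, n • e = e := fun e => by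
      have := (Subgroup.mem_iInf.mp hn) e
      rwa [MulAction.mem_stabilizer_iff] at this
    change n • (p : Set (F.obj A.obj)) = p
    ext e
    rw [Set.mem_smul_set]
    constructor
    · rintro ⟨y, hy, rfl⟩
      rw [hn']; exact hy
    · intro he
      exact ⟨e, he, hn' e⟩
  obtain ⟨X'', φ, hφ⟩ := exists_object_of_finite_action F P hP
  -- the orbit of the base point under `R`
  let O : Set (F.obj A.obj) := (fun r : Aut F => r • A.pt) '' (R : Set (Aut F))
  have hxO : A.pt ∈ O := ⟨1, R.one_mem, one_smul _ _⟩
  have hRO : ∀ r ∈ R, r • O = O := by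
    intro r hr
    ext e
    rw [Set.mem_smul_set]
    constructor
    · rintro ⟨y, ⟨r', hr', rfl⟩, rfl⟩
      exact ⟨r * r', R.mul_mem hr hr', mul_smul _ _ _⟩
    · rintro ⟨r', hr', rfl⟩
      refine ⟨(r⁻¹ * r') • A.pt, ⟨r⁻¹ * r', R.mul_mem (R.inv_mem hr) hr', rfl⟩, ?_⟩
      rw [← mul_smul, mul_inv_cancel_left]
  let z₀ : F.obj X'' := φ.symm O
  obtain ⟨X', i, a', hi, hconn, hmono⟩ := fiber_in_connected_component F X'' z₀
  have hinj : Function.Injective (F.map i) :=
    ConcreteCategory.injective_of_mono_of_preservesPullback (F.map i)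
  have hstab : ∀ g : Aut F, g • a' = a' ↔ g • O = O := by
    intro g
    constructor
    · intro h
      have h1 : g • z₀ = z₀ := by rw [← hi, mulAction_naturality, h]
      have h2 := hφ g z₀
      rw [h1] at h2
      have h3 : φ z₀ = O := φ.apply_symm_apply O
      rw [h3] at h2
      exact h2.symm
    · intro h
      apply hinj
      rw [← mulAction_naturality, hi]
      apply φ.injective
      rw [hφ]
      have h3 : φ z₀ = O := φ.apply_symm_apply O
      rw [h3]
      exact h
  refine ⟨X', a', hconn, ?_, ?_⟩
  · intro r hr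
    rw [MulAction.mem_stabilizer_iff, hstab]
    exact hRO r hr
  · intro hmem
    rw [MulAction.mem_stabilizer_iff, hstab] at hmem
    have h1 : τ • A.pt ∈ τ • O := Set.smul_mem_smul_set hxO
    rw [hmem] at h1
    obtain ⟨r, hr, hrx⟩ := h1
    have hrx' : r • A.pt = τ • A.pt := hrx
    have h2 : τ⁻¹ * r ∈ MulAction.stabilizer (Aut F) A.pt := by
      rw [MulAction.mem_stabilizer_iff, mul_smul]
      rw [hrx', inv_smul_smul]
    have h3 := hA h2
    apply h3
    change τ * (τ⁻¹ * r) ∈ R
    rw [mul_inv_cancel_left]
    exact hr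

end

open CategoryTheory.Limits in
/-- For exact functors H : C ⥤ C', H' : C' ⥤ C'' of Galois categories with compatible fibre functors and
induced homomorphisms u' and u of fundamental groups, the kernel of u is contained in the image of
u' if and only if every pointed connected object (X', a') of C' for which H'(X') has a section from
the final object through a' admits a morphism from a connected subobject of some H(X). (The
published statement writes this inclusion as Ker u ⊇ Im u', which is the condition that u ∘ u' be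
trivial; this row states Ker u ⊆ Im u', which is what the published argument establishes.) -/
theorem result {C C' C'' : Type u} [Category.{v} C] [Category.{v} C'] [Category.{v} C'']
    [GaloisCategory C] [GaloisCategory C'] [GaloisCategory C'']
    (H : C ⥤ C') [PreservesFiniteLimits H] [PreservesFiniteColimits H]
    (H' : C' ⥤ C'') [PreservesFiniteLimits H'] [PreservesFiniteColimits H']
    (F'' : C'' ⥤ FintypeCat.{w}) [FiberFunctor F''] [FiberFunctor (H' ⋙ F'')] [FiberFunctor (H ⋙ (H' ⋙ F''))] :
    (Pi1X.autWhisker H (H' ⋙ F'')).ker ≤ (Pi1X.autWhisker H' F'').range ↔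
      ∀ (X' : C') (a' : (H' ⋙ F'').obj X'), IsConnected X' →
        (∃ s : ⊤_ C'' ⟶ H'.obj X', ∀ t : F''.obj (⊤_ C''), F''.map s t = a') →
          ∃ (X : C) (Y' : C') (i : Y' ⟶ H.obj X) (q : Y' ⟶ X'), Mono i ∧ IsConnected Y' := by
  constructor
  · intro hle X' a' hconn hs
    have h1 : (Pi1X.autWhisker H' F'').range ≤ MulAction.stabilizer (Aut (H' ⋙ F'')) a' :=
      (Groth.Agent.S5146.result H' F'' X' a').mpr hs
    exact (Groth.Agent.S5148.result H (H' ⋙ F'') X' a').mp (hle.trans h1)
  · intro hyp τ hτ
    by_contra hnot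
    have hclosed : IsClosed ((Pi1X.autWhisker H' F'').range : Set (Aut (H' ⋙ F''))) := by
      rw [MonoidHom.coe_range]
      exact (isCompact_range (Groth.Agent.S5148.continuous_autWhisker H' F'')).isClosed
    obtain ⟨X', a', hconn, hR, hτ'⟩ :=
      exists_pointed_connected_of_not_mem (H' ⋙ F'') (Pi1X.autWhisker H' F'').range hclosed τ hnot
    have hs := (Groth.Agent.S5146.result H' F'' X' a').mp hR
    have h2 := hyp X' a' hconn hs
    have h3 := (Groth.Agent.S5148.result H (H' ⋙ F'') X' a').mpr h2
    exact hτ' (h3 hτ)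

end Groth.Agent.S5149
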