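import Groth.Statements.S5150
import Mathlib.RingTheory.Regular.Category
import Mathlib.Algebra.Homology.DerivedCategory.Ext.ExactSequences
import Mathlib.Algebra.Homology.DerivedCategory.Ext.Linear

set_option autoImplicit false
universe u
open CategoryTheory
open LocCoh

namespace Groth.Agent.S5150

open Abelian

variable {A : Type u} [CommRing A]

/-- scalar multiplication on `Ext` through the first variable -/
lemma smul_eq_mk₀_comp {X Y : ModuleCat.{u} A} {n : ℕ} (x : Ext X Y n) (r : A) :
    r • x = (Ext.mk₀ (r • 𝟙 X)).comp x (zero_add _) := by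
  rw [Ext.mk₀_smul, Ext.smul_comp, Ext.mk₀_id_comp]

lemma eq_zero_of_comp_f_eq_zero {S : ShortComplex (ModuleCat.{u} A)} (hS : S.ShortExact)
    (N : ModuleCat.{u} A) (i : ℕ)
    (hsub : ∀ j, j + 1 = i → Subsingleton (Ext N S.X₃ j))
    (x : Ext N S.X₁ i) (hx : x.comp (Ext.mk₀ S.f) (add_zero i) = 0) : x = 0 := by
  cases i with
  | zero =>
    have : Mono S.f := hS.mono_f
    apply Ext.postcomp_mk₀_injective_of_mono N S.f
    rw [map_zero]
    exact hx
  | succ j =>
    obtain ⟨x₃, hx₃⟩ := Ext.covariant_sequence_exact₁ N hS x hx (n₀ := j) rfl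
    have := hsub j rfl
    rw [← hx₃, Subsingleton.elim x₃ 0, Ext.zero_comp]

lemma ext_subsingleton_aux (I : Ideal A) (N : ModuleCat.{u} A) (k : ℕ)
    (hN : ∀ a ∈ I ^ k, ∀ x : N, a • x = 0) :
    ∀ (rs : List A) (M : ModuleCat.{u} A), RingTheory.Sequence.IsWeaklyRegular M rs →
      (∀ r ∈ rs, r ∈ I) → ∀ i < rs.length, Subsingleton (Ext N M i) := by
  intro rs
  induction rs with
  | nil =>
    intro M _ _ i hi
    simp at hi
  | cons f rs ih =>
    intro M hreg hI i hi
    rw [RingTheory.Sequence.isWeaklyRegular_cons_iff] at hreg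
    obtain ⟨hf, hrs⟩ := hreg
    have hS := hf.smulShortComplex_shortExact
    have hfI : f ∈ I := hI f (by simp)
    -- multiplication by `f` is injective on `Ext N M i`
    have hinj : ∀ x : Ext N M i, f • x = 0 → x = 0 := by
      intro x hx
      rw [Ext.smul_eq_comp_mk₀, ← ModuleCat.smulShortComplex_f_eq_smul_id] at hx
      refine eq_zero_of_comp_f_eq_zero hS N i ?_ x hx
      intro j hj
      exact ih (M.smulShortComplex f).X₃ hrs (fun r hr => hI r (by simp [hr])) j
        (by subst hj; simpa using hi)
    -- a power of `f` kills `Ext N M i`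
    have hkill : ∀ x : Ext N M i, f ^ k • x = 0 := by
      intro x
      rw [smul_eq_mk₀_comp]
      have : f ^ k • 𝟙 N = 0 := by
        ext y
        exact hN (f ^ k) (Ideal.pow_mem_pow hfI k) y
      rw [this, Ext.mk₀_zero, Ext.zero_comp]
    have hpow : ∀ (m : ℕ) (x : Ext N M i), f ^ m • x = 0 → x = 0 := by
      intro m
      induction m with
      | zero => intro x hx; simpa using hx
      | succ m ihm =>
        intro x hx
        rw [pow_succ, mul_smul] at hx
        exact hinj x (ihm _ hx)
    exact ⟨fun x y => by rw [hpow k x (hkill x), hpow k y (hkill y)]⟩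

/-- Let A be a commutative ring, I an ideal, M and N A-modules, and f_1, …, f_r a weakly M-regular
sequence of elements of I. If N is killed by a power of I then Ext^i_A(N, M) vanishes for all i < r.
(No Noetherian or finiteness hypothesis on A, M or N.) -/
theorem result (A : Type u) [CommRing A] (I : Ideal A) (M N : Type u) [AddCommGroup M] [Module A M] [AddCommGroup N] [Module A N] (rs : List A) (hreg : RingTheory.Sequence.IsWeaklyRegular M rs) (hI : ∀ r ∈ rs, r ∈ I) (k : ℕ) (hN : (I ^ k) • (⊤ : Submodule A N) = ⊥) (i : ℕ) (hi : i < rs.length) : Subsingleton (Abelian.Ext (ModuleCat.of A N) (ModuleCat.of A M) i) := by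
  apply ext_subsingleton_aux I (ModuleCat.of A N) k _ rs (ModuleCat.of A M) hreg hI i hi
  intro a ha x
  have : a • x ∈ (I ^ k) • (⊤ : Submodule A N) := Submodule.smul_mem_smul ha Submodule.mem_top
  rw [hN] at this
  exact this

end Groth.Agent.S5150
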