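import Groth.Statements.S5151
import Groth.Agent.Lib.DepthRees

set_option autoImplicit false
universe u
open LocCoh

namespace Groth.Agent.S5151

open RingTheory.Sequence Groth.Agent.Lib.DepthRees

section

variable {A : Type u} [CommRing A] (I : Ideal A)

theorem ofList_le {rs : List A} (h : ∀ r ∈ rs, r ∈ I) : Ideal.ofList rs ≤ I := by
  rw [Ideal.ofList, Ideal.span_le]
  intro r hr
  exact h r hr

/-- the length of a maximal weakly regular sequence is the depth -/
theorem length_eq_idealDepth [IsNoetherianRing A] : ∀ (rs : List A) (M : Type u) [AddCommGroup M] [Module A M]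
    [Module.Finite A M], I • (⊤ : Submodule A M) ≠ ⊤ → IsWeaklyRegular M rs → (∀ r ∈ rs, r ∈ I) →
    (∀ r ∈ I, ¬ IsWeaklyRegular M (rs ++ [r])) → (rs.length : ℕ∞) = LocCoh.idealDepth I M := by
  intro rs
  induction rs with
  | nil =>
    intro M _ _ _ hIM _ _ hmax
    simp only [List.length_nil, Nat.cast_zero]
    symm
    by_contra hne
    have h1 : ((1 : ℕ) : ℕ∞) ≤ LocCoh.idealDepth I M := by
      rw [Nat.cast_one]; exact Order.one_le_iff_ne_zero.mpr hne
    obtain ⟨rs, hlen, hmem, hreg⟩ := (natCast_le_idealDepth_iff I M hIM 1).mp h1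
    obtain ⟨r, rfl⟩ := List.length_eq_one_iff.mp hlen
    exact hmax r (hmem r (by simp)) (by simpa using hreg)
  | cons x rs' ih =>
    intro M _ _ _ hIM hreg hmem hmax
    obtain ⟨hx, hreg'⟩ := (isWeaklyRegular_cons_iff M x rs').mp hreg
    have hxI : x ∈ I := hmem x (by simp)
    have hIQ := smul_top_quotSMulTop_ne_top hxI hIM
    have hmax' : ∀ r ∈ I, ¬ IsWeaklyRegular (QuotSMulTop x M) (rs' ++ [r]) := by
      intro r hr hcon
      apply hmax r hr
      rw [List.cons_append]
      exact (isWeaklyRegular_cons_iff M x _).mpr ⟨hx, hcon⟩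
    have := ih (QuotSMulTop x M) hIQ hreg' (fun r hr => hmem r (List.mem_cons_of_mem _ hr)) hmax'
    rw [List.length_cons, Nat.cast_add, Nat.cast_one, this]
    exact idealDepth_quotSMulTop_add_one I M hIM hxI hx

/-- extension to a maximal weakly regular sequence -/
theorem exists_maximal (M : Type u) [AddCommGroup M] [Module A M] [IsNoetherian A M]
    (hIM : I • (⊤ : Submodule A M) ≠ ⊤) (rs : List A) (hreg : IsWeaklyRegular M rs)
    (hmem : ∀ r ∈ rs, r ∈ I) :
    ∃ rs' : List A, rs <+: rs' ∧ IsWeaklyRegular M rs' ∧ (∀ r ∈ rs', r ∈ I) ∧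
      ∀ r ∈ I, ¬ IsWeaklyRegular M (rs' ++ [r]) := by
  let S : Set (List A) := {rs' | rs <+: rs' ∧ IsWeaklyRegular M rs' ∧ ∀ r ∈ rs', r ∈ I}
  let g : List A → Submodule A M := fun rs' => Ideal.ofList rs' • (⊤ : Submodule A M)
  have hne : (g '' S).Nonempty := ⟨g rs, rs, ⟨List.prefix_refl _, hreg, hmem⟩, rfl⟩
  obtain ⟨N, ⟨rs', hrs', rfl⟩, hmaxN⟩ :=
    (wellFounded_gt : WellFounded ((· > ·) : Submodule A M → Submodule A M → Prop)).has_min
      (g '' S) hne
  obtain ⟨hpre, hreg', hmem'⟩ := hrs'
  refine ⟨rs', hpre, hreg', hmem', ?_⟩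
  intro r hr hcon
  have hS : rs' ++ [r] ∈ S := by
    refine ⟨hpre.trans (List.prefix_append _ _), hcon, ?_⟩
    intro t ht
    rcases List.mem_append.mp ht with ht | ht
    · exact hmem' t ht
    · rw [List.mem_singleton] at ht; rw [ht]; exact hr
  have hle : g rs' ≤ g (rs' ++ [r]) := by
    apply Submodule.smul_mono_left
    apply Ideal.span_mono
    intro t ht
    exact List.mem_append_left _ ht
  have hnot : ¬ g (rs' ++ [r]) > g rs' := hmaxN _ ⟨rs' ++ [r], hS, rfl⟩
  have heq : g (rs' ++ [r]) = g rs' := by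
    by_contra hne'
    exact hnot (lt_of_le_of_ne hle (Ne.symm hne'))
  obtain ⟨-, hreg2⟩ := (isWeaklyRegular_append_iff M rs' [r]).mp hcon
  have hsm : IsSMulRegular (M ⧸ (Ideal.ofList rs' • ⊤ : Submodule A M)) r :=
    (isWeaklyRegular_singleton_iff _ r).mp hreg2
  apply hIM
  rw [eq_top_iff]
  refine le_trans ?_ (Submodule.smul_mono_left (ofList_le I hmem'))
  intro m _
  have h1 : r • m ∈ g (rs' ++ [r]) := by
    apply Submodule.smul_mem_smul _ Submodule.mem_top
    apply Ideal.subset_span
    simp
  rw [heq] at h1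
  have h2 : r • (Submodule.Quotient.mk m : M ⧸ (Ideal.ofList rs' • ⊤ : Submodule A M)) =
      r • (0 : M ⧸ (Ideal.ofList rs' • ⊤ : Submodule A M)) := by
    rw [smul_zero, ← Submodule.Quotient.mk_smul, Submodule.Quotient.mk_eq_zero]
    exact h1
  have h3 := hsm h2
  exact (Submodule.Quotient.mk_eq_zero _).mp h3

end

/-- Let A be a Noetherian ring, I an ideal and M a finite A-module with IM ≠ M. Every weakly M-regular
sequence of elements of I can be extended to a maximal one (one after which no element of I is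
M-regular on the quotient), and any maximal weakly M-regular sequence of elements of I has length
equal to the I-depth of M. (The published statement does not assume IM ≠ M; without it the first
assertion fails: over ℤ with I = (2) and M = ℤ/3 the element 2 is M-regular with M/2M = 0, after
which every element of I is regular on the zero module, so no weakly M-regular sequence of elements
of I is maximal, while the I-depth is infinite. With IM ≠ M every weakly M-regular sequence in I is
M-regular and the I-depth is finite.) -/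
theorem result (A : Type u) [CommRing A] [IsNoetherianRing A] (I : Ideal A) (M : Type u) [AddCommGroup M] [Module A M] [Module.Finite A M] (hIM : I • (⊤ : Submodule A M) ≠ ⊤) : (∀ rs : List A, RingTheory.Sequence.IsWeaklyRegular M rs → (∀ r ∈ rs, r ∈ I) → ∃ rs' : List A, rs <+: rs' ∧ RingTheory.Sequence.IsWeaklyRegular M rs' ∧ (∀ r ∈ rs', r ∈ I) ∧ ∀ r ∈ I, ¬ RingTheory.Sequence.IsWeaklyRegular M (rs' ++ [r])) ∧ (∀ rs : List A, RingTheory.Sequence.IsWeaklyRegular M rs → (∀ r ∈ rs, r ∈ I) → (∀ r ∈ I, ¬ RingTheory.Sequence.IsWeaklyRegular M (rs ++ [r])) → (rs.length : ℕ∞) = LocCoh.idealDepth I M) := by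
  have : IsNoetherian A M := isNoetherian_of_isNoetherianRing_of_finite A M
  exact ⟨fun rs hreg hmem => exists_maximal I M hIM rs hreg hmem,
    fun rs hreg hmem hmax => length_eq_idealDepth I rs M hIM hreg hmem hmax⟩

end Groth.Agent.S5151
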