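import Groth.Statements.S5153
import Groth.Agent.Lib.HartogsO
import Groth.Agent.Lib.NoethTop

set_option autoImplicit false
universe u
open AlgebraicGeometry
open LocCoh

namespace Groth.Agent.S5153

open CategoryTheory TopologicalSpace

section topology

variable {Y : Type*} [TopologicalSpace Y] [LocallyConnectedSpace Y] (s : Set Y)

theorem connectedComponentsMap_injective_of
    (h : ∀ y : Y, _root_.IsPreconnected (connectedComponent y ∩ s)) :
    Function.Injective (Continuous.connectedComponentsMap
      (continuous_subtype_val : Continuous (fun x : s => (x : Y)))) := by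
  intro a b hab
  obtain ⟨u₁, rfl⟩ := ConnectedComponents.surjective_coe a
  obtain ⟨u₂, rfl⟩ := ConnectedComponents.surjective_coe b
  have h1 : ((u₁ : Y) : ConnectedComponents Y) = ((u₂ : Y) : ConnectedComponents Y) := hab
  rw [ConnectedComponents.coe_eq_coe'] at h1
  have hpre : _root_.IsPreconnected (Subtype.val ⁻¹' (connectedComponent (u₂ : Y)) : Set s) := by
    rw [← Topology.IsInducing.subtypeVal.isPreconnected_image, Subtype.image_preimage_coe,
      Set.inter_comm]
    exact h u₂
  have hu₂ : u₂ ∈ (Subtype.val ⁻¹' (connectedComponent (u₂ : Y)) : Set s) := mem_connectedComponent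
  have hu₁ : u₁ ∈ (Subtype.val ⁻¹' (connectedComponent (u₂ : Y)) : Set s) := h1
  have := hpre.subset_connectedComponent hu₂ hu₁
  rw [ConnectedComponents.coe_eq_coe']
  exact this

theorem connectedComponentsMap_surjective_of
    (h : ∀ y : Y, (connectedComponent y ∩ s).Nonempty) :
    Function.Surjective (Continuous.connectedComponentsMap
      (continuous_subtype_val : Continuous (fun x : s => (x : Y)))) := by
  intro c
  obtain ⟨x, rfl⟩ := ConnectedComponents.surjective_coe c
  obtain ⟨y, hy1, hy2⟩ := h x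
  refine ⟨ConnectedComponents.mk (⟨y, hy2⟩ : s), ?_⟩
  show ((y : Y) : ConnectedComponents Y) = (x : ConnectedComponents Y)
  rw [ConnectedComponents.coe_eq_coe']
  exact hy1

end topology

/-- The ring of functions on a preconnected open of a scheme is not a product of two nontrivial
rings. -/
theorem false_of_ringEquiv_prod (X : Scheme.{u}) (V : X.Opens) (hV : _root_.IsPreconnected (V : Set X))
    {R₁ R₂ : Type u} [CommRing R₁] [CommRing R₂] [Nontrivial R₁] [Nontrivial R₂]
    (φ : Γ(X, V) ≃+* R₁ × R₂) : False := by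
  set e : Γ(X, V) := φ.symm (1, 0) with he
  have hee : e * (1 - e) = 0 := by
    have : e * e = e := by rw [he, ← map_mul]; simp
    rw [mul_sub, mul_one, this, sub_self]
  have he0 : e ≠ 0 := by
    intro h
    have := congrArg φ h
    rw [he, RingEquiv.apply_symm_apply, map_zero] at this
    exact one_ne_zero (congrArg Prod.fst this)
  have he1 : e ≠ 1 := by
    intro h
    have := congrArg φ h
    rw [he, RingEquiv.apply_symm_apply, map_one] at this
    exact zero_ne_one (congrArg Prod.snd this)
  have hcov : (V : Set X) ⊆ (X.basicOpen e : Set X) ∪ (X.basicOpen (1 - e) : Set X) := by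
    intro x hx
    have h1 : X.presheaf.germ V x hx e + X.presheaf.germ V x hx (1 - e) = 1 := by
      rw [← map_add, add_sub_cancel, map_one]
    rcases IsLocalRing.isUnit_or_isUnit_of_add_one h1 with h | h
    · exact Or.inl ((X.mem_basicOpen e x hx).mpr h)
    · exact Or.inr ((X.mem_basicOpen (1 - e) x hx).mpr h)
  have hdisj : (V : Set X) ∩ ((X.basicOpen e : Set X) ∩ (X.basicOpen (1 - e) : Set X)) = ∅ := by
    have : X.basicOpen e ⊓ X.basicOpen (1 - e) = ⊥ := by
      rw [← Scheme.basicOpen_mul, hee, Scheme.basicOpen_zero]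
    have h2 : ((X.basicOpen e : Set X) ∩ (X.basicOpen (1 - e) : Set X)) = ∅ := by
      have := congrArg (fun W : X.Opens => (W : Set X)) this
      simpa using this
    rw [h2, Set.inter_empty]
  rcases (isPreconnected_iff_subset_of_disjoint.mp hV) _ _ (X.basicOpen e).isOpen
    (X.basicOpen (1 - e)).isOpen hcov hdisj with h | h
  · have hu : IsUnit e := X.toRingedSpace.isUnit_of_isUnit_germ V e
      (fun x hx => (X.mem_basicOpen e x hx).mp (h hx))
    apply he1
    have := hu.mul_left_cancel (by rw [hee, mul_zero] : e * (1 - e) = e * 0)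
    exact (sub_eq_zero.mp this).symm
  · have hu : IsUnit (1 - e) := X.toRingedSpace.isUnit_of_isUnit_germ V (1 - e)
      (fun x hx => (X.mem_basicOpen (1 - e) x hx).mp (h hx))
    apply he0
    exact hu.mul_right_cancel (by rw [hee, zero_mul] : e * (1 - e) = 0 * (1 - e))

/-- Removing a closed subset of depth `≥ 2` keeps preconnected opens preconnected. -/
theorem isPreconnected_inf (X : Scheme.{u}) [IsLocallyNoetherian X] (U : X.Opens)
    (hdepth : ∀ x : X, x ∉ U →
      (2 : ℕ∞) ≤ LocCoh.depth (X.presheaf.stalk x) (X.presheaf.stalk x))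
    (V : X.Opens) (hV : _root_.IsPreconnected (V : Set X)) :
    _root_.IsPreconnected ((V ⊓ U : X.Opens) : Set X) := by
  intro u v hu hv hsub hnu hnv
  by_contra hne
  rw [Set.not_nonempty_iff_eq_empty] at hne
  let U₁ : X.Opens := (V ⊓ U) ⊓ ⟨u, hu⟩
  let U₂ : X.Opens := (V ⊓ U) ⊓ ⟨v, hv⟩
  have hdisj : U₁ ⊓ U₂ = ⊥ := by
    apply TopologicalSpace.Opens.ext
    ext x
    simp only [TopologicalSpace.Opens.coe_inf, TopologicalSpace.Opens.coe_bot,
      Set.mem_empty_iff_false, iff_false]
    rintro ⟨⟨hxU, hxu⟩, ⟨_, hxv⟩⟩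
    have : x ∈ ((V ⊓ U : X.Opens) : Set X) ∩ (u ∩ v) := ⟨hxU, hxu, hxv⟩
    rw [hne] at this
    exact this
  have hcov : U₁ ⊔ U₂ = V ⊓ U := by
    apply le_antisymm
    · exact sup_le inf_le_left inf_le_left
    · intro x hx
      rcases hsub hx with h1 | h1
      · exact Or.inl ⟨hx, h1⟩
      · exact Or.inr ⟨hx, h1⟩
  haveI : Nonempty U₁ := by
    obtain ⟨x, hxU, hxu⟩ := hnu
    exact ⟨⟨x, hxU, hxu⟩⟩
  haveI : Nonempty U₂ := by
    obtain ⟨x, hxU, hxv⟩ := hnv
    exact ⟨⟨x, hxU, hxv⟩⟩
  let e : Γ(X, U₁ ⊔ U₂) ≅ CommRingCat.of (Γ(X, U₁) × Γ(X, U₂)) :=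
    (X.sheaf.isProductOfDisjoint U₁ U₂ hdisj).conePointUniqueUpToIso
      (CommRingCat.prodFanIsLimit _ _)
  have hle : U₁ ⊔ U₂ ≤ V := by rw [hcov]; exact inf_le_left
  have hbij : Function.Bijective (X.presheaf.map (homOfLE hle).op) :=
    Groth.Agent.Lib.Hartogs.resO_bijective U hdepth hle hcov
  let ψ : Γ(X, V) ≃+* Γ(X, U₁ ⊔ U₂) :=
    RingEquiv.ofBijective (X.presheaf.map (homOfLE hle).op).hom hbij
  let φ : Γ(X, V) ≃+* Γ(X, U₁) × Γ(X, U₂) := ψ.trans e.commRingCatIsoToRingEquiv
  exact false_of_ringEquiv_prod X V hV φ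

/-- Let X be a locally Noetherian scheme and Y = X − U a closed subset such that depth O_{X,x} ≥ 2 for
every x ∈ Y. Then the inclusion U → X induces a bijection on sets of connected components. -/
theorem result (X : Scheme.{u}) [IsLocallyNoetherian X] (U : X.Opens) (h : ∀ x : X, x ∉ (U : Set X) → (2 : ℕ∞) ≤ LocCoh.depth (X.presheaf.stalk x) (X.presheaf.stalk x)) : Function.Bijective (Continuous.connectedComponentsMap (continuous_subtype_val : Continuous (fun x : U => (x : X)))) := by
  haveI : LocallyConnectedSpace X := by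
    apply Groth.Agent.Lib.NoethTop.locallyConnectedSpace_of_locallyNoetherian
    intro x
    obtain ⟨_, ⟨V, hV, rfl⟩, hxV, -⟩ :=
      X.isBasis_affineOpens.exists_subset_of_mem_open (Set.mem_univ x) isOpen_univ
    replace hV : IsAffineOpen V := hV
    haveI : IsNoetherianRing Γ(X, V) := IsLocallyNoetherian.component_noetherian ⟨V, hV⟩
    exact ⟨(V : Set X), V.isOpen.mem_nhds hxV, noetherianSpace_of_isAffineOpen V hV⟩
  refine ⟨connectedComponentsMap_injective_of (U : Set X) ?_,
    connectedComponentsMap_surjective_of (U : Set X) ?_⟩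
  · intro y
    let C : X.Opens := ⟨connectedComponent y, isOpen_connectedComponent⟩
    exact isPreconnected_inf X U h C isPreconnected_connectedComponent
  · intro x
    let C : X.Opens := ⟨connectedComponent x, isOpen_connectedComponent⟩
    have hbij : Function.Bijective (X.presheaf.map (homOfLE (inf_le_left : C ⊓ U ≤ C)).op) :=
      Groth.Agent.Lib.Hartogs.resO_bijective U h inf_le_left rfl
    have hne : (C ⊓ U : X.Opens) ≠ ⊥ := by
      intro hbot
      haveI : Nonempty C := ⟨⟨x, mem_connectedComponent⟩⟩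
      have h1 : (1 : Γ(X, C)) ≠ 0 := one_ne_zero
      apply h1
      apply hbij.1
      have hsub : Subsingleton Γ(X, C ⊓ U) := by
        rw [hbot]
        exact CommRingCat.subsingleton_of_isTerminal (X.sheaf.isTerminalOfEmpty)
      exact Subsingleton.elim _ _
    by_contra hcon
    rw [Set.not_nonempty_iff_eq_empty] at hcon
    apply hne
    apply TopologicalSpace.Opens.ext
    rw [TopologicalSpace.Opens.coe_inf, TopologicalSpace.Opens.coe_bot]
    exact hcon

end Groth.Agent.S5153
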