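import Groth.Statements.S5158
import Mathlib.RingTheory.AdicCompletion.LocalRing
import Mathlib.RingTheory.AdicCompletion.AsTensorProduct
import Mathlib.RingTheory.Flat.FaithfullyFlat.Algebra

set_option autoImplicit false
universe u
open scoped TensorProduct
open Matlis

namespace Groth.Agent.S5158

open TensorProduct


/-- Let A be a Noetherian local ring, Â its m-adic completion and I an m-power torsion A-module (a union
of submodules of finite length). Then x ↦ 1 ⊗ x is a bijection I → Â ⊗_A I. -/
theorem result (A : Type u) [CommRing A] [IsLocalRing A] [IsNoetherianRing A] (I : Type u) [AddCommGroup I] [Module A I] (hI : LocCoh.IsPowerTorsion (IsLocalRing.maximalIdeal A) I) : Function.Bijective (TensorProduct.mk A (AdicCompletion (IsLocalRing.maximalIdeal A) A) I 1) := by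
  set m := IsLocalRing.maximalIdeal A with hm
  have hff : Module.FaithfullyFlat A (AdicCompletion m A) := Module.FaithfullyFlat.of_flat_of_isLocalHom
  refine ⟨Module.FaithfullyFlat.tensorProduct_mk_injective (A := A) (B := AdicCompletion m A) I, ?_⟩
  intro z
  induction z using TensorProduct.induction_on with
  | zero => exact ⟨0, by simp⟩
  | add z₁ z₂ h₁ h₂ =>
    obtain ⟨y₁, rfl⟩ := h₁
    obtain ⟨y₂, rfl⟩ := h₂
    exact ⟨y₁ + y₂, by simp [tmul_add]⟩
  | tmul a x =>
    obtain ⟨n, hn⟩ := hI x
    obtain ⟨b, hb⟩ := Submodule.Quotient.mk_surjective _ (AdicCompletion.eval m A n a)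
    have hker : a - algebraMap A _ b ∈ (m ^ n • ⊤ : Submodule A (AdicCompletion m A)) := by
      rw [AdicCompletion.pow_smul_top_eq_ker_eval (IsLocalRing.maximalIdeal A).fg_of_isNoetherianRing,
        LinearMap.mem_ker, map_sub, ← hb, AdicCompletion.algebraMap_apply, AdicCompletion.eval_of]
      exact sub_self _
    have hzero : ∀ c ∈ (m ^ n • ⊤ : Submodule A (AdicCompletion m A)), c ⊗ₜ[A] x = 0 := by
      intro c hc
      refine Submodule.smul_induction_on hc ?_ ?_
      · intro r hr c' _
        rw [smul_tmul, hn r hr, tmul_zero]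
      · intro c₁ c₂ h₁ h₂
        rw [add_tmul, h₁, h₂, add_zero]
    refine ⟨b • x, ?_⟩
    have h1 : a ⊗ₜ[A] x = (algebraMap A _ b) ⊗ₜ[A] x + (a - algebraMap A _ b) ⊗ₜ[A] x := by
      rw [← add_tmul]; congr 1; ring
    rw [h1, hzero _ hker, add_zero, Algebra.algebraMap_eq_smul_one, smul_tmul]
    rfl

end Groth.Agent.S5158
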