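import Groth.Statements.S5161
import Groth.Agent.Lib.PuncturedCoh9
import Groth.Agent.S0356
import Groth.Agent.S0007
import Groth.Agent.Lib.NonVanish9

set_option autoImplicit false
universe u
open AlgebraicGeometry
open LocCoh

namespace Groth.Agent.S5161

open Groth.Agent.Lib.PuncturedCoh9 CategoryTheory in


/-- Let A be a Noetherian ring, X = Spec A and Y ⊆ X a closed subset whose complement U is an affine
open. Then every irreducible component of Y has codimension ≤ 1 in X, i.e. the generic point of each
irreducible component of Y is a prime of height at most 1. -/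
theorem result (A : Type u) [CommRing A] [IsNoetherianRing A] (U : (Spec (CommRingCat.of A)).Opens) (hU : IsAffineOpen U) (p : PrimeSpectrum A) (hpU : (p : (Spec (CommRingCat.of A) : Type u)) ∉ (U : Set (Spec (CommRingCat.of A) : Type u))) (hmin : ∀ q : PrimeSpectrum A, q.asIdeal ≤ p.asIdeal → (q : (Spec (CommRingCat.of A) : Type u)) ∉ (U : Set (Spec (CommRingCat.of A) : Type u)) → q = p) : p.asIdeal.height ≤ 1 := by
  let B := Localization.AtPrime p.asIdeal
  let φ : CommRingCat.of A ⟶ CommRingCat.of B := CommRingCat.ofHom (algebraMap A B)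
  let g : Spec (CommRingCat.of B) ⟶ Spec (CommRingCat.of A) := Spec.map φ
  let m : Ideal B := IsLocalRing.maximalIdeal B
  have hU' : IsAffineOpen (g ⁻¹ᵁ U) := hU.preimage g
  have heq : g ⁻¹ᵁ U = LocCoh.puncturedOpen B m := by
    ext Q
    show (g.base Q) ∈ U ↔ ¬ ((m : Set B) ⊆ (PrimeSpectrum.asIdeal Q : Set B))
    have hgQ : PrimeSpectrum.asIdeal (g.base Q) = (PrimeSpectrum.asIdeal Q).comap (algebraMap A B) := rfl
    have hcm : m.comap (algebraMap A B) = p.asIdeal :=
      IsLocalization.AtPrime.under_maximalIdeal B p.asIdeal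
    constructor
    · intro hQ hm
      have hQm : PrimeSpectrum.asIdeal Q = m :=
        ((IsLocalRing.isMaximal_iff B).mp ((IsLocalRing.maximalIdeal.isMaximal B).eq_of_le
          (PrimeSpectrum.isPrime Q).ne_top hm ▸ IsLocalRing.maximalIdeal.isMaximal B))
      apply hpU
      have : g.base Q = p := by
        apply PrimeSpectrum.ext
        rw [hgQ, hQm]
        exact hcm
      rw [← this]
      exact hQ
    · intro hQ
      by_contra hQU
      have hle : PrimeSpectrum.asIdeal (g.base Q) ≤ p.asIdeal := by
        rw [hgQ]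
        exact (Ideal.comap_mono
          (IsLocalRing.le_maximalIdeal (PrimeSpectrum.isPrime Q).ne_top)).trans hcm.le
      have h1 := hmin (g.base Q) hle hQU
      apply hQ
      have h2 : (PrimeSpectrum.asIdeal Q).comap (algebraMap A B) = p.asIdeal := by
        rw [← hgQ, h1]
      have h3 : PrimeSpectrum.asIdeal Q = m := by
        have := IsLocalization.map_under p.asIdeal.primeCompl B (PrimeSpectrum.asIdeal Q)
        have h2' : Ideal.under A (PrimeSpectrum.asIdeal Q) = p.asIdeal := h2
        rw [h2'] at this
        rw [← this]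
        exact IsLocalization.AtPrime.map_eq_maximalIdeal p.asIdeal B
      rw [h3]
  rw [heq] at hU'
  haveI : IsAffine (↑(LocCoh.puncturedOpen B m) : Scheme.{u}) := hU'
  -- vanishing of H^j_m(B) for j ≥ 2
  have hvan : ∀ j : ℕ, 2 ≤ j → Subsingleton (LocCoh.H m j B) := by
    intro j hj
    obtain ⟨q, rfl⟩ := Nat.exists_eq_add_of_le' (show 1 ≤ j by omega)
    obtain ⟨e⟩ := Groth.Agent.S0356.result B m B q (by omega)
    haveI : Coh.IsQCoh ((tilde (R := CommRingCat.of B) (ModuleCat.of B B)).restrict
        (LocCoh.puncturedOpen B m).ι) :=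
      Scheme.Modules.isQuasicoherent_restrictFunctor _ _
    haveI := Groth.Agent.S0007.result (↑(LocCoh.puncturedOpen B m) : Scheme.{u})
      ((tilde (R := CommRingCat.of B) (ModuleCat.of B B)).restrict
        (LocCoh.puncturedOpen B m).ι) q (by omega)
    exact e.symm.toEquiv.subsingleton
  -- dimension
  by_contra hht
  have hfin : p.asIdeal.height ≠ ⊤ := Ideal.height_ne_top (Ideal.IsPrime.ne_top p.2)
  obtain ⟨d, hd⟩ := ENat.ne_top_iff_exists.mp hfin
  have hd2 : 2 ≤ d := by
    rw [← hd] at hht
    have : ¬ ((d : ℕ∞) ≤ 1) := hht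
    by_contra hcon
    apply this
    have : d ≤ 1 := by omega
    exact_mod_cast this
  have hdim : Module.supportDim B B = (d : WithBot ℕ∞) := by
    rw [Module.supportDim_self_eq_ringKrullDim, IsLocalization.AtPrime.ringKrullDim_eq_height p.asIdeal B,
      ← hd]
    rfl
  have hnt := (Groth.Agent.Lib.NonVanish9.main d B hdim).1
  haveI := hvan d hd2
  exact not_subsingleton _ ‹_›

end Groth.Agent.S5161
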