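import Groth.Statements.S5163
import Mathlib.RingTheory.Regular.LinearMap
import Mathlib.RingTheory.Support

set_option autoImplicit false
universe u
open LocCoh

namespace Groth.Agent.S5163


/-- For modules over a Noetherian ring. Let P be a finite A-module and H any A-module with Supp H ⊆ Supp
P. If Hom_A(P, H) = 0 then H = 0. (The published lemma is stated over an arbitrary prescheme; its
proof uses that a nonzero module has an associated prime, so the ring is taken Noetherian here.) -/
theorem result (A : Type u) [CommRing A] [IsNoetherianRing A] (P H : Type u) [AddCommGroup P] [Module A P] [Module.Finite A P] [AddCommGroup H] [Module A H] (hsupp : Module.support A H ⊆ Module.support A P) (hhom : Subsingleton (P →ₗ[A] H)) : Subsingleton H := by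
  by_contra hH
  rw [not_subsingleton_iff_nontrivial] at hH
  obtain ⟨x, hx⟩ := exists_ne (0 : H)
  let H' : Submodule A H := Submodule.span A {x}
  have hfin : Module.Finite A H' := Module.Finite.span_singleton A x
  have hsub : Subsingleton (P →ₗ[A] H') := by
    refine ⟨fun f g ↦ ?_⟩
    have := Subsingleton.elim (H'.subtype.comp f) (H'.subtype.comp g)
    ext p
    exact congr($this p)
  obtain ⟨r, hr, hreg⟩ := IsSMulRegular.subsingleton_linearMap_iff.mp hsub
  have hnt : Nontrivial H' := ⟨⟨⟨x, Submodule.mem_span_singleton_self x⟩, 0, fun h ↦ hx congr($h)⟩⟩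
  obtain ⟨p, hp⟩ := associatedPrimes.nonempty A H'
  have hp' := hp
  rw [AssociatedPrimes.mem_iff, isAssociatedPrime_iff] at hp'
  obtain ⟨hprime, y, hy⟩ := hp'
  have hmem : (⟨p, hprime⟩ : PrimeSpectrum A) ∈ Module.support A P := by
    apply hsupp
    apply Module.support_subset_of_injective H'.subtype H'.injective_subtype
    rw [Module.mem_support_iff_exists_annihilator]
    refine ⟨y, ?_⟩
    intro a ha
    rw [Submodule.mem_annihilator_span_singleton] at ha
    change a ∈ p
    rw [hy, Submodule.mem_colon_singleton]
    simpa using ha
  have hrp : r ∈ p := Module.annihilator_le_of_mem_support hmem hr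
  rw [hy, Submodule.mem_colon_singleton] at hrp
  have hry : r • y = 0 := by simpa using hrp
  have hy0 : y = 0 := hreg (by simpa using hry)
  have : p = ⊤ := by
    rw [hy, hy0]
    ext a
    simp [Submodule.mem_colon_singleton]
  exact hprime.ne_top this

end Groth.Agent.S5163
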