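import Groth.Statements.S5165
import Groth.Agent.Lib.H87GlDim2
import Mathlib.RingTheory.Spectrum.Prime.FreeLocus

set_option autoImplicit false
universe u
open CategoryTheory
open LocCoh

namespace Groth.Agent.S5165

variable {A : Type u} [CommRing A]

/-- The locus where the localization of `M` has projective dimension `≤ n`. -/
def pdLocus (n : ℕ) (M : ModuleCat.{u} A) : Set (PrimeSpectrum A) :=
  {p | HasProjectiveDimensionLE (M.localizedModule p.asIdeal.primeCompl) n}

theorem pdLocus_zero [IsNoetherianRing A] (M : ModuleCat.{u} A) [Module.Finite A M] :
    pdLocus 0 M = Module.freeLocus A M := by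
  ext p
  have : Small.{u} (Localization.AtPrime p.asIdeal) :=
    small_of_surjective Localization.mkHom_surjective
  rw [Module.mem_freeLocus_of_isLocalization p (Localization.AtPrime p.asIdeal)
    (M.localizedModule p.asIdeal.primeCompl) (M.localizedModuleMkLinearMap p.asIdeal.primeCompl)]
  simp only [pdLocus, Set.mem_ofPred_eq, HasProjectiveDimensionLE, zero_add,
    ← projective_iff_hasProjectiveDimensionLT_one, ← IsProjective.iff_projective]
  have hfin : Module.Finite (Localization.AtPrime p.asIdeal)
      (M.localizedModule p.asIdeal.primeCompl) :=
    Module.Finite.of_isLocalizedModule p.asIdeal.primeCompl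
      (M.localizedModuleMkLinearMap p.asIdeal.primeCompl)
  constructor
  · intro h
    exact Module.free_of_flat_of_isLocalRing
  · intro h
    infer_instance

theorem isOpen_pdLocus [IsNoetherianRing A] (n : ℕ) : ∀ (M : ModuleCat.{u} A) [Module.Finite A M],
    IsOpen (pdLocus n M) := by
  induction n with
  | zero =>
    intro M _
    rw [pdLocus_zero]
    have : Module.FinitePresentation A M := Module.finitePresentation_of_finite A M
    exact Module.isOpen_freeLocus
  | succ n ih =>
    intro M _
    rcases Module.exists_finite_presentation A M with ⟨P, _, _, _, _, f, surjf⟩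
    let S := f.shortComplexKer
    have S_exact := LinearMap.shortExact_shortComplexKer surjf
    have proj := ModuleCat.projective_of_categoryTheory_projective S.X₂
    let Sp (p : PrimeSpectrum A) := S.map (ModuleCat.localizedModuleFunctor p.1.primeCompl)
    have Sp_exact (p : PrimeSpectrum A) : (Sp p).ShortExact :=
      S_exact.map_of_exact (ModuleCat.localizedModuleFunctor p.asIdeal.primeCompl)
    have projp (p : PrimeSpectrum A) : Projective (Sp p).X₂ :=
      (ModuleCat.localizedModuleFunctor.{u} p.1.primeCompl).projective_obj_of_projective proj
    have heq : pdLocus (n + 1) M = pdLocus n (ModuleCat.of A (LinearMap.ker f)) := by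
      ext p
      simp only [pdLocus, Set.mem_ofPred_eq, HasProjectiveDimensionLE]
      exact (Sp_exact p).hasProjectiveDimensionLT_X₃_iff n (projp p)
    rw [heq]
    exact ih (ModuleCat.of A (LinearMap.ker f))

/-- Suppose A is a regular Noetherian ring and consider a finitely generated A-module M. Then some
natural number d bounds the projective dimension of M (equivalently, p ↦ proj.dim M_p stays bounded
as p ranges over Spec A, and this holds even if the Krull dimension of A is infinite). -/
theorem result (A : Type u) [CommRing A] [IsRegularRing A] (M : Type u) [AddCommGroup M] [Module A M] [Module.Finite A M] : ∃ d : ℕ, HasProjectiveDimensionLE (ModuleCat.of A M) d := by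
  have hopen := fun n => isOpen_pdLocus n (ModuleCat.of A M)
  have hcover : (Set.univ : Set (PrimeSpectrum A)) ⊆ ⋃ n, pdLocus n (ModuleCat.of A M) := by
    intro p _
    have : IsRegularLocalRing (Localization.AtPrime p.asIdeal) := inferInstance
    have hd : ringKrullDim (Localization.AtPrime p.asIdeal) =
        ((IsLocalRing.maximalIdeal (Localization.AtPrime p.asIdeal)).spanFinrank : ℕ) :=
      IsRegularLocalRing.spanFinrank_maximalIdeal.symm
    rw [Set.mem_iUnion]
    exact ⟨_, Groth.Agent.Lib.H87GlDim2.hasProjectiveDimensionLT_of_isRegularLocalRing
      (A := Localization.AtPrime p.asIdeal) _ hd _⟩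
  have hdir : Directed (· ⊆ ·) (fun n => pdLocus n (ModuleCat.of A M)) := by
    apply directed_of_isDirected_le
    intro a b hab p hp
    simp only [pdLocus, Set.mem_ofPred_eq, HasProjectiveDimensionLE] at hp ⊢
    exact hasProjectiveDimensionLT_of_ge _ (a + 1) (b + 1) (by omega)
  obtain ⟨n, hn⟩ := isCompact_univ.elim_directed_cover _ hopen hcover hdir
  refine ⟨n, ?_⟩
  rw [ModuleCat.hasProjectiveDimensionLE_iff_forall_primeSpectrum]
  intro p
  exact hn (Set.mem_univ p)

end Groth.Agent.S5165
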