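import Groth.Statements.S5166
import Mathlib.RingTheory.Ideal.KrullsHeightTheorem
import Mathlib.RingTheory.Ideal.Height

set_option autoImplicit false
universe u
open LocCoh

namespace Groth.Agent.S5166

theorem lemmaA (B : Type u) [CommRing B] [IsDomain B] [IsLocalRing B] [IsNoetherianRing B] (x : B)
    (hx0 : x ≠ 0) (hxm : x ∈ IsLocalRing.maximalIdeal B)
    (hall : ∀ Q : Ideal B, Q.IsPrime → Q ≠ ⊥ → x ∈ Q) : ringKrullDim B = 1 := by
  set m := IsLocalRing.maximalIdeal B with hm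
  have hTfin : (Ideal.span {x}).minimalPrimes.Finite := Ideal.finite_minimalPrimes_of_isNoetherianRing B _
  have hxtop : Ideal.span {x} ≠ ⊤ := by
    intro h
    have : Ideal.span {x} ≤ m := (Ideal.span_singleton_le_iff_mem _).mpr hxm
    rw [h] at this
    exact (IsLocalRing.maximalIdeal.isMaximal B).ne_top (top_le_iff.mp this)
  have hmT : m ∈ (Ideal.span {x}).minimalPrimes := by
    by_contra hmT
    have hnot : ¬ ((m : Set B) ⊆ ⋃ P ∈ (Ideal.span {x}).minimalPrimes, (P : Set B)) := by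
      intro hsub
      obtain ⟨P, hPT, hmP⟩ := (Ideal.subset_union_prime_finite hTfin m m
        (fun P hP _ _ ↦ hP.1.1)).mp hsub
      have hP : P.IsPrime := hPT.1.1
      have : P = m := le_antisymm (IsLocalRing.le_maximalIdeal hP.ne_top) hmP
      exact hmT (this ▸ hPT)
    rw [Set.not_subset] at hnot
    obtain ⟨y, hym, hyT⟩ := hnot
    simp only [Set.mem_iUnion, not_exists] at hyT
    obtain ⟨P₀, hP₀⟩ := Ideal.nonempty_minimalPrimes hxtop
    have hy0 : y ≠ 0 := by
      rintro rfl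
      exact hyT P₀ hP₀ (zero_mem _)
    have hytop : Ideal.span {y} ≠ ⊤ := by
      intro h
      have : Ideal.span {y} ≤ m := (Ideal.span_singleton_le_iff_mem _).mpr hym
      rw [h] at this
      exact (IsLocalRing.maximalIdeal.isMaximal B).ne_top (top_le_iff.mp this)
    obtain ⟨Q, hQ⟩ := Ideal.nonempty_minimalPrimes hytop
    have hQp : Q.IsPrime := hQ.1.1
    have hyQ : y ∈ Q := hQ.1.2 (Ideal.mem_span_singleton_self y)
    have hQh : Q.height ≤ 1 := Ideal.height_le_one_of_isPrincipal_of_mem_minimalPrimes _ Q hQ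
    have hQbot : Q ≠ ⊥ := by
      rintro rfl
      exact hy0 (by simpa using hyQ)
    have hxQ : x ∈ Q := hall Q hQp hQbot
    obtain ⟨P, hPT, hPQ⟩ := Ideal.exists_minimalPrimes_le
      ((Ideal.span_singleton_le_iff_mem Q).mpr hxQ)
    have hPp : P.IsPrime := hPT.1.1
    have hPbot : P ≠ ⊥ := by
      rintro rfl
      have : x ∈ (⊥ : Ideal B) := hPT.1.2 (Ideal.mem_span_singleton_self x)
      exact hx0 (by simpa using this)
    have hPh : 1 ≤ P.height := by
      rw [Order.one_le_iff_pos, pos_iff_ne_zero, Ne, Ideal.height_eq_zero_iff_eq_bot]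
      exact hPbot
    have hPQeq : P = Q := Ideal.eq_of_le_of_height_le (I := P) (J := Q) (h := hPQ) (h_height := hQh.trans hPh)
    exact hyT P hPT (hPQeq ▸ hyQ)
  have h1 : m.height ≤ 1 := Ideal.height_le_one_of_isPrincipal_of_mem_minimalPrimes _ m hmT
  have h2 : 1 ≤ m.height := by
    rw [Order.one_le_iff_pos, pos_iff_ne_zero, Ne, Ideal.height_eq_zero_iff_eq_bot]
    rintro h
    rw [h] at hxm
    exact hx0 (by simpa using hxm)
  rw [← IsLocalRing.maximalIdeal_height_eq_ringKrullDim, le_antisymm h1 h2]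
  rfl


/-- In its local form at a point y ∈ Y (A = O_{X,y}). Let A be a Noetherian local ring and I ≠ A an
ideal contained in no minimal prime of A. Then some prime p ⊉ I has dim A/p = 1. -/
theorem result (A : Type u) [CommRing A] [IsLocalRing A] [IsNoetherianRing A] (I : Ideal A) (hI : I ≠ ⊤) (hdense : ∀ q ∈ minimalPrimes A, ¬ I ≤ q) : ∃ p : PrimeSpectrum A, ¬ I ≤ p.asIdeal ∧ ringKrullDim (A ⧸ p.asIdeal) = 1 := by
  let S : Set (Ideal A) := {p | p.IsPrime ∧ ¬ I ≤ p}
  have hS : S.Nonempty := by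
    obtain ⟨q, hq⟩ := Ideal.nonempty_minimalPrimes (bot_ne_top (α := Ideal A))
    exact ⟨q, hq.1.1, hdense q hq⟩
  obtain ⟨p, ⟨hpp, hIp⟩, hmax⟩ :=
    (set_has_maximal_iff_noetherian (R := A) (M := A)).mpr inferInstance S hS
  refine ⟨⟨p, hpp⟩, hIp, ?_⟩
  change ringKrullDim (A ⧸ p) = 1
  obtain ⟨x, hxI, hxp⟩ := SetLike.not_le_iff_exists.mp hIp
  have hxm : x ∈ IsLocalRing.maximalIdeal A := IsLocalRing.le_maximalIdeal hI hxI
  have : Nontrivial (A ⧸ p) := Ideal.Quotient.nontrivial_iff.mpr hpp.ne_top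
  have : IsLocalRing (A ⧸ p) := IsLocalRing.of_surjective' (Ideal.Quotient.mk p) Ideal.Quotient.mk_surjective
  refine lemmaA (A ⧸ p) (Ideal.Quotient.mk p x) ?_ ?_ ?_
  · rwa [Ne, Ideal.Quotient.eq_zero_iff_mem]
  · rw [IsLocalRing.mem_maximalIdeal, mem_nonunits_iff]
    rintro ⟨u, hu⟩
    obtain ⟨y, hy⟩ := Ideal.Quotient.mk_surjective (u⁻¹ : (A ⧸ p)ˣ).1
    have h1 : Ideal.Quotient.mk p (x * y - 1) = 0 := by
      rw [map_sub, map_mul, hy, ← hu, Units.mul_inv, map_one, sub_self]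
    rw [Ideal.Quotient.eq_zero_iff_mem] at h1
    have h2 : x * y - 1 ∈ IsLocalRing.maximalIdeal A := IsLocalRing.le_maximalIdeal hpp.ne_top h1
    have h3 : (1 : A) ∈ IsLocalRing.maximalIdeal A := by
      have := Ideal.sub_mem _ (Ideal.mul_mem_right y _ hxm) h2
      simpa using this
    exact (IsLocalRing.maximalIdeal.isMaximal A).ne_top ((Ideal.eq_top_iff_one _).mpr h3)
  · intro Q hQ hQbot
    have hQc : (Q.comap (Ideal.Quotient.mk p)).IsPrime := Ideal.comap_isPrime _ _
    have hpQ : p ≤ Q.comap (Ideal.Quotient.mk p) := by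
      intro a ha
      rw [Ideal.mem_comap, Ideal.Quotient.eq_zero_iff_mem.mpr ha]
      exact zero_mem _
    have hne : p ≠ Q.comap (Ideal.Quotient.mk p) := by
      intro h
      apply hQbot
      rw [← Ideal.map_comap_of_surjective _ Ideal.Quotient.mk_surjective Q, ← h, Ideal.map_quotient_self]
    by_contra hxQ
    have hIQ : ¬ I ≤ Q.comap (Ideal.Quotient.mk p) := fun h ↦ hxQ (h hxI)
    exact hmax _ ⟨hQc, hIQ⟩ (lt_of_le_of_ne hpQ hne)

end Groth.Agent.S5166
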