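import Groth.Statements.S5171
import Groth.Agent.S5162
import Groth.Agent.Lib.DepthLoc33
import Groth.Agent.Lib.H29Depth

set_option autoImplicit false
universe u
open LocCoh

namespace Groth.Agent.S5171
open Groth.Agent.Lib IsLocalRing

variable {A : Type u} [CommRing A] [IsNoetherianRing A]

/-- `(G/xG)_p ≅ G_p / x G_p`. -/
noncomputable def locQuotEquiv (p : Ideal A) [p.IsPrime] (G : Type u) [AddCommGroup G] [Module A G]
    (x : A) :
    LocalizedModule p.primeCompl (QuotSMulTop x G) ≃ₗ[Localization.AtPrime p]
      QuotSMulTop (algebraMap A (Localization.AtPrime p) x) (LocalizedModule p.primeCompl G) :=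
  (IsLocalizedModule.isBaseChange p.primeCompl (Localization.AtPrime p)
      (LocalizedModule.mkLinearMap p.primeCompl (QuotSMulTop x G))).equiv.symm ≪≫ₗ
    ((QuotSMulTop.algebraMapTensorEquivTensorQuotSMulTop x G (Localization.AtPrime p)).symm ≪≫ₗ
      QuotSMulTop.congr (algebraMap A (Localization.AtPrime p) x)
        (IsLocalizedModule.isBaseChange p.primeCompl (Localization.AtPrime p)
          (LocalizedModule.mkLinearMap p.primeCompl G)).equiv)

theorem le_idealDepth_of_forall (J : Ideal A) (n : ℕ) :
    ∀ (G : Type u) [AddCommGroup G] [Module A G] [Module.Finite A G],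
      (∀ (p : Ideal A) [p.IsPrime], J ≤ p → Nontrivial (LocalizedModule p.primeCompl G) →
        (n : ℕ∞) ≤ LocCoh.depth (Localization.AtPrime p) (LocalizedModule p.primeCompl G)) →
      (n : ℕ∞) ≤ LocCoh.idealDepth J G := by
  induction n with
  | zero => intro G _ _ _ _; simp
  | succ n ih =>
    intro G _ _ _ h
    by_cases hJG : J • (⊤ : Submodule A G) = ⊤
    · unfold LocCoh.idealDepth
      rw [if_pos hJG]
      exact le_top
    · have h1 : 1 ≤ LocCoh.idealDepth J G := by
        by_contra h0
        have h0' : LocCoh.idealDepth J G = 0 := by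
          rw [not_le, ENat.lt_one_iff_eq_zero] at h0
          exact h0
        obtain ⟨p, hp, hJp⟩ := DepthLoc33.exists_le_mem_associatedPrimes_of_idealDepth_eq_zero J G hJG h0'
        haveI := hp.isPrime
        have hsupp := DepthRees.mem_support_of_mem_associatedPrimes hp
        rw [Module.mem_support_iff] at hsupp
        have hd := h p hJp hsupp
        have hass := Module.associatedPrimes.mem_associatedPrimes_atPrime_of_mem_associatedPrimes hp
        haveI := hsupp
        have hz := (DepthFlat33.depth_eq_zero_iff (R := Localization.AtPrime p)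
          (LocalizedModule p.primeCompl G)).2 hass
        rw [hz] at hd
        simp at hd
      obtain ⟨x, hxJ, hx⟩ := DepthLoc33.exists_regular_of_one_le_idealDepth J G hJG h1
      have e1 := DepthRees.idealDepth_quotSMulTop_add_one J G hJG hxJ hx
      rw [← e1, Nat.cast_add, Nat.cast_one]
      refine add_le_add_left ?_ 1
      apply ih (QuotSMulTop x G)
      intro p _ hJp hnt
      have hntG : Nontrivial (LocalizedModule p.primeCompl G) := by
        rw [← Module.mem_support_iff (p := ⟨p, inferInstance⟩)] at hnt ⊢
        exact Module.support_subset_of_surjective _ (Submodule.mkQ_surjective _) hnt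
      have hd := h p hJp hntG
      have hxm : algebraMap A (Localization.AtPrime p) x ∈ maximalIdeal (Localization.AtPrime p) :=
        (IsLocalization.AtPrime.to_map_mem_maximal_iff (Localization.AtPrime p) p x).mpr (hJp hxJ)
      have hreg : IsSMulRegular (LocalizedModule p.primeCompl G)
          (algebraMap A (Localization.AtPrime p) x) := by
        have := (RingTheory.Sequence.isWeaklyRegular_singleton_iff G x).2 hx
        have h2 := this.of_isLocalizedModule (Localization.AtPrime p) p.primeCompl
          (LocalizedModule.mkLinearMap p.primeCompl G)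
        simpa [RingTheory.Sequence.isWeaklyRegular_singleton_iff] using h2
      have e2 := DepthFlat33.depth_quotSMulTop_add_one' (LocalizedModule p.primeCompl G) hxm hreg
      rw [DepthFlat33.depth_congr (locQuotEquiv p G x)]
      rw [← e2, Nat.cast_add, Nat.cast_one] at hd
      exact (ENat.add_le_add_iff_right ENat.one_ne_top).1 hd


/-- Let A be a Noetherian ring, J an ideal, n ≥ 0 and G a finite Cohen–Macaulay A-module (each
localization G_p is zero or Cohen–Macaulay). Then H^i_J(G) = 0 for i < n if and only if codim(V(J) ∩
Supp G, Supp G) ≥ n, i.e. dim Supp(G_p) ≥ n for every p ∈ V(J) ∩ Supp G. -/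
theorem result (A : Type u) [CommRing A] [IsNoetherianRing A] (J : Ideal A) (G : Type u) [AddCommGroup G] [Module A G] [Module.Finite A G] (hCM : ∀ p : PrimeSpectrum A, Subsingleton (LocalizedModule p.asIdeal.primeCompl G) ∨ LocCoh.IsCohenMacaulayModule (Localization.AtPrime p.asIdeal) (LocalizedModule p.asIdeal.primeCompl G)) (n : ℕ) : (∀ i : ℕ, i < n → Subsingleton (LocCoh.H J i G)) ↔ ∀ p : PrimeSpectrum A, J ≤ p.asIdeal → p ∈ Module.support A G → (n : WithBot ℕ∞) ≤ Module.supportDim (Localization.AtPrime p.asIdeal) (LocalizedModule p.asIdeal.primeCompl G) := by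
  have hExt : (∀ i, i < n → Subsingleton (LocCoh.H J i G)) ↔ ∀ i, i < n →
      Subsingleton (CategoryTheory.Abelian.Ext (ModuleCat.of A (A ⧸ J)) (ModuleCat.of A G) i) := by
    constructor
    · intro h i hi
      exact S5162.vanS_of_H J G n h i hi _ inferInstance (S5162.support_quot J).le
    · intro h i hi
      exact S5162.H_of_vanS J G i
        (S5162.vanS_of_one J G n (A ⧸ J) (S5162.support_quot J) h i hi)
  rw [hExt, ← H29Depth.le_idealDepth_iff_ext' J G n]
  constructor
  · intro h p hJp hp
    have hnt : Nontrivial (LocalizedModule p.asIdeal.primeCompl G) := (Module.mem_support_iff).1 hp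
    rcases hCM p with h0 | hcm
    · exact absurd h0 (not_subsingleton _)
    · rw [hcm]
      have := DepthLoc33.idealDepth_le_depth_of_isLocalizedModule p.asIdeal
        (Localization.AtPrime p.asIdeal) (LocalizedModule.mkLinearMap p.asIdeal.primeCompl G) J hJp
      exact_mod_cast h.trans this
  · intro h
    apply le_idealDepth_of_forall J n G
    intro p _ hJp hnt
    have hp : (⟨p, inferInstance⟩ : PrimeSpectrum A) ∈ Module.support A G :=
      Module.mem_support_iff.2 hnt
    have := h ⟨p, inferInstance⟩ hJp hp
    rcases hCM ⟨p, inferInstance⟩ with h0 | hcm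
    · exact absurd h0 (not_subsingleton _)
    · rw [hcm] at this
      exact_mod_cast this

end Groth.Agent.S5171
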