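import Groth.Statements.S5174
import Groth.Agent.S5162

set_option autoImplicit false
universe u
open CategoryTheory Opposite
open LocCoh

namespace Groth.Agent.S5174
open Abelian Groth.Agent.Lib.LocCohConcrete Groth.Agent.Lib.LocCohLES Groth.Agent.Lib.ExtBridge
open Groth.Agent.S5162

variable {A : Type u} [CommRing A]

section Defs
variable (A) (G : Type u) [AddCommGroup G] [Module A G] (n : ℕ)
variable {F F' F'' : Type u} [AddCommGroup F] [Module A F] [AddCommGroup F'] [Module A F']
  [AddCommGroup F''] [Module A F'']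

/-- `T(F) = Ext^n(F, G)`. -/
abbrev T (F : Type u) [AddCommGroup F] [Module A F] : Type u :=
  Ext.{u} (ModuleCat.of A F) (ModuleCat.of A G) n

/-- pull-back along a linear map. -/
noncomputable def pb (u : F' →ₗ[A] F) : T A G n F →ₗ[A] T A G n F' where
  toFun ξ := (Ext.mk₀ (ModuleCat.ofHom u)).comp ξ (zero_add n)
  map_add' := by intro x y; rw [Ext.comp_add]
  map_smul' := by intro a x; simp [Ext.comp_smul]

theorem pb_apply (u : F' →ₗ[A] F) (ξ : T A G n F) :
    pb A G n u ξ = (Ext.mk₀ (ModuleCat.ofHom u)).comp ξ (zero_add n) := rfl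

theorem pb_comp (u : F' →ₗ[A] F) (v : F'' →ₗ[A] F') (ξ : T A G n F) :
    pb A G n v (pb A G n u ξ) = pb A G n (u ∘ₗ v) ξ := by
  simp only [pb_apply]
  rw [Ext.mk₀_comp_mk₀_assoc]
  rfl

theorem pb_id (ξ : T A G n F) : pb A G n (LinearMap.id : F →ₗ[A] F) ξ = ξ := by
  rw [pb_apply]
  exact Ext.mk₀_id_comp ξ

theorem pb_add (u v : F' →ₗ[A] F) (ξ : T A G n F) :
    pb A G n (u + v) ξ = pb A G n u ξ + pb A G n v ξ := by
  simp only [pb_apply]
  rw [← Ext.add_comp, ← Ext.mk₀_add]
  rfl

theorem pb_zero (ξ : T A G n F) : pb A G n (0 : F' →ₗ[A] F) ξ = 0 := by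
  rw [pb_apply]
  have : ModuleCat.ofHom (0 : F' →ₗ[A] F) = 0 := rfl
  rw [this, Ext.mk₀_zero, Ext.zero_comp]

theorem pb_smul (a : A) (u : F' →ₗ[A] F) (ξ : T A G n F) :
    pb A G n (a • u) ξ = a • pb A G n u ξ := by
  simp only [pb_apply]
  have : ModuleCat.ofHom (a • u) = a • ModuleCat.ofHom u := rfl
  rw [this, Ext.mk₀_smul, Ext.smul_comp]

theorem pb_sum {ι : Type*} (s : Finset ι) (u : ι → (F' →ₗ[A] F)) (ξ : T A G n F) :
    pb A G n (∑ i ∈ s, u i) ξ = ∑ i ∈ s, pb A G n (u i) ξ := by
  classical
  induction s using Finset.induction_on with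
  | empty => simp [pb_zero]
  | insert i s hi ih => rw [Finset.sum_insert hi, Finset.sum_insert hi, pb_add, ih]

end Defs


section Main
variable [IsNoetherianRing A] (J : Ideal A) (G : Type u) [AddCommGroup G] [Module A G] (n : ℕ)
variable {F F' : Type u} [AddCommGroup F] [Module A F] [AddCommGroup F'] [Module A F']

/-- modules killed by `J^k`. -/
def Killed (k : ℕ) (F : Type u) [AddCommGroup F] [Module A F] : Prop :=
  ∀ a ∈ J ^ k, ∀ f : F, a • f = 0

omit [IsNoetherianRing A] in
theorem supp_of_killed {k : ℕ} (hF : Killed J k F) :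
    Module.support A F ⊆ PrimeSpectrum.zeroLocus (J : Set A) := by
  intro p hp
  have h1 := Module.annihilator_le_of_mem_support hp
  have h2 : J ^ k ≤ Module.annihilator A F := fun a ha => Module.mem_annihilator.2 (hF a ha)
  rw [PrimeSpectrum.mem_zeroLocus, SetLike.coe_subset_coe]
  exact p.2.le_of_pow_le (h2.trans h1)

omit [IsNoetherianRing A] in
theorem killed_quot (k : ℕ) : Killed J k (A ⧸ J ^ k) := by
  intro a ha x
  obtain ⟨x, rfl⟩ := Ideal.Quotient.mk_surjective x
  rw [Algebra.smul_def, Ideal.Quotient.algebraMap_eq, ← map_mul]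
  exact Ideal.Quotient.eq_zero_iff_mem.2 (Ideal.mul_mem_right _ _ ha)

omit [IsNoetherianRing A] in
theorem killed_of_injective {k : ℕ} (u : F' →ₗ[A] F) (hu : Function.Injective u)
    (hF : Killed J k F) : Killed J k F' := by
  intro a ha f
  apply hu
  rw [map_smul, hF a ha, map_zero]

omit [IsNoetherianRing A] in
theorem killed_pi {k : ℕ} (r : ℕ) (hF : Killed J k F) : Killed J k (Fin r → F) := by
  intro a ha f
  funext j
  exact hF a ha (f j)

/-- `ρ_f : A/J^k → F`, `1 ↦ f`. -/
def rho {k : ℕ} (hF : Killed J k F) (f : F) : (A ⧸ J ^ k) →ₗ[A] F :=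
  Submodule.liftQ (J ^ k) (LinearMap.toSpanSingleton A F f) (by
    intro a ha
    rw [LinearMap.mem_ker, LinearMap.toSpanSingleton_apply]
    exact hF a ha f)

omit [IsNoetherianRing A] in
theorem rho_mk {k : ℕ} (hF : Killed J k F) (f : F) (x : A) :
    rho J hF f (Ideal.Quotient.mk (J ^ k) x) = x • f := rfl

omit [IsNoetherianRing A] in
@[simp] theorem rho_apply_one {k : ℕ} (hF : Killed J k F) (f : F) :
    rho J hF f (1 : A ⧸ J ^ k) = f := by
  have := rho_mk J hF f 1
  rw [one_smul, map_one] at this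
  exact this

omit [IsNoetherianRing A] in
theorem rho_ext {k : ℕ} {u v : (A ⧸ J ^ k) →ₗ[A] F}
    (h : u (Ideal.Quotient.mk (J ^ k) 1) = v (Ideal.Quotient.mk (J ^ k) 1)) : u = v := by
  apply LinearMap.ext
  intro x
  obtain ⟨x, rfl⟩ := Ideal.Quotient.mk_surjective x
  have : Ideal.Quotient.mk (J ^ k) x = x • Ideal.Quotient.mk (J ^ k) 1 := by
    rw [Algebra.smul_def, Ideal.Quotient.algebraMap_eq, map_one, mul_one]
  rw [this, map_smul, map_smul, h]

omit [IsNoetherianRing A] in
theorem rho_add {k : ℕ} (hF : Killed J k F) (f g : F) :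
    rho J hF (f + g) = rho J hF f + rho J hF g := by
  apply rho_ext
  simp [rho_mk]

omit [IsNoetherianRing A] in
theorem rho_smul {k : ℕ} (hF : Killed J k F) (a : A) (f : F) :
    rho J hF (a • f) = a • rho J hF f := by
  apply rho_ext
  simp [rho_mk]

omit [IsNoetherianRing A] in
theorem rho_nat {k : ℕ} (hF : Killed J k F) (hF' : Killed J k F') (u : F' →ₗ[A] F) (f : F') :
    u ∘ₗ rho J hF' f = rho J hF (u f) := by
  apply rho_ext
  simp [rho_mk]

omit [IsNoetherianRing A] in
theorem rho_one {k : ℕ} :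
    rho J (killed_quot J k) (Ideal.Quotient.mk (J ^ k) 1) = LinearMap.id := by
  apply rho_ext
  simp [rho_mk]

/-- the comparison map `Ext^n(F, G) → Hom(F, H^n_J(G))`. -/
noncomputable def ev {k : ℕ} (hF : Killed J k F) :
    T A G n F →ₗ[A] (F →ₗ[A] LocCoh.H J n G) where
  toFun ξ :=
    { toFun := fun f => HιE J G n k (pb A G n (rho J hF f) ξ)
      map_add' := by
        intro f g
        rw [rho_add, pb_add, map_add]
      map_smul' := by
        intro a f
        rw [rho_smul, pb_smul, map_smul]
        rfl }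
  map_add' := by
    intro ξ ζ
    apply LinearMap.ext
    intro f
    simp
  map_smul' := by
    intro a ξ
    apply LinearMap.ext
    intro f
    simp

theorem ev_apply {k : ℕ} (hF : Killed J k F) (ξ : T A G n F) (f : F) :
    ev J G n hF ξ f = HιE J G n k (pb A G n (rho J hF f) ξ) := rfl

theorem ev_nat {k : ℕ} (hF : Killed J k F) (hF' : Killed J k F') (u : F' →ₗ[A] F)
    (ξ : T A G n F) : ev J G n hF' (pb A G n u ξ) = ev J G n hF ξ ∘ₗ u := by
  apply LinearMap.ext
  intro f
  rw [ev_apply, LinearMap.comp_apply, ev_apply, pb_comp, rho_nat J hF hF']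

theorem ev_quot {k : ℕ} (ξ : T A G n (A ⧸ J ^ k)) :
    ev J G n (killed_quot J k) ξ (Ideal.Quotient.mk (J ^ k) 1) = HιE J G n k ξ := by
  rw [ev_apply, rho_one, pb_id]


section Exactness
variable (hv : ∀ j, j + 1 = n → VanS J G j)
include hv

/-- pull-back along a surjection from a finite module supported in `V(J)` is injective. -/
theorem inj_pb [Module.Finite A F'] (hs : Module.support A F' ⊆ PrimeSpectrum.zeroLocus (J : Set A))
    (u : F' →ₗ[A] F) (hu : Function.Surjective u) : Function.Injective (pb A G n u) := by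
  rw [injective_iff_map_eq_zero]
  intro ξ hξ
  have hS := ses_shortExact (LinearMap.ker u).subtype u (Submodule.injective_subtype _)
    (LinearMap.exact_subtype_ker_map u) hu
  refine inj_g hS (ModuleCat.of A G) n ?_ ξ hξ
  intro j hj
  refine hv j hj _ inferInstance ?_
  exact (Module.support_subset_of_injective _ (Submodule.injective_subtype _)).trans hs

omit hv [IsNoetherianRing A] in
/-- exactness in the middle. -/
theorem exact_pb (u : F' →ₗ[A] F) (hu : Function.Surjective u) (η : T A G n F')
    (hη : pb A G n (LinearMap.ker u).subtype η = 0) : ∃ ξ : T A G n F, pb A G n u ξ = η := by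
  have hS := ses_shortExact (LinearMap.ker u).subtype u (Submodule.injective_subtype _)
    (LinearMap.exact_subtype_ker_map u) hu
  exact Ext.contravariant_sequence_exact₂ hS (ModuleCat.of A G) η hη

end Exactness

section Pi
variable {M : Type u} [AddCommGroup M] [Module A M] (r : ℕ)

omit [IsNoetherianRing A] in
theorem sum_single_proj :
    ∑ j : Fin r, (LinearMap.single A (fun _ : Fin r => M) j) ∘ₗ (LinearMap.proj j) =
      (LinearMap.id : (Fin r → M) →ₗ[A] (Fin r → M)) := by
  apply LinearMap.ext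
  intro x
  funext i
  simp [Finset.sum_apply, Pi.single_apply]

omit [IsNoetherianRing A] in
/-- joint injectivity of the restrictions to the factors. -/
theorem pi_joint_inj (ζ : T A G n (Fin r → M))
    (h : ∀ j : Fin r, pb A G n (LinearMap.single A (fun _ : Fin r => M) j) ζ = 0) : ζ = 0 := by
  rw [← pb_id A G n ζ, ← sum_single_proj (A := A) (M := M) r, pb_sum]
  refine Finset.sum_eq_zero fun j _ => ?_
  rw [← pb_comp, h j, map_zero]

end Pi

section Cover

omit [IsNoetherianRing A] in
/-- a finite module killed by `J^k` is a quotient of some `(A/J^k)^r`. -/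
theorem exists_cover {k : ℕ} [Module.Finite A F] (hF : Killed J k F) :
    ∃ (r : ℕ) (q : (Fin r → A ⧸ J ^ k) →ₗ[A] F), Function.Surjective q := by
  obtain ⟨r, y, hy⟩ := Module.Finite.exists_fin (R := A) (M := F)
  refine ⟨r, ∑ j : Fin r, rho J hF (y j) ∘ₗ LinearMap.proj j, ?_⟩
  rw [← LinearMap.range_eq_top, eq_top_iff, ← hy, Submodule.span_le]
  rintro _ ⟨j, rfl⟩
  refine ⟨Pi.single j 1, ?_⟩
  rw [LinearMap.sum_apply]
  rw [Finset.sum_eq_single j]
  · simp
  · intro i _ hij
    simp [Pi.single_apply, hij]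
  · intro h
    exact absurd (Finset.mem_univ j) h

end Cover


section Base
variable (hv : ∀ j, j + 1 = n → VanS J G j)

omit [IsNoetherianRing A] in
theorem proj_surjective {k m : ℕ} (h : k ≤ m) : Function.Surjective (proj J h).hom := by
  intro x
  obtain ⟨x, rfl⟩ := Ideal.Quotient.mk_surjective x
  exact ⟨Ideal.Quotient.mk _ x, rfl⟩

include hv in
/-- transition maps are injective. -/
theorem proj_inj {k m : ℕ} (h : k ≤ m) : Function.Injective (pb A G n (proj J h).hom) :=
  inj_pb J G n hv (supp_of_killed J (killed_quot J m)) _ (proj_surjective J h)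

include hv in
/-- `Ext^n(A/J^k, G) → H^n_J(G)` is injective. -/
theorem HιE_injective (k : ℕ) : Function.Injective (HιE J G n k) := by
  rw [injective_iff_map_eq_zero]
  intro ξ hξ
  obtain ⟨m, hkm, hm⟩ := (HιE_eq_zero_iff J G n ξ).1 hξ
  apply proj_inj J G n hv hkm
  rw [map_zero]
  exact hm

include hv in
theorem ev_quot_injective (k : ℕ) : Function.Injective (ev J G n (killed_quot J k)) := by
  rw [injective_iff_map_eq_zero]
  intro ξ hξ
  apply HιE_injective J G n hv k
  rw [map_zero, ← ev_quot, hξ]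
  rfl

include hv in
theorem ev_quot_surjective (k : ℕ) : Function.Surjective (ev J G n (killed_quot J k)) := by
  intro s
  have hkill : ∀ a ∈ J ^ k, a • s (Ideal.Quotient.mk (J ^ k) 1) = 0 := by
    intro a ha
    rw [← map_smul, killed_quot J k a ha, map_zero]
  obtain ⟨m₀, η₀, hη₀⟩ := exists_rep J G n (s (Ideal.Quotient.mk (J ^ k) 1))
  obtain ⟨m, hm₀, hkm⟩ : ∃ m, m₀ ≤ m ∧ k ≤ m := ⟨max m₀ k, le_max_left _ _, le_max_right _ _⟩
  obtain ⟨η, hη⟩ : ∃ η : T A G n (A ⧸ J ^ m),
      HιE J G n m η = s (Ideal.Quotient.mk (J ^ k) 1) :=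
    ⟨pb A G n (proj J hm₀).hom η₀, by rw [← hη₀]; exact HιE_transition J G n hm₀ η₀⟩
  have hJη : ∀ a ∈ J ^ k, a • η = 0 := by
    intro a ha
    apply HιE_injective J G n hv m
    rw [map_smul, hη, hkill a ha, map_zero]
  have hπ : Function.Surjective (proj J hkm).hom := proj_surjective J hkm
  have hK : pb A G n (LinearMap.ker (proj J hkm).hom).subtype η = 0 := by
    have hKk : Killed J m (LinearMap.ker (proj J hkm).hom) :=
      killed_of_injective J _ (Submodule.injective_subtype _) (killed_quot J m)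
    obtain ⟨r, q, hq⟩ := exists_cover J hKk
    apply inj_pb J G n hv (supp_of_killed J (killed_pi J r (killed_quot J m))) q hq
    rw [map_zero]
    apply pi_joint_inj
    intro j
    rw [pb_comp, pb_comp]
    obtain ⟨c, hc⟩ := Ideal.Quotient.mk_surjective
      ((q (Pi.single j 1) : LinearMap.ker (proj J hkm).hom) : A ⧸ J ^ m)
    have hcJ : c ∈ J ^ k := by
      have := (q (Pi.single j 1)).2
      rw [LinearMap.mem_ker, ← hc] at this
      exact Ideal.Quotient.eq_zero_iff_mem.1 this
    have hcomp : (LinearMap.ker (proj J hkm).hom).subtype ∘ₗ (q ∘ₗ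
        LinearMap.single A (fun _ : Fin r => A ⧸ J ^ m) j) = c • LinearMap.id := by
      apply rho_ext
      simp only [LinearMap.comp_apply, LinearMap.single_apply, Submodule.subtype_apply,
        LinearMap.smul_apply, LinearMap.id_apply, map_one]
      rw [← hc, Algebra.smul_def, Ideal.Quotient.algebraMap_eq, mul_one]
    rw [hcomp, pb_smul, pb_id, hJη c hcJ]
  obtain ⟨ξ, hξ⟩ := exact_pb G n (proj J hkm).hom hπ η hK
  refine ⟨ξ, ?_⟩
  apply rho_ext
  rw [ev_quot, ← hη, ← hξ]
  exact (HιE_transition J G n hkm ξ).symm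

include hv in
theorem ev_pi_bijective (k r : ℕ) :
    Function.Bijective (ev J G n (killed_pi J r (killed_quot J k))) := by
  constructor
  · rw [injective_iff_map_eq_zero]
    intro ζ hζ
    apply pi_joint_inj
    intro j
    apply ev_quot_injective J G n hv k
    rw [map_zero, ev_nat J G n (killed_pi J r (killed_quot J k)) (killed_quot J k), hζ]
    rfl
  · intro s
    choose ξ hξ using fun j : Fin r => ev_quot_surjective J G n hv k
      (s ∘ₗ LinearMap.single A (fun _ : Fin r => A ⧸ J ^ k) j)
    refine ⟨∑ j : Fin r, pb A G n (LinearMap.proj j) (ξ j), ?_⟩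
    rw [map_sum]
    have : ∀ j : Fin r, ev J G n (killed_pi J r (killed_quot J k))
        (pb A G n (LinearMap.proj j) (ξ j)) =
        s ∘ₗ (LinearMap.single A (fun _ : Fin r => A ⧸ J ^ k) j ∘ₗ LinearMap.proj j) := by
      intro j
      rw [ev_nat J G n (killed_quot J k) (killed_pi J r (killed_quot J k)), hξ j,
        LinearMap.comp_assoc]
    simp_rw [this]
    apply LinearMap.ext
    intro x
    rw [LinearMap.sum_apply]
    simp only [LinearMap.comp_apply]
    rw [← map_sum]
    congr 1
    have h2 := LinearMap.congr_fun (sum_single_proj (A := A) (M := A ⧸ J ^ k) r) x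
    rw [LinearMap.sum_apply] at h2
    exact h2

include hv in
theorem ev_bijective {k : ℕ} [Module.Finite A F] (hF : Killed J k F) :
    Function.Bijective (ev J G n hF) := by
  obtain ⟨r, q, hq⟩ := exists_cover J hF
  have hP := killed_pi J r (killed_quot J k)
  have hPs := supp_of_killed J hP
  have hKk : Killed J k (LinearMap.ker q) :=
    killed_of_injective J _ (Submodule.injective_subtype _) hP
  obtain ⟨r', q', hq'⟩ := exists_cover J hKk
  have hP' := killed_pi J r' (killed_quot J k)
  constructor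
  · rw [injective_iff_map_eq_zero]
    intro ξ hξ
    apply inj_pb J G n hv hPs q hq
    rw [map_zero]
    apply (ev_pi_bijective J G n hv k r).1
    rw [map_zero, ev_nat J G n hF hP, hξ]
    rfl
  · intro s
    obtain ⟨η, hη⟩ := (ev_pi_bijective J G n hv k r).2 (s ∘ₗ q)
    have hK : pb A G n (LinearMap.ker q).subtype η = 0 := by
      apply inj_pb J G n hv (supp_of_killed J hP') q' hq'
      rw [map_zero]
      apply (ev_pi_bijective J G n hv k r').1
      rw [map_zero, pb_comp, ev_nat J G n hP hP', hη]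
      apply LinearMap.ext
      intro x
      simp only [LinearMap.comp_apply, Submodule.subtype_apply, LinearMap.zero_apply]
      rw [(LinearMap.mem_ker).1 (q' x).2, map_zero]
    obtain ⟨ξ, hξ⟩ := exact_pb G n q hq η hK
    refine ⟨ξ, ?_⟩
    apply LinearMap.ext
    intro f
    obtain ⟨x, rfl⟩ := hq f
    have := ev_nat J G n hF hP q ξ
    rw [hξ, hη] at this
    exact (LinearMap.congr_fun this x).symm

end Base

end Main


/-- Affine case with Z = X. Let A be a Noetherian ring, J an ideal, G any A-module and n ≥ 0 with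
Ext^{n−1}_A(F', G) = 0 for all finite F' supported in V(J). Then for every finite A-module F with
Supp F ⊆ V(J) there is an A-linear isomorphism Ext^n_A(F, G) ≅ Hom_A(F, H^n_J(G)). (Existence of the
isomorphism is asserted; in the source it is the canonical one expressing that Ext^n_A(−, G), left
exact on such F, is represented by H^n_J(G).) -/
theorem result (A : Type u) [CommRing A] [IsNoetherianRing A] (J : Ideal A) (G : Type u) [AddCommGroup G] [Module A G] (n : ℕ) (hvan : ∀ (F' : Type u) [AddCommGroup F'] [Module A F'], Module.Finite A F' → Module.support A F' ⊆ PrimeSpectrum.zeroLocus (J : Set A) → ∀ i : ℕ, i + 1 = n → Subsingleton (((Ext A (ModuleCat.{u} A) i).obj (op (ModuleCat.of A F'))).obj (ModuleCat.of A G))) (F : Type u) [AddCommGroup F] [Module A F] [Module.Finite A F] (hF : Module.support A F ⊆ PrimeSpectrum.zeroLocus (J : Set A)) : Nonempty ((((Ext A (ModuleCat.{u} A) n).obj (op (ModuleCat.of A F))).obj (ModuleCat.of A G)) ≃ₗ[A] (F →ₗ[A] LocCoh.H J n G)) := by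
  have hv : ∀ j, j + 1 = n → VanS J G j := by
    intro j hj F' _ _ hF' hs
    have := hvan F' hF' hs j hj
    exact (bridge (ModuleCat.of A F') (ModuleCat.of A G) j).symm.injective.subsingleton
  obtain ⟨k, hk⟩ : ∃ k, Killed J k F := by
    rw [Module.support_eq_zeroLocus, PrimeSpectrum.zeroLocus_subset_zeroLocus_iff] at hF
    obtain ⟨k, hk⟩ := Ideal.exists_pow_le_of_le_radical_of_fg hF
      ((isNoetherianRing_iff_ideal_fg A).1 inferInstance J)
    exact ⟨k, fun a ha f => Module.mem_annihilator.1 (hk ha) f⟩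
  exact ⟨(bridge (ModuleCat.of A F) (ModuleCat.of A G) n).trans
    (LinearEquiv.ofBijective (ev J G n hk) (ev_bijective J G n hv hk))⟩

end Groth.Agent.S5174
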