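import Groth.Statements.S5175
import Groth.Agent.S5155
import Groth.Agent.S5168
import Mathlib.LinearAlgebra.Dual.Lemmas

set_option autoImplicit false
universe u
open Matlis

namespace Groth.Agent.S5175

open InjHull

section
variable (k₀ : Type u) [Field k₀] (A : Type u) [CommRing A] [Algebra k₀ A]

/-- The coextension of `k₀` to `A`: `k₀`-linear functionals on `A`. -/
noncomputable abbrev C : Type u := (ModuleCat.coextendScalars (algebraMap k₀ A)).obj (ModuleCat.of k₀ k₀)

/-- The topological dual. -/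
noncomputable abbrev T [IsLocalRing A] : Submodule A (C k₀ A) :=
  ⨆ n : ℕ, Submodule.torsionBySet A (C k₀ A) ((IsLocalRing.maximalIdeal A ^ n : Ideal A) : Set A)

variable {k₀ A}

theorem smul_apply (a s : A) (φ : C k₀ A) : (a • φ) s = φ (s * a) := rfl

theorem add_apply (φ ψ : C k₀ A) (s : A) : (φ + ψ) s = φ s + ψ s := rfl

theorem zero_apply (s : A) : (0 : C k₀ A) s = 0 := rfl

theorem map_add' (φ : C k₀ A) (s t : A) : φ (s + t) = φ s + φ t :=
  (ModuleCat.CoextendScalars.equiv (algebraMap k₀ A) (ModuleCat.of k₀ k₀) φ).map_add s t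

theorem map_smul' (φ : C k₀ A) (c : k₀) (s : A) : φ (algebraMap k₀ A c * s) = c * φ s :=
  (ModuleCat.CoextendScalars.equiv (algebraMap k₀ A) (ModuleCat.of k₀ k₀) φ).map_smul c s

theorem ext' {φ ψ : C k₀ A} (h : ∀ s : A, φ s = ψ s) : φ = ψ :=
  ModuleCat.CoextendScalars.ext (LinearMap.ext h)

/-- Constructor for elements of `C k₀ A`. -/
noncomputable def mk (F : A → k₀) (hadd : ∀ s t, F (s + t) = F s + F t)
    (hsmul : ∀ (c : k₀) (s : A), F (algebraMap k₀ A c * s) = c * F s) : C k₀ A :=
  (ModuleCat.CoextendScalars.equiv (algebraMap k₀ A) (ModuleCat.of k₀ k₀)).symm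
    { toFun := F
      map_add' := hadd
      map_smul' := hsmul }

theorem mk_apply (F : A → k₀) (hadd) (hsmul) (s : A) : (mk F hadd hsmul : C k₀ A) s = F s := rfl

theorem isPowerTorsion_T [IsLocalRing A] : LocCoh.IsPowerTorsion (IsLocalRing.maximalIdeal A) (T k₀ A) := by
  intro x
  have hdir : Directed (· ≤ ·) (fun n : ℕ => Submodule.torsionBySet A (C k₀ A)
      ((IsLocalRing.maximalIdeal A ^ n : Ideal A) : Set A)) := by
    apply Monotone.directed_le
    intro n m hnm
    exact Submodule.torsionBySet_le_torsionBySet_of_subset (Ideal.pow_le_pow_right hnm)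
  obtain ⟨n, hn⟩ := (Submodule.mem_iSup_of_directed _ hdir).mp x.2
  refine ⟨n, fun a ha => ?_⟩
  apply Subtype.ext
  exact (Submodule.mem_torsionBySet_iff _ _).mp hn ⟨a, ha⟩

theorem injective_T [IsLocalRing A] [IsNoetherianRing A] : Module.Injective A (T k₀ A) := by
  apply (Groth.Agent.S5168.result A (IsLocalRing.maximalIdeal A) (T k₀ A) isPowerTorsion_T).mpr
  intro M _ _ hfin hk N g
  obtain ⟨k, hk⟩ := hk
  let _ : Module k₀ M := Module.compHom M (algebraMap k₀ A)
  have : IsScalarTower k₀ A M := IsScalarTower.of_algebraMap_smul fun _ _ => rfl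
  let lam₀ : ↥(N.restrictScalars k₀) →ₗ[k₀] k₀ :=
    { toFun := fun x => ((g ⟨x.1, x.2⟩).1 : C k₀ A) (1 : A)
      map_add' := fun x y => by
        have : (⟨(x + y).1, (x + y).2⟩ : N) = ⟨x.1, x.2⟩ + ⟨y.1, y.2⟩ := rfl
        rw [this, map_add]
        rfl
      map_smul' := fun c x => by
        have : (⟨(c • x).1, (c • x).2⟩ : N) = algebraMap k₀ A c • ⟨x.1, x.2⟩ := rfl
        rw [this, map_smul]
        change (algebraMap k₀ A c • (g ⟨x.1, x.2⟩).1 : C k₀ A) (1 : A) = _
        rw [smul_apply, one_mul, ← mul_one (algebraMap k₀ A c), map_smul']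
        rfl }
  obtain ⟨lam, hlam⟩ := LinearMap.exists_extend lam₀
  have hlam' : ∀ (x : M) (hx : x ∈ N), lam x = ((g ⟨x, hx⟩).1 : C k₀ A) (1 : A) := fun x hx =>
    congr($hlam ⟨x, hx⟩)
  -- the extension
  let G : M → C k₀ A := fun y => mk (fun a => lam (a • y))
    (fun s t => by rw [add_smul, map_add])
    (fun c s => by
      rw [mul_smul]
      change lam (c • (s • y)) = _
      rw [map_smul]; rfl)
  have hGmem : ∀ y, G y ∈ T k₀ A := by
    intro y
    apply Submodule.mem_iSup_of_mem k
    rw [Submodule.mem_torsionBySet_iff]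
    rintro ⟨c, hc⟩
    apply ext'
    intro s
    change (c • G y) s = 0
    rw [smul_apply, mk_apply, mul_smul]
    have : c • y = 0 := by
      have : c • y ∈ (IsLocalRing.maximalIdeal A ^ k) • (⊤ : Submodule A M) :=
        Submodule.smul_mem_smul hc Submodule.mem_top
      rw [hk] at this
      exact this
    rw [this, smul_zero, map_zero]
  let g' : M →ₗ[A] T k₀ A :=
    { toFun := fun y => ⟨G y, hGmem y⟩
      map_add' := fun x y => by
        apply Subtype.ext
        apply ext'
        intro s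
        change lam (s • (x + y)) = lam (s • x) + lam (s • y)
        rw [smul_add, map_add]
      map_smul' := fun b y => by
        apply Subtype.ext
        apply ext'
        intro s
        change lam (s • b • y) = (b • G y) s
        rw [smul_apply, mk_apply, mul_smul] }
  refine ⟨g', ?_⟩
  ext x : 1
  apply Subtype.ext
  apply ext'
  intro s
  change lam (s • x.1) = ((g x).1 : C k₀ A) s
  rw [hlam' (s • x.1) (N.smul_mem s x.2)]
  have : (⟨s • x.1, N.smul_mem s x.2⟩ : N) = s • x := rfl
  rw [this, map_smul]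
  change (s • (g x).1 : C k₀ A) (1 : A) = _
  rw [smul_apply, one_mul]

/-- An element of `C k₀ A` as a `k₀`-linear functional. -/
noncomputable def toLin (φ : C k₀ A) : A →ₗ[k₀] k₀ :=
  { toFun := fun a => φ a
    map_add' := fun s t => map_add' φ s t
    map_smul' := fun c s => by
      rw [Algebra.smul_def, map_smul']; rfl }

theorem toLin_apply (φ : C k₀ A) (a : A) : toLin φ a = φ a := rfl


end



theorem exists_mul_functional (k₀ : Type u) [Field k₀] (K : Type u) [Field K] [Algebra k₀ K]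
    [Module.Finite k₀ K] (ψ ψ' : K →ₗ[k₀] k₀) (hψ : ψ ≠ 0) : ∃ c : K, ∀ x, ψ' x = ψ (c * x) := by
  let Λ : K →ₗ[k₀] Module.Dual k₀ K := (LinearMap.mul k₀ K).compr₂ ψ
  have hΛ : ∀ c x, Λ c x = ψ (c * x) := fun c x => rfl
  have hΛinj : Function.Injective Λ := by
    rw [← LinearMap.ker_eq_bot, Submodule.eq_bot_iff]
    intro c hc
    by_contra hc0
    apply hψ
    ext x
    have := congr($hc (c⁻¹ * x))
    rw [hΛ, ← mul_assoc, mul_inv_cancel₀ hc0, one_mul] at this
    exact this
  have hΛsurj : Function.Surjective Λ :=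
    (LinearMap.injective_iff_surjective_of_finrank_eq_finrank
      (Subspace.dual_finrank_eq (K := k₀) (V := K)).symm).mp hΛinj
  obtain ⟨c, hc⟩ := hΛsurj ψ'
  exact ⟨c, fun x => by rw [← hc, hΛ]⟩

section
variable {k₀ : Type u} [Field k₀] {A : Type u} [CommRing A] [Algebra k₀ A]

/-- Key lemma: two functionals killed by the maximal ideal, the first nonzero, differ by a scalar of `A`. -/
theorem exists_smul_eq [IsLocalRing A] [Module.Finite k₀ (A ⧸ IsLocalRing.maximalIdeal A)]
    (φ φ' : C k₀ A) (hφ : ∀ a ∈ IsLocalRing.maximalIdeal A, φ a = 0)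
    (hφ' : ∀ a ∈ IsLocalRing.maximalIdeal A, φ' a = 0) (hne : φ ≠ 0) : ∃ a₀ : A, φ' = a₀ • φ := by
  letI : Field (A ⧸ IsLocalRing.maximalIdeal A) := Ideal.Quotient.field _
  let π : A →ₗ[k₀] (A ⧸ IsLocalRing.maximalIdeal A) :=
    (Ideal.Quotient.mkₐ k₀ (IsLocalRing.maximalIdeal A)).toLinearMap
  have hπ : Function.Surjective π := Ideal.Quotient.mk_surjective
  have hπmul : ∀ a b, π (a * b) = π a * π b := fun a b => rfl
  obtain ⟨σ, hσ⟩ := π.exists_rightInverse_of_surjective (LinearMap.range_eq_top.mpr hπ)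
  have hσ' : ∀ x, π (σ x) = x := fun x => congr($hσ x)
  have hfac : ∀ (χ : C k₀ A), (∀ a ∈ IsLocalRing.maximalIdeal A, χ a = 0) →
      ∀ a, toLin χ (σ (π a)) = χ a := by
    intro χ hχ a
    have h1 : σ (π a) - a ∈ IsLocalRing.maximalIdeal A := by
      rw [← Ideal.Quotient.eq_zero_iff_mem]
      change π (σ (π a) - a) = 0
      rw [map_sub, hσ', sub_self]
    have h2 := hχ _ h1
    rw [← toLin_apply, map_sub, sub_eq_zero] at h2
    exact h2
  have hψ : (toLin φ).comp σ ≠ 0 := by
    intro h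
    apply hne
    apply ext'
    intro a
    rw [← hfac φ hφ a]
    exact congr($h (π a))
  obtain ⟨c, hc⟩ := exists_mul_functional k₀ (A ⧸ IsLocalRing.maximalIdeal A)
    ((toLin φ).comp σ) ((toLin φ').comp σ) hψ
  obtain ⟨a₀, rfl⟩ := hπ c
  refine ⟨a₀, ext' fun a => ?_⟩
  rw [smul_apply, ← hfac φ' hφ' a, ← hfac φ hφ (a * a₀)]
  have := hc (π a)
  rw [← hπmul, mul_comm a₀ a] at this
  exact this

theorem isSimple_hom [IsLocalRing A] [Module.Finite k₀ (A ⧸ IsLocalRing.maximalIdeal A)] :
    IsSimpleModule A (IsLocalRing.ResidueField A →ₗ[A] T k₀ A) := by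
  rw [isSimpleModule_iff_toSpanSingleton_surjective]
  have hres : ∀ a : A, IsLocalRing.residue A a = a • (1 : IsLocalRing.ResidueField A) := by
    intro a
    change _ = IsLocalRing.residue A (a * 1)
    rw [mul_one]
  have hkill : ∀ (f : IsLocalRing.ResidueField A →ₗ[A] T k₀ A),
      ∀ a ∈ IsLocalRing.maximalIdeal A, ((f 1).1 : C k₀ A) a = 0 := by
    intro f a ha
    have h0 : a • (1 : IsLocalRing.ResidueField A) = 0 := by
      rw [← hres]
      exact (IsLocalRing.residue_eq_zero_iff a).mpr ha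
    have h1 : a • (f 1) = 0 := by
      rw [← map_smul, h0, map_zero]
    have h2 : (a • (f 1).1 : C k₀ A) (1 : A) = 0 := by
      have := congr(($h1).1)
      change a • (f 1).1 = 0 at this
      rw [this]; rfl
    rw [smul_apply, one_mul] at h2
    exact h2
  have hdet : ∀ (f g : IsLocalRing.ResidueField A →ₗ[A] T k₀ A), (f 1).1 = (g 1).1 → f = g := by
    intro f g h
    apply LinearMap.ext
    intro x
    obtain ⟨a, rfl⟩ := IsLocalRing.residue_surjective x
    rw [hres, map_smul, map_smul, Subtype.ext h]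
  constructor
  · -- nontrivial
    letI : Field (A ⧸ IsLocalRing.maximalIdeal A) := Ideal.Quotient.field _
    obtain ⟨ψ, hψ⟩ := Module.Projective.exists_dual_ne_zero k₀
      (one_ne_zero : (1 : A ⧸ IsLocalRing.maximalIdeal A) ≠ 0)
    let π : A →ₗ[k₀] (A ⧸ IsLocalRing.maximalIdeal A) :=
      (Ideal.Quotient.mkₐ k₀ (IsLocalRing.maximalIdeal A)).toLinearMap
    let χ₀ : C k₀ A := mk (fun a => ψ (π a))
      (fun s t => by rw [map_add, map_add])
      (fun c s => by
        rw [← Algebra.smul_def, map_smul, map_smul]; rfl)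
    have hχ₀ : ∀ a ∈ IsLocalRing.maximalIdeal A, a • χ₀ = 0 := by
      intro a ha
      apply ext'
      intro s
      rw [smul_apply, mk_apply]
      have : π (s * a) = 0 := by
        change Ideal.Quotient.mk _ (s * a) = 0
        rw [Ideal.Quotient.eq_zero_iff_mem]
        exact Ideal.mul_mem_left _ s ha
      rw [this, map_zero]; rfl
    have hmem : χ₀ ∈ T k₀ A := by
      apply Submodule.mem_iSup_of_mem 1
      rw [Submodule.mem_torsionBySet_iff]
      rintro ⟨c, hc⟩
      rw [pow_one] at hc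
      exact hχ₀ c hc
    have hker : IsLocalRing.maximalIdeal A ≤
        LinearMap.ker (LinearMap.toSpanSingleton A (T k₀ A) ⟨χ₀, hmem⟩) := by
      intro a ha
      rw [LinearMap.mem_ker, LinearMap.toSpanSingleton_apply]
      apply Subtype.ext
      exact hχ₀ a ha
    let f₀ : IsLocalRing.ResidueField A →ₗ[A] T k₀ A := (IsLocalRing.maximalIdeal A).liftQ _ hker
    have hf₀ : (f₀ 1).1 = χ₀ := by
      change ((1 : A) • (⟨χ₀, hmem⟩ : T k₀ A)).1 = χ₀
      rw [one_smul]
    refine ⟨⟨f₀, 0, ?_⟩⟩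
    intro h
    apply hψ
    have h1 : χ₀ = 0 := by
      rw [← hf₀, h]; rfl
    have h2 : χ₀ (1 : A) = 0 := by rw [h1]; rfl
    exact h2
  · intro v hv w
    have hne : ((v 1).1 : C k₀ A) ≠ 0 := by
      intro h0
      apply hv
      apply hdet
      rw [h0]; rfl
    obtain ⟨a₀, ha₀⟩ := exists_smul_eq (v 1).1 (w 1).1 (hkill v) (hkill w) hne
    refine ⟨a₀, ?_⟩
    apply hdet
    rw [LinearMap.toSpanSingleton_apply]
    exact ha₀.symm

end


/-- Let k₀ be a field and A a Noetherian local k₀-algebra with [k : k₀] finite, k the residue field.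
Then the topological dual A' = colim_n Hom_{k₀}(A/m^n, k₀), i.e. the submodule of Hom_{k₀}(A, k₀) of
forms killing some power of m (A acting through the source), is an injective hull of k (it is the
dualizing module of A). -/
theorem result (k₀ : Type u) [Field k₀] (A : Type u) [CommRing A] [IsLocalRing A] [IsNoetherianRing A] [Algebra k₀ A] [Module.Finite k₀ (A ⧸ IsLocalRing.maximalIdeal A)] : ∃ f : IsLocalRing.ResidueField A →ₗ[A] ↥(⨆ n : ℕ, Submodule.torsionBySet A ((ModuleCat.coextendScalars (algebraMap k₀ A)).obj (ModuleCat.of k₀ k₀)) ((IsLocalRing.maximalIdeal A ^ n : Ideal A) : Set A)), InjHull.IsInjectiveHull f := by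
  exact (Groth.Agent.S5155.result A (T k₀ A)).mpr ⟨injective_T, isPowerTorsion_T, isSimple_hom⟩

end Groth.Agent.S5175
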