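import Groth.Statements.S5179
import Groth.Agent.Lib.H14GeomDepth

set_option autoImplicit false
universe u
open CInt

namespace Groth.Agent.S5179

/-- Let A → A' be a flat local homomorphism of Noetherian local rings such that m_A A' is the maximal
ideal of A' and the residue field of A' is a separable extension of the residue field k of A
(separable in the sense that it is formally smooth over k; so A' ⊗_A k is a field separable over k).
Present the completions as Â ≅ B/I and Â' ≅ B'/I' with B, B' regular local rings of dimensions e,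
e'. Then e − μ(I) = e' − μ(I'), μ denoting the minimal number of generators: A and A' have the same
geometric depth. -/
theorem result (A A' : Type u) [CommRing A] [IsLocalRing A] [IsNoetherianRing A] [CommRing A'] [IsLocalRing A'] [IsNoetherianRing A'] [Algebra A A'] [IsLocalHom (algebraMap A A')] [Module.Flat A A'] (hmax : Ideal.map (algebraMap A A') (IsLocalRing.maximalIdeal A) = IsLocalRing.maximalIdeal A') (hsep : Algebra.FormallySmooth (IsLocalRing.ResidueField A) (IsLocalRing.ResidueField A')) (B B' : Type u) [CommRing B] [IsRegularLocalRing B] [CommRing B'] [IsRegularLocalRing B'] (I : Ideal B) (I' : Ideal B') (hpres : Nonempty (AdicCompletion (IsLocalRing.maximalIdeal A) A ≃+* B ⧸ I)) (hpres' : Nonempty (AdicCompletion (IsLocalRing.maximalIdeal A') A' ≃+* B' ⧸ I')) (e e' : ℕ) (he : ringKrullDim B = (e : WithBot ℕ∞)) (he' : ringKrullDim B' = (e' : WithBot ℕ∞)) : (e : ℤ) - (I.spanFinrank : ℤ) = (e' : ℤ) - (I'.spanFinrank : ℤ) := by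
  have _ : IsNoetherianRing (AdicCompletion (IsLocalRing.maximalIdeal A) A) :=
    Groth.Agent.Lib.AdicNoeth.isNoetherianRing_adicCompletion _
  have _ : IsNoetherianRing (AdicCompletion (IsLocalRing.maximalIdeal A') A') :=
    Groth.Agent.Lib.AdicNoeth.isNoetherianRing_adicCompletion _
  let _ : Algebra (AdicCompletion (IsLocalRing.maximalIdeal A) A)
      (AdicCompletion (IsLocalRing.maximalIdeal A') A') :=
    (Groth.Agent.Lib.H14ComplFlat.cplMap A A').toAlgebra
  have hloc : IsLocalHom (algebraMap (AdicCompletion (IsLocalRing.maximalIdeal A) A)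
      (AdicCompletion (IsLocalRing.maximalIdeal A') A')) :=
    Groth.Agent.Lib.H14ComplFlat.isLocalHom_cplMap A A'
  have hflat : Module.Flat (AdicCompletion (IsLocalRing.maximalIdeal A) A)
      (AdicCompletion (IsLocalRing.maximalIdeal A') A') :=
    Groth.Agent.Lib.H14ComplFlat.cplMap_flat A A'
  have hmax' : (IsLocalRing.maximalIdeal (AdicCompletion (IsLocalRing.maximalIdeal A) A)).map
      (algebraMap (AdicCompletion (IsLocalRing.maximalIdeal A) A)
        (AdicCompletion (IsLocalRing.maximalIdeal A') A')) =
      IsLocalRing.maximalIdeal (AdicCompletion (IsLocalRing.maximalIdeal A') A') := by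
    have h1 : Ideal.map (algebraMap A' (AdicCompletion (IsLocalRing.maximalIdeal A') A'))
        (IsLocalRing.maximalIdeal A') =
        Ideal.map (algebraMap A' (AdicCompletion (IsLocalRing.maximalIdeal A') A'))
          (Ideal.map (algebraMap A A') (IsLocalRing.maximalIdeal A)) := by
      rw [hmax]
    rw [AdicCompletion.maximalIdeal_eq_map (R := A), Ideal.map_map,
      AdicCompletion.maximalIdeal_eq_map (R := A'), h1, Ideal.map_map]
    congr 1
  obtain ⟨R, S, _, _, hR, hS, ρ, σ, hρ, hσ, hdim, hμ⟩ :=
    Groth.Agent.Lib.H14GeomDepth.exists_presentations_of_map_maximalIdeal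
      (AdicCompletion (IsLocalRing.maximalIdeal A) A)
      (AdicCompletion (IsLocalRing.maximalIdeal A') A') hmax'
  obtain ⟨e0⟩ := hpres
  obtain ⟨e0'⟩ := hpres'
  let f : B →+* AdicCompletion (IsLocalRing.maximalIdeal A) A :=
    (e0.symm : B ⧸ I →+* AdicCompletion (IsLocalRing.maximalIdeal A) A).comp
      (Ideal.Quotient.mk I)
  have hf : Function.Surjective f := e0.symm.surjective.comp Ideal.Quotient.mk_surjective
  have hkf : RingHom.ker f = I := by
    ext x
    rw [RingHom.mem_ker]
    change e0.symm (Ideal.Quotient.mk _ x) = 0 ↔ _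
    rw [map_eq_zero_iff _ e0.symm.injective, Ideal.Quotient.eq_zero_iff_mem]
  let f' : B' →+* AdicCompletion (IsLocalRing.maximalIdeal A') A' :=
    (e0'.symm : B' ⧸ I' →+* AdicCompletion (IsLocalRing.maximalIdeal A') A').comp
      (Ideal.Quotient.mk I')
  have hf' : Function.Surjective f' := e0'.symm.surjective.comp Ideal.Quotient.mk_surjective
  have hkf' : RingHom.ker f' = I' := by
    ext x
    rw [RingHom.mem_ker]
    change e0'.symm (Ideal.Quotient.mk _ x) = 0 ↔ _
    rw [map_eq_zero_iff _ e0'.symm.injective, Ideal.Quotient.eq_zero_iff_mem]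
  obtain ⟨dR, hdR, -⟩ := Groth.Agent.Lib.H14RegLocalHom.exists_nat_dim (B := R)
  have hdS : ringKrullDim S = dR := by rw [hdim, hdR]
  have k1 := Groth.Agent.Lib.H14CIDefect.defect_eq
    (AdicCompletion (IsLocalRing.maximalIdeal A) A) B R f hf ρ hρ e dR he hdR
  have k2 := Groth.Agent.Lib.H14CIDefect.defect_eq
    (AdicCompletion (IsLocalRing.maximalIdeal A') A') B' S f' hf' σ hσ e' dR he' hdS
  rw [hkf] at k1
  rw [hkf', hμ] at k2
  omega

end Groth.Agent.S5179
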