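import Groth.Statements.S5182
import Mathlib.RingTheory.Regular.RegularSequence
import Mathlib.RingTheory.Regular.Flat
import Mathlib.RingTheory.Filtration

set_option autoImplicit false
universe u
open CInt

namespace Groth.Agent.S5182


open RingTheory.Sequence Submodule

section Lemmas

variable {R : Type u} [CommRing R]

lemma isWeaklyRegular_of_subsingleton (rs : List R) :
    ∀ (M : Type u) [AddCommGroup M] [Module R M] [Subsingleton M], IsWeaklyRegular M rs := by
  induction rs with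
  | nil => intro M _ _ _; exact IsWeaklyRegular.nil R M
  | cons r rs ih =>
    intro M _ _ _
    rw [isWeaklyRegular_cons_iff]
    exact ⟨Function.injective_of_subsingleton _, ih (QuotSMulTop r M)⟩

lemma isWeaklyRegular_of_exact (rs : List R) :
    ∀ {M' M M'' : Type u} [AddCommGroup M'] [Module R M'] [AddCommGroup M] [Module R M]
      [AddCommGroup M''] [Module R M''] {f : M' →ₗ[R] M} {g : M →ₗ[R] M''}
      (_ : Function.Injective f) (_ : Function.Exact f g) (_ : Function.Surjective g)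
      (_ : IsWeaklyRegular M' rs) (_ : IsWeaklyRegular M'' rs), IsWeaklyRegular M rs := by
  induction rs with
  | nil => intro M' M M'' _ _ _ _ _ _ f g _ _ _ _ _; exact IsWeaklyRegular.nil R M
  | cons r rs ih =>
    intro M' M M'' _ _ _ _ _ _ f g hf hfg hg h1 h2
    rw [isWeaklyRegular_cons_iff] at h1 h2 ⊢
    refine ⟨isSMulRegular_of_range_eq_ker hf hfg.linearMap_ker_eq.symm h1.1 h2.1, ?_⟩
    refine ih (f := QuotSMulTop.map r f) (g := QuotSMulTop.map r g) ?_
      (QuotSMulTop.map_exact r hfg hg) (QuotSMulTop.map_surjective r hg) h1.2 h2.2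
    have h0 : Function.Exact (0 : M' →ₗ[R] M') f :=
      (LinearMap.exact_zero_iff_injective M' f).mpr hf
    have := QuotSMulTop.map_first_exact_on_four_term_exact_of_isSMulRegular_last h0 hfg h2.1
    have hz : QuotSMulTop.map r (0 : M' →ₗ[R] M') = 0 := by
      ext x; simp
    rw [hz] at this
    exact (LinearMap.exact_zero_iff_injective _ _).mp this

lemma mem_smul_top_quotient_iff {M : Type u} [AddCommGroup M] [Module R M] (S : Submodule R M)
    (I : Ideal R) (x : M) :
    S.mkQ x ∈ (I • ⊤ : Submodule R (M ⧸ S)) ↔ x ∈ I • (⊤ : Submodule R M) ⊔ S := by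
  have h1 : (I • ⊤ : Submodule R (M ⧸ S)) = map S.mkQ (I • (⊤ : Submodule R M)) := by
    rw [Submodule.map_smul'', Submodule.map_top, Submodule.range_mkQ]
  rw [h1, ← Submodule.mem_comap, Submodule.comap_map_mkQ, sup_comm]

lemma isWeaklyRegular_of_forall_quot [IsLocalRing R] [IsNoetherianRing R] (J : Ideal R)
    (hJ : J ≠ ⊤) {M : Type u} [AddCommGroup M] [Module R M] [Module.Finite R M] (rs : List R)
    (h : ∀ n : ℕ, IsWeaklyRegular (M ⧸ (J ^ n • (⊤ : Submodule R M))) rs) :
    IsWeaklyRegular M rs := by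
  rw [isWeaklyRegular_iff]
  intro i hi
  rw [isSMulRegular_quotient_iff_mem_of_smul_mem]
  intro x hx
  set N := (Ideal.ofList (rs.take i) • ⊤ : Submodule R M) with hN
  have key : ∀ n, x ∈ N ⊔ J ^ n • (⊤ : Submodule R M) := by
    intro n
    have h1 := ((isWeaklyRegular_iff _ _).mp (h n)) i hi
    rw [isSMulRegular_quotient_iff_mem_of_smul_mem] at h1
    have h2 := h1 ((J ^ n • (⊤ : Submodule R M)).mkQ x) (by
      rw [← map_smul, mem_smul_top_quotient_iff]; exact mem_sup_left hx)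
    rw [mem_smul_top_quotient_iff] at h2
    exact h2
  have hk := Ideal.iInf_pow_smul_eq_bot_of_isLocalRing (M := M ⧸ N) J hJ
  have hx' : N.mkQ x ∈ (⨅ n : ℕ, J ^ n • ⊤ : Submodule R (M ⧸ N)) := by
    rw [mem_iInf]; intro n; rw [mem_smul_top_quotient_iff, sup_comm]; exact key n
  rw [hk, mem_bot, mkQ_apply, Quotient.mk_eq_zero] at hx'
  exact hx'

end Lemmas

section Main

variable (A : Type u) [CommRing A] (J : Ideal A)
  (hflat : ∀ k : ℕ, Module.Flat (A ⧸ J) (↥(J ^ k) ⧸ (J • (⊤ : Submodule A ↥(J ^ k)))))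
  (fs : List A) (hreg : IsWeaklyRegular (A ⧸ J) fs)

include hflat hreg in
lemma part2 (k : ℕ) :
    IsWeaklyRegular (↥(J ^ k) ⧸ (J • (⊤ : Submodule A ↥(J ^ k)))) fs := by
  have h1 : IsWeaklyRegular (A ⧸ J) (fs.map (algebraMap A (A ⧸ J))) :=
    (isWeaklyRegular_map_algebraMap_iff (S := A ⧸ J) (M := A ⧸ J) fs).mpr hreg
  haveI := hflat k
  have h2 := h1.isWeaklyRegular_lTensor
    (M₂ := (↥(J ^ k) ⧸ (J • (⊤ : Submodule A ↥(J ^ k)))))
  have h3 := (LinearEquiv.isWeaklyRegular_congr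
    (TensorProduct.rid (A ⧸ J) (↥(J ^ k) ⧸ (J • (⊤ : Submodule A ↥(J ^ k))))) _).mp h2
  exact (isWeaklyRegular_map_algebraMap_iff (S := A ⧸ J)
    (M := (↥(J ^ k) ⧸ (J • (⊤ : Submodule A ↥(J ^ k))))) fs).mp h3

/-- `J^{k+n}/J^{k+n+1}` is the image of `J^n J^k` in `J^k / J^{n+1} J^k`. -/
noncomputable def grEquiv (k n : ℕ) :
    (↥(J ^ (k + n)) ⧸ (J • (⊤ : Submodule A ↥(J ^ (k + n))))) ≃ₗ[A]
      ↥((J ^ n • (⊤ : Submodule A ↥(J ^ k))).map
        (J ^ (n + 1) • (⊤ : Submodule A ↥(J ^ k))).mkQ) := by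
  let ιn : ↥(J ^ (k + n)) →ₗ[A] ↥(J ^ k) :=
    Submodule.inclusion (Ideal.pow_le_pow_right (Nat.le_add_right k n))
  let φ : ↥(J ^ (k + n)) →ₗ[A] (↥(J ^ k) ⧸ (J ^ (n + 1) • (⊤ : Submodule A ↥(J ^ k)))) :=
    (J ^ (n + 1) • (⊤ : Submodule A ↥(J ^ k))).mkQ ∘ₗ ιn
  have hker : LinearMap.ker φ = J • (⊤ : Submodule A ↥(J ^ (k + n))) := by
    ext ⟨x, hx⟩
    rw [LinearMap.mem_ker, LinearMap.comp_apply, mkQ_apply, Quotient.mk_eq_zero,
      Submodule.mem_smul_top_iff, Submodule.mem_smul_top_iff]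
    change x ∈ J ^ (n + 1) • J ^ k ↔ x ∈ J • J ^ (k + n)
    rw [smul_eq_mul, smul_eq_mul, ← pow_add, ← pow_succ']
    rw [show n + 1 + k = k + n + 1 by omega]
  have hT : (J ^ n • (⊤ : Submodule A ↥(J ^ k))) = LinearMap.range ιn := by
    ext ⟨x, hx⟩
    rw [Submodule.mem_smul_top_iff, LinearMap.mem_range]
    change x ∈ J ^ n • J ^ k ↔ _
    rw [smul_eq_mul, ← pow_add, add_comm n k]
    constructor
    · intro h; exact ⟨⟨x, h⟩, rfl⟩
    · rintro ⟨⟨y, hy⟩, h⟩
      have : y = x := congrArg Subtype.val h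
      exact this ▸ hy
  have hrange : LinearMap.range φ = (J ^ n • (⊤ : Submodule A ↥(J ^ k))).map
        (J ^ (n + 1) • (⊤ : Submodule A ↥(J ^ k))).mkQ := by
    rw [LinearMap.range_comp, hT]
  exact (Submodule.quotEquivOfEq _ _ hker.symm).trans
    ((LinearMap.quotKerEquivRange φ).trans (LinearEquiv.ofEq _ _ hrange))

include hflat hreg in
lemma quot_pow (k n : ℕ) :
    IsWeaklyRegular (↥(J ^ k) ⧸ (J ^ n • (⊤ : Submodule A ↥(J ^ k)))) fs := by
  induction n with
  | zero =>
    haveI : Subsingleton (↥(J ^ k) ⧸ (J ^ 0 • (⊤ : Submodule A ↥(J ^ k)))) := by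
      rw [pow_zero, Ideal.one_eq_top, Submodule.top_smul]
      exact Submodule.Quotient.subsingleton_iff.mpr rfl
    exact isWeaklyRegular_of_subsingleton fs _
  | succ n ih =>
    set S := (J ^ (n + 1) • (⊤ : Submodule A ↥(J ^ k))) with hS
    set T := (J ^ n • (⊤ : Submodule A ↥(J ^ k))) with hT
    have hST : S ≤ T := Submodule.smul_mono_left (Ideal.pow_le_pow_right (Nat.le_succ n))
    set N := T.map S.mkQ with hN
    have h1 : IsWeaklyRegular N fs :=
      ((grEquiv A J k n).isWeaklyRegular_congr fs).mp (part2 A J hflat fs hreg (k + n))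
    have h2 : IsWeaklyRegular ((↥(J ^ k) ⧸ S) ⧸ N) fs :=
      ((Submodule.quotientQuotientEquivQuotient S T hST).isWeaklyRegular_congr fs).mpr ih
    exact isWeaklyRegular_of_exact fs N.injective_subtype
      (LinearMap.exact_subtype_mkQ N) N.mkQ_surjective h1 h2

end Main

theorem result' (A : Type u) [CommRing A] [IsLocalRing A] [IsNoetherianRing A] (J : Ideal A)
    (hJ : J ≠ ⊤)
    (hflat : ∀ k : ℕ, Module.Flat (A ⧸ J) (↥(J ^ k) ⧸ (J • (⊤ : Submodule A ↥(J ^ k)))))
    (fs : List A) (hreg : RingTheory.Sequence.IsWeaklyRegular (A ⧸ J) fs) (k : ℕ) :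
    RingTheory.Sequence.IsWeaklyRegular (↥(J ^ k)) fs ∧
      RingTheory.Sequence.IsWeaklyRegular (↥(J ^ k) ⧸ (J • (⊤ : Submodule A ↥(J ^ k)))) fs :=
  ⟨isWeaklyRegular_of_forall_quot J hJ fs (fun n => quot_pow A J hflat fs hreg k n),
    part2 A J hflat fs hreg k⟩


/-- In the local algebraic form to which its proof reduces. Let A be a Noetherian local ring, J a proper
ideal such that A is normally flat along J, i.e. every J^k/J^{k+1} is a flat (equivalently free)
A/J-module, and f_1, …, f_r elements of A whose images form a weakly regular sequence on A/J (each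
f_i a non-zero-divisor on A/J modulo the preceding ones). Then for every k ≥ 0 the f_i form a weakly
regular sequence on the A-module J^k and on the A-module J^k/J^{k+1}; in particular (k = 0) on A
itself, so that they are regular on the Rees algebra ⊕ J^k and on the associated graded ring ⊕
J^k/J^{k+1}. -/
theorem result (A : Type u) [CommRing A] [IsLocalRing A] [IsNoetherianRing A] (J : Ideal A) (hJ : J ≠ ⊤) (hflat : ∀ k : ℕ, Module.Flat (A ⧸ J) (↥(J ^ k) ⧸ (J • (⊤ : Submodule A ↥(J ^ k))))) (fs : List A) (hreg : RingTheory.Sequence.IsWeaklyRegular (A ⧸ J) fs) (k : ℕ) : RingTheory.Sequence.IsWeaklyRegular (↥(J ^ k)) fs ∧ RingTheory.Sequence.IsWeaklyRegular (↥(J ^ k) ⧸ (J • (⊤ : Submodule A ↥(J ^ k)))) fs := by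
  exact result' A J hJ hflat fs hreg k

end Groth.Agent.S5182
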