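import Groth.Statements.S5186
import Groth.Agent.Lib.SSWeakSerre
import Groth.Agent.Lib.GrothSS21C
import Groth.Agent.Lib.PseudoCohNoeth
import Groth.Agent.Lib.H90DevHub2
import Groth.Agent.Lib.RestrictExact
import Groth.Agent.S0036

set_option autoImplicit false
universe u
open CategoryTheory AlgebraicGeometry
open Coherent

namespace Groth.Agent.S5186

open CategoryTheory.Limits in
/-- Coherent modules on a locally Noetherian scheme form a weak Serre class inside all
`O`-modules. -/
theorem weakSerre_isCoh (S : Scheme.{u}) [IsLocallyNoetherian S] :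
    Groth.Agent.Lib.SSWeakSerre.WeakSerre (C := S.Modules) (fun M => Coh.IsCoh M) where
  of_iso e h := Groth.Agent.Lib.H90CohRestrict.isCoh_of_iso e h
  of_isZero h := Groth.Agent.Lib.H90DevHub2.isCoh_of_isZero h
  kernel {M N} φ hM hN := by
    have : N.IsQuasicoherent := hN.1
    exact Groth.Agent.Lib.H90OXModExact.isCoh_kernel φ hM
  cokernel {M N} φ hM hN := by
    have : M.IsQuasicoherent := hM.1
    exact Groth.Agent.Lib.H90OXModExact.isCoh_cokernel φ hN
  ext T hT h1 h3 := Groth.Agent.Lib.PseudoCohNoeth.isCoh_of_shortExact hT h1 h3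

/-- isomorphic functors have isomorphic right derived functors -/
noncomputable def rightDerivedIsoOfIso {A B : Type*} [Category* A] [Category* B] [Abelian A]
    [Abelian B] [HasInjectiveResolutions A] {F F' : A ⥤ B} [F.Additive] [F'.Additive] (e : F ≅ F')
    (n : ℕ) : F.rightDerived n ≅ F'.rightDerived n where
  hom := NatTrans.rightDerived e.hom n
  inv := NatTrans.rightDerived e.inv n
  hom_inv_id := by rw [← NatTrans.rightDerived_comp, e.hom_inv_id, NatTrans.rightDerived_id]
  inv_hom_id := by rw [← NatTrans.rightDerived_comp, e.inv_hom_id, NatTrans.rightDerived_id]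

/-- Let f : X → S be a proper morphism of schemes with S locally Noetherian, U an open subset of X with
inclusion g : U → X, h = f ∘ g : U → S, F an O_U-module and n ≥ 0. If the higher direct images R^i
g_*(F) are coherent O_X-modules for all i ≤ n, then the higher direct images R^i h_*(F) are coherent
O_S-modules for all i ≤ n. (The existence of injective resolutions in the module categories is
carried as instance arguments.) -/
theorem result {X S : Scheme.{u}} (f : X ⟶ S) [IsProper f] [IsLocallyNoetherian S] (U : X.Opens) [HasInjectiveResolutions (U : Scheme.{u}).Modules] [HasInjectiveResolutions X.Modules] (F : (U : Scheme.{u}).Modules) (n : ℕ) (hg : ∀ i : ℕ, i ≤ n → Coh.IsCoh ((Coh.Rpush U.ι i).obj F)) (i : ℕ) (hi : i ≤ n) : Coh.IsCoh ((Coh.Rpush (U.ι ≫ f) i).obj F) := by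
  have hP := weakSerre_isCoh S
  -- the Grothendieck spectral sequence of `g_* ⋙ f_*`
  have hT : ∀ Q : (U : Scheme.{u}).Modules, Injective Q → ∀ q : ℕ, 0 < q →
      Limits.IsZero (((Scheme.Modules.pushforward f).rightDerived q).obj
        ((Scheme.Modules.pushforward U.ι).obj Q)) := by
    intro Q hQ q hq
    have : (Scheme.Modules.pushforward U.ι).PreservesInjectiveObjects :=
      Functor.preservesInjectiveObjects_of_adjunction_of_preservesMonomorphisms
        (Scheme.Modules.restrictAdjunction U.ι)
    have : Injective ((Scheme.Modules.pushforward U.ι).obj Q) :=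
      (Scheme.Modules.pushforward U.ι).injective_obj Q
    obtain ⟨q, rfl⟩ := Nat.exists_eq_succ_of_ne_zero hq.ne'
    exact Functor.isZero_rightDerived_obj_injective_succ _ q _
  obtain ⟨Z₀, hZ₀⟩ := Limits.HasZeroObject.zero (C := S.Modules)
  obtain ⟨E, a, hfin, -, hE2⟩ :=
    Groth.Agent.Lib.GrothSS21.exists_grothendieck_spectralSequence_gen
      (Scheme.Modules.pushforward U.ι) (Scheme.Modules.pushforward f) hT F
      Z₀ hZ₀
      (fun m => (Coh.Rpush (U.ι ≫ f) m).obj F)
      (fun m => ⟨(rightDerivedIsoOfIso (Scheme.Modules.pushforwardComp U.ι f) m).app F⟩)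
      (fun p q => (Coh.Rpush f p).obj ((Coh.Rpush U.ι q).obj F))
      (fun p q => ⟨Iso.refl _⟩)
  have key := Groth.Agent.Lib.SSWeakSerre.prop_abutment_of_E2 hP E a (n : ℤ)
    (fun p q hpq => by
      obtain ⟨e⟩ := hE2 p q
      rw [if_neg (by lia)] at e
      exact hZ₀.of_iso e)
    (fun p q hp hq hqn => by
      obtain ⟨e⟩ := hE2 p q
      rw [if_pos ⟨hp, hq⟩] at e
      refine hP.of_iso e.symm ?_
      exact Groth.Agent.S0036.result f _ (hg q.toNat (by lia)) p.toNat)
    (i : ℤ) (by exact_mod_cast hi) (hfin _)
  simpa using key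

end Groth.Agent.S5186
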