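import Groth.Statements.S5212
import Mathlib.RingTheory.LocalRing.ResidueField.Fiber
import Mathlib.RingTheory.Norm.Basic
import Mathlib.LinearAlgebra.Charpoly.BaseChange

set_option autoImplicit false
universe u
open GrpQ

namespace Groth.Agent.S5212

open TensorProduct in
theorem isUnit_iff_isUnit_norm {R S : Type*} [CommRing R] [CommRing S] [Algebra R S]
    [Module.Free R S] [Module.Finite R S] (x : S) : IsUnit x ↔ IsUnit (Algebra.norm R x) := by
  rw [Algebra.norm_apply, ← LinearMap.isUnit_iff_isUnit_det]
  constructor
  · intro h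
    exact h.map (Algebra.lmul R S)
  · intro h
    have hs : Function.Surjective (Algebra.lmul R S x) := ((Module.End.isUnit_iff _).1 h).2
    obtain ⟨y, hy⟩ := hs 1
    exact IsUnit.of_mul_eq_one y (by simpa using hy)

open TensorProduct in
theorem norm_one_tmul {A A' : Type u} [CommRing A] [CommRing A'] [Algebra A A']
    [Module.Free A A'] [Module.Finite A A'] (K : Type u) [CommRing K] [Algebra A K] (a : A') :
    Algebra.norm K ((1 : K) ⊗ₜ[A] a) = algebraMap A K (Algebra.norm A a) := by
  rw [Algebra.norm_apply, Algebra.norm_apply, ← LinearMap.det_baseChange]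
  congr 1
  ext x
  simp

/-- For `A'` finite and free as an `A`-module, a prime `p` of `A` and `a ∈ A'`, the element `a` belongs
to some prime of `A'` lying over `p` if and only if its norm belongs to `p`. (The published
statement allows `A'` projective of constant rank over `A`; this row takes `A'` free, where the norm
is the determinant of multiplication.) -/
theorem result {A A' : Type u} [CommRing A] [CommRing A'] [Algebra A A']
    [Module.Free A A'] [Module.Finite A A'] (p : Ideal A) [p.IsPrime] (a : A') :
    (∃ q : Ideal A', q.IsPrime ∧ q.LiesOver p ∧ a ∈ q) ↔ Algebra.norm A a ∈ p := by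
  have h1 : Algebra.norm A a ∈ p ↔ ¬ IsUnit ((1 : p.ResidueField) ⊗ₜ[A] a : p.Fiber A') := by
    rw [isUnit_iff_isUnit_norm (R := p.ResidueField), norm_one_tmul, isUnit_iff_ne_zero, not_not,
      Ideal.algebraMap_residueField_eq_zero]
  rw [h1]
  constructor
  · rintro ⟨q, hq, hqp, haq⟩ hu
    let Q := PrimeSpectrum.primesOverOrderIsoFiber A A' p ⟨q, hq, hqp⟩
    have hQ : q = Q.asIdeal.comap Algebra.TensorProduct.includeRight := by
      have := (PrimeSpectrum.primesOverOrderIsoFiber A A' p).symm_apply_apply ⟨q, hq, hqp⟩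
      rw [Subtype.ext_iff, PrimeSpectrum.coe_primesOverOrderIsoFiber_symm_apply] at this
      exact this.symm
    rw [hQ, Ideal.mem_comap] at haq
    exact Q.2.ne_top (Ideal.eq_top_of_isUnit_mem _ haq hu)
  · intro hnu
    obtain ⟨M, hM, haM⟩ := exists_max_ideal_of_mem_nonunits hnu
    have hMp : M.IsPrime := hM.isPrime
    let q := (PrimeSpectrum.primesOverOrderIsoFiber A A' p).symm ⟨M, hMp⟩
    refine ⟨q.1, q.2.1, q.2.2, ?_⟩
    rw [PrimeSpectrum.coe_primesOverOrderIsoFiber_symm_apply, Ideal.mem_comap]
    exact haM

end Groth.Agent.S5212
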