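import Groth.Statements.S5213
import Mathlib.LinearAlgebra.Matrix.Polynomial
import Mathlib.LinearAlgebra.Determinant
import Mathlib.Algebra.Polynomial.Roots
import Mathlib.RingTheory.Jacobson.Ideal
import Mathlib.RingTheory.LocalRing.ResidueField.Basic

set_option autoImplicit false
universe u
open GrpQ

namespace Groth.Agent.S5213

open Module in
/-- A determinant which lies in a proper ideal on all tuples from a spanning set would be
identically in the ideal. -/
theorem exists_det_notMem {A M : Type*} [CommRing A] [AddCommGroup M] [Module A M]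
    {ι : Type*} [Fintype ι] [DecidableEq ι] (e : Basis ι A M) (I : Ideal A) (hI : I ≠ ⊤)
    (S : Set M) (hS : Submodule.span A S = ⊤) :
    ∃ y : ι → M, (∀ j, y j ∈ S) ∧ e.det y ∉ I := by
  by_contra h
  push Not at h
  have key : ∀ s : Finset ι, ∀ z : ι → M, (∀ i, i ∉ s → z i ∈ S) → e.det z ∈ I := by
    intro s
    induction s using Finset.induction_on with
    | empty => intro z hz; exact h z (fun j => hz j (Finset.notMem_empty j))
    | insert a s ha ih =>
      intro z hz
      let L : M →ₗ[A] A := e.det.toMultilinearMap.toLinearMap z a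
      have hle : Submodule.span A S ≤ Submodule.comap L I := by
        rw [Submodule.span_le]
        intro v hv
        change e.det.toMultilinearMap.toLinearMap z a v ∈ I
        rw [MultilinearMap.toLinearMap_apply]
        apply ih
        intro i hi
        by_cases hia : i = a
        · subst hia; simpa using hv
        · rw [Function.update_of_ne hia]
          exact hz i (by simp [hia, hi])
      rw [hS] at hle
      have := hle (Submodule.mem_top (x := z a))
      change e.det.toMultilinearMap.toLinearMap z a (z a) ∈ I at this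
      rwa [MultilinearMap.toLinearMap_apply, Function.update_eq_self] at this
  have h1 : e.det e ∈ I := key Finset.univ e (fun i hi => absurd (Finset.mem_univ i) hi)
  rw [e.det_self] at h1
  exact hI ((Ideal.eq_top_iff_one I).2 h1)

open Module Polynomial in
theorem step {B A M : Type u} [CommRing B] [CommRing A] [IsLocalRing B]
    [Infinite (IsLocalRing.ResidueField B)] [Algebra B A]
    (hBA : (IsLocalRing.maximalIdeal B).map (algebraMap B A) ≤ (⊥ : Ideal A).jacobson)
    [AddCommGroup M] [Module A M] [Module B M] [IsScalarTower B A M]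
    {n : ℕ} (e : Basis (Fin n) A M)
    (s : Finset (MaximalSpectrum A)) (x y : Fin n → M)
    (hgood : ∀ m ∈ s, e.det x ∉ m.asIdeal ∨ e.det y ∉ m.asIdeal) :
    ∃ b : B, ∀ m ∈ s, e.det (fun j => x j + b • y j) ∉ m.asIdeal := by
  classical
  let f : A[X] := Matrix.det ((X : A[X]) • (e.toMatrix y).map C + (e.toMatrix x).map C)
  have hev : ∀ a : A, f.eval a = Matrix.det (a • e.toMatrix y + e.toMatrix x) := by
    intro a
    change Polynomial.evalRingHom a f = _
    rw [RingHom.map_det]
    congr 1
    ext i j
    simp
    exact mul_comm _ _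
  have hdet : ∀ b : B, e.det (fun j => x j + b • y j) = f.eval (algebraMap B A b) := by
    intro b
    rw [hev, Basis.det_apply]
    congr 1
    ext i j
    rw [Matrix.add_apply, Matrix.smul_apply, Basis.toMatrix_apply, Basis.toMatrix_apply,
      Basis.toMatrix_apply, map_add, Finsupp.add_apply, ← algebraMap_smul A b (y j), map_smul,
      Finsupp.smul_apply, add_comm]
  have hf0 : f.coeff 0 = e.det x := by
    rw [Basis.det_apply]; exact coeff_det_X_add_C_zero _ _
  have hfn : f.coeff n = e.det y := by
    rw [Basis.det_apply]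
    have := coeff_det_X_add_C_card (e.toMatrix y) (e.toMatrix x)
    rwa [Fintype.card_fin] at this
  have hne : ∀ m ∈ s, f.map (Ideal.Quotient.mk m.asIdeal) ≠ 0 := by
    intro m hm h0
    rcases hgood m hm with h | h
    · apply h
      rw [← hf0, ← Ideal.Quotient.eq_zero_iff_mem, ← Polynomial.coeff_map, h0, coeff_zero]
    · apply h
      rw [← hfn, ← Ideal.Quotient.eq_zero_iff_mem, ← Polynomial.coeff_map, h0, coeff_zero]
  have hker : ∀ (m : MaximalSpectrum A) (b : B), b ∈ IsLocalRing.maximalIdeal B →
      ((Ideal.Quotient.mk m.asIdeal).comp (algebraMap B A)) b = 0 := by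
    intro m b hb
    rw [RingHom.comp_apply, Ideal.Quotient.eq_zero_iff_mem]
    have h1 : algebraMap B A b ∈ (⊥ : Ideal A).jacobson := hBA (Ideal.mem_map_of_mem _ hb)
    exact (sInf_le (show m.asIdeal ∈ {J : Ideal A | ⊥ ≤ J ∧ J.IsMaximal} from
      ⟨bot_le, m.isMaximal⟩)) h1
  let ψ : ∀ m : MaximalSpectrum A, IsLocalRing.ResidueField B →+* A ⧸ m.asIdeal := fun m =>
    Ideal.Quotient.lift _ ((Ideal.Quotient.mk m.asIdeal).comp (algebraMap B A)) (hker m)
  let T : Set (IsLocalRing.ResidueField B) :=
    ⋃ m : {m // m ∈ s}, {c | (f.map (Ideal.Quotient.mk m.1.asIdeal)).IsRoot (ψ m.1 c)}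
  have hT : T.Finite := by
    refine Set.finite_iUnion (fun m => ?_)
    exact (finite_setOfPred_isRoot (hne m.1 m.2)).preimage ((ψ m.1).injective.injOn)
  obtain ⟨c, hc⟩ := hT.exists_notMem
  obtain ⟨b, rfl⟩ := Ideal.Quotient.mk_surjective c
  refine ⟨b, fun m hm hmem => hc ?_⟩
  simp only [T, Set.mem_iUnion, Set.mem_ofPred_eq]
  refine ⟨⟨m, hm⟩, ?_⟩
  rw [hdet, ← Ideal.Quotient.eq_zero_iff_mem, ← Polynomial.eval_map_apply] at hmem
  exact hmem

/-- Let `B` be a local ring with infinite residue field, `A` a semi-local ring, `B → A` a ring map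
carrying the maximal ideal of `B` into the Jacobson radical of `A`, `M` a finite free `A`-module and
`N` a `B`-submodule of `M` generating `M` as an `A`-module. Then `N` contains a basis of `M` over
`A`. -/
theorem result {B A M : Type u} [CommRing B] [CommRing A]
    [IsLocalRing B] [Infinite (IsLocalRing.ResidueField B)] [Algebra B A]
    [Finite (MaximalSpectrum A)]
    (hBA : (IsLocalRing.maximalIdeal B).map (algebraMap B A) ≤ (⊥ : Ideal A).jacobson)
    [AddCommGroup M] [Module A M] [Module B M] [IsScalarTower B A M]
    [Module.Free A M] [Module.Finite A M]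
    (N : Submodule B M) (hN : Submodule.span A (N : Set M) = ⊤) :
    ∃ b : Module.Basis (Fin (Module.finrank A M)) A M, ∀ i, b i ∈ N := by
  classical
  by_cases hA : Subsingleton A
  · have : Subsingleton M := Module.subsingleton A M
    refine ⟨Module.Basis.ofRepr (LinearEquiv.ofSubsingleton M _), fun i => ?_⟩
    rw [Subsingleton.elim (Module.Basis.ofRepr (LinearEquiv.ofSubsingleton M _) i) 0]
    exact N.zero_mem
  · have hA' : Nontrivial A := not_subsingleton_iff_nontrivial.1 hA
    let e : Module.Basis (Fin (Module.finrank A M)) A M := Module.finBasis A M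
    have key : ∀ s : Finset (MaximalSpectrum A), ∃ x : Fin (Module.finrank A M) → M,
        (∀ j, x j ∈ N) ∧ ∀ m ∈ s, e.det x ∉ m.asIdeal := by
      intro s
      induction s using Finset.induction_on with
      | empty => exact ⟨fun _ => 0, fun _ => N.zero_mem, by simp⟩
      | insert m s hm ih =>
        obtain ⟨x, hxN, hx⟩ := ih
        obtain ⟨y, hyN, hy⟩ := exists_det_notMem e m.asIdeal m.isMaximal.ne_top (N : Set M) hN
        obtain ⟨b, hb⟩ := step hBA e (insert m s) x y (by
          intro l hl
          rcases Finset.mem_insert.1 hl with rfl | hl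
          · exact Or.inr hy
          · exact Or.inl (hx l hl))
        exact ⟨fun j => x j + b • y j, fun j => N.add_mem (hxN j) (N.smul_mem b (hyN j)), hb⟩
    have : Fintype (MaximalSpectrum A) := Fintype.ofFinite _
    obtain ⟨x, hxN, hx⟩ := key Finset.univ
    have hu : IsUnit (e.det x) := by
      by_contra hnu
      obtain ⟨m, hm, hmem⟩ := exists_max_ideal_of_mem_nonunits hnu
      exact hx ⟨m, hm⟩ (Finset.mem_univ _) hmem
    obtain ⟨hli, hsp⟩ := e.is_basis_iff_det.2 hu
    exact ⟨Module.Basis.mk hli hsp.ge, fun i => by rw [Module.Basis.mk_apply]; exact hxN i⟩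

end Groth.Agent.S5213
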