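import Groth.Statements.S5220
import Groth.Agent.Lib.UEE

set_option autoImplicit false
set_option backward.isDefEq.respectTransparency false
open CategoryTheory CategoryTheory.Limits
universe w v₁ u₁
open GrpQ

namespace Groth.Agent.S5220

/-- In a category with pullbacks: let `d₀ d₁ : X₁ ⇉ X₀` admit a common section and let `f₀ : Y₀ ⟶ X₀` be
an effective epimorphism which is also a universal epimorphism. For the inverse-image pair `Y₁ :=
(Y₀ ×_{X₀,d₁} X₁) ×_{d₀,X₀} Y₀ ⇉ Y₀`, every morphism out of `Y₀` equalized by the two projections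
descends uniquely to a morphism out of `X₀` equalized by `d₀, d₁`. (Only the common section of the
groupoid structure is used.) -/
theorem result {C : Type u₁} [Category.{v₁} C] [HasPullbacks C]
    {X₁ X₀ Y₀ : C} (d₀ d₁ : X₁ ⟶ X₀) (s : X₀ ⟶ X₁) (hs₀ : s ≫ d₀ = 𝟙 X₀) (hs₁ : s ≫ d₁ = 𝟙 X₀)
    (f₀ : Y₀ ⟶ X₀) [EffectiveEpi f₀]
    (hf : MorphismProperty.universally (MorphismProperty.epimorphisms C) f₀)
    {T : C} (g : Y₀ ⟶ T)
    (hg : (pullback.fst (pullback.snd f₀ d₁ ≫ d₀) f₀ ≫ pullback.fst f₀ d₁) ≫ g =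
      pullback.snd (pullback.snd f₀ d₁ ≫ d₀) f₀ ≫ g) :
    ∃! h : X₀ ⟶ T, d₁ ≫ h = d₀ ≫ h ∧ f₀ ≫ h = g := by
  -- a point of `Y₁` from a triple
  have key : ∀ {Z : C} (a b : Z ⟶ Y₀) (x : Z ⟶ X₁), a ≫ f₀ = x ≫ d₁ → x ≫ d₀ = b ≫ f₀ →
      a ≫ g = b ≫ g := by
    intro Z a b x h1 h2
    let l1 : Z ⟶ pullback f₀ d₁ := pullback.lift a x h1
    let l : Z ⟶ pullback (pullback.snd f₀ d₁ ≫ d₀) f₀ := pullback.lift l1 b (by
      simp [l1, h2])
    have := congrArg (fun m => l ≫ m) hg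
    simpa [l, l1] using this
  have hk : ∀ {Z : C} (a b : Z ⟶ Y₀), a ≫ f₀ = b ≫ f₀ → a ≫ g = b ≫ g := by
    intro Z a b hab
    refine key a b (a ≫ f₀ ≫ s) ?_ ?_
    · rw [Category.assoc, Category.assoc, hs₁, Category.comp_id]
    · rw [Category.assoc, Category.assoc, hs₀, Category.comp_id, hab]
  have hepi : Epi f₀ := inferInstance
  refine ⟨EffectiveEpi.desc f₀ g hk, ⟨?_, EffectiveEpi.fac f₀ g hk⟩, ?_⟩
  · obtain ⟨Z', π, k₁, k₂, hπ, hk₁, hk₂⟩ := Groth.Agent.Lib.UEE.exists_epi_lifts f₀ hf d₁ d₀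
    rw [← cancel_epi π, ← Category.assoc, ← Category.assoc, ← hk₁, ← hk₂, Category.assoc,
      Category.assoc, EffectiveEpi.fac]
    exact key k₁ k₂ π hk₁ hk₂.symm
  · rintro h' ⟨-, h2⟩
    exact EffectiveEpi.uniq f₀ g hk h' h2

end Groth.Agent.S5220
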