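import Groth.Statements.S5221
import Groth.Agent.S5220

set_option autoImplicit false
open CategoryTheory CategoryTheory.Limits
universe w v₁ u₁
open GrpQ

namespace Groth.Agent.S5221

/-- Existence part: in a category with pullbacks: with `d₀ d₁ : X₁ ⇉ X₀` admitting a common section and
`f₀ : Y₀ ⟶ X₀` an effective and universal epimorphism, the pair `(d₀, d₁)` has a coequalizer if and
only if its inverse-image pair on `Y₀` has one. -/
theorem result {C : Type u₁} [Category.{v₁} C] [HasPullbacks C]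
    {X₁ X₀ Y₀ : C} (d₀ d₁ : X₁ ⟶ X₀) (s : X₀ ⟶ X₁) (hs₀ : s ≫ d₀ = 𝟙 X₀) (hs₁ : s ≫ d₁ = 𝟙 X₀)
    (f₀ : Y₀ ⟶ X₀) [EffectiveEpi f₀]
    (hf : MorphismProperty.universally (MorphismProperty.epimorphisms C) f₀) :
    HasCoequalizer d₁ d₀ ↔
      HasCoequalizer (pullback.fst (pullback.snd f₀ d₁ ≫ d₀) f₀ ≫ pullback.fst f₀ d₁)
        (pullback.snd (pullback.snd f₀ d₁ ≫ d₀) f₀) := by
  have hepi : Epi f₀ := inferInstance
  -- a map coequalizing `d₁, d₀` gives a map coequalizing the inverse-image pair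
  have hpull : ∀ {T : C} (h : X₀ ⟶ T), d₁ ≫ h = d₀ ≫ h →
      (pullback.fst (pullback.snd f₀ d₁ ≫ d₀) f₀ ≫ pullback.fst f₀ d₁) ≫ f₀ ≫ h =
        pullback.snd (pullback.snd f₀ d₁ ≫ d₀) f₀ ≫ f₀ ≫ h := by
    intro T h hh
    have c1 : pullback.fst f₀ d₁ ≫ f₀ = pullback.snd f₀ d₁ ≫ d₁ := pullback.condition
    have c2 : pullback.fst (pullback.snd f₀ d₁ ≫ d₀) f₀ ≫ pullback.snd f₀ d₁ ≫ d₀ =
        pullback.snd (pullback.snd f₀ d₁ ≫ d₀) f₀ ≫ f₀ := pullback.condition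
    rw [Category.assoc, reassoc_of% c1, hh, ← reassoc_of% c2]
  constructor
  · intro hco
    have w : d₁ ≫ coequalizer.π d₁ d₀ = d₀ ≫ coequalizer.π d₁ d₀ := coequalizer.condition d₁ d₀
    refine HasColimit.mk ⟨Cofork.ofπ (f₀ ≫ coequalizer.π d₁ d₀) (hpull _ w), ?_⟩
    refine Cofork.IsColimit.mk _ (fun t => ?_) (fun t => ?_) (fun t m hm => ?_)
    · exact coequalizer.desc
        (Groth.Agent.S5220.result d₀ d₁ s hs₀ hs₁ f₀ hf t.π t.condition).exists.choose
        (Groth.Agent.S5220.result d₀ d₁ s hs₀ hs₁ f₀ hf t.π t.condition).exists.choose_spec.1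
    · dsimp
      rw [Category.assoc, coequalizer.π_desc]
      exact (Groth.Agent.S5220.result d₀ d₁ s hs₀ hs₁ f₀ hf t.π t.condition).exists.choose_spec.2
    · dsimp at hm ⊢
      have hu := (Groth.Agent.S5220.result d₀ d₁ s hs₀ hs₁ f₀ hf t.π t.condition)
      have h1 : coequalizer.π d₁ d₀ ≫ m = hu.exists.choose := by
        refine hu.unique ⟨?_, ?_⟩ hu.exists.choose_spec
        · rw [reassoc_of% w]
        · rw [← Category.assoc]; exact hm
      rw [← cancel_epi (coequalizer.π d₁ d₀), coequalizer.π_desc, h1]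
  · intro hco
    have w := coequalizer.condition (pullback.fst (pullback.snd f₀ d₁ ≫ d₀) f₀ ≫ pullback.fst f₀ d₁)
      (pullback.snd (pullback.snd f₀ d₁ ≫ d₀) f₀)
    obtain ⟨c, ⟨hc1, hc2⟩, -⟩ := Groth.Agent.S5220.result d₀ d₁ s hs₀ hs₁ f₀ hf
      (coequalizer.π _ _) w
    refine HasColimit.mk ⟨Cofork.ofπ c hc1, ?_⟩
    refine Cofork.IsColimit.mk _ (fun t => coequalizer.desc (f₀ ≫ t.π) (hpull t.π t.condition))
      (fun t => ?_) (fun t m hm => ?_)
    · dsimp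
      rw [← cancel_epi f₀, ← Category.assoc, hc2, coequalizer.π_desc]
    · dsimp at hm ⊢
      rw [← cancel_epi (coequalizer.π (pullback.fst (pullback.snd f₀ d₁ ≫ d₀) f₀ ≫
        pullback.fst f₀ d₁) (pullback.snd (pullback.snd f₀ d₁ ≫ d₀) f₀)), coequalizer.π_desc,
        ← hc2, Category.assoc, hm]

end Groth.Agent.S5221
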