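import Groth.Statements.S5222
import Mathlib.CategoryTheory.Monoidal.Cartesian.Grp

set_option autoImplicit false
open CategoryTheory CategoryTheory.Limits MonoidalCategory
universe v₁ u₁
open DescCat

namespace Groth.Agent.S5222

open MonObj CartesianMonoidalCategory SemiCartesianMonoidalCategory in
theorem p2_eq {C : Type u₁} [Category.{v₁} C]
    [CartesianMonoidalCategory C] [HasPullbacks C]
    {G G' : C} [GrpObj G] [GrpObj G'] (f : G ⟶ G') :
    (G ◁ pullback.fst f η[G']) ≫ μ[G] =
      fst G (pullback f η[G']) * (snd G (pullback f η[G']) ≫ pullback.fst f η[G']) := by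
  rw [Hom.mul_def]
  congr 1
  ext <;> simp

open MonObj CartesianMonoidalCategory SemiCartesianMonoidalCategory in
/-- In a cartesian monoidal category with pullbacks: for a homomorphism `f : G ⟶ G'` of group objects
with kernel `K = G ×_{G'} e`, the pair `G × K ⇉ G` given by the projection and by multiplication is
the kernel pair of `f`. -/
theorem result {C : Type u₁} [Category.{v₁} C]
    [CartesianMonoidalCategory C] [HasPullbacks C]
    {G G' : C} [GrpObj G] [GrpObj G'] (f : G ⟶ G') [IsMonHom f] :
    IsKernelPair f (fst G (pullback f η[G']))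
      ((G ◁ pullback.fst f η[G']) ≫ μ[G]) := by
  rw [p2_eq]
  have hk : pullback.fst f η[G'] ≫ f = (1 : pullback f η[G'] ⟶ G') := by
    rw [pullback.condition, Hom.one_def]
    congr 1
    exact toUnit_unique _ _
  have hw : fst G (pullback f η[G']) ≫ f =
      (fst G (pullback f η[G']) * (snd G (pullback f η[G']) ≫ pullback.fst f η[G'])) ≫ f := by
    rw [MonObj.mul_comp, Category.assoc, hk]
    simp
  refine ⟨⟨hw⟩, ⟨PullbackCone.IsLimit.mk _ (fun s => ?_) (fun s => ?_) (fun s => ?_)
    (fun s m h1 h2 => ?_)⟩⟩
  · refine lift s.fst (pullback.lift (s.fst⁻¹ * s.snd) (toUnit _) ?_)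
    rw [MonObj.mul_comp, GrpObj.inv_comp, s.condition, inv_mul_cancel, Hom.one_def]
  · simp
  · rw [MonObj.comp_mul]
    simp only [lift_fst, lift_snd_assoc, pullback.lift_fst]
    simp
  · ext
    · simpa using h1
    · have h3 := h2
      rw [MonObj.comp_mul, h1] at h3
      simp only [lift_snd, pullback.lift_fst, Category.assoc]
      rw [← h3]
      simp

end Groth.Agent.S5222
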