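import Groth.Statements.S5224
import Groth.Agent.Lib.H69QuotOpen
import Groth.Agent.Lib.H69DescentAffine
import Groth.Agent.Lib.SrcLocal

set_option autoImplicit false
open CategoryTheory CategoryTheory.Limits AlgebraicGeometry
universe u
open GrpQ

namespace Groth.Agent.S5224

open Groth.Agent.Lib.H69QuotPres Groth.Agent.Lib.H69AlgSp Groth.Agent.Lib.H69QuotOpen in
/-- Mathlib's internal equivalence relations in `Over S` are equivalence relations on `T`-points. -/
theorem isEqvRel_of_isEquivalenceRelation {S : Scheme.{u}} {R U : Over S} (s t : R ⟶ U)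
    [h : IsEquivalenceRelation s t] : AlgSp.IsEqvRel s t := by
  obtain ⟨e⟩ := h.nonempty_equivalenceRelation
  refine ⟨fun T r r' h1 h2 => e.toJointlyMono₂.right_cancellation r r' h2 h1, fun T => ⟨fun a => ?_, ?_, ?_⟩⟩
  · exact ⟨a ≫ e.r, by rw [Category.assoc, e.reflexivity₂, Category.comp_id],
      by rw [Category.assoc, e.reflexivity₁, Category.comp_id]⟩
  · rintro a b ⟨r, rfl, rfl⟩
    exact ⟨r ≫ e.s, by rw [Category.assoc, e.symmetry₂], by rw [Category.assoc, e.symmetry₁]⟩
  · rintro a b c ⟨r₁, rfl, rfl⟩ ⟨r₂, h₂, rfl⟩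
    -- the cone condition: `fst ≫ t = snd ≫ s`
    let l := PullbackCone.IsLimit.lift e.isLimit r₂ r₁ h₂
    have hl1 : l ≫ e.c.fst = r₂ := PullbackCone.IsLimit.lift_fst e.isLimit _ _ _
    have hl2 : l ≫ e.c.snd = r₁ := PullbackCone.IsLimit.lift_snd e.isLimit _ _ _
    refine ⟨l ≫ e.t, ?_, ?_⟩
    · rw [Category.assoc, e.transitivity₂, ← Category.assoc, hl2]
    · rw [Category.assoc, e.transitivity₁, ← Category.assoc, hl1]

end Groth.Agent.S5224

namespace Groth.Agent.S5224

/-- For the fppf topology: let `s, t : R ⇉ U` be an equivalence relation of schemes over `S` with `s`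
faithfully flat and locally of finite presentation. A morphism `q : U ⟶ Y` over `S` is a faithfully
flat, locally finitely presented quotient with kernel pair `R` if and only if `q` identifies `h_Y`
with the fppf quotient sheaf `U/R`. -/
theorem result {S : Scheme.{u}} {R U Y : Over S} (s t : R ⟶ U)
    [IsEquivalenceRelation s t]
    [Flat s.left] [Surjective s.left] [LocallyOfFinitePresentation s.left]
    (q : U ⟶ Y) :
    (IsKernelPair q s t ∧ Flat q.left ∧ Surjective q.left ∧ LocallyOfFinitePresentation q.left) ↔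
      QuotSh.IsQuotient Scheme.fppfPrecoverage s t q := by
  have hEq : AlgSp.IsEqvRel s t := isEqvRel_of_isEquivalenceRelation s t
  have hkp0 := Groth.Agent.Lib.H69QuotPres.isPullback_quotMap hEq
  have hcond0 := Groth.Agent.Lib.H69QuotPres.quotMap_condition s t
  have hepi0 : Epi (Groth.Agent.Lib.H69QuotPres.quotMap s t) := inferInstance
  -- the comparison map
  have key0 : ∀ w : s ≫ q = t ≫ q,
      Groth.Agent.Lib.H69QuotPres.quotMap s t ≫ QuotSh.quotDesc Scheme.fppfPrecoverage q w ≫
        (Groth.Agent.Lib.H69QuotPres.rIso Y).hom = (AlgSp.yon S).map q := by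
    intro w
    have h1 : QuotSh.quotπ Scheme.fppfPrecoverage s t ≫ QuotSh.quotDesc Scheme.fppfPrecoverage q w =
        QuotSh.repMap Scheme.fppfPrecoverage q := coequalizer.π_desc _ _
    rw [Groth.Agent.Lib.H69QuotPres.quotMap, Category.assoc, ← Category.assoc (QuotSh.quotπ _ _ _), h1,
      Groth.Agent.Lib.H69QuotPres.rIso_naturality, Iso.inv_hom_id_assoc]
  obtain ⟨π, hπ⟩ : ∃ π : (AlgSp.yon S).obj U ⟶ QuotSh.quot Scheme.fppfPrecoverage s t,
      π = Groth.Agent.Lib.H69QuotPres.quotMap s t := ⟨_, rfl⟩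
  rw [← hπ] at hkp0 hcond0 hepi0
  have key : ∀ w : s ≫ q = t ≫ q,
      π ≫ QuotSh.quotDesc Scheme.fppfPrecoverage q w ≫
        (Groth.Agent.Lib.H69QuotPres.rIso Y).hom = (AlgSp.yon S).map q := by
    intro w
    rw [hπ]
    exact key0 w
  clear key0 hπ
  constructor
  · rintro ⟨hk, hfl, hsurj, hlfp⟩
    refine ⟨hk.w, ?_⟩
    obtain ⟨ε, hε⟩ : ∃ ε : QuotSh.quot Scheme.fppfPrecoverage s t ⟶ (AlgSp.yon S).obj Y,
      ε = QuotSh.quotDesc Scheme.fppfPrecoverage q hk.w ≫ (Groth.Agent.Lib.H69QuotPres.rIso Y).hom := ⟨_, rfl⟩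
    have hkey : π ≫ ε = (AlgSp.yon S).map q := by rw [hε]; exact key hk.w
    have hqloc : Sheaf.IsLocallySurjective ((AlgSp.yon S).map q) :=
      Groth.Agent.Lib.H69DescentAffine.isLocallySurjective_yon_map q
    have hqepi : Epi ((AlgSp.yon S).map q) := (Sheaf.isLocallySurjective_iff_epi _).1 hqloc
    have hεepi : Epi ε := by
      rw [← hkey] at hqepi
      exact epi_of_epi π ε
    have hπloc : Sheaf.IsLocallySurjective π :=
      (Sheaf.isLocallySurjective_iff_epi _).2 inferInstance
    have hεmono : Mono ε := by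
      refine Groth.Agent.Lib.H69AlgSp.mono_of_yon ε fun T x y hxy => ?_
      obtain ⟨Rx, hRx, hlx⟩ := Groth.Agent.Lib.H69InvSub.exists_sieve_lift π x
      obtain ⟨Ry, hRy, hly⟩ := Groth.Agent.Lib.H69InvSub.exists_sieve_lift π y
      refine Groth.Agent.Lib.H69QuotOpen.eq_of_sieve x y (Rx ⊓ Ry)
        ((AlgSp.J S).intersection_covering hRx hRy) ?_
      intro T₁ φ hφ
      obtain ⟨ya, hya⟩ := hlx φ hφ.1
      obtain ⟨yb, hyb⟩ := hly φ hφ.2
      obtain ⟨a, rfl⟩ := (AlgSp.yon S).map_surjective ya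
      obtain ⟨b, rfl⟩ := (AlgSp.yon S).map_surjective yb
      rw [← hya, ← hyb]
      have e1 : a ≫ q = b ≫ q := by
        apply (AlgSp.yon S).map_injective
        calc (AlgSp.yon S).map (a ≫ q)
            = ((AlgSp.yon S).map a ≫ π) ≫ ε := by
              rw [Functor.map_comp, Category.assoc, hkey]
          _ = ((AlgSp.yon S).map φ ≫ x) ≫ ε := by rw [hya]
          _ = ((AlgSp.yon S).map φ ≫ y) ≫ ε := by rw [Category.assoc, hxy, Category.assoc]
          _ = ((AlgSp.yon S).map b ≫ π) ≫ ε := by rw [hyb]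
          _ = (AlgSp.yon S).map (b ≫ q) := by rw [Functor.map_comp, Category.assoc, hkey]
      have h1 : hk.lift a b e1 ≫ s = a := hk.lift_fst _ _ _
      have h2 : hk.lift a b e1 ≫ t = b := hk.lift_snd _ _ _
      calc (AlgSp.yon S).map a ≫ π
          = (AlgSp.yon S).map (hk.lift a b e1) ≫ (AlgSp.yon S).map s ≫ π := by
            rw [← Category.assoc, ← Functor.map_comp, h1]
        _ = (AlgSp.yon S).map (hk.lift a b e1) ≫ (AlgSp.yon S).map t ≫ π := by
            rw [hcond0]
        _ = (AlgSp.yon S).map b ≫ π := by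
            rw [← Category.assoc, ← Functor.map_comp, h2]
    have hεiso : IsIso ε := isIso_of_mono_of_epi ε
    rw [hε] at hεiso
    exact IsIso.of_isIso_comp_right _ (Groth.Agent.Lib.H69QuotPres.rIso Y).hom
  · rintro ⟨w, hiso⟩
    obtain ⟨ε, hε⟩ : ∃ ε : QuotSh.quot Scheme.fppfPrecoverage s t ⟶ (AlgSp.yon S).obj Y,
      ε = QuotSh.quotDesc Scheme.fppfPrecoverage q w ≫ (Groth.Agent.Lib.H69QuotPres.rIso Y).hom := ⟨_, rfl⟩
    have hkey : π ≫ ε = (AlgSp.yon S).map q := by rw [hε]; exact key w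
    have hεiso : IsIso ε := by rw [hε]; infer_instance
    have hkp1 : IsKernelPair (π ≫ ε) ((AlgSp.yon S).map t)
        ((AlgSp.yon S).map s) := IsKernelPair.comp_of_mono hkp0
    rw [hkey] at hkp1
    have hkp2 : IsPullback t s q q := IsPullback.of_map (AlgSp.yon S) w.symm hkp1
    have hqepi : Epi ((AlgSp.yon S).map q) := by
      rw [← hkey]
      exact epi_comp _ _
    have hqloc : Sheaf.IsLocallySurjective ((AlgSp.yon S).map q) :=
      (Sheaf.isLocallySurjective_iff_epi _).2 hqepi
    have hrep := AlgSp.representable_yon_map q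
    haveI : MorphismProperty.IsLocalAtTarget (@Flat) Scheme.fppfPrecoverage.{u} :=
      Groth.Agent.Lib.H69FppfLocal.isLocalAtTarget_fppf @Flat
    refine ⟨hkp2.flip, ?_, ?_, ?_⟩
    · exact (AlgSp.repWith_yon_map_iff @Flat q).1
        (Groth.Agent.Lib.H69AlgSp.repWith_of_isLocallySurjective_base _ hrep _ _ _ hkp1 @Flat
          ((AlgSp.repWith_yon_map_iff @Flat s).2 inferInstance))
    · exact (AlgSp.repWith_yon_map_iff @Surjective q).1
        (Groth.Agent.Lib.H69AlgSp.repWith_of_isLocallySurjective_base _ hrep _ _ _ hkp1 @Surjective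
          ((AlgSp.repWith_yon_map_iff @Surjective s).2 inferInstance))
    · exact (AlgSp.repWith_yon_map_iff @LocallyOfFinitePresentation q).1
        (Groth.Agent.Lib.H69AlgSp.repWith_of_isLocallySurjective_base _ hrep _ _ _ hkp1
          @LocallyOfFinitePresentation
          ((AlgSp.repWith_yon_map_iff @LocallyOfFinitePresentation s).2 inferInstance))

end Groth.Agent.S5224
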