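import Groth.Statements.S5225
import Groth.Agent.Lib.EqRelSheaf
import Groth.Agent.Lib.H69AlgSp
import Groth.Agent.Lib.H69FppfLocal
import Groth.Agent.Lib.H69QuotPres

set_option autoImplicit false
open CategoryTheory CategoryTheory.Limits AlgebraicGeometry
universe u
open GrpQ

namespace Groth.Agent.S5225

section Aux

theorem etalePrecoverage_le_fppf : Scheme.etalePrecoverage.{u} ≤ Scheme.fppfPrecoverage.{u} :=
  Scheme.precoverage_mono fun X Y f hf => by
    have : Etale f := hf
    exact ⟨inferInstance, inferInstance⟩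

instance subcanonical_et : (Scheme.etalePrecoverage.{u}).toGrothendieck.Subcanonical :=
  .of_le (Precoverage.toGrothendieck_mono etalePrecoverage_le_fppf)

variable {S : Scheme.{u}}

/-- `h_V` for the étale topology. -/
noncomputable abbrev yonE (S : Scheme.{u}) : Over S ⥤ QuotSh.Sh Scheme.etalePrecoverage S :=
  (QuotSh.J Scheme.etalePrecoverage S).uliftYoneda.{u + 1}

theorem singleton_mem_etalePrecoverage {X Y : Scheme.{u}} (f : X ⟶ Y) [Etale f] [Surjective f] :
    Presieve.singleton f ∈ Scheme.etalePrecoverage Y := by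
  rw [← Presieve.ofArrows_pUnit.{0}]
  exact (f.cover (P := @Etale) ‹_›).mem₀

theorem mem_J_of_etale {U V : Over S} (g : V ⟶ U) [Etale g.left] [Surjective g.left]
    (R : Sieve U) (hR : R g) : R ∈ QuotSh.J Scheme.etalePrecoverage S U := by
  rw [GrothendieckTopology.mem_over_iff]
  refine GrothendieckTopology.superset_covering _ ?_
    (Precoverage.generate_mem_toGrothendieck (singleton_mem_etalePrecoverage g.left))
  rw [Sieve.generate_le_iff]
  rintro _ _ ⟨⟩
  exact ⟨V, g, 𝟙 _, hR, by simp⟩

theorem isLocallySurjective_yonE_map {U V : Over S} (p : V ⟶ U) [Etale p.left] [Surjective p.left] :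
    Sheaf.IsLocallySurjective ((yonE S).map p) := by
  constructor
  intro T s
  obtain ⟨z⟩ := s
  have sqO : IsPullback (pullback.fst z p) (pullback.snd z p) z p := IsPullback.of_hasPullback z p
  have sqL := sqO.flip.map (Over.forget S)
  have h1 : Etale (pullback.fst z p).left :=
    MorphismProperty.of_isPullback (P := @Etale) sqL ‹Etale p.left›
  have h3 : Surjective (pullback.fst z p).left :=
    MorphismProperty.of_isPullback (P := @Surjective) sqL ‹_›
  refine mem_J_of_etale (pullback.fst z p) _ ⟨⟨pullback.snd z p⟩, ?_⟩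
  exact congrArg ULift.up sqO.w.symm

theorem isLocallySurjective_fppf_of_etale {U V : Over S} (p : V ⟶ U)
    (h : Sheaf.IsLocallySurjective ((yonE S).map p)) :
    Sheaf.IsLocallySurjective ((AlgSp.yon S).map p) := by
  constructor
  intro T s
  have h1 := h.imageSieve_mem s
  rw [GrothendieckTopology.mem_over_iff] at h1 ⊢
  exact Precoverage.toGrothendieck_mono etalePrecoverage_le_fppf _ h1

/-- `rep V ≅ yonE V`. -/
noncomputable abbrev rIso (V : Over S) :
    QuotSh.rep Scheme.etalePrecoverage V ≅ (yonE S).obj V :=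
  QuotSh.repIsoUliftYoneda Scheme.etalePrecoverage V

theorem rIso_naturality {V W : Over S} (g : V ⟶ W) :
    QuotSh.repMap Scheme.etalePrecoverage g ≫ (rIso W).hom = (rIso V).hom ≫ (yonE S).map g :=
  (sheafificationNatIso (QuotSh.J Scheme.etalePrecoverage S) (Type (u + 1))).inv.naturality ((yonE S).map g)

theorem rIso_inv_naturality {V W : Over S} (g : V ⟶ W) :
    (rIso V).inv ≫ QuotSh.repMap Scheme.etalePrecoverage g = (yonE S).map g ≫ (rIso W).inv := by
  rw [Iso.inv_comp_eq, ← Category.assoc, ← rIso_naturality, Category.assoc, Iso.hom_inv_id, Category.comp_id]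

variable {R U : Over S} (s t : R ⟶ U)

noncomputable def eqRelYon (e : EquivalenceRelation s t) :
    EquivalenceRelation ((yonE S).map s) ((yonE S).map t) :=
  have : JointlyMono₂ s t := e.toJointlyMono₂
  have : JointlyMono₂ ((yonE S).map s) ((yonE S).map t) :=
    Groth.Agent.Lib.EqRelQuot.jointlyMono₂_map (yonE S) s t
  Groth.Agent.Lib.EqRelQuot.equivalenceRelationMap e (yonE S)

/-- The quotient map `h_U ⟶ U/R`. -/
noncomputable abbrev quotMap (s t : R ⟶ U) :
    (yonE S).obj U ⟶ QuotSh.quot Scheme.etalePrecoverage s t :=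
  (rIso U).inv ≫ QuotSh.quotπ Scheme.etalePrecoverage s t

theorem quotMap_condition (s t : R ⟶ U) :
    (yonE S).map s ≫ quotMap s t = (yonE S).map t ≫ quotMap s t := by
  rw [quotMap, ← Category.assoc, ← rIso_inv_naturality, ← Category.assoc, ← rIso_inv_naturality,
    Category.assoc, Category.assoc, QuotSh.quot_condition]

instance epi_quotMap (s t : R ⟶ U) : Epi (quotMap s t) := by
  have : Epi (QuotSh.quotπ Scheme.etalePrecoverage s t) := coequalizer.π_epi
  exact epi_comp _ _

/-- For an equivalence relation, `h_R` is the kernel pair of the quotient map `h_U ⟶ U/R`. -/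
theorem isPullback_quotMap (e₀ : EquivalenceRelation s t) :
    IsKernelPair (quotMap s t) ((yonE S).map s) ((yonE S).map t) := by
  let e := eqRelYon s t e₀
  let E := Groth.Agent.Lib.EqRelSheaf.sheafEER (QuotSh.J Scheme.etalePrecoverage S) e
  -- the comparison maps
  let φ : E.B ⟶ QuotSh.quot Scheme.etalePrecoverage s t :=
    E.isPushout.desc (quotMap s t) (quotMap s t) (quotMap_condition s t)
  have hφ : E.π ≫ φ = quotMap s t := E.isPushout.inl_desc _ _ _
  have hcond : QuotSh.repMap Scheme.etalePrecoverage s ≫ (rIso U).hom ≫ E.π =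
      QuotSh.repMap Scheme.etalePrecoverage t ≫ (rIso U).hom ≫ E.π := by
    rw [← Category.assoc, rIso_naturality, ← Category.assoc, rIso_naturality, Category.assoc, Category.assoc,
      E.isPushout.w]
  let ψ : QuotSh.quot Scheme.etalePrecoverage s t ⟶ E.B := coequalizer.desc ((rIso U).hom ≫ E.π) hcond
  have hψ : QuotSh.quotπ Scheme.etalePrecoverage s t ≫ ψ = (rIso U).hom ≫ E.π := coequalizer.π_desc _ _
  have hφψ : φ ≫ ψ = 𝟙 _ := by
    apply E.isPushout.hom_ext
    · rw [← Category.assoc, hφ, Category.assoc, hψ, Iso.inv_hom_id_assoc, Category.comp_id]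
    · rw [← Category.assoc, hφ, Category.assoc, hψ, Iso.inv_hom_id_assoc, Category.comp_id]
  have : IsSplitMono φ := ⟨⟨⟨ψ, hφψ⟩⟩⟩
  have hk : IsKernelPair (E.π ≫ φ) ((yonE S).map s) ((yonE S).map t) := E.isKernelPair.comp_of_mono
  rw [hφ] at hk
  exact hk


theorem result_aux {S : Scheme.{u}} {R U Y : Over S} (s t : R ⟶ U)
    [IsEquivalenceRelation s t] [Etale s.left] [Surjective s.left]
    (q : U ⟶ Y) :
    (IsKernelPair q s t ∧ Etale q.left ∧ Surjective q.left) ↔
      QuotSh.IsQuotient Scheme.etalePrecoverage s t q := by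
  obtain ⟨e₀⟩ := (inferInstance : IsEquivalenceRelation s t).nonempty_equivalenceRelation
  have hkp0 := isPullback_quotMap s t e₀
  have hcond0 := quotMap_condition s t
  have hepi0 : Epi (quotMap s t) := inferInstance
  have key0 : ∀ w : s ≫ q = t ≫ q,
      quotMap s t ≫ QuotSh.quotDesc Scheme.etalePrecoverage q w ≫ (rIso Y).hom = (yonE S).map q := by
    intro w
    have h1 : QuotSh.quotπ Scheme.etalePrecoverage s t ≫ QuotSh.quotDesc Scheme.etalePrecoverage q w =
        QuotSh.repMap Scheme.etalePrecoverage q := coequalizer.π_desc _ _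
    rw [quotMap, Category.assoc, ← Category.assoc (QuotSh.quotπ _ _ _), h1,
      rIso_naturality, Iso.inv_hom_id_assoc]
  obtain ⟨π, hπ⟩ : ∃ π : (yonE S).obj U ⟶ QuotSh.quot Scheme.etalePrecoverage s t,
      π = quotMap s t := ⟨_, rfl⟩
  rw [← hπ] at hkp0 hcond0 hepi0
  have key : ∀ w : s ≫ q = t ≫ q,
      π ≫ QuotSh.quotDesc Scheme.etalePrecoverage q w ≫ (rIso Y).hom = (yonE S).map q := by
    intro w
    rw [hπ]
    exact key0 w
  clear key0 hπ
  constructor
  · rintro ⟨hk, het, hsurj⟩
    refine ⟨hk.w, ?_⟩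
    obtain ⟨ε, hε⟩ : ∃ ε : QuotSh.quot Scheme.etalePrecoverage s t ⟶ (yonE S).obj Y,
      ε = QuotSh.quotDesc Scheme.etalePrecoverage q hk.w ≫ (rIso Y).hom := ⟨_, rfl⟩
    have hkey : π ≫ ε = (yonE S).map q := by rw [hε]; exact key hk.w
    have hkY : IsKernelPair ((yonE S).map q) ((yonE S).map s) ((yonE S).map t) := hk.map (yonE S)
    have hloc := isLocallySurjective_yonE_map q
    have hqepi : Epi ((yonE S).map q) := (Sheaf.isLocallySurjective_iff_epi _).1 hloc
    have hreg : RegularEpi ((yonE S).map q) := regularEpiOfEpi _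
    have hcolim := hkY.toCoequalizer hreg
    let η : (yonE S).obj Y ⟶ QuotSh.quot Scheme.etalePrecoverage s t :=
      Cofork.IsColimit.desc hcolim π hcond0
    have hη : (yonE S).map q ≫ η = π := Cofork.IsColimit.π_desc' hcolim π hcond0
    have h1 : ε ≫ η = 𝟙 _ := by
      rw [← cancel_epi π, ← Category.assoc, hkey, hη, Category.comp_id]
    have h2 : η ≫ ε = 𝟙 _ := by
      rw [← cancel_epi ((yonE S).map q), ← Category.assoc, hη, hkey, Category.comp_id]
    have hεiso : IsIso ε := ⟨η, h1, h2⟩
    rw [hε] at hεiso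
    exact IsIso.of_isIso_comp_right _ (rIso Y).hom
  · rintro ⟨w, hiso⟩
    obtain ⟨ε, hε⟩ : ∃ ε : QuotSh.quot Scheme.etalePrecoverage s t ⟶ (yonE S).obj Y,
      ε = QuotSh.quotDesc Scheme.etalePrecoverage q w ≫ (rIso Y).hom := ⟨_, rfl⟩
    have hkey : π ≫ ε = (yonE S).map q := by rw [hε]; exact key w
    have hεiso : IsIso ε := by rw [hε]; infer_instance
    have hkp1 : IsKernelPair (π ≫ ε) ((yonE S).map s) ((yonE S).map t) := IsKernelPair.comp_of_mono hkp0
    rw [hkey] at hkp1
    have hkp2 : IsPullback s t q q := IsPullback.of_map (yonE S) w hkp1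
    have hqepi : Epi ((yonE S).map q) := by
      rw [← hkey]
      exact epi_comp _ _
    have hqloc : Sheaf.IsLocallySurjective ((yonE S).map q) :=
      (Sheaf.isLocallySurjective_iff_epi _).2 hqepi
    have hqlocF : Sheaf.IsLocallySurjective ((AlgSp.yon S).map q) :=
      isLocallySurjective_fppf_of_etale q hqloc
    have hkpF : IsPullback ((AlgSp.yon S).map t) ((AlgSp.yon S).map s) ((AlgSp.yon S).map q)
        ((AlgSp.yon S).map q) := (hkp2.map (AlgSp.yon S)).flip
    have hrep := AlgSp.representable_yon_map q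
    refine ⟨hkp2, ?_, ?_⟩
    · exact (AlgSp.repWith_yon_map_iff @Etale q).1
        (Groth.Agent.Lib.H69AlgSp.repWith_of_isLocallySurjective_base _ hrep _ _ _ hkpF @Etale
          ((AlgSp.repWith_yon_map_iff @Etale s).2 inferInstance))
    · exact (AlgSp.repWith_yon_map_iff @Surjective q).1
        (Groth.Agent.Lib.H69AlgSp.repWith_of_isLocallySurjective_base _ hrep _ _ _ hkpF @Surjective
          ((AlgSp.repWith_yon_map_iff @Surjective s).2 inferInstance))

end Aux

/-- For the étale topology: let `s, t : R ⇉ U` be an equivalence relation of schemes over `S` with `s`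
étale and surjective. A morphism `q : U ⟶ Y` over `S` is an étale surjective quotient with kernel
pair `R` if and only if `q` identifies `h_Y` with the étale quotient sheaf `U/R`. -/
theorem result {S : Scheme.{u}} {R U Y : Over S} (s t : R ⟶ U)
    [IsEquivalenceRelation s t] [Etale s.left] [Surjective s.left]
    (q : U ⟶ Y) :
    (IsKernelPair q s t ∧ Etale q.left ∧ Surjective q.left) ↔
      QuotSh.IsQuotient Scheme.etalePrecoverage s t q :=
  result_aux s t q

end Groth.Agent.S5225
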