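import Groth.Statements.S5226
import Groth.Agent.Lib.SheafEpi

set_option autoImplicit false
open CategoryTheory CategoryTheory.Limits
universe w v₁ u₁
open ShfCat

namespace Groth.Agent.S5226

/-- For sheaves of sets on a site with sheafification: if `R ⇉ X` is an equivalence relation with
(universally effective) quotient `X/R` and `Y ⊆ X` is a subsheaf with induced relation `R_Y`, then
the canonical map `Y/R_Y ⟶ X/R` is a monomorphism. Here `R_Y` is built as the iterated pullback of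
`R` along `Y ⟶ X` on both sides. -/
theorem result {C : Type u₁} [Category.{v₁} C]
    (J : GrothendieckTopology C) [HasSheafify J (Type w)]
    {R X Y : Sheaf J (Type w)} {p₁ p₂ : R ⟶ X} (e : UniversallyEffectiveEquivalenceRelation p₁ p₂)
    (ι : Y ⟶ X) [Mono ι]
    [HasCoequalizer (pullback.fst (pullback.fst p₁ ι ≫ p₂) ι ≫ pullback.snd p₁ ι)
      (pullback.snd (pullback.fst p₁ ι ≫ p₂) ι)]
    (g : coequalizer (pullback.fst (pullback.fst p₁ ι ≫ p₂) ι ≫ pullback.snd p₁ ι)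
      (pullback.snd (pullback.fst p₁ ι ≫ p₂) ι) ⟶ e.B)
    (hg : coequalizer.π _ _ ≫ g = ι ≫ e.π) :
    Mono g := by
  set q₁ := pullback.fst (pullback.fst p₁ ι ≫ p₂) ι ≫ pullback.snd p₁ ι with hq₁
  set q₂ := pullback.snd (pullback.fst p₁ ι ≫ p₂) ι with hq₂
  set c := coequalizer.π q₁ q₂ with hc
  have hcc : q₁ ≫ c = q₂ ≫ c := coequalizer.condition _ _
  constructor
  intro T a b hab
  have ht₁ : Epi (pullback.fst a c) :=
    Groth.Agent.Lib.SheafEpi.epi_of_isPullback J (IsPullback.of_hasPullback a c)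
  have ht₂ : Epi (pullback.fst (pullback.fst a c ≫ b) c) :=
    Groth.Agent.Lib.SheafEpi.epi_of_isPullback J (IsPullback.of_hasPullback _ c)
  set t₁ := pullback.fst a c
  set a₁ := pullback.snd a c
  have h₁ : t₁ ≫ a = a₁ ≫ c := pullback.condition
  set t₂ := pullback.fst (t₁ ≫ b) c
  set b₂ := pullback.snd (t₁ ≫ b) c
  have h₂ : t₂ ≫ t₁ ≫ b = b₂ ≫ c := pullback.condition
  have h₃ : ((t₂ ≫ a₁) ≫ ι) ≫ e.π = (b₂ ≫ ι) ≫ e.π := by
    rw [Category.assoc, Category.assoc, ← hg, ← Category.assoc a₁, ← h₁, Category.assoc,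
      Category.assoc, ← hg, ← Category.assoc b₂, ← h₂, hab]
    simp only [Category.assoc]
  let ρ : pullback (t₁ ≫ b) c ⟶ R := e.isKernelPair.lift ((t₂ ≫ a₁) ≫ ι) (b₂ ≫ ι) h₃
  have hρ₁ : ρ ≫ p₁ = (t₂ ≫ a₁) ≫ ι := e.isKernelPair.lift_fst _ _ _
  have hρ₂ : ρ ≫ p₂ = b₂ ≫ ι := e.isKernelPair.lift_snd _ _ _
  let σ₁ : pullback (t₁ ≫ b) c ⟶ pullback p₁ ι := pullback.lift ρ (t₂ ≫ a₁) hρ₁
  have hσ₁ : σ₁ ≫ pullback.fst p₁ ι ≫ p₂ = b₂ ≫ ι := by
    rw [← Category.assoc, pullback.lift_fst, hρ₂]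
  let σ : pullback (t₁ ≫ b) c ⟶ pullback (pullback.fst p₁ ι ≫ p₂) ι := pullback.lift σ₁ b₂ hσ₁
  have hσq₁ : σ ≫ q₁ = t₂ ≫ a₁ := by
    rw [hq₁, ← Category.assoc, pullback.lift_fst, pullback.lift_snd]
  have hσq₂ : σ ≫ q₂ = b₂ := by
    rw [hq₂, pullback.lift_snd]
  have h₄ : (t₂ ≫ a₁) ≫ c = b₂ ≫ c := calc
    (t₂ ≫ a₁) ≫ c = (σ ≫ q₁) ≫ c := by rw [hσq₁]
    _ = σ ≫ (q₁ ≫ c) := Category.assoc _ _ _
    _ = σ ≫ (q₂ ≫ c) := by rw [hcc]
    _ = (σ ≫ q₂) ≫ c := (Category.assoc _ _ _).symm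
    _ = b₂ ≫ c := by rw [hσq₂]
  rw [← cancel_epi t₁, ← cancel_epi t₂, h₂, ← h₄, Category.assoc, ← h₁]

end Groth.Agent.S5226
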