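import Groth.Statements.S5227
import Groth.Agent.Lib.H43QuotGrp2

set_option autoImplicit false
open CategoryTheory CategoryTheory.Limits
universe w v₁ u₁
open ShfCat

namespace Groth.Agent.S5227

section Aux
open Groth.Agent.Lib.H43QuotGrp

variable {E : Type*} [Category E] [HasPullbacks E]

theorem main (tl : ToposLike E) (im : HasImFac E) {R X : E} {p₁ p₂ : R ⟶ X}
    (e : EffectiveEquivalenceRelation p₁ p₂) :
    Function.Injective (Subobject.pullback e.π).obj ∧
      Set.range (Subobject.pullback e.π).obj =
        {Y : Subobject X | (Subobject.pullback p₁).obj Y = (Subobject.pullback p₂).obj Y} := by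
  have hπ : Epi e.π := inferInstance
  constructor
  · intro K₁ K₂ h
    exact le_antisymm (tl.le_of_pullback_le e.π K₁ K₂ h.le) (tl.le_of_pullback_le e.π K₂ K₁ h.ge)
  · ext Y
    constructor
    · rintro ⟨K, rfl⟩
      show (Subobject.pullback p₁).obj _ = (Subobject.pullback p₂).obj _
      rw [← Subobject.pullback_comp, ← Subobject.pullback_comp, e.isKernelPair.w]
    · intro hY
      change (Subobject.pullback p₁).obj Y = (Subobject.pullback p₂).obj Y at hY
      obtain ⟨I, ε, m, hε, hm, hfac⟩ := im (Y.arrow ≫ e.π)
      have hε' : Epi (ε ≫ (Subobject.underlyingIso m).inv) := epi_comp' hε inferInstance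
      have hfac' : (ε ≫ (Subobject.underlyingIso m).inv) ≫ (Subobject.mk m).arrow = Y.arrow ≫ e.π := by
        rw [Category.assoc, Subobject.underlyingIso_arrow, hfac]
      have sq := Subobject.isPullback e.π (Subobject.mk m)
      refine ⟨Subobject.mk m, le_antisymm ?_ ?_⟩
      · obtain ⟨T', η, _, y, hy⟩ := tl.locLift (ε ≫ (Subobject.underlyingIso m).inv)
          (Subobject.pullbackπ e.π (Subobject.mk m))
        have h1 : (y ≫ Y.arrow) ≫ e.π =
            (η ≫ ((Subobject.pullback e.π).obj (Subobject.mk m)).arrow) ≫ e.π := by
          rw [Category.assoc, ← hfac', ← Category.assoc, hy, Category.assoc, Category.assoc, sq.w]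
        have hr1 : e.isKernelPair.lift _ _ h1 ≫ p₁ = y ≫ Y.arrow := e.isKernelPair.lift_fst _ _ _
        have hr2 : e.isKernelPair.lift _ _ h1 ≫ p₂ =
            η ≫ ((Subobject.pullback e.π).obj (Subobject.mk m)).arrow := e.isKernelPair.lift_snd _ _ _
        have sq₁ := Subobject.isPullback p₁ Y
        have sq₂ := Subobject.isPullback p₂ Y
        obtain ⟨b, hb⟩ := tl.factors_of_locally Y.arrow
          ((Subobject.pullback e.π).obj (Subobject.mk m)).arrow η
          ((sq₁.lift y (e.isKernelPair.lift _ _ h1) hr1.symm ≫ Subobject.ofLE _ _ hY.le) ≫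
            Subobject.pullbackπ p₂ Y) (by
            rw [Category.assoc, sq₂.w, ← Category.assoc, Category.assoc _ (Subobject.ofLE _ _ hY.le),
              Subobject.ofLE_arrow, sq₁.lift_snd, hr2])
        exact Subobject.le_of_comm b hb
      · exact Subobject.le_of_comm (sq.lift (ε ≫ (Subobject.underlyingIso m).inv) Y.arrow hfac')
          (sq.lift_snd _ _ _)

end Aux

/-- For sheaves of sets on a site with sheafification: for an equivalence relation `R ⇉ X` with
(universally effective) quotient `π : X ⟶ X/R`, inverse image along `π` is a bijection from the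
subsheaves of `X/R` onto the subsheaves of `X` stable under `R` (those whose two inverse images in
`R` agree). -/
theorem result {C : Type u₁} [Category.{v₁} C]
    (J : GrothendieckTopology C) [HasSheafify J (Type w)]
    {R X : Sheaf J (Type w)} {p₁ p₂ : R ⟶ X} (e : UniversallyEffectiveEquivalenceRelation p₁ p₂) :
    Function.Injective (Subobject.pullback e.π).obj ∧
      Set.range (Subobject.pullback e.π).obj =
        {Y : Subobject X | (Subobject.pullback p₁).obj Y = (Subobject.pullback p₂).obj Y} :=
  main (Groth.Agent.Lib.H43QuotGrp.toposLike_sheaf J) (Groth.Agent.Lib.H43QuotGrp.hasImFac_sheaf J)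
    e.toEffectiveEquivalenceRelation

end Groth.Agent.S5227
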