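import Groth.Statements.S5229

set_option autoImplicit false
open CategoryTheory CategoryTheory.Limits
universe v₁ u₁
open DescCat

namespace Groth.Agent.S5229

set_option backward.isDefEq.respectTransparency false in
lemma isPullback_prod_map {C : Type u₁} [Category.{v₁} C] [HasBinaryProducts C]
    {P X Y Z P' X' Y' Z' : C} {a : P ⟶ X} {b : P ⟶ Y} {f : X ⟶ Z} {g : Y ⟶ Z}
    {a' : P' ⟶ X'} {b' : P' ⟶ Y'} {f' : X' ⟶ Z'} {g' : Y' ⟶ Z'}
    (h : IsPullback a b f g) (h' : IsPullback a' b' f' g') :
    IsPullback (prod.map a a') (prod.map b b') (prod.map f f') (prod.map g g') := by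
  have hw : prod.map a a' ≫ prod.map f f' = prod.map b b' ≫ prod.map g g' := by
    simp [h.w, h'.w]
  refine ⟨⟨hw⟩, ⟨PullbackCone.IsLimit.mk hw
    (fun s => prod.lift
      (h.lift (s.fst ≫ prod.fst) (s.snd ≫ prod.fst) (by
        have := s.condition =≫ prod.fst
        simpa using this))
      (h'.lift (s.fst ≫ prod.snd) (s.snd ≫ prod.snd) (by
        have := s.condition =≫ prod.snd
        simpa using this))) ?_ ?_ ?_⟩⟩
  · intro s
    ext <;> simp
  · intro s
    ext <;> simp
  · intro s m h1 h2
    ext
    · apply h.hom_ext
      · simp [← h1]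
      · simp [← h2]
    · apply h'.hom_ext
      · simp [← h1]
      · simp [← h2]

/-- For universal effective epimorphisms, in a category with pullbacks and binary products: for two
universally effective equivalence relations `R ⇉ X` and `R' ⇉ X'` with quotient maps `π` and `π'`,
the product relation `R × R' ⇉ X × X'` is the kernel pair of `π × π'`. (Together with the fact that
a product of two universal effective epimorphisms is again one, this says that `(X × X')/(R × R')`
is `(X/R) × (X'/R')`; only the kernel-pair assertion is stated here.) -/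
theorem result {C : Type u₁} [Category.{v₁} C]
    [HasPullbacks C] [HasBinaryProducts C]
    {R X R' X' : C} {p₁ p₂ : R ⟶ X} {p₁' p₂' : R' ⟶ X'}
    (e : UniversallyEffectiveEquivalenceRelation p₁ p₂)
    (e' : UniversallyEffectiveEquivalenceRelation p₁' p₂') :
    IsKernelPair (prod.map e.π e'.π) (prod.map p₁ p₁') (prod.map p₂ p₂') := by
  exact isPullback_prod_map e.isKernelPair e'.isKernelPair

end Groth.Agent.S5229
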