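import Groth.Statements.S5231
import Mathlib.CategoryTheory.Sites.Limits

set_option autoImplicit false
open CategoryTheory
universe w v₁ u₁
open ShfCat

namespace Groth.Agent.S5231

lemma injective_app_of_mono {C : Type u₁} [Category.{v₁} C]
    (J : GrothendieckTopology C) {F G : Sheaf J (Type w)} (f : F ⟶ G) [Mono f] (X : Cᵒᵖ) :
    Function.Injective (f.hom.app X) := by
  have h1 : Mono ((sheafToPresheaf J (Type w)).map f) := inferInstance
  have h2 : Mono (f.hom.app X) := by
    have := (NatTrans.mono_iff_mono_app ((sheafToPresheaf J (Type w)).map f)).mp h1 X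
    exact this
  exact (mono_iff_injective _).mp h2

/-- (iii) ⇒ (i): a morphism `f` of sheaves of sets on a site is a monomorphism (resp. an epimorphism) as
soon as, for every object `S`, the morphisms `T ⟶ S` over which the restriction of `f` to the
induced site `C/T` is a monomorphism (resp. an epimorphism) form a covering sieve. No sheafification
is assumed. (The published statement also treats isomorphisms in the same way; that case is left out
here.) -/
theorem result {C : Type u₁} [Category.{v₁} C]
    (J : GrothendieckTopology C) {F G : Sheaf J (Type w)} (f : F ⟶ G) :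
    ((∀ S : C, ∃ R : Sieve S, R ∈ J S ∧ ∀ ⦃T : C⦄ (g : T ⟶ S), R g →
        Mono ((J.overPullback (Type w) T).map f)) → Mono f) ∧
    ((∀ S : C, ∃ R : Sieve S, R ∈ J S ∧ ∀ ⦃T : C⦄ (g : T ⟶ S), R g →
        Epi ((J.overPullback (Type w) T).map f)) → Epi f) := by
  constructor
  · intro H
    have : Mono f.hom := by
      rw [NatTrans.mono_iff_mono_app]
      intro X
      rw [mono_iff_injective]
      intro x y hxy
      obtain ⟨R, hR, hmono⟩ := H X.unop
      have hsep := ((isSheaf_iff_isSheaf_of_type J F.obj).mp F.property R hR).isSeparatedFor
      apply hsep.ext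
      intro T g hg
      have := hmono g hg
      have hinj := injective_app_of_mono (J.over T) ((J.overPullback (Type w) T).map f)
        (Opposite.op (Over.mk (𝟙 T)))
      apply hinj
      show f.hom.app (Opposite.op T) (F.obj.map g.op x) = f.hom.app (Opposite.op T) (F.obj.map g.op y)
      have n1 := NatTrans.naturality_apply f.hom g.op x
      have n2 := NatTrans.naturality_apply f.hom g.op y
      rw [n1, n2, hxy]
    exact Sheaf.Hom.mono_of_presheaf_mono J (Type w) f
  · intro H
    constructor
    intro K a b hab
    apply Sheaf.hom_ext
    ext X s
    obtain ⟨R, hR, hepi⟩ := H X.unop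
    have hsep := ((isSheaf_iff_isSheaf_of_type J K.obj).mp K.property R hR).isSeparatedFor
    apply hsep.ext
    intro T g hg
    have := hepi g hg
    have h1 : (J.overPullback (Type w) T).map f ≫ (J.overPullback (Type w) T).map a =
        (J.overPullback (Type w) T).map f ≫ (J.overPullback (Type w) T).map b := by
      rw [← Functor.map_comp, ← Functor.map_comp, hab]
    have h2 : (J.overPullback (Type w) T).map a = (J.overPullback (Type w) T).map b :=
      (cancel_epi _).mp h1
    have h3 : a.hom.app (Opposite.op T) = b.hom.app (Opposite.op T) := by
      have := congrArg (fun t => t.hom.app (Opposite.op (Over.mk (𝟙 T)))) h2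
      exact this
    have n1 := NatTrans.naturality_apply a.hom g.op s
    have n2 := NatTrans.naturality_apply b.hom g.op s
    refine n1.symm.trans (Eq.trans ?_ n2)
    rw [h3]

end Groth.Agent.S5231
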