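import Groth.Statements.S5232
import Groth.Agent.Lib.H69DescentAffine4

set_option autoImplicit false
open CategoryTheory CategoryTheory.Limits AlgebraicGeometry
universe u
open GrpQ

namespace Groth.Agent.S5232

section aux

variable {S : Scheme.{u}}

/-- `rep V ≅ yon V`. -/
noncomputable abbrev rIso (V : Over S) :
    QuotSh.rep Scheme.fppfPrecoverage V ≅ (AlgSp.yon S).obj V :=
  QuotSh.repIsoUliftYoneda Scheme.fppfPrecoverage V

theorem rIso_naturality {V W : Over S} (g : V ⟶ W) :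
    QuotSh.repMap Scheme.fppfPrecoverage g ≫ (rIso W).hom = (rIso V).hom ≫ (AlgSp.yon S).map g :=
  (sheafificationNatIso (AlgSp.J S) (Type (u + 1))).inv.naturality ((AlgSp.yon S).map g)

end aux

/-- On the big fppf site of a scheme `S`, in the case where the local representing objects are affine
over the cover (so that the canonical descent datum is effective): if `Z` is an fppf sheaf over `S`
and, for an fppf cover `S' ⟶ S`, the sheaf `Z ×_S S'` is represented over `S'` by a scheme affine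
over `S'`, then `Z` is represented by a scheme affine over `S`. -/
theorem result {S S' : Scheme.{u}} (f : S' ⟶ S)
    [Flat f] [Surjective f] [LocallyOfFinitePresentation f]
    (Z : QuotSh.Sh Scheme.fppfPrecoverage S)
    (T' : Over S) (a : T' ⟶ Over.mk f) [IsAffineHom a.left]
    (φ : QuotSh.rep Scheme.fppfPrecoverage T' ≅ Z ⨯ QuotSh.rep Scheme.fppfPrecoverage (Over.mk f))
    (hφ : φ.hom ≫ prod.snd = QuotSh.repMap Scheme.fppfPrecoverage a) :
    ∃ T : Over S, IsAffineHom T.hom ∧ Nonempty (QuotSh.rep Scheme.fppfPrecoverage T ≅ Z) := by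
  -- the terminal object
  let Z₀ : Over S := Over.mk (𝟙 S)
  have hZ₀ : IsTerminal Z₀ := Over.mkIdTerminal
  have hT : IsTerminal ((AlgSp.yon S).obj Z₀) := hZ₀.isTerminalObj (AlgSp.yon S) Z₀
  let c₀ : Over.mk f ⟶ Z₀ := Over.homMk f
  have hc1 : AlgSp.RepWith @Flat ((AlgSp.yon S).map c₀) :=
    (AlgSp.repWith_yon_map_iff @Flat c₀).2 ‹Flat f›
  have hc2 : AlgSp.RepWith @LocallyOfFinitePresentation ((AlgSp.yon S).map c₀) :=
    (AlgSp.repWith_yon_map_iff @LocallyOfFinitePresentation c₀).2 ‹LocallyOfFinitePresentation f›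
  have hc3 : AlgSp.RepWith @Surjective ((AlgSp.yon S).map c₀) :=
    (AlgSp.repWith_yon_map_iff @Surjective c₀).2 ‹Surjective f›
  -- the product square
  let φ' : (AlgSp.yon S).obj T' ≅ Z ⨯ (AlgSp.yon S).obj (Over.mk f) :=
    (rIso T').symm ≪≫ φ ≪≫ prod.mapIso (Iso.refl Z) (rIso (Over.mk f))
  have hφ' : φ'.hom ≫ prod.snd = (AlgSp.yon S).map a := by
    simp only [φ', Iso.trans_hom, Iso.symm_hom, prod.mapIso_hom, Iso.refl_hom, Category.assoc,
      prod.map_snd]
    rw [← Category.assoc φ.hom, hφ, rIso_naturality, Iso.inv_hom_id_assoc]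
  have sq0 : IsPullback (prod.fst : Z ⨯ (AlgSp.yon S).obj (Over.mk f) ⟶ Z) prod.snd (hT.from _)
      (hT.from _) := IsPullback.of_is_product (limit.isLimit _) hT
  have hc : hT.from ((AlgSp.yon S).obj (Over.mk f)) = (AlgSp.yon S).map c₀ := hT.hom_ext _ _
  rw [hc] at sq0
  have sq : IsPullback (φ'.hom ≫ prod.fst) ((AlgSp.yon S).map a) (hT.from Z) ((AlgSp.yon S).map c₀) := by
    refine IsPullback.of_iso sq0 φ'.symm (Iso.refl _) (Iso.refl _) (Iso.refl _) ?_ ?_ ?_ ?_
    · simp
    · simp [← hφ']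
    · simp
    · simp
  have haff : AlgSp.RepWith @IsAffineHom (hT.from Z) :=
    Groth.Agent.Lib.H69DescentAffine.repWith_isAffineHom_of_fppf_cover (hT.from Z)
      ((AlgSp.yon S).map c₀) hc1 hc2 hc3 _ _ sq
      ((AlgSp.repWith_yon_map_iff @IsAffineHom a).2 ‹IsAffineHom a.left›)
  have hrep := haff.rep
  let g₀ : (AlgSp.yon S).obj Z₀ ⟶ (AlgSp.yon S).obj Z₀ := 𝟙 _
  have sqT := hrep.isPullback g₀
  have hiso : IsIso (hrep.fst g₀) := sqT.isIso_fst_of_isIso
  have hi : IsAffineHom (hrep.snd g₀).left := haff.property_snd g₀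
  refine ⟨hrep.pullback g₀, ?_, ⟨rIso _ ≪≫ asIso (hrep.fst g₀)⟩⟩
  have hw : (hrep.snd g₀).left = (hrep.pullback g₀).hom := by
    have := Over.w (hrep.snd g₀)
    simpa [Z₀] using this
  rw [← hw]
  exact hi

end Groth.Agent.S5232
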