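import Groth.Statements.S5234
import Groth.Agent.Lib.FpqcCov18
import Groth.Agent.Lib.FpqcCovFppf18
import Groth.Agent.Lib.CartPull18

set_option autoImplicit false
set_option maxHeartbeats 400000
open CategoryTheory CategoryTheory.Limits AlgebraicGeometry MonoidalCategory
universe u
open RedSub

namespace Groth.Agent.S5234

open CartesianMonoidalCategory SemiCartesianMonoidalCategory in
/-- (ii) ⇔ (iii), for schemes with the fppf topology: let `G` be an `S`-group scheme which is faithfully
flat and locally of finite presentation over `S`, acting on `X` so that `X` is formally principal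
homogeneous. Then `X` is a torsor (its structure map is faithfully flat and locally of finite
presentation) if and only if `X` has a point over some faithfully flat, locally finitely presented
`S' ⟶ S`. -/
theorem result {S : Scheme.{u}} {G X : Over S} [GrpObj G]
    (a : AlgGrp.Action G X)
    [Flat G.hom] [Surjective G.hom] [LocallyOfFinitePresentation G.hom]
    (hX : IsIso (lift a.act (snd G X))) :
    RedSub.IsTorsor a ↔
      ∃ S' : Over S, Surjective S'.hom ∧ Flat S'.hom ∧ LocallyOfFinitePresentation S'.hom ∧
        Nonempty (S' ⟶ X) := by
  constructor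
  · rintro ⟨h1, h2, h3, -⟩
    exact ⟨X, h1, h2, h3, ⟨𝟙 X⟩⟩
  · rintro ⟨S', hs, hf, hlfp, ⟨x⟩⟩
    -- the base change of `X ⟶ S` along `S' ⟶ S` is a base change of `G ⟶ S`
    have sqL : IsPullback (X ◁ x).left (snd X S').left (snd X X).left x.left :=
      (Groth.Agent.Lib.CartPull18.isPullback_whiskerLeft_snd X x).map (Over.forget S)
    have sq0 : IsPullback (fst G X).left (snd G X).left G.hom X.hom :=
      IsPullback.of_hasPullback G.hom X.hom
    have hφ : inv (lift a.act (snd G X)) ≫ snd G X = snd X X := by
      rw [IsIso.inv_comp_eq, lift_snd]
    have sqM : IsPullback (inv (lift a.act (snd G X))).left (snd X X).left (snd G X).left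
        (𝟙 X.left) := by
      have : IsIso (inv (lift a.act (snd G X))).left :=
        inferInstanceAs (IsIso ((Over.forget S).map (inv (lift a.act (snd G X)))))
      refine IsPullback.of_horiz_isIso ⟨?_⟩
      rw [Category.comp_id, ← Over.comp_left, hφ]
    have sqR := sqM.paste_horiz sq0
    have sq := sqL.paste_horiz sqR
    have hP : ∀ (P : MorphismProperty Scheme.{u}) [P.IsStableUnderBaseChange], P G.hom →
        P (snd X S').left := fun P _ hG => P.of_isPullback sq hG
    have sqD : IsPullback (snd X S').left (fst X S').left S'.hom X.hom :=
      (IsPullback.of_hasPullback X.hom S'.hom).flip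
    have hcov := Groth.Agent.Lib.FpqcCov18.isFpqcCov_of_fppf S'.hom
    refine ⟨?_, ?_, ?_, hX⟩
    · have : Surjective (x.left ≫ X.hom) := by rw [Over.w x]; exact hs
      exact Surjective.of_comp x.left X.hom
    · exact hcov.descends @Flat sqD (hP @Flat inferInstance)
    · exact hcov.descends @LocallyOfFinitePresentation sqD
        (hP @LocallyOfFinitePresentation inferInstance)

end Groth.Agent.S5234
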