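import Groth.Statements.S5235
import Mathlib.Tactic
import Mathlib.AlgebraicGeometry.Morphisms.Flat
import Mathlib.AlgebraicGeometry.PullbackCarrier
-- import your own Groth.Agent.* helpers here

set_option autoImplicit false
open CategoryTheory CategoryTheory.Limits AlgebraicGeometry
universe u
open GrpQ

namespace Groth.Agent.S5235

lemma oi_pullback {X Y : Scheme.{u}} (f : X ⟶ Y) (y : Subobject Y) (hy : IsOpenImmersion y.arrow) :
    IsOpenImmersion ((Subobject.pullback f).obj y).arrow :=
  MorphismProperty.of_isPullback (P := @IsOpenImmersion) (Subobject.isPullback f y) hy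

lemma range_pullback {X Y : Scheme.{u}} (f : X ⟶ Y) (y : Subobject Y) (hy : IsOpenImmersion y.arrow) :
    Set.range ((Subobject.pullback f).obj y).arrow.base = f.base ⁻¹' (Set.range y.arrow.base) := by
  have := oi_pullback f y hy
  have h := IsOpenImmersion.image_preimage_eq_preimage_image_of_isPullback
    (Subobject.isPullback f y) ⊤
  have h' := congrArg (fun U : X.Opens => (U : Set X)) h
  simpa using h'

lemma eq_of_range_eq {X : Scheme.{u}} (Y₁ Y₂ : Subobject X) (h₁ : IsOpenImmersion Y₁.arrow)
    (h₂ : IsOpenImmersion Y₂.arrow) (h : Set.range Y₁.arrow.base = Set.range Y₂.arrow.base) :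
    Y₁ = Y₂ :=
  Subobject.eq_of_comm (IsOpenImmersion.isoOfRangeEq Y₁.arrow Y₂.arrow h)
    (IsOpenImmersion.isoOfRangeEq_hom_fac _ _ h)

lemma exists_of_open {X : Scheme.{u}} (U : X.Opens) :
    ∃ Y : Subobject X, IsOpenImmersion Y.arrow ∧ Set.range Y.arrow.base = (U : Set X) := by
  refine ⟨Subobject.mk U.ι, ?_, ?_⟩
  · rw [← Subobject.underlyingIso_hom_comp_eq_mk U.ι]
    infer_instance
  · have : (Subobject.mk U.ι).arrow = (Subobject.underlyingIso U.ι).hom ≫ U.ι :=
      (Subobject.underlyingIso_hom_comp_eq_mk U.ι).symm
    rw [this, Scheme.Hom.comp_base, TopCat.coe_comp, Set.range_comp,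
      Set.range_eq_univ.mpr (Subobject.underlyingIso U.ι).hom.surjective, Set.image_univ]
    exact Scheme.Opens.range_ι U


/-- For schemes, with (M) the faithfully flat quasi-compact morphisms and (N) the open immersions: if `π
: X ⟶ X'` is flat, surjective and quasi-compact, then `Y' ↦ π⁻¹(Y')` is a bijection from open
subschemes of `X'` onto the open subschemes of `X` stable under the kernel pair of `π`. -/
theorem result {X X' : Scheme.{u}} (π : X ⟶ X')
    [Flat π] [Surjective π] [QuasiCompact π] :
    Set.BijOn (Subobject.pullback π).obj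
      {Y' : Subobject X' | IsOpenImmersion Y'.arrow}
      {Y : Subobject X | IsOpenImmersion Y.arrow ∧
        (Subobject.pullback (pullback.fst π π)).obj Y = (Subobject.pullback (pullback.snd π π)).obj Y} := by
  refine ⟨?_, ?_, ?_⟩
  · intro Y' hY'
    refine ⟨oi_pullback π Y' hY', ?_⟩
    rw [← Subobject.pullback_comp, ← Subobject.pullback_comp, pullback.condition]
  · intro Y₁ h₁ Y₂ h₂ h
    apply eq_of_range_eq Y₁ Y₂ h₁ h₂
    have e : Set.range ((Subobject.pullback π).obj Y₁).arrow.base =
        Set.range ((Subobject.pullback π).obj Y₂).arrow.base := by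
      have : (Subobject.pullback π).obj Y₁ = (Subobject.pullback π).obj Y₂ := h
      rw [this]
    rw [range_pullback π Y₁ h₁, range_pullback π Y₂ h₂] at e
    exact Set.preimage_injective.mpr π.surjective e
  · rintro Y ⟨hY, hst⟩
    set V : Set X := Set.range Y.arrow.base with hV
    have hVo : IsOpen V := Y.arrow.isOpenEmbedding.isOpen_range
    have hfs : (pullback.fst π π).base ⁻¹' V = (pullback.snd π π).base ⁻¹' V := by
      rw [← range_pullback _ Y hY, ← range_pullback _ Y hY, hst]
    have hsat : π.base ⁻¹' (π.base '' V) = V := by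
      apply Set.Subset.antisymm
      · rintro x ⟨v, hv, hvx⟩
        obtain ⟨z, hz1, hz2⟩ := Scheme.Pullback.exists_preimage_pullback (f := π) (g := π) v x hvx
        have : z ∈ (pullback.fst π π).base ⁻¹' V := by
          show (pullback.fst π π).base z ∈ V
          rw [hz1]; exact hv
        rw [hfs] at this
        have h2 : (pullback.snd π π).base z ∈ V := this
        rwa [hz2] at h2
      · exact Set.subset_preimage_image _ _
    have hopen : IsOpen (π.base '' V) := by
      rw [← (Flat.isQuotientMap_of_surjective π).isOpen_preimage, hsat]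
      exact hVo
    obtain ⟨Y', hY', hr⟩ := exists_of_open (⟨π.base '' V, hopen⟩ : X'.Opens)
    refine ⟨Y', hY', ?_⟩
    apply eq_of_range_eq _ _ (oi_pullback π Y' hY') hY
    rw [range_pullback π Y' hY', hr]
    exact hsat
end Groth.Agent.S5235
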