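import Groth.Statements.S5372
import Groth.Agent.Lib.FpqcCovDesc18

set_option autoImplicit false
set_option maxHeartbeats 400000
universe u
open CategoryTheory CategoryTheory.Limits MonoidalCategory CartesianMonoidalCategory MonObj GrpObj AlgebraicGeometry
open SGA3

namespace Groth.Agent.S5372

open Groth.Agent.Lib.FpqcCov18

section aux

variable {S : Scheme.{u}} {G G' G'' : Over S} [GrpObj G] (u : G' ⟶ G) (p : G ⟶ G'')

lemma p_mul_right (hsq : IsPullback ((G ◁ u) ≫ μ[G]) (fst G G') p p)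
    {T : Over S} (c : T ⟶ G) (n : T ⟶ G') : (c * (n ≫ u)) ≫ p = c ≫ p := by
  have h := lift c n ≫= hsq.w
  simp only [Category.assoc, lift_whiskerLeft_assoc, lift_fst_assoc] at h
  rw [Hom.mul_def, Category.assoc]
  exact h

lemma exists_of_p_eq (hsq : IsPullback ((G ◁ u) ≫ μ[G]) (fst G G') p p)
    {T : Over S} (a₁ a₂ : T ⟶ G) (h : a₁ ≫ p = a₂ ≫ p) :
    ∃ n : T ⟶ G', a₁ = a₂ * (n ≫ u) := by
  refine ⟨hsq.lift a₁ a₂ h ≫ snd G G', ?_⟩
  have h1 := hsq.lift_fst a₁ a₂ h
  have h2 := hsq.lift_snd a₁ a₂ h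
  set l := hsq.lift a₁ a₂ h with hl
  have h3 : l = lift a₂ (l ≫ snd G G') := by
    apply CartesianMonoidalCategory.hom_ext
    · rw [lift_fst, h2]
    · rw [lift_snd]
  rw [h3, lift_whiskerLeft_assoc] at h1
  rw [Hom.mul_def]
  exact h1.symm

end aux

/-- Let u : G' → G be a monomorphism of S-group schemes which is normal, and p : G → G'' a morphism of
S-schemes which is covering for the fpqc topology (some Z → G'' which is flat, surjective, with
every affine open of G'' the image of a quasi-compact open of Z, factors through p) and such that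
the square (g, h) ↦ g·u(h), first projection G ×_S G' → G, p, p is cartesian, so that G'' represents
the fpqc quotient sheaf G/G'. Then there is a structure of S-group scheme on G'' for which p is a
homomorphism, and it is unique: any morphism m : G'' ×_S G'' → G'' with (p × p) followed by m equal
to the multiplication of G followed by p is its multiplication. -/
theorem result (S : Scheme.{u}) (G G' G'' : Over S) [GrpObj G] [GrpObj G']
    (u : G' ⟶ G) [IsMonHom u] [Mono u] (p : G ⟶ G'')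
    (hcov : (∃ (Z : Scheme.{u}) (q : Z ⟶ G''.left) (r : Z ⟶ G.left), r ≫ p.left = q ∧ Surjective q ∧ Flat q ∧
        ∀ V : G''.left.Opens, IsAffineOpen V → ∃ W : Z.Opens, IsCompact (W : Set Z) ∧ q.base '' (W : Set Z) = (V : Set G''.left)))
    (hsq : IsPullback ((G ◁ u) ≫ μ[G]) (fst G G') p p) (hN : AlgGrp.IsNormalHom u) :
    ∃ _ : GrpObj G'', IsMonHom p ∧ ∀ m : G'' ⊗ G'' ⟶ G'', (p ⊗ₘ p) ≫ m = μ[G] ≫ p → m = μ[G''] := by
  have hq := isFpqcCov_of_exists p.left hcov
  have hpr := @p_mul_right S G G' G'' _ u p hsq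
  have hex := @exists_of_p_eq S G G' G'' _ u p hsq
  have hmulpt : ∀ {T : Over S} (t : T ⟶ G ⊗ G), t ≫ μ[G] = (t ≫ fst G G) * (t ≫ snd G G) := by
    intro T t
    rw [Hom.mul_def, ← comp_lift, lift_fst_snd, Category.comp_id]
  -- first descent: along `p ▷ G`
  obtain ⟨m1, hm1⟩ := exists_desc_over (p ▷ G) (isFpqcCov_whiskerRight G p hq) (μ[G] ≫ p) (by
    intro T t₁ t₂ ht
    have ha : (t₁ ≫ fst G G) ≫ p = (t₂ ≫ fst G G) ≫ p := by
      have := congrArg (· ≫ fst G'' G) ht
      simpa using this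
    have hb : t₁ ≫ snd G G = t₂ ≫ snd G G := by
      have := congrArg (· ≫ snd G'' G) ht
      simpa using this
    obtain ⟨n, hn⟩ := hex _ _ ha
    obtain ⟨n', hn'⟩ := hN T (t₂ ≫ snd G G)⁻¹ n
    rw [← Category.assoc, ← Category.assoc, hmulpt t₁, hmulpt t₂, hn, hb]
    have : t₂ ≫ fst G G * (n ≫ u) * (t₂ ≫ snd G G) =
        (t₂ ≫ fst G G * (t₂ ≫ snd G G)) * (n' ≫ u) := by
      rw [← hn']; group
    rw [this, hpr])
  -- second descent: along `G'' ◁ p`
  obtain ⟨m, hm⟩ := exists_desc_over (G'' ◁ p) (isFpqcCov_whiskerLeft G'' p hq) m1 (by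
    intro T t₁ t₂ ht
    have hc : t₁ ≫ fst G'' G = t₂ ≫ fst G'' G := by
      have := congrArg (· ≫ fst G'' G'') ht
      simpa using this
    have hb : (t₁ ≫ snd G'' G) ≫ p = (t₂ ≫ snd G'' G) ≫ p := by
      have := congrArg (· ≫ snd G'' G'') ht
      simpa using this
    obtain ⟨n, hn⟩ := hex _ _ hb
    have hπ : IsFpqcCov (pullback.snd p (t₂ ≫ fst G'' G)).left :=
      hq.of_isPullback ((IsPullback.of_hasPullback p (t₂ ≫ fst G'' G)).map (Over.forget S))
    have := epi_over _ hπ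
    rw [← cancel_epi (pullback.snd p (t₂ ≫ fst G'' G))]
    have e : ∀ t : T ⟶ G'' ⊗ G, t ≫ fst G'' G = t₂ ≫ fst G'' G →
        pullback.snd p (t₂ ≫ fst G'' G) ≫ t =
          lift (pullback.fst p (t₂ ≫ fst G'' G))
            (pullback.snd p (t₂ ≫ fst G'' G) ≫ t ≫ snd G'' G) ≫ (p ▷ G) := by
      intro t htc
      apply CartesianMonoidalCategory.hom_ext
      · simp [htc, pullback.condition]
      · simp
    have key : ∀ t : T ⟶ G'' ⊗ G, t ≫ fst G'' G = t₂ ≫ fst G'' G →
        pullback.snd p (t₂ ≫ fst G'' G) ≫ t ≫ m1 =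
          (pullback.fst p (t₂ ≫ fst G'' G) *
            (pullback.snd p (t₂ ≫ fst G'' G) ≫ t ≫ snd G'' G)) ≫ p := by
      intro t htc
      rw [← Category.assoc, e t htc, Category.assoc, hm1, ← Category.assoc, hmulpt, lift_fst,
        lift_snd]
    rw [key t₁ hc, key t₂ rfl, hn, MonObj.comp_mul, ← _root_.mul_assoc]
    have h5 := hpr (pullback.fst p (t₂ ≫ fst G'' G) *
      pullback.snd p (t₂ ≫ fst G'' G) ≫ t₂ ≫ snd G'' G) (pullback.snd p (t₂ ≫ fst G'' G) ≫ n)
    rw [Category.assoc] at h5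
    exact h5)
  have hm' : (p ⊗ₘ p) ≫ m = μ[G] ≫ p := by
    rw [MonoidalCategory.tensorHom_def, Category.assoc, hm, hm1]
  -- inverse
  obtain ⟨i'', hi⟩ := exists_desc_over p hq (ι[G] ≫ p) (by
    intro T a₁ a₂ h
    obtain ⟨n, hn⟩ := hex a₁ a₂ h
    obtain ⟨n', hn'⟩ := hN T a₂ n⁻¹
    rw [← Category.assoc, ← Category.assoc, ← Hom.inv_def, ← Hom.inv_def, hn]
    have h1 : n⁻¹ ≫ u = (n ≫ u)⁻¹ := GrpObj.inv_comp n u
    have : (a₂ * (n ≫ u))⁻¹ = a₂⁻¹ * (n' ≫ u) := by
      rw [← hn', h1]; group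
    rw [this, hpr])
  -- epimorphisms
  have ep : Epi p := epi_over p hq
  have e1 : Epi ((p ▷ G) ▷ G) :=
    epi_over _ (isFpqcCov_whiskerRight G _ (isFpqcCov_whiskerRight G p hq))
  have e2 : Epi ((G'' ◁ p) ▷ G) :=
    epi_over _ (isFpqcCov_whiskerRight G _ (isFpqcCov_whiskerLeft G'' p hq))
  have e3 : Epi ((G'' ⊗ G'') ◁ p) := epi_over _ (isFpqcCov_whiskerLeft _ p hq)
  have e4 : Epi (p ▷ G) := epi_over _ (isFpqcCov_whiskerRight G p hq)
  have e5 : Epi (G'' ◁ p) := epi_over _ (isFpqcCov_whiskerLeft G'' p hq)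
  have e6 : Epi (𝟙_ (Over S) ◁ p) := epi_over _ (isFpqcCov_whiskerLeft _ p hq)
  have e7 : Epi (p ▷ 𝟙_ (Over S)) := epi_over _ (isFpqcCov_whiskerRight _ p hq)
  have epp : Epi (p ⊗ₘ p) := by
    rw [MonoidalCategory.tensorHom_def]; infer_instance
  have eppp : Epi ((p ⊗ₘ p) ⊗ₘ p) := by
    rw [MonoidalCategory.tensorHom_def (p ⊗ₘ p) p, MonoidalCategory.tensorHom_def p p,
      comp_whiskerRight]
    infer_instance
  let monG'' : MonObj G'' :=
    { one := η[G] ≫ p
      mul := m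
      one_mul := by
        rw [← cancel_epi (𝟙_ (Over S) ◁ p), whisker_exchange_assoc, comp_whiskerRight]
        simp only [Category.assoc]
        rw [← MonoidalCategory.tensorHom_def_assoc, hm',
          MonObj.one_mul_assoc, leftUnitor_naturality]
      mul_one := by
        rw [← cancel_epi (p ▷ 𝟙_ (Over S)), ← whisker_exchange_assoc,
          MonoidalCategory.whiskerLeft_comp]
        simp only [Category.assoc]
        rw [← MonoidalCategory.tensorHom_def'_assoc, hm', MonObj.mul_one_assoc,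
          rightUnitor_naturality]
      mul_assoc := by
        rw [← cancel_epi ((p ⊗ₘ p) ⊗ₘ p)]
        have hL : ((p ⊗ₘ p) ⊗ₘ p) ≫ (m ▷ G'') = (μ[G] ▷ G) ≫ (p ⊗ₘ p) := by
          rw [← tensorHom_id, tensorHom_comp_tensorHom, hm', Category.comp_id, ← tensorHom_id,
            tensorHom_comp_tensorHom, Category.id_comp]
        have hR : ((p ⊗ₘ p) ⊗ₘ p) ≫ (α_ G'' G'' G'').hom ≫ (G'' ◁ m) =
            (α_ G G G).hom ≫ (G ◁ μ[G]) ≫ (p ⊗ₘ p) := by
          rw [associator_naturality_assoc, ← id_tensorHom, tensorHom_comp_tensorHom, hm',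
            Category.comp_id, ← id_tensorHom, tensorHom_comp_tensorHom, Category.id_comp]
        rw [reassoc_of% hL, hm', reassoc_of% hR, hm', MonObj.mul_assoc_assoc] }
  let grpG'' : GrpObj G'' :=
    { monG'' with
      inv := i''
      left_inv := by
        change lift i'' (𝟙 G'') ≫ m = toUnit G'' ≫ η[G] ≫ p
        rw [← cancel_epi p, comp_lift_assoc, hi, Category.comp_id]
        have : lift (ι[G] ≫ p) p = lift ι[G] (𝟙 G) ≫ (p ⊗ₘ p) := by
          rw [lift_map, Category.id_comp]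
        rw [this, Category.assoc, hm', GrpObj.left_inv_assoc, ← Category.assoc p,
          toUnit_unique (p ≫ toUnit G'') (toUnit G)]
      right_inv := by
        change lift (𝟙 G'') i'' ≫ m = toUnit G'' ≫ η[G] ≫ p
        rw [← cancel_epi p, comp_lift_assoc, hi, Category.comp_id]
        have : lift p (ι[G] ≫ p) = lift (𝟙 G) ι[G] ≫ (p ⊗ₘ p) := by
          rw [lift_map, Category.id_comp]
        rw [this, Category.assoc, hm', GrpObj.right_inv_assoc, ← Category.assoc p,
          toUnit_unique (p ≫ toUnit G'') (toUnit G)] }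
  refine ⟨grpG'', ⟨rfl, hm'.symm⟩, ?_⟩
  intro m' hm''
  change m' = m
  rw [← cancel_epi (p ⊗ₘ p), hm'', hm']

end Groth.Agent.S5372
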