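import Groth.Statements.S5236
import Groth.Agent.S5372

set_option autoImplicit false
set_option maxHeartbeats 400000
open CategoryTheory CategoryTheory.Limits AlgebraicGeometry MonoidalCategory
universe u
open RedSub

namespace Groth.Agent.S5236

open CartesianMonoidalCategory MonObj

/-- An fppf morphism satisfies the SGA3 covering hypothesis (with `Z` the source). -/
lemma exists_hcov_of_fppf {X Y : Scheme.{u}} (q : X ⟶ Y) [Flat q] [Surjective q]
    [LocallyOfFinitePresentation q] :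
    ∃ (Z : Scheme.{u}) (q' : Z ⟶ Y) (r : Z ⟶ X), r ≫ q = q' ∧ Surjective q' ∧ Flat q' ∧
      ∀ V : Y.Opens, IsAffineOpen V → ∃ W : Z.Opens, IsCompact (W : Set Z) ∧
        q'.base '' (W : Set Z) = (V : Set Y) := by
  refine ⟨X, q, 𝟙 X, Category.id_comp _, inferInstance, inferInstance, ?_⟩
  intro V hV
  have hopen : IsOpenMap q := q.isOpenMap
  have hex : ∀ x : ↥(q ⁻¹ᵁ V), ∃ U : X.Opens, IsAffineOpen U ∧ x.1 ∈ U ∧ U ≤ q ⁻¹ᵁ V := by
    intro x
    obtain ⟨_, ⟨U, hU, rfl⟩, hxU, hUV⟩ :=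
      X.isBasis_affineOpens.exists_subset_of_mem_open x.2 (q ⁻¹ᵁ V).isOpen
    exact ⟨U, hU, hxU, hUV⟩
  choose U hUaff hxU hUV using hex
  have hcover : (V : Set Y) ⊆ ⋃ x, q '' (U x : Set X) := by
    intro y hy
    obtain ⟨x, rfl⟩ := q.surjective y
    exact Set.mem_iUnion.mpr ⟨⟨x, hy⟩, x, hxU _, rfl⟩
  obtain ⟨t, ht⟩ := hV.isCompact.elim_finite_subcover (fun x => q '' (U x : Set X))
    (fun x => hopen _ (U x).isOpen) hcover
  refine ⟨⟨⋃ x ∈ t, (U x : Set X), isOpen_biUnion (fun x _ => (U x).isOpen)⟩, ?_, ?_⟩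
  · exact t.isCompact_biUnion (fun x _ => (hUaff x).isCompact)
  · apply Set.Subset.antisymm
    · rintro _ ⟨z, hz, rfl⟩
      obtain ⟨x, hx, hzx⟩ := Set.mem_iUnion₂.mp hz
      exact hUV x hzx
    · intro y hy
      obtain ⟨x, hx, z, hz, rfl⟩ := Set.mem_iUnion₂.mp (ht hy)
      exact ⟨z, Set.mem_iUnion₂.mpr ⟨x, hx, hz⟩, rfl⟩

/-- A group object structure is determined by its monoid structure. -/
lemma grpObj_ext {C : Type*} [Category C] [CartesianMonoidalCategory C] {X : C}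
    (s s' : GrpObj X) (h : s.toMonObj = s'.toMonObj) : s = s' := by
  obtain ⟨inv, li, ri⟩ := s
  obtain ⟨inv', li', ri'⟩ := s'
  simp only at h
  subst h
  have e : inv' = inv := by
    have h1 : inv' * 𝟙 X = 1 := by rw [Hom.mul_def, Hom.one_def]; exact li'
    have h2 : 𝟙 X * inv = 1 := by rw [Hom.mul_def, Hom.one_def]; exact ri
    exact left_inv_eq_right_inv h1 h2
  subst e
  rfl

/-- For group schemes and the fppf topology: if `i : H ⟶ G` is a normal monomorphism of `S`-group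
schemes and `q : G ⟶ Q` exhibits `Q` as the fppf quotient `G/H`, then there is exactly one
group-scheme structure on `Q` over `S` making `q` a homomorphism. -/
theorem result {S : Scheme.{u}} {H G Q : Over S} [GrpObj H] [hG : GrpObj G]
    (i : H ⟶ G) [IsMonHom i] [Mono i] (hn : AlgGrp.IsNormalHom i)
    (q : G ⟶ Q) (hq : RedSub.IsQuotient i q) :
    ∃! s : GrpObj Q, @IsMonHom (Over S) _ _ G Q hG.toMonObj s.toMonObj q := by
  obtain ⟨surjq, flatq, lfpq, sqq⟩ := hq
  obtain ⟨s, hs1, hs2⟩ := Groth.Agent.S5372.result S G H Q i q (exists_hcov_of_fppf q.left) sqq.flip hn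
  refine ⟨s, hs1, ?_⟩
  intro s' hs'
  apply grpObj_ext
  apply MonObj.ext
  exact hs2 s'.mul (@IsMonHom.mul_hom _ _ _ G Q hG.toMonObj s'.toMonObj q hs').symm

end Groth.Agent.S5236
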