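import Groth.Statements.S5237
import Mathlib
-- import your own Groth.Agent.* helpers here

set_option autoImplicit false
open CategoryTheory CategoryTheory.Limits AlgebraicGeometry MonoidalCategory
universe u
open RedSub

namespace Groth.Agent.S5237

open MonObj GrpObj CartesianMonoidalCategory in
/-- For group schemes and the fppf topology: if `q : G ⟶ Q = G/H` is the fppf quotient of `G` by a
normal subgroup `H`, with its group structure, then a homomorphism `G ⟶ K` that kills `H` factors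
uniquely through `q`, and the factorisation is a homomorphism. -/
theorem result {S : Scheme.{u}} {H G Q K : Over S}
    [GrpObj H] [GrpObj G] [GrpObj Q] [GrpObj K]
    (i : H ⟶ G) [IsMonHom i] [Mono i] (hn : AlgGrp.IsNormalHom i)
    (q : G ⟶ Q) [IsMonHom q] (hq : RedSub.IsQuotient i q)
    (f : G ⟶ K) [IsMonHom f] (hf : i ≫ f = 1) :
    ∃! g : Q ⟶ K, q ≫ g = f ∧ IsMonHom g := by
  classical
  obtain ⟨hsurj, hflat, hlfp, hpb⟩ := hq
  have heff : EffectiveEpi q.left := inferInstance
  have hepi : Epi q.left := inferInstance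
  have hepiq : Epi q := Over.epi_of_epi_left q
  -- the key compatibility
  have hcompat : ∀ {Z : Scheme.{u}} (g₁ g₂ : Z ⟶ G.left), g₁ ≫ q.left = g₂ ≫ q.left →
      g₁ ≫ f.left = g₂ ≫ f.left := by
    intro Z g₁ g₂ h12
    let Z' : Over S := Over.mk (g₁ ≫ G.hom)
    let a₁ : Z' ⟶ G := Over.homMk g₁ rfl
    have hw : g₂ ≫ G.hom = g₁ ≫ G.hom := by
      rw [← Over.w q, ← Category.assoc, ← h12, Category.assoc]
    let a₂ : Z' ⟶ G := Over.homMk g₂ hw
    have ha : a₁ ≫ q = a₂ ≫ q := Over.OverMorphism.ext h12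
    let p : Z' ⟶ G ⊗ H := hpb.lift a₁ a₂ ha
    have hp1 : p ≫ fst G H = a₁ := hpb.lift_fst _ _ _
    have hp2 : p ≫ (G ◁ i) ≫ μ[G] = a₂ := hpb.lift_snd _ _ _
    have hlift : p ≫ (G ◁ i) = lift a₁ ((p ≫ snd G H) ≫ i) := by
      apply CartesianMonoidalCategory.hom_ext
      · simp [hp1]
      · simp
    have hmul : a₂ = a₁ * ((p ≫ snd G H) ≫ i) := by
      rw [← hp2, Hom.mul_def, ← hlift, Category.assoc]
    have : a₂ ≫ f = a₁ ≫ f := by
      rw [hmul, MonObj.mul_comp, Category.assoc, hf, MonObj.comp_one, _root_.mul_one]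
    exact (congrArg (fun k => k.left) this).symm
  let gl : Q.left ⟶ K.left := EffectiveEpi.desc q.left f.left hcompat
  have hfac : q.left ≫ gl = f.left := EffectiveEpi.fac q.left f.left hcompat
  have hw : gl ≫ K.hom = Q.hom := by
    rw [← cancel_epi q.left, ← Category.assoc, hfac, Over.w f, Over.w q]
  let g : Q ⟶ K := Over.homMk gl hw
  have hqg : q ≫ g = f := Over.OverMorphism.ext hfac
  -- `q ⊗ₘ q` is an epimorphism
  have hepiqq : Epi (q ⊗ₘ q) := by
    have hP : (@Surjective ⊓ @Flat ⊓ @LocallyOfFinitePresentation : MorphismProperty Scheme.{u})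
        (q ⊗ₘ q).left := by
      rw [Over.tensorHom_left]
      exact MorphismProperty.pullbackMap (P := (@Surjective ⊓ @Flat ⊓ @LocallyOfFinitePresentation :
        MorphismProperty Scheme.{u})) ⟨⟨hsurj, hflat⟩, hlfp⟩ ⟨⟨hsurj, hflat⟩, hlfp⟩
        (Over.w q).symm (Over.w q).symm
    have h1 : Surjective (q ⊗ₘ q).left := hP.1.1
    have h2 : Flat (q ⊗ₘ q).left := hP.1.2
    have h3 : LocallyOfFinitePresentation (q ⊗ₘ q).left := hP.2
    have : EffectiveEpi (q ⊗ₘ q).left := inferInstance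
    have : Epi (q ⊗ₘ q).left := inferInstance
    exact Over.epi_of_epi_left _
  have hmon : IsMonHom g := by
    constructor
    · rw [← IsMonHom.one_hom (f := q), Category.assoc, hqg, IsMonHom.one_hom]
    · rw [← cancel_epi (q ⊗ₘ q), ← Category.assoc, ← IsMonHom.mul_hom (f := q), Category.assoc, hqg,
        IsMonHom.mul_hom, MonoidalCategory.tensorHom_comp_tensorHom_assoc, hqg]
  refine ⟨g, ⟨hqg, hmon⟩, ?_⟩
  rintro g' ⟨hg', -⟩
  rw [← cancel_epi q, hg', hqg]

end Groth.Agent.S5237
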