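import Groth.Statements.S5270
import Mathlib.RingTheory.AdicCompletion.Noetherian
import Mathlib.LinearAlgebra.TensorProduct.Quotient
import Mathlib.RingTheory.Flat.FaithfullyFlat.Algebra

set_option autoImplicit false
universe u
open TensorProduct SGA3b
open SGA3b

namespace Groth.Agent.S5270

theorem mem_smul_top_of_tmul_eq_zero {A : Type u} [CommRing A] (J : Ideal A)
    {B : Type u} [AddCommGroup B] [Module A B] (x : B)
    (h : (1 : A ⧸ J) ⊗ₜ[A] x = 0) : x ∈ J • (⊤ : Submodule A B) := by
  have := congr(TensorProduct.quotTensorEquivQuotSMul B J $h)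
  rw [TensorProduct.quotTensorEquivQuotSMul_mk_one_tmul, map_zero] at this
  exact (Submodule.Quotient.mk_eq_zero _).mp this

theorem map_mem_smul_top {A : Type u} [CommRing A] (J : Ideal A)
    {N N' : Type u} [AddCommGroup N] [Module A N] [AddCommGroup N'] [Module A N']
    (g : N →ₗ[A] N') (x : N) (hx : x ∈ J • (⊤ : Submodule A N)) :
    g x ∈ J • (⊤ : Submodule A N') := by
  have : (J • (⊤ : Submodule A N)).map g ≤ J • (⊤ : Submodule A N') := by
    rw [Submodule.map_smul'']
    exact smul_mono_right _ le_top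
  exact this ⟨x, hx, rfl⟩

/-- Injectivity of the map to formal homomorphisms. Let A be a Noetherian ring, separated and complete
for the I-adic topology, H = Spec B an isotrivial A-group of multiplicative type and G = Spec C an
affine A-group. If two homomorphisms H ⟶ G, given by bialgebra maps φ, ψ : C → B, have the same
reduction modulo I^(n+1) for every n ≥ 0, then φ = ψ. (Affine group schemes over an affine base are
taken in Hopf-algebra form; base change is the tensor product; a homomorphism of groups Spec A ⟶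
Spec C is a bialgebra map C → A.) -/
theorem result (A : Type u) [CommRing A] [IsNoetherianRing A] (I : Ideal A) [IsAdicComplete I A]
    (B : Type u) [CommRing B] [HopfAlgebra A B] (hH : IsIsotrivial A B)
    (C : Type u) [CommRing C] [HopfAlgebra A C] (φ ψ : C →ₐc[A] B)
    (h : ∀ (n : ℕ) (c : C), (1 : A ⧸ I ^ (n + 1)) ⊗ₜ[A] (φ c) = (1 : A ⧸ I ^ (n + 1)) ⊗ₜ[A] (ψ c)) :
    φ = ψ := by
  obtain ⟨A', _, _, -, hfin, hff, M, _, ⟨e⟩⟩ := hH
  have hjac : I ≤ Ideal.jacobson ⊥ := IsAdicComplete.le_jacobson_bot I
  have hhaus : IsHausdorff I A' := IsHausdorff.of_le_jacobson I A' hjac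
  ext c
  have hx : ∀ n, φ c - ψ c ∈ I ^ (n + 1) • (⊤ : Submodule A B) := by
    intro n
    apply mem_smul_top_of_tmul_eq_zero
    rw [tmul_sub, h n c, sub_self]
  suffices hzero : φ c - ψ c = 0 from sub_eq_zero.mp hzero
  apply Module.FaithfullyFlat.tensorProduct_mk_injective (A := A) (B := A') B
  rw [map_zero]
  apply e.injective
  rw [map_zero]
  apply (MonoidAlgebra.coeffLinearEquiv A (S := A') (M := M)).injective
  rw [map_zero]
  ext m
  let g : B →ₗ[A] A' :=
    ((Finsupp.lapply m : (M →₀ A') →ₗ[A'] A').restrictScalars A) ∘ₗ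
      (MonoidAlgebra.coeffLinearEquiv A (S := A') (M := M)).toLinearMap ∘ₗ
      (e.toBialgHom.toAlgHom.toLinearMap.restrictScalars A) ∘ₗ (TensorProduct.mk A A' B 1)
  change g (φ c - ψ c) = 0
  apply hhaus.haus
  intro n
  rw [SModEq.zero]
  cases n with
  | zero => rw [pow_zero, Ideal.one_eq_top, Submodule.top_smul]; exact Submodule.mem_top
  | succ n => exact map_mem_smul_top _ g _ (hx n)

end Groth.Agent.S5270
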