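import Groth.Statements.S5278
import Groth.Agent.Lib.ConnComp45
import Mathlib.AlgebraicGeometry.Morphisms.QuasiFinite
import Mathlib.AlgebraicGeometry.Morphisms.UniversallyOpen
import Mathlib.AlgebraicGeometry.Morphisms.Etale
import Mathlib.AlgebraicGeometry.Morphisms.Proper

set_option autoImplicit false
open CategoryTheory AlgebraicGeometry
universe u
open SGA3x

namespace Groth.Agent.S5278

/-- Let X be a connected scheme, f : X' ⟶ X a finite etale morphism and x a point of X. Then every
connected component of X' meets the fibre of f over x; equivalently the map from the connected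
components of the fibre (or of the geometric fibre) to those of X' is surjective. -/
theorem result {X X' : Scheme.{u}} [ConnectedSpace X] (f : X' ⟶ X)
    [IsFinite f] [Etale f] (x : X) (c : X') :
    ∃ x' : X', f.base x' = x ∧ x' ∈ connectedComponent c := by
  have hopen : IsOpenMap f := f.isOpenMap
  have hclosed : IsClosedMap f := f.isClosedMap
  have hfin : (f ⁻¹' {x}).Finite := f.finite_preimage_singleton x
  have hmeet : ∀ K : Set X', IsClopen K → K.Nonempty → (K ∩ f ⁻¹' {x}).Nonempty := by
    intro K hK hKne
    have h1 : IsClopen (f '' K) := ⟨hclosed K hK.isClosed, hopen K hK.isOpen⟩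
    have h2 : f '' K = Set.univ := h1.eq_univ (hKne.image f)
    have h3 : x ∈ f '' K := h2 ▸ Set.mem_univ x
    obtain ⟨z, hzK, hz⟩ := h3
    exact ⟨z, hzK, hz⟩
  have hC := Groth.Agent.Lib.ConnComp45.isClopen_connectedComponent_of_finite _ hfin hmeet c
  obtain ⟨z, hzC, hz⟩ := hmeet _ hC ⟨c, mem_connectedComponent⟩
  exact ⟨z, hz, hzC⟩

end Groth.Agent.S5278
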