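import Groth.Statements.S5323
-- import your own Groth.Agent.* helpers here
import Groth.Agent.Lib.GrpFibQC91

set_option autoImplicit false
universe u
open CategoryTheory CategoryTheory.Limits MonoidalCategory CartesianMonoidalCategory MonObj GrpObj AlgebraicGeometry
open SGA3

namespace Groth.Agent.S5323

/-- Let S be a quasi-compact quasi-separated scheme and G an S-group scheme whose fibres G_s are locally
of finite type over κ(s). Then there is a quasi-compact open subset of G containing the union of the
neutral components of the fibres G_s. -/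
theorem result (S : Scheme.{u}) [CompactSpace S] [QuasiSeparatedSpace S]
    (G : Over S) [GrpObj G] (hG : ∀ s : S, LocallyOfFiniteType (G.hom.fiberToSpecResidueField s)) :
    ∃ U : G.left.Opens, IsCompact (U : Set G.left) ∧ SGA3x.neutralSet G ⊆ U := by
  obtain ⟨Q, hQc, -, hQ⟩ := Groth.Agent.Lib.GrpFibQC91.exists_isCompact_neutral G ⊤
    (by simpa using isCompact_univ) (by simpa using isQuasiSeparated_univ)
  obtain ⟨W, hWc, hQW, -⟩ := Groth.Agent.Lib.GrpFibQC91.exists_isCompact_opens hQc ⊤
    (fun _ _ => trivial)
  refine ⟨W, hWc, ?_⟩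
  intro x hx
  obtain ⟨p, hxp⟩ := Set.mem_iUnion.mp hx
  exact hQW (hQ p trivial hxp)

end Groth.Agent.S5323
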