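import Groth.Statements.S5324
-- import your own Groth.Agent.* helpers here
import Groth.Agent.Lib.GrpFibQC91

set_option autoImplicit false
universe u
open CategoryTheory CategoryTheory.Limits MonoidalCategory CartesianMonoidalCategory MonObj GrpObj AlgebraicGeometry
open SGA3

namespace Groth.Agent.S5324

/-- Let G be an S-group scheme whose fibres G_s are locally of finite type over κ(s) and connected. Then
G is quasi-compact over S. -/
theorem result (S : Scheme.{u}) (G : Over S) [GrpObj G]
    (hG : ∀ s : S, LocallyOfFiniteType (G.hom.fiberToSpecResidueField s))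
    (hconn : ∀ s : S, _root_.IsConnected (G.hom.base ⁻¹' {s})) : QuasiCompact G.hom := by
  rw [quasiCompact_iff_forall_isAffineOpen]
  intro V hV
  obtain ⟨Q, hQc, hQV, hQ⟩ := Groth.Agent.Lib.GrpFibQC91.exists_isCompact_neutral G V
    hV.isCompact hV.isQuasiSeparated
  have hw : η[G].left ≫ G.hom = 𝟙 S := Over.w η[G]
  have h : ((G.hom ⁻¹ᵁ V : G.left.Opens) : Set G.left) = Q := by
    apply Set.Subset.antisymm
    · intro x hx
      have hs : G.hom x ∈ V := hx
      obtain ⟨p, hp⟩ : ∃ p : ↥(𝟙_ (Over S)).left, (𝟙_ (Over S)).hom p = G.hom x := ⟨G.hom x, rfl⟩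
      have h1 := hQ p (by rw [hp]; exact hs)
      rw [hp] at h1
      apply h1
      apply (hconn (G.hom x)).isPreconnected.subset_connectedComponentIn ?_ subset_rfl ?_
      · change G.hom (η[G].left p) = G.hom x
        rw [← Scheme.Hom.comp_apply, hw]
        exact hp
      · rfl
    · exact hQV
  rw [h]
  exact hQc

end Groth.Agent.S5324
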