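import Groth.Statements.S5335
import Groth.Agent.Lib.ArtinOpen45
import Groth.Agent.Lib.KerTorsor45
import Groth.Agent.Lib.H69SubGrpdRed

set_option autoImplicit false
universe u
open CategoryTheory CategoryTheory.Limits MonoidalCategory CartesianMonoidalCategory MonObj GrpObj AlgebraicGeometry
open SGA3

namespace Groth.Agent.S5335

/-- Let A be a local artinian ring and f : X' → X, g : Y' → Y two quasi-compact dominant morphisms of
schemes over A. Then the product morphism f ×_A g : X' ×_A Y' → X ×_A Y is dominant (and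
quasi-compact). -/
theorem result (A : Type u) [CommRing A] [IsArtinianRing A] [IsLocalRing A] (X X' Y Y' : Over (Spec (CommRingCat.of A)))
    (f : X' ⟶ X) (g : Y' ⟶ Y) [QuasiCompact f.left] [QuasiCompact g.left]
    (hf : DenseRange f.left.base) (hg : DenseRange g.left.base) :
    DenseRange (f ⊗ₘ g).left.base ∧ QuasiCompact (f ⊗ₘ g).left := by
  have hA := ((Groth.Agent.Lib.KerTorsor45.isPullback_whiskerRight_fst f Y').map
    (Over.forget (Spec (CommRingCat.of A)))).flip
  have hB : IsPullback ((Over.forget (Spec (CommRingCat.of A))).map (snd X Y'))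
      ((Over.forget (Spec (CommRingCat.of A))).map (X ◁ g)) g.left
      ((Over.forget (Spec (CommRingCat.of A))).map (snd X Y)) :=
    (Groth.Agent.Lib.ActOpen18.isPullback_whiskerLeft_snd X g).flip
  have hY' : UniversallyOpen Y'.hom := Groth.Agent.Lib.ArtinOpen45.universallyOpen_of_artinian _
  have hX : UniversallyOpen X.hom := Groth.Agent.Lib.ArtinOpen45.universallyOpen_of_artinian _
  have ho1 : UniversallyOpen ((Over.forget (Spec (CommRingCat.of A))).map (fst X Y')) :=
    inferInstanceAs (UniversallyOpen (pullback.fst X.hom Y'.hom))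
  have ho2 : UniversallyOpen ((Over.forget (Spec (CommRingCat.of A))).map (snd X Y)) :=
    inferInstanceAs (UniversallyOpen (pullback.snd X.hom Y.hom))
  have hd1 : DenseRange ((Over.forget (Spec (CommRingCat.of A))).map (f ▷ Y')) :=
    Groth.Agent.Lib.H69SubGrpdRed.denseRange_of_isPullback hA hf
  have hd2 : DenseRange ((Over.forget (Spec (CommRingCat.of A))).map (X ◁ g)) :=
    @Groth.Agent.Lib.H69SubGrpdRed.denseRange_of_isPullback _ _ _ _ _ _ _ _ hB hg ho2
  have hq1 : QuasiCompact ((Over.forget (Spec (CommRingCat.of A))).map (f ▷ Y')) :=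
    MorphismProperty.of_isPullback (P := @QuasiCompact) hA (inferInstanceAs (QuasiCompact f.left))
  have hq2 : QuasiCompact ((Over.forget (Spec (CommRingCat.of A))).map (X ◁ g)) :=
    MorphismProperty.of_isPullback (P := @QuasiCompact) hB (inferInstanceAs (QuasiCompact g.left))
  have heq : (f ⊗ₘ g).left = (Over.forget (Spec (CommRingCat.of A))).map (f ▷ Y') ≫
      (Over.forget (Spec (CommRingCat.of A))).map (X ◁ g) := by
    rw [MonoidalCategory.tensorHom_def]; rfl
  rw [heq]
  refine ⟨?_, MorphismProperty.comp_mem (W := @QuasiCompact) _ _ hq1 hq2⟩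
  exact hd2.comp hd1 (Scheme.Hom.continuous _)

end Groth.Agent.S5335
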