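import Groth.Statements.S5337
import Groth.Agent.Lib.H71OpenToGlobal

set_option autoImplicit false
universe u
open CategoryTheory CategoryTheory.Limits MonoidalCategory CartesianMonoidalCategory MonObj GrpObj AlgebraicGeometry
open SGA3

namespace Groth.Agent.S5337

/-- Quasi-finite, unramified, smooth and etale cases: let A be a local artinian ring, G an A-group
scheme which is flat and locally of finite type over A, and u : G → H a homomorphism of A-group
schemes. If u is locally quasi-finite (resp. unramified, that is formally unramified and locally of
finite presentation, resp. smooth, resp. etale) on some nonempty open subscheme of G, then u is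
locally quasi-finite (resp. unramified, resp. smooth, resp. etale). (Here u is automatically locally
of finite type.) -/
theorem result (A : Type u) [CommRing A] [IsArtinianRing A] [IsLocalRing A] (G H : Over (Spec (CommRingCat.of A))) [GrpObj G] [GrpObj H]
    [Flat G.hom] [LocallyOfFiniteType G.hom] (u : G ⟶ H) [IsMonHom u] (W : G.left.Opens) (hW : (W : Set G.left).Nonempty) :
    (LocallyQuasiFinite (W.ι ≫ u.left) → LocallyQuasiFinite u.left) ∧
    (FormallyUnramified (W.ι ≫ u.left) → LocallyOfFinitePresentation (W.ι ≫ u.left) →
      FormallyUnramified u.left ∧ LocallyOfFinitePresentation u.left) ∧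
    (Smooth (W.ι ≫ u.left) → Smooth u.left) ∧ (Etale (W.ι ≫ u.left) → Etale u.left) := by
  have := Groth.Agent.Lib.H71HomLocus.subsingleton_spec_of_artinian_local A
  have hlfp : LocallyOfFinitePresentation G.hom := by
    rw [HasRingHomProperty.iff_appLE (P := @LocallyOfFinitePresentation)]
    intro U V e
    have : IsNoetherianRing Γ(Spec (CommRingCat.of A), U) :=
      IsLocallyNoetherian.component_noetherian U
    exact RingHom.FinitePresentation.of_finiteType.mp (G.hom.finiteType_appLE U.2 V.2 e)
  refine ⟨fun h => Groth.Agent.Lib.H71HomLocus.lqf_of_open u W hW h,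
    fun h1 h2 => ⟨Groth.Agent.Lib.H71HomLocus.unram_of_open u W hW h1,
      Groth.Agent.Lib.H71HomLocus.lfp_of_open u W hW h2⟩,
    fun h => Groth.Agent.Lib.H71HomLocus.smooth_of_open u W hW h,
    fun h => Groth.Agent.Lib.H71HomLocus.etale_of_open u W hW h⟩

end Groth.Agent.S5337
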