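import Groth.Statements.S5338
import Groth.Agent.Lib.FlatLiftPoly88

set_option autoImplicit false
set_option maxHeartbeats 400000
universe u
open CategoryTheory CategoryTheory.Limits MonoidalCategory CartesianMonoidalCategory MonObj GrpObj AlgebraicGeometry
open SGA3

namespace Groth.Agent.S5338

section aux

open Function

variable {A B C : Type u} [CommRing A] [CommRing B] [CommRing C]
    [Algebra A B] [Algebra B C] [Algebra A C] [IsScalarTower A B C] (n : Ideal A)


theorem key (hn : IsNilpotent n) (IB : Ideal B) (hIB : IB = n.map (algebraMap A B)) (m : ℕ)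
    (fbar : MvPolynomial (Fin m) (B ⧸ IB) →ₐ[B ⧸ IB] (C ⧸ IB.map (algebraMap B C)))
    (hf : Surjective fbar) :
    ∃ φ : MvPolynomial (Fin m) B →ₐ[B] C, Surjective φ ∧
      (Module.Flat A C → (RingHom.ker fbar.toRingHom).FG → (RingHom.ker φ.toRingHom).FG) := by
  classical
  set IC := IB.map (algebraMap B C) with hIC
  have hIBnil : IsNilpotent IB := by
    obtain ⟨k, hk⟩ := hn
    exact ⟨k, by rw [hIB, ← Ideal.map_pow, hk, Ideal.zero_eq_bot, Ideal.map_bot, Ideal.zero_eq_bot]⟩
  let ρ : MvPolynomial (Fin m) B →+* MvPolynomial (Fin m) (B ⧸ IB) := MvPolynomial.map (Ideal.Quotient.mk IB)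
  have hρ : Surjective ρ := MvPolynomial.map_surjective _ Ideal.Quotient.mk_surjective
  let mkC := Ideal.Quotient.mk IC
  have hmkC : Surjective mkC := Ideal.Quotient.mk_surjective
  choose c hc using fun j : Fin m => hmkC (fbar (MvPolynomial.X j))
  let φ : MvPolynomial (Fin m) B →ₐ[B] C := MvPolynomial.aeval c
  have hφ : ∀ q, mkC (φ q) = fbar (ρ q) := by
    have : mkC.comp φ.toRingHom = fbar.toRingHom.comp ρ := by
      apply MvPolynomial.ringHom_ext
      · intro b
        have h1 : fbar (MvPolynomial.C (Ideal.Quotient.mk IB b)) =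
            algebraMap (B ⧸ IB) (C ⧸ IC) (Ideal.Quotient.mk IB b) := by
          rw [← MvPolynomial.algebraMap_eq, AlgHom.commutes]
        simp only [RingHom.comp_apply, AlgHom.toRingHom_eq_coe, RingHom.coe_coe, φ,
          MvPolynomial.aeval_C, ρ, MvPolynomial.map_C, h1]
        rfl
      · intro j
        simp only [RingHom.comp_apply, AlgHom.toRingHom_eq_coe, RingHom.coe_coe, φ,
          MvPolynomial.aeval_X, ρ, MvPolynomial.map_X, hc]
    intro q
    exact RingHom.congr_fun this q
  -- elements of `ker mkC` lie in `IB • ⊤`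
  have hkerπ : ∀ y : C, mkC y = 0 → y ∈ (IB • ⊤ : Submodule B C) := by
    intro y hy
    rw [Ideal.smul_top_eq_map, Submodule.restrictScalars_mem]
    exact Ideal.Quotient.eq_zero_iff_mem.mp hy
  -- `φ` is surjective
  have hφsurj : Surjective φ := by
    have htop : LinearMap.range φ.toLinearMap = ⊤ := by
      apply Groth.Agent.Lib.NilNakayama.eq_top_of_top_le_sup_smul IB hIBnil
      intro y _
      obtain ⟨q, hq⟩ := hf (mkC y)
      obtain ⟨q', rfl⟩ := hρ q
      have : mkC (y - φ q') = 0 := by rw [map_sub, hφ, hq, sub_self]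
      have h2 := hkerπ _ this
      have : y = φ q' + (y - φ q') := by ring
      rw [this]
      exact Submodule.add_mem_sup ⟨q', rfl⟩ h2
    intro y
    have : y ∈ LinearMap.range φ.toLinearMap := htop ▸ Submodule.mem_top
    obtain ⟨q, hq⟩ := this
    exact ⟨q, hq⟩
  refine ⟨φ, hφsurj, ?_⟩
  intro hflat hfg
  obtain ⟨s, hs⟩ := hfg
  -- `IB • ⊤` in `C` is the image of `IB • ⊤`
  have himage : ∀ y ∈ (IB • ⊤ : Submodule B C), ∃ g ∈ (IB • ⊤ : Submodule B (MvPolynomial (Fin m) B)),
      φ g = y := by
    intro y hy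
    have : (IB • ⊤ : Submodule B C) = (IB • ⊤ : Submodule B (MvPolynomial (Fin m) B)).map φ.toLinearMap := by
      rw [Submodule.map_smul'', Submodule.map_top]
      congr 1
      exact (LinearMap.range_eq_top.mpr hφsurj).symm
    rw [this] at hy
    obtain ⟨g, hg, rfl⟩ := hy
    exact ⟨g, hg, rfl⟩
  -- `IB • ⊤` in the polynomial ring is killed by `ρ`
  have hρker : ∀ g ∈ (IB • ⊤ : Submodule B (MvPolynomial (Fin m) B)), ρ g = 0 := by
    intro g hg
    refine Submodule.smul_induction_on hg ?_ ?_
    · intro r hr p _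
      rw [Algebra.smul_def, map_mul]
      have : ρ (algebraMap B _ r) = 0 := by
        simp only [ρ, MvPolynomial.algebraMap_eq, MvPolynomial.map_C]
        rw [Ideal.Quotient.eq_zero_iff_mem.mpr hr, map_zero]
      rw [this, zero_mul]
    · intro x y hx hy
      rw [map_add, hx, hy, add_zero]
  -- conversely the kernel of `ρ` is `IB • ⊤`
  have hρker' : ∀ g, ρ g = 0 → g ∈ (IB • ⊤ : Submodule B (MvPolynomial (Fin m) B)) := by
    intro g hg
    rw [Ideal.smul_top_eq_map, Submodule.restrictScalars_mem, MvPolynomial.algebraMap_eq]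
    rw [← RingHom.mem_ker, MvPolynomial.ker_map, Ideal.mk_ker] at hg
    exact hg
  -- choose lifts of the generators
  have hlift : ∀ i : s, ∃ p : MvPolynomial (Fin m) B, ρ p = i.1 ∧ φ p = 0 := by
    intro i
    obtain ⟨p0, hp0⟩ := hρ i.1
    have h1 : mkC (φ p0) = 0 := by
      rw [hφ, hp0]
      have : i.1 ∈ RingHom.ker fbar.toRingHom := by
        rw [← hs]
        exact Ideal.subset_span i.2
      exact this
    obtain ⟨g, hg, hgφ⟩ := himage _ (hkerπ _ h1)
    refine ⟨p0 - g, ?_, ?_⟩
    · rw [map_sub, hρker g hg, sub_zero, hp0]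
    · rw [map_sub, hgφ, sub_self]
  choose f' hf'ρ hf'φ using hlift
  -- the A-submodule `n • ⊤` of `P` equals `IB • ⊤`
  have hsmul : ((n • ⊤ : Submodule A (MvPolynomial (Fin m) B)) : Set (MvPolynomial (Fin m) B)) = ((IB • ⊤ : Submodule B (MvPolynomial (Fin m) B)) : Set (MvPolynomial (Fin m) B)) := by
    rw [Ideal.smul_top_eq_map, Ideal.smul_top_eq_map, hIB, Ideal.map_map,
      ← IsScalarTower.algebraMap_eq]
    rfl
  have hkey : LinearMap.ker (φ.toLinearMap.restrictScalars A) =
      (Ideal.span (Set.range f')).restrictScalars A := by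
    apply Groth.Agent.Lib.FlatLiftPoly88.ker_eq_of_flat_of_le_sup_smul
      (φ.toLinearMap.restrictScalars A) hφsurj n hn
    · intro x hx
      rw [Submodule.restrictScalars_mem] at hx
      rw [LinearMap.mem_ker]
      change φ x = 0
      refine Submodule.span_induction ?_ ?_ ?_ ?_ hx
      · rintro _ ⟨i, rfl⟩
        exact hf'φ i
      · exact map_zero _
      · intro x y _ _ hx hy
        rw [map_add, hx, hy, add_zero]
      · intro a x _ hx
        change φ (a * x) = 0
        rw [map_mul, hx, mul_zero]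
    · intro x hx
      have hx' : φ x = 0 := hx
      have h1 : fbar (ρ x) = 0 := by rw [← hφ, hx', map_zero]
      have h2 : ρ x ∈ Ideal.span (s : Set _) := by
        rw [hs]
        exact h1
      have h3 : Ideal.span (s : Set (MvPolynomial (Fin m) (B ⧸ IB))) =
          (Ideal.span (Set.range f')).map ρ := by
        rw [Ideal.map_span]
        congr 1
        ext y
        constructor
        · intro hy
          exact ⟨f' ⟨y, hy⟩, ⟨⟨y, hy⟩, rfl⟩, hf'ρ ⟨y, hy⟩⟩
        · rintro ⟨_, ⟨i, rfl⟩, rfl⟩
          rw [hf'ρ i]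
          exact i.2
      rw [h3, Ideal.mem_map_iff_of_surjective ρ hρ] at h2
      obtain ⟨z, hz, hzx⟩ := h2
      have h4 : ρ (x - z) = 0 := by rw [map_sub, hzx, sub_self]
      have : x = z + (x - z) := by ring
      rw [this]
      refine Submodule.add_mem_sup hz ?_
      have h5 := hρker' _ h4
      have : (x - z) ∈ ((n • ⊤ : Submodule A (MvPolynomial (Fin m) B)) : Set (MvPolynomial (Fin m) B)) := by
        rw [hsmul]
        exact h5
      exact this
  have hfin : (Set.range f').Finite := Set.finite_range f'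
  refine ⟨hfin.toFinset, ?_⟩
  rw [Set.Finite.coe_toFinset]
  ext x
  have := SetLike.ext_iff.mp hkey x
  simp only [LinearMap.mem_ker, Submodule.restrictScalars_mem] at this
  rw [RingHom.mem_ker]
  exact this.symm

end aux

/-- Let A → B → C be homomorphisms of commutative rings and n a nilpotent ideal of A; write nB and nC
for the extended ideals. (i) If C/nC is a (B/nB)-algebra of finite type, then C is a B-algebra of
finite type. (ii) If moreover C is flat over A and C/nC is a (B/nB)-algebra of finite presentation,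
then C is a B-algebra of finite presentation. -/
theorem result (A B C : Type u) [CommRing A] [CommRing B] [CommRing C]
    [Algebra A B] [Algebra B C] [Algebra A C] [IsScalarTower A B C] (n : Ideal A) (hn : IsNilpotent n) :
    (Algebra.FiniteType (B ⧸ n.map (algebraMap A B)) (C ⧸ (n.map (algebraMap A B)).map (algebraMap B C)) →
      Algebra.FiniteType B C) ∧
    (Module.Flat A C →
      Algebra.FinitePresentation (B ⧸ n.map (algebraMap A B)) (C ⧸ (n.map (algebraMap A B)).map (algebraMap B C)) →
      Algebra.FinitePresentation B C) := by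
  refine ⟨?_, ?_⟩
  · intro h
    obtain ⟨m, fbar, hf⟩ := Algebra.FiniteType.iff_quotient_mvPolynomial''.mp h
    obtain ⟨φ, hφ, -⟩ := key n hn _ rfl m fbar hf
    exact Algebra.FiniteType.iff_quotient_mvPolynomial''.mpr ⟨m, φ, hφ⟩
  · intro hflat h
    obtain ⟨m, fbar, hf, hfg⟩ := h.out
    obtain ⟨φ, hφ, h2⟩ := key n hn _ rfl m fbar hf
    exact ⟨m, φ, hφ, h2 hflat hfg⟩

end Groth.Agent.S5338
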