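import Groth.Statements.S5339
import Groth.Agent.Lib.H71LftGroupArt
import Groth.Agent.Lib.H71OpenToGlobal

set_option autoImplicit false
universe u
open CategoryTheory CategoryTheory.Limits MonoidalCategory CartesianMonoidalCategory MonObj GrpObj AlgebraicGeometry
open SGA3

namespace Groth.Agent.S5339

/-- Let A be a local artinian ring and G a flat A-group scheme (not assumed locally of finite type). If
G is locally quasi-finite and locally of finite type (resp. unramified, resp. smooth, resp. etale)
over A on some nonempty open subscheme, then G is locally quasi-finite and locally of finite type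
(resp. unramified, resp. smooth, resp. etale) over A. -/
theorem result (A : Type u) [CommRing A] [IsArtinianRing A] [IsLocalRing A] (G : Over (Spec (CommRingCat.of A))) [GrpObj G] [Flat G.hom]
    (W : G.left.Opens) (hW : (W : Set G.left).Nonempty) :
    (LocallyQuasiFinite (W.ι ≫ G.hom) → LocallyOfFiniteType (W.ι ≫ G.hom) → LocallyQuasiFinite G.hom ∧ LocallyOfFiniteType G.hom) ∧
    (FormallyUnramified (W.ι ≫ G.hom) → LocallyOfFinitePresentation (W.ι ≫ G.hom) →
      FormallyUnramified G.hom ∧ LocallyOfFinitePresentation G.hom) ∧
    (Smooth (W.ι ≫ G.hom) → Smooth G.hom) ∧ (Etale (W.ι ≫ G.hom) → Etale G.hom) := by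
  have hsub := Groth.Agent.Lib.H71HomLocus.subsingleton_spec_of_artinian_local A
  have hlfp_of_lft : LocallyOfFiniteType G.hom → LocallyOfFinitePresentation G.hom := by
    intro _
    rw [HasRingHomProperty.iff_appLE (P := @LocallyOfFinitePresentation)]
    intro U V e
    have : IsNoetherianRing Γ(Spec (CommRingCat.of A), U) :=
      IsLocallyNoetherian.component_noetherian U
    exact RingHom.FinitePresentation.of_finiteType.mp (G.hom.finiteType_appLE U.2 V.2 e)
  have hlft : LocallyOfFiniteType (W.ι ≫ G.hom) → LocallyOfFiniteType G.hom := fun _ =>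
    Groth.Agent.Lib.H71LftGroup.lft_of_lft_open_artin A G W hW
  have hu : (toUnit G).left = G.hom := Over.toUnit_left
  refine ⟨fun h1 h2 => ?_, fun h1 h2 => ?_, fun h => ?_, fun h => ?_⟩
  · have h3 := hlft h2
    have := hlfp_of_lft h3
    refine ⟨?_, h3⟩
    rw [← hu]
    exact Groth.Agent.Lib.H71HomLocus.lqf_of_open (toUnit G) W hW (by rw [hu]; exact h1)
  · have h3 := hlft inferInstance
    have := hlfp_of_lft h3
    refine ⟨?_, this⟩
    rw [← hu]
    exact Groth.Agent.Lib.H71HomLocus.unram_of_open (toUnit G) W hW (by rw [hu]; exact h1)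
  · have h3 := hlft inferInstance
    have := hlfp_of_lft h3
    rw [← hu]
    exact Groth.Agent.Lib.H71HomLocus.smooth_of_open (toUnit G) W hW (by rw [hu]; exact h)
  · have h3 := hlft inferInstance
    have := hlfp_of_lft h3
    rw [← hu]
    exact Groth.Agent.Lib.H71HomLocus.etale_of_open (toUnit G) W hW (by rw [hu]; exact h)

end Groth.Agent.S5339
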