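import Groth.Statements.S5343
import Mathlib.RingTheory.Ideal.IdempotentFG
import Mathlib.RingTheory.Spectrum.Prime.RingHom
import Mathlib.Algebra.Module.Projective

set_option autoImplicit false
universe u
open CategoryTheory CategoryTheory.Limits MonoidalCategory CartesianMonoidalCategory MonObj GrpObj AlgebraicGeometry
open SGA3

namespace Groth.Agent.S5343

/-- Let R be a commutative ring and B a commutative R-algebra which is projective as an R-module. Then
the image of Spec B → Spec R is an open and closed subset of Spec R. (The published statement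
concerns a quasi-coherent algebra on any scheme which is a direct summand of a free module; this row
is the affine case.) -/
theorem result (R B : Type u) [CommRing R] [CommRing B] [Algebra R B] [Module.Projective R B] :
    IsClopen (Set.range (PrimeSpectrum.comap (algebraMap R B))) := by
  classical
  obtain ⟨s, hs⟩ := Module.projective_def'.mp (inferInstance : Module.Projective R B)
  set c : B →₀ R := s 1 with hc
  -- `1 = Σ c p • p`
  have h1 : (1 : B) = ∑ p ∈ c.support, c p • p := by
    have := LinearMap.congr_fun hs 1
    simp only [LinearMap.coe_comp, Function.comp_apply, LinearMap.id_coe, id_eq,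
      Finsupp.linearCombination_apply] at this
    rw [← this, Finsupp.sum]
  set τ : Ideal R := Ideal.span (c '' (c.support : Set B)) with hτ
  have hfg : τ.FG := ⟨(c.support.image c), by rw [hτ, Finset.coe_image]⟩
  have hcτ : ∀ p ∈ c.support, c p ∈ τ := fun p hp => Ideal.subset_span ⟨p, hp, rfl⟩
  -- all coordinates of all elements lie in `τ`
  have key1 : ∀ b k : B, (s b) k ∈ τ := by
    intro b k
    have hb : b = ∑ p ∈ c.support, c p • (b * p) := by
      conv_lhs => rw [← mul_one b, h1, Finset.mul_sum]
      refine Finset.sum_congr rfl fun p _ => ?_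
      rw [mul_smul_comm]
    rw [hb, map_sum, Finsupp.finsetSum_apply]
    refine Ideal.sum_mem _ fun p hp => ?_
    rw [map_smul, Finsupp.smul_apply, smul_eq_mul]
    exact Ideal.mul_mem_right _ _ (hcτ p hp)
  have hidem : IsIdempotentElem τ := by
    refine le_antisymm Ideal.mul_le_right ?_
    rw [hτ, Ideal.span_le]
    rintro _ ⟨k, _, rfl⟩
    have : c k = ∑ p ∈ c.support, c p * (s p) k := by
      conv_lhs => rw [hc, h1, map_sum, Finsupp.finsetSum_apply]
      refine Finset.sum_congr rfl fun p _ => ?_
      rw [map_smul, Finsupp.smul_apply, smul_eq_mul]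
    rw [SetLike.mem_coe, this]
    exact Ideal.sum_mem _ fun p hp => Ideal.mul_mem_mul (hcτ p hp) (key1 p k)
  obtain ⟨e, he, hτe⟩ := (Ideal.isIdempotentElem_iff_of_fg τ hfg).mp hidem
  have hrange : Set.range (PrimeSpectrum.comap (algebraMap R B)) =
      (PrimeSpectrum.basicOpen e : Set (PrimeSpectrum R)) := by
    ext p
    simp only [SetLike.mem_coe, PrimeSpectrum.mem_basicOpen]
    constructor
    · rintro ⟨q, rfl⟩ heq
      have hle : τ ≤ (PrimeSpectrum.comap (algebraMap R B) q).asIdeal := by
        rw [hτe, Ideal.submodule_span_eq, Ideal.span_singleton_le_iff_mem]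
        exact heq
      apply q.isPrime.ne_top
      rw [Ideal.eq_top_iff_one, h1]
      refine Ideal.sum_mem _ fun p hp => ?_
      rw [Algebra.smul_def]
      exact Ideal.mul_mem_right _ _ (hle (hcτ p hp))
    · intro hep
      have : ∃ k ∈ c.support, c k ∉ p.asIdeal := by
        by_contra hcon
        push Not at hcon
        apply hep
        have hle : τ ≤ p.asIdeal := by
          rw [hτ, Ideal.span_le]
          rintro _ ⟨k, hk, rfl⟩
          exact hcon k hk
        apply hle
        rw [hτe]
        exact Ideal.mem_span_singleton_self e
      obtain ⟨k, _, hk⟩ := this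
      rw [PrimeSpectrum.mem_range_comap_iff]
      refine le_antisymm ?_ Ideal.le_comap_map
      intro r hr
      rw [Ideal.mem_comap] at hr
      -- apply the functional `φ = (s ·) k`
      let φ : B →ₗ[R] R := (Finsupp.lapply k).comp s
      have hφ : ∀ x ∈ p.asIdeal.map (algebraMap R B), φ x ∈ p.asIdeal := by
        intro x hx
        have hx' : x ∈ (p.asIdeal • ⊤ : Submodule R B) := by
          rw [Ideal.smul_top_eq_map]
          exact hx
        refine Submodule.smul_induction_on hx' (fun r hr' b _ => ?_) (fun x y hx hy => ?_)
        · rw [map_smul, smul_eq_mul]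
          exact Ideal.mul_mem_right _ _ hr'
        · rw [map_add]
          exact Ideal.add_mem _ hx hy
      have := hφ _ hr
      rw [Algebra.algebraMap_eq_smul_one, map_smul, smul_eq_mul] at this
      exact (p.isPrime.mem_or_mem this).resolve_right hk
  rw [hrange]
  exact PrimeSpectrum.isClopen_iff.mpr ⟨e, he, rfl⟩

end Groth.Agent.S5343
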