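import Groth.Statements.S5353
import Groth.Agent.Lib.FpqcCovFppf18
import Groth.Agent.Lib.PtsPullback18
import Groth.Agent.Lib.FlatSurj18
import Groth.Agent.Lib.SrcLocalFppf64

set_option autoImplicit false
set_option maxHeartbeats 400000
universe u
open CategoryTheory CategoryTheory.Limits MonoidalCategory CartesianMonoidalCategory MonObj GrpObj AlgebraicGeometry
open SGA3

namespace Groth.Agent.S5353

/-- Let A be a local artinian ring, G an A-group scheme which is flat and locally of finite type, i : G⁰
→ G an open subgroup scheme whose image is the connected component of the unit (the neutral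
component), and p : G → Q a homomorphism of A-group schemes which is surjective, flat and locally of
finite presentation with kernel G⁰ (Q is the quotient of G by G⁰). Then Q is etale over A. -/
theorem result (A : Type u) [CommRing A] [IsArtinianRing A] [IsLocalRing A] (G0 G Q : Over (Spec (CommRingCat.of A))) [GrpObj G0] [GrpObj G] [GrpObj Q]
    [Flat G.hom] [LocallyOfFiniteType G.hom] (i : G0 ⟶ G) [IsMonHom i] [IsOpenImmersion i.left]
    (pt : ↥(𝟙_ (Over (Spec (CommRingCat.of A)))).left) (hi : Set.range i.left.base = connectedComponent (η[G].left.base pt))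
    (p : G ⟶ Q) [IsMonHom p] [Surjective p.left] [Flat p.left] [LocallyOfFinitePresentation p.left]
    (hK : AlgGrp.IsKernel i p) : Etale Q.hom := by
  have covp := Groth.Agent.Lib.FpqcCov18.isFpqcCov_of_fppf p.left
  -- the unit section of Q is an open immersion
  have hη : IsOpenImmersion η[Q].left :=
    Groth.Agent.Lib.FpqcCov18.IsFpqcCov.descends @IsOpenImmersion (hK.map (Over.forget _)) covp
      (inferInstance : IsOpenImmersion i.left)
  -- the diagonal is a base change of the unit section
  have sqd : IsPullback (lift (𝟙 Q) (𝟙 Q)) (toUnit Q) ((fst Q Q)⁻¹ * snd Q Q) η[Q] := by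
    refine Groth.Agent.Lib.PtsPullback18.isPullback_of_points ?_ ?_ ?_
    · rw [MonObj.comp_mul, GrpObj.comp_inv, lift_fst, lift_snd, inv_mul_cancel, Hom.one_def]
    · intro T x y hxy
      refine ⟨x ≫ fst Q Q, ?_, toUnit_unique _ _⟩
      have h1 : (x ≫ fst Q Q)⁻¹ * (x ≫ snd Q Q) = 1 := by
        rw [← GrpObj.comp_inv, ← MonObj.comp_mul, hxy, Hom.one_def,
          toUnit_unique y (toUnit T)]
      have h2 : x ≫ snd Q Q = x ≫ fst Q Q := by
        rw [inv_mul_eq_one] at h1
        exact h1.symm
      apply CartesianMonoidalCategory.hom_ext
      · rw [Category.assoc, lift_fst, Category.comp_id]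
      · rw [Category.assoc, lift_snd, Category.comp_id, h2]
    · intro T x₁ x₂ h1 _
      have := congrArg (· ≫ fst Q Q) h1
      simpa using this
  have hdiag : IsOpenImmersion (Limits.pullback.diagonal Q.hom) := by
    have h1 : IsOpenImmersion (lift (𝟙 Q) (𝟙 Q)).left :=
      MorphismProperty.of_isPullback (P := @IsOpenImmersion) (sqd.map (Over.forget _)).flip hη
    have h2 : (lift (𝟙 Q) (𝟙 Q)).left = Limits.pullback.diagonal Q.hom := by
      apply Limits.pullback.hom_ext
      · simp only [Limits.pullback.diagonal_fst]
        have := congrArg (fun f => f.left) (lift_fst (𝟙 Q) (𝟙 Q))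
        exact this
      · simp only [Limits.pullback.diagonal_snd]
        have := congrArg (fun f => f.left) (lift_snd (𝟙 Q) (𝟙 Q))
        exact this
    rwa [h2] at h1
  have hunr : FormallyUnramified Q.hom := inferInstance
  have hflat : Flat Q.hom := by
    have : Flat (p.left ≫ Q.hom) := by rw [Over.w]; infer_instance
    exact Groth.Agent.Lib.FlatSurj18.flat_of_comp_surjective p.left Q.hom
  have hlfp : LocallyOfFinitePresentation Q.hom := by
    apply Groth.Agent.Lib.SrcLocalFppf64.sourceFppfLocal_locallyOfFinitePresentation p.left Q.hom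
      inferInstance inferInstance inferInstance
    rw [Over.w]
    infer_instance
  exact Etale.of_formallyUnramified_of_flat Q.hom

end Groth.Agent.S5353
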