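import Groth.Statements.S5355
import Groth.Agent.Lib.GrpMaxPts45
import Groth.Agent.Lib.HomFlat45
import Groth.Agent.Lib.GenericFlatPt

set_option autoImplicit false
universe u
open CategoryTheory CategoryTheory.Limits MonoidalCategory CartesianMonoidalCategory MonObj GrpObj AlgebraicGeometry
open SGA3

namespace Groth.Agent.S5355

/-- Let f : G → H be a homomorphism of group schemes over a field k (not assumed of finite type) which
is quasi-compact and dominant. Then (i) f is surjective; (ii) if H is reduced, f is flat (hence
faithfully flat). -/
theorem result (k : Type u) [Field k] (G H : Over (Spec (CommRingCat.of k))) [GrpObj G] [GrpObj H]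
    (f : G ⟶ H) [IsMonHom f] [QuasiCompact f.left] (hf : DenseRange f.left.base) :
    Surjective f.left ∧ (IsReduced H.left → Flat f.left) := by
  have hdom : IsDominant f.left := ⟨hf⟩
  have hsurj := Groth.Agent.Lib.GrpMaxPts45.surjective_of_isDominant f
  refine ⟨⟨hsurj⟩, fun hred => ?_⟩
  have hne : Nonempty H.left := ⟨Groth.Agent.Lib.GrpTopPts45.unitPt H⟩
  obtain ⟨u, hu⟩ := Groth.Agent.Lib.GenericFlatPt.exists_flat_fromSpecResidueField H.left
  let Z : Over (Spec (CommRingCat.of k)) := Over.mk (H.left.fromSpecResidueField u ≫ H.hom)
  let jZ : Z ⟶ H := Over.homMk (H.left.fromSpecResidueField u) rfl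
  have h1 : Flat jZ.left := hu
  have h2 : QuasiCompact Z.hom := (quasiCompact_iff_compactSpace _).mpr
    (inferInstanceAs (CompactSpace (Spec (H.left.residueField u))))
  have h3 : Nonempty Z.left := inferInstanceAs (Nonempty (Spec (H.left.residueField u)))
  have h4 : Flat (Limits.pullback.fst jZ.left f.left) := by
    have : Subsingleton Z.left := inferInstanceAs (Subsingleton (Spec (H.left.residueField u)))
    have : IsIntegral Z.left := inferInstanceAs (IsIntegral (Spec (H.left.residueField u)))
    infer_instance
  exact Groth.Agent.Lib.HomFlat45.flat_of_flat_pullback f jZ hsurj h4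

end Groth.Agent.S5355
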