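import Mathlib
import Groth.Agent.Lib.ClosedCond27
import Groth.Agent.S5331
import Groth.Statements.S5357

set_option autoImplicit false
universe u
open CategoryTheory CategoryTheory.Limits MonoidalCategory CartesianMonoidalCategory MonObj GrpObj AlgebraicGeometry
open SGA3

namespace Groth.Agent.S5357

section Helpers

variable {C : Type*} [Category C] [CartesianMonoidalCategory C] {G X : C} [GrpObj G]

/-- transporter condition of a point, in terms of the universal test point. -/
theorem transp_iff (u v : X ⟶ G) {T : C} (g : T ⟶ G) :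
    (X ◁ g) ≫ ((snd X G) * (fst X G ≫ u) * (snd X G)⁻¹) = (X ◁ g) ≫ (fst X G ≫ v) ↔
      ∀ (T' : C) (s : T' ⟶ T) (x : T' ⟶ X), (s ≫ g) * (x ≫ u) * (s ≫ g)⁻¹ = x ≫ v := by
  constructor
  · intro H T' s x
    have h1 := congrArg (fun k => lift x s ≫ k) H
    simp only [MonObj.comp_mul, GrpObj.comp_inv, whiskerLeft_snd, whiskerLeft_fst_assoc,
      lift_fst_assoc, lift_snd_assoc] at h1
    exact h1
  · intro H
    simp only [MonObj.comp_mul, GrpObj.comp_inv, whiskerLeft_snd, whiskerLeft_fst_assoc]
    exact H (X ⊗ T) (snd X T) (fst X T)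

end Helpers

/-- Let G be a group scheme over a field k, X a k-scheme and u, v : X → G two morphisms of k-schemes.
Then the transporter of u into v, the subfunctor of G whose points with values in S' are the g such
that g u(x) g⁻¹ = v(x) for every S'' → S' and every point x of X with values in S'', is represented
by a closed subscheme of G. (For u = v this says that the centralizer of u is represented by a
closed subscheme of G; that it is a subgroup scheme is not stated here.) -/
theorem result (k : Type u) [Field k] (G X : Over (Spec (CommRingCat.of k))) [GrpObj G]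
    (u v : X ⟶ G) :
    ∃ (T : Over (Spec (CommRingCat.of k))) (t : T ⟶ G), IsClosedImmersion t.left ∧
      ∀ (S' : Over (Spec (CommRingCat.of k))) (g : S' ⟶ G), (∃ z : S' ⟶ T, z ≫ t = g) ↔
        ∀ (S'' : Over (Spec (CommRingCat.of k))) (s : S'' ⟶ S') (x : S'' ⟶ X), (s ≫ g) * (x ≫ u) * (s ≫ g)⁻¹ = x ≫ v := by
  have hsep : IsSeparated G.hom := by
    have : DiscreteTopology ↥(Spec (CommRingCat.of k)) := inferInstance
    exact Groth.Agent.S5331.result (Spec (CommRingCat.of k)) G
  obtain ⟨Z, i, hi, h⟩ := Groth.Agent.Lib.ClosedCond27.exists_closedImmersion_of_eq X G G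
    (Groth.Agent.Lib.ClosedCond27.essFree_of_field k X)
    ((snd X G) * (fst X G ≫ u) * (snd X G)⁻¹) (fst X G ≫ v)
  refine ⟨Z, i, hi, fun T g => ?_⟩
  rw [h T g]
  exact Groth.Agent.S5357.transp_iff u v g

end Groth.Agent.S5357
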