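import Mathlib
import Groth.Agent.Lib.ClosedCond27b
import Groth.Agent.Lib.H43QuotGrp2
import Groth.Agent.S0351
import Groth.Statements.S5358

set_option autoImplicit false
universe u
open CategoryTheory CategoryTheory.Limits MonoidalCategory CartesianMonoidalCategory MonObj GrpObj AlgebraicGeometry
open SGA3

namespace Groth.Agent.S5358

section Helpers

variable {C : Type*} [Category C] [CartesianMonoidalCategory C] {G Y Y' : C} [GrpObj G]

/-- transporter condition of a point, in terms of the universal test point. -/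
theorem transp_iff (y' : Y' ⟶ G) (y : Y ⟶ G) {T : C} (g : T ⟶ G) :
    (∃ w : Y' ⊗ T ⟶ Y, w ≫ y =
      (Y' ◁ g) ≫ ((snd Y' G) * (fst Y' G ≫ y') * (snd Y' G)⁻¹)) ↔
      ∀ (T' : C) (s : T' ⟶ T) (x : T' ⟶ Y'),
        ∃ x' : T' ⟶ Y, (s ≫ g) * (x ≫ y') * (s ≫ g)⁻¹ = x' ≫ y := by
  constructor
  · rintro ⟨w, hw⟩ T' s x
    refine ⟨lift x s ≫ w, ?_⟩
    rw [Category.assoc, hw]
    simp only [MonObj.comp_mul, GrpObj.comp_inv, whiskerLeft_snd, whiskerLeft_fst_assoc,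
      lift_fst_assoc, lift_snd_assoc]
  · intro H
    obtain ⟨w, hw⟩ := H (Y' ⊗ T) (snd Y' T) (fst Y' T)
    refine ⟨w, ?_⟩
    rw [← hw]
    simp only [MonObj.comp_mul, GrpObj.comp_inv, whiskerLeft_snd, whiskerLeft_fst_assoc]

/-- inverse transporter condition of a point, in terms of the universal test point. -/
theorem transp_inv_iff (y' : Y' ⟶ G) (y : Y ⟶ G) {T : C} (g : T ⟶ G) :
    (∃ w : Y ⊗ T ⟶ Y', w ≫ y' =
      (Y ◁ g) ≫ ((snd Y G)⁻¹ * (fst Y G ≫ y) * (snd Y G))) ↔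
      ∀ (T' : C) (s : T' ⟶ T) (x' : T' ⟶ Y),
        ∃ x : T' ⟶ Y', (s ≫ g)⁻¹ * (x' ≫ y) * (s ≫ g) = x ≫ y' := by
  constructor
  · rintro ⟨w, hw⟩ T' s x
    refine ⟨lift x s ≫ w, ?_⟩
    rw [Category.assoc, hw]
    simp only [MonObj.comp_mul, GrpObj.comp_inv, whiskerLeft_snd, whiskerLeft_fst_assoc,
      lift_fst_assoc, lift_snd_assoc]
  · intro H
    obtain ⟨w, hw⟩ := H (Y ⊗ T) (snd Y T) (fst Y T)
    refine ⟨w, ?_⟩
    rw [← hw]
    simp only [MonObj.comp_mul, GrpObj.comp_inv, whiskerLeft_snd, whiskerLeft_fst_assoc]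

/-- a mono representing a subgroup-like condition on points is a subgroup object. -/
theorem exists_grpObj_of_represents {N : C} (n : N ⟶ G) [Mono n]
    (P : ∀ (T : C), (T ⟶ G) → Prop)
    (hrep : ∀ (T : C) (g : T ⟶ G), (∃ z : T ⟶ N, z ≫ n = g) ↔ P T g)
    (h1 : ∀ T, P T 1) (hmul : ∀ T (a b : T ⟶ G), P T a → P T b → P T (a * b))
    (hinv : ∀ T (a : T ⟶ G), P T a → P T a⁻¹) :
    ∃ str : GrpObj N, @IsMonHom C _ _ N G str.toMonObj _ n := by
  have hn : P N n := (hrep N n).mp ⟨𝟙 N, Category.id_comp _⟩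
  obtain ⟨e, he⟩ := (hrep _ _).mpr (h1 (𝟙_ C))
  have he' : e ≫ n = η[G] := by
    rw [he, Hom.one_def, toUnit_unit, Category.id_comp]
  have hfst : P (N ⊗ N) (fst N N ≫ n) := (hrep _ _).mp ⟨fst N N, rfl⟩
  have hsnd : P (N ⊗ N) (snd N N ≫ n) := (hrep _ _).mp ⟨snd N N, rfl⟩
  obtain ⟨m, hm⟩ := (hrep _ _).mpr (hmul _ _ _ hfst hsnd)
  have hm' : m ≫ n = (n ⊗ₘ n) ≫ μ[G] := by
    rw [hm, Hom.mul_def]
    congr 1
    apply CartesianMonoidalCategory.hom_ext
    · rw [lift_fst, tensorHom_fst]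
    · rw [lift_snd, tensorHom_snd]
  obtain ⟨v, hv⟩ := (hrep _ _).mpr (hinv _ _ hn)
  have hv' : v ≫ n = n ≫ ι[G] := by rw [hv, Hom.inv_def]
  exact Groth.Agent.Lib.H43QuotGrp.exists_grpObj_of_mono n e he' m hm' v hv'

/-- the normalizer condition on points. -/
def NC {H : C} (i : H ⟶ G) (T : C) (g : T ⟶ G) : Prop :=
  ∀ (T' : C) (x : T' ⟶ T) (h : T' ⟶ H),
    (∃ h' : T' ⟶ H, (x ≫ g) * (h ≫ i) * (x ≫ g)⁻¹ = h' ≫ i) ∧
    (∃ h' : T' ⟶ H, (x ≫ g)⁻¹ * (h ≫ i) * (x ≫ g) = h' ≫ i)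

theorem NC_one {H : C} (i : H ⟶ G) (T : C) : NC i T 1 := by
  intro T' x h
  rw [MonObj.comp_one]
  exact ⟨⟨h, by rw [inv_one, _root_.one_mul, _root_.mul_one]⟩,
    ⟨h, by rw [inv_one, _root_.one_mul, _root_.mul_one]⟩⟩

theorem NC_mul {H : C} (i : H ⟶ G) (T : C) (a b : T ⟶ G) (ha : NC i T a) (hb : NC i T b) :
    NC i T (a * b) := by
  intro T' x h
  rw [MonObj.comp_mul]
  constructor
  · obtain ⟨h₁, hh₁⟩ := (hb T' x h).1
    obtain ⟨h₂, hh₂⟩ := (ha T' x h₁).1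
    refine ⟨h₂, ?_⟩
    rw [← hh₂, ← hh₁]
    group
  · obtain ⟨h₁, hh₁⟩ := (ha T' x h).2
    obtain ⟨h₂, hh₂⟩ := (hb T' x h₁).2
    refine ⟨h₂, ?_⟩
    rw [← hh₂, ← hh₁]
    group

theorem NC_inv {H : C} (i : H ⟶ G) (T : C) (a : T ⟶ G) (ha : NC i T a) : NC i T a⁻¹ := by
  intro T' x h
  rw [GrpObj.comp_inv, _root_.inv_inv]
  exact ⟨(ha T' x h).2, (ha T' x h).1⟩

end Helpers

/-- Let G be a group scheme over a field k, y' : Y' → G an immersion and y : Y → G a closed immersion.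
(ii) The transporter of Y' into Y, whose points with values in S' are the g such that conjugation by
g carries every point of Y' (after any base change S'' → S') into Y, is represented by a closed
subscheme of G; if y' is also a closed immersion, so is the strict transporter (g Y' g⁻¹ = Y
functorially). (iii) For every subgroup scheme h : H → G (a homomorphism which is an immersion), the
normalizer of H in G is represented by a closed subscheme of G. -/
theorem result (k : Type u) [Field k] (G Y Y' : Over (Spec (CommRingCat.of k))) [GrpObj G]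
    (y : Y ⟶ G) [IsClosedImmersion y.left] (y' : Y' ⟶ G) [IsImmersion y'.left] :
    (∃ (T : Over (Spec (CommRingCat.of k))) (t : T ⟶ G), IsClosedImmersion t.left ∧
      ∀ (S' : Over (Spec (CommRingCat.of k))) (g : S' ⟶ G), (∃ z : S' ⟶ T, z ≫ t = g) ↔
        ∀ (S'' : Over (Spec (CommRingCat.of k))) (s : S'' ⟶ S') (x : S'' ⟶ Y'),
          ∃ x' : S'' ⟶ Y, (s ≫ g) * (x ≫ y') * (s ≫ g)⁻¹ = x' ≫ y) ∧
    (IsClosedImmersion y'.left →
      ∃ (T : Over (Spec (CommRingCat.of k))) (t : T ⟶ G), IsClosedImmersion t.left ∧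
      ∀ (S' : Over (Spec (CommRingCat.of k))) (g : S' ⟶ G), (∃ z : S' ⟶ T, z ≫ t = g) ↔
        ((∀ (S'' : Over (Spec (CommRingCat.of k))) (s : S'' ⟶ S') (x : S'' ⟶ Y'),
          ∃ x' : S'' ⟶ Y, (s ≫ g) * (x ≫ y') * (s ≫ g)⁻¹ = x' ≫ y) ∧
        (∀ (S'' : Over (Spec (CommRingCat.of k))) (s : S'' ⟶ S') (x' : S'' ⟶ Y),
          ∃ x : S'' ⟶ Y', (s ≫ g)⁻¹ * (x' ≫ y) * (s ≫ g) = x ≫ y'))) ∧
    (∀ (H : Over (Spec (CommRingCat.of k))) [GrpObj H] (h : H ⟶ G) [IsMonHom h] [IsImmersion h.left],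
      ∃ (N : Over (Spec (CommRingCat.of k))) (_ : GrpObj N) (n : N ⟶ G), IsClosedImmersion n.left ∧
        Red.IsNormalizerOf h n) := by
  have key1 : ∀ (Y Y' : Over (Spec (CommRingCat.of k))) (y : Y ⟶ G) (_ : IsClosedImmersion y.left)
      (y' : Y' ⟶ G),
      ∃ (T : Over (Spec (CommRingCat.of k))) (t : T ⟶ G), IsClosedImmersion t.left ∧
      ∀ (S' : Over (Spec (CommRingCat.of k))) (g : S' ⟶ G), (∃ z : S' ⟶ T, z ≫ t = g) ↔
        ∀ (S'' : Over (Spec (CommRingCat.of k))) (s : S'' ⟶ S') (x : S'' ⟶ Y'),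
          ∃ x' : S'' ⟶ Y, (s ≫ g) * (x ≫ y') * (s ≫ g)⁻¹ = x' ≫ y := by
    intro Y Y' y hy y'
    obtain ⟨Z, i, hi, h⟩ := Groth.Agent.Lib.ClosedCond27.exists_closedImmersion_of_factors Y' G G
      (Groth.Agent.Lib.ClosedCond27.essFree_of_field k Y')
      ((snd Y' G) * (fst Y' G ≫ y') * (snd Y' G)⁻¹) y
    refine ⟨Z, i, hi, fun T g => ?_⟩
    rw [h T g]
    exact Groth.Agent.S5358.transp_iff y' y g
  have key2 : ∀ (Y Y' : Over (Spec (CommRingCat.of k))) (y : Y ⟶ G)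
      (y' : Y' ⟶ G) (_ : IsClosedImmersion y'.left),
      ∃ (T : Over (Spec (CommRingCat.of k))) (t : T ⟶ G), IsClosedImmersion t.left ∧
      ∀ (S' : Over (Spec (CommRingCat.of k))) (g : S' ⟶ G), (∃ z : S' ⟶ T, z ≫ t = g) ↔
        ∀ (S'' : Over (Spec (CommRingCat.of k))) (s : S'' ⟶ S') (x' : S'' ⟶ Y),
          ∃ x : S'' ⟶ Y', (s ≫ g)⁻¹ * (x' ≫ y) * (s ≫ g) = x ≫ y' := by
    intro Y Y' y y' hy'
    obtain ⟨Z, i, hi, h⟩ := Groth.Agent.Lib.ClosedCond27.exists_closedImmersion_of_factors Y G G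
      (Groth.Agent.Lib.ClosedCond27.essFree_of_field k Y)
      ((snd Y G)⁻¹ * (fst Y G ≫ y) * (snd Y G)) y'
    refine ⟨Z, i, hi, fun T g => ?_⟩
    rw [h T g]
    exact Groth.Agent.S5358.transp_inv_iff y' y g
  refine ⟨key1 Y Y' y inferInstance y', fun hy' => ?_, fun H _ h _ _ => ?_⟩
  · exact Groth.Agent.Lib.ClosedCond27.exists_closedImmersion_and
      (key1 Y Y' y inferInstance y') (key2 Y Y' y y' hy')
  · have hcl : IsClosedImmersion h.left := Groth.Agent.S0351.result k H G h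
    obtain ⟨N, n, hn, hrep⟩ := Groth.Agent.Lib.ClosedCond27.exists_closedImmersion_and
      (key1 H H h hcl h) (key2 H H h h hcl)
    have hmono : Mono n := by
      have : Mono ((Over.forget _).map n) := by
        change Mono n.left
        infer_instance
      exact (Over.forget _).mono_of_mono_map this
    have hrep' : ∀ (T : Over (Spec (CommRingCat.of k))) (g : T ⟶ G),
        (∃ z : T ⟶ N, z ≫ n = g) ↔ Groth.Agent.S5358.NC h T g := by
      intro T g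
      rw [hrep T g]
      unfold Groth.Agent.S5358.NC
      constructor
      · rintro ⟨h1, h2⟩ T' x hh
        exact ⟨h1 T' x hh, h2 T' x hh⟩
      · intro H'
        exact ⟨fun T' x hh => (H' T' x hh).1, fun T' x hh => (H' T' x hh).2⟩
    obtain ⟨str, hstr⟩ := Groth.Agent.S5358.exists_grpObj_of_represents n
      (Groth.Agent.S5358.NC h) hrep' (Groth.Agent.S5358.NC_one h)
      (Groth.Agent.S5358.NC_mul h) (Groth.Agent.S5358.NC_inv h)
    exact ⟨N, str, n, hn, hstr, hmono, hrep'⟩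

end Groth.Agent.S5358
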