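import Groth.Statements.S5373
import Groth.Agent.Lib.FpqcCov18
import Groth.Agent.Lib.CartPull18

set_option autoImplicit false
set_option maxHeartbeats 400000
universe u
open CategoryTheory CategoryTheory.Limits MonoidalCategory CartesianMonoidalCategory MonObj GrpObj AlgebraicGeometry
open SGA3

namespace Groth.Agent.S5373

/-- Let p : X → Y be a morphism of S-schemes and v : X ×_Y X → X ×_S X the canonical monomorphism (the
graph of the effective equivalence relation defined by p). Then (i) v is an immersion, and a closed
immersion if Y is separated over S; (ii) if p is covering for the fpqc topology (some Z → Y which is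
flat, surjective, with every affine open of Y the image of a quasi-compact open of Z, factors
through p), so that Y represents the quotient sheaf of X by this equivalence relation, and v is a
closed immersion, then Y is separated over S. -/
theorem result (S : Scheme.{u}) (X Y : Over S) (p : X ⟶ Y) :
    letI v : (pullback p p) ⟶ X ⊗ X := lift (pullback.fst p p) (pullback.snd p p)
    IsImmersion v.left ∧ (IsSeparated Y.hom → IsClosedImmersion v.left) ∧
    ((∃ (Z : Scheme.{u}) (q : Z ⟶ Y.left) (r : Z ⟶ X.left), r ≫ p.left = q ∧ Surjective q ∧ Flat q ∧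
        ∀ V : Y.left.Opens, IsAffineOpen V → ∃ W : Z.Opens, IsCompact (W : Set Z) ∧ q.base '' (W : Set Z) = (V : Set Y.left)) →
      IsClosedImmersion v.left → IsSeparated Y.hom) := by
  set v : (pullback p p) ⟶ X ⊗ X := lift (pullback.fst p p) (pullback.snd p p) with hv
  have sqO := Groth.Agent.Lib.CartPull18.isPullback_lift_diag p
  have sq : IsPullback v.left (pullback.fst p p ≫ p).left (p ⊗ₘ p).left
      (pullback.diagonal Y.hom) := sqO.map (Over.forget S)
  refine ⟨?_, ?_, ?_⟩
  · exact MorphismProperty.of_isPullback (P := @IsImmersion) sq.flip inferInstance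
  · intro hsep
    exact MorphismProperty.of_isPullback (P := @IsClosedImmersion) sq.flip inferInstance
  · intro hcov hv
    have hq := Groth.Agent.Lib.FpqcCov18.isFpqcCov_of_exists p.left hcov
    have sqL : IsPullback (Y ◁ p).left (snd Y X).left (snd Y Y).left p.left :=
      (Groth.Agent.Lib.CartPull18.isPullback_whiskerLeft_snd Y p).map (Over.forget S)
    have sqR : IsPullback (p ▷ X).left (fst X X).left (fst Y X).left p.left :=
      (Groth.Agent.Lib.CartPull18.isPullback_whiskerRight_fst X p).map (Over.forget S)
    have hqL := Groth.Agent.Lib.FpqcCov18.IsFpqcCov.of_isPullback sqL.flip hq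
    have hqR := Groth.Agent.Lib.FpqcCov18.IsFpqcCov.of_isPullback sqR.flip hq
    have htens : (p ⊗ₘ p).left = (p ▷ X).left ≫ (Y ◁ p).left := by
      rw [← Over.comp_left, ← MonoidalCategory.tensorHom_def]
    rw [htens] at sq
    -- intermediate pullback
    have sqE := IsPullback.of_hasPullback (pullback.diagonal Y.hom) (Y ◁ p).left
    have hc : v.left ≫ (p ▷ X).left ≫ (Y ◁ p).left =
        (pullback.fst p p ≫ p).left ≫ pullback.diagonal Y.hom := sq.w
    have sqK : IsPullback (pullback.lift (pullback.fst p p ≫ p).left (v.left ≫ (p ▷ X).left)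
        (by rw [Category.assoc, hc])) v.left
        (pullback.snd (pullback.diagonal Y.hom) (Y ◁ p).left) (p ▷ X).left := by
      refine IsPullback.of_right (h₁₂ := pullback.fst (pullback.diagonal Y.hom) (Y ◁ p).left)
        (h₂₂ := (Y ◁ p).left) (v₁₃ := pullback.diagonal Y.hom) ?_ (pullback.lift_snd _ _ _) sqE
      rw [pullback.lift_fst]
      exact sq.flip
    have h1 : IsClosedImmersion (pullback.snd (pullback.diagonal Y.hom) (Y ◁ p).left) :=
      Groth.Agent.Lib.FpqcCov18.IsFpqcCov.descends @IsClosedImmersion sqK.flip hqR hv
    have h2 : IsClosedImmersion (pullback.diagonal Y.hom) :=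
      Groth.Agent.Lib.FpqcCov18.IsFpqcCov.descends @IsClosedImmersion sqE.flip hqL h1
    exact ⟨h2⟩

end Groth.Agent.S5373
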