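import Groth.Statements.S5369
import Groth.Agent.Lib.FpqcCov18
import Groth.Agent.Lib.CartPull18
import Groth.Agent.Lib.QuotGrp18
import Groth.Agent.S5373

set_option autoImplicit false
set_option maxHeartbeats 400000
universe u
open CategoryTheory CategoryTheory.Limits MonoidalCategory CartesianMonoidalCategory MonObj GrpObj AlgebraicGeometry
open SGA3

namespace Groth.Agent.S5369

/-- Let u : G' → G be a monomorphism of S-group schemes and p : G → G'' a morphism of S-schemes which is
covering for the fpqc topology (some Z → G'' which is flat, surjective, with every affine open of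
G'' the image of a quasi-compact open of Z, factors through p) and such that the square (g, h) ↦
g·u(h), first projection G ×_S G' → G, p, p is cartesian, so that G'' represents the fpqc quotient
sheaf G/G'. Let ε'' be the composite of the unit section of G with p. Then the square formed by u,
the structure morphism G' → S, p and ε'' is cartesian; u is an immersion; and G'' is separated over
S if and only if u is a closed immersion, if and only if ε'' is a closed immersion. -/
theorem result (S : Scheme.{u}) (G G' G'' : Over S) [GrpObj G] [GrpObj G']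
    (u : G' ⟶ G) [IsMonHom u] [Mono u] (p : G ⟶ G'')
    (hcov : (∃ (Z : Scheme.{u}) (q : Z ⟶ G''.left) (r : Z ⟶ G.left), r ≫ p.left = q ∧ Surjective q ∧ Flat q ∧
        ∀ V : G''.left.Opens, IsAffineOpen V → ∃ W : Z.Opens, IsCompact (W : Set Z) ∧ q.base '' (W : Set Z) = (V : Set G''.left)))
    (hsq : IsPullback ((G ◁ u) ≫ μ[G]) (fst G G') p p) :
    IsPullback u (toUnit G') p (η[G] ≫ p) ∧ IsImmersion u.left ∧
    (IsSeparated G''.hom ↔ IsClosedImmersion u.left) ∧ (IsClosedImmersion u.left ↔ IsClosedImmersion (η[G] ≫ p).left) := by
  have hq := Groth.Agent.Lib.FpqcCov18.isFpqcCov_of_exists p.left hcov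
  have sqO := Groth.Agent.Lib.QuotGrp18.isPullback_unit u p hsq
  have sq : IsPullback u.left (toUnit G').left p.left (η[G] ≫ p).left := sqO.map (Over.forget S)
  have hsec : (η[G] ≫ p).left ≫ G''.hom = 𝟙 S := Over.w (η[G] ≫ p)
  have himm : IsImmersion (η[G] ≫ p).left := by
    have : IsImmersion ((η[G] ≫ p).left ≫ G''.hom) := by
      rw [hsec]; exact (inferInstance : IsImmersion (𝟙 S))
    exact IsImmersion.of_comp _ G''.hom
  have hd1 : IsClosedImmersion (η[G] ≫ p).left → IsClosedImmersion u.left := fun h =>
    MorphismProperty.of_isPullback (P := @IsClosedImmersion) sq.flip h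
  have hd2 : IsClosedImmersion u.left → IsClosedImmersion (η[G] ≫ p).left := fun h =>
    Groth.Agent.Lib.FpqcCov18.IsFpqcCov.descends @IsClosedImmersion sq hq h
  refine ⟨sqO, MorphismProperty.of_isPullback (P := @IsImmersion) sq.flip himm, ⟨?_, ?_⟩, hd2, hd1⟩
  · intro hsep
    apply hd1
    have : IsClosedImmersion ((η[G] ≫ p).left ≫ G''.hom) := by
      rw [hsec]; exact (inferInstance : IsClosedImmersion (𝟙 S))
    exact IsClosedImmersion.of_comp _ G''.hom
  · intro hu
    refine (Groth.Agent.S5373.result S G G'' p).2.2 hcov ?_
    -- the graph of the equivalence relation is a closed immersion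
    let e := hsq.isoPullback
    have hv : lift (pullback.fst p p) (pullback.snd p p) =
        e.inv ≫ (G ◁ u) ≫ (Groth.Agent.Lib.QuotGrp18.sigmaIso G).hom := by
      rw [← Groth.Agent.Lib.QuotGrp18.lift_mul_fst_eq, Iso.eq_inv_comp]
      apply CartesianMonoidalCategory.hom_ext
      · rw [Category.assoc, lift_fst, lift_fst]
        exact hsq.isoPullback_hom_fst
      · rw [Category.assoc, lift_snd, lift_snd]
        exact hsq.isoPullback_hom_snd
    rw [hv]
    have sqL : IsPullback (G ◁ u).left (snd G G').left (snd G G).left u.left :=
      (Groth.Agent.Lib.CartPull18.isPullback_whiskerLeft_snd G u).map (Over.forget S)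
    have h1 : IsClosedImmersion (G ◁ u).left :=
      MorphismProperty.of_isPullback (P := @IsClosedImmersion) sqL.flip hu
    have h2 : IsIso (e.inv).left := inferInstance
    have h3 : IsIso (Groth.Agent.Lib.QuotGrp18.sigmaIso G).hom.left := inferInstance
    rw [Over.comp_left, Over.comp_left]
    infer_instance

end Groth.Agent.S5369
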