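import Groth.Statements.S5370
import Groth.Agent.Lib.FpqcCov18
import Groth.Agent.Lib.CartPull18
import Groth.Agent.Lib.QuotGrp18
import Groth.Agent.Lib.FlatSurj18

set_option autoImplicit false
set_option maxHeartbeats 400000
universe u
open CategoryTheory CategoryTheory.Limits MonoidalCategory CartesianMonoidalCategory MonObj GrpObj AlgebraicGeometry
open SGA3

namespace Groth.Agent.S5370

/-- Let u : G' → G be a monomorphism of S-group schemes and p : G → G'' a morphism of S-schemes which is
covering for the fpqc topology (some Z → G'' which is flat, surjective, with every affine open of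
G'' the image of a quasi-compact open of Z, factors through p) and such that the square (g, h) ↦
g·u(h), first projection G ×_S G' → G, p, p is cartesian, so that G'' represents the fpqc quotient
sheaf G/G'. Then: (ix) if G is reduced, G'' is reduced; (xi) G' is flat over S if and only if p is
flat, and in that case G'' is flat over S if and only if G is flat over S. -/
theorem result (S : Scheme.{u}) (G G' G'' : Over S) [GrpObj G] [GrpObj G']
    (u : G' ⟶ G) [IsMonHom u] [Mono u] (p : G ⟶ G'')
    (hcov : (∃ (Z : Scheme.{u}) (q : Z ⟶ G''.left) (r : Z ⟶ G.left), r ≫ p.left = q ∧ Surjective q ∧ Flat q ∧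
        ∀ V : G''.left.Opens, IsAffineOpen V → ∃ W : Z.Opens, IsCompact (W : Set Z) ∧ q.base '' (W : Set Z) = (V : Set G''.left)))
    (hsq : IsPullback ((G ◁ u) ≫ μ[G]) (fst G G') p p) :
    (IsReduced G.left → IsReduced G''.left) ∧
    (Flat G'.hom ↔ Flat p.left) ∧ (Flat p.left → (Flat G''.hom ↔ Flat G.hom)) := by
  have hq := Groth.Agent.Lib.FpqcCov18.isFpqcCov_of_exists p.left hcov
  have hsurj : Surjective p.left := hq.surjective
  have sqO := Groth.Agent.Lib.QuotGrp18.isPullback_unit u p hsq
  have sq : IsPullback u.left (toUnit G').left p.left (η[G] ≫ p).left := sqO.map (Over.forget S)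
  have hunit : (toUnit G').left = G'.hom := by
    have := Over.w (toUnit G')
    rw [← this]
    exact (Category.comp_id _).symm
  have sq2 : IsPullback ((G ◁ u) ≫ μ[G]).left (fst G G').left p.left p.left :=
    hsq.map (Over.forget S)
  refine ⟨?_, ⟨?_, ?_⟩, ?_⟩
  · intro hred
    obtain ⟨Z, q, r, hrq, hqs, hqf, -⟩ := hcov
    exact Groth.Agent.Lib.FlatSurj18.isReduced_of_flat_surjective_factor p.left q r hrq
  · intro hfl
    have h1 : Flat (fst G G').left := by
      show Flat (pullback.fst G.hom G'.hom)
      infer_instance
    exact Groth.Agent.Lib.FpqcCov18.IsFpqcCov.descends @Flat sq2.flip hq h1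
  · intro hfl
    rw [← hunit]
    exact MorphismProperty.of_isPullback (P := @Flat) sq hfl
  · intro hfl
    constructor
    · intro h
      rw [← Over.w p]
      infer_instance
    · intro h
      have : Flat (p.left ≫ G''.hom) := by rw [Over.w p]; exact h
      exact Groth.Agent.Lib.FlatSurj18.flat_of_comp_surjective p.left G''.hom

end Groth.Agent.S5370
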