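import Groth.Statements.S5371
import Groth.Agent.Lib.FpqcCov18
import Groth.Agent.Lib.CartPull18
import Groth.Agent.Lib.QuotGrp18
import Groth.Agent.Lib.H14SrcLocalFppf

set_option autoImplicit false
set_option maxHeartbeats 400000
universe u
open CategoryTheory CategoryTheory.Limits MonoidalCategory CartesianMonoidalCategory MonObj GrpObj AlgebraicGeometry
open SGA3

namespace Groth.Agent.S5371

/-- Let u : G' → G be a monomorphism of S-group schemes and p : G → G'' a morphism of S-schemes which is
covering for the fpqc topology (some Z → G'' which is flat, surjective, with every affine open of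
G'' the image of a quasi-compact open of Z, factors through p) and such that the square (g, h) ↦
g·u(h), first projection G ×_S G' → G, p, p is cartesian, so that G'' represents the fpqc quotient
sheaf G/G'. (xii) G' is flat and locally of finite presentation over S if and only if p is
surjective, flat and locally of finite presentation; in that case, if G is locally of finite
presentation (resp. locally of finite type, of finite type, smooth, etale, unramified, locally
quasi-finite) over S, so is G''. (xiii) If G' is flat and of finite presentation over S then p is of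
finite presentation, and G is of finite presentation over S if and only if G'' is. -/
theorem result (S : Scheme.{u}) (G G' G'' : Over S) [GrpObj G] [GrpObj G']
    (u : G' ⟶ G) [IsMonHom u] [Mono u] (p : G ⟶ G'')
    (hcov : (∃ (Z : Scheme.{u}) (q : Z ⟶ G''.left) (r : Z ⟶ G.left), r ≫ p.left = q ∧ Surjective q ∧ Flat q ∧
        ∀ V : G''.left.Opens, IsAffineOpen V → ∃ W : Z.Opens, IsCompact (W : Set Z) ∧ q.base '' (W : Set Z) = (V : Set G''.left)))
    (hsq : IsPullback ((G ◁ u) ≫ μ[G]) (fst G G') p p) :
    ((Flat G'.hom ∧ LocallyOfFinitePresentation G'.hom) ↔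
      (Surjective p.left ∧ Flat p.left ∧ LocallyOfFinitePresentation p.left)) ∧
    (Flat p.left → LocallyOfFinitePresentation p.left →
      (LocallyOfFinitePresentation G.hom → LocallyOfFinitePresentation G''.hom) ∧
      (LocallyOfFiniteType G.hom → LocallyOfFiniteType G''.hom) ∧
      (LocallyOfFiniteType G.hom → QuasiCompact G.hom → QuasiCompact G''.hom) ∧
      (Smooth G.hom → Smooth G''.hom) ∧ (Etale G.hom → Etale G''.hom) ∧
      (FormallyUnramified G.hom → LocallyOfFinitePresentation G.hom → FormallyUnramified G''.hom) ∧
      (LocallyQuasiFinite G.hom → LocallyOfFiniteType G.hom → LocallyQuasiFinite G''.hom)) ∧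
    (Flat G'.hom → LocallyOfFinitePresentation G'.hom → QuasiCompact G'.hom → QuasiSeparated G'.hom →
      QuasiCompact p.left ∧ QuasiSeparated p.left ∧ LocallyOfFinitePresentation p.left ∧
      ((LocallyOfFinitePresentation G.hom ∧ QuasiCompact G.hom ∧ QuasiSeparated G.hom) ↔
        (LocallyOfFinitePresentation G''.hom ∧ QuasiCompact G''.hom ∧ QuasiSeparated G''.hom))) := by
  have hq := Groth.Agent.Lib.FpqcCov18.isFpqcCov_of_exists p.left hcov
  have hsurj : Surjective p.left := hq.surjective
  have sqO := Groth.Agent.Lib.QuotGrp18.isPullback_unit u p hsq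
  have sq : IsPullback u.left (toUnit G').left p.left (η[G] ≫ p).left := sqO.map (Over.forget S)
  have hunit : (toUnit G').left = G'.hom := by
    have := Over.w (toUnit G')
    rw [← this]
    exact (Category.comp_id _).symm
  have sq2 : IsPullback ((G ◁ u) ≫ μ[G]).left (fst G G').left p.left p.left :=
    hsq.map (Over.forget S)
  have hw : p.left ≫ G''.hom = G.hom := Over.w p
  -- descent of a property of `G' → S` to `p`
  have descend : ∀ (P : MorphismProperty Scheme.{u}) [IsZariskiLocalAtTarget P]
      [P.IsStableUnderBaseChange]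
      [P.DescendsAlong (@Surjective ⊓ @Flat ⊓ @QuasiCompact : MorphismProperty Scheme.{u})],
      P G'.hom → P p.left := by
    intro P _ _ _ h
    have h1 : P (fst G G').left := by
      show P (pullback.fst G.hom G'.hom)
      exact P.pullback_fst _ _ h
    exact Groth.Agent.Lib.FpqcCov18.IsFpqcCov.descends P sq2.flip hq h1
  have ofp : ∀ (P : MorphismProperty Scheme.{u}) [P.IsStableUnderBaseChange],
      P p.left → P G'.hom := by
    intro P _ h
    rw [← hunit]
    exact MorphismProperty.of_isPullback (P := P) sq h
  refine ⟨⟨?_, ?_⟩, ?_, ?_⟩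
  · rintro ⟨hfl, hfp⟩
    exact ⟨hsurj, descend @Flat hfl, descend @LocallyOfFinitePresentation hfp⟩
  · rintro ⟨-, hfl, hfp⟩
    exact ⟨ofp @Flat hfl, ofp @LocallyOfFinitePresentation hfp⟩
  · intro hfl hfp
    have src : ∀ (P : MorphismProperty Scheme.{u}),
        Groth.Agent.Lib.SrcLocalFppf64.SourceFppfLocal P → P G.hom → P G''.hom := by
      intro P hP h
      exact hP p.left G''.hom hfl hfp hsurj (by rw [hw]; exact h)
    refine ⟨src _ Groth.Agent.Lib.SrcLocalFppf64.sourceFppfLocal_locallyOfFinitePresentation,
      src _ Groth.Agent.Lib.SrcLocalFppf64.sourceFppfLocal_locallyOfFiniteType, ?_,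
      src _ Groth.Agent.Lib.H14SrcLocalFppf.sourceFppfLocal_smooth,
      src _ Groth.Agent.Lib.H14SrcLocalFppf.sourceFppfLocal_etale, ?_, ?_⟩
    · intro _ hqc
      have : QuasiCompact (p.left ≫ G''.hom) := by rw [hw]; exact hqc
      exact Groth.Agent.Lib.H14SrcLocalFppf.quasiCompact_of_comp_surjective p.left G''.hom
    · intro hu hlfp
      have hlft : LocallyOfFiniteType G.hom := inferInstance
      exact (src _ Groth.Agent.Lib.H14SrcLocalFppf.sourceFppfLocal_formallyUnramified_lft
        ⟨hu, hlft⟩).1
    · intro hlqf hlft
      exact (src _ Groth.Agent.Lib.H14SrcLocalFppf.sourceFppfLocal_locallyQuasiFinite_lft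
        ⟨hlqf, hlft⟩).1
  · intro hfl hfp hqc hqs
    have hpfl : Flat p.left := descend @Flat hfl
    have hpfp : LocallyOfFinitePresentation p.left := descend @LocallyOfFinitePresentation hfp
    have hpqc : QuasiCompact p.left := descend @QuasiCompact hqc
    have hpqs : QuasiSeparated p.left := descend @QuasiSeparated hqs
    refine ⟨hpqc, hpqs, hpfp, ⟨?_, ?_⟩⟩
    · rintro ⟨h1, h2, h3⟩
      refine ⟨?_, ?_, ?_⟩
      · exact Groth.Agent.Lib.SrcLocalFppf64.sourceFppfLocal_locallyOfFinitePresentation
          p.left G''.hom hpfl hpfp hsurj (by rw [hw]; exact h1)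
      · have : QuasiCompact (p.left ≫ G''.hom) := by rw [hw]; exact h2
        exact Groth.Agent.Lib.H14SrcLocalFppf.quasiCompact_of_comp_surjective p.left G''.hom
      · have : QuasiSeparated (p.left ≫ G''.hom) := by rw [hw]; exact h3
        exact Groth.Agent.Lib.H14SrcLocalFppf.quasiSeparated_of_comp_surjective_quasiCompact
          p.left G''.hom
    · rintro ⟨h1, h2, h3⟩
      rw [← hw]
      exact ⟨inferInstance, inferInstance, inferInstance⟩

end Groth.Agent.S5371
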