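import Groth.Statements.S5377
import Mathlib.RingTheory.Flat.EquationalCriterion
import Mathlib.RingTheory.RingHom.FaithfullyFlat
import Mathlib.CategoryTheory.Limits.ConcreteCategory.Basic

set_option autoImplicit false
universe u
open CategoryTheory CategoryTheory.Limits MonoidalCategory CartesianMonoidalCategory MonObj GrpObj AlgebraicGeometry
open SGA3

namespace Groth.Agent.S5377

section Aux

variable {J : Type u} [SmallCategory J] [IsFiltered J] (F : J ⥤ CommRingCat.{u})

theorem ι_map_apply {j k : J} (g : j ⟶ k) (y : F.obj j) :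
    (colimit.ι F k).hom ((F.map g).hom y) = (colimit.ι F j).hom y := by
  rw [← CommRingCat.comp_apply, colimit.w]

theorem exists_rep (x : (colimit F : CommRingCat.{u})) :
    ∃ (j : J) (y : F.obj j), (colimit.ι F j).hom y = x :=
  Concrete.colimit_exists_rep F x

theorem exists_rep_fin {n : ℕ} (x : Fin n → (colimit F : CommRingCat.{u})) :
    ∃ (j : J) (y : Fin n → F.obj j), ∀ i, (colimit.ι F j).hom (y i) = x i := by
  classical
  choose j0 y0 hy0 using fun i => exists_rep F (x i)
  obtain ⟨S, hS⟩ := IsFiltered.sup_objs_exists (Finset.univ.image j0)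
  have hS' : ∀ i, Nonempty (j0 i ⟶ S) := fun i =>
    hS (Finset.mem_image_of_mem j0 (Finset.mem_univ i))
  let g : ∀ i, j0 i ⟶ S := fun i => (hS' i).some
  refine ⟨S, fun i => (F.map (g i)).hom (y0 i), fun i => ?_⟩
  rw [ι_map_apply, hy0]

theorem exists_map_eq_zero {j : J} (y : F.obj j) (hy : (colimit.ι F j).hom y = 0) :
    ∃ (k : J) (g : j ⟶ k), (F.map g).hom y = 0 := by
  have h0 : (colimit.ι F j).hom y = (colimit.ι F j).hom 0 := by rw [hy, map_zero]
  obtain ⟨k, f, g, hfg⟩ := (Concrete.colimit_rep_eq_iff_exists F y (0 : F.obj j)).mp h0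
  refine ⟨k, f, ?_⟩
  have : (F.map g).hom (0 : F.obj j) = 0 := map_zero _
  exact hfg.trans this

end Aux

section Flat

variable {J : Type u} [SmallCategory J] [IsFiltered J] (C A : J ⥤ CommRingCat.{u}) (φ : C ⟶ A)

theorem colimMap_ι_apply (j : J) (c : C.obj j) :
    (colimMap φ).hom ((colimit.ι C j).hom c) = (colimit.ι A j).hom ((φ.app j).hom c) := by
  rw [← CommRingCat.comp_apply, ← CommRingCat.comp_apply, ι_colimMap]

theorem naturality_apply {j k : J} (g : j ⟶ k) (c : C.obj j) :
    (A.map g).hom ((φ.app j).hom c) = (φ.app k).hom ((C.map g).hom c) := by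
  rw [← CommRingCat.comp_apply, ← CommRingCat.comp_apply, φ.naturality]

theorem flat_colimMap (h : ∀ j : J, (φ.app j).hom.Flat) : (colimMap φ).hom.Flat := by
  let _ := (colimMap φ).hom.toAlgebra
  change Module.Flat (colimit C : CommRingCat.{u}) (colimit A : CommRingCat.{u})
  apply Module.Flat.of_forall_isTrivialRelation
  intro l f x hfx
  obtain ⟨j1, f1, hf1⟩ := exists_rep_fin C f
  obtain ⟨j2, x2, hx2⟩ := exists_rep_fin A x
  let j := IsFiltered.max j1 j2
  let f' : Fin l → C.obj j := fun i => (C.map (IsFiltered.leftToMax j1 j2)).hom (f1 i)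
  let x' : Fin l → A.obj j := fun i => (A.map (IsFiltered.rightToMax j1 j2)).hom (x2 i)
  have hf' : ∀ i, (colimit.ι C j).hom (f' i) = f i := fun i => by
    simp only [f']; rw [ι_map_apply, hf1]
  have hx' : ∀ i, (colimit.ι A j).hom (x' i) = x i := fun i => by
    simp only [x']; rw [ι_map_apply, hx2]
  have hz : (colimit.ι A j).hom (∑ i, (φ.app j).hom (f' i) * x' i) = 0 := by
    simp only [map_sum, map_mul, ← colimMap_ι_apply, hf', hx']
    simpa [Algebra.smul_def, RingHom.algebraMap_toAlgebra] using hfx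
  obtain ⟨k, g, hg⟩ := exists_map_eq_zero A _ hz
  let f'' : Fin l → C.obj k := fun i => (C.map g).hom (f' i)
  let x'' : Fin l → A.obj k := fun i => (A.map g).hom (x' i)
  have hf'' : ∀ i, (colimit.ι C k).hom (f'' i) = f i := fun i => by
    simp only [f'']; rw [ι_map_apply, hf']
  have hx'' : ∀ i, (colimit.ι A k).hom (x'' i) = x i := fun i => by
    simp only [x'']; rw [ι_map_apply, hx']
  have hrel : ∑ i, (φ.app k).hom (f'' i) * x'' i = 0 := by
    simp only [map_sum, map_mul, naturality_apply] at hg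
    exact hg
  let _ := (φ.app k).hom.toAlgebra
  have hflat : Module.Flat (C.obj k) (A.obj k) := h k
  obtain ⟨κ, a, y, hxy, hfa⟩ := Module.Flat.isTrivialRelation_of_sum_smul_eq_zero
    (R := C.obj k) (M := A.obj k) (f := f'') (x := x'')
    (by simpa [Algebra.smul_def, RingHom.algebraMap_toAlgebra] using hrel)
  refine ⟨κ, fun i m => (colimit.ι C k).hom (a i m), fun m => (colimit.ι A k).hom (y m), ?_, ?_⟩
  · intro i
    rw [← hx'', hxy i]
    simp only [Algebra.smul_def, RingHom.algebraMap_toAlgebra, map_sum, map_mul,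
      colimMap_ι_apply]
  · intro m
    have := congrArg (colimit.ι C k).hom (hfa m)
    simp only [map_sum, map_mul, map_zero, hf''] at this
    exact this

/-- The extended ideal at stage `j` of the contraction of `m`. -/
noncomputable def stageIdeal (m : Ideal (colimit C : CommRingCat.{u})) (j : J) : Ideal (A.obj j) :=
  Ideal.map (φ.app j).hom (Ideal.comap (colimit.ι C j).hom m)

theorem map_mem_stageIdeal (m : Ideal (colimit C : CommRingCat.{u})) {j k : J} (g : j ⟶ k)
    {z : A.obj j} (hz : z ∈ stageIdeal C A φ m j) : (A.map g).hom z ∈ stageIdeal C A φ m k := by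
  have h1 : (A.map g).hom z ∈ Ideal.map (A.map g).hom (stageIdeal C A φ m j) :=
    Ideal.mem_map_of_mem _ hz
  have h2 : Ideal.map (A.map g).hom (stageIdeal C A φ m j) ≤ stageIdeal C A φ m k := by
    unfold stageIdeal
    rw [Ideal.map_map]
    have hcomp : (A.map g).hom.comp (φ.app j).hom = (φ.app k).hom.comp (C.map g).hom := by
      ext c
      exact naturality_apply C A φ g c
    rw [hcomp, ← Ideal.map_map]
    apply Ideal.map_mono
    rw [Ideal.map_le_iff_le_comap]
    intro c hc
    rw [Ideal.mem_comap] at hc ⊢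
    rw [Ideal.mem_comap, ι_map_apply]
    exact hc
  exact h2 h1

theorem exists_stage_of_mem_smul_top (m : Ideal (colimit C : CommRingCat.{u}))
    (z : (colimit A : CommRingCat.{u}))
    (hz : z ∈ Ideal.map (colimMap φ).hom m) :
    ∃ (j : J) (z' : A.obj j), z' ∈ stageIdeal C A φ m j ∧ (colimit.ι A j).hom z' = z := by
  unfold Ideal.map at hz
  induction hz using Submodule.span_induction with
  | mem x hx =>
    obtain ⟨c, hc, rfl⟩ := hx
    obtain ⟨j, c', rfl⟩ := exists_rep C c
    exact ⟨j, (φ.app j).hom c', Ideal.mem_map_of_mem _ hc, (colimMap_ι_apply C A φ j c').symm⟩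
  | zero => exact ⟨IsFiltered.nonempty.some, 0, zero_mem _, map_zero _⟩
  | add x y _ _ hx hy =>
    obtain ⟨j1, x', hx', rfl⟩ := hx
    obtain ⟨j2, y', hy', rfl⟩ := hy
    refine ⟨IsFiltered.max j1 j2, (A.map (IsFiltered.leftToMax j1 j2)).hom x' +
      (A.map (IsFiltered.rightToMax j1 j2)).hom y',
      add_mem (map_mem_stageIdeal C A φ m _ hx') (map_mem_stageIdeal C A φ m _ hy'), ?_⟩
    rw [map_add, ι_map_apply, ι_map_apply]
  | smul a x _ hx =>
    obtain ⟨j1, x', hx', rfl⟩ := hx
    obtain ⟨j2, a', rfl⟩ := exists_rep A a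
    refine ⟨IsFiltered.max j1 j2, (A.map (IsFiltered.rightToMax j1 j2)).hom a' *
      (A.map (IsFiltered.leftToMax j1 j2)).hom x',
      Ideal.mul_mem_left _ _ (map_mem_stageIdeal C A φ m _ hx'), ?_⟩
    rw [map_mul, ι_map_apply, ι_map_apply, smul_eq_mul]

end Flat

/-- Let (C_i → A_i)_i be a filtered direct system of homomorphisms of commutative rings, each of which
is faithfully flat. Then the induced homomorphism colim C_i → colim A_i is faithfully flat. -/
theorem result (J : Type u) [SmallCategory J] [IsFiltered J]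
    (C A : J ⥤ CommRingCat.{u}) (φ : C ⟶ A) (h : ∀ j : J, (φ.app j).hom.FaithfullyFlat) :
    (colimMap φ).hom.FaithfullyFlat := by
  have hflat : (colimMap φ).hom.Flat := flat_colimMap C A φ (fun j => (h j).flat)
  let _ := (colimMap φ).hom.toAlgebra
  change Module.FaithfullyFlat (colimit C : CommRingCat.{u}) (colimit A : CommRingCat.{u})
  have hflat' : Module.Flat (colimit C : CommRingCat.{u}) (colimit A : CommRingCat.{u}) := hflat
  refine { submodule_ne_top := fun m hm htop => ?_ }
  have h1 : (1 : (colimit A : CommRingCat.{u})) ∈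
      m • (⊤ : Submodule (colimit C : CommRingCat.{u}) (colimit A : CommRingCat.{u})) := by
    rw [htop]
    exact Submodule.mem_top
  rw [Ideal.smul_top_eq_map] at h1
  have h1' : (1 : (colimit A : CommRingCat.{u})) ∈ Ideal.map (colimMap φ).hom m := h1
  obtain ⟨j, z', hz', hz1⟩ := exists_stage_of_mem_smul_top C A φ m 1 h1'
  have hz0 : (colimit.ι A j).hom (z' - 1) = 0 := by rw [map_sub, hz1, map_one, sub_self]
  obtain ⟨k, g, hg⟩ := exists_map_eq_zero A _ hz0
  have h2 : (A.map g).hom z' = 1 := by
    rw [map_sub, map_one, sub_eq_zero] at hg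
    exact hg
  have h3 : (1 : A.obj k) ∈ stageIdeal C A φ m k := h2 ▸ map_mem_stageIdeal C A φ m g hz'
  have hprime : (Ideal.comap (colimit.ι C k).hom m).IsPrime := Ideal.comap_isPrime _ _
  obtain ⟨q, hq⟩ := ((RingHom.FaithfullyFlat.iff_flat_and_comap_surjective).mp (h k)).2
    ⟨_, hprime⟩
  have hle : stageIdeal C A φ m k ≤ q.asIdeal := by
    unfold stageIdeal
    rw [Ideal.map_le_iff_le_comap]
    have := congrArg PrimeSpectrum.asIdeal hq
    rw [PrimeSpectrum.comap_asIdeal] at this
    rw [this]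
  exact q.isPrime.ne_top ((Ideal.eq_top_iff_one _).mpr (hle h3))

end Groth.Agent.S5377
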