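import Groth.Statements.S5380
import Groth.Agent.S11538
import Mathlib.LinearAlgebra.TensorProduct.Quotient

set_option autoImplicit false
universe u
open CategoryTheory CategoryTheory.Limits MonoidalCategory CartesianMonoidalCategory MonObj GrpObj AlgebraicGeometry
open SGA3

namespace Groth.Agent.S5380

/-- Let R be a discrete valuation ring with uniformizer π, A a flat commutative R-algebra and M an
A-module which is flat over R. Suppose that M/πM is a flat module over A/πA and that M ⊗_R K is a
flat module over A ⊗_R K, K the fraction field of R (equivalently, M[1/π] is flat over A[1/π], the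
form used here). Then M is a flat A-module. -/
theorem result (R : Type u) [CommRing R] [IsDomain R] [IsDiscreteValuationRing R]
    (π : R) (hπ : Irreducible π) (A : Type u) [CommRing A] [Algebra R A] [Module.Flat R A]
    (M : Type u) [AddCommGroup M] [Module A M] [Module R M] [IsScalarTower R A M] [Module.Flat R M]
    (h1 : Module.Flat (A ⧸ Ideal.span {algebraMap R A π}) (M ⧸ (Ideal.span {algebraMap R A π} • (⊤ : Submodule A M))))
    (h2 : Module.Flat (Localization.Away (algebraMap R A π)) (LocalizedModule (Submonoid.powers (algebraMap R A π)) M)) :
    Module.Flat A M := by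
  have hπ0 : π ≠ 0 := hπ.ne_zero
  have hϖ : algebraMap R A π ∈ nonZeroDivisors A := by
    have hreg : IsSMulRegular A π :=
      Module.Flat.isSMulRegular_of_nonZeroDivisors (mem_nonZeroDivisors_of_ne_zero hπ0)
    rw [mem_nonZeroDivisors_iff_right]
    intro x hx
    apply hreg
    simp only [smul_zero]
    rw [Algebra.smul_def, mul_comm, hx]
  rw [Groth.Agent.S11538.result A (algebraMap R A π) hϖ M]
  refine ⟨?_, ?_, ?_⟩
  · intro x n hx
    have hreg : IsSMulRegular M (π ^ n) :=
      Module.Flat.isSMulRegular_of_nonZeroDivisors
        (pow_mem (mem_nonZeroDivisors_of_ne_zero hπ0) n)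
    apply hreg
    simp only [smul_zero]
    rw [← hx, ← map_pow, algebraMap_smul]
  · exact Module.Flat.of_linearEquiv
      ((TensorProduct.quotTensorEquivQuotSMul M
        (Ideal.span {algebraMap R A π})).extendScalarsOfSurjective Ideal.Quotient.mk_surjective)
  · exact Module.Flat.of_linearEquiv
      (IsLocalizedModule.isBaseChange (Submonoid.powers (algebraMap R A π))
        (Localization.Away (algebraMap R A π))
        (LocalizedModule.mkLinearMap (Submonoid.powers (algebraMap R A π)) M)).equiv

end Groth.Agent.S5380
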