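import Groth.Statements.S5381
import Mathlib.RingTheory.Flat.TorsionFree

set_option autoImplicit false
universe u
open CategoryTheory CategoryTheory.Limits MonoidalCategory CartesianMonoidalCategory MonObj GrpObj AlgebraicGeometry
open SGA3

namespace Groth.Agent.S5381

/-- For S the spectrum of a Dedekind domain R: let X be a scheme which is flat, quasi-compact and
quasi-separated over R. Then the ring of global sections Γ(X, O_X) is a flat R-module. (The
published remark takes S locally noetherian and regular of dimension 1 and also observes, when S is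
local with closed point s and uniformizer π, that Γ(X, O_X)/πΓ(X, O_X) → Γ(X_s, O_{X_s}) is
injective; this row takes S the spectrum of a Dedekind domain and omits the injectivity.) -/
theorem result (R : Type u) [CommRing R] [IsDedekindDomain R]
    (X : Scheme.{u}) (f : X ⟶ Spec (CommRingCat.of R)) [Flat f] [QuasiCompact f] [QuasiSeparated f] :
    letI := ((Scheme.ΓSpecIso (CommRingCat.of R)).inv ≫ f.appTop).hom.toAlgebra
    Module.Flat R Γ(X, ⊤) := by
  let _ := ((Scheme.ΓSpecIso (CommRingCat.of R)).inv ≫ f.appTop).hom.toAlgebra
  have : Module.IsTorsionFree R Γ(X, ⊤) := by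
    refine ⟨fun r hr => ?_⟩
    intro s t hst
    refine X.sheaf.eq_of_locally_eq' (fun U : X.affineOpens => (U : X.Opens)) ⊤
      (fun U => homOfLE le_top) (by rw [iSup_affineOpens_eq_top]) s t (fun U => ?_)
    -- the flat ring map to sections over an affine open
    have hflat : ((Scheme.ΓSpecIso (CommRingCat.of R)).inv ≫
        f.appLE ⊤ U le_top).hom.Flat := by
      rw [CommRingCat.hom_comp]
      refine RingHom.Flat.comp ?_ (HasRingHomProperty.appLE (P := @Flat) f inferInstance
        ⟨⊤, isAffineOpen_top _⟩ U le_top)
      exact RingHom.Flat.of_bijective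
        (ConcreteCategory.bijective_of_isIso (Scheme.ΓSpecIso (CommRingCat.of R)).inv)
    have hcomp : ∀ a : R, (X.presheaf.map (homOfLE (le_top : (U : X.Opens) ≤ ⊤)).op).hom
        (((Scheme.ΓSpecIso (CommRingCat.of R)).inv ≫ f.appTop).hom a) =
        ((Scheme.ΓSpecIso (CommRingCat.of R)).inv ≫ f.appLE ⊤ U le_top).hom a := by
      intro a
      rw [← CommRingCat.comp_apply]
      congr 2
    have hreg : IsSMulRegular Γ(X, (U : X.Opens))
        (((Scheme.ΓSpecIso (CommRingCat.of R)).inv ≫ f.appLE ⊤ U le_top).hom r) := by
      let _ := ((Scheme.ΓSpecIso (CommRingCat.of R)).inv ≫ f.appLE ⊤ U le_top).hom.toAlgebra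
      have hfl : Module.Flat R Γ(X, (U : X.Opens)) := hflat
      have := Module.Flat.isSMulRegular_of_isRegular (M := Γ(X, (U : X.Opens))) hr
      intro a b hab
      apply this
      simpa [Algebra.smul_def, RingHom.algebraMap_toAlgebra] using hab
    have h1 : (X.presheaf.map (homOfLE (le_top : (U : X.Opens) ≤ ⊤)).op).hom (r • s) =
        (X.presheaf.map (homOfLE (le_top : (U : X.Opens) ≤ ⊤)).op).hom (r • t) :=
      congrArg _ hst
    rw [Algebra.smul_def, Algebra.smul_def, map_mul, map_mul, RingHom.algebraMap_toAlgebra,
      hcomp] at h1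
    exact hreg h1
  infer_instance

end Groth.Agent.S5381
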