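import Groth.Statements.S5383
import Groth.Agent.Lib.H80UnibranchOpen4

set_option autoImplicit false
universe u
open CategoryTheory CategoryTheory.Limits MonoidalCategory CartesianMonoidalCategory MonObj GrpObj AlgebraicGeometry
open SGA3

namespace Groth.Agent.S5383

theorem quasiFiniteAt_of_nhdsWithin {X Y : Scheme.{u}} (f : X ⟶ Y) [LocallyOfFiniteType f] (x : X)
    (h : nhdsWithin x (f.base ⁻¹' {f.base x}) = pure x) : f.QuasiFiniteAt x := by
  rw [Scheme.Hom.quasiFiniteAt_iff_isOpen_singleton_asFiber,
    ← (f.fiberHomeo (f x)).isOpen_image]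
  simp only [Set.image_singleton, Scheme.Hom.asFiber, Homeomorph.apply_symm_apply]
  rw [isOpen_iff_mem_nhds]
  rintro _ rfl
  have h1 : ({x} : Set X) ∈ nhdsWithin x (f.base ⁻¹' {f.base x}) := by
    rw [h]; exact Filter.mem_pure.mpr rfl
  obtain ⟨t, ht, hts⟩ := mem_nhdsWithin_iff_exists_mem_nhds_inter.mp h1
  rw [mem_nhds_subtype]
  refine ⟨t, ht, ?_⟩
  intro z hz
  have : (z : X) ∈ ({x} : Set X) := hts ⟨hz, z.2⟩
  exact Subtype.ext this

/-- (i) let A ⊆ B be domains with B integral over A, and q a prime of B such that the local ring of A at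
p = q ∩ A is unibranch; then Spec B → Spec A is open at q (it maps neighbourhoods of q to
neighbourhoods of p). (ii) Let f : X → Y be a dominant morphism of irreducible schemes which is
locally of finite type, x a point of X isolated in its fibre (f quasi-finite at x) such that the
local ring of Y at f(x) is unibranch; then f is open at x. -/
theorem result :
    (∀ (A B : Type u) [CommRing A] [IsDomain A] [CommRing B] [IsDomain B] [Algebra A B],
      Function.Injective (algebraMap A B) → Algebra.IsIntegral A B →
      ∀ q : PrimeSpectrum B, CAlg2.IsUnibranch (Localization.AtPrime (q.asIdeal.comap (algebraMap A B))) →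
        EGA43.IsOpenAt (PrimeSpectrum.comap (algebraMap A B)) q) ∧
    (∀ (X Y : Scheme.{u}) (f : X ⟶ Y) [IrreducibleSpace X] [IrreducibleSpace Y] [LocallyOfFiniteType f],
      DenseRange f.base → ∀ x : X, (nhdsWithin x (f.base ⁻¹' {f.base x})) = pure x →
        CAlg2.IsUnibranch (Y.presheaf.stalk (f.base x)) → EGA43.IsOpenAt f.base x) := by
  refine ⟨fun A B _ _ _ _ _ hinj hint q hU => ?_, fun X Y f _ _ _ hdense x hx hU => ?_⟩
  · exact Groth.Agent.Lib.H80UnibranchOpen.isOpenAt_comap_of_isUnibranch A B hinj q hU
  · exact Groth.Agent.Lib.H80UnibranchOpen.isOpenAt_of_quasiFiniteAt_of_isUnibranch f hdense x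
      (quasiFiniteAt_of_nhdsWithin f x hx) hU

end Groth.Agent.S5383
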