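import Groth.Statements.S5387
import Mathlib.AlgebraicGeometry.AlgClosed.Basic
import Mathlib.CategoryTheory.Monoidal.Grp

set_option autoImplicit false
universe u
open CategoryTheory CategoryTheory.Limits MonoidalCategory CartesianMonoidalCategory MonObj GrpObj AlgebraicGeometry
open SGA3

namespace Groth.Agent.S5387

/-- Let k be an algebraically closed field, G a group scheme locally of finite type over k and x a
closed point of G. Then the local ring of G at x is isomorphic to the local ring of G at the unit
point (an isomorphism is induced by a translation; this row asserts the existence of an isomorphism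
of rings). -/
theorem result (k : Type u) [Field k] [IsAlgClosed k] (G : Over (Spec (CommRingCat.of k))) [GrpObj G]
    [LocallyOfFiniteType G.hom] (pt : ↥(𝟙_ (Over (Spec (CommRingCat.of k)))).left) (x : G.left) (hx : IsClosed ({x} : Set G.left)) :
    Nonempty (G.left.presheaf.stalk (η[G].left.base pt) ≅ G.left.presheaf.stalk x) := by
  let s : 𝟙_ (Over (Spec (CommRingCat.of k))) ⟶ G :=
    Over.homMk (pointOfClosedPoint G.hom x hx) (by simp)
  let e := GrpObj.mulRight s
  have h1 : η[G] ≫ e.hom = s := by
    simp only [e, GrpObj.mulRight]
    rw [← Category.assoc, comp_lift, Category.comp_id]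
    have h0 : η[G] ≫ toUnit G ≫ s = s := by
      rw [← Category.assoc, toUnit_unique (η[G] ≫ toUnit G) (𝟙 _), Category.id_comp]
    rw [h0]
    have := MonObj.lift_comp_one_left (𝟙 (𝟙_ (Over (Spec (CommRingCat.of k))))) s
    rwa [Category.id_comp] at this
  have h2 : e.hom.left.base (η[G].left.base pt) = x := by
    have h3 : (η[G] ≫ e.hom).left.base pt = x := by
      rw [h1]
      exact pointOfClosedPoint_apply G.hom x hx pt
    simpa using h3
  have hiso : IsIso e.hom.left := inferInstanceAs (IsIso ((Over.forget _).map e.hom))
  exact ⟨(asIso (e.hom.left.stalkMap (η[G].left.base pt))).symm ≪≫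
    G.left.presheaf.stalkCongr (.of_eq h2)⟩

end Groth.Agent.S5387
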