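import Groth.Statements.S5388
import Groth.Agent.Lib.H71GrpSmooth2
import Groth.Agent.S14588

set_option autoImplicit false
universe u
open CategoryTheory CategoryTheory.Limits MonoidalCategory CartesianMonoidalCategory MonObj GrpObj AlgebraicGeometry
open SGA3

namespace Groth.Agent.S5388

/-- Let G be a group scheme locally of finite type over a field k, e its unit point and K a perfect
extension field of k. If K ⊗_k O_{G,e} is a reduced ring, then G is smooth over k. (The published
statement is for a group flat and locally of finite type over a local artinian ring, with K the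
perfect closure of the residue field; this row is the case of a base field, with K any perfect
extension.) -/
theorem result (k : Type u) [Field k] (G : Over (Spec (CommRingCat.of k))) [GrpObj G]
    [LocallyOfFiniteType G.hom] (pt : ↥(𝟙_ (Over (Spec (CommRingCat.of k)))).left) (K : Type u) [Field K] [Algebra k K] [PerfectField K] :
    letI := ((Scheme.ΓSpecIso (CommRingCat.of k)).inv ≫ G.hom.appTop ≫ G.left.presheaf.germ ⊤ (η[G].left.base pt) trivial).hom.toAlgebra
    IsReduced (TensorProduct k K (G.left.presheaf.stalk (η[G].left.base pt))) → Smooth G.hom := by
  intro h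
  letI : G.left.Over (Spec (CommRingCat.of k)) := ⟨G.hom⟩
  letI := Curv2.stalkAlgebra k G.left (η[G].left.base pt)
  haveI : Algebra.IsGeometricallyReduced k (G.left.presheaf.stalk (η[G].left.base pt)) :=
    Groth.Agent.Lib.H71GrpSmooth.isGeometricallyReduced_of_isReduced_tensor_perfect k K _ h
  have hgr := Groth.Agent.Lib.H71GeomRedAt.isGeomReducedAt_of_isGeometricallyReduced k G.left
    (η[G].left.base pt)
  let t : ↥(𝟙_ (Over (Spec (CommRingCat.of (AlgebraicClosure k))))).left :=
    IsLocalRing.closedPoint (AlgebraicClosure k)
  have hfst := Groth.Agent.Lib.H71GrpSmooth.fst_unit_bc k G (AlgebraicClosure k) pt t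
  have hred := hgr (AlgebraicClosure k) _ hfst
  exact Groth.Agent.S14588.result k G t hred

end Groth.Agent.S5388
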