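import Groth.Statements.S5390
import Mathlib.AlgebraicGeometry.Morphisms.Descent

set_option autoImplicit false
universe u
open CategoryTheory CategoryTheory.Limits MonoidalCategory CartesianMonoidalCategory MonObj GrpObj AlgebraicGeometry
open SGA3

namespace Groth.Agent.S5390

section Aux

/-- Restricting a pullback square over opens. -/
theorem exists_isPullback_restrict {T X Y Y' : Scheme.{u}} {p₁ : T ⟶ X} {p₂ : T ⟶ Y'}
    {f : X ⟶ Y} {g : Y' ⟶ Y} (sq : IsPullback p₁ p₂ f g) (U : Y.Opens) (V' : Y'.Opens)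
    (γ : (V' : Scheme.{u}) ⟶ (U : Scheme.{u})) (hγ : γ ≫ U.ι = V'.ι ≫ g) :
    ∃ l : ((p₂ ⁻¹ᵁ V' : T.Opens) : Scheme.{u}) ⟶ ((f ⁻¹ᵁ U : X.Opens) : Scheme.{u}),
      IsPullback l (p₂ ∣_ V') (f ∣_ U) γ := by
  have sqU := (isPullback_morphismRestrict f U).flip
  have sqV := (isPullback_morphismRestrict p₂ V').flip
  have big := sqV.paste_horiz sq
  rw [← hγ] at big
  have comm : ((p₂ ⁻¹ᵁ V').ι ≫ p₁) ≫ f = ((p₂ ∣_ V') ≫ γ) ≫ U.ι := by
    rw [Category.assoc, Category.assoc]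
    exact big.w
  refine ⟨sqU.lift ((p₂ ⁻¹ᵁ V').ι ≫ p₁) ((p₂ ∣_ V') ≫ γ) comm,
    IsPullback.of_right ?_ (sqU.lift_snd _ _ _) sqU⟩
  rw [sqU.lift_fst]
  exact big

end Aux

/-- Let P be a property of morphisms of schemes which is local on the target for the fpqc topology
(stable under base change, Zariski-local on the target, descending along flat surjective
quasi-compact morphisms). Let f : X → Y be a morphism, g : Y' → Y a flat morphism whose underlying
map is open, and f' : X ×_Y Y' → Y' the base change. If W is the largest open of Y over which f has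
P and W₁' the largest open of Y' over which f' has P, then W₁' = g⁻¹(W). -/
theorem result (P : MorphismProperty Scheme.{u}) [P.IsStableUnderBaseChange] [IsZariskiLocalAtTarget P]
    [P.DescendsAlong (@Flat ⊓ @Surjective ⊓ @QuasiCompact)]
    (X Y Y' : Scheme.{u}) (f : X ⟶ Y) (g : Y' ⟶ Y) [Flat g] (hg : IsOpenMap g.base)
    (W : Y.Opens) (hW : P (f ∣_ W)) (hmax : ∀ W₀ : Y.Opens, P (f ∣_ W₀) → W₀ ≤ W)
    (W₁ : Y'.Opens) (hW₁ : P (pullback.snd f g ∣_ W₁)) (hmax₁ : ∀ W₀ : Y'.Opens, P (pullback.snd f g ∣_ W₀) → W₀ ≤ W₁) :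
    W₁ = g ⁻¹ᵁ W := by
  have sq : IsPullback (pullback.fst f g) (pullback.snd f g) f g := IsPullback.of_hasPullback f g
  apply le_antisymm
  · -- W₁ ≤ g⁻¹ W
    intro y' hy'
    -- an affine neighbourhood of g y'
    obtain ⟨_, ⟨(V : Y.Opens), hV, rfl⟩, hyV, -⟩ :=
      Y.isBasis_affineOpens.exists_subset_of_mem_open (Set.mem_univ (g.base y')) isOpen_univ
    have hy'2 : y' ∈ ((W₁ ⊓ g ⁻¹ᵁ V : Y'.Opens) : Set Y') := ⟨hy', hyV⟩
    obtain ⟨_, ⟨(V' : Y'.Opens), hV', rfl⟩, hy'V', hV'sub⟩ :=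
      Y'.isBasis_affineOpens.exists_subset_of_mem_open hy'2 (W₁ ⊓ g ⁻¹ᵁ V).2
    have hV'W₁ : V' ≤ W₁ := fun z hz => (hV'sub hz).1
    have hV'V : V' ≤ g ⁻¹ᵁ V := fun z hz => (hV'sub hz).2
    -- the image open
    let U : Y.Opens := ⟨g.base '' (V' : Set Y'), hg _ V'.2⟩
    have hUV : U ≤ V := by
      rintro _ ⟨z, hz, rfl⟩
      exact hV'V hz
    have hV'U : V' ≤ g ⁻¹ᵁ U := fun z hz => ⟨z, hz, rfl⟩
    let γ : (V' : Scheme.{u}) ⟶ (U : Scheme.{u}) := g.resLE U V' hV'U
    have hγ : γ ≫ U.ι = V'.ι ≫ g := Scheme.Hom.resLE_comp_ι _ _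
    -- γ is flat, surjective, quasi-compact
    have hflat : Flat γ := inferInstance
    have hsurj : Surjective γ := by
      refine ⟨fun u => ?_⟩
      obtain ⟨z, hz, hzu⟩ := u.2
      refine ⟨⟨z, hz⟩, ?_⟩
      apply Subtype.ext
      have := congrArg (fun h => h.base ⟨z, hz⟩) hγ
      simpa [hzu] using this
    have hqc : QuasiCompact γ := by
      have : IsAffine (V' : Scheme.{u}) := hV'
      have : IsAffine (V : Scheme.{u}) := hV
      have : QuasiSeparatedSpace (U : Scheme.{u}) :=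
        quasiSeparatedSpace_of_quasiSeparated (Y.homOfLE hUV)
      infer_instance
    -- P holds for pullback.snd over V'
    have hPV' : P (pullback.snd f g ∣_ V') := by
      obtain ⟨l, hl⟩ := exists_isPullback_restrict
        (IsPullback.of_horiz_isIso (fst := 𝟙 _) (snd := pullback.snd f g) (f := pullback.snd f g)
          (g := 𝟙 Y') ⟨by simp⟩) W₁ V' (Y'.homOfLE hV'W₁) (by simp)
      exact P.of_isPullback hl hW₁
    -- descend
    obtain ⟨l, hl⟩ := exists_isPullback_restrict sq U V' γ hγ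
    have hPU : P (f ∣_ U) :=
      MorphismProperty.DescendsAlong.of_isPullback (P := P)
        (Q := (@Flat ⊓ @Surjective ⊓ @QuasiCompact : MorphismProperty Scheme.{u}))
        hl.flip ⟨⟨hflat, hsurj⟩, hqc⟩ hPV'
    exact hmax U hPU ⟨y', hy'V', rfl⟩
  · -- g⁻¹ W ≤ W₁
    apply hmax₁
    obtain ⟨l, hl⟩ := exists_isPullback_restrict sq W (g ⁻¹ᵁ W) (g ∣_ W) (morphismRestrict_ι g W)
    exact P.of_isPullback hl hW

end Groth.Agent.S5390
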