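import Groth.Statements.S5389
import Groth.Agent.S5390

set_option autoImplicit false
universe u
open CategoryTheory CategoryTheory.Limits MonoidalCategory CartesianMonoidalCategory MonObj GrpObj AlgebraicGeometry
open SGA3

namespace Groth.Agent.S5389

universe v

section Cat

variable {C : Type u} [Category.{v} C] [CartesianMonoidalCategory C] {G H : C} [GrpObj G] [GrpObj H]

/-- shear `(g, g') ↦ (g, g⁻¹ g')` of `G ⊗ G`. -/
noncomputable def shearG (G : C) [GrpObj G] : G ⊗ G ≅ G ⊗ G where
  hom := lift (fst G G) ((fst G G)⁻¹ * snd G G)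
  inv := lift (fst G G) (fst G G * snd G G)
  hom_inv_id := by
    ext
    · simp
    · simp [MonObj.comp_mul, GrpObj.comp_inv]
  inv_hom_id := by
    ext
    · simp
    · simp [MonObj.comp_mul, GrpObj.comp_inv]

/-- shear `(g, h) ↦ (g, u(g)⁻¹ h)` of `G ⊗ H`. -/
noncomputable def shearH (u : G ⟶ H) : G ⊗ H ≅ G ⊗ H where
  hom := lift (fst G H) ((fst G H ≫ u)⁻¹ * snd G H)
  inv := lift (fst G H) ((fst G H ≫ u) * snd G H)
  hom_inv_id := by
    ext
    · simp
    · simp [MonObj.comp_mul, GrpObj.comp_inv]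
  inv_hom_id := by
    ext
    · simp
    · simp [MonObj.comp_mul, GrpObj.comp_inv]

theorem shear_comm (u : G ⟶ H) [IsMonHom u] :
    (shearG G).hom ≫ (G ◁ u) = (G ◁ u) ≫ (shearH u).hom := by
  ext
  · simp [shearG, shearH]
  · simp [shearG, shearH, MonObj.comp_mul, GrpObj.comp_inv, MonObj.mul_comp, GrpObj.inv_comp]

theorem shearH_inv_snd (u : G ⟶ H) [IsMonHom u] :
    (G ◁ u) ≫ (shearH u).inv ≫ snd G H = μ[G] ≫ u := by
  rw [MonObj.mul_eq_mul (M := G), MonObj.mul_comp]
  simp [shearH, MonObj.comp_mul]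

/-- the base change square. -/
theorem isPullback_whiskerLeft (A : C) {B B' : C} (f : B ⟶ B') :
    IsPullback (snd A B) (A ◁ f) f (snd A B') := by
  refine IsPullback.of_isLimit' ⟨by simp⟩ ?_
  refine PullbackCone.IsLimit.mk _ (fun s => lift (s.snd ≫ fst A B') s.fst) ?_ ?_ ?_
  · intro s; simp
  · intro s
    ext
    · simp
    · simp [s.condition]
  · intro s m h1 h2
    ext
    · simp [← h2]
    · simp [← h1]

end Cat


section Sch

/-- first half of S5390, for an arbitrary pullback square. -/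
theorem le_preimage_of_maximal (P : MorphismProperty Scheme.{u}) [P.IsStableUnderBaseChange]
    [IsZariskiLocalAtTarget P] [P.DescendsAlong (@Flat ⊓ @Surjective ⊓ @QuasiCompact)]
    {T X Y Y' : Scheme.{u}} {p₁ : T ⟶ X} {p₂ : T ⟶ Y'} {f : X ⟶ Y} {g : Y' ⟶ Y}
    (sq : IsPullback p₁ p₂ f g) [Flat g] (hg : IsOpenMap g.base)
    (W : Y.Opens) (hmax : ∀ W₀ : Y.Opens, P (f ∣_ W₀) → W₀ ≤ W)
    (W₁ : Y'.Opens) (hW₁ : P (p₂ ∣_ W₁)) : W₁ ≤ g ⁻¹ᵁ W := by
  intro y' hy'
  obtain ⟨_, ⟨(V : Y.Opens), hV, rfl⟩, hyV, -⟩ :=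
    Y.isBasis_affineOpens.exists_subset_of_mem_open (Set.mem_univ (g.base y')) isOpen_univ
  have hy'2 : y' ∈ ((W₁ ⊓ g ⁻¹ᵁ V : Y'.Opens) : Set Y') := ⟨hy', hyV⟩
  obtain ⟨_, ⟨(V' : Y'.Opens), hV', rfl⟩, hy'V', hV'sub⟩ :=
    Y'.isBasis_affineOpens.exists_subset_of_mem_open hy'2 (W₁ ⊓ g ⁻¹ᵁ V).2
  have hV'W₁ : V' ≤ W₁ := fun z hz => (hV'sub hz).1
  have hV'V : V' ≤ g ⁻¹ᵁ V := fun z hz => (hV'sub hz).2
  let U : Y.Opens := ⟨g.base '' (V' : Set Y'), hg _ V'.2⟩
  have hUV : U ≤ V := by
    rintro _ ⟨z, hz, rfl⟩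
    exact hV'V hz
  have hV'U : V' ≤ g ⁻¹ᵁ U := fun z hz => ⟨z, hz, rfl⟩
  let gam : (V' : Scheme.{u}) ⟶ (U : Scheme.{u}) := g.resLE U V' hV'U
  have hgam : gam ≫ U.ι = V'.ι ≫ g := Scheme.Hom.resLE_comp_ι _ _
  have hflat : Flat gam := inferInstance
  have hsurj : Surjective gam := by
    refine ⟨fun u => ?_⟩
    obtain ⟨z, hz, hzu⟩ := u.2
    refine ⟨⟨z, hz⟩, ?_⟩
    apply Subtype.ext
    have h1 : (gam ≫ U.ι).base ⟨z, hz⟩ = (V'.ι ≫ g).base ⟨z, hz⟩ := by rw [hgam]
    exact h1.trans hzu
  have hqc : QuasiCompact gam := by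
    have : IsAffine (V' : Scheme.{u}) := hV'
    have : IsAffine (V : Scheme.{u}) := hV
    have : QuasiSeparatedSpace (U : Scheme.{u}) :=
      quasiSeparatedSpace_of_quasiSeparated (Y.homOfLE hUV)
    infer_instance
  have hPV' : P (p₂ ∣_ V') := by
    obtain ⟨l, hl⟩ := Groth.Agent.S5390.exists_isPullback_restrict
      (IsPullback.of_horiz_isIso (fst := 𝟙 _) (snd := p₂) (f := p₂)
        (g := 𝟙 Y') ⟨by simp⟩) W₁ V' (Y'.homOfLE hV'W₁) (by simp)
    exact P.of_isPullback hl hW₁
  obtain ⟨l, hl⟩ := Groth.Agent.S5390.exists_isPullback_restrict sq U V' gam hgam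
  have hPU : P (f ∣_ U) :=
    MorphismProperty.DescendsAlong.of_isPullback (P := P)
      (Q := (@Flat ⊓ @Surjective ⊓ @QuasiCompact : MorphismProperty Scheme.{u}))
      hl.flip ⟨⟨hflat, hsurj⟩, hqc⟩ hPV'
  exact hmax U hPU ⟨y', hy'V', rfl⟩

end Sch


section Main

variable {S : Scheme.{u}} {G H : Over S} [GrpObj G] [GrpObj H]

/-- key: left translates of points of `V` stay in `V`. -/
theorem mul_mem (P : MorphismProperty Scheme.{u}) [P.IsStableUnderBaseChange] [IsZariskiLocalAtTarget P]
    [P.DescendsAlong (@Flat ⊓ @Surjective ⊓ @QuasiCompact)]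
    (u : G ⟶ H) [IsMonHom u] [Flat G.hom] [UniversallyOpen G.hom]
    (W : H.left.Opens) (hW : P (u.left ∣_ W)) (hmax : ∀ W' : H.left.Opens, P (u.left ∣_ W') → W' ≤ W)
    (z : ↥(G ⊗ G).left) (hz : (snd G G).left.base z ∈ u.left ⁻¹ᵁ W) :
    μ[G].left.base z ∈ u.left ⁻¹ᵁ W := by
  have hflat : Flat (snd G H).left := by
    change Flat (pullback.snd G.hom H.hom)
    infer_instance
  have hopen : IsOpenMap (snd G H).left.base := by
    have : UniversallyOpen (snd G H).left := by
      change UniversallyOpen (pullback.snd G.hom H.hom)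
      infer_instance
    exact (snd G H).left.isOpenMap
  have sq1 : IsPullback (snd G G).left (G ◁ u).left u.left (snd G H).left :=
    (isPullback_whiskerLeft G u).map (Over.forget S)
  let W'' : (G ⊗ H).left.Opens := (snd G H).left ⁻¹ᵁ W
  have hP1 : P ((G ◁ u).left ∣_ W'') := by
    obtain ⟨l, hl⟩ := Groth.Agent.S5390.exists_isPullback_restrict sq1 W W''
      ((snd G H).left ∣_ W) (morphismRestrict_ι _ _)
    exact P.of_isPullback hl hW
  have comm : (shearG G).hom.left ≫ (G ◁ u).left = (G ◁ u).left ≫ (shearH u).hom.left := by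
    rw [← Over.comp_left, ← Over.comp_left, shear_comm]
  have : IsIso (shearG G).hom.left := inferInstanceAs (IsIso ((Over.forget S).map (shearG G).hom))
  have : IsIso (shearH u).hom.left := inferInstanceAs (IsIso ((Over.forget S).map (shearH u).hom))
  have sq2 : IsPullback (shearG G).hom.left (G ◁ u).left (G ◁ u).left (shearH u).hom.left :=
    IsPullback.of_horiz_isIso ⟨comm⟩
  let W₁ : (G ⊗ H).left.Opens := (shearH u).hom.left ⁻¹ᵁ W''
  have hP2 : P ((G ◁ u).left ∣_ W₁) := by
    obtain ⟨l, hl⟩ := Groth.Agent.S5390.exists_isPullback_restrict sq2 W'' W₁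
      ((shearH u).hom.left ∣_ W'') (morphismRestrict_ι _ _)
    exact P.of_isPullback hl hP1
  have hle := le_preimage_of_maximal P sq1 hopen W hmax W₁ hP2
  -- the point
  let y'' := (G ◁ u).left.base z
  let y' := (shearH u).inv.left.base y''
  have hy' : (shearH u).hom.left.base y' = y'' := by
    change ((shearH u).inv.left ≫ (shearH u).hom.left).base y'' = y''
    rw [← Over.comp_left, Iso.inv_hom_id]
    rfl
  have h1 : y' ∈ W₁ := by
    change (snd G H).left.base ((shearH u).hom.left.base y') ∈ W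
    rw [hy']
    change ((G ◁ u).left ≫ (snd G H).left).base z ∈ W
    rw [← Over.comp_left, whiskerLeft_snd, Over.comp_left]
    exact hz
  have h2 := hle h1
  change ((μ[G]).left ≫ u.left).base z ∈ W
  rw [← Over.comp_left, ← shearH_inv_snd u, Over.comp_left, Over.comp_left]
  exact h2

end Main


/-- Let P be a property of morphisms of schemes which is local on the target for the fpqc topology
(stable under base change, Zariski-local on the target, and descending along flat surjective
quasi-compact morphisms). Let u : G → H be a homomorphism of S-group schemes with G flat and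
universally open over S, W the largest open subscheme of H over which the restriction of u has P,
and V = u⁻¹(W). Then the image U of V in S is open and V is an open subgroup scheme of G over U: V
contains the unit point of every fibre of G that it meets, V is stable under the inversion of G, and
the product of a point of G ×_S G whose two projections lie in V lies in V. -/
theorem result (P : MorphismProperty Scheme.{u}) [P.IsStableUnderBaseChange] [IsZariskiLocalAtTarget P]
    [P.DescendsAlong (@Flat ⊓ @Surjective ⊓ @QuasiCompact)]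
    (S : Scheme.{u}) (G H : Over S) [GrpObj G] [GrpObj H] (u : G ⟶ H) [IsMonHom u] [Flat G.hom] [UniversallyOpen G.hom]
    (W : H.left.Opens) (hW : P (u.left ∣_ W)) (hmax : ∀ W' : H.left.Opens, P (u.left ∣_ W') → W' ≤ W) :
    letI V : G.left.Opens := u.left ⁻¹ᵁ W
    IsOpen (G.hom.base '' (V : Set G.left)) ∧
    (∀ g ∈ V, ∀ p : ↥(𝟙_ (Over S)).left, (𝟙_ (Over S)).hom.base p = G.hom.base g → η[G].left.base p ∈ V) ∧
    (∀ g ∈ V, ι[G].left.base g ∈ V) ∧
    (∀ z : ↥(G ⊗ G).left, (fst G G).left.base z ∈ V → (snd G G).left.base z ∈ V → μ[G].left.base z ∈ V) := by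
  refine ⟨G.hom.isOpenMap _ (u.left ⁻¹ᵁ W).2, ?_, ?_, fun z _ hz => mul_mem P u W hW hmax z hz⟩
  · intro g hg p hp
    let m : G ⟶ G ⊗ G := lift ι[G] (𝟙 G)
    have hsnd : (snd G G).left.base (m.left.base g) = g := by
      change (m.left ≫ (snd G G).left).base g = g
      rw [← Over.comp_left, lift_snd]
      rfl
    have h := mul_mem P u W hW hmax (m.left.base g) (by rw [hsnd]; exact hg)
    have e : m ≫ μ[G] = toUnit G ≫ η[G] := GrpObj.left_inv G
    have hp' : p = G.hom.base g := hp
    have h2 : μ[G].left.base (m.left.base g) = η[G].left.base p := by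
      change (m.left ≫ μ[G].left).base g = _
      rw [← Over.comp_left, e, hp']
      rfl
    rw [← h2]
    exact h
  · intro g hg
    let m : G ⟶ G ⊗ G := lift ((𝟙 G)⁻¹ * (𝟙 G)⁻¹) (𝟙 G)
    have hsnd : (snd G G).left.base (m.left.base g) = g := by
      change (m.left ≫ (snd G G).left).base g = g
      rw [← Over.comp_left, lift_snd]
      rfl
    have h := mul_mem P u W hW hmax (m.left.base g) (by rw [hsnd]; exact hg)
    have e : m ≫ μ[G] = ι[G] := by
      rw [MonObj.mul_eq_mul, MonObj.comp_mul, lift_fst, lift_snd, inv_mul_cancel_right,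
        Hom.inv_def, Category.id_comp]
    have h2 : μ[G].left.base (m.left.base g) = ι[G].left.base g := by
      change (m.left ≫ μ[G].left).base g = _
      rw [← Over.comp_left, e]
    rw [← h2]
    exact h

end Groth.Agent.S5389
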