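import Groth.Statements.S5395
import Mathlib

set_option autoImplicit false
universe u
open CategoryTheory CategoryTheory.Limits MonoidalCategory CartesianMonoidalCategory MonObj GrpObj AlgebraicGeometry
open SGA3

namespace Groth.Agent.S5395

open Topology

/-- A point of a constructible set lies in a locally closed subset of it. -/
lemma exists_isLocallyClosed_of_isConstructible {Y : Type*} [TopologicalSpace Y] {s : Set Y}
    (hs : IsConstructible s) :
    (∀ x ∈ s, ∃ L, IsLocallyClosed L ∧ x ∈ L ∧ L ⊆ s) ∧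
      (∀ x ∉ s, ∃ L, IsLocallyClosed L ∧ x ∈ L ∧ L ⊆ sᶜ) := by
  induction hs using IsConstructible.empty_union_induction with
  | open_retrocompact U hUopen hUcomp =>
    exact ⟨fun x hx => ⟨U, hUopen.isLocallyClosed, hx, subset_rfl⟩,
      fun x hx => ⟨Uᶜ, hUopen.isClosed_compl.isLocallyClosed, hx, subset_rfl⟩⟩
  | union s hs t ht hs' ht' =>
    refine ⟨?_, ?_⟩
    · rintro x (h | h)
      · obtain ⟨L, h1, h2, h3⟩ := hs'.1 x h
        exact ⟨L, h1, h2, h3.trans Set.subset_union_left⟩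
      · obtain ⟨L, h1, h2, h3⟩ := ht'.1 x h
        exact ⟨L, h1, h2, h3.trans Set.subset_union_right⟩
    · intro x h
      have h1 : x ∉ s := fun h' => h (Or.inl h')
      have h2 : x ∉ t := fun h' => h (Or.inr h')
      obtain ⟨L, hL1, hL2, hL3⟩ := hs'.2 x h1
      obtain ⟨M, hM1, hM2, hM3⟩ := ht'.2 x h2
      refine ⟨L ∩ M, hL1.inter hM1, ⟨hL2, hM2⟩, ?_⟩
      rintro y ⟨hyL, hyM⟩ (hy | hy)
      exacts [hL3 hyL hy, hM3 hyM hy]
  | compl s hs hs' =>
    refine ⟨fun x h => hs'.2 x h, fun x h => ?_⟩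
    have : x ∈ s := not_not.mp h
    simpa using hs'.1 x this

/-- A point of an ind-constructible set lies in a locally closed subset of it. -/
lemma exists_isLocallyClosed_of_isIndConstructible {Y : Type*} [TopologicalSpace Y] {A : Set Y}
    (hA : ProCons.IsIndConstructible A) (a : Y) (ha : a ∈ A) :
    ∃ L, IsLocallyClosed L ∧ a ∈ L ∧ L ⊆ A := by
  obtain ⟨U, hUo, haU, S, hS, hAS⟩ := hA a
  have haS : (⟨a, haU⟩ : ↥U) ∈ ⋃₀ S := by
    rw [← hAS]; exact ha
  obtain ⟨T, hTS, haT⟩ := haS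
  obtain ⟨V, hV, hVo, hVc⟩ := hS T hTS ⟨a, haU⟩
  have haV : (⟨a, haU⟩ : ↥U) ∈ V := mem_of_mem_nhds hV
  obtain ⟨L', hL', haL', hL'T⟩ :=
    (exists_isLocallyClosed_of_isConstructible hVc).1 ⟨⟨a, haU⟩, haV⟩ haT
  -- the composite open embedding `↥V → ↥U → Y`
  let j : ↥V → Y := fun v => ((v : ↥U) : Y)
  have hj : IsOpenEmbedding j :=
    (hUo.isOpenEmbedding_subtypeVal).comp (hVo.isOpenEmbedding_subtypeVal)
  refine ⟨j '' L', ?_, ⟨_, haL', rfl⟩, ?_⟩
  · obtain ⟨O, Z, hO, hZ, rfl⟩ := hL'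
    obtain ⟨Z', hZ', rfl⟩ := hj.isInducing.isClosed_iff.mp hZ
    have : j '' (O ∩ j ⁻¹' Z') = j '' O ∩ Z' := by
      rw [Set.image_inter_preimage]
    rw [this]
    exact ((hj.isOpenMap O hO).isLocallyClosed).inter hZ'.isLocallyClosed
  · rintro _ ⟨v, hv, rfl⟩
    have h1 : (v : ↥U) ∈ T := hL'T hv
    have h2 : (v : ↥U) ∈ Subtype.val ⁻¹' A := by
      rw [hAS]; exact ⟨T, hTS, h1⟩
    exact h2


/-- Let k be an algebraically closed field, G a group scheme locally of finite type over k, and A, B two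
ind-constructible subsets of G. Let A·B be the image under the multiplication of the set of points
of G ×_k G whose two projections lie in A and B. Then every closed point z of G lying in A·B is the
product of a closed point of G ×_k G whose two projections lie in A and B (and are then closed
points): the rational points of A·B are the products of rational points of A and of B. -/
theorem result (k : Type u) [Field k] [IsAlgClosed k] (G : Over (Spec (CommRingCat.of k))) [GrpObj G]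
    [LocallyOfFiniteType G.hom] (A B : Set G.left) (hA : ProCons.IsIndConstructible A) (hB : ProCons.IsIndConstructible B)
    (z : G.left) (hz : IsClosed ({z} : Set G.left))
    (hzAB : z ∈ μ[G].left.base '' {w : ↥(G ⊗ G).left | (fst G G).left.base w ∈ A ∧ (snd G G).left.base w ∈ B}) :
    ∃ w : ↥(G ⊗ G).left, IsClosed ({w} : Set ↥(G ⊗ G).left) ∧ (fst G G).left.base w ∈ A ∧ (snd G G).left.base w ∈ B ∧
      μ[G].left.base w = z := by
  obtain ⟨w₀, ⟨hw₀A, hw₀B⟩, hw₀z⟩ := hzAB
  obtain ⟨LA, hLA, haLA, hLAA⟩ := exists_isLocallyClosed_of_isIndConstructible hA _ hw₀A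
  obtain ⟨LB, hLB, hbLB, hLBB⟩ := exists_isLocallyClosed_of_isIndConstructible hB _ hw₀B
  have hJ : JacobsonSpace ↥(G ⊗ G).left := by
    have : LocallyOfFiniteType (G ⊗ G).hom := by
      rw [Over.tensorObj_hom]; infer_instance
    exact LocallyOfFiniteType.jacobsonSpace (G ⊗ G).hom
  let Z : Set ↥(G ⊗ G).left :=
    ((fst G G).left.base ⁻¹' LA ∩ (snd G G).left.base ⁻¹' LB) ∩ μ[G].left.base ⁻¹' {z}
  have hZlc : IsLocallyClosed Z :=
    ((hLA.preimage (fst G G).left.continuous).inter (hLB.preimage (snd G G).left.continuous)).inter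
      (hz.preimage μ[G].left.continuous).isLocallyClosed
  obtain ⟨w, ⟨⟨hw1, hw2⟩, hw3⟩, hwc⟩ :=
    nonempty_inter_closedPoints (Z := Z) ⟨w₀, ⟨⟨haLA, hbLB⟩, hw₀z⟩⟩ hZlc
  exact ⟨w, hwc, hLAA hw1, hLBB hw2, hw3⟩

end Groth.Agent.S5395
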