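import Groth.Statements.S5423
import Groth.Agent.S7987
import Groth.Agent.Lib.Burnside41
import Groth.Agent.Lib.GITPts38
import Groth.Agent.Lib.ComodDualAlg
import Groth.Agent.Lib.ComodUnip41c

set_option autoImplicit false
universe u
open TensorProduct
open SGA3t2b

namespace Groth.Agent.S5423

open Groth.Agent.Lib.Comod in
theorem eq_zero_of_lcontr_eq_zero {k : Type*} [Field k] {V X : Type*} [AddCommGroup V]
    [Module k V] [AddCommGroup X] [Module k X] (t : V ⊗[k] X)
    (h : ∀ χ : V →ₗ[k] k, lcontr X χ t = 0) : t = 0 := by
  apply (TensorProduct.comm k V X).injective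
  rw [map_zero]
  apply eq_zero_of_contr_eq_zero
  intro χ
  rw [contr_comm, h χ]

open Groth.Agent.Lib.Comod in
theorem algHom_lcontr {k : Type*} [Field k] {A : Type*} [CommRing A] [Algebra k A] {V : Type*}
    [AddCommGroup V] [Module k V] (g : A →ₐ[k] k) (χ : V →ₗ[k] k) (t : V ⊗[k] A) :
    g (lcontr A χ t) = χ (contr V g.toLinearMap t) := by
  induction t using TensorProduct.induction_on with
  | zero => simp
  | add x y hx hy => simp only [map_add, hx, hy]
  | tmul v a => simp [mul_comm]

open Groth.Agent.Lib.Comod in
theorem backward (k : Type u) [Field k] [IsAlgClosed k] (A : Type u) [CommRing A] [HopfAlgebra k A]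
    [Algebra.FiniteType k A] [IsReduced A]
    (h : ∀ (g : A →ₐ[k] k) (V : Type u) [AddCommGroup V] [Module k V] [HopfRep.Comod k A V],
      Module.Finite k V → IsNilpotent (HopfRep.Comod.act k A V g - LinearMap.id)) :
    HopfRep.IsUnipotent k A := by
  intro V _ _ c hfin hnt
  let ρ : Representation k (WithConv (A →ₐ[k] k)) V :=
    { toFun := fun g => act V g.ofConv.toLinearMap
      map_one' := by
        apply LinearMap.ext
        intro v
        exact act_one (k := k) (C := A) v
      map_mul' := fun g g' => by
        apply LinearMap.ext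
        intro v
        exact act_mul (WithConv.toConv g.ofConv.toLinearMap) (WithConv.toConv g'.ofConv.toLinearMap) v }
  have hρ : ∀ g : WithConv (A →ₐ[k] k), IsNilpotent (ρ g - 1) := fun g => h g.ofConv V hfin
  obtain ⟨v, hv0, hv⟩ := Groth.Agent.Lib.Burnside41.exists_fixed ρ hρ
  have hfix : c.coact v = v ⊗ₜ[k] (1 : A) := by
    rw [← sub_eq_zero]
    apply eq_zero_of_lcontr_eq_zero
    intro χ
    have hnil : IsNilpotent (lcontr A χ (c.coact v - v ⊗ₜ[k] (1 : A))) := by
      apply Groth.Agent.Lib.GITPts38.isNilpotent_of_forall_algHom_eq_zero (k := k)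
      intro g
      rw [algHom_lcontr, map_sub, contr_tmul]
      have h1 : contr V g.toLinearMap (c.coact v) = v := hv (WithConv.toConv g)
      rw [h1, AlgHom.toLinearMap_apply, map_one, one_smul, sub_self, map_zero]
    exact hnil.eq_zero
  intro hbot
  have : v ∈ HopfRep.fixedPts k A V := hfix
  rw [hbot, Submodule.mem_bot] at this
  exact hv0 this

/-- Let k be an algebraically closed field and A a reduced finitely generated commutative Hopf algebra
over k (a smooth affine algebraic k-group G). Then G is unipotent (every non-zero finite-dimensional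
representation has a non-zero fixed vector) if and only if every element of G(k) is unipotent, i.e.
every k-point g : A → k acts on every finite-dimensional comodule V by an endomorphism g_V with g_V
− 1 nilpotent. -/
theorem result (k : Type u) [Field k] [IsAlgClosed k] (A : Type u) [CommRing A] [HopfAlgebra k A] [Algebra.FiniteType k A]
    [IsReduced A] :
    HopfRep.IsUnipotent k A ↔
      ∀ (g : A →ₐ[k] k) (V : Type u) [AddCommGroup V] [Module k V] [HopfRep.Comod k A V],
        Module.Finite k V → IsNilpotent (HopfRep.Comod.act k A V g - LinearMap.id) := by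
  constructor
  · intro hA g V _ _ _ hfin
    have := Groth.Agent.S7987.result k A hA g V
    rwa [Module.End.one_eq_id] at this
  · exact backward k A

end Groth.Agent.S5423
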