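import Groth.Statements.S5427
import Mathlib.RingTheory.SimpleModule.Basic
import Mathlib.Data.ZMod.QuotientRing
import Mathlib.RingTheory.Bialgebra.MonoidAlgebra
import Mathlib.RingTheory.PrincipalIdealDomain
import Mathlib.RingTheory.Int.Basic
import Mathlib.Algebra.Ring.Int.Field
import Mathlib.RingTheory.Finiteness.Basic

set_option autoImplicit false
universe u
open CategoryTheory MonoidalCategory CartesianMonoidalCategory MonObj GrpObj AlgebraicGeometry CategoryTheory.Limits
open Red

namespace Groth.Agent.S5427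

theorem int_maximal (I : Ideal ℤ) (hI : I.IsMaximal) :
    ∃ q : ℕ, q.Prime ∧ I = Ideal.span {(q : ℤ)} := by
  have hIne : I ≠ ⊥ := by
    intro h
    subst h
    exact Int.not_isField (Ring.isField_iff_maximal_bot.mpr hI)
  have hgen : I = Ideal.span {Submodule.IsPrincipal.generator I} :=
    (Ideal.span_singleton_generator I).symm
  set p := Submodule.IsPrincipal.generator I with hp
  have hp0 : p ≠ 0 := by
    intro h0
    apply hIne
    rw [hgen, h0]; simp
  have hprime : Prime p := by
    rw [← Ideal.span_singleton_prime hp0, ← hgen]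
    exact hI.isPrime
  exact ⟨p.natAbs, Int.prime_iff_natAbs_prime.mp hprime, by rw [hgen, Int.span_natAbs]⟩

theorem exists_surj_zmod (M : Type) [AddCommGroup M] [AddGroup.FG M] [Nontrivial M] :
    ∃ (r : ℕ) (_ : r.Prime) (φ : M →+ ZMod r), Function.Surjective φ := by
  have hfin : Module.Finite ℤ M := Module.Finite.iff_addGroup_fg.mpr inferInstance
  obtain ⟨N, hN⟩ := (eq_top_or_exists_le_coatom (⊥ : Submodule ℤ M)).resolve_left bot_ne_top
  have hsimple : IsSimpleModule ℤ (M ⧸ N) := isSimpleModule_iff_isCoatom.mpr hN.1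
  obtain ⟨I, hI, ⟨e⟩⟩ := isSimpleModule_iff_quot_maximal.mp hsimple
  obtain ⟨q, hq, rfl⟩ := int_maximal I hI
  refine ⟨q, hq, ?_, ?_⟩
  · exact ((Int.quotientSpanNatEquivZMod q).toAddMonoidHom.comp
      e.toLinearMap.toAddMonoidHom).comp N.mkQ.toAddMonoidHom
  · intro z
    obtain ⟨y, hy⟩ := (Int.quotientSpanNatEquivZMod q).surjective z
    obtain ⟨x, hx⟩ := e.surjective y
    obtain ⟨m, hm⟩ := N.mkQ_surjective x
    exact ⟨m, by simp [hm, hx, hy]⟩

section

variable (R : Type u) [CommRing R] {A B : Type u} [CommRing A] [CommRing B]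
  [HopfAlgebra R A] [HopfAlgebra R B] (f : A →ₐc[R] B)

/-- the group scheme map attached to a bialgebra map -/
noncomputable def specHom :
    (Spec (CommRingCat.of B)).asOver (Spec (CommRingCat.of R)) ⟶
      (Spec (CommRingCat.of A)).asOver (Spec (CommRingCat.of R)) :=
  (Spec.map (CommRingCat.ofHom (f : A →ₐ[R] B).toRingHom)).asOver (Spec (CommRingCat.of R))

instance : IsMonHom (specHom R f) := by
  have := ((bialgSpec (CommRingCat.of R)).map (Quiver.Hom.op (CommBialgCat.ofHom f))).isMonHom_hom
  exact this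

end

/-- Let S be a scheme and G = D_S(M) a diagonalizable S-group of finite type, M a non-trivial finitely
generated commutative group. Then there are a prime number r and a closed subgroup of G isomorphic
to (μ_r)_S: a homomorphism of S-groups D_S(ℤ/r) → D_S(M) which is a closed immersion. -/
theorem result (S : Scheme.{u}) (M : Type) [AddCommGroup M] [AddGroup.FG M] [Nontrivial M] :
    ∃ (r : ℕ) (_ : r.Prime) (j : Red.DS S (ZMod r) ⟶ Red.DS S M), IsMonHom j ∧ IsClosedImmersion j.left := by
  obtain ⟨r, hr, φ, hφ⟩ := exists_surj_zmod M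
  let ψ : MonoidAlgebra (ULift.{u} ℤ) (Multiplicative M) →ₐc[ULift.{u} ℤ]
      MonoidAlgebra (ULift.{u} ℤ) (Multiplicative (ZMod r)) :=
    MonoidAlgebra.mapDomainBialgHom (ULift.{u} ℤ) (AddMonoidHom.toMultiplicative φ)
  have hψ : Function.Surjective ψ := by
    intro y
    induction y using MonoidAlgebra.induction_on with
    | of g =>
      obtain ⟨m, hm⟩ := hφ g.toAdd
      refine ⟨MonoidAlgebra.of _ _ (Multiplicative.ofAdd m), ?_⟩
      simp only [ψ, MonoidAlgebra.of_apply, MonoidAlgebra.mapDomainBialgHom_single]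
      congr 1
    | add x y hx hy =>
      obtain ⟨a, rfl⟩ := hx
      obtain ⟨b, rfl⟩ := hy
      exact ⟨a + b, map_add _ _ _⟩
    | smul c x hx =>
      obtain ⟨a, rfl⟩ := hx
      exact ⟨c • a, map_smul _ _ _⟩
  let j₀ := specHom (ULift.{u} ℤ) ψ
  have hj₀ : IsClosedImmersion j₀.left :=
    IsClosedImmersion.spec_of_surjective _ hψ
  refine ⟨r, hr, (Over.pullback (Limits.IsTerminal.from specULiftZIsTerminal S)).map j₀, ?_, ?_⟩
  · infer_instance
  · exact MorphismProperty.overPullbackMap _ j₀ hj₀

end Groth.Agent.S5427
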