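import Groth.Statements.S5434
import Groth.Agent.Lib.SchDense68
import Groth.Agent.Lib.SchDenseFlat68
import Mathlib.AlgebraicGeometry.PullbackCarrier
import Mathlib.AlgebraicGeometry.ResidueField
-- import your own Groth.Agent.* helpers here

set_option autoImplicit false
universe u
open CategoryTheory MonoidalCategory CartesianMonoidalCategory MonObj GrpObj AlgebraicGeometry CategoryTheory.Limits
open SGA3x

namespace Groth.Agent.S5434

open Groth.Agent.Lib.SchDense68 Groth.Agent.Lib.SchDenseFlat68

/-- Schematic density descends along an isomorphism. -/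
theorem isSchematicallyDense_of_isIso {X' X : Scheme.{u}} (e : X' ⟶ X) [IsIso e] (U : X.Opens)
    (h : CInt.IsSchematicallyDense (e ⁻¹ᵁ U)) : CInt.IsSchematicallyDense U := by
  intro V
  have h1 := h (e ⁻¹ᵁ V)
  rw [injective_iff_map_eq_zero] at h1 ⊢
  intro s hs
  have h2 : (e.app V) s = 0 := by
    apply h1
    have hnat := e.naturality (homOfLE (inf_le_left : V ⊓ U ≤ V)).op
    have h3 := congrArg (fun φ => φ.hom s) hnat
    simp only [CommRingCat.hom_comp, RingHom.comp_apply] at h3
    rw [hs, map_zero] at h3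
    exact h3.symm
  have hinj : Function.Injective (e.app V) :=
    ((ConcreteCategory.isIso_iff_bijective (e.app V)).mp inferInstance).1
  exact hinj (h2.trans (map_zero _).symm)

/-- Two morphisms agreeing on a schematically dense open and landing (on an open `W`) in an affine
open `V` of the target agree on `W`. -/
theorem ι_comp_eq_of_le_affine {X Y : Scheme.{u}} (f g : X ⟶ Y) (U : X.Opens)
    (hU : CInt.IsSchematicallyDense U) (h : U.ι ≫ f = U.ι ≫ g) (V : Y.Opens) (hV : IsAffineOpen V)
    (W : X.Opens) (hf : W ≤ f ⁻¹ᵁ V) (hg : W ≤ g ⁻¹ᵁ V) : W.ι ≫ f = W.ι ≫ g := by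
  have hfr : Set.range (W.ι ≫ f).base ⊆ Set.range V.ι.base := by
    rintro _ ⟨w, rfl⟩
    rw [Scheme.Opens.range_ι]
    exact hf w.2
  have hgr : Set.range (W.ι ≫ g).base ⊆ Set.range V.ι.base := by
    rintro _ ⟨w, rfl⟩
    rw [Scheme.Opens.range_ι]
    exact hg w.2
  let fW : (W : Scheme.{u}) ⟶ V := IsOpenImmersion.lift V.ι (W.ι ≫ f) hfr
  let gW : (W : Scheme.{u}) ⟶ V := IsOpenImmersion.lift V.ι (W.ι ≫ g) hgr
  have hfW : fW ≫ V.ι = W.ι ≫ f := IsOpenImmersion.lift_fac _ _ _
  have hgW : gW ≫ V.ι = W.ι ≫ g := IsOpenImmersion.lift_fac _ _ _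
  have : IsAffine (V : Scheme.{u}) := hV
  have hd : CInt.IsSchematicallyDense (W.ι ⁻¹ᵁ U) := isSchematicallyDense_restrict W U hU
  have hfac : (W.ι ⁻¹ᵁ U).ι ≫ W.ι = (W.ι ∣_ U) ≫ U.ι := (morphismRestrict_ι W.ι U).symm
  have key : fW = gW := by
    refine ext_of_isSchematicallyDense_of_isSeparated (terminal.from (V : Scheme.{u}))
      (terminal.hom_ext _ _) (W.ι ⁻¹ᵁ U) hd ?_
    rw [← cancel_mono V.ι, Category.assoc, Category.assoc, hfW, hgW, ← Category.assoc,
      ← Category.assoc, hfac, Category.assoc, Category.assoc, h]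
  rw [← hfW, ← hgW, key]

/-- Let X be an S-scheme and U an open subscheme of X which is schematically dense in X relative to S:
for every S′ → S the preimage of U in X ×_S S′ is schematically dense (restriction of functions to
it is injective on every open). Let Y be an S-scheme whose fibres Y_s are separated (over κ(s)). If
two S-morphisms f, g : X → Y agree on U, then f = g. -/
theorem result (S : Scheme.{u}) (X Y : Over S) (U : X.left.Opens) (hU : (∀ (S' : Scheme.{u}) (g : S' ⟶ S), CInt.IsSchematicallyDense ((pullback.fst X.hom g) ⁻¹ᵁ U)))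
    (hY : ∀ s : S, IsSeparated (pullback.snd Y.hom (S.fromSpecResidueField s)))
    (f g : X ⟶ Y) (h : U.ι ≫ f.left = U.ι ≫ g.left) : f = g := by
  -- `U` itself is schematically dense
  have hU0 : CInt.IsSchematicallyDense U :=
    isSchematicallyDense_of_isIso (pullback.fst X.hom (𝟙 S)) U (hU S (𝟙 S))
  -- pointwise equality via the fibres
  have hpt : ∀ x : X.left, f.left.base x = g.left.base x := by
    intro x
    let s : S := X.hom.base x
    let k := S.fromSpecResidueField s
    have hfw : f.left ≫ Y.hom = X.hom := Over.w f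
    have hgw : g.left ≫ Y.hom = X.hom := Over.w g
    let fs : pullback X.hom k ⟶ pullback Y.hom k :=
      pullback.map X.hom k Y.hom k f.left (𝟙 _) (𝟙 S) (by rw [Category.comp_id, hfw])
        (by rw [Category.comp_id, Category.id_comp])
    let gs : pullback X.hom k ⟶ pullback Y.hom k :=
      pullback.map X.hom k Y.hom k g.left (𝟙 _) (𝟙 S) (by rw [Category.comp_id, hgw])
        (by rw [Category.comp_id, Category.id_comp])
    have hfs1 : fs ≫ pullback.fst Y.hom k = pullback.fst X.hom k ≫ f.left :=
      pullback.lift_fst _ _ _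
    have hgs1 : gs ≫ pullback.fst Y.hom k = pullback.fst X.hom k ≫ g.left :=
      pullback.lift_fst _ _ _
    have hfs2 : fs ≫ pullback.snd Y.hom k = pullback.snd X.hom k :=
      (pullback.lift_snd _ _ _).trans (Category.comp_id _)
    have hgs2 : gs ≫ pullback.snd Y.hom k = pullback.snd X.hom k :=
      (pullback.lift_snd _ _ _).trans (Category.comp_id _)
    have hsep : IsSeparated (pullback.snd Y.hom k) := hY s
    have hfac : ((pullback.fst X.hom k) ⁻¹ᵁ U).ι ≫ pullback.fst X.hom k =
        (pullback.fst X.hom k ∣_ U) ≫ U.ι := (morphismRestrict_ι _ U).symm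
    have hfg : fs = gs := by
      refine ext_of_isSchematicallyDense_of_isSeparated (pullback.snd Y.hom k)
        (hfs2.trans hgs2.symm) ((pullback.fst X.hom k) ⁻¹ᵁ U) (hU _ k) ?_
      apply pullback.hom_ext
      · rw [Category.assoc, Category.assoc, hfs1, hgs1, ← Category.assoc, ← Category.assoc, hfac,
          Category.assoc, Category.assoc, h]
      · rw [Category.assoc, Category.assoc, hfs2, hgs2]
    have hx : x ∈ Set.range (pullback.fst X.hom k).base := by
      rw [Scheme.Pullback.range_fst, Scheme.range_fromSpecResidueField]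
      exact rfl
    obtain ⟨x', hx'⟩ := hx
    have e1 : f.left.base ((pullback.fst X.hom k).base x') =
        (pullback.fst Y.hom k).base (fs.base x') := by
      rw [← Scheme.Hom.comp_apply, ← Scheme.Hom.comp_apply, hfs1]
    have e2 : g.left.base ((pullback.fst X.hom k).base x') =
        (pullback.fst Y.hom k).base (gs.base x') := by
      rw [← Scheme.Hom.comp_apply, ← Scheme.Hom.comp_apply, hgs1]
    rw [← hx', e1, e2, hfg]
  -- local equality on preimages of affine opens
  apply Over.OverMorphism.ext
  apply Scheme.hom_ext_of_forall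
  intro x
  obtain ⟨_, ⟨V, hV, rfl⟩, hxV, -⟩ :=
    Y.left.isBasis_affineOpens.exists_subset_of_mem_open (Set.mem_univ (f.left.base x))
      isOpen_univ
  refine ⟨f.left ⁻¹ᵁ V, hxV, ?_⟩
  refine ι_comp_eq_of_le_affine f.left g.left U hU0 h V hV _ le_rfl ?_
  intro y hy
  show g.left.base y ∈ V
  rw [← hpt y]
  exact hy

end Groth.Agent.S5434
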