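import Groth.Statements.S5451
import Groth.Agent.Lib.RootDForm

set_option autoImplicit false
open RootD

namespace Groth.Agent.S5451

open Groth.Agent.Lib.RootDBasic Groth.Agent.Lib.RootDForm

theorem chain {ι M N : Type*} [AddCommGroup M] [AddCommGroup N]
    (P : RootPairing ι ℤ M N) [Finite ι] {n : ℕ} (a : Fin n → ι) :
    ∀ (t : ℕ) (m : Fin n → ℕ), ∑ i, m i = t → ∀ k : ι, P.root k = ∑ i, m i • P.root (a i) →
    ∃ (l : ℕ) (b : Fin l → Fin n), 0 < l ∧
      (∀ p : Fin l, ∃ j : ι, P.root j =
        ∑ q ∈ Finset.univ.filter (fun q : Fin l => q.val ≤ p.val), P.root (a (b q))) ∧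
      P.root k = ∑ q, P.root (a (b q)) := by
  intro t
  induction t with
  | zero =>
    intro m hm k hk
    exfalso
    have hm0 : ∀ i, m i = 0 := by
      intro i
      have := (Finset.sum_eq_zero_iff (s := Finset.univ) (f := m)).mp hm i (Finset.mem_univ i)
      exact this
    apply root_ne_zero P k
    rw [hk]
    apply Finset.sum_eq_zero
    intro i _
    rw [hm0 i, zero_smul]
  | succ t ih =>
    intro m hm k hk
    obtain ⟨i, -, hmi, hpair⟩ := exists_pairing_pos P Finset.univ a m k hk
    by_cases hki : k = a i
    · refine ⟨1, fun _ => i, one_pos, ?_, ?_⟩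
      · intro p
        refine ⟨k, ?_⟩
        have : Finset.univ.filter (fun q : Fin 1 => q.val ≤ p.val) = Finset.univ := by
          ext q
          simp only [Finset.mem_filter, Finset.mem_univ, true_and, iff_true]
          omega
        rw [this]
        simp [hki]
      · simp [hki]
    · obtain ⟨k', hk'⟩ := exists_root_sub P k (a i) hpair hki
      have hupd : ∀ (g : Fin n → M), ∑ j, m j • g j =
          ∑ j, (Function.update m i (m i - 1)) j • g j + g i := by
        intro g
        rw [← Finset.add_sum_erase _ _ (Finset.mem_univ i),
          ← Finset.add_sum_erase (f := fun j => (Function.update m i (m i - 1)) j • g j) _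
            (Finset.mem_univ i)]
        simp only [Function.update_self]
        have : ∀ j ∈ Finset.univ.erase i, (Function.update m i (m i - 1)) j • g j = m j • g j := by
          intro j hj
          rw [Function.update_of_ne (Finset.ne_of_mem_erase hj)]
        rw [Finset.sum_congr rfl this]
        have h1 : m i = (m i - 1) + 1 := by omega
        conv_lhs => rw [h1, add_smul, one_smul]
        abel
      have hsum' : ∑ j, (Function.update m i (m i - 1)) j = t := by
        have e1 := Finset.sum_update_of_mem (Finset.mem_univ i) m (m i - 1)
        have e2 := Finset.sum_sdiff (f := m) (Finset.singleton_subset_iff.mpr (Finset.mem_univ i))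
        rw [Finset.sum_singleton] at e2
        omega
      have hk'' : P.root k' = ∑ j, (Function.update m i (m i - 1)) j • P.root (a j) := by
        rw [hk', hk, hupd (fun j => P.root (a j))]
        abel
      obtain ⟨l, b, hl, hpart, htot⟩ := ih _ hsum' k' hk''
      have htotal : P.root k = ∑ q : Fin (l + 1), P.root (a ((Fin.snoc b i : Fin (l + 1) → Fin n) q)) := by
        rw [Fin.sum_univ_castSucc]
        simp only [Fin.snoc_castSucc, Fin.snoc_last]
        rw [← htot, hk']
        abel
      refine ⟨l + 1, Fin.snoc b i, Nat.succ_pos l, ?_, htotal⟩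
      intro p
      induction p using Fin.lastCases with
      | last =>
        refine ⟨k, ?_⟩
        have : Finset.univ.filter (fun q : Fin (l + 1) => q.val ≤ (Fin.last l).val) = Finset.univ := by
          ext q
          simp only [Finset.mem_filter, Finset.mem_univ, true_and, iff_true, Fin.val_last]
          omega
        rw [this]
        exact htotal
      | cast p =>
        obtain ⟨j, hj⟩ := hpart p
        refine ⟨j, ?_⟩
        rw [hj, Finset.sum_filter, Finset.sum_filter, Fin.sum_univ_castSucc]
        simp only [Fin.snoc_castSucc, Fin.snoc_last, Fin.val_castSucc, Fin.val_last]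
        have : ¬ (l ≤ p.val) := by omega
        rw [if_neg this, add_zero]

/-- If a root is a positive integer combination of roots α_i, then it can be reached from 0 by
successively adding roots taken among the α_i in such a way that every partial sum is a root. -/
theorem result {ι M N : Type*} [AddCommGroup M] [AddCommGroup N]
    (P : RootPairing ι ℤ M N) [Finite ι] {n : ℕ} (a : Fin n → ι) (m : Fin n → ℕ)
    (hm : ∀ i, 0 < m i) (k : ι) (hk : P.root k = ∑ i, m i • P.root (a i)) :
    ∃ (l : ℕ) (b : Fin l → Fin n), 0 < l ∧
      (∀ p : Fin l, ∃ j : ι, P.root j = ∑ q ∈ Finset.univ.filter (fun q : Fin l => q.val ≤ p.val), P.root (a (b q))) ∧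
      P.root k = ∑ q, P.root (a (b q)) :=
  chain P a _ m rfl k hk

end Groth.Agent.S5451
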