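import Groth.Statements.S5468
import Mathlib.LinearAlgebra.RootSystem.Reduced
import Mathlib.Tactic

set_option autoImplicit false
open RootD

namespace Groth.Agent.S5468

/-- Two roots whose reflections are distinct and commute are orthogonal. -/
theorem result {ι M N : Type*} [AddCommGroup M] [AddCommGroup N]
    (P : RootPairing ι ℤ M N) [Finite ι] (i j : ι)
    (hne : P.reflection i ≠ P.reflection j) (hc : Commute (P.reflection i) (P.reflection j)) :
    P.IsOrthogonal i j := by
  have : Module.IsReflexive ℤ M := .of_isPerfPair P.toLinearMap
  have : Module.IsReflexive ℤ N := .of_isPerfPair P.flip.toLinearMap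
  have : IsAddTorsionFree M := .of_isTorsionFree ℤ M
  have : IsAddTorsionFree N := .of_isTorsionFree ℤ N
  by_cases ha : P.pairing i j = 0
  · exact ⟨ha, P.pairing_eq_zero_iff'.mp ha⟩
  exfalso
  set a := P.pairing i j with hadef
  set b := P.pairing j i with hbdef
  -- evaluate the commutation relation at the root `i`
  have h1 : (P.reflection i * P.reflection j) (P.root i) = (P.reflection j * P.reflection i) (P.root i) := by
    rw [hc.eq]
  simp only [LinearEquiv.mul_apply, P.reflection_apply_self, map_neg, P.reflection_apply_root,
    map_sub, map_zsmul] at h1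
  have h2 : a • (b • P.root i) = a • ((2 : ℤ) • P.root j) := by
    have key : a • (b • P.root i) - a • ((2 : ℤ) • P.root j) =
        (-P.root i - P.pairing i j • (P.root j - P.pairing j i • P.root i)) -
          (-(P.root i - P.pairing i j • P.root j)) := by
      rw [hadef, hbdef]
      module
    rw [h1, sub_self] at key
    exact sub_eq_zero.mp key
  have h3 : b • P.root i = (2 : ℤ) • P.root j := smul_right_injective M ha h2
  -- the two roots are linearly dependent
  have hnli : ¬ LinearIndependent ℤ ![P.root i, P.root j] := by
    rw [LinearIndependent.pair_iff]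
    push Not
    refine ⟨b, -2, ?_, fun _ => by norm_num⟩
    rw [h3]
    module
  have hcw : P.coxeterWeight i j = 4 := (P.coxeterWeight_eq_four_iff_not_linearIndependent).mpr hnli
  have hnli' : ¬ LinearIndependent ℤ ![P.flip.root i, P.flip.root j] := by
    rw [← P.flip.coxeterWeight_eq_four_iff_not_linearIndependent, P.coxeterWeight_flip, hcw]
  have h4 := P.flip.pairing_smul_root_eq_of_not_linearIndependent hnli'
  -- `h4 : a • coroot i = 2 • coroot j`
  have h4' : a • P.coroot i = (2 : ℤ) • P.coroot j := by
    simpa using h4
  have hab : a * b = 4 := hcw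
  apply hne
  ext x
  apply smul_right_injective M (two_ne_zero (α := ℤ))
  simp only [P.reflection_apply, smul_sub]
  congr 1
  -- 2 • (coroot' i x • root i) = 2 • (coroot' j x • root j)
  have e1 : (2 : ℤ) * P.coroot' j x = a * P.coroot' i x := by
    have := congrArg (fun n => P.toLinearMap x n) h4'
    simp only [map_zsmul] at this
    simpa [RootPairing.coroot', mul_comm] using this.symm
  have e2 : b * P.coroot' j x = 2 * P.coroot' i x := by
    have : (2 : ℤ) * (b * P.coroot' j x) = 2 * (2 * P.coroot' i x) := by
      calc (2 : ℤ) * (b * P.coroot' j x) = b * (2 * P.coroot' j x) := by ring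
        _ = b * (a * P.coroot' i x) := by rw [e1]
        _ = (a * b) * P.coroot' i x := by ring
        _ = 2 * (2 * P.coroot' i x) := by rw [hab]; ring
    exact mul_left_cancel₀ (two_ne_zero (α := ℤ)) this
  calc (2 : ℤ) • (P.coroot' i x • P.root i) = (2 * P.coroot' i x) • P.root i := by rw [mul_smul]
    _ = (b * P.coroot' j x) • P.root i := by rw [e2]
    _ = P.coroot' j x • (b • P.root i) := by rw [mul_comm, mul_smul]
    _ = P.coroot' j x • ((2 : ℤ) • P.root j) := by rw [h3]
    _ = (2 : ℤ) • (P.coroot' j x • P.root j) := by rw [smul_comm]

end Groth.Agent.S5468
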