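import Groth.Statements.S5469
import Mathlib.LinearAlgebra.RootSystem.Finite.Lemmas
import Mathlib.LinearAlgebra.RootSystem.WeylGroup

set_option autoImplicit false
open RootD

namespace Groth.Agent.S5469

/-- Two non-orthogonal roots of equal length (for the canonical form ℓ(x) = Σ_{u ∈ R^v} (u, x)²) are
conjugate under the Weyl group. -/
theorem result {ι M N : Type*} [AddCommGroup M] [AddCommGroup N]
    (P : RootPairing ι ℤ M N) [Finite ι] [Fintype ι] (i j : ι) (hno : ¬ P.IsOrthogonal i j)
    (hl : P.RootForm (P.root i) (P.root i) = P.RootForm (P.root j) (P.root j)) :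
    ∃ g : P.Aut, g ∈ P.weylGroup ∧ g • i = j := by
  classical
  have : Module.IsReflexive ℤ M := .of_isPerfPair P.toLinearMap
  have : IsAddTorsionFree M := .of_isTorsionFree ℤ M
  let B : P.InvariantForm := (P.posRootForm ℤ).toInvariantForm
  have hB : B.form = P.RootForm := rfl
  have hlen : B.form (P.root i) (P.root i) = B.form (P.root j) (P.root j) := by
    rw [hB]; exact hl
  have hmem := P.pairingIn_pairingIn_mem_set_of_length_eq hlen
  have hpi : P.pairingIn ℤ i j = P.pairing i j := by
    simpa using P.algebraMap_pairingIn ℤ i j
  have hpj : P.pairingIn ℤ j i = P.pairing j i := by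
    simpa using P.algebraMap_pairingIn ℤ j i
  rw [hpi, hpj] at hmem
  simp only [Set.mem_insert_iff, Set.mem_singleton_iff, Prod.mk.injEq] at hmem
  -- the action on indices corresponds to the action on roots
  have key : ∀ g : P.Aut, g • P.root i = P.root j → g • i = j := by
    intro g hg
    apply P.root.injective
    have : P.root (g.indexEquiv i) = g • P.root i := RootPairing.Equiv.root_indexEquiv_eq_smul P i g
    rw [← hg, ← this]
    rfl
  rcases hmem with h | h | h | h | h
  · exact absurd ⟨h.1, h.2⟩ hno
  · -- pairings are both `1`
    refine ⟨RootPairing.Equiv.reflection P j * RootPairing.Equiv.reflection P i *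
      RootPairing.Equiv.reflection P j, ?_, ?_⟩
    · exact mul_mem (mul_mem (P.reflection_mem_weylGroup j) (P.reflection_mem_weylGroup i))
        (P.reflection_mem_weylGroup j)
    · apply key
      rw [mul_smul, mul_smul]
      simp only [RootPairing.Equiv.reflection_smul]
      simp only [RootPairing.reflection_apply, map_sub, map_smul, P.root_coroot'_eq_pairing,
        h.1, h.2, P.pairing_same]
      module
  · -- pairings are both `-1`
    refine ⟨RootPairing.Equiv.reflection P i * RootPairing.Equiv.reflection P j, ?_, ?_⟩
    · exact mul_mem (P.reflection_mem_weylGroup i) (P.reflection_mem_weylGroup j)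
    · apply key
      rw [mul_smul]
      simp only [RootPairing.Equiv.reflection_smul]
      simp only [RootPairing.reflection_apply, map_sub, map_smul, P.root_coroot'_eq_pairing,
        h.1, h.2, P.pairing_same]
      module
  · -- pairings are both `2`
    have hij : i = j := (P.pairing_two_two_iff i j).mp ⟨h.1, h.2⟩
    exact ⟨1, one_mem _, by rw [one_smul]; exact hij⟩
  · -- pairings are both `-2`
    have hij : P.root i = -P.root j := (P.pairing_neg_two_neg_two_iff i j).mp ⟨h.1, h.2⟩
    refine ⟨RootPairing.Equiv.reflection P i, P.reflection_mem_weylGroup i, ?_⟩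
    apply key
    simp only [RootPairing.Equiv.reflection_smul, RootPairing.reflection_apply_self]
    rw [hij, neg_neg]

end Groth.Agent.S5469
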