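import Groth.Statements.S5473
import Mathlib.LinearAlgebra.RootSystem.Finite.Lemmas

set_option autoImplicit false
open RootD

namespace Groth.Agent.S5473

/-- If a linear map f and its transpose g induce bijections from the roots of R' onto the roots of R and
from the coroots of R onto the coroots of R' respectively (a morphism of root data in the
two-bijection sense), then the two bijections correspond: the coroot of α' is g applied to the
coroot of f(α'). -/
theorem result {ι M N ι' M' N' : Type*} [AddCommGroup M] [AddCommGroup N] [AddCommGroup M'] [AddCommGroup N']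
    (P : RootPairing ι ℤ M N) (P' : RootPairing ι' ℤ M' N') [Finite ι] [Finite ι']
    (f : M' →ₗ[ℤ] M) (g : N →ₗ[ℤ] N') (hfg : ∀ (m' : M') (n : N), P.toLinearMap (f m') n = P'.toLinearMap m' (g n))
    (e : ι' ≃ ι) (he : ∀ i' : ι', f (P'.root i') = P.root (e i'))
    (e' : ι ≃ ι') (he' : ∀ i : ι, g (P.coroot i) = P'.coroot (e' i)) :
    ∀ i' : ι', g (P.coroot (e i')) = P'.coroot i' := by
  classical
  have : Fintype ι' := Fintype.ofFinite ι'
  set σ : ι' ≃ ι' := e.trans e' with hσ
  -- the pairing of `i'` with `σ i'` is `2`
  have hpair : ∀ i' : ι', P'.pairing i' (σ i') = 2 := by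
    intro i'
    have h1 : P'.pairing i' (σ i') = P'.toLinearMap (P'.root i') (P'.coroot (e' (e i'))) := rfl
    rw [h1, ← he', ← hfg, he]
    exact P.root_coroot_two (e i')
  have hpairIn : ∀ i' : ι', P'.pairingIn ℤ i' (σ i') = 2 := by
    intro i'
    have := P'.algebraMap_pairingIn ℤ i' (σ i')
    simpa [hpair i'] using this
  set B := P'.posRootForm ℤ with hB
  have hlt : ∀ i' : ι', σ i' ≠ i' → B.rootLength (σ i') < B.rootLength i' := by
    intro i' hne
    apply B.rootLength_lt_of_pairingIn_notMem
    · intro h
      exact hne (P'.root.injective h).symm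
    · intro h
      have h2 := hpair i'
      have h3 : P'.pairing i' (σ i') = P'.toLinearMap (P'.root i') (P'.coroot (σ i')) := rfl
      rw [h3, h, map_neg, LinearMap.neg_apply, P'.root_coroot_two] at h2
      norm_num at h2
    · rw [hpairIn i']
      simp
  have hle : ∀ i' : ι', B.rootLength (σ i') ≤ B.rootLength i' := by
    intro i'
    by_cases h : σ i' = i'
    · rw [h]
    · exact (hlt i' h).le
  have hfix : ∀ i' : ι', σ i' = i' := by
    by_contra hcon
    push Not at hcon
    obtain ⟨j, hj⟩ := hcon
    have hsum : ∑ i', B.rootLength (σ i') < ∑ i', B.rootLength i' :=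
      Finset.sum_lt_sum (fun i' _ => hle i') ⟨j, Finset.mem_univ j, hlt j hj⟩
    rw [Equiv.sum_comp σ (fun i' => B.rootLength i')] at hsum
    exact lt_irrefl _ hsum
  intro i'
  rw [he']
  exact congrArg P'.coroot (hfix i')

end Groth.Agent.S5473
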