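import Groth.Statements.S5476
import Mathlib.LinearAlgebra.RootSystem.Finite.Nondegenerate

set_option autoImplicit false
open RootD

namespace Groth.Agent.S5476

open Module in
/-- The weights killed by all coroots form the kernel of the canonical bilinear form. -/
lemma iInf_ker_coroot'_eq {ι M N : Type*} [AddCommGroup M] [AddCommGroup N]
    (P : RootPairing ι ℤ M N) [Fintype ι] :
    (⨅ i : ι, LinearMap.ker (P.coroot' i) : Submodule ℤ M) = LinearMap.ker P.RootForm := by
  ext x
  simp only [Submodule.mem_iInf, LinearMap.mem_ker]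
  constructor
  · intro h
    ext y
    simp [P.rootForm_apply_apply, h]
  · intro h i
    have h0 : P.RootForm x x = 0 := by rw [h]; rfl
    rw [P.rootForm_apply_apply] at h0
    have := (Finset.sum_eq_zero_iff_of_nonneg (fun j _ => mul_self_nonneg (P.coroot' j x))).mp h0 i
      (Finset.mem_univ i)
    exact mul_self_eq_zero.mp this

open Module in
/-- Rank of the lattice killed by all coroots plus the rank of the root lattice is the rank of the
weight lattice. -/
lemma finrank_iInf_ker_add {ι M N : Type*} [AddCommGroup M] [AddCommGroup N]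
    (P : RootPairing ι ℤ M N) [Fintype ι] [Module.Finite ℤ M] [Module.Finite ℤ N] :
    finrank ℤ (⨅ i : ι, LinearMap.ker (P.coroot' i) : Submodule ℤ M) +
      finrank ℤ (P.rootSpan ℤ) = finrank ℤ M := by
  rw [iInf_ker_coroot'_eq]
  set K := LinearMap.ker P.RootForm with hK
  have hdisj : Disjoint (P.rootSpan ℤ) K := P.disjoint_rootSpan_ker_rootForm
  -- the root lattice embeds in the quotient
  have h1 : finrank ℤ (P.rootSpan ℤ) ≤ finrank ℤ (M ⧸ K) := by
    apply LinearMap.finrank_le_finrank_of_injective (f := K.mkQ ∘ₗ (P.rootSpan ℤ).subtype)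
    rw [← LinearMap.ker_eq_bot, LinearMap.ker_comp, Submodule.ker_mkQ]
    exact Submodule.disjoint_iff_comap_eq_bot.mp hdisj
  -- the quotient embeds in the coroot lattice
  have h2 : finrank ℤ (M ⧸ K) ≤ finrank ℤ (P.corootSpan ℤ) := by
    have hker : LinearMap.ker P.Polarization = K := P.ker_polarization_eq_ker_rootForm
    have hrange : LinearMap.range P.Polarization ≤ P.corootSpan ℤ := by
      rintro _ ⟨x, rfl⟩
      rw [P.Polarization_apply]
      exact Submodule.sum_mem _ fun i _ =>
        Submodule.smul_mem _ _ (Submodule.subset_span ⟨i, rfl⟩)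
    have e : (M ⧸ LinearMap.ker P.Polarization) ≃ₗ[ℤ] LinearMap.range P.Polarization :=
      P.Polarization.quotKerEquivRange
    rw [← hker, e.finrank_eq]
    exact Submodule.finrank_mono hrange
  have h3 : finrank ℤ (P.corootSpan ℤ) = finrank ℤ (P.rootSpan ℤ) := P.finrank_corootSpan_eq'
  have h4 := K.finrank_quotient_add_finrank
  omega

open Module in
/-- If the rank of the lattice killed by all coroots is zero, the lattice is zero. -/
lemma eq_bot_iff_finrank {M : Type*} [AddCommGroup M] [Module.Finite ℤ M]
    [Module.IsTorsionFree ℤ M] (K : Submodule ℤ M) : K = ⊥ ↔ finrank ℤ K = 0 := by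
  constructor
  · rintro rfl; simp
  · intro h
    exact Submodule.finrank_eq_zero.mp h

/-- The lattice of the coradical (weights killed by every coroot) and the lattice of the radical
(coweights killed by every root) both have rank rgred - rgss, the rank of the weight lattice minus
the rank of the lattice generated by the roots; and the datum is semisimple (the roots span a
sublattice of full rank) if and only if the coradical lattice vanishes, if and only if the radical
lattice vanishes. -/
theorem result {ι M N : Type*} [AddCommGroup M] [AddCommGroup N]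
    (P : RootPairing ι ℤ M N) [Finite ι] [Module.Finite ℤ M] [Module.Finite ℤ N] :
    (Module.finrank ℤ (⨅ i : ι, LinearMap.ker (P.coroot' i) : Submodule ℤ M) +
        Module.finrank ℤ (Submodule.span ℤ (Set.range P.root)) = Module.finrank ℤ M) ∧
      (Module.finrank ℤ (⨅ i : ι, LinearMap.ker (P.root' i) : Submodule ℤ N) +
        Module.finrank ℤ (Submodule.span ℤ (Set.range P.root)) = Module.finrank ℤ M) ∧
      (Module.finrank ℤ (Submodule.span ℤ (Set.range P.root)) = Module.finrank ℤ M ↔
        (⨅ i : ι, LinearMap.ker (P.coroot' i) : Submodule ℤ M) = ⊥) ∧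
      (Module.finrank ℤ (Submodule.span ℤ (Set.range P.root)) = Module.finrank ℤ M ↔
        (⨅ i : ι, LinearMap.ker (P.root' i) : Submodule ℤ N) = ⊥) := by
  classical
  have : Fintype ι := Fintype.ofFinite ι
  have : Module.IsReflexive ℤ M := .of_isPerfPair P.toLinearMap
  have : Module.IsReflexive ℤ N := .of_isPerfPair P.flip.toLinearMap
  have hA : Module.finrank ℤ (⨅ i : ι, LinearMap.ker (P.coroot' i) : Submodule ℤ M) +
      Module.finrank ℤ (Submodule.span ℤ (Set.range P.root)) = Module.finrank ℤ M :=
    finrank_iInf_ker_add P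
  have hB0 : Module.finrank ℤ (⨅ i : ι, LinearMap.ker (P.root' i) : Submodule ℤ N) +
      Module.finrank ℤ (P.corootSpan ℤ) = Module.finrank ℤ N :=
    finrank_iInf_ker_add P.flip
  have hMN : Module.finrank ℤ M = Module.finrank ℤ N := Module.finrank_of_isPerfPair P.toLinearMap
  have hcr : Module.finrank ℤ (P.corootSpan ℤ) = Module.finrank ℤ (P.rootSpan ℤ) :=
    P.finrank_corootSpan_eq'
  have hB : Module.finrank ℤ (⨅ i : ι, LinearMap.ker (P.root' i) : Submodule ℤ N) +
      Module.finrank ℤ (Submodule.span ℤ (Set.range P.root)) = Module.finrank ℤ M := by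
    have : Module.finrank ℤ (Submodule.span ℤ (Set.range P.root)) =
      Module.finrank ℤ (P.rootSpan ℤ) := rfl
    omega
  refine ⟨hA, hB, ?_, ?_⟩
  · rw [eq_bot_iff_finrank]
    omega
  · rw [eq_bot_iff_finrank]
    omega

end Groth.Agent.S5476
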