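import Groth.Statements.S5474
import Groth.Agent.S5476
import Mathlib.GroupTheory.FiniteAbelian.Basic
import Mathlib.LinearAlgebra.Dimension.Torsion.Finite
import Mathlib.LinearAlgebra.RootSystem.Hom

set_option autoImplicit false
open RootD

namespace Groth.Agent.S5474

/-- Every morphism between semisimple root data is an isogeny (injective on weight lattices with finite
cokernel). -/
theorem result {ι M N ι' M' N' : Type*} [AddCommGroup M] [AddCommGroup N] [AddCommGroup M'] [AddCommGroup N']
    (P : RootPairing ι ℤ M N) (P' : RootPairing ι' ℤ M' N') [Finite ι] [Finite ι']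
    [Module.Finite ℤ M] [Module.Finite ℤ N] [Module.Finite ℤ M'] [Module.Finite ℤ N']
    (hss : Module.finrank ℤ (Submodule.span ℤ (Set.range P.root)) = Module.finrank ℤ M)
    (hss' : Module.finrank ℤ (Submodule.span ℤ (Set.range P'.root)) = Module.finrank ℤ M')
    (f : RootPairing.Hom P' P) :
    Function.Injective f.weightMap ∧ Finite (M ⧸ LinearMap.range f.weightMap) := by
  classical
  constructor
  · -- injectivity
    rw [← LinearMap.ker_eq_bot, eq_bot_iff]
    intro x hx
    rw [LinearMap.mem_ker] at hx
    have hK : (⨅ i : ι', LinearMap.ker (P'.coroot' i) : Submodule ℤ M') = ⊥ :=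
      (Groth.Agent.S5476.result P').2.2.1.mp hss'
    rw [← hK, Submodule.mem_iInf]
    intro i'
    rw [LinearMap.mem_ker]
    have h1 : f.coweightMap (P.coroot (f.indexEquiv i')) = P'.coroot i' := by
      rw [RootPairing.Hom.coroot_coweightMap_apply P' P (f.indexEquiv i') f]
      simp
    have h2 := LinearMap.congr_fun
      (RootPairing.Hom.weight_coweight_transpose_apply P' P (P.coroot (f.indexEquiv i')) f) x
    have h3 : P.toLinearMap (f.weightMap x) (P.coroot (f.indexEquiv i')) =
        P'.toLinearMap x (f.coweightMap (P.coroot (f.indexEquiv i'))) := h2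
    rw [hx, h1] at h3
    change P'.toLinearMap x (P'.coroot i') = 0
    rw [← h3]
    simp
  · -- finiteness of the cokernel
    set R := LinearMap.range f.weightMap with hR
    have hle : Submodule.span ℤ (Set.range P.root) ≤ R := by
      rw [Submodule.span_le]
      rintro _ ⟨i, rfl⟩
      refine ⟨P'.root (f.indexEquiv.symm i), ?_⟩
      rw [RootPairing.Hom.root_weightMap_apply P' P (f.indexEquiv.symm i) f]
      simp
    have h1 : Module.finrank ℤ (Submodule.span ℤ (Set.range P.root)) ≤ Module.finrank ℤ R :=
      Submodule.finrank_mono hle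
    have h2 : Module.finrank ℤ R ≤ Module.finrank ℤ M := Submodule.finrank_le R
    have h3 := R.finrank_quotient_add_finrank
    have h4 : Module.finrank ℤ (M ⧸ R) = 0 := by omega
    have h5 : Module.IsTorsion ℤ (M ⧸ R) := Module.finrank_eq_zero_iff_isTorsion.mp h4
    exact Module.finite_of_fg_torsion _ h5

end Groth.Agent.S5474
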