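import Groth.Statements.S5477
import Mathlib.LinearAlgebra.RootSystem.Finite.Nondegenerate

set_option autoImplicit false
open RootPairing
open scoped Pointwise
open RootD

namespace Groth.Agent.S5477

/-- An automorphism fixing all root indices which acts trivially on the radical acts trivially on
the weight space. -/
theorem smul_eq_self {ι M N : Type*} [AddCommGroup M] [AddCommGroup N]
    (P : RootPairing ι ℤ M N) [Finite ι] (u : P.Aut)
    (hfix : ∀ i : ι, u • i = i) (m : M) (n : ℕ) (hn : 0 < n)
    (hm : n • (u • m - m) ∈ Submodule.span ℤ (Set.range P.root)) : u • m = m := by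
  classical
  have : Fintype ι := Fintype.ofFinite ι
  have hM : IsAddTorsionFree M := by
    have : Module.IsReflexive ℤ M := Module.IsReflexive.of_isPerfPair P.toLinearMap
    exact IsAddTorsionFree.of_isTorsionFree ℤ M
  -- coweight map fixes coroots
  have hco : ∀ i, u.coweightMap (P.coroot i) = P.coroot i := by
    intro i
    have h1 := congrFun u.coroot_coweightMap i
    have h2 : u.indexEquiv i = i := hfix i
    have h3 : u.indexEquiv.symm i = i := by
      rw [Equiv.symm_apply_eq, h2]
    simpa [h3] using h1
  have horth : ∀ i, P.toLinearMap (u • m - m) (P.coroot i) = 0 := by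
    intro i
    have h1 : P.toLinearMap (u • m) (P.coroot i) = P.toLinearMap m (u.coweightMap (P.coroot i)) := by
      have := congrFun (congrArg DFunLike.coe (congrFun (congrArg DFunLike.coe u.weight_coweight_transpose) (P.coroot i))) m
      have h' : u • m = u.weightMap m := rfl
      rw [h']
      simpa using this
    rw [map_sub, LinearMap.sub_apply, h1, hco, sub_self]
  have hform : P.RootForm (n • (u • m - m)) (n • (u • m - m)) = 0 := by
    rw [P.rootForm_apply_apply]
    apply Finset.sum_eq_zero
    intro i _
    have : P.coroot' i (n • (u • m - m)) = 0 := by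
      rw [map_nsmul]
      change n • P.toLinearMap (u • m - m) (P.coroot i) = 0
      rw [horth, smul_zero]
    rw [this, zero_mul]
  have h0 := P.eq_zero_of_mem_rootSpan_of_rootForm_self_eq_zero hm hform
  have h1 : u • m - m = 0 := by
    have : n • (u • m - m) = n • (0 : M) := by rw [h0, smul_zero]
    exact nsmul_right_injective hn.ne' this
  exact sub_eq_zero.1 h1

/-- An automorphism of a root datum acting trivially on the radical (u(m) - m in the rational span of
the roots for all m) is determined by its action on the roots: if it fixes every root it is the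
identity. -/
theorem result {ι M N : Type*} [AddCommGroup M] [AddCommGroup N]
    (P : RootPairing ι ℤ M N) [Finite ι] (u : P.Aut)
    (hs : ∀ m : M, ∃ n : ℕ, 0 < n ∧ n • (u • m - m) ∈ Submodule.span ℤ (Set.range P.root))
    (hfix : ∀ i : ι, u • i = i) : u = 1 := by
  apply Equiv.weightHom_injective P
  ext m
  obtain ⟨n, hn, hm⟩ := hs m
  exact smul_eq_self P u hfix m n hn hm

end Groth.Agent.S5477
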