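import Groth.Statements.S5478
import Groth.Agent.S5477

set_option autoImplicit false
open RootPairing
open scoped Pointwise
open RootD

namespace Groth.Agent.S5478

theorem smul_mem_span {ι M N : Type*} [AddCommGroup M] [AddCommGroup N]
    (P : RootPairing ι ℤ M N) (v : P.Aut) (x : M)
    (hx : x ∈ Submodule.span ℤ (Set.range P.root)) :
    v • x ∈ Submodule.span ℤ (Set.range P.root) := by
  induction hx using Submodule.span_induction with
  | mem y hy =>
    obtain ⟨i, rfl⟩ := hy
    rw [← Equiv.root_indexEquiv_eq_smul]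
    exact Submodule.subset_span ⟨_, rfl⟩
  | zero => simp
  | add y z _ _ hy hz => rw [smul_add]; exact add_mem hy hz
  | smul a y _ hy => rw [smul_comm]; exact Submodule.smul_mem _ _ hy

/-- The group of automorphisms of a root datum that act trivially on the radical is finite. -/
theorem result {ι M N : Type*} [AddCommGroup M] [AddCommGroup N]
    (P : RootPairing ι ℤ M N) [Finite ι] :
    Set.Finite {u : P.Aut | ∀ m : M, ∃ n : ℕ, 0 < n ∧ n • (u • m - m) ∈ Submodule.span ℤ (Set.range P.root)} := by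
  apply Set.Finite.of_injOn (f := fun u : P.Aut => Equiv.indexHom P u) (t := Set.univ)
    (fun _ _ => Set.mem_univ _) ?_ Set.finite_univ
  intro u hu v hv huv
  simp only [Set.mem_ofPred_eq] at hu hv
  have huv' : ∀ i : ι, u • i = v • i := fun i => congrFun (congrArg DFunLike.coe huv) i
  apply Equiv.weightHom_injective P
  ext m
  change u • m = v • m
  obtain ⟨n₁, hn₁, h₁⟩ := hu m
  obtain ⟨n₂, hn₂, h₂⟩ := hv m
  have hfix : ∀ i : ι, (v⁻¹ * u) • i = i := by
    intro i
    rw [mul_smul, huv' i, inv_smul_smul]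
  have hmem : (n₁ * n₂) • ((v⁻¹ * u) • m - m) ∈ Submodule.span ℤ (Set.range P.root) := by
    have e1 : (v⁻¹ * u) • m - m = v⁻¹ • (u • m - v • m) := by
      rw [smul_sub, inv_smul_smul, mul_smul]
    have e2 : (n₁ * n₂) • (u • m - v • m) =
        n₂ • (n₁ • (u • m - m)) - n₁ • (n₂ • (v • m - m)) := by
      simp only [smul_sub, ← mul_smul, mul_comm n₂ n₁]
      abel
    have e : (n₁ * n₂) • ((v⁻¹ * u) • m - m) =
        v⁻¹ • (n₂ • (n₁ • (u • m - m)) - n₁ • (n₂ • (v • m - m))) := by
      rw [e1, ← e2, smul_comm]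
    rw [e]
    exact smul_mem_span P _ _ (sub_mem (Submodule.smul_of_tower_mem _ _ h₁)
      (Submodule.smul_of_tower_mem _ _ h₂))
  have := Groth.Agent.S5477.smul_eq_self P (v⁻¹ * u) hfix m (n₁ * n₂) (Nat.mul_pos hn₁ hn₂) hmem
  rw [mul_smul, inv_smul_eq_iff] at this
  exact this

end Groth.Agent.S5478
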