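import Groth.Statements.S5479
import Groth.Agent.Lib.RootDWord

set_option autoImplicit false
open RootPairing
open scoped Pointwise
open RootD

namespace Groth.Agent.S5479

/-- Aut(R) is the semidirect product of the Weyl group by the stabiliser E_Δ of a system of simple
roots: every automorphism is uniquely w · e with w ∈ W and e(Δ) = Δ. -/
theorem result {ι M N : Type*} [AddCommGroup M] [AddCommGroup N]
    (P : RootPairing ι ℤ M N) [Finite ι] (Δ : Set ι) (hΔ : RootD.IsSimpleSys P Δ) (u : P.Aut) :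
    ∃! w : P.weylGroup, (fun i : ι => ((w : P.Aut)⁻¹ * u) • i) '' Δ = Δ := by
  have hu : RootD.IsSimpleSys P ((fun i : ι => u • i) '' Δ) :=
    Groth.Agent.Lib.RootDWeyl.isSimpleSys_image P u hΔ
  obtain ⟨g, hg, hgΔ⟩ := Groth.Agent.Lib.RootDWeyl.exists_weyl_image_simple_eq P hΔ hu
  refine ⟨⟨g, hg⟩, ?_, ?_⟩
  · show (fun i : ι => (g⁻¹ * u) • i) '' Δ = Δ
    rw [Groth.Agent.Lib.RootDWeyl.mul_image, ← hgΔ, Groth.Agent.Lib.RootDWeyl.inv_image_image]
  · rintro ⟨w, hw⟩ hwΔ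
    change (fun i : ι => (w⁻¹ * u) • i) '' Δ = Δ at hwΔ
    rw [Groth.Agent.Lib.RootDWeyl.mul_image, ← hgΔ, ← Groth.Agent.Lib.RootDWeyl.mul_image] at hwΔ
    have h1 : w⁻¹ * g = 1 :=
      Groth.Agent.Lib.RootDWord.eq_one_of_image_eq P hΔ _
        (Subgroup.mul_mem _ (Subgroup.inv_mem _ hw) hg) hwΔ
    apply Subtype.ext
    show w = g
    rw [inv_mul_eq_one] at h1
    exact h1

end Groth.Agent.S5479
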