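import Groth.Statements.S5480
import Groth.Agent.S5452
import Groth.Agent.Lib.RootDSimple

set_option autoImplicit false
open RootD

namespace Groth.Agent.S5480

/-- part (a) -/
theorem partA {ι M N ι' M' N' : Type*} [AddCommGroup M] [AddCommGroup N] [AddCommGroup M'] [AddCommGroup N']
    (P : RootPairing ι ℤ M N) (P' : RootPairing ι' ℤ M' N') [Finite ι] [Finite ι'] [P.IsReduced]
    (p : ℕ) (hp : 0 < p) (f : M' →ₗ[ℤ] M) (g : N →ₗ[ℤ] N')
    (hfg : ∀ (m' : M') (n : N), P.toLinearMap (f m') n = P'.toLinearMap m' (g n))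
    (u : ι ≃ ι') (q : ι → ℕ) (hq : ∀ i, ∃ e : ℕ, q i = p ^ e)
    (hroot : ∀ i : ι, f (P'.root (u i)) = (q i : ℤ) • P.root i)
    (hcoroot : ∀ i : ι, g (P.coroot i) = (q i : ℤ) • P'.coroot (u i)) (i j : ι) :
    q (P.reflectionPerm i j) = q j ∧ u (P.reflectionPerm i j) = P'.reflectionPerm (u i) (u j) := by
  have hqpos : ∀ i, 0 < q i := by
    intro i; obtain ⟨e, he⟩ := hq i; rw [he]; exact pow_pos hp e
  have hpair : (q i : ℤ) * P'.pairing (u j) (u i) = (q j : ℤ) * P.pairing j i := by
    have h1 := hfg (P'.root (u j)) (P.coroot i)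
    rw [hroot, hcoroot, map_smul, LinearMap.smul_apply, map_smul, P.root_coroot_eq_pairing,
      P'.root_coroot_eq_pairing] at h1
    simpa [smul_eq_mul] using h1.symm
  set k := u.symm (P'.reflectionPerm (u i) (u j)) with hk
  have huk : u k = P'.reflectionPerm (u i) (u j) := by simp [hk]
  set l := P.reflectionPerm i j with hl
  have hkey : (q k : ℤ) • P.root k = (q j : ℤ) • P.root l := by
    rw [← hroot k, huk, Groth.Agent.Lib.RootDSimple.root_reflectionPerm', map_sub, map_smul, hroot,
      hroot, hl, Groth.Agent.Lib.RootDSimple.root_reflectionPerm', smul_sub, smul_smul, smul_smul,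
      mul_comm (P'.pairing (u j) (u i)), hpair]
  -- apply coroot l
  have h2 : (q k : ℤ) * P.pairing k l = (q j : ℤ) * 2 := by
    have := congrArg (fun x => P.toLinearMap x (P.coroot l)) hkey
    simpa [map_zsmul] using this
  have hnli : ¬ LinearIndependent ℤ ![P.root k, P.root l] := by
    intro hli
    have := LinearIndependent.pair_iff.mp hli (q k) (-(q j : ℤ)) (by rw [neg_smul, hkey]; abel)
    have := hqpos k
    omega
  have hkl : k = l := by
    rcases RootPairing.IsReduced.eq_or_eq_neg (P := P) k l hnli with h | h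
    · exact P.root.injective h
    · exfalso
      have h3 : P.pairing k l = -2 := by
        rw [← P.root_coroot_eq_pairing, h, map_neg, LinearMap.neg_apply, P.root_coroot_eq_pairing,
          P.pairing_same]
      rw [h3] at h2
      have := hqpos k
      have := hqpos j
      omega
  have hqk : q k = q j := by
    have h3 : P.pairing k l = 2 := by rw [hkl]; exact P.pairing_same l
    rw [h3] at h2
    omega
  refine ⟨by rw [← hkl]; exact hqk, by rw [← hkl]; exact huk⟩

/-- For a p-morphism of reduced root data with root bijection u and radicial exponents q: (a) for all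
roots α, β one has q(s_α(β)) = q(β) and u(s_α(β)) = s_{u(α)}(u(β)); (b) the exponents are invariant
under the Weyl group, q(w(α)) = q(α); (c) there is an isomorphism ū from the Weyl group of the first
datum to that of the second with ū(s_α) = s_{u(α)} and u(w(α)) = ū(w)(u(α)) for every Weyl group
element w and every root α. -/
theorem result {ι M N ι' M' N' : Type*} [AddCommGroup M] [AddCommGroup N] [AddCommGroup M'] [AddCommGroup N']
    (P : RootPairing ι ℤ M N) (P' : RootPairing ι' ℤ M' N') [Finite ι] [Finite ι'] [P.IsReduced] [P'.IsReduced]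
    (p : ℕ) (hp : 0 < p) (f : M' →ₗ[ℤ] M) (g : N →ₗ[ℤ] N')
    (hfg : ∀ (m' : M') (n : N), P.toLinearMap (f m') n = P'.toLinearMap m' (g n))
    (u : ι ≃ ι') (q : ι → ℕ) (hq : ∀ i, ∃ e : ℕ, q i = p ^ e)
    (hroot : ∀ i : ι, f (P'.root (u i)) = (q i : ℤ) • P.root i)
    (hcoroot : ∀ i : ι, g (P.coroot i) = (q i : ℤ) • P'.coroot (u i)) :
    (∀ i j : ι, q (P.reflectionPerm i j) = q j ∧ u (P.reflectionPerm i j) = P'.reflectionPerm (u i) (u j)) ∧
      (∀ w ∈ P.weylGroup, ∀ i : ι, q (w • i) = q i) ∧
      ∃ ubar : P.weylGroup ≃* P'.weylGroup,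
        (∀ i : ι, ubar (RootPairing.weylGroup.ofIdx P i) = RootPairing.weylGroup.ofIdx P' (u i)) ∧
        ∀ (w : P.weylGroup) (i : ι), u ((w : P.Aut) • i) = ((ubar w : P'.weylGroup) : P'.Aut) • u i := by
  classical
  have ha := partA P P' p hp f g hfg u q hq hroot hcoroot
  refine ⟨ha, ?_, ?_⟩
  · intro w hw
    induction hw using RootPairing.weylGroup.induction with
    | mem i => intro j; exact (ha i j).1
    | one => intro i; rw [one_smul]
    | mul x y _ _ hx hy => intro i; rw [mul_smul, hx, hy]
  · have hinj : ∀ w w' : P.weylGroup, (∀ i : ι, (w : P.Aut) • i = (w' : P.Aut) • i) → w = w' := by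
      intro w w' h
      apply Groth.Agent.S5452.result P
      ext i
      exact h i
    have hinj' : ∀ w w' : P'.weylGroup, (∀ i : ι', (w : P'.Aut) • i = (w' : P'.Aut) • i) → w = w' := by
      intro w w' h
      apply Groth.Agent.S5452.result P'
      ext i
      exact h i
    let G : Subgroup (P.weylGroup × P'.weylGroup) :=
      { carrier := {x | ∀ i, u ((x.1 : P.Aut) • i) = (x.2 : P'.Aut) • u i}
        mul_mem' := by
          intro x y hx hy i
          show u (((x.1 * y.1 : P.weylGroup) : P.Aut) • i) =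
            ((x.2 * y.2 : P'.weylGroup) : P'.Aut) • u i
          rw [Subgroup.coe_mul, Subgroup.coe_mul, mul_smul, mul_smul, hx, hy]
        one_mem' := by
          intro i
          show u (((1 : P.weylGroup) : P.Aut) • i) = ((1 : P'.weylGroup) : P'.Aut) • u i
          rw [Subgroup.coe_one, Subgroup.coe_one, one_smul, one_smul]
        inv_mem' := by
          intro x hx i
          have := hx ((x.1 : P.Aut)⁻¹ • i)
          rw [smul_inv_smul] at this
          show u (((x.1⁻¹ : P.weylGroup) : P.Aut) • i) = ((x.2⁻¹ : P'.weylGroup) : P'.Aut) • u i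
          rw [Subgroup.coe_inv, Subgroup.coe_inv, this, inv_smul_smul] }
    have hGmem : ∀ x : P.weylGroup × P'.weylGroup,
        x ∈ G ↔ ∀ i, u ((x.1 : P.Aut) • i) = (x.2 : P'.Aut) • u i := fun x => Iff.rfl
    -- existence of partners
    have hex1 : ∀ w : P.Aut, ∀ hw : w ∈ P.weylGroup, ∃ w' : P'.weylGroup,
        ((⟨w, hw⟩ : P.weylGroup), w') ∈ G := by
      intro w hw
      induction hw using RootPairing.weylGroup.induction with
      | mem i =>
        refine ⟨RootPairing.weylGroup.ofIdx P' (u i), ?_⟩
        intro j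
        exact (ha i j).2
      | one => exact ⟨1, G.one_mem⟩
      | mul x y hx hy ihx ihy =>
        obtain ⟨x', hx'⟩ := ihx
        obtain ⟨y', hy'⟩ := ihy
        exact ⟨x' * y', G.mul_mem hx' hy'⟩
    have hex2 : ∀ w' : P'.Aut, ∀ hw' : w' ∈ P'.weylGroup, ∃ w : P.weylGroup,
        (w, (⟨w', hw'⟩ : P'.weylGroup)) ∈ G := by
      intro w' hw'
      induction hw' using RootPairing.weylGroup.induction with
      | mem i' =>
        refine ⟨RootPairing.weylGroup.ofIdx P (u.symm i'), ?_⟩
        intro j
        have := (ha (u.symm i') j).2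
        rw [Equiv.apply_symm_apply] at this
        exact this
      | one => exact ⟨1, G.one_mem⟩
      | mul x y hx hy ihx ihy =>
        obtain ⟨x', hx'⟩ := ihx
        obtain ⟨y', hy'⟩ := ihy
        exact ⟨x' * y', G.mul_mem hx' hy'⟩
    let pr1 : G →* P.weylGroup := (MonoidHom.fst _ _).comp G.subtype
    let pr2 : G →* P'.weylGroup := (MonoidHom.snd _ _).comp G.subtype
    have hpr1 : Function.Bijective pr1 := by
      constructor
      · rintro ⟨x, hx⟩ ⟨y, hy⟩ hxy
        have h1 : x.1 = y.1 := hxy
        apply Subtype.ext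
        apply Prod.ext h1
        apply hinj'
        intro i'
        obtain ⟨i, rfl⟩ := u.surjective i'
        rw [← hx i, ← hy i, h1]
      · rintro ⟨w, hw⟩
        obtain ⟨w', hw'⟩ := hex1 w hw
        exact ⟨⟨_, hw'⟩, rfl⟩
    have hpr2 : Function.Bijective pr2 := by
      constructor
      · rintro ⟨x, hx⟩ ⟨y, hy⟩ hxy
        have h2 : x.2 = y.2 := hxy
        apply Subtype.ext
        refine Prod.ext ?_ h2
        apply hinj
        intro i
        apply u.injective
        rw [hx i, hy i, h2]
      · rintro ⟨w', hw'⟩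
        obtain ⟨w, hw⟩ := hex2 w' hw'
        exact ⟨⟨_, hw⟩, rfl⟩
    let e1 : G ≃* P.weylGroup := MulEquiv.ofBijective pr1 hpr1
    let e2 : G ≃* P'.weylGroup := MulEquiv.ofBijective pr2 hpr2
    refine ⟨e1.symm.trans e2, ?_, ?_⟩
    · intro i
      have hmem : (RootPairing.weylGroup.ofIdx P i, RootPairing.weylGroup.ofIdx P' (u i)) ∈ G := by
        intro j
        exact (ha i j).2
      have h1 : e1 ⟨_, hmem⟩ = RootPairing.weylGroup.ofIdx P i := rfl
      rw [MulEquiv.trans_apply, ← h1, MulEquiv.symm_apply_apply]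
      rfl
    · intro w i
      have hx := (e1.symm w).2
      have h1 : ((e1.symm w : G) : P.weylGroup × P'.weylGroup).1 = w := by
        have := e1.apply_symm_apply w
        exact this
      have h2 : (e1.symm.trans e2) w = ((e1.symm w : G) : P.weylGroup × P'.weylGroup).2 := rfl
      rw [h2]
      have := hx i
      rw [h1] at this
      exact this

end Groth.Agent.S5480
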