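import Groth.Statements.S5481
import Groth.Agent.S5480
import Groth.Agent.S5446
import Groth.Agent.Lib.RootDBasic
import Mathlib.LinearAlgebra.RootSystem.Finite.Nondegenerate

set_option autoImplicit false
open RootD

namespace Groth.Agent.S5481

/-- In a reduced root pairing over ℤ every root is indivisible. -/
theorem isIndiv_of_isReduced {ι M N : Type*} [AddCommGroup M] [AddCommGroup N]
    (P : RootPairing ι ℤ M N) [P.IsReduced] (i : ι) : RootD.IsIndiv P i := by
  intro j hj
  have hnli : ¬ LinearIndependent ℤ ![P.root j, P.root i] := by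
    intro hli
    have := LinearIndependent.pair_iff.mp hli 2 (-1) (by rw [hj]; simp)
    omega
  have h2 : P.pairing i j = 4 := by
    rw [← P.root_coroot_eq_pairing, ← hj, map_smul, LinearMap.smul_apply, P.root_coroot_eq_pairing,
      P.pairing_same]
    rfl
  rcases RootPairing.IsReduced.eq_or_eq_neg (P := P) j i hnli with h | h
  · have : P.pairing i j = 2 := by
      rw [← P.root_coroot_eq_pairing, ← h, P.root_coroot_eq_pairing, P.pairing_same]
    omega
  · have : P.pairing i j = -2 := by
      have h' : P.root i = - P.root j := by rw [h, neg_neg]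
      rw [← P.root_coroot_eq_pairing, h', map_neg, LinearMap.neg_apply, P.root_coroot_eq_pairing,
        P.pairing_same]
    omega

section

variable {ι M N ι' M' N' : Type*} [AddCommGroup M] [AddCommGroup N] [AddCommGroup M'] [AddCommGroup N']
    (P : RootPairing ι ℤ M N) (P' : RootPairing ι' ℤ M' N') [Finite ι] [Finite ι']
    (f : M' →ₗ[ℤ] M) (g : N →ₗ[ℤ] N')
    (hfg : ∀ (m' : M') (n : N), P.toLinearMap (f m') n = P'.toLinearMap m' (g n))
    (u : ι ≃ ι') (q : ι → ℕ) (hqpos : ∀ i, 0 < q i)
    (hroot : ∀ i : ι, f (P'.root (u i)) = (q i : ℤ) • P.root i)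
    (hcoroot : ∀ i : ι, g (P.coroot i) = (q i : ℤ) • P'.coroot (u i))

include hfg hqpos hcoroot in
/-- `f` is injective on the span of the roots. -/
theorem f_inj (x : M') (hx : x ∈ P'.rootSpan ℤ) (hfx : f x = 0) : x = 0 := by
  classical
  let _ : Fintype ι' := Fintype.ofFinite ι'
  apply P'.eq_zero_of_mem_rootSpan_of_rootForm_self_eq_zero (R := ℤ) hx
  rw [P'.rootForm_apply_apply]
  apply Finset.sum_eq_zero
  intro j' _
  obtain ⟨i, rfl⟩ := u.surjective j'
  have h1 := hfg x (P.coroot i)
  rw [hfx, map_zero, LinearMap.zero_apply, hcoroot, map_smul, smul_eq_mul] at h1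
  have h2 : P'.toLinearMap x (P'.coroot (u i)) = 0 := by
    have hq : (q i : ℤ) ≠ 0 := by have := hqpos i; omega
    rcases mul_eq_zero.mp h1.symm with h | h
    · exact absurd h hq
    · exact h
  have h3 : P'.coroot' (u i) x = 0 := h2
  rw [h3, mul_zero]

include hroot in
/-- `f` maps non-negative combinations of `u '' S` to non-negative combinations of `S`. -/
theorem f_natSpan (S : Set ι) (y : M') (hy : y ∈ natSpan P' (u '' S)) : f y ∈ natSpan P S := by
  unfold natSpan at hy
  induction hy using AddSubmonoid.closure_induction with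
  | mem y hy =>
    obtain ⟨_, ⟨i, hi, rfl⟩, rfl⟩ := hy
    rw [hroot, natCast_zsmul]
    exact AddSubmonoid.nsmul_mem _ (Groth.Agent.Lib.RootDBasic.root_mem_natSpan P hi) _
  | zero => rw [map_zero]; exact AddSubmonoid.zero_mem _
  | add y z _ _ hy hz => rw [map_add]; exact AddSubmonoid.add_mem _ hy hz

/-- the product of all the exponents -/
noncomputable def Q [Fintype ι] (q : ι → ℕ) : ℕ := ∏ i, q i

/-- the complementary factor -/
noncomputable def r [Fintype ι] [DecidableEq ι] (q : ι → ℕ) (i : ι) : ℕ := ∏ j ∈ Finset.univ.erase i, q j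

theorem r_mul [Fintype ι] [DecidableEq ι] (q : ι → ℕ) (i : ι) : r q i * q i = Q q :=
  Finset.prod_erase_mul _ _ (Finset.mem_univ i)

include hqpos in
theorem r_pos [Fintype ι] [DecidableEq ι] (i : ι) : 0 < r q i :=
  Finset.prod_pos fun j _ => hqpos j

include hqpos in
theorem Q_pos [Fintype ι] : 0 < Q q :=
  Finset.prod_pos fun j _ => hqpos j

include hroot in
theorem f_r_root [Fintype ι] [DecidableEq ι] (i : ι) :
    f (r q i • P'.root (u i)) = Q q • P.root i := by
  rw [map_nsmul, hroot, natCast_zsmul, smul_smul, r_mul]

include hroot in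
/-- Lifting non-negative combinations of `S` (multiplied by `Q`) to `u '' S`. -/
theorem exists_lift [Fintype ι] [DecidableEq ι] (S : Set ι) (x : M) (hx : x ∈ natSpan P S) :
    ∃ y ∈ natSpan P' (u '' S), f y = Q q • x := by
  unfold natSpan at hx
  induction hx using AddSubmonoid.closure_induction with
  | mem x hx =>
    obtain ⟨i, hi, rfl⟩ := hx
    refine ⟨r q i • P'.root (u i), ?_, f_r_root P P' f u q hroot i⟩
    exact AddSubmonoid.nsmul_mem _
      (Groth.Agent.Lib.RootDBasic.root_mem_natSpan P' (Set.mem_image_of_mem u hi)) _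
  | zero => exact ⟨0, AddSubmonoid.zero_mem _, by simp⟩
  | add x z _ _ hx hz =>
    obtain ⟨y, hy, hfy⟩ := hx
    obtain ⟨y', hy', hfy'⟩ := hz
    exact ⟨y + y', AddSubmonoid.add_mem _ hy hy', by rw [map_add, hfy, hfy', smul_add]⟩

omit [Finite ι'] in
theorem natSpan_le_rootSpan (S : Set ι') : ∀ y ∈ natSpan P' S, y ∈ P'.rootSpan ℤ := by
  intro y hy
  unfold natSpan at hy
  induction hy using AddSubmonoid.closure_induction with
  | mem y hy =>
    obtain ⟨i, -, rfl⟩ := hy
    exact Submodule.subset_span ⟨i, rfl⟩
  | zero => exact Submodule.zero_mem _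
  | add y z _ _ hy hz => exact Submodule.add_mem _ hy hz

include hfg hqpos hroot hcoroot in
/-- key transfer: if `n • root k` is a non-negative combination of `S` then `(n * r k) • root' (u k)`
is a non-negative combination of `u '' S`. -/
theorem transfer [Fintype ι] [DecidableEq ι] (S : Set ι) (n : ℕ) (k : ι)
    (h : n • P.root k ∈ natSpan P S) : (n * r q k) • P'.root (u k) ∈ natSpan P' (u '' S) := by
  obtain ⟨y, hy, hfy⟩ := exists_lift P P' f u q hroot S _ h
  have hy' := natSpan_le_rootSpan P' _ y hy
  have heq : y = (n * r q k) • P'.root (u k) := by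
    rw [← sub_eq_zero]
    apply f_inj P P' f g hfg u q hqpos hcoroot
    · apply Submodule.sub_mem _ hy'
      exact Submodule.smul_of_tower_mem _ _ (Submodule.subset_span ⟨u k, rfl⟩)
    · rw [map_sub, hfy, mul_smul, map_nsmul, f_r_root P P' f u q hroot, sub_eq_zero, smul_comm]
  rw [← heq]; exact hy

include hfg hqpos hroot hcoroot in
theorem transfer_neg [Fintype ι] [DecidableEq ι] (S : Set ι) (n : ℕ) (k : ι)
    (h : n • (-P.root k) ∈ natSpan P S) :
    (n * r q k) • (-P'.root (u k)) ∈ natSpan P' (u '' S) := by
  obtain ⟨y, hy, hfy⟩ := exists_lift P P' f u q hroot S _ h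
  have hy' := natSpan_le_rootSpan P' _ y hy
  have heq : y = (n * r q k) • (-P'.root (u k)) := by
    rw [← sub_eq_zero]
    apply f_inj P P' f g hfg u q hqpos hcoroot
    · apply Submodule.sub_mem _ hy'
      exact Submodule.smul_of_tower_mem _ _
        (Submodule.neg_mem _ (Submodule.subset_span ⟨u k, rfl⟩))
    · have e1 : f ((n * r q k) • -P'.root (u k)) = -(Q q • n • P.root k) := by
        rw [smul_neg, map_neg, mul_smul, map_nsmul, f_r_root P P' f u q hroot, smul_comm]
      rw [map_sub, hfy, e1, smul_neg, smul_neg, sub_self]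
  rw [← heq]; exact hy

end

/-- The root bijection u of a p-morphism of reduced root data carries systems of simple roots onto
systems of simple roots and systems of positive roots onto systems of positive roots, bijectively. -/
theorem result {ι M N ι' M' N' : Type*} [AddCommGroup M] [AddCommGroup N] [AddCommGroup M'] [AddCommGroup N']
    (P : RootPairing ι ℤ M N) (P' : RootPairing ι' ℤ M' N') [Finite ι] [Finite ι'] [P.IsReduced] [P'.IsReduced]
    (p : ℕ) (hp : 0 < p) (f : M' →ₗ[ℤ] M) (g : N →ₗ[ℤ] N')
    (hfg : ∀ (m' : M') (n : N), P.toLinearMap (f m') n = P'.toLinearMap m' (g n))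
    (u : ι ≃ ι') (q : ι → ℕ) (hq : ∀ i, ∃ e : ℕ, q i = p ^ e)
    (hroot : ∀ i : ι, f (P'.root (u i)) = (q i : ℤ) • P.root i)
    (hcoroot : ∀ i : ι, g (P.coroot i) = (q i : ℤ) • P'.coroot (u i)) (Δ : Set ι) :
    (RootD.IsSimpleSys P Δ ↔ RootD.IsSimpleSys P' (u '' Δ)) ∧
      (RootD.IsPosSys P Δ ↔ RootD.IsPosSys P' (u '' Δ)) := by
  classical
  let _ : Fintype ι := Fintype.ofFinite ι
  have hqpos : ∀ i, 0 < q i := by
    intro i; obtain ⟨e, he⟩ := hq i; rw [he]; exact pow_pos hp e
  have ha := Groth.Agent.S5480.partA P P' p hp f g hfg u q hq hroot hcoroot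
  have hneg : ∀ i, u (P.reflectionPerm i i) = P'.reflectionPerm (u i) (u i) := fun i => (ha i i).2
  have hqZ : ∀ i, (q i : ℤ) ≠ 0 := fun i => by have := hqpos i; omega
  have hrpos := r_pos (ι := ι) q hqpos
  constructor
  · constructor
    · -- simple system of P gives simple system of P'
      intro hΔ
      apply Groth.Agent.S5446.result P' (u '' Δ)
      · intro i' _; exact isIndiv_of_isReduced P' i'
      · apply LinearIndepOn.image_of_comp
        have hli : LinearIndependent ℤ (fun i : Δ => P.root i) := hΔ.linInd
        show LinearIndependent ℤ (fun i : Δ => P'.root (u i))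
        rw [Fintype.linearIndependent_iff] at hli ⊢
        intro c hc i
        have h1 := congrArg f hc
        rw [map_sum, map_zero] at h1
        have h2 : ∑ i : Δ, (c i * (q i : ℤ)) • P.root i = 0 := by
          rw [← h1]
          apply Finset.sum_congr rfl
          intro i _
          rw [map_smul, hroot, smul_smul]
        have := hli (fun i => c i * (q i : ℤ)) h2 i
        rcases mul_eq_zero.mp this with h | h
        · exact h
        · exact absurd h (hqZ i)
      · intro k'
        obtain ⟨k, rfl⟩ := u.surjective k'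
        refine ⟨r q k, hrpos k, ?_⟩
        rcases hΔ.mem_or_neg_mem k with h | h
        · left
          have := transfer P P' f g hfg u q hqpos hroot hcoroot Δ 1 k (by rwa [one_smul])
          rwa [one_mul] at this
        · right
          have := transfer_neg P P' f g hfg u q hqpos hroot hcoroot Δ 1 k (by rwa [one_smul])
          rwa [one_mul] at this
    · -- conversely
      intro hΔ'
      apply Groth.Agent.S5446.result P Δ
      · intro i _; exact isIndiv_of_isReduced P i
      · have hli' : LinearIndependent ℤ (fun i : Δ => P'.root (u i)) :=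
          hΔ'.linInd.comp_of_image u.injective.injOn
        show LinearIndependent ℤ (fun i : Δ => P.root i)
        rw [Fintype.linearIndependent_iff] at hli' ⊢
        intro c hc i
        have h2 : ∑ i : Δ, (c i * (r q i : ℤ)) • P'.root (u i) = 0 := by
          apply f_inj P P' f g hfg u q hqpos hcoroot
          · apply Submodule.sum_mem
            intro i _
            exact Submodule.smul_mem _ _ (Submodule.subset_span ⟨u i, rfl⟩)
          · rw [map_sum]
            have : ∀ i : Δ, f ((c i * (r q (i : ι) : ℤ)) • P'.root (u i)) =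
                (Q q : ℤ) • (c i • P.root i) := by
              intro i
              rw [map_smul, hroot, smul_smul, smul_smul, ← r_mul q (i : ι)]
              push_cast
              congr 1
              ring
            rw [Finset.sum_congr rfl (fun i _ => this i), ← Finset.smul_sum, hc, smul_zero]
        have := hli' (fun i => c i * (r q (i : ι) : ℤ)) h2 i
        rcases mul_eq_zero.mp this with h | h
        · exact h
        · have := hrpos (i : ι)
          omega
      · intro k
        refine ⟨q k, hqpos k, ?_⟩
        rcases hΔ'.mem_or_neg_mem (u k) with h | h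
        · left
          have := f_natSpan P P' f u q hroot Δ _ h
          rwa [hroot, natCast_zsmul] at this
        · right
          have := f_natSpan P P' f u q hroot Δ _ h
          rwa [map_neg, hroot, natCast_zsmul, ← smul_neg] at this
  · constructor
    · intro hS
      refine ⟨?_, ?_, ?_⟩
      · rintro _ ⟨i, hi, rfl⟩ ⟨j, hj, hji⟩
        rw [← hneg] at hji
        have := u.injective hji
        rw [this] at hj
        exact hS.disjoint hi hj
      · intro k'
        obtain ⟨k, rfl⟩ := u.surjective k'
        rcases hS.cover k with h | h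
        · exact Or.inl ⟨k, h, rfl⟩
        · right
          rw [← hneg]
          exact ⟨_, h, rfl⟩
      · intro k' n hn h
        obtain ⟨k, rfl⟩ := u.surjective k'
        have h1 := f_natSpan P P' f u q hroot Δ _ h
        rw [map_nsmul, hroot, natCast_zsmul, smul_smul] at h1
        exact ⟨k, hS.sat (n * q k) (Nat.mul_pos hn (hqpos k)) h1, rfl⟩
    · intro hS'
      refine ⟨?_, ?_, ?_⟩
      · intro i hi hni
        apply hS'.disjoint ⟨i, hi, rfl⟩
        rw [← hneg]
        exact ⟨_, hni, rfl⟩
      · intro k
        rcases hS'.cover (u k) with ⟨j, hj, hjk⟩ | ⟨j, hj, hjk⟩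
        · left
          rw [← u.injective hjk]; exact hj
        · right
          rw [← hneg] at hjk
          rw [← u.injective hjk]; exact hj
      · intro k n hn h
        have h1 := transfer P P' f g hfg u q hqpos hroot hcoroot Δ n k h
        obtain ⟨j, hj, hjk⟩ := hS'.sat (n * r q k) (Nat.mul_pos hn (hrpos k)) h1
        rw [← u.injective hjk]; exact hj

end Groth.Agent.S5481
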