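import Groth.Statements.S5483
import Groth.Agent.Lib.RootDSimple

set_option autoImplicit false
open RootD

namespace Groth.Agent.S5483

open Groth.Agent.Lib.RootDBasic Groth.Agent.Lib.RootDForm Groth.Agent.Lib.RootDSimple

/-- comb of a combination supported in `S` lies in the span of the roots of `S`. -/
theorem comb_mem_span {ι M N : Type*} [AddCommGroup M] [AddCommGroup N]
    (P : RootPairing ι ℤ M N) (S : Set ι) (c : ι →₀ ℕ) (hc : (↑c.support : Set ι) ⊆ S) :
    comb P c ∈ Submodule.span ℤ (P.root '' S) := by
  unfold comb Finsupp.sum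
  apply Submodule.sum_mem
  intro i hi
  apply Submodule.smul_of_tower_mem
  exact Submodule.subset_span ⟨i, hc hi, rfl⟩

/-- pairing of a comb with a coroot -/
theorem pairing_comb {ι M N : Type*} [AddCommGroup M] [AddCommGroup N]
    (P : RootPairing ι ℤ M N) (c : ι →₀ ℕ) (l i : ι) (hl : P.root l = comb P c) :
    P.pairing l i = c.sum fun j n => (n : ℤ) * P.pairing j i := by
  rw [← P.root_coroot_eq_pairing l i, hl]
  unfold comb Finsupp.sum
  rw [map_sum, LinearMap.sum_apply]
  apply Finset.sum_congr rfl
  intro j _
  simp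

/-- key step: positive roots have support in one of the two blocks -/
theorem support_dichotomy {ι M N : Type*} [AddCommGroup M] [AddCommGroup N]
    (P : RootPairing ι ℤ M N) [Finite ι] (Δ Δ' : Set ι) (hΔ : RootD.IsSimpleSys P Δ)
    (hsub : Δ' ⊆ Δ) (horth : ∀ i ∈ Δ', ∀ j ∈ Δ \ Δ', P.IsOrthogonal i j) :
    ∀ (n : ℕ) (c : ι →₀ ℕ) (k : ι), c.sum (fun _ m => m) = n → (↑c.support : Set ι) ⊆ Δ →
      comb P c = P.root k →
      ((↑c.support : Set ι) ⊆ Δ' ∨ (↑c.support : Set ι) ⊆ Δ \ Δ') := by
  classical
  intro n
  induction n using Nat.strong_induction_on with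
  | _ n ih =>
  intro c k hn hc hck
  by_cases hkΔ : k ∈ Δ
  · -- c = single k 1
    have : c = Finsupp.single k 1 := by
      apply comb_injOn P hΔ.linInd _ _ hc (support_single_subset hkΔ 1)
      rw [hck, comb_single, one_smul]
    subst this
    by_cases hk' : k ∈ Δ'
    · left; exact support_single_subset hk' 1
    · right; exact support_single_subset (show k ∈ Δ \ Δ' from ⟨hkΔ, hk'⟩) 1
  · obtain ⟨i, hiΔ, hci, hpos, l, hl, hkl⟩ := exists_simple_sub_comb P hkΔ c hc hck
    set c' := c - Finsupp.single i 1 with hc'def
    have hcc' : c' + Finsupp.single i 1 = c := Finsupp.sub_add_single_one_cancel (by omega)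
    have hc'sub : (↑c'.support : Set ι) ⊆ Δ := support_tsub_subset hc _
    have hsum : c'.sum (fun _ m => m) < n := by
      rw [← hn, ← hcc', Finsupp.sum_add_index' (by simp) (by simp)]
      simp
    have hc'ne : c' ≠ 0 := by
      intro h0
      rw [h0, comb_zero] at hl
      exact P.ne_zero l hl
    -- general contradiction lemma
    have key : ∀ (S : Set ι), (↑c'.support : Set ι) ⊆ S → S ⊆ Δ → i ∉ S →
        (∀ j ∈ S, P.pairing j i = 0) → False := by
      intro S hS hSΔ hiS hSi
      have hli : P.pairing l i = 0 := by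
        rw [pairing_comb P c' l i hl]
        apply Finset.sum_eq_zero
        intro j hj
        show (c' j : ℤ) * P.pairing j i = 0
        rw [hSi j (hS hj), mul_zero]
      have hki : P.pairing k i = 2 := by
        rw [← P.root_coroot_eq_pairing k i, hkl, map_add, LinearMap.add_apply,
          P.root_coroot_eq_pairing, P.root_coroot_eq_pairing, hli, P.pairing_same, zero_add]
      have hm : P.root (P.reflectionPerm i k) = P.root l - P.root i := by
        rw [root_reflectionPerm', hki, hkl]
        simp only [two_smul]; abel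
      have hc'i : c' i = 0 := by
        by_contra h
        exact hiS (hS (Finsupp.mem_support_iff.mpr h))
      rcases hΔ.mem_or_neg_mem (P.reflectionPerm i k) with hp | hp
      · obtain ⟨d, hd, hdm⟩ := (mem_natSpan_iff P Δ _).mp hp
        have : d + Finsupp.single i 1 = c' := by
          apply comb_injOn P hΔ.linInd _ _ (support_add_subset hd (support_single_subset hiΔ 1))
            hc'sub
          rw [comb_add, comb_single, one_smul, hdm, hm, ← hl]; abel
        have h1 := DFunLike.congr_fun this i
        simp [hc'i] at h1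
      · obtain ⟨d, hd, hdm⟩ := (mem_natSpan_iff P Δ _).mp hp
        have : c' + d = Finsupp.single i 1 := by
          apply comb_injOn P hΔ.linInd _ _ (support_add_subset hc'sub hd)
            (support_single_subset hiΔ 1)
          rw [comb_add, comb_single, one_smul, hdm, hm, ← hl]; abel
        apply hc'ne
        ext j
        have h1 := DFunLike.congr_fun this j
        simp only [Finsupp.coe_add, Pi.add_apply, Finsupp.single_apply] at h1
        by_cases hij : i = j
        · subst hij; simpa using hc'i
        · simp only [hij, if_false] at h1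
          simp only [Finsupp.coe_zero, Pi.zero_apply]; omega
    rcases ih _ hsum c' l rfl hc'sub hl.symm with h | h
    · by_cases hi' : i ∈ Δ'
      · left; rw [← hcc']; exact support_add_subset h (support_single_subset hi' 1)
      · exfalso
        exact key Δ' h hsub hi' (fun j hj => (horth j hj i ⟨hiΔ, hi'⟩).1)
    · by_cases hi' : i ∈ Δ'
      · exfalso
        refine key (Δ \ Δ') h Set.sdiff_subset (fun h => h.2 hi') (fun j hj => (horth i hi' j hj).2)
      · right; rw [← hcc']; exact support_add_subset h (support_single_subset (show i ∈ Δ \ Δ' from ⟨hiΔ, hi'⟩) 1)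

/-- If a system of simple roots Δ is the disjoint union of two mutually orthogonal subsets Δ', Δ'', then
R_{Δ'} and R_{Δ''} partition the set of roots. -/
theorem result {ι M N : Type*} [AddCommGroup M] [AddCommGroup N]
    (P : RootPairing ι ℤ M N) [Finite ι] (Δ Δ' : Set ι) (hΔ : RootD.IsSimpleSys P Δ)
    (hsub : Δ' ⊆ Δ) (horth : ∀ i ∈ Δ', ∀ j ∈ Δ \ Δ', P.IsOrthogonal i j) (k : ι) :
    (k ∈ RootD.inSpan P Δ' ∨ k ∈ RootD.inSpan P (Δ \ Δ')) ∧
      ¬ (k ∈ RootD.inSpan P Δ' ∧ k ∈ RootD.inSpan P (Δ \ Δ')) := by
  classical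
  constructor
  · have pos : ∀ k : ι, P.root k ∈ RootD.natSpan P Δ →
        (k ∈ RootD.inSpan P Δ' ∨ k ∈ RootD.inSpan P (Δ \ Δ')) := by
      intro k hk
      obtain ⟨c, hc, hck⟩ := (Groth.Agent.Lib.RootDBasic.mem_natSpan_iff P Δ _).mp hk
      rcases support_dichotomy P Δ Δ' hΔ hsub horth _ c k rfl hc hck with h | h
      · left
        show P.root k ∈ Submodule.span ℤ (P.root '' Δ')
        rw [← hck]; exact comb_mem_span P _ c h
      · right
        show P.root k ∈ Submodule.span ℤ (P.root '' (Δ \ Δ'))
        rw [← hck]; exact comb_mem_span P _ c h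
    rcases hΔ.mem_or_neg_mem k with h | h
    · exact pos k h
    · have h' : P.root (P.reflectionPerm k k) ∈ RootD.natSpan P Δ := by
        rw [Groth.Agent.Lib.RootDBasic.root_reflectionPerm_self]; exact h
      have hneg : P.root k = -P.root (P.reflectionPerm k k) := by
        rw [Groth.Agent.Lib.RootDBasic.root_reflectionPerm_self, neg_neg]
      rcases pos _ h' with h1 | h1
      · left
        show P.root k ∈ Submodule.span ℤ (P.root '' Δ')
        rw [hneg]; exact Submodule.neg_mem _ h1
      · right
        show P.root k ∈ Submodule.span ℤ (P.root '' (Δ \ Δ'))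
        rw [hneg]; exact Submodule.neg_mem _ h1
  · rintro ⟨h1, h2⟩
    have hunion : Δ' ∪ (Δ \ Δ') = Δ := Set.union_sdiff_cancel hsub
    have hli : LinearIndepOn ℤ P.root (Δ' ∪ (Δ \ Δ')) := by rw [hunion]; exact hΔ.linInd
    have hdisj := ((linearIndepOn_union_iff Set.disjoint_sdiff_right).mp hli).2.2
    have : P.root k = 0 := Submodule.disjoint_def.mp hdisj _ h1 h2
    exact P.ne_zero k this

end Groth.Agent.S5483
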