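import Groth.Statements.S5498
import Groth.Agent.S5487
import Groth.Agent.S5497
import Mathlib.LinearAlgebra.RootSystem.Finite.Lemmas

set_option autoImplicit false
open RootD

namespace Groth.Agent.S5498

theorem pairingIn_int_eq {ι M N : Type*} [AddCommGroup M] [AddCommGroup N]
    (P : RootPairing ι ℤ M N) (i j : ι) : P.pairingIn ℤ i j = P.pairing i j := by
  have := P.algebraMap_pairingIn ℤ i j
  simpa using this

/-- The irreducibility hypothesis in the sense of closed symmetric partitions. -/
def Irr {ι M N : Type*} [AddCommGroup M] [AddCommGroup N] (P : RootPairing ι ℤ M N) : Prop :=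
  ∀ R' : Set ι, RootD.IsClosedSub P R' → RootD.IsSymmSub P R' → RootD.IsClosedSub P R'ᶜ →
      RootD.IsSymmSub P R'ᶜ → R' = ∅ ∨ R' = Set.univ

/-- Linked by a chain of non-orthogonal roots. -/
def Linked {ι M N : Type*} [AddCommGroup M] [AddCommGroup N] (P : RootPairing ι ℤ M N) (i j : ι) : Prop :=
  Relation.ReflTransGen (fun a b : ι => ¬ P.IsOrthogonal a b) i j

theorem not_orth_symm {ι M N : Type*} [AddCommGroup M] [AddCommGroup N] (P : RootPairing ι ℤ M N)
    {a b : ι} (h : ¬ P.IsOrthogonal a b) : ¬ P.IsOrthogonal b a := fun h' => h ⟨h'.2, h'.1⟩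

theorem linked_symm {ι M N : Type*} [AddCommGroup M] [AddCommGroup N] (P : RootPairing ι ℤ M N)
    {i j : ι} (h : Linked P i j) : Linked P j i := by
  induction h with
  | refl => exact Relation.ReflTransGen.refl
  | tail _ hbc ih => exact Relation.ReflTransGen.head (not_orth_symm P hbc) ih

theorem not_orth_neg {ι M N : Type*} [AddCommGroup M] [AddCommGroup N] (P : RootPairing ι ℤ M N)
    (i : ι) : ¬ P.IsOrthogonal i (P.reflectionPerm i i) := by
  intro h
  have := h.1
  rw [P.pairing_reflectionPerm_self_right, P.pairing_same] at this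
  norm_num at this

/-- If `root k = root i + root j` then `k` is non-orthogonal to `i` or to `j`. -/
theorem not_orth_of_add {ι M N : Type*} [AddCommGroup M] [AddCommGroup N] (P : RootPairing ι ℤ M N)
    (i j k : ι) (h : P.root k = P.root i + P.root j) :
    ¬ P.IsOrthogonal i k ∨ ¬ P.IsOrthogonal j k := by
  by_contra hcon
  rw [not_or, not_not, not_not] at hcon
  have h1 : P.pairing k k = P.pairing i k + P.pairing j k := by
    have := congrArg (fun x => P.toLinearMap x (P.coroot k)) h
    simpa using this
  rw [hcon.1.1, hcon.2.1, P.pairing_same] at h1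
  norm_num at h1

theorem linked_of_irr {ι M N : Type*} [AddCommGroup M] [AddCommGroup N] (P : RootPairing ι ℤ M N)
    [Finite ι] (hirr : Irr P) (i j : ι) : Linked P i j := by
  let R' : Set ι := {k | Linked P i k}
  have hneg : ∀ l : ι, P.root (P.reflectionPerm l l) = - P.root l := by
    intro l
    rw [P.root_reflectionPerm, P.reflection_apply_self]
  have hc : RootD.IsClosedSub P R' := by
    intro a b c ha hb hc
    rcases not_orth_of_add P a b c hc with h | h
    · exact Relation.ReflTransGen.tail ha h
    · exact Relation.ReflTransGen.tail hb h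
  have hs : RootD.IsSymmSub P R' := by
    intro a ha
    exact Relation.ReflTransGen.tail ha (not_orth_neg P a)
  have hc' : RootD.IsClosedSub P R'ᶜ := by
    intro a b c ha hb hc hcR
    rcases not_orth_of_add P a b c hc with h | h
    · exact ha (Relation.ReflTransGen.tail hcR (not_orth_symm P h))
    · exact hb (Relation.ReflTransGen.tail hcR (not_orth_symm P h))
  have hs' : RootD.IsSymmSub P R'ᶜ := by
    intro a ha hna
    apply ha
    exact Relation.ReflTransGen.tail hna (not_orth_symm P (not_orth_neg P a))
  rcases hirr R' hc hs hc' hs' with h | h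
  · exfalso
    have : i ∈ R' := Relation.ReflTransGen.refl
    rw [h] at this
    exact this
  · have : j ∈ R' := by rw [h]; trivial
    exact this

/-- In a closed symmetric partition, roots in different parts are orthogonal. -/
theorem orth_of_partition {ι M N : Type*} [AddCommGroup M] [AddCommGroup N] (P : RootPairing ι ℤ M N)
    [Finite ι] (R' : Set ι) (hc : RootD.IsClosedSub P R')
    (hs : RootD.IsSymmSub P R') (hc' : RootD.IsClosedSub P R'ᶜ) (hs' : RootD.IsSymmSub P R'ᶜ)
    (i j : ι) (hi : i ∈ R') (hj : j ∉ R') : P.IsOrthogonal i j := by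
  have hneg : ∀ l : ι, P.root (P.reflectionPerm l l) = - P.root l := by
    intro l
    rw [P.root_reflectionPerm, P.reflection_apply_self]
  -- it suffices to show pairing i j = 0
  suffices h : P.pairing i j = 0 from ⟨h, P.pairing_eq_zero_iff'.1 h⟩
  by_contra hne
  -- wlog pairing i j' < 0 with j' = ± j, j' ∉ R'
  obtain ⟨j', hj', hlt⟩ : ∃ j' : ι, j' ∉ R' ∧ P.pairing i j' < 0 := by
    rcases lt_or_gt_of_ne hne with h | h
    · exact ⟨j, hj, h⟩
    · refine ⟨P.reflectionPerm j j, hs' hj, ?_⟩
      rw [P.pairing_reflectionPerm_self_right]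
      linarith
  have hne' : P.root i ≠ - P.root j' := by
    intro h
    have : i = P.reflectionPerm j' j' := P.root.injective (by rw [hneg, h])
    exact (hs' hj') (this ▸ hi)
  obtain ⟨k, hk⟩ := P.root_add_root_mem_of_pairingIn_neg (i := i) (j := j')
    (by rw [pairingIn_int_eq]; exact hlt) hne'
  rcases Groth.Agent.S5497.result P R' hc hs hc' hs' i j' k hk with h | h
  · exact hj' h.2.1
  · exact h.1 hi

/-- If R is irreducible then so is the dual datum R^v, and long(α)·long(α^v) (equivalently ℓ(α) ℓ(α^v))
is constant on the roots. -/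
theorem result {ι M N : Type*} [AddCommGroup M] [AddCommGroup N]
    (P : RootPairing ι ℤ M N) [Finite ι] [Fintype ι] [Nonempty ι]
    (hirr : ∀ R' : Set ι, RootD.IsClosedSub P R' → RootD.IsSymmSub P R' → RootD.IsClosedSub P R'ᶜ →
      RootD.IsSymmSub P R'ᶜ → R' = ∅ ∨ R' = Set.univ) :
    (∀ R' : Set ι, RootD.IsClosedSub P.flip R' → RootD.IsSymmSub P.flip R' → RootD.IsClosedSub P.flip R'ᶜ →
      RootD.IsSymmSub P.flip R'ᶜ → R' = ∅ ∨ R' = Set.univ) ∧
    ∀ i j : ι, P.RootForm (P.root i) (P.root i) * P.CorootForm (P.coroot i) (P.coroot i) =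
      P.RootForm (P.root j) (P.root j) * P.CorootForm (P.coroot j) (P.coroot j) := by
  constructor
  · intro R' hc hs hc' hs'
    by_contra hcon
    rw [not_or] at hcon
    obtain ⟨i, hi⟩ := Set.nonempty_iff_ne_empty.2 hcon.1
    obtain ⟨j, hj⟩ := (Set.ne_univ_iff_exists_notMem R').1 hcon.2
    have hlink := linked_of_irr P hirr i j
    -- walk along the chain
    have : ∀ k, Linked P i k → k ∈ R' := by
      intro k hk
      induction hk with
      | refl => exact hi
      | tail _ hbc ih =>
        by_contra hkR
        have := orth_of_partition P.flip R' hc hs hc' hs' _ _ ih hkR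
        exact hbc ⟨this.2, this.1⟩
    exact hj (this j hlink)
  · intro i j
    have hlink := linked_of_irr P hirr i j
    induction hlink with
    | refl => rfl
    | tail _ hbc ih => rw [ih]; exact Groth.Agent.S5487.result P _ _ hbc

end Groth.Agent.S5498
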