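import Groth.Statements.S5482
import Groth.Agent.S5483
import Groth.Agent.S5498
import Groth.Agent.S5490

set_option autoImplicit false
open RootD

namespace Groth.Agent.S5482

/-- If the roots are partitioned into two closed symmetric subsets R', R'', then with Δ' = Δ ∩ R', Δ'' =
Δ ∩ R'' for a system of simple roots Δ one has R' = R_{Δ'}, R'' = R_{Δ''}, and Δ' is orthogonal to
Δ''. -/
theorem result {ι M N : Type*} [AddCommGroup M] [AddCommGroup N]
    (P : RootPairing ι ℤ M N) [Finite ι] (Δ : Set ι) (hΔ : RootD.IsSimpleSys P Δ) (R' : Set ι)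
    (hc : RootD.IsClosedSub P R') (hs : RootD.IsSymmSub P R') (hc' : RootD.IsClosedSub P R'ᶜ)
    (hs' : RootD.IsSymmSub P R'ᶜ) :
    R' = RootD.inSpan P (Δ ∩ R') ∧ R'ᶜ = RootD.inSpan P (Δ \ R') ∧
      ∀ i ∈ Δ ∩ R', ∀ j ∈ Δ \ R', P.IsOrthogonal i j := by
  classical
  have horth : ∀ i ∈ Δ ∩ R', ∀ j ∈ Δ \ R', P.IsOrthogonal i j := fun i hi j hj =>
    Groth.Agent.S5498.orth_of_partition P R' hc hs hc' hs' i j hi.2 hj.2
  have hdiff : Δ \ (Δ ∩ R') = Δ \ R' := by
    ext x; simp only [Set.mem_sdiff, Set.mem_inter_iff]; tauto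
  have horth' : ∀ i ∈ Δ ∩ R', ∀ j ∈ Δ \ (Δ ∩ R'), P.IsOrthogonal i j := by
    rw [hdiff]; exact horth
  have hsub : Δ ∩ R' ⊆ Δ := Set.inter_subset_left
  -- positive roots
  have pos : ∀ k : ι, P.root k ∈ RootD.natSpan P Δ →
      (k ∈ R' ∧ k ∈ RootD.inSpan P (Δ ∩ R')) ∨ (k ∉ R' ∧ k ∈ RootD.inSpan P (Δ \ R')) := by
    intro k hk
    obtain ⟨c, hcs, hck⟩ := (Groth.Agent.Lib.RootDBasic.mem_natSpan_iff P Δ _).mp hk
    rcases Groth.Agent.S5483.support_dichotomy P Δ (Δ ∩ R') hΔ hsub horth' _ c k rfl hcs hck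
      with h | h
    · left
      refine ⟨?_, ?_⟩
      · apply (Groth.Agent.S5490.result P R').mp hc k
        rw [← hck]
        exact (Groth.Agent.Lib.RootDBasic.mem_natSpan_iff P R' _).mpr
          ⟨c, fun j hj => (h hj).2, rfl⟩
      · show P.root k ∈ Submodule.span ℤ (P.root '' (Δ ∩ R'))
        rw [← hck]; exact Groth.Agent.S5483.comb_mem_span P _ c h
    · right
      rw [hdiff] at h
      refine ⟨?_, ?_⟩
      · apply (Groth.Agent.S5490.result P R'ᶜ).mp hc' k
        rw [← hck]
        exact (Groth.Agent.Lib.RootDBasic.mem_natSpan_iff P R'ᶜ _).mpr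
          ⟨c, fun j hj => (h hj).2, rfl⟩
      · show P.root k ∈ Submodule.span ℤ (P.root '' (Δ \ R'))
        rw [← hck]; exact Groth.Agent.S5483.comb_mem_span P _ c h
  have hnegneg : ∀ k : ι, P.reflectionPerm (P.reflectionPerm k k) (P.reflectionPerm k k) = k := by
    intro k
    apply P.root.injective
    rw [Groth.Agent.Lib.RootDBasic.root_reflectionPerm_self,
      Groth.Agent.Lib.RootDBasic.root_reflectionPerm_self, neg_neg]
  have all : ∀ k : ι,
      (k ∈ R' ∧ k ∈ RootD.inSpan P (Δ ∩ R')) ∨ (k ∉ R' ∧ k ∈ RootD.inSpan P (Δ \ R')) := by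
    intro k
    rcases hΔ.mem_or_neg_mem k with h | h
    · exact pos k h
    · have h' : P.root (P.reflectionPerm k k) ∈ RootD.natSpan P Δ := by
        rw [Groth.Agent.Lib.RootDBasic.root_reflectionPerm_self]; exact h
      have hneg : P.root k = -P.root (P.reflectionPerm k k) := by
        rw [Groth.Agent.Lib.RootDBasic.root_reflectionPerm_self, neg_neg]
      rcases pos _ h' with ⟨h1, h2⟩ | ⟨h1, h2⟩
      · left
        refine ⟨?_, ?_⟩
        · have := hs h1
          rwa [hnegneg] at this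
        · show P.root k ∈ Submodule.span ℤ (P.root '' (Δ ∩ R'))
          rw [hneg]; exact Submodule.neg_mem _ h2
      · right
        refine ⟨?_, ?_⟩
        · have := hs' (i := P.reflectionPerm k k) h1
          rwa [hnegneg] at this
        · show P.root k ∈ Submodule.span ℤ (P.root '' (Δ \ R'))
          rw [hneg]; exact Submodule.neg_mem _ h2
  have notboth : ∀ k : ι, ¬ (k ∈ RootD.inSpan P (Δ ∩ R') ∧ k ∈ RootD.inSpan P (Δ \ R')) := by
    intro k
    have := (Groth.Agent.S5483.result P Δ (Δ ∩ R') hΔ hsub horth' k).2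
    rwa [hdiff] at this
  refine ⟨?_, ?_, horth⟩
  · ext k
    constructor
    · intro hk
      rcases all k with h | h
      · exact h.2
      · exact absurd hk h.1
    · intro hk
      rcases all k with h | h
      · exact h.1
      · exact absurd ⟨hk, h.2⟩ (notboth k)
  · ext k
    constructor
    · intro hk
      rcases all k with h | h
      · exact absurd h.1 hk
      · exact h.2
    · intro hk
      rcases all k with h | h
      · exact absurd ⟨h.2, hk⟩ (notboth k)
      · exact h.1

end Groth.Agent.S5482
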