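import Groth.Statements.S5491
import Mathlib.LinearAlgebra.RootSystem.Base
import Mathlib.LinearAlgebra.RootSystem.Finite.Lemmas

set_option autoImplicit false
open RootD

namespace Groth.Agent.S5491

open Classical in
/-- `phi i = ∑_{j positive} pairing i j`. -/
noncomputable def phi {ι M N : Type*} [AddCommGroup M] [AddCommGroup N]
    (P : RootPairing ι ℤ M N) [Fintype ι] (b : P.Base) (i : ι) : ℤ :=
  ∑ j, if b.IsPos j then P.pairing i j else 0

theorem phi_add {ι M N : Type*} [AddCommGroup M] [AddCommGroup N]
    (P : RootPairing ι ℤ M N) [Fintype ι] (b : P.Base) (i j k : ι)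
    (hk : P.root k = P.root i + P.root j) : phi P b k = phi P b i + phi P b j := by
  classical
  unfold phi
  rw [← Finset.sum_add_distrib]
  apply Finset.sum_congr rfl
  intro l _
  split_ifs
  · have : P.pairing k l = P.pairing i l + P.pairing j l := by
      have := congrArg (fun x => P.toLinearMap x (P.coroot l)) hk
      simpa using this
    exact this
  · simp

theorem phi_neg {ι M N : Type*} [AddCommGroup M] [AddCommGroup N]
    (P : RootPairing ι ℤ M N) [Fintype ι] (b : P.Base) (i : ι) :
    phi P b (P.reflectionPerm i i) = - phi P b i := by
  classical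
  unfold phi
  rw [← Finset.sum_neg_distrib]
  apply Finset.sum_congr rfl
  intro l _
  split_ifs <;> simp

theorem phi_simple {ι M N : Type*} [AddCommGroup M] [AddCommGroup N]
    (P : RootPairing ι ℤ M N) [Finite ι] [Fintype ι] [P.IsReduced] (b : P.Base) (i : ι)
    (hi : i ∈ b.support) : phi P b i = 2 := by
  classical
  unfold phi
  rw [← Finset.sum_filter]
  have hipos : b.IsPos i := b.isPos_of_mem_support hi
  rw [← Finset.add_sum_erase _ _ (Finset.mem_filter.2 ⟨Finset.mem_univ i, hipos⟩), P.pairing_same]
  suffices h : ∑ j ∈ (Finset.univ.filter (fun j => b.IsPos j)).erase i, P.pairing i j = 0 by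
    rw [h, add_zero]
  apply Finset.sum_involution (fun j _ => P.reflectionPerm i j)
  · intro j hj
    rw [P.pairing_reflectionPerm, P.pairing_reflectionPerm_self_left]
    ring
  · intro j hj hne heq
    -- reflectionPerm i j = j implies pairing j i = 0
    have h1 : P.root (P.reflectionPerm i j) = P.root j := by rw [heq]
    rw [P.root_reflectionPerm, P.reflection_apply_root] at h1
    have h2 : P.pairing j i • P.root i = 0 := by
      have := sub_eq_self.1 h1
      exact this
    have hM : IsAddTorsionFree M := by
      have : Module.IsReflexive ℤ M := Module.IsReflexive.of_isPerfPair P.toLinearMap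
      exact IsAddTorsionFree.of_isTorsionFree ℤ M
    have h3 : P.pairing j i = 0 := by
      rcases smul_eq_zero.1 h2 with h | h
      · exact h
      · exact absurd h (P.ne_zero i)
    exact hne (P.pairing_eq_zero_iff'.1 h3)
  · intro j hj
    rw [Finset.mem_erase, Finset.mem_filter] at hj ⊢
    obtain ⟨hji, -, hjpos⟩ := hj
    refine ⟨?_, Finset.mem_univ _, hjpos.reflectionPerm hi hji⟩
    intro h
    -- reflectionPerm i j = i => j = reflectionPerm i i = -i not positive
    have : j = P.reflectionPerm i i := by
      have h' := congrArg (P.reflectionPerm i) h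
      rw [P.reflectionPerm_self] at h'
      exact h'
    rw [this] at hjpos
    have := (RootPairing.Base.IsPos.neg_iff_not b i).1 hjpos
    exact this hipos
  · intro j hj
    exact P.reflectionPerm_self i j

open Classical in
/-- With ρ^v the half-sum of the positive coroots, the order (height) of any root α relative to the
simple system equals (ρ^v, α); equivalently 2·height(α) = Σ_{β > 0} (β^v, α). -/
theorem result {ι M N : Type*} [AddCommGroup M] [AddCommGroup N]
    (P : RootPairing ι ℤ M N) [Finite ι] [Fintype ι] [P.IsReduced] (b : P.Base) (i : ι) :
    2 * b.height i = ∑ j, if b.IsPos j then P.pairing i j else 0 := by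
  have key : ∀ i : ι, b.IsPos i → 2 * b.height i = phi P b i := by
    intro i hi
    refine RootPairing.Base.IsPos.induction_on_add hi (p := fun i => 2 * b.height i = phi P b i) ?_ ?_
    · intro i hi
      rw [phi_simple P b i hi, RootPairing.Base.height_one_of_mem_support hi]; rfl
    · intro i j k hk hi hj
      rw [phi_add P b i j k hk, b.height_add hk, mul_add, hi, phi_simple P b j hj,
        RootPairing.Base.height_one_of_mem_support hj]
      rfl
  change 2 * b.height i = phi P b i
  rcases RootPairing.Base.IsPos.or_neg b i with h | h
  · exact key i h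
  · have := key _ h
    have e1 : phi P b (P.reflectionPerm i i) = - phi P b i := phi_neg P b i
    have e2 := b.height_reflectionPerm_self i
    change 2 * b.height (P.reflectionPerm i i) = phi P b (P.reflectionPerm i i) at this
    change b.height (P.reflectionPerm i i) = - b.height i at e2
    rw [e1, e2] at this
    linarith

end Groth.Agent.S5491
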