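import Groth.Statements.S5492
import Mathlib.LinearAlgebra.RootSystem.Finite.Lemmas

set_option autoImplicit false
open RootD

namespace Groth.Agent.S5492

theorem pairingIn_int_eq {ι M N : Type*} [AddCommGroup M] [AddCommGroup N]
    (P : RootPairing ι ℤ M N) (i j : ι) : P.pairingIn ℤ i j = P.pairing i j := by
  have := P.algebraMap_pairingIn ℤ i j
  simpa using this

/-- Coefficients of elements of the additive monoid generated by a linearly independent family
of roots are nonnegative. -/
theorem coeff_nonneg {ι M N : Type*} [AddCommGroup M] [AddCommGroup N]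
    (P : RootPairing ι ℤ M N) (Δ : Set ι) (hli : LinearIndepOn ℤ P.root Δ) (x : M)
    (hx : x ∈ RootD.natSpan P Δ) :
    ∃ c : Δ →₀ ℤ, (∀ δ, 0 ≤ c δ) ∧ x = c.sum (fun δ z => z • P.root δ) := by
  classical
  induction hx using AddSubmonoid.closure_induction with
  | mem y hy =>
    obtain ⟨δ, hδ, rfl⟩ := hy
    refine ⟨Finsupp.single ⟨δ, hδ⟩ 1, ?_, by simp⟩
    intro δ'
    rw [Finsupp.single_apply]
    split_ifs <;> simp
  | zero => exact ⟨0, by simp, by simp⟩
  | add y z _ _ hy hz =>
    obtain ⟨c, hc, rfl⟩ := hy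
    obtain ⟨d, hd, rfl⟩ := hz
    refine ⟨c + d, fun δ => add_nonneg (hc δ) (hd δ), ?_⟩
    rw [Finsupp.sum_add_index'] <;> simp [add_smul]

/-- Off-diagonal entries of the Cartan matrix of a system of simple roots are non-positive: (α^v, β) ≤ 0
for distinct simple roots α, β. -/
theorem result {ι M N : Type*} [AddCommGroup M] [AddCommGroup N]
    (P : RootPairing ι ℤ M N) [Finite ι] (Δ : Set ι) (hΔ : RootD.IsSimpleSys P Δ) (i j : ι)
    (hi : i ∈ Δ) (hj : j ∈ Δ) (hij : i ≠ j) : P.pairing j i ≤ 0 := by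
  classical
  by_contra hpos
  rw [not_le] at hpos
  obtain ⟨k, hk⟩ := P.root_sub_root_mem_of_pairingIn_pos (i := j) (j := i)
    (by rw [pairingIn_int_eq]; exact hpos) (Ne.symm hij)
  have hli : LinearIndependent ℤ (fun δ : Δ => P.root δ) := hΔ.linInd
  -- the vector root j - root i has coefficients single j 1 - single i 1
  have hrepr : P.root k = (Finsupp.single (⟨j, hj⟩ : Δ) (1 : ℤ) - Finsupp.single (⟨i, hi⟩ : Δ) 1).sum
      (fun δ z => z • P.root δ) := by
    rw [hk, Finsupp.sum_sub_index] <;> simp [sub_smul]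
  have hne : (⟨j, hj⟩ : Δ) ≠ ⟨i, hi⟩ := fun h => hij (Subtype.ext_iff.1 h).symm
  rcases hΔ.mem_or_neg_mem k with h | h
  · obtain ⟨c, hc, hx⟩ := coeff_nonneg P Δ hΔ.linInd _ h
    have : c = Finsupp.single (⟨j, hj⟩ : Δ) (1 : ℤ) - Finsupp.single ⟨i, hi⟩ 1 := by
      have h1 := hx.symm.trans hrepr
      have := hli.finsuppLinearCombination_injective
      apply this
      simpa [Finsupp.linearCombination_apply] using h1
    have h2 := hc ⟨i, hi⟩
    rw [this] at h2
    simp [Finsupp.single_apply, hne] at h2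
  · obtain ⟨c, hc, hx⟩ := coeff_nonneg P Δ hΔ.linInd _ h
    have : c = -(Finsupp.single (⟨j, hj⟩ : Δ) (1 : ℤ) - Finsupp.single ⟨i, hi⟩ 1) := by
      have h1 : c.sum (fun δ z => z • P.root δ) = (-(Finsupp.single (⟨j, hj⟩ : Δ) (1 : ℤ) - Finsupp.single (⟨i, hi⟩ : Δ) 1)).sum
          (fun δ z => z • P.root δ) := by
        rw [← hx, hrepr, Finsupp.sum_neg_index] <;> simp
      have := hli.finsuppLinearCombination_injective
      apply this
      simpa [Finsupp.linearCombination_apply] using h1
    have h2 := hc ⟨j, hj⟩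
    rw [this] at h2
    simp [Finsupp.single_apply, hne, hne.symm] at h2

end Groth.Agent.S5492
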