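import Groth.Statements.S5493
import Groth.Agent.S2952
import Groth.Agent.S2953
import Groth.Agent.Lib.RootDWeyl

set_option autoImplicit false
open RootD

namespace Groth.Agent.S5493

open RootPairing Module

section
variable {ι M N ι' M' N' : Type*} [AddCommGroup M] [AddCommGroup N] [AddCommGroup M']
  [AddCommGroup N'] (P : RootPairing ι ℤ M N) (P' : RootPairing ι' ℤ M' N')

/-- The pairing of a weight with a coroot is invariant under automorphisms. -/
theorem toLinearMap_smul_smul (g : P.Aut) (j : ι) (x : M) :
    P.toLinearMap (g • x) (P.coroot (g • j)) = P.toLinearMap x (P.coroot j) := by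
  have h2 := LinearMap.congr_fun
    (RootPairing.Hom.weight_coweight_transpose_apply P P (P.coroot (g • j)) g.toHom) x
  have h3 : P.toLinearMap (g • x) (P.coroot (g • j)) =
      P.toLinearMap x (g.coweightMap (P.coroot (g • j))) := h2
  rw [RootPairing.Hom.coroot_coweightMap_apply P P (g • j) g.toHom] at h3
  have h4 : g.indexEquiv.symm (g • j) = j := Equiv.symm_apply_apply _ _
  rw [h4] at h3
  exact h3

theorem linearIndependent_support (b : P.Base) :
    LinearIndependent ℤ (fun i : ↥b.support => P.root i) := b.linearIndepOn_root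

/-- In the adjoint case the simple roots of a base form a basis of the weight lattice. -/
noncomputable def basisOfBase (b : P.Base) (had : Submodule.span ℤ (Set.range P.root) = ⊤) :
    Basis (↥b.support) ℤ M :=
  Basis.mk (v := fun i : ↥b.support => P.root i) (linearIndependent_support P b) (by
    rw [← had, ← b.span_int_root_support]
    apply Submodule.span_mono
    rintro _ ⟨i, hi, rfl⟩
    exact ⟨⟨i, hi⟩, rfl⟩)

@[simp] theorem basisOfBase_apply (b : P.Base) (had : Submodule.span ℤ (Set.range P.root) = ⊤)
    (i : ↥b.support) : basisOfBase P b had i = P.root i := by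
  unfold basisOfBase
  rw [Basis.mk_apply]

end

section Main
variable {ι M N ι' M' N' : Type*} [AddCommGroup M] [AddCommGroup N] [AddCommGroup M']
  [AddCommGroup N'] (P : RootPairing ι ℤ M N) (P' : RootPairing ι' ℤ M' N')
  (had : Submodule.span ℤ (Set.range P.root) = ⊤) (had' : Submodule.span ℤ (Set.range P'.root) = ⊤)
  (b : P.Base) (b' : P'.Base) (u : ↥b.support ≃ ↥b'.support)

/-- The linear equivalence of weight lattices extending `u`. -/
noncomputable def phi : M ≃ₗ[ℤ] M' := (basisOfBase P b had).equiv (basisOfBase P' b' had') u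

theorem phi_root (i : ↥b.support) : phi P P' had had' b b' u (P.root i) = P'.root (u i) := by
  rw [← basisOfBase_apply P b had i, phi, Basis.equiv_apply, basisOfBase_apply]

theorem phi_symm : (phi P P' had had' b b' u).symm = phi P' P had' had b' b u.symm := by
  unfold phi
  rw [Basis.equiv_symm]

variable (hu : ∀ i j : ↥b.support, P.pairing (i : ι) (j : ι) = P'.pairing (u i : ι') (u j : ι'))

include hu in
theorem phi_reflection (i : ↥b.support) (x : M) :
    phi P P' had had' b b' u (P.reflection i x) = P'.reflection (u i) (phi P P' had had' b b' u x) := by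
  have h : (phi P P' had had' b b' u).toLinearMap ∘ₗ (P.reflection i).toLinearMap =
      (P'.reflection (u i)).toLinearMap ∘ₗ (phi P P' had had' b b' u).toLinearMap := by
    apply (basisOfBase P b had).ext
    intro j
    simp only [LinearMap.coe_comp, LinearEquiv.coe_coe, Function.comp_apply, basisOfBase_apply]
    rw [P.reflection_apply_root, map_sub, map_zsmul, phi_root, phi_root, P'.reflection_apply_root,
      hu j i]
  exact LinearMap.congr_fun h x

include hu in
theorem phi_pairing (j : ↥b.support) (m : M) :
    P'.toLinearMap (phi P P' had had' b b' u m) (P'.coroot (u j)) = P.toLinearMap m (P.coroot j) := by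
  have h : (P'.coroot' (u j)) ∘ₗ (phi P P' had had' b b' u).toLinearMap = P.coroot' j := by
    apply (basisOfBase P b had).ext
    intro i
    simp only [LinearMap.coe_comp, LinearEquiv.coe_coe, Function.comp_apply, basisOfBase_apply]
    rw [phi_root, P'.root_coroot'_eq_pairing, P.root_coroot'_eq_pairing, hu i j]
  exact LinearMap.congr_fun h m

variable [Finite ι] [P.IsReduced]

include hu in
theorem exists_companion (g : P.Aut) (hg : g ∈ P.weylGroup) :
    ∃ g' : P'.Aut, g' ∈ P'.weylGroup ∧
      ∀ x : M, phi P P' had had' b b' u (g • x) = g' • phi P P' had had' b b' u x := by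
  rw [← (Groth.Agent.S2952.result P b).1] at hg
  induction hg using Subgroup.closure_induction with
  | mem g hg =>
    obtain ⟨i, hi, rfl⟩ := hg
    refine ⟨Equiv.reflection P' (u ⟨i, hi⟩), P'.reflection_mem_weylGroup _, fun x => ?_⟩
    rw [Equiv.reflection_smul, Equiv.reflection_smul]
    exact phi_reflection P P' had had' b b' u hu ⟨i, hi⟩ x
  | one => exact ⟨1, one_mem _, fun x => by rw [one_smul, one_smul]⟩
  | mul g₁ g₂ _ _ h₁ h₂ =>
    obtain ⟨g₁', hg₁', h₁'⟩ := h₁
    obtain ⟨g₂', hg₂', h₂'⟩ := h₂
    refine ⟨g₁' * g₂', mul_mem hg₁' hg₂', fun x => ?_⟩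
    rw [mul_smul, mul_smul, h₁', h₂']
  | inv g _ h =>
    obtain ⟨g', hg', h'⟩ := h
    refine ⟨g'⁻¹, inv_mem hg', fun x => ?_⟩
    have := h' (g⁻¹ • x)
    rw [smul_inv_smul] at this
    rw [this, inv_smul_smul]

include hu in
theorem exists_index (i : ι) :
    ∃ i' : ι', phi P P' had had' b b' u (P.root i) = P'.root i' ∧
      ∀ m : M, P'.toLinearMap (phi P P' had had' b b' u m) (P'.coroot i') =
        P.toLinearMap m (P.coroot i) := by
  obtain ⟨g, hg, j, hj, rfl⟩ := (Groth.Agent.S2952.result P b).2 i
  obtain ⟨g', hg', hgg'⟩ := exists_companion P P' had had' b b' u hu g hg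
  refine ⟨g' • (u ⟨j, hj⟩ : ι'), ?_, fun m => ?_⟩
  · rw [Groth.Agent.Lib.RootDWeyl.root_smul, hgg', phi_root P P' had had' b b' u ⟨j, hj⟩,
      Groth.Agent.Lib.RootDWeyl.root_smul]
  · have h1 := hgg' (g⁻¹ • m)
    rw [smul_inv_smul] at h1
    rw [h1, toLinearMap_smul_smul, phi_pairing P P' had had' b b' u hu ⟨j, hj⟩,
      ← toLinearMap_smul_smul P g j (g⁻¹ • m), smul_inv_smul]

end Main

/-- Adjoint case; the simply connected case is dual: two reduced adjoint root data with systems of
simple roots Δ, Δ' and a bijection u : Δ → Δ' respecting the Cartan matrices are isomorphic through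
a unique isomorphism inducing u on Δ. -/
theorem result {ι M N ι' M' N' : Type*} [AddCommGroup M] [AddCommGroup N] [AddCommGroup M'] [AddCommGroup N']
    (P : RootPairing ι ℤ M N) (P' : RootPairing ι' ℤ M' N') [Finite ι] [Finite ι'] [P.IsReduced] [P'.IsReduced]
    (had : Submodule.span ℤ (Set.range P.root) = ⊤) (had' : Submodule.span ℤ (Set.range P'.root) = ⊤)
    (b : P.Base) (b' : P'.Base) (u : ↥b.support ≃ ↥b'.support)
    (hu : ∀ i j : ↥b.support, P.pairing (i : ι) (j : ι) = P'.pairing (u i : ι') (u j : ι')) :
    ∃! e : RootPairing.Equiv P P', ∀ i : ↥b.support, e.indexEquiv (i : ι) = (u i : ι') := by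
  classical
  have hu' : ∀ i j : ↥b'.support, P'.pairing (i : ι') (j : ι') =
      P.pairing (u.symm i : ι) (u.symm j : ι) := by
    intro i j
    rw [hu, Equiv.apply_symm_apply, Equiv.apply_symm_apply]
  have hex := Groth.Agent.S5493.exists_index P P' had had' b b' u hu
  have hex' := Groth.Agent.S5493.exists_index P' P had' had b' b u.symm hu'
  choose σ hσ1 hσ2 using hex
  choose τ hτ1 hτ2 using hex'
  have hτσ : ∀ i, τ (σ i) = i := by
    intro i
    apply P.root.injective
    rw [← hτ1, ← hσ1, ← Groth.Agent.S5493.phi_symm, LinearEquiv.symm_apply_apply]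
  have hστ : ∀ i', σ (τ i') = i' := by
    intro i'
    apply P'.root.injective
    rw [← hσ1, ← hτ1, ← Groth.Agent.S5493.phi_symm, LinearEquiv.apply_symm_apply]
  let ψ : N' ≃ₗ[ℤ] N := (P'.flip.toPerfPair.trans
    (Groth.Agent.S5493.phi P P' had had' b b' u).dualMap).trans P.flip.toPerfPair.symm
  have hψ : ∀ (n' : N') (m : M), P.toLinearMap m (ψ n') =
      P'.toLinearMap (Groth.Agent.S5493.phi P P' had had' b b' u m) n' := by
    intro n' m
    simp [ψ]
  let e : RootPairing.Equiv P P' :=
    { weightMap := (Groth.Agent.S5493.phi P P' had had' b b' u).toLinearMap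
      coweightMap := ψ.toLinearMap
      indexEquiv := ⟨σ, τ, hτσ, hστ⟩
      weight_coweight_transpose := by
        ext n' m
        simp [ψ]
      root_weightMap := by
        ext i
        exact hσ1 i
      coroot_coweightMap := by
        ext i'
        apply P.flip.toPerfPair.injective
        ext m
        have h1 := hσ2 (τ i') m
        rw [hστ] at h1
        simp only [Function.comp_apply, LinearEquiv.coe_coe, LinearMap.toPerfPair_apply,
          RootPairing.flip_toLinearMap, LinearMap.flip_apply]
        rw [hψ, h1]
        rfl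
      bijective_weightMap := (Groth.Agent.S5493.phi P P' had had' b b' u).bijective
      bijective_coweightMap := ψ.bijective }
  refine ⟨e, ?_, ?_⟩
  · intro i
    apply P'.root.injective
    show P'.root (σ i) = _
    rw [← hσ1, Groth.Agent.S5493.phi_root]
  · intro e' he'
    have hw : e'.weightMap = e.weightMap := by
      apply (Groth.Agent.S5493.basisOfBase P b had).ext
      intro i
      rw [Groth.Agent.S5493.basisOfBase_apply, RootPairing.Hom.root_weightMap_apply, he' i]
      exact (Groth.Agent.S5493.phi_root P P' had had' b b' u i).symm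
    have hc : e'.coweightMap = e.coweightMap := by
      apply LinearMap.ext
      intro n'
      apply P.flip.toPerfPair.injective
      rw [← RootPairing.Hom.weight_coweight_transpose_apply P P' n' e'.toHom,
        ← RootPairing.Hom.weight_coweight_transpose_apply P P' n' e.toHom, hw]
    have hi : e'.indexEquiv = e.indexEquiv := by
      ext i
      apply P'.root.injective
      rw [← RootPairing.Hom.root_weightMap_apply P P' i e'.toHom,
        ← RootPairing.Hom.root_weightMap_apply P P' i e.toHom, hw]
    exact RootPairing.Equiv.ext hw hc hi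

end Groth.Agent.S5493
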