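import Groth.Statements.S5494
import Groth.Agent.S5498

set_option autoImplicit false
open RootD

namespace Groth.Agent.S5494

/-- Every root is non-orthogonal to some root of a simple system. -/
theorem exists_not_orth {ι M N : Type*} [AddCommGroup M] [AddCommGroup N]
    (P : RootPairing ι ℤ M N) (Δ : Set ι) (hΔ : RootD.IsSimpleSys P Δ) (k : ι) :
    ∃ δ ∈ Δ, ¬ P.IsOrthogonal δ k := by
  by_contra hcon
  push Not at hcon
  -- pairing (·, k) vanishes on natSpan Δ
  have hvan : ∀ x ∈ RootD.natSpan P Δ, P.toLinearMap x (P.coroot k) = 0 := by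
    intro x hx
    induction hx using AddSubmonoid.closure_induction with
    | mem y hy =>
      obtain ⟨δ, hδ, rfl⟩ := hy
      exact (hcon δ hδ).1
    | zero => simp
    | add y z _ _ hy hz => rw [map_add, LinearMap.add_apply, hy, hz, add_zero]
  have h2 : P.toLinearMap (P.root k) (P.coroot k) = 2 := P.root_coroot_two k
  rcases hΔ.mem_or_neg_mem k with h | h
  · rw [hvan _ h] at h2
    norm_num at h2
  · have := hvan _ h
    rw [map_neg, LinearMap.neg_apply, h2] at this
    norm_num at this

/-- If a system of simple roots has no partition into two non-empty orthogonal subsets, then any two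
roots are linked by a chain of roots with consecutive members non-orthogonal. -/
theorem result {ι M N : Type*} [AddCommGroup M] [AddCommGroup N]
    (P : RootPairing ι ℤ M N) [Finite ι] (Δ : Set ι) (hΔ : RootD.IsSimpleSys P Δ)
    (hconn : ∀ Δ' : Set ι, Δ' ⊆ Δ → (∀ i ∈ Δ', ∀ j ∈ Δ \ Δ', P.IsOrthogonal i j) → Δ' = ∅ ∨ Δ' = Δ)
    (i j : ι) : Relation.ReflTransGen (fun a b : ι => ¬ P.IsOrthogonal a b) i j := by
  obtain ⟨δi, hδi, hi⟩ := exists_not_orth P Δ hΔ i
  obtain ⟨δj, hδj, hj⟩ := exists_not_orth P Δ hΔ j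
  -- all simple roots linked to δi
  let Δ' : Set ι := {δ ∈ Δ | Groth.Agent.S5498.Linked P δi δ}
  have hsub : Δ' ⊆ Δ := fun δ hδ => hδ.1
  have horth : ∀ a ∈ Δ', ∀ b ∈ Δ \ Δ', P.IsOrthogonal a b := by
    intro a ha b hb
    by_contra hab
    exact hb.2 ⟨hb.1, Relation.ReflTransGen.tail ha.2 hab⟩
  have hmem : δi ∈ Δ' := ⟨hδi, Relation.ReflTransGen.refl⟩
  rcases hconn Δ' hsub horth with h | h
  · rw [h] at hmem
    exact absurd hmem (Set.notMem_empty _)
  · have hδj' : δj ∈ Δ' := by rw [h]; exact hδj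
    have h1 : Groth.Agent.S5498.Linked P i δi := Relation.ReflTransGen.single (Groth.Agent.S5498.not_orth_symm P hi)
    have h2 : Groth.Agent.S5498.Linked P δi δj := hδj'.2
    have h3 : Groth.Agent.S5498.Linked P δj j := Relation.ReflTransGen.single hj
    exact (h1.trans h2).trans h3

end Groth.Agent.S5494
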