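import Groth.Statements.S5496
import Groth.Agent.S2953
import Mathlib.GroupTheory.OrderOfElement
import Mathlib.Data.ZMod.QuotientGroup
import Mathlib.Algebra.Group.Subgroup.Pointwise
import Mathlib.Data.Set.Card
import Mathlib.LinearAlgebra.RootSystem.Reduced

set_option autoImplicit false
open RootPairing
open scoped Pointwise
open RootD

namespace Groth.Agent.S5496

/-- The group generated by two non-trivial involutions `s`, `t` with `s * t` of finite order `n`
has `2 * n` elements. -/
theorem card_closure_pair {G : Type*} [Group G] (s t : G) (hs : s * s = 1) (ht : t * t = 1)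
    (hs1 : s ≠ 1) (ht1 : t ≠ 1) (hn : 0 < orderOf (s * t)) :
    Nat.card (Subgroup.closure ({s, t} : Set G)) = 2 * orderOf (s * t) := by
  classical
  set c := s * t with hc
  have hsinv : s⁻¹ = s := inv_eq_of_mul_eq_one_right hs
  have htinv : t⁻¹ = t := inv_eq_of_mul_eq_one_right ht
  have hts : t = s * c := by rw [hc, ← mul_assoc, hs, one_mul]
  have hscs : s * c * s⁻¹ = c⁻¹ := by
    rw [hc, mul_inv_rev, hsinv, htinv, ← mul_assoc, hs, one_mul]
  have hconj : ∀ a : ℤ, s * c ^ a = c ^ (-a) * s := by
    intro a
    have h1 : (s * c * s⁻¹) ^ a = s * c ^ a * s⁻¹ := conj_zpow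
    rw [hscs, inv_zpow', hsinv] at h1
    rw [h1, mul_assoc, mul_assoc, hs, mul_one]
  set Z := Subgroup.zpowers c with hZ
  have hcard : Nat.card Z = orderOf c := Nat.card_zpowers c
  have hZfin : Finite Z := Nat.finite_of_card_ne_zero (by rw [hcard]; omega)
  have hZfin' : (Z : Set G).Finite := Set.toFinite _
  have hsZ : s ∉ Z := by
    rintro ⟨k, hk⟩
    change c ^ k = s at hk
    -- s commutes with c
    have hcomm : s * c = c * s := by
      rw [← hk]
      exact ((Commute.refl c).zpow_left k).eq
    have hcc : c⁻¹ = c := by
      rw [← hscs, hcomm, mul_assoc, mul_inv_cancel, mul_one]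
    have hc2 : c ^ 2 = 1 := by
      rw [pow_two]
      nth_rewrite 1 [← hcc]
      exact inv_mul_cancel c
    -- so c^k is 1 or c
    rcases Int.even_or_odd k with ⟨m, hm⟩ | ⟨m, hm⟩
    · apply hs1
      have h2 : c ^ (2 : ℤ) = 1 := by exact_mod_cast hc2
      rw [← hk, hm, ← two_mul, zpow_mul, h2, one_zpow]
    · apply ht1
      have h2 : c ^ (2 : ℤ) = 1 := by exact_mod_cast hc2
      have : s = c := by
        rw [← hk, hm, zpow_add, zpow_mul, h2, one_zpow, one_mul, zpow_one]
      have h3 : s = s * t := this
      have := mul_left_cancel (a := s) (b := 1) (c := t) (by rw [mul_one]; exact h3)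
      exact this.symm
  -- description of the closure
  have hT : (Subgroup.closure ({s, t} : Set G) : Set G) = (Z : Set G) ∪ (fun z => s * z) '' Z := by
    apply Set.Subset.antisymm
    · intro x hx
      induction hx using Subgroup.closure_induction_left with
      | one => exact Or.inl Z.one_mem
      | mul_left x hx y _ ih =>
        have key : ∀ y, (y ∈ (Z : Set G) ∪ (fun z => s * z) '' Z) →
            (s * y ∈ (Z : Set G) ∪ (fun z => s * z) '' Z) ∧
            (t * y ∈ (Z : Set G) ∪ (fun z => s * z) '' Z) := by
          intro y hy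
          rcases hy with hy | ⟨z, hz, rfl⟩
          · refine ⟨Or.inr ⟨y, hy, rfl⟩, Or.inr ⟨c * y, ?_, ?_⟩⟩
            · exact Z.mul_mem (Subgroup.mem_zpowers c) hy
            · show s * (c * y) = t * y
              rw [← mul_assoc, ← hts]
          · refine ⟨Or.inl ?_, Or.inl ?_⟩
            · show s * (s * z) ∈ Z
              rw [← mul_assoc, hs, one_mul]; exact hz
            · show t * (s * z) ∈ Z
              have : t * s = c⁻¹ := by rw [hc, mul_inv_rev, hsinv, htinv]
              rw [← mul_assoc, this]
              exact Z.mul_mem (Z.inv_mem (Subgroup.mem_zpowers c)) hz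
        rcases hx with rfl | hx
        · exact (key y ih).1
        · rw [Set.mem_singleton_iff] at hx; subst hx; exact (key y ih).2
      | inv_mul_cancel x hx y _ ih =>
        have key : ∀ y, (y ∈ (Z : Set G) ∪ (fun z => s * z) '' Z) →
            (s * y ∈ (Z : Set G) ∪ (fun z => s * z) '' Z) ∧
            (t * y ∈ (Z : Set G) ∪ (fun z => s * z) '' Z) := by
          intro y hy
          rcases hy with hy | ⟨z, hz, rfl⟩
          · refine ⟨Or.inr ⟨y, hy, rfl⟩, Or.inr ⟨c * y, ?_, ?_⟩⟩
            · exact Z.mul_mem (Subgroup.mem_zpowers c) hy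
            · show s * (c * y) = t * y
              rw [← mul_assoc, ← hts]
          · refine ⟨Or.inl ?_, Or.inl ?_⟩
            · show s * (s * z) ∈ Z
              rw [← mul_assoc, hs, one_mul]; exact hz
            · show t * (s * z) ∈ Z
              have : t * s = c⁻¹ := by rw [hc, mul_inv_rev, hsinv, htinv]
              rw [← mul_assoc, this]
              exact Z.mul_mem (Z.inv_mem (Subgroup.mem_zpowers c)) hz
        rcases hx with rfl | hx
        · rw [hsinv]; exact (key y ih).1
        · rw [Set.mem_singleton_iff] at hx; subst hx; rw [htinv]; exact (key y ih).2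
    · have hsH : s ∈ Subgroup.closure ({s, t} : Set G) := Subgroup.subset_closure (by simp)
      have htH : t ∈ Subgroup.closure ({s, t} : Set G) := Subgroup.subset_closure (by simp)
      have hcH : c ∈ Subgroup.closure ({s, t} : Set G) := Subgroup.mul_mem _ hsH htH
      have hZH : Z ≤ Subgroup.closure ({s, t} : Set G) := by
        rw [hZ, Subgroup.zpowers_le]; exact hcH
      rintro x (hx | ⟨z, hz, rfl⟩)
      · exact hZH hx
      · exact Subgroup.mul_mem _ hsH (hZH hz)
  have hdisj : Disjoint (Z : Set G) ((fun z => s * z) '' Z) := by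
    rw [Set.disjoint_left]
    rintro x hx ⟨z, hz, hxz⟩
    apply hsZ
    have : s = x * z⁻¹ := by rw [← hxz, mul_assoc, mul_inv_cancel, mul_one]
    rw [this]
    exact Z.mul_mem hx (Z.inv_mem hz)
  have h1 : Nat.card (Subgroup.closure ({s, t} : Set G)) =
      Set.ncard ((Subgroup.closure ({s, t} : Set G) : Set G)) := (_root_.Nat.card_coe_set_eq _)
  rw [h1, hT, Set.ncard_union_eq hdisj hZfin' (hZfin'.image _),
    Set.ncard_image_of_injective _ (mul_right_injective s)]
  have h2 : Set.ncard (Z : Set G) = Nat.card Z := (_root_.Nat.card_coe_set_eq _).symm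
  rw [h2, hcard]
  omega


/-- An element of the group generated by two reflections moves every vector by an element of the
span of the two roots. -/
theorem smul_sub_mem_span {ι M N : Type*} [AddCommGroup M] [AddCommGroup N]
    (P : RootPairing ι ℤ M N) (i j : ι) {g : P.Aut}
    (hg : g ∈ Subgroup.closure ({RootPairing.Equiv.reflection P i, RootPairing.Equiv.reflection P j} : Set P.Aut))
    (x : M) : g • x - x ∈ Submodule.span ℤ ({P.root i, P.root j} : Set M) := by
  induction hg using Subgroup.closure_induction generalizing x with
  | mem g hg =>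
    rcases hg with rfl | hg
    · rw [RootPairing.Equiv.reflection_smul, RootPairing.reflection_apply, sub_sub_cancel_left]
      exact neg_mem (Submodule.smul_mem _ _ (Submodule.subset_span (by simp)))
    · rw [Set.mem_singleton_iff] at hg
      subst hg
      rw [RootPairing.Equiv.reflection_smul, RootPairing.reflection_apply, sub_sub_cancel_left]
      exact neg_mem (Submodule.smul_mem _ _ (Submodule.subset_span (by simp)))
  | one => simp
  | mul g₁ g₂ _ _ ih₁ ih₂ =>
    have h : (g₁ * g₂) • x - x = (g₁ • (g₂ • x) - g₂ • x) + (g₂ • x - x) := by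
      rw [mul_smul]; abel
    rw [h]
    exact add_mem (ih₁ _) (ih₂ _)
  | inv g _ ih =>
    have h : g⁻¹ • x - x = -(g • (g⁻¹ • x) - g⁻¹ • x) := by
      rw [smul_inv_smul]; abel
    rw [h]
    exact neg_mem (ih _)

/-- An element of the group generated by the reflections in two linearly independent roots which
fixes both roots is trivial. -/
theorem eq_one_of_fix {ι M N : Type*} [AddCommGroup M] [AddCommGroup N]
    (P : RootPairing ι ℤ M N) [Finite ι] (i j : ι)
    (hli : LinearIndependent ℤ ![P.root i, P.root j]) (g : P.Aut)
    (hg : g ∈ Subgroup.closure ({RootPairing.Equiv.reflection P i, RootPairing.Equiv.reflection P j} : Set P.Aut))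
    (hi : g • i = i) (hj : g • j = j) : g = 1 := by
  have hM : IsAddTorsionFree M := by
    have : Module.IsReflexive ℤ M := Module.IsReflexive.of_isPerfPair P.toLinearMap
    exact IsAddTorsionFree.of_isTorsionFree ℤ M
  have hcw : P.coxeterWeight i j ≠ 4 := P.coxeterWeight_ne_four_of_linearIndependent hli
  have hfixco : ∀ k : ι, g • k = k → ∀ x : M, P.toLinearMap (g • x - x) (P.coroot k) = 0 := by
    intro k hk x
    have hidx : g.indexEquiv k = k := hk
    have hidx' : g.indexEquiv.symm k = k := by
      conv_lhs => rw [← hidx]
      simp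
    have hcoroot : g.coweightMap (P.coroot k) = P.coroot k := by
      rw [RootPairing.Hom.coroot_coweightMap_apply P P k g.toHom, hidx']
    have h2 := LinearMap.congr_fun
      (RootPairing.Hom.weight_coweight_transpose_apply P P (P.coroot k) g.toHom) x
    have h3 : P.toLinearMap (g • x) (P.coroot k) = P.toLinearMap x (g.coweightMap (P.coroot k)) :=
      h2
    rw [hcoroot] at h3
    rw [map_sub, LinearMap.sub_apply]
    exact sub_eq_zero.mpr h3
  have hfix : ∀ x : M, g • x = x := by
    intro x
    have hy := smul_sub_mem_span P i j hg x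
    obtain ⟨a, b, hab⟩ := Submodule.mem_span_pair.mp hy
    have h1 := hfixco i hi x
    have h2 := hfixco j hj x
    rw [← hab] at h1 h2
    simp only [map_add, map_smul, LinearMap.add_apply, LinearMap.smul_apply,
      RootPairing.root_coroot_eq_pairing, RootPairing.pairing_same, smul_eq_mul] at h1 h2
    have hcw' : P.pairing i j * P.pairing j i ≠ 4 := hcw
    have ha : a = 0 := by
      by_contra ha
      apply hcw'
      have : a * (P.pairing i j * P.pairing j i) = a * 4 := by
        have e1 : b * P.pairing j i = -(a * 2) := by linarith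
        have e2 : b * 2 = -(a * P.pairing i j) := by linarith
        calc a * (P.pairing i j * P.pairing j i) = (a * P.pairing i j) * P.pairing j i := by ring
          _ = -(b * 2) * P.pairing j i := by rw [e2]; ring
          _ = -2 * (b * P.pairing j i) := by ring
          _ = a * 4 := by rw [e1]; ring
      exact mul_left_cancel₀ ha this
    have hb : b = 0 := by
      rw [ha] at h2
      linarith
    rw [ha, hb] at hab
    simp only [zero_smul, add_zero] at hab
    exact sub_eq_zero.mp hab.symm
  apply RootPairing.Equiv.weightHom_injective P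
  ext x
  exact hfix x

theorem refl_ne_one {ι M N : Type*} [AddCommGroup M] [AddCommGroup N]
    (P : RootPairing ι ℤ M N) (i : ι) : RootPairing.Equiv.reflection P i ≠ 1 := by
  intro h
  have hM : IsAddTorsionFree M := by
    have : Module.IsReflexive ℤ M := Module.IsReflexive.of_isPerfPair P.toLinearMap
    exact IsAddTorsionFree.of_isTorsionFree ℤ M
  have h1 : RootPairing.Equiv.reflection P i • P.root i = P.root i := by rw [h, one_smul]
  rw [RootPairing.Equiv.reflection_smul, P.reflection_apply_self] at h1
  have h2 : (2 : ℤ) • P.root i = 0 := by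
    rw [two_smul]
    nth_rewrite 1 [← h1]
    exact neg_add_cancel _
  have := (smul_eq_zero_iff_right (two_ne_zero : (2 : ℤ) ≠ 0)).mp h2
  exact P.ne_zero i this

/-- For non-proportional roots α, β let n be the least integer n > 0 with (s_α s_β)^n(α) = α and (s_α
s_β)^n(β) = β. Then the subgroup W_{α,β} generated by s_α and s_β is presented by s_α² = s_β² = (s_α
s_β)^n = 1; equivalently it has exactly 2n elements. -/
theorem result {ι M N : Type*} [AddCommGroup M] [AddCommGroup N]
    (P : RootPairing ι ℤ M N) [Finite ι] (i j : ι) (hli : LinearIndependent ℤ ![P.root i, P.root j])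
    (n : ℕ) (hn : IsLeast {m : ℕ | 0 < m ∧ ((Equiv.reflection P i * Equiv.reflection P j) ^ m) • i = i ∧
      ((Equiv.reflection P i * Equiv.reflection P j) ^ m) • j = j} n) :
    Nat.card (Subgroup.closure ({Equiv.reflection P i, Equiv.reflection P j} : Set P.Aut)) = 2 * n := by
  have hsH : RootPairing.Equiv.reflection P i ∈ Subgroup.closure
      ({RootPairing.Equiv.reflection P i, RootPairing.Equiv.reflection P j} : Set P.Aut) :=
    Subgroup.subset_closure (by simp)
  have htH : RootPairing.Equiv.reflection P j ∈ Subgroup.closure
      ({RootPairing.Equiv.reflection P i, RootPairing.Equiv.reflection P j} : Set P.Aut) :=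
    Subgroup.subset_closure (by simp)
  have hnpos : 0 < n := hn.1.1
  have hord : orderOf (RootPairing.Equiv.reflection P i * RootPairing.Equiv.reflection P j) = n := by
    rw [orderOf_eq_iff hnpos]
    constructor
    · exact eq_one_of_fix P i j hli _ (Subgroup.pow_mem _ (Subgroup.mul_mem _ hsH htH) n)
        hn.1.2.1 hn.1.2.2
    · intro m hmn hm h1
      have : n ≤ m := hn.2 ⟨hm, by rw [h1, one_smul], by rw [h1, one_smul]⟩
      omega
  have := card_closure_pair (RootPairing.Equiv.reflection P i) (RootPairing.Equiv.reflection P j)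
    (Groth.Agent.S2953.refl_mul_self P i) (Groth.Agent.S2953.refl_mul_self P j)
    (refl_ne_one P i) (refl_ne_one P j) (by rw [hord]; exact hnpos)
  rw [hord] at this
  exact this

end Groth.Agent.S5496
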