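import Groth.Statements.S5499
import Groth.Agent.Lib.RootDIrr

set_option autoImplicit false
open RootD

namespace Groth.Agent.S5499

/-- For an irreducible datum, where long(α) = ℓ(α)/ℓ(α₀) with ℓ(α₀) minimal: there is a unique
homomorphism u : Γ_0(R) → M^v with u(α) = long(α) α^v for every root α. -/
theorem result {ι M N : Type*} [AddCommGroup M] [AddCommGroup N]
    (P : RootPairing ι ℤ M N) [Finite ι] [Fintype ι]
    (hirr : ∀ R' : Set ι, RootD.IsClosedSub P R' → RootD.IsSymmSub P R' → RootD.IsClosedSub P R'ᶜ →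
      RootD.IsSymmSub P R'ᶜ → R' = ∅ ∨ R' = Set.univ)
    (i₀ : ι) (hmin : ∀ i : ι, P.RootForm (P.root i₀) (P.root i₀) ≤ P.RootForm (P.root i) (P.root i)) :
    ∃! u : Submodule.span ℤ (Set.range P.root) →+ N, ∀ i : ι,
      u ⟨P.root i, Submodule.subset_span (Set.mem_range_self i)⟩ =
        (P.RootForm (P.root i) (P.root i) / P.RootForm (P.root i₀) (P.root i₀)) • P.coroot i := by
  classical
  have hN : IsAddTorsionFree N := by
    have : Module.IsReflexive ℤ N := Module.IsReflexive.of_isPerfPair P.flip.toLinearMap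
    exact IsAddTorsionFree.of_isTorsionFree ℤ N
  set l0 : ℤ := P.RootForm (P.root i₀) (P.root i₀) with hl0
  have hl0pos : 0 < l0 := Groth.Agent.Lib.RootDForm.rootForm_root_self_pos P i₀
  have hl0ne : l0 ≠ 0 := hl0pos.ne'
  have hdvd : ∀ i : ι, l0 ∣ P.RootForm (P.root i) (P.root i) := by
    intro i
    rcases Groth.Agent.Lib.RootDIrr.ratio_of_irr P hirr i₀ i (hmin i) with h | h | h | h <;>
      rw [h]
    · exact Dvd.intro_left _ rfl
    · exact Dvd.intro_left _ rfl
    · exact Dvd.intro_left _ rfl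
  have hroot : ∀ i : ι, l0 • ((P.RootForm (P.root i) (P.root i) / l0) • P.coroot i) =
      (2 : ℤ) • P.Polarization (P.root i) := by
    intro i
    rw [smul_smul, Int.mul_ediv_cancel' (hdvd i), P.rootForm_self_smul_coroot i]
    simp [two_smul]
  have hinj : ∀ n n' : N, l0 • n = l0 • n' → n = n' := by
    intro n n' h
    exact (smul_right_injective N hl0ne) h
  have hex : ∀ x : M, x ∈ Submodule.span ℤ (Set.range P.root) →
      ∃ n : N, l0 • n = (2 : ℤ) • P.Polarization x := by
    intro x hx
    induction hx using Submodule.span_induction with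
    | mem x hx =>
      obtain ⟨i, rfl⟩ := hx
      exact ⟨_, hroot i⟩
    | zero => exact ⟨0, by simp⟩
    | add x y _ _ hx hy =>
      obtain ⟨n, hn⟩ := hx
      obtain ⟨n', hn'⟩ := hy
      exact ⟨n + n', by rw [smul_add, hn, hn', map_add, smul_add]⟩
    | smul a x _ hx =>
      obtain ⟨n, hn⟩ := hx
      exact ⟨a • n, by rw [smul_comm, hn, map_smul, smul_comm]⟩
  choose f hf using fun x : Submodule.span ℤ (Set.range P.root) => hex x.1 x.2
  let u : Submodule.span ℤ (Set.range P.root) →+ N := AddMonoidHom.mk' f (by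
    intro x y
    apply hinj
    rw [smul_add, hf, hf, hf, Submodule.coe_add, map_add, smul_add])
  have hu : ∀ i : ι, u ⟨P.root i, Submodule.subset_span (Set.mem_range_self i)⟩ =
      (P.RootForm (P.root i) (P.root i) / l0) • P.coroot i := by
    intro i
    apply hinj
    show l0 • f _ = _
    rw [hf, hroot]
  refine ⟨u, hu, ?_⟩
  intro u' hu'
  apply AddMonoidHom.ext
  rintro ⟨x, hx⟩
  induction hx using Submodule.span_induction with
  | mem x hx =>
    obtain ⟨i, rfl⟩ := hx
    rw [hu' i, hu i]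
  | zero =>
    have : (⟨0, Submodule.zero_mem _⟩ : Submodule.span ℤ (Set.range P.root)) = 0 := rfl
    rw [this, map_zero, map_zero]
  | add x y hx hy ihx ihy =>
    have : (⟨x + y, Submodule.add_mem _ hx hy⟩ : Submodule.span ℤ (Set.range P.root)) =
        ⟨x, hx⟩ + ⟨y, hy⟩ := rfl
    rw [this, map_add, map_add, ihx, ihy]
  | smul a x hx ihx =>
    have : (⟨a • x, Submodule.smul_mem _ a hx⟩ : Submodule.span ℤ (Set.range P.root)) =
        a • ⟨x, hx⟩ := rfl
    rw [this, map_zsmul, map_zsmul, ihx]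

end Groth.Agent.S5499
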