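import Groth.Statements.S5500
import Groth.Agent.S5498
import Mathlib.LinearAlgebra.RootSystem.Finite.Nondegenerate

set_option autoImplicit false
open RootD

namespace Groth.Agent.S5500

/-- For a p-morphism between irreducible reduced root data there is a rational constant k with k ·
long(u(α)) = q(α)² · long(α) for every root α; stated as the proportionality q(α)² ℓ(α) ℓ'(u β) =
q(β)² ℓ(β) ℓ'(u α) of the canonical quadratic forms. -/
theorem result {ι M N ι' M' N' : Type*} [AddCommGroup M] [AddCommGroup N] [AddCommGroup M'] [AddCommGroup N']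
    (P : RootPairing ι ℤ M N) (P' : RootPairing ι' ℤ M' N') [Finite ι] [Finite ι'] [Fintype ι] [Fintype ι'] [P.IsReduced] [P'.IsReduced]
    (hirr : ∀ R₁ : Set ι, RootD.IsClosedSub P R₁ → RootD.IsSymmSub P R₁ → RootD.IsClosedSub P R₁ᶜ →
      RootD.IsSymmSub P R₁ᶜ → R₁ = ∅ ∨ R₁ = Set.univ)
    (hirr' : ∀ R₁ : Set ι', RootD.IsClosedSub P' R₁ → RootD.IsSymmSub P' R₁ → RootD.IsClosedSub P' R₁ᶜ →
      RootD.IsSymmSub P' R₁ᶜ → R₁ = ∅ ∨ R₁ = Set.univ)
    (p : ℕ) (hp : 0 < p) (f : M' →ₗ[ℤ] M) (g : N →ₗ[ℤ] N')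
    (hfg : ∀ (m' : M') (n : N), P.toLinearMap (f m') n = P'.toLinearMap m' (g n))
    (u : ι ≃ ι') (q : ι → ℕ) (hq : ∀ i, ∃ e : ℕ, q i = p ^ e)
    (hroot : ∀ i : ι, f (P'.root (u i)) = (q i : ℤ) • P.root i)
    (hcoroot : ∀ i : ι, g (P.coroot i) = (q i : ℤ) • P'.coroot (u i)) (i j : ι) :
    ((q i : ℤ) ^ 2 * P.RootForm (P.root i) (P.root i)) * P'.RootForm (P'.root (u j)) (P'.root (u j)) =
      ((q j : ℤ) ^ 2 * P.RootForm (P.root j) (P.root j)) * P'.RootForm (P'.root (u i)) (P'.root (u i)) := by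
  have hqpos : ∀ i, (0 : ℤ) < q i := by
    intro i
    obtain ⟨e, he⟩ := hq i
    rw [he]
    exact_mod_cast Nat.pow_pos hp
  -- pairing relation
  have hpair : ∀ a b : ι, (q b : ℤ) * P'.pairing (u a) (u b) = (q a : ℤ) * P.pairing a b := by
    intro a b
    have h1 := hfg (P'.root (u a)) (P.coroot b)
    rw [hroot, hcoroot] at h1
    simp only [map_zsmul, LinearMap.smul_apply, smul_eq_mul] at h1
    exact h1.symm
  have hG : ∀ a : ι, P'.RootForm (P'.root (u a)) (P'.root (u a)) ≠ 0 :=
    fun a => P'.toInvariantForm.ne_zero (u a)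
  -- adjacent step
  have hstep : ∀ a b : ι, ¬ P.IsOrthogonal a b →
      ((q a : ℤ) ^ 2 * P.RootForm (P.root a) (P.root a)) * P'.RootForm (P'.root (u b)) (P'.root (u b)) =
      ((q b : ℤ) ^ 2 * P.RootForm (P.root b) (P.root b)) * P'.RootForm (P'.root (u a)) (P'.root (u a)) := by
    intro a b hab
    have hne : P.pairing a b ≠ 0 ∧ P.pairing b a ≠ 0 := by
      by_cases h0 : P.pairing a b = 0
      · exact absurd ⟨h0, P.pairing_eq_zero_iff'.1 h0⟩ hab
      · exact ⟨h0, fun h' => h0 (P.pairing_eq_zero_iff'.1 h')⟩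
    have e1 := P.toInvariantForm.pairing_mul_eq_pairing_mul_swap a b
    have e2 := P'.toInvariantForm.pairing_mul_eq_pairing_mul_swap (u b) (u a)
    simp only [RootPairing.toInvariantForm_form] at e1 e2
    have e3 := hpair a b
    have e4 := hpair b a
    have hne' : P'.pairing (u a) (u b) ≠ 0 := by
      intro h0
      rw [h0, mul_zero] at e3
      exact (mul_ne_zero (hqpos a).ne' hne.1) e3.symm
    apply mul_left_cancel₀ (mul_ne_zero hne.2 hne')
    generalize P.RootForm (P.root a) (P.root a) = la at *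
    generalize P.RootForm (P.root b) (P.root b) = lb at *
    generalize P'.RootForm (P'.root (u a)) (P'.root (u a)) = la' at *
    generalize P'.RootForm (P'.root (u b)) (P'.root (u b)) = lb' at *
    generalize P.pairing a b = pab at *
    generalize P.pairing b a = pba at *
    generalize P'.pairing (u a) (u b) = pab' at *
    generalize P'.pairing (u b) (u a) = pba' at *
    generalize (q a : ℤ) = qa at *
    generalize (q b : ℤ) = qb at *
    -- e1 : pba * la = pab * lb ; e2 : pab' * lb' = pba' * la' ; e3 : qb * pab' = qa * pab ; e4 : qa * pba' = qb * pba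
    calc pba * pab' * (qa ^ 2 * la * lb') = qa ^ 2 * (pba * la) * (pab' * lb') := by ring
      _ = qa ^ 2 * (pab * lb) * (pba' * la') := by rw [e1, e2]
      _ = (qa * pab) * (qa * pba') * lb * la' := by ring
      _ = (qb * pab') * (qb * pba) * lb * la' := by rw [e3, e4]
      _ = pba * pab' * (qb ^ 2 * lb * la') := by ring
  have hlink := Groth.Agent.S5498.linked_of_irr P hirr i j
  induction hlink with
  | refl => rfl
  | @tail b c _ hbc ih =>
    have h2 := hstep b c hbc
    apply mul_left_cancel₀ (hG b)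
    calc P'.RootForm (P'.root (u b)) (P'.root (u b)) * ((q i : ℤ) ^ 2 * P.RootForm (P.root i) (P.root i) * P'.RootForm (P'.root (u c)) (P'.root (u c)))
        = ((q i : ℤ) ^ 2 * P.RootForm (P.root i) (P.root i) * P'.RootForm (P'.root (u b)) (P'.root (u b))) * P'.RootForm (P'.root (u c)) (P'.root (u c)) := by ring
      _ = ((q b : ℤ) ^ 2 * P.RootForm (P.root b) (P.root b) * P'.RootForm (P'.root (u i)) (P'.root (u i))) * P'.RootForm (P'.root (u c)) (P'.root (u c)) := by rw [ih]
      _ = ((q b : ℤ) ^ 2 * P.RootForm (P.root b) (P.root b) * P'.RootForm (P'.root (u c)) (P'.root (u c))) * P'.RootForm (P'.root (u i)) (P'.root (u i)) := by ring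
      _ = ((q c : ℤ) ^ 2 * P.RootForm (P.root c) (P.root c) * P'.RootForm (P'.root (u b)) (P'.root (u b))) * P'.RootForm (P'.root (u i)) (P'.root (u i)) := by rw [h2]
      _ = _ := by ring

end Groth.Agent.S5500
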