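import Groth.Statements.S5501
import Groth.Agent.Lib.RootDZForm
import Mathlib.LinearAlgebra.FreeModule.Finite.Quotient

set_option autoImplicit false
universe u v w
open RootD

namespace Groth.Agent.S5501

/-- Adjoint case; the simply connected case is dual: a semisimple root datum R is adjoint if and only if
every isogeny R' → R is an isomorphism. -/
theorem result {ι : Type u} {M : Type v} {N : Type w} [AddCommGroup M] [AddCommGroup N]
    (P : RootPairing ι ℤ M N) [Finite ι] [Module.Finite ℤ M] [Module.Finite ℤ N]
    (hss : Module.finrank ℤ (Submodule.span ℤ (Set.range P.root)) = Module.finrank ℤ M) :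
    Submodule.span ℤ (Set.range P.root) = ⊤ ↔
      ∀ (ι' : Type u) (M' N' : Type v) [AddCommGroup M'] [AddCommGroup N'] [Finite ι']
        [Module.Finite ℤ M'] [Module.Finite ℤ N'] (P' : RootPairing ι' ℤ M' N') (f : RootPairing.Hom P' P),
        Function.Injective f.weightMap → Finite (M ⧸ LinearMap.range f.weightMap) →
          Function.Bijective f.weightMap := by
  constructor
  · intro htop ι' M' N' _ _ _ _ _ P' f hinj hfin
    refine ⟨hinj, ?_⟩
    rw [← LinearMap.range_eq_top, eq_top_iff, ← htop, Submodule.span_le]
    rintro _ ⟨i, rfl⟩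
    refine ⟨P'.root (f.indexEquiv.symm i), ?_⟩
    rw [RootPairing.Hom.root_weightMap_apply, Equiv.apply_symm_apply]
  · intro h
    have hM : IsAddTorsionFree M := Groth.Agent.Lib.RootDZForm.isAddTorsionFree_weight P
    have hfree : Module.Free ℤ M := inferInstance
    have hfin : Finite (M ⧸ P.rootSpan ℤ) := Submodule.finiteQuotientOfFreeOfRankEq _ hss
    have hb := h ι ↥(P.rootSpan ℤ) (Module.Dual ℤ ↥(P.rootSpan ℤ))
      (Groth.Agent.Lib.RootDZForm.zForm P) (Groth.Agent.Lib.RootDZForm.zFormHom P)
      Subtype.val_injective (by
        show Finite (M ⧸ LinearMap.range (P.rootSpan ℤ).subtype)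
        rw [Submodule.range_subtype]
        exact hfin)
    have hsurj : Function.Surjective (P.rootSpan ℤ).subtype := hb.2
    rw [← LinearMap.range_eq_top, Submodule.range_subtype] at hsurj
    exact hsurj

end Groth.Agent.S5501
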