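import Groth.Statements.S5502
import Groth.Agent.S5485
import Groth.Agent.S5446
import Groth.Agent.S5488
import Groth.Agent.Lib.RootDForm
import Groth.Agent.Lib.RootDBasic
import Mathlib.LinearAlgebra.RootSystem.Finite.Nondegenerate

set_option autoImplicit false
open RootD

namespace Groth.Agent.S5502

/-- The structure of ind(Δ^v): there is `ψ : ι → ι` and `e : ι → ℤ` with `e i ∈ {1,2}`,
`e i = 1` when `coroot i` is indivisible, `e i • coroot (ψ i) = coroot i`, the family
`coroot ∘ ψ` is linearly independent on Δ and `ψ '' Δ` is a simple system of the dual. -/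
theorem exists_psi {ι M N : Type*} [AddCommGroup M] [AddCommGroup N]
    (P : RootPairing ι ℤ M N) [Finite ι] (Δ : Set ι) (hΔ : RootD.IsSimpleSys P Δ) :
    ∃ (ψ : ι → ι) (e : ι → ℤ), (∀ i, e i = 1 ∨ e i = 2) ∧
      (∀ i, RootD.IsIndiv P.flip i → e i = 1) ∧
      (∀ i, e i • P.coroot (ψ i) = P.coroot i) ∧
      LinearIndependent ℤ (fun i : Δ => P.coroot (ψ i)) ∧
      RootD.IsSimpleSys P.flip (ψ '' Δ) := by
  classical
  let _ : Fintype ι := Fintype.ofFinite ι
  have hN : IsAddTorsionFree N := by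
    have : Module.IsReflexive ℤ N := Module.IsReflexive.of_isPerfPair P.flip.toLinearMap
    exact IsAddTorsionFree.of_isTorsionFree ℤ N
  set D : Set ι := {j : ι | ∃ i ∈ Δ, (j = i ∧ RootD.IsIndiv P.flip i) ∨
    (2 : ℤ) • P.coroot j = P.coroot i} with hD
  have hdiv : ∀ i : ι, ¬ RootD.IsIndiv P.flip i → ∃ j, (2 : ℤ) • P.coroot j = P.coroot i := by
    intro i hi
    unfold RootD.IsIndiv at hi
    push Not at hi
    exact hi
  let ψ : ι → ι := fun i => if h : RootD.IsIndiv P.flip i then i else Classical.choose (hdiv i h)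
  have hψ1 : ∀ i, RootD.IsIndiv P.flip i → ψ i = i := fun i h => dif_pos h
  have hψ2 : ∀ i, ¬ RootD.IsIndiv P.flip i → (2 : ℤ) • P.coroot (ψ i) = P.coroot i := by
    intro i h
    simp only [ψ, dif_neg h]
    exact Classical.choose_spec (hdiv i h)
  have hnotindiv : ∀ i j : ι, (2 : ℤ) • P.coroot j = P.coroot i → ¬ RootD.IsIndiv P.flip i :=
    fun i j h hind => hind j h
  have hψD : ∀ i ∈ Δ, ψ i ∈ D := by
    intro i hiΔ
    by_cases hi : RootD.IsIndiv P.flip i
    · exact ⟨i, hiΔ, Or.inl ⟨hψ1 i hi, hi⟩⟩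
    · exact ⟨i, hiΔ, Or.inr (hψ2 i hi)⟩
  have hDimage : D = ψ '' Δ := by
    ext j
    constructor
    · rintro ⟨i, hiΔ, ⟨rfl, hind⟩ | h2⟩
      · exact ⟨j, hiΔ, hψ1 j hind⟩
      · refine ⟨i, hiΔ, ?_⟩
        have h3 := hψ2 i (hnotindiv i j h2)
        rw [← h2] at h3
        exact P.coroot.injective (smul_right_injective N (two_ne_zero : (2 : ℤ) ≠ 0) h3)
    · rintro ⟨i, hiΔ, rfl⟩
      exact hψD i hiΔ
  let e : ι → ℤ := fun i => if RootD.IsIndiv P.flip i then 1 else 2
  let e' : ι → ℤ := fun i => if RootD.IsIndiv P.flip i then 2 else 1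
  have he : ∀ i, e i • P.coroot (ψ i) = P.coroot i := by
    intro i
    by_cases hi : RootD.IsIndiv P.flip i
    · simp only [e, if_pos hi, hψ1 i hi, one_smul]
    · simp only [e, if_neg hi]
      exact hψ2 i hi
  have he' : ∀ i, e' i • P.coroot i = (2 : ℤ) • P.coroot (ψ i) := by
    intro i
    by_cases hi : RootD.IsIndiv P.flip i
    · simp only [e', if_pos hi, hψ1 i hi]
    · simp only [e', if_neg hi, one_smul]
      exact (hψ2 i hi).symm
  have he'ne : ∀ i, e' i ≠ 0 := by
    intro i
    by_cases hi : RootD.IsIndiv P.flip i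
    · simp only [e', if_pos hi]; norm_num
    · simp only [e', if_neg hi]; norm_num
  have hcoΔ : LinearIndependent ℤ (fun i : Δ => P.coroot i) :=
    Groth.Agent.S5485.coroot_linearIndependent P Δ hΔ.linInd
  refine ⟨ψ, e, ?_, ?_, he, ?_, ?_⟩
  · intro i
    by_cases hi : RootD.IsIndiv P.flip i
    · left; simp only [e, if_pos hi]
    · right; simp only [e, if_neg hi]
  · intro i hi
    simp only [e, if_pos hi]
  · rw [Fintype.linearIndependent_iff] at hcoΔ ⊢
    intro g hg i
    have h2 : ∑ i : Δ, (g i * e' i) • P.coroot i = 0 := by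
      have : ∀ i : Δ, (g i * e' (i : ι)) • P.coroot i = (2 : ℤ) • (g i • P.coroot (ψ i)) := by
        intro i
        rw [mul_smul, he', smul_comm]
      rw [Finset.sum_congr rfl (fun i _ => this i), ← Finset.smul_sum, hg, smul_zero]
    have := hcoΔ (fun i => g i * e' (i : ι)) h2 i
    rcases mul_eq_zero.mp this with h | h
    · exact h
    · exact absurd h (he'ne i)
  · rw [← hDimage]
    exact Groth.Agent.S5485.result P Δ hΔ

/-- If β = Σ_{α ∈ Δ} a_α α along a system of simple roots Δ, then ℓ(β) divides 2 a_α ℓ(α), and 2ℓ(β)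
divides it when α^v is indivisible (ℓ the canonical quadratic form). -/
theorem result {ι M N : Type*} [AddCommGroup M] [AddCommGroup N]
    (P : RootPairing ι ℤ M N) [Finite ι] [Fintype ι] (Δ : Set ι) (hΔ : RootD.IsSimpleSys P Δ)
    (k : ι) (c : ι →₀ ℤ) (hc : ↑c.support ⊆ Δ) (hck : Finsupp.linearCombination ℤ P.root c = P.root k)
    (i : ι) (hi : i ∈ Δ) :
    P.RootForm (P.root k) (P.root k) ∣ 2 * c i * P.RootForm (P.root i) (P.root i) ∧
      (RootD.IsIndiv P.flip i → 2 * P.RootForm (P.root k) (P.root k) ∣ 2 * c i * P.RootForm (P.root i) (P.root i)) := by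
  classical
  obtain ⟨ψ, e, he12, heind, he, hli, hss⟩ := Groth.Agent.S5502.exists_psi P Δ hΔ
  -- coroot k is an integer combination of the coroot (ψ i), i ∈ Δ
  have hspan : ∀ x ∈ RootD.natSpan P.flip (ψ '' Δ),
      x ∈ Submodule.span ℤ (Set.range (fun i : Δ => P.coroot (ψ i))) := by
    intro x hx
    unfold RootD.natSpan at hx
    induction hx using AddSubmonoid.closure_induction with
    | mem x hx =>
      obtain ⟨j, ⟨i0, hi0, rfl⟩, rfl⟩ := hx
      exact Submodule.subset_span ⟨⟨i0, hi0⟩, rfl⟩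
    | zero => exact Submodule.zero_mem _
    | add x y _ _ hx hy => exact Submodule.add_mem _ hx hy
  have hk : P.coroot k ∈ Submodule.span ℤ (Set.range (fun i : Δ => P.coroot (ψ i))) := by
    rcases hss.mem_or_neg_mem k with h | h
    · exact hspan _ h
    · have := hspan _ h
      rw [← neg_neg (P.coroot k)]
      exact Submodule.neg_mem _ this
  obtain ⟨m, hm⟩ := (Submodule.mem_span_range_iff_exists_fun ℤ).mp hk
  -- apply 2 • Polarization to the expansion of root k
  have hsum : Finsupp.linearCombination ℤ P.root c = ∑ j : Δ, c j • P.root j := by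
    rw [Finsupp.linearCombination_apply, Finsupp.sum]
    have h1 : ∑ j ∈ c.support, c j • P.root j = ∑ j ∈ Δ.toFinset, c j • P.root j := by
      apply Finset.sum_subset
      · intro j hj
        exact Set.mem_toFinset.mpr (hc hj)
      · intro j _ hj
        rw [Finsupp.notMem_support_iff.mp hj, zero_smul]
    rw [h1]
    exact (Finset.sum_subtype (p := fun j => j ∈ Δ) Δ.toFinset (fun j => Set.mem_toFinset)
      (fun j => c j • P.root j))
  have h2 : (2 : ℤ) • P.Polarization (P.root k) =
      ∑ j : Δ, (c j * P.RootForm (P.root j) (P.root j) * e j) • P.coroot (ψ j) := by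
    rw [← hck, hsum, map_sum, Finset.smul_sum]
    apply Finset.sum_congr rfl
    intro j _
    rw [map_smul, smul_comm, Groth.Agent.S5485.two_pol_root, ← he (j : ι), smul_smul, smul_smul]
  rw [Groth.Agent.S5485.two_pol_root, ← hm, Finset.smul_sum] at h2
  have h3 : ∑ j : Δ, (P.RootForm (P.root k) (P.root k) * m j -
      c j * P.RootForm (P.root j) (P.root j) * e j) • P.coroot (ψ j) = 0 := by
    simp only [sub_smul, Finset.sum_sub_distrib]
    rw [sub_eq_zero, ← h2]
    apply Finset.sum_congr rfl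
    intro j _
    rw [smul_smul]
  have h4 := (Fintype.linearIndependent_iff.mp hli) _ h3 ⟨i, hi⟩
  have h5 : P.RootForm (P.root k) (P.root k) * m ⟨i, hi⟩ =
      c i * P.RootForm (P.root i) (P.root i) * e i := by
    have := sub_eq_zero.mp h4
    exact this
  constructor
  · rcases he12 i with h | h
    · refine ⟨2 * m ⟨i, hi⟩, ?_⟩
      rw [h, mul_one] at h5
      rw [mul_assoc, ← h5]
      ring
    · refine ⟨m ⟨i, hi⟩, ?_⟩
      rw [h] at h5
      rw [h5]
      ring
  · intro hind
    have h := heind i hind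
    refine ⟨m ⟨i, hi⟩, ?_⟩
    rw [h, mul_one] at h5
    rw [mul_assoc, ← h5]
    ring

end Groth.Agent.S5502
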