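import Groth.Statements.S5503
-- import your own Groth.Agent.* helpers here

set_option autoImplicit false
open RootPairing
open scoped Pointwise
open RootD

namespace Groth.Agent.S5503

/-- For an automorphism u of a root datum and a root α, u s_α u⁻¹ = s_{u(α)}; hence W(R) is a normal
subgroup of Aut(R). -/
theorem result {ι M N : Type*} [AddCommGroup M] [AddCommGroup N]
    (P : RootPairing ι ℤ M N) [Finite ι] (u : P.Aut) (i : ι) :
    u * Equiv.reflection P i * u⁻¹ = Equiv.reflection P (u • i) := by
  rw [mul_inv_eq_iff_eq_mul]
  have hroot : ∀ j, u.weightMap (P.root j) = P.root (u.indexEquiv j) :=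
    fun j => Hom.root_weightMap_apply P P j u.toHom
  have hcoroot : ∀ j, u.coweightMap (P.coroot (u.indexEquiv j)) = P.coroot j := fun j => by
    have := Hom.coroot_coweightMap_apply P P (u.indexEquiv j) u.toHom
    simpa using this
  have hpair : ∀ (m : M) (n : N), P.toLinearMap (u.weightMap m) n = P.toLinearMap m (u.coweightMap n) :=
    fun m n => by
      have := Hom.weight_coweight_transpose_apply P P n u.toHom
      have := LinearMap.congr_fun this m
      simpa using this
  have hw : ∀ x : M, u.weightMap (P.reflection i x) = P.reflection (u.indexEquiv i) (u.weightMap x) := by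
    intro x
    rw [RootPairing.reflection_apply, RootPairing.reflection_apply, map_sub, map_smul, hroot]
    have : P.coroot' (u.indexEquiv i) (u.weightMap x) = P.coroot' i x := by
      change P.toLinearMap (u.weightMap x) (P.coroot (u.indexEquiv i)) = P.toLinearMap x (P.coroot i)
      rw [hpair, hcoroot]
    rw [this]
  have hsmul : u • i = u.indexEquiv i := rfl
  rw [hsmul]
  refine RootPairing.Equiv.ext ?_ ?_ ?_
  · apply LinearMap.ext
    intro x
    exact hw x
  · apply LinearMap.ext
    intro y
    change P.coreflection i (u.coweightMap y) = u.coweightMap (P.coreflection (u.indexEquiv i) y)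
    rw [RootPairing.coreflection_apply, RootPairing.coreflection_apply, map_sub, map_smul, hcoroot]
    have : P.root' (u.indexEquiv i) y = P.root' i (u.coweightMap y) := by
      change P.toLinearMap (P.root (u.indexEquiv i)) y = P.toLinearMap (P.root i) (u.coweightMap y)
      rw [← hpair, hroot]
    rw [this]
  · apply _root_.Equiv.ext
    intro j
    apply P.root.injective
    change P.root (u.indexEquiv (P.reflectionPerm i j)) =
      P.root (P.reflectionPerm (u.indexEquiv i) (u.indexEquiv j))
    rw [← hroot, RootPairing.root_reflectionPerm, RootPairing.root_reflectionPerm, hw, hroot]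

end Groth.Agent.S5503
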