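import Groth.Statements.S5504
import Groth.Agent.Lib.RootDWord

set_option autoImplicit false
open RootPairing
open scoped Pointwise
open RootD

namespace Groth.Agent.S5504

/-- Stated for the group generated by the simple reflections (rather than for the abstractly presented
group): if w = s_{α_1} ⋯ s_{α_m} is a word of minimal length in the simple reflections, then w(α_m)
is a negative root. -/
theorem result {ι M N : Type*} [AddCommGroup M] [AddCommGroup N]
    (P : RootPairing ι ℤ M N) [Finite ι] (Δ : Set ι) (hΔ : RootD.IsSimpleSys P Δ)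
    (l : List ι) (hl : ∀ a ∈ l, a ∈ Δ) (hne : l ≠ [])
    (hmin : ∀ l' : List ι, (∀ a ∈ l', a ∈ Δ) →
      (l'.map fun a => Equiv.reflection P a).prod = (l.map fun a => Equiv.reflection P a).prod → l.length ≤ l'.length) :
    -P.root ((l.map fun a => Equiv.reflection P a).prod • l.getLast hne) ∈ RootD.natSpan P Δ := by
  have hl_eq : l = l.dropLast ++ [l.getLast hne] := (List.dropLast_append_getLast hne).symm
  have ha : l.getLast hne ∈ Δ := hl _ (List.getLast_mem hne)
  have hm : ∀ c ∈ l.dropLast, c ∈ Δ := fun c hc => hl c (List.dropLast_subset l hc)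
  have hwl : (l.map fun a => Equiv.reflection P a).prod
      = Groth.Agent.S2953.wprod P l.dropLast * Equiv.reflection P (l.getLast hne) := by
    conv_lhs => rw [hl_eq]
    simp [Groth.Agent.S2953.wprod]
  have hmin' : ∀ l' : List ι, (∀ c ∈ l', c ∈ Δ) →
      Groth.Agent.S2953.wprod P l' = Groth.Agent.S2953.wprod P (l.dropLast ++ [l.getLast hne]) →
      (l.dropLast ++ [l.getLast hne]).length ≤ l'.length := by
    intro l' hl' h
    rw [← hl_eq] at h ⊢
    exact hmin l' hl' h
  have hpos : Groth.Agent.S2953.wprod P l.dropLast • l.getLast hne ∈ RootD.posOf P Δ :=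
    Groth.Agent.Lib.RootDWord.pos_of_minimal P hΔ _ _ hm ha hmin'
  rw [hwl, mul_smul, Groth.Agent.S2953.smul_idx, Groth.Agent.S2953.smul_neg_idx,
    Groth.Agent.Lib.RootDBasic.root_reflectionPerm_self, neg_neg]
  exact hpos

end Groth.Agent.S5504
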