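import Groth.Statements.S5505
import Mathlib.LinearAlgebra.RootSystem.Finite.Lemmas

set_option autoImplicit false
open RootD

namespace Groth.Agent.S5505

/-- A subset of roots which, together with its complement, is closed and symmetric contains with any
root every root not orthogonal to it; so it is a union of irreducible components. -/
theorem result {ι M N : Type*} [AddCommGroup M] [AddCommGroup N]
    (P : RootPairing ι ℤ M N) [Finite ι] (R' : Set ι) (hc : RootD.IsClosedSub P R')
    (hs : RootD.IsSymmSub P R') (hc' : RootD.IsClosedSub P R'ᶜ) (hs' : RootD.IsSymmSub P R'ᶜ)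
    (i j : ι) (hi : i ∈ R') (hij : ¬ P.IsOrthogonal i j) : j ∈ R' := by
  have key : ∀ j' : ι, j' ∈ R'ᶜ → ¬ (0 < P.pairing i j') := by
    intro j' hj' hpos
    have hne : i ≠ j' := fun h => hj' (h ▸ hi)
    have hpos' : 0 < P.pairingIn ℤ i j' := by
      have := P.algebraMap_pairingIn ℤ i j'
      simp only [algebraMap_int_eq, eq_intCast, Int.cast_id] at this
      rwa [this]
    obtain ⟨k, hk⟩ := P.root_sub_root_mem_of_pairingIn_pos hpos' hne
    by_cases hkR : k ∈ R'
    · apply hj'
      refine hc hi (hs hkR) ?_
      rw [RootPairing.root_reflectionPerm, RootPairing.reflection_apply_self, hk]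
      abel
    · have : i ∈ R'ᶜ := hc' hkR hj' (by rw [hk]; abel)
      exact this hi
  by_contra hj
  have hj' : j ∈ R'ᶜ := hj
  have h1 := key j hj'
  have h2 := key (P.reflectionPerm j j) (hs' hj')
  rw [RootPairing.pairing_reflectionPerm_self_right] at h2
  have h0 : P.pairing i j = 0 := by omega
  apply hij
  exact ⟨h0, (P.pairing_eq_zero_iff' (i := i) (j := j)).mp h0⟩

end Groth.Agent.S5505
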