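import Groth.Statements.S5506
-- import your own Groth.Agent.* helpers here

set_option autoImplicit false
open RootD

namespace Groth.Agent.S5506

/-- The class of a root under 'joined by a chain of pairwise non-orthogonal roots' is closed and
symmetric, and so is its complement; these classes are the irreducible components. -/
theorem result {ι M N : Type*} [AddCommGroup M] [AddCommGroup N]
    (P : RootPairing ι ℤ M N) [Finite ι] (i : ι) :
    RootD.IsClosedSub P {j : ι | Relation.ReflTransGen (fun a b : ι => ¬ P.IsOrthogonal a b) i j} ∧
      RootD.IsSymmSub P {j : ι | Relation.ReflTransGen (fun a b : ι => ¬ P.IsOrthogonal a b) i j} ∧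
      RootD.IsClosedSub P {j : ι | Relation.ReflTransGen (fun a b : ι => ¬ P.IsOrthogonal a b) i j}ᶜ ∧
      RootD.IsSymmSub P {j : ι | Relation.ReflTransGen (fun a b : ι => ¬ P.IsOrthogonal a b) i j}ᶜ := by
  -- a root is never orthogonal to its opposite
  have hneg : ∀ j : ι, ¬ P.IsOrthogonal j (P.reflectionPerm j j) := by
    intro j h
    have h1 := h.1
    rw [RootPairing.pairing_reflectionPerm_self_right, RootPairing.pairing_same] at h1
    omega
  have hnegneg : ∀ j : ι, P.reflectionPerm (P.reflectionPerm j j) (P.reflectionPerm j j) = j := by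
    intro j
    letI := P.indexNeg
    exact neg_neg j
  -- a sum of two roots is not orthogonal to both
  have hsum : ∀ j k l : ι, P.root l = P.root j + P.root k →
      ¬ P.IsOrthogonal j l ∨ ¬ P.IsOrthogonal k l := by
    intro j k l h
    by_contra hcon
    rw [not_or, not_not, not_not] at hcon
    have h2 : P.pairing l l = P.pairing j l + P.pairing k l := by
      change P.toLinearMap (P.root l) (P.coroot l) =
        P.toLinearMap (P.root j) (P.coroot l) + P.toLinearMap (P.root k) (P.coroot l)
      rw [h, map_add, LinearMap.add_apply]
    rw [RootPairing.pairing_same, hcon.1.1, hcon.2.1] at h2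
    omega
  have hsymm : ∀ j : ι, Relation.ReflTransGen (fun a b : ι => ¬ P.IsOrthogonal a b) i j →
      Relation.ReflTransGen (fun a b : ι => ¬ P.IsOrthogonal a b) i (P.reflectionPerm j j) :=
    fun j hj => Relation.ReflTransGen.tail hj (hneg j)
  refine ⟨?_, ?_, ?_, ?_⟩
  · intro j k l hj hk h
    rcases hsum j k l h with h1 | h1
    · exact Relation.ReflTransGen.tail hj h1
    · exact Relation.ReflTransGen.tail hk h1
  · intro j hj
    exact hsymm j hj
  · intro j k l hj hk h hl
    rcases hsum j k l h with h1 | h1
    · exact hj (Relation.ReflTransGen.tail hl (fun h' => h1 h'.symm))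
    · exact hk (Relation.ReflTransGen.tail hl (fun h' => h1 h'.symm))
  · intro j hj hj'
    apply hj
    have := hsymm _ hj'
    rwa [hnegneg] at this

end Groth.Agent.S5506
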