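import Groth.Statements.S5507
import Mathlib.LinearAlgebra.RootSystem.Finite.Nondegenerate

set_option autoImplicit false
open RootD

namespace Groth.Agent.S5507

/-- For a system of simple roots Δ there are positive integers m_α (the lengths) such that the matrix
(m_α a_{α,β}) with a_{α,β} = (α^v, β) is symmetric and positive definite. -/
theorem result {ι M N : Type*} [AddCommGroup M] [AddCommGroup N]
    (P : RootPairing ι ℤ M N) [Finite ι] (Δ : Finset ι) (hΔ : RootD.IsSimpleSys P (↑Δ : Set ι)) :
    ∃ m : ↥Δ → ℤ, (∀ a, 0 < m a) ∧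
      (Matrix.of fun (a b : ↥Δ) => m a * P.pairing (b : ι) (a : ι)).IsSymm ∧
      (Matrix.of fun (a b : ↥Δ) => m a * P.pairing (b : ι) (a : ι)).PosDef := by
  classical
  cases nonempty_fintype ι
  -- the entries are twice the canonical form
  have hentry : ∀ a b : ι, P.RootForm (P.root a) (P.root a) * P.pairing b a =
      2 * P.RootForm (P.root a) (P.root b) := by
    intro a b
    have h1 := P.rootForm_self_smul_coroot a
    have h2 := congrArg (fun n => P.toLinearMap (P.root b) n) h1
    simp only [map_smul, map_nsmul, P.toLinearMap_apply_apply_Polarization] at h2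
    simpa using h2
  have hsym : ∀ x y : M, P.RootForm x y = P.RootForm y x := fun x y => by
    have := P.rootForm_symmetric.eq x y
    simpa using this
  have hne : ∀ a : ι, P.root a ≠ 0 := fun a => P.ne_zero a
  have hmem : ∀ a : ι, P.root a ∈ P.rootSpan ℤ := fun a => Submodule.subset_span ⟨a, rfl⟩
  have hsymmM : (Matrix.of fun (a b : ↥Δ) =>
      P.RootForm (P.root a) (P.root a) * P.pairing (b : ι) (a : ι)).IsSymm := by
    ext a b
    simp only [Matrix.transpose_apply, Matrix.of_apply]
    rw [hentry, hentry, hsym]
  refine ⟨fun a => P.RootForm (P.root a) (P.root a), fun a => P.rootForm_pos_of_ne_zero (hmem a) (hne a),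
    hsymmM, ?_⟩
  rw [Matrix.posDef_iff_dotProduct_mulVec]
  refine ⟨?_, ?_⟩
  · rw [Matrix.IsHermitian, Matrix.conjTranspose_eq_transpose_of_trivial]
    exact hsymmM
  · intro x hx
    set v : M := ∑ a : ↥Δ, x a • P.root (a : ι) with hv
    have hvne : v ≠ 0 := by
      intro h0
      apply hx
      have hli := hΔ.linInd
      rw [LinearIndepOn, linearIndependent_iff'] at hli
      funext a
      exact hli Finset.univ x h0 a (Finset.mem_univ a)
    have hvmem : v ∈ P.rootSpan ℤ :=
      Submodule.sum_mem _ fun a _ => Submodule.smul_mem _ _ (hmem a)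
    have hpos := P.rootForm_pos_of_ne_zero hvmem hvne
    have : dotProduct (star x) (Matrix.mulVec (Matrix.of fun (a b : ↥Δ) =>
        P.RootForm (P.root a) (P.root a) * P.pairing (b : ι) (a : ι)) x) =
        2 * P.RootForm v v := by
      simp only [dotProduct, Matrix.mulVec, Matrix.of_apply, star_trivial, hentry, hv, map_sum,
        LinearMap.sum_apply, map_smul, LinearMap.smul_apply, smul_eq_mul, Finset.mul_sum]
      rw [Finset.sum_comm]
      refine Finset.sum_congr rfl fun a _ => Finset.sum_congr rfl fun b _ => ?_
      ring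
    rw [this]
    omega

end Groth.Agent.S5507
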