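import Groth.Statements.S5587
import Groth.Agent.Lib.TFinAlg

set_option autoImplicit false
open CategoryTheory CategoryTheory.Limits Opposite
universe u
open ToposFin

namespace Groth.Agent.S5587

/-- For a locally coherent topos of sheaves of sets on a small site (given by a generating set of
quasi-compact objects stable under fibre products): a morphism f : X -> Y is quasi-separated if and
only if for every quasi-separated object Y' over Y the fibre product X x_Y Y' is quasi-separated. -/
theorem result {C : Type u} [SmallCategory C]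
    {J : GrothendieckTopology C} (S : Set (ToposFin.Sh J)) (hqc : ∀ K ∈ S, ToposFin.IsQC K)
    (hgen : ToposFin.IsGenerating S) (hpb : ToposFin.ClosedUnderPullbacks S) {X Y : ToposFin.Sh J} (f : X ⟶ Y) :
    ToposFin.IsQSHom f ↔
      ∀ (Y' : ToposFin.Sh J) (g : Y' ⟶ Y), ToposFin.IsQS Y' → ToposFin.IsQS (pullback f g) := by
  constructor
  · intro hf Y' g hY'
    exact Groth.Agent.Lib.TFin.isQS_of_isQSHom (pullback.snd f g)
      ((Groth.Agent.Lib.TFin.qcHom (J := J)).diagonal.pullback_snd f g hf) hY'
  · intro h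
    obtain ⟨ι, K, π, hK, hπ⟩ := hgen Y
    have hE' := Groth.Agent.Lib.TFinAlg.hasQCGenerators_of_isGenerating S hqc hgen
    refine Groth.Agent.Lib.TFin.isQSHom_of_cover_target hE' f K π
      (Groth.Agent.Lib.TFinAlg.cov_of_jointlyEpi π hπ) (fun i => ?_)
    have hXi : ToposFin.IsQS (pullback f (π i)) :=
      h _ (π i) (Groth.Agent.Lib.TFinAlg.isQS_of_mem S hqc hgen hpb (hK i))
    obtain ⟨κ, L, ρ, hL, hρ⟩ := hgen (pullback f (π i))
    refine Groth.Agent.Lib.TFin.isQSHom_of_cover_with_qs_products hE' (pullback.snd f (π i)) L ρ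
      (Groth.Agent.Lib.TFinAlg.cov_of_jointlyEpi ρ hρ) (fun j => hqc _ (hL j))
      (fun j j' => ?_) hXi
    obtain ⟨P, p, q, hP, sq⟩ := hpb (ρ j ≫ pullback.snd f (π i)) (ρ j' ≫ pullback.snd f (π i))
      (hL j) (hL j') (hK i)
    exact Groth.Agent.Lib.TFin.isQS_of_mono sq.isoPullback.inv
      (Groth.Agent.Lib.TFinAlg.isQS_of_mem S hqc hgen hpb hP)

end Groth.Agent.S5587
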