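import Groth.Statements.S5593
import Groth.Agent.Lib.ShBaseChange61

set_option autoImplicit false
open CategoryTheory CategoryTheory.Limits AlgebraicGeometry Opposite
universe u
open EtDesc

namespace Groth.Agent.S5593

/-- Let X be a scheme, x, x' points of X with strict localisations Spec R -> X and Spec R' -> X (R, R'
strict henselisations of the local rings at x and x'). There is an X-morphism Spec R' -> Spec R,
i.e. the geometric point over x is a specialization of the one over x', if and only if x lies in the
closure of x'. -/
theorem result (X : Scheme.{u}) (x x' : X)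
    (R : Type u) [CommRing R] [IsLocalRing R] [Algebra (X.presheaf.stalk x) R]
    [IsLocalHom (algebraMap (X.presheaf.stalk x) R)] [Hensel.IsStrictHenselization (X.presheaf.stalk x) R]
    (R' : Type u) [CommRing R'] [IsLocalRing R'] [Algebra (X.presheaf.stalk x') R']
    [IsLocalHom (algebraMap (X.presheaf.stalk x') R')] [Hensel.IsStrictHenselization (X.presheaf.stalk x') R'] :
    (∃ g : Spec (CommRingCat.of R') ⟶ Spec (CommRingCat.of R), g ≫ Hens2.specOf X x R = Hens2.specOf X x' R') ↔
      x' ⤳ x := by
  constructor
  · rintro ⟨g, hg⟩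
    -- the closed point of `Spec R'` maps to `x'`
    let c' : ↥(Spec (CommRingCat.of R')) := IsLocalRing.closedPoint R'
    have h1 : (Hens2.specOf X x' R') c' = x' := by
      have e1 : (Spec.map (CommRingCat.ofHom (algebraMap (X.presheaf.stalk x') R'))) c' =
          IsLocalRing.closedPoint (X.presheaf.stalk x') :=
        IsLocalRing.comap_closedPoint (algebraMap (X.presheaf.stalk x') R')
      calc (Hens2.specOf X x' R') c'
          = X.fromSpecStalk x' ((Spec.map (CommRingCat.ofHom
              (algebraMap (X.presheaf.stalk x') R'))) c') := Scheme.Hom.comp_apply _ _ _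
        _ = X.fromSpecStalk x' (IsLocalRing.closedPoint (X.presheaf.stalk x')) := congrArg _ e1
        _ = x' := Scheme.fromSpecStalk_closedPoint
    have h2 : x' ∈ Set.range (X.fromSpecStalk x) := by
      refine ⟨(Spec.map (CommRingCat.ofHom (algebraMap (X.presheaf.stalk x) R))) (g c'), ?_⟩
      rw [← h1, ← hg]
      rfl
    rw [Scheme.range_fromSpecStalk] at h2
    exact h2
  · intro h
    let φ : X.presheaf.stalk x →+* X.presheaf.stalk x' := (X.presheaf.stalkSpecializes h).hom
    let _ : Algebra (X.presheaf.stalk x) (X.presheaf.stalk x') := φ.toAlgebra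
    obtain ⟨γ, hγ⟩ := Groth.Agent.Lib.ShBaseChange61.exists_lift' (X.presheaf.stalk x) R
      (X.presheaf.stalk x') R'
    refine ⟨Spec.map (CommRingCat.ofHom γ), ?_⟩
    have e1 : CommRingCat.ofHom (algebraMap (X.presheaf.stalk x) R) ≫ CommRingCat.ofHom γ =
        X.presheaf.stalkSpecializes h ≫ CommRingCat.ofHom (algebraMap (X.presheaf.stalk x') R') := by
      ext a
      exact congrArg (fun k : X.presheaf.stalk x →+* R' => k a) hγ
    have e2 : Spec.map (CommRingCat.ofHom γ) ≫ Spec.map (CommRingCat.ofHom
        (algebraMap (X.presheaf.stalk x) R)) = Spec.map (CommRingCat.ofHom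
        (algebraMap (X.presheaf.stalk x') R')) ≫ Spec.map (X.presheaf.stalkSpecializes h) := by
      exact (Spec.map_comp _ _).symm.trans ((congrArg Spec.map e1).trans (Spec.map_comp _ _))
    calc Spec.map (CommRingCat.ofHom γ) ≫ Hens2.specOf X x R
        = (Spec.map (CommRingCat.ofHom γ) ≫ Spec.map (CommRingCat.ofHom
            (algebraMap (X.presheaf.stalk x) R))) ≫ X.fromSpecStalk x :=
          (Category.assoc _ _ _).symm
      _ = (Spec.map (CommRingCat.ofHom (algebraMap (X.presheaf.stalk x') R')) ≫
            Spec.map (X.presheaf.stalkSpecializes h)) ≫ X.fromSpecStalk x := by rw [e2]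
      _ = Spec.map (CommRingCat.ofHom (algebraMap (X.presheaf.stalk x') R')) ≫
            (Spec.map (X.presheaf.stalkSpecializes h) ≫ X.fromSpecStalk x) := Category.assoc _ _ _
      _ = Hens2.specOf X x' R' := by rw [Scheme.SpecMap_stalkSpecializes_fromSpecStalk]

end Groth.Agent.S5593
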