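import Groth.Statements.S5594
import Groth.Agent.Lib.ShBaseChange61

set_option autoImplicit false
open CategoryTheory CategoryTheory.Limits AlgebraicGeometry Opposite
universe u
open EtDesc

namespace Groth.Agent.S5594

/-- Let X be a scheme, x, x' points of X with strict localisations Spec R -> X and Spec R' -> X, and ξ'
: Spec κ(R') -> Spec R' the closed point, a geometric point of X over x'. Then restricting along ξ'
is a bijection from the X-morphisms Spec R' -> Spec R (specialization arrows) onto the X-morphisms
from the geometric point Spec κ(R') to Spec R: injectivity and surjectivity are stated separately. -/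
theorem result (X : Scheme.{u}) (x x' : X)
    (R : Type u) [CommRing R] [IsLocalRing R] [Algebra (X.presheaf.stalk x) R]
    [IsLocalHom (algebraMap (X.presheaf.stalk x) R)] [Hensel.IsStrictHenselization (X.presheaf.stalk x) R]
    (R' : Type u) [CommRing R'] [IsLocalRing R'] [Algebra (X.presheaf.stalk x') R']
    [IsLocalHom (algebraMap (X.presheaf.stalk x') R')] [Hensel.IsStrictHenselization (X.presheaf.stalk x') R'] :
    (∀ g₁ g₂ : Spec (CommRingCat.of R') ⟶ Spec (CommRingCat.of R),
      g₁ ≫ Hens2.specOf X x R = Hens2.specOf X x' R' → g₂ ≫ Hens2.specOf X x R = Hens2.specOf X x' R' →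
      Spec.map (CommRingCat.ofHom (IsLocalRing.residue R')) ≫ g₁ =
        Spec.map (CommRingCat.ofHom (IsLocalRing.residue R')) ≫ g₂ → g₁ = g₂) ∧
    (∀ h : Spec (CommRingCat.of (IsLocalRing.ResidueField R')) ⟶ Spec (CommRingCat.of R),
      h ≫ Hens2.specOf X x R = Hens2.geomPt X x' R' →
      ∃ g : Spec (CommRingCat.of R') ⟶ Spec (CommRingCat.of R),
        g ≫ Hens2.specOf X x R = Hens2.specOf X x' R' ∧
        Spec.map (CommRingCat.ofHom (IsLocalRing.residue R')) ≫ g = h) := by
  constructor
  · intro g₁ g₂ hg₁ hg₂ hres
    obtain ⟨γ₁, rfl⟩ := Spec.map_surjective g₁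
    obtain ⟨γ₂, rfl⟩ := Spec.map_surjective g₂
    have e1 : (Spec.map γ₁ ≫ Spec.map (CommRingCat.ofHom (algebraMap (X.presheaf.stalk x) R))) ≫
        X.fromSpecStalk x = (Spec.map γ₂ ≫ Spec.map (CommRingCat.ofHom
          (algebraMap (X.presheaf.stalk x) R))) ≫ X.fromSpecStalk x := by
      rw [Category.assoc, Category.assoc]
      exact hg₁.trans hg₂.symm
    have e2 := (cancel_mono (X.fromSpecStalk x)).mp e1
    have e3 : CommRingCat.ofHom (algebraMap (X.presheaf.stalk x) R) ≫ γ₁ =
        CommRingCat.ofHom (algebraMap (X.presheaf.stalk x) R) ≫ γ₂ := by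
      apply Spec.map_injective
      exact (Spec.map_comp _ _).trans (e2.trans (Spec.map_comp _ _).symm)
    have e4 : γ₁ ≫ CommRingCat.ofHom (IsLocalRing.residue R') =
        γ₂ ≫ CommRingCat.ofHom (IsLocalRing.residue R') := by
      apply Spec.map_injective
      exact (Spec.map_comp _ _).trans (hres.trans (Spec.map_comp _ _).symm)
    have e5 : γ₁.hom = γ₂.hom := by
      apply Groth.Agent.Lib.ShBaseChange61.ringHom_ext_of_residue (A := X.presheaf.stalk x)
      · ext a
        exact congrArg (fun k : CommRingCat.of (X.presheaf.stalk x) ⟶ CommRingCat.of R' =>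
          k.hom a) e3
      · ext a
        exact congrArg (fun k : CommRingCat.of R ⟶ CommRingCat.of (IsLocalRing.ResidueField R') =>
          k.hom a) e4
    have e6 : γ₁ = γ₂ := CommRingCat.hom_ext e5
    rw [e6]
  · intro h hh
    obtain ⟨η, rfl⟩ := Spec.map_surjective h
    -- first: `x' ⤳ x`
    let c' : ↥(Spec (CommRingCat.of (IsLocalRing.ResidueField R'))) :=
      IsLocalRing.closedPoint (IsLocalRing.ResidueField R')
    have h1 : (Hens2.geomPt X x' R') c' = x' := by
      have e0 : (Spec.map (CommRingCat.ofHom (IsLocalRing.residue R'))) c' =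
          IsLocalRing.closedPoint R' :=
        IsLocalRing.comap_closedPoint (IsLocalRing.residue R')
      have e1 : (Spec.map (CommRingCat.ofHom (algebraMap (X.presheaf.stalk x') R')))
          (IsLocalRing.closedPoint R') = IsLocalRing.closedPoint (X.presheaf.stalk x') :=
        IsLocalRing.comap_closedPoint (algebraMap (X.presheaf.stalk x') R')
      calc (Hens2.geomPt X x' R') c'
          = (Hens2.specOf X x' R') ((Spec.map (CommRingCat.ofHom (IsLocalRing.residue R'))) c') :=
            Scheme.Hom.comp_apply _ _ _
        _ = (Hens2.specOf X x' R') (IsLocalRing.closedPoint R') := congrArg _ e0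
        _ = X.fromSpecStalk x' ((Spec.map (CommRingCat.ofHom
              (algebraMap (X.presheaf.stalk x') R'))) (IsLocalRing.closedPoint R')) :=
            Scheme.Hom.comp_apply _ _ _
        _ = X.fromSpecStalk x' (IsLocalRing.closedPoint (X.presheaf.stalk x')) := congrArg _ e1
        _ = x' := Scheme.fromSpecStalk_closedPoint
    have h2 : x' ∈ Set.range (X.fromSpecStalk x) := by
      refine ⟨(Spec.map (CommRingCat.ofHom (algebraMap (X.presheaf.stalk x) R)))
        ((Spec.map η) c'), ?_⟩
      rw [← h1, ← hh]
      rfl
    rw [Scheme.range_fromSpecStalk] at h2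
    have hsp : x' ⤳ x := h2
    let φ : X.presheaf.stalk x →+* X.presheaf.stalk x' := (X.presheaf.stalkSpecializes hsp).hom
    let _ : Algebra (X.presheaf.stalk x) (X.presheaf.stalk x') := φ.toAlgebra
    -- the compatibility of `η`
    have e1 : (Spec.map η ≫ Spec.map (CommRingCat.ofHom (algebraMap (X.presheaf.stalk x) R))) ≫
        X.fromSpecStalk x = (Spec.map (CommRingCat.ofHom (IsLocalRing.residue R')) ≫
          Spec.map (CommRingCat.ofHom (algebraMap (X.presheaf.stalk x') R')) ≫
          Spec.map (X.presheaf.stalkSpecializes hsp)) ≫ X.fromSpecStalk x := by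
      rw [Category.assoc, Category.assoc, Category.assoc,
        Scheme.SpecMap_stalkSpecializes_fromSpecStalk]
      exact hh
    have e2 := (cancel_mono (X.fromSpecStalk x)).mp e1
    have e3 : CommRingCat.ofHom (algebraMap (X.presheaf.stalk x) R) ≫ η =
        X.presheaf.stalkSpecializes hsp ≫ CommRingCat.ofHom (algebraMap (X.presheaf.stalk x') R') ≫
          CommRingCat.ofHom (IsLocalRing.residue R') := by
      apply Spec.map_injective
      refine (Spec.map_comp _ _).trans (e2.trans ?_)
      exact ((Spec.map_comp _ _).trans ((congrArg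
        (fun k => k ≫ Spec.map (X.presheaf.stalkSpecializes hsp)) (Spec.map_comp _ _)).trans
        (Category.assoc _ _ _))).symm
    have hη : η.hom.comp (algebraMap (X.presheaf.stalk x) R) =
        ((IsLocalRing.residue R').comp (algebraMap (X.presheaf.stalk x') R')).comp
          (algebraMap (X.presheaf.stalk x) (X.presheaf.stalk x')) := by
      ext a
      exact congrArg (fun k : CommRingCat.of (X.presheaf.stalk x) ⟶
        CommRingCat.of (IsLocalRing.ResidueField R') => k.hom a) e3
    obtain ⟨γ, hγ1, hγ2⟩ := Groth.Agent.Lib.ShBaseChange61.exists_lift (X.presheaf.stalk x) R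
      (X.presheaf.stalk x') R' η.hom hη
    refine ⟨Spec.map (CommRingCat.ofHom γ), ?_, ?_⟩
    · have e4 : CommRingCat.ofHom (algebraMap (X.presheaf.stalk x) R) ≫ CommRingCat.ofHom γ =
          X.presheaf.stalkSpecializes hsp ≫
            CommRingCat.ofHom (algebraMap (X.presheaf.stalk x') R') := by
        ext a
        exact congrArg (fun k : X.presheaf.stalk x →+* R' => k a) hγ1
      have e5 : Spec.map (CommRingCat.ofHom γ) ≫ Spec.map (CommRingCat.ofHom
          (algebraMap (X.presheaf.stalk x) R)) = Spec.map (CommRingCat.ofHom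
          (algebraMap (X.presheaf.stalk x') R')) ≫ Spec.map (X.presheaf.stalkSpecializes hsp) :=
        (Spec.map_comp _ _).symm.trans ((congrArg Spec.map e4).trans (Spec.map_comp _ _))
      calc Spec.map (CommRingCat.ofHom γ) ≫ Hens2.specOf X x R
          = (Spec.map (CommRingCat.ofHom γ) ≫ Spec.map (CommRingCat.ofHom
              (algebraMap (X.presheaf.stalk x) R))) ≫ X.fromSpecStalk x :=
            (Category.assoc _ _ _).symm
        _ = (Spec.map (CommRingCat.ofHom (algebraMap (X.presheaf.stalk x') R')) ≫
              Spec.map (X.presheaf.stalkSpecializes hsp)) ≫ X.fromSpecStalk x := by rw [e5]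
        _ = Spec.map (CommRingCat.ofHom (algebraMap (X.presheaf.stalk x') R')) ≫
              (Spec.map (X.presheaf.stalkSpecializes hsp) ≫ X.fromSpecStalk x) :=
            Category.assoc _ _ _
        _ = Hens2.specOf X x' R' := by rw [Scheme.SpecMap_stalkSpecializes_fromSpecStalk]
    · have e6 : CommRingCat.ofHom γ ≫ CommRingCat.ofHom (IsLocalRing.residue R') = η := by
        ext a
        exact congrArg (fun k : R →+* IsLocalRing.ResidueField R' => k a) hγ2
      exact (Spec.map_comp _ _).symm.trans (congrArg Spec.map e6)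

end Groth.Agent.S5594
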