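import Groth.Statements.S5612
import Groth.Agent.Lib.TorAmpShift21
import Groth.Agent.Lib.FlatAmp3
import Groth.Agent.S6954

set_option autoImplicit false
universe u
open CategoryTheory CategoryTheory.Limits
attribute [local instance] HasDerivedCategory.standard
open DRing

namespace Groth.Agent.S5612

/-- Let A be a commutative ring all of whose modules have finite tor dimension (for instance A of finite
global dimension) and K ∈ D(A). (i) K has finite tor dimension if and only if K has bounded
cohomology. (ii) K is perfect if and only if K has bounded cohomology and is pseudo-coherent. -/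
theorem result {A : Type u} [CommRing A]
    (hA : ∀ (M : Type u) [AddCommGroup M] [Module A M], DRing.HasFiniteTorDim A M) (K : Dual.D A) :
    (DRing.HasFiniteTorDimCx A K ↔ ∃ a b : ℤ, ∀ i : ℤ, i < a ∨ b < i → Subsingleton (Dual.HD A K i)) ∧
      (DRing.IsPerfect A K ↔
        (∃ a b : ℤ, ∀ i : ℤ, i < a ∨ b < i → Subsingleton (Dual.HD A K i)) ∧ DRing.IsPseudoCoherent' A K) := by
  have key : DRing.HasFiniteTorDimCx A K ↔
      ∃ a b : ℤ, ∀ i : ℤ, i < a ∨ b < i → Subsingleton (Dual.HD A K i) := by
    constructor
    · rintro ⟨a, b, h⟩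
      refine ⟨a, b, fun i hi => ?_⟩
      exact ModuleCat.subsingleton_of_isZero (Groth.Agent.Lib.PCohAmp.isZero_homology_of_pa
        ((Groth.Agent.Lib.TorAmpShift21.ta_iff_pa A a b K).1 h) i hi)
    · rintro ⟨a, b, h⟩
      have h1 : ∀ i : ℤ, ∃ d : ℕ, DRing.HasTorDimLE A d (Dual.HD A K i) := fun i => hA _
      choose d hd using h1
      let D : ℕ := (Finset.Icc a b).sup d
      refine ⟨a - D, b, (Groth.Agent.Lib.TorAmpShift21.ta_iff_pa A _ _ K).2 ?_⟩
      refine Groth.Agent.Lib.FlatAmp.pa_fl_of_homology A (a - D) b K a b
        (fun i hi => ?_) (fun i => ?_)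
      · have := h i hi
        exact ModuleCat.isZero_of_subsingleton _
      · by_cases hi : i < a ∨ b < i
        · have := h i hi
          exact Groth.Agent.Lib.FlatAmp.pa_of_isZero A _ _
            ((DerivedCategory.singleFunctor (ModuleCat.{u} A) 0).map_isZero
              (ModuleCat.isZero_of_subsingleton _))
        · have hi' : i ∈ Finset.Icc a b := by
            rw [Finset.mem_Icc]
            constructor <;> lia
          have hle : d i ≤ D := Finset.le_sup (f := d) hi'
          have h2 := (Groth.Agent.Lib.TorAmpShift21.ta_iff_pa A _ _ _).1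
            ((Groth.Agent.Lib.TorAmpShift21.hasTorDimLE_iff A (Dual.HD A K i) (d i)).1 (hd i))
          exact Groth.Agent.Lib.PCohAmp.pa_mono (by lia) (by lia) h2
  refine ⟨key, ?_⟩
  rw [Groth.Agent.S6954.result A K, key]
  exact and_comm

end Groth.Agent.S5612
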