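import Groth.Statements.S5613
import Mathlib.CategoryTheory.Limits.Preserves.Shapes.Products
import Mathlib.CategoryTheory.Triangulated.Pretriangulated
import Mathlib.Tactic.Ring

set_option autoImplicit false
universe v u
open CategoryTheory CategoryTheory.Limits CategoryTheory.Pretriangulated
open KZero

namespace Groth.Agent.S5613

open ZeroObject

variable {C : Type u} [Category.{v} C] [Preadditive C] [HasZeroObject C]
    [HasShift C ℤ] [∀ n : ℤ, (shiftFunctor C n).Additive] [Pretriangulated C]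

theorem clTri_add (tr : Triangle C) (htr : tr ∈ distinguishedTriangles) :
    KZero.clTri tr.obj₂ = KZero.clTri tr.obj₁ + KZero.clTri tr.obj₃ := by
  have h : (FreeAbelianGroup.of (⟨tr.obj₂, trivial⟩ : Subtype (⊤ : ObjectProperty C)) -
      FreeAbelianGroup.of ⟨tr.obj₁, trivial⟩ - FreeAbelianGroup.of ⟨tr.obj₃, trivial⟩) ∈
      KZero.relTr (⊤ : ObjectProperty C) :=
    AddSubgroup.subset_closure ⟨tr, trivial, trivial, trivial, htr, rfl⟩
  have h2 := (QuotientAddGroup.eq_zero_iff _).mpr h
  simp only [QuotientAddGroup.mk_sub] at h2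
  unfold KZero.clTri
  rw [sub_sub, sub_eq_zero] at h2
  exact h2

theorem clTri_zero : KZero.clTri (0 : C) = 0 := by
  have h := clTri_add _ (contractible_distinguished (0 : C))
  simp only [contractibleTriangle, Triangle.mk_obj₁, Triangle.mk_obj₂, Triangle.mk_obj₃] at h
  exact (add_eq_left.mp h.symm)

theorem clTri_iso {X Y : C} (e : X ≅ Y) : KZero.clTri X = KZero.clTri Y := by
  have hd : Triangle.mk e.hom (0 : Y ⟶ (0 : C)) 0 ∈ distTriang C := by
    refine isomorphic_distinguished _ (contractible_distinguished X) _ ?_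
    exact Triangle.isoMk _ _ (Iso.refl X) e.symm (Iso.refl (0 : C))
      (by change e.hom ≫ e.inv = 𝟙 X ≫ 𝟙 X; rw [e.hom_inv_id, Category.id_comp])
      (by change (0 : Y ⟶ (0 : C)) ≫ 𝟙 _ = e.inv ≫ (0 : X ⟶ (0 : C)); rw [comp_zero, zero_comp])
      (by change (0 : (0 : C) ⟶ X⟦(1 : ℤ)⟧) ≫ _ = 𝟙 _ ≫ (0 : (0 : C) ⟶ X⟦(1 : ℤ)⟧); rw [zero_comp, comp_zero])
  have h := clTri_add _ hd
  simp only [Triangle.mk_obj₁, Triangle.mk_obj₂, Triangle.mk_obj₃] at h
  rw [clTri_zero, add_zero] at h
  exact h.symm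

theorem clTri_biprod (X Y : C) : KZero.clTri (X ⊞ Y) = KZero.clTri X + KZero.clTri Y :=
  clTri_add _ (binaryBiproductTriangle_distinguished X Y)

theorem clTri_shift_one (X : C) : KZero.clTri (X⟦(1 : ℤ)⟧) = - KZero.clTri X := by
  have h := clTri_add _ (contractible_distinguished₂ X)
  simp only [Triangle.mk_obj₁, Triangle.mk_obj₂, Triangle.mk_obj₃] at h
  rw [clTri_zero] at h
  exact (neg_eq_of_add_eq_zero_right h.symm).symm

theorem clTri_shift_two (X : C) : KZero.clTri (X⟦(2 : ℤ)⟧) = KZero.clTri X := by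
  rw [clTri_iso ((shiftFunctorAdd' C (1 : ℤ) 1 2 (by norm_num)).app X)]
  simp only [Functor.comp_obj]
  rw [clTri_shift_one, clTri_shift_one, neg_neg]

theorem clTri_shift_neg_two (X : C) : KZero.clTri (X⟦(-2 : ℤ)⟧) = KZero.clTri X := by
  rw [← clTri_shift_two (X⟦(-2 : ℤ)⟧)]
  exact clTri_iso ((shiftFunctorCompIsoId C (-2 : ℤ) 2 (by norm_num)).app X)

theorem clTri_shift_even (X : C) (n : ℤ) : KZero.clTri (X⟦2 * n⟧) = KZero.clTri X := by
  induction n using Int.induction_on generalizing X with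
  | zero => exact clTri_iso ((shiftFunctorZero' C (2 * 0) (by norm_num)).app X)
  | succ n ih =>
    rw [clTri_iso ((shiftFunctorAdd' C (2 * (n : ℤ)) 2 (2 * ((n : ℤ) + 1)) (by omega)).app X)]
    simp only [Functor.comp_obj]
    rw [clTri_shift_two, ih]
  | pred n ih =>
    rw [clTri_iso ((shiftFunctorAdd' C (2 * (-(n : ℤ))) (-2) (2 * (-(n : ℤ) - 1)) (by omega)).app X)]
    simp only [Functor.comp_obj]
    rw [clTri_shift_neg_two, ih]

section decomposition

variable (L : C) (n : ℤ)

/-- the family `i ↦ L⟦2 n i⟧` -/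
abbrev fam (i : ℕ) : C := (shiftFunctor C (2 * n * (i : ℤ))).obj L

noncomputable def shiftIso (i : ℕ) :
    fam L n (i + 1) ≅ (shiftFunctor C (2 * n)).obj (fam L n i) :=
  (shiftFunctorAdd' C (2 * n * (i : ℤ)) (2 * n) (2 * n * ((i + 1 : ℕ) : ℤ))
    (by push_cast; ring)).app L

variable [HasCoproduct (fam L n)]

noncomputable def shiftedColimit :
    IsColimit (Cofan.mk ((shiftFunctor C (2 * n)).obj (∐ fam L n))
      (fun i => (shiftFunctor C (2 * n)).map (Sigma.ι (fam L n) i))) :=
  isColimitCofanMkObjOfIsColimit (shiftFunctor C (2 * n)) (fam L n) _ (coproductIsCoproduct _)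

noncomputable def newInj :
    (i : ℕ) → (fam L n i ⟶ fam L n 0 ⊞ (shiftFunctor C (2 * n)).obj (∐ fam L n))
  | 0 => biprod.inl
  | (i + 1) => (shiftIso L n i).hom ≫ (shiftFunctor C (2 * n)).map (Sigma.ι (fam L n) i) ≫ biprod.inr

theorem shifted_fac {T : C} (g : ∀ i : ℕ, (shiftFunctor C (2 * n)).obj (fam L n i) ⟶ T) (i : ℕ) :
    (shiftFunctor C (2 * n)).map (Sigma.ι (fam L n) i) ≫
      Cofan.IsColimit.desc (shiftedColimit L n) g = g i :=
  Cofan.IsColimit.fac (shiftedColimit L n) g i

noncomputable def newCofanIsColimit :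
    IsColimit (Cofan.mk (fam L n 0 ⊞ (shiftFunctor C (2 * n)).obj (∐ fam L n)) (newInj L n)) :=
  Cofan.IsColimit.mk _
    (fun s => biprod.desc (s.inj 0)
      (Cofan.IsColimit.desc (shiftedColimit L n) (fun i => (shiftIso L n i).inv ≫ s.inj (i + 1))))
    (fun s i => by
      cases i with
      | zero => simp [newInj]
      | succ i =>
        simp only [cofan_mk_inj, newInj, Category.assoc, biprod.inr_desc]
        rw [shifted_fac, Iso.hom_inv_id_assoc])
    (fun s m hm => by
      apply biprod.hom_ext'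
      · have := hm 0
        simpa [newInj] using this
      · apply Cofan.IsColimit.hom_ext (shiftedColimit L n)
        intro i
        have := hm (i + 1)
        simp only [cofan_mk_inj, newInj, Category.assoc] at this
        simp only [cofan_mk_inj, biprod.inr_desc]
        rw [shifted_fac, ← this, Iso.inv_hom_id_assoc])

noncomputable def decompIso :
    ∐ fam L n ≅ fam L n 0 ⊞ (shiftFunctor C (2 * n)).obj (∐ fam L n) :=
  (coproductIsCoproduct (fam L n)).coconePointUniqueUpToIso (newCofanIsColimit L n)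

end decomposition

/-- Let C be a pretriangulated category, L an object of C and n an integer such that the coproduct ∐_{i
≥ 0} L⟦2ni⟧ exists in C. Then cl(L) = 0 in K₀(C). -/
theorem result {C : Type u} [Category.{v} C] [Preadditive C] [HasZeroObject C]
    [HasShift C ℤ] [∀ n : ℤ, (shiftFunctor C n).Additive] [Pretriangulated C]
    (L : C) (n : ℤ) [HasCoproduct (fun i : ℕ => (shiftFunctor C (2 * n * (i : ℤ))).obj L)] :
    KZero.clTri L = 0 := by
  have h1 := clTri_iso (decompIso L n)
  rw [clTri_biprod, clTri_shift_even] at h1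
  have h2 : KZero.clTri (fam L n 0) = 0 := by
    have := add_eq_right.mp h1.symm
    exact this
  rw [← h2]
  exact (clTri_iso ((shiftFunctorZero' C (2 * n * ((0 : ℕ) : ℤ)) (by simp)).app L)).symm

end Groth.Agent.S5613
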