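import Groth.Statements.S5614

set_option autoImplicit false
universe v u
open CategoryTheory CategoryTheory.Limits CategoryTheory.Pretriangulated
open KZero

namespace Groth.Agent.S5614

theorem clTri_add {C : Type u} [Category.{v} C] [Preadditive C] [HasZeroObject C]
    [HasShift C ℤ] [∀ n : ℤ, (shiftFunctor C n).Additive] [Pretriangulated C]
    (tr : Triangle C) (htr : tr ∈ distinguishedTriangles) :
    KZero.clTri tr.obj₂ = KZero.clTri tr.obj₁ + KZero.clTri tr.obj₃ := by
  have h : (FreeAbelianGroup.of (⟨tr.obj₂, trivial⟩ : Subtype (⊤ : ObjectProperty C)) -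
      FreeAbelianGroup.of ⟨tr.obj₁, trivial⟩ - FreeAbelianGroup.of ⟨tr.obj₃, trivial⟩) ∈
      KZero.relTr (⊤ : ObjectProperty C) :=
    AddSubgroup.subset_closure ⟨tr, trivial, trivial, trivial, htr, rfl⟩
  have h2 := (QuotientAddGroup.eq_zero_iff _).mpr h
  simp only [QuotientAddGroup.mk_sub] at h2
  unfold KZero.clTri
  rw [sub_sub, sub_eq_zero] at h2
  exact h2

/-- Let C be a pretriangulated category and S a dense set of objects, meaning that every set of objects
which contains S and which contains the third vertex of a distinguished triangle as soon as it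
contains the other two is all of C. Then K₀(C) is generated by the classes of the objects of S. -/
theorem result {C : Type u} [Category.{v} C] [Preadditive C] [HasZeroObject C]
    [HasShift C ℤ] [∀ n : ℤ, (shiftFunctor C n).Additive] [Pretriangulated C]
    (S : Set C)
    (hdense : ∀ T : Set C, S ⊆ T →
      (∀ tr : Triangle C, tr ∈ distinguishedTriangles →
        (tr.obj₁ ∈ T → tr.obj₂ ∈ T → tr.obj₃ ∈ T) ∧ (tr.obj₁ ∈ T → tr.obj₃ ∈ T → tr.obj₂ ∈ T) ∧
          (tr.obj₂ ∈ T → tr.obj₃ ∈ T → tr.obj₁ ∈ T)) → T = Set.univ) :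
    AddSubgroup.closure (KZero.clTri '' S) = (⊤ : AddSubgroup (KZero.K0tri C)) := by
  set H := AddSubgroup.closure (KZero.clTri '' S) with hH
  have hT := hdense {X | KZero.clTri X ∈ H}
    (fun X hX => AddSubgroup.subset_closure ⟨X, hX, rfl⟩)
    (fun X hX => by
      have e := clTri_add X hX
      refine ⟨fun h1 h2 => ?_, fun h1 h3 => ?_, fun h2 h3 => ?_⟩
      · have : KZero.clTri X.obj₃ = KZero.clTri X.obj₂ - KZero.clTri X.obj₁ := by rw [e]; abel
        simp only [Set.mem_ofPred_eq] at h1 h2 ⊢
        rw [this]; exact H.sub_mem h2 h1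
      · simp only [Set.mem_ofPred_eq] at h1 h3 ⊢
        rw [e]; exact H.add_mem h1 h3
      · have : KZero.clTri X.obj₁ = KZero.clTri X.obj₂ - KZero.clTri X.obj₃ := by rw [e]; abel
        simp only [Set.mem_ofPred_eq] at h2 h3 ⊢
        rw [this]; exact H.sub_mem h2 h3)
  rw [eq_top_iff]
  intro x hx0
  clear hx0
  induction x using QuotientAddGroup.induction_on with
  | H z =>
    induction z using FreeAbelianGroup.induction_on with
    | zero => exact H.zero_mem
    | of X =>
      have : X.1 ∈ {X | KZero.clTri X ∈ H} := by rw [hT]; trivial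
      exact this
    | neg X ih =>
      rw [QuotientAddGroup.mk_neg]; exact H.neg_mem ih
    | add x y hx hy =>
      rw [QuotientAddGroup.mk_add]; exact H.add_mem hx hy

end Groth.Agent.S5614
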