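import Groth.Statements.S5615

set_option autoImplicit false
universe v u
open CategoryTheory CategoryTheory.Limits
open KZero

namespace Groth.Agent.S5615

theorem cl_add {A : Type u} [Category.{v} A] [Abelian A] (X : ShortComplex A) (hX : X.ShortExact) :
    KZero.cl X.X₂ = KZero.cl X.X₁ + KZero.cl X.X₃ := by
  have h : FreeAbelianGroup.of X.X₂ - FreeAbelianGroup.of X.X₁ - FreeAbelianGroup.of X.X₃ ∈
      KZero.relAb A := AddSubgroup.subset_closure ⟨X, hX, rfl⟩
  have h2 := (QuotientAddGroup.eq_zero_iff _).mpr h
  simp only [QuotientAddGroup.mk_sub] at h2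
  unfold KZero.cl
  rw [sub_sub, sub_eq_zero] at h2
  exact h2

/-- Let A be an abelian category and S a dense set of objects, meaning that every set of objects which
contains S and which contains the third term of a short exact sequence as soon as it contains the
other two is all of A. Then K₀(A) is generated by the classes of the objects of S. -/
theorem result {A : Type u} [Category.{v} A] [Abelian A] (S : Set A)
    (hdense : ∀ T : Set A, S ⊆ T →
      (∀ X : ShortComplex A, X.ShortExact →
        (X.X₁ ∈ T → X.X₂ ∈ T → X.X₃ ∈ T) ∧ (X.X₁ ∈ T → X.X₃ ∈ T → X.X₂ ∈ T) ∧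
          (X.X₂ ∈ T → X.X₃ ∈ T → X.X₁ ∈ T)) → T = Set.univ) :
    AddSubgroup.closure (KZero.cl '' S) = (⊤ : AddSubgroup (KZero.K0 A)) := by
  set H := AddSubgroup.closure (KZero.cl '' S) with hH
  have hT := hdense {X | KZero.cl X ∈ H}
    (fun X hX => AddSubgroup.subset_closure ⟨X, hX, rfl⟩)
    (fun X hX => by
      have e := cl_add X hX
      refine ⟨fun h1 h2 => ?_, fun h1 h3 => ?_, fun h2 h3 => ?_⟩
      · have : KZero.cl X.X₃ = KZero.cl X.X₂ - KZero.cl X.X₁ := by rw [e]; abel
        simp only [Set.mem_ofPred_eq] at h1 h2 ⊢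
        rw [this]; exact H.sub_mem h2 h1
      · simp only [Set.mem_ofPred_eq] at h1 h3 ⊢
        rw [e]; exact H.add_mem h1 h3
      · have : KZero.cl X.X₁ = KZero.cl X.X₂ - KZero.cl X.X₃ := by rw [e]; abel
        simp only [Set.mem_ofPred_eq] at h2 h3 ⊢
        rw [this]; exact H.sub_mem h2 h3)
  rw [eq_top_iff]
  intro x hx0
  clear hx0
  induction x using QuotientAddGroup.induction_on with
  | H z =>
    induction z using FreeAbelianGroup.induction_on with
    | zero => exact H.zero_mem
    | of X =>
      have : X ∈ {X | KZero.cl X ∈ H} := by rw [hT]; trivial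
      exact this
    | neg X ih => 
      rw [QuotientAddGroup.mk_neg]; exact H.neg_mem ih
    | add x y hx hy =>
      rw [QuotientAddGroup.mk_add]; exact H.add_mem hx hy

end Groth.Agent.S5615
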