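import Groth.Statements.S5616
import Groth.Agent.Lib.ExtEfface

set_option autoImplicit false
universe w w' v v' u u'
open CategoryTheory CategoryTheory.Limits
open CohDer

namespace Groth.Agent.S5616

open Abelian

section

variable {A : Type u} [Category.{v} A] [Abelian A] [HasExt.{w} A]
  {B : Type u'} [Category.{v'} B] [Abelian B] [HasExt.{w'} B]
  (φ : A ⥤ B) [φ.Additive] [PreservesFiniteLimits φ] [PreservesFiniteColimits φ]

lemma bij_zero_iff (L M : A) :
    Function.Bijective (fun f : Abelian.Ext.{w} L M 0 => Abelian.Ext.mapExactFunctor φ f) ↔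
      Function.Bijective (fun f : L ⟶ M => φ.map f) := by
  have h := Abelian.Ext.mapExactFunctor₀.{w, w'} φ L M
  change Function.Bijective (Abelian.Ext.mapExactFunctor φ (X := L) (Y := M) (n := 0)) ↔
    Function.Bijective (φ.map (X := L) (Y := M))
  rw [h]
  rw [Function.Bijective.of_comp_iff' (Ext.homEquiv₀.symm.bijective),
    Function.Bijective.of_comp_iff _ (Ext.homEquiv₀.bijective)]

lemma inj_step {S : ShortComplex A} (hS : S.ShortExact) (M : A) (n : ℕ)
    (h₁ : Function.Injective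
      (fun f : Abelian.Ext.{w} S.X₁ M n => Abelian.Ext.mapExactFunctor.{w, w'} φ f))
    (h₂ : Function.Surjective
      (fun f : Abelian.Ext.{w} S.X₂ M n => Abelian.Ext.mapExactFunctor.{w, w'} φ f))
    (x : Abelian.Ext.{w} S.X₃ M (n + 1))
    (hz : (Ext.mk₀ S.g).comp x (zero_add (n + 1)) = 0)
    (hx : Abelian.Ext.mapExactFunctor.{w, w'} φ x = 0) : x = 0 := by
  obtain ⟨x₁, rfl⟩ := Ext.contravariant_sequence_exact₃ hS M x hz (add_comm 1 n)
  have hS' := hS.map_of_exact φ
  rw [Ext.mapExactFunctor_comp, Ext.mapExactFunctor_extClass] at hx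
  obtain ⟨y₂, hy₂⟩ := Ext.contravariant_sequence_exact₁ hS' (φ.obj M)
    (Abelian.Ext.mapExactFunctor φ x₁) (add_comm 1 n) hx
  obtain ⟨x₂, hx₂⟩ := h₂ y₂
  dsimp only at hx₂
  have : x₁ = (Ext.mk₀ S.f).comp x₂ (zero_add n) := by
    apply h₁
    dsimp only
    rw [Ext.mapExactFunctor_comp, Ext.mapExactFunctor_mk₀, hx₂]
    exact hy₂.symm
  rw [this]
  exact hS.extClass_comp_assoc x₂

lemma surj_step {S : ShortComplex A} (hS : S.ShortExact) (M : A) (n : ℕ)
    (h₁ : Function.Surjective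
      (fun f : Abelian.Ext.{w} S.X₁ M n => Abelian.Ext.mapExactFunctor.{w, w'} φ f))
    (y : Abelian.Ext.{w'} (φ.obj S.X₃) (φ.obj M) (n + 1))
    (hz : (Ext.mk₀ (φ.map S.g)).comp y (zero_add (n + 1)) = 0) :
    ∃ x : Abelian.Ext.{w} S.X₃ M (n + 1), Abelian.Ext.mapExactFunctor.{w, w'} φ x = y := by
  have hS' := hS.map_of_exact φ
  obtain ⟨y₁, rfl⟩ := Ext.contravariant_sequence_exact₃ hS' (φ.obj M) y hz (add_comm 1 n)
  obtain ⟨x₁, rfl⟩ := h₁ y₁
  refine ⟨hS.extClass.comp x₁ (add_comm 1 n), ?_⟩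
  dsimp only
  rw [Ext.mapExactFunctor_comp, Ext.mapExactFunctor_extClass]
  rfl

omit [HasExt.{w} A] in
lemma kerSC_shortExact {L' L : A} (p : L' ⟶ L) [Epi p] :
    (ShortComplex.mk (kernel.ι p) p (kernel.condition p)).ShortExact :=
  { exact := ShortComplex.exact_kernel p }

lemma step (M : A) (n : ℕ)
    (hn : ∀ L : A, Function.Bijective
      (fun f : Abelian.Ext.{w} L M n => Abelian.Ext.mapExactFunctor.{w, w'} φ f))
    (heff : ∀ (L : A) (x : Abelian.Ext.{w'} (φ.obj L) (φ.obj M) (n + 1)),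
          ∃ (L' : A) (p : L' ⟶ L), Epi p ∧
            (Abelian.Ext.mk₀ (φ.map p)).comp x (zero_add (n + 1)) = 0) (L : A) :
    Function.Bijective
      (fun f : Abelian.Ext.{w} L M (n + 1) => Abelian.Ext.mapExactFunctor.{w, w'} φ f) := by
  constructor
  · -- injectivity
    have key : ∀ x : Abelian.Ext.{w} L M (n + 1),
        Abelian.Ext.mapExactFunctor.{w, w'} φ x = 0 → x = 0 := by
      intro x hx
      obtain ⟨L', p, hp, hz⟩ := Groth.Agent.Lib.ExtEfface.exists_epi_mk₀_comp_eq_zero x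
      exact inj_step φ (kerSC_shortExact p) M n (hn _).1 (hn _).2 x hz hx
    intro x y hxy
    have := key (x - y) (by
      have h := (φ.mapExtAddHom L M (n + 1)).map_sub x y
      simp only [Functor.mapExtAddHom_apply] at h
      rw [h]
      exact sub_eq_zero.2 hxy)
    exact sub_eq_zero.1 this
  · intro y
    obtain ⟨L', p, hp, hz⟩ := heff L y
    exact surj_step φ (kerSC_shortExact p) M n (hn _).2 y hz

end

/-- Let φ : A ⥤ B be an exact functor of abelian categories and M an object of A. The following are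
equivalent: (i) for every L in A and every n, the map Ext^n_A(L, M) → Ext^n_B(φ L, φ M) induced by φ
is bijective; (ii) for every L the map Hom_A(L, M) → Hom_B(φ L, φ M) is bijective, and for every L,
every n ≥ 1 and every x ∈ Ext^n_B(φ L, φ M) there is an epimorphism L' ⟶ L of A such that x
precomposed with its image under φ vanishes. -/
theorem result
    {A : Type u} [Category.{v} A] [Abelian A] [HasExt.{w} A]
    {B : Type u'} [Category.{v'} B] [Abelian B] [HasExt.{w'} B]
    (φ : A ⥤ B) [φ.Additive] [PreservesFiniteLimits φ] [PreservesFiniteColimits φ] (M : A) :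
    (∀ (L : A) (n : ℕ), Function.Bijective (fun f : Abelian.Ext.{w} L M n => Abelian.Ext.mapExactFunctor φ f)) ↔
      ((∀ L : A, Function.Bijective (fun f : L ⟶ M => φ.map f)) ∧
        ∀ (L : A) (n : ℕ), 1 ≤ n → ∀ x : Abelian.Ext.{w'} (φ.obj L) (φ.obj M) n,
          ∃ (L' : A) (p : L' ⟶ L), Epi p ∧ (Abelian.Ext.mk₀ (φ.map p)).comp x (zero_add n) = 0) := by
  constructor
  · intro h
    refine ⟨fun L => (bij_zero_iff φ L M).1 (h L 0), ?_⟩
    intro L n hn x
    obtain ⟨m, rfl⟩ : ∃ m, n = m + 1 := ⟨n - 1, by omega⟩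
    obtain ⟨x', rfl⟩ := (h L (m + 1)).2 x
    obtain ⟨L', p, hp, hz⟩ := Groth.Agent.Lib.ExtEfface.exists_epi_mk₀_comp_eq_zero x'
    refine ⟨L', p, hp, ?_⟩
    dsimp only
    rw [← Ext.mapExactFunctor_mk₀, ← Ext.mapExactFunctor_comp, hz, Ext.mapExactFunctor_zero]
  · rintro ⟨h0, heff⟩ L n
    induction n generalizing L with
    | zero => exact (bij_zero_iff φ L M).2 (h0 L)
    | succ n ih => exact step φ M n ih (fun L x => heff L (n + 1) (by omega) x) L

end Groth.Agent.S5616
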