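import Groth.Statements.S5617
import Groth.Agent.Lib.H43PCohD

set_option autoImplicit false
universe w v u
open CategoryTheory CategoryTheory.Limits
open PCoh

namespace Groth.Agent.S5617

/-- First assertion (punctual site): let C be an abelian category and C₀ a strictly full additive
subcategory, quasi-stable under kernels of epimorphisms and quasi-liftable, and n < m. If F ∈ D(C)
is n-pseudo-coherent and acyclic in degrees ≥ m, then F is isomorphic in D(C) to a strictly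
n-pseudo-coherent complex E with E^i = 0 for i ≥ m. -/
theorem result {C : Type u} [Category.{v} C] [Abelian C] [HasDerivedCategory.{w} C]
    (P : ObjectProperty C) [P.IsClosedUnderIsomorphisms] [P.ContainsZero] (hsum : ∀ X Y : C, P X → P Y → P (X ⨯ Y))
    (hqs : PCoh.IsQuasiStableUnderKernels P) (hql : PCoh.IsQuasiLiftable P)
    (n m : ℤ) (hnm : n < m) (F : DerivedCategory C) (hF : (∃ E : CochainComplex C ℤ, PCoh.IsStrictPC P n E ∧ Nonempty (DerivedCategory.Q.obj E ≅ F)))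
    (hac : ∀ i : ℤ, m ≤ i → IsZero ((DerivedCategory.homologyFunctor C i).obj F)) :
    ∃ E : CochainComplex C ℤ, PCoh.IsStrictPC P n E ∧ (∀ i : ℤ, m ≤ i → IsZero (E.X i)) ∧
      Nonempty (DerivedCategory.Q.obj E ≅ F) := by
  obtain ⟨X, hX, ⟨e⟩⟩ := hF
  -- the zero complex maps to X by an m-quasi-isomorphism
  obtain ⟨Z, hZ⟩ := HasZeroObject.zero (C := CochainComplex C ℤ)
  have hzX : ∀ i : ℤ, IsZero (Z.X i) := fun i =>
    (HomologicalComplex.eval C (ComplexShape.up ℤ) i).map_isZero hZ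
  have hzH : ∀ i : ℤ, IsZero (Z.homology i) := fun i => by
    rw [← HomologicalComplex.exactAt_iff_isZero_homology]
    exact HomologicalComplex.ExactAt.of_isZero (hzX i)
  have hXz : ∀ i : ℤ, m ≤ i → IsZero (X.homology i) := fun i hi =>
    IsZero.of_iso (hac i hi) ((Groth.Agent.Lib.H43PCohD.homologyIso X i).symm ≪≫
      (DerivedCategory.homologyFunctor C i).mapIso e)
  obtain ⟨d, hd⟩ : ∃ d : ℕ, m = n + (d : ℤ) := ⟨(m - n).toNat, by
    rw [Int.toNat_of_nonneg (by lia)]; lia⟩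
  have hw₀ : Groth.Agent.Lib.H43PCohD.NQis (n + (d : ℤ)) (0 : Z ⟶ X) := by
    rw [← hd]
    refine ⟨fun i hi => ?_, ?_⟩
    · exact ⟨0, (hzH i).eq_of_src _ _, (hXz i hi.le).eq_of_src _ _⟩
    · exact ⟨fun a c _ => (hXz m le_rfl).eq_of_src a c⟩
  have hZpc : PCoh.IsStrictPC P n Z :=
    ⟨⟨n, fun i _ => hzX i⟩, fun i _ => P.prop_of_isZero (hzX i)⟩
  obtain ⟨G, v₁, w, -, hG, -, hi₁, hw⟩ :=
    Groth.Agent.Lib.H43PCohD.descend P hsum hqs hql n X ⟨X, hX, ⟨Iso.refl _⟩⟩ d Z 0 hZpc hw₀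
  obtain ⟨E', v₂, u', -, hE', hq, -, hi₂⟩ :=
    Groth.Agent.Lib.H43PCohD.exists_factor_qis P n G X hG w hw
  refine ⟨E', hE', fun i hi => ?_, ⟨?_⟩⟩
  · have h1 : IsIso (v₁.f i) := hi₁ i (Or.inr (by lia))
    have h2 : IsIso (v₂.f i) := hi₂ i (by lia)
    exact IsZero.of_iso (hzX i) ((asIso (v₁.f i)) ≪≫ (asIso (v₂.f i))).symm
  · have : IsIso (DerivedCategory.Q.map u') :=
      (DerivedCategory.isIso_Q_map_iff_quasiIso C u').2 hq
    exact asIso (DerivedCategory.Q.map u') ≪≫ e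

end Groth.Agent.S5617
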