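import Groth.Statements.S5620
import Groth.Agent.Lib.PCohBdd

set_option autoImplicit false
universe w v u w' v' u'
open CategoryTheory CategoryTheory.Limits
open PCoh

namespace Groth.Agent.S5620

open CategoryTheory.Pretriangulated Groth.Agent.S5599 Groth.Agent.Lib.PCohBdd
  Groth.Agent.Lib.PCohDevissage

section Helpers

variable {C : Type u} [Category.{v} C] [Abelian C] [HasDerivedCategory.{w} C]
  {C' : Type u'} [Category.{v'} C'] [Abelian C'] [HasDerivedCategory.{w'} C']
  (P' : ObjectProperty C') [P'.IsClosedUnderIsomorphisms] [P'.ContainsZero]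
  (u : DerivedCategory C ⥤ DerivedCategory C') [u.CommShift ℤ]

omit [P'.IsClosedUnderIsomorphisms] [P'.ContainsZero] in
/-- `u(E[-i])` is `(a + i)`-pseudo-coherent if `u(E[0])` is `a`-pseudo-coherent -/
lemma npc_single (a : ℤ) (X : C)
    (h : NPC P' a (u.obj ((DerivedCategory.singleFunctor C 0).obj X))) (i : ℤ) :
    NPC P' (a + i) (u.obj ((DerivedCategory.singleFunctor C i).obj X)) := by
  have h1 := NPC.shift h (-i)
  rw [show a - -i = a + i by lia] at h1
  refine h1.of_iso (((u.commShiftIso (-i)).app _).symm ≪≫ u.mapIso ?_)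
  exact ((DerivedCategory.singleFunctors C).shiftIso (-i) i 0 (by lia)).app X

end Helpers

/-- Let (C, C₀) and (C', C₀') be abelian categories with strictly full additive subcategories, each
quasi-stable under kernels of epimorphisms and quasi-liftable, and let u : D(C) ⥤ D(C') be a
triangulated functor. Suppose there are integers a, b such that (i) for every E in C₀ the object
u(E[0]) is a-pseudo-coherent relative to C₀', and (ii) u sends objects acyclic in degrees > 0 to
objects acyclic in degrees > b. Then if F ∈ D(C) is m-pseudo-coherent and acyclic in degrees > n,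
u(F) is max(m + b, n + a)-pseudo-coherent relative to C₀' and acyclic in degrees > n + b. (The
source lets u be defined on D^+, D^- or D^b; here u is defined on all of D(C).) -/
theorem result {C : Type u} [Category.{v} C] [Abelian C] [HasDerivedCategory.{w} C]
    (P : ObjectProperty C) [P.IsClosedUnderIsomorphisms] [P.ContainsZero] (hsum : ∀ X Y : C, P X → P Y → P (X ⨯ Y))
    (hqs : PCoh.IsQuasiStableUnderKernels P) (hql : PCoh.IsQuasiLiftable P)
    {C' : Type u'} [Category.{v'} C'] [Abelian C'] [HasDerivedCategory.{w'} C']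
    (P' : ObjectProperty C') [P'.IsClosedUnderIsomorphisms] [P'.ContainsZero] (hsum' : ∀ X Y : C', P' X → P' Y → P' (X ⨯ Y))
    (hqs' : PCoh.IsQuasiStableUnderKernels P') (hql' : PCoh.IsQuasiLiftable P')
    (u : DerivedCategory C ⥤ DerivedCategory C') [u.CommShift ℤ] [u.IsTriangulated] (a b : ℤ)
    (hi : ∀ E : C, P E → ∃ E' : CochainComplex C' ℤ, PCoh.IsStrictPC P' a E' ∧
      Nonempty (DerivedCategory.Q.obj E' ≅ u.obj ((DerivedCategory.singleFunctor C 0).obj E)))
    (hii : ∀ F : DerivedCategory C, (∀ i : ℤ, 0 < i → IsZero ((DerivedCategory.homologyFunctor C i).obj F)) →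
      ∀ i : ℤ, b < i → IsZero ((DerivedCategory.homologyFunctor C' i).obj (u.obj F)))
    (m n : ℤ) (F : DerivedCategory C) (hF : (∃ E : CochainComplex C ℤ, PCoh.IsStrictPC P m E ∧ Nonempty (DerivedCategory.Q.obj E ≅ F)))
    (hac : ∀ i : ℤ, n < i → IsZero ((DerivedCategory.homologyFunctor C i).obj F)) :
    (∃ E' : CochainComplex C' ℤ, PCoh.IsStrictPC P' (max (m + b) (n + a)) E' ∧ Nonempty (DerivedCategory.Q.obj E' ≅ u.obj F)) ∧
      ∀ i : ℤ, n + b < i → IsZero ((DerivedCategory.homologyFunctor C' i).obj (u.obj F)) := by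
  have hacU : ∀ i : ℤ, n + b < i →
      IsZero ((DerivedCategory.homologyFunctor C' i).obj (u.obj F)) :=
    fun i hi => isZero_homology_map_of_acyclic u b hii n F hac i hi
  refine ⟨?_, hacU⟩
  change NPC P' (max (m + b) (n + a)) (u.obj F)
  by_cases hmn : n < m
  · -- trivial case: `F` is acyclic in degrees `≥ m`
    exact Groth.Agent.Lib.PCohBdd.NPC.mono (npc_of_acyclic (P := P') (n + b) (u.obj F) hacU) (by
      have := le_max_left (m + b) (n + a)
      lia)
  · obtain ⟨E, hE, ⟨e⟩⟩ := hF
    have hEac : ∀ i : ℤ, n < i → IsZero (E.homology i) := fun i hi =>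
      IsZero.of_iso (hac i hi)
        ((homologyIsoOfQ E i).symm ≪≫ (DerivedCategory.homologyFunctor C i).mapIso e)
    obtain ⟨G, w, hGP, hGz, hwi, hwe⟩ :=
      exists_perfect P hsum hqs hql m n (by lia) E hE hEac
    set r : ℤ := max (m + b) (n + a) with hr
    -- two-out-of-three for `u`
    have hext : ∀ T : Triangle (DerivedCategory C), T ∈ distTriang (DerivedCategory C) →
        NPC P' r (u.obj T.obj₁) → NPC P' r (u.obj T.obj₃) → NPC P' r (u.obj T.obj₂) :=
      fun T hT h₁ h₃ => (Groth.Agent.S5599.result P' hsum' hqs' hql' r (u.mapTriangle.obj T)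
        (u.map_distinguished T hT)).2.1 h₁ h₃
    -- `u (Q G)` is `r`-pseudo-coherent, by dévissage
    have hG : NPC P' r (u.obj (DerivedCategory.Q.obj G)) := by
      refine devissage (fun X => NPC P' r (u.obj X)) (fun X Y e' h => h.of_iso (u.mapIso e'))
        (fun X hX => npc_of_isZero r _ (u.map_isZero hX)) hext (n + 1 - m).toNat G m
        (fun i hi => ?_) (fun i hi1 hi2 => ?_)
      · rw [Int.toNat_of_nonneg (by lia)] at hi
        exact hGz i (by lia)
      · rw [Int.toNat_of_nonneg (by lia)] at hi2
        exact Groth.Agent.Lib.PCohBdd.NPC.mono (npc_single P' u a (G.X i) (hi (G.X i) (hGP i)) i) (by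
          have := le_max_right (m + b) (n + a)
          lia)
    -- `u (Q cone)` is `r`-pseudo-coherent, by acyclicity
    have hK : NPC P' r (u.obj (DerivedCategory.Q.obj (CochainComplex.mappingCone w))) := by
      have hKac : ∀ i : ℤ, m - 1 < i → IsZero ((DerivedCategory.homologyFunctor C i).obj
          (DerivedCategory.Q.obj (CochainComplex.mappingCone w))) := fun i hi =>
        IsZero.of_iso (isZero_homology_mappingCone_of_nIso w m hwi hwe i (by lia))
          (homologyIsoOfQ _ i)
      have := npc_of_acyclic (P := P') (m - 1 + b) _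
        (fun i hi => isZero_homology_map_of_acyclic u b hii (m - 1) _ hKac i hi)
      exact Groth.Agent.Lib.PCohBdd.NPC.mono this (by
        have := le_max_left (m + b) (n + a)
        lia)
    have hQE := hext _ (DerivedCategory.mappingCone_triangle_distinguished w) hG hK
    exact hQE.of_iso (u.mapIso e)

end Groth.Agent.S5620
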