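import Groth.Statements.S5622
import Groth.Agent.Lib.PCohAmp2

set_option autoImplicit false
universe w v u
open CategoryTheory CategoryTheory.Limits
open PCoh

namespace Groth.Agent.S5622

/-- Let C be an abelian category and C₀ a strictly full additive subcategory, liftable and stable under
kernels of epimorphisms, and a ≤ b. For F', F'' in D(C): (i) ⇒ (ii), where (i) says F' and F'' have
perfect amplitude in [a, b] (each isomorphic to a strictly perfect complex vanishing outside [a, b])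
and (ii) says F' ⊞ F'' does; and (ii) ⇒ (i) when C₀ is stable under direct factors. -/
theorem result {C : Type u} [Category.{v} C] [Abelian C] [HasDerivedCategory.{w} C]
    (P : ObjectProperty C) [P.IsClosedUnderIsomorphisms] [P.ContainsZero] (hsum : ∀ X Y : C, P X → P Y → P (X ⨯ Y))
    (hlift : ∀ (E F : C) (u : E ⟶ F), Epi u → P F → IsSplitEpi u)
    (hst : ∀ (E F : C) (u : E ⟶ F), Epi u → P E → P F → P (kernel u))
    (a b : ℤ) (hab : a ≤ b) (F' F'' : DerivedCategory C) [HasBinaryBiproduct F' F''] :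
    (((∃ E : CochainComplex C ℤ, (∀ i : ℤ, P (E.X i)) ∧ (∀ i : ℤ, i < a ∨ b < i → IsZero (E.X i)) ∧ Nonempty (DerivedCategory.Q.obj E ≅ F')) ∧ (∃ E : CochainComplex C ℤ, (∀ i : ℤ, P (E.X i)) ∧ (∀ i : ℤ, i < a ∨ b < i → IsZero (E.X i)) ∧ Nonempty (DerivedCategory.Q.obj E ≅ F''))) →
        (∃ E : CochainComplex C ℤ, (∀ i : ℤ, P (E.X i)) ∧ (∀ i : ℤ, i < a ∨ b < i → IsZero (E.X i)) ∧ Nonempty (DerivedCategory.Q.obj E ≅ (F' ⊞ F'')))) ∧
      ((∀ (E' E'' : C) [HasBinaryBiproduct E' E''], P (E' ⊞ E'') → P E' ∧ P E'') →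
        (∃ E : CochainComplex C ℤ, (∀ i : ℤ, P (E.X i)) ∧ (∀ i : ℤ, i < a ∨ b < i → IsZero (E.X i)) ∧ Nonempty (DerivedCategory.Q.obj E ≅ (F' ⊞ F''))) →
          (∃ E : CochainComplex C ℤ, (∀ i : ℤ, P (E.X i)) ∧ (∀ i : ℤ, i < a ∨ b < i → IsZero (E.X i)) ∧ Nonempty (DerivedCategory.Q.obj E ≅ F')) ∧ (∃ E : CochainComplex C ℤ, (∀ i : ℤ, P (E.X i)) ∧ (∀ i : ℤ, i < a ∨ b < i → IsZero (E.X i)) ∧ Nonempty (DerivedCategory.Q.obj E ≅ F''))) := by
  constructor
  · rintro ⟨h', h''⟩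
    have hT := Pretriangulated.inv_rot_of_distTriang _ (Pretriangulated.binaryBiproductTriangle_distinguished F' F'')
    have h1 : Groth.Agent.Lib.PCohAmp.PA P (a + 1) (b + 1) (F''⟦(-1 : ℤ)⟧) :=
      Groth.Agent.Lib.PCohAmp.pa_mono (by lia) (by lia)
        (Groth.Agent.Lib.PCohAmp.pa_shift h'' (-1))
    exact Groth.Agent.Lib.PCohAmp.pa_mono (le_min (by lia) le_rfl) (max_le (by lia) le_rfl)
      (Groth.Agent.Lib.PCohAmp.pa_cone hsum hlift _ hT h1 h')
  · intro hdf h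
    obtain ⟨k, hk⟩ : ∃ k : ℕ, b - a = k := ⟨(b - a).toNat, by lia⟩
    exact ⟨Groth.Agent.Lib.PCohAmp.pa_of_retract hsum hlift hst hdf k a b hk (F' ⊞ F'') F'
        biprod.inl biprod.fst biprod.inl_fst h,
      Groth.Agent.Lib.PCohAmp.pa_of_retract hsum hlift hst hdf k a b hk (F' ⊞ F'') F''
        biprod.inr biprod.snd biprod.inr_snd h⟩

end Groth.Agent.S5622
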