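import Groth.Statements.S5625
import Mathlib
import Groth.Agent.Lib.H90Coherator
import Groth.Agent.Lib.H90OXModQcqs
import Groth.Agent.Lib.H72PullbackQCoh

set_option autoImplicit false
universe u
open CategoryTheory AlgebraicGeometry
open QCohCat

namespace Groth.Agent.S5625

/-- Let f : X ⟶ Y be a morphism of quasi-compact quasi-separated schemes and Q_X, Q_Y coherators (right
adjoints of the inclusions QCoh ⥤ Mod) on X and Y. Then Q_Y ∘ f_* and f_* ∘ Q_X agree: the two
composite functors Mod(O_X) ⥤ Mod(O_Y) are naturally isomorphic (existence of a natural isomorphism;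
the source's isomorphism is the canonical one between two right adjoints of the same functor). -/
theorem result {X Y : Scheme.{u}} [CompactSpace X] [QuasiSeparatedSpace X]
    [CompactSpace Y] [QuasiSeparatedSpace Y] (f : X ⟶ Y)
    (QX : X.Modules ⥤ QCohCat.QCoh X) (adjX : (QCohCat.isQCoh X).ι ⊣ QX)
    (QY : Y.Modules ⥤ QCohCat.QCoh Y) (adjY : (QCohCat.isQCoh Y).ι ⊣ QY) :
    Nonempty ((QX ⋙ (QCohCat.isQCoh X).ι ⋙ Scheme.Modules.pushforward f) ≅
      (Scheme.Modules.pushforward f ⋙ QY ⋙ (QCohCat.isQCoh Y).ι)) := by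
  refine ⟨Groth.Agent.Lib.H90Coherator.coreflectorCompIso (QCohCat.isQCoh X) (QCohCat.isQCoh Y)
    (Scheme.Modules.pullbackPushforwardAdjunction f) ?_ ?_ adjX adjY⟩
  · intro G hG
    haveI : G.IsQuasicoherent := hG
    exact Groth.Agent.Lib.H72PullbackQCoh.isQuasicoherent_pullback f G
  · intro F hF
    haveI : F.IsQuasicoherent := hF
    exact Groth.Agent.Lib.H90OXModQcqs.isQuasicoherent_pushforward_of_qcqs f F

end Groth.Agent.S5625
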