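import Groth.Statements.S5642
import Mathlib
import Groth.Agent.Lib.H90K0Coh4

set_option autoImplicit false
universe u
open CategoryTheory CategoryTheory.Limits AlgebraicGeometry
open Classical
open SGA6

namespace Groth.Agent.S5642

/-- Let X be a Noetherian scheme, K the Grothendieck group of coherent O_X-modules and Filt_m ⊆ K the
subgroup generated by the classes of coherent modules whose support has dimension ≤ m. Let F be
coherent with dim Supp(F) ≤ n. Then for the points x of X whose closure Z(x) has dimension n the
stalk F_x has finite length, nonzero for only finitely many such x, and [F] ≡ Σ_x length(F_x)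
[O_{Z(x)}] modulo Filt_{n-1}, where O_{Z(x)} is the structure sheaf of the reduced closed subscheme
Z(x) viewed as an O_X-module. -/
theorem result (X : Scheme.{u}) [IsNoetherian X] (n : ℕ) (F : X.Modules) (hF : Coh.IsCoh F)
    (hsupp : topologicalKrullDim ↥(CohB1.support F) ≤ n) :
    KZero.clSub (fun M : X.Modules => Coh.IsCoh M) F -
        (finsum fun x : ↥X => if topologicalKrullDim ↥(closure ({x} : Set ↥X)) = n then
          (Module.length (X.presheaf.stalk x) (F.presheaf.stalk x)).toNat • KZero.clSub (fun M : X.Modules => Coh.IsCoh M) (Cyc.closureStructureSheaf x) else 0) ∈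
      AddSubgroup.closure {c : KZero.K0sub (fun M : X.Modules => Coh.IsCoh M) |
        ∃ G : X.Modules, Coh.IsCoh G ∧ topologicalKrullDim ↥(CohB1.support G) < n ∧ c = KZero.clSub (fun M : X.Modules => Coh.IsCoh M) G} := by
  open Groth.Agent.Lib.H90K0Coh in
  obtain ⟨c, ha, hb, hc⟩ := exists_length_finsupp n F hF hsupp
  have h1 := suppGroup_eq_closure (X := X) (dimLT X (n : WithBot ℕ∞))
    (fun S => topologicalKrullDim ↥S < (n : WithBot ℕ∞)) (fun T => Iff.rfl)
  rw [h1] at hc
  have hfun : (fun x : ↥X => if topologicalKrullDim ↥(closure ({x} : Set ↥X)) = n then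
      (Module.length (X.presheaf.stalk x) (F.presheaf.stalk x)).toNat •
        KZero.clSub (fun M : X.Modules => Coh.IsCoh M) (Cyc.closureStructureSheaf x) else 0) =
      fun x => c x • cl (Groth.Agent.Lib.H90DevCanon.hub (ptC x)) := by
    funext x
    by_cases hdx : topologicalKrullDim ↥(closure ({x} : Set ↥X)) = n
    · rw [if_pos hdx, ha x hdx, ENat.toNat_natCast]
      rfl
    · rw [if_neg hdx]
      have : c x = 0 := by
        by_contra h0
        exact hdx (hb x h0)
      rw [this, zero_smul]
  have hsum : (finsum fun x : ↥X => c x • cl (Groth.Agent.Lib.H90DevCanon.hub (ptC x))) = hubSum c := by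
    rw [finsum_eq_sum_of_support_subset (s := c.support)]
    · rfl
    · intro x hx
      rw [Function.mem_support] at hx
      rw [Finset.mem_coe, Finsupp.mem_support_iff]
      intro h0
      apply hx
      rw [h0, zero_smul]
  rw [hfun, hsum]
  exact hc

end Groth.Agent.S5642
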