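-- Statement S5656; proof by helper61.
import Groth.Statements.S5656
import Mathlib.RingTheory.Binomial
import Mathlib.RingTheory.Polynomial.Pochhammer
import Mathlib.Algebra.Group.ForwardDiff
import Mathlib.Algebra.Polynomial.Roots
import Mathlib.Algebra.Polynomial.Degree.Lemmas
import Mathlib.Tactic.FieldSimp
import Mathlib.Tactic.Ring
import Mathlib.Tactic.Linarith

set_option autoImplicit false
universe u
open W4sga6xxiii

namespace Groth.Agent.S5656

open Polynomial

theorem choose_cast_eq (n : ℤ) (k : ℕ) :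
    ((Ring.choose n k : ℤ) : ℚ) = (descPochhammer ℚ k).eval (n : ℚ) / (k.factorial : ℚ) := by
  have h1 : (descPochhammer ℤ k).eval n = k.factorial • Ring.choose n k := by
    rw [Polynomial.eval_eq_smeval]
    exact Ring.descPochhammer_eq_factorial_smul_choose n k
  have h2 : (descPochhammer ℚ k).eval (n : ℚ) = (((descPochhammer ℤ k).eval n : ℤ) : ℚ) := by
    rw [← descPochhammer_map (Int.castRingHom ℚ) k, eval_intCast_map, eq_intCast]
    simp
  have : (k.factorial : ℚ) ≠ 0 := by exact_mod_cast k.factorial_ne_zero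
  rw [h2, h1, nsmul_eq_mul, Int.cast_mul, Int.cast_natCast]
  field_simp

section

variable {G : Type u} [AddCommGroup G] (f : G → ℚ)

theorem exists_poly (hf : IsPolyMap f) (z : G) :
    ∃ Φ : ℚ[X], ∀ n : ℤ, Φ.eval (n : ℚ) = f (n • z) := by
  obtain ⟨m, y, -, hy⟩ := hf 1 (fun _ => z)
  refine ⟨∑ k : Fin (m + 1),
    C (y (fun _ => k) / ((k : ℕ).factorial : ℚ)) * descPochhammer ℚ (k : ℕ), ?_⟩
  intro n
  have h := hy (fun _ => n)
  simp only [Fin.sum_univ_one, Fin.prod_univ_one] at h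
  rw [h, eval_finsetSum]
  rw [← (Equiv.funUnique (Fin 1) (Fin (m + 1))).symm.sum_comp]
  refine Finset.sum_congr rfl fun k _ => ?_
  have hk : ((Equiv.funUnique (Fin 1) (Fin (m + 1))).symm k) = fun _ => k := by
    funext i; rfl
  rw [hk, eval_mul, eval_C, zsmul_eq_mul, choose_cast_eq]
  have : ((k : ℕ).factorial : ℚ) ≠ 0 := by exact_mod_cast (k : ℕ).factorial_ne_zero
  field_simp

end

theorem leadingCoeff_mul_factorial_int (Φ : ℚ[X]) (h : ∀ n : ℤ, ∃ a : ℤ, Φ.eval (n : ℚ) = a) :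
    ∃ a : ℤ, Φ.leadingCoeff * (Φ.natDegree.factorial : ℚ) = a := by
  have h1 := congrFun (Polynomial.fwdDiff_iter_degree_eq_factorial Φ) 0
  rw [fwdDiff_iter_eq_sum_shift] at h1
  choose a ha using h
  refine ⟨∑ k ∈ Finset.range (Φ.natDegree + 1),
    ((-1 : ℤ) ^ (Φ.natDegree - k) * Φ.natDegree.choose k) * a k, ?_⟩
  have h2 : (Φ.leadingCoeff • (Φ.natDegree.factorial : ℚ → ℚ)) 0 =
      Φ.leadingCoeff * (Φ.natDegree.factorial : ℚ) := by
    simp
  rw [← h2, ← h1]
  push_cast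
  refine Finset.sum_congr rfl fun k _ => ?_
  have h3 : (0 : ℚ) + k • (1 : ℚ) = ((k : ℤ) : ℚ) := by simp
  rw [h3, ha, zsmul_eq_mul]
  push_cast
  ring

theorem eq_comp_of_eval (Φ Ψ : ℚ[X]) (M : ℤ)
    (h : ∀ n : ℤ, Φ.eval (n : ℚ) = Ψ.eval ((M : ℚ) * n)) :
    Φ = Ψ.comp (C (M : ℚ) * X) := by
  apply Polynomial.eq_of_infinite_eval_eq
  apply Set.infinite_of_injective_forall_mem (f := fun n : ℤ => (n : ℚ)) Int.cast_injective
  intro n
  simp [eval_comp, h n]

section Main

variable {G : Type u} [AddCommGroup G] (G' : AddSubgroup G)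
    (p : ℕ) (hp : p.Prime) (hdiv : ∀ x ∈ G', ∃ y ∈ G', p • y = x)
    (f : G → ℚ) (hf : W4sga6xxiii.IsPolyMap f) (hint : ∀ x, ∃ z : ℤ, f x = z)

include hdiv in
theorem exists_pow_div (x : G) (hx : x ∈ G') (j : ℕ) : ∃ z ∈ G', (p ^ j) • z = x := by
  induction j with
  | zero => exact ⟨x, hx, by simp⟩
  | succ j ih =>
    obtain ⟨z, hz, hzx⟩ := ih
    obtain ⟨w, hw, hwz⟩ := hdiv z hz
    refine ⟨w, hw, ?_⟩
    rw [pow_succ, mul_smul, hwz, hzx]

include hp hdiv hf hint in
theorem const_on_sub (x : G) (hx : x ∈ G') (n : ℤ) : f (n • x) = f 0 := by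
  obtain ⟨Φ, hΦ⟩ := exists_poly f hf x
  have hd : Φ.natDegree = 0 := by
    by_contra hd
    have hΦ0 : Φ ≠ 0 := by
      intro h0; rw [h0] at hd; simp at hd
    have hlead : Φ.leadingCoeff ≠ 0 := leadingCoeff_ne_zero.mpr hΦ0
    -- for each j, the integrality statement
    have key : ∀ j : ℕ, ∃ a : ℤ,
        Φ.leadingCoeff * (Φ.natDegree.factorial : ℚ) = a * ((p : ℚ) ^ j) ^ Φ.natDegree := by
      intro j
      obtain ⟨z, hz, hzx⟩ := exists_pow_div G' p hdiv x hx j
      obtain ⟨Ψ, hΨ⟩ := exists_poly f hf z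
      have hcomp : Φ = Ψ.comp (C (((p ^ j : ℕ) : ℤ) : ℚ) * X) := by
        apply eq_comp_of_eval
        intro n
        rw [hΦ, ← hzx]
        have : n • (p ^ j) • z = (((p ^ j : ℕ) : ℤ) * n) • z := by
          rw [mul_smul, natCast_zsmul, smul_comm]
        rw [this, ← hΨ]
        push_cast
        rfl
      have hpj : (((p ^ j : ℕ) : ℤ) : ℚ) ≠ 0 := by
        have := hp.pos
        positivity
      have hdeg : Φ.natDegree = Ψ.natDegree := by
        conv_lhs => rw [hcomp]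
        rw [natDegree_comp, natDegree_C_mul_X _ hpj, mul_one]
      have hlc : Φ.leadingCoeff = Ψ.leadingCoeff * ((((p ^ j : ℕ) : ℤ) : ℚ)) ^ Ψ.natDegree := by
        conv_lhs => rw [hcomp]
        rw [leadingCoeff_comp (by rw [natDegree_C_mul_X _ hpj]; exact one_ne_zero),
          leadingCoeff_C_mul_X]
      obtain ⟨a, ha⟩ := leadingCoeff_mul_factorial_int Ψ (fun n => by
        obtain ⟨b, hb⟩ := hint (n • z)
        exact ⟨b, by rw [hΨ, hb]⟩)
      refine ⟨a, ?_⟩
      rw [hlc, hdeg, mul_right_comm, ha]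
      push_cast
      ring
    obtain ⟨a₀, ha₀⟩ := key 0
    simp only [pow_zero, one_pow, mul_one] at ha₀
    have ha₀ne : a₀ ≠ 0 := by
      intro h
      rw [h, Int.cast_zero] at ha₀
      have : (Φ.natDegree.factorial : ℚ) ≠ 0 := by exact_mod_cast Φ.natDegree.factorial_ne_zero
      exact (mul_ne_zero hlead this) ha₀
    obtain ⟨a, ha⟩ := key a₀.natAbs
    rw [ha₀] at ha
    have hZ : a₀ = a * ((p : ℤ) ^ a₀.natAbs) ^ Φ.natDegree := by
      exact_mod_cast ha
    have hdvd : ((p : ℤ) ^ a₀.natAbs) ^ Φ.natDegree ∣ a₀ := ⟨a, hZ.trans (mul_comm _ _)⟩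
    have hle := Int.natAbs_le_of_dvd_ne_zero hdvd ha₀ne
    rw [Int.natAbs_pow, Int.natAbs_pow, Int.natAbs_natCast] at hle
    have h1 : a₀.natAbs < 2 ^ a₀.natAbs := Nat.lt_two_pow_self
    have h2 : 2 ^ a₀.natAbs ≤ p ^ a₀.natAbs := Nat.pow_le_pow_left hp.two_le _
    have h3 : p ^ a₀.natAbs ≤ (p ^ a₀.natAbs) ^ Φ.natDegree :=
      Nat.le_self_pow hd _
    omega
  obtain ⟨c, hc⟩ : ∃ c, Φ = C c := ⟨_, eq_C_of_natDegree_eq_zero hd⟩
  subst hc
  have h1 : f (n • x) = c := by
    rw [← hΦ, eval_C]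
  have h2 : f 0 = c := by
    have := hΦ 0
    rw [zero_smul, eval_C] at this
    exact this.symm
  rw [h1, h2]

end Main

/-- Let G be an abelian group and G' ⊆ G a subgroup which is divisible by some prime number p (every
element of G' is p times an element of G') and such that G/G' is a torsion group. Then every
polynomial map f : G → ℚ (admitting binomial expansions f(Σ n_i x_i) = Σ_k Π_i C(n_i, k_i) y_k along
every finite sequence x) which takes only integer values is constant. -/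
theorem result {G : Type u} [AddCommGroup G] (G' : AddSubgroup G)
    (p : ℕ) (hp : p.Prime) (hdiv : ∀ x ∈ G', ∃ y ∈ G', p • y = x) (htor : ∀ x : G, ∃ n : ℤ, n ≠ 0 ∧ n • x ∈ G')
    (f : G → ℚ) (hf : W4sga6xxiii.IsPolyMap f) (hint : ∀ x, ∃ z : ℤ, f x = z) (x : G) : f x = f 0 := by
  obtain ⟨N, hN, hNx⟩ := htor x
  obtain ⟨Φ, hΦ⟩ := exists_poly f hf x
  have hconst : Φ = C (f 0) := by
    apply Polynomial.eq_of_infinite_eval_eq
    apply Set.infinite_of_injective_forall_mem (f := fun n : ℤ => ((N * n : ℤ) : ℚ))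
    · intro a b hab
      have hab' : ((N * a : ℤ) : ℚ) = ((N * b : ℤ) : ℚ) := hab
      have : N * a = N * b := by exact_mod_cast hab'
      exact mul_left_cancel₀ hN this
    · intro n
      show Φ.eval ((N * n : ℤ) : ℚ) = (C (f 0)).eval _
      rw [hΦ, eval_C, mul_comm, mul_smul]
      exact const_on_sub G' p hp hdiv f hf hint (N • x) hNx n
  have h1 := hΦ 1
  rw [one_smul, hconst, eval_C] at h1
  exact h1.symm

end Groth.Agent.S5656
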