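-- Statement S5657; proof by helper61.
import Groth.Statements.S5657
import Mathlib.RingTheory.Binomial
import Mathlib.Algebra.BigOperators.Ring.Finset
import Mathlib.Algebra.BigOperators.Group.Finset.Defs
import Mathlib.Tactic.Ring
import Mathlib.Tactic.LinearCombination

set_option autoImplicit false
universe u
open TensorProduct
open W4sga6xxiii

namespace Groth.Agent.S5657

section Binom

variable {A : Type u} [CommRing A]

/-- The truncated binomial series of `(1 + t) ^ n`. -/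
noncomputable def E (t : A) (m : ℕ) (n : ℤ) : A :=
  ∑ k ∈ Finset.range (m + 1), (Ring.choose n k : ℤ) * t ^ k

theorem E_zero (t : A) (m : ℕ) : E t m 0 = 1 := by
  unfold E
  rw [Finset.sum_range_succ']
  have h : ∀ k ∈ Finset.range m, ((Ring.choose (0 : ℤ) (k + 1) : ℤ) : A) * t ^ (k + 1) = 0 := by
    intro k _
    rw [Ring.choose_zero_succ, Int.cast_zero, zero_mul]
  rw [Finset.sum_eq_zero h, Ring.choose_zero_right]
  simp

theorem E_succ (t : A) (m : ℕ) (ht : t ^ (m + 1) = 0) (n : ℤ) :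
    E t m (n + 1) = (1 + t) * E t m n := by
  have h1 : E t m (n + 1) = 1 + ∑ k ∈ Finset.range m,
      (((Ring.choose n k : ℤ) : A) + ((Ring.choose n (k + 1) : ℤ) : A)) * t ^ (k + 1) := by
    unfold E
    rw [Finset.sum_range_succ', Ring.choose_zero_right]
    simp only [Int.cast_one, pow_zero, mul_one]
    rw [add_comm]
    congr 1
    refine Finset.sum_congr rfl fun k _ => ?_
    rw [Ring.choose_succ_succ, Int.cast_add]
  have h2 : E t m n = 1 + ∑ k ∈ Finset.range m, ((Ring.choose n (k + 1) : ℤ) : A) * t ^ (k + 1) := by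
    unfold E
    rw [Finset.sum_range_succ', Ring.choose_zero_right]
    simp only [Int.cast_one, pow_zero, mul_one]
    rw [add_comm]
  have h3 : t * E t m n = ∑ k ∈ Finset.range m, ((Ring.choose n k : ℤ) : A) * t ^ (k + 1) := by
    unfold E
    rw [Finset.mul_sum, Finset.sum_range_succ]
    have : t * (((Ring.choose n m : ℤ) : A) * t ^ m) = 0 := by
      rw [mul_left_comm, ← pow_succ', ht, mul_zero]
    rw [this, add_zero]
    refine Finset.sum_congr rfl fun k _ => ?_
    rw [pow_succ]; ring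
  rw [add_mul, one_mul, h3, h1]
  conv_rhs => rw [h2]
  simp only [add_mul, Finset.sum_add_distrib]
  ring

theorem E_eq_zpow (u : Aˣ) (m : ℕ) (hu : ((u : A) - 1) ^ (m + 1) = 0) (n : ℤ) :
    E ((u : A) - 1) m n = ((u ^ n : Aˣ) : A) := by
  have hstep : ∀ n : ℤ, E ((u : A) - 1) m (n + 1) = (u : A) * E ((u : A) - 1) m n := by
    intro n
    rw [E_succ _ m hu n]
    congr 1
    ring
  induction n using Int.induction_on with
  | zero => rw [E_zero, zpow_zero, Units.val_one]
  | succ n ih =>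
    rw [hstep, ih, zpow_add_one, Units.val_mul, mul_comm]
  | pred n ih =>
    have h := hstep (-(n : ℤ) - 1)
    rw [sub_add_cancel, ih] at h
    have h2 : E ((u : A) - 1) m (-(n : ℤ) - 1) = ((u⁻¹ : Aˣ) : A) * ((u ^ (-(n : ℤ)) : Aˣ) : A) := by
      rw [h, ← mul_assoc, ← Units.val_mul, inv_mul_cancel, Units.val_one, one_mul]
    rw [h2, ← Units.val_mul, zpow_sub_one, mul_comm]

end Binom

/-- Let A be a commutative ring, I an ideal of A with I^{m+1} = 0, and P ⊆ Aˣ the subgroup of units of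
the form 1 + y with y ∈ I. Then the map P → A ⊗_ℤ ℚ, x ↦ x ⊗ 1, is a polynomial map of degree ≤ m on
the abelian group P (written additively): along every finite sequence x_1, …, x_r in P one has
x_1^{n_1}⋯x_r^{n_r} ⊗ 1 = Σ_k Π_i C(n_i, k_i) y_k with y_k = 0 whenever k_1 + ⋯ + k_r > m. -/
theorem result (A : Type u) [CommRing A] (I : Ideal A) (m : ℕ) (hI : I ^ (m + 1) = ⊥)
    (P : Subgroup Aˣ) (hP : ∀ u : Aˣ, u ∈ P ↔ (u : A) - 1 ∈ I) :
    W4sga6xxiii.IsPolyMapLE (fun u : Additive P => (((Additive.toMul u : P) : Aˣ) : A) ⊗ₜ[ℤ] (1 : ℚ)) m := by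
  intro r x
  let u : Fin r → Aˣ := fun i => ((Additive.toMul (x i) : P) : Aˣ)
  let t : Fin r → A := fun i => (u i : A) - 1
  have htI : ∀ i, t i ∈ I := fun i => (hP (u i)).mp (Additive.toMul (x i) : P).2
  have ht0 : ∀ i, t i ^ (m + 1) = 0 := by
    intro i
    have : t i ^ (m + 1) ∈ I ^ (m + 1) := Ideal.pow_mem_pow (htI i) _
    rw [hI] at this
    exact this
  refine ⟨fun k => (∏ i, t i ^ (k i : ℕ)) ⊗ₜ[ℤ] (1 : ℚ), ?_, ?_⟩
  · intro k hk
    have h1 : (∏ i, t i ^ (k i : ℕ)) ∈ ∏ i : Fin r, I ^ (k i : ℕ) :=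
      Ideal.prod_mem_prod fun i _ => Ideal.pow_mem_pow (htI i) _
    rw [Finset.prod_pow_eq_pow_sum] at h1
    have h2 : I ^ (∑ i, (k i : ℕ)) ≤ I ^ (m + 1) := Ideal.pow_le_pow_right hk
    have h3 := h2 h1
    rw [hI] at h3
    have h4 : (∏ i, t i ^ (k i : ℕ)) = 0 := h3
    show (∏ i, t i ^ (k i : ℕ)) ⊗ₜ[ℤ] (1 : ℚ) = 0
    rw [h4, zero_tmul]
  · intro n
    have hcoe : (((Additive.toMul (∑ i, n i • x i) : P) : Aˣ) : A) = ∏ i, ((u i ^ n i : Aˣ) : A) := by
      rw [toMul_sum]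
      simp only [toMul_zsmul]
      rw [← Subgroup.coe_subtype, map_prod, ← Units.coeHom_apply, map_prod]
      refine Finset.prod_congr rfl fun i _ => ?_
      rw [map_zpow]
      rfl
    have hE : ∀ i, ((u i ^ n i : Aˣ) : A) = ∑ k : Fin (m + 1), ((Ring.choose (n i) (k : ℕ) : ℤ) : A) * t i ^ (k : ℕ) := by
      intro i
      rw [← E_eq_zpow (u i) m (ht0 i) (n i)]
      unfold E
      rw [Finset.sum_range]
    show (((Additive.toMul (∑ i, n i • x i) : P) : Aˣ) : A) ⊗ₜ[ℤ] (1 : ℚ) = _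
    rw [hcoe]
    simp only [hE]
    rw [Finset.prod_univ_sum, Fintype.piFinset_univ, sum_tmul]
    refine Finset.sum_congr rfl fun k _ => ?_
    rw [Finset.prod_mul_distrib, ← Int.cast_prod, ← zsmul_eq_mul, smul_tmul']

end Groth.Agent.S5657
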