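import Groth.Statements.S5659
import Groth.Agent.Lib.NatCharGL38

set_option autoImplicit false
universe u
open CAlg

namespace Groth.Agent.S5659

/-- Every homomorphism of group sheaves Gl(n_1) × ⋯ × Gl(n_r) → G_m is (s_1, …, s_r) ↦ det(s_1)^{m_1} ⋯
det(s_r)^{m_r} with locally constant integers m_i uniquely determined by it. Concretely, over a
commutative ring R whose prime spectrum is connected and for ranks n_i ≥ 1: every family of group
homomorphisms α_B : GL_{n_1}(B) × ⋯ × GL_{n_r}(B) → Bˣ, one for each commutative R-algebra B and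
natural in B, is given by α_B(s) = Π_i det(s_i)^{m_i} for a unique m ∈ ℤ^r. (The published statement
allows ranks n_i ≥ 0; uniqueness of m_i needs n_i ≥ 1, since Gl(0) is trivial.) -/
theorem result (R : Type u) [CommRing R] [ConnectedSpace (PrimeSpectrum R)]
    (r : ℕ) (n : Fin r → ℕ) (hn : ∀ i, 0 < n i)
    (α : ∀ (B : Type u) [CommRing B] [Algebra R B], (∀ i, Matrix.GeneralLinearGroup (Fin (n i)) B) →* Bˣ)
    (hα : ∀ (B C : Type u) [CommRing B] [Algebra R B] [CommRing C] [Algebra R C] (φ : B →ₐ[R] C)
      (s : ∀ i, Matrix.GeneralLinearGroup (Fin (n i)) B),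
      α C (fun i => Matrix.GeneralLinearGroup.map φ.toRingHom (s i)) = Units.map (φ.toRingHom : B →* C) (α B s)) :
    ∃! m : Fin r → ℤ, ∀ (B : Type u) [CommRing B] [Algebra R B] (s : ∀ i, Matrix.GeneralLinearGroup (Fin (n i)) B),
      α B s = ∏ i, Matrix.GeneralLinearGroup.det (s i) ^ (m i) := by
  classical
  let γ : ∀ i, Lib.NatCharGL38.NatChar R (Fin (n i)) := fun i =>
    { hom := fun B _ _ => (α B).comp
        (MonoidHom.mulSingle (fun i => Matrix.GeneralLinearGroup (Fin (n i)) B) i)
      nat := fun B C _ _ _ _ φ s => by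
        show α C (Pi.mulSingle i (Matrix.GeneralLinearGroup.map φ.toRingHom s)) =
          Units.map _ (α B (Pi.mulSingle i s))
        rw [← hα]
        congr 1
        funext j
        by_cases hj : j = i
        · subst hj; simp
        · simp [Pi.mulSingle_eq_of_ne hj] }
  have hγ : ∀ i (B : Type u) [CommRing B] [Algebra R B] (s : Matrix.GeneralLinearGroup (Fin (n i)) B),
      (γ i).hom B s = α B (Pi.mulSingle i s) := fun i B _ _ s => rfl
  have hne : ∀ i, Nonempty (Fin (n i)) := fun i => ⟨⟨0, hn i⟩⟩
  choose m hm using fun i => (γ i).exists_det_zpow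
  have hnt : Nontrivial R := by
    by_contra h
    rw [not_nontrivial_iff_subsingleton] at h
    have : Nonempty (PrimeSpectrum R) := inferInstance
    obtain ⟨p⟩ := this
    exact p.isPrime.ne_top (Subsingleton.elim _ _)
  -- the formula for a general `m'`
  have hformula : ∀ (B : Type u) [CommRing B] [Algebra R B]
      (s : ∀ i, Matrix.GeneralLinearGroup (Fin (n i)) B),
      α B s = ∏ i, α B (Pi.mulSingle i (s i)) := by
    intro B _ _ s
    conv_lhs => rw [← Finset.noncommProd_mulSingle s]
    rw [Finset.map_noncommProd, Finset.noncommProd_eq_prod]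
  refine ⟨m, ?_, ?_⟩
  · intro B _ _ s
    rw [hformula]
    refine Finset.prod_congr rfl fun i _ => ?_
    rw [← hγ]
    exact hm i B (s i)
  · intro m' hm'
    funext i
    let L := AddMonoidAlgebra R ℤ
    let t : Lˣ := Lib.NatCharGL38.tU R
    let g : Matrix.GeneralLinearGroup (Fin (n i)) L :=
      Lib.NatCharGL38.diagGL (Pi.mulSingle ⟨0, hn i⟩ t)
    have hdet : Matrix.GeneralLinearGroup.det g = t := by
      rw [Lib.NatCharGL38.det_diagGL, Finset.prod_pi_mulSingle', if_pos (Finset.mem_univ _)]
    have h1 := hm' L (Pi.mulSingle i g)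
    have h2 : ∏ j, Matrix.GeneralLinearGroup.det ((Pi.mulSingle i g :
        ∀ i, Matrix.GeneralLinearGroup (Fin (n i)) L) j) ^ (m' j) = t ^ (m' i) := by
      rw [Finset.prod_eq_single i]
      · rw [Pi.mulSingle_eq_same, hdet]
      · intro j _ hj
        rw [Pi.mulSingle_eq_of_ne hj, map_one, one_zpow]
      · intro h; exact absurd (Finset.mem_univ i) h
    have h3 : α L (Pi.mulSingle i g) = t ^ (m i) := by
      rw [← hγ, hm i L g, hdet]
    rw [h2, h3] at h1
    exact (Lib.NatCharGL38.tU_zpow_injective R h1).symm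

end Groth.Agent.S5659
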