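import Groth.Statements.S5663
import Groth.Agent.Lib.EqChain18

set_option autoImplicit false
set_option maxHeartbeats 400000
universe u
open TensorProduct
open CAlg

namespace Groth.Agent.S5663

/-- Let A be a Noetherian ring and B a finite A-algebra with A → B injective (a finite schematically
dominant morphism Spec B → Spec A). Define subalgebras B_0 = B and B_{i+1} = the equalizer of the
two maps B_i ⇉ B_i ⊗_A B_i, b ↦ b ⊗ 1, 1 ⊗ b. Then B_m = A (the image of A) for some m; equivalently
Spec B → Spec A factors as a finite chain of finite morphisms Spec B_i → Spec B_{i+1} each of which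
is an effective epimorphism (B_{i+1} is the equalizer of B_i ⇉ B_i ⊗_{B_{i+1}} B_i). The sequence is
given here as any family C of subalgebras satisfying the recursion. (The published statement is for
a finite morphism X → Y of schemes with Y Noetherian and O_Y → f_*O_X injective; this row is the
affine case.) -/
theorem result (A B : Type u) [CommRing A] [CommRing B] [Algebra A B]
    [IsNoetherianRing A] [Module.Finite A B] (hinj : Function.Injective (algebraMap A B))
    (C : ℕ → Subalgebra A B) (h0 : C 0 = ⊤)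
    (hstep : ∀ (i : ℕ) (b : B), b ∈ C (i + 1) ↔ ∃ hb : b ∈ C i,
      ((⟨b, hb⟩ : C i) ⊗ₜ[A] (1 : C i) : C i ⊗[A] C i) = (1 : C i) ⊗ₜ[A] (⟨b, hb⟩ : C i)) :
    ∃ m : ℕ, C m = ⊥ := by
  classical
  haveI : IsNoetherian A B := isNoetherian_of_isNoetherianRing_of_finite A B
  have hanti : Antitone C := antitone_nat_of_succ_le (fun i b hb => ((hstep i b).mp hb).1)
  let Nb : Submodule A B := Subalgebra.toSubmodule (⊥ : Subalgebra A B)
  have hNble : ∀ i, Nb ≤ Subalgebra.toSubmodule (C i) := fun i b hb => by
    have : b ∈ (⊥ : Subalgebra A B) := hb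
    exact (bot_le : (⊥ : Subalgebra A B) ≤ C i) this
  let a : ℕ →o Ideal A :=
    { toFun := fun i => Nb.colon (Subalgebra.toSubmodule (C i) : Set B)
      monotone' := fun i j hij => Submodule.colon_mono le_rfl (fun b hb => hanti hij hb) }
  obtain ⟨n0, hn0⟩ := monotone_stabilizes_iff_noetherian.mpr inferInstance a
  by_cases htop : a n0 = ⊤
  · refine ⟨n0, le_bot_iff.mp fun b hb => ?_⟩
    have h1 : (1 : A) ∈ a n0 := htop ▸ Submodule.mem_top
    have := Submodule.mem_colon.mp h1 b hb
    rwa [one_smul] at this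
  · exfalso
    obtain ⟨⟨p, hp⟩⟩ := Ideal.nonempty_minimalPrimes htop
    haveI : p.IsPrime := hp.1.1
    let N : ℕ → Submodule A (B ⧸ Nb) := fun i =>
      (Subalgebra.toSubmodule (C (n0 + i))).map Nb.mkQ
    have hNanti : Antitone N := fun i j hij =>
      Submodule.map_mono (fun b hb => hanti (Nat.add_le_add_left hij n0) hb)
    have hfg : (N 0).FG := IsNoetherian.noetherian _
    have hann : (N 0).annihilator = a n0 := Submodule.annihilator_map_mkQ_eq_colon
    obtain ⟨n, hn⟩ := Groth.Agent.Lib.EqChain18.exists_local_stable N hNanti hfg p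
      (by rw [hann]; exact hp)
    have hloc : ∀ b ∈ C (n0 + n), ∃ s, s ∉ p ∧ s • b ∈ C (n0 + n + 1) := by
      intro b hb
      obtain ⟨s, hs, hsb⟩ := hn (Nb.mkQ b) ⟨b, hb, rfl⟩
      refine ⟨s, hs, ?_⟩
      obtain ⟨c, hc, hcb⟩ := hsb
      rw [← map_smul, Submodule.mkQ_apply, Submodule.mkQ_apply, Submodule.Quotient.eq] at hcb
      have h2 : c - s • b ∈ Subalgebra.toSubmodule (C (n0 + n + 1)) := hNble _ hcb
      have h3 : s • b = c - (c - s • b) := by abel
      rw [h3]
      exact (Subalgebra.toSubmodule (C (n0 + n + 1))).sub_mem hc h2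
    haveI : Module.Finite A (C (n0 + n)) :=
      Module.Finite.iff_fg.mpr (IsNoetherian.noetherian (Subalgebra.toSubmodule (C (n0 + n))))
    have hbot := Groth.Agent.Lib.EqChain18.local_bot_of_local_eq (C (n0 + n)) (C (n0 + n + 1))
      (fun b hb => (hstep (n0 + n) b).mp hb) p hloc
    obtain ⟨s, hs, hsall⟩ := Groth.Agent.Lib.EqChain18.exists_forall_smul_mem_of_fg p
      (P := Subalgebra.toSubmodule (C (n0 + n))) (N := Nb) (IsNoetherian.noetherian _) hbot
    have hsa : s ∈ a (n0 + n) := Submodule.mem_colon.mpr hsall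
    rw [← hn0 (n0 + n) (Nat.le_add_right _ _)] at hsa
    exact hs (hp.1.2 hsa)

end Groth.Agent.S5663
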