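import Groth.Statements.S5673
import Groth.Agent.S5665
import Groth.Agent.Lib.TorLES
import Groth.Agent.Lib.TorBalance
import Groth.Agent.Lib.DerivedHomologyLinear
import Mathlib.Tactic

set_option autoImplicit false
universe u
open CategoryTheory
open Dual

namespace Groth.Agent.S5673

open Groth.Agent.Lib.TorLES in
/-- multiplication by `x` in the first variable acts as multiplication by `x` on `Tor`. -/
lemma tor_map_smul_id {A : Type u} [CommRing A] (x : A) (M N : ModuleCat.{u} A) (n : ℕ) :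
    ((Tor (ModuleCat.{u} A) n).map (x • 𝟙 M)).app N = x • 𝟙 _ := by
  let P := ProjectiveResolution.of N
  have h := torIso_hom_naturality P (x • 𝟙 M) n
  have h1 : (tensorCx P.complex).map (x • 𝟙 M) = x • 𝟙 _ := by
    ext i : 1
    rw [tensorCx_map_f]
    rw [MonoidalLinear.smul_whiskerRight]
    simp
    rfl
  rw [h1, Groth.Agent.Lib.DerivedHomologyLinear.homologyMap_smul, HomologicalComplex.homologyMap_id,
    Linear.comp_smul, Category.comp_id] at h
  rw [← cancel_mono (torIso P M n).hom, h, Linear.smul_comp, Category.id_comp]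

section Step

open Groth.Agent.Lib.TorLES

variable {A : Type u} [CommRing A] {X Z : ModuleCat.{u} A} (x : A) (g : X ⟶ Z)
  (w : (x • 𝟙 X) ≫ g = 0) (hS : (ShortComplex.mk (x • 𝟙 X) g w).ShortExact)
  (N : ModuleCat.{u} A)

/-- kernel of multiplication by `x` -/
abbrev kerSmul (x : A) (T : Type*) [AddCommGroup T] [Module A T] : Submodule A T :=
  LinearMap.ker (x • (LinearMap.id : T →ₗ[A] T))

lemma mem_kerSmul {x : A} {T : Type*} [AddCommGroup T] [Module A T] (t : T) :
    t ∈ kerSmul x T ↔ x • t = 0 := by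
  rw [LinearMap.mem_ker, LinearMap.smul_apply, LinearMap.id_apply]

/-- transporting the kernel of multiplication by `x` along a linear equivalence -/
noncomputable def kerSmulCongr {T H : Type*} [AddCommGroup T] [Module A T] [AddCommGroup H]
    [Module A H] (e : T ≃ₗ[A] H) (x : A) : kerSmul x T ≃ₗ[A] kerSmul x H :=
  LinearEquiv.ofLinear
    ((e.toLinearMap.comp (Submodule.subtype _)).codRestrict _ (fun t => by
      rw [mem_kerSmul, ← map_smul]
      have := (mem_kerSmul _).mp t.2
      change (e.toLinearMap.comp (Submodule.subtype _)) (x • t) = 0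
      rw [LinearMap.comp_apply, Submodule.subtype_apply, Submodule.coe_smul, this, map_zero]))
    ((e.symm.toLinearMap.comp (Submodule.subtype _)).codRestrict _ (fun t => by
      rw [mem_kerSmul, ← map_smul]
      have := (mem_kerSmul _).mp t.2
      change (e.symm.toLinearMap.comp (Submodule.subtype _)) (x • t) = 0
      rw [LinearMap.comp_apply, Submodule.subtype_apply, Submodule.coe_smul, this, map_zero]))
    (by
      apply LinearMap.ext; intro t; apply Subtype.ext
      simp)
    (by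
      apply LinearMap.ext; intro t; apply Subtype.ext
      simp)

include hS in
lemma isZero_step (i : ℕ) (h1 : Limits.IsZero (((Tor (ModuleCat.{u} A) i).obj X).obj N))
    (h2 : Limits.IsZero (((Tor (ModuleCat.{u} A) (i + 1)).obj X).obj N)) :
    Limits.IsZero (((Tor (ModuleCat.{u} A) (i + 1)).obj Z).obj N) :=
  isZero_tor_X₃ (S := ShortComplex.mk (x • 𝟙 X) g w) hS i h2 h1

/-- The step: `Tor_{n+1}(Z, N) ≅ ker (x on Tor_n(X, N))`. -/
noncomputable def stepEquiv (n : ℕ)
    (h2 : Limits.IsZero (((Tor (ModuleCat.{u} A) (n + 1)).obj X).obj N)) :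
    (((Tor (ModuleCat.{u} A) (n + 1)).obj Z).obj N) ≃ₗ[A]
      kerSmul x (((Tor (ModuleCat.{u} A) n).obj X).obj N) := by
  let P := ProjectiveResolution.of N
  have hmono : Mono (δ P hS n) := (exact₃ P hS n).mono_g (h2.eq_of_src _ _)
  have hinj : Function.Injective (δ P hS n).hom := (ModuleCat.mono_iff_injective _).mp hmono
  have hex : Function.Exact (δ P hS n).hom
      (((Tor (ModuleCat.{u} A) n).map (x • 𝟙 X)).app N).hom :=
    (ShortComplex.ShortExact.moduleCat_exact_iff_function_exact _).mp (exact₁ P hS n)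
  have hrange : LinearMap.range (δ P hS n).hom =
      kerSmul x (((Tor (ModuleCat.{u} A) n).obj X).obj N) := by
    ext t
    rw [mem_kerSmul]
    have h3 := hex t
    rw [tor_map_smul_id] at h3
    constructor
    · intro ht
      exact h3.mpr ht
    · intro ht
      exact h3.mp ht
  exact (LinearEquiv.ofInjective (δ P hS n).hom hinj).trans (LinearEquiv.ofEq _ _ hrange)

end Step

section Concrete

variable {A : Type u} [CommRing A]

/-- `Hom(A/J', M) ≅ ker (x on Hom(A/J, M))` for `J' = J + (x)`. -/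
noncomputable def homQuotEquiv (M : Type*) [AddCommGroup M] [Module A M] (J J' : Ideal A) (x : A)
    (hJ' : J' = J ⊔ Ideal.span {x}) (hle : J ≤ J') :
    kerSmul x ((A ⧸ J) →ₗ[A] M) ≃ₗ[A] ((A ⧸ J') →ₗ[A] M) := by
  let Ψ : ((A ⧸ J') →ₗ[A] M) →ₗ[A] ((A ⧸ J) →ₗ[A] M) :=
    { toFun := fun ψ => ψ.comp (Submodule.factor hle)
      map_add' := fun ψ ψ' => LinearMap.add_comp _ _ _
      map_smul' := fun a ψ => LinearMap.smul_comp _ _ _ }
  have hxJ' : x ∈ J' := by
    rw [hJ']
    exact Ideal.mem_sup_right (Ideal.subset_span rfl)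
  have hΨmem : ∀ ψ, Ψ ψ ∈ kerSmul x ((A ⧸ J) →ₗ[A] M) := by
    intro ψ
    rw [mem_kerSmul]
    apply LinearMap.ext
    intro z
    obtain ⟨c, rfl⟩ := Submodule.Quotient.mk_surjective _ z
    change x • ψ (Submodule.Quotient.mk c : A ⧸ J') = 0
    rw [← map_smul, ← Submodule.Quotient.mk_smul]
    have : (Submodule.Quotient.mk (x • c) : A ⧸ J') = 0 := by
      rw [Submodule.Quotient.mk_eq_zero, smul_eq_mul]
      exact J'.mul_mem_right _ hxJ'
    rw [this, map_zero]
  refine (LinearEquiv.ofBijective (Ψ.codRestrict _ hΨmem) ⟨?_, ?_⟩).symm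
  · intro ψ ψ' h
    have h' : Ψ ψ = Ψ ψ' := congrArg Subtype.val h
    apply LinearMap.ext
    intro z
    obtain ⟨c, rfl⟩ := Submodule.Quotient.mk_surjective _ z
    have := LinearMap.congr_fun h' (Submodule.Quotient.mk c)
    exact this
  · rintro ⟨φ, hφ⟩
    rw [mem_kerSmul] at hφ
    have hker : J' ≤ LinearMap.ker (φ.comp (Submodule.mkQ J)) := by
      intro a ha
      rw [hJ', Submodule.mem_sup] at ha
      obtain ⟨j, hj, c, hc, rfl⟩ := ha
      obtain ⟨c, rfl⟩ := Ideal.mem_span_singleton'.mp hc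
      rw [LinearMap.mem_ker, LinearMap.comp_apply, Submodule.mkQ_apply,
        Submodule.Quotient.mk_add, (Submodule.Quotient.mk_eq_zero J).mpr hj, zero_add]
      have h1 : (Submodule.Quotient.mk (c * x) : A ⧸ J) = x • Submodule.Quotient.mk c := by
        rw [← Submodule.Quotient.mk_smul, smul_eq_mul, mul_comm]
      rw [h1, map_smul]
      exact LinearMap.congr_fun hφ (Submodule.Quotient.mk c)
    refine ⟨Submodule.liftQ J' (φ.comp (Submodule.mkQ J)) hker, ?_⟩
    apply Subtype.ext
    apply LinearMap.ext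
    intro z
    obtain ⟨c, rfl⟩ := Submodule.Quotient.mk_surjective _ z
    rfl

end Concrete

section Main

open Groth.Agent.Lib.TorLES

variable (A : Type u) [CommRing A]

/-- the inductive statement -/
def P (J : Ideal A) (n : ℕ) : Prop :=
  ∀ (M : Type u) [AddCommGroup M] [Module A M],
    (∀ i, n < i → Limits.IsZero (((Tor (ModuleCat.{u} A) i).obj (ModuleCat.of A (A ⧸ J))).obj
      (ModuleCat.of A M))) ∧
    Nonempty ((((Tor (ModuleCat.{u} A) n).obj (ModuleCat.of A (A ⧸ J))).obj
      (ModuleCat.of A M)) ≃ₗ[A] ((A ⧸ J) →ₗ[A] M))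

lemma P_bot : P A ⊥ 0 := by
  intro M _ _
  have hflat : Module.Flat A (ModuleCat.of A (A ⧸ (⊥ : Ideal A))) :=
    Module.Flat.of_linearEquiv (Submodule.quotEquivOfEqBot (⊥ : Ideal A) rfl)
  refine ⟨fun i hi => ?_, ⟨?_⟩⟩
  · obtain ⟨k, rfl⟩ : ∃ k, i = k + 1 := ⟨i - 1, by omega⟩
    exact isZero_tor_succ_of_flat_left _ _ k
  · have e1 : (((Tor (ModuleCat.{u} A) 0).obj (ModuleCat.of A (A ⧸ (⊥ : Ideal A)))).obj
        (ModuleCat.of A M)) ≃ₗ[A] TensorProduct A (A ⧸ (⊥ : Ideal A)) M :=
      (torZeroIso (ModuleCat.of A (A ⧸ (⊥ : Ideal A))) (ModuleCat.of A M)).toLinearEquiv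
    exact e1 ≪≫ₗ
      (TensorProduct.congr (Submodule.quotEquivOfEqBot (⊥ : Ideal A) rfl) (LinearEquiv.refl A M))
      ≪≫ₗ (TensorProduct.lid A M) ≪≫ₗ (LinearMap.ringLmapEquivSelf A A M).symm ≪≫ₗ
      (LinearEquiv.arrowCongr (Submodule.quotEquivOfEqBot (⊥ : Ideal A) rfl)
        (LinearEquiv.refl A M)).symm

lemma P_step (J J' : Ideal A) (x : A) (hJ' : J' = J ⊔ Ideal.span {x})
    (hx : IsSMulRegular (A ⧸ J) x) (n : ℕ) (ih : P A J n) : P A J' (n + 1) := by
  intro M _ _
  have hle : J ≤ J' := hJ' ▸ le_sup_left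
  have w := Groth.Agent.S5665.w_quot J J' x hJ' hle
  have hS := Groth.Agent.S5665.shortExact_quot J J' x hJ' hx hle w
  obtain ⟨h1, ⟨e⟩⟩ := ih M
  refine ⟨fun i hi => ?_, ⟨?_⟩⟩
  · obtain ⟨k, rfl⟩ : ∃ k, i = k + 1 := ⟨i - 1, by omega⟩
    exact isZero_step x _ w hS (ModuleCat.of A M) k (h1 k (by omega)) (h1 (k + 1) (by omega))
  · exact (stepEquiv x _ w hS (ModuleCat.of A M) n (h1 (n + 1) (by omega))) ≪≫ₗ
      (kerSmulCongr e x) ≪≫ₗ (homQuotEquiv M J J' x hJ' hle)

lemma main (xs : List A) (hreg : RingTheory.Sequence.IsWeaklyRegular A xs) :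
    P A (Ideal.ofList xs) xs.length := by
  induction xs using List.reverseRecOn with
  | nil =>
    rw [Ideal.ofList_nil]
    exact P_bot A
  | append_singleton ys x ih =>
    rw [RingTheory.Sequence.isWeaklyRegular_append_iff] at hreg
    obtain ⟨h1, h2⟩ := hreg
    have hx0 : IsSMulRegular (A ⧸ Ideal.ofList ys • (⊤ : Submodule A A)) x :=
      ((RingTheory.Sequence.isWeaklyRegular_cons_iff _ x []).mp h2).1
    have e : Ideal.ofList ys • (⊤ : Submodule A A) = Ideal.ofList ys := by simp
    have hx : IsSMulRegular (A ⧸ Ideal.ofList ys) x :=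
      ((Submodule.quotEquivOfEq _ _ e).isSMulRegular_congr x).mp hx0
    have hlen : (ys ++ [x]).length = ys.length + 1 := by simp
    rw [hlen]
    exact P_step A _ _ x (by rw [Ideal.ofList_append, Ideal.ofList_singleton]) hx _ (ih h1)

end Main

/-- Let `A` be a commutative ring, `xs = (x_1, …, x_p)` a sequence in `A` such that each `x_i` is a
non-zero-divisor on `A/(x_1, …, x_{i-1})`, `J` the ideal generated by the `x_i` and `M` any
`A`-module. Then `Tor_p^A(A/J, M)` (Mathlib's `Tor'`, the left derived functors of `- ⊗ M` evaluated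
at `A/J`, i.e. computed from a resolution of `A/J`) is isomorphic as an `A`-module to `Hom_A(A/J,
M)`, i.e. to the elements of `M` killed by `J`. (Existence of an `A`-linear isomorphism only; the
published one is induced by the Koszul complex of `xs`.) -/
theorem result (A : Type u) [CommRing A] (xs : List A) (hreg : RingTheory.Sequence.IsWeaklyRegular A xs) (M : Type u) [AddCommGroup M] [Module A M] : Nonempty (↑(((Tor' (ModuleCat.{u} A) xs.length).obj (ModuleCat.of A (A ⧸ Ideal.ofList xs))).obj (ModuleCat.of A M)) ≃ₗ[A] ((A ⧸ Ideal.ofList xs) →ₗ[A] M)) := by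
  obtain ⟨e⟩ := Groth.Agent.Lib.TorBalance.tor_iso_tor' (ModuleCat.of A (A ⧸ Ideal.ofList xs))
    (ModuleCat.of A M) xs.length
  obtain ⟨e'⟩ := (main A xs hreg M).2
  exact ⟨e.symm.toLinearEquiv ≪≫ₗ e'⟩

end Groth.Agent.S5673
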