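import Groth.Statements.S5683
import Groth.Agent.Lib.UnitFinLocFree
import Groth.Agent.Lib.H90InvertibleFP

set_option autoImplicit false
universe u
open CategoryTheory CategoryTheory.Limits AlgebraicGeometry
open FGA

namespace Groth.Agent.S5683

/-- Let f : X ⟶ S be a morphism of schemes such that for every open U of S the induced map from sections
of the structure sheaf of S over U to sections of the structure sheaf of X over the inverse image of
U is bijective. If L is an invertible module on S whose pullback to X is isomorphic to the structure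
sheaf of X, then L is isomorphic to the structure sheaf of S: pullback of invertible modules along f
is injective on isomorphism classes. This is exactness at Pic(S). -/
theorem result {X S : Scheme.{u}} (f : X ⟶ S)
    (hf : ∀ U : S.Opens, Function.Bijective (f.app U)) (L : S.Modules) (hL : PicF.IsInvertible L)
    (htriv : Nonempty ((Scheme.Modules.pullback f).obj L ≅ Coh.structureModule X)) :
    Nonempty (L ≅ Coh.structureModule S) := by
  obtain ⟨a⟩ := htriv
  have hL' := Groth.Agent.Lib.H90Invertible.isFinLocFree_of_isInvertible hL
  have hO := Groth.Agent.Lib.H90Invertible.isFinLocFree_of_isInvertible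
    (Groth.Agent.Lib.H90Invertible.isInvertible_structureModule S)
  let c : (Scheme.Modules.pullback f).obj L ≅ (Scheme.Modules.pullback f).obj (Coh.structureModule S) :=
    a ≪≫ (Groth.Agent.Lib.H78PullSec.unitIso f).symm
  obtain ⟨φ, hφ⟩ := (Groth.Agent.Lib.UnitFinLocFree.bijective_pullback_map f hf L _ hO).2 c.hom
  obtain ⟨ψ, hψ⟩ := (Groth.Agent.Lib.UnitFinLocFree.bijective_pullback_map f hf _ L hL').2 c.inv
  refine ⟨⟨φ, ψ, ?_, ?_⟩⟩
  · apply (Groth.Agent.Lib.UnitFinLocFree.bijective_pullback_map f hf L L hL').1
    change (Scheme.Modules.pullback f).map (φ ≫ ψ) = (Scheme.Modules.pullback f).map (𝟙 _)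
    have h1 : (Scheme.Modules.pullback f).map φ = c.hom := hφ
    have h2 : (Scheme.Modules.pullback f).map ψ = c.inv := hψ
    rw [Functor.map_comp, h1, h2, c.hom_inv_id, CategoryTheory.Functor.map_id]
  · apply (Groth.Agent.Lib.UnitFinLocFree.bijective_pullback_map f hf _ _ hO).1
    change (Scheme.Modules.pullback f).map (ψ ≫ φ) = (Scheme.Modules.pullback f).map (𝟙 _)
    have h1 : (Scheme.Modules.pullback f).map φ = c.hom := hφ
    have h2 : (Scheme.Modules.pullback f).map ψ = c.inv := hψ
    rw [Functor.map_comp, h1, h2, c.inv_hom_id, CategoryTheory.Functor.map_id]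

end Groth.Agent.S5683
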