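import Groth.Statements.S5691
import Mathlib.CategoryTheory.Functor.TypeValuedFlat
import Mathlib.CategoryTheory.Limits.Types.Filtered
import Mathlib.CategoryTheory.Elements
import Mathlib.CategoryTheory.Subobject.Lattice
-- import your own Groth.Agent.* helpers here

set_option autoImplicit false
universe u
open CategoryTheory CategoryTheory.Limits
open FGA

namespace Groth.Agent.S5691

section

variable {C : Type u} [SmallCategory C] [HasFiniteLimits C] (F : C ⥤ Type u)

/-- An element `(X, ξ)` of `F` is minimal when `ξ` does not come from a proper subobject. -/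
def IsMinimalElt (e : F.Elements) : Prop :=
  ∀ (e' : F.Elements) (m : e' ⟶ e), Mono m.1 → IsIso m.1

variable {F}

theorem epi_of_isMinimalElt {e e' : F.Elements} (he : IsMinimalElt F e) (g : e' ⟶ e) :
    Epi g.1 := by
  constructor
  intro Z u v h
  let κ : F.obj (equalizer u v) := F.map (equalizer.lift g.1 h) e'.2
  have hκ : F.map (equalizer.ι u v) κ = e.2 := by
    change F.map (equalizer.ι u v) (F.map (equalizer.lift g.1 h) e'.2) = e.2
    rw [← Functor.map_comp_apply, equalizer.lift_ι]
    exact g.2
  have hiso : IsIso (equalizer.ι u v) :=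
    he ⟨equalizer u v, κ⟩ ⟨equalizer.ι u v, hκ⟩ inferInstance
  exact (cancel_epi (equalizer.ι u v)).1 (equalizer.condition u v)

theorem exists_isMinimalElt (hart : ∀ X : C, IsArtinianObject X) (e : F.Elements) :
    ∃ (e' : F.Elements) (m : e' ⟶ e), IsMinimalElt F e' ∧ Mono m.1 := by
  obtain ⟨X, ξ⟩ := e
  haveI := hart X
  let S : Set (Subobject X) := {s | ∃ κ : F.obj (s : C), F.map s.arrow κ = ξ}
  have hS : S.Nonempty := by
    refine ⟨⊤, F.map (inv (⊤ : Subobject X).arrow) ξ, ?_⟩
    rw [← Functor.map_comp_apply, IsIso.inv_hom_id, Functor.map_id_apply]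
  obtain ⟨s₀, ⟨κ₀, hκ₀⟩, hmin⟩ := wellFounded_lt.has_min S hS
  refine ⟨⟨(s₀ : C), κ₀⟩, ⟨s₀.arrow, hκ₀⟩, ?_, inferInstanceAs (Mono s₀.arrow)⟩
  intro e'' m' hm'
  obtain ⟨Y, η⟩ := e''
  obtain ⟨m, hm⟩ := m'
  change Mono m at hm'
  change IsIso m
  change F.map m η = κ₀ at hm
  let t : Subobject X := Subobject.mk (m ≫ s₀.arrow)
  have htS : t ∈ S := by
    refine ⟨F.map (Subobject.underlyingIso (m ≫ s₀.arrow)).inv η, ?_⟩
    rw [← Functor.map_comp_apply, Subobject.underlyingIso_arrow,
      Functor.map_comp_apply, hm, hκ₀]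
  have hle : t ≤ s₀ := Subobject.mk_le_of_comm m rfl
  have hts : t = s₀ := by
    rcases eq_or_lt_of_le hle with h | h
    · exact h
    · exact absurd h (hmin t htS)
  have hle' : s₀ ≤ t := hts.ge
  -- the section
  let r : (s₀ : C) ⟶ Y := Subobject.ofLEMk s₀ (m ≫ s₀.arrow) hle'
  have hr : r ≫ m = 𝟙 _ := by
    rw [← cancel_mono s₀.arrow, Category.assoc, Subobject.ofLEMk_comp, Category.id_comp]
  haveI : IsSplitEpi m := ⟨⟨r, hr⟩⟩
  exact isIso_of_mono_of_isSplitEpi m

variable [PreservesFiniteLimits F]

theorem hom_ext_of_isMinimalElt {e e' : F.Elements} (he : IsMinimalElt F e) (a b : e ⟶ e') :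
    a = b := by
  haveI : IsCofiltered F.Elements := Functor.isCofiltered_elements F
  obtain ⟨e₀, w, hw⟩ := IsCofilteredOrEmpty.cone_maps a b
  haveI := epi_of_isMinimalElt he w
  apply CategoryOfElements.ext
  have h1 : w.1 ≫ a.1 = w.1 ≫ b.1 := congrArg Subtype.val hw
  exact (cancel_epi w.1).1 h1

variable (F)

/-- The category of minimal elements. -/
abbrev MinElts : Type u := ObjectProperty.FullSubcategory (IsMinimalElt F)

/-- The diagram of minimal elements. -/
abbrev minDiagram : MinElts F ⥤ C :=
  ObjectProperty.ι (IsMinimalElt F) ⋙ CategoryOfElements.π F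

theorem isCofiltered_minElts (hart : ∀ X : C, IsArtinianObject X) : IsCofiltered (MinElts F) := by
  haveI : IsCofiltered F.Elements := Functor.isCofiltered_elements F
  refine @IsCofiltered.mk _ _ ⟨?_, ?_⟩ ?_
  · intro j₁ j₂
    obtain ⟨e, a₁, a₂, -⟩ := IsCofilteredOrEmpty.cone_objs j₁.obj j₂.obj
    obtain ⟨e', m, he', -⟩ := exists_isMinimalElt hart e
    exact ⟨⟨e', he'⟩, ObjectProperty.homMk (m ≫ a₁), ObjectProperty.homMk (m ≫ a₂), trivial⟩
  · intro j₁ j₂ a b
    refine ⟨j₁, 𝟙 j₁, ?_⟩
    have : a = b := by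
      apply ObjectProperty.hom_ext
      exact hom_ext_of_isMinimalElt j₁.property _ _
    rw [this]
  · obtain ⟨e⟩ := (IsCofiltered.nonempty : Nonempty F.Elements)
    obtain ⟨e', m, he', -⟩ := exists_isMinimalElt hart e
    exact ⟨⟨e', he'⟩⟩

/-- The cocone exhibiting `F` as colimit of corepresentables over its minimal elements. -/
noncomputable def minCocone : Cocone ((minDiagram F).op ⋙ coyoneda) where
  pt := F
  ι :=
    { app := fun j => coyonedaEquiv.symm j.unop.obj.2
      naturality := by
        intro j j' a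
        ext Y f
        have h2 : F.map a.unop.hom.1 j'.unop.obj.2 = j.unop.obj.2 := a.unop.hom.2
        have h3 : (((minDiagram F).op ⋙ coyoneda).map a ≫
            coyonedaEquiv.symm j'.unop.obj.2).app Y f =
            (coyonedaEquiv.symm j'.unop.obj.2).app Y (a.unop.hom.1 ≫ f) := rfl
        have h4 : (coyonedaEquiv.symm j.unop.obj.2 ≫
            ((Functor.const (MinElts F)ᵒᵖ).obj F).map a).app Y f =
            (coyonedaEquiv.symm j.unop.obj.2).app Y f := rfl
        refine h3.trans (Eq.trans ?_ h4.symm)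
        rw [coyonedaEquiv_symm_app_apply, coyonedaEquiv_symm_app_apply,
          Functor.map_comp_apply, h2] }

theorem minCocone_app_apply (j : (MinElts F)ᵒᵖ) (Y : C) (f : j.unop.obj.1 ⟶ Y) :
    ((minCocone F).ι.app j).app Y f = F.map f j.unop.obj.2 :=
  coyonedaEquiv_symm_app_apply _ _ _

/-- `F` is the colimit of the corepresentable functors attached to its minimal elements. -/
noncomputable def isColimitMinCocone (hart : ∀ X : C, IsArtinianObject X) :
    IsColimit (minCocone F) := by
  haveI : IsCofiltered (MinElts F) := isCofiltered_minElts F hart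
  apply evaluationJointlyReflectsColimits
  intro Y
  apply Types.FilteredColimit.isColimitOf
  · intro η
    obtain ⟨e', m, he', -⟩ := exists_isMinimalElt hart ⟨Y, η⟩
    refine ⟨Opposite.op ⟨e', he'⟩, m.1, ?_⟩
    exact m.2.symm.trans (minCocone_app_apply F (Opposite.op ⟨e', he'⟩) Y m.1).symm
  · intro i j f₁ f₂ h
    have h' : F.map f₁ i.unop.obj.2 = F.map f₂ j.unop.obj.2 :=
      (minCocone_app_apply F i Y f₁).symm.trans (h.trans (minCocone_app_apply F j Y f₂))
    let k : MinElts F := IsCofiltered.min i.unop j.unop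
    let l : k ⟶ i.unop := IsCofiltered.minToLeft i.unop j.unop
    let r : k ⟶ j.unop := IsCofiltered.minToRight i.unop j.unop
    let a : k.obj ⟶ (⟨Y, F.map f₁ i.unop.obj.2⟩ : F.Elements) :=
      ⟨l.hom.1 ≫ f₁, by
        change F.map (l.hom.1 ≫ f₁) k.obj.2 = F.map f₁ i.unop.obj.2
        rw [Functor.map_comp_apply]
        exact congrArg (F.map f₁) l.hom.2⟩
    let b : k.obj ⟶ (⟨Y, F.map f₁ i.unop.obj.2⟩ : F.Elements) :=
      ⟨r.hom.1 ≫ f₂, by
        change F.map (r.hom.1 ≫ f₂) k.obj.2 = F.map f₁ i.unop.obj.2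
        rw [Functor.map_comp_apply, h']
        exact congrArg (F.map f₂) r.hom.2⟩
    have hab : a = b := hom_ext_of_isMinimalElt k.property a b
    exact ⟨Opposite.op k, l.op, r.op, congrArg Subtype.val hab⟩

end

/-- Let C be a small category with finite limits all of whose objects are artinian (the subobjects of
each object satisfy the descending chain condition), and let F be a set-valued functor on C
preserving finite limits. Then F is strictly pro-representable: there are a small cofiltered
category J and a diagram D : J ⥤ C all of whose transition morphisms are epimorphisms such that F is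
isomorphic to the colimit of the corepresentable functors Hom(D j, -). -/
theorem result {C : Type u} [SmallCategory C]
    [HasFiniteLimits C] (hart : ∀ X : C, IsArtinianObject X) (F : C ⥤ Type u) [PreservesFiniteLimits F] :
    ∃ (J : Type u) (_ : SmallCategory J) (_ : IsCofiltered J) (D : J ⥤ C),
      (∀ ⦃j j' : J⦄ (a : j ⟶ j'), Epi (D.map a)) ∧ Nonempty (F ≅ colimit (D.op ⋙ coyoneda)) := by
  refine ⟨MinElts F, inferInstance, isCofiltered_minElts F hart, minDiagram F, ?_, ⟨?_⟩⟩
  · intro j j' a
    exact epi_of_isMinimalElt j'.property a.hom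
  · exact (isColimitMinCocone F hart).coconePointUniqueUpToIso (colimit.isColimit _)

end Groth.Agent.S5691
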