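import Groth.Statements.S5725
import Groth.Agent.Lib.RelTwistEpi

set_option autoImplicit false
universe u
open CategoryTheory CategoryTheory.Limits AlgebraicGeometry TopologicalSpace Opposite
open scoped HomogeneousIdeal
open EGA2

namespace Groth.Agent.S5725


open Groth.Agent.Lib.H78PullSec Groth.Agent.Lib.H90Invertible Groth.Agent.Lib.H78TensorGen
open Groth.Agent.Lib.RelTildeGlue Groth.Agent.Lib.RelTildeVal2 Groth.Agent.Lib.RelTildeLocal
open Groth.Agent.Lib.H60RelTwist Groth.Agent.Lib.RelTwistEpi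

/-- The counit of the pullback–pushforward adjunction sends `pb s` to `s`. -/
theorem counit_app_pb {X Y : Scheme.{u}} (f : X ⟶ Y) (N : X.Modules) (V : Y.Opens)
    (s : Γ((Scheme.Modules.pushforward f).obj N, V)) :
    ((Scheme.Modules.pullbackPushforwardAdjunction f).counit.app N).app (f ⁻¹ᵁ V)
      (pb f ((Scheme.Modules.pushforward f).obj N) s) = ofPush f N V s := by
  have h := homEquiv_symm_app_pb f ((Scheme.Modules.pushforward f).obj N) N (𝟙 _) V s
  rw [Adjunction.homEquiv_counit, CategoryTheory.Functor.map_id, Category.id_comp] at h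
  exact h

theorem main {X Y : Scheme.{u}} (q : X ⟶ Y) (L : X.Modules)
    (h : RelProj.IsRelVeryAmple q L) :
    Epi ((Scheme.Modules.pullbackPushforwardAdjunction q).counit.app L) := by
  obtain ⟨E, hE, 𝒮, j, hj, P, p, chart, hP, O1, lam, hO1, i, -, rfl, ⟨ε⟩⟩ := h
  refine epi_of_locally_surjective' _ fun W s x hx => ?_
  obtain ⟨U, hU, hxU, -⟩ := exists_isAffineOpen_mem_and_subset (x := p.base (i.base x)) (U := ⊤) trivial
  obtain ⟨y, hy⟩ := exists_emb_eq (p := p) (chart := chart) U hU (x := i.base x) hxU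
  obtain ⟨f, ⟨e, rfl⟩, hfy⟩ := exists_notMem_of_closure (𝒜 := 𝒮.deg U hU)
    (Set.range (fun x : Γ(E, U) => (show 𝒮.presheaf.obj (op U) from j.app U x)))
    (by rintro _ ⟨x, rfl⟩; exact hj.2 U hU x) (closure_range_j E hE 𝒮 j hj U hU) y
  dsimp only at hfy
  set fe : 𝒮.presheaf.obj (op U) := j.app U e with hfe
  have hf1 : fe ∈ 𝒮.deg U hU 1 := hj.2 U hU e
  let g0 : Γ(GrTwist.twist (𝒮.deg U hU) 1, ⊤) := GrTwist.globalOf (𝒮.deg U hU) (i := 1) ⟨fe, hf1⟩
  obtain ⟨σ, hσ⟩ := (lamS_bijective hO1 U hU (p ⁻¹ᵁ U) le_rfl).2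
    (rs (GrTwist.twist (𝒮.deg U hU) 1) le_top g0)
  set D : P.Opens := RelProj.emb p chart U hU ''ᵁ Proj.basicOpen (𝒮.deg U hU) fe with hDdef
  have hD : D ≤ p ⁻¹ᵁ U := image_emb_le U hU _
  have hpre : RelProj.emb p chart U hU ⁻¹ᵁ D = Proj.basicOpen (𝒮.deg U hU) fe :=
    (RelProj.emb p chart U hU).preimage_image_eq _
  have hgen : IsGen O1 D (rs O1 hD σ) := by
    refine isGen_of_val hO1 U hU hf1 D hD _ (fun y' => ?_) (fun y' => ?_)
    · obtain ⟨y', hy'⟩ := y'
      rw [hpre] at hy'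
      exact (Proj.mem_basicOpen (𝒮.deg U hU) _ _).mp hy'
    · have e1 := lamS_rs (lam := lam) U hU hD σ
      rw [hσ] at e1
      unfold lamS at e1
      rw [e1]
      exact (Localization.mk_one_eq_algebraMap _)
  -- pull back to `X`
  have hgen' : IsGen ((Scheme.Modules.pullback i).obj O1) (i ⁻¹ᵁ D) (pb i O1 (rs O1 hD σ)) := isGen_pb i hgen
  have hgenL : IsGen L (i ⁻¹ᵁ D) (ε.inv.app (i ⁻¹ᵁ D) (pb i O1 (rs O1 hD σ))) := hgen'.of_iso ε.symm
  -- the section of `q_* L` over `U`
  let g : Γ(L, (i ≫ p) ⁻¹ᵁ U) := ε.inv.app (i ⁻¹ᵁ (p ⁻¹ᵁ U)) (pb i O1 σ)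
  have hDle : i ⁻¹ᵁ D ≤ (i ≫ p) ⁻¹ᵁ U := i.preimage_mono hD
  have hg : rs L hDle g = ε.inv.app (i ⁻¹ᵁ D) (pb i O1 (rs O1 hD σ)) := by
    rw [pb_rs]
    exact (Groth.Agent.Lib.H78SecCoord.app_rs ε.inv (i.preimage_mono hD) (pb i O1 σ)).symm
  obtain ⟨c, hc⟩ := (hgenL (i ⁻¹ᵁ D ⊓ W) inf_le_left).2 (L.presheaf.map (homOfLE inf_le_right).op s)
  have hxD : x ∈ i ⁻¹ᵁ D := by
    change i.base x ∈ D
    rw [← hy]
    exact Set.mem_image_of_mem _ ((Proj.mem_basicOpen (𝒮.deg U hU) _ _).mpr hfy)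
  refine ⟨i ⁻¹ᵁ D ⊓ W, inf_le_right, ⟨hxD, hx⟩,
    c • rs ((Scheme.Modules.pullback (i ≫ p)).obj ((Scheme.Modules.pushforward (i ≫ p)).obj L))
      (inf_le_left.trans hDle) (pb (i ≫ p) ((Scheme.Modules.pushforward (i ≫ p)).obj L) (toPush (i ≫ p) L U g)), ?_⟩
  have h1 := Groth.Agent.Lib.H78SecCoord.app_rs
    ((Scheme.Modules.pullbackPushforwardAdjunction (i ≫ p)).counit.app L)
    ((inf_le_left : i ⁻¹ᵁ D ⊓ W ≤ i ⁻¹ᵁ D).trans hDle)
    (pb (i ≫ p) ((Scheme.Modules.pushforward (i ≫ p)).obj L) (toPush (i ≫ p) L U g))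
  rw [counit_app_pb] at h1
  rw [Scheme.Modules.Hom.app_smul]
  refine (congrArg (c • ·) h1).trans ?_
  refine Eq.trans ?_ hc
  change c • rs L _ g = c • rs L _ _
  rw [← hg, rs_rs]

/-- Let q : X → Y be a quasi-compact morphism and L an invertible O_X-module. If L is very ample
relative to q (isomorphic to i^*O_{P(E)}(1) for a Y-immersion i : X → P(E) into the projective
bundle of a quasi-coherent O_Y-module E), then the canonical morphism q^*(q_*L) → L, the counit of
the adjunction between inverse and direct image, is an epimorphism. (The published statement also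
records that q_*L is quasi-coherent, which holds because q is then quasi-compact and separated, and
lists a further property, that the morphism into the projective bundle of q_*L attached to this
epimorphism is an immersion; with that property the converse holds. Those parts are not stated
here.) -/
theorem result {X Y : Scheme.{u}} (q : X ⟶ Y) [QuasiCompact q] (L : X.Modules)
    (hL : PicF.IsInvertible L) (h : RelProj.IsRelVeryAmple q L) :
    Epi ((Scheme.Modules.pullbackPushforwardAdjunction q).counit.app L) := by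
  exact main q L h

end Groth.Agent.S5725
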