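import Groth.Statements.S5742
import Mathlib

set_option linter.style.haveILetI false

set_option autoImplicit false
universe u
open Coherent

namespace Groth.Agent.S5742

section Aux
open AlgebraicGeometry CategoryTheory CategoryTheory.Limits TopologicalSpace

namespace P1
open CohB1

variable {A : Type u} [CommRing A] (I : Ideal A) {X Y : Scheme.{u}}
  (f : X ⟶ Spec (CommRingCat.of A))

/-- the structure map `A → Γ(X, U)` -/
noncomputable def α (U : X.Opens) : A →+* Γ(X, U) :=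
  (f.appLE ⊤ U le_top).hom.comp (Scheme.ΓSpecIso (CommRingCat.of A)).inv.hom

theorem fromSpec_comp {U : X.Opens} (hU : IsAffineOpen U) :
    hU.fromSpec ≫ f = Spec.map (CommRingCat.ofHom (α f U)) := by
  have h1 := IsAffineOpen.SpecMap_appLE_fromSpec f (isAffineOpen_top _) hU le_top
  rw [← h1, IsAffineOpen.fromSpec_top, Scheme.isoSpec_Spec_inv, ← Spec.map_comp]
  rfl

variable {f} in
theorem sub_mem_map (φ ψ : X ⟶ Y) {U : X.Opens} {V : Y.Opens} (hU : IsAffineOpen U)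
    (hV : IsAffineOpen V) (eφ : U ≤ φ ⁻¹ᵁ V) (eψ : U ≤ ψ ⁻¹ᵁ V) (n : ℕ)
    (e : thickι f I n ≫ φ = thickι f I n ≫ ψ) (b : Γ(Y, V)) :
    (φ.appLE V U eφ).hom b - (ψ.appLE V U eψ).hom b ∈ (I ^ (n + 1)).map (α f U) := by
  set J := (I ^ (n + 1)).map (α f U) with hJ
  let qJ : Γ(X, U) ⟶ CommRingCat.of (Γ(X, U) ⧸ J) := CommRingCat.ofHom (Ideal.Quotient.mk J)
  let g : Spec (CommRingCat.of (Γ(X, U) ⧸ J)) ⟶ X := Spec.map qJ ≫ hU.fromSpec
  let t : Spec (CommRingCat.of (Γ(X, U) ⧸ J)) ⟶ Spec (CommRingCat.of (A ⧸ I ^ (n + 1))) :=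
    Spec.map (CommRingCat.ofHom (Ideal.quotientMap J (α f U) Ideal.le_comap_map))
  have comm : g ≫ f = t ≫ specQuot I n := by
    change (Spec.map qJ ≫ hU.fromSpec) ≫ f = _
    rw [Category.assoc, fromSpec_comp f hU, specQuot, ← Spec.map_comp, ← Spec.map_comp]
    congr 1
  have hg : g ≫ φ = g ≫ ψ := by
    let l : Spec (CommRingCat.of (Γ(X, U) ⧸ J)) ⟶ thick f I n := pullback.lift g t comm
    have hl : l ≫ thickι f I n = g := pullback.lift_fst _ _ _
    rw [← hl, Category.assoc, Category.assoc, e]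
  have h2 : Spec.map (φ.appLE V U eφ ≫ qJ) ≫ hV.fromSpec =
      Spec.map (ψ.appLE V U eψ ≫ qJ) ≫ hV.fromSpec := by
    rw [Spec.map_comp, Spec.map_comp, Category.assoc, Category.assoc,
      IsAffineOpen.SpecMap_appLE_fromSpec φ hV hU eφ,
      IsAffineOpen.SpecMap_appLE_fromSpec ψ hV hU eψ]
    exact hg
  have h3 : φ.appLE V U eφ ≫ qJ = ψ.appLE V U eψ ≫ qJ :=
    Spec.map_injective ((cancel_mono hV.fromSpec).mp h2)
  have h4 := congrArg (fun k => k.hom b) h3
  simp only [CommRingCat.hom_comp, RingHom.comp_apply] at h4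
  rw [← Ideal.Quotient.eq_zero_iff_mem, map_sub, sub_eq_zero]
  exact h4

/-- Krull intersection: an element in all powers of `J` is fixed by an element of `J` -/
theorem exists_mul_eq_self {B : Type*} [CommRing B] [IsNoetherianRing B] (J : Ideal B) (c : B)
    (hc : ∀ n : ℕ, c ∈ J ^ (n + 1)) : ∃ a ∈ J, a * c = c := by
  have h1 : c ∈ (⨅ i : ℕ, J ^ i • ⊤ : Submodule B B) := by
    rw [Submodule.mem_iInf]
    intro i
    have h2 : J ^ i • (⊤ : Submodule B B) = J ^ i := by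
      rw [smul_eq_mul, Ideal.mul_top]
    rw [h2]
    exact Ideal.pow_le_pow_right (Nat.le_succ i) (hc i)
  obtain ⟨r, hr⟩ := (J.mem_iInf_smul_pow_eq_bot_iff c).mp h1
  exact ⟨r.1, r.2, hr⟩

end P1

namespace P2
open CohB1 P1

variable {A : Type u} [CommRing A] (I : Ideal A) {X Y : Scheme.{u}}
  (f : X ⟶ Spec (CommRingCat.of A))

theorem α_comp (h : Y ⟶ Spec (CommRingCat.of A)) (φ : X ⟶ Y) (hφ : φ ≫ h = f)
    {U : X.Opens} {V : Y.Opens} (eφ : U ≤ φ ⁻¹ᵁ V) :
    (φ.appLE V U eφ).hom.comp (α h V) = α f U := by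
  subst hφ
  unfold α
  rw [← RingHom.comp_assoc]
  congr 1
  have := Scheme.Hom.appLE_comp_appLE φ h ⊤ V U le_top eφ
  exact congrArg CommRingCat.Hom.hom this

set_option maxHeartbeats 1000000 in
theorem exists_basicOpen_agree [IsLocallyNoetherian X] (h : Y ⟶ Spec (CommRingCat.of A))
    [LocallyOfFiniteType h] (φ ψ : X ⟶ Y) (hφ : φ ≫ h = f) (hψ : ψ ≫ h = f)
    (e : ∀ n, thickι f I n ≫ φ = thickι f I n ≫ ψ)
    {U : X.Opens} {V : Y.Opens} (hU : IsAffineOpen U) (hV : IsAffineOpen V)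
    (eφ : U ≤ φ ⁻¹ᵁ V) (eψ : U ≤ ψ ⁻¹ᵁ V)
    (p : PrimeSpectrum Γ(X, U)) (hp : I.map (α f U) ≤ p.asIdeal) :
    ∃ r : Γ(X, U), r ∉ p.asIdeal ∧ (X.basicOpen r).ι ≫ φ = (X.basicOpen r).ι ≫ ψ := by
  classical
  haveI : IsNoetherianRing Γ(X, U) := IsLocallyNoetherian.component_noetherian ⟨U, hU⟩
  -- generators of `Γ(Y, V)` over `A`
  have hft : (α h V).FiniteType := by
    have h1 : (h.appLE ⊤ V le_top).hom.FiniteType :=
      h.finiteType_appLE (isAffineOpen_top _) hV le_top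
    have h2 : ((Scheme.ΓSpecIso (CommRingCat.of A)).inv.hom).FiniteType :=
      RingHom.FiniteType.of_surjective _
        ((ConcreteCategory.bijective_of_isIso (Scheme.ΓSpecIso (CommRingCat.of A)).inv).2)
    exact h1.comp h2
  letI algY : Algebra A Γ(Y, V) := (α h V).toAlgebra
  obtain ⟨s, hs⟩ : ∃ s : Finset Γ(Y, V), Algebra.adjoin A (s : Set Γ(Y, V)) = ⊤ := hft.out
  -- the differences
  let c : Γ(Y, V) → Γ(X, U) := fun b => (φ.appLE V U eφ).hom b - (ψ.appLE V U eψ).hom b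
  have hc : ∀ b (n : ℕ), c b ∈ (I.map (α f U)) ^ (n + 1) := by
    intro b n
    rw [← Ideal.map_pow]
    exact sub_mem_map I φ ψ hU hV eφ eψ n (e n) b
  choose a ha hac using fun b => exists_mul_eq_self (I.map (α f U)) (c b) (hc b)
  let r : Γ(X, U) := ∏ b ∈ s, (1 - a b)
  have hr : r ∉ p.asIdeal := by
    intro hmem
    obtain ⟨b, -, hb⟩ := (Ideal.IsPrime.prod_mem_iff (hp := p.2)).mp hmem
    have h1 : (1 : Γ(X, U)) ∈ p.asIdeal := by
      have h2 : (1 : Γ(X, U)) = (1 - a b) + a b := by ring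
      rw [h2]
      exact Ideal.add_mem _ hb (hp (ha b))
    exact p.2.ne_top ((Ideal.eq_top_iff_one _).mpr h1)
  refine ⟨r, hr, ?_⟩
  have hU' : IsAffineOpen (X.basicOpen r) := hU.basicOpen r
  have hle : X.basicOpen r ≤ U := X.basicOpen_le r
  have eφ' : X.basicOpen r ≤ φ ⁻¹ᵁ V := hle.trans eφ
  have eψ' : X.basicOpen r ≤ ψ ⁻¹ᵁ V := hle.trans eψ
  -- killed by `r`
  have hrc : ∀ b ∈ s, r * c b = 0 := by
    intro b hb
    have h1 : (1 - a b) * c b = 0 := by
      rw [sub_mul, one_mul, hac b, sub_self]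
    have h2 : r = (∏ x ∈ s.erase b, (1 - a x)) * (1 - a b) :=
      (Finset.prod_erase_mul s _ hb).symm
    rw [h2, mul_assoc, h1, mul_zero]
  have hres : ∀ b ∈ s, (X.presheaf.map (homOfLE hle).op).hom (c b) = 0 := by
    intro b hb
    have hu : IsUnit ((X.presheaf.map (homOfLE hle).op).hom r) :=
      RingedSpace.isUnit_res_basicOpen X.toRingedSpace r
    have h1 := congrArg (X.presheaf.map (homOfLE hle).op).hom (hrc b hb)
    rw [map_mul, map_zero] at h1
    exact (hu.mul_right_eq_zero).mp h1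
  -- the algebra homs
  letI algX : Algebra A Γ(X, X.basicOpen r) := (α f (X.basicOpen r)).toAlgebra
  let Φ : Γ(Y, V) →ₐ[A] Γ(X, X.basicOpen r) :=
    { toRingHom := (φ.appLE V (X.basicOpen r) eφ').hom
      commutes' := fun x => RingHom.congr_fun (α_comp f h φ hφ eφ') x }
  let Ψ : Γ(Y, V) →ₐ[A] Γ(X, X.basicOpen r) :=
    { toRingHom := (ψ.appLE V (X.basicOpen r) eψ').hom
      commutes' := fun x => RingHom.congr_fun (α_comp f h ψ hψ eψ') x }
  have hΦΨ : Φ = Ψ := by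
    apply AlgHom.ext_of_adjoin_eq_top hs
    intro b hb
    change (φ.appLE V (X.basicOpen r) eφ').hom b = (ψ.appLE V (X.basicOpen r) eψ').hom b
    have h1 : (φ.appLE V (X.basicOpen r) eφ').hom b =
        (X.presheaf.map (homOfLE hle).op).hom ((φ.appLE V U eφ).hom b) := by
      rw [← φ.appLE_map eφ (homOfLE hle).op]; rfl
    have h2 : (ψ.appLE V (X.basicOpen r) eψ').hom b =
        (X.presheaf.map (homOfLE hle).op).hom ((ψ.appLE V U eψ).hom b) := by
      rw [← ψ.appLE_map eψ (homOfLE hle).op]; rfl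
    rw [h1, h2, ← sub_eq_zero, ← map_sub]
    exact hres b hb
  have happ : φ.appLE V (X.basicOpen r) eφ' = ψ.appLE V (X.basicOpen r) eψ' := by
    ext x
    exact AlgHom.congr_fun hΦΨ x
  have h3 : hU'.fromSpec ≫ φ = hU'.fromSpec ≫ ψ := by
    rw [← IsAffineOpen.SpecMap_appLE_fromSpec φ hV hU' eφ',
      ← IsAffineOpen.SpecMap_appLE_fromSpec ψ hV hU' eψ', happ]
  haveI : IsAffine (X.basicOpen r) := hU'
  have h4 : hU'.fromSpec = hU'.isoSpec.inv ≫ (X.basicOpen r).ι := rfl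
  rw [h4, Category.assoc, Category.assoc] at h3
  exact (cancel_epi _).mp h3

end P2

namespace P3
open CohB1 P1 P2

variable {A : Type u} [CommRing A] (I : Ideal A) {X Y : Scheme.{u}}
  (f : X ⟶ Spec (CommRingCat.of A))

/-- the prime of `A` under a point of `X` -/
noncomputable def pr (x : X) : PrimeSpectrum A := f.base x

theorem pr_fromSpec {U : X.Opens} (hU : IsAffineOpen U) (p : PrimeSpectrum Γ(X, U)) :
    pr f (hU.fromSpec.base p) = PrimeSpectrum.comap (α f U) p := by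
  have h1 := fromSpec_comp f hU
  have h2 := congrArg (fun g => g.base p) h1
  simp only [Scheme.Hom.comp_base, TopCat.comp_app] at h2
  exact h2

theorem eq_of_le (φ ψ : X ⟶ Y) (e : thickι f I 0 ≫ φ = thickι f I 0 ≫ ψ) (x : X)
    (hx : I ≤ (pr f x).asIdeal) : φ.base x = ψ.base x := by
  have hr : pr f x ∈ Set.range (PrimeSpectrum.comap (Ideal.Quotient.mk (I ^ (0 + 1)))) := by
    rw [range_comap_of_surjective _ _ Ideal.Quotient.mk_surjective, Ideal.mk_ker]
    intro a ha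
    rw [zero_add, pow_one] at ha
    exact hx ha
  obtain ⟨y, hy⟩ := hr
  obtain ⟨z, hz, -⟩ : ∃ z : ↥(thick f I 0), (thickι f I 0) z = x ∧
      (pullback.snd f (specQuot I 0)) z = y :=
    Scheme.Pullback.exists_preimage_pullback (f := f) (g := specQuot I 0) x y hy.symm
  have h1 : (thickι f I 0 ≫ φ) z = (thickι f I 0 ≫ ψ) z := by rw [e]
  rw [Scheme.Hom.comp_apply, Scheme.Hom.comp_apply, hz] at h1
  exact h1

theorem exists_open_agree [IsLocallyNoetherian X] (h : Y ⟶ Spec (CommRingCat.of A))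
    [LocallyOfFiniteType h] (φ ψ : X ⟶ Y) (hφ : φ ≫ h = f) (hψ : ψ ≫ h = f)
    (e : ∀ n, thickι f I n ≫ φ = thickι f I n ≫ ψ) (x : X) (hx : I ≤ (pr f x).asIdeal) :
    ∃ U' : X.Opens, x ∈ U' ∧ U'.ι ≫ φ = U'.ι ≫ ψ := by
  have hxy : φ.base x = ψ.base x := eq_of_le I f φ ψ (e 0) x hx
  obtain ⟨V, hV, hxV, -⟩ := Opens.isBasis_iff_nbhd.mp Y.isBasis_affineOpens
    (show φ.base x ∈ (⊤ : Y.Opens) from trivial)
  have hxV' : x ∈ φ ⁻¹ᵁ V ⊓ ψ ⁻¹ᵁ V := ⟨hxV, by change ψ.base x ∈ V; rw [← hxy]; exact hxV⟩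
  obtain ⟨U, hU, hxU, hUle⟩ := Opens.isBasis_iff_nbhd.mp X.isBasis_affineOpens hxV'
  have eφ : U ≤ φ ⁻¹ᵁ V := hUle.trans inf_le_left
  have eψ : U ≤ ψ ⁻¹ᵁ V := hUle.trans inf_le_right
  let p := hU.primeIdealOf ⟨x, hxU⟩
  have hpx : hU.fromSpec.base p = x := hU.fromSpec_primeIdealOf ⟨x, hxU⟩
  have hp : I.map (α f U) ≤ p.asIdeal := by
    rw [Ideal.map_le_iff_le_comap]
    have h1 := pr_fromSpec f hU p
    rw [hpx] at h1
    rw [h1] at hx
    exact hx
  obtain ⟨r, hr, hagree⟩ := exists_basicOpen_agree I f h φ ψ hφ hψ e hU hV eφ eψ p hp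
  refine ⟨X.basicOpen r, ?_, hagree⟩
  have h2 : p ∈ hU.fromSpec ⁻¹ᵁ X.basicOpen r := by
    rw [hU.fromSpec_preimage_basicOpen]
    exact hr
  have h3 : hU.fromSpec.base p ∈ X.basicOpen r := h2
  rwa [hpx] at h3

theorem main [IsNoetherianRing A] [IsAdicComplete I A] [IsProper f]
    (h : Y ⟶ Spec (CommRingCat.of A)) [LocallyOfFiniteType h] (φ ψ : X ⟶ Y)
    (hφ : φ ≫ h = f) (hψ : ψ ≫ h = f)
    (e : ∀ n, thickι f I n ≫ φ = thickι f I n ≫ ψ) : φ = ψ := by
  haveI : IsLocallyNoetherian X := LocallyOfFiniteType.isLocallyNoetherian f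
  let W : Set X := {x | ∃ U' : X.Opens, x ∈ U' ∧ U'.ι ≫ φ = U'.ι ≫ ψ}
  have hWo : IsOpen W := by
    rw [isOpen_iff_forall_mem_open]
    rintro x ⟨U', hxU', hU'⟩
    exact ⟨U', fun y hy => ⟨U', hy, hU'⟩, U'.2, hxU'⟩
  have hW : ∀ x, x ∈ W := by
    by_contra hne
    push_neg at hne
    obtain ⟨x₀, hx₀⟩ := hne
    have hcl : IsClosed ((pr f) '' Wᶜ) := f.isClosedMap _ hWo.isClosed_compl
    have hne' : ((pr f) '' Wᶜ).Nonempty := ⟨_, x₀, hx₀, rfl⟩
    have hK : PrimeSpectrum.zeroLocus (PrimeSpectrum.vanishingIdeal ((pr f) '' Wᶜ) : Set A) =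
        (pr f) '' Wᶜ := by
      rw [PrimeSpectrum.zeroLocus_vanishingIdeal_eq_closure, hcl.closure_eq]
    have hKne : PrimeSpectrum.vanishingIdeal ((pr f) '' Wᶜ) ≠ ⊤ := by
      intro htop
      rw [htop] at hK
      simp only [Submodule.top_coe, PrimeSpectrum.zeroLocus_univ] at hK
      exact hne'.ne_empty hK.symm
    obtain ⟨m, hm, hKm⟩ := Ideal.exists_le_maximal _ hKne
    have hmem : (⟨m, hm.isPrime⟩ : PrimeSpectrum A) ∈ (pr f) '' Wᶜ := by
      rw [← hK]
      exact hKm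
    obtain ⟨x, hxW, hxm⟩ := hmem
    apply hxW
    apply exists_open_agree I f h φ ψ hφ hψ e x
    rw [hxm]
    exact (IsAdicComplete.le_jacobson_bot I).trans (sInf_le ⟨bot_le, hm⟩)
  choose U hxU hU using hW
  have hcov : IsOpenCover U := by
    rw [IsOpenCover, eq_top_iff]
    intro x _
    exact Opens.mem_iSup.mpr ⟨x, hxU x⟩
  exact (X.openCoverOfIsOpenCover U hcov).hom_ext φ ψ (fun x => hU x)

end P3

end Aux

open AlgebraicGeometry CategoryTheory CategoryTheory.Limits in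
/-- Let A be a Noetherian ring separated and complete for the I-adic topology, X proper over Spec A and
Y locally of finite type over Spec A; write X_n = X ×_A Spec(A/I^(n+1)). Two A-morphisms φ, ψ : X →
Y whose restrictions to X_n coincide for every n are equal. (The published statement takes Y
separated and of finite type over A, which the surjectivity half needs; injectivity uses neither
separatedness nor quasi-compactness of Y. Together with the existence of an A-morphism inducing any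
compatible system of morphisms X_n → Y_n, this is the bijectivity of f ↦ f̂ from A-morphisms X → Y
to morphisms of the completions.) -/
theorem result (A : Type u) [CommRing A] [IsNoetherianRing A]
    (I : Ideal A) [IsAdicComplete I A] {X Y : Scheme.{u}} (f : X ⟶ Spec (CommRingCat.of A))
    (h : Y ⟶ Spec (CommRingCat.of A)) [IsProper f] [LocallyOfFiniteType h] (φ ψ : X ⟶ Y)
    (hφ : φ ≫ h = f) (hψ : ψ ≫ h = f)
    (e : ∀ n : ℕ, CohB1.thickι f I n ≫ φ = CohB1.thickι f I n ≫ ψ) : φ = ψ := by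
  exact P3.main I f h φ ψ hφ hψ e

end Groth.Agent.S5742
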