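import Groth.Statements.S5744
import Groth.Agent.Lib.QCohBiprod

set_option autoImplicit false
universe u
open Coherent

namespace Groth.Agent.S5744

open AlgebraicGeometry CategoryTheory CategoryTheory.Limits in
/-- the categorical product of a family of opens is their infimum -/
theorem piObj_opens_eq_iInf {X : Scheme.{u}} {κ : Type} (f : κ → X.Opens) : ∏ᶜ f = ⨅ j, f j :=
  le_antisymm (le_iInf fun j => (Pi.π f j).le)
    (Pi.lift (fun j => homOfLE (iInf_le f j))).le

open AlgebraicGeometry CategoryTheory CategoryTheory.Limits in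
/-- an affine open of a separated scheme has affine inclusion morphism -/
theorem isAffineHom_ι_of_isAffineOpen {X : Scheme.{u}} [X.IsSeparated] {W : X.Opens}
    (hW : IsAffineOpen W) : IsAffineHom W.ι := by
  have : IsAffine (W : Scheme.{u}) := hW
  have : IsAffineHom (W.ι ≫ terminal.from X) := inferInstance
  exact IsAffineHom.of_comp W.ι (terminal.from X)


open AlgebraicGeometry CategoryTheory in
/-- For the Čech complex of sheaves indexed by all ordered tuples with products as terms; over a finite
index type these terms are finite direct sums. Let X be a separated scheme, (U_i)_{i ∈ ι} a finite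
family of affine opens covering X, and F a quasi-coherent O_X-module. Then for every p the degree-p
term of the Čech complex of sheaves 𝔠(𝒰, F), the product over ordered (p+1)-tuples of the direct
images (j_{i_0…i_p})_*(F|_{U_{i_0…i_p}}), is a quasi-coherent O_X-module. -/
theorem result {X : Scheme.{u}} [X.IsSeparated] {ι : Type u}
    [Finite ι] (𝒰 : ι → X.Opens) (h𝒰 : ∀ i, IsAffineOpen (𝒰 i)) (hcov : ⨆ i, 𝒰 i = ⊤)
    (F : X.Modules) [Coh.IsQCoh F] (p : ℕ) :
    Coh.IsQCoh (((CechOX.cechSh 𝒰).obj F).X p) := by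
  have hF : F.IsQuasicoherent := ‹Coh.IsQCoh F›
  change SheafOfModules.IsQuasicoherent
    (∏ᶜ fun i : Fin (p + 1) → ι => (CechOX.pushRestr (∏ᶜ (𝒰 ∘ i))).obj F)
  refine Groth.Agent.Lib.QCohBiprod.isQuasicoherent_piObj_of_finite _ fun i => ?_
  have hW : IsAffineOpen (∏ᶜ (𝒰 ∘ i)) := by
    rw [piObj_opens_eq_iInf]
    exact IsAffineOpen.iInf fun j => h𝒰 (i j)
  have := isAffineHom_ι_of_isAffineOpen hW
  have : (F.restrict (∏ᶜ (𝒰 ∘ i)).ι).IsQuasicoherent :=
    Scheme.Modules.isQuasicoherent_restrictFunctor _ _
  exact Groth.Agent.Lib.H90OXModPush.isQuasicoherent_pushforward (∏ᶜ (𝒰 ∘ i)).ι _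

end Groth.Agent.S5744
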