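import Groth.Statements.S5749
import Groth.Agent.Lib.H4SerreVanClosed
import Groth.Agent.Lib.SerreVanPN
-- import your own Groth.Agent.* helpers here

set_option autoImplicit false
universe u
open Coherent

namespace Groth.Agent.S5749


open AlgebraicGeometry CategoryTheory in
theorem aux (A : Type u) [CommRing A] (r : ℕ) (X : Scheme.{u}) [X.Over (Spec (CommRingCat.of A))]
    (i : X ⟶ CohB1.ProjSpace r A) (F : X.Modules)
    (hSV : ∃ d₀ : ℤ, ∀ d : ℤ, d₀ ≤ d → ∀ q : ℕ, 0 < q →
      Subsingleton (Coh.HH X (CohB1.tensorMod F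
          ((Scheme.Modules.pullback i).obj (Twist.twistProjSpace r A d))) q)) :
    ∃ N : ℤ, ∀ n : ℤ, N ≤ n →
      ((Finset.range (r + 1)).sum fun j => (-1 : ℤ) ^ j *
        ((Module.length A (Coh.HH X (CohB1.tensorMod F
          ((Scheme.Modules.pullback i).obj (Twist.twistProjSpace r A n))) j)).toNat : ℤ)) =
      ((Module.length A (Coh.HH X (CohB1.tensorMod F
          ((Scheme.Modules.pullback i).obj (Twist.twistProjSpace r A n))) 0)).toNat : ℤ) := by
  obtain ⟨d₀, h⟩ := hSV
  refine ⟨d₀, fun n hn => ?_⟩
  rw [Finset.sum_eq_single 0]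
  · simp
  · intro j _ hj
    have := h n hn j (Nat.pos_of_ne_zero hj)
    rw [Module.length_eq_zero]
    simp
  · intro h0
    exact absurd (Finset.mem_range.mpr (Nat.succ_pos r)) h0

open AlgebraicGeometry CategoryTheory in
/-- Let A be an Artinian local ring, i : X → P^r_A a closed immersion compatible with the structure
morphisms to Spec A (X projective over A with the very ample module i^* O(1)), F a coherent
O_X-module and F(n) = F ⊗ i^* O(n). Then for all sufficiently large n the Euler characteristic
χ_A(F(n)) = Σ_{j ≤ r} (-1)^j length_A H^j(X, F(n)) equals the length of H^0(X, F(n)), the A-module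
of global sections of F(n). -/
theorem result (A : Type u) [CommRing A]
    [IsArtinianRing A] [IsLocalRing A] (r : ℕ) (X : Scheme.{u}) [X.Over (Spec (CommRingCat.of A))]
    (i : X ⟶ CohB1.ProjSpace r A) [IsClosedImmersion i]
    (hi : i ≫ CohB1.ProjSpace.toSpec r A = X ↘ Spec (CommRingCat.of A)) (F : X.Modules) (hF : Coh.IsCoh F) :
    ∃ N : ℤ, ∀ n : ℤ, N ≤ n →
      ((Finset.range (r + 1)).sum fun j => (-1 : ℤ) ^ j *
        ((Module.length A (Coh.HH X (CohB1.tensorMod F
          ((Scheme.Modules.pullback i).obj (Twist.twistProjSpace r A n))) j)).toNat : ℤ)) =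
      ((Module.length A (Coh.HH X (CohB1.tensorMod F
          ((Scheme.Modules.pullback i).obj (Twist.twistProjSpace r A n))) 0)).toNat : ℤ) := by

  have hL : ∀ d, PicF.IsInvertible (Twist.twistProjSpace r A d) :=
    fun d => Groth.Agent.Lib.H4Twist.isInvertible_twistProjSpace r A d
  exact aux A r X i F (Groth.Agent.Lib.H4SerreVanClosed.serre_vanishing_of_finite i
    (fun d => Twist.twistProjSpace r A d) hL (fun G hG => Groth.Agent.Lib.SerreVanPN.serre_vanishing r A G hG) F hF)

end Groth.Agent.S5749
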