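import Groth.Statements.S5750
import Groth.Agent.Lib.SerreVanClosed
import Mathlib
-- import your own Groth.Agent.* helpers here

set_option autoImplicit false
universe u
open Coherent

namespace Groth.Agent.S5750

open AlgebraicGeometry CategoryTheory Polynomial Filter

theorem leadingCoeff_nonneg_of_eval_nonneg (P : ℚ[X]) (n₀ : ℤ)
    (h : ∀ n : ℤ, n₀ ≤ n → 0 ≤ P.eval (n : ℚ)) : 0 ≤ P.leadingCoeff := by
  by_contra hneg
  rw [not_le] at hneg
  by_cases hdeg : 0 < P.degree
  · have ht := P.tendsto_atBot_of_leadingCoeff_nonpos hdeg hneg.le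
    have hev : ∀ᶠ x in atTop, P.eval x < 0 := ht.eventually (eventually_lt_atBot 0)
    obtain ⟨x₀, hx₀⟩ := eventually_atTop.mp hev
    obtain ⟨m, hm⟩ := exists_int_gt x₀
    have h1 := hx₀ ((max m n₀ : ℤ) : ℚ) (by
      have : (m : ℚ) ≤ ((max m n₀ : ℤ) : ℚ) := by exact_mod_cast le_max_left m n₀
      linarith)
    have h2 := h (max m n₀) (le_max_right _ _)
    linarith
  · rw [not_lt] at hdeg
    have hC := eq_C_of_degree_le_zero hdeg
    have h2 := h n₀ le_rfl
    rw [hC, eval_C] at h2
    rw [hC, leadingCoeff_C] at hneg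
    linarith


open AlgebraicGeometry CategoryTheory in
/-- Let A be an Artinian local ring, i : X → P^r_A a closed immersion compatible with the structure
morphisms to Spec A, F a coherent O_X-module and F(n) = F ⊗ i^* O(n). If a polynomial P over ℚ
satisfies P(n) = χ_A(F(n)) = Σ_{j ≤ r} (-1)^j length_A H^j(X, F(n)) for every integer n (the Hilbert
polynomial of F), then the leading coefficient of P is non-negative. -/
theorem result (A : Type u) [CommRing A]
    [IsArtinianRing A] [IsLocalRing A] (r : ℕ) (X : Scheme.{u}) [X.Over (Spec (CommRingCat.of A))]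
    (i : X ⟶ CohB1.ProjSpace r A) [IsClosedImmersion i]
    (hi : i ≫ CohB1.ProjSpace.toSpec r A = X ↘ Spec (CommRingCat.of A)) (F : X.Modules) (hF : Coh.IsCoh F)
    (P : Polynomial ℚ)
    (hP : ∀ n : ℤ, ((Finset.range (r + 1)).sum fun j => (-1 : ℚ) ^ j *
        ((Module.length A (Coh.HH X (CohB1.tensorMod F
          ((Scheme.Modules.pullback i).obj (Twist.twistProjSpace r A n))) j)).toNat : ℚ)) = P.eval (n : ℚ)) :
    0 ≤ P.leadingCoeff := by
  obtain ⟨d₀, hd₀⟩ := Groth.Agent.Lib.SerreVanClosed.serre_vanishing_of_finite r A i F hF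
  refine leadingCoeff_nonneg_of_eval_nonneg P d₀ fun n hn => ?_
  rw [← hP n]
  refine Finset.sum_nonneg fun j _ => ?_
  rcases Nat.eq_zero_or_pos j with rfl | hj
  · simp
  · have := hd₀ n hn j hj
    rw [Module.length_eq_zero]
    simp

end Groth.Agent.S5750
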