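import Groth.Statements.S5753
import Mathlib.RingTheory.Regular.LinearMap

set_option autoImplicit false
universe u
open EGA41

namespace Groth.Agent.S5753

theorem result (A : Type u) [CommRing A]
    [IsLocalRing A] [IsNoetherianRing A] (N : Type u) [AddCommGroup N] [Module A N] [Module.Finite A N] :
    (∀ x ∈ IsLocalRing.maximalIdeal A, ¬ IsSMulRegular N x) ↔
      Nontrivial (IsLocalRing.ResidueField A →ₗ[A] N) := by
  have hann : Module.annihilator A (IsLocalRing.ResidueField A) = IsLocalRing.maximalIdeal A :=
    Ideal.annihilator_quotient
  rw [← not_subsingleton_iff_nontrivial, IsSMulRegular.subsingleton_linearMap_iff, hann]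
  push Not
  rfl

end Groth.Agent.S5753
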