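import Groth.Statements.S5755
import Groth.Agent.S5752

set_option autoImplicit false
universe u
open EGA41

namespace Groth.Agent.S5755

/-- A reduced Noetherian local ring A has depth 0 if and only if A is a field. -/
theorem result (A : Type u) [CommRing A] [IsLocalRing A]
    [IsNoetherianRing A] [IsReduced A] : LocCoh.depth A A = 0 ↔ IsField A := by
  rw [Groth.Agent.S5752.result A A, IsLocalRing.isField_iff_maximalIdeal_eq]
  constructor
  · intro h
    obtain ⟨hp, x, hx⟩ := isAssociatedPrime_iff.1 h
    have hmem : ∀ r, r ∈ IsLocalRing.maximalIdeal A ↔ r * x = 0 := by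
      intro r
      rw [hx, Submodule.mem_colon_singleton]
      simp
    by_cases hxm : x ∈ IsLocalRing.maximalIdeal A
    · have hx0 : x = 0 := by
        have h2 : x * x = 0 := (hmem x).1 hxm
        have : x ^ 2 = 0 := by rw [pow_two]; exact h2
        exact pow_eq_zero_iff (n := 2) (by norm_num) |>.1 this
      exfalso
      have : (1 : A) ∈ IsLocalRing.maximalIdeal A := (hmem 1).2 (by rw [hx0, mul_zero])
      exact (IsLocalRing.maximalIdeal.isMaximal A).ne_top ((Ideal.eq_top_iff_one _).2 this)
    · have hu : IsUnit x := by
        by_contra hnu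
        exact hxm ((IsLocalRing.mem_maximalIdeal x).2 hnu)
      rw [eq_bot_iff]
      intro r hr
      have := (hmem r).1 hr
      exact (Ideal.mem_bot).2 (hu.mul_left_eq_zero.1 this)
  · intro h
    rw [h]
    have hprime : (⊥ : Ideal A).IsPrime := h ▸ (IsLocalRing.maximalIdeal.isMaximal A).isPrime
    refine isAssociatedPrime_iff.2 ⟨hprime, 1, ?_⟩
    ext r
    rw [Submodule.mem_colon_singleton]
    simp

end Groth.Agent.S5755
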