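import Groth.Statements.S5757
import Groth.Agent.Lib.DepthRees
import Groth.Agent.Lib.DepthBasic

set_option autoImplicit false
universe u
open EGA41

namespace Groth.Agent.S5757


/-- Let A be a Noetherian local ring and M a nonzero finitely generated Cohen-Macaulay A-module. Then
dim(A/p) = dim(M) for every associated prime p of M (so M has no embedded associated primes). -/
theorem result (A : Type u) [CommRing A]
    [IsLocalRing A] [IsNoetherianRing A] (M : Type u) [AddCommGroup M] [Module A M] [Module.Finite A M]
    (hM : LocCoh.IsCohenMacaulayModule A M) (p : Ideal A) (hp : p ∈ associatedPrimes A M) :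
    ringKrullDim (A ⧸ p) = Module.supportDim A M := by
  have hprime : p.IsPrime := hp.isPrime
  have hnt : Nontrivial M := by
    by_contra h
    rw [not_nontrivial_iff_subsingleton] at h
    rw [associatedPrimes.eq_empty_of_subsingleton] at hp
    exact hp
  have h1 : ringKrullDim (A ⧸ p) ≤ Module.supportDim A M :=
    Groth.Agent.Lib.DepthRees.ringKrullDim_quotient_le_supportDim ⟨p, hprime⟩
      (Groth.Agent.Lib.DepthRees.mem_support_of_mem_associatedPrimes hp)
  refine le_antisymm h1 ?_
  rw [hM]
  have hne : ringKrullDim (A ⧸ p) ≠ ⊥ := by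
    have : Nontrivial (A ⧸ p) := Ideal.Quotient.nontrivial_iff.mpr hprime.ne_top
    exact ne_bot_of_le_ne_bot (by simp) (ringKrullDim_nonneg_of_nontrivial (R := A ⧸ p))
  obtain ⟨d, hd⟩ := WithBot.ne_bot_iff_exists.mp hne
  rw [← hd, WithBot.coe_le_coe]
  refine ENat.forall_natCast_le_iff_le.mp fun n hn => ?_
  obtain ⟨rs, rfl, hmem, hreg⟩ := (Groth.Agent.Lib.DepthRees.natCast_le_depth_iff M n).mp hn
  have := Groth.Agent.Lib.DepthBasic.length_le_ringKrullDim_quotient rs hp hreg hmem
  rw [← hd] at this
  exact_mod_cast this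

end Groth.Agent.S5757
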