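import Groth.Statements.S5759
import Groth.Agent.Lib.H8CM2

set_option autoImplicit false
universe u
open EGA41

namespace Groth.Agent.S5759

/-- Let A be a Noetherian local ring and M a nonzero finitely generated A-module. Suppose that for every
sequence x_1, ..., x_r of elements of the maximal ideal which is part of a system of parameters for
M (i.e. dim(M/(x_1 M + ... + x_r M)) = dim(M) - r), every associated prime p of N = M/(x_1 M + ... +
x_r M) satisfies dim(A/p) = dim(N). Then M is a Cohen-Macaulay module. (The published convention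
also counts the zero module as Cohen-Macaulay; this row assumes M nonzero.) -/
theorem result (A : Type u) [CommRing A]
    [IsLocalRing A] [IsNoetherianRing A] (M : Type u) [AddCommGroup M] [Module A M] [Module.Finite A M]
    [Nontrivial M]
    (h : ∀ xs : List A, (∀ x ∈ xs, x ∈ IsLocalRing.maximalIdeal A) →
      Module.supportDim A (M ⧸ (Ideal.ofList xs • (⊤ : Submodule A M))) + xs.length = Module.supportDim A M →
        ∀ p ∈ associatedPrimes A (M ⧸ (Ideal.ofList xs • (⊤ : Submodule A M))),
          ringKrullDim (A ⧸ p) = Module.supportDim A (M ⧸ (Ideal.ofList xs • (⊤ : Submodule A M)))) :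
    LocCoh.IsCohenMacaulayModule A M := by
  classical
  open Groth.Agent.Lib.H8CM Groth.Agent.Lib.DepthRees RingTheory.Sequence IsLocalRing Module in
  obtain ⟨d, hd⟩ := exists_nat_supportDim (R := A) (M := M)
  have hIM := maximalIdeal_smul_top_ne_top (R := A) M
  -- build regular sequences of every length `k ≤ d`
  have key : ∀ k : ℕ, k ≤ d → ∃ xs : List A, xs.length = k ∧ (∀ x ∈ xs, x ∈ maximalIdeal A) ∧
      IsWeaklyRegular M xs := by
    intro k
    induction k with
    | zero => exact fun _ ↦ ⟨[], rfl, by simp, IsWeaklyRegular.nil A M⟩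
    | succ k ih =>
      intro hk
      obtain ⟨xs, hlen, hmem, hreg⟩ := ih (by omega)
      have hreg' := isRegular_of_isWeaklyRegular_of_mem hIM hmem hreg
      have hdim := supportDim_add_length_eq_supportDim_of_isRegular xs hreg'
      have hass := h xs hmem hdim
      have hntN := nontrivial_quotient_ofList (M := M) hmem
      obtain ⟨a, ha⟩ := exists_nat_supportDim (R := A)
        (M := M ⧸ Ideal.ofList xs • (⊤ : Submodule A M))
      have hak : a + k = d := by
        rw [ha, hd, hlen] at hdim
        exact_mod_cast hdim
      -- the maximal ideal is in no associated prime of `N`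
      obtain ⟨x, hx, hxreg⟩ := exists_isSMulRegular_mem_of_forall_not_le
        (M := M ⧸ Ideal.ofList xs • (⊤ : Submodule A M)) (maximalIdeal A) (by
        intro p hp hle
        have hpm : p = maximalIdeal A :=
          ((maximalIdeal.isMaximal A).eq_of_le hp.isPrime.ne_top hle).symm
        have hdimp := hass p hp
        rw [hpm, ha] at hdimp
        have h0 : ringKrullDim (A ⧸ maximalIdeal A) = 0 := ringKrullDim_eq_zero_of_isField
          ((Ideal.Quotient.maximal_ideal_iff_isField_quotient _).mp (maximalIdeal.isMaximal A))
        rw [h0] at hdimp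
        have : (0 : ℕ) = a := by exact_mod_cast hdimp
        omega)
      refine ⟨xs ++ [x], by simp [hlen], ?_, ?_⟩
      · intro y hy
        rcases List.mem_append.mp hy with hy | hy
        · exact hmem y hy
        · rw [List.mem_singleton] at hy; rw [hy]; exact hx
      · rw [isWeaklyRegular_append_iff]
        exact ⟨hreg, (isWeaklyRegular_cons_iff _ x []).mpr ⟨hxreg, IsWeaklyRegular.nil A _⟩⟩
  obtain ⟨xs, hlen, hmem, hreg⟩ := key d le_rfl
  have h1 : ((d : ℕ∞) : WithBot ℕ∞) ≤ ((LocCoh.depth A M : ℕ∞) : WithBot ℕ∞) := by
    rw [WithBot.coe_le_coe]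
    exact (natCast_le_depth_iff M d).mpr ⟨xs, hlen, hmem, hreg⟩
  have h2 := depth_le_supportDim (R := A) M
  rw [LocCoh.IsCohenMacaulayModule]
  rw [hd] at h2 ⊢
  exact le_antisymm h1 h2

end Groth.Agent.S5759
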