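import Groth.Statements.S5763
import Mathlib.RingTheory.Ideal.HasGoingUp
import Mathlib.RingTheory.Ideal.GoingUp

set_option autoImplicit false
universe u
open EGA41

namespace Groth.Agent.S5763


/-- Let ρ : A → B be a ring homomorphism making B an integral A-algebra. Then dim(B) ≤ dim(A), and if ρ
is injective then dim(B) = dim(A) (Krull dimensions). -/
theorem result (A B : Type u) [CommRing A] [CommRing B] [Algebra A B]
    [Algebra.IsIntegral A B] :
    ringKrullDim B ≤ ringKrullDim A ∧
      (Function.Injective (algebraMap A B) → ringKrullDim B = ringKrullDim A) := by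
  constructor
  · refine Order.krullDim_le_of_strictMono (PrimeSpectrum.comap (algebraMap A B)) ?_
    intro P Q hPQ
    have : P.asIdeal < Q.asIdeal := hPQ
    exact Ideal.IsIntegral.comap_lt_comap (R := A) this
  · intro hinj
    refine le_antisymm (Order.krullDim_le_of_strictMono (PrimeSpectrum.comap (algebraMap A B)) ?_) ?_
    · intro P Q hPQ
      have : P.asIdeal < Q.asIdeal := hPQ
      exact Ideal.IsIntegral.comap_lt_comap (R := A) this
    · refine iSup_le fun l => ?_
      have hker : RingHom.ker (algebraMap A B) ≤ (RelSeries.head l).asIdeal := by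
        rw [(RingHom.injective_iff_ker_eq_bot _).1 hinj]
        exact bot_le
      obtain ⟨P, -, hP, hPl⟩ := Ideal.exists_ideal_over_prime_of_isIntegral (S := B)
        (RelSeries.head l).asIdeal ⊥ (by rwa [← RingHom.ker_eq_comap_bot])
      have : P.LiesOver (RelSeries.head l).asIdeal := ⟨hPl.symm⟩
      obtain ⟨L, hL, -, -⟩ := Ideal.exists_ltSeries_of_hasGoingUp l P
      rw [← hL]
      exact Order.LTSeries.length_le_krullDim L

end Groth.Agent.S5763
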