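import Groth.Statements.S5764
import Mathlib.RingTheory.IntegralClosure.GoingDown
import Mathlib.RingTheory.Ideal.Height
import Mathlib.RingTheory.Ideal.GoingUp

set_option autoImplicit false
universe u
open EGA41

namespace Groth.Agent.S5764


/-- Let B be an integral domain, A a local subring of B which is integrally closed (in its field of
fractions), and suppose B is integral over A. Then dim(B_n) = dim(A) for every maximal ideal n of B. -/
theorem result (A B : Type u) [CommRing A]
    [CommRing B] [IsDomain B] [Algebra A B] (hinj : Function.Injective (algebraMap A B)) [IsDomain A]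
    [IsLocalRing A] [IsIntegrallyClosed A] [Algebra.IsIntegral A B] (n : Ideal B) [n.IsMaximal] :
    ringKrullDim (Localization.AtPrime n) = ringKrullDim A := by
  have hfs : FaithfulSMul A B := (faithfulSMul_iff_algebraMap_injective A B).2 hinj
  have hGD : Algebra.HasGoingDown A B := inferInstance
  have hnp : n.IsPrime := Ideal.IsMaximal.isPrime inferInstance
  have hmax : (n.comap (algebraMap A B)).IsMaximal :=
    Ideal.isMaximal_comap_of_isIntegral_of_isMaximal n
  have hcomap : n.comap (algebraMap A B) = IsLocalRing.maximalIdeal A :=
    IsLocalRing.eq_maximalIdeal hmax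
  rw [IsLocalization.AtPrime.ringKrullDim_eq_height n (Localization.AtPrime n),
    ← IsLocalRing.maximalIdeal_height_eq_ringKrullDim, ← hcomap]
  congr 1
  let P : PrimeSpectrum B := ⟨n, hnp⟩
  have hsm : StrictMono (PrimeSpectrum.comap (algebraMap A B)) := by
    intro P Q hPQ
    have : P.asIdeal < Q.asIdeal := hPQ
    exact Ideal.IsIntegral.comap_lt_comap (R := A) this
  change P.asIdeal.height = (PrimeSpectrum.comap (algebraMap A B) P).asIdeal.height
  rw [PrimeSpectrum.height_eq_orderHeight, PrimeSpectrum.height_eq_orderHeight]
  refine le_antisymm (Order.height_le_height_apply_of_strictMono _ hsm P) ?_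
  rw [Order.height_eq_iSup_last_eq]
  refine iSup₂_le fun l hl => ?_
  have : n.LiesOver l.last.asIdeal := ⟨by rw [hl]; rfl⟩
  obtain ⟨L, hL, hlast, -⟩ := Ideal.exists_ltSeries_of_hasGoingDown l n
  rw [← hL]
  have : L.last = P := hlast
  rw [← this]
  exact Order.length_le_height_last

end Groth.Agent.S5764
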