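import Groth.Statements.S5766
import Mathlib
import Groth.Agent.S5763

set_option autoImplicit false
universe u
open EGA41

namespace Groth.Agent.S5766

section Helpers

set_option linter.style.haveILetI false

open Module

theorem annihilator_eq_comap (A B : Type u) [CommRing A] [CommRing B] [Algebra A B]
    (M : Type u) [AddCommGroup M] [Module B M] [Module A M] [IsScalarTower A B M] :
    Module.annihilator A M = (Module.annihilator B M).comap (algebraMap A B) := by
  ext a
  simp only [Module.mem_annihilator, Ideal.mem_comap, algebraMap_smul]

theorem finite_quotient_annihilator (A B : Type u) [CommRing A] [CommRing B] [IsNoetherianRing A]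
    [Algebra A B] (M : Type u) [AddCommGroup M] [Module B M] [Module A M] [IsScalarTower A B M]
    [Module.Finite A M] : Module.Finite A (B ⧸ Module.annihilator B M) := by
  haveI : IsNoetherian A M := isNoetherian_of_isNoetherianRing_of_finite A M
  let f : B →ₗ[A] Module.End A M := (Algebra.lsmul A A M).toLinearMap
  have hker : LinearMap.ker f = (Module.annihilator B M).restrictScalars A := by
    ext b
    simp only [LinearMap.mem_ker, Submodule.restrictScalars_mem, Module.mem_annihilator]
    constructor
    · intro h m
      have := LinearMap.congr_fun h m
      simpa [f] using this
    · intro h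
      ext m
      simpa [f] using h m
  let g : (B ⧸ Module.annihilator B M) →ₗ[A] Module.End A M :=
    Submodule.liftQ ((Module.annihilator B M).restrictScalars A) f (le_of_eq hker.symm)
  have hg : Function.Injective g := by
    rw [← LinearMap.ker_eq_bot]
    exact Submodule.ker_liftQ_eq_bot _ _ _ (le_of_eq hker)
  exact Module.Finite.of_injective g hg

theorem main (A B : Type u) [CommRing A] [CommRing B] [IsNoetherianRing A]
    [Algebra A B] (M : Type u) [AddCommGroup M] [Module B M] [Module A M] [IsScalarTower A B M]
    [Module.Finite A M] : Module.supportDim A M = Module.supportDim B M := by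
  haveI : Module.Finite B M := Module.Finite.of_restrictScalars_finite A B M
  rw [supportDim_eq_ringKrullDim_quotient_annihilator, supportDim_eq_ringKrullDim_quotient_annihilator,
    annihilator_eq_comap A B M]
  haveI : Module.Finite A (B ⧸ Module.annihilator B M) := finite_quotient_annihilator A B M
  haveI : Module.Finite (A ⧸ (Module.annihilator B M).comap (algebraMap A B))
      (B ⧸ Module.annihilator B M) :=
    Module.Finite.of_restrictScalars_finite A _ _
  haveI : Algebra.IsIntegral (A ⧸ (Module.annihilator B M).comap (algebraMap A B))
      (B ⧸ Module.annihilator B M) := Algebra.IsIntegral.of_finite _ _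
  exact ((Groth.Agent.S5763.result (A ⧸ (Module.annihilator B M).comap (algebraMap A B))
    (B ⧸ Module.annihilator B M)).2 Ideal.algebraMap_quotient_injective).symm

end Helpers


/-- Let A be a Noetherian ring, ρ : A → B a ring homomorphism and M a B-module which is finitely
generated as an A-module via ρ. Then the dimension of M as an A-module equals its dimension as a
B-module. -/
theorem result (A B : Type u) [CommRing A] [CommRing B] [IsNoetherianRing A]
    [Algebra A B] (M : Type u) [AddCommGroup M] [Module B M] [Module A M] [IsScalarTower A B M]
    [Module.Finite A M] : Module.supportDim A M = Module.supportDim B M := by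
  exact main A B M

end Groth.Agent.S5766
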