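import Groth.Statements.S5769
import Mathlib.RingTheory.Ideal.KrullsHeightTheorem

set_option autoImplicit false
universe u
open EGA41

namespace Groth.Agent.S5769


/-- Let φ : A → B be a local homomorphism of Noetherian local rings, m the maximal ideal of A and k its
residue field. Then dim(B) ≤ dim(A) + dim(B ⊗_A k), where B ⊗_A k = B/mB. -/
theorem result (A B : Type u) [CommRing A] [CommRing B]
    [IsLocalRing A] [IsLocalRing B] [IsNoetherianRing A] [IsNoetherianRing B] [Algebra A B]
    [IsLocalHom (algebraMap A B)] :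
    ringKrullDim B ≤ ringKrullDim A +
      ringKrullDim (B ⧸ (IsLocalRing.maximalIdeal A).map (algebraMap A B)) := by
  have hlo : (IsLocalRing.maximalIdeal B).LiesOver (IsLocalRing.maximalIdeal A) :=
    ⟨(IsLocalRing.maximalIdeal_comap (algebraMap A B)).symm⟩
  have h1 := Ideal.height_le_height_add_of_liesOver (IsLocalRing.maximalIdeal A)
    (IsLocalRing.maximalIdeal B)
  have hne : (IsLocalRing.maximalIdeal B).map
      (Ideal.Quotient.mk ((IsLocalRing.maximalIdeal A).map (algebraMap A B))) ≠ ⊤ := by
    intro htop
    have hle : (IsLocalRing.maximalIdeal A).map (algebraMap A B) ≤ IsLocalRing.maximalIdeal B := by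
      rw [Ideal.map_le_iff_le_comap]
      exact hlo.over.le
    have : (1 : B ⧸ (IsLocalRing.maximalIdeal A).map (algebraMap A B)) ∈
        (IsLocalRing.maximalIdeal B).map
          (Ideal.Quotient.mk ((IsLocalRing.maximalIdeal A).map (algebraMap A B))) := by
      rw [htop]; trivial
    rw [← map_one (Ideal.Quotient.mk _), Ideal.mem_quotient_iff_mem hle] at this
    exact (IsLocalRing.maximalIdeal.isMaximal B).ne_top ((Ideal.eq_top_iff_one _).2 this)
  have h2 := Ideal.height_le_ringKrullDim_of_ne_top hne
  rw [← IsLocalRing.maximalIdeal_height_eq_ringKrullDim,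
    ← IsLocalRing.maximalIdeal_height_eq_ringKrullDim]
  calc ((IsLocalRing.maximalIdeal B).height : WithBot ℕ∞)
      ≤ (((IsLocalRing.maximalIdeal A).height + ((IsLocalRing.maximalIdeal B).map
          (Ideal.Quotient.mk ((IsLocalRing.maximalIdeal A).map (algebraMap A B)))).height : ℕ∞) :
          WithBot ℕ∞) := WithBot.coe_le_coe.2 h1
    _ = ((IsLocalRing.maximalIdeal A).height : WithBot ℕ∞) + (((IsLocalRing.maximalIdeal B).map
          (Ideal.Quotient.mk ((IsLocalRing.maximalIdeal A).map (algebraMap A B)))).height :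
          WithBot ℕ∞) := WithBot.coe_add _ _
    _ ≤ _ := by gcongr

end Groth.Agent.S5769
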