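import Groth.Statements.S5770
import Mathlib
import Groth.Agent.S5769

set_option autoImplicit false
universe u
open EGA41

namespace Groth.Agent.S5770

section Helpers

set_option linter.style.haveILetI false

open Module PrimeSpectrum TensorProduct

theorem isLocalHom_mk {B : Type u} [CommRing B] [IsLocalRing B] (K : Ideal B) (hK : K ≠ ⊤) :
    IsLocalHom (Ideal.Quotient.mk K) := by
  apply isLocalHom_of_le_jacobson_bot
  rw [IsLocalRing.jacobson_eq_maximalIdeal ⊥ bot_ne_top]
  exact IsLocalRing.le_maximalIdeal hK

/-- general inequality for quotients of a local homomorphism -/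
theorem dim_quot_le (A B : Type u) [CommRing A] [CommRing B] [IsLocalRing A]
    [IsLocalRing B] [IsNoetherianRing A] [IsNoetherianRing B] [Algebra A B]
    [IsLocalHom (algebraMap A B)] (I : Ideal A) (K : Ideal B) (hK : K ≠ ⊤)
    (hIK : I.map (algebraMap A B) ≤ K) :
    ringKrullDim (B ⧸ K) ≤ ringKrullDim (A ⧸ I) +
      ringKrullDim (B ⧸ (K ⊔ (IsLocalRing.maximalIdeal A).map (algebraMap A B))) := by
  have hle : I ≤ K.comap (algebraMap A B) := Ideal.map_le_iff_le_comap.mp hIK
  have hI : I ≠ ⊤ := by
    rintro rfl
    apply hK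
    rw [Ideal.map_top] at hIK
    exact top_le_iff.mp hIK
  haveI : Nontrivial (A ⧸ I) := Ideal.Quotient.nontrivial_iff.mpr hI
  haveI : Nontrivial (B ⧸ K) := Ideal.Quotient.nontrivial_iff.mpr hK
  haveI : IsLocalRing (A ⧸ I) :=
    IsLocalRing.of_surjective' (Ideal.Quotient.mk I) Ideal.Quotient.mk_surjective
  haveI : IsLocalRing (B ⧸ K) :=
    IsLocalRing.of_surjective' (Ideal.Quotient.mk K) Ideal.Quotient.mk_surjective
  haveI : IsLocalHom (Ideal.Quotient.mk I) := isLocalHom_mk I hI
  haveI : IsLocalHom (Ideal.Quotient.mk K) := isLocalHom_mk K hK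
  letI : Algebra (A ⧸ I) (B ⧸ K) := (Ideal.quotientMap K (algebraMap A B) hle).toAlgebra
  have halg : ∀ a : A, algebraMap (A ⧸ I) (B ⧸ K) (Ideal.Quotient.mk I a) =
      Ideal.Quotient.mk K (algebraMap A B a) := fun a => rfl
  haveI : IsLocalHom (algebraMap (A ⧸ I) (B ⧸ K)) := by
    constructor
    intro a' ha'
    obtain ⟨a, rfl⟩ := Ideal.Quotient.mk_surjective a'
    rw [halg] at ha'
    have h1 : IsUnit (algebraMap A B a) := isUnit_of_map_unit (Ideal.Quotient.mk K) _ ha'
    exact (isUnit_of_map_unit (algebraMap A B) a h1).map (Ideal.Quotient.mk I)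
  have key := Groth.Agent.S5769.result (A ⧸ I) (B ⧸ K)
  refine key.trans ?_
  gcongr
  -- surjection from B/(K ⊔ mB) onto (B/K)/(m(A/I))(B/K)
  obtain ⟨J, hJ⟩ : ∃ J : Ideal (B ⧸ K),
      J = (IsLocalRing.maximalIdeal (A ⧸ I)).map (algebraMap (A ⧸ I) (B ⧸ K)) := ⟨_, rfl⟩
  rw [← hJ]
  let f : B →+* (B ⧸ K) ⧸ J := (Ideal.Quotient.mk J).comp (Ideal.Quotient.mk K)
  have hf : Function.Surjective f :=
    Ideal.Quotient.mk_surjective.comp Ideal.Quotient.mk_surjective
  have hker : ∀ b ∈ K ⊔ (IsLocalRing.maximalIdeal A).map (algebraMap A B), f b = 0 := by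
    intro b hb
    have : K ⊔ (IsLocalRing.maximalIdeal A).map (algebraMap A B) ≤ RingHom.ker f := by
      apply sup_le
      · intro k hk
        rw [RingHom.mem_ker]
        show Ideal.Quotient.mk J (Ideal.Quotient.mk K k) = 0
        rw [Ideal.Quotient.eq_zero_iff_mem.mpr hk, map_zero]
      · rw [Ideal.map_le_iff_le_comap]
        intro a ha
        rw [Ideal.mem_comap, RingHom.mem_ker]
        show Ideal.Quotient.mk J (Ideal.Quotient.mk K (algebraMap A B a)) = 0
        rw [Ideal.Quotient.eq_zero_iff_mem, ← halg, hJ]
        apply Ideal.mem_map_of_mem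
        rw [IsLocalRing.mem_maximalIdeal] at ha ⊢
        intro hu
        exact ha (isUnit_of_map_unit (Ideal.Quotient.mk I) a hu)
    exact this hb
  exact ringKrullDim_le_of_surjective (Ideal.Quotient.lift _ f hker)
    (Ideal.Quotient.lift_surjective_of_surjective _ hker hf)

theorem main (A B : Type u) [CommRing A] [CommRing B] [IsLocalRing A]
    [IsLocalRing B] [IsNoetherianRing A] [IsNoetherianRing B] [Algebra A B] [IsLocalHom (algebraMap A B)]
    (M : Type u) [AddCommGroup M] [Module A M] [Module.Finite A M] (N : Type u) [AddCommGroup N] [Module B N]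
    [Module A N] [IsScalarTower A B N] [Module.Finite B N] :
    Module.supportDim B (N ⊗[A] M) ≤ Module.supportDim A M +
      Module.supportDim B (N ⧸ ((IsLocalRing.maximalIdeal A).map (algebraMap A B) • (⊤ : Submodule B N))) := by
  set K : Ideal B := Module.annihilator B N ⊔ (Module.annihilator A M).map (algebraMap A B) with hKdef
  have hKann : K ≤ Module.annihilator B (N ⊗[A] M) := by
    apply sup_le
    · intro b hb
      rw [Module.mem_annihilator] at hb ⊢
      intro z
      induction z using TensorProduct.induction_on with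
      | zero => simp
      | tmul n m => rw [TensorProduct.smul_tmul', hb, TensorProduct.zero_tmul]
      | add x y hx hy => rw [smul_add, hx, hy, add_zero]
    · rw [Ideal.map_le_iff_le_comap]
      intro a ha
      rw [Ideal.mem_comap, Module.mem_annihilator]
      rw [Module.mem_annihilator] at ha
      intro z
      induction z using TensorProduct.induction_on with
      | zero => simp
      | tmul n m =>
        rw [TensorProduct.smul_tmul', algebraMap_smul, TensorProduct.smul_tmul, ha,
          TensorProduct.tmul_zero]
      | add x y hx hy => rw [smul_add, hx, hy, add_zero]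
  by_cases hK : K = ⊤
  · have : Subsingleton (N ⊗[A] M) := by
      rw [← Module.annihilator_eq_top_iff (R := B)]
      exact top_le_iff.mp (hK ▸ hKann)
    rw [supportDim_eq_bot_of_subsingleton]
    exact bot_le
  · have h1 : supportDim B (N ⊗[A] M) ≤ ringKrullDim (B ⧸ K) := by
      rw [ringKrullDim_quotient, supportDim]
      have hsub : ∀ q : Module.support B (N ⊗[A] M), q.1 ∈ zeroLocus (K : Set B) := fun q =>
        hKann.trans (Module.annihilator_le_of_mem_support q.2)
      exact Order.krullDim_le_of_strictMono
        (fun q => (⟨q.1, hsub q⟩ : zeroLocus (K : Set B))) (fun a b h => h)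
    have h2 := dim_quot_le A B (Module.annihilator A M) K hK le_sup_right
    have h3 : ringKrullDim (A ⧸ Module.annihilator A M) = supportDim A M :=
      (supportDim_eq_ringKrullDim_quotient_annihilator A M).symm
    have h4 : ringKrullDim (B ⧸ (K ⊔ (IsLocalRing.maximalIdeal A).map (algebraMap A B))) ≤
        supportDim B (N ⧸ ((IsLocalRing.maximalIdeal A).map (algebraMap A B) •
          (⊤ : Submodule B N))) := by
      rw [ringKrullDim_quotient, supportDim]
      have hsub : ∀ q : zeroLocus
          ((K ⊔ (IsLocalRing.maximalIdeal A).map (algebraMap A B) : Ideal B) : Set B),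
          q.1 ∈ Module.support B (N ⧸ ((IsLocalRing.maximalIdeal A).map (algebraMap A B) •
          (⊤ : Submodule B N))) := by
        intro q
        rw [Module.support_quotient, Module.support_eq_zeroLocus]
        have hq := q.2
        rw [mem_zeroLocus, SetLike.coe_subset_coe] at hq
        constructor
        · rw [mem_zeroLocus, SetLike.coe_subset_coe]
          exact (le_sup_left.trans le_sup_left).trans hq
        · rw [mem_zeroLocus, SetLike.coe_subset_coe]
          exact le_sup_right.trans hq
      exact Order.krullDim_le_of_strictMono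
        (fun q => (⟨q.1, hsub q⟩ : Module.support B _)) (fun a b h => h)
    calc supportDim B (N ⊗[A] M) ≤ ringKrullDim (B ⧸ K) := h1
      _ ≤ _ := h2
      _ ≤ _ := by rw [h3]; gcongr

end Helpers


open TensorProduct in
/-- Let φ : A → B be a local homomorphism of Noetherian local rings, m the maximal ideal of A, k = A/m,
M a finitely generated A-module and N a finitely generated B-module. Then dim_B(M ⊗_A N) ≤ dim_A(M)
+ dim(N ⊗_A k), the last dimension being that of N/mN (over B ⊗_A k or, equivalently by finiteness,
over B). -/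
theorem result (A B : Type u) [CommRing A] [CommRing B] [IsLocalRing A]
    [IsLocalRing B] [IsNoetherianRing A] [IsNoetherianRing B] [Algebra A B] [IsLocalHom (algebraMap A B)]
    (M : Type u) [AddCommGroup M] [Module A M] [Module.Finite A M] (N : Type u) [AddCommGroup N] [Module B N]
    [Module A N] [IsScalarTower A B N] [Module.Finite B N] :
    Module.supportDim B (N ⊗[A] M) ≤ Module.supportDim A M +
      Module.supportDim B (N ⧸ ((IsLocalRing.maximalIdeal A).map (algebraMap A B) • (⊤ : Submodule B N))) := by
  exact main A B M N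

end Groth.Agent.S5770
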