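import Groth.Statements.S5771
import Groth.Agent.S5769
import Mathlib.RingTheory.KrullDimension.NonZeroDivisors

set_option autoImplicit false
universe u
open EGA41

namespace Groth.Agent.S5771

lemma dim_le_quot_ker (A B : Type u) [CommRing A] [CommRing B]
    [IsLocalRing A] [IsLocalRing B] [IsNoetherianRing A] [IsNoetherianRing B] [Algebra A B]
    [IsLocalHom (algebraMap A B)]
    (hdef : ringKrullDim (B ⧸ (IsLocalRing.maximalIdeal A).map (algebraMap A B)) = 0) :
    ringKrullDim B ≤ ringKrullDim (A ⧸ RingHom.ker (algebraMap A B)) := by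
  have hKne : RingHom.ker (algebraMap A B) ≠ ⊤ := RingHom.ker_ne_top _
  have : Nontrivial (A ⧸ RingHom.ker (algebraMap A B)) := Ideal.Quotient.nontrivial_iff.2 hKne
  have : IsLocalRing (A ⧸ RingHom.ker (algebraMap A B)) :=
    IsLocalRing.of_surjective' (Ideal.Quotient.mk _) Ideal.Quotient.mk_surjective
  let _ : Algebra (A ⧸ RingHom.ker (algebraMap A B)) B := (RingHom.kerLift (algebraMap A B)).toAlgebra
  have hcomp : (algebraMap (A ⧸ RingHom.ker (algebraMap A B)) B).comp
      (Ideal.Quotient.mk (RingHom.ker (algebraMap A B))) = algebraMap A B := by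
    ext a; rfl
  have : IsLocalHom (algebraMap (A ⧸ RingHom.ker (algebraMap A B)) B) := by
    refine ⟨fun x hx => ?_⟩
    obtain ⟨a, rfl⟩ := Ideal.Quotient.mk_surjective x
    have : IsUnit (algebraMap A B a) := hx
    exact (isUnit_of_map_unit (algebraMap A B) a this).map _
  have hmax : IsLocalRing.maximalIdeal (A ⧸ RingHom.ker (algebraMap A B)) =
      (IsLocalRing.maximalIdeal A).map (Ideal.Quotient.mk (RingHom.ker (algebraMap A B))) := by
    have hsurj : Function.Surjective (Ideal.Quotient.mk (RingHom.ker (algebraMap A B))) :=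
      Ideal.Quotient.mk_surjective
    have : IsLocalHom (Ideal.Quotient.mk (RingHom.ker (algebraMap A B))) :=
      IsLocalHom.of_surjective _ hsurj
    rw [← IsLocalRing.maximalIdeal_comap (Ideal.Quotient.mk (RingHom.ker (algebraMap A B))),
      Ideal.map_comap_of_surjective _ hsurj]
  have hmap : (IsLocalRing.maximalIdeal (A ⧸ RingHom.ker (algebraMap A B))).map
      (algebraMap (A ⧸ RingHom.ker (algebraMap A B)) B) =
      (IsLocalRing.maximalIdeal A).map (algebraMap A B) := by
    rw [hmax, Ideal.map_map, hcomp]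
  have h := Groth.Agent.S5769.result (A ⧸ RingHom.ker (algebraMap A B)) B
  rw [hmap, hdef, add_zero] at h
  exact h


/-- Let φ : A → B be a local homomorphism of Noetherian local rings, m the maximal ideal of A, and
suppose mB is an ideal of definition of B (equivalently dim(B/mB) = 0). Then dim(B) ≤ dim(A); if
moreover A is an integral domain and dim(A) = dim(B), then φ is injective. -/
theorem result (A B : Type u) [CommRing A] [CommRing B]
    [IsLocalRing A] [IsLocalRing B] [IsNoetherianRing A] [IsNoetherianRing B] [Algebra A B]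
    [IsLocalHom (algebraMap A B)]
    (hdef : ringKrullDim (B ⧸ (IsLocalRing.maximalIdeal A).map (algebraMap A B)) = 0) :
    ringKrullDim B ≤ ringKrullDim A ∧
      (IsDomain A → ringKrullDim A = ringKrullDim B → Function.Injective (algebraMap A B)) := by
  constructor
  · have h := Groth.Agent.S5769.result A B
    rwa [hdef, add_zero] at h
  · intro hdom heq
    rw [RingHom.injective_iff_ker_eq_bot]
    by_contra hK
    obtain ⟨x, hxK, hx0⟩ := Submodule.exists_mem_ne_zero_of_ne_bot hK
    have h1 := dim_le_quot_ker A B hdef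
    have h2 : ringKrullDim (A ⧸ RingHom.ker (algebraMap A B)) ≤ ringKrullDim (A ⧸ Ideal.span {x}) :=
      ringKrullDim_le_of_surjective
        (Ideal.Quotient.factor ((Ideal.span_singleton_le_iff_mem _).2 hxK))
        (Ideal.Quotient.factor_surjective _)
    have h3 := ringKrullDim_quotient_succ_le_of_nonZeroDivisor (mem_nonZeroDivisors_of_ne_zero hx0)
    have h4 : ringKrullDim A + 1 ≤ ringKrullDim A := by
      calc ringKrullDim A + 1 = ringKrullDim B + 1 := by rw [heq]
        _ ≤ ringKrullDim (A ⧸ Ideal.span {x}) + 1 := by gcongr; exact h1.trans h2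
        _ ≤ ringKrullDim A := h3
    have hfin : ringKrullDim A ≠ ⊤ := ringKrullDim_ne_top
    have hbot : ringKrullDim A ≠ ⊥ := ringKrullDim_ne_bot
    obtain ⟨n, hn⟩ := WithBot.ne_bot_iff_exists.1 hbot
    rw [← hn] at h4 hfin
    have hn' : n ≠ ⊤ := fun h => hfin (by rw [h]; rfl)
    obtain ⟨k, rfl⟩ := ENat.ne_top_iff_exists.1 hn'
    norm_cast at h4
    omega

end Groth.Agent.S5771
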