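import Groth.Statements.S5772
import Mathlib.RingTheory.Filtration

set_option autoImplicit false
universe u
open scoped Pointwise
open EGA41

namespace Groth.Agent.S5772


/-- Let A be a Noetherian ring, M a finitely generated A-module and f an element of A. Then f is
M-regular (multiplication by f on M is injective) if and only if f is M-quasi-regular, i.e. the
canonical surjection (M/fM)[T] → gr(M) for the (f)-adic filtration is bijective, which amounts to:
for every k ≥ 0 and x ∈ M, f^k x ∈ f^(k+1) M implies x ∈ fM. -/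
theorem result (A : Type u) [CommRing A] [IsNoetherianRing A] (M : Type u)
    [AddCommGroup M] [Module A M] [Module.Finite A M] (f : A) :
    IsSMulRegular M f ↔
      ∀ (k : ℕ) (x : M), f ^ k • x ∈ f ^ (k + 1) • (⊤ : Submodule A M) → x ∈ f • (⊤ : Submodule A M) := by
  constructor
  · intro hreg k x hx
    obtain ⟨y, -, hy⟩ := (Submodule.mem_smul_pointwise_iff_exists _ _ _).1 hx
    rw [pow_succ, mul_smul] at hy
    have := (hreg.pow k) hy
    exact (Submodule.mem_smul_pointwise_iff_exists _ _ _).2 ⟨y, Submodule.mem_top, this⟩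
  · intro hQ
    have hP : ∀ (n : ℕ) (y : M), f ^ (n + 1) • y = 0 → y ∈ f • (⊤ : Submodule A M) := by
      intro n y hy
      apply hQ (n + 1) y
      rw [hy]
      exact Submodule.zero_mem _
    have key : ∀ x : M, f • x = 0 → ∀ n : ℕ, ∃ y : M, x = f ^ n • y := by
      intro x hx n
      induction n with
      | zero => exact ⟨x, by simp⟩
      | succ n ih =>
        obtain ⟨y, hy⟩ := ih
        have h0 : f ^ (n + 1) • y = 0 := by
          rw [pow_succ', mul_smul, ← hy, hx]
        obtain ⟨z, -, hz⟩ := (Submodule.mem_smul_pointwise_iff_exists _ _ _).1 (hP n y h0)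
        exact ⟨z, by rw [hy, ← hz, pow_succ, mul_smul]⟩
    rw [isSMulRegular_iff_right_eq_zero_of_smul]
    intro x hx
    have hmem : x ∈ (⨅ i : ℕ, (Ideal.span {f}) ^ i • ⊤ : Submodule A M) := by
      rw [Submodule.mem_iInf]
      intro n
      obtain ⟨y, hy⟩ := key x hx n
      rw [hy]
      exact Submodule.smul_mem_smul (Ideal.pow_mem_pow (Ideal.mem_span_singleton_self f) n)
        Submodule.mem_top
    obtain ⟨⟨r, hr⟩, hrx⟩ := (Ideal.mem_iInf_smul_pow_eq_bot_iff (Ideal.span {f}) x).1 hmem
    obtain ⟨a, rfl⟩ := Ideal.mem_span_singleton'.1 hr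
    rw [← hrx]
    change (a * f) • x = 0
    rw [mul_smul, hx, smul_zero]

end Groth.Agent.S5772
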