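import Groth.Statements.S5773
import Groth.Agent.Lib.FlatCrit

set_option autoImplicit false
universe u
open EGA41

namespace Groth.Agent.S5773

open TensorProduct Function Groth.Agent.Lib.FlatCrit
open scoped Pointwise
open RingTheory.Sequence

/-- Lemma (a): if `f ∈ rad B` is `M`-regular and `M/fM` is `A`-flat then `M` is `A`-flat. -/
theorem flat_of_flat_quotSMulTop {A B : Type u} [CommRing A] [CommRing B] [Algebra A B]
    [IsNoetherianRing B] {M : Type u} [AddCommGroup M] [Module B M] [Module A M]
    [IsScalarTower A B M] [Module.Finite B M] (f : B) (hf : f ∈ Ideal.jacobson (⊥ : Ideal B))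
    (hreg : IsSMulRegular M f) (hflat : Module.Flat A (QuotSMulTop f M)) : Module.Flat A M := by
  rw [Module.Flat.iff_lTensor_injective]
  intro I hI
  have : Module.Finite A I := Module.Finite.iff_fg.mpr hI
  have hfin : Module.Finite B (M ⊗[A] I) := finite_tensorProduct_left
  have : IsNoetherian B (M ⊗[A] I) := isNoetherian_of_isNoetherianRing_of_finite B _
  let ι : M ⊗[A] I →ₗ[B] M ⊗[A] A := AlgebraTensorModule.lTensor B M I.subtype
  have hι : ∀ x, ι x = I.subtype.lTensor M x := fun x => rfl
  let u : M →ₗ[A] M := (LinearMap.lsmul B M f).restrictScalars A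
  let π : M →ₗ[A] QuotSMulTop f M := ((f • (⊤ : Submodule B M)).mkQ).restrictScalars A
  have hπ : Surjective π := Submodule.mkQ_surjective (f • (⊤ : Submodule B M))
  have hex : Exact u π := by
    intro y
    show (f • (⊤ : Submodule B M)).mkQ y = 0 ↔ _
    rw [Submodule.mkQ_apply, Submodule.Quotient.mk_eq_zero, Submodule.mem_smul_pointwise_iff_exists]
    constructor
    · rintro ⟨z, -, rfl⟩
      exact ⟨z, rfl⟩
    · rintro ⟨z, rfl⟩
      exact ⟨z, Submodule.mem_top, rfl⟩
  have hu : ∀ y : M ⊗[A] I, u.rTensor I y = f • y := by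
    intro y
    induction y with
    | zero => simp
    | add x y hx hy => rw [map_add, hx, hy, smul_add]
    | tmul m a => rw [LinearMap.rTensor_tmul, smul_tmul']; rfl
  have hregT : IsSMulRegular (M ⊗[A] A) f :=
    ((AlgebraTensorModule.rid A B M).isSMulRegular_congr f).mpr hreg
  have hK : LinearMap.ker ι ≤ Ideal.span {f} • LinearMap.ker ι := by
    intro x hx
    rw [LinearMap.mem_ker] at hx
    have h1 : π.rTensor I x = 0 := by
      apply Module.Flat.lTensor_preserves_injective_linearMap (M := QuotSMulTop f M) I.subtype
        I.subtype_injective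
      rw [map_zero, ← LinearMap.comp_apply, LinearMap.lTensor_comp_rTensor,
        ← LinearMap.rTensor_comp_lTensor, LinearMap.comp_apply, ← hι, hx, map_zero]
    obtain ⟨y, rfl⟩ := (rTensor_exact I hex hπ x).mp h1
    rw [hu] at hx ⊢
    rw [map_smul] at hx
    have hy : ι y = 0 := hregT (by show f • ι y = f • 0; rw [hx, smul_zero])
    exact Submodule.smul_mem_smul (Ideal.mem_span_singleton_self f) hy
  have hbot := Submodule.eq_bot_of_le_smul_of_le_jacobson_bot (Ideal.span {f}) (LinearMap.ker ι)
    (IsNoetherian.noetherian _) hK (by rwa [Ideal.span_le, Set.singleton_subset_iff])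
  intro x y hxy
  have := LinearMap.ker_eq_bot.mp hbot
  exact this hxy

theorem flat_quot_bot_iff {A B : Type u} [CommRing A] [CommRing B] [Algebra A B]
    {M : Type u} [AddCommGroup M] [Module B M] [Module A M] [IsScalarTower A B M] :
    Module.Flat A (M ⧸ (Ideal.ofList ([] : List B) • (⊤ : Submodule B M))) ↔ Module.Flat A M := by
  have h0 : (Ideal.ofList ([] : List B) • ⊤ : Submodule B M) = ⊥ := by
    rw [Ideal.ofList_nil, Submodule.bot_smul]
  constructor
  · intro h
    exact Module.Flat.of_linearEquiv ((Submodule.quotEquivOfEqBot _ h0).restrictScalars A).symm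
  · intro h
    exact Module.Flat.of_linearEquiv ((Submodule.quotEquivOfEqBot _ h0).restrictScalars A)

theorem main {A B : Type u} [CommRing A] [CommRing B] [IsLocalRing B] [IsNoetherianRing B]
    [Algebra A B] (fs : List B) (hfs : ∀ f ∈ fs, f ∈ IsLocalRing.maximalIdeal B) :
    ∀ (M : Type u) [AddCommGroup M] [Module B M] [Module A M] [IsScalarTower A B M]
      [Module.Finite B M],
      IsWeaklyRegular M fs →
      Module.Flat A (M ⧸ (Ideal.ofList fs • (⊤ : Submodule B M))) →
      ∀ i ≤ fs.length, Module.Flat A (M ⧸ (Ideal.ofList (fs.take i) • (⊤ : Submodule B M))) := by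
  induction fs with
  | nil =>
    intro M _ _ _ _ _ _ hflat i hi
    rw [List.take_nil]
    exact hflat
  | cons f fs ih =>
    intro M _ _ _ _ _ hreg hflat i hi
    rw [isWeaklyRegular_cons_iff] at hreg
    have hflat' : Module.Flat A
        (QuotSMulTop f M ⧸ (Ideal.ofList fs • ⊤ : Submodule B (QuotSMulTop f M))) :=
      Module.Flat.of_linearEquiv
        ((Submodule.quotOfListConsSMulTopEquivQuotSMulTopInner M f fs).restrictScalars A).symm
    have ih' := ih (fun g hg => hfs g (List.mem_cons_of_mem _ hg)) (QuotSMulTop f M) hreg.2 hflat'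
    have h0 : Module.Flat A (QuotSMulTop f M) := by
      have := ih' 0 (Nat.zero_le _)
      rw [List.take_zero] at this
      exact flat_quot_bot_iff.mp this
    have hM : Module.Flat A M := flat_of_flat_quotSMulTop f (by
      rw [IsLocalRing.jacobson_eq_maximalIdeal ⊥ bot_ne_top]
      exact hfs f List.mem_cons_self) hreg.1 h0
    cases i with
    | zero =>
      rw [List.take_zero]
      exact flat_quot_bot_iff.mpr hM
    | succ j =>
      rw [List.take_succ_cons]
      have := ih' j (by simpa using hi)
      exact Module.Flat.of_linearEquiv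
        ((Submodule.quotOfListConsSMulTopEquivQuotSMulTopInner M f (fs.take j)).restrictScalars A)


/-- Let A → B be a local homomorphism of Noetherian local rings, M a finitely generated B-module and
f_1, ..., f_n elements of the maximal ideal of B forming an M-regular sequence. If the quotient
M/(f_1 M + ... + f_n M) is flat over A, then all the quotients M/(f_1 M + ... + f_i M) for 0 ≤ i ≤ n
(in particular M) are flat over A. -/
theorem result (A B : Type u) [CommRing A] [CommRing B]
    [IsLocalRing A] [IsLocalRing B] [IsNoetherianRing A] [IsNoetherianRing B] [Algebra A B]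
    [IsLocalHom (algebraMap A B)] (M : Type u) [AddCommGroup M] [Module B M] [Module A M]
    [IsScalarTower A B M] [Module.Finite B M] (fs : List B) (hfs : ∀ f ∈ fs, f ∈ IsLocalRing.maximalIdeal B)
    (hreg : RingTheory.Sequence.IsWeaklyRegular M fs)
    (hflat : Module.Flat A (M ⧸ (Ideal.ofList fs • (⊤ : Submodule B M)))) (i : ℕ) (hi : i ≤ fs.length) :
    Module.Flat A (M ⧸ (Ideal.ofList (fs.take i) • (⊤ : Submodule B M))) := by
  exact main fs hfs M hreg hflat i hi

end Groth.Agent.S5773
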