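import Groth.Statements.S5774
import Groth.Agent.Lib.FlatCrit
import Groth.Agent.Lib.ArtinSocle88

set_option autoImplicit false
universe u
open EGA41

namespace Groth.Agent.S5774

open TensorProduct Function Groth.Agent.Lib.FlatCrit Groth.Agent.Lib.ArtinSocle88
open scoped Pointwise
open RingTheory.Sequence

set_option linter.style.haveILetI false

/-- Claim': if `𝔪 N = 0`, `A/𝔪` is a field and `A/𝔪 ⊗ φ` is injective, then `N ⊗ φ` is injective. -/
theorem lTensor_injective_of_torsion {A : Type u} [CommRing A] (𝔪 : Ideal A) [𝔪.IsMaximal]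
    {M M' : Type u} [AddCommGroup M] [Module A M] [AddCommGroup M'] [Module A M']
    (φ : M →ₗ[A] M') (hφ : Injective (φ.lTensor (A ⧸ 𝔪)))
    (N : Type u) [AddCommGroup N] [Module A N] (hN : ∀ a ∈ 𝔪, ∀ n : N, a • n = 0) :
    Injective (φ.lTensor N) := by
  letI : Field (A ⧸ 𝔪) := Ideal.Quotient.field 𝔪
  have htors : Module.IsTorsionBySet A N 𝔪 := by
    intro x a
    exact hN a a.2 x
  let _ := htors.module
  apply lTensor_injective_of_baseChange (A ⧸ 𝔪) φ
  apply Module.Flat.lTensor_preserves_injective_linearMap (M := N) (φ.baseChange (A ⧸ 𝔪))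
  have : ⇑(φ.baseChange (A ⧸ 𝔪)) = ⇑(φ.lTensor (A ⧸ 𝔪)) := by
    rw [LinearMap.baseChange_eq_ltensor]
  rw [this]
  exact hφ

/-- Lemma Y. -/
theorem mem_smul_of_map_mem {A : Type u} [CommRing A] (𝔪 : Ideal A) [𝔪.IsMaximal]
    {M : Type u} [AddCommGroup M] [Module A M] [Module.Flat A M]
    (φ : M →ₗ[A] M) (hφ : Injective (φ.lTensor (A ⧸ 𝔪)))
    (J J' : Ideal A) (hmJ : 𝔪 * J ≤ J') (x : M)
    (hx : x ∈ (J • ⊤ : Submodule A M)) (hφx : φ x ∈ (J' • ⊤ : Submodule A M)) :
    x ∈ (J' • ⊤ : Submodule A M) := by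
  let N : Submodule A (A ⧸ J') := Submodule.map J'.mkQ J
  have hN : ∀ a ∈ 𝔪, ∀ n : N, a • n = 0 := by
    rintro a ha ⟨_, b, hb, rfl⟩
    apply Subtype.ext
    show a • J'.mkQ b = 0
    rw [← map_smul, Submodule.mkQ_apply, Submodule.Quotient.mk_eq_zero]
    exact hmJ (Ideal.mul_mem_mul ha hb)
  have hinjN : Injective (φ.lTensor N) := lTensor_injective_of_torsion 𝔪 φ hφ N hN
  have hflat : Injective (N.subtype.rTensor M) :=
    Module.Flat.rTensor_preserves_injective_linearMap _ N.subtype_injective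
  have hlift : ∀ y ∈ (J • ⊤ : Submodule A M),
      ∃ ξ : N ⊗[A] M, N.subtype.rTensor M ξ = (1 : A ⧸ J') ⊗ₜ[A] y := by
    intro y hy
    refine Submodule.smul_induction_on hy ?_ ?_
    · intro a ha m _
      refine ⟨(⟨J'.mkQ a, a, ha, rfl⟩ : N) ⊗ₜ[A] m, ?_⟩
      rw [LinearMap.rTensor_tmul]
      show (J'.mkQ a) ⊗ₜ[A] m = _
      rw [tmul_smul, smul_tmul']
      congr 1
      rw [Submodule.mkQ_apply]
      show Submodule.Quotient.mk a = a • (Submodule.Quotient.mk (1 : A) : A ⧸ J')
      rw [← Submodule.Quotient.mk_smul, smul_eq_mul, mul_one]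
    · rintro y z ⟨ξ, hξ⟩ ⟨ζ, hζ⟩
      exact ⟨ξ + ζ, by rw [map_add, hξ, hζ, tmul_add]⟩
  obtain ⟨ξ, hξ⟩ := hlift x hx
  have h1 : (1 : A ⧸ J') ⊗ₜ[A] φ x = 0 := by
    have : φ x ∈ LinearMap.ker (TensorProduct.mk A (A ⧸ J') M 1) := by
      rw [LinearMap.ker_tensorProductMk]; exact hφx
    exact this
  have h2 : φ.lTensor N ξ = 0 := by
    apply hflat
    rw [map_zero, ← LinearMap.comp_apply, LinearMap.rTensor_comp_lTensor,
      ← LinearMap.lTensor_comp_rTensor, LinearMap.comp_apply, hξ, LinearMap.lTensor_tmul, h1]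
  have h3 : ξ = 0 := hinjN (by rw [h2, map_zero])
  rw [h3, map_zero] at hξ
  have : x ∈ LinearMap.ker (TensorProduct.mk A (A ⧸ J') M 1) := hξ.symm
  rwa [LinearMap.ker_tensorProductMk] at this

/-- Krull separation: `⋂ₙ (𝔪ⁿ + I) M = I M`. -/
theorem mem_smul_top_of_forall_mem {A B : Type u} [CommRing A] [CommRing B]
    [IsNoetherianRing B] [Algebra A B]
    {M : Type u} [AddCommGroup M] [Module B M] [Module A M] [IsScalarTower A B M]
    [Module.Finite B M] (𝔪 : Ideal A) (h𝔪 : 𝔪.map (algebraMap A B) ≤ Ideal.jacobson ⊥)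
    (I : Ideal A) (x : M)
    (hx : ∀ n : ℕ, x ∈ ((𝔪 ^ n ⊔ I) • ⊤ : Submodule A M)) : x ∈ (I • ⊤ : Submodule A M) := by
  rw [← mem_map_smul_top_iff (S := B)]
  set IB : Submodule B M := I.map (algebraMap A B) • ⊤ with hIB
  have key : ∀ n : ℕ, ∀ y ∈ ((𝔪 ^ n ⊔ I) • ⊤ : Submodule A M),
      IB.mkQ y ∈ ((𝔪.map (algebraMap A B)) ^ n • ⊤ : Submodule B (M ⧸ IB)) := by
    intro n y hy
    refine Submodule.smul_induction_on hy ?_ ?_
    · intro a ha m _
      obtain ⟨b, hb, c, hc, rfl⟩ := Submodule.mem_sup.mp ha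
      rw [add_smul, map_add]
      have h1 : IB.mkQ (c • m) = 0 := by
        rw [Submodule.mkQ_apply, Submodule.Quotient.mk_eq_zero, hIB, ← algebraMap_smul B c m]
        exact Submodule.smul_mem_smul (Ideal.mem_map_of_mem _ hc) Submodule.mem_top
      rw [h1, add_zero, ← algebraMap_smul B b m, map_smul]
      refine Submodule.smul_mem_smul ?_ Submodule.mem_top
      rw [← Ideal.map_pow]
      exact Ideal.mem_map_of_mem _ hb
    · intro y z hy hz
      rw [map_add]
      exact Submodule.add_mem _ hy hz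
  have hbot := Ideal.iInf_pow_smul_eq_bot_of_le_jacobson (M := M ⧸ IB) _ h𝔪
  have hmem : IB.mkQ x ∈ (⨅ i : ℕ, (𝔪.map (algebraMap A B)) ^ i • ⊤ : Submodule B (M ⧸ IB)) := by
    rw [Submodule.mem_iInf]
    intro n
    exact key n x (hx n)
  rw [hbot, Submodule.mem_bot, Submodule.mkQ_apply, Submodule.Quotient.mk_eq_zero] at hmem
  exact hmem

/-- Lemma Z. -/
theorem mem_smul_top_of_smul_mem {A B : Type u} [CommRing A] [CommRing B] [IsLocalRing A]
    [IsLocalRing B] [IsNoetherianRing B] [Algebra A B] [IsLocalHom (algebraMap A B)]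
    {M : Type u} [AddCommGroup M] [Module B M] [Module A M] [IsScalarTower A B M]
    [Module.Finite B M] [Module.Flat A M] (f : B)
    (hf : IsSMulRegular
      (M ⧸ ((IsLocalRing.maximalIdeal A).map (algebraMap A B) • ⊤ : Submodule B M)) f)
    (I : Ideal A) (x : M) (hx : f • x ∈ (I • ⊤ : Submodule A M)) :
    x ∈ (I • ⊤ : Submodule A M) := by
  set 𝔪 := IsLocalRing.maximalIdeal A with h𝔪
  let φ : M →ₗ[A] M := (LinearMap.lsmul B M f).restrictScalars A
  have hφ : Injective (φ.lTensor (A ⧸ 𝔪)) := by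
    rw [lTensor_quotient_injective_iff]
    intro y hy
    rw [isSMulRegular_quotient_iff_mem_of_smul_mem] at hf
    rw [← mem_map_smul_top_iff (S := B)] at hy ⊢
    exact hf y hy
  have h𝔪B : 𝔪.map (algebraMap A B) ≤ Ideal.jacobson ⊥ := by
    rw [IsLocalRing.jacobson_eq_maximalIdeal ⊥ bot_ne_top]
    exact IsLocalRing.map_maximalIdeal_le (algebraMap A B)
  apply mem_smul_top_of_forall_mem (B := B) 𝔪 h𝔪B I x
  intro n
  induction n with
  | zero =>
    rw [pow_zero, Ideal.one_eq_top, top_sup_eq, Submodule.top_smul]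
    exact Submodule.mem_top
  | succ n ih =>
    refine mem_smul_of_map_mem 𝔪 φ hφ (𝔪 ^ n ⊔ I) (𝔪 ^ (n + 1) ⊔ I) ?_ x ih ?_
    · rw [Ideal.mul_sup, pow_succ']
      exact sup_le_sup le_rfl Ideal.mul_le_right
    · exact Submodule.smul_mono_left le_sup_right hx

/-- Lemma (b). -/
theorem isSMulRegular_and_flat {A B : Type u} [CommRing A] [CommRing B] [IsLocalRing A]
    [IsLocalRing B] [IsNoetherianRing B] [Algebra A B] [IsLocalHom (algebraMap A B)]
    {M : Type u} [AddCommGroup M] [Module B M] [Module A M] [IsScalarTower A B M]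
    [Module.Finite B M] [Module.Flat A M] (f : B)
    (hf : IsSMulRegular
      (M ⧸ ((IsLocalRing.maximalIdeal A).map (algebraMap A B) • ⊤ : Submodule B M)) f) :
    IsSMulRegular M f ∧ Module.Flat A (QuotSMulTop f M) := by
  have hZ := fun I x hx => mem_smul_top_of_smul_mem (A := A) f hf I x hx
  have hreg : IsSMulRegular M f := by
    intro x y hxy
    have h1 : f • (x - y) ∈ ((⊥ : Ideal A) • ⊤ : Submodule A M) := by
      rw [smul_sub, sub_eq_zero.mpr hxy]; exact zero_mem _
    have h2 := hZ ⊥ (x - y) h1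
    rw [Submodule.bot_smul, Submodule.mem_bot, sub_eq_zero] at h2
    exact h2
  refine ⟨hreg, ?_⟩
  apply flat_of_forall_tor1Zero
  intro I _
  let u : M →ₗ[A] M := (LinearMap.lsmul B M f).restrictScalars A
  let π : M →ₗ[A] QuotSMulTop f M := ((f • (⊤ : Submodule B M)).mkQ).restrictScalars A
  have hπ : Surjective π := Submodule.mkQ_surjective (f • (⊤ : Submodule B M))
  have hex : Exact u π := by
    intro y
    show (f • (⊤ : Submodule B M)).mkQ y = 0 ↔ _
    rw [Submodule.mkQ_apply, Submodule.Quotient.mk_eq_zero, Submodule.mem_smul_pointwise_iff_exists]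
    constructor
    · rintro ⟨z, -, rfl⟩
      exact ⟨z, rfl⟩
    · rintro ⟨z, rfl⟩
      exact ⟨z, Submodule.mem_top, rfl⟩
  rw [tor1Zero_iff_lTensor_injective (i := u) (p := π) hreg hex hπ, lTensor_quotient_injective_iff]
  exact fun x hx => hZ I x hx

theorem flat_quot_bot_iff {A B : Type u} [CommRing A] [CommRing B] [Algebra A B]
    {M : Type u} [AddCommGroup M] [Module B M] [Module A M] [IsScalarTower A B M] :
    Module.Flat A (M ⧸ (Ideal.ofList ([] : List B) • (⊤ : Submodule B M))) ↔ Module.Flat A M := by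
  have h0 : (Ideal.ofList ([] : List B) • ⊤ : Submodule B M) = ⊥ := by
    rw [Ideal.ofList_nil, Submodule.bot_smul]
  constructor
  · intro h
    exact Module.Flat.of_linearEquiv ((Submodule.quotEquivOfEqBot _ h0).restrictScalars A).symm
  · intro h
    exact Module.Flat.of_linearEquiv ((Submodule.quotEquivOfEqBot _ h0).restrictScalars A)

theorem main {A B : Type u} [CommRing A] [CommRing B] [IsLocalRing A]
    [IsLocalRing B] [IsNoetherianRing B] [Algebra A B] [IsLocalHom (algebraMap A B)]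
    (fs : List B) :
    ∀ (M : Type u) [AddCommGroup M] [Module B M] [Module A M] [IsScalarTower A B M]
      [Module.Finite B M] [Module.Flat A M],
      IsWeaklyRegular
        (M ⧸ ((IsLocalRing.maximalIdeal A).map (algebraMap A B) • (⊤ : Submodule B M))) fs →
      IsWeaklyRegular M fs ∧
        ∀ i ≤ fs.length, Module.Flat A (M ⧸ (Ideal.ofList (fs.take i) • (⊤ : Submodule B M))) := by
  induction fs with
  | nil =>
    intro M _ _ _ _ _ hM _
    refine ⟨IsWeaklyRegular.nil _ _, fun i _ => ?_⟩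
    rw [List.take_nil]
    exact flat_quot_bot_iff.mpr hM
  | cons f fs ih =>
    intro M _ _ _ _ _ hM hreg
    rw [isWeaklyRegular_cons_iff] at hreg
    obtain ⟨hf, hM'⟩ := isSMulRegular_and_flat (A := A) f hreg.1
    have hreg' : IsWeaklyRegular (QuotSMulTop f M ⧸
        ((IsLocalRing.maximalIdeal A).map (algebraMap A B) • ⊤ : Submodule B (QuotSMulTop f M)))
        fs := ((quotSMulTopQuotEquiv f _ M).isWeaklyRegular_congr fs).mp hreg.2
    obtain ⟨h1, h2⟩ := ih (QuotSMulTop f M) hreg'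
    refine ⟨(isWeaklyRegular_cons_iff M f fs).mpr ⟨hf, h1⟩, ?_⟩
    intro i hi
    cases i with
    | zero =>
      rw [List.take_zero]
      exact flat_quot_bot_iff.mpr hM
    | succ j =>
      rw [List.take_succ_cons]
      have := h2 j (by simpa using hi)
      exact Module.Flat.of_linearEquiv
        ((Submodule.quotOfListConsSMulTopEquivQuotSMulTopInner M f (fs.take j)).restrictScalars A)


/-- Let A → B be a local homomorphism of Noetherian local rings, m the maximal ideal of A and k = A/m, M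
a finitely generated B-module which is flat over A, and f_1, ..., f_n elements of B whose images g_i
in B ⊗_A k form an (M ⊗_A k)-regular sequence. Then (f_i) is an M-regular sequence and the quotients
M/(f_1 M + ... + f_i M), 0 ≤ i ≤ n, are flat over A. (The f_i are not required to lie in the maximal
ideal of B.) -/
theorem result (A B : Type u) [CommRing A] [CommRing B]
    [IsLocalRing A] [IsLocalRing B] [IsNoetherianRing A] [IsNoetherianRing B] [Algebra A B]
    [IsLocalHom (algebraMap A B)] (M : Type u) [AddCommGroup M] [Module B M] [Module A M]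
    [IsScalarTower A B M] [Module.Finite B M] [Module.Flat A M] (fs : List B)
    (hreg : RingTheory.Sequence.IsWeaklyRegular
      (M ⧸ ((IsLocalRing.maximalIdeal A).map (algebraMap A B) • (⊤ : Submodule B M))) fs) :
    RingTheory.Sequence.IsWeaklyRegular M fs ∧
      ∀ i ≤ fs.length, Module.Flat A (M ⧸ (Ideal.ofList (fs.take i) • (⊤ : Submodule B M))) := by
  exact main fs M hreg

end Groth.Agent.S5774
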