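import Groth.Statements.S5775
import Groth.Agent.S5774
import Groth.Agent.Lib.ArtinianFlatten88

set_option autoImplicit false
universe u
open EGA41

namespace Groth.Agent.S5775

open TensorProduct Function Groth.Agent.Lib.FlatCrit Groth.Agent.Lib.ArtinSocle88
open Groth.Agent.Lib.ArtinianFlatten88
open scoped Pointwise
open RingTheory.Sequence

set_option linter.unusedVariables false


/-- Let A → B be a local homomorphism of Noetherian local rings, m the maximal ideal of A, M a finitely
generated B-module flat over A and R a B-submodule of M such that M/R is flat over A. Let f_1, ...,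
f_n be elements of the maximal ideal of B such that (i) f_i M ⊆ R for all i, (ii) the images of the
f_i form an (M/mM)-regular sequence, and (iii) the submodule f_1 (M/mM) + ... + f_n (M/mM) is the
image of R in M/mM. Then (f_i) is an M-regular sequence and R = f_1 M + ... + f_n M. -/
theorem result (A B : Type u) [CommRing A] [CommRing B] [IsLocalRing A]
    [IsLocalRing B] [IsNoetherianRing A] [IsNoetherianRing B] [Algebra A B] [IsLocalHom (algebraMap A B)]
    (M : Type u) [AddCommGroup M] [Module B M] [Module A M] [IsScalarTower A B M] [Module.Finite B M]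
    [Module.Flat A M] (R : Submodule B M) (hR : Module.Flat A (M ⧸ R)) (fs : List B)
    (hfs : ∀ f ∈ fs, f ∈ IsLocalRing.maximalIdeal B) (h1 : Ideal.ofList fs • (⊤ : Submodule B M) ≤ R)
    (h2 : RingTheory.Sequence.IsWeaklyRegular
      (M ⧸ ((IsLocalRing.maximalIdeal A).map (algebraMap A B) • (⊤ : Submodule B M))) fs)
    (h3 : Ideal.ofList fs • (⊤ : Submodule B
        (M ⧸ ((IsLocalRing.maximalIdeal A).map (algebraMap A B) • (⊤ : Submodule B M)))) =
      R.map ((IsLocalRing.maximalIdeal A).map (algebraMap A B) • (⊤ : Submodule B M)).mkQ) :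
    RingTheory.Sequence.IsWeaklyRegular M fs ∧ R = Ideal.ofList fs • (⊤ : Submodule B M) := by
  obtain ⟨hw, -⟩ := Groth.Agent.S5774.main (A := A) fs M h2
  refine ⟨hw, le_antisymm ?_ h1⟩
  set 𝔪 := IsLocalRing.maximalIdeal A with h𝔪
  set 𝔪B := 𝔪.map (algebraMap A B) with h𝔪B
  set R0 : Submodule B M := Ideal.ofList fs • ⊤ with hR0
  have hjac : 𝔪B ≤ Ideal.jacobson ⊥ := by
    rw [IsLocalRing.jacobson_eq_maximalIdeal ⊥ bot_ne_top]
    exact IsLocalRing.map_maximalIdeal_le (algebraMap A B)
  have hs1 : R ≤ R0 ⊔ (𝔪B • ⊤ : Submodule B M) := by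
    intro r hr
    have hmem : (𝔪B • ⊤ : Submodule B M).mkQ r ∈ R.map (𝔪B • ⊤ : Submodule B M).mkQ :=
      Submodule.mem_map_of_mem hr
    rw [← h3] at hmem
    have hmap : (Ideal.ofList fs • ⊤ : Submodule B (M ⧸ (𝔪B • ⊤ : Submodule B M))) =
        R0.map (𝔪B • ⊤ : Submodule B M).mkQ := by
      rw [hR0, Submodule.map_smul'', Submodule.map_top, Submodule.range_mkQ]
    rw [hmap] at hmem
    obtain ⟨r0, hr0, h⟩ := hmem
    have hsub : r - r0 ∈ (𝔪B • ⊤ : Submodule B M) := by
      rw [← Submodule.Quotient.mk_eq_zero, Submodule.Quotient.mk_sub, sub_eq_zero]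
      exact h.symm
    rw [show r = r0 + (r - r0) by abel]
    exact Submodule.add_mem_sup hr0 hsub
  have hs2 : R ⊓ (𝔪B • ⊤ : Submodule B M) ≤ 𝔪B • R := by
    rintro y ⟨hy1, hy2⟩
    let g : M →ₗ[A] (M ⧸ R) := R.mkQ.restrictScalars A
    have hg : Surjective g := R.mkQ_surjective
    have hker : ∀ z, z ∈ LinearMap.ker g ↔ z ∈ R := by
      intro z
      rw [LinearMap.mem_ker]
      show R.mkQ z = 0 ↔ _
      rw [Submodule.mkQ_apply, Submodule.Quotient.mk_eq_zero]
    have hy := ker_inf_smul_le g hg 𝔪 ⟨(hker y).mpr hy1, (mem_map_smul_top_iff 𝔪 y).mp hy2⟩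
    refine Submodule.smul_induction_on hy ?_ ?_
    · intro a ha r hr
      rw [← algebraMap_smul B a r]
      exact Submodule.smul_mem_smul (Ideal.mem_map_of_mem _ ha) ((hker r).mp hr)
    · intro _ _ h h'
      exact add_mem h h'
  have hs3 : R ≤ R0 ⊔ 𝔪B • R := by
    intro r hr
    obtain ⟨r0, hr0, z, hz, rfl⟩ := Submodule.mem_sup.mp (hs1 hr)
    have hzR : z ∈ R := by
      have := R.sub_mem hr (h1 hr0)
      simpa using this
    exact Submodule.add_mem_sup hr0 (hs2 ⟨hzR, hz⟩)
  exact Submodule.le_of_le_smul_of_le_jacobson_bot (IsNoetherian.noetherian R) hjac hs3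

end Groth.Agent.S5775
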