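import Groth.Statements.S5776

set_option autoImplicit false
universe u
open EGA41

namespace Groth.Agent.S5776

open Function RingTheory.Sequence
open scoped Pointwise

/-- Extension lemma: weakly regular sequences on the outer terms of a short exact sequence are
weakly regular on the middle term. -/
theorem isWeaklyRegular_of_exact {A : Type u} [CommRing A] (rs : List A) :
    ∀ (M' M M'' : Type u) [AddCommGroup M'] [Module A M'] [AddCommGroup M] [Module A M]
      [AddCommGroup M''] [Module A M''] (f : M' →ₗ[A] M) (g : M →ₗ[A] M''),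
      Injective f → Exact f g → Surjective g →
      IsWeaklyRegular M' rs → IsWeaklyRegular M'' rs → IsWeaklyRegular M rs := by
  induction rs with
  | nil =>
    intro M' M M'' _ _ _ _ _ _ f g _ _ _ _ _
    exact IsWeaklyRegular.nil _ _
  | cons r rs ih =>
    intro M' M M'' _ _ _ _ _ _ f g hf hfg hg h' h''
    rw [isWeaklyRegular_cons_iff] at h' h'' ⊢
    refine ⟨isSMulRegular_of_range_eq_ker hf (LinearMap.exact_iff.mp hfg).symm h'.1 h''.1, ?_⟩
    refine ih (QuotSMulTop r M') (QuotSMulTop r M) (QuotSMulTop r M'') (QuotSMulTop.map r f)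
      (QuotSMulTop.map r g) ?_ (QuotSMulTop.map_exact r hfg hg) (QuotSMulTop.map_surjective r hg)
      h'.2 h''.2
    have h0 : Exact (0 : PUnit.{u+1} →ₗ[A] M') f := (LinearMap.exact_zero_iff_injective _ f).mpr hf
    have h1 := QuotSMulTop.map_first_exact_on_four_term_exact_of_isSMulRegular_last h0 hfg h''.1
    rw [map_zero] at h1
    exact (LinearMap.exact_zero_iff_injective _ _).mp h1

theorem isWeaklyRegular_mul_cons {A : Type u} [CommRing A] {M : Type u} [AddCommGroup M]
    [Module A M] (b c : A) (rs : List A)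
    (hb : IsWeaklyRegular M (b :: rs)) (hc : IsWeaklyRegular M (c :: rs)) :
    IsWeaklyRegular M (b * c :: rs) := by
  rw [isWeaklyRegular_cons_iff] at hb hc ⊢
  refine ⟨hb.1.mul hc.1, ?_⟩
  have hle1 : (c • ⊤ : Submodule A M) ≤
      Submodule.comap (LinearMap.lsmul A M b) ((b * c) • ⊤ : Submodule A M) := by
    intro x hx
    obtain ⟨y, -, rfl⟩ := (Submodule.mem_smul_pointwise_iff_exists _ _ _).mp hx
    rw [Submodule.mem_comap, LinearMap.lsmul_apply, smul_smul]
    exact Submodule.smul_mem_pointwise_smul y _ _ Submodule.mem_top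
  have hle2 : ((b * c) • ⊤ : Submodule A M) ≤
      Submodule.comap (LinearMap.id : M →ₗ[A] M) (b • ⊤ : Submodule A M) := by
    intro x hx
    obtain ⟨y, -, rfl⟩ := (Submodule.mem_smul_pointwise_iff_exists _ _ _).mp hx
    rw [Submodule.mem_comap, LinearMap.id_apply, mul_smul]
    exact Submodule.smul_mem_pointwise_smul (c • y) _ _ Submodule.mem_top
  let j : QuotSMulTop c M →ₗ[A] QuotSMulTop (b * c) M :=
    Submodule.mapQ _ _ (LinearMap.lsmul A M b) hle1
  let p : QuotSMulTop (b * c) M →ₗ[A] QuotSMulTop b M :=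
    Submodule.mapQ _ _ LinearMap.id hle2
  refine isWeaklyRegular_of_exact rs (QuotSMulTop c M) (QuotSMulTop (b * c) M) (QuotSMulTop b M)
    j p ?_ ?_ ?_ hc.2 hb.2
  · rw [injective_iff_map_eq_zero]
    intro x hx
    obtain ⟨x, rfl⟩ := Submodule.mkQ_surjective _ x
    rw [Submodule.mkQ_apply] at hx ⊢
    have h1 : b • x ∈ ((b * c) • ⊤ : Submodule A M) := by
      rw [← Submodule.Quotient.mk_eq_zero]
      exact hx
    obtain ⟨y, -, hy⟩ := (Submodule.mem_smul_pointwise_iff_exists _ _ _).mp h1
    rw [mul_smul] at hy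
    have h2 : c • y = x := hb.1 hy
    rw [Submodule.Quotient.mk_eq_zero, ← h2]
    exact Submodule.smul_mem_pointwise_smul y _ _ Submodule.mem_top
  · intro x
    obtain ⟨x, rfl⟩ := Submodule.mkQ_surjective _ x
    constructor
    · intro hx
      have h1 : x ∈ (b • ⊤ : Submodule A M) := by
        rw [← Submodule.Quotient.mk_eq_zero]
        exact hx
      obtain ⟨y, -, rfl⟩ := (Submodule.mem_smul_pointwise_iff_exists _ _ _).mp h1
      exact ⟨Submodule.Quotient.mk y, rfl⟩
    · rintro ⟨y, hy⟩
      obtain ⟨y, rfl⟩ := Submodule.mkQ_surjective _ y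
      rw [← hy]
      show (Submodule.Quotient.mk (b • y) : QuotSMulTop b M) = 0
      rw [Submodule.Quotient.mk_eq_zero]
      exact Submodule.smul_mem_pointwise_smul y _ _ Submodule.mem_top
  · intro x
    obtain ⟨x, rfl⟩ := Submodule.mkQ_surjective _ x
    exact ⟨Submodule.Quotient.mk x, rfl⟩

theorem isWeaklyRegular_pow_cons {A : Type u} [CommRing A] {M : Type u} [AddCommGroup M]
    [Module A M] (b : A) (rs : List A) (hb : IsWeaklyRegular M (b :: rs)) :
    ∀ v : ℕ, 1 ≤ v → IsWeaklyRegular M (b ^ v :: rs) := by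
  intro v hv
  induction v, hv using Nat.le_induction with
  | base => rwa [pow_one]
  | succ v _ ih =>
    rw [pow_succ]
    exact isWeaklyRegular_mul_cons _ _ rs ih hb

theorem main {A : Type u} [CommRing A] :
    ∀ (n : ℕ) (f : Fin n → A) (v : Fin n → ℕ) (_ : ∀ i, 1 ≤ v i)
      (M : Type u) [AddCommGroup M] [Module A M],
      IsWeaklyRegular M (List.ofFn f) → IsWeaklyRegular M (List.ofFn fun i => f i ^ v i) := by
  intro n
  induction n with
  | zero =>
    intro f v _ M _ _ _
    simp
  | succ n ih =>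
    intro f v hv M _ _ h
    rw [List.ofFn_succ] at h ⊢
    have h1 := isWeaklyRegular_pow_cons (f 0) _ h (v 0) (hv 0)
    rw [isWeaklyRegular_cons_iff] at h1 ⊢
    exact ⟨h1.1, ih (fun i => f i.succ) (fun i => v i.succ) (fun i => hv i.succ) _ h1.2⟩


/-- Let A be a ring, M an A-module and (f_i)_{1 ≤ i ≤ n} an M-regular sequence of elements of A. Then
for any exponents v_i ≥ 1 the sequence (f_i ^ v_i) is again M-regular. -/
theorem result (A : Type u) [CommRing A] (M : Type u) [AddCommGroup M]
    [Module A M] (n : ℕ) (f : Fin n → A) (v : Fin n → ℕ) (hv : ∀ i, 1 ≤ v i)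
    (hf : RingTheory.Sequence.IsWeaklyRegular M (List.ofFn f)) :
    RingTheory.Sequence.IsWeaklyRegular M (List.ofFn fun i => f i ^ v i) := by
  exact main n f v hv M hf

end Groth.Agent.S5776
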