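import Groth.Statements.S5778
import Groth.Agent.Lib.QuasiReg97
import Groth.Agent.S5803
import Groth.Agent.S8163
import Groth.Agent.Lib.DepthBasic
-- import your own Groth.Agent.* helpers here

set_option autoImplicit false
universe u
open EGA41

namespace Groth.Agent.S5778

open MvPolynomial Groth.Agent.Lib.QuasiReg97

variable {A : Type*} [CommRing A] {r : ℕ}

/-- the set of exponents of degree `n`. -/
noncomputable def Mon (r n : ℕ) : Finset (Fin r →₀ ℕ) := (Finset.univ : Finset (Fin r)).finsuppAntidiag n

theorem mem_Mon {n : ℕ} {e : Fin r →₀ ℕ} : e ∈ Mon r n ↔ e.degree = n := by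
  unfold Mon
  rw [Finset.mem_finsuppAntidiag, Finsupp.degree_eq_sum]
  simp

theorem card_Mon (n : ℕ) : (Mon r n).card = (r + n - 1).choose n := by
  unfold Mon
  rw [Finset.card_finsuppAntidiag_nat_eq_choose]
  simp

/-- value of a monomial. -/
noncomputable def xmon (x : Fin r → A) (e : Fin r →₀ ℕ) : A := ∏ i, x i ^ e i

theorem xmon_mem (x : Fin r → A) {n : ℕ} {e : Fin r →₀ ℕ} (he : e.degree = n) :
    xmon x e ∈ Ideal.span (Set.range x) ^ n := by
  have h1 : ∏ i, x i ^ e i ∈ ∏ i : Fin r, Ideal.span (Set.range x) ^ e i :=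
    Ideal.prod_mem_prod fun i _ => Ideal.pow_mem_pow (Ideal.subset_span (Set.mem_range_self i)) _
  rw [Finset.prod_pow_eq_pow_sum, ← Finsupp.degree_eq_sum, he] at h1
  exact h1

theorem eval_eq_sum_Mon (x : Fin r → A) {n : ℕ} {P : MvPolynomial (Fin r) A}
    (hP : P.IsHomogeneous n) : eval x P = ∑ e ∈ Mon r n, coeff e P * xmon x e := by
  rw [eval_eq']
  apply Finset.sum_subset
  · intro e he
    rw [mem_Mon]
    rw [mem_support_iff] at he
    by_contra hne
    exact he (hP.coeff_eq_zero hne)
  · intro e _ he
    rw [notMem_support_iff] at he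
    rw [he, zero_mul]


theorem ker_eq_bot_of_length {M N : Type*} [AddCommGroup M] [Module A M] [AddCommGroup N]
    [Module A N] (f : M →ₗ[A] N) (K : Submodule A N) (hK : K ≤ LinearMap.range f) (c : ℕ)
    (hM : Module.length A M = c) (hKc : Module.length A K = c) : LinearMap.ker f = ⊥ := by
  have h1 := Module.length_eq_add_of_exact (LinearMap.ker f).subtype f.rangeRestrict
    (Submodule.subtype_injective _) f.surjective_rangeRestrict (by
      rw [LinearMap.exact_iff]
      ext m
      simp [LinearMap.mem_ker])
  have h2 : (c : ℕ∞) ≤ Module.length A (LinearMap.range f) := by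
    rw [← hKc]
    exact Module.length_le_of_injective (Submodule.inclusion hK) (Submodule.inclusion_injective hK)
  rw [hM] at h1
  have h3 : Module.length A (LinearMap.ker f) = 0 := by
    have h4 : Module.length A (LinearMap.range f) ≠ ⊤ := by
      intro h5
      rw [h5, add_top] at h1
      exact ENat.natCast_ne_top c h1
    have h6 : Module.length A (LinearMap.ker f) ≠ ⊤ := by
      intro h5
      rw [h5, top_add] at h1
      exact ENat.natCast_ne_top c h1
    lift Module.length A (LinearMap.range f) to ℕ using h4 with b hb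
    lift Module.length A (LinearMap.ker f) to ℕ using h6 with a ha
    norm_cast at h1 h2 ⊢
    omega
  rw [Module.length_eq_zero_iff] at h3
  exact (Submodule.subsingleton_iff_eq_bot).1 h3


section Count
open IsLocalRing
variable [IsLocalRing A] (x : Fin r → A) (hx : Ideal.span (Set.range x) = maximalIdeal A)

/-- the evaluation map on coefficient vectors -/
noncomputable def Phi0 (n : ℕ) : (↥(Mon r n) → A) →ₗ[A] (A ⧸ (maximalIdeal A) ^ (n + 1)) :=
  (Submodule.mkQ ((maximalIdeal A) ^ (n + 1))) ∘ₗ
    Fintype.linearCombination A (fun e : ↥(Mon r n) => xmon x e.1)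

include hx in
theorem pi_le_ker_Phi0 (n : ℕ) :
    Submodule.pi Set.univ (fun _ : ↥(Mon r n) => (maximalIdeal A : Submodule A A)) ≤
      LinearMap.ker (Phi0 x n) := by
  intro c hc
  rw [LinearMap.mem_ker, Phi0, LinearMap.comp_apply, Submodule.mkQ_apply,
    Submodule.Quotient.mk_eq_zero, Fintype.linearCombination_apply]
  refine Submodule.sum_mem _ fun e _ => ?_
  rw [pow_succ', smul_eq_mul]
  refine Ideal.mul_mem_mul (hc e (Set.mem_univ _)) ?_
  rw [← hx]
  exact xmon_mem x (mem_Mon.1 e.2)

/-- the induced map on the quotient -/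
noncomputable def PhiBar (n : ℕ) :
    ((↥(Mon r n) → A) ⧸ Submodule.pi Set.univ
      (fun _ : ↥(Mon r n) => (maximalIdeal A : Submodule A A))) →ₗ[A]
      (A ⧸ (maximalIdeal A) ^ (n + 1)) :=
  Submodule.liftQ _ (Phi0 x n) (pi_le_ker_Phi0 x hx n)

theorem length_source' {κ : Type*} [Fintype κ] :
    Module.length A ((κ → A) ⧸ Submodule.pi Set.univ
      (fun _ : κ => (maximalIdeal A : Submodule A A))) = (Fintype.card κ : ℕ∞) := by
  classical
  have e := (Submodule.quotientPi (fun _ : κ => (maximalIdeal A : Submodule A A)))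
  have h1 := e.length_eq
  rw [h1]
  have h2 : Module.length A (κ → A ⧸ (maximalIdeal A : Submodule A A)) =
      ENat.card κ * Module.length A (A ⧸ (maximalIdeal A : Submodule A A)) := Module.length_pi
  rw [h2]
  have : IsSimpleModule A (A ⧸ maximalIdeal A) := by
    rw [isSimpleModule_iff_quot_maximal]
    exact ⟨_, maximalIdeal.isMaximal A, ⟨LinearEquiv.refl _ _⟩⟩
  rw [Module.length_eq_one_iff.2 this, mul_one]
  simp

theorem length_source (n : ℕ) :
    Module.length A ((↥(Mon r n) → A) ⧸ Submodule.pi Set.univ
      (fun _ : ↥(Mon r n) => (maximalIdeal A : Submodule A A))) = ((Mon r n).card : ℕ∞) := by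
  rw [length_source', Fintype.card_coe]

theorem Phi0_apply (n : ℕ) (c : ↥(Mon r n) → A) :
    Phi0 x n c = Submodule.Quotient.mk (∑ e : ↥(Mon r n), c e * xmon x e.1) := by
  rw [Phi0, LinearMap.comp_apply, Fintype.linearCombination_apply, Submodule.mkQ_apply]
  rfl

include hx in
theorem map_pow_le_range (n : ℕ) :
    Submodule.map (Submodule.mkQ ((maximalIdeal A) ^ (n + 1))) ((maximalIdeal A) ^ n) ≤
      LinearMap.range (PhiBar x hx n) := by
  rintro _ ⟨a, ha, rfl⟩
  rw [SetLike.mem_coe, ← hx] at ha
  obtain ⟨P, hP, rfl⟩ := (Ideal.mem_span_pow_iff_exists_isHomogeneous x a).1 ha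
  refine ⟨Submodule.Quotient.mk (fun e => coeff e.1 P), ?_⟩
  have h1 : PhiBar x hx n (Submodule.Quotient.mk (fun e => coeff e.1 P)) =
      Phi0 x n (fun e => coeff e.1 P) := Submodule.liftQ_apply _ _ _
  rw [h1, Phi0_apply, Submodule.mkQ_apply, eval_eq_sum_Mon x hP]
  congr 1
  exact Finset.sum_coe_sort (Mon r n) (fun e => coeff e P * xmon x e)

theorem length_graded (H : ∀ s : ℕ, Module.length A (A ⧸ (maximalIdeal A) ^ (s + 1)) =
      ((s + r).choose s : ℕ∞)) (n : ℕ) :
    Module.length A ↥(Submodule.map (Submodule.mkQ ((maximalIdeal A) ^ (n + 1)))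
      ((maximalIdeal A) ^ n)) = ((Mon r n).card : ℕ∞) := by
  have hle : (maximalIdeal A) ^ (n + 1) ≤ (maximalIdeal A) ^ n :=
    Ideal.pow_le_pow_right (Nat.le_succ n)
  set N := Submodule.map (Submodule.mkQ ((maximalIdeal A) ^ (n + 1))) ((maximalIdeal A) ^ n)
    with hN
  have h1 := Module.length_eq_add_of_exact N.subtype N.mkQ (Submodule.subtype_injective _)
    (Submodule.mkQ_surjective _) (LinearMap.exact_subtype_mkQ N)
  have h2 : Module.length A ((A ⧸ (maximalIdeal A) ^ (n + 1)) ⧸ N) =
      Module.length A (A ⧸ (maximalIdeal A) ^ n) :=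
    (Submodule.quotientQuotientEquivQuotient _ _ hle).length_eq
  rw [h2, H n] at h1
  rw [card_Mon]
  cases n with
  | zero =>
    have h3 : Module.length A (A ⧸ (maximalIdeal A) ^ 0) = 0 := by
      rw [pow_zero, Ideal.one_eq_top]
      have : Subsingleton (A ⧸ (⊤ : Ideal A)) := Ideal.Quotient.subsingleton_iff.2 rfl
      exact Module.length_eq_zero
    rw [h3, add_zero] at h1
    rw [← h1]
    simp
  | succ m =>
    rw [H m] at h1
    have h4 : Module.length A N ≠ ⊤ := by
      intro h5
      rw [h5, top_add] at h1
      exact ENat.natCast_ne_top _ h1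
    lift Module.length A N to ℕ using h4 with a ha
    norm_cast at h1 ⊢
    have h6 : (m + 1 + r).choose (m + 1) = (m + r).choose m + (m + r).choose (m + 1) := by
      have : m + 1 + r = (m + r) + 1 := by ring
      rw [this, Nat.choose_succ_succ]
    have h7 : r + (m + 1) - 1 = m + r := by omega
    rw [h7]
    omega

include hx in
theorem qrn_of_length (H : ∀ s : ℕ, Module.length A (A ⧸ (maximalIdeal A) ^ (s + 1)) =
      ((s + r).choose s : ℕ∞)) : ∀ n, QRn x n := by
  intro n P hP hev
  have hker := ker_eq_bot_of_length (PhiBar x hx n) _ (map_pow_le_range x hx n) (Mon r n).card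
    (length_source n) (length_graded H n)
  have h1 : PhiBar x hx n (Submodule.Quotient.mk (fun e => coeff e.1 P)) = 0 := by
    have h2 : PhiBar x hx n (Submodule.Quotient.mk (fun e => coeff e.1 P)) =
      Phi0 x n (fun e => coeff e.1 P) := Submodule.liftQ_apply _ _ _
    rw [h2, Phi0_apply, Submodule.Quotient.mk_eq_zero]
    have h3 : ∑ e : ↥(Mon r n), coeff e.1 P * xmon x e.1 = eval x P := by
      rw [eval_eq_sum_Mon x hP]
      exact Finset.sum_coe_sort (Mon r n) (fun e => coeff e P * xmon x e)
    rw [h3, ← hx]
    exact hev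
  have h4 : (Submodule.Quotient.mk (fun e : ↥(Mon r n) => coeff e.1 P) :
      (↥(Mon r n) → A) ⧸ Submodule.pi Set.univ
        (fun _ : ↥(Mon r n) => (maximalIdeal A : Submodule A A))) = 0 := by
    have : Submodule.Quotient.mk (fun e : ↥(Mon r n) => coeff e.1 P) ∈
        LinearMap.ker (PhiBar x hx n) := h1
    rw [hker] at this
    exact this
  rw [Submodule.Quotient.mk_eq_zero] at h4
  rw [mem_map_C_iff]
  intro d
  rw [hx]
  by_cases hd : d ∈ Mon r n
  · exact h4 ⟨d, hd⟩ (Set.mem_univ _)
  · rw [mem_Mon] at hd
    rw [hP.coeff_eq_zero hd]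
    exact Ideal.zero_mem _

end Count


/-- Let A be a Noetherian local ring with maximal ideal m, residue field k, and let r be the dimension
of the k-vector space m/m². Then A is regular if and only if the canonical surjection of graded
k-algebras from the symmetric algebra of m/m² onto the associated graded ring of A for the m-adic
filtration is bijective. Since that surjection is bijective exactly when source and target have the
same length in every degree, the condition is expressed here as: length_A(A/m^(s+1)) equals the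
binomial coefficient C(s+r, r) for every s ≥ 0. -/
theorem result (A : Type u) [CommRing A] [IsLocalRing A]
    [IsNoetherianRing A] :
    IsRegularLocalRing A ↔
      ∀ s : ℕ, Module.length A (A ⧸ IsLocalRing.maximalIdeal A ^ (s + 1)) =
        ((s + Module.finrank (IsLocalRing.ResidueField A) (IsLocalRing.CotangentSpace A)).choose s : ℕ∞) := by
  constructor
  · intro hreg s
    have hd : ringKrullDim A = (Module.finrank (IsLocalRing.ResidueField A)
        (IsLocalRing.CotangentSpace A) : ℕ) :=
      ((IsRegularLocalRing.iff_finrank_cotangentSpace A).1 hreg).symm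
    have h1 := Groth.Agent.S8163.result A _ hd (s + 1) (by omega)
    rw [h1]
    congr 1
    have : s + 1 + Module.finrank (IsLocalRing.ResidueField A) (IsLocalRing.CotangentSpace A) - 1 =
        s + Module.finrank (IsLocalRing.ResidueField A) (IsLocalRing.CotangentSpace A) := by omega
    rw [this, add_comm, Nat.choose_symm_add, add_comm]
  · intro H
    set r := Module.finrank (IsLocalRing.ResidueField A) (IsLocalRing.CotangentSpace A) with hr
    have hsf : (IsLocalRing.maximalIdeal A).spanFinrank = r :=
      IsLocalRing.spanFinrank_maximalIdeal_eq_finrank_cotangentSpace A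
    have hfg : (IsLocalRing.maximalIdeal A).FG := Ideal.fg_of_isNoetherianRing _
    obtain ⟨t, ht1, ht2⟩ := Submodule.FG.exists_span_finset_card_eq_spanFinrank hfg
    have hcard : t.card = r := by rw [ht1, hsf]
    let x : Fin r → A := fun j => ((t.equivFinOfCardEq hcard).symm j : A)
    have hrange : Set.range x = (t : Set A) := by
      ext a
      constructor
      · rintro ⟨j, rfl⟩
        exact ((t.equivFinOfCardEq hcard).symm j).2
      · intro ha
        refine ⟨t.equivFinOfCardEq hcard ⟨a, ha⟩, ?_⟩
        simp [x]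
    have hx : Ideal.span (Set.range x) = IsLocalRing.maximalIdeal A := by
      rw [hrange]
      exact ht2
    have hq := qrn_of_length x hx H
    have hjac : ∀ i, x i ∈ Ring.jacobson A := by
      intro i
      rw [IsLocalRing.ringJacobson_eq_maximalIdeal, ← hx]
      exact Ideal.subset_span (Set.mem_range_self i)
    have hwr := Groth.Agent.S5803.main_aux r A x hjac hq
    obtain ⟨p, hp⟩ := associatedPrimes.nonempty A A
    have h1 := Groth.Agent.Lib.DepthBasic.length_le_ringKrullDim_quotient (List.ofFn x) hp hwr (by
      intro a ha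
      rw [List.mem_ofFn] at ha
      obtain ⟨i, rfl⟩ := ha
      rw [← hx]
      exact Ideal.subset_span (Set.mem_range_self i))
    rw [List.length_ofFn] at h1
    apply IsRegularLocalRing.of_spanFinrank_maximalIdeal_le
    rw [hsf]
    exact h1.trans (ringKrullDim_quotient_le p)

end Groth.Agent.S5778
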