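import Groth.Statements.S5780
import Mathlib.RingTheory.Ideal.AssociatedPrime.Finiteness
import Mathlib.RingTheory.Nakayama

set_option autoImplicit false
universe u
open EGA41

namespace Groth.Agent.S5780

open IsLocalRing

/-- Let A be a Noetherian local ring with maximal ideal m. If every element of m which is not in m² is a
zero divisor in A, then there is a nonzero c in A with c m = 0, i.e. m is an associated prime of A. -/
theorem result (A : Type u) [CommRing A]
    [IsLocalRing A] [IsNoetherianRing A]
    (h : ∀ a ∈ IsLocalRing.maximalIdeal A, a ∉ IsLocalRing.maximalIdeal A ^ 2 → ¬ IsSMulRegular A a) :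
    IsLocalRing.maximalIdeal A ∈ associatedPrimes A A := by
  classical
  have hfin : (associatedPrimes A A).Finite := associatedPrimes.finite A A
  have hfin' : (insert (maximalIdeal A ^ 2) (associatedPrimes A A)).Finite := hfin.insert _
  have hcover : (maximalIdeal A : Set A) ⊆
      ⋃ i ∈ insert (maximalIdeal A ^ 2) (associatedPrimes A A), ((id i : Ideal A) : Set A) := by
    intro a ha
    by_cases ha2 : a ∈ maximalIdeal A ^ 2
    · exact Set.mem_biUnion (Set.mem_insert _ _) ha2
    · have hnr := h a ha ha2
      have hz : a ∈ (nonZeroDivisors A : Set A)ᶜ := by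
        intro hnzd
        apply hnr
        intro x y hxy
        have h0 : a * (x - y) = 0 := by
          rw [mul_sub, sub_eq_zero]; exact hxy
        have := (mem_nonZeroDivisors_iff.mp hnzd).1 _ h0
        exact sub_eq_zero.mp this
      rw [← biUnion_associatedPrimes_eq_compl_nonZeroDivisors] at hz
      obtain ⟨p, hp, hap⟩ := Set.mem_iUnion₂.mp hz
      exact Set.mem_biUnion (Set.mem_insert_of_mem _ hp) hap
  obtain ⟨i, hi, hle⟩ := (Ideal.subset_union_prime_finite hfin' (f := id)
    (maximalIdeal A ^ 2) (maximalIdeal A ^ 2) (fun i hi hne _ ↦ by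
      rcases hi with rfl | hi
      · exact absurd rfl hne
      · exact hi.isPrime)).mp hcover
  rcases hi with rfl | hi
  · -- m ≤ m^2, so m = ⊥ by Nakayama
    have hbot : maximalIdeal A = ⊥ := by
      apply Submodule.eq_bot_of_le_smul_of_le_jacobson_bot (maximalIdeal A) (maximalIdeal A)
        (IsNoetherian.noetherian _)
      · simpa [pow_two] using hle
      · exact IsLocalRing.maximalIdeal_le_jacobson ⊥
    rw [hbot]
    have hprime : (⊥ : Ideal A).IsPrime := hbot ▸ (inferInstance : (maximalIdeal A).IsPrime)
    refine ⟨hprime, 1, ?_⟩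
    have : (⊥ : Submodule A A).colon {(1 : A)} = ⊥ := by
      ext r
      simp [Submodule.mem_colon_singleton]
    rw [this]
    exact hprime.isRadical.radical.symm
  · have hprime : i.IsPrime := hi.isPrime
    have : maximalIdeal A = i :=
      (IsLocalRing.maximalIdeal.isMaximal A).eq_of_le hprime.ne_top hle
    rw [this]
    exact hi

end Groth.Agent.S5780
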