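import Groth.Statements.S5781
import Mathlib

set_option autoImplicit false
universe u
open EGA41

namespace Groth.Agent.S5781

open Pointwise

/-- Suppose A is a Noetherian local ring whose maximal ideal is m, and take a ∈ m with a ∉ m². Then the
quotient m/am contains a direct summand isomorphic to m/Aa: concretely, one can find A-linear maps f
: m/Aa → m/am and g : m/am → m/Aa such that g ∘ f is the identity. -/
theorem result (A : Type u) [CommRing A] [IsLocalRing A]
    [IsNoetherianRing A] (a : A) (ha : a ∈ IsLocalRing.maximalIdeal A) (ha2 : a ∉ IsLocalRing.maximalIdeal A ^ 2) :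
    ∃ (f : (↥(IsLocalRing.maximalIdeal A) ⧸ Submodule.span A {(⟨a, ha⟩ : ↥(IsLocalRing.maximalIdeal A))}) →ₗ[A]
          QuotSMulTop a ↥(IsLocalRing.maximalIdeal A))
      (g : QuotSMulTop a ↥(IsLocalRing.maximalIdeal A) →ₗ[A]
          (↥(IsLocalRing.maximalIdeal A) ⧸ Submodule.span A {(⟨a, ha⟩ : ↥(IsLocalRing.maximalIdeal A))})),
      g.comp f = LinearMap.id := by
  classical
  set m := IsLocalRing.maximalIdeal A with hm
  let k := IsLocalRing.ResidueField A
  -- the class of `a` in the cotangent space is nonzero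
  have habar : (m.toCotangent ⟨a, ha⟩ : IsLocalRing.CotangentSpace A) ≠ 0 := by
    intro h
    exact ha2 ((Ideal.toCotangent_eq_zero m ⟨a, ha⟩).mp h)
  obtain ⟨lam, hlam⟩ := Module.Projective.exists_dual_eq_one k habar
  -- `lam` as an `A`-linear map on `m`
  let lamA : ↥m →ₗ[A] k := (lam.restrictScalars A) ∘ₗ m.toCotangent
  have hlamA : lamA ⟨a, ha⟩ = 1 := hlam
  -- the map `k → m/am`, `c ↦ c a`
  let a' : QuotSMulTop a ↥m := Submodule.Quotient.mk ⟨a, ha⟩
  have hker : m ≤ LinearMap.ker (LinearMap.toSpanSingleton A (QuotSMulTop a ↥m) a') := by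
    intro c hc
    rw [LinearMap.mem_ker, LinearMap.toSpanSingleton_apply]
    change c • (Submodule.Quotient.mk (⟨a, ha⟩ : ↥m) : QuotSMulTop a ↥m) = 0
    rw [← Submodule.Quotient.mk_smul, Submodule.Quotient.mk_eq_zero]
    have : c • (⟨a, ha⟩ : ↥m) = a • (⟨c, hc⟩ : ↥m) := by
      ext
      simp [mul_comm]
    rw [this]
    exact Submodule.smul_mem_pointwise_smul _ a ⊤ Submodule.mem_top
  let s : k →ₗ[A] QuotSMulTop a ↥m :=
    Submodule.liftQ m (LinearMap.toSpanSingleton A (QuotSMulTop a ↥m) a') hker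
  have hs1 : s 1 = a' := by
    have h1 : (1 : k) = Submodule.Quotient.mk (1 : A) := rfl
    rw [h1]
    have h2 : s (Submodule.Quotient.mk (1 : A)) =
        LinearMap.toSpanSingleton A (QuotSMulTop a ↥m) a' 1 := rfl
    rw [h2, LinearMap.toSpanSingleton_apply, one_smul]
  -- the projection
  let P : ↥m →ₗ[A] QuotSMulTop a ↥m := Submodule.mkQ _ - s ∘ₗ lamA
  have hPa : P ⟨a, ha⟩ = 0 := by
    simp only [P, LinearMap.sub_apply, LinearMap.comp_apply, hlamA, hs1]
    exact sub_self _
  let f : (↥m ⧸ Submodule.span A {(⟨a, ha⟩ : ↥m)}) →ₗ[A] QuotSMulTop a ↥m :=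
    Submodule.liftQ _ P (by
      rw [Submodule.span_le]
      intro x hx
      rw [Set.mem_singleton_iff] at hx
      rw [hx]
      exact hPa)
  have hle : (a • (⊤ : Submodule A ↥m)) ≤ Submodule.span A {(⟨a, ha⟩ : ↥m)} := by
    intro x hx
    obtain ⟨y, _, rfl⟩ := hx
    have : (DistribSMul.toLinearMap A ↥m a) y = (y : A) • (⟨a, ha⟩ : ↥m) := by
      ext
      simp [mul_comm]
    rw [this]
    exact Submodule.smul_mem _ _ (Submodule.mem_span_singleton_self _)
  let g : QuotSMulTop a ↥m →ₗ[A] (↥m ⧸ Submodule.span A {(⟨a, ha⟩ : ↥m)}) :=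
    Submodule.liftQ _ (Submodule.mkQ _) (by
      rw [Submodule.ker_mkQ]
      exact hle)
  have hgs : ∀ c : k, g (s c) = 0 := by
    intro c
    obtain ⟨c, rfl⟩ := Submodule.Quotient.mk_surjective _ c
    have : s (Submodule.Quotient.mk c) = c • a' := rfl
    rw [this, map_smul]
    have : g a' = 0 := by
      change g (Submodule.Quotient.mk ⟨a, ha⟩) = 0
      simp only [g, Submodule.liftQ_apply, Submodule.mkQ_apply, Submodule.Quotient.mk_eq_zero]
      exact Submodule.mem_span_singleton_self _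
    rw [this, smul_zero]
  refine ⟨f, g, ?_⟩
  ext x
  simp only [LinearMap.comp_apply, Submodule.mkQ_apply, LinearMap.id_apply, f,
    Submodule.liftQ_apply, P, LinearMap.sub_apply, map_sub, hgs, sub_zero]
  simp [g]

end Groth.Agent.S5781
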