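import Groth.Statements.S5782
import Groth.Agent.Lib.H87Serre

set_option autoImplicit false
universe u
open CategoryTheory
open EGA41

namespace Groth.Agent.S5782

lemma le_of_forall_nat_lt {x y : WithBot ℕ∞} (hy : y ≠ ⊤)
    (h : ∀ n : ℕ, y < n → x < n) : x ≤ y := by
  induction y with
  | bot =>
    have := h 0 (by simp)
    have h0 : x < 0 := by exact_mod_cast this
    rw [WithBot.lt_zero_iff_eq_bot] at h0
    rw [h0]
  | coe y =>
    induction y with
    | top => exact absurd rfl hy
    | coe m =>
      have h1 := h (m + 1) (by exact_mod_cast Nat.lt_succ_self m)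
      have h2 : x < ((m : ℕ∞) : WithBot ℕ∞) + 1 := by exact_mod_cast h1
      exact (ENat.WithBot.lt_add_one_iff).mp h2

/-- Let A be a Noetherian local ring with maximal ideal m, E a finitely generated A-module of finite
projective dimension, and a ∈ m an element which is A-regular and E-regular. Then E/aE, as a module
over A/aA, has finite projective dimension at most the projective dimension of E over A. -/
theorem result (A : Type u) [CommRing A] [IsLocalRing A]
    [IsNoetherianRing A] (E : Type u) [AddCommGroup E] [Module A E] [Module.Finite A E]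
    (hfin : projectiveDimension (ModuleCat.of A E) ≠ ⊤) (a : A) (ha : a ∈ IsLocalRing.maximalIdeal A)
    (hA : IsSMulRegular A a) (hE : IsSMulRegular E a) :
    projectiveDimension (ModuleCat.of (A ⧸ Ideal.span {a}) (E ⧸ (Ideal.span {a} • (⊤ : Submodule A E)))) ≤
      projectiveDimension (ModuleCat.of A E) := by
  have hsurj : Function.Surjective (algebraMap A (A ⧸ Ideal.span {a})) :=
    Ideal.Quotient.mk_surjective
  let e₀ : QuotSMulTop a E ≃ₗ[A] (E ⧸ (Ideal.span {a} • (⊤ : Submodule A E))) :=
    Submodule.quotEquivOfEq _ _ (Submodule.ideal_span_singleton_smul a ⊤).symm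
  let e : QuotSMulTop a E ≃ₗ[A ⧸ Ideal.span {a}] (E ⧸ (Ideal.span {a} • (⊤ : Submodule A E))) :=
    e₀.extendScalarsOfSurjective hsurj
  refine le_of_forall_nat_lt hfin ?_
  intro n hn
  rw [projectiveDimension_lt_iff] at hn ⊢
  obtain _ | n := n
  · rw [hasProjectiveDimensionLT_zero_iff_isZero] at hn ⊢
    have : Subsingleton E := ModuleCat.subsingleton_of_isZero hn
    have : Subsingleton (E ⧸ (Ideal.span {a} • (⊤ : Submodule A E))) :=
      Function.Surjective.subsingleton (Submodule.Quotient.mk_surjective _)
    exact ModuleCat.isZero_of_subsingleton _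
  · have h1 := Groth.Agent.Lib.H87Serre.hasProjectiveDimensionLT_quotSMulTop a hA n
      (ModuleCat.of A E) hE hn
    exact hasProjectiveDimensionLT_of_iso e.toModuleIso (n + 1)

end Groth.Agent.S5782
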