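import Groth.Statements.S5783
import Groth.Agent.Lib.H87AB
import Groth.Agent.Lib.H8DepthBC2
import Groth.Agent.Lib.CMFlat33
import Groth.Agent.Lib.FTDim
import Groth.Agent.Lib.H8CM6

set_option autoImplicit false
universe u
open EGA41

namespace Groth.Agent.S5783

open Groth.Agent.Lib IsLocalRing

/-- A Noetherian local ring of dimension zero is Cohen–Macaulay. -/
theorem isCM_of_dim_zero (C : Type u) [CommRing C] [IsLocalRing C] [IsNoetherianRing C]
    (h : ringKrullDim C = 0) : LocCoh.IsCohenMacaulayLocalRing C := by
  refine ⟨?_⟩
  have h1 := DepthRees.depth_le_supportDim (R := C) C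
  rw [Module.supportDim_self_eq_ringKrullDim, h] at h1 ⊢
  have h2 : LocCoh.depth C C = 0 := by
    have : ((LocCoh.depth C C : ℕ∞) : WithBot ℕ∞) ≤ ((0 : ℕ∞) : WithBot ℕ∞) := h1
    exact nonpos_iff_eq_zero.mp (WithBot.coe_le_coe.mp this)
  rw [h2]
  rfl

/-- Let A be a regular local ring, B a local ring and ρ : A → B a local homomorphism making B a finitely
generated A-module. Then B is a free A-module if and only if B is a Cohen-Macaulay ring and ρ is
injective (the latter being equivalent to dim(B) = dim(A)). -/
theorem result (A B : Type u) [CommRing A] [CommRing B]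
    [IsRegularLocalRing A] [IsLocalRing B] [Algebra A B] [IsLocalHom (algebraMap A B)] [Module.Finite A B] :
    Module.Free A B ↔ LocCoh.IsCohenMacaulayLocalRing B ∧ Function.Injective (algebraMap A B) := by
  have hNB : IsNoetherianRing B := Algebra.FiniteType.isNoetherianRing A B
  constructor
  · intro hfree
    have hff : Module.FaithfullyFlat A B := Module.FaithfullyFlat.of_flat_of_isLocalHom
    have hinj : Function.Injective (algebraMap A B) := FaithfulSMul.algebraMap_injective A B
    refine ⟨?_, hinj⟩
    have hflat : (algebraMap A B).Flat := RingHom.flat_algebraMap_iff.mpr inferInstance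
    rw [CMFlat33.isCohenMacaulayLocalRing_iff (algebraMap A B) hflat]
    refine ⟨H8CM.isCMLocalRing_of_isRegularLocalRing, ?_⟩
    have hlq : IsLocalRing (B ⧸ Ideal.map (algebraMap A B) (maximalIdeal A)) :=
      CMFlat33.isLocalRing_quotient_map (algebraMap A B)
    apply isCM_of_dim_zero
    let _ : Field (A ⧸ maximalIdeal A) := Ideal.Quotient.field _
    have hfin : Module.Finite (A ⧸ maximalIdeal A)
        (B ⧸ Ideal.map (algebraMap A B) (maximalIdeal A)) :=
      Module.Finite.of_restrictScalars_finite A _ _
    have hint : Algebra.IsIntegral (A ⧸ maximalIdeal A)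
        (B ⧸ Ideal.map (algebraMap A B) (maximalIdeal A)) := inferInstance
    rw [← FTDim.ringKrullDim_eq_of_isIntegral_of_injective (R := A ⧸ maximalIdeal A)
      (RingHom.injective _)]
    exact ringKrullDim_eq_zero_of_field _
  · rintro ⟨hCM, hinj⟩
    apply H87AB.free_of_isRegularLocalRing_of_depth_eq
    have hint : Algebra.IsIntegral A B := inferInstance
    rw [FTDim.ringKrullDim_eq_of_isIntegral_of_injective hinj,
      H8DepthBC.depth_eq_depth_of_isLocalHom (A := A) (B := B) B]
    have := hCM.supportDim_eq_depth
    rw [Module.supportDim_self_eq_ringKrullDim] at this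
    exact this.symm

end Groth.Agent.S5783
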