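import Groth.Statements.S5785
import Groth.Agent.Lib.H56FlatLocal
import Groth.Agent.Lib.H87Serre2
import Groth.Agent.Lib.AdicNoeth
import Mathlib.RingTheory.AdicCompletion.AsTensorProduct
import Mathlib.RingTheory.AdicCompletion.LocalRing

set_option autoImplicit false
universe u
open EGA41

namespace Groth.Agent.S5785

/-- Let A be a regular ring and J an ideal of A. Then the separated completion of A for the J-adic
topology is a regular ring. -/
theorem result (A : Type u) [CommRing A] [IsRegularRing A] (J : Ideal A) :
    IsRegularRing (AdicCompletion J A) := by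
  have hN : IsNoetherianRing (AdicCompletion J A) :=
    Groth.Agent.Lib.AdicNoeth.isNoetherianRing_adicCompletion J
  have hJfg : J.FG := IsNoetherian.noetherian J
  have hc : IsAdicComplete (J.map (algebraMap A (AdicCompletion J A))) (AdicCompletion J A) :=
    AdicCompletion.isAdicComplete_self J hJfg
  have hker := AdicCompletion.ker_evalOneₐ_eq_map J hJfg
  apply Groth.Agent.Lib.H87Serre2.isRegularRing_of_maximal
  intro M hM
  -- `J Â ≤ M`
  have hJM : J.map (algebraMap A (AdicCompletion J A)) ≤ M :=
    (IsAdicComplete.le_jacobson_bot _).trans (sInf_le ⟨bot_le, hM⟩)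
  -- every element of `Â` is congruent to an element of `A` modulo `J Â`
  have hdecomp : ∀ x : AdicCompletion J A, ∃ a : A,
      x - algebraMap A (AdicCompletion J A) a ∈ J.map (algebraMap A (AdicCompletion J A)) := by
    intro x
    obtain ⟨a, ha⟩ := Ideal.Quotient.mk_surjective (AdicCompletion.evalOneₐ J x)
    refine ⟨a, ?_⟩
    rw [← hker, RingHom.mem_ker, map_sub]
    change (AdicCompletion.evalOneₐ J) x -
      (AdicCompletion.evalOneₐ J) (algebraMap A (AdicCompletion J A) a) = 0
    rw [← ha, AlgHom.commutes, Ideal.Quotient.algebraMap_eq, sub_self]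
  have hprime : M.IsPrime := hM.isPrime
  -- the contraction `m` of `M` is maximal
  have hsurj : Function.Surjective
      ((Ideal.Quotient.mk M).comp (algebraMap A (AdicCompletion J A))) := by
    intro y
    obtain ⟨x, rfl⟩ := Ideal.Quotient.mk_surjective y
    obtain ⟨a, ha⟩ := hdecomp x
    refine ⟨a, ?_⟩
    rw [RingHom.comp_apply, eq_comm, Ideal.Quotient.eq]
    exact hJM ha
  have hmmax : (M.under A).IsMaximal := by
    have h1 : (⊥ : Ideal (AdicCompletion J A ⧸ M)).comap
        ((Ideal.Quotient.mk M).comp (algebraMap A (AdicCompletion J A))) = M.under A := by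
      rw [← Ideal.comap_comap, ← RingHom.ker_eq_comap_bot, Ideal.mk_ker]
    rw [← h1]
    have : (⊥ : Ideal (AdicCompletion J A ⧸ M)).IsMaximal :=
      (Ideal.bot_quotient_isMaximal_iff M).mpr hM
    exact Ideal.comap_isMaximal_of_surjective _ hsurj
  have hJm : J ≤ M.under A := by
    intro j hj
    exact hJM (Ideal.mem_map_of_mem _ hj)
  have hmap : (M.under A).map (algebraMap A (AdicCompletion J A)) = M := by
    refine le_antisymm Ideal.map_comap_le ?_
    intro x hx
    obtain ⟨a, ha⟩ := hdecomp x
    have ha' : a ∈ M.under A := by
      rw [Ideal.under, Ideal.mem_comap]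
      have := M.sub_mem hx (hJM ha)
      simpa using this
    have h2 : x = (x - algebraMap A (AdicCompletion J A) a) +
        algebraMap A (AdicCompletion J A) a := by ring
    rw [h2]
    exact Ideal.add_mem _ (Ideal.map_mono hJm ha) (Ideal.mem_map_of_mem _ ha')
  have hover : M.LiesOver (M.under A) := ⟨rfl⟩
  have hmprime : (M.under A).IsPrime := hmmax.isPrime
  let : Algebra (Localization.AtPrime (M.under A)) (Localization.AtPrime M) :=
    Localization.AtPrime.algebraOfLiesOver (M.under A) M
  have hloc : IsLocalHom (algebraMap (Localization.AtPrime (M.under A))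
      (Localization.AtPrime M)) :=
    Localization.isLocalHom_localRingHom _ _ _ Ideal.LiesOver.over
  have hmax : (IsLocalRing.maximalIdeal (Localization.AtPrime (M.under A))).map
      (algebraMap (Localization.AtPrime (M.under A)) (Localization.AtPrime M)) =
      IsLocalRing.maximalIdeal (Localization.AtPrime M) := by
    rw [← Localization.AtPrime.map_eq_maximalIdeal, ← Localization.AtPrime.map_eq_maximalIdeal,
      Ideal.map_map, ← IsScalarTower.algebraMap_eq,
      IsScalarTower.algebraMap_eq A (AdicCompletion J A) (Localization.AtPrime M),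
      ← Ideal.map_map, hmap]
  exact Groth.Agent.Lib.H56FlatLocal.isRegularLocalRing_of_flat_of_map_maximalIdeal hmax

end Groth.Agent.S5785
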