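import Groth.Statements.S5784
import Groth.Agent.S5785
import Groth.Agent.Lib.SmoothRegular
import Mathlib.RingTheory.MvPowerSeries.Equiv

set_option autoImplicit false
universe u
open EGA41

namespace Groth.Agent.S5784

/-- If A is a regular ring, then the formal power series ring A[[T_1, ..., T_n]] is regular, for every
n. -/
theorem result (A : Type u) [CommRing A] [IsRegularRing A] (n : ℕ) :
    IsRegularRing (MvPowerSeries (Fin n) A) := by
  have h0 : Algebra.Smooth A (MvPolynomial (Fin n) A) := {}
  have h1 : IsRegularRing (MvPolynomial (Fin n) A) :=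
    Groth.Agent.Lib.SmoothRegular.isRegularRing_of_smooth A (MvPolynomial (Fin n) A)
  have h2 : IsRegularRing (AdicCompletion (MvPolynomial.idealOfVars (Fin n) A)
      (MvPolynomial (Fin n) A)) :=
    Groth.Agent.S5785.result (MvPolynomial (Fin n) A) (MvPolynomial.idealOfVars (Fin n) A)
  exact IsRegularRing.of_ringEquiv
    (MvPowerSeries.toAdicCompletionAlgEquiv (Fin n) A).symm.toRingEquiv

end Groth.Agent.S5784
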