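import Groth.Statements.S5787
import Mathlib.RingTheory.Depth.Rees
import Mathlib.RingTheory.Regular.Category
import Mathlib.Algebra.Category.ModuleCat.Ext.Basic

set_option autoImplicit false
universe u
open CategoryTheory
open EGA41

namespace Groth.Agent.S5787

open CategoryTheory Abelian RingTheory.Sequence in
/-- elements annihilating `N` act as zero on `Ext N M n` by postcomposition -/
theorem comp_smul_id_eq_zero {A : Type u} [CommRing A] {N M : ModuleCat.{u} A} {r : A}
    (hr : r ∈ Module.annihilator A N) (n : ℕ) (h : Ext N M n) :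
    h.comp (Ext.mk₀ (r • 𝟙 M)) (add_zero n) = 0 := by
  have := Ext.postcomp_smul_id_eq_zero_of_mem_annihilator (M := M) (N := N) hr n
  have h2 := ConcreteCategory.congr_hom this h
  exact h2

open CategoryTheory Abelian RingTheory.Sequence in
/-- the main induction -/
theorem main (A : Type u) [CommRing A] [IsLocalRing A] :
    ∀ (xs : List A) (M : Type u) [AddCommGroup M] [Module A M],
      (∀ x ∈ xs, x ∈ IsLocalRing.maximalIdeal A) → IsWeaklyRegular M xs →
      (∀ i < xs.length, Subsingleton
        (Ext (ModuleCat.of A (IsLocalRing.ResidueField A)) (ModuleCat.of A M) i)) ∧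
      Nonempty ((IsLocalRing.ResidueField A →ₗ[A] (M ⧸ (Ideal.ofList xs • (⊤ : Submodule A M)))) ≃+
        Ext (ModuleCat.of A (IsLocalRing.ResidueField A)) (ModuleCat.of A M) xs.length)
  | [], M, _, _, _, _ => by
    refine ⟨fun i hi => absurd hi (Nat.not_lt_zero i), ?_⟩
    have e0 : (M ⧸ (Ideal.ofList ([] : List A) • (⊤ : Submodule A M))) ≃ₗ[A] M :=
      Submodule.quotEquivOfEqBot _ (by rw [Ideal.ofList_nil, Submodule.bot_smul])
    have e1 : (IsLocalRing.ResidueField A →ₗ[A] (M ⧸ (Ideal.ofList ([] : List A) •
        (⊤ : Submodule A M)))) ≃+ (IsLocalRing.ResidueField A →ₗ[A] M) :=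
      (LinearEquiv.arrowCongr (LinearEquiv.refl A (IsLocalRing.ResidueField A)) e0).toAddEquiv
    exact ⟨e1.trans ((Ext.addEquiv₀ (X := ModuleCat.of A (IsLocalRing.ResidueField A))
      (Y := ModuleCat.of A M)).trans ModuleCat.homAddEquiv).symm⟩
  | x :: xs', M, _, _, hxs, hreg => by
    rw [isWeaklyRegular_cons_iff] at hreg
    obtain ⟨hx, hreg'⟩ := hreg
    have hxm : x ∈ IsLocalRing.maximalIdeal A := hxs x List.mem_cons_self
    obtain ⟨ihv, ⟨ihe⟩⟩ := main A xs' (QuotSMulTop x M)
      (fun y hy => hxs y (List.mem_cons_of_mem _ hy)) hreg'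
    have hann : x ∈ Module.annihilator A (ModuleCat.of A (IsLocalRing.ResidueField A)) := by
      rw [Module.mem_annihilator]
      intro z
      obtain ⟨a, rfl⟩ := IsLocalRing.residue_surjective z
      change x • IsLocalRing.residue A a = 0
      rw [Algebra.smul_def, IsLocalRing.ResidueField.algebraMap_eq, ← map_mul]
      exact (IsLocalRing.residue_eq_zero_iff _).mpr (Ideal.mul_mem_right _ _ hxm)
    have hS : ((ModuleCat.of A M).smulShortComplex x).ShortExact :=
      IsSMulRegular.smulShortComplex_shortExact (M := ModuleCat.of A M) hx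
    -- vanishing
    have hvan : ∀ i < (x :: xs').length, Subsingleton
        (Ext (ModuleCat.of A (IsLocalRing.ResidueField A)) (ModuleCat.of A M) i) := by
      intro i hi
      cases i with
      | zero =>
        have : Subsingleton (IsLocalRing.ResidueField A →ₗ[A] M) :=
          hx.linearMap_subsingleton_of_mem_annihilator hann
        exact ((Ext.addEquiv₀ (X := ModuleCat.of A (IsLocalRing.ResidueField A))
          (Y := ModuleCat.of A M)).trans ModuleCat.homAddEquiv).subsingleton
      | succ j =>
        have hj : j < xs'.length := by simpa using hi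
        have : Subsingleton (Ext (ModuleCat.of A (IsLocalRing.ResidueField A))
            ((ModuleCat.of A M).smulShortComplex x).X₃ j) := ihv j hj
        refine ⟨fun a b => ?_⟩
        obtain ⟨a', ha'⟩ := Ext.covariant_sequence_exact₁ _ hS a
          (comp_smul_id_eq_zero hann (j + 1) a) rfl
        obtain ⟨b', hb'⟩ := Ext.covariant_sequence_exact₁ _ hS b
          (comp_smul_id_eq_zero hann (j + 1) b) rfl
        rw [← ha', ← hb', Subsingleton.elim a' b']
    refine ⟨hvan, ?_⟩
    -- the connecting homomorphism is bijective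
    let δ : Ext (ModuleCat.of A (IsLocalRing.ResidueField A))
        (ModuleCat.of A (QuotSMulTop x M)) xs'.length →+
        Ext (ModuleCat.of A (IsLocalRing.ResidueField A)) (ModuleCat.of A M) (xs'.length + 1) :=
      hS.extClass.postcomp (ModuleCat.of A (IsLocalRing.ResidueField A)) rfl
    have hδ : Function.Bijective δ := by
      constructor
      · rw [injective_iff_map_eq_zero]
        intro a ha
        obtain ⟨a', ha'⟩ := Ext.covariant_sequence_exact₃ _ hS a rfl ha
        have : Subsingleton (Ext (ModuleCat.of A (IsLocalRing.ResidueField A))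
            ((ModuleCat.of A M).smulShortComplex x).X₂ xs'.length) := hvan xs'.length (by simp)
        rw [← ha', Subsingleton.elim a' 0, Ext.zero_comp]
        rfl
      · intro b
        exact Ext.covariant_sequence_exact₁ _ hS b
          (comp_smul_id_eq_zero hann (xs'.length + 1) b) rfl
    have e1 : (IsLocalRing.ResidueField A →ₗ[A] (M ⧸ (Ideal.ofList (x :: xs') •
        (⊤ : Submodule A M)))) ≃+ (IsLocalRing.ResidueField A →ₗ[A]
          (QuotSMulTop x M ⧸ (Ideal.ofList xs' • (⊤ : Submodule A (QuotSMulTop x M))))) :=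
      (LinearEquiv.arrowCongr (LinearEquiv.refl A (IsLocalRing.ResidueField A))
        (Submodule.quotOfListConsSMulTopEquivQuotSMulTopInner M x xs')).toAddEquiv
    exact ⟨(e1.trans ihe).trans (AddEquiv.ofBijective δ hδ)⟩

/-- Let A be a Noetherian local ring with maximal ideal m and residue field k, M an A-module and
(x_i)_{1 ≤ i ≤ n} an M-regular sequence of elements of m. Then Hom_A(k, M/(x_1 M + ... + x_n M)) and
Ext^n_A(k, M) are isomorphic (existence of an isomorphism; stated for the underlying abelian
groups). -/
theorem result (A : Type u) [CommRing A] [IsLocalRing A]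
    [IsNoetherianRing A] (M : Type u) [AddCommGroup M] [Module A M] (xs : List A)
    (hxs : ∀ x ∈ xs, x ∈ IsLocalRing.maximalIdeal A) (hreg : RingTheory.Sequence.IsWeaklyRegular M xs) :
    Nonempty ((IsLocalRing.ResidueField A →ₗ[A] (M ⧸ (Ideal.ofList xs • (⊤ : Submodule A M)))) ≃+
      Abelian.Ext (ModuleCat.of A (IsLocalRing.ResidueField A)) (ModuleCat.of A M) xs.length) := by
  exact (main A xs M hxs hreg).2

end Groth.Agent.S5787

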