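import Groth.Statements.S5791
import Mathlib

set_option autoImplicit false
universe u
open CategoryTheory
open EGA41

namespace Groth.Agent.S5791

/-- The Mathlib (shrunk) localized module is isomorphic to the plain `LocalizedModule`. -/
noncomputable def locIso (A : Type u) [CommRing A] (M : Type u) [AddCommGroup M] [Module A M]
    (S : Submonoid A) :
    (ModuleCat.of A M).localizedModule S ≅
      ModuleCat.of (Localization S) (LocalizedModule S M) :=
  (Shrink.linearEquiv (Localization S) (LocalizedModule S M)).toModuleIso

/-- Let A be a Noetherian ring and M a finitely generated A-module. The projective dimension of M is the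
supremum over the prime ideals p of the projective dimensions of M_p over A_p; equivalently, for
every n, M has projective dimension at most n if and only if every M_p has projective dimension at
most n over A_p. -/
theorem result (A : Type u) [CommRing A] [IsNoetherianRing A]
    (M : Type u) [AddCommGroup M] [Module A M] [Module.Finite A M] (n : ℕ) :
    HasProjectiveDimensionLT (ModuleCat.of A M) (n + 1) ↔
      ∀ p : PrimeSpectrum A, HasProjectiveDimensionLT
        (ModuleCat.of (Localization.AtPrime p.asIdeal) (LocalizedModule p.asIdeal.primeCompl M)) (n + 1) := by
  have h := ModuleCat.hasProjectiveDimensionLE_iff_forall_primeSpectrum n (ModuleCat.of A M)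
  simp only [HasProjectiveDimensionLE] at h
  rw [h]
  refine forall_congr' fun p => ?_
  constructor
  · intro hp
    exact hasProjectiveDimensionLT_of_iso (locIso A M p.asIdeal.primeCompl) _
  · intro hp
    exact hasProjectiveDimensionLT_of_iso (locIso A M p.asIdeal.primeCompl).symm _

end Groth.Agent.S5791
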