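import Groth.Statements.S5793
import Groth.Agent.Lib.TopKrullDim

set_option autoImplicit false
universe u
open TopDim

namespace Groth.Agent.S5793

open Groth.Agent.Lib.TopKrullDim TopologicalSpace

/-- Let X be a Noetherian Kolmogoroff space. Then dim(X) = sup dim_x(X), the supremum being over the
closed points x of X only. -/
theorem result (X : Type u) [TopologicalSpace X]
    [TopologicalSpace.NoetherianSpace X] [T0Space X] :
    topologicalKrullDim X = ⨆ x ∈ {x : X | IsClosed ({x} : Set X)}, FlatMor.localDim X x := by
  apply le_antisymm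
  · unfold topologicalKrullDim Order.krullDim
    refine iSup_le fun p ↦ ?_
    obtain ⟨x, hx, hxc⟩ := p.head.isClosed.exists_closed_singleton p.head.isIrreducible.nonempty
    refine le_trans ?_ (le_iSup₂ (f := fun x (_ : x ∈ {x : X | IsClosed ({x} : Set X)}) ↦
      FlatMor.localDim X x) x hxc)
    unfold FlatMor.localDim
    refine le_iInf fun U ↦ ?_
    exact length_le_dim_of_head_meets_open p (U.1 : Set X) U.1.isOpen x hx U.2
  · refine iSup₂_le fun x _ ↦ ?_
    unfold FlatMor.localDim
    exact iInf_le_of_le ⟨⊤, trivial⟩ (topologicalKrullDim_subspace_le X _)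

end Groth.Agent.S5793
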