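import Groth.Statements.S5796

set_option autoImplicit false
universe u
open TopDim

namespace Groth.Agent.S5796

open TopologicalSpace

/-- For any topological space X, the function x ↦ dim_x(X) is upper semicontinuous on X. -/
theorem result (X : Type u) [TopologicalSpace X] :
    UpperSemicontinuous fun x : X => FlatMor.localDim X x := by
  intro x y hxy
  unfold FlatMor.localDim at hxy
  rw [iInf_lt_iff] at hxy
  obtain ⟨U, hU⟩ := hxy
  refine Filter.eventually_of_mem (U.1.isOpen.mem_nhds U.2) (fun x' hx' ↦ ?_)
  exact lt_of_le_of_lt (iInf_le _ (⟨U.1, hx'⟩ : {V : Opens X // x' ∈ V})) hU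

end Groth.Agent.S5796
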