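import Groth.Statements.S5798
import Groth.Agent.Lib.TopKrullDim

set_option autoImplicit false
universe u
open TopDim

namespace Groth.Agent.S5798

open Groth.Agent.Lib.TopKrullDim TopologicalSpace

/-- If (U_i) is an open covering of a topological space X, then dim(X) = sup_i dim(U_i). -/
theorem result (X : Type u) [TopologicalSpace X] (ι : Type u)
    (U : ι → TopologicalSpace.Opens X) (hcov : ⨆ i, U i = ⊤) :
    topologicalKrullDim X = ⨆ i, topologicalKrullDim (U i) := by
  apply le_antisymm
  · unfold topologicalKrullDim Order.krullDim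
    refine iSup_le fun p ↦ ?_
    obtain ⟨x, hx⟩ := p.head.isIrreducible.nonempty
    have hxU : x ∈ ⨆ i, U i := by rw [hcov]; trivial
    obtain ⟨i, hi⟩ := Opens.mem_iSup.mp hxU
    refine le_trans ?_ (le_iSup (fun i ↦ Order.krullDim (IrreducibleCloseds (U i))) i)
    exact length_le_dim_of_head_meets_open p (U i : Set X) (U i).isOpen x hx hi
  · refine iSup_le fun i ↦ ?_
    exact topologicalKrullDim_subspace_le X (U i : Set X)

end Groth.Agent.S5798
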