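import Groth.Statements.S5801

set_option autoImplicit false
universe u
open scoped Pointwise
open EGA41

namespace Groth.Agent.S5801

/-- Let A be a ring, M an A-module and f ∈ A, and consider the canonical surjection (M/fM)[T] → gr(M)
for the (f)-adic filtration, whose injectivity says: for all k ≥ 0 and x ∈ M, f^k x ∈ f^(k+1) M
implies x ∈ fM. If f is M-regular this map is bijective; conversely, if it is bijective and M is
separated for the (f)-adic topology (the intersection of the f^k M is zero), then f is M-regular. -/
theorem result (A : Type u) [CommRing A] (M : Type u)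
    [AddCommGroup M] [Module A M] (f : A) :
    (IsSMulRegular M f →
        ∀ (k : ℕ) (x : M), f ^ k • x ∈ f ^ (k + 1) • (⊤ : Submodule A M) → x ∈ f • (⊤ : Submodule A M)) ∧
      ((⨅ k : ℕ, f ^ k • (⊤ : Submodule A M)) = ⊥ →
        (∀ (k : ℕ) (x : M), f ^ k • x ∈ f ^ (k + 1) • (⊤ : Submodule A M) → x ∈ f • (⊤ : Submodule A M)) →
          IsSMulRegular M f) := by
  constructor
  · intro hreg k x hx
    obtain ⟨y, -, hy⟩ := (Submodule.mem_smul_pointwise_iff_exists _ _ _).mp hx
    have hk : IsSMulRegular M (f ^ k) := hreg.pow k
    have : f ^ k • (f • y) = f ^ k • x := by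
      rw [← hy, smul_smul, pow_succ]
    have hxy : f • y = x := hk this
    exact (Submodule.mem_smul_pointwise_iff_exists _ _ _).mpr ⟨y, trivial, hxy⟩
  · intro hsep hcond
    have key : ∀ x : M, f • x = 0 → x = 0 := by
      intro x hx
      have hall : ∀ k : ℕ, x ∈ f ^ k • (⊤ : Submodule A M) := by
        intro k
        induction k with
        | zero => rw [pow_zero, one_smul]; trivial
        | succ k ih =>
          obtain ⟨y, -, hy⟩ := (Submodule.mem_smul_pointwise_iff_exists _ _ _).mp ih
          have h0 : f ^ (k + 1) • y = 0 := by
            rw [pow_succ', mul_smul, hy, hx]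
          have hy' : y ∈ f • (⊤ : Submodule A M) := by
            apply hcond (k + 1) y
            rw [h0]
            exact Submodule.zero_mem _
          obtain ⟨z, -, hz⟩ := (Submodule.mem_smul_pointwise_iff_exists _ _ _).mp hy'
          refine (Submodule.mem_smul_pointwise_iff_exists _ _ _).mpr ⟨z, trivial, ?_⟩
          rw [pow_succ, mul_smul, hz, hy]
      have : x ∈ ⨅ k : ℕ, f ^ k • (⊤ : Submodule A M) := by
        rw [Submodule.mem_iInf]; exact hall
      rw [hsep] at this
      exact this
    intro a b hab
    have : f • (a - b) = 0 := by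
      rw [smul_sub, sub_eq_zero]; exact hab
    exact sub_eq_zero.mp (key _ this)

end Groth.Agent.S5801
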