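import Groth.Statements.S5806
import Mathlib.RingTheory.Flat.Equalizer
import Mathlib.RingTheory.Flat.Stability
-- import your own Groth.Agent.* helpers here

set_option autoImplicit false
universe u
open EGA41

namespace Groth.Agent.S5806

open TensorProduct in
/-- Let A be a ring, B a commutative A-algebra, (f_i)_{1 ≤ i ≤ n} elements of B and M a B-module.
Suppose (f_i) is M-regular and each of the A-modules M/(f_1 M + ... + f_i M), 0 ≤ i ≤ n, is flat.
Then for every ring homomorphism A → A', writing M' = M ⊗_A A' and f'_i = f_i ⊗ 1, the sequence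
(f'_i) is M'-regular and the A'-modules M'/(f'_1 M' + ... + f'_{i-1} M') are flat: concretely,
identifying M'/(f'_1 M' + ... + f'_{i-1} M') with A' ⊗_A (M/(f_1 M + ... + f_{i-1} M)),
multiplication by f_i on the latter is injective and the latter is A'-flat, for 1 ≤ i ≤ n. (The
published hypothesis lists only the flatness of M/(f_1 M + ... + f_{i-1} M) for 1 ≤ i ≤ n, omitting
M/(f_1 M + ... + f_n M); with that omission the case n = 1, A = B = k[t], M = k[t], f_1 = t, A' =
k[t]/(t) fails, since t acts as zero on k ⊗_A M = k, and the published proof uses the flatness of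
M/(f_1 M + ... + f_i M) for every i ≤ n; so flatness of all these quotients is assumed here.) -/
theorem result (A B : Type u) [CommRing A]
    [CommRing B] [Algebra A B] (M : Type u) [AddCommGroup M] [Module B M] [Module A M] [IsScalarTower A B M]
    (fs : List B) (hreg : RingTheory.Sequence.IsWeaklyRegular M fs)
    (hflat : ∀ i : ℕ, i ≤ fs.length → Module.Flat A (M ⧸ (Ideal.ofList (fs.take i) • (⊤ : Submodule B M))))
    (A' : Type u) [CommRing A'] [Algebra A A'] (i : Fin fs.length) :
    Function.Injective (LinearMap.lTensor A'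
        (((LinearMap.lsmul B (M ⧸ (Ideal.ofList (fs.take i) • (⊤ : Submodule B M)))) (fs.get i)).restrictScalars A)) ∧
      Module.Flat A' (A' ⊗[A] (M ⧸ (Ideal.ofList (fs.take i) • (⊤ : Submodule B M)))) := by
  classical
  have hi : (i : ℕ) < fs.length := i.2
  set r : B := fs.get i with hr
  set N₀ : Submodule B M := Ideal.ofList (fs.take i) • (⊤ : Submodule B M) with hN₀
  set N₁ : Submodule B M := Ideal.ofList (fs.take (i + 1)) • (⊤ : Submodule B M) with hN₁
  have hN : N₁ = N₀ ⊔ (Ideal.span {r} • (⊤ : Submodule B M)) := by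
    rw [hN₁, hN₀, List.take_succ_eq_append_getElem hi, Ideal.ofList_append, Ideal.ofList_singleton,
      Submodule.sup_smul]
    rfl
  have hle : N₀ ≤ N₁ := by rw [hN]; exact le_sup_left
  have hflat1 : Module.Flat A (M ⧸ N₁) := hflat (i + 1) hi
  have hflat0 : Module.Flat A (M ⧸ N₀) := hflat i hi.le
  refine ⟨?_, inferInstance⟩
  let g : (M ⧸ N₀) →ₗ[A] (M ⧸ N₀) := ((LinearMap.lsmul B (M ⧸ N₀)) r).restrictScalars A
  let f : (M ⧸ N₀) →ₗ[A] (M ⧸ N₁) := (Submodule.mapQ N₀ N₁ LinearMap.id hle).restrictScalars A
  have hg : Function.Injective g := by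
    have := hreg.regular_mod_prev i hi
    exact this
  have hf : Function.Surjective f := by
    intro y
    obtain ⟨m, rfl⟩ := Submodule.Quotient.mk_surjective _ y
    exact ⟨Submodule.Quotient.mk m, rfl⟩
  have hex : Function.Exact g f := by
    intro y
    obtain ⟨m, rfl⟩ := Submodule.Quotient.mk_surjective _ y
    constructor
    · intro hy
      have hm : m ∈ N₁ := by
        have : (Submodule.Quotient.mk m : M ⧸ N₁) = 0 := hy
        exact (Submodule.Quotient.mk_eq_zero _).mp this
      rw [hN, Submodule.mem_sup] at hm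
      obtain ⟨n, hn, w, hw, rfl⟩ := hm
      rw [Submodule.ideal_span_singleton_smul] at hw
      obtain ⟨m', -, rfl⟩ := (Submodule.mem_smul_pointwise_iff_exists _ _ _).mp hw
      refine ⟨Submodule.Quotient.mk m', ?_⟩
      show r • (Submodule.Quotient.mk m' : M ⧸ N₀) = Submodule.Quotient.mk (n + r • m')
      rw [← Submodule.Quotient.mk_smul, Submodule.Quotient.mk_add,
        (Submodule.Quotient.mk_eq_zero N₀).mpr hn, zero_add]
    · rintro ⟨y', hy'⟩
      obtain ⟨m', rfl⟩ := Submodule.Quotient.mk_surjective _ y'
      rw [← hy']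
      show (Submodule.Quotient.mk (r • m') : M ⧸ N₁) = 0
      rw [Submodule.Quotient.mk_eq_zero, hN]
      refine Submodule.mem_sup_right ?_
      rw [Submodule.ideal_span_singleton_smul]
      exact Submodule.smul_mem_pointwise_smul m' r ⊤ trivial
  exact LinearMap.lTensor_injective_of_exact_of_flat f hf g hg hex A'

end Groth.Agent.S5806
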