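import Groth.Statements.S5807
import Mathlib.RingTheory.RegularLocalRing.Polynomial
import Mathlib.RingTheory.FiniteType
import Mathlib.RingTheory.Ideal.Height

set_option autoImplicit false
universe u
open EGA41

namespace Groth.Agent.S5807

/-- A localization of a regular ring is a regular ring. -/
theorem isRegularRing_localization (P : Type u) [CommRing P] [IsRegularRing P] (T : Submonoid P) :
    IsRegularRing (Localization T) := by
  have : IsNoetherianRing (Localization T) := IsLocalization.isNoetherianRing T _ inferInstance
  rw [isRegularRing_iff]
  intro q hq
  have hp : (q.under P).IsPrime := inferInstance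
  have hloc := IsLocalization.isLocalization_isLocalization_atPrime_isLocalization
    (M := T) (Localization.AtPrime q) q
  have : IsRegularLocalRing (Localization.AtPrime (q.under P)) := inferInstance
  exact IsRegularLocalRing.of_ringEquiv (IsLocalization.algEquiv (q.under P).primeCompl
    (Localization.AtPrime (q.under P)) (Localization.AtPrime q)).toRingEquiv

/-- Let A be a Noetherian ring which is a quotient of a regular ring B, and C an A-algebra of finite
type. Then every ring of fractions of C is a quotient of a regular ring. -/
theorem result (B A C : Type u) [CommRing B]
    [IsRegularRing B] [CommRing A] (π : B →+* A) (hπ : Function.Surjective π) [CommRing C] [Algebra A C]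
    [Algebra.FiniteType A C] (S : Submonoid C) :
    ∃ (R : Type u) (_ : CommRing R) (_ : IsRegularRing R) (f : R →+* Localization S),
      Function.Surjective f := by
  obtain ⟨n, f, hf⟩ := Algebra.FiniteType.iff_quotient_mvPolynomial''.mp
    (inferInstance : Algebra.FiniteType A C)
  let g : MvPolynomial (Fin n) B →+* MvPolynomial (Fin n) A := MvPolynomial.map π
  have hg : Function.Surjective g := MvPolynomial.map_surjective π hπ
  let φ : MvPolynomial (Fin n) B →+* C := (f : MvPolynomial (Fin n) A →+* C).comp g
  have hφ : Function.Surjective φ := hf.comp hg
  let T : Submonoid (MvPolynomial (Fin n) B) := S.comap φ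
  have hTS : T.map φ = S := Submonoid.map_comap_eq_of_surjective hφ S
  let _ : Algebra (MvPolynomial (Fin n) B) C := φ.toAlgebra
  have hloc : IsLocalization (T.map (algebraMap (MvPolynomial (Fin n) B) C)) (Localization S) := by
    have : T.map (algebraMap (MvPolynomial (Fin n) B) C) = S := hTS
    rw [this]
    infer_instance
  refine ⟨Localization T, inferInstance, isRegularRing_localization _ T,
    IsLocalization.map (Localization S) (algebraMap (MvPolynomial (Fin n) B) C)
      T.le_comap_map, ?_⟩
  exact IsLocalization.map_surjective_of_surjective T (Localization T) (Localization S) hφ

end Groth.Agent.S5807
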