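import Groth.Statements.S5813
import Mathlib.Tactic.LinearCombination
import Mathlib.RingTheory.Ideal.Quotient.Operations
-- import your own Groth.Agent.* helpers here

set_option autoImplicit false
universe u
open EGA41

namespace Groth.Agent.S5813


theorem exists_ringEquiv_of_ker_eq {T E E' : Type*} [CommRing T] [CommRing E] [CommRing E']
    (f : T →+* E) (g : T →+* E') (hf : Function.Surjective f) (hg : Function.Surjective g)
    (h : ∀ t, f t = 0 ↔ g t = 0) : ∃ e : E ≃+* E', ∀ t, e (f t) = g t := by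
  have hker : RingHom.ker f = RingHom.ker g := by
    ext t
    exact h t
  refine ⟨(RingHom.quotientKerEquivOfSurjective hf).symm.trans
    ((Ideal.quotEquivOfEq hker).trans (RingHom.quotientKerEquivOfSurjective hg)), fun t => ?_⟩
  have h1 : (RingHom.quotientKerEquivOfSurjective hf).symm (f t) = Ideal.Quotient.mk _ t := by
    rw [RingEquiv.symm_apply_eq]
    rfl
  rw [RingEquiv.trans_apply, h1, RingEquiv.trans_apply, Ideal.quotEquivOfEq_mk]
  rfl

attribute [local instance] Exal.opModule Exal.isCentralScalar_opModule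

section

variable {B : Type u} [CommRing B] (J : Ideal B)
  {M : Type u} [AddCommGroup M] [Module (B ⧸ J) M] [Module B M] [IsScalarTower B (B ⧸ J) M]

theorem incl_smul (X : Exal.Ext B (B ⧸ J) M) (b : B) (m : M) :
    X.incl (b • m) = algebraMap B X.E b * X.incl m := by
  rw [X.isExtension.mul_incl, AlgHom.commutes, algebraMap_smul]

omit [Module B M] [IsScalarTower B (B ⧸ J) M] in
theorem incl_mul_incl (X : Exal.Ext B (B ⧸ J) M) (m m' : M) : X.incl m * X.incl m' = 0 := by
  rw [X.isExtension.mul_incl, (X.isExtension.exact _).2 ⟨m, rfl⟩, zero_smul, map_zero]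

/-- the canonical surjection from `B ⊕ M` onto the middle ring. -/
noncomputable def phi (X : Exal.Ext B (B ⧸ J) M) : TrivSqZeroExt B M →+* X.E where
  toFun y := algebraMap B X.E (TrivSqZeroExt.fst y) + X.incl (TrivSqZeroExt.snd y)
  map_one' := by
    rw [TrivSqZeroExt.fst_one, TrivSqZeroExt.snd_one, map_one, map_zero, add_zero]
  map_mul' y y' := by
    rw [TrivSqZeroExt.fst_mul, TrivSqZeroExt.snd_mul, map_mul, map_add]
    have e1 := incl_smul J X (TrivSqZeroExt.fst y) (TrivSqZeroExt.snd y')
    have e2 : X.incl (MulOpposite.op (TrivSqZeroExt.fst y') • TrivSqZeroExt.snd y) =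
        algebraMap B X.E (TrivSqZeroExt.fst y') * X.incl (TrivSqZeroExt.snd y) :=
      incl_smul J X (TrivSqZeroExt.fst y') (TrivSqZeroExt.snd y)
    rw [e1, e2]
    have e3 := incl_mul_incl J X (TrivSqZeroExt.snd y) (TrivSqZeroExt.snd y')
    linear_combination (-1 : X.E) * e3
  map_zero' := by
    rw [TrivSqZeroExt.fst_zero, TrivSqZeroExt.snd_zero, map_zero, map_zero, add_zero]
  map_add' y y' := by
    rw [TrivSqZeroExt.fst_add, TrivSqZeroExt.snd_add, map_add, map_add]
    abel

theorem phi_apply (X : Exal.Ext B (B ⧸ J) M) (y : TrivSqZeroExt B M) :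
    phi J X y = algebraMap B X.E (TrivSqZeroExt.fst y) + X.incl (TrivSqZeroExt.snd y) := rfl

theorem proj_phi (X : Exal.Ext B (B ⧸ J) M) (y : TrivSqZeroExt B M) :
    X.proj (phi J X y) = Ideal.Quotient.mk J (TrivSqZeroExt.fst y) := by
  rw [phi_apply, map_add, AlgHom.commutes, (X.isExtension.exact _).2 ⟨_, rfl⟩, add_zero]
  rfl

theorem phi_surjective (X : Exal.Ext B (B ⧸ J) M) : Function.Surjective (phi J X) := by
  intro x
  obtain ⟨b, hb⟩ := Ideal.Quotient.mk_surjective (X.proj x)
  have hx : X.proj (x - algebraMap B X.E b) = 0 := by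
    rw [map_sub, AlgHom.commutes, ← hb]
    exact sub_self _
  obtain ⟨m, hm⟩ := (X.isExtension.exact _).1 hx
  refine ⟨TrivSqZeroExt.inl b + TrivSqZeroExt.inr m, ?_⟩
  rw [phi_apply]
  simp only [TrivSqZeroExt.fst_add, TrivSqZeroExt.fst_inl, TrivSqZeroExt.fst_inr, add_zero,
    TrivSqZeroExt.snd_add, TrivSqZeroExt.snd_inl, TrivSqZeroExt.snd_inr, zero_add]
  rw [hm]
  abel

theorem incl_idealToKer (X : Exal.Ext B (B ⧸ J) M) (z : J) :
    X.incl (X.idealToKer J z) = algebraMap B X.E z :=
  X.incl_kerLift _ (X.proj_algebraMap_eq_zero J z)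

theorem phi_eq_zero_iff (X : Exal.Ext B (B ⧸ J) M) (y : TrivSqZeroExt B M) :
    phi J X y = 0 ↔ ∃ h : TrivSqZeroExt.fst y ∈ J,
      TrivSqZeroExt.snd y = - X.idealToKer J ⟨TrivSqZeroExt.fst y, h⟩ := by
  constructor
  · intro hy
    have h1 : TrivSqZeroExt.fst y ∈ J := by
      rw [← Ideal.Quotient.eq_zero_iff_mem, ← proj_phi J X, hy, map_zero]
    refine ⟨h1, ?_⟩
    apply X.isExtension.incl_injective
    rw [map_neg, incl_idealToKer]
    rw [phi_apply] at hy
    exact eq_neg_of_add_eq_zero_right hy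
  · rintro ⟨h1, h2⟩
    rw [phi_apply, h2, map_neg, incl_idealToKer]
    exact add_neg_cancel _

end

/-- Injectivity, commutative form. Let J be an ideal of the commutative ring B, C = B ⧸ J, M a C-module.
Two B-extensions of C by M whose induced linear maps J/J² → M (obtained from the restriction to J of
the structure map B → E) coincide are equivalent. -/
theorem result {B : Type u} [CommRing B] (J : Ideal B)
    {M : Type u} [AddCommGroup M] [Module (B ⧸ J) M] [Module B M] [IsScalarTower B (B ⧸ J) M]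
    (X Y : Exal.Ext B (B ⧸ J) M) (h : X.conormalMap J = Y.conormalMap J) :
    Nonempty (X.Equiv Y) := by
  have hw : ∀ z : J, X.idealToKer J z = Y.idealToKer J z := by
    intro z
    have := congrArg (fun φ => φ (J.toCotangent z)) h
    exact this
  have hker : ∀ t, phi J X t = 0 ↔ phi J Y t = 0 := by
    intro t
    rw [phi_eq_zero_iff, phi_eq_zero_iff]
    constructor
    · rintro ⟨h1, h2⟩
      exact ⟨h1, by rw [h2, hw]⟩
    · rintro ⟨h1, h2⟩
      exact ⟨h1, by rw [h2, hw]⟩
  obtain ⟨e, he⟩ := exists_ringEquiv_of_ker_eq (phi J X) (phi J Y) (phi_surjective J X)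
    (phi_surjective J Y) hker
  refine ⟨{ toAlgEquiv := AlgEquiv.ofRingEquiv (f := e) (fun b => ?_)
            proj_apply := fun x => ?_
            apply_incl := fun m => ?_ }⟩
  · have h1 : algebraMap B X.E b = phi J X (TrivSqZeroExt.inl b) := by
      rw [phi_apply, TrivSqZeroExt.fst_inl, TrivSqZeroExt.snd_inl, map_zero, add_zero]
    have h2 : algebraMap B Y.E b = phi J Y (TrivSqZeroExt.inl b) := by
      rw [phi_apply, TrivSqZeroExt.fst_inl, TrivSqZeroExt.snd_inl, map_zero, add_zero]
    rw [h1, h2, he]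
  · obtain ⟨t, rfl⟩ := phi_surjective J X x
    show Y.proj (e (phi J X t)) = X.proj (phi J X t)
    rw [he, proj_phi, proj_phi]
  · have h1 : X.incl m = phi J X (TrivSqZeroExt.inr m) := by
      rw [phi_apply, TrivSqZeroExt.fst_inr, TrivSqZeroExt.snd_inr, map_zero, zero_add]
    have h2 : Y.incl m = phi J Y (TrivSqZeroExt.inr m) := by
      rw [phi_apply, TrivSqZeroExt.fst_inr, TrivSqZeroExt.snd_inr, map_zero, zero_add]
    show e (X.incl m) = Y.incl m
    rw [h1, h2, he]

end Groth.Agent.S5813
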