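import Groth.Statements.S5814
import Mathlib.Tactic.LinearCombination
import Mathlib.RingTheory.Ideal.Quotient.Operations
import Mathlib.RingTheory.Ideal.Cotangent
-- import your own Groth.Agent.* helpers here

set_option autoImplicit false
universe u
open EGA41

namespace Groth.Agent.S5814

attribute [local instance] Exal.opModule Exal.isCentralScalar_opModule

section

variable {B : Type u} [CommRing B] (J : Ideal B)
  {M : Type u} [AddCommGroup M] [Module (B ⧸ J) M] [Module B M] [IsScalarTower B (B ⧸ J) M]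
  (w : J.Cotangent →ₗ[B] M)

theorem smul_eq_zero_of_mem {b : B} (hb : b ∈ J) (m : M) : b • m = 0 := by
  rw [← algebraMap_smul (B ⧸ J) b m, Ideal.Quotient.algebraMap_eq,
    Ideal.Quotient.eq_zero_iff_mem.2 hb, zero_smul]

/-- the ideal of `B ⊕ M` of the pairs `(z, -w z)` with `z ∈ J`. -/
def graphIdeal : Ideal (TrivSqZeroExt B M) where
  carrier := {y | ∃ h : TrivSqZeroExt.fst y ∈ J,
    TrivSqZeroExt.snd y = - w (J.toCotangent ⟨TrivSqZeroExt.fst y, h⟩)}
  add_mem' := by
    rintro y y' ⟨h, e⟩ ⟨h', e'⟩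
    refine ⟨by rw [TrivSqZeroExt.fst_add]; exact J.add_mem h h', ?_⟩
    rw [TrivSqZeroExt.snd_add, e, e', ← neg_add, ← map_add, ← map_add]
    rfl
  zero_mem' := by
    refine ⟨by rw [TrivSqZeroExt.fst_zero]; exact J.zero_mem, ?_⟩
    rw [TrivSqZeroExt.snd_zero]
    have : (⟨TrivSqZeroExt.fst (0 : TrivSqZeroExt B M), by rw [TrivSqZeroExt.fst_zero]; exact J.zero_mem⟩ : J) = 0 := rfl
    rw [this, map_zero, map_zero, neg_zero]
  smul_mem' := by
    rintro t y ⟨h, e⟩
    have hmem : TrivSqZeroExt.fst (t • y) ∈ J := by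
      rw [smul_eq_mul, TrivSqZeroExt.fst_mul]
      exact J.mul_mem_left _ h
    refine ⟨hmem, ?_⟩
    have h1 : TrivSqZeroExt.snd (t • y) =
        TrivSqZeroExt.fst t • TrivSqZeroExt.snd y + TrivSqZeroExt.fst y • TrivSqZeroExt.snd t := by
      rw [smul_eq_mul, TrivSqZeroExt.snd_mul]
      rfl
    rw [h1, smul_eq_zero_of_mem J h, add_zero, e, smul_neg, ← map_smul, ← map_smul]
    rfl

theorem mem_graphIdeal (y : TrivSqZeroExt B M) :
    y ∈ graphIdeal J w ↔ ∃ h : TrivSqZeroExt.fst y ∈ J,
      TrivSqZeroExt.snd y = - w (J.toCotangent ⟨TrivSqZeroExt.fst y, h⟩) := Iff.rfl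

end


section

variable {B : Type u} [CommRing B] (J : Ideal B)
  {M : Type u} [AddCommGroup M] [Module (B ⧸ J) M] [Module B M] [IsScalarTower B (B ⧸ J) M]
  (w : J.Cotangent →ₗ[B] M)

/-- the augmentation `B ⊕ M → B ⧸ J`. -/
noncomputable def aug : TrivSqZeroExt B M →ₐ[B] B ⧸ J :=
  (Ideal.Quotient.mkₐ B J).comp (TrivSqZeroExt.fstHom B B M)

omit [Module (B ⧸ J) M] [IsScalarTower B (B ⧸ J) M] in
theorem aug_apply (y : TrivSqZeroExt B M) : aug J y = Ideal.Quotient.mk J (TrivSqZeroExt.fst y) := rfl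

theorem aug_eq_zero_of_mem {y : TrivSqZeroExt B M} (hy : y ∈ graphIdeal J w) : aug J y = 0 := by
  obtain ⟨h, -⟩ := hy
  rw [aug_apply, Ideal.Quotient.eq_zero_iff_mem]
  exact h

/-- the extension with conormal map `w`. -/
noncomputable def theExt : Exal.Ext B (B ⧸ J) M where
  E := TrivSqZeroExt B M ⧸ graphIdeal J w
  proj := Ideal.Quotient.liftₐ (graphIdeal J w) (aug J) (fun y hy => aug_eq_zero_of_mem J w hy)
  incl := (Ideal.Quotient.mk (graphIdeal J w) : _ →+* _).toAddMonoidHom.comp
    (TrivSqZeroExt.inrHom B M).toAddMonoidHom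
  isExtension :=
    { proj_surjective := by
        intro c
        obtain ⟨b, rfl⟩ := Ideal.Quotient.mk_surjective c
        exact ⟨Ideal.Quotient.mk _ (TrivSqZeroExt.inl b), rfl⟩
      incl_injective := by
        rw [injective_iff_map_eq_zero]
        intro m hm
        have hm' : Ideal.Quotient.mk (graphIdeal J w) (TrivSqZeroExt.inr m) = 0 := hm
        rw [Ideal.Quotient.eq_zero_iff_mem] at hm'
        obtain ⟨h, e⟩ := hm'
        rw [TrivSqZeroExt.snd_inr] at e
        rw [e]
        have : (⟨TrivSqZeroExt.fst (TrivSqZeroExt.inr m : TrivSqZeroExt B M), h⟩ : J) = 0 := by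
          apply Subtype.ext
          exact TrivSqZeroExt.fst_inr B m
        rw [this, map_zero, map_zero, neg_zero]
      exact := by
        intro x
        obtain ⟨y, rfl⟩ := Ideal.Quotient.mk_surjective x
        constructor
        · intro hy
          have hy' : Ideal.Quotient.mk J (TrivSqZeroExt.fst y) = 0 := hy
          rw [Ideal.Quotient.eq_zero_iff_mem] at hy'
          refine ⟨TrivSqZeroExt.snd y + w (J.toCotangent ⟨TrivSqZeroExt.fst y, hy'⟩), ?_⟩
          show Ideal.Quotient.mk (graphIdeal J w) (TrivSqZeroExt.inr _) = Ideal.Quotient.mk _ y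
          rw [eq_comm, Ideal.Quotient.mk_eq_mk_iff_sub_mem]
          have hf : TrivSqZeroExt.fst (y - TrivSqZeroExt.inr (TrivSqZeroExt.snd y +
              w (J.toCotangent ⟨TrivSqZeroExt.fst y, hy'⟩))) = TrivSqZeroExt.fst y := by
            rw [TrivSqZeroExt.fst_sub, TrivSqZeroExt.fst_inr, sub_zero]
          refine ⟨by rw [hf]; exact hy', ?_⟩
          rw [TrivSqZeroExt.snd_sub, TrivSqZeroExt.snd_inr]
          have : (⟨TrivSqZeroExt.fst (y - TrivSqZeroExt.inr (TrivSqZeroExt.snd y +
              w (J.toCotangent ⟨TrivSqZeroExt.fst y, hy'⟩))), by rw [hf]; exact hy'⟩ : J) =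
              ⟨TrivSqZeroExt.fst y, hy'⟩ := Subtype.ext hf
          rw [this]
          abel
        · rintro ⟨m, hm⟩
          rw [← hm]
          show Ideal.Quotient.mk J (TrivSqZeroExt.fst (TrivSqZeroExt.inr m : TrivSqZeroExt B M)) = 0
          rw [TrivSqZeroExt.fst_inr, map_zero]
      mul_incl := by
        intro x m
        obtain ⟨y, rfl⟩ := Ideal.Quotient.mk_surjective x
        show Ideal.Quotient.mk (graphIdeal J w) y * Ideal.Quotient.mk _ (TrivSqZeroExt.inr m) =
          Ideal.Quotient.mk _ (TrivSqZeroExt.inr (Ideal.Quotient.mk J (TrivSqZeroExt.fst y) • m))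
        rw [← map_mul]
        congr 1
        apply TrivSqZeroExt.ext
        · rw [TrivSqZeroExt.fst_mul, TrivSqZeroExt.fst_inr, TrivSqZeroExt.fst_inr, mul_zero]
        · rw [TrivSqZeroExt.snd_mul, TrivSqZeroExt.snd_inr, TrivSqZeroExt.snd_inr,
            TrivSqZeroExt.fst_inr, MulOpposite.op_zero, zero_smul, add_zero,
            ← Ideal.Quotient.algebraMap_eq, algebraMap_smul] }

end

/-- Surjectivity, commutative form. Let J be an ideal of the commutative ring B, C = B ⧸ J, M a
C-module. Every linear map w : J/J² → M arises from a B-extension of C by M: there is an extension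
whose induced map J/J² → M is w. Together with the injectivity statement this is the canonical
bijection between Hom_C(J/J², M) and the classes of B-extensions of C by M. -/
theorem result {B : Type u} [CommRing B] (J : Ideal B)
    {M : Type u} [AddCommGroup M] [Module (B ⧸ J) M] [Module B M] [IsScalarTower B (B ⧸ J) M]
    (w : J.Cotangent →ₗ[B] M) :
    ∃ X : Exal.Ext B (B ⧸ J) M, X.conormalMap J = w := by
  refine ⟨theExt J w, ?_⟩
  apply LinearMap.ext
  intro c
  obtain ⟨z, rfl⟩ := J.toCotangent_surjective c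
  show (theExt J w).idealToKer J z = w (J.toCotangent z)
  apply (theExt J w).isExtension.incl_injective
  have hk : (theExt J w).incl ((theExt J w).idealToKer J z) = algebraMap B (theExt J w).E z :=
    (theExt J w).incl_kerLift _ ((theExt J w).proj_algebraMap_eq_zero J z)
  rw [hk]
  show Ideal.Quotient.mk (graphIdeal J w) (TrivSqZeroExt.inl (z : B)) =
    Ideal.Quotient.mk _ (TrivSqZeroExt.inr (w (J.toCotangent z)))
  rw [Ideal.Quotient.mk_eq_mk_iff_sub_mem]
  set y : TrivSqZeroExt B M := (TrivSqZeroExt.inl (z : B) : TrivSqZeroExt B M) -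
      (TrivSqZeroExt.inr (w (J.toCotangent z)) : TrivSqZeroExt B M) with hy
  have hf : TrivSqZeroExt.fst y = z := by
    simp [hy]
  refine ⟨by rw [hf]; exact z.2, ?_⟩
  have hs : TrivSqZeroExt.snd y = - w (J.toCotangent z) := by
    simp [hy]
  rw [hs]
  have : (⟨TrivSqZeroExt.fst y, by rw [hf]; exact z.2⟩ : J) = z := Subtype.ext hf
  rw [this]

end Groth.Agent.S5814
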