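import Groth.Statements.S5815
import Groth.Agent.Lib.ExalSqZero
import Mathlib.RingTheory.Smooth.Basic
-- import your own Groth.Agent.* helpers here

set_option autoImplicit false
universe u
open EGA41

namespace Groth.Agent.S5815

/-- Discrete case. A commutative A-algebra B is formally smooth if and only if every A-extension of B by
a B-module L is trivial (has an A-algebra section). A and B are taken in one universe and L ranges
over that universe. (The published statement is for topological rings, with direct-limit classes of
extensions; this row is its discrete case.) -/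
theorem result (A B : Type u) [CommRing A] [CommRing B] [Algebra A B] :
    Algebra.FormallySmooth A B ↔
      ∀ (L : Type u) [AddCommGroup L] [Module B L] (X : Exal.Ext A B L), X.IsTrivial := by
  constructor
  · intro hfs L _ _ X
    have hsq : ∀ x y : X.E, X.proj x = 0 → X.proj y = 0 → x * y = 0 := by
      intro x y hx hy
      obtain ⟨z, rfl⟩ := (X.isExtension.exact x).1 hx
      obtain ⟨z', rfl⟩ := (X.isExtension.exact y).1 hy
      rw [X.isExtension.mul_incl, hx, zero_smul, map_zero]
    have hnil : IsNilpotent (RingHom.ker (X.proj : X.E →+* B)) := by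
      refine ⟨2, ?_⟩
      rw [Ideal.zero_eq_bot, eq_bot_iff, pow_two, Ideal.mul_le]
      intro x hx y hy
      rw [Ideal.mem_bot]
      exact hsq x y hx hy
    refine ⟨Algebra.FormallySmooth.liftOfSurjective (AlgHom.id A B) X.proj
      X.isExtension.proj_surjective hnil, fun b => ?_⟩
    exact Algebra.FormallySmooth.liftOfSurjective_apply (AlgHom.id A B) X.proj
      X.isExtension.proj_surjective hnil b
  · intro h
    let P := MvPolynomial B A
    let f : P →ₐ[A] B := MvPolynomial.aeval (fun b => b)
    have hf : Function.Surjective f := fun b => ⟨MvPolynomial.X b, MvPolynomial.aeval_X _ b⟩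
    have hsurj : Function.Surjective f.kerSquareLift := by
      intro b
      obtain ⟨x, rfl⟩ := hf b
      exact ⟨Ideal.Quotient.mk _ x, rfl⟩
    have hK : ∀ x y : P ⧸ RingHom.ker f.toRingHom ^ 2,
        f.kerSquareLift x = 0 → f.kerSquareLift y = 0 → x * y = 0 := by
      apply Groth.Agent.Lib.ExalSqZero.sqZero_of_ker_sq
      have := AlgHom.ker_kerSquareLift f
      have h2 : RingHom.ker f.kerSquareLift = RingHom.ker f.kerSquareLift.toRingHom := rfl
      rw [h2, this, Ideal.cotangentIdeal_square]
    let _ := Groth.Agent.Lib.ExalSqZero.kerModule f.kerSquareLift hsurj hK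
    obtain ⟨s, hs⟩ := h _ (Groth.Agent.Lib.ExalSqZero.ofSqZero f.kerSquareLift hsurj hK)
    exact Algebra.FormallySmooth.of_split f s (AlgHom.ext hs)

end Groth.Agent.S5815
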