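import Groth.Statements.S5816
import Groth.Agent.Lib.ExalSqZero
import Mathlib.RingTheory.Ideal.Quotient.Operations
-- import your own Groth.Agent.* helpers here

set_option autoImplicit false
universe u
open EGA41

namespace Groth.Agent.S5816

/-- Discrete case. For ring maps Λ → A → B, B is formally smooth over A relative to Λ (square-zero test
ideals) if and only if every A-extension of B by a B-module L which is Λ-trivial is A-trivial. Λ, A,
B are taken in one universe and L ranges over it. (The published statement is for topological rings;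
this row is its discrete case.) -/
theorem result (Λ A B : Type u) [CommRing Λ]
    [CommRing A] [CommRing B] [Algebra Λ A] [Algebra Λ B] [Algebra A B] [IsScalarTower Λ A B] :
    EGA41.IsFormallySmoothRel Λ A B ↔
      ∀ (L : Type u) [AddCommGroup L] [Module B L] (X : Exal.Ext A B L),
        X.IsTrivialOver Λ → X.IsTrivial := by
  constructor
  · intro hrel L _ _ X hX
    obtain ⟨s, hs⟩ := hX
    have hsq : ∀ x y : X.E, X.proj x = 0 → X.proj y = 0 → x * y = 0 := by
      intro x y hx hy
      obtain ⟨z, rfl⟩ := (X.isExtension.exact x).1 hx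
      obtain ⟨z', rfl⟩ := (X.isExtension.exact y).1 hy
      rw [X.isExtension.mul_incl, hx, zero_smul, map_zero]
    have hJ : RingHom.ker (X.proj : X.E →+* B) ^ 2 = ⊥ := by
      rw [eq_bot_iff, pow_two, Ideal.mul_le]
      intro x hx y hy
      rw [Ideal.mem_bot]
      exact hsq x y hx hy
    let algΛ : Algebra Λ X.E := ((algebraMap A X.E).comp (algebraMap Λ A)).toAlgebra
    have : IsScalarTower Λ A X.E := IsScalarTower.of_algebraMap_eq (fun _ => rfl)
    let e := Ideal.quotientKerAlgEquivOfSurjective (f := X.proj) X.isExtension.proj_surjective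
    let sΛ : B →ₐ[Λ] X.E :=
      { toRingHom := s.toRingHom
        commutes' := fun l => s.commutes l }
    have hsΛ : ∀ b : B, X.proj (sΛ b) = b := hs
    obtain ⟨v, hv⟩ := hrel X.E (RingHom.ker (X.proj : X.E →+* B)) hJ e.symm.toAlgHom ⟨sΛ, by
      ext b
      apply e.injective
      show e (Ideal.Quotient.mk _ (sΛ b)) = e (e.symm b)
      rw [AlgEquiv.apply_symm_apply]
      exact hsΛ b⟩
    refine ⟨v, fun b => ?_⟩
    have h1 : e ((Ideal.Quotient.mkₐ A (RingHom.ker (X.proj : X.E →+* B))) (v b)) = e (e.symm b) :=
      congrArg (fun φ => e (φ b)) hv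
    rw [AlgEquiv.apply_symm_apply] at h1
    exact h1
  · intro h C _ _ _ _ J hJ u₀ ⟨u, hu⟩
    -- the fibre product
    let F : Subalgebra A (C × B) :=
      AlgHom.equalizer ((Ideal.Quotient.mkₐ A J).comp (AlgHom.fst A C B)) (u₀.comp (AlgHom.snd A C B))
    have hF : ∀ x : C × B, x ∈ F ↔ Ideal.Quotient.mk J x.1 = u₀ x.2 := fun x => Iff.rfl
    let p : F →ₐ[A] B := (AlgHom.snd A C B).comp F.val
    have hp : Function.Surjective p := by
      intro b
      obtain ⟨c, hc⟩ := Ideal.Quotient.mk_surjective (u₀ b)
      exact ⟨⟨(c, b), (hF _).2 hc⟩, rfl⟩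
    have hK : ∀ x y : F, p x = 0 → p y = 0 → x * y = 0 := by
      rintro ⟨⟨c, b⟩, hx⟩ ⟨⟨c', b'⟩, hy⟩ hpx hpy
      have hb : b = 0 := hpx
      have hb' : b' = 0 := hpy
      subst hb hb'
      have hc : c ∈ J := by
        rw [← Ideal.Quotient.eq_zero_iff_mem, (hF _).1 hx, map_zero]
      have hc' : c' ∈ J := by
        rw [← Ideal.Quotient.eq_zero_iff_mem, (hF _).1 hy, map_zero]
      apply Subtype.ext
      apply Prod.ext
      · show c * c' = 0
        have : c * c' ∈ J ^ 2 := by
          rw [pow_two]
          exact Ideal.mul_mem_mul hc hc'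
        rwa [hJ] at this
      · show (0 : B) * 0 = 0
        rw [mul_zero]
    let _ := Groth.Agent.Lib.ExalSqZero.kerModule p hp hK
    let X := Groth.Agent.Lib.ExalSqZero.ofSqZero p hp hK
    have hXΛ : X.IsTrivialOver Λ := by
      have hmem : ∀ b : B, ((u b, b) : C × B) ∈ F := by
        intro b
        rw [hF]
        have := congrArg (fun φ => φ b) hu
        exact this
      let s₀ : B →+* F :=
        { toFun := fun b => ⟨(u b, b), hmem b⟩
          map_one' := by apply Subtype.ext; apply Prod.ext <;> simp
          map_mul' := fun b b' => by apply Subtype.ext; apply Prod.ext <;> simp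
          map_zero' := by apply Subtype.ext; apply Prod.ext <;> simp
          map_add' := fun b b' => by apply Subtype.ext; apply Prod.ext <;> simp }
      refine ⟨{ toRingHom := (s₀ : B →+* (X.restrictBase Λ).E)
                commutes' := fun l => ?_ }, fun b => rfl⟩
      apply Subtype.ext
      apply Prod.ext
      · show u (algebraMap Λ B l) = algebraMap A C (algebraMap Λ A l)
        rw [u.commutes, ← IsScalarTower.algebraMap_apply Λ A C]
      · show algebraMap Λ B l = algebraMap A B (algebraMap Λ A l)
        rw [← IsScalarTower.algebraMap_apply Λ A B]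
    obtain ⟨t, ht⟩ := h _ X hXΛ
    refine ⟨(AlgHom.fst A C B).comp (F.val.comp t), ?_⟩
    ext b
    let w : C × B := Subtype.val (p := fun x => x ∈ F) (t b)
    have hmem : w ∈ F := Subtype.property (p := fun x => x ∈ F) (t b)
    rw [hF] at hmem
    have h2 : w.2 = b := ht b
    show Ideal.Quotient.mk J w.1 = u₀ b
    rw [hmem, h2]

end Groth.Agent.S5816
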