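import Groth.Statements.S5817
import Mathlib.RingTheory.Derivation.Basic
-- import your own Groth.Agent.* helpers here

set_option autoImplicit false
universe u v
open EGA41

namespace Groth.Agent.S5817

attribute [local instance] Exal.opModule Exal.isCentralScalar_opModule

/-- Commutative rings, exactness at Der_A(B, L). For ring maps A → B → C and a C-module L, the
B-extension of C by L attached to an A-derivation D : B → L (middle ring C ⊕ L, made a B-algebra
through x ↦ (x, D x)) is trivial if and only if D is the composite of B → C with an A-derivation C →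
L. -/
theorem result {A : Type u} {B C L : Type v} [CommRing A] [CommRing B] [CommRing C]
    [Algebra A B] [Algebra B C] [Algebra A C] [IsScalarTower A B C]
    [AddCommGroup L] [Module C L] [Module B L] [IsScalarTower B C L] [Module A L] [IsScalarTower A B L]
    [IsScalarTower A C L]
    (D : Derivation A B L) :
    (Exal.Ext.ofDerivation (C := C) D).IsTrivial ↔
      ∃ D' : Derivation A C L, D'.compAlgebraMap B = D := by
  constructor
  · rintro ⟨s, hs⟩
    let t : C →+* TrivSqZeroExt C L := s.toRingHom
    have hfst : ∀ c : C, TrivSqZeroExt.fst (t c) = c := hs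
    have hB : ∀ b : B, t (algebraMap B C b) =
        TrivSqZeroExt.inl (algebraMap B C b) + TrivSqZeroExt.inr (D b) := fun b => s.commutes b
    have hsndB : ∀ b : B, TrivSqZeroExt.snd (t (algebraMap B C b)) = D b := by
      intro b
      rw [hB]
      simp
    have hmul : ∀ c c' : C, TrivSqZeroExt.snd (t (c * c')) =
        c • TrivSqZeroExt.snd (t c') + c' • TrivSqZeroExt.snd (t c) := by
      intro c c'
      rw [map_mul, TrivSqZeroExt.snd_mul, hfst, hfst]
      rfl
    have hadd : ∀ c c' : C, TrivSqZeroExt.snd (t (c + c')) =
        TrivSqZeroExt.snd (t c) + TrivSqZeroExt.snd (t c') := by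
      intro c c'
      rw [map_add, TrivSqZeroExt.snd_add]
    have hA : ∀ a : A, TrivSqZeroExt.snd (t (algebraMap A C a)) = 0 := by
      intro a
      rw [IsScalarTower.algebraMap_apply A B C, hsndB, Derivation.map_algebraMap]
    refine ⟨{ toLinearMap :=
                { toFun := fun c => TrivSqZeroExt.snd (t c)
                  map_add' := hadd
                  map_smul' := fun a c => by
                    simp only [RingHom.id_apply]
                    rw [Algebra.smul_def, hmul, hA, smul_zero, add_zero, algebraMap_smul] }
              map_one_eq_zero' := by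
                show TrivSqZeroExt.snd (t 1) = 0
                rw [map_one, TrivSqZeroExt.snd_one]
              leibniz' := fun c c' => hmul c c' }, ?_⟩
    ext b
    exact hsndB b
  · rintro ⟨D', rfl⟩
    let t : C →+* TrivSqZeroExt C L :=
      { toFun := fun c => TrivSqZeroExt.inl c + TrivSqZeroExt.inr (D' c)
        map_one' := by
          rw [Derivation.map_one_eq_zero, TrivSqZeroExt.inr_zero, add_zero, TrivSqZeroExt.inl_one]
        map_mul' := fun x y => by
          apply TrivSqZeroExt.ext
          · simp
          · simp only [TrivSqZeroExt.snd_add, TrivSqZeroExt.snd_inl, TrivSqZeroExt.snd_inr, zero_add,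
              TrivSqZeroExt.snd_mul, TrivSqZeroExt.fst_add, TrivSqZeroExt.fst_inl,
              TrivSqZeroExt.fst_inr, add_zero, Derivation.leibniz, op_smul_eq_smul]
        map_zero' := by
          rw [map_zero, TrivSqZeroExt.inl_zero, TrivSqZeroExt.inr_zero, add_zero]
        map_add' := fun x y => by
          rw [map_add, TrivSqZeroExt.inl_add, TrivSqZeroExt.inr_add]
          abel }
    refine ⟨{ toRingHom := (t : C →+* (Exal.Ext.ofDerivation (C := C) (D'.compAlgebraMap B)).E)
              commutes' := fun b => rfl }, fun c => ?_⟩
    show TrivSqZeroExt.fst (TrivSqZeroExt.inl c + TrivSqZeroExt.inr (D' c)) = c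
    simp

end Groth.Agent.S5817
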