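import Groth.Statements.S5818
import Mathlib.RingTheory.Derivation.Basic
import Mathlib.Tactic.LinearCombination
-- import your own Groth.Agent.* helpers here

set_option autoImplicit false
universe u v
open EGA41

namespace Groth.Agent.S5818

attribute [local instance] Exal.opModule Exal.isCentralScalar_opModule

/-- Commutative rings, exactness at Exalcom_B(C, L) on underlying pointed sets. For ring maps A → B → C
and a C-module L, a B-extension of C by L is A-trivial if and only if it is equivalent to the
extension attached to some A-derivation B → L. -/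
theorem result {A : Type u} {B C L : Type v} [CommRing A] [CommRing B] [CommRing C]
    [Algebra A B] [Algebra B C] [Algebra A C] [IsScalarTower A B C]
    [AddCommGroup L] [Module C L] [Module B L] [IsScalarTower B C L] [Module A L] [IsScalarTower A B L]
    [IsScalarTower A C L]
    (X : Exal.Ext B C L) :
    X.IsTrivialOver A ↔
      ∃ D : Derivation A B L, Nonempty (X.Equiv (Exal.Ext.ofDerivation (C := C) D)) := by
  constructor
  · rintro ⟨s, hs⟩
    let σ : C →+* X.E := s.toRingHom
    have hσ : ∀ c : C, X.proj (σ c) = c := hs
    have hσA : ∀ a : A, σ (algebraMap A C a) = algebraMap B X.E (algebraMap A B a) := fun a => s.commutes a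
    have hincl_mul : ∀ l l' : L, X.incl l * X.incl l' = 0 := by
      intro l l'
      rw [X.isExtension.mul_incl, (X.isExtension.exact _).2 ⟨l, rfl⟩, zero_smul, map_zero]
    have hk : ∀ b : B, X.proj (algebraMap B X.E b - σ (algebraMap B C b)) = 0 := by
      intro b
      rw [map_sub, hσ, AlgHom.commutes, sub_self]
    let δ : B → L := fun b => X.kerLift _ (hk b)
    have hδ : ∀ b : B, X.incl (δ b) = algebraMap B X.E b - σ (algebraMap B C b) :=
      fun b => X.incl_kerLift _ (hk b)
    have hinj := X.isExtension.incl_injective
    have hδadd : ∀ b b' : B, δ (b + b') = δ b + δ b' := by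
      intro b b'
      apply hinj
      rw [map_add, hδ, hδ, hδ, map_add, map_add, map_add]
      abel
    have hδmul : ∀ b b' : B, δ (b * b') = b • δ b' + b' • δ b := by
      intro b b'
      apply hinj
      rw [map_add, hδ]
      have e1 : X.incl (b • δ b') = algebraMap B X.E b * X.incl (δ b') := by
        rw [X.isExtension.mul_incl, AlgHom.commutes, algebraMap_smul]
      have e2 : X.incl (b' • δ b) = σ (algebraMap B C b') * X.incl (δ b) := by
        rw [X.isExtension.mul_incl, hσ, algebraMap_smul]
      rw [e1, e2, hδ, hδ, map_mul, map_mul, map_mul]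
      ring
    have hδA : ∀ a : A, δ (algebraMap A B a) = 0 := by
      intro a
      apply hinj
      rw [hδ, map_zero, ← IsScalarTower.algebraMap_apply A B C, hσA, sub_self]
    let D : Derivation A B L :=
      { toLinearMap :=
          { toFun := δ
            map_add' := hδadd
            map_smul' := fun a b => by
              simp only [RingHom.id_apply]
              rw [Algebra.smul_def, hδmul, hδA, smul_zero, add_zero, algebraMap_smul] }
        map_one_eq_zero' := by
          show δ 1 = 0
          have := hδA 1
          rwa [map_one] at this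
        leibniz' := hδmul }
    refine ⟨D, ⟨Exal.Ext.Equiv.symm ?_⟩⟩
    -- the map from the derivation extension to X
    let ψ₀ : TrivSqZeroExt C L →+* X.E :=
      { toFun := fun y => σ (TrivSqZeroExt.fst y) + X.incl (TrivSqZeroExt.snd y)
        map_one' := by
          rw [TrivSqZeroExt.fst_one, TrivSqZeroExt.snd_one, map_one, map_zero, add_zero]
        map_mul' := fun y y' => by
          rw [TrivSqZeroExt.fst_mul, TrivSqZeroExt.snd_mul, map_mul, map_add]
          have e1 : X.incl (TrivSqZeroExt.fst y • TrivSqZeroExt.snd y') =
              σ (TrivSqZeroExt.fst y) * X.incl (TrivSqZeroExt.snd y') := by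
            rw [X.isExtension.mul_incl, hσ]
          have e2 : X.incl (MulOpposite.op (TrivSqZeroExt.fst y') • TrivSqZeroExt.snd y) =
              σ (TrivSqZeroExt.fst y') * X.incl (TrivSqZeroExt.snd y) := by
            rw [X.isExtension.mul_incl, hσ]
            rfl
          rw [e1, e2]
          have e3 := hincl_mul (TrivSqZeroExt.snd y) (TrivSqZeroExt.snd y')
          linear_combination (-1 : X.E) * e3
        map_zero' := by
          rw [TrivSqZeroExt.fst_zero, TrivSqZeroExt.snd_zero, map_zero, map_zero, add_zero]
        map_add' := fun y y' => by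
          rw [TrivSqZeroExt.fst_add, TrivSqZeroExt.snd_add, map_add, map_add]
          abel }
    let ψ : (Exal.Ext.ofDerivation (C := C) D).E →ₐ[B] X.E :=
      { toRingHom := ψ₀
        commutes' := fun b => by
          show σ (TrivSqZeroExt.fst (TrivSqZeroExt.inl (algebraMap B C b) + TrivSqZeroExt.inr (D b))) +
            X.incl (TrivSqZeroExt.snd (TrivSqZeroExt.inl (algebraMap B C b) + TrivSqZeroExt.inr (D b))) = _
          simp only [TrivSqZeroExt.fst_add, TrivSqZeroExt.fst_inl, TrivSqZeroExt.fst_inr, add_zero,
            TrivSqZeroExt.snd_add, TrivSqZeroExt.snd_inl, TrivSqZeroExt.snd_inr, zero_add]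
          show σ (algebraMap B C b) + X.incl (δ b) = _
          rw [hδ]
          abel }
    have hψproj : ∀ y, X.proj (ψ y) = TrivSqZeroExt.fst (y : TrivSqZeroExt C L) := by
      intro y
      show X.proj (σ (TrivSqZeroExt.fst y) + X.incl (TrivSqZeroExt.snd y)) = _
      rw [map_add, hσ, (X.isExtension.exact _).2 ⟨_, rfl⟩, add_zero]
    have hψbij : Function.Bijective ψ := by
      constructor
      · rw [injective_iff_map_eq_zero]
        intro y hy
        have h1 : TrivSqZeroExt.fst (y : TrivSqZeroExt C L) = 0 := by
          rw [← hψproj, hy, map_zero]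
        have h2 : σ (TrivSqZeroExt.fst (y : TrivSqZeroExt C L)) +
            X.incl (TrivSqZeroExt.snd (y : TrivSqZeroExt C L)) = 0 := hy
        rw [h1, map_zero, zero_add] at h2
        have h3 : TrivSqZeroExt.snd (y : TrivSqZeroExt C L) = 0 := hinj (by rw [h2, map_zero])
        exact TrivSqZeroExt.ext h1 h3
      · intro x
        have hx : X.proj (x - σ (X.proj x)) = 0 := by rw [map_sub, hσ, sub_self]
        obtain ⟨l, hl⟩ := (X.isExtension.exact _).1 hx
        refine ⟨(TrivSqZeroExt.inl (X.proj x) + TrivSqZeroExt.inr l : TrivSqZeroExt C L), ?_⟩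
        show σ (TrivSqZeroExt.fst (TrivSqZeroExt.inl (X.proj x) + TrivSqZeroExt.inr l)) +
            X.incl (TrivSqZeroExt.snd (TrivSqZeroExt.inl (X.proj x) + TrivSqZeroExt.inr l)) = x
        simp only [TrivSqZeroExt.fst_add, TrivSqZeroExt.fst_inl, TrivSqZeroExt.fst_inr, add_zero,
            TrivSqZeroExt.snd_add, TrivSqZeroExt.snd_inl, TrivSqZeroExt.snd_inr, zero_add]
        rw [hl]
        abel
    exact
      { toAlgEquiv := AlgEquiv.ofBijective ψ hψbij
        proj_apply := fun y => hψproj y
        apply_incl := fun z => by
          show σ (TrivSqZeroExt.fst (TrivSqZeroExt.inr z : TrivSqZeroExt C L)) +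
            X.incl (TrivSqZeroExt.snd (TrivSqZeroExt.inr z : TrivSqZeroExt C L)) = X.incl z
          rw [TrivSqZeroExt.fst_inr, TrivSqZeroExt.snd_inr, map_zero, zero_add] }
  · rintro ⟨D, ⟨e⟩⟩
    let ι : C →+* (Exal.Ext.ofDerivation (C := C) D).E := TrivSqZeroExt.inlHom C L
    let t : C →+* X.E := (e.toAlgEquiv.symm : (Exal.Ext.ofDerivation (C := C) D).E →+* X.E).comp ι
    have hA : ∀ a : A, ι (algebraMap A C a) =
        algebraMap B (Exal.Ext.ofDerivation (C := C) D).E (algebraMap A B a) := by
      intro a
      show (TrivSqZeroExt.inl (algebraMap A C a) : TrivSqZeroExt C L) =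
        TrivSqZeroExt.inl (algebraMap B C (algebraMap A B a)) + TrivSqZeroExt.inr (D (algebraMap A B a))
      rw [Derivation.map_algebraMap, TrivSqZeroExt.inr_zero, add_zero,
        ← IsScalarTower.algebraMap_apply A B C]
    refine ⟨{ toRingHom := (t : C →+* (X.restrictBase A).E)
              commutes' := fun a => ?_ }, fun c => ?_⟩
    · show e.toAlgEquiv.symm (ι (algebraMap A C a)) = algebraMap B X.E (algebraMap A B a)
      rw [hA, AlgEquiv.commutes]
    · show X.proj (e.toAlgEquiv.symm (ι c)) = c
      have := e.proj_apply (e.toAlgEquiv.symm (ι c))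
      rw [AlgEquiv.apply_symm_apply] at this
      rw [← this]
      rfl

end Groth.Agent.S5818
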