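import Groth.Statements.S5819
-- import your own Groth.Agent.* helpers here

set_option autoImplicit false
universe u v
open EGA41

namespace Groth.Agent.S5819

/-- Commutative rings, exactness at Exalcom_A(C, L) on underlying pointed sets. For ring maps A → B → C
and a C-module L, an A-extension Y of C by L pulls back to a trivial A-extension of B if and only if
Y is equivalent to some B-extension of C by L viewed as an A-extension. -/
theorem result {A : Type u} {B C L : Type v} [CommRing A]
    [CommRing B] [CommRing C] [Algebra A B] [Algebra B C] [Algebra A C] [IsScalarTower A B C]
    [AddCommGroup L] [Module C L] [Module B L] [IsScalarTower B C L]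
    (Y : Exal.Ext A C L) :
    (Y.pullback B).IsTrivial ↔
      ∃ X : Exal.Ext B C L, Nonempty ((X.restrictBase A).Equiv Y) := by
  constructor
  · rintro ⟨s, hs⟩
    -- the lift `u : B → Y.E`
    let u : B →ₐ[A] Y.E := (AlgHom.fst A Y.E B).comp ((Y.fiberProd B).val.comp s)
    let t : B → Y.E × B := fun b => Subtype.val (p := fun x => x ∈ Y.fiberProd B) (s b)
    have hsnd : ∀ b : B, (t b).2 = b := hs
    have hu : ∀ b : B, Y.proj (u b) = algebraMap B C b := by
      intro b
      have h : t b ∈ Y.fiberProd B := Subtype.property (p := fun x => x ∈ Y.fiberProd B) (s b)
      change Y.proj (t b).1 = algebraMap B C (t b).2 at h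
      show Y.proj (t b).1 = _
      rw [h, hsnd]
    let algB : Algebra B Y.E := u.toRingHom.toAlgebra
    let X : Exal.Ext B C L :=
      { E := Y.E
        commRing := inferInstance
        algebra := algB
        proj :=
          { toFun := Y.proj
            map_one' := map_one _
            map_mul' := map_mul _
            map_zero' := map_zero _
            map_add' := map_add _
            commutes' := hu }
        incl := Y.incl
        isExtension :=
          { proj_surjective := Y.isExtension.proj_surjective
            incl_injective := Y.isExtension.incl_injective
            exact := Y.isExtension.exact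
            mul_incl := Y.isExtension.mul_incl } }
    refine ⟨X, ⟨{ toAlgEquiv :=
                    { toFun := fun x => x
                      invFun := fun x => x
                      left_inv := fun _ => rfl
                      right_inv := fun _ => rfl
                      map_mul' := fun _ _ => rfl
                      map_add' := fun _ _ => rfl
                      commutes' := fun a => ?_ }
                  proj_apply := fun _ => rfl
                  apply_incl := fun _ => rfl }⟩⟩
    show u (algebraMap A B a) = algebraMap A Y.E a
    exact u.commutes a
  · rintro ⟨X, ⟨e⟩⟩
    let u₀ : B →+* Y.E :=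
      (e.toAlgEquiv : (X.restrictBase A).E →+* Y.E).comp (algebraMap B X.E)
    let u : B →ₐ[A] Y.E :=
      { toRingHom := u₀
        commutes' := fun a => by
          show e.toAlgEquiv (algebraMap B X.E (algebraMap A B a)) = algebraMap A Y.E a
          exact e.toAlgEquiv.commutes a }
    have hu : ∀ b : B, Y.proj (u b) = algebraMap B C b := by
      intro b
      show Y.proj (e.toAlgEquiv (algebraMap B X.E b)) = _
      rw [e.proj_apply]
      show X.proj (algebraMap B X.E b) = _
      rw [AlgHom.commutes]
    refine ⟨AlgHom.codRestrict (AlgHom.prod u (AlgHom.id A B)) (Y.fiberProd B) (fun b => ?_),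
      fun b => rfl⟩
    show Y.proj (u b) = algebraMap B C b
    exact hu b

end Groth.Agent.S5819
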