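import Groth.Statements.S5833
import Mathlib.RingTheory.Smooth.Kaehler
import Mathlib.LinearAlgebra.TensorProduct.RightExactness

set_option autoImplicit false
universe u v
open scoped TensorProduct
open EGA41
set_option linter.unusedSectionVars false

namespace Groth.Agent.S5833

open KaehlerDifferential

section General

variable {Λ A B E C : Type*} [CommRing Λ] [CommRing A] [CommRing B] [CommRing E] [CommRing C]
  [Algebra Λ A] [Algebra Λ B] [Algebra A B] [Algebra Λ E] [Algebra A E] [Algebra B E]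
  [Algebra E C] [Algebra Λ C] [Algebra A C] [Algebra B C]
  [IsScalarTower Λ A B] [IsScalarTower Λ A E] [IsScalarTower Λ B E] [IsScalarTower A B E]
  [IsScalarTower Λ E C] [IsScalarTower A E C] [IsScalarTower B E C]
  [IsScalarTower Λ A C] [IsScalarTower Λ B C] [IsScalarTower A B C]

variable (Λ B E C) in
/-- The map `C ⊗_B Ω_{B/Λ} → C ⊗_E Ω_{E/Λ}` induced by `B → E`. -/
noncomputable def tau : C ⊗[B] Ω[B⁄Λ] →ₗ[B] C ⊗[E] Ω[E⁄Λ] :=
  TensorProduct.lift
    (LinearMap.mk₂ B (fun (c : C) (ω : Ω[B⁄Λ]) =>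
        c ⊗ₜ[E] KaehlerDifferential.map Λ Λ B E ω)
      (fun c c' ω => by rw [TensorProduct.add_tmul])
      (fun b c ω => by rw [TensorProduct.smul_tmul'])
      (fun c ω ω' => by rw [map_add, TensorProduct.tmul_add])
      (fun b c ω => by
        rw [map_smul, ← IsScalarTower.algebraMap_smul E b, ← TensorProduct.smul_tmul,
          IsScalarTower.algebraMap_smul, TensorProduct.smul_tmul']))

theorem tau_tmul (c : C) (ω : Ω[B⁄Λ]) :
    tau Λ B E C (c ⊗ₜ ω) = c ⊗ₜ[E] KaehlerDifferential.map Λ Λ B E ω := rfl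

section Sigma

variable (hsurj : Function.Surjective (algebraMap B E))
  (hker : ∀ b : B, algebraMap B E b = 0 → (1 : C) ⊗ₜ[B] D Λ B b = 0)

/-- The function underlying the derivation `E → C ⊗_B Ω_{B/Λ}`. -/
noncomputable def dfun (e : E) : C ⊗[B] Ω[B⁄Λ] :=
  (1 : C) ⊗ₜ[B] D Λ B (Function.surjInv hsurj e)

include hker in
theorem dfun_eq (b : B) : dfun (Λ := Λ) (C := C) hsurj (algebraMap B E b) = (1 : C) ⊗ₜ[B] D Λ B b := by
  have h : algebraMap B E (Function.surjInv hsurj (algebraMap B E b) - b) = 0 := by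
    rw [map_sub, Function.surjInv_eq hsurj, sub_self]
  have h2 := hker _ h
  rw [map_sub, TensorProduct.tmul_sub, sub_eq_zero] at h2
  exact h2

/-- The derivation `E → C ⊗_B Ω_{B/Λ}`, `[b] ↦ 1 ⊗ db`. -/
noncomputable def derE : Derivation Λ E (C ⊗[B] Ω[B⁄Λ]) where
  toFun := dfun hsurj
  map_add' e e' := by
    obtain ⟨b, rfl⟩ := hsurj e
    obtain ⟨b', rfl⟩ := hsurj e'
    rw [← map_add, dfun_eq hsurj hker, dfun_eq hsurj hker, dfun_eq hsurj hker, map_add,
      TensorProduct.tmul_add]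
  map_smul' r e := by
    obtain ⟨b, rfl⟩ := hsurj e
    have h : r • algebraMap B E b = algebraMap B E (r • b) := by
      rw [Algebra.smul_def, Algebra.smul_def, map_mul, ← IsScalarTower.algebraMap_apply]
    rw [h, dfun_eq hsurj hker, dfun_eq hsurj hker, Derivation.map_smul, TensorProduct.tmul_smul,
      RingHom.id_apply]
  map_one_eq_zero' := by
    change dfun hsurj (1 : E) = 0
    rw [← map_one (algebraMap B E), dfun_eq hsurj hker, Derivation.map_one_eq_zero,
      TensorProduct.tmul_zero]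
  leibniz' e e' := by
    obtain ⟨b, rfl⟩ := hsurj e
    obtain ⟨b', rfl⟩ := hsurj e'
    change dfun hsurj (algebraMap B E b * algebraMap B E b') =
      algebraMap B E b • dfun hsurj (algebraMap B E b') +
        algebraMap B E b' • dfun hsurj (algebraMap B E b)
    rw [← map_mul, dfun_eq hsurj hker, dfun_eq hsurj hker, dfun_eq hsurj hker,
      Derivation.leibniz, TensorProduct.tmul_add, TensorProduct.tmul_smul,
      TensorProduct.tmul_smul, IsScalarTower.algebraMap_smul, IsScalarTower.algebraMap_smul]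

theorem derE_apply (b : B) :
    derE (Λ := Λ) (C := C) hsurj hker (algebraMap B E b) = (1 : C) ⊗ₜ[B] D Λ B b :=
  dfun_eq hsurj hker b

/-- The left inverse of `tau`. -/
noncomputable def sigma : C ⊗[E] Ω[E⁄Λ] →ₗ[C] C ⊗[B] Ω[B⁄Λ] :=
  LinearMap.liftBaseChange C (derE (Λ := Λ) (C := C) hsurj hker).liftKaehlerDifferential

theorem sigma_tau (z : C ⊗[B] Ω[B⁄Λ]) : sigma hsurj hker (tau Λ B E C z) = z := by
  induction z using TensorProduct.induction_on with
  | zero => rw [map_zero, map_zero]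
  | add x y hx hy => rw [map_add, map_add, hx, hy]
  | tmul c ω =>
    have hω : ω ∈ Submodule.span B (Set.range (D Λ B)) := by
      rw [KaehlerDifferential.span_range_derivation]; trivial
    induction hω using Submodule.span_induction with
    | mem x hx =>
      obtain ⟨b, rfl⟩ := hx
      rw [tau_tmul, KaehlerDifferential.map_D, sigma, LinearMap.liftBaseChange_tmul,
        Derivation.liftKaehlerDifferential_comp_D, derE_apply, TensorProduct.smul_tmul',
        smul_eq_mul, mul_one]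
    | zero => rw [TensorProduct.tmul_zero, map_zero, map_zero]
    | add x y _ _ hx hy => rw [TensorProduct.tmul_add, map_add, map_add, hx, hy]
    | smul b x _ hx =>
      rw [TensorProduct.tmul_smul, map_smul, ← IsScalarTower.algebraMap_smul C b,
        map_smul, hx, IsScalarTower.algebraMap_smul]

include hsurj hker in
theorem tau_injective : Function.Injective (tau Λ B E C) :=
  Function.LeftInverse.injective (g := sigma hsurj hker) (sigma_tau hsurj hker)

end Sigma

theorem map_map (ω : Ω[A⁄Λ]) :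
    KaehlerDifferential.map Λ Λ B E (KaehlerDifferential.map Λ Λ A B ω) =
      KaehlerDifferential.map Λ Λ A E ω := by
  have hω : ω ∈ Submodule.span A (Set.range (D Λ A)) := by
    rw [KaehlerDifferential.span_range_derivation]; trivial
  induction hω using Submodule.span_induction with
  | mem x hx =>
    obtain ⟨a, rfl⟩ := hx
    rw [KaehlerDifferential.map_D, KaehlerDifferential.map_D, KaehlerDifferential.map_D,
      ← IsScalarTower.algebraMap_apply]
  | zero => rw [map_zero, map_zero, map_zero]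
  | add x y _ _ hx hy => rw [map_add, map_add, map_add, hx, hy]
  | smul a x _ hx =>
    rw [map_smul (KaehlerDifferential.map Λ Λ A B), map_smul (KaehlerDifferential.map Λ Λ A E),
      ← IsScalarTower.algebraMap_smul B a ((KaehlerDifferential.map Λ Λ A B) x),
      map_smul (KaehlerDifferential.map Λ Λ B E), hx, IsScalarTower.algebraMap_smul]

variable (Λ A B C) in
/-- The map `C ⊗_A Ω_{A/Λ} → C ⊗_B Ω_{B/Λ}` as written in the statement. -/
noncomputable def imgB (z : C ⊗[A] Ω[A⁄Λ]) : C ⊗[B] Ω[B⁄Λ] :=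
  ((KaehlerDifferential.mapBaseChange Λ A B).baseChange C)
    ((TensorProduct.AlgebraTensorModule.cancelBaseChange A B C C Ω[A⁄Λ]).symm z)

theorem imgB_tmul (c : C) (ω : Ω[A⁄Λ]) :
    imgB Λ A B C (c ⊗ₜ ω) = c ⊗ₜ[B] KaehlerDifferential.map Λ Λ A B ω := by
  rw [imgB, TensorProduct.AlgebraTensorModule.cancelBaseChange_symm_tmul,
    LinearMap.baseChange_tmul, KaehlerDifferential.mapBaseChange_tmul, one_smul]

theorem imgB_zero : imgB Λ A B C 0 = 0 := by
  rw [imgB, map_zero, map_zero]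

theorem imgB_add (x y : C ⊗[A] Ω[A⁄Λ]) : imgB Λ A B C (x + y) = imgB Λ A B C x + imgB Λ A B C y := by
  rw [imgB, map_add, map_add]; rfl

variable (Λ A E C) in
/-- The map `C ⊗_A Ω_{A/Λ} → C ⊗_E Ω_{E/Λ}` induced by `A → E`. -/
noncomputable def mid : C ⊗[A] Ω[A⁄Λ] →ₗ[A] C ⊗[E] Ω[E⁄Λ] :=
  TensorProduct.lift
    (LinearMap.mk₂ A (fun (c : C) (ω : Ω[A⁄Λ]) =>
        c ⊗ₜ[E] KaehlerDifferential.map Λ Λ A E ω)
      (fun c c' ω => by rw [TensorProduct.add_tmul])
      (fun b c ω => by rw [TensorProduct.smul_tmul'])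
      (fun c ω ω' => by rw [map_add, TensorProduct.tmul_add])
      (fun b c ω => by
        rw [map_smul, ← IsScalarTower.algebraMap_smul E b, ← TensorProduct.smul_tmul,
          IsScalarTower.algebraMap_smul, TensorProduct.smul_tmul']))

theorem mid_tmul (c : C) (ω : Ω[A⁄Λ]) :
    mid Λ A E C (c ⊗ₜ ω) = c ⊗ₜ[E] KaehlerDifferential.map Λ Λ A E ω := rfl

theorem tau_imgB (z : C ⊗[A] Ω[A⁄Λ]) : tau Λ B E C (imgB Λ A B C z) = mid Λ A E C z := by
  induction z using TensorProduct.induction_on with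
  | zero => rw [imgB_zero, map_zero, map_zero]
  | add x y hx hy => rw [imgB_add, map_add, map_add, hx, hy]
  | tmul c ω => rw [imgB_tmul, tau_tmul, mid_tmul, map_map]

variable (Λ A B C) in
/-- The map `C ⊗_B Ω_{B/Λ} → C ⊗_B Ω_{B/A}`. -/
noncomputable def psi : C ⊗[B] Ω[B⁄Λ] →ₗ[C] C ⊗[B] Ω[B⁄A] :=
  (KaehlerDifferential.map Λ A B B).baseChange C

theorem psi_tmul (c : C) (ω : Ω[B⁄Λ]) :
    psi Λ A B C (c ⊗ₜ ω) = c ⊗ₜ[B] KaehlerDifferential.map Λ A B B ω :=
  LinearMap.baseChange_tmul _ _ _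

theorem exact_base : Function.Exact
    ((KaehlerDifferential.mapBaseChange Λ A B).baseChange C) (psi Λ A B C) := by
  have h := lTensor_exact C (KaehlerDifferential.exact_mapBaseChange_map Λ A B)
    (KaehlerDifferential.map_surjective Λ A B)
  intro y
  have := h y
  rw [psi, LinearMap.baseChange_eq_ltensor, LinearMap.baseChange_eq_ltensor]
  exact this

theorem psi_imgB (z : C ⊗[A] Ω[A⁄Λ]) : psi Λ A B C (imgB Λ A B C z) = 0 :=
  (exact_base _).2 ⟨_, rfl⟩

theorem exists_imgB_eq (y : C ⊗[B] Ω[B⁄Λ]) (hy : psi Λ A B C y = 0) :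
    ∃ z : C ⊗[A] Ω[A⁄Λ], imgB Λ A B C z = y := by
  obtain ⟨w, hw⟩ := (exact_base y).1 hy
  refine ⟨TensorProduct.AlgebraTensorModule.cancelBaseChange A B C C Ω[A⁄Λ] w, ?_⟩
  rw [imgB, LinearEquiv.symm_apply_apply, hw]

theorem mapBaseChange_imgB (z : C ⊗[A] Ω[A⁄Λ]) :
    KaehlerDifferential.mapBaseChange Λ B C (imgB Λ A B C z) =
      KaehlerDifferential.mapBaseChange Λ A C z := by
  induction z using TensorProduct.induction_on with
  | zero => rw [imgB_zero, map_zero, map_zero]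
  | add x y hx hy => rw [imgB_add, map_add, map_add, hx, hy]
  | tmul c ω =>
    rw [imgB_tmul, KaehlerDifferential.mapBaseChange_tmul, KaehlerDifferential.mapBaseChange_tmul]
    congr 1
    have hω : ω ∈ Submodule.span A (Set.range (D Λ A)) := by
      rw [KaehlerDifferential.span_range_derivation]; trivial
    induction hω using Submodule.span_induction with
    | mem x hx =>
      obtain ⟨a, rfl⟩ := hx
      rw [KaehlerDifferential.map_D, KaehlerDifferential.map_D, KaehlerDifferential.map_D,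
        ← IsScalarTower.algebraMap_apply]
    | zero => rw [map_zero, map_zero, map_zero]
    | add x y _ _ hx hy => rw [map_add, map_add, map_add, hx, hy]
    | smul a x _ hx =>
      rw [map_smul (KaehlerDifferential.map Λ Λ A B), map_smul (KaehlerDifferential.map Λ Λ A C),
        ← IsScalarTower.algebraMap_smul B a ((KaehlerDifferential.map Λ Λ A B) x),
        map_smul (KaehlerDifferential.map Λ Λ B C), hx, IsScalarTower.algebraMap_smul]

theorem delta_injective {L : Type*} [AddCommGroup L] (incl : L →+ E)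
    (hincl : Function.Injective incl) (hzero : ∀ l, algebraMap E C (incl l) = 0)
    (hsq : RingHom.ker (algebraMap E C) ^ 2 = ⊥) (g : C →ₐ[Λ] E)
    (hg : (IsScalarTower.toAlgHom Λ E C).comp g = AlgHom.id Λ C) :
    Function.Injective (fun l : L => (1 : C) ⊗ₜ[E] D Λ E (incl l)) := by
  intro l l' h
  apply hincl
  have h1 := retractionOfSectionOfKerSqZero_comp_kerToTensor g hsq hg
  have hl : incl l ∈ RingHom.ker (algebraMap E C) := hzero l
  have hl' : incl l' ∈ RingHom.ker (algebraMap E C) := hzero l'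
  have h2 : kerToTensor Λ E C ⟨incl l, hl⟩ = kerToTensor Λ E C ⟨incl l', hl'⟩ := h
  have h3 := congrArg (retractionOfSectionOfKerSqZero g hsq hg) h2
  rw [← LinearMap.comp_apply, ← LinearMap.comp_apply, h1] at h3
  exact congrArg Subtype.val h3

section Main

variable {L : Type*} [AddCommGroup L] (incl : L →+ E)
    (hincl : Function.Injective incl) (hzero : ∀ l, algebraMap E C (incl l) = 0)
    (hsq : RingHom.ker (algebraMap E C) ^ 2 = ⊥) (g : C →ₐ[Λ] E)
    (hg : (IsScalarTower.toAlgHom Λ E C).comp g = AlgHom.id Λ C)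
    (hsurj : Function.Surjective (algebraMap B E))
    (hker : ∀ b : B, algebraMap B E b = 0 → (1 : C) ⊗ₜ[B] D Λ B b = 0)

include hincl hzero hsq g hg hsurj hker

theorem main_a (z : C ⊗[A] Ω[A⁄Λ]) (l : L)
    (h : (1 : C) ⊗ₜ[E] D Λ E (incl l) = mid Λ A E C z) :
    l = 0 ↔ imgB Λ A B C z = 0 := by
  constructor
  · intro hl
    rw [hl, map_zero, map_zero, TensorProduct.tmul_zero, ← tau_imgB (B := B)] at h
    apply tau_injective (Λ := Λ) (C := C) hsurj hker
    rw [← h, map_zero]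
  · intro hz
    rw [← tau_imgB (B := B), hz, map_zero] at h
    apply delta_injective incl hincl hzero hsq g hg
    change (1 : C) ⊗ₜ[E] D Λ E (incl l) = (1 : C) ⊗ₜ[E] D Λ E (incl 0)
    rw [h, map_zero, map_zero, TensorProduct.tmul_zero]

theorem main_b1 (z : C ⊗[A] Ω[A⁄Λ]) (l : L) (x : B) (hl : incl l = algebraMap B E x)
    (h : (1 : C) ⊗ₜ[E] D Λ E (incl l) = mid Λ A E C z) :
    (1 : C) ⊗ₜ[B] D A B x = 0 := by
  have h1 : tau Λ B E C ((1 : C) ⊗ₜ[B] D Λ B x) = tau Λ B E C (imgB Λ A B C z) := by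
    rw [tau_imgB, ← h, tau_tmul, KaehlerDifferential.map_D, hl]
  have h2 := tau_injective (Λ := Λ) (C := C) hsurj hker h1
  have h3 := psi_imgB (Λ := Λ) (A := A) (B := B) (C := C) z
  rw [← h2, psi_tmul, KaehlerDifferential.map_D] at h3
  exact h3

theorem main_b2 (l : L) (x : B) (hl : incl l = algebraMap B E x) (hx : algebraMap B C x = 0)
    (h : (1 : C) ⊗ₜ[B] D A B x = 0) :
    ∃ z : C ⊗[A] Ω[A⁄Λ], KaehlerDifferential.mapBaseChange Λ A C z = 0 ∧
      (1 : C) ⊗ₜ[E] D Λ E (incl l) = mid Λ A E C z := by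
  have h1 : psi Λ A B C ((1 : C) ⊗ₜ[B] D Λ B x) = 0 := by
    rw [psi_tmul, KaehlerDifferential.map_D]
    exact h
  obtain ⟨z, hz⟩ := exists_imgB_eq _ h1
  refine ⟨z, ?_, ?_⟩
  · rw [← mapBaseChange_imgB (B := B), hz, KaehlerDifferential.mapBaseChange_tmul, one_smul,
      KaehlerDifferential.map_D, hx, map_zero]
  · rw [← tau_imgB (B := B), hz, tau_tmul, KaehlerDifferential.map_D, hl]

end Main

end General

section Inst

variable (Λ : Type u) (A : Type v) {B : Type v} [CommRing Λ]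
    [CommRing A] [CommRing B] [Algebra Λ A] [Algebra Λ B] [Algebra A B] [IsScalarTower Λ A B]
    (K : Ideal B)

/-- The infinitesimal extension regarded over `A`. -/
noncomputable abbrev XK : Exal.Ext A (B ⧸ K) K.Cotangent :=
  (Exal.Ext.infinitesimal K).restrictBase A

/-- Its middle ring with the structures used for the characteristic homomorphism. -/
abbrev EK : Type v := (XK A K).CharCarrier Λ

noncomputable instance algBE : Algebra B (EK Λ A K) := inferInstanceAs (Algebra B (B ⧸ K ^ 2))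

theorem algebraMap_BE (b : B) : algebraMap B (EK Λ A K) b = Ideal.Quotient.mk (K ^ 2) b := rfl

instance towerABE : IsScalarTower A B (EK Λ A K) :=
  IsScalarTower.of_algebraMap_eq (fun _ => rfl)

instance towerΛBE : IsScalarTower Λ B (EK Λ A K) :=
  IsScalarTower.of_algebraMap_eq (fun r => by
    change algebraMap B (B ⧸ K ^ 2) (algebraMap A B (algebraMap Λ A r)) =
      algebraMap B (B ⧸ K ^ 2) (algebraMap Λ B r)
    rw [← IsScalarTower.algebraMap_apply Λ A B])

instance towerBEC : IsScalarTower B (EK Λ A K) (B ⧸ K) :=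
  IsScalarTower.of_algebraMap_eq (fun _ => rfl)

theorem hzeroK (l : K.Cotangent) :
    algebraMap (EK Λ A K) (B ⧸ K) ((XK A K).inclC Λ l) = 0 :=
  ((XK A K).isExtension.exact _).2 ⟨l, rfl⟩

theorem hsqK : RingHom.ker (algebraMap (EK Λ A K) (B ⧸ K)) ^ 2 = ⊥ := by
  rw [pow_two, eq_bot_iff, Ideal.mul_le]
  intro x hx y hy
  obtain ⟨l, rfl⟩ := ((XK A K).isExtension.exact x).1 hx
  obtain ⟨l', rfl⟩ := ((XK A K).isExtension.exact y).1 hy
  rw [Ideal.mem_bot]
  have h := (XK A K).isExtension.mul_incl ((XK A K).incl l) l'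
  rw [((XK A K).isExtension.exact _).2 ⟨l, rfl⟩, zero_smul, map_zero] at h
  exact h

theorem hsurjK : Function.Surjective (algebraMap B (EK Λ A K)) :=
  Ideal.Quotient.mk_surjective

theorem hkerK (b : B) (hb : algebraMap B (EK Λ A K) b = 0) :
    (1 : B ⧸ K) ⊗ₜ[B] D Λ B b = 0 := by
  have hb' : b ∈ K ^ 2 := Ideal.Quotient.eq_zero_iff_mem.1 hb
  rw [pow_two] at hb'
  refine Submodule.smul_induction_on hb' ?_ ?_
  · intro x hx y hy
    rw [smul_eq_mul, Derivation.leibniz, TensorProduct.tmul_add, TensorProduct.tmul_smul,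
      TensorProduct.tmul_smul, TensorProduct.smul_tmul', TensorProduct.smul_tmul',
      Algebra.smul_def, Algebra.smul_def, mul_one, mul_one, Ideal.Quotient.algebraMap_eq,
      Ideal.Quotient.eq_zero_iff_mem.2 hx, Ideal.Quotient.eq_zero_iff_mem.2 hy,
      TensorProduct.zero_tmul, TensorProduct.zero_tmul, add_zero]
  · intro x y hx hy
    rw [map_add, TensorProduct.tmul_add, hx, hy, add_zero]

theorem incl_toCotangent (x : B) (hx : x ∈ K) :
    (XK A K).inclC Λ (K.toCotangent ⟨x, hx⟩) = algebraMap B (EK Λ A K) x :=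
  Ideal.toCotangent_to_quotient_square K ⟨x, hx⟩

end Inst

/-- Let Λ → A → B be ring maps, K an ideal of B, C = B ⧸ K, and suppose E = B ⧸ K², as an extension of C
by K/K², is Λ-trivial. Let χ : Υ_{C/A/Λ} → K/K² be the characteristic homomorphism of E as an
A-extension, relative to Λ → A. Then: (a) the kernel of χ consists of the elements of Υ_{C/A/Λ} ⊆ C
⊗_A Ω_{A/Λ} whose image in C ⊗_B Ω_{B/Λ} is zero (that image map is written as the base change to C
of B ⊗_A Ω_{A/Λ} → Ω_{B/Λ}, through the canonical identification C ⊗_B (B ⊗_A Ω_{A/Λ}) = C ⊗_A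
Ω_{A/Λ}); (b) the image of χ is the kernel of the conormal map K/K² → C ⊗_B Ω_{B/A}, x ↦ 1 ⊗ dx.
This is the exact sequence 0 → Υ^C_{B/A/Λ} → Υ_{C/A/Λ} → K/K² → C ⊗_B Ω_{B/A} → Ω_{C/A} → 0 up to
its last two (conormal-sequence) terms. -/
theorem result {Λ : Type u} {A B : Type v} [CommRing Λ]
    [CommRing A] [CommRing B] [Algebra Λ A] [Algebra Λ B] [Algebra A B] [IsScalarTower Λ A B] (K : Ideal B)
    (htriv : ((Exal.Ext.infinitesimal K).restrictBase A).IsTrivialOver Λ)
    (χ : ↥(EGA41.imperfection Λ A (B ⧸ K)) →ₗ[B ⧸ K] K.Cotangent)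
    (hχ : ((Exal.Ext.infinitesimal K).restrictBase A).IsCharHom Λ χ) :
    (∀ z : ↥(EGA41.imperfection Λ A (B ⧸ K)),
        χ z = 0 ↔
          ((KaehlerDifferential.mapBaseChange Λ A B).baseChange (B ⧸ K))
              ((TensorProduct.AlgebraTensorModule.cancelBaseChange A B (B ⧸ K) (B ⧸ K) Ω[A⁄Λ]).symm
                (z : (B ⧸ K) ⊗[A] Ω[A⁄Λ])) = 0) ∧
      ∀ (x : B) (hx : x ∈ K),
        K.toCotangent ⟨x, hx⟩ ∈ LinearMap.range χ ↔
          (1 : B ⧸ K) ⊗ₜ[B] KaehlerDifferential.D A B x = (0 : (B ⧸ K) ⊗[B] Ω[B⁄A]) := by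
  obtain ⟨s, hs⟩ := htriv
  let g : (B ⧸ K) →ₐ[Λ] EK Λ A K :=
    { toFun := fun c => s c
      map_one' := map_one s
      map_mul' := map_mul s
      map_zero' := map_zero s
      map_add' := map_add s
      commutes' := fun r => s.commutes r }
  have hg : (IsScalarTower.toAlgHom Λ (EK Λ A K) (B ⧸ K)).comp g = AlgHom.id Λ (B ⧸ K) :=
    AlgHom.ext hs
  have hincl : Function.Injective ((XK A K).inclC Λ) := (XK A K).isExtension.incl_injective
  have key : ∀ z : ↥(EGA41.imperfection Λ A (B ⧸ K)),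
      (1 : B ⧸ K) ⊗ₜ[EK Λ A K] D Λ (EK Λ A K) ((XK A K).inclC Λ (χ z)) =
        mid Λ A (EK Λ A K) (B ⧸ K) (z : (B ⧸ K) ⊗[A] Ω[A⁄Λ]) := fun z => hχ z
  refine ⟨fun z => ?_, fun x hx => ⟨?_, ?_⟩⟩
  · exact main_a (B := B) ((XK A K).inclC Λ) hincl (hzeroK Λ A K) (hsqK Λ A K) g hg
      (hsurjK Λ A K) (hkerK Λ A K) _ _ (key z)
  · rintro ⟨z, hz⟩
    refine main_b1 (B := B) ((XK A K).inclC Λ) hincl (hzeroK Λ A K) (hsqK Λ A K) g hg
      (hsurjK Λ A K) (hkerK Λ A K) (z : (B ⧸ K) ⊗[A] Ω[A⁄Λ]) (χ z) x ?_ (key z)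
    rw [hz]
    exact incl_toCotangent Λ A K x hx
  · intro h
    obtain ⟨z, hz1, hz2⟩ := main_b2 (A := A) (B := B) ((XK A K).inclC Λ) hincl (hzeroK Λ A K)
      (hsqK Λ A K) g hg (hsurjK Λ A K) (hkerK Λ A K) (K.toCotangent ⟨x, hx⟩) x
      (incl_toCotangent Λ A K x hx) (Ideal.Quotient.eq_zero_iff_mem.2 hx) h
    refine ⟨⟨z, hz1⟩, ?_⟩
    apply delta_injective ((XK A K).inclC Λ) hincl (hzeroK Λ A K) (hsqK Λ A K) g hg
    change (1 : B ⧸ K) ⊗ₜ[EK Λ A K] D Λ (EK Λ A K) ((XK A K).inclC Λ (χ ⟨z, hz1⟩)) = _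
    rw [key ⟨z, hz1⟩]
    exact hz2.symm

end Groth.Agent.S5833
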