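import Groth.Statements.S5836
import Mathlib.LinearAlgebra.Dimension.RankNullity
import Mathlib.LinearAlgebra.Dimension.DivisionRing

set_option autoImplicit false
universe u u' u'' w
open scoped TensorProduct
open EGA41
set_option linter.unusedSectionVars false

namespace Groth.Agent.S5836

open KaehlerDifferential

section Functoriality

variable {R S T A B C : Type*} [CommRing R] [CommRing S] [CommRing T] [CommRing A] [CommRing B]
  [CommRing C]
  [Algebra R A] [Algebra R S] [Algebra A B] [Algebra S B] [Algebra R B]
  [IsScalarTower R A B] [IsScalarTower R S B]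
  [Algebra S T] [Algebra B C] [Algebra T C] [Algebra S C] [IsScalarTower S B C] [IsScalarTower S T C]
  [Algebra R T] [Algebra A C] [Algebra R C] [IsScalarTower R A C] [IsScalarTower R T C]
  [IsScalarTower A B C]

theorem map_map_gen (ω : Ω[A⁄R]) :
    KaehlerDifferential.map S T B C (KaehlerDifferential.map R S A B ω) =
      KaehlerDifferential.map R T A C ω := by
  have hω : ω ∈ Submodule.span A (Set.range (D R A)) := by
    rw [KaehlerDifferential.span_range_derivation]; trivial
  induction hω using Submodule.span_induction with
  | mem x hx =>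
    obtain ⟨a, rfl⟩ := hx
    rw [KaehlerDifferential.map_D, KaehlerDifferential.map_D, KaehlerDifferential.map_D,
      ← IsScalarTower.algebraMap_apply]
  | zero => rw [map_zero, map_zero, map_zero]
  | add x y _ _ hx hy => rw [map_add, map_add, map_add, hx, hy]
  | smul a x _ hx =>
    rw [map_smul (KaehlerDifferential.map R S A B), map_smul (KaehlerDifferential.map R T A C),
      ← IsScalarTower.algebraMap_smul B a ((KaehlerDifferential.map R S A B) x),
      map_smul (KaehlerDifferential.map S T B C), hx, IsScalarTower.algebraMap_smul]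

end Functoriality

section Tower

variable {k : Type u} {k' : Type u'} {K L : Type w}
    [Field k] [Field k'] [Field K] [Field L]
    [Algebra k k'] [Algebra k K] [Algebra k' K] [IsScalarTower k k' K]
    [Algebra K L] [Algebra k L] [Algebra k' L]
    [IsScalarTower k K L] [IsScalarTower k' K L]

theorem tower_kk'L (k : Type u) (k' : Type u') (K L : Type w)
    [Field k] [Field k'] [Field K] [Field L]
    [Algebra k k'] [Algebra k K] [Algebra k' K] [IsScalarTower k k' K]
    [Algebra K L] [Algebra k L] [Algebra k' L]
    [IsScalarTower k K L] [IsScalarTower k' K L] : IsScalarTower k k' L :=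
  IsScalarTower.of_algebraMap_eq (fun x => by
    rw [IsScalarTower.algebraMap_apply k K L, IsScalarTower.algebraMap_apply k k' K,
      ← IsScalarTower.algebraMap_apply k' K L])

variable (k k' K L) in
/-- The map `L ⊗_K Ω_{K/k} → L ⊗_K Ω_{K/k'}`. -/
noncomputable abbrev P : L ⊗[K] Ω[K⁄k] →ₗ[L] L ⊗[K] Ω[K⁄k'] :=
  (KaehlerDifferential.map k k' K K).baseChange L

theorem nat1 (z : L ⊗[K] Ω[K⁄k]) :
    haveI := tower_kk'L k k' K L
    KaehlerDifferential.map k k' L L (KaehlerDifferential.mapBaseChange k K L z) =
      KaehlerDifferential.mapBaseChange k' K L (P k k' K L z) := by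
  have := tower_kk'L k k' K L
  induction z using TensorProduct.induction_on with
  | zero => rw [map_zero, map_zero, map_zero, map_zero]
  | add x y hx hy => rw [map_add, map_add, map_add, map_add, hx, hy]
  | tmul c ω =>
    rw [LinearMap.baseChange_tmul, KaehlerDifferential.mapBaseChange_tmul,
      KaehlerDifferential.mapBaseChange_tmul, map_smul, map_map_gen, map_map_gen]

theorem lift_t (t : haveI := tower_kk'L k k' K L; L ⊗[k'] Ω[k'⁄k]) :
    haveI := tower_kk'L k k' K L
    ∃ z₁ : L ⊗[K] Ω[K⁄k],
      KaehlerDifferential.mapBaseChange k K L z₁ = KaehlerDifferential.mapBaseChange k k' L t ∧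
        P k k' K L z₁ = 0 := by
  have := tower_kk'L k k' K L
  induction t using TensorProduct.induction_on with
  | zero => exact ⟨0, by rw [map_zero, map_zero], map_zero _⟩
  | add x y hx hy =>
    obtain ⟨z₁, h1, h2⟩ := hx
    obtain ⟨z₂, h3, h4⟩ := hy
    exact ⟨z₁ + z₂, by rw [map_add, map_add, h1, h3], by rw [map_add, h2, h4, add_zero]⟩
  | tmul c ω =>
    refine ⟨c ⊗ₜ KaehlerDifferential.map k k k' K ω, ?_, ?_⟩
    · rw [KaehlerDifferential.mapBaseChange_tmul, KaehlerDifferential.mapBaseChange_tmul,
        map_map_gen]
    · rw [LinearMap.baseChange_tmul, map_map_gen]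
      have h0 : KaehlerDifferential.map k k' k' K ω = 0 := by
        have hω : ω ∈ Submodule.span k' (Set.range (D k k')) := by
          rw [KaehlerDifferential.span_range_derivation]; trivial
        induction hω using Submodule.span_induction with
        | mem x hx =>
          obtain ⟨a, rfl⟩ := hx
          rw [KaehlerDifferential.map_D, Derivation.map_algebraMap]
        | zero => rw [map_zero]
        | add x y _ _ hx hy => rw [map_add, hx, hy, add_zero]
        | smul a x _ hx => rw [map_smul, hx, smul_zero]
      rw [h0, TensorProduct.tmul_zero]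

theorem P_surjective : Function.Surjective (P k k' K L) :=
  LinearMap.baseChange_surjective L (KaehlerDifferential.map_surjective k k' K)

theorem P_mem (z : L ⊗[K] Ω[K⁄k]) (hz : z ∈ EGA41.imperfection k K L) :
    P k k' K L z ∈ EGA41.imperfection k' K L := by
  have := tower_kk'L k k' K L
  have h : KaehlerDifferential.mapBaseChange k K L z = 0 := hz
  change KaehlerDifferential.mapBaseChange k' K L (P k k' K L z) = 0
  rw [← nat1, h, map_zero]

theorem part1 (w : L ⊗[K] Ω[K⁄k']) (hw : w ∈ EGA41.imperfection k' K L) :
    ∃ z : L ⊗[K] Ω[K⁄k], z ∈ EGA41.imperfection k K L ∧ P k k' K L z = w := by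
  have := tower_kk'L k k' K L
  obtain ⟨z₀, hz₀⟩ := P_surjective (k := k) (k' := k') (K := K) (L := L) w
  have hw' : KaehlerDifferential.mapBaseChange k' K L w = 0 := hw
  have h1 : KaehlerDifferential.map k k' L L (KaehlerDifferential.mapBaseChange k K L z₀) = 0 := by
    rw [nat1, hz₀, hw']
  obtain ⟨t, ht⟩ := (KaehlerDifferential.exact_mapBaseChange_map k k' L _).1 h1
  obtain ⟨z₁, h2, h3⟩ := lift_t (K := K) t
  refine ⟨z₀ - z₁, ?_, ?_⟩
  · change KaehlerDifferential.mapBaseChange k K L (z₀ - z₁) = 0
    rw [map_sub, h2, ht, sub_self]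
  · rw [map_sub, h3, hz₀, sub_zero]

end Tower

/-- For fields k ⊆ k' ⊆ k'' ⊆ K ⊆ L put Δ(L/K, a/b) = ker(Υ_{L/K/b} → Υ_{L/K/a}) ⊆ L ⊗_K Ω_{K/b}. Then 0
→ Δ(L/K, k'/k) → Δ(L/K, k''/k) → Δ(L/K, k''/k') → 0 is exact: stated as the surjectivity of the map
induced by L ⊗_K Ω_{K/k} → L ⊗_K Ω_{K/k'} (exactness on the left and in the middle hold by
construction), together with the resulting identity of ranks d(L/K, k''/k) = d(L/K, k''/k') + d(L/K,
k'/k). -/
theorem result {k : Type u} {k' : Type u'} {k'' : Type u''} {K L : Type w}
    [Field k] [Field k'] [Field k''] [Field K] [Field L]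
    [Algebra k k'] [Algebra k k''] [Algebra k' k''] [IsScalarTower k k' k'']
    [Algebra k K] [Algebra k' K] [Algebra k'' K] [IsScalarTower k k' K] [IsScalarTower k' k'' K]
    [IsScalarTower k k'' K] [Algebra K L] [Algebra k L] [Algebra k' L] [Algebra k'' L]
    [IsScalarTower k K L] [IsScalarTower k' K L] [IsScalarTower k'' K L] :
    (∀ w : L ⊗[K] Ω[K⁄k'], w ∈ EGA41.imperfection k' K L →
        (KaehlerDifferential.map k' k'' K K).baseChange L w = 0 →
          ∃ z : L ⊗[K] Ω[K⁄k], z ∈ EGA41.imperfection k K L ∧
            (KaehlerDifferential.map k k'' K K).baseChange L z = 0 ∧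
              (KaehlerDifferential.map k k' K K).baseChange L z = w) ∧
      Module.rank L ↥(EGA41.imperfection k K L ⊓
            LinearMap.ker ((KaehlerDifferential.map k k'' K K).baseChange L)) =
        Module.rank L ↥(EGA41.imperfection k' K L ⊓
              LinearMap.ker ((KaehlerDifferential.map k' k'' K K).baseChange L)) +
          Module.rank L ↥(EGA41.imperfection k K L ⊓
              LinearMap.ker ((KaehlerDifferential.map k k' K K).baseChange L)) := by
  have comp2 : ∀ z : L ⊗[K] Ω[K⁄k],
      (KaehlerDifferential.map k' k'' K K).baseChange L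
        ((KaehlerDifferential.map k k' K K).baseChange L z) =
      (KaehlerDifferential.map k k'' K K).baseChange L z := by
    intro z
    induction z using TensorProduct.induction_on with
    | zero => rw [map_zero, map_zero, map_zero]
    | add x y hx hy => rw [map_add, map_add, map_add, hx, hy]
    | tmul c ω =>
      rw [LinearMap.baseChange_tmul, LinearMap.baseChange_tmul, LinearMap.baseChange_tmul,
        map_map_gen]
  constructor
  · intro w hw hw2
    obtain ⟨z, hz, hzw⟩ := part1 (k := k) w hw
    exact ⟨z, hz, by rw [← comp2, hzw, hw2], hzw⟩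
  · have hmaps : ∀ x ∈ EGA41.imperfection k K L ⊓
          LinearMap.ker ((KaehlerDifferential.map k k'' K K).baseChange L),
        P k k' K L x ∈ EGA41.imperfection k' K L ⊓
          LinearMap.ker ((KaehlerDifferential.map k' k'' K K).baseChange L) := fun x hx =>
      ⟨P_mem x hx.1, by
        change (KaehlerDifferential.map k' k'' K K).baseChange L (P k k' K L x) = 0
        rw [comp2]
        exact hx.2⟩
    have hsurj : Function.Surjective ((P k k' K L).restrict hmaps) := by
      rintro ⟨w, hw1, hw2⟩
      obtain ⟨z, hz, hzw⟩ := part1 (k := k) w hw1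
      refine ⟨⟨z, hz, ?_⟩, Subtype.ext hzw⟩
      change (KaehlerDifferential.map k k'' K K).baseChange L z = 0
      rw [← comp2, hzw]
      exact hw2
    have hker : LinearMap.ker ((P k k' K L).restrict hmaps) =
        Submodule.comap (EGA41.imperfection k K L ⊓
          LinearMap.ker ((KaehlerDifferential.map k k'' K K).baseChange L)).subtype
          (EGA41.imperfection k K L ⊓
            LinearMap.ker ((KaehlerDifferential.map k k' K K).baseChange L)) := by
      ext x
      rw [LinearMap.mem_ker, Submodule.mem_comap]
      constructor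
      · intro hx
        exact ⟨x.2.1, congrArg Subtype.val hx⟩
      · intro hx
        exact Subtype.ext hx.2
    have hle : EGA41.imperfection k K L ⊓
          LinearMap.ker ((KaehlerDifferential.map k k' K K).baseChange L) ≤
        EGA41.imperfection k K L ⊓
          LinearMap.ker ((KaehlerDifferential.map k k'' K K).baseChange L) := fun x hx =>
      ⟨hx.1, by
        have h2 : (KaehlerDifferential.map k k' K K).baseChange L x = 0 := hx.2
        change (KaehlerDifferential.map k k'' K K).baseChange L x = 0
        rw [← comp2, h2, map_zero]⟩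
    have h := LinearMap.rank_range_add_rank_ker (R := L)
      (M := ↥(EGA41.imperfection k K L ⊓
          LinearMap.ker ((KaehlerDifferential.map k k'' K K).baseChange L)))
      (M₁ := ↥(EGA41.imperfection k' K L ⊓
          LinearMap.ker ((KaehlerDifferential.map k' k'' K K).baseChange L)))
      ((P k k' K L).restrict hmaps)
    rw [rank_range_of_surjective _ hsurj, hker,
      (Submodule.comapSubtypeEquivOfLe hle).rank_eq] at h
    exact h.symm

end Groth.Agent.S5836
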