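import Groth.Statements.S5820
import Groth.Agent.S5833
import Groth.Agent.S5836

set_option autoImplicit false
universe u v
open EGA41
open scoped TensorProduct
set_option linter.unusedSectionVars false

namespace Groth.Agent.S5820

open KaehlerDifferential
open Groth.Agent.S5833 (mid mid_tmul delta_injective)

section General

variable {Λ A E C : Type*} [CommRing Λ] [CommRing A] [CommRing E] [CommRing C]
  [Algebra Λ A] [Algebra Λ E] [Algebra A E]
  [Algebra E C] [Algebra Λ C] [Algebra A C]
  [IsScalarTower Λ A E] [IsScalarTower Λ E C] [IsScalarTower A E C] [IsScalarTower Λ A C]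

theorem mapBaseChange_mid (z : C ⊗[A] Ω[A⁄Λ]) :
    KaehlerDifferential.mapBaseChange Λ E C (mid Λ A E C z) =
      KaehlerDifferential.mapBaseChange Λ A C z := by
  induction z using TensorProduct.induction_on with
  | zero => rw [map_zero, map_zero, map_zero]
  | add x y hx hy => rw [map_add, map_add, map_add, hx, hy]
  | tmul c ω =>
    rw [mid_tmul, KaehlerDifferential.mapBaseChange_tmul, KaehlerDifferential.mapBaseChange_tmul,
      Groth.Agent.S5836.map_map_gen]

theorem mid_smul (c : C) (z : C ⊗[A] Ω[A⁄Λ]) : mid Λ A E C (c • z) = c • mid Λ A E C z := by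
  induction z using TensorProduct.induction_on with
  | zero => rw [smul_zero, map_zero, smul_zero]
  | add x y hx hy => rw [smul_add, map_add, map_add, hx, hy, smul_add]
  | tmul c' ω =>
    rw [TensorProduct.smul_tmul', mid_tmul, mid_tmul, TensorProduct.smul_tmul']

section Main

variable {L : Type*} [AddCommGroup L] [Module C L] (incl : L →+ E)
    (hincl : Function.Injective incl) (hzero : ∀ l, algebraMap E C (incl l) = 0)
    (hexact : ∀ e : E, algebraMap E C e = 0 → ∃ l, incl l = e)
    (hmul : ∀ (e : E) (l : L), e * incl l = incl (algebraMap E C e • l))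
    (hsurj : Function.Surjective (algebraMap E C))

/-- The map `l ↦ 1 ⊗ d(i l)`. -/
noncomputable def delta (l : L) : C ⊗[E] Ω[E⁄Λ] := (1 : C) ⊗ₜ[E] D Λ E (incl l)

theorem delta_add (l l' : L) :
    delta (Λ := Λ) (C := C) incl (l + l') = delta incl l + delta incl l' := by
  rw [delta, delta, delta, map_add, map_add, TensorProduct.tmul_add]

include hzero hmul hsurj in
theorem delta_smul (c : C) (l : L) :
    delta (Λ := Λ) (C := C) incl (c • l) = c • delta incl l := by
  obtain ⟨e, rfl⟩ := hsurj c
  rw [delta, delta, ← hmul, Derivation.leibniz, TensorProduct.tmul_add, TensorProduct.tmul_smul,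
    TensorProduct.tmul_smul, IsScalarTower.algebraMap_smul,
    TensorProduct.smul_tmul' (incl l), Algebra.smul_def (incl l), hzero, zero_mul,
    TensorProduct.zero_tmul, add_zero]

include hexact hsurj in
theorem exists_delta_eq (y : C ⊗[E] Ω[E⁄Λ])
    (hy : KaehlerDifferential.mapBaseChange Λ E C y = 0) :
    ∃ l : L, delta (Λ := Λ) (C := C) incl l = y := by
  obtain ⟨x, rfl⟩ := (KaehlerDifferential.exact_kerCotangentToTensor_mapBaseChange Λ E C hsurj y).1 hy
  obtain ⟨k, rfl⟩ := Ideal.toCotangent_surjective _ x
  obtain ⟨l, hl⟩ := hexact k.1 k.2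
  refine ⟨l, ?_⟩
  rw [KaehlerDifferential.kerCotangentToTensor_toCotangent, delta, hl]

include hincl hzero hexact hmul hsurj in
theorem existsUnique_general (hsq : RingHom.ker (algebraMap E C) ^ 2 = ⊥) (g : C →ₐ[Λ] E)
    (hg : (IsScalarTower.toAlgHom Λ E C).comp g = AlgHom.id Λ C)
    (S : Submodule C (C ⊗[A] Ω[A⁄Λ]))
    (hS : ∀ z ∈ S, KaehlerDifferential.mapBaseChange Λ A C z = 0) :
    ∃! χ : S →ₗ[C] L, ∀ z : S, delta (Λ := Λ) (C := C) incl (χ z) = mid Λ A E C z := by
  have hinj : Function.Injective (delta (Λ := Λ) (C := C) incl) :=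
    delta_injective incl hincl hzero hsq g hg
  have hex : ∀ z : S, ∃ l : L, delta (Λ := Λ) (C := C) incl l = mid Λ A E C z := fun z =>
    exists_delta_eq incl hexact hsurj _ (by rw [mapBaseChange_mid]; exact hS z.1 z.2)
  choose f hf using hex
  refine ⟨{ toFun := f, map_add' := fun z z' => ?_, map_smul' := fun c z => ?_ }, hf, ?_⟩
  · apply hinj
    rw [delta_add, hf, hf, hf, Submodule.coe_add, map_add]
  · apply hinj
    rw [RingHom.id_apply, delta_smul incl hzero hmul hsurj, hf, hf, Submodule.coe_smul, mid_smul]
  · intro χ' hχ'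
    apply LinearMap.ext
    intro z
    apply hinj
    rw [hχ' z]
    exact (hf z).symm

end Main

end General

section Inst

variable (A : Type u) {B C L : Type v} [CommRing A] [CommRing B] [CommRing C]
    [Algebra A B] [Algebra B C] [Algebra A C] [IsScalarTower A B C] [AddCommGroup L] [Module C L]
    (X : Exal.Ext B C L)

theorem hzeroX (l : L) : algebraMap (X.CharCarrier A) C (X.inclC A l) = 0 :=
  (X.isExtension.exact _).2 ⟨l, rfl⟩

theorem hexactX (e : X.CharCarrier A) (he : algebraMap (X.CharCarrier A) C e = 0) :
    ∃ l, X.inclC A l = e :=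
  (X.isExtension.exact e).1 he

theorem hmulX (e : X.CharCarrier A) (l : L) :
    e * X.inclC A l = X.inclC A (algebraMap (X.CharCarrier A) C e • l) :=
  X.isExtension.mul_incl e l

theorem hsurjX : Function.Surjective (algebraMap (X.CharCarrier A) C) :=
  X.isExtension.proj_surjective

theorem hsqX : RingHom.ker (algebraMap (X.CharCarrier A) C) ^ 2 = ⊥ := by
  rw [pow_two, eq_bot_iff, Ideal.mul_le]
  intro x hx y hy
  obtain ⟨l, rfl⟩ := (X.isExtension.exact x).1 hx
  obtain ⟨l', rfl⟩ := (X.isExtension.exact y).1 hy
  rw [Ideal.mem_bot]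
  have h := X.isExtension.mul_incl (X.incl l) l'
  rw [(X.isExtension.exact _).2 ⟨l, rfl⟩, zero_smul, map_zero] at h
  exact h

/-- The section of an `A`-trivial extension as an algebra map into the carrier used for the
characteristic homomorphism. -/
theorem exists_section (hX : X.IsTrivialOver A) :
    ∃ g : C →ₐ[A] X.CharCarrier A,
      (IsScalarTower.toAlgHom A (X.CharCarrier A) C).comp g = AlgHom.id A C := by
  obtain ⟨s, hs⟩ := hX
  exact ⟨{ toFun := fun c => s c
           map_one' := map_one s
           map_mul' := map_mul s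
           map_zero' := map_zero s
           map_add' := map_add s
           commutes' := fun r => s.commutes r }, AlgHom.ext hs⟩

theorem isCharHom_iff (χ : ↥(EGA41.imperfection A B C) →ₗ[C] L) :
    X.IsCharHom A χ ↔ ∀ z : ↥(EGA41.imperfection A B C),
      delta (Λ := A) (C := C) (X.inclC A) (χ z) =
        mid A B (X.CharCarrier A) C (z : C ⊗[B] Ω[B⁄A]) :=
  Iff.rfl

end Inst

/-- For ring maps A → B → C, a C-module L and a B-extension X of C by L with middle ring E which is
A-trivial, there is exactly one C-linear map χ from the imperfection module Υ_{C/B/A} = ker(C ⊗_B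
Ω_{B/A} → Ω_{C/A}) to L making the defining square commute, i.e. such that z ↦ 1 ⊗ d(χ z) ∈ C ⊗_E
Ω_{E/A} agrees on Υ_{C/B/A} with the map induced by B → E. This χ is the characteristic homomorphism
of X. (The published statement also asserts that both rows of its diagram are exact; this row states
only the commutativity of the left square and the existence and uniqueness of χ.) -/
theorem result {A : Type u} {B C L : Type v} [CommRing A] [CommRing B] [CommRing C]
    [Algebra A B] [Algebra B C] [Algebra A C] [IsScalarTower A B C] [AddCommGroup L] [Module C L]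
    (X : Exal.Ext B C L) (hX : X.IsTrivialOver A) :
    ∃! χ : ↥(EGA41.imperfection A B C) →ₗ[C] L, X.IsCharHom A χ := by
  obtain ⟨g, hg⟩ := exists_section A X hX
  exact existsUnique_general (X.inclC A) X.isExtension.incl_injective (hzeroX A X) (hexactX A X)
    (hmulX A X) (hsurjX A X) (hsqX A X) g hg (EGA41.imperfection A B C) (fun z hz => hz)

end Groth.Agent.S5820
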