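import Groth.Statements.S5821
import Groth.Agent.S5820

set_option autoImplicit false
universe u v
open EGA41
open scoped TensorProduct
set_option linter.unusedSectionVars false

namespace Groth.Agent.S5821

open KaehlerDifferential
open Groth.Agent.S5833 (mid mid_tmul tau tau_tmul tau_injective delta_injective)
open Groth.Agent.S5820 (delta mapBaseChange_mid hzeroX hexactX hmulX hsurjX hsqX exists_section)

section General

variable {Λ B E C : Type*} [CommRing Λ] [CommRing B] [CommRing E] [CommRing C]
  [Algebra Λ B] [Algebra Λ E] [Algebra B E] [Algebra E C] [Algebra B C] [Algebra Λ C]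
  [IsScalarTower Λ B E] [IsScalarTower B E C] [IsScalarTower Λ B C] [IsScalarTower Λ E C]

theorem tau_surjective (hsurj : Function.Surjective (algebraMap B E)) :
    Function.Surjective (tau Λ B E C) := by
  intro y
  induction y using TensorProduct.induction_on with
  | zero => exact ⟨0, map_zero _⟩
  | add x y hx hy =>
    obtain ⟨a, rfl⟩ := hx
    obtain ⟨b, rfl⟩ := hy
    exact ⟨a + b, map_add _ _ _⟩
  | tmul c ω =>
    obtain ⟨ω', rfl⟩ := KaehlerDifferential.map_surjective_of_surjective Λ Λ B E hsurj ω
    exact ⟨c ⊗ₜ ω', tau_tmul c ω'⟩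

end General

section Inst

variable (A : Type u) {B : Type v} [CommRing A] [CommRing B] [Algebra A B] (K : Ideal B)

/-- The carrier of the infinitesimal extension. -/
abbrev EK : Type v := (Exal.Ext.infinitesimal K).CharCarrier A

theorem algebraMap_BE (b : B) : algebraMap B (EK A K) b = Ideal.Quotient.mk (K ^ 2) b := rfl

theorem hsurjK : Function.Surjective (algebraMap B (EK A K)) :=
  Ideal.Quotient.mk_surjective

theorem hkerK (b : B) (hb : algebraMap B (EK A K) b = 0) :
    (1 : B ⧸ K) ⊗ₜ[B] D A B b = 0 := by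
  have hb' : b ∈ K ^ 2 := Ideal.Quotient.eq_zero_iff_mem.1 hb
  rw [pow_two] at hb'
  refine Submodule.smul_induction_on hb' ?_ ?_
  · intro x hx y hy
    rw [smul_eq_mul, Derivation.leibniz, TensorProduct.tmul_add, TensorProduct.tmul_smul,
      TensorProduct.tmul_smul, TensorProduct.smul_tmul', TensorProduct.smul_tmul',
      Algebra.smul_def, Algebra.smul_def, mul_one, mul_one, Ideal.Quotient.algebraMap_eq,
      Ideal.Quotient.eq_zero_iff_mem.2 hx, Ideal.Quotient.eq_zero_iff_mem.2 hy,
      TensorProduct.zero_tmul, TensorProduct.zero_tmul, add_zero]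
  · intro x y hx hy
    rw [map_add, TensorProduct.tmul_add, hx, hy, add_zero]

end Inst

/-- For a ring map A → B, an ideal K of B, C = B ⧸ K and the B-extension E = B ⧸ K² of C by K/K², if E
is A-trivial then its characteristic homomorphism Υ_{C/B/A} → K/K² is bijective (stated for every
C-linear χ satisfying the defining square, of which there is exactly one). -/
theorem result {A : Type u} {B : Type v} [CommRing A] [CommRing B] [Algebra A B]
    (K : Ideal B) (hK : (Exal.Ext.infinitesimal K).IsTrivialOver A)
    (χ : ↥(EGA41.imperfection A B (B ⧸ K)) →ₗ[B ⧸ K] K.Cotangent)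
    (hχ : (Exal.Ext.infinitesimal K).IsCharHom A χ) :
    Function.Bijective χ := by
  obtain ⟨g, hg⟩ := exists_section A (Exal.Ext.infinitesimal K) hK
  have hinj : Function.Injective
      (delta (Λ := A) (C := B ⧸ K) ((Exal.Ext.infinitesimal K).inclC A)) :=
    delta_injective _ (Exal.Ext.infinitesimal K).isExtension.incl_injective
      (hzeroX A _) (hsqX A _) g hg
  have key : ∀ z : ↥(EGA41.imperfection A B (B ⧸ K)),
      delta (Λ := A) (C := B ⧸ K) ((Exal.Ext.infinitesimal K).inclC A) (χ z) =
        tau A B (EK A K) (B ⧸ K) (z : (B ⧸ K) ⊗[B] Ω[B⁄A]) := fun z => hχ z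
  constructor
  · rw [injective_iff_map_eq_zero]
    intro z hz
    have h1 := key z
    rw [hz] at h1
    have h2 : tau A B (EK A K) (B ⧸ K) (z : (B ⧸ K) ⊗[B] Ω[B⁄A]) =
        tau A B (EK A K) (B ⧸ K) 0 := by
      rw [← h1, map_zero, delta, map_zero, map_zero, TensorProduct.tmul_zero]
    exact Subtype.ext (tau_injective (hsurjK A K) (hkerK A K) h2)
  · intro l
    obtain ⟨z, hz⟩ := tau_surjective (Λ := A) (C := B ⧸ K) (hsurjK A K)
      (delta (Λ := A) (C := B ⧸ K) ((Exal.Ext.infinitesimal K).inclC A) l)
    have hzmem : z ∈ EGA41.imperfection A B (B ⧸ K) := by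
      change KaehlerDifferential.mapBaseChange A B (B ⧸ K) z = 0
      have h1 : mid A B (EK A K) (B ⧸ K) z = tau A B (EK A K) (B ⧸ K) z := rfl
      rw [← mapBaseChange_mid (E := EK A K), h1, hz, delta,
        KaehlerDifferential.mapBaseChange_tmul, one_smul, KaehlerDifferential.map_D,
        hzeroX, map_zero]
    refine ⟨⟨z, hzmem⟩, ?_⟩
    apply hinj
    rw [key ⟨z, hzmem⟩]
    exact hz

end Groth.Agent.S5821
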