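import Groth.Statements.S5822
import Groth.Agent.Lib.CharHomSec

set_option autoImplicit false
universe u v
open scoped TensorProduct
open EGA41

namespace Groth.Agent.S5822

open Groth.Agent.Lib.CharHomSec

/-- Injectivity. For ring maps A → B → C and a C-module L, assume (i) L is an injective C-module, or
(ii) Υ_{C/B/A} is a direct summand of C ⊗_B Ω_{B/A} and Ω_{C/A} → Ω_{C/B} has a right inverse. Then
two A-trivial B-extensions of C by L with a common characteristic homomorphism are equivalent: the
map from classes of A-trivial extensions to Hom_C(Υ_{C/B/A}, L) is injective. -/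
theorem result {A : Type u} {B C L : Type v} [CommRing A] [CommRing B] [CommRing C]
    [Algebra A B] [Algebra B C] [Algebra A C] [IsScalarTower A B C] [AddCommGroup L] [Module C L]
    (h : Module.Injective C L ∨
      ((∃ r : C ⊗[B] Ω[B⁄A] →ₗ[C] ↥(EGA41.imperfection A B C), ∀ z : ↥(EGA41.imperfection A B C), r z = z) ∧
        ∃ s : Ω[C⁄B] →ₗ[C] Ω[C⁄A], ∀ ω : Ω[C⁄B], KaehlerDifferential.map A B C C (s ω) = ω))
    (X Y : Exal.Ext B C L) (hX : X.IsTrivialOver A) (hY : Y.IsTrivialOver A)
    (χ : ↥(EGA41.imperfection A B C) →ₗ[C] L) (hXχ : X.IsCharHom A χ) (hYχ : Y.IsCharHom A χ) :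
    Nonempty (X.Equiv Y) := by
  let _ : Module B L := Module.compHom L (algebraMap B C)
  have hBCL : IsScalarTower B C L := ⟨fun b c l => by
    change (b • c) • l = algebraMap B C b • (c • l)
    rw [Algebra.smul_def, mul_smul]⟩
  let _ : Module A L := Module.compHom L (algebraMap A C)
  have hABL : IsScalarTower A B L := ⟨fun a b l => by
    change algebraMap B C (a • b) • l = algebraMap A C a • (algebraMap B C b • l)
    rw [Algebra.smul_def, map_mul, ← IsScalarTower.algebraMap_apply, mul_smul]⟩
  obtain ⟨σX, hσX, hσXA⟩ := exists_sigma A X hX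
  obtain ⟨σY, hσY, hσYA⟩ := exists_sigma A Y hY
  have hX' := isCharHom_Dt A X σX hσX hσXA
  have hY' := isCharHom_Dt A Y σY hσY hσYA
  have huX := (Groth.Agent.S5820.result X hX).unique hXχ hX'
  have huY := (Groth.Agent.S5820.result Y hY).unique hYχ hY'
  have hΔ : ∀ m : C ⊗[B] Ω[B⁄A], KaehlerDifferential.mapBaseChange A B C m = 0 →
      (Dt A X σX hσX hσXA - Dt A Y σY hσY hσYA) m = 0 := fun m hm => by
    have h1 := LinearMap.congr_fun huX ⟨m, hm⟩
    have h2 := LinearMap.congr_fun huY ⟨m, hm⟩
    rw [LinearMap.domRestrict_apply] at h1 h2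
    rw [LinearMap.sub_apply, sub_eq_zero]
    exact h1.symm.trans h2
  obtain ⟨ψ, hψ⟩ : ∃ ψ : Ω[C⁄A] →ₗ[C] L, ∀ m, ψ (KaehlerDifferential.mapBaseChange A B C m) =
      (Dt A X σX hσX hσXA - Dt A Y σY hσY hσYA) m := by
    rcases h with hinj | ⟨_, s, hs⟩
    · exact exists_factor_of_injective _ _ hΔ
    · exact exists_factor_of_section (KaehlerDifferential.mapBaseChange A B C)
        (KaehlerDifferential.map A B C C) (KaehlerDifferential.exact_mapBaseChange_map A B C) s hs
        _ hΔ
  refine nonempty_equiv_of_sections X Y σX hσX σY hσY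
    (fun c => ψ (KaehlerDifferential.D A C c)) (fun c c' => ?_) (fun c c' => ?_) (fun b => ?_)
  · rw [map_add, map_add]
  · rw [Derivation.leibniz, map_add, map_smul, map_smul]
  · have := hψ ((1 : C) ⊗ₜ[B] KaehlerDifferential.D A B b)
    rw [KaehlerDifferential.mapBaseChange_tmul, one_smul, KaehlerDifferential.map_D] at this
    rw [this, LinearMap.sub_apply, Dt_tmul_D, Dt_tmul_D, one_smul, one_smul]

end Groth.Agent.S5822
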