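import Groth.Statements.S5823
import Groth.Agent.Lib.CharHomSec

set_option autoImplicit false
universe u v
open scoped TensorProduct
open EGA41

namespace Groth.Agent.S5823

open Groth.Agent.Lib.CharHomSec

attribute [local instance] Exal.opModule Exal.isCentralScalar_opModule

/-- Surjectivity. For ring maps A → B → C and a C-module L, assume (i) L is an injective C-module, or
(ii) Υ_{C/B/A} is a direct summand of C ⊗_B Ω_{B/A} and Ω_{C/A} → Ω_{C/B} has a right inverse. Then
every C-linear map Υ_{C/B/A} → L is the characteristic homomorphism of an A-trivial B-extension of C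
by L. -/
theorem result {A : Type u} {B C L : Type v} [CommRing A] [CommRing B] [CommRing C]
    [Algebra A B] [Algebra B C] [Algebra A C] [IsScalarTower A B C] [AddCommGroup L] [Module C L]
    (h : Module.Injective C L ∨
      ((∃ r : C ⊗[B] Ω[B⁄A] →ₗ[C] ↥(EGA41.imperfection A B C), ∀ z : ↥(EGA41.imperfection A B C), r z = z) ∧
        ∃ s : Ω[C⁄B] →ₗ[C] Ω[C⁄A], ∀ ω : Ω[C⁄B], KaehlerDifferential.map A B C C (s ω) = ω))
    (χ : ↥(EGA41.imperfection A B C) →ₗ[C] L) :
    ∃ X : Exal.Ext B C L, X.IsTrivialOver A ∧ X.IsCharHom A χ := by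
  let _ : Module B L := Module.compHom L (algebraMap B C)
  have hBCL : IsScalarTower B C L := ⟨fun b c l => by
    change (b • c) • l = algebraMap B C b • (c • l)
    rw [Algebra.smul_def, mul_smul]⟩
  let _ : Module A L := Module.compHom L (algebraMap A C)
  have hABL : IsScalarTower A B L := ⟨fun a b l => by
    change algebraMap B C (a • b) • l = algebraMap A C a • (algebraMap B C b • l)
    rw [Algebra.smul_def, map_mul, ← IsScalarTower.algebraMap_apply, mul_smul]⟩
  obtain ⟨χt, hχt⟩ : ∃ χt : C ⊗[B] Ω[B⁄A] →ₗ[C] L,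
      ∀ z : ↥(EGA41.imperfection A B C), χt z = χ z := by
    rcases h with hinj | ⟨⟨r, hr⟩, _⟩
    · exact hinj.out (X := ↥(EGA41.imperfection A B C)) (Y := C ⊗[B] Ω[B⁄A])
        (EGA41.imperfection A B C).subtype (Submodule.injective_subtype _) χ
    · exact ⟨χ.comp r, fun z => by rw [LinearMap.comp_apply, hr]⟩
  let D : Derivation A B L :=
    ((χt.restrictScalars B).comp (TensorProduct.mk B C Ω[B⁄A] 1)).compDer
      (KaehlerDifferential.D A B)
  have hD : ∀ b : B, D b = χt ((1 : C) ⊗ₜ[B] KaehlerDifferential.D A B b) := fun b => rfl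
  let X : Exal.Ext B C L := Exal.Ext.ofDerivation (C := C) D
  let σ : C →+* X.E := TrivSqZeroExt.inlHom C L
  have hσ : ∀ c, X.proj (σ c) = c := fun c => rfl
  have hβ : ∀ b : B, algebraMap B X.E b =
      (TrivSqZeroExt.inl (algebraMap B C b) + TrivSqZeroExt.inr (D b) : TrivSqZeroExt C L) :=
    fun b => rfl
  have hσA : ∀ a : A, σ (algebraMap A C a) = algebraMap B X.E (algebraMap A B a) := fun a => by
    rw [hβ, Derivation.map_algebraMap, TrivSqZeroExt.inr_zero, add_zero,
      ← IsScalarTower.algebraMap_apply A B C]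
    rfl
  refine ⟨X, isTrivialOver_of_sigma A X σ hσ hσA, ?_⟩
  have hlam : ∀ b : B, lam X σ hσ (algebraMap B X.E b) = D b := fun b => by
    apply X.isExtension.incl_injective
    rw [incl_lam, AlgHom.commutes, hβ]
    exact add_sub_cancel_left (G := X.E) _ _
  have hEq : ∀ z : C ⊗[B] Ω[B⁄A], Dt A X σ hσ hσA z = χt z :=
    addHom_ext_tmul_D (Dt A X σ hσ hσA).toAddMonoidHom χt.toAddMonoidHom (fun c b => by
      change Dt A X σ hσ hσA (c ⊗ₜ[B] KaehlerDifferential.D A B b) =
        χt (c ⊗ₜ[B] KaehlerDifferential.D A B b)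
      rw [Dt_tmul_D, hlam, hD, ← map_smul, TensorProduct.smul_tmul', smul_eq_mul, mul_one])
  have hχ : (Dt A X σ hσ hσA).domRestrict (EGA41.imperfection A B C) = χ :=
    LinearMap.ext fun z => by rw [LinearMap.domRestrict_apply, hEq, hχt]
  rw [← hχ]
  exact isCharHom_Dt A X σ hσ hσA

end Groth.Agent.S5823
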