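import Groth.Statements.S5824
import Groth.Agent.S5822
import Groth.Agent.S5823
import Mathlib.RingTheory.Smooth.Basic

set_option autoImplicit false
universe u v
open EGA41

namespace Groth.Agent.S5824

open Groth.Agent.Lib.CharHomSec
open scoped TensorProduct

/-- The kernel of the projection of an extension is of square zero. -/
theorem ker_proj_sq {R : Type u} {S L : Type v} [CommRing R] [CommRing S] [Algebra R S]
    [AddCommGroup L] [Module S L] (X : Exal.Ext R S L) :
    RingHom.ker (X.proj : X.E →+* S) ^ 2 = ⊥ := by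
  rw [pow_two, eq_bot_iff, Ideal.mul_le]
  intro x hx y hy
  obtain ⟨l, rfl⟩ := (X.isExtension.exact x).1 hx
  obtain ⟨l', rfl⟩ := (X.isExtension.exact y).1 hy
  rw [Ideal.mem_bot]
  exact incl_mul_incl X l l'

/-- Over a formally smooth base every extension is trivial. -/
theorem isTrivial_of_formallySmooth {R : Type u} {S L : Type v} [CommRing R] [CommRing S]
    [Algebra R S] [AddCommGroup L] [Module S L] [Algebra.FormallySmooth R S]
    (X : Exal.Ext R S L) : X.IsTrivial := by
  have hnil : IsNilpotent (RingHom.ker (X.proj : X.E →+* S)) := ⟨2, ker_proj_sq X⟩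
  refine ⟨Algebra.FormallySmooth.liftOfSurjective (AlgHom.id R S) X.proj
    X.isExtension.proj_surjective hnil, fun b => ?_⟩
  exact Algebra.FormallySmooth.liftOfSurjective_apply (AlgHom.id R S) X.proj
    X.isExtension.proj_surjective hnil b

/-- For ring maps A → B → C with C formally smooth over A (discrete topologies) and Ω_{C/B} a projective
C-module, and a C-module L, the characteristic homomorphism is a bijection from the classes of all
B-extensions of C by L (each of which is A-trivial) onto Hom_C(Υ_{C/B/A}, L): injectivity on classes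
and surjectivity. -/
theorem result {A : Type u} {B C L : Type v} [CommRing A] [CommRing B] [CommRing C]
    [Algebra A B] [Algebra B C] [Algebra A C] [IsScalarTower A B C] [AddCommGroup L] [Module C L]
    [Algebra.FormallySmooth A C] [Module.Projective C Ω[C⁄B]] :
    (∀ (X Y : Exal.Ext B C L) (χ : ↥(EGA41.imperfection A B C) →ₗ[C] L),
        X.IsCharHom A χ → Y.IsCharHom A χ → Nonempty (X.Equiv Y)) ∧
      ∀ χ : ↥(EGA41.imperfection A B C) →ₗ[C] L, ∃ X : Exal.Ext B C L, X.IsCharHom A χ := by
  have htriv : ∀ X : Exal.Ext B C L, X.IsTrivialOver A := fun X =>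
    isTrivial_of_formallySmooth (X.restrictBase A)
  obtain ⟨s, hs⟩ := Module.projective_lifting_property (KaehlerDifferential.map A B C C)
    (LinearMap.id : Ω[C⁄B] →ₗ[C] Ω[C⁄B]) (KaehlerDifferential.map_surjective A B C)
  have hs' : ∀ ω : Ω[C⁄B], KaehlerDifferential.map A B C C (s ω) = ω := fun ω =>
    LinearMap.congr_fun hs ω
  obtain ⟨r, hr⟩ := exists_retraction_ker (KaehlerDifferential.mapBaseChange A B C)
    (KaehlerDifferential.map A B C C) (KaehlerDifferential.exact_mapBaseChange_map A B C) s hs'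
  have h : Module.Injective C L ∨
      ((∃ r : C ⊗[B] Ω[B⁄A] →ₗ[C] ↥(EGA41.imperfection A B C),
          ∀ z : ↥(EGA41.imperfection A B C), r z = z) ∧
        ∃ s : Ω[C⁄B] →ₗ[C] Ω[C⁄A], ∀ ω : Ω[C⁄B], KaehlerDifferential.map A B C C (s ω) = ω) :=
    Or.inr ⟨⟨r, hr⟩, ⟨s, hs'⟩⟩
  refine ⟨fun X Y χ hXχ hYχ => Groth.Agent.S5822.result h X Y (htriv X) (htriv Y) χ hXχ hYχ,
    fun χ => ?_⟩
  obtain ⟨X, _, hX⟩ := Groth.Agent.S5823.result h χ
  exact ⟨X, hX⟩

end Groth.Agent.S5824
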