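import Groth.Statements.S5825
import Mathlib.Topology.Algebra.Group.Basic
import Mathlib.Topology.Algebra.Module.Basic
import Mathlib.Topology.DenseEmbedding
-- import your own Groth.Agent.* helpers here

set_option autoImplicit false
universe u v w
open EGA41

namespace Groth.Agent.S5825

open Topology Filter

section

variable {A : Type u} {M : Type v} {N : Type w} [CommRing A]
    [TopologicalSpace A] [AddCommGroup M] [Module A M] [TopologicalSpace M] [AddCommGroup N] [Module A N]
    [TopologicalSpace N]

theorem exists_sub_mem (hN : TopMod.IsDeduced A N) (u : M →L[A] N) (hu : DenseRange u)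
    (J : Ideal A) (hJ : IsOpen (J : Set A)) (y : N) :
    ∃ x : M, y - u x ∈ (J • ⊤ : Submodule A N) := by
  have := hN.1
  have hmem : ((J • ⊤ : Submodule A N) : Set N) ∈ nhds (0 : N) := hN.2.mem_of_mem hJ
  have hcont : Continuous (fun n : N => y - n) := continuous_const.sub continuous_id
  have h0 : (fun n : N => y - n) y = 0 := sub_self y
  have hS : (fun n : N => y - n) ⁻¹' ((J • ⊤ : Submodule A N) : Set N) ∈ nhds y := by
    apply hcont.continuousAt
    rw [h0]
    exact hmem
  obtain ⟨x, hx⟩ := hu.mem_nhds hS
  exact ⟨x, hx⟩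

omit [TopologicalSpace A] in
theorem map_mem_smul_top (u : M →L[A] N) (J : Ideal A) {x : M}
    (hx : x ∈ (J • ⊤ : Submodule A M)) : u x ∈ (J • ⊤ : Submodule A N) := by
  refine Submodule.smul_induction_on hx ?_ ?_
  · intro a ha m _
    rw [map_smul]
    exact Submodule.smul_mem_smul ha Submodule.mem_top
  · intro y y' hy hy'
    rw [map_add]
    exact Submodule.add_mem _ hy hy'

end

/-- Let A be a topological ring, M, N topological A-modules with the topologies deduced from that of A,
and u : M → N a continuous linear map with dense image (a formal epimorphism). Then u is a formal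
bimorphism (dense image and inducing) if and only if, for every open ideal J of A, the induced map
M/JM → N/JN is bijective (injectivity and surjectivity are written out elementwise). -/
theorem result {A : Type u} {M : Type v} {N : Type w} [CommRing A]
    [TopologicalSpace A] [AddCommGroup M] [Module A M] [TopologicalSpace M] [AddCommGroup N] [Module A N]
    [TopologicalSpace N] (hM : TopMod.IsDeduced A M) (hN : TopMod.IsDeduced A N) (u : M →L[A] N)
    (hu : DenseRange u) :
    IsDenseInducing u ↔
      ∀ J : Ideal A, IsOpen (J : Set A) →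
        (∀ x : M, u x ∈ (J • ⊤ : Submodule A N) → x ∈ (J • ⊤ : Submodule A M)) ∧
          ∀ y : N, ∃ x : M, y - u x ∈ (J • ⊤ : Submodule A N) := by
  have hMg := hM.1
  have hNg := hN.1
  constructor
  · intro hdi J hJ
    refine ⟨?_, exists_sub_mem hN u hu J hJ⟩
    have hind : nhds (0 : M) = comap u (nhds (0 : N)) :=
      (IsTopologicalAddGroup.isInducing_iff_nhds_zero (f := u)).1 hdi.toIsInducing
    have hJM : ((J • ⊤ : Submodule A M) : Set M) ∈ comap u (nhds (0 : N)) := by
      rw [← hind]
      exact hM.2.mem_of_mem hJ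
    obtain ⟨t, ht, htJ⟩ := Filter.mem_comap.1 hJM
    obtain ⟨J', hJ', hJ't⟩ := hN.2.mem_iff.1 ht
    have hJ'' : IsOpen ((J ⊓ J' : Ideal A) : Set A) := hJ.inter hJ'
    -- claim
    have claim : ∀ n ∈ (J • ⊤ : Submodule A N), ∃ m ∈ (J • ⊤ : Submodule A M),
        n - u m ∈ ((J ⊓ J') • ⊤ : Submodule A N) := by
      intro n hn
      refine Submodule.smul_induction_on hn ?_ ?_
      · intro a ha n' _
        obtain ⟨m₀, hm₀⟩ := exists_sub_mem hN u hu (J ⊓ J') hJ'' n'
        refine ⟨a • m₀, Submodule.smul_mem_smul ha Submodule.mem_top, ?_⟩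
        rw [map_smul, ← smul_sub]
        exact Submodule.smul_mem _ a hm₀
      · rintro y y' ⟨m, hm, h1⟩ ⟨m', hm', h2⟩
        refine ⟨m + m', Submodule.add_mem _ hm hm', ?_⟩
        have : y + y' - u (m + m') = (y - u m) + (y' - u m') := by
          rw [map_add]; abel
        rw [this]
        exact Submodule.add_mem _ h1 h2
    intro x hx
    obtain ⟨m, hm, hxm⟩ := claim (u x) hx
    have h1 : u (x - m) ∈ (J' • ⊤ : Submodule A N) := by
      rw [map_sub]
      exact Submodule.smul_mono_left inf_le_right hxm
    have h2 : x - m ∈ (J • ⊤ : Submodule A M) := htJ (hJ't h1)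
    have : x = (x - m) + m := by abel
    rw [this]
    exact Submodule.add_mem _ h2 hm
  · intro h
    refine ⟨(IsTopologicalAddGroup.isInducing_iff_nhds_zero (f := u)).2 ?_, hu⟩
    apply le_antisymm
    · rw [← Filter.map_le_iff_le_comap]
      have := u.continuous.tendsto 0
      rwa [map_zero] at this
    · intro s hs
      obtain ⟨J, hJ, hJs⟩ := hM.2.mem_iff.1 hs
      rw [Filter.mem_comap]
      refine ⟨((J • ⊤ : Submodule A N) : Set N), hN.2.mem_of_mem hJ, ?_⟩
      intro x hx
      exact hJs ((h J hJ).1 x hx)

end Groth.Agent.S5825
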