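import Groth.Statements.S5826
import Mathlib.Topology.Algebra.Group.Basic
import Mathlib.Topology.Algebra.Module.Basic
-- import your own Groth.Agent.* helpers here

set_option autoImplicit false
universe u v w
open EGA41

namespace Groth.Agent.S5826

open Topology Filter

/-- a linear map from a deduced-topology module to a discrete module is continuous as soon as it
kills `J • ⊤` for some open ideal `J`. -/
theorem continuous_of_kills {A : Type u} {N : Type w} {E : Type*} [CommRing A] [TopologicalSpace A]
    [AddCommGroup N] [Module A N] [TopologicalSpace N] (hN : TopMod.IsDeduced A N)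
    [AddCommGroup E] [Module A E] [TopologicalSpace E] [DiscreteTopology E]
    (f : N →ₗ[A] E) (J : Ideal A) (hJ : IsOpen (J : Set A))
    (hf : ∀ y ∈ (J • ⊤ : Submodule A N), f y = 0) : Continuous f := by
  have := hN.1
  apply continuous_of_continuousAt_zero f
  rw [ContinuousAt, map_zero, nhds_discrete E, tendsto_pure]
  have hmem : ((J • ⊤ : Submodule A N) : Set N) ∈ nhds (0 : N) := hN.2.mem_of_mem hJ
  exact Filter.mem_of_superset hmem (fun y hy => hf y hy)

/-- Let A be a topological ring, M, N topological A-modules with the topologies deduced from that of A,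
u : M → N a continuous linear map. Then u is formally left invertible if and only if, for every open
ideal J of A, the induced map M/JM → N/JN is left invertible, i.e. some linear map N → M/JM composes
with u to the projection M → M/JM. -/
theorem result {A : Type u} {M : Type v} {N : Type w}
    [CommRing A] [TopologicalSpace A] [AddCommGroup M] [Module A M] [TopologicalSpace M] [AddCommGroup N]
    [Module A N] [TopologicalSpace N] (hM : TopMod.IsDeduced A M) (hN : TopMod.IsDeduced A N)
    (u : M →L[A] N) :
    TopMod.IsFormallyLeftInvertible u ↔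
      ∀ J : Ideal A, IsOpen (J : Set A) →
        ∃ w : N →ₗ[A] M ⧸ (J • ⊤ : Submodule A M), ∀ x : M, w (u x) = Submodule.Quotient.mk x := by
  constructor
  · intro h J hJ
    let _ : TopologicalSpace (M ⧸ (J • ⊤ : Submodule A M)) := ⊥
    have : DiscreteTopology (M ⧸ (J • ⊤ : Submodule A M)) := ⟨rfl⟩
    have hcont : Continuous (Submodule.mkQ (J • ⊤ : Submodule A M)) :=
      continuous_of_kills hM _ J hJ (fun y hy => (Submodule.Quotient.mk_eq_zero _).2 hy)
    obtain ⟨w, hw⟩ := h (M ⧸ (J • ⊤ : Submodule A M)) ⟨Submodule.mkQ _, hcont⟩
    exact ⟨w.toLinearMap, fun x => hw x⟩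
  · intro h E _ _ _ _ v
    -- the kernel of `v` is open
    have hker : (v ⁻¹' {0}) ∈ nhds (0 : M) := by
      have : ContinuousAt v 0 := v.continuous.continuousAt
      rw [ContinuousAt, map_zero, nhds_discrete E, Filter.tendsto_pure] at this
      exact this
    obtain ⟨J, hJ, hJv⟩ := hM.2.mem_iff.1 hker
    obtain ⟨w, hw⟩ := h J hJ
    have hle : (J • ⊤ : Submodule A M) ≤ LinearMap.ker v.toLinearMap := fun y hy => hJv hy
    let vbar : (M ⧸ (J • ⊤ : Submodule A M)) →ₗ[A] E := Submodule.liftQ _ v.toLinearMap hle
    let f : N →ₗ[A] E := vbar.comp w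
    have hf : ∀ y ∈ (J • ⊤ : Submodule A N), f y = 0 := by
      intro y hy
      refine Submodule.smul_induction_on hy ?_ ?_
      · intro a ha n _
        show vbar (w (a • n)) = 0
        rw [map_smul]
        obtain ⟨m, hm⟩ := Submodule.Quotient.mk_surjective _ (w n)
        rw [← hm, ← Submodule.Quotient.mk_smul,
          (Submodule.Quotient.mk_eq_zero _).2 (Submodule.smul_mem_smul ha Submodule.mem_top), map_zero]
      · intro y y' hy hy'
        rw [map_add, hy, hy', add_zero]
    refine ⟨⟨f, continuous_of_kills hN f J hJ hf⟩, fun x => ?_⟩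
    show vbar (w (u x)) = v x
    rw [hw]
    rfl

end Groth.Agent.S5826
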