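import Groth.Statements.S5827
import Groth.Agent.Lib.TopModDeduced
import Mathlib.RingTheory.Nilpotent.Basic

set_option autoImplicit false
universe u v w
open EGA41
set_option linter.unusedSectionVars false

namespace Groth.Agent.S5827

open Groth.Agent.Lib.TopModDeduced

section Alg

variable {A : Type u} {M : Type v} {N : Type w} [CommRing A]
  [AddCommGroup M] [Module A M] [AddCommGroup N] [Module A N]

theorem factor_mk' {p p' : Submodule A M} (H : p ≤ p') (x : M) :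
    Submodule.factor H (Submodule.Quotient.mk x : M ⧸ p) = Submodule.Quotient.mk x :=
  Submodule.factor_mk H x

/-- The image of `𝔏 • ⊤` in a quotient lies in `𝔏 • ⊤`. -/
theorem mk_mem_smul_top (𝔏 : Ideal A) (p : Submodule A M) (m : M)
    (hm : m ∈ (𝔏 • ⊤ : Submodule A M)) :
    (Submodule.Quotient.mk m : M ⧸ p) ∈ (𝔏 • ⊤ : Submodule A (M ⧸ p)) := by
  refine Submodule.smul_induction_on hm ?_ ?_
  · intro a ha x _
    rw [Submodule.Quotient.mk_smul]
    exact Submodule.smul_mem_smul ha Submodule.mem_top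
  · intro x y hx hy
    rw [Submodule.Quotient.mk_add]
    exact Submodule.add_mem _ hx hy

/-- Powers of an endomorphism with image in `𝔏 • ⊤`. -/
theorem pow_apply_mem {Q : Type*} [AddCommGroup Q] [Module A Q] (𝔏 : Ideal A)
    (ψ : Module.End A Q) (hψ : ∀ q, ψ q ∈ (𝔏 • ⊤ : Submodule A Q)) (k : ℕ) (q : Q) :
    (ψ ^ k) q ∈ (𝔏 ^ k • ⊤ : Submodule A Q) := by
  induction k generalizing q with
  | zero =>
    rw [pow_zero, pow_zero, Ideal.one_eq_top, Submodule.top_smul]
    exact Submodule.mem_top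
  | succ k ih =>
    rw [pow_succ' ψ k, Module.End.mul_apply]
    have h1 := ih q
    have h2 : ∀ y ∈ (𝔏 ^ k • ⊤ : Submodule A Q), ψ y ∈ (𝔏 ^ (k + 1) • ⊤ : Submodule A Q) := by
      intro y hy
      refine Submodule.smul_induction_on hy ?_ ?_
      · intro a ha x _
        rw [map_smul, pow_succ, mul_smul]
        exact Submodule.smul_mem_smul ha (hψ x)
      · intro x y hx hy
        rw [map_add]
        exact Submodule.add_mem _ hx hy
    exact h2 _ h1

/-- Lifting a left inverse modulo `𝔏` to a left inverse modulo `J`, when `𝔏 ^ n ≤ J ≤ 𝔏` and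
`N ⧸ J • ⊤` is projective over `A ⧸ J`. -/
theorem exists_level_of_mod (𝔏 J : Ideal A) (hJ𝔏 : J ≤ 𝔏) (n : ℕ) (hn : 𝔏 ^ n ≤ J)
    (hproj : Module.Projective (A ⧸ J) (N ⧸ (J • ⊤ : Submodule A N)))
    (u : M →ₗ[A] N) (w₀ : N →ₗ[A] M ⧸ (𝔏 • ⊤ : Submodule A M))
    (hw₀ : ∀ x, w₀ (u x) = Submodule.Quotient.mk x) :
    ∃ w : N →ₗ[A] M ⧸ (J • ⊤ : Submodule A M), ∀ x, w (u x) = Submodule.Quotient.mk x := by
  set fac : (M ⧸ (J • ⊤ : Submodule A M)) →ₗ[A] M ⧸ (𝔏 • ⊤ : Submodule A M) :=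
    Submodule.factor (Submodule.smul_mono_left hJ𝔏) with hfac
  -- `w₀` factors through `N ⧸ J • ⊤`
  have hk : (J • ⊤ : Submodule A N) ≤ LinearMap.ker w₀ := by
    rw [Submodule.smul_le]
    intro a ha y _
    rw [LinearMap.mem_ker, map_smul]
    obtain ⟨m, hm⟩ := Submodule.Quotient.mk_surjective _ (w₀ y)
    rw [← hm, ← Submodule.Quotient.mk_smul, Submodule.Quotient.mk_eq_zero]
    exact Submodule.smul_mem_smul (hJ𝔏 ha) Submodule.mem_top
  let w₀' := (J • ⊤ : Submodule A N).liftQ w₀ hk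
  have hY : Module.IsTorsionBySet A (M ⧸ (𝔏 • ⊤ : Submodule A M)) J := by
    rw [Module.isTorsionBySet_quotient_iff]
    intro x a ha
    exact Submodule.smul_mem_smul (hJ𝔏 ha) Submodule.mem_top
  obtain ⟨w₁, hw₁⟩ := exists_lift_of_projective J
    (Module.isTorsionBySet_quotient_ideal_smul N J)
    (Module.isTorsionBySet_quotient_ideal_smul M J) hY hproj fac
    (Submodule.factor_surjective _) w₀'
  -- the map induced by `u`
  have hu : (J • ⊤ : Submodule A M) ≤ Submodule.comap u (J • ⊤ : Submodule A N) := by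
    intro x hx
    exact map_smul_top_le u J x hx
  let ū := Submodule.mapQ (J • ⊤ : Submodule A M) (J • ⊤ : Submodule A N) u hu
  let φ : Module.End A (M ⧸ (J • ⊤ : Submodule A M)) := w₁ ∘ₗ ū
  have hφ : ∀ q, fac (φ q) = fac q := by
    intro q
    obtain ⟨x, rfl⟩ := Submodule.Quotient.mk_surjective _ q
    change fac (w₁ (ū (Submodule.Quotient.mk x))) = _
    rw [← LinearMap.comp_apply fac w₁, hw₁]
    change w₀ (u x) = _
    rw [hw₀, hfac, factor_mk']
  have hψ : ∀ q, (1 - φ) q ∈ (𝔏 • ⊤ : Submodule A (M ⧸ (J • ⊤ : Submodule A M))) := by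
    intro q
    have h1 : fac ((1 - φ) q) = 0 := by
      rw [LinearMap.sub_apply, Module.End.one_apply, map_sub, hφ, sub_self]
    obtain ⟨m, hm⟩ := Submodule.Quotient.mk_surjective _ ((1 - φ) q)
    rw [← hm] at h1 ⊢
    rw [hfac, factor_mk', Submodule.Quotient.mk_eq_zero] at h1
    exact mk_mem_smul_top 𝔏 _ m h1
  have hnil : IsNilpotent (1 - φ) := by
    refine ⟨n, ?_⟩
    apply LinearMap.ext
    intro q
    have h1 := pow_apply_mem 𝔏 (1 - φ) hψ n q
    have h2 : (𝔏 ^ n • ⊤ : Submodule A (M ⧸ (J • ⊤ : Submodule A M))) ≤ ⊥ := by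
      rw [Submodule.smul_le]
      intro a ha y _
      obtain ⟨m, rfl⟩ := Submodule.Quotient.mk_surjective _ y
      rw [Submodule.mem_bot, ← Submodule.Quotient.mk_smul, Submodule.Quotient.mk_eq_zero]
      exact Submodule.smul_mem_smul (hn ha) Submodule.mem_top
    have h3 := h2 h1
    rw [Submodule.mem_bot] at h3
    rw [h3, LinearMap.zero_apply]
  have hunit : IsUnit φ := by
    have h := hnil.isUnit_one_sub
    rwa [sub_sub_cancel] at h
  obtain ⟨φu, hφu⟩ := hunit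
  refine ⟨(↑φu⁻¹ : Module.End A (M ⧸ (J • ⊤ : Submodule A M))) ∘ₗ w₁ ∘ₗ
    (J • ⊤ : Submodule A N).mkQ, fun x => ?_⟩
  change (↑φu⁻¹ : Module.End A (M ⧸ (J • ⊤ : Submodule A M)))
    (w₁ (Submodule.Quotient.mk (u x))) = _
  have h1 : w₁ (Submodule.Quotient.mk (u x)) = φ (Submodule.Quotient.mk x) := rfl
  rw [h1, ← hφu, ← Module.End.mul_apply, Units.inv_mul, Module.End.one_apply]

theorem smul_top_quotient_le_bot (J : Ideal A) :
    (J • ⊤ : Submodule A (M ⧸ (J • ⊤ : Submodule A M))) ≤ ⊥ := by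
  rw [Submodule.smul_le]
  intro a ha y _
  obtain ⟨m, rfl⟩ := Submodule.Quotient.mk_surjective _ y
  rw [Submodule.mem_bot, ← Submodule.Quotient.mk_smul, Submodule.Quotient.mk_eq_zero]
  exact Submodule.smul_mem_smul ha Submodule.mem_top

end Alg

section Top

open Topology

variable {A : Type u} {M : Type v} {N : Type w} [CommRing A] [TopologicalSpace A]
  [AddCommGroup M] [Module A M] [TopologicalSpace M]
  [AddCommGroup N] [Module A N] [TopologicalSpace N]

theorem formallyLeftInvertible_of_mod (𝔏 : Ideal A) (h𝔏 : LinTop.IsIdealOfDefinition A 𝔏)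
    (hM : TopMod.IsDeduced A M) (hN : TopMod.IsDeduced A N)
    (hproj : ∀ J : Ideal A, IsOpen (J : Set A) →
      Module.Projective (A ⧸ J) (N ⧸ (J • (⊤ : Submodule A N))))
    (u : M →L[A] N) (w₀ : N →ₗ[A] M ⧸ (𝔏 • ⊤ : Submodule A M))
    (hw₀ : ∀ x : M, w₀ (u x) = Submodule.Quotient.mk x) :
    TopMod.IsFormallyLeftInvertible u := by
  intro E _ _ _ _ v
  have := hN.1
  have hker : (v ⁻¹' {0}) ∈ 𝓝 (0 : M) := by
    apply v.continuous.continuousAt.preimage_mem_nhds
    rw [map_zero]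
    exact (isOpen_discrete {0}).mem_nhds rfl
  obtain ⟨J₀, hJ₀, hJ₀v⟩ := hM.2.mem_iff.1 hker
  have hJopen : IsOpen ((J₀ ⊓ 𝔏 : Ideal A) : Set A) := hJ₀.inter h𝔏.1
  obtain ⟨n, -, hn⟩ := h𝔏.2 _ (hJopen.mem_nhds (J₀ ⊓ 𝔏).zero_mem)
  obtain ⟨wJ, hwJ⟩ := exists_level_of_mod 𝔏 (J₀ ⊓ 𝔏) inf_le_right n hn
    (hproj _ hJopen) u.toLinearMap w₀ hw₀
  have hv : ((J₀ ⊓ 𝔏) • ⊤ : Submodule A M) ≤ LinearMap.ker v.toLinearMap := fun x hx =>
    hJ₀v (Submodule.smul_mono_left inf_le_left hx)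
  let v' := ((J₀ ⊓ 𝔏) • ⊤ : Submodule A M).liftQ v.toLinearMap hv
  have hcont : Continuous (v' ∘ₗ wJ) := by
    apply continuous_of_continuousAt_zero (v' ∘ₗ wJ)
    rw [ContinuousAt, map_zero]
    intro U hU
    rw [Filter.mem_map]
    refine Filter.mem_of_superset (smul_top_mem_nhds hN _ hJopen) ?_
    intro y hy
    have h1 : wJ y = 0 := by
      have h2 := smul_top_quotient_le_bot (M := M) (J₀ ⊓ 𝔏) (map_smul_top_le wJ _ y hy)
      exact (Submodule.mem_bot A).1 h2
    change (v' ∘ₗ wJ) y ∈ U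
    rw [LinearMap.comp_apply, h1, map_zero]
    exact mem_of_mem_nhds hU
  refine ⟨⟨v' ∘ₗ wJ, hcont⟩, fun x => ?_⟩
  change v' (wJ (u.toLinearMap x)) = v x
  rw [hwJ]
  rfl

end Top

/-- Let A be a preadmissible topological ring with an ideal of definition 𝔏, M, N topological A-modules
with the topologies deduced from that of A such that N/JN is a projective (A/J)-module for every
open ideal J, and u : M → N a continuous linear map. Then u is formally left invertible if and only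
if the induced map M/𝔏M → N/𝔏N is left invertible. -/
theorem result {A : Type u} {M : Type v}
    {N : Type w} [CommRing A] [TopologicalSpace A] [AddCommGroup M] [Module A M] [TopologicalSpace M]
    [AddCommGroup N] [Module A N] [TopologicalSpace N] (hA : LinTop.IsPreadmissible A) (𝔏 : Ideal A)
    (h𝔏 : LinTop.IsIdealOfDefinition A 𝔏) (hM : TopMod.IsDeduced A M) (hN : TopMod.IsDeduced A N)
    (hproj : ∀ J : Ideal A, IsOpen (J : Set A) → Module.Projective (A ⧸ J) (N ⧸ (J • (⊤ : Submodule A N))))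
    (u : M →L[A] N) :
    TopMod.IsFormallyLeftInvertible u ↔
      ∃ w : N →ₗ[A] M ⧸ (𝔏 • ⊤ : Submodule A M), ∀ x : M, w (u x) = Submodule.Quotient.mk x := by
  constructor
  · intro hu
    let _ : TopologicalSpace (M ⧸ (𝔏 • ⊤ : Submodule A M)) := ⊥
    have : DiscreteTopology (M ⧸ (𝔏 • ⊤ : Submodule A M)) := ⟨rfl⟩
    obtain ⟨w, hw⟩ := hu (M ⧸ (𝔏 • ⊤ : Submodule A M))
      ⟨(𝔏 • ⊤ : Submodule A M).mkQ, continuous_mkQ hM 𝔏 h𝔏.1⟩
    exact ⟨w.toLinearMap, hw⟩
  · rintro ⟨w₀, hw₀⟩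
    exact formallyLeftInvertible_of_mod 𝔏 h𝔏 hM hN hproj u w₀ hw₀

end Groth.Agent.S5827
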