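import Groth.Statements.S5828
import Mathlib.Tactic.LinearCombination
import Mathlib.Tactic.Abel

set_option autoImplicit false
universe u v
open EGA41

namespace Groth.Agent.S5828

section

variable {A : Type u} {C L : Type v} [CommRing A] [CommRing C] [Algebra A C]
    [AddCommGroup L] [Module C L] [Module A L] [IsScalarTower A C L] (X : Exal.Ext A C L)

theorem proj_incl (z : L) : X.proj (X.incl z) = 0 :=
  (X.isExtension.exact _).2 ⟨z, rfl⟩

theorem incl_mul_incl (z w : L) : X.incl z * X.incl w = 0 := by
  rw [X.isExtension.mul_incl, proj_incl, zero_smul, map_zero]

theorem smul_incl (a : A) (z : L) : a • X.incl z = X.incl (a • z) := by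
  rw [Algebra.smul_def, X.isExtension.mul_incl, AlgHom.commutes, algebraMap_smul]

/-- The self map attached to a derivation. -/
noncomputable def toFunD (D : Derivation A C L) : X.E →ₗ[A] X.E where
  toFun x := x + X.incl (D (X.proj x))
  map_add' x y := by
    rw [map_add, map_add, map_add]; abel
  map_smul' a x := by
    rw [RingHom.id_apply, smul_add, smul_incl, map_smul, Derivation.map_smul]

theorem toFunD_apply (D : Derivation A C L) (x : X.E) :
    toFunD X D x = x + X.incl (D (X.proj x)) := rfl

theorem toFunD_mul (D : Derivation A C L) (x y : X.E) :
    toFunD X D (x * y) = toFunD X D x * toFunD X D y := by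
  simp only [toFunD_apply]
  rw [add_mul, mul_add, mul_add, incl_mul_incl, add_zero, X.isExtension.mul_incl,
    mul_comm (X.incl _) y, X.isExtension.mul_incl, map_mul, Derivation.leibniz,
    map_add, add_assoc]

theorem toFunD_comp (D : Derivation A C L) (x : X.E) :
    toFunD X D (toFunD X (-D) x) = x := by
  simp only [toFunD_apply, map_add, proj_incl, Derivation.neg_apply, map_neg, map_zero]
  abel

theorem toFunD_comp' (D : Derivation A C L) (x : X.E) :
    toFunD X (-D) (toFunD X D x) = x := by
  have := toFunD_comp X (-D) x
  rwa [neg_neg] at this

/-- The self-equivalence attached to a derivation. -/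
noncomputable def equivOfDerivation (D : Derivation A C L) : X.Equiv X where
  toAlgEquiv :=
    AlgEquiv.ofLinearEquiv
      { toFunD X D with
        invFun := toFunD X (-D)
        left_inv := fun x => toFunD_comp' X D x
        right_inv := fun x => toFunD_comp X D x }
      (by
        change toFunD X D 1 = 1
        rw [toFunD_apply, map_one, Derivation.map_one_eq_zero, map_zero, add_zero])
      (fun x y => toFunD_mul X D x y)
  proj_apply x := by
    change X.proj (toFunD X D x) = X.proj x
    rw [toFunD_apply, map_add, proj_incl, add_zero]
  apply_incl z := by
    change toFunD X D (X.incl z) = X.incl z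
    rw [toFunD_apply, proj_incl, map_zero, map_zero, add_zero]

theorem equivOfDerivation_apply (D : Derivation A C L) (x : X.E) :
    (equivOfDerivation X D).toAlgEquiv x = x + X.incl (D (X.proj x)) := rfl

variable (e : X.Equiv X)

theorem proj_sub (x : X.E) : X.proj (e.toAlgEquiv x - x) = 0 := by
  rw [map_sub, e.proj_apply, sub_self]

/-- The function on the middle ring measuring the difference with the identity. -/
noncomputable def δ (x : X.E) : L := X.kerLift (e.toAlgEquiv x - x) (proj_sub X e x)

theorem incl_δ (x : X.E) : X.incl (δ X e x) = e.toAlgEquiv x - x := X.incl_kerLift _ _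

theorem δ_eq_of_proj_eq (x y : X.E) (h : X.proj x = X.proj y) : δ X e x = δ X e y := by
  apply X.isExtension.incl_injective
  rw [incl_δ, incl_δ]
  have h0 : X.proj (x - y) = 0 := by rw [map_sub, h, sub_self]
  obtain ⟨z, hz⟩ := (X.isExtension.exact _).1 h0
  have h1 : e.toAlgEquiv (x - y) = x - y := by rw [← hz, e.apply_incl]
  rw [map_sub] at h1
  linear_combination h1

theorem proj_surjInv (c : C) :
    X.proj (Function.surjInv X.isExtension.proj_surjective c) = c :=
  Function.surjInv_eq X.isExtension.proj_surjective c

/-- The derivation attached to a self-equivalence. -/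
noncomputable def derivationOfEquiv : Derivation A C L where
  toFun c := δ X e (Function.surjInv X.isExtension.proj_surjective c)
  map_add' c c' := by
    apply X.isExtension.incl_injective
    have h : δ X e (Function.surjInv X.isExtension.proj_surjective (c + c')) =
        δ X e (Function.surjInv X.isExtension.proj_surjective c +
          Function.surjInv X.isExtension.proj_surjective c') := by
      apply δ_eq_of_proj_eq
      rw [map_add, proj_surjInv, proj_surjInv, proj_surjInv]
    rw [h, map_add, incl_δ, incl_δ, incl_δ, map_add]
    abel
  map_smul' a c := by
    apply X.isExtension.incl_injective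
    have h : δ X e (Function.surjInv X.isExtension.proj_surjective (a • c)) =
        δ X e (a • Function.surjInv X.isExtension.proj_surjective c) := by
      apply δ_eq_of_proj_eq
      rw [map_smul, proj_surjInv, proj_surjInv]
    rw [RingHom.id_apply, h, ← smul_incl, incl_δ, incl_δ, map_smul, smul_sub]
  map_one_eq_zero' := by
    apply X.isExtension.incl_injective
    have h : δ X e (Function.surjInv X.isExtension.proj_surjective 1) = δ X e 1 := by
      apply δ_eq_of_proj_eq
      rw [proj_surjInv, map_one]
    change X.incl (δ X e (Function.surjInv X.isExtension.proj_surjective 1)) = X.incl 0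
    rw [h, incl_δ, map_one, sub_self, map_zero]
  leibniz' c c' := by
    apply X.isExtension.incl_injective
    have h : δ X e (Function.surjInv X.isExtension.proj_surjective (c * c')) =
        δ X e (Function.surjInv X.isExtension.proj_surjective c *
          Function.surjInv X.isExtension.proj_surjective c') := by
      apply δ_eq_of_proj_eq
      rw [map_mul, proj_surjInv, proj_surjInv, proj_surjInv]
    change X.incl (δ X e (Function.surjInv X.isExtension.proj_surjective (c * c'))) =
      X.incl (c • δ X e (Function.surjInv X.isExtension.proj_surjective c') +
        c' • δ X e (Function.surjInv X.isExtension.proj_surjective c))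
    rw [h, incl_δ, map_add]
    have hc := proj_surjInv X c
    have hc' := proj_surjInv X c'
    set x := Function.surjInv X.isExtension.proj_surjective c
    set y := Function.surjInv X.isExtension.proj_surjective c'
    rw [← hc, ← hc', ← X.isExtension.mul_incl, ← X.isExtension.mul_incl, incl_δ, incl_δ]
    have h2 := incl_mul_incl X (δ X e x) (δ X e y)
    rw [incl_δ, incl_δ] at h2
    rw [map_mul]
    linear_combination h2

theorem derivationOfEquiv_spec (x : X.E) :
    e.toAlgEquiv x = x + X.incl (derivationOfEquiv X e (X.proj x)) := by
  have h : derivationOfEquiv X e (X.proj x) = δ X e x := by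
    change δ X e (Function.surjInv X.isExtension.proj_surjective (X.proj x)) = δ X e x
    apply δ_eq_of_proj_eq
    rw [proj_surjInv]
  rw [h, incl_δ]
  abel

end

/-- Commutative case. For an A-extension X of C by a C-module L, with middle ring E, projection p and
inclusion i, the A-derivations D : C → L and the self-equivalences of X correspond under D ↦ (x ↦ x
+ i (D (p x))): every derivation defines a self-equivalence with this formula, and every
self-equivalence is of this form for exactly one derivation. (Bijection of sets; the published
statement also records compatibility with the group laws.) -/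
theorem result {A : Type u} {C L : Type v} [CommRing A] [CommRing C] [Algebra A C]
    [AddCommGroup L] [Module C L] [Module A L] [IsScalarTower A C L] (X : Exal.Ext A C L) :
    (∀ D : Derivation A C L, ∃ e : X.Equiv X, ∀ x : X.E, e.toAlgEquiv x = x + X.incl (D (X.proj x))) ∧
      ∀ e : X.Equiv X, ∃! D : Derivation A C L, ∀ x : X.E, e.toAlgEquiv x = x + X.incl (D (X.proj x)) := by
  refine ⟨fun D => ⟨equivOfDerivation X D, equivOfDerivation_apply X D⟩, fun e => ?_⟩
  refine ⟨derivationOfEquiv X e, derivationOfEquiv_spec X e, ?_⟩
  intro D hD
  ext c
  obtain ⟨x, rfl⟩ := X.isExtension.proj_surjective c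
  apply X.isExtension.incl_injective
  have h1 := hD x
  have h2 := derivationOfEquiv_spec X e x
  rw [h1] at h2
  exact add_left_cancel h2

end Groth.Agent.S5828
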