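import Groth.Statements.S5830
import Mathlib.Tactic.Module
import Mathlib.Tactic.LinearCombination
import Mathlib.RingTheory.Ideal.Operations
import Mathlib.RingTheory.Nilpotent.Basic

set_option autoImplicit false
universe u v
open EGA41

namespace Groth.Agent.S5830

/-- A symmetric bilinear Hochschild two-cocycle. -/
structure Cocycle (A : Type u) (B : Type v) (L : Type v) [CommRing A] [CommRing B]
    [Algebra A B] [AddCommGroup L] [Module B L] [Module A L] [IsScalarTower A B L] where
  f : B →ₗ[A] B →ₗ[A] L
  symm : ∀ x y : B, f x y = f y x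
  coc : ∀ x y z : B, f (x * y) z + z • f x y = x • f y z + f x (y * z)

namespace Cocycle

variable {A : Type u} {B : Type v} {L : Type v} [CommRing A] [CommRing B]
    [Algebra A B] [AddCommGroup L] [Module B L] [Module A L] [IsScalarTower A B L]
    (c : Cocycle A B L)

/-- The carrier of the twisted square-zero extension. -/
@[nolint unusedArguments]
def E (_ : Cocycle A B L) : Type v := B × L

instance : AddCommGroup c.E := inferInstanceAs (AddCommGroup (B × L))

instance : Module A c.E := inferInstanceAs (Module A (B × L))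

instance : Mul c.E := ⟨fun p q => (p.1 * q.1, p.1 • q.2 + q.1 • p.2 + c.f p.1 q.1)⟩

instance : One c.E := ⟨(1, - c.f 1 1)⟩

theorem mul_def (p q : c.E) : p * q = (p.1 * q.1, p.1 • q.2 + q.1 • p.2 + c.f p.1 q.1) := rfl

theorem one_def : (1 : c.E) = (1, - c.f 1 1) := rfl

theorem f_one (z : B) : c.f 1 z = z • c.f 1 1 := by
  have h := c.coc 1 1 z
  rw [mul_one, one_mul, one_smul] at h
  exact (add_left_cancel h).symm

@[ext] theorem ext' {p q : c.E} (h1 : p.1 = q.1) (h2 : p.2 = q.2) : p = q := Prod.ext h1 h2

theorem fst_add (p q : c.E) : (p + q).1 = p.1 + q.1 := rfl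
theorem snd_add (p q : c.E) : (p + q).2 = p.2 + q.2 := rfl
theorem fst_zero : (0 : c.E).1 = 0 := rfl
theorem snd_zero : (0 : c.E).2 = 0 := rfl
theorem fst_mul (p q : c.E) : (p * q).1 = p.1 * q.1 := rfl
theorem snd_mul (p q : c.E) : (p * q).2 = p.1 • q.2 + q.1 • p.2 + c.f p.1 q.1 := rfl
theorem fst_one : (1 : c.E).1 = 1 := rfl
theorem snd_one : (1 : c.E).2 = - c.f 1 1 := rfl
theorem fst_smul (a : A) (p : c.E) : (a • p).1 = a • p.1 := rfl
theorem snd_smul (a : A) (p : c.E) : (a • p).2 = a • p.2 := rfl

theorem mul_comm' (p q : c.E) : p * q = q * p := by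
  ext
  · rw [fst_mul, fst_mul, mul_comm]
  · rw [snd_mul, snd_mul, c.symm q.1 p.1, add_comm (p.1 • q.2)]

theorem one_mul' (p : c.E) : 1 * p = p := by
  ext
  · rw [fst_mul, fst_one, one_mul]
  · rw [snd_mul, fst_one, snd_one, one_smul, c.f_one p.1, smul_neg]
    abel

theorem mul_assoc' (p q r : c.E) : p * q * r = p * (q * r) := by
  ext
  · simp only [fst_mul, mul_assoc]
  · simp only [snd_mul, fst_mul, smul_add, mul_smul]
    have h := c.coc p.1 q.1 r.1
    rw [smul_comm r.1 p.1 q.2, smul_comm r.1 q.1 p.2]
    linear_combination (norm := module) h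

theorem left_distrib' (p q r : c.E) : p * (q + r) = p * q + p * r := by
  ext
  · simp only [fst_mul, fst_add, mul_add]
  · simp only [snd_mul, fst_add, snd_add, smul_add, add_smul, map_add]
    abel

instance : CommRing c.E :=
  { (inferInstance : AddCommGroup c.E) with
    mul := (· * ·)
    one := 1
    mul_assoc := c.mul_assoc'
    one_mul := c.one_mul'
    mul_one := fun p => by rw [c.mul_comm', c.one_mul']
    left_distrib := c.left_distrib'
    right_distrib := fun p q r => by
      rw [c.mul_comm', c.left_distrib', c.mul_comm' p r, c.mul_comm' q r]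
    zero_mul := fun p => by
      ext
      · change (0 : B) * p.1 = 0
        rw [zero_mul]
      · change (0 : B) • p.2 + p.1 • (0 : L) + c.f 0 p.1 = 0
        rw [zero_smul, smul_zero, map_zero, LinearMap.zero_apply, add_zero, add_zero]
    mul_zero := fun p => by
      ext
      · change p.1 * (0 : B) = 0
        rw [mul_zero]
      · change p.1 • (0 : L) + (0 : B) • p.2 + c.f p.1 0 = 0
        rw [zero_smul, smul_zero, map_zero, add_zero, add_zero]
    mul_comm := c.mul_comm' }

noncomputable instance : Algebra A c.E :=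
  Algebra.ofModule
    (fun a x y => by
      ext
      · change (a • x.1) * y.1 = a • (x.1 * y.1)
        rw [smul_mul_assoc]
      · change (a • x.1) • y.2 + y.1 • (a • x.2) + c.f (a • x.1) y.1 =
          a • (x.1 • y.2 + y.1 • x.2 + c.f x.1 y.1)
        rw [smul_assoc, smul_comm y.1 a x.2, map_smul, LinearMap.smul_apply, smul_add, smul_add])
    (fun a x y => by
      ext
      · change x.1 * (a • y.1) = a • (x.1 * y.1)
        rw [mul_smul_comm]
      · change x.1 • (a • y.2) + (a • y.1) • x.2 + c.f x.1 (a • y.1) =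
          a • (x.1 • y.2 + y.1 • x.2 + c.f x.1 y.1)
        rw [smul_assoc, smul_comm x.1 a y.2, map_smul, smul_add, smul_add])

/-- The projection to `B`. -/
noncomputable def proj : c.E →ₐ[A] B where
  toFun p := p.1
  map_one' := rfl
  map_mul' _ _ := rfl
  map_zero' := rfl
  map_add' _ _ := rfl
  commutes' a := by
    change (a • (1 : c.E)).1 = algebraMap A B a
    rw [fst_smul, fst_one, Algebra.algebraMap_eq_smul_one]

theorem proj_apply (p : c.E) : c.proj p = p.1 := rfl

theorem proj_surjective : Function.Surjective c.proj := fun b => ⟨(b, 0), rfl⟩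

theorem ker_sq : IsNilpotent (RingHom.ker (c.proj : c.E →+* B)) := by
  refine ⟨2, ?_⟩
  rw [pow_two, Ideal.zero_eq_bot, eq_bot_iff, Ideal.mul_le]
  intro x hx y hy
  rw [RingHom.mem_ker] at hx hy
  have hx' : x.1 = 0 := hx
  have hy' : y.1 = 0 := hy
  rw [Ideal.mem_bot]
  ext
  · rw [fst_mul, hx', zero_mul, fst_zero]
  · rw [snd_mul, hx', hy', zero_smul, zero_smul, map_zero, add_zero,
      add_zero, snd_zero]

end Cocycle

/-- Discrete case. If B is a formally smooth A-algebra then, for every B-module L, every A-bilinear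
symmetric Hochschild 2-cocycle f : B × B → L (f(xy, z) + z f(x, y) = x f(y, z) + f(x, yz)) is a
Hochschild 2-coboundary: f(x, y) = x g(y) − g(xy) + y g(x) for some A-linear g : B → L. (The
published statement is for topological algebras and open ideals; this row is its discrete case.) -/
theorem result {A : Type u} {B : Type v} [CommRing A] [CommRing B]
    [Algebra A B] [Algebra.FormallySmooth A B] {L : Type v} [AddCommGroup L] [Module B L] [Module A L]
    [IsScalarTower A B L] (f : B →ₗ[A] B →ₗ[A] L) (hsymm : ∀ x y : B, f x y = f y x)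
    (hcoc : ∀ x y z : B, f (x * y) z + z • f x y = x • f y z + f x (y * z)) :
    ∃ g : B →ₗ[A] L, ∀ x y : B, f x y = x • g y - g (x * y) + y • g x := by
  let c : Cocycle A B L := ⟨f, hsymm, hcoc⟩
  let s : B →ₐ[A] c.E :=
    Algebra.FormallySmooth.liftOfSurjective (AlgHom.id A B) c.proj c.proj_surjective c.ker_sq
  have hs : ∀ b : B, (s b).1 = b := fun b =>
    Algebra.FormallySmooth.liftOfSurjective_apply (AlgHom.id A B) c.proj c.proj_surjective
      c.ker_sq b
  let g : B →ₗ[A] L :=
    { toFun := fun b => - (s b).2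
      map_add' := fun x y => by
        rw [map_add, Cocycle.snd_add, neg_add]
      map_smul' := fun a x => by
        rw [map_smul, Cocycle.snd_smul, RingHom.id_apply, smul_neg] }
  refine ⟨g, fun x y => ?_⟩
  have h := congrArg Prod.snd (map_mul s x y)
  change (s (x * y)).2 = (s x * s y).2 at h
  rw [Cocycle.snd_mul, hs, hs] at h
  change c.f x y = x • (-(s y).2) - (-(s (x * y)).2) + y • (-(s x).2)
  rw [h, smul_neg, smul_neg]
  abel

end Groth.Agent.S5830
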