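import Groth.Statements.S5831
import Mathlib.Tactic.LinearCombination
import Mathlib.Tactic.Abel
import Mathlib.RingTheory.Ideal.Operations
import Mathlib.RingTheory.Ideal.Quotient.Operations

set_option autoImplicit false
universe u
open EGA41

namespace Groth.Agent.S5831

section Lift

variable {A B E : Type u} [CommRing A] [CommRing B] [Algebra A B] [CommRing E] [Algebra A E]
  (I : Ideal E) (hI : I ^ 2 = ⊥) (φ : B →ₐ[A] E ⧸ I) (σ : B →ₗ[A] E)
  (hσ : ∀ b, Ideal.Quotient.mk I (σ b) = φ b)

include hI in
theorem mul_eq_zero_of_mem {x y : E} (hx : x ∈ I) (hy : y ∈ I) : x * y = 0 := by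
  have : x * y ∈ I ^ 2 := by
    rw [pow_two]
    exact Ideal.mul_mem_mul hx hy
  rw [hI] at this
  exact this

include hσ in
theorem sigma_mul_sub_mem (x y : B) : σ x * σ y - σ (x * y) ∈ I := by
  rw [← Ideal.Quotient.eq_zero_iff_mem, map_sub, map_mul, hσ, hσ, hσ, map_mul, sub_self]

include hσ in
theorem sigma_one_sub_mem : σ 1 - 1 ∈ I := by
  rw [← Ideal.Quotient.eq_zero_iff_mem, map_sub, hσ, map_one, map_one, sub_self]

/-- The action of `B` on the square-zero ideal through the linear lift. -/
@[reducible] def moduleB : Module B I where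
  smul b i := ⟨σ b * i.1, I.mul_mem_left _ i.2⟩
  one_smul i := by
    apply Subtype.ext
    change σ 1 * i.1 = i.1
    have := mul_eq_zero_of_mem I hI (sigma_one_sub_mem I φ σ hσ) i.2
    linear_combination this
  mul_smul x y i := by
    apply Subtype.ext
    change σ (x * y) * i.1 = σ x * (σ y * i.1)
    have := mul_eq_zero_of_mem I hI (sigma_mul_sub_mem I φ σ hσ x y) i.2
    linear_combination -this
  smul_zero b := by
    apply Subtype.ext
    change σ b * (0 : E) = 0
    rw [mul_zero]
  smul_add b i j := by
    apply Subtype.ext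
    change σ b * (i.1 + j.1) = σ b * i.1 + σ b * j.1
    rw [mul_add]
  add_smul x y i := by
    apply Subtype.ext
    change σ (x + y) * i.1 = σ x * i.1 + σ y * i.1
    rw [map_add, add_mul]
  zero_smul i := by
    apply Subtype.ext
    change σ 0 * i.1 = 0
    rw [map_zero, zero_mul]

end Lift

/-- Discrete case. Let B be an A-algebra which is a projective A-module (A and B in one universe). If
for every B-module L in that universe every A-bilinear symmetric Hochschild 2-cocycle B × B → L is a
coboundary, then B is formally smooth over A. (The published statement assumes B formally projective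
as a topological A-module; for discrete rings this is projectivity.) -/
theorem result {A B : Type u} [CommRing A]
    [CommRing B] [Algebra A B] [Module.Projective A B]
    (h : ∀ (L : Type u) [AddCommGroup L] [Module B L] [Module A L] [IsScalarTower A B L]
      (f : B →ₗ[A] B →ₗ[A] L), (∀ x y : B, f x y = f y x) →
        (∀ x y z : B, f (x * y) z + z • f x y = x • f y z + f x (y * z)) →
          ∃ g : B →ₗ[A] L, ∀ x y : B, f x y = x • g y - g (x * y) + y • g x) :
    Algebra.FormallySmooth A B := by
  apply Algebra.FormallySmooth.of_comp_surjective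
  intro E _ _ I hI φ
  -- linear lift
  obtain ⟨σ, hσ'⟩ := Module.projective_lifting_property (Ideal.Quotient.mkₐ A I).toLinearMap
    φ.toLinearMap Ideal.Quotient.mk_surjective
  have hσ : ∀ b, Ideal.Quotient.mk I (σ b) = φ b := fun b => LinearMap.congr_fun hσ' b
  let modB : Module B I := moduleB I hI φ σ hσ
  have smul_def : ∀ (b : B) (i : I), ((b • i : I) : E) = σ b * i.1 := fun _ _ => rfl
  have : IsScalarTower A B I := ⟨fun a b i => by
    apply Subtype.ext
    rw [smul_def, Submodule.coe_smul_of_tower, smul_def, map_smul, smul_mul_assoc]⟩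
  let f : B →ₗ[A] B →ₗ[A] I :=
    LinearMap.mk₂ A (fun x y => ⟨σ x * σ y - σ (x * y), sigma_mul_sub_mem I φ σ hσ x y⟩)
      (fun x x' y => by
        apply Subtype.ext
        change σ (x + x') * σ y - σ ((x + x') * y) =
          (σ x * σ y - σ (x * y)) + (σ x' * σ y - σ (x' * y))
        rw [add_mul, map_add, map_add]; ring)
      (fun a x y => by
        apply Subtype.ext
        change σ (a • x) * σ y - σ ((a • x) * y) = a • (σ x * σ y - σ (x * y))
        rw [smul_mul_assoc, map_smul, map_smul, smul_mul_assoc, smul_sub])
      (fun x y y' => by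
        apply Subtype.ext
        change σ x * σ (y + y') - σ (x * (y + y')) =
          (σ x * σ y - σ (x * y)) + (σ x * σ y' - σ (x * y'))
        rw [mul_add, map_add, map_add]; ring)
      (fun a x y => by
        apply Subtype.ext
        change σ x * σ (a • y) - σ (x * (a • y)) = a • (σ x * σ y - σ (x * y))
        rw [mul_smul_comm, map_smul, map_smul, mul_smul_comm, smul_sub])
  have hf : ∀ x y, ((f x y : I) : E) = σ x * σ y - σ (x * y) := fun _ _ => rfl
  obtain ⟨g, hg⟩ := h I f
    (fun x y => by
      apply Subtype.ext
      rw [hf, hf, mul_comm (σ x), mul_comm x])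
    (fun x y z => by
      apply Subtype.ext
      rw [Submodule.coe_add, Submodule.coe_add, smul_def, smul_def, hf, hf, hf, hf, mul_assoc x y z]
      ring)
  have hg' : ∀ x y, σ x * σ y - σ (x * y) = σ x * (g y).1 - (g (x * y)).1 + σ y * (g x).1 := by
    intro x y
    have := congrArg Subtype.val (hg x y)
    rw [hf] at this
    rw [this]
    rfl
  -- the corrected lift
  have hmul : ∀ x y, σ (x * y) - (g (x * y)).1 = (σ x - (g x).1) * (σ y - (g y).1) := by
    intro x y
    have h0 := mul_eq_zero_of_mem I hI (g x).2 (g y).2
    have h1 := hg' x y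
    linear_combination -h1 - h0
  have hone : σ 1 - (g 1).1 = 1 := by
    have h1 := hmul 1 1
    rw [mul_one] at h1
    have hmem : σ 1 - (g 1).1 - 1 ∈ I := by
      have := I.sub_mem (sigma_one_sub_mem I φ σ hσ) (g 1).2
      convert this using 1
      ring
    have h2 := mul_eq_zero_of_mem I hI hmem hmem
    linear_combination -h2 - h1
  let ψ : B →ₐ[A] E :=
    AlgHom.ofLinearMap
      { toFun := fun x => σ x - (g x).1
        map_add' := fun x y => by
          rw [map_add, map_add, Submodule.coe_add]; ring
        map_smul' := fun a x => by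
          rw [map_smul, map_smul, Submodule.coe_smul_of_tower, RingHom.id_apply, smul_sub] }
      hone
      (fun x y => hmul x y)
  refine ⟨ψ, ?_⟩
  ext b
  change Ideal.Quotient.mk I (σ b - (g b).1) = φ b
  rw [map_sub, hσ, Ideal.Quotient.eq_zero_iff_mem.2 (g b).2, sub_zero]

end Groth.Agent.S5831
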