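import Groth.Statements.S5832
import Mathlib.Tactic.LinearCombination
import Mathlib.Tactic.Abel
import Mathlib.Tactic.Ring

set_option autoImplicit false
universe u u' v
open EGA41

namespace Groth.Agent.S5832

attribute [local instance] Exal.opModule Exal.isCentralScalar_opModule

section Build

variable {Λ : Type u} {A : Type u'} {B C L : Type v}
    [CommRing Λ] [CommRing A] [CommRing B] [CommRing C] [Algebra Λ A] [Algebra Λ B] [Algebra Λ C]
    [Algebra A B] [Algebra B C] [Algebra A C] [IsScalarTower Λ A B] [IsScalarTower Λ A C] [IsScalarTower A B C]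
    [AddCommGroup L] [Module C L] [Module B L] [IsScalarTower B C L]
    (Y : Exal.Ext A B L) (s : B →+* Y.E) (hs1 : ∀ b, Y.proj (s b) = b)
    (hs2 : ∀ r : Λ, s (algebraMap Λ B r) = algebraMap A Y.E (algebraMap Λ A r))

/-- The `A`-module structure on `L` through `A → C`. -/
@[reducible] def moduleA : Module A L := Module.compHom L (algebraMap A C)

/-- The `Λ`-module structure on `L` through `Λ → C`. -/
@[reducible] def moduleΛ : Module Λ L := Module.compHom L (algebraMap Λ C)

include hs1 in
theorem proj_diff (a : A) : Y.proj (algebraMap A Y.E a - s (algebraMap A B a)) = 0 := by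
  rw [map_sub, hs1, AlgHom.commutes, sub_self]

/-- The defect of the section with respect to the `A`-structure. -/
noncomputable def dfun (a : A) : L :=
  Y.kerLift (algebraMap A Y.E a - s (algebraMap A B a)) (proj_diff Y s hs1 a)

theorem incl_dfun (a : A) :
    Y.incl (dfun Y s hs1 a) = algebraMap A Y.E a - s (algebraMap A B a) :=
  Y.incl_kerLift _ _

theorem incl_mul_incl (z z' : L) : Y.incl z * Y.incl z' = 0 := by
  rw [Y.isExtension.mul_incl, (Y.isExtension.exact _).2 ⟨z, rfl⟩, zero_smul, map_zero]

theorem dfun_add (a a' : A) : dfun Y s hs1 (a + a') = dfun Y s hs1 a + dfun Y s hs1 a' := by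
  apply Y.isExtension.incl_injective
  rw [map_add, incl_dfun, incl_dfun, incl_dfun, map_add, map_add, map_add]
  abel

theorem dfun_mul (a a' : A) : dfun Y s hs1 (a * a') =
    algebraMap A B a • dfun Y s hs1 a' + algebraMap A B a' • dfun Y s hs1 a := by
  apply Y.isExtension.incl_injective
  have h1 : Y.incl (algebraMap A B a • dfun Y s hs1 a') =
      algebraMap A Y.E a * Y.incl (dfun Y s hs1 a') := by
    rw [Y.isExtension.mul_incl, AlgHom.commutes]
  have h2 : Y.incl (algebraMap A B a' • dfun Y s hs1 a) =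
      s (algebraMap A B a') * Y.incl (dfun Y s hs1 a) := by
    rw [Y.isExtension.mul_incl, hs1]
  rw [map_add, h1, h2, incl_dfun, incl_dfun, incl_dfun, map_mul, map_mul, map_mul]
  ring

include hs2 in
theorem dfun_algebraMap (r : Λ) : dfun Y s hs1 (algebraMap Λ A r) = 0 := by
  apply Y.isExtension.incl_injective
  rw [incl_dfun, map_zero, ← IsScalarTower.algebraMap_apply Λ A B, hs2, sub_self]

/-- The twisted structure map `A → C ⊕ L`. -/
noncomputable def structHom : A →+* TrivSqZeroExt C L where
  toFun a := TrivSqZeroExt.inl (algebraMap A C a) + TrivSqZeroExt.inr (dfun Y s hs1 a)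
  map_one' := by
    have h : dfun Y s hs1 1 = 0 := by
      apply Y.isExtension.incl_injective
      rw [incl_dfun, map_one, map_one, map_one, sub_self, map_zero]
    rw [map_one, h, TrivSqZeroExt.inr_zero, add_zero, TrivSqZeroExt.inl_one]
  map_mul' x y := by
    apply TrivSqZeroExt.ext
    · simp
    · simp only [TrivSqZeroExt.snd_add, TrivSqZeroExt.snd_inl, TrivSqZeroExt.snd_inr, zero_add,
        TrivSqZeroExt.snd_mul, TrivSqZeroExt.fst_add, TrivSqZeroExt.fst_inl, TrivSqZeroExt.fst_inr,
        add_zero, op_smul_eq_smul]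
      rw [dfun_mul, ← algebraMap_smul C (algebraMap A B x), ← algebraMap_smul C (algebraMap A B y),
        ← IsScalarTower.algebraMap_apply, ← IsScalarTower.algebraMap_apply]
  map_zero' := by
    have h : dfun Y s hs1 0 = 0 := by
      apply Y.isExtension.incl_injective
      rw [incl_dfun, map_zero, map_zero, map_zero, sub_self, map_zero]
    rw [map_zero, h, TrivSqZeroExt.inl_zero, TrivSqZeroExt.inr_zero, add_zero]
  map_add' x y := by
    rw [map_add, dfun_add, TrivSqZeroExt.inl_add, TrivSqZeroExt.inr_add]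
    abel

/-- The carrier of the extension of `C` built from the section. -/
@[nolint unusedArguments]
def XCarrier (Y : Exal.Ext A B L) (s : B →+* Y.E) (_ : ∀ b, Y.proj (s b) = b) (C : Type v)
    [CommRing C] [Module C L] : Type v :=
  TrivSqZeroExt C L

instance : CommRing (XCarrier Y s hs1 C) := inferInstanceAs (CommRing (TrivSqZeroExt C L))

noncomputable instance : Algebra A (XCarrier Y s hs1 C) :=
  (structHom (C := C) Y s hs1 : A →+* XCarrier Y s hs1 C).toAlgebra

theorem algebraMap_X (a : A) : algebraMap A (XCarrier Y s hs1 C) a =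
    TrivSqZeroExt.inl (algebraMap A C a) + TrivSqZeroExt.inr (dfun Y s hs1 a) := rfl

/-- The extension of `C` by `L` on `C ⊕ L` with the twisted `A`-structure. -/
noncomputable def X : Exal.Ext A C L where
  E := XCarrier Y s hs1 C
  proj :=
    { toFun := fun x => TrivSqZeroExt.fst x
      map_one' := TrivSqZeroExt.fst_one
      map_mul' := TrivSqZeroExt.fst_mul
      map_zero' := TrivSqZeroExt.fst_zero
      map_add' := TrivSqZeroExt.fst_add
      commutes' := fun x => by
        change TrivSqZeroExt.fst (TrivSqZeroExt.inl (algebraMap A C x) +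
          TrivSqZeroExt.inr (dfun Y s hs1 x)) = _
        rw [TrivSqZeroExt.fst_add, TrivSqZeroExt.fst_inl, TrivSqZeroExt.fst_inr, add_zero] }
  incl := (TrivSqZeroExt.inrHom C L).toAddMonoidHom
  isExtension :=
    { proj_surjective := fun c => ⟨TrivSqZeroExt.inl c, rfl⟩
      incl_injective := TrivSqZeroExt.inr_injective
      exact := fun x => by
        constructor
        · intro hx
          exact ⟨TrivSqZeroExt.snd x, TrivSqZeroExt.ext hx.symm rfl⟩
        · rintro ⟨z, rfl⟩
          rfl
      mul_incl := fun x z => by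
        refine TrivSqZeroExt.ext ?_ ?_
        · change TrivSqZeroExt.fst x * 0 = 0
          exact mul_zero _
        · change TrivSqZeroExt.fst x • z + MulOpposite.op (0 : C) • TrivSqZeroExt.snd x =
            TrivSqZeroExt.fst x • z
          rw [MulOpposite.op_zero, zero_smul, add_zero] }

/-- First component of an element of the built extension. -/
def fstX (x : (X (C := C) Y s hs1).E) : C := TrivSqZeroExt.fst (x : TrivSqZeroExt C L)

/-- Second component of an element of the built extension. -/
def sndX (x : (X (C := C) Y s hs1).E) : L := TrivSqZeroExt.snd (x : TrivSqZeroExt C L)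

/-- Element of the built extension with given components. -/
def mkX (c : C) (z : L) : (X (C := C) Y s hs1).E :=
  (TrivSqZeroExt.inl c + TrivSqZeroExt.inr z : TrivSqZeroExt C L)

theorem fstX_mkX (c : C) (z : L) : fstX Y s hs1 (mkX Y s hs1 c z) = c := by
  change TrivSqZeroExt.fst (TrivSqZeroExt.inl c + TrivSqZeroExt.inr z : TrivSqZeroExt C L) = c
  rw [TrivSqZeroExt.fst_add, TrivSqZeroExt.fst_inl, TrivSqZeroExt.fst_inr, add_zero]

theorem sndX_mkX (c : C) (z : L) : sndX Y s hs1 (mkX Y s hs1 c z) = z := by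
  change TrivSqZeroExt.snd (TrivSqZeroExt.inl c + TrivSqZeroExt.inr z : TrivSqZeroExt C L) = z
  rw [TrivSqZeroExt.snd_add, TrivSqZeroExt.snd_inl, TrivSqZeroExt.snd_inr, zero_add]

theorem extX {x y : (X (C := C) Y s hs1).E} (h1 : fstX Y s hs1 x = fstX Y s hs1 y)
    (h2 : sndX Y s hs1 x = sndX Y s hs1 y) : x = y :=
  TrivSqZeroExt.ext h1 h2

theorem fstX_zero : fstX Y s hs1 (0 : (X (C := C) Y s hs1).E) = 0 := rfl
theorem sndX_zero : sndX Y s hs1 (0 : (X (C := C) Y s hs1).E) = 0 := rfl
theorem fstX_one : fstX Y s hs1 (1 : (X (C := C) Y s hs1).E) = 1 := rfl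
theorem sndX_one : sndX Y s hs1 (1 : (X (C := C) Y s hs1).E) = 0 := rfl
theorem fstX_add (x y : (X (C := C) Y s hs1).E) :
    fstX Y s hs1 (x + y) = fstX Y s hs1 x + fstX Y s hs1 y := rfl
theorem sndX_add (x y : (X (C := C) Y s hs1).E) :
    sndX Y s hs1 (x + y) = sndX Y s hs1 x + sndX Y s hs1 y := rfl
theorem fstX_mul (x y : (X (C := C) Y s hs1).E) :
    fstX Y s hs1 (x * y) = fstX Y s hs1 x * fstX Y s hs1 y := rfl
theorem sndX_mul (x y : (X (C := C) Y s hs1).E) :
    sndX Y s hs1 (x * y) = fstX Y s hs1 x • sndX Y s hs1 y + fstX Y s hs1 y • sndX Y s hs1 x := by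
  have h := TrivSqZeroExt.snd_mul (R := C) (M := L) x y
  rw [op_smul_eq_smul] at h
  exact h
theorem fstX_algebraMap (a : A) :
    fstX Y s hs1 (algebraMap A (X (C := C) Y s hs1).E a) = algebraMap A C a := by
  change TrivSqZeroExt.fst (TrivSqZeroExt.inl (algebraMap A C a) +
    TrivSqZeroExt.inr (dfun Y s hs1 a) : TrivSqZeroExt C L) = _
  rw [TrivSqZeroExt.fst_add, TrivSqZeroExt.fst_inl, TrivSqZeroExt.fst_inr, add_zero]
theorem sndX_algebraMap (a : A) :
    sndX Y s hs1 (algebraMap A (X (C := C) Y s hs1).E a) = dfun Y s hs1 a := by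
  change TrivSqZeroExt.snd (TrivSqZeroExt.inl (algebraMap A C a) +
    TrivSqZeroExt.inr (dfun Y s hs1 a) : TrivSqZeroExt C L) = _
  rw [TrivSqZeroExt.snd_add, TrivSqZeroExt.snd_inl, TrivSqZeroExt.snd_inr, zero_add]
theorem proj_X (x : (X (C := C) Y s hs1).E) : (X (C := C) Y s hs1).proj x = fstX Y s hs1 x := rfl
theorem incl_X (z : L) : (X (C := C) Y s hs1).incl z = mkX Y s hs1 0 z := by
  apply extX
  · rw [fstX_mkX]; rfl
  · rw [sndX_mkX]; rfl

include hs2 in
theorem X_isTrivialOver : (X (C := C) Y s hs1).IsTrivialOver Λ := by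
  refine ⟨{ toFun := fun c => mkX Y s hs1 c 0
            map_one' := ?_
            map_mul' := ?_
            map_zero' := ?_
            map_add' := ?_
            commutes' := ?_ }, fun c => ?_⟩
  · apply extX
    · rw [fstX_mkX]; rfl
    · rw [sndX_mkX]; rfl
  · intro x y
    apply extX
    · change fstX Y s hs1 (mkX Y s hs1 (x * y) 0) =
        fstX Y s hs1 (mkX Y s hs1 x 0 * mkX Y s hs1 y 0)
      rw [fstX_mul, fstX_mkX, fstX_mkX, fstX_mkX]
    · change sndX Y s hs1 (mkX Y s hs1 (x * y) 0) =
        sndX Y s hs1 (mkX Y s hs1 x 0 * mkX Y s hs1 y 0)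
      rw [sndX_mul, sndX_mkX, sndX_mkX, sndX_mkX, smul_zero, smul_zero, add_zero]
  · apply extX
    · rw [fstX_mkX]; rfl
    · rw [sndX_mkX]; rfl
  · intro x y
    apply extX
    · change fstX Y s hs1 (mkX Y s hs1 (x + y) 0) =
        fstX Y s hs1 (mkX Y s hs1 x 0 + mkX Y s hs1 y 0)
      rw [fstX_add, fstX_mkX, fstX_mkX, fstX_mkX]
    · change sndX Y s hs1 (mkX Y s hs1 (x + y) 0) =
        sndX Y s hs1 (mkX Y s hs1 x 0 + mkX Y s hs1 y 0)
      rw [sndX_add, sndX_mkX, sndX_mkX, sndX_mkX, add_zero]
  · intro r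
    change mkX Y s hs1 (algebraMap Λ C r) 0 =
      algebraMap A (X (C := C) Y s hs1).E (algebraMap Λ A r)
    apply extX
    · rw [fstX_mkX, fstX_algebraMap, ← IsScalarTower.algebraMap_apply]
    · rw [sndX_mkX, sndX_algebraMap, dfun_algebraMap Y s hs1 hs2]
  · change fstX Y s hs1 (mkX Y s hs1 c 0) = c
    rw [fstX_mkX]

theorem mem_fiberProd (p : ((X (C := C) Y s hs1).pullback B).E) :
    fstX Y s hs1 p.1.1 = algebraMap B C p.1.2 :=
  p.2

/-- The comparison map from the inverse image to the given extension. -/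
noncomputable def toY : ((X (C := C) Y s hs1).pullback B).E →ₐ[A] Y.E where
  toFun p := s p.1.2 + Y.incl (sndX Y s hs1 p.1.1)
  map_one' := by
    change s 1 + Y.incl (sndX Y s hs1 1) = 1
    rw [map_one, sndX_one, map_zero, add_zero]
  map_mul' p q := by
    change s (p.1.2 * q.1.2) + Y.incl (sndX Y s hs1 (p.1.1 * q.1.1)) = _
    rw [sndX_mul, mem_fiberProd, mem_fiberProd, algebraMap_smul,
      algebraMap_smul, map_add, map_mul, add_mul, mul_add, mul_add, incl_mul_incl,
      Y.isExtension.mul_incl, hs1, mul_comm (Y.incl _) (s _), Y.isExtension.mul_incl, hs1]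
    abel
  map_zero' := by
    change s 0 + Y.incl (sndX Y s hs1 0) = 0
    rw [map_zero, sndX_zero, map_zero, add_zero]
  map_add' p q := by
    change s (p.1.2 + q.1.2) + Y.incl (sndX Y s hs1 (p.1.1 + q.1.1)) = _
    rw [sndX_add, map_add, map_add]
    abel
  commutes' a := by
    change s (algebraMap A B a) + Y.incl (sndX Y s hs1
      (algebraMap A (X (C := C) Y s hs1).E a)) = _
    rw [sndX_algebraMap, incl_dfun]
    abel

theorem toY_apply (p : ((X (C := C) Y s hs1).pullback B).E) :
    toY Y s hs1 p = s p.1.2 + Y.incl (sndX Y s hs1 p.1.1) := rfl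

theorem proj_toY (p : ((X (C := C) Y s hs1).pullback B).E) :
    Y.proj (toY Y s hs1 p) = p.1.2 := by
  rw [toY_apply, map_add, hs1, (Y.isExtension.exact _).2 ⟨_, rfl⟩, add_zero]

theorem toY_bijective : Function.Bijective (toY (C := C) Y s hs1) := by
  constructor
  · rw [injective_iff_map_eq_zero]
    intro p hp
    have h2 : p.1.2 = 0 := by
      rw [← proj_toY Y s hs1 p, hp, map_zero]
    have h3 : sndX Y s hs1 p.1.1 = 0 := by
      apply Y.isExtension.incl_injective
      rw [toY_apply, h2, map_zero, zero_add] at hp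
      rw [hp, map_zero]
    have h1 : fstX Y s hs1 p.1.1 = 0 := by
      rw [mem_fiberProd, h2, map_zero]
    apply Subtype.ext
    apply Prod.ext
    · exact extX Y s hs1 h1 h3
    · exact h2
  · intro y
    have hy : Y.proj (y - s (Y.proj y)) = 0 := by
      rw [map_sub, hs1, sub_self]
    obtain ⟨z, hz⟩ := (Y.isExtension.exact _).1 hy
    refine ⟨⟨(mkX Y s hs1 (algebraMap B C (Y.proj y)) z, Y.proj y), ?_⟩, ?_⟩
    · change fstX Y s hs1 (mkX Y s hs1 (algebraMap B C (Y.proj y)) z) = algebraMap B C (Y.proj y)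
      rw [fstX_mkX]
    · change s (Y.proj y) + Y.incl (sndX Y s hs1 (mkX Y s hs1 (algebraMap B C (Y.proj y)) z)) = y
      rw [sndX_mkX, hz]
      abel

/-- The inverse image of the built extension is equivalent to the given one. -/
noncomputable def equivY : ((X (C := C) Y s hs1).pullback B).Equiv Y where
  toAlgEquiv := AlgEquiv.ofBijective (toY Y s hs1) (toY_bijective Y s hs1)
  proj_apply p := proj_toY Y s hs1 p
  apply_incl z := by
    change s 0 + Y.incl (sndX Y s hs1 ((X (C := C) Y s hs1).incl z)) = Y.incl z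
    rw [map_zero, zero_add, incl_X, sndX_mkX]

end Build

/-- Surjectivity at the end of the sequence. For ring maps Λ → A → B → C and a C-module L, every
Λ-trivial A-extension of B by L is equivalent to the inverse image along B → C of a Λ-trivial
A-extension of C by L. (Exactness at the other places is that of the six-term derivation-extension
sequence restricted to Λ-trivial classes.) -/
theorem result {Λ : Type u} {A : Type u'} {B C L : Type v}
    [CommRing Λ] [CommRing A] [CommRing B] [CommRing C] [Algebra Λ A] [Algebra Λ B] [Algebra Λ C]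
    [Algebra A B] [Algebra B C] [Algebra A C] [IsScalarTower Λ A B] [IsScalarTower Λ A C] [IsScalarTower A B C]
    [AddCommGroup L] [Module C L] [Module B L] [IsScalarTower B C L]
    (Y : Exal.Ext A B L) (hY : Y.IsTrivialOver Λ) :
    ∃ X : Exal.Ext A C L, X.IsTrivialOver Λ ∧ Nonempty ((X.pullback B).Equiv Y) := by
  obtain ⟨t, ht⟩ := hY
  let s : B →+* Y.E :=
    { toFun := fun b => t b
      map_one' := map_one t
      map_mul' := map_mul t
      map_zero' := map_zero t
      map_add' := map_add t }
  have hs1 : ∀ b, Y.proj (s b) = b := ht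
  have hs2 : ∀ r : Λ, s (algebraMap Λ B r) = algebraMap A Y.E (algebraMap Λ A r) := fun r =>
    t.commutes r
  exact ⟨X Y s hs1, X_isTrivialOver Y s hs1 hs2, ⟨equivY Y s hs1⟩⟩

end Groth.Agent.S5832
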