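import Groth.Statements.S5834
import Groth.Agent.S5833
import Mathlib.RingTheory.Smooth.Basic
import Mathlib.RingTheory.Kaehler.JacobiZariski

set_option autoImplicit false
universe u v
open EGA41
open scoped TensorProduct

namespace Groth.Agent.S5834

/-- For a formally smooth `A`-algebra `B`, the map `B ⊗_A Ω_{A/Λ} → Ω_{B/Λ}` has a retraction. -/
theorem exists_retraction (Λ A B : Type*) [CommRing Λ] [CommRing A] [CommRing B] [Algebra Λ A]
    [Algebra Λ B] [Algebra A B] [IsScalarTower Λ A B] [Algebra.FormallySmooth A B] :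
    ∃ r : Ω[B⁄Λ] →ₗ[B] B ⊗[A] Ω[A⁄Λ],
      r ∘ₗ KaehlerDifferential.mapBaseChange Λ A B = LinearMap.id := by
  have hex := KaehlerDifferential.exact_mapBaseChange_map Λ A B
  have hsurj := KaehlerDifferential.map_surjective Λ A B
  have hinj : Function.Injective (KaehlerDifferential.mapBaseChange Λ A B) := by
    rw [injective_iff_map_eq_zero]
    intro x hx
    obtain ⟨y, rfl⟩ := (Algebra.H1Cotangent.exact_δ_mapBaseChange Λ A B x).mp hx
    rw [Subsingleton.elim y 0, map_zero]
  obtain ⟨l, hl⟩ := Module.projective_lifting_property (KaehlerDifferential.map Λ A B B)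
    LinearMap.id hsurj
  have h01 := (hex.split_tfae hinj hsurj).out 0 1
  exact h01.1 ⟨l, hl⟩

/-- Let Λ → A → B be ring maps with B formally smooth over A, K an ideal of B, C = B ⧸ K, and suppose E
= B ⧸ K², as an extension of C by K/K², is Λ-trivial. Then the characteristic homomorphism χ :
Υ_{C/A/Λ} → K/K² of E as an A-extension relative to Λ → A is injective (so that, with the
description of its image as the kernel of K/K² → C ⊗_B Ω_{B/A}, the sequence 0 → Υ_{C/A/Λ} → K/K² →
C ⊗_B Ω_{B/A} → Ω_{C/A} → 0 is exact). -/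
theorem result {Λ : Type u} {A B : Type v} [CommRing Λ]
    [CommRing A] [CommRing B] [Algebra Λ A] [Algebra Λ B] [Algebra A B] [IsScalarTower Λ A B]
    [Algebra.FormallySmooth A B] (K : Ideal B)
    (htriv : ((Exal.Ext.infinitesimal K).restrictBase A).IsTrivialOver Λ)
    (χ : ↥(EGA41.imperfection Λ A (B ⧸ K)) →ₗ[B ⧸ K] K.Cotangent)
    (hχ : ((Exal.Ext.infinitesimal K).restrictBase A).IsCharHom Λ χ) :
    Function.Injective χ := by
  rw [injective_iff_map_eq_zero]
  intro z hz
  have h1 := ((Groth.Agent.S5833.result K htriv χ hχ).1 z).1 hz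
  obtain ⟨r, hr⟩ := exists_retraction Λ A B
  have h2 := congrArg (r.baseChange (B ⧸ K)) h1
  rw [← LinearMap.comp_apply, ← LinearMap.baseChange_comp, hr, LinearMap.baseChange_id,
    LinearMap.id_apply, map_zero, LinearEquiv.map_eq_zero_iff] at h2
  exact Subtype.ext h2

end Groth.Agent.S5834
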