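import Groth.Statements.S5835
import Groth.Agent.Lib.MacLane6H44
import Groth.Agent.S2466

set_option autoImplicit false
universe v w
open scoped TensorProduct
open EGA41

namespace Groth.Agent.S5835

open TensorProduct Algebra KaehlerDifferential

section Helpers

/-- the kernel of `Ω[B⁄R] → Ω[B⁄A]` is contained in every `B`-submodule containing `d a`,
`a ∈ A` -/
theorem ker_map_le (R A B : Type*) [CommRing R] [CommRing A] [CommRing B] [Algebra R A]
    [Algebra R B] [Algebra A B] [IsScalarTower R A B] (S : Submodule B Ω[B⁄R])
    (hS : ∀ a : A, KaehlerDifferential.D R B (algebraMap A B a) ∈ S) :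
    LinearMap.ker (KaehlerDifferential.map R A B B) ≤ S := by
  rw [← KaehlerDifferential.range_mapBaseChange]
  have hmap : ∀ w : Ω[A⁄R], KaehlerDifferential.map R R A B w ∈ S := by
    intro w
    have hw : w ∈ Submodule.span A (Set.range (KaehlerDifferential.D R A)) := by
      rw [KaehlerDifferential.span_range_derivation]; trivial
    induction hw using Submodule.span_induction with
    | mem w hw =>
      obtain ⟨z, rfl⟩ := hw
      rw [KaehlerDifferential.map_D]
      exact hS z
    | zero => simp
    | add a b _ _ ha hb => rw [map_add]; exact S.add_mem ha hb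
    | smul f w _ hw =>
      rw [map_smul]
      exact S.smul_of_tower_mem f hw
  rintro _ ⟨t, rfl⟩
  induction t using TensorProduct.induction_on with
  | zero => simp
  | tmul l w =>
    rw [KaehlerDifferential.mapBaseChange_tmul]
    exact S.smul_mem l (hmap w)
  | add a b ha hb => rw [map_add]; exact S.add_mem ha hb

variable {k : Type v} {k₀ K L : Type w}
    [Field k₀] [Field k] [Field K] [Field L] [Algebra k₀ k] [Algebra k₀ K] [Algebra k₀ L] [Algebra k K]
    [Algebra k L] [Algebra K L] [IsScalarTower k₀ k K] [IsScalarTower k₀ k L] [IsScalarTower k₀ K L]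
    [IsScalarTower k K L]

/-- if `L` is formally smooth over `K`, the imperfection module vanishes -/
theorem eq_zero_of_formallySmooth_top [Algebra.FormallySmooth K L] (z : L ⊗[K] Ω[K⁄k₀])
    (hz : z ∈ EGA41.imperfection k₀ K L) : z = 0 := by
  have hinj : Function.Injective (KaehlerDifferential.mapBaseChange k₀ K L) := by
    rw [injective_iff_map_eq_zero]
    intro x hx
    obtain ⟨y, rfl⟩ := (H1Cotangent.exact_δ_mapBaseChange k₀ K L x).1 hx
    rw [Subsingleton.elim y 0, map_zero]
  exact hinj (hz.trans (map_zero _).symm)

theorem map_map (w : Ω[k⁄k₀]) :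
    KaehlerDifferential.map k₀ k₀ K L (KaehlerDifferential.map k₀ k₀ k K w) =
      KaehlerDifferential.map k₀ k₀ k L w := by
  have key : ((KaehlerDifferential.map k₀ k₀ K L).restrictScalars k) ∘ₗ
      (KaehlerDifferential.map k₀ k₀ k K) = KaehlerDifferential.map k₀ k₀ k L := by
    apply Derivation.liftKaehlerDifferential_unique
    ext a
    simp [KaehlerDifferential.map_D, ← IsScalarTower.algebraMap_apply]
  exact LinearMap.congr_fun key w

theorem compat (w' : L ⊗[K] (K ⊗[k] Ω[k⁄k₀])) :
    KaehlerDifferential.mapBaseChange k₀ K L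
        ((KaehlerDifferential.mapBaseChange k₀ k K).lTensor L w') =
      KaehlerDifferential.mapBaseChange k₀ k L
        (TensorProduct.AlgebraTensorModule.cancelBaseChange k K L L Ω[k⁄k₀] w') := by
  induction w' using TensorProduct.induction_on with
  | zero => simp
  | add a b ha hb => simp only [map_add, ha, hb]
  | tmul l t =>
    induction t using TensorProduct.induction_on with
    | zero => simp
    | add a b ha hb => simp only [tmul_add, map_add, ha, hb]
    | tmul a w =>
      rw [LinearMap.lTensor_tmul, KaehlerDifferential.mapBaseChange_tmul,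
        KaehlerDifferential.mapBaseChange_tmul, map_smul, map_map,
        TensorProduct.AlgebraTensorModule.cancelBaseChange_tmul,
        KaehlerDifferential.mapBaseChange_tmul, smul_assoc, smul_comm]

/-- case 1: `L` formally smooth over `k` -/
theorem eq_zero_of_formallySmooth_bot [Algebra.FormallySmooth k L] (z : L ⊗[K] Ω[K⁄k₀])
    (hz : z ∈ EGA41.imperfection k₀ K L)
    (hz' : (KaehlerDifferential.map k₀ k K K).baseChange L z = 0) : z = 0 := by
  have hinj : Function.Injective (KaehlerDifferential.mapBaseChange k₀ k L) := by
    rw [injective_iff_map_eq_zero]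
    intro x hx
    obtain ⟨y, rfl⟩ := (H1Cotangent.exact_δ_mapBaseChange k₀ k L x).1 hx
    rw [Subsingleton.elim y 0, map_zero]
  have hex := lTensor_exact L (KaehlerDifferential.exact_mapBaseChange_map k₀ k K)
    (KaehlerDifferential.map_surjective k₀ k K)
  have hz'' : (KaehlerDifferential.map k₀ k K K).lTensor L z = 0 := hz'
  obtain ⟨w', rfl⟩ := (hex z).1 hz''
  have h1 : KaehlerDifferential.mapBaseChange k₀ K L
      ((KaehlerDifferential.mapBaseChange k₀ k K).lTensor L w') = 0 := hz
  rw [compat] at h1
  have h2 := hinj (h1.trans (map_zero _).symm)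
  have h3 : w' = 0 := (LinearEquiv.map_eq_zero_iff _).1 h2
  rw [h3, map_zero]

/-- case 3: `k ⊆ k₀(K^p)` -/
theorem injective_of_le (p : ℕ) [CharP K p]
    (h : ∀ x : k, algebraMap k K x ∈ EGA41.pPowerSubalgebra p k₀ K) :
    Function.Injective ((KaehlerDifferential.map k₀ k K K).baseChange L) := by
  have hker : LinearMap.ker (KaehlerDifferential.map k₀ k K K) ≤ ⊥ := by
    apply ker_map_le
    intro a
    rw [Submodule.mem_bot]
    exact Groth.Agent.S2466.D_eq_zero_of_mem p _ (h a)
  have hinj : Function.Injective (KaehlerDifferential.map k₀ k K K) :=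
    LinearMap.ker_eq_bot.1 (le_bot_iff.1 hker)
  exact Module.Flat.lTensor_preserves_injective_linearMap (M := L) _ hinj

end Helpers

/-- For fields k₀ ⊆ k ⊆ K ⊆ L, the map of imperfection modules Υ_{L/K/k₀} → Υ_{L/K/k} induced by
Ω_{K/k₀} → Ω_{K/k} is injective (k is k₀-admissible for the extension L of K) in each of the
following cases: L is separable over k; L is separable over K; k lies in k₀(K^p), p the
characteristic exponent. Separable means geometrically reduced (not necessarily algebraic). -/
theorem result {k : Type v} {k₀ K L : Type w}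
    [Field k₀] [Field k] [Field K] [Field L] [Algebra k₀ k] [Algebra k₀ K] [Algebra k₀ L] [Algebra k K]
    [Algebra k L] [Algebra K L] [IsScalarTower k₀ k K] [IsScalarTower k₀ k L] [IsScalarTower k₀ K L]
    [IsScalarTower k K L] (p : ℕ) [ExpChar K p]
    (h : Algebra.IsGeometricallyReduced k L ∨ Algebra.IsGeometricallyReduced K L ∨
      ∀ x : k, algebraMap k K x ∈ EGA41.pPowerSubalgebra p k₀ K) :
    ∀ z : L ⊗[K] Ω[K⁄k₀], z ∈ EGA41.imperfection k₀ K L →
      (KaehlerDifferential.map k₀ k K K).baseChange L z = 0 → z = 0 := by
  intro z hz hz'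
  cases ‹ExpChar K p› with
  | zero =>
    have : Algebra.FormallySmooth K L :=
      Groth.Agent.Lib.MacLane4H44.formallySmooth_of_charZero K L
    exact eq_zero_of_formallySmooth_top z hz
  | prime hprime =>
    rcases h with h | h | h
    · have : Algebra.FormallySmooth k L :=
        Groth.Agent.Lib.MacLane6H44.formallySmooth_of_isGeometricallyReduced k L
      exact eq_zero_of_formallySmooth_bot z hz hz'
    · have : Algebra.FormallySmooth K L :=
        (Groth.Agent.Lib.MacLane4H44.formallySmooth_iff_isGeometricallyReduced K L).2 h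
      exact eq_zero_of_formallySmooth_top z hz
    · exact injective_of_le p h (hz'.trans (map_zero _).symm)

end Groth.Agent.S5835
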