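import Groth.Statements.S5837
import Groth.Agent.S5833
import Groth.Agent.S5836
import Mathlib.RingTheory.Flat.Equalizer
import Mathlib.LinearAlgebra.Dimension.Constructions
import Mathlib.LinearAlgebra.Dimension.RankNullity
import Mathlib.LinearAlgebra.Dimension.DivisionRing

set_option autoImplicit false
universe u u' w
open scoped TensorProduct
open EGA41
set_option linter.unusedSectionVars false

namespace Groth.Agent.S5837

open KaehlerDifferential
open Groth.Agent.S5833 (imgB imgB_tmul imgB_zero imgB_add mapBaseChange_imgB exact_base psi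
  exists_imgB_eq)
open Groth.Agent.S5836 (map_map_gen)

section Setup

variable {k₀ : Type u} {k : Type u'} {K L M : Type w}
    [Field k₀] [Field k] [Field K] [Field L] [Field M] [Algebra k₀ k]
    [Algebra k₀ K] [Algebra k K] [IsScalarTower k₀ k K] [Algebra k₀ L] [Algebra k L] [IsScalarTower k₀ k L]
    [Algebra K L] [Algebra K M] [Algebra L M] [IsScalarTower K L M]
    [Algebra k₀ M] [Algebra k M] [IsScalarTower k₀ K L] [IsScalarTower k K L]
    [IsScalarTower k₀ K M] [IsScalarTower k K M] [IsScalarTower k₀ L M] [IsScalarTower k L M]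

theorem tower_k₀kM (k₀ : Type u) (k : Type u') (L M : Type w)
    [Field k₀] [Field k] [Field L] [Field M] [Algebra k₀ k]
    [Algebra k₀ L] [Algebra k L] [IsScalarTower k₀ k L] [Algebra L M]
    [Algebra k₀ M] [Algebra k M] [IsScalarTower k₀ L M] [IsScalarTower k L M] :
    IsScalarTower k₀ k M :=
  IsScalarTower.of_algebraMap_eq (fun x => by
    rw [IsScalarTower.algebraMap_apply k₀ L M, IsScalarTower.algebraMap_apply k₀ k L,
      ← IsScalarTower.algebraMap_apply k L M])

variable (k₀ K L M) in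
/-- The map `M ⊗_K Ω_{K/k₀} → M ⊗_L Ω_{L/k₀}` as a linear map. -/
noncomputable def Qlin : M ⊗[K] Ω[K⁄k₀] →ₗ[M] M ⊗[L] Ω[L⁄k₀] :=
  ((KaehlerDifferential.mapBaseChange k₀ K L).baseChange M) ∘ₗ
    (TensorProduct.AlgebraTensorModule.cancelBaseChange K L M M Ω[K⁄k₀]).symm.toLinearMap

theorem Qlin_apply (z : M ⊗[K] Ω[K⁄k₀]) : Qlin k₀ K L M z = imgB k₀ K L M z := rfl

variable (k₀ k K M) in
/-- The map `M ⊗_K Ω_{K/k₀} → M ⊗_K Ω_{K/k}`. -/
noncomputable abbrev RM : M ⊗[K] Ω[K⁄k₀] →ₗ[M] M ⊗[K] Ω[K⁄k] :=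
  (KaehlerDifferential.map k₀ k K K).baseChange M

theorem nat_R (z : M ⊗[K] Ω[K⁄k₀]) :
    RM k₀ k L M (imgB k₀ K L M z) = imgB k K L M (RM k₀ k K M z) := by
  induction z using TensorProduct.induction_on with
  | zero => rw [imgB_zero, map_zero, map_zero, imgB_zero]
  | add x y hx hy => rw [imgB_add, map_add, map_add, imgB_add, hx, hy]
  | tmul c ω =>
    rw [imgB_tmul, LinearMap.baseChange_tmul, LinearMap.baseChange_tmul, imgB_tmul, map_map_gen,
      map_map_gen]

theorem map_kk_zero (ω : Ω[k⁄k₀]) : KaehlerDifferential.map k₀ k k K ω = 0 := by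
  have hω : ω ∈ Submodule.span k (Set.range (D k₀ k)) := by
    rw [KaehlerDifferential.span_range_derivation]; trivial
  induction hω using Submodule.span_induction with
  | mem x hx =>
    obtain ⟨a, rfl⟩ := hx
    rw [KaehlerDifferential.map_D, Derivation.map_algebraMap]
  | zero => rw [map_zero]
  | add x y _ _ hx hy => rw [map_add, hx, hy, add_zero]
  | smul a x _ hx => rw [map_smul, hx, smul_zero]

theorem lift_t (t : haveI := tower_k₀kM k₀ k L M; M ⊗[k] Ω[k⁄k₀]) :
    haveI := tower_k₀kM k₀ k L M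
    ∃ z₁ : M ⊗[K] Ω[K⁄k₀], imgB k₀ K L M z₁ = imgB k₀ k L M t ∧ RM k₀ k K M z₁ = 0 := by
  have := tower_k₀kM k₀ k L M
  induction t using TensorProduct.induction_on with
  | zero => exact ⟨0, by rw [imgB_zero, imgB_zero], map_zero _⟩
  | add x y hx hy =>
    obtain ⟨z₁, h1, h2⟩ := hx
    obtain ⟨z₂, h3, h4⟩ := hy
    exact ⟨z₁ + z₂, by rw [imgB_add, imgB_add, h1, h3], by rw [map_add, h2, h4, add_zero]⟩
  | tmul c ω =>
    refine ⟨c ⊗ₜ KaehlerDifferential.map k₀ k₀ k K ω, ?_, ?_⟩
    · rw [imgB_tmul, imgB_tmul, map_map_gen]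
    · rw [LinearMap.baseChange_tmul, map_map_gen, map_kk_zero, TensorProduct.tmul_zero]

theorem surj_part (w : M ⊗[L] Ω[L⁄k₀]) (hw : w ∈ EGA41.imperfection k₀ L M)
    (hw2 : RM k₀ k L M w = 0) :
    ∃ z : M ⊗[K] Ω[K⁄k₀], z ∈ EGA41.imperfection k₀ K M ∧ RM k₀ k K M z = 0 ∧
      imgB k₀ K L M z = w := by
  have := tower_k₀kM k₀ k L M
  have hw3 : psi k₀ k L M w = 0 := hw2
  obtain ⟨t, ht⟩ := exists_imgB_eq (Λ := k₀) (A := k) (B := L) (C := M) w hw3
  obtain ⟨z, hz1, hz2⟩ := lift_t (k₀ := k₀) (k := k) (K := K) (L := L) (M := M) t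
  refine ⟨z, ?_, hz2, hz1.trans ht⟩
  change KaehlerDifferential.mapBaseChange k₀ K M z = 0
  rw [← mapBaseChange_imgB (B := L), hz1, ht]
  exact hw

theorem Q_mem (z : M ⊗[K] Ω[K⁄k₀]) (hz : z ∈ EGA41.imperfection k₀ K M)
    (hz2 : RM k₀ k K M z = 0) :
    imgB k₀ K L M z ∈ EGA41.imperfection k₀ L M ∧ RM k₀ k L M (imgB k₀ K L M z) = 0 := by
  constructor
  · change KaehlerDifferential.mapBaseChange k₀ L M (imgB k₀ K L M z) = 0
    rw [mapBaseChange_imgB]
    exact hz
  · rw [nat_R, hz2, imgB_zero]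

theorem ker_Q_le (z : M ⊗[K] Ω[K⁄k₀]) (hz : imgB k₀ K L M z = 0) :
    z ∈ EGA41.imperfection k₀ K M := by
  change KaehlerDifferential.mapBaseChange k₀ K M z = 0
  rw [← mapBaseChange_imgB (B := L), hz, map_zero]

theorem nat_c (z : M ⊗[K] Ω[K⁄k₀]) :
    ((RM k₀ k K L).baseChange M)
        ((TensorProduct.AlgebraTensorModule.cancelBaseChange K L M M Ω[K⁄k₀]).symm z) =
      (TensorProduct.AlgebraTensorModule.cancelBaseChange K L M M Ω[K⁄k]).symm
        (RM k₀ k K M z) := by
  induction z using TensorProduct.induction_on with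
  | zero => rw [map_zero, map_zero, map_zero, map_zero]
  | add x y hx hy => rw [map_add, map_add, map_add, map_add, hx, hy]
  | tmul c ω =>
    rw [TensorProduct.AlgebraTensorModule.cancelBaseChange_symm_tmul, LinearMap.baseChange_tmul,
      LinearMap.baseChange_tmul, LinearMap.baseChange_tmul,
      TensorProduct.AlgebraTensorModule.cancelBaseChange_symm_tmul]

variable (k₀ k K L) in
/-- The combined map whose kernel is `Δ(L/K, k/k₀)`. -/
noncomputable def Phi : L ⊗[K] Ω[K⁄k₀] →ₗ[L] Ω[L⁄k₀] × (L ⊗[K] Ω[K⁄k]) :=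
  (KaehlerDifferential.mapBaseChange k₀ K L).prod (RM k₀ k K L)

theorem ker_Phi : LinearMap.ker (Phi k₀ k K L) =
    EGA41.imperfection k₀ K L ⊓ LinearMap.ker (RM k₀ k K L) :=
  LinearMap.ker_prod _ _

theorem ker_baseChange_prod {R : Type*} [CommRing R] (S : Type*) [CommRing S] [Algebra R S]
    {V A B : Type*} [AddCommGroup V] [AddCommGroup A] [AddCommGroup B] [Module R V] [Module R A]
    [Module R B] (f : V →ₗ[R] A) (g : V →ₗ[R] B) :
    LinearMap.ker ((f.prod g).baseChange S) =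
      LinearMap.ker (f.baseChange S) ⊓ LinearMap.ker (g.baseChange S) := by
  ext x
  rw [Submodule.mem_inf, LinearMap.mem_ker, LinearMap.mem_ker, LinearMap.mem_ker]
  constructor
  · intro h
    constructor
    · have h1 := congrArg ((LinearMap.fst R A B).baseChange S) h
      rw [← LinearMap.comp_apply, ← LinearMap.baseChange_comp, LinearMap.fst_prod, map_zero] at h1
      exact h1
    · have h1 := congrArg ((LinearMap.snd R A B).baseChange S) h
      rw [← LinearMap.comp_apply, ← LinearMap.baseChange_comp, LinearMap.snd_prod, map_zero] at h1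
      exact h1
  · rintro ⟨h1, h2⟩
    have h3 : f.prod g = (LinearMap.inl R A B).comp f + (LinearMap.inr R A B).comp g := by
      ext v <;> simp
    rw [h3, LinearMap.baseChange_add, LinearMap.add_apply, LinearMap.baseChange_comp,
      LinearMap.baseChange_comp, LinearMap.comp_apply, LinearMap.comp_apply, h1, h2, map_zero,
      map_zero, add_zero]

theorem rank_ker_baseChange {L M V V' : Type w} [Field L] [Field M] [Algebra L M]
    [AddCommGroup V] [AddCommGroup V'] [Module L V] [Module L V'] (f : V →ₗ[L] V') :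
    Module.rank M (LinearMap.ker (f.baseChange M)) = Module.rank L (LinearMap.ker f) := by
  have e : M ⊗[L] LinearMap.ker f ≃ₗ[M] LinearMap.ker (f.baseChange M) :=
    LinearMap.tensorKerEquiv M M f
  rw [← e.rank_eq, Module.rank_baseChange, Cardinal.lift_id]

theorem rank_N :
    Module.rank M ↥(LinearMap.ker (Qlin k₀ K L M) ⊓ LinearMap.ker (RM k₀ k K M)) =
      Module.rank L ↥(EGA41.imperfection k₀ K L ⊓ LinearMap.ker (RM k₀ k K L)) := by
  have hN : LinearMap.ker (Qlin k₀ K L M) ⊓ LinearMap.ker (RM k₀ k K M) =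
      Submodule.map
        (TensorProduct.AlgebraTensorModule.cancelBaseChange K L M M Ω[K⁄k₀]).toLinearMap
        (LinearMap.ker ((Phi k₀ k K L).baseChange M)) := by
    ext z
    rw [Submodule.mem_map_equiv, Phi, ker_baseChange_prod, Submodule.mem_inf, Submodule.mem_inf,
      LinearMap.mem_ker, LinearMap.mem_ker, LinearMap.mem_ker, LinearMap.mem_ker, nat_c,
      LinearEquiv.map_eq_zero_iff]
    rfl
  rw [hN, LinearEquiv.rank_map_eq, rank_ker_baseChange, ker_Phi]

end Setup

/-- Rank form. For fields k₀ ⊆ k ⊆ K ⊆ L ⊆ M, with Δ(F/E, k/k₀) = ker(Υ_{F/E/k₀} → Υ_{F/E/k}) and d its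
rank, one has d(M/K, k/k₀) = d(M/L, k/k₀) + d(L/K, k/k₀) (cardinal ranks; the published statement
gives the short exact sequence 0 → Δ(L/K, k/k₀) ⊗_L M → Δ(M/K, k/k₀) → Δ(M/L, k/k₀) → 0, of which
this row states the rank identity). -/
theorem result {k₀ : Type u} {k : Type u'} {K L M : Type w}
    [Field k₀] [Field k] [Field K] [Field L] [Field M] [Algebra k₀ k]
    [Algebra k₀ K] [Algebra k K] [IsScalarTower k₀ k K] [Algebra k₀ L] [Algebra k L] [IsScalarTower k₀ k L]
    [Algebra K L] [Algebra K M] [Algebra L M] [IsScalarTower K L M]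
    [Algebra k₀ M] [Algebra k M] [IsScalarTower k₀ K L] [IsScalarTower k K L]
    [IsScalarTower k₀ K M] [IsScalarTower k K M] [IsScalarTower k₀ L M] [IsScalarTower k L M] :
    Module.rank M ↥(EGA41.imperfection k₀ K M ⊓
          LinearMap.ker ((KaehlerDifferential.map k₀ k K K).baseChange M)) =
      Module.rank M ↥(EGA41.imperfection k₀ L M ⊓
            LinearMap.ker ((KaehlerDifferential.map k₀ k L L).baseChange M)) +
        Module.rank L ↥(EGA41.imperfection k₀ K L ⊓
            LinearMap.ker ((KaehlerDifferential.map k₀ k K K).baseChange L)) := by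
  have hmaps : ∀ x ∈ EGA41.imperfection k₀ K M ⊓ LinearMap.ker (RM k₀ k K M),
      Qlin k₀ K L M x ∈ EGA41.imperfection k₀ L M ⊓ LinearMap.ker (RM k₀ k L M) := fun x hx =>
    Q_mem x hx.1 hx.2
  have hsurj : Function.Surjective ((Qlin k₀ K L M).restrict hmaps) := by
    rintro ⟨w, hw1, hw2⟩
    obtain ⟨z, hz1, hz2, hz3⟩ := surj_part (K := K) w hw1 hw2
    exact ⟨⟨z, hz1, hz2⟩, Subtype.ext hz3⟩
  have hker : LinearMap.ker ((Qlin k₀ K L M).restrict hmaps) =
      Submodule.comap (EGA41.imperfection k₀ K M ⊓ LinearMap.ker (RM k₀ k K M)).subtype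
        (LinearMap.ker (Qlin k₀ K L M) ⊓ LinearMap.ker (RM k₀ k K M)) := by
    ext x
    rw [LinearMap.mem_ker, Submodule.mem_comap]
    constructor
    · intro hx
      exact ⟨congrArg Subtype.val hx, x.2.2⟩
    · intro hx
      exact Subtype.ext hx.1
  have hle : LinearMap.ker (Qlin k₀ K L M) ⊓ LinearMap.ker (RM k₀ k K M) ≤
      EGA41.imperfection k₀ K M ⊓ LinearMap.ker (RM k₀ k K M) := fun x hx =>
    ⟨ker_Q_le (L := L) x hx.1, hx.2⟩
  have h := LinearMap.rank_range_add_rank_ker (R := M)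
    (M := ↥(EGA41.imperfection k₀ K M ⊓ LinearMap.ker (RM k₀ k K M)))
    (M₁ := ↥(EGA41.imperfection k₀ L M ⊓ LinearMap.ker (RM k₀ k L M)))
    ((Qlin k₀ K L M).restrict hmaps)
  rw [rank_range_of_surjective _ hsurj, hker,
    (Submodule.comapSubtypeEquivOfLe hle).rank_eq, rank_N] at h
  exact h.symm

end Groth.Agent.S5837
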