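import Groth.Statements.S5838
import Groth.Agent.Lib.TopModDeduced

set_option autoImplicit false
universe u v w
open EGA41
set_option linter.unusedSectionVars false

namespace Groth.Agent.S5838

open Groth.Agent.Lib.TopModDeduced

section Easy

variable {A : Type u} {M : Type v} {N : Type w} [CommRing A] [TopologicalSpace A]
  [AddCommGroup M] [Module A M] [TopologicalSpace M]
  [AddCommGroup N] [Module A N] [TopologicalSpace N]

theorem formallyLeftInvertible_of_leftInverse (hM : TopMod.IsDeduced A M)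
    (hN : TopMod.IsDeduced A N) (u : M →L[A] N) (w : N →ₗ[A] M) (hw : ∀ x, w (u x) = x) :
    TopMod.IsFormallyLeftInvertible u := by
  intro E _ _ _ _ v
  refine ⟨⟨v.toLinearMap ∘ₗ w, v.continuous.comp (continuous_linearMap hM hN w)⟩, fun x => ?_⟩
  change v (w (u x)) = v x
  rw [hw]

theorem exists_level (hM : TopMod.IsDeduced A M) (u : M →L[A] N)
    (hu : TopMod.IsFormallyLeftInvertible u) (J : Ideal A) (hJ : IsOpen (J : Set A)) :
    ∃ r : N →ₗ[A] M ⧸ (J • ⊤ : Submodule A M), ∀ x, r (u x) = Submodule.Quotient.mk x := by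
  let _ : TopologicalSpace (M ⧸ (J • ⊤ : Submodule A M)) := ⊥
  have : DiscreteTopology (M ⧸ (J • ⊤ : Submodule A M)) := ⟨rfl⟩
  obtain ⟨w, hw⟩ := hu (M ⧸ (J • ⊤ : Submodule A M))
    ⟨(J • ⊤ : Submodule A M).mkQ, continuous_mkQ hM J hJ⟩
  exact ⟨w.toLinearMap, hw⟩

omit [TopologicalSpace A] [TopologicalSpace M] in
theorem factor_mk' {p p' : Submodule A M} (H : p ≤ p') (x : M) :
    Submodule.factor H (Submodule.Quotient.mk x : M ⧸ p) = Submodule.Quotient.mk x :=
  Submodule.factor_mk H x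

theorem step (hM : TopMod.IsDeduced A M) (u : M →L[A] N)
    (hu : TopMod.IsFormallyLeftInvertible u) (J J' : Ideal A) (hJJ' : J' ≤ J)
    (hJ' : IsOpen (J' : Set A))
    (hproj : Module.Projective (A ⧸ J')
      ((N ⧸ LinearMap.range u.toLinearMap) ⧸
        (J' • (⊤ : Submodule A (N ⧸ LinearMap.range u.toLinearMap)))))
    (s : N →ₗ[A] M ⧸ (J • ⊤ : Submodule A M))
    (hs : ∀ x, s (u x) = Submodule.Quotient.mk x) :
    ∃ s' : N →ₗ[A] M ⧸ (J' • ⊤ : Submodule A M),
      (∀ x, s' (u x) = Submodule.Quotient.mk x) ∧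
        ∀ y, Submodule.factor (Submodule.smul_mono_left hJJ') (s' y) = s y := by
  obtain ⟨r, hr⟩ := exists_level hM u hu J' hJ'
  set fac : (M ⧸ (J' • ⊤ : Submodule A M)) →ₗ[A] M ⧸ (J • ⊤ : Submodule A M) :=
    Submodule.factor (Submodule.smul_mono_left hJJ') with hfac
  let δ : N →ₗ[A] M ⧸ (J • ⊤ : Submodule A M) := s - fac ∘ₗ r
  have hδ : LinearMap.range u.toLinearMap ≤ LinearMap.ker δ := by
    rintro _ ⟨x, rfl⟩
    rw [LinearMap.mem_ker]
    change s (u x) - fac (r (u x)) = 0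
    rw [hs, hr, hfac, factor_mk', sub_self]
  let δ₁ := (LinearMap.range u.toLinearMap).liftQ δ hδ
  have hδ₁ : (J' • (⊤ : Submodule A (N ⧸ LinearMap.range u.toLinearMap))) ≤
      LinearMap.ker δ₁ := by
    rw [Submodule.smul_le]
    intro a ha c _
    rw [LinearMap.mem_ker, map_smul]
    obtain ⟨m, hm⟩ := Submodule.Quotient.mk_surjective _ (δ₁ c)
    rw [← hm, ← Submodule.Quotient.mk_smul, Submodule.Quotient.mk_eq_zero]
    exact Submodule.smul_mem_smul (hJJ' ha) Submodule.mem_top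
  let δ₂ := (J' • (⊤ : Submodule A (N ⧸ LinearMap.range u.toLinearMap))).liftQ δ₁ hδ₁
  have hY : Module.IsTorsionBySet A (M ⧸ (J • ⊤ : Submodule A M)) J' := by
    rw [Module.isTorsionBySet_quotient_iff]
    intro x a ha
    exact Submodule.smul_mem_smul (hJJ' ha) Submodule.mem_top
  obtain ⟨l, hl⟩ := exists_lift_of_projective J'
    (Module.isTorsionBySet_quotient_ideal_smul _ J')
    (Module.isTorsionBySet_quotient_ideal_smul M J') hY hproj fac
    (Submodule.factor_surjective _) δ₂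
  refine ⟨r + l ∘ₗ (J' • (⊤ : Submodule A (N ⧸ LinearMap.range u.toLinearMap))).mkQ ∘ₗ
    (LinearMap.range u.toLinearMap).mkQ, fun x => ?_, fun y => ?_⟩
  · have h0 : (LinearMap.range u.toLinearMap).mkQ (u x) = 0 := by
      rw [Submodule.mkQ_apply, Submodule.Quotient.mk_eq_zero]
      exact ⟨x, rfl⟩
    change r (u x) + l ((J' • ⊤ : Submodule A _).mkQ ((LinearMap.range u.toLinearMap).mkQ (u x))) = _
    rw [h0, map_zero, map_zero, add_zero, hr]
  · change fac (r y + l ((J' • ⊤ : Submodule A _).mkQ ((LinearMap.range u.toLinearMap).mkQ y))) = _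
    rw [map_add, ← LinearMap.comp_apply fac l, hl]
    change fac (r y) + δ y = s y
    change fac (r y) + (s y - fac (r y)) = s y
    abel

end Easy

section Hard

variable {A : Type u} {M : Type v} {N : Type w}
    [CommRing A] [TopologicalSpace A] [AddCommGroup M] [Module A M] [UniformSpace M] [IsUniformAddGroup M]
    [CompleteSpace M] [T2Space M] [AddCommGroup N] [Module A N] [TopologicalSpace N]
    (𝔍 : ℕ → Ideal A) (h𝔍open : ∀ n, IsOpen (𝔍 n : Set A)) (h𝔍anti : Antitone 𝔍)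
    (h𝔍basis : (nhds (0 : A)).HasBasis (fun _ : ℕ => True) (fun n => (𝔍 n : Set A)))
    (hM : TopMod.IsDeduced A M) (u : M →L[A] N)
    (hcoker : ∀ n, Module.Projective (A ⧸ 𝔍 n)
      ((N ⧸ LinearMap.range u.toLinearMap) ⧸ (𝔍 n • (⊤ : Submodule A (N ⧸ LinearMap.range u.toLinearMap)))))
    (hu : TopMod.IsFormallyLeftInvertible u)

/-- Left inverses at level `n`. -/
def Lev (n : ℕ) : Type (max v w) :=
  {s : N →ₗ[A] M ⧸ (𝔍 n • ⊤ : Submodule A M) // ∀ x, s (u x) = Submodule.Quotient.mk x}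

include h𝔍open hM hu in
theorem nonempty_lev_zero : Nonempty (Lev 𝔍 u 0) := by
  obtain ⟨r, hr⟩ := exists_level hM u hu (𝔍 0) (h𝔍open 0)
  exact ⟨⟨r, hr⟩⟩

include h𝔍open h𝔍anti hM hcoker hu in
theorem exists_next (n : ℕ) (s : Lev 𝔍 u n) :
    ∃ s' : Lev 𝔍 u (n + 1), ∀ y,
      Submodule.factor (Submodule.smul_mono_left (h𝔍anti n.le_succ)) (s'.1 y) = s.1 y := by
  obtain ⟨s', h1, h2⟩ := step hM u hu (𝔍 n) (𝔍 (n + 1)) (h𝔍anti n.le_succ) (h𝔍open (n + 1))
    (hcoker (n + 1)) s.1 s.2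
  exact ⟨⟨s', h1⟩, h2⟩

include h𝔍open h𝔍anti hM hcoker hu in
theorem exists_seq : ∃ s : ∀ n, Lev 𝔍 u n, ∀ n y,
    Submodule.factor (Submodule.smul_mono_left (h𝔍anti n.le_succ)) ((s (n + 1)).1 y) =
      (s n).1 y := by
  obtain ⟨s0⟩ := nonempty_lev_zero 𝔍 h𝔍open hM u hu
  refine ⟨fun n => Nat.rec s0
    (fun n s => Classical.choose (exists_next 𝔍 h𝔍open h𝔍anti hM u hcoker hu n s)) n,
    fun n y => ?_⟩
  exact Classical.choose_spec (exists_next 𝔍 h𝔍open h𝔍anti hM u hcoker hu n _) y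

include h𝔍open h𝔍anti h𝔍basis hM in
theorem exists_point (t : ∀ n, M ⧸ (𝔍 n • ⊤ : Submodule A M))
    (ht : ∀ n, Submodule.factor (Submodule.smul_mono_left (h𝔍anti n.le_succ)) (t (n + 1)) = t n) :
    ∃ x : M, ∀ n, (Submodule.Quotient.mk x : M ⧸ (𝔍 n • ⊤ : Submodule A M)) = t n := by
  have hsurj : ∀ n, ∃ m : M, (Submodule.Quotient.mk m : M ⧸ (𝔍 n • ⊤ : Submodule A M)) = t n :=
    fun n => Submodule.Quotient.mk_surjective _ (t n)
  choose m hm using hsurj
  have h1 : ∀ k, m (k + 1) - m k ∈ (𝔍 k • ⊤ : Submodule A M) := by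
    intro k
    rw [← Submodule.Quotient.eq, hm k, ← ht k, ← hm (k + 1), factor_mk']
  obtain ⟨x, hx⟩ := exists_limit 𝔍 h𝔍open h𝔍anti h𝔍basis hM m h1
  refine ⟨x, fun n => ?_⟩
  rw [← hm n, Submodule.Quotient.eq]
  exact hx n

include h𝔍open h𝔍anti h𝔍basis hM hcoker hu in
theorem exists_leftInverse : ∃ w : N →ₗ[A] M, ∀ x : M, w (u x) = x := by
  obtain ⟨s, hs⟩ := exists_seq 𝔍 h𝔍open h𝔍anti hM u hcoker hu
  have hex : ∀ y : N, ∃ x : M, ∀ n,
      (Submodule.Quotient.mk x : M ⧸ (𝔍 n • ⊤ : Submodule A M)) = (s n).1 y := fun y =>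
    exists_point 𝔍 h𝔍open h𝔍anti h𝔍basis hM (fun n => (s n).1 y) (fun n => hs n y)
  choose wf hwf using hex
  have huniq : ∀ (y : N) (x : M),
      (∀ n, (Submodule.Quotient.mk x : M ⧸ (𝔍 n • ⊤ : Submodule A M)) = (s n).1 y) →
        x = wf y := by
    intro y x hx
    apply eq_of_forall_sub_mem 𝔍 h𝔍open h𝔍basis hM
    intro n
    rw [← Submodule.Quotient.eq, hx n, hwf y n]
  refine ⟨{ toFun := wf, map_add' := fun y y' => ?_, map_smul' := fun a y => ?_ }, fun x => ?_⟩
  · symm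
    apply huniq
    intro n
    rw [Submodule.Quotient.mk_add, hwf y n, hwf y' n, map_add]
  · symm
    apply huniq
    intro n
    rw [RingHom.id_apply, Submodule.Quotient.mk_smul, hwf y n, map_smul]
  · symm
    apply huniq
    intro n
    exact ((s n).2 x).symm

end Hard

/-- Let A be a topological ring with a countable decreasing fundamental system (𝔍_n) of open ideals, M
and N topological A-modules with the topologies deduced from that of A, M Hausdorff and complete,
and u : M → N a continuous linear map such that for every n the cokernel of M/𝔍_n M → N/𝔍_n N is a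
projective (A/𝔍_n)-module. Then u is formally left invertible if and only if it has a linear left
inverse. (The published statement adds that u is then a topological isomorphism onto a topological
direct factor.) -/
theorem result {A : Type u} {M : Type v} {N : Type w}
    [CommRing A] [TopologicalSpace A] [AddCommGroup M] [Module A M] [UniformSpace M] [IsUniformAddGroup M]
    [CompleteSpace M] [T2Space M] [AddCommGroup N] [Module A N] [TopologicalSpace N]
    (𝔍 : ℕ → Ideal A) (h𝔍open : ∀ n, IsOpen (𝔍 n : Set A)) (h𝔍anti : Antitone 𝔍)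
    (h𝔍basis : (nhds (0 : A)).HasBasis (fun _ : ℕ => True) (fun n => (𝔍 n : Set A)))
    (hM : TopMod.IsDeduced A M) (hN : TopMod.IsDeduced A N) (u : M →L[A] N)
    (hcoker : ∀ n, Module.Projective (A ⧸ 𝔍 n)
      ((N ⧸ LinearMap.range u.toLinearMap) ⧸ (𝔍 n • (⊤ : Submodule A (N ⧸ LinearMap.range u.toLinearMap))))) :
    TopMod.IsFormallyLeftInvertible u ↔ ∃ w : N →ₗ[A] M, ∀ x : M, w (u x) = x := by
  constructor
  · intro hu
    exact exists_leftInverse 𝔍 h𝔍open h𝔍anti h𝔍basis hM u hcoker hu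
  · rintro ⟨w, hw⟩
    exact formallyLeftInvertible_of_leftInverse hM hN u w hw

end Groth.Agent.S5838
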