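import Groth.Statements.S5839
import Groth.Agent.S5827
import Groth.Agent.S5838

set_option autoImplicit false
universe u v w
open EGA41
set_option linter.unusedSectionVars false

namespace Groth.Agent.S5839

open Groth.Agent.Lib.TopModDeduced

section Alg

variable {A : Type u} {M : Type v} {N : Type w} [CommRing A]
  [AddCommGroup M] [Module A M] [AddCommGroup N] [Module A N]

/-- If `u` has a left inverse modulo `J` and `N ⧸ J • ⊤` is projective over `A ⧸ J`, then so is
the cokernel of `u` modulo `J`. -/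
theorem coker_projective (J : Ideal A)
    (hproj : Module.Projective (A ⧸ J) (N ⧸ (J • ⊤ : Submodule A N)))
    (u : M →ₗ[A] N) (r : N →ₗ[A] M ⧸ (J • ⊤ : Submodule A M))
    (hr : ∀ x, r (u x) = Submodule.Quotient.mk x) :
    Module.Projective (A ⧸ J)
      ((N ⧸ LinearMap.range u) ⧸ (J • (⊤ : Submodule A (N ⧸ LinearMap.range u)))) := by
  have hp : (J • ⊤ : Submodule A N) ≤
      Submodule.comap (LinearMap.range u).mkQ
        (J • (⊤ : Submodule A (N ⧸ LinearMap.range u))) := fun y hy =>
    map_smul_top_le _ J y hy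
  let p := Submodule.mapQ (J • ⊤ : Submodule A N)
    (J • (⊤ : Submodule A (N ⧸ LinearMap.range u))) (LinearMap.range u).mkQ hp
  have hr' : (J • ⊤ : Submodule A N) ≤ LinearMap.ker r := by
    intro y hy
    have h2 := Groth.Agent.S5827.smul_top_quotient_le_bot (M := M) J (map_smul_top_le r _ y hy)
    exact h2
  let r' := (J • ⊤ : Submodule A N).liftQ r hr'
  have hu : (J • ⊤ : Submodule A M) ≤ Submodule.comap u (J • ⊤ : Submodule A N) := fun x hx =>
    map_smul_top_le u J x hx
  let ū := Submodule.mapQ (J • ⊤ : Submodule A M) (J • ⊤ : Submodule A N) u hu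
  let e : (N ⧸ (J • ⊤ : Submodule A N)) →ₗ[A] (N ⧸ (J • ⊤ : Submodule A N)) :=
    LinearMap.id - ū ∘ₗ r'
  have he : LinearMap.range u ≤ LinearMap.ker (e ∘ₗ (J • ⊤ : Submodule A N).mkQ) := by
    rintro _ ⟨x, rfl⟩
    rw [LinearMap.mem_ker]
    change Submodule.Quotient.mk (u x) - ū (r (u x)) = 0
    rw [hr]
    exact sub_self _
  let i₁ := (LinearMap.range u).liftQ (e ∘ₗ (J • ⊤ : Submodule A N).mkQ) he
  have hi₁ : (J • (⊤ : Submodule A (N ⧸ LinearMap.range u))) ≤ LinearMap.ker i₁ := by
    intro c hc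
    have h2 := Groth.Agent.S5827.smul_top_quotient_le_bot (M := N) J (map_smul_top_le i₁ _ c hc)
    exact h2
  let i := (J • (⊤ : Submodule A (N ⧸ LinearMap.range u))).liftQ i₁ hi₁
  have hpu : ∀ q, p (ū q) = 0 := by
    intro q
    obtain ⟨x, rfl⟩ := Submodule.Quotient.mk_surjective _ q
    change Submodule.Quotient.mk ((LinearMap.range u).mkQ (u x)) = 0
    have h0 : (LinearMap.range u).mkQ (u x) = 0 := by
      rw [Submodule.mkQ_apply, Submodule.Quotient.mk_eq_zero]
      exact ⟨x, rfl⟩
    rw [h0, Submodule.Quotient.mk_zero]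
  have hpi : p ∘ₗ i = LinearMap.id := by
    apply LinearMap.ext
    intro c
    obtain ⟨c, rfl⟩ := Submodule.Quotient.mk_surjective _ c
    obtain ⟨y, rfl⟩ := Submodule.Quotient.mk_surjective _ c
    change p (Submodule.Quotient.mk y - ū (r' (Submodule.Quotient.mk y))) = _
    rw [map_sub, hpu, sub_zero]
    rfl
  have hs : Function.Surjective (algebraMap A (A ⧸ J)) := Ideal.Quotient.mk_surjective
  refine Module.Projective.of_split (i.extendScalarsOfSurjective hs)
    (p.extendScalarsOfSurjective hs) ?_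
  apply LinearMap.ext
  intro c
  exact LinearMap.congr_fun hpi c

end Alg

/-- Let A be preadmissible with ideal of definition 𝔏, the topologies of M and N deduced from that of A,
N/JN projective over A/J for every open ideal J; assuming moreover a countable decreasing
fundamental system of open ideals and M Hausdorff and complete, u : M → N has a linear left inverse
if and only if the induced map M/𝔏M → N/𝔏N has one (both being equivalent to formal left
invertibility). -/
theorem result {A : Type u} {M : Type v} {N : Type w}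
    [CommRing A] [TopologicalSpace A] [AddCommGroup M] [Module A M] [UniformSpace M] [IsUniformAddGroup M]
    [CompleteSpace M] [T2Space M] [AddCommGroup N] [Module A N] [TopologicalSpace N]
    (𝔍 : ℕ → Ideal A) (h𝔍open : ∀ n, IsOpen (𝔍 n : Set A)) (h𝔍anti : Antitone 𝔍)
    (h𝔍basis : (nhds (0 : A)).HasBasis (fun _ : ℕ => True) (fun n => (𝔍 n : Set A)))
    (hM : TopMod.IsDeduced A M) (hN : TopMod.IsDeduced A N) (u : M →L[A] N)
    (hA : LinTop.IsPreadmissible A) (𝔏 : Ideal A) (h𝔏 : LinTop.IsIdealOfDefinition A 𝔏)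
    (hproj : ∀ J : Ideal A, IsOpen (J : Set A) → Module.Projective (A ⧸ J) (N ⧸ (J • (⊤ : Submodule A N)))) :
    (∃ w : N →ₗ[A] M, ∀ x : M, w (u x) = x) ↔
      ∃ w₀ : N →ₗ[A] M ⧸ (𝔏 • ⊤ : Submodule A M), ∀ x : M, w₀ (u x) = Submodule.Quotient.mk x := by
  constructor
  · rintro ⟨w, hw⟩
    refine ⟨(𝔏 • ⊤ : Submodule A M).mkQ ∘ₗ w, fun x => ?_⟩
    change Submodule.Quotient.mk (w (u x)) = _
    rw [hw]
  · rintro ⟨w₀, hw₀⟩
    have hu := Groth.Agent.S5827.formallyLeftInvertible_of_mod 𝔏 h𝔏 hM hN hproj u w₀ hw₀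
    have hcoker : ∀ n, Module.Projective (A ⧸ 𝔍 n)
        ((N ⧸ LinearMap.range u.toLinearMap) ⧸
          (𝔍 n • (⊤ : Submodule A (N ⧸ LinearMap.range u.toLinearMap)))) := by
      intro n
      obtain ⟨r, hr⟩ := Groth.Agent.S5838.exists_level hM u hu (𝔍 n) (h𝔍open n)
      exact coker_projective (𝔍 n) (hproj _ (h𝔍open n)) u.toLinearMap r hr
    exact Groth.Agent.S5838.exists_leftInverse 𝔍 h𝔍open h𝔍anti h𝔍basis hM u hcoker hu

end Groth.Agent.S5839
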