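import Groth.Statements.S5862
import Mathlib.RingTheory.RingHom.PurelyInseparable

set_option autoImplicit false
universe u
open RadPt

namespace Groth.Agent.S5862

theorem pi_of_comp_left {F E K : Type*} [Field F] [Field E] [Field K] {f : F →+* E} {g : E →+* K}
    (h : (g.comp f).IsPurelyInseparable) : f.IsPurelyInseparable := by
  algebraize [f, g, g.comp f]
  exact IsPurelyInseparable.tower_bot F E K

theorem pi_of_comp_right {F E K : Type*} [Field F] [Field E] [Field K] {f : F →+* E} {g : E →+* K}
    (h : (g.comp f).IsPurelyInseparable) : g.IsPurelyInseparable := by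
  algebraize [f, g, g.comp f]
  exact IsPurelyInseparable.tower_top F E K

open CategoryTheory AlgebraicGeometry in
theorem resMap_comp_hom {X Y Z : Scheme.{u}} (f : X ⟶ Y) (g : Y ⟶ Z) (x : X) :
    ((f ≫ g).residueFieldMap x).hom =
      (f.residueFieldMap x).hom.comp (g.residueFieldMap (f x)).hom := by
  rw [Scheme.residueFieldMap_comp]
  rfl

open CategoryTheory AlgebraicGeometry in
/-- Let f : X → Y and g : Y → Z be morphisms of schemes and y a point of Y. If f is radicial at y (fibre
with at most one point, purely inseparable residue field extension) and g is radicial at g(y), then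
g ∘ f is radicial at g(y). Conversely, if f is surjective and g ∘ f is radicial at g(y), then f is
radicial at y and g is radicial at g(y). -/
theorem result {X Y Z : Scheme.{u}} (f : X ⟶ Y) (g : Y ⟶ Z) (y : Y) :
    (RadPt.IsRadicialAt f y → RadPt.IsRadicialAt g (g y) → RadPt.IsRadicialAt (f ≫ g) (g y)) ∧
      (Surjective f → RadPt.IsRadicialAt (f ≫ g) (g y) →
        RadPt.IsRadicialAt f y ∧ RadPt.IsRadicialAt g (g y)) := by
  constructor
  · rintro ⟨hf1, hf2⟩ ⟨hg1, hg2⟩
    have key : ∀ x : X, (f ≫ g) x = g y → f x = y := fun x hx => hg1 (f x) y hx rfl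
    refine ⟨fun x x' hx hx' => hf1 x x' (key x hx) (key x' hx'), fun x hx => ?_⟩
    rw [resMap_comp_hom]
    exact RingHom.IsPurelyInseparable.comp (hg2 (f x) hx) (hf2 x (key x hx))
  · intro hsurj ⟨h1, h2⟩
    have hcomp : ∀ x : X, (f ≫ g) x = g (f x) := fun x => rfl
    refine ⟨⟨fun x x' hx hx' => h1 x x' (by rw [hcomp, hx]) (by rw [hcomp, hx']), fun x hx => ?_⟩,
      ⟨fun y' y'' hy' hy'' => ?_, fun y' hy' => ?_⟩⟩
    · have := h2 x (by rw [hcomp, hx])
      rw [resMap_comp_hom] at this
      exact pi_of_comp_right this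
    · obtain ⟨x', rfl⟩ := hsurj.surj y'
      obtain ⟨x'', rfl⟩ := hsurj.surj y''
      rw [h1 x' x'' hy' hy'']
    · obtain ⟨x', rfl⟩ := hsurj.surj y'
      have := h2 x' hy'
      rw [resMap_comp_hom] at this
      exact pi_of_comp_left this

end Groth.Agent.S5862
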