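import Groth.Statements.S5863
import Groth.Agent.Lib.RadPtPoints
import Mathlib.AlgebraicGeometry.Morphisms.Flat

set_option autoImplicit false
universe u
open RadPt

namespace Groth.Agent.S5863

open CategoryTheory AlgebraicGeometry CategoryTheory.Limits in
theorem epi_spec_field {K K' : Type u} [Field K] [Field K']
    (a : Spec (.of K') ⟶ Spec (.of K)) : Epi a := by
  obtain ⟨ψ, rfl⟩ : ∃ ψ, a = Spec.map ψ := ⟨Spec.preimage a, (Spec.map_preimage a).symm⟩
  have hflat : Flat (Spec.map ψ) := by
    rw [HasRingHomProperty.Spec_iff (P := @Flat)]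
    algebraize [ψ.hom]
    change Module.Flat K K'
    infer_instance
  have hsurj : Surjective (Spec.map ψ) := ⟨fun x => ⟨IsLocalRing.closedPoint K', Subsingleton.elim _ _⟩⟩
  exact Flat.epi_of_flat_of_surjective _

open CategoryTheory AlgebraicGeometry in
/-- Let f : X → Y and h : Y' → Y be morphisms of schemes, f' : X ×_Y Y' → Y' the base change of f (any
cartesian square), y' a point of Y' and y = h(y'). Then f is radicial at y if and only if f' is
radicial at y'. -/
theorem result {X Y X' Y' : Scheme.{u}} {f : X ⟶ Y} {h : Y' ⟶ Y} {f' : X' ⟶ Y'} {h' : X' ⟶ X}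
    (sq : IsPullback h' f' f h) (y' : Y') :
    RadPt.IsRadicialAt f (h y') ↔ RadPt.IsRadicialAt f' y' := by
  constructor
  · intro hf
    apply Groth.Agent.Lib.RadPtPoints.isRadicialAt_of_eq
    intro K _ g₁ g₂ hg hy
    have key := Groth.Agent.Lib.RadPtPoints.eq_of_isRadicialAt f (h y') hf K (g₁ ≫ h') (g₂ ≫ h')
      (by rw [Category.assoc, Category.assoc, sq.w, ← Category.assoc, ← Category.assoc, hg])
      (by
        rw [Category.assoc, sq.w, ← Category.assoc, Scheme.Hom.comp_apply, hy])
    exact sq.hom_ext key hg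
  · intro hf'
    apply Groth.Agent.Lib.RadPtPoints.isRadicialAt_of_eq
    intro K _ g₁ g₂ hg hy
    let t := g₁ ≫ f
    obtain ⟨z, hz₁, hz₂⟩ := Scheme.Pullback.exists_preimage_pullback (f := t) (g := h)
      (IsLocalRing.closedPoint K) y' hy
    let K' : Type u := IsLocalRing.ResidueField ((Limits.pullback t h).presheaf.stalk z)
    let φ : Spec (.of K') ⟶ Limits.pullback t h := (Limits.pullback t h).fromSpecResidueField z
    have hφ : φ (IsLocalRing.closedPoint K') = z :=
      Scheme.fromSpecResidueField_apply _ _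
    let a : Spec (.of K') ⟶ Spec (.of K) := φ ≫ Limits.pullback.fst t h
    let b : Spec (.of K') ⟶ Y' := φ ≫ Limits.pullback.snd t h
    have hab : a ≫ t = b ≫ h := by
      simp only [a, b, Category.assoc, Limits.pullback.condition]
    let g₁' : Spec (.of K') ⟶ X' := sq.lift (a ≫ g₁) b (by rw [Category.assoc]; exact hab)
    let g₂' : Spec (.of K') ⟶ X' := sq.lift (a ≫ g₂) b (by rw [Category.assoc, ← hg]; exact hab)
    have e₁ : g₁' ≫ f' = b := sq.lift_snd _ _ _
    have e₂ : g₂' ≫ f' = b := sq.lift_snd _ _ _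
    have key := Groth.Agent.Lib.RadPtPoints.eq_of_isRadicialAt f' y' hf' K' g₁' g₂'
      (e₁.trans e₂.symm) (by
        rw [e₁, Scheme.Hom.comp_apply, hφ, hz₂])
    have : a ≫ g₁ = a ≫ g₂ := by
      rw [← sq.lift_fst (a ≫ g₁) b (by rw [Category.assoc]; exact hab),
        ← sq.lift_fst (a ≫ g₂) b (by rw [Category.assoc, ← hg]; exact hab)]
      exact congr($key ≫ h')
    have := epi_spec_field a
    exact (cancel_epi a).mp ‹a ≫ g₁ = a ≫ g₂›

end Groth.Agent.S5863
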