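import Groth.Statements.S5864
import Mathlib

set_option autoImplicit false
universe u
open RadPt

namespace Groth.Agent.S5864

open CategoryTheory CategoryTheory.Limits AlgebraicGeometry Opposite

set_option linter.style.haveILetI false

/-- Generic points are the points without proper generizations. -/
theorem mem_genericPoints_iff {α : Type*} [TopologicalSpace α] [QuasiSober α] [T0Space α]
    (x : α) : x ∈ genericPoints α ↔ ∀ z, z ⤳ x → z = x := by
  constructor
  · intro hx z hz
    have h1 : closure {x} ⊆ closure {z} := specializes_iff_closure_subset.1 hz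
    have h2 : closure {z} ⊆ closure {x} := hx.2 isIrreducible_singleton.closure h1
    have h3 : x ⤳ z := specializes_iff_closure_subset.2 h2
    exact (hz.antisymm h3).eq
  · intro h
    have hirr := isIrreducible_irreducibleComponent (x := x)
    have hcl : IsClosed (irreducibleComponent x) := isClosed_irreducibleComponent
    have hz := hirr.isGenericPoint_genericPoint hcl
    have h1 : hirr.genericPoint ⤳ x := hz.specializes mem_irreducibleComponent
    have h2 := h _ h1
    change closure {x} ∈ irreducibleComponents α
    rw [← h2, hz.def]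
    exact irreducibleComponent_mem_irreducibleComponents x

theorem map_mem_genericPoints_of_flat {X Y : Scheme.{u}} (g : X ⟶ Y) [Flat g] {x : X}
    (hx : x ∈ genericPoints X) : g x ∈ genericPoints Y := by
  rw [mem_genericPoints_iff] at hx ⊢
  intro z hz
  obtain ⟨x', hx', rfl⟩ := Flat.generalizingMap g hz
  rw [hx x' hx']

theorem bijective_residueFieldMap_of_isPreimmersion {X Y : Scheme.{u}} (j : X ⟶ Y)
    [IsPreimmersion j] (z : X) : Function.Bijective (j.residueFieldMap z).hom := by
  refine ⟨(j.residueFieldMap z).hom.injective, ?_⟩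
  have h1 : Function.Surjective (j.stalkMap z ≫ X.residue z).hom := by
    rw [CommRingCat.hom_comp, RingHom.coe_comp]
    exact (IsLocalRing.residue_surjective).comp (j.stalkMap_surjective z)
  rw [← Scheme.residue_residueFieldMap, CommRingCat.hom_comp, RingHom.coe_comp] at h1
  exact Function.Surjective.of_comp h1

variable {X Y X' Y' : Scheme.{u}} {f : X ⟶ Y} {g : Y' ⟶ Y} {f' : X' ⟶ Y'} {g' : X' ⟶ X}

theorem isPullback_fiber (sq : IsPullback g' f' f g) (x : X)
    [IsIso (Spec.map (f.residueFieldMap x))] :
    IsPullback (g'.fiberι x ≫ f')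
      (g'.fiberToSpecResidueField x ≫ Spec.map (f.residueFieldMap x)) g
      (Y.fromSpecResidueField (f x)) := by
  have h1 : IsPullback (g'.fiberToSpecResidueField x) (g'.fiberι x)
      (X.fromSpecResidueField x) g' :=
    (IsPullback.of_hasPullback g' (X.fromSpecResidueField x)).flip
  have h2 : IsPullback (g'.fiberToSpecResidueField x) (g'.fiberι x ≫ f')
      (X.fromSpecResidueField x ≫ f) g := h1.paste_vert sq
  have h3 : IsPullback (Spec.map (f.residueFieldMap x)) (X.fromSpecResidueField x ≫ f)
      (Y.fromSpecResidueField (f x)) (𝟙 Y) :=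
    IsPullback.of_horiz_isIso ⟨by
      rw [Category.comp_id, Scheme.Hom.SpecMap_residueFieldMap_fromSpecResidueField]⟩
  have h4 := h2.paste_horiz h3
  rw [Category.comp_id] at h4
  exact h4.flip

/-- The isomorphism of the fibre of `g'` over `x` with the fibre of `g` over `f x`. -/
noncomputable def fiberIso (sq : IsPullback g' f' f g) (x : X)
    [IsIso (Spec.map (f.residueFieldMap x))] : g'.fiber x ≅ g.fiber (f x) :=
  (isPullback_fiber sq x).isoPullback

theorem fiberIso_hom_fiberι (sq : IsPullback g' f' f g) (x : X)
    [IsIso (Spec.map (f.residueFieldMap x))] :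
    (fiberIso sq x).hom ≫ g.fiberι (f x) = g'.fiberι x ≫ f' :=
  (isPullback_fiber sq x).isoPullback_hom_fst

theorem isIso_SpecMap_of_bijective {x : X} (h : Function.Bijective (f.residueFieldMap x).hom) :
    IsIso (Spec.map (f.residueFieldMap x)) := by
  have : IsIso (f.residueFieldMap x) := (ConcreteCategory.isIso_iff_bijective _).mpr h
  infer_instance

/-- Specializations in the fibre of `g'` over `x` can be tested after applying `f'`. -/
theorem specializes_of_map_specializes (sq : IsPullback g' f' f g) (x : X)
    (h : Function.Bijective (f.residueFieldMap x).hom) {a b : X'} (ha : g' a = x) (hb : g' b = x)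
    (hab : f' a ⤳ f' b) : a ⤳ b := by
  haveI := isIso_SpecMap_of_bijective h
  obtain ⟨z₁, rfl⟩ : a ∈ Set.range (g'.fiberι x) := by rw [Scheme.Hom.range_fiberι]; exact ha
  obtain ⟨z₂, rfl⟩ : b ∈ Set.range (g'.fiberι x) := by rw [Scheme.Hom.range_fiberι]; exact hb
  have e1 : ∀ z, f' (g'.fiberι x z) = g.fiberι (f x) ((fiberIso sq x).hom z) := fun z => by
    rw [← Scheme.Hom.comp_apply, ← Scheme.Hom.comp_apply, fiberIso_hom_fiberι]
  rw [e1, e1, (g.fiberι (f x)).isEmbedding.isInducing.specializes_iff] at hab
  have h2 := hab.map (fiberIso sq x).inv.continuous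
  simp only [← Scheme.Hom.comp_apply, Iso.hom_inv_id] at h2
  exact h2.map (g'.fiberι x).continuous

theorem bijective_residueFieldMap_comp_iff {A B C : Scheme.{u}} (a : A ⟶ B) (b : B ⟶ C) (z : A)
    (ha : Function.Bijective (a.residueFieldMap z).hom) :
    Function.Bijective ((a ≫ b).residueFieldMap z).hom ↔
      Function.Bijective (b.residueFieldMap (a z)).hom := by
  have h : ((a ≫ b).residueFieldMap z).hom =
      (a.residueFieldMap z).hom.comp (b.residueFieldMap (a z)).hom := by
    rw [Scheme.residueFieldMap_comp]; rfl
  rw [h]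
  change Function.Bijective
    ((a.residueFieldMap z).hom ∘ (b.residueFieldMap (a z)).hom) ↔ _
  exact Function.Bijective.of_comp_iff' ha _

theorem bijective_residueFieldMap_of_fibre (sq : IsPullback g' f' f g) (x : X)
    (h : Function.Bijective (f.residueFieldMap x).hom) {a : X'} (ha : g' a = x) :
    Function.Bijective (f'.residueFieldMap a).hom := by
  haveI := isIso_SpecMap_of_bijective h
  obtain ⟨z, rfl⟩ : a ∈ Set.range (g'.fiberι x) := by rw [Scheme.Hom.range_fiberι]; exact ha
  have key : Function.Bijective ((g'.fiberι x ≫ f').residueFieldMap z).hom := by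
    rw [← fiberIso_hom_fiberι sq x]
    rw [bijective_residueFieldMap_comp_iff _ _ _
      (ConcreteCategory.bijective_of_isIso ((fiberIso sq x).hom.residueFieldMap z))]
    exact bijective_residueFieldMap_of_isPreimmersion _ _
  rwa [bijective_residueFieldMap_comp_iff _ _ _
    (bijective_residueFieldMap_of_isPreimmersion _ z)] at key

open CategoryTheory AlgebraicGeometry in
/-- Let f : X → Y be a morphism of schemes whose induced morphism of reduced schemes is birational (f
maps the maximal points of X bijectively onto those of Y, with one-point fibres and trivial residue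
field extensions over the maximal points of Y), g : Y' → Y a flat morphism and f' : X ×_Y Y' → Y'
the base change (any cartesian square). Then the morphism of reduced schemes induced by f' is
birational in the same sense. -/
theorem result {X Y X' Y' : Scheme.{u}} {f : X ⟶ Y} {g : Y' ⟶ Y} [Flat g] {f' : X' ⟶ Y'} {g' : X' ⟶ X}
    (sq : IsPullback g' f' f g) (hf : RadPt.IsBirational f) : RadPt.IsBirational f' := by
  haveI : Flat g' := MorphismProperty.of_isPullback sq.flip ‹_›
  obtain ⟨hbij, hpt⟩ := hf
  -- (I) uniqueness and residue fields over generic points of `Y'`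
  have hI : ∀ y' ∈ genericPoints Y', (∀ a b : X', f' a = y' → f' b = y' → a = b) ∧
      ∀ a : X', f' a = y' → Function.Bijective (f'.residueFieldMap a).hom := by
    intro y' hy'
    have hy : g y' ∈ genericPoints Y := map_mem_genericPoints_of_flat g hy'
    obtain ⟨huniq, hres⟩ := hpt _ hy
    have hfa : ∀ a : X', f' a = y' → f (g' a) = g y' := fun a ha => by
      rw [← ha, ← Scheme.Hom.comp_apply, ← Scheme.Hom.comp_apply, sq.w]
    refine ⟨fun a b ha hb => ?_, fun a ha => ?_⟩
    · have hab : g' a = g' b := huniq _ _ (hfa a ha) (hfa b hb)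
      have hr := hres _ (hfa a ha)
      have h1 := specializes_of_map_specializes sq (g' a) hr rfl hab.symm
        (by rw [ha, hb])
      have h2 := specializes_of_map_specializes sq (g' a) hr hab.symm rfl
        (by rw [ha, hb])
      exact (h1.antisymm h2).eq
    · exact bijective_residueFieldMap_of_fibre sq (g' a) (hres _ (hfa a ha)) rfl
  have hmaps : Set.MapsTo f' (genericPoints X') (genericPoints Y') := by
    intro a ha
    have hx : g' a ∈ genericPoints X := map_mem_genericPoints_of_flat g' ha
    have hy : f (g' a) ∈ genericPoints Y := hbij.mapsTo hx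
    have hr := (hpt _ hy).2 _ rfl
    rw [mem_genericPoints_iff] at ha hy ⊢
    intro y'' hy''
    have hw : f (g' a) = g (f' a) := by
      rw [← Scheme.Hom.comp_apply, ← Scheme.Hom.comp_apply, sq.w]
    have h1 : g y'' = f (g' a) := by
      apply hy
      rw [hw]
      exact hy''.map g.continuous
    obtain ⟨b, hb1, hb2⟩ := Scheme.exists_preimage_of_isPullback sq (g' a) y'' h1.symm
    have h2 : b ⤳ a := specializes_of_map_specializes sq (g' a) hr hb1 rfl (by rw [hb2]; exact hy'')
    rw [← hb2, ha b h2]
  refine ⟨⟨hmaps, ?_, ?_⟩, hI⟩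
  · -- InjOn
    intro a ha b hb hab
    have hy' : f' a ∈ genericPoints Y' := hmaps ha
    exact (hI _ hy').1 a b rfl hab.symm
  · -- SurjOn
    intro y' hy'
    have hy : g y' ∈ genericPoints Y := map_mem_genericPoints_of_flat g hy'
    obtain ⟨x, hx, hxy⟩ := hbij.surjOn hy
    obtain ⟨a, ha1, ha2⟩ := Scheme.exists_preimage_of_isPullback sq x y' hxy
    refine ⟨a, ?_, ha2⟩
    rw [mem_genericPoints_iff]
    intro b hb
    have h1 : f' b = y' := by
      rw [mem_genericPoints_iff] at hy'
      apply hy'
      rw [← ha2]
      exact hb.map f'.continuous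
    exact (hI _ hy').1 b a h1 ha2

end Groth.Agent.S5864
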