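import Groth.Statements.S5865
import Groth.Agent.Lib.IntBirGU96E

set_option autoImplicit false
universe u
open RadPt

namespace Groth.Agent.S5865

open CategoryTheory AlgebraicGeometry in
/-- Let f : X → Y be a morphism of schemes which is integral and whose induced morphism of reduced
schemes is birational (hence f is surjective), and let y be a point of Y. Then Y is geometrically
unibranch at y (the local ring O_{Y,y} is geometrically unibranch) if and only if f is radicial at y
and X is geometrically unibranch at the point of X over y. -/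
theorem result {X Y : Scheme.{u}} (f : X ⟶ Y) [IsIntegralHom f] (hf : RadPt.IsBirational f) (y : Y) :
    CAlg2.IsGeomUnibranch (Y.presheaf.stalk y) ↔
      (RadPt.IsRadicialAt f y ∧ ∀ x : X, f x = y → CAlg2.IsGeomUnibranch (X.presheaf.stalk x)) := by
  constructor
  · intro h
    have hN : (nilradical (Y.presheaf.stalk y)).IsPrime :=
      (Ideal.Quotient.isDomain_iff_prime (nilradical (Y.presheaf.stalk y))).1 h.1.1
    obtain ⟨η₀, hη₀⟩ := Groth.Agent.Lib.IntBirGU96.exists_generic_of_isPrime_nilradical y hN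
    have hη₀y : η₀ ⤳ y := hη₀ y specializes_rfl
    have hgen : η₀ ∈ genericPoints Y :=
      Groth.Agent.Lib.IntBirGU96.mem_genericPoints_of_forall
        (fun z hz => hη₀ z (hz.trans hη₀y))
    obtain ⟨x₀, hx₀gen, hfx₀⟩ := hf.1.surjOn hgen
    have hbij := (hf.2 η₀ hgen).2 x₀ hfx₀
    have hx₀ : ∀ x : X, f x = y → ∀ z : X, z ⤳ x → x₀ ⤳ z := by
      intro x hx z hz
      obtain ⟨ξ, hξgen, hξz⟩ := Groth.Agent.Lib.IntBirGU96.exists_genericPoints_specializes z
      have hfξgen : f ξ ∈ genericPoints Y := hf.1.mapsTo hξgen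
      have hfξy : f ξ ⤳ y := by
        have := (hξz.trans hz).map f.continuous
        rwa [hx] at this
      have h1 : η₀ = f ξ :=
        Groth.Agent.Lib.IntBirGU96.eq_of_specializes_of_mem_genericPoints hfξgen (hη₀ _ hfξy)
      have h2 : ξ = x₀ := (hf.2 η₀ hgen).1 ξ x₀ h1.symm hfx₀
      rw [← h2]; exact hξz
    exact (Groth.Agent.Lib.IntBirGU96.core f y x₀ (by rw [hfx₀]; exact hη₀) hbij hx₀).mp h
  · rintro ⟨hrad, hGU⟩
    -- every generization of `y` is dominated by a generic point of `X` specializing into the fibre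
    have claimA : ∀ z' : Y, z' ⤳ y → ∃ ξ' ∈ genericPoints X, ∃ x' : X, f x' = y ∧ ξ' ⤳ x' ∧
        f ξ' ⤳ z' := by
      intro z' hz'
      obtain ⟨η', hη'gen, hη'z'⟩ :=
        Groth.Agent.Lib.IntBirGU96.exists_genericPoints_specializes z'
      obtain ⟨ξ', hξ'gen, hfξ'⟩ := hf.1.surjOn hη'gen
      have hy : y ∈ closure ({f ξ'} : Set Y) := by
        rw [hfξ']
        exact specializes_iff_mem_closure.mp (hη'z'.trans hz')
      have hcl : closure ({f ξ'} : Set Y) ⊆ f '' closure ({ξ'} : Set X) := by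
        have := f.isClosedMap.closure_image_subset ({ξ'} : Set X)
        rwa [Set.image_singleton] at this
      obtain ⟨x', hx'cl, hx'⟩ := hcl hy
      exact ⟨ξ', hξ'gen, x', hx', specializes_iff_mem_closure.mpr hx'cl, by rw [hfξ']; exact hη'z'⟩
    obtain ⟨-, -, x, hx, -, -⟩ := claimA y specializes_rfl
    have hN : (nilradical (X.presheaf.stalk x)).IsPrime :=
      (Ideal.Quotient.isDomain_iff_prime (nilradical (X.presheaf.stalk x))).1 (hGU x hx).1.1
    obtain ⟨x₀, hx₀⟩ := Groth.Agent.Lib.IntBirGU96.exists_generic_of_isPrime_nilradical x hN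
    have hx₀x : x₀ ⤳ x := hx₀ x specializes_rfl
    have hx₀gen : x₀ ∈ genericPoints X :=
      Groth.Agent.Lib.IntBirGU96.mem_genericPoints_of_forall
        (fun z hz => hx₀ z (hz.trans hx₀x))
    have hfx₀gen : f x₀ ∈ genericPoints Y := hf.1.mapsTo hx₀gen
    have hη : ∀ z : Y, z ⤳ y → f x₀ ⤳ z := by
      intro z' hz'
      obtain ⟨ξ', hξ'gen, x', hx', hξ'x', hfξ'z'⟩ := claimA z' hz'
      have hxx' : x' = x := hrad.1 x' x hx' hx
      rw [hxx'] at hξ'x'
      have h1 : x₀ = ξ' :=
        Groth.Agent.Lib.IntBirGU96.eq_of_specializes_of_mem_genericPoints hξ'gen (hx₀ _ hξ'x')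
      rw [h1]; exact hfξ'z'
    have hbij := (hf.2 (f x₀) hfx₀gen).2 x₀ rfl
    have hx₀' : ∀ x'' : X, f x'' = y → ∀ z : X, z ⤳ x'' → x₀ ⤳ z := by
      intro x'' hx'' z hz
      have : x'' = x := hrad.1 x'' x hx'' hx
      rw [this] at hz
      exact hx₀ z hz
    exact (Groth.Agent.Lib.IntBirGU96.core f y x₀ hη hbij hx₀').mpr ⟨hrad, hGU⟩

end Groth.Agent.S5865
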