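import Groth.Statements.S5866
import Groth.Agent.S5865

set_option autoImplicit false
universe u
open RadPt

namespace Groth.Agent.S5866

open CategoryTheory AlgebraicGeometry in
/-- Let f : X → Y be a morphism of schemes which is integral and whose induced morphism of reduced
schemes is birational. Then Y is geometrically unibranch (at every point) if and only if X is
geometrically unibranch and f is radicial (universally injective). -/
theorem result {X Y : Scheme.{u}} (f : X ⟶ Y) [IsIntegralHom f] (hf : RadPt.IsBirational f) :
    (∀ y : Y, CAlg2.IsGeomUnibranch (Y.presheaf.stalk y)) ↔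
      ((∀ x : X, CAlg2.IsGeomUnibranch (X.presheaf.stalk x)) ∧ UniversallyInjective f) := by
  have htfae := (AlgebraicGeometry.tfae_universallyInjective f).out 0 2
  constructor
  · intro H
    have key : ∀ x : X, RadPt.IsRadicialAt f (f x) ∧
        ∀ x' : X, f x' = f x → CAlg2.IsGeomUnibranch (X.presheaf.stalk x') :=
      fun x => (Groth.Agent.S5865.result f hf (f x)).mp (H (f x))
    refine ⟨fun x => (key x).2 x rfl, htfae.mpr ⟨?_, fun x => (key x).1.2 x rfl⟩⟩
    intro x x' hxx'
    exact (key x).1.1 x x' rfl hxx'.symm
  · rintro ⟨HX, hUI⟩ y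
    obtain ⟨hinj, hpi⟩ := htfae.mp hUI
    exact (Groth.Agent.S5865.result f hf y).mpr
      ⟨⟨fun x x' hx hx' => hinj (hx.trans hx'.symm), fun x _ => hpi x⟩, fun x _ => HX x⟩

end Groth.Agent.S5866
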