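import Groth.Statements.S5888
import Groth.Agent.Lib.H77FibDimSch
import Groth.Agent.Lib.H77DimFieldExt

set_option autoImplicit false
universe u
open CategoryTheory AlgebraicGeometry
open ConsProp

namespace Groth.Agent.S5888

/-- For a given set Φ of values (natural numbers, with −∞ = ⊥ the dimension of the empty scheme), the
property of an algebraic k-scheme X that the dimension of X belongs to Φ is a constructible property
of algebraic schemes. The dimension is the Krull dimension of the underlying topological space,
valued in WithBot ℕ∞. -/
theorem result (Φ : Set (WithBot ℕ∞)) :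
    ConsProp.IsCons (fun Y T g => topologicalKrullDim ↥Y ∈ Φ) := by
  refine ⟨?_, ?_⟩
  · intro Y Y' T T' g g' e h _ _ _ _ _ _ hP
    have := Groth.Agent.Lib.H77DimFieldExt.dim_eq_of_isPullback_field g g' e h hP
    simp only [this]
  · intro X S u _ _ _ _
    obtain ⟨V, hηV, hV⟩ :=
      Groth.Agent.Lib.H77FibDimSch.exists_opens_forall_topologicalKrullDim_fiber_eq u
    by_cases hd : topologicalKrullDim (u.fiber (genericPoint S)) ∈ Φ
    · left
      refine ⟨genericPoint S, mem_interior.mpr ⟨V, ?_, V.isOpen, hηV⟩⟩
      intro s hs
      change topologicalKrullDim (u.fiber s) ∈ Φ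
      rw [hV s hs]
      exact hd
    · right
      refine ⟨genericPoint S, mem_interior.mpr ⟨V, ?_, V.isOpen, hηV⟩⟩
      intro s hs
      change ¬ topologicalKrullDim (u.fiber s) ∈ Φ
      rw [hV s hs]
      exact hd

end Groth.Agent.S5888
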