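import Groth.Statements.S5892
import Groth.Agent.S4788
import Groth.Agent.Lib.ConsLocusModMain
import Groth.Agent.Lib.ConsLocusLim

set_option autoImplicit false
universe u
open CategoryTheory AlgebraicGeometry
open ConsProp

namespace Groth.Agent.S5892

/-- Let S = lim S_i be a cofiltered limit of schemes with affine transition maps, i₀ an index with
S_{i₀} quasi-compact, u₀ : X₀ ⟶ S_{i₀} a morphism of finite presentation (locally of finite
presentation, quasi-compact and quasi-separated), F₀ a quasi-coherent O_{X₀}-module of finite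
presentation, u : X ⟶ S the base change of u₀ along S ⟶ S_{i₀} (a pullback square with q : X ⟶ X₀)
and F the pullback of F₀ along q. Let P(X, F, k) be an ind-constructible property of algebraic
schemes with a coherent module. Then P holds for (X_s, F_s) over κ(s) for every point s of S if and
only if there is an index j over i₀ such that, for the base change u_j : X_j ⟶ S_j of u₀ with p :
X_j ⟶ X₀ and F_j the pullback of F₀ along p, P holds for the fibre data of (u_j, F_j) over every
point of S_j. (The published statement is for relations on morphisms and is extended there, with the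
same proof, to relations on algebraic schemes with a module; this row is that form.) -/
theorem result
    {P : ∀ ⦃Y T : Scheme.{u}⦄, (Y ⟶ T) → Y.Modules → Prop} (hP : ConsProp.IsIndConsMod P)
    {I : Type u} [SmallCategory I] [IsCofiltered I]
    (D : I ⥤ Scheme.{u}) (c : Limits.Cone D) (hc : Limits.IsLimit c)
    [∀ (i j : I) (a : i ⟶ j), IsAffineHom (D.map a)] (i₀ : I) [CompactSpace ↥(D.obj i₀)]
    {X₀ : Scheme.{u}} (u₀ : X₀ ⟶ D.obj i₀)
    [LocallyOfFinitePresentation u₀] [QuasiCompact u₀] [QuasiSeparated u₀]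
    (F₀ : X₀.Modules) [Coh.IsQCoh F₀] (hF₀ : CohB1.IsFP F₀)
    {X : Scheme.{u}} (u : X ⟶ c.pt) (q : X ⟶ X₀) (hX : IsPullback q u u₀ (c.π.app i₀)) :
    (∀ s : ↥c.pt, s ∈ ConsProp.locusMod P u ((Scheme.Modules.pullback q).obj F₀)) ↔
      ∃ (j : I) (φ : j ⟶ i₀) (Xj : Scheme.{u}) (uj : Xj ⟶ D.obj j) (p : Xj ⟶ X₀),
        IsPullback p uj u₀ (D.map φ) ∧
          ∀ t : ↥(D.obj j), t ∈ ConsProp.locusMod P uj ((Scheme.Modules.pullback p).obj F₀) := by
  haveI : ∀ {i j : I} (a : i ⟶ j), IsAffineHom (D.map a) := fun a => inferInstance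
  have H : Groth.Agent.Lib.ConsLocusMod.ModDescent.{u} :=
    fun D c hc _ i₀ _ _ F _ hF => Groth.Agent.S4788.result D c hc i₀ F hF
  have hcoh₀ := Groth.Agent.Lib.ConsLocusMod.isCoh_of_isFP F₀ hF₀
  have heq : ConsProp.locusMod P u ((Scheme.Modules.pullback q).obj F₀) =
      (c.π.app i₀) ⁻¹' ConsProp.locusMod P u₀ F₀ :=
    Groth.Agent.Lib.ConsLocusMod.locusMod_eq_preimage hP.1 hX F₀ hcoh₀ _ (Iso.refl _)
  constructor
  · intro hall
    have hE : ∀ U : (D.obj i₀).Opens, IsAffineOpen U →
        Groth.Agent.Lib.ConsLocusGen.IsUnionCons (U.ι ⁻¹' ConsProp.locusMod P u₀ F₀) := by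
      intro U hU
      haveI : IsAffine U.toScheme := hU
      refine Groth.Agent.Lib.ConsLocusMod.with_baseChange hP.1 u₀ U.ι F₀ hcoh₀
        (fun X' u' e hX' he => ?_)
      rw [← he]
      haveI : LocallyOfFinitePresentation u' := MorphismProperty.of_isPullback hX' inferInstance
      haveI : QuasiCompact u' := MorphismProperty.of_isPullback hX' inferInstance
      haveI : QuasiSeparated u' := MorphismProperty.of_isPullback hX' inferInstance
      exact Groth.Agent.Lib.ConsLocusMod.isUnionCons_locusMod_of_isAffine H hP u' _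
        (Groth.Agent.Lib.ConsLocusMod.isFP_pullback e F₀ hF₀)
    obtain ⟨j, φ, hj⟩ := Groth.Agent.Lib.ConsLocusLim.exists_stage_forall_mem D c hc
      (ConsProp.locusMod P u₀ F₀) hE (fun s => by
        have h1 := hall s
        rw [heq] at h1
        exact h1)
    refine ⟨j, φ, Limits.pullback u₀ (D.map φ), Limits.pullback.snd _ _, Limits.pullback.fst _ _,
      IsPullback.of_hasPullback _ _, fun t => ?_⟩
    rw [Groth.Agent.Lib.ConsLocusMod.locusMod_eq_preimage hP.1
      (IsPullback.of_hasPullback u₀ (D.map φ)) F₀ hcoh₀ _ (Iso.refl _)]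
    exact hj t
  · rintro ⟨j, φ, Xj, uj, p, hXj, hall⟩ s
    rw [heq]
    have e : c.π.app i₀ s = D.map φ (c.π.app j s) := by
      rw [← Scheme.Hom.comp_apply, c.w]
    change c.π.app i₀ s ∈ ConsProp.locusMod P u₀ F₀
    rw [e]
    have h1 := hall (c.π.app j s)
    rw [Groth.Agent.Lib.ConsLocusMod.locusMod_eq_preimage hP.1 hXj F₀ hcoh₀ _ (Iso.refl _)] at h1
    exact h1

end Groth.Agent.S5892
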