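import Groth.Statements.S5908
import Groth.Agent.Lib.ConsLocusPair
import Groth.Agent.Lib.ConsLocusLim

set_option autoImplicit false
universe u
open CategoryTheory AlgebraicGeometry
open ConsPropPair

namespace Groth.Agent.S5908

/-- Form for relations between two schemes: let S = lim S_i be a cofiltered limit of schemes with affine
transition maps, i₀ an index with S_{i₀} quasi-compact, u₀ : X₀ ⟶ S_{i₀} and v₀ : Y₀ ⟶ S_{i₀}
morphisms of finite presentation (locally of finite presentation, quasi-compact and
quasi-separated), and u : X ⟶ S, v : Y ⟶ S their base changes along S ⟶ S_{i₀} (pullback squares).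
Let P(X, Y, k) be an ind-constructible property of pairs of algebraic schemes. Then P holds for the
pair of fibres (X_s, Y_s) over κ(s) for every point s of S if and only if there is an index j over
i₀ such that, for the base changes u_j : X_j ⟶ S_j and v_j : Y_j ⟶ S_j of u₀ and v₀, P holds for the
pair of fibres over every point of S_j. (The published statement is for relations on morphisms and
is extended there, with the same proof, to relations involving several schemes; this row is that
form. With the relation of being geometrically isomorphic it says: all pairs of fibres X_s, Y_s are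
geometrically isomorphic if and only if this already holds at some stage.) -/
theorem result
    {P : ∀ ⦃X Y T : Scheme.{u}⦄, (X ⟶ T) → (Y ⟶ T) → Prop} (hP : ConsPropPair.IsIndConsPair P)
    {I : Type u} [SmallCategory I] [IsCofiltered I]
    (D : I ⥤ Scheme.{u}) (c : Limits.Cone D) (hc : Limits.IsLimit c)
    [∀ (i j : I) (a : i ⟶ j), IsAffineHom (D.map a)] (i₀ : I) [CompactSpace ↥(D.obj i₀)]
    {X₀ Y₀ : Scheme.{u}} (u₀ : X₀ ⟶ D.obj i₀) (v₀ : Y₀ ⟶ D.obj i₀)
    [LocallyOfFinitePresentation u₀] [QuasiCompact u₀] [QuasiSeparated u₀]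
    [LocallyOfFinitePresentation v₀] [QuasiCompact v₀] [QuasiSeparated v₀]
    {X Y : Scheme.{u}} (u : X ⟶ c.pt) (v : Y ⟶ c.pt) (qX : X ⟶ X₀) (qY : Y ⟶ Y₀)
    (hX : IsPullback qX u u₀ (c.π.app i₀)) (hY : IsPullback qY v v₀ (c.π.app i₀)) :
    (∀ s : ↥c.pt, s ∈ ConsPropPair.locusPair P u v) ↔
      ∃ (j : I) (φ : j ⟶ i₀) (Xj Yj : Scheme.{u}) (uj : Xj ⟶ D.obj j) (vj : Yj ⟶ D.obj j)
        (pX : Xj ⟶ X₀) (pY : Yj ⟶ Y₀), IsPullback pX uj u₀ (D.map φ) ∧ IsPullback pY vj v₀ (D.map φ) ∧
          ∀ t : ↥(D.obj j), t ∈ ConsPropPair.locusPair P uj vj := by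
  haveI : ∀ {i j : I} (a : i ⟶ j), IsAffineHom (D.map a) := fun a => inferInstance
  have heq : ConsPropPair.locusPair P u v = (c.π.app i₀) ⁻¹' ConsPropPair.locusPair P u₀ v₀ :=
    Groth.Agent.Lib.ConsLocusPair.locusPair_eq_preimage hP.1 hX hY
  constructor
  · intro hall
    have hE : ∀ U : (D.obj i₀).Opens, IsAffineOpen U →
        Groth.Agent.Lib.ConsLocusGen.IsUnionCons (U.ι ⁻¹' ConsPropPair.locusPair P u₀ v₀) := by
      intro U hU
      haveI : IsAffine U.toScheme := hU
      refine Groth.Agent.Lib.ConsLocusPair.with_baseChange hP.1 u₀ v₀ U.ι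
        (fun X' Y' u' v' eX eY hX' hY' he => ?_)
      rw [← he]
      haveI : LocallyOfFinitePresentation u' := MorphismProperty.of_isPullback hX' inferInstance
      haveI : QuasiCompact u' := MorphismProperty.of_isPullback hX' inferInstance
      haveI : QuasiSeparated u' := MorphismProperty.of_isPullback hX' inferInstance
      haveI : LocallyOfFinitePresentation v' := MorphismProperty.of_isPullback hY' inferInstance
      haveI : QuasiCompact v' := MorphismProperty.of_isPullback hY' inferInstance
      haveI : QuasiSeparated v' := MorphismProperty.of_isPullback hY' inferInstance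
      obtain ⟨S₀, _, π, X₀', Y₀', u₀', v₀', _, _, _, _, he'⟩ :=
        Groth.Agent.Lib.ConsLocusPair.exists_noetherian_model_of_isAffine hP.1 u' v'
      rw [he']
      exact (Groth.Agent.Lib.ConsLocusPair.isUnionCons_locusPair_of_isNoetherian hP u₀' v₀').preimage π
    obtain ⟨j, φ, hj⟩ := Groth.Agent.Lib.ConsLocusLim.exists_stage_forall_mem D c hc
      (ConsPropPair.locusPair P u₀ v₀) hE (fun s => by
        have h1 := hall s
        rw [heq] at h1
        exact h1)
    refine ⟨j, φ, Limits.pullback u₀ (D.map φ), Limits.pullback v₀ (D.map φ),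
      Limits.pullback.snd _ _, Limits.pullback.snd _ _, Limits.pullback.fst _ _, Limits.pullback.fst _ _,
      IsPullback.of_hasPullback _ _, IsPullback.of_hasPullback _ _, fun t => ?_⟩
    rw [Groth.Agent.Lib.ConsLocusPair.locusPair_eq_preimage hP.1
      (IsPullback.of_hasPullback u₀ (D.map φ)) (IsPullback.of_hasPullback v₀ (D.map φ))]
    exact hj t
  · rintro ⟨j, φ, Xj, Yj, uj, vj, pX, pY, hXj, hYj, hall⟩ s
    rw [heq]
    have e : c.π.app i₀ s = D.map φ (c.π.app j s) := by
      rw [← Scheme.Hom.comp_apply, c.w]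
    change c.π.app i₀ s ∈ ConsPropPair.locusPair P u₀ v₀
    rw [e]
    have h1 := hall (c.π.app j s)
    rw [Groth.Agent.Lib.ConsLocusPair.locusPair_eq_preimage hP.1 hXj hYj] at h1
    exact h1

end Groth.Agent.S5908
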