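import Groth.Statements.S5912
import Groth.Agent.Lib.FlatIdeallySep88

set_option autoImplicit false
universe u
open TensorProduct
open EGA43

namespace Groth.Agent.S5912

/-- Let A be a Noetherian ring, J an ideal of A and M an A-module which is ideally separated for the
J-adic topology (for every ideal a of A the module a ⊗_A M is J-adically separated), and suppose
every quotient J^k/J^{k+1} is a flat (A/J)-module (the associated graded ring of A along J is flat
over A/J). Then M is flat if and only if (A/J) ⊗_A M is flat over A/J and M_p is flat over A_p for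
every associated prime p of the A-module A/J. -/
theorem result {A : Type u} [CommRing A] [IsNoetherianRing A]
    (J : Ideal A) (M : Type u) [AddCommGroup M] [Module A M]
    (hsep : ∀ a : Ideal A, IsHausdorff J (↥a ⊗[A] M))
    (hgr : ∀ k : ℕ, Module.Flat (A ⧸ J) ((A ⧸ J) ⊗[A] ↥(J ^ k))) :
    Module.Flat A M ↔
      Module.Flat (A ⧸ J) ((A ⧸ J) ⊗[A] M) ∧
        ∀ q : associatedPrimes A (A ⧸ J),
          haveI : q.1.IsPrime := IsAssociatedPrime.isPrime q.2
          Module.Flat (Localization.AtPrime q.1) (LocalizedModule q.1.primeCompl M) := by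
  constructor
  · intro h
    refine ⟨inferInstance, fun q => ?_⟩
    have : q.1.IsPrime := IsAssociatedPrime.isPrime q.2
    infer_instance
  · rintro ⟨hq, hp⟩
    have hp' : ∀ (p : Ideal A) [p.IsPrime], p ∈ associatedPrimes A (A ⧸ J) →
        Module.Flat (Localization.AtPrime p) (Localization.AtPrime p ⊗[A] M) := by
      intro p _ hpass
      have h1 := hp ⟨p, hpass⟩
      exact Module.Flat.of_linearEquiv
        (IsLocalizedModule.isBaseChange p.primeCompl (Localization.AtPrime p)
          (LocalizedModule.mkLinearMap p.primeCompl M)).equiv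
    refine Groth.Agent.Lib.FlatCrit.flat_of_flat_quotient_pow J ?_ ?_
    · intro 𝔞 x hx
      exact (hsep 𝔞).haus x (fun n => SModEq.zero.mpr (hx n))
    · intro n _
      exact Groth.Agent.Lib.FlatIdeallySep88.flat_quotient_pow_of_gr_flat J M hgr hp' n

end Groth.Agent.S5912
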