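import Groth.Statements.S5913
import Groth.Agent.Lib.GenOpenSch45
import Mathlib.RingTheory.KrullDimension.Field
import Mathlib.AlgebraicGeometry.Morphisms.ClosedImmersion

set_option autoImplicit false
universe u
open CategoryTheory AlgebraicGeometry
open EGA43

namespace Groth.Agent.S5913

/-- In the locally Noetherian form: a locally Noetherian scheme X is Jacobson if and only if it has no
subscheme isomorphic to the spectrum of a semi-local integral domain of dimension 1, i.e. there is
no immersion Spec R ⟶ X with R an integral domain having finitely many maximal ideals and Krull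
dimension 1. -/
theorem result (X : Scheme.{u}) [IsLocallyNoetherian X] :
    JacobsonSpace X ↔
      ∀ (R : CommRingCat.{u}) [IsDomain R] (i : Spec R ⟶ X) [IsImmersion i],
        ¬ (Finite (MaximalSpectrum R) ∧ ringKrullDim R = 1) := by
  classical
  constructor
  · intro hJ R _ i _ ⟨hfin, hdim⟩
    have hK : Ring.KrullDimLE 1 R := Ring.krullDimLE_iff.mpr (by rw [hdim]; rfl)
    let η : PrimeSpectrum R := ⟨⊥, Ideal.isPrime_bot⟩
    -- the complement of the generic point is a finite set of closed points
    have hcompl : ({η}ᶜ : Set (PrimeSpectrum R)) ⊆ Set.range MaximalSpectrum.toPrimeSpectrum := by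
      intro q hq
      have hq0 : q.asIdeal ≠ ⊥ := fun h => hq (PrimeSpectrum.ext h)
      exact ⟨⟨q.asIdeal, Ideal.IsPrime.isMaximal_of_ne_bot q.2 hq0⟩, rfl⟩
    have hfinc : ({η}ᶜ : Set (PrimeSpectrum R)).Finite := (Set.finite_range _).subset hcompl
    have hclosedc : IsClosed ({η}ᶜ : Set (PrimeSpectrum R)) := by
      rw [← Set.biUnion_of_singleton ({η}ᶜ : Set (PrimeSpectrum R))]
      refine hfinc.isClosed_biUnion fun q hq => ?_
      obtain ⟨m, rfl⟩ := hcompl hq
      exact (PrimeSpectrum.isClosed_singleton_iff_isMaximal _).mpr m.isMaximal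
    have hopen : IsOpen ({η} : Set (PrimeSpectrum R)) := by
      rw [← compl_compl ({η} : Set (PrimeSpectrum R))]; exact hclosedc.isOpen_compl
    let η' : Spec R := η
    have hloc : IsLocallyClosed (i '' ({η'} : Set (Spec R))) :=
      (show IsOpen ({η'} : Set (Spec R)) from hopen).isLocallyClosed.image
        i.isEmbedding.isInducing IsImmersion.isLocallyClosed_range
    rw [Set.image_singleton] at hloc
    have hcl : IsClosed ({i η'} : Set X) := isClosed_singleton_of_isLocallyClosed_singleton hloc
    have hcl' : IsClosed ({η'} : Set (Spec R)) := by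
      have := hcl.preimage i.continuous
      have e : i ⁻¹' {i η'} = {η'} := by
        ext q
        simp only [Set.mem_preimage, Set.mem_singleton_iff]
        exact ⟨fun h => i.isEmbedding.injective h, fun h => h ▸ rfl⟩
      rwa [e] at this
    have hmax : (⊥ : Ideal R).IsMaximal :=
      (PrimeSpectrum.isClosed_singleton_iff_isMaximal η).mp hcl'
    have hfield : IsField R := by
      by_contra hnf
      exact Ring.ne_bot_of_isMaximal_of_not_isField hmax hnf rfl
    rw [ringKrullDim_eq_zero_of_isField hfield] at hdim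
    exact zero_ne_one hdim
  · intro H
    rw [jacobsonSpace_iff_locallyClosed]
    intro Z hne hZ
    obtain ⟨x, hxZ, hx⟩ := Groth.Agent.Lib.GenOpen45.exists_isLocallyClosed_singleton_scheme hZ hne
    refine ⟨x, hxZ, ?_⟩
    show IsClosed ({x} : Set X)
    rw [← closure_subset_iff_isClosed]
    intro x' hx'
    by_contra hne'
    have hsp : x ⤳ x' := specializes_iff_mem_closure.mpr hx'
    obtain ⟨_, ⟨W, hW, rfl⟩, hx'W, -⟩ :=
      X.isBasis_affineOpens.exists_subset_of_mem_open (Set.mem_univ x') isOpen_univ
    replace hW : IsAffineOpen W := hW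
    have : IsNoetherianRing Γ(X, W) := IsLocallyNoetherian.component_noetherian ⟨W, hW⟩
    have hxW : x ∈ W := hsp.mem_open W.2 hx'W
    obtain ⟨p, hp⟩ := Groth.Agent.Lib.GenOpen45.exists_prime_of_mem hW hxW
    obtain ⟨p', hp'⟩ := Groth.Agent.Lib.GenOpen45.exists_prime_of_mem hW hx'W
    have h1 : p ⤳ p' := hW.fromSpec.isOpenEmbedding.isInducing.specializes_iff.mp
      (by rw [hp, hp']; exact hsp)
    have hpp' : p ≠ p' := fun e => hne' (by rw [Set.mem_singleton_iff, ← hp, ← hp', e])
    have hle : (show PrimeSpectrum Γ(X, W) from p) ≤ (show PrimeSpectrum Γ(X, W) from p') :=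
      (PrimeSpectrum.le_iff_specializes _ _).mpr h1
    obtain ⟨f, hf, h⟩ := Groth.Agent.Lib.GenOpen45.exists_notMem_of_isLocallyClosed
      (A := Γ(X, W)) p (Groth.Agent.Lib.GenOpen45.isLocallyClosed_singleton_fromSpec hW hx p hp)
    let P : Ideal Γ(X, W) := (show PrimeSpectrum Γ(X, W) from p).asIdeal
    have hPprime : P.IsPrime := (show PrimeSpectrum Γ(X, W) from p).2
    have hnm : ¬ P.IsMaximal := by
      intro hmax
      exact hpp' (PrimeSpectrum.ext
        (hmax.eq_of_le (show PrimeSpectrum Γ(X, W) from p').2.ne_top hle))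
    let i : Spec (CommRingCat.of (Γ(X, W) ⧸ P)) ⟶ X :=
      Spec.map (CommRingCat.ofHom (Ideal.Quotient.mk P)) ≫ hW.fromSpec
    have : IsClosedImmersion (Spec.map (CommRingCat.ofHom (Ideal.Quotient.mk P))) :=
      IsClosedImmersion.spec_of_surjective _ Ideal.Quotient.mk_surjective
    have hi : IsImmersion i := inferInstance
    have hdom : IsDomain (CommRingCat.of (Γ(X, W) ⧸ P)) :=
      (Ideal.Quotient.isDomain_iff_prime P).mpr hPprime
    exact H (CommRingCat.of (Γ(X, W) ⧸ P)) i
      ⟨Groth.Agent.Lib.GenOpen45.finite_maximalSpectrum_quotient hf h,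
        Groth.Agent.Lib.GenOpen45.ringKrullDim_quotient_eq_one hf h hnm⟩

end Groth.Agent.S5913
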