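import Groth.Statements.S5917
import Groth.Agent.Lib.QHomeo24e
import Mathlib.Algebra.Category.Grp.Zero

set_option autoImplicit false
universe u
open CategoryTheory
open EGA43

namespace Groth.Agent.S5917

/-- (a) ⇔ (c): for a continuous map f : X₀ ⟶ X of topological spaces the following are equivalent: U ↦
f⁻¹(U) is a bijection from the open subsets of X onto those of X₀ (that is, f is a
quasi-homeomorphism); the inverse image functor f^* from sheaves of sets on X to sheaves of sets on
X₀ is an equivalence of categories; the inverse image functor f^* from sheaves of abelian groups on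
X to sheaves of abelian groups on X₀ is an equivalence of categories. (Sheaves are taken with values
in sets, resp. abelian groups, of the universe of the two spaces.) -/
theorem result (X₀ X : TopCat.{u}) (f : X₀ ⟶ X) :
    [Function.Bijective (fun U : TopologicalSpace.Opens X => (TopologicalSpace.Opens.map f).obj U),
      (TopCat.Sheaf.pullback (Type u) f).IsEquivalence,
      (TopCat.Sheaf.pullback AddCommGrpCat.{u} f).IsEquivalence].TFAE := by
  classical
  have hT : IsEmpty ((ULift.{u} Bool : Type u) ≅ Limits.terminal (Type u)) := by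
    refine ⟨fun e => ?_⟩
    let e' : ULift.{u} Bool ≃ PUnit.{u+1} := (e ≪≫ Limits.Types.terminalIso).toEquiv
    have := e'.injective (Subsingleton.elim (e' ⟨true⟩) (e' ⟨false⟩))
    simpa using congrArg ULift.down this
  have hA : IsEmpty (AddCommGrpCat.of (ULift.{u} ℤ) ≅ Limits.terminal AddCommGrpCat.{u}) := by
    refine ⟨fun e => ?_⟩
    have hz : Limits.IsZero (AddCommGrpCat.of PUnit.{u+1}) :=
      AddCommGrpCat.isZero_of_subsingleton _
    let e' := (e ≪≫ (Limits.terminalIsoIsTerminal hz.isTerminal)).addCommGroupIsoToAddEquiv
    have := e'.injective (Subsingleton.elim (e' ⟨1⟩) (e' ⟨0⟩))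
    simpa using congrArg ULift.down this
  tfae_have 1 → 2 := Groth.Agent.Lib.QHomeo24.isEquivalence_pullback_type_of_bijective f
  tfae_have 1 → 3 := Groth.Agent.Lib.QHomeo24.isEquivalence_pullback_ab_of_bijective f
  tfae_have 2 → 1 := by
    intro h
    haveI := h
    haveI : (TopCat.Sheaf.pushforward (Type u) f).IsEquivalence :=
      (TopCat.Sheaf.pullbackPushforwardAdjunction (Type u) f).isEquivalence_right_of_isEquivalence_left
    exact ⟨Groth.Agent.Lib.QHomeo24.injective_of_essSurj f (Type u) (ULift.{u} Bool) hT,
      Groth.Agent.Lib.QHomeo24.surjective_of_full_type f⟩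
  tfae_have 3 → 1 := by
    intro h
    haveI := h
    haveI : (TopCat.Sheaf.pushforward AddCommGrpCat.{u} f).IsEquivalence :=
      (TopCat.Sheaf.pullbackPushforwardAdjunction AddCommGrpCat.{u} f).isEquivalence_right_of_isEquivalence_left
    exact ⟨Groth.Agent.Lib.QHomeo24.injective_of_essSurj f AddCommGrpCat.{u}
        (AddCommGrpCat.of (ULift.{u} ℤ)) hA,
      Groth.Agent.Lib.QHomeo24.surjective_of_full_ab f⟩
  tfae_finish

end Groth.Agent.S5917
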