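-- Statement S5925.
import Groth.Statements.S5925
import Groth.Agent.Lib.H30KrullCut
import Groth.Agent.Lib.EquidimRestrict2
import Groth.Agent.S4986
import Mathlib

set_option autoImplicit false
open CategoryTheory AlgebraicGeometry
universe u
open EGA43

namespace Groth.Agent.S5925

open Groth.Agent.Lib.H30GenFib Groth.Agent.Lib.H30EquidimAt Groth.Agent.Lib.H30DimRel
  Groth.Agent.Lib.H30IrrFib Groth.Agent.Lib.H30LowerBound Groth.Agent.Lib.H30KrullCut
  Groth.Agent.Lib.H69RedInduced Groth.Agent.Lib.EquidimRestrict TopologicalSpace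

theorem localDim_inter_fiber_eq' {X Y Xr : Scheme.{u}} (f : X ⟶ Y) (ιX : Xr ⟶ X)
    (hemb : Topology.IsEmbedding ιX) (S : Set X) (hS : Set.range ιX = S) (w : Xr) (x : X)
    (hw : ιX w = x) (hx : x ∈ S) :
    FlatMor.localDim ↥(S ∩ f ⁻¹' {f x}) ⟨x, ⟨hx, rfl⟩⟩ = FlatMor.fibreDimAt (ιX ≫ f) w := by
  subst hw
  exact Groth.Agent.S4986.localDim_inter_fiber_eq f ιX hemb S hS w hx

theorem localDim_inter_mono {X Y : Scheme.{u}} (f : X ⟶ Y) (A B : Set X) (hAB : A ⊆ B) (x : X)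
    (hxA : x ∈ A) :
    FlatMor.localDim ↥(A ∩ f ⁻¹' {f x}) ⟨x, ⟨hxA, rfl⟩⟩ ≤
      FlatMor.localDim ↥(B ∩ f ⁻¹' {f x}) ⟨x, ⟨hAB hxA, rfl⟩⟩ := by
  have hsub : A ∩ f ⁻¹' {f x} ⊆ B ∩ f ⁻¹' {f x} := Set.inter_subset_inter_left _ hAB
  exact Groth.Agent.Lib.EquidimRestrict.localDim_le_of_isInducing
    (j := Set.inclusion hsub) (Topology.IsEmbedding.inclusion hsub).isInducing ⟨x, ⟨hxA, rfl⟩⟩

theorem isMax_of_closure_mem_irreducibleComponents {T : Type*} [TopologicalSpace T] [T0Space T]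
    (x : T) (h : closure ({x} : Set T) ∈ irreducibleComponents T) (ξ : T) (hξ : ξ ⤳ x) :
    ξ = x := by
  have h1 : closure ({x} : Set T) ⊆ closure {ξ} := by
    rw [← specializes_iff_closure_subset]
    exact hξ
  have h2 : closure ({ξ} : Set T) ⊆ closure {x} :=
    h.2 isIrreducible_singleton.closure h1
  have h3 : x ⤳ ξ := specializes_iff_closure_subset.mpr h2
  exact (hξ.antisymm h3).eq

/-- the fibre dimension of the zero locus -/
theorem cut_dim {X Y : Scheme.{u}} [IsLocallyNoetherian Y] (f : X ⟶ Y) [LocallyOfFiniteType f]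
    (x : X) (g : Γ(X, ⊤)) (hgx : x ∈ X.zeroLocus ({g} : Set Γ(X, ⊤)))
    (hmax : ∀ z : X, f z = f x → (∀ z' : X, f z' = f x → z' ⤳ z → z' = z) →
      z ∉ X.zeroLocus ({g} : Set Γ(X, ⊤))) :
    FlatMor.localDim ↥(X.zeroLocus ({g} : Set Γ(X, ⊤)) ∩ f ⁻¹' {f x}) ⟨x, ⟨hgx, rfl⟩⟩ + 1 =
      FlatMor.fibreDimAt f x := by
  haveI : IsLocallyNoetherian X := LocallyOfFiniteType.isLocallyNoetherian f
  let Zc : Closeds X := ⟨X.zeroLocus ({g} : Set Γ(X, ⊤)), X.zeroLocus_isClosed _⟩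
  have hrange : Set.range (redSubι Zc) = X.zeroLocus ({g} : Set Γ(X, ⊤)) := range_redSubι Zc
  obtain ⟨w, hw⟩ : x ∈ Set.range (redSubι Zc) := by rw [hrange]; exact hgx
  rw [localDim_inter_fiber_eq' f (redSubι Zc) (redSubι Zc).isEmbedding _ hrange w x hw hgx]
  exact fibreDimAt_zeroLocus_add_one f x g hgx hmax (redSubι Zc) hrange w hw

/-- analysis of a maximal point of the zero locus generizing `x` -/
theorem comp_analysis {X Y : Scheme.{u}} [IsLocallyNoetherian Y] (f : X ⟶ Y)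
    [LocallyOfFiniteType f] (x : X) (hf : EGA43.IsEquidimAt f x)
    (g : Γ(X, ⊤)) (hgx : x ∈ X.zeroLocus ({g} : Set Γ(X, ⊤)))
    (hmax : ∀ z : X, f z = f x → (∀ z' : X, f z' = f x → z' ⤳ z → z' = z) →
      z ∉ X.zeroLocus ({g} : Set Γ(X, ⊤)))
    (ξ : X) (hξg : ξ ∈ X.zeroLocus ({g} : Set Γ(X, ⊤))) (hξx : ξ ⤳ x)
    (hξmax : ∀ t : X, t ∈ X.zeroLocus ({g} : Set Γ(X, ⊤)) → t ⤳ ξ → t = ξ) :
    ringKrullDim (X.presheaf.stalk ξ) = 1 ∧ IsMaxPt (f ξ) ∧
      ((rt f ξ : ℕ) : WithBot ℕ∞) + 1 = FlatMor.fibreDimAt f x := by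
  haveI : IsLocallyNoetherian X := LocallyOfFiniteType.isLocallyNoetherian f
  obtain ⟨X', hX'⟩ : ∃ X' : Closeds X, (X' : Set X) = closure {ξ} :=
    ⟨⟨closure {ξ}, isClosed_closure⟩, rfl⟩
  have hx : x ∈ X' := by
    show x ∈ (X' : Set X)
    rw [hX']; exact specializes_iff_mem_closure.mp hξx
  have hcodim : ringKrullDim (X.presheaf.stalk ξ) ≤ ((1 : ℕ) : WithBot ℕ∞) := by
    have := ringKrullDim_stalk_le_one_of_isMax_zeroLocus g ξ hξg hξmax
    exact_mod_cast this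
  have hsub : (X' : Set X) ⊆ X.zeroLocus ({g} : Set Γ(X, ⊤)) := by
    rw [hX']
    exact (X.zeroLocus_isClosed _).closure_subset_iff.mpr (Set.singleton_subset_iff.mpr hξg)
  have hdim : FlatMor.localDim ↥((X' : Set X) ∩ f.base ⁻¹' {f.base x}) ⟨x, ⟨hx, rfl⟩⟩ +
      ((1 : ℕ) : WithBot ℕ∞) ≤ FlatMor.fibreDimAt f x := by
    rw [← cut_dim f x g hgx hmax]
    have := localDim_inter_mono f (X' : Set X) _ hsub x hx
    exact add_le_add_left this _
  obtain ⟨h1, h2, h3⟩ := restrict_main f x hf X' ξ hX'.symm hx 1 hcodim hdim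
  refine ⟨by exact_mod_cast h1, ?_, ?_⟩
  all_goals
    have hrange : Set.range (redSubι X') = (X' : Set X) := range_redSubι X'
    obtain ⟨wZ, hwZ⟩ : x ∈ Set.range (redSubι X') := by rw [hrange]; exact hx
    have heq := h3 wZ hwZ
    obtain ⟨eZ, UZ, hwUZ, hmaxZ, hfibZ⟩ := (isEquidimAt_iff (redSubι X' ≫ f) wZ).mp heq
    obtain ⟨ξZ, hξZ⟩ : ξ ∈ Set.range (redSubι X') := by
      rw [hrange, hX']; exact subset_closure rfl
    have hξZw : ξZ ⤳ wZ := by
      apply (redSubι X').isEmbedding.isInducing.specializes_iff.mp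
      rw [hξZ, hwZ]; exact hξx
    have hξZU : ξZ ∈ UZ := hξZw.mem_open UZ.isOpen hwUZ
    have hξZmax : IsMaxPt ξZ := by
      intro t ht
      have e1 : redSubι X' t ⤳ ξ := by rw [← hξZ]; exact ht.map (redSubι X').continuous
      have e2 : ξ ⤳ redSubι X' t := by
        rw [specializes_iff_mem_closure, ← hX', ← hrange]
        exact ⟨t, rfl⟩
      apply (redSubι X').isEmbedding.injective
      rw [hξZ]; exact (e1.antisymm e2).eq
  · obtain ⟨hm1, -⟩ := hmaxZ ξZ hξZU hξZmax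
    have : (redSubι X' ≫ f) ξZ = f ξ := by
      show f (redSubι X' ξZ) = _
      rw [hξZ]
    rw [this] at hm1
    exact hm1
  · have e1 := hfibZ ξZ hξZU
    have e2 := hfibZ wZ hwUZ
    have e3 := fibreDimAt_of_maximal (redSubι X' ≫ f) ξZ hξZmax
    rw [rt_comp_of_isPreimmersion, hξZ] at e3
    have e4 := localDim_inter_fiber_eq' f (redSubι X') (redSubι X').isEmbedding _ hrange wZ x
      hwZ hx
    rw [← h2]
    show _ = FlatMor.localDim ↥((X' : Set X) ∩ f ⁻¹' {f x}) ⟨x, ⟨hx, rfl⟩⟩ + _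
    rw [e4, e2, ← e1, e3]
    rfl

theorem main {X Y : Scheme.{u}} [IrreducibleSpace Y]
    [IsLocallyNoetherian Y] (f : X ⟶ Y) [LocallyOfFiniteType f] (x : X) (hf : EGA43.IsEquidimAt f x)
    (g : Γ(X, ⊤)) (hgx : x ∈ X.zeroLocus ({g} : Set Γ(X, ⊤)))
    (hmax : ∀ z : X, f.base z = f.base x → (∀ z' : X, f.base z' = f.base x → z ∈ closure ({z'} : Set X) → z' = z) →
      z ∉ X.zeroLocus ({g} : Set Γ(X, ⊤))) :
    (∀ w : ↥(Scheme.IdealSheafData.vanishingIdeal ⟨X.zeroLocus ({g} : Set Γ(X, ⊤)), X.zeroLocus_isClosed _⟩).subscheme,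
        (Scheme.IdealSheafData.vanishingIdeal ⟨X.zeroLocus ({g} : Set Γ(X, ⊤)), X.zeroLocus_isClosed _⟩).subschemeι.base w = x →
        EGA43.IsEquidimAt ((Scheme.IdealSheafData.vanishingIdeal ⟨X.zeroLocus ({g} : Set Γ(X, ⊤)), X.zeroLocus_isClosed _⟩).subschemeι ≫ f) w) ∧
      FlatMor.localDim ↥(X.zeroLocus ({g} : Set Γ(X, ⊤)) ∩ f.base ⁻¹' {f.base x}) ⟨x, ⟨hgx, rfl⟩⟩ + 1 = FlatMor.fibreDimAt f x ∧
      ∀ Z ∈ irreducibleComponents ↥(X.zeroLocus ({g} : Set Γ(X, ⊤))), (⟨x, hgx⟩ : ↥(X.zeroLocus ({g} : Set Γ(X, ⊤)))) ∈ Z →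
        ∀ ξ : ↥(X.zeroLocus ({g} : Set Γ(X, ⊤))), closure ({ξ} : Set ↥(X.zeroLocus ({g} : Set Γ(X, ⊤)))) = Z →
          ringKrullDim (X.presheaf.stalk (ξ : X)) = 1 := by
  haveI : IsLocallyNoetherian X := LocallyOfFiniteType.isLocallyNoetherian f
  have hmax' : ∀ z : X, f z = f x → (∀ z' : X, f z' = f x → z' ⤳ z → z' = z) →
      z ∉ X.zeroLocus ({g} : Set Γ(X, ⊤)) := by
    intro z hz hzm
    exact hmax z hz (fun z' hz' hsp => hzm z' hz' (specializes_iff_mem_closure.mpr hsp))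
  have hcut := cut_dim f x g hgx hmax'
  obtain ⟨Zc, hZc⟩ : ∃ Zc : Closeds X, Zc = ⟨X.zeroLocus ({g} : Set Γ(X, ⊤)),
    X.zeroLocus_isClosed _⟩ := ⟨_, rfl⟩
  have hrange : Set.range (redSubι Zc) = X.zeroLocus ({g} : Set Γ(X, ⊤)) := by
    rw [range_redSubι Zc, hZc]; rfl
  refine ⟨?_, hcut, ?_⟩
  · rw [← hZc]
    intro w hw
    haveI : IsLocallyNoetherian (redSub Zc) :=
      LocallyOfFiniteType.isLocallyNoetherian (redSubι Zc)
    have hD := fibreDimAt_zeroLocus_add_one f x g hgx hmax' (redSubι Zc) hrange w hw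
    obtain ⟨e', he'⟩ := exists_nat_fibreDimAt_eq (redSubι Zc ≫ f) w
    have hopen := Groth.Agent.S0402.result (redSubι Zc ≫ f) e'
    obtain ⟨U'', hwU'', hU''U₁, hsp⟩ := exists_open_all_max_specialize w
      ⟨{z | FlatMor.fibreDimAt (redSubι Zc ≫ f) z ≤ (e' : WithBot ℕ∞)}, hopen⟩ he'.le
    have key : ∀ ξ'' ∈ U'', IsMaxPt ξ'' → IsMaxPt (f (redSubι Zc ξ'')) ∧
        rt f (redSubι Zc ξ'') = e' := by
      intro ξ'' hξU hξmax
      have hξg : redSubι Zc ξ'' ∈ X.zeroLocus ({g} : Set Γ(X, ⊤)) := by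
        rw [← hrange]; exact ⟨ξ'', rfl⟩
      have hξx : redSubι Zc ξ'' ⤳ x := by
        rw [← hw]; exact (hsp ξ'' hξU hξmax).map (redSubι Zc).continuous
      have hξm : ∀ t : X, t ∈ X.zeroLocus ({g} : Set Γ(X, ⊤)) → t ⤳ redSubι Zc ξ'' →
          t = redSubι Zc ξ'' := by
        intro t htg ht
        rw [← hrange] at htg
        obtain ⟨t'', rfl⟩ := htg
        have := (redSubι Zc).isEmbedding.isInducing.specializes_iff.mp ht
        rw [hξmax t'' this]
      obtain ⟨-, a2, a3⟩ := comp_analysis f x hf g hgx hmax' _ hξg hξx hξm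
      refine ⟨a2, ?_⟩
      rw [← hD, he'] at a3
      have : rt f (redSubι Zc ξ'') + 1 = e' + 1 := by exact_mod_cast a3
      omega
    rw [isEquidimAt_iff]
    refine ⟨e', U'', hwU'', ?_, ?_⟩
    · intro ξ'' hξU hξmax
      exact ⟨(key ξ'' hξU hξmax).1, (hsp ξ'' hξU hξmax).map (redSubι Zc ≫ f).continuous⟩
    · intro z hzU
      apply le_antisymm (hU''U₁ hzU)
      obtain ⟨ξ'', hξmax, hξz⟩ := exists_isMaxPt_specializes z
      have hξU : ξ'' ∈ U'' := hξz.mem_open U''.isOpen hzU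
      have h1 := Groth.Agent.Lib.EquidimOpen.rt_le_fibreDimAt_of_specializes
        (redSubι Zc ≫ f) ξ'' z hξz
      rw [rt_comp_of_isPreimmersion, (key ξ'' hξU hξmax).2] at h1
      exact h1
  · intro Z hZ hxZ ξ hξZ
    have hξmaxS : ∀ t : ↥(X.zeroLocus ({g} : Set Γ(X, ⊤))), t ⤳ ξ → t = ξ := by
      rw [← hξZ] at hZ
      exact isMax_of_closure_mem_irreducibleComponents ξ hZ
    have hξx : (ξ : X) ⤳ x := by
      have h1 : ξ ⤳ (⟨x, hgx⟩ : ↥(X.zeroLocus ({g} : Set Γ(X, ⊤)))) := by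
        rw [specializes_iff_mem_closure, hξZ]; exact hxZ
      exact h1.map continuous_subtype_val
    have hξm : ∀ t : X, t ∈ X.zeroLocus ({g} : Set Γ(X, ⊤)) → t ⤳ (ξ : X) → t = ξ := by
      intro t htg ht
      have h1 : (⟨t, htg⟩ : ↥(X.zeroLocus ({g} : Set Γ(X, ⊤)))) ⤳ ξ :=
        Topology.IsInducing.subtypeVal.specializes_iff.mp ht
      exact congrArg Subtype.val (hξmaxS _ h1)
    exact (comp_analysis f x hf g hgx hmax' _ ξ.2 hξx hξm).1

/-- Let Y be an irreducible locally Noetherian scheme, f : X ⟶ Y a morphism locally of finite type which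
is equidimensional at the point x, y = f x and e = dim_x(f⁻¹(y)). Let g be a global section of O_X
vanishing at x whose zero set X' contains no maximal point of f⁻¹(y). Then X', with its reduced
closed subscheme structure, is equidimensional over Y at x; dim_x(X' ∩ f⁻¹(y)) = e − 1; and every
irreducible component of X' containing x has codimension 1 in X, i.e. the local ring of X at its
generic point has Krull dimension 1. (Stated for a global section; the published statement takes g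
on an affine open neighbourhood of x, to which this applies after restriction, and its codimension
assertion codim(X', X) = 1 is read for the components of X' through x: a component of the zero set
not passing through x can be a whole irreducible component of X disjoint from the fibre, of
codimension 0.) -/
theorem result {X Y : Scheme.{u}} [IrreducibleSpace Y]
    [IsLocallyNoetherian Y] (f : X ⟶ Y) [LocallyOfFiniteType f] (x : X) (hf : EGA43.IsEquidimAt f x)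
    (g : Γ(X, ⊤)) (hgx : x ∈ X.zeroLocus ({g} : Set Γ(X, ⊤)))
    (hmax : ∀ z : X, f.base z = f.base x → (∀ z' : X, f.base z' = f.base x → z ∈ closure ({z'} : Set X) → z' = z) →
      z ∉ X.zeroLocus ({g} : Set Γ(X, ⊤))) :
    (∀ w : ↥(Scheme.IdealSheafData.vanishingIdeal ⟨X.zeroLocus ({g} : Set Γ(X, ⊤)), X.zeroLocus_isClosed _⟩).subscheme,
        (Scheme.IdealSheafData.vanishingIdeal ⟨X.zeroLocus ({g} : Set Γ(X, ⊤)), X.zeroLocus_isClosed _⟩).subschemeι.base w = x →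
        EGA43.IsEquidimAt ((Scheme.IdealSheafData.vanishingIdeal ⟨X.zeroLocus ({g} : Set Γ(X, ⊤)), X.zeroLocus_isClosed _⟩).subschemeι ≫ f) w) ∧
      FlatMor.localDim ↥(X.zeroLocus ({g} : Set Γ(X, ⊤)) ∩ f.base ⁻¹' {f.base x}) ⟨x, ⟨hgx, rfl⟩⟩ + 1 = FlatMor.fibreDimAt f x ∧
      ∀ Z ∈ irreducibleComponents ↥(X.zeroLocus ({g} : Set Γ(X, ⊤))), (⟨x, hgx⟩ : ↥(X.zeroLocus ({g} : Set Γ(X, ⊤)))) ∈ Z →
        ∀ ξ : ↥(X.zeroLocus ({g} : Set Γ(X, ⊤))), closure ({ξ} : Set ↥(X.zeroLocus ({g} : Set Γ(X, ⊤)))) = Z →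
          ringKrullDim (X.presheaf.stalk (ξ : X)) = 1 := by
  exact main f x hf g hgx hmax

end Groth.Agent.S5925
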