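import Groth.Statements.S5934
import Groth.Agent.Lib.SmoothFibreRelSch
import Groth.Agent.Lib.H80SmoothFiber2
import Mathlib.AlgebraicGeometry.Morphisms.Proper

set_option autoImplicit false
open CategoryTheory AlgebraicGeometry
universe u
open EGA43

namespace Groth.Agent.S5934

section helpers
open CategoryTheory CategoryTheory.Limits AlgebraicGeometry

open Groth.Agent.Lib.SmoothLocusBC Groth.Agent.Lib.SmoothFibreRelSch

/-- For `f` flat and locally of finite presentation, the fibre over `y` is smooth iff every point
of `X` over `y` lies in the smooth locus of `f`. -/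
theorem smooth_fibre_iff {X Y : Scheme.{u}} (f : X ⟶ Y) [Flat f]
    [LocallyOfFinitePresentation f] (y : Y) :
    Smooth (f.fiberToSpecResidueField y) ↔ ∀ x : X, f x = y → x ∈ f.smoothLocus := by
  have hlfp : LocallyOfFinitePresentation (f.fiberToSpecResidueField y) :=
    MorphismProperty.of_isPullback (P := @LocallyOfFinitePresentation)
      (IsPullback.of_hasPullback f (Y.fromSpecResidueField y)) inferInstance
  constructor
  · rintro hs x rfl
    have h1 : f.asFiber x ∈ (f.fiberToSpecResidueField (f x)).smoothLocus := by
      rw [Scheme.Hom.smoothLocus_eq_top]; trivial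
    have h2 := Groth.Agent.Lib.H80SmoothFiber.mem_smoothLocus_of_flat_of_fiber f (f x)
      (f.asFiber x) (Flat.stalkMap f _) h1
    rwa [Scheme.Hom.fiberι_asFiber] at h2
  · intro H
    rw [← Scheme.Hom.smoothLocus_eq_top_iff, ← top_le_iff]
    rintro x' -
    have hx : f (f.fiberι y x') = y := fiberι_apply f y x'
    exact formallySmooth_stalkMap_snd_of_isPullback
      (IsPullback.of_hasPullback f (Y.fromSpecResidueField y)) x' (H _ hx)

theorem main {X Y : Scheme.{u}} (f : X ⟶ Y) [IsProper f] [Flat f]
    [LocallyOfFinitePresentation f] :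
    IsOpen {y : Y | Smooth (f.fiberToSpecResidueField y)} := by
  have key : {y : Y | Smooth (f.fiberToSpecResidueField y)} =
      (f '' (f.smoothLocus : Set X)ᶜ)ᶜ := by
    ext y
    simp only [Set.mem_ofPred_eq, Set.mem_compl_iff, Set.mem_image, not_exists, not_and]
    rw [smooth_fibre_iff]
    exact ⟨fun H x hx hxy ↦ hx (H x hxy), fun H x hxy ↦ by_contra fun hx ↦ H x hx hxy⟩
  rw [key]
  exact (f.isClosedMap _ f.smoothLocus.isOpen.isClosed_compl).isOpen_compl

end helpers

/-- Let f : X ⟶ Y be a proper, flat morphism of finite presentation. The set of points y of Y whose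
fibre X_y is geometrically regular, i.e. smooth over the residue field κ(y), is open in Y. -/
theorem result {X Y : Scheme.{u}} (f : X ⟶ Y) [IsProper f] [Flat f]
    [LocallyOfFinitePresentation f] :
    IsOpen {y : Y | Smooth (f.fiberToSpecResidueField y)} :=
  main f

end Groth.Agent.S5934
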