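import Groth.Statements.S5937
import Groth.Agent.Lib.OmegaDer81D
import Groth.Agent.Lib.PinchZero

set_option autoImplicit false
universe u
open CategoryTheory CategoryTheory.Limits AlgebraicGeometry
open Unram17

namespace Groth.Agent.S5937

/-- Take a morphism of schemes f : X ⟶ Y and an O_X-module Ω' equipped with a universal Y-derivation d :
O_X → Ω' (so that Ω' is a sheaf of differentials of X over Y). Then f is formally unramified if and
only if Ω' is a zero object of the category of O_X-modules. -/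
theorem result {X Y : Scheme.{u}} (f : X ⟶ Y)
    (Ω' : X.Modules) (d : OmegaSh.Der f Ω') (hd : OmegaSh.IsUniversal d) :
    FormallyUnramified f ↔ IsZero Ω' := by
  haveI : Ω'.IsQuasicoherent := Groth.Agent.Lib.OmegaDer81.isQuasicoherent_of_isUniversal f d hd
  constructor
  · intro hf
    apply Groth.Agent.Lib.ModPullback.isZero_of_forall_subsingleton_stalk
    intro x
    obtain ⟨_, ⟨V, hV, rfl⟩, hxV, -⟩ :=
      Y.isBasis_affineOpens.exists_subset_of_mem_open (Set.mem_univ (f x)) isOpen_univ
    obtain ⟨_, ⟨W, hW, rfl⟩, hxW, hWV⟩ :=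
      X.isBasis_affineOpens.exists_subset_of_mem_open (show x ∈ f ⁻¹ᵁ V from hxV)
        (f ⁻¹ᵁ V).isOpen
    letI : Algebra Γ(Y, V) Γ(X, W) := (f.appLE V W hWV).hom.toAlgebra
    obtain ⟨ε, -⟩ := Groth.Agent.Lib.OmegaDer81.exists_linearEquiv_sections f d hW hV hWV hd
    have h1 : Algebra.FormallyUnramified Γ(Y, V) Γ(X, W) := hf.formallyUnramified_appLE hV hW hWV
    haveI : Subsingleton Γ(Ω', W) := ε.symm.toEquiv.subsingleton
    exact Groth.Agent.Lib.PinchZero.subsingleton_stalk_of_subsingleton_sections Ω' hW inferInstance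
      ⟨x, hxW⟩
  · intro hz
    refine ⟨fun {V} hV {W} hW e => ?_⟩
    letI : Algebra Γ(Y, V) Γ(X, W) := (f.appLE V W e).hom.toAlgebra
    obtain ⟨ε, -⟩ := Groth.Agent.Lib.OmegaDer81.exists_linearEquiv_sections f d hW hV e hd
    haveI : Subsingleton Γ(Ω', W) :=
      Groth.Agent.Lib.PinchZero.subsingleton_sections_of_isZero Ω' hz W
    have : Algebra.FormallyUnramified Γ(Y, V) Γ(X, W) := ⟨ε.toEquiv.subsingleton⟩
    exact this

end Groth.Agent.S5937
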