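import Groth.Statements.S5947
import Groth.Agent.Lib.OmegaDer81C

set_option autoImplicit false
universe u
open CategoryTheory AlgebraicGeometry TopologicalSpace
open Nrm16

namespace Groth.Agent.S5947

open Groth.Agent.Lib.OmegaDer81

section
variable (A B : Type u) [CommRing A] [CommRing B] [Algebra A B]
    (L : Type u) [AddCommGroup L] [Module B L] [Module A L] [IsScalarTower A B L]

/-- the linear equivalence `L ≃ Γ(L~, ⊤)` -/
noncomputable def tau : L ≃ₗ[B] Γ(tildeOf B L, ⊤) :=
  LinearEquiv.ofBijective (toTop B L) (toTop_bijective B L)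

theorem tau_apply (l : L) : tau B L l = toTop B L l := rfl

/-- a Leibniz additive map killing `A` is an `A`-derivation -/
noncomputable def mkDerivation (δ : B →+ L) (hδ : IsLeibniz δ)
    (h0 : ∀ a, δ (algebraMap A B a) = 0) : Derivation A B L :=
  Derivation.mk'
    { toFun := δ
      map_add' := δ.map_add
      map_smul' := by
        intro a b
        simp only [RingHom.id_apply]
        rw [Algebra.smul_def, hδ, h0, smul_zero, add_zero, algebraMap_smul] }
    (fun a b => hδ a b)

theorem mkDerivation_apply (δ : B →+ L) (hδ : IsLeibniz δ)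
    (h0 : ∀ a, δ (algebraMap A B a) = 0) (b : B) : mkDerivation A B L δ hδ h0 b = δ b := rfl

end

/-- Let A be a commutative ring, B an A-algebra and L a B-module; put S = Spec A, X = Spec B and let F
be the O_X-module associated with L. For an S-derivation D of O_X into F write Γ(D) : B → L for its
effect on global sections (global sections of O_X and of F being identified with B and L by the
canonical isomorphisms). Then D ↦ Γ(D) is a bijection from the set of S-derivations of O_X into F
onto the set of A-derivations of B into L: every Γ(D) is an A-derivation, and every A-derivation of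
B into L is Γ(D) for exactly one D. (The published statement asserts an isomorphism of B-modules; no
module structure is placed on sheaf derivations here, so this row states the bijection.) -/
theorem result (A B : Type u) [CommRing A] [CommRing B] [Algebra A B]
    (L : Type u) [AddCommGroup L] [Module B L] [Module A L] [IsScalarTower A B L] :
    (∀ D : OmegaSh.Der (Spec.map (CommRingCat.ofHom (algebraMap A B))) (tilde (ModuleCat.of (CommRingCat.of B) L)),
      ∃ δ : Derivation A B L, ∀ t : B, D.app ⊤ ((Scheme.ΓSpecIso (CommRingCat.of B)).inv t) =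
        (tilde.isoTop (ModuleCat.of (CommRingCat.of B) L)).hom (δ t)) ∧
    ∀ δ : Derivation A B L,
      ∃! D : OmegaSh.Der (Spec.map (CommRingCat.ofHom (algebraMap A B))) (tilde (ModuleCat.of (CommRingCat.of B) L)),
        ∀ t : B, D.app ⊤ ((Scheme.ΓSpecIso (CommRingCat.of B)).inv t) =
          (tilde.isoTop (ModuleCat.of (CommRingCat.of B) L)).hom (δ t) := by
  constructor
  · intro D
    let δ₀ : B →+ L := (tau B L).symm.toLinearMap.toAddMonoidHom.comp (derTop A B D)
    have hδ₀ : ∀ b, tau B L (δ₀ b) = derTop A B D b := fun b => (tau B L).apply_symm_apply _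
    have hL : IsLeibniz δ₀ := by
      intro a b
      apply (tau B L).injective
      rw [hδ₀, map_add, map_smul, map_smul, hδ₀, hδ₀]
      exact derTop_leibniz A B D a b
    have h0 : ∀ a, δ₀ (algebraMap A B a) = 0 := by
      intro a
      apply (tau B L).injective
      rw [hδ₀, map_zero]
      exact derTop_algebraMap A B D a
    refine ⟨mkDerivation A B L δ₀ hL h0, fun t => ?_⟩
    rw [mkDerivation_apply]
    exact (hδ₀ t).symm
  · intro δ
    have hL : IsLeibniz (δ : B →ₗ[A] L).toAddMonoidHom := fun a b => δ.leibniz a b
    have h0 : ∀ a, (δ : B →ₗ[A] L).toAddMonoidHom (algebraMap A B a) = 0 :=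
      fun a => δ.map_algebraMap a
    have key : ∀ t : B, (specDer A (δ : B →ₗ[A] L).toAddMonoidHom hL h0).app ⊤
        ((Scheme.ΓSpecIso (CommRingCat.of B)).inv t) =
          (tilde.isoTop (ModuleCat.of (CommRingCat.of B) L)).hom (δ t) := by
      intro t
      rw [specDer_app_top, toTop_apply]
      have : (Scheme.ΓSpecIso (CommRingCat.of B)).hom ((Scheme.ΓSpecIso (CommRingCat.of B)).inv t) = t :=
        congr($((Scheme.ΓSpecIso (CommRingCat.of B)).inv_hom_id) t)
      rw [this]
      rfl
    refine ⟨specDer A (δ : B →ₗ[A] L).toAddMonoidHom hL h0, key, fun D' hD' => ?_⟩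
    apply der_ext
    ext s
    have hs : (Scheme.ΓSpecIso (CommRingCat.of B)).inv ((Scheme.ΓSpecIso (CommRingCat.of B)).hom s) = s :=
      congr($((Scheme.ΓSpecIso (CommRingCat.of B)).hom_inv_id) s)
    rw [← hs]
    exact (hD' _).trans (key _).symm

end Groth.Agent.S5947
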