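import Groth.Statements.S5950
import Groth.Agent.Lib.NormalizationChar

set_option autoImplicit false
universe u
open CategoryTheory AlgebraicGeometry
open Unram17

namespace Groth.Agent.S5950

section helpers

open Groth.Agent.Lib.NormalizationChar

lemma isIso_stalkMap_morphismRestrict_iff {X Y : Scheme.{u}} (f : Y ⟶ X) (U : X.Opens)
    (y : (f ⁻¹ᵁ U : Y.Opens)) :
    IsIso ((f ∣_ U).stalkMap y) ↔ IsIso (f.stalkMap y.1) := by
  rw [← MorphismProperty.isomorphisms.iff, ← MorphismProperty.isomorphisms.iff]
  exact (MorphismProperty.isomorphisms _).arrow_mk_iso_iff (morphismRestrictStalkMap f U y)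

lemma genericPoint_mem_of_nonempty {X : Scheme.{u}} [IrreducibleSpace X] (U : X.Opens)
    (h : (U : Set X).Nonempty) : genericPoint X ∈ U :=
  ((genericPoint_spec X).mem_open_set_iff U.isOpen).mpr (by simpa using h)

lemma ι_genericPoint {X : Scheme.{u}} [IsIntegral X] (U : X.Opens) [Nonempty U] :
    U.ι (genericPoint U.toScheme) = genericPoint X :=
  genericPoint_eq_of_isOpenImmersion U.ι

variable (X : Scheme.{u}) [IsIntegral X]

/-- (⇒) helper: a normal integral `Y`, integral and birational over `X`, is an isomorphism over any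
nonempty normal open of `X`. -/
theorem isIso_morphismRestrict_of_birational {Y : Scheme.{u}} [IsIntegral Y] (f : Y ⟶ X)
    [IsIntegralHom f] (hfy : f (genericPoint Y) = genericPoint X)
    (hiso : IsIso (f.stalkMap (genericPoint Y)))
    (V : X.Opens) (hVne : (V : Set X).Nonempty)
    (hV : ∀ x ∈ V, IsIntegrallyClosed (X.presheaf.stalk x)) : IsIso (f ∣_ V) := by
  have hηV : genericPoint X ∈ V := genericPoint_mem_of_nonempty V hVne
  have hηY : genericPoint Y ∈ f ⁻¹ᵁ V := by
    show f (genericPoint Y) ∈ V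
    rw [hfy]; exact hηV
  have : Nonempty V := ⟨⟨_, hηV⟩⟩
  have : Nonempty (f ⁻¹ᵁ V : Y.Opens) := ⟨⟨_, hηY⟩⟩
  have hint : IsIntegralHom (f ∣_ V) := MorphismProperty.of_isPullback (P := @IsIntegralHom)
    (isPullback_morphismRestrict f V).flip inferInstance
  have hN : ∀ v : V.toScheme, IsIntegrallyClosed (V.toScheme.presheaf.stalk v) := fun v ↦ by
    have : IsIntegrallyClosed (X.presheaf.stalk (V.ι v)) := hV _ v.2
    exact IsIntegrallyClosed.of_equiv (asIso (V.ι.stalkMap v)).commRingCatIsoToRingEquiv
  have hgen : (f ∣_ V) (genericPoint (f ⁻¹ᵁ V).toScheme) = genericPoint V.toScheme := by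
    apply V.ι.isOpenEmbedding.injective
    rw [← Scheme.Hom.comp_apply, morphismRestrict_ι, Scheme.Hom.comp_apply, ι_genericPoint,
      ι_genericPoint, hfy]
  have hst : IsIso ((f ∣_ V).stalkMap (genericPoint (f ⁻¹ᵁ V).toScheme)) := by
    refine (isIso_stalkMap_morphismRestrict_iff f V _).mpr ?_
    exact isIso_stalkMap_of_eq rfl (ι_genericPoint (f ⁻¹ᵁ V)).symm hiso
  exact Groth.Agent.S4809.isIso_of_integral_birational hN (f ∣_ V) _ hgen hst

/-- (⇐) helper: an isomorphism over a dense open with dense preimage is birational. -/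
theorem birational_of_isIso_morphismRestrict {Y : Scheme.{u}} (f : Y ⟶ X)
    (U : X.Opens) (hU : Dense (U : Set X)) (hfU : Dense ((f ⁻¹ᵁ U : Y.Opens) : Set Y))
    (hiso : IsIso (f ∣_ U)) :
    ∃ _ : IrreducibleSpace ↥Y, f.base ⁻¹' {genericPoint X} = {genericPoint Y} ∧
      IsIso (f.stalkMap (genericPoint Y)) := by
  have hUne : (U : Set X).Nonempty := hU.nonempty
  have hneU : Nonempty U := hUne.to_subtype
  have hneW : Nonempty (f ⁻¹ᵁ U : Y.Opens) := ⟨(inv (f ∣_ U)) hneU.some⟩
  have hWint : IsIntegral (f ⁻¹ᵁ U).toScheme := isIntegral_of_isOpenImmersion (f ∣_ U)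
  have hirr : IrreducibleSpace Y := by
    rw [irreducibleSpace_def, Set.top_eq_univ, ← hfU.closure_eq]
    refine IsIrreducible.closure ?_
    have h1 : IsIrreducible (Set.univ : Set (f ⁻¹ᵁ U).toScheme) :=
      IrreducibleSpace.isIrreducible_univ _
    have h2 := h1.image (f ⁻¹ᵁ U).ι (f ⁻¹ᵁ U).ι.continuous.continuousOn
    rwa [Set.image_univ, Scheme.Opens.range_ι] at h2
  have hYW : (f ⁻¹ᵁ U).ι (genericPoint (f ⁻¹ᵁ U).toScheme) = genericPoint Y := by
    refine ((genericPoint_spec Y).eq ?_).symm
    have h1 := (genericPoint_spec (f ⁻¹ᵁ U).toScheme).image (f ⁻¹ᵁ U).ι.continuous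
    rw [isGenericPoint_def] at h1 ⊢
    rw [h1, Set.image_univ, Scheme.Opens.range_ι, hfU.closure_eq]
  have hgen : (f ∣_ U) (genericPoint (f ⁻¹ᵁ U).toScheme) = genericPoint U.toScheme :=
    genericPoint_eq_of_isOpenImmersion (f ∣_ U)
  have hfy : f (genericPoint Y) = genericPoint X := by
    rw [← hYW, ← Scheme.Hom.comp_apply, ← morphismRestrict_ι, Scheme.Hom.comp_apply, hgen,
      ι_genericPoint]
  have hηU : genericPoint X ∈ U := genericPoint_mem_of_nonempty U hUne
  refine ⟨hirr, ?_, ?_⟩
  · ext y
    simp only [Set.mem_preimage, Set.mem_singleton_iff]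
    constructor
    · intro hy
      have hyW : y ∈ f ⁻¹ᵁ U := by
        show f y ∈ U
        rw [hy]; exact hηU
      let y' : (f ⁻¹ᵁ U).toScheme := ⟨y, hyW⟩
      have hy' : (f ⁻¹ᵁ U).ι y' = y := rfl
      have h0 : ((f ∣_ U) ≫ U.ι) y' = ((f ∣_ U) ≫ U.ι) (genericPoint (f ⁻¹ᵁ U).toScheme) := by
        rw [morphismRestrict_ι, Scheme.Hom.comp_apply, Scheme.Hom.comp_apply, hYW, hfy, hy', hy]
      rw [Scheme.Hom.comp_apply, Scheme.Hom.comp_apply] at h0
      have h1 := U.ι.isOpenEmbedding.injective h0
      have h2 := (f ∣_ U).isOpenEmbedding.injective h1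
      rw [← hYW, ← h2, hy']
    · rintro rfl
      exact hfy
  · have h1 : IsIso ((f ∣_ U).stalkMap (genericPoint (f ⁻¹ᵁ U).toScheme)) := inferInstance
    exact isIso_stalkMap_of_eq rfl hYW ((isIso_stalkMap_morphismRestrict_iff f U _).mp h1)

end helpers

/-- Let X be an integral scheme which has a nonempty (hence dense) open subset at whose points the local
rings are integrally closed, let X' ⟶ X be its normalization, and let f : Y ⟶ X be a morphism of
schemes. Then there is an isomorphism Y ≅ X' over X if and only if: every local ring of Y is an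
integrally closed domain, f is an integral morphism, and there is a dense open subset U of X whose
preimage is dense in Y and such that the restriction f⁻¹(U) ⟶ U of f is an isomorphism. (The
published statement allows X reduced with locally finitely many irreducible components and a dense
normal open subset; this row states the case of an integral X. The quasi-compactness and
quasi-separatedness binders on the generic point always hold and only serve to form the
normalization.) -/
theorem result (X : Scheme.{u}) [IsIntegral X]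
    [QuasiCompact (X.fromSpecStalk (genericPoint X))] [QuasiSeparated (X.fromSpecStalk (genericPoint X))]
    (hV : ∃ V : X.Opens, (V : Set ↥X).Nonempty ∧ ∀ x ∈ V, IsIntegrallyClosed (X.presheaf.stalk x))
    {Y : Scheme.{u}} (f : Y ⟶ X) :
    (∃ e : Y ≅ Curv2.normalization X, e.hom ≫ Curv2.normalizationι X = f) ↔
      Pi1.IsNormalScheme Y ∧ IsIntegralHom f ∧
        ∃ U : X.Opens, Dense (U : Set ↥X) ∧ Dense ((f ⁻¹ᵁ U : Y.Opens) : Set ↥Y) ∧ IsIso (f ∣_ U) := by
  rw [Groth.Agent.Lib.NormalizationChar.overIso_normalization_iff_birational]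
  constructor
  · rintro ⟨hn, hint, hirr, hfib, hiso⟩
    refine ⟨hn, hint, ?_⟩
    obtain ⟨V, hVne, hVn⟩ := hV
    have : ∀ y : Y, _root_.IsReduced (Y.presheaf.stalk y) := fun y ↦ by
      have := (hn y).1
      infer_instance
    have hYred : IsReduced Y := isReduced_of_isReduced_stalk Y
    have hYint : IsIntegral Y := isIntegral_of_irreducibleSpace_of_isReduced Y
    have hfy : f (genericPoint Y) = genericPoint X := by
      have : genericPoint Y ∈ f.base ⁻¹' {genericPoint X} := hfib ▸ rfl
      exact this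
    refine ⟨V, V.isOpen.dense hVne, (f ⁻¹ᵁ V).isOpen.dense ⟨genericPoint Y, ?_⟩,
      isIso_morphismRestrict_of_birational X f hfy hiso V hVne hVn⟩
    show f (genericPoint Y) ∈ V
    rw [hfy]
    exact genericPoint_mem_of_nonempty V hVne
  · rintro ⟨hn, hint, U, hU, hfU, hiso⟩
    exact ⟨hn, hint, birational_of_isIso_morphismRestrict X f U hU hfU hiso⟩

end Groth.Agent.S5950
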