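import Groth.Statements.S5966
import Groth.Agent.Lib.PushHomeoColim81

set_option autoImplicit false
universe u
open CategoryTheory CategoryTheory.Limits AlgebraicGeometry TopologicalSpace Opposite
open Nrm16

namespace Groth.Agent.S5966

/-- Let f : X ⟶ S be a morphism of schemes and n a natural number. The functor F ↦ P^n_{X/S}(F),
pullback along the second projection of the n-th infinitesimal neighbourhood of the diagonal
followed by pushforward along the first, from O_X-modules to O_X-modules, commutes with all small
colimits (in particular it is right exact). -/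
theorem result {X S : Scheme.{u}} (f : X ⟶ S) (n : ℕ) :
    PreservesColimitsOfSize.{u, u}
      ((Scheme.Modules.pullback (PrinPart.pr2 f n)) ⋙ (Scheme.Modules.pushforward (PrinPart.pr1 f n))) := by
  have h1 : ∀ x, PrinPart.pr1 f n (PrinPart.toNbhd f n x) = x := fun x => by
    rw [← Scheme.Hom.comp_apply, PrinPart.toNbhd_pr1]; rfl
  have h2 : ∀ y, PrinPart.toNbhd f n (PrinPart.pr1 f n y) = y := fun y => by
    obtain ⟨x, rfl⟩ := PrinPart.toInfNbhd_surjective (PrinPart.diagCl f) n y
    exact congrArg _ (h1 x)
  have := Groth.Agent.Lib.PushHomeoColim81.preservesColimits_pushforward_of_homeo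
    (PrinPart.pr1 f n) (PrinPart.toNbhd f n) h1 h2
  have : PreservesColimitsOfSize.{u, u} (Scheme.Modules.pullback (PrinPart.pr2 f n)) :=
    (Scheme.Modules.pullbackPushforwardAdjunction (PrinPart.pr2 f n)).leftAdjoint_preservesColimits
  infer_instance

end Groth.Agent.S5966
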