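import Groth.Statements.S5967
import Groth.Agent.Lib.PushStalk81
import Groth.Agent.Lib.PullbackStalk81
import Groth.Agent.Lib.PrinPart81S

set_option autoImplicit false
universe u
open CategoryTheory CategoryTheory.Limits AlgebraicGeometry TopologicalSpace Opposite
open Nrm16

namespace Groth.Agent.S5967

/-- Let f : X ⟶ S be a morphism of schemes and n a natural number, and assume that P^n_{X/S} is a flat
O_X-module for its left structure. Then the functor F ↦ P^n_{X/S}(F) on O_X-modules preserves finite
limits (so it is exact). -/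
theorem result {X S : Scheme.{u}} (f : X ⟶ S) (n : ℕ)
    (hP : FlatMod.IsFlat (PrinPart.P f n)) :
    PreservesFiniteLimits
      ((Scheme.Modules.pullback (PrinPart.pr2 f n)) ⋙ (Scheme.Modules.pushforward (PrinPart.pr1 f n))) := by
  have h1 : ∀ x, PrinPart.pr1 f n (PrinPart.toNbhd f n x) = x := fun x => by
    rw [← Scheme.Hom.comp_apply, PrinPart.toNbhd_pr1]; rfl
  have h2 : ∀ y, PrinPart.toNbhd f n (PrinPart.pr1 f n y) = y := fun y => by
    obtain ⟨x, rfl⟩ := PrinPart.toInfNbhd_surjective (PrinPart.diagCl f) n y
    exact congrArg _ (h1 x)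
  let H : PrinPart.nbhd f n ≃ₜ X :=
    { toFun := PrinPart.pr1 f n
      invFun := PrinPart.toNbhd f n
      left_inv := h2
      right_inv := h1
      continuous_toFun := (PrinPart.pr1 f n).continuous
      continuous_invFun := (PrinPart.toNbhd f n).continuous }
  have hp : Topology.IsInducing (PrinPart.pr1 f n) := H.isInducing
  have hflat1 : Flat (PrinPart.pr1 f n) := by
    rw [Flat.iff_flat_stalkMap]
    intro z
    exact Groth.Agent.Lib.PushStalk81.flat_stalkMap_of_flat_push (PrinPart.pr1 f n) hp
      ((Scheme.Modules.pullback (PrinPart.pr2 f n)).obj (Coh.structureModule X))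
      (Groth.Agent.Lib.ModPullback.pullbackUnitIso (PrinPart.pr2 f n)).symm z (hP _)
  obtain ⟨σ, -, hσσ, hσ1, -, -⟩ := Groth.Agent.Lib.PrinPart81.exists_sigma f n
  have : IsIso σ := ⟨σ, hσσ, hσσ⟩
  have hflat2 : Flat (PrinPart.pr2 f n) := by
    rw [← hσ1]
    infer_instance
  have : PreservesFiniteLimits (Scheme.Modules.pushforward (PrinPart.pr1 f n)) := by
    have : PreservesLimitsOfSize.{0, 0} (Scheme.Modules.pushforward (PrinPart.pr1 f n)) :=
      (Scheme.Modules.pullbackPushforwardAdjunction (PrinPart.pr1 f n)).rightAdjoint_preservesLimits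
    exact PreservesLimitsOfSize.preservesFiniteLimits _
  infer_instance

end Groth.Agent.S5967
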