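import Groth.Statements.S5973
import Groth.Agent.Lib.GrMod81C
import Groth.Agent.Lib.SupportTensor
import Groth.Agent.Lib.H90OXModAffineFT
import Mathlib.AlgebraicGeometry.Morphisms.FinitePresentation

set_option autoImplicit false
set_option linter.style.haveILetI false
universe u
open CategoryTheory CategoryTheory.Limits AlgebraicGeometry TopologicalSpace Opposite
open Nrm16

namespace Groth.Agent.S5973

open Groth.Agent.Lib.GrMod81

theorem ker_ideal_fg {Y X : Scheme.{u}} (f : Y ⟶ X) [IsClosedImmersion f]
    [LocallyOfFinitePresentation f] (U : X.Opens) (hU : IsAffineOpen U) :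
    (f.ker.ideal ⟨U, hU⟩).FG := by
  rw [Scheme.Hom.ker_apply]
  have hW : IsAffineOpen (f ⁻¹ᵁ U) := hU.preimage f
  have hfp : (f.app U).hom.FinitePresentation := by
    rw [Scheme.Hom.app_eq_appLE]
    exact f.finitePresentation_appLE hU hW le_rfl
  have hs : Function.Surjective (f.app U).hom := f.app_surjective U hU
  letI := (f.app U).hom.toAlgebra
  haveI : Algebra.FinitePresentation Γ(X, U) Γ(Y, f ⁻¹ᵁ U) := hfp
  exact Algebra.FinitePresentation.ker_fG_of_surjective (Algebra.ofId Γ(X, U) Γ(Y, f ⁻¹ᵁ U)) hs



/-- Let f : Y ⟶ X be a closed immersion which is locally of finite presentation. Then for every n the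
n-th graded piece Gr_n(f) = I^n/I^(n+1) of the ideal of f, as an O_Y-module, is quasi-coherent of
finite type. (The published statement allows any immersion locally of finite presentation; this row
states the case of a closed immersion.) -/
theorem result {Y X : Scheme.{u}} (f : Y ⟶ X) [IsClosedImmersion f]
    [LocallyOfFinitePresentation f] (n : ℕ) :
    Coh.IsCoh (PrinPart.grMod f n) := by
  refine ⟨inferInstance, ?_⟩
  haveI : (ClSub.idealMod (f.ker ^ n)).IsQuasicoherent :=
    Groth.Agent.Lib.H77QCohKernel.isQuasicoherent_idealMod _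
  haveI : (ClSub.idealMod (f.ker ^ n)).IsFiniteType := by
    apply Groth.Agent.Lib.H90OXModAffineFT.isFiniteType_of_forall_affine
    intro U
    have hfg : ((f.ker ^ n).ideal ⟨U.1, U.2⟩).FG := by
      change ((f.ker.ideal ⟨U.1, U.2⟩) ^ n).FG
      exact (ker_ideal_fg f U.1 U.2).pow
    haveI : Module.Finite Γ(X, U.1) ((f.ker ^ n).ideal ⟨U.1, U.2⟩) := Module.Finite.iff_fg.mpr hfg
    exact Module.Finite.equiv (idealEquiv (f.ker ^ n) U.2).symm
  exact Groth.Agent.Lib.SupportTensor.isFiniteType_pullback f (ClSub.idealMod (f.ker ^ n))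

end Groth.Agent.S5973
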