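import Groth.Statements.S5985
import Groth.Agent.Lib.EtLocQF3

set_option autoImplicit false
universe u
open CategoryTheory AlgebraicGeometry
open Unram

namespace Groth.Agent.S5985

/-- Let f : X ⟶ Y be separated and locally of finite type, and y a point of Y whose fibre f⁻¹(y) is
finite (hence discrete). Then there are an étale morphism g : Y' ⟶ Y, a point y' of Y' with g(y') =
y inducing an isomorphism of residue fields κ(y) ≅ κ(y'), and two complementary open subschemes V, W
of X' = X ×_Y Y' such that V ⟶ Y' is finite and W contains no point of X' lying over y'. -/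
theorem result {X Y : Scheme.{u}} (f : X ⟶ Y)
    [LocallyOfFiniteType f] [IsSeparated f] (y : Y) (hfin : (f ⁻¹' {y}).Finite) :
    ∃ (Y' : Scheme.{u}) (g : Y' ⟶ Y) (y' : Y'), Etale g ∧ g y' = y ∧
      IsIso (g.residueFieldMap y') ∧
      ∃ (V W : (Limits.pullback f g).Opens), IsCompl V W ∧
        IsFinite (V.ι ≫ Limits.pullback.snd f g) ∧
        ∀ x : ↥(Limits.pullback f g), Limits.pullback.snd f g x = y' → x ∈ V := by
  have hT : Finite ↑(f ⁻¹' {y}) := hfin.to_subtype
  obtain ⟨n, ⟨e⟩⟩ := Finite.exists_equiv_fin ↑(f ⁻¹' {y})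
  let x : Fin n → X := fun i => (e.symm i).1
  have hs : ∀ i, f (x i) = y := fun i => (e.symm i).2
  have hqf : ∀ z : X, f z = y → f.QuasiFiniteAt z := by
    rintro z rfl
    have : Finite (f.fiber (f z)) := (f.fiberHomeo (f z)).finite_iff.mpr hT
    exact Scheme.Hom.quasiFiniteAt_iff_isOpen_singleton_asFiber.mpr (isOpen_discrete _)
  obtain ⟨U, g, u, hg, hgu, hiso, V, v, H⟩ :=
    Groth.Agent.Lib.EtLocQF.exists_etaleNbhd_of_forall_quasiFiniteAt f y x hs
      (fun i => hqf _ (hs i))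
  obtain ⟨Vs, hVs⟩ : ∃ Vs : (Limits.pullback f g).Opens, Vs = ⨆ i, V i := ⟨_, rfl⟩
  have hcl : IsClosed (Vs : Set ↥(Limits.pullback f g)) := by
    rw [hVs, TopologicalSpace.Opens.coe_iSup]
    exact isClosed_iUnion_of_finite fun i =>
      Groth.Agent.Lib.EtLocQF.isClosed_of_isFinite_of_isSeparated f g (V i) (H i).2.1
  have hfinV : IsFinite (Vs.ι ≫ Limits.pullback.snd f g) := by
    rw [hVs]
    exact Groth.Agent.Lib.EtLocQF.isFinite_iSup_ι_comp _ V (fun i => (H i).2.1)
  refine ⟨U, g, u, hg, hgu, hiso, Vs, ⟨_, hcl.isOpen_compl⟩, ?_, hfinV, ?_⟩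
  · simp [isCompl_iff, disjoint_iff, codisjoint_iff, SetLike.ext'_iff]
  · intro w hw
    rw [hVs]
    have h3 : f (Limits.pullback.fst f g w) = y := by
      have := congr($(Limits.pullback.condition (f := f) (g := g)) w)
      rw [Scheme.Hom.comp_apply, Scheme.Hom.comp_apply, hw, hgu] at this
      exact this
    have hxi : x (e ⟨Limits.pullback.fst f g w, h3⟩) = Limits.pullback.fst f g w := by
      dsimp only [x]
      rw [Equiv.symm_apply_apply]
    obtain ⟨i₀, hi₀⟩ : ∃ i₀, x i₀ = Limits.pullback.fst f g w := ⟨_, hxi⟩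
    obtain ⟨h4, h5, h6, h7, h8⟩ := H i₀
    have hwv : w = v i₀ :=
      Groth.Agent.Lib.EtLocQF.eq_of_fst_eq_of_snd_eq f g w _ (hi₀.symm.trans h8.symm)
        (hw.trans h6.symm) (h6 ▸ hiso)
    have : w ∈ V i₀ := hwv ▸ h4
    exact (le_iSup V _) this

end Groth.Agent.S5985
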