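import Groth.Statements.S5996
import Groth.Agent.Lib.RatSection96D
-- import your own Groth.Agent.* helpers here

set_option autoImplicit false
universe u
open CategoryTheory AlgebraicGeometry
open Unram

namespace Groth.Agent.S5996

/-- Let Y be a reduced scheme whose irreducible components form a locally finite family, f : X ⟶ Y a
separated, locally of finite type, formally unramified morphism such that f(T) is closed in Y for
every closed irreducible subset T of X, and u : U ⟶ X a section of f over a dense open U of Y. Then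
for every point y of Y whose local ring is geometrically unibranch there are an open V ∋ y and a
section v : V ⟶ X of f agreeing with u on U ∩ V: the rational section defined by u is defined at
every geometrically unibranch point. -/
theorem result {X Y : Scheme.{u}} [IsReduced Y]
    (hcomp : LocallyFinite (fun Z : ↥(irreducibleComponents ↥Y) => (Z : Set ↥Y)))
    (f : X ⟶ Y) [IsSeparated f] [LocallyOfFiniteType f] [FormallyUnramified f]
    (U : Y.Opens) (hU : Dense (U : Set ↥Y)) (u : (U : Scheme.{u}) ⟶ X) (hu : u ≫ f = U.ι)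
    (hcl : ∀ T : Set ↥X, IsClosed T → IsIrreducible T → IsClosed (f '' T))
    (y : Y) (hy : CAlg2.IsGeomUnibranch (Y.presheaf.stalk y)) :
    ∃ (V : Y.Opens) (v : (V : Scheme.{u}) ⟶ X), y ∈ V ∧ v ≫ f = V.ι ∧
      Y.homOfLE (inf_le_left : U ⊓ V ≤ U) ≫ u = Y.homOfLE (inf_le_right : U ⊓ V ≤ V) ≫ v := by
  have hnil := Groth.Agent.Lib.UnramGeomUnibranch96.isPrime_nilradical_of_isGeomUnibranch hy
  obtain ⟨V, hVopen, hyV, η₀, hη₀V, hspec⟩ :=
    Groth.Agent.Lib.RatSection96.exists_open_nhd_generic_of_locallyFinite hcomp y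
      (Groth.Agent.Lib.EquiUnivOpen96.uniqueComp_of_isPrime_nilradical_stalk y hnil)
  have hη₀U : η₀ ∈ U := by
    obtain ⟨z, hzV, hzU⟩ := hU.inter_open_nonempty V hVopen ⟨y, hyV⟩
    exact (hspec z hzV).mem_open U.isOpen hzU
  let ηU : (U : Scheme.{u}) := ⟨η₀, hη₀U⟩
  have hfξ : f (u ηU) = η₀ := by
    rw [← Scheme.Hom.comp_apply, hu]
    rfl
  have hcl' := hcl (closure {u ηU}) isClosed_closure isIrreducible_singleton.closure
  have hy_mem : y ∈ f '' closure {u ηU} := by
    have h1 : closure {η₀} ⊆ f '' closure {u ηU} :=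
      hcl'.closure_subset_iff.2
        (Set.singleton_subset_iff.2 ⟨_, subset_closure (Set.mem_singleton _), hfξ⟩)
    exact h1 (specializes_iff_mem_closure.1 (hspec y hyV))
  obtain ⟨x, hxT, rfl⟩ := hy_mem
  have hsub : ({u ηU} : Set ↥X) ⊆ Set.range u := Set.singleton_subset_iff.2 (Set.mem_range_self ηU)
  exact Groth.Agent.Lib.RatSection96.exists_section_nhd hcomp f U hU u hu x
    (closure_mono hsub hxT) hy

end Groth.Agent.S5996
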