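import Groth.Statements.S5999
import Mathlib

set_option autoImplicit false
universe u
open SGA1

namespace Groth.Agent.S5999

section Helpers

set_option autoImplicit false
set_option linter.style.haveILetI false

namespace P0
open TensorProduct

/-- Vanishing of `1 ⊗ m` does not depend on the field. -/
theorem tmul_eq_zero_iff {B K L M : Type u} [CommRing B] [Field K] [Field L] [Algebra B K]
    [Algebra B L] [AddCommGroup M] [Module B M] (φ : K →ₐ[B] L) (m : M) :
    (1 : K) ⊗ₜ[B] m = 0 ↔ (1 : L) ⊗ₜ[B] m = 0 := by
  letI : Algebra K L := φ.toRingHom.toAlgebra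
  haveI : IsScalarTower B K L := IsScalarTower.of_algebraMap_eq (fun b => (φ.commutes b).symm)
  have hinj : Function.Injective (Algebra.linearMap K L) := (algebraMap K L).injective
  obtain ⟨r, hr⟩ := LinearMap.exists_leftInverse_of_injective (Algebra.linearMap K L)
    (LinearMap.ker_eq_bot.mpr hinj)
  have hr1 : r 1 = 1 := by
    have := LinearMap.congr_fun hr 1
    simpa using this
  let f : K ⊗[B] M →ₗ[B] L ⊗[B] M := LinearMap.rTensor M (φ.toLinearMap)
  let f' : L ⊗[B] M →ₗ[B] K ⊗[B] M := LinearMap.rTensor M (r.restrictScalars B)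
  have h1 : f ((1 : K) ⊗ₜ m) = (1 : L) ⊗ₜ m := by
    simp [f]
  have h2 : f' ((1 : L) ⊗ₜ m) = (1 : K) ⊗ₜ m := by
    simp [f', hr1]
  constructor
  · intro h; rw [← h1, h, map_zero]
  · intro h; rw [← h2, h, map_zero]

end P0

set_option autoImplicit false
set_option linter.style.haveILetI false

namespace P1
open TensorProduct KaehlerDifferential IsLocalRing

/-- Local Jacobian criterion for a hypersurface. -/
theorem local_criterion {A P T K : Type u} [CommRing A] [CommRing P] [CommRing T] [Algebra A P]
    [Algebra A T] [Algebra P T] [IsScalarTower A P T] [IsLocalRing P] [IsLocalRing T] [Field K]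
    [Algebra T K] [Algebra P K] [IsScalarTower P T K] [Algebra.FormallySmooth A P]
    [Module.Finite P Ω[P⁄A]]
    (hsurj : Function.Surjective (algebraMap P T)) (g : P)
    (hker : RingHom.ker (algebraMap P T) = Ideal.span {g})
    (h₃ : maximalIdeal T ≤ RingHom.ker (algebraMap T K)) :
    Algebra.FormallySmooth A T ↔ g = 0 ∨ (1 : K) ⊗ₜ[P] D A P g ≠ 0 := by
  haveI : Module.Free P Ω[P⁄A] := Module.free_of_flat_of_isLocalRing
  have hfg : (RingHom.ker (algebraMap P T)).FG := by
    rw [hker]; exact ⟨{g}, by simp⟩
  rw [Algebra.FormallySmooth.iff_injective_cotangentComplexBaseChange (R := A) (S := T) P K hsurj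
    hfg h₃]
  have hgI : g ∈ RingHom.ker (algebraMap P T) := by
    rw [hker]; exact Ideal.mem_span_singleton_self g
  let gI : RingHom.ker (algebraMap P T) := ⟨g, hgI⟩
  have hc : ∀ a : K, cotangentComplexBaseChange A T P K (a ⊗ₜ gI) = a • ((1 : K) ⊗ₜ[P] D A P g) := by
    intro a
    rw [cotangentComplexBaseChange_tmul, kerToTensor_apply]
  -- every element is `a ⊗ gI`
  have hall : ∀ z : K ⊗[P] RingHom.ker (algebraMap P T), ∃ a : K, z = a ⊗ₜ gI := by
    intro z
    induction z using TensorProduct.induction_on with
    | zero => exact ⟨0, by rw [zero_tmul]⟩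
    | tmul a b =>
      have hb : (b : P) ∈ Ideal.span {g} := by rw [← hker]; exact b.2
      obtain ⟨x, hx⟩ := Ideal.mem_span_singleton'.mp hb
      have hb' : b = x • gI := Subtype.ext (by rw [← hx]; rfl)
      refine ⟨x • a, ?_⟩
      rw [hb', TensorProduct.smul_tmul]
    | add z w hz hw =>
      obtain ⟨a, rfl⟩ := hz
      obtain ⟨a', rfl⟩ := hw
      exact ⟨a + a', by rw [add_tmul]⟩
  constructor
  · intro hinj
    by_contra hcon
    push Not at hcon
    obtain ⟨hg0, hdg⟩ := hcon
    have h1 : (1 : K) ⊗ₜ[P] gI = 0 := by
      apply hinj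
      rw [hc, hdg, smul_zero, map_zero]
    -- transfer to the residue field of `P`
    have hPK : maximalIdeal P ≤ RingHom.ker (algebraMap P K) := by
      intro x hx
      rw [RingHom.mem_ker, IsScalarTower.algebraMap_apply P T K]
      apply h₃
      rw [← map_maximalIdeal_of_surjective (algebraMap P T) hsurj]
      exact Ideal.mem_map_of_mem _ hx
    let φ : ResidueField P →ₐ[P] K := Ideal.Quotient.liftₐ (maximalIdeal P) (Algebra.ofId P K) hPK
    have h2 : (1 : ResidueField P) ⊗ₜ[P] gI = 0 := (P0.tmul_eq_zero_iff φ gI).mpr h1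
    haveI : Module.Finite P (RingHom.ker (algebraMap P T)) := Module.Finite.of_fg hfg
    have h3 : Subsingleton (ResidueField P ⊗[P] RingHom.ker (algebraMap P T)) := by
      refine ⟨fun z w => ?_⟩
      have hz : ∀ z : ResidueField P ⊗[P] RingHom.ker (algebraMap P T), z = 0 := by
        intro z
        induction z using TensorProduct.induction_on with
        | zero => rfl
        | tmul a b =>
          have hb : (b : P) ∈ Ideal.span {g} := by rw [← hker]; exact b.2
          obtain ⟨x, hx⟩ := Ideal.mem_span_singleton'.mp hb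
          have hb' : b = x • gI := Subtype.ext (by rw [← hx]; rfl)
          have : a ⊗ₜ[P] b = (x • a) • ((1 : ResidueField P) ⊗ₜ[P] gI) := by
            rw [hb', TensorProduct.smul_tmul', smul_eq_mul, mul_one, TensorProduct.smul_tmul]
          rw [this, h2, smul_zero]
        | add z w hz hw => rw [hz, hw, add_zero]
      rw [hz z, hz w]
    have h4 : Subsingleton (RingHom.ker (algebraMap P T)) := IsLocalRing.subsingleton_tensorProduct.mp h3
    have h5 : gI = 0 := Subsingleton.elim _ _
    exact hg0 (congrArg Subtype.val h5)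
  · rintro (hg0 | hdg)
    · rw [injective_iff_map_eq_zero]
      intro z _
      obtain ⟨a, rfl⟩ := hall z
      have : gI = 0 := Subtype.ext hg0
      rw [this, tmul_zero]
    · rw [injective_iff_map_eq_zero]
      intro z hz
      obtain ⟨a, rfl⟩ := hall z
      rw [hc] at hz
      rcases smul_eq_zero.mp hz with h | h
      · rw [h, zero_tmul]
      · exact absurd h hdg

end P1

set_option autoImplicit false
set_option linter.style.haveILetI false

namespace P2
open TensorProduct KaehlerDifferential IsLocalRing

/-- Comparing `1 ⊗ dg` over `B` and over a localization. -/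
lemma tmul_D_eq_zero_iff {A B : Type u} [CommRing A] [CommRing B] [Algebra A B] (q : Ideal B)
    [q.IsPrime] (K : Type u) [Field K] [Algebra B K] [Algebra (Localization.AtPrime q) K]
    [IsScalarTower B (Localization.AtPrime q) K] (g : B) :
    (1 : K) ⊗ₜ[Localization.AtPrime q]
        D A (Localization.AtPrime q) (algebraMap B (Localization.AtPrime q) g) = 0 ↔
      (1 : K) ⊗ₜ[B] D A B g = 0 := by
  let e0 : (Localization.AtPrime q) ⊗[B] Ω[B⁄A] ≃ₗ[Localization.AtPrime q]
      Ω[Localization.AtPrime q⁄A] :=
    (IsLocalizedModule.isBaseChange q.primeCompl (Localization.AtPrime q)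
      (KaehlerDifferential.map A A B (Localization.AtPrime q))).equiv
  let e1 : K ⊗[Localization.AtPrime q] ((Localization.AtPrime q) ⊗[B] Ω[B⁄A])
      ≃ₗ[K] K ⊗[Localization.AtPrime q] Ω[Localization.AtPrime q⁄A] :=
    TensorProduct.AlgebraTensorModule.congr (LinearEquiv.refl K K) e0
  let e2 : K ⊗[Localization.AtPrime q] ((Localization.AtPrime q) ⊗[B] Ω[B⁄A])
      ≃ₗ[K] K ⊗[B] Ω[B⁄A] :=
    TensorProduct.AlgebraTensorModule.cancelBaseChange B (Localization.AtPrime q) K K Ω[B⁄A]
  have hE : (e2.symm.trans e1) ((1 : K) ⊗ₜ[B] D A B g) =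
      (1 : K) ⊗ₜ[Localization.AtPrime q]
        D A (Localization.AtPrime q) (algebraMap B (Localization.AtPrime q) g) := by
    rw [LinearEquiv.trans_apply, TensorProduct.AlgebraTensorModule.cancelBaseChange_symm_tmul]
    change (1 : K) ⊗ₜ[Localization.AtPrime q] e0 (1 ⊗ₜ[B] D A B g) = _
    rw [IsBaseChange.equiv_tmul, one_smul, KaehlerDifferential.map_D]
  rw [← hE, LinearEquiv.map_eq_zero_iff]

section Core

variable {A B S : Type u} [CommRing A] [CommRing B] [CommRing S] [Algebra A B] [Algebra A S]
  [Algebra B S] [IsScalarTower A B S]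

/-- Kernel of the induced map on local rings. -/
lemma ker_localRingHom (hsurj : Function.Surjective (algebraMap B S)) (g : B)
    (hker : RingHom.ker (algebraMap B S) = Ideal.span {g}) (q : Ideal B) [q.IsPrime]
    (p : Ideal S) [p.IsPrime] (hq : q = p.comap (algebraMap B S)) :
    RingHom.ker (Localization.localRingHom q p (algebraMap B S) hq) =
      Ideal.span {algebraMap B (Localization.AtPrime q) g} := by
  apply le_antisymm
  · intro z hz
    rw [RingHom.mem_ker] at hz
    obtain ⟨⟨x, s⟩, rfl⟩ := IsLocalization.mk'_surjective q.primeCompl z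
    rw [Localization.localRingHom_mk', IsLocalization.mk'_eq_zero_iff] at hz
    obtain ⟨t, ht⟩ := hz
    obtain ⟨t', ht'⟩ := hsurj (t : S)
    have ht'q : t' ∈ q.primeCompl := by
      change t' ∉ q
      rw [hq, Ideal.mem_comap, ht']
      exact t.2
    have h1 : t' * x ∈ RingHom.ker (algebraMap B S) := by
      rw [RingHom.mem_ker, map_mul, ht']
      exact ht
    rw [hker] at h1
    obtain ⟨c, hc⟩ := Ideal.mem_span_singleton'.mp h1
    have hu : IsUnit (algebraMap B (Localization.AtPrime q) (t' * (s : B))) :=
      IsLocalization.map_units (Localization.AtPrime q) (⟨t', ht'q⟩ * s)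
    obtain ⟨u, hu'⟩ := hu
    have h2 : algebraMap B (Localization.AtPrime q) (t' * (s : B)) *
        IsLocalization.mk' (Localization.AtPrime q) x s =
        algebraMap B (Localization.AtPrime q) c * algebraMap B (Localization.AtPrime q) g := by
      rw [map_mul, mul_assoc, mul_comm (algebraMap B (Localization.AtPrime q) (s : B)),
        IsLocalization.mk'_spec, ← map_mul, ← map_mul, hc]
    rw [Ideal.mem_span_singleton']
    refine ⟨(u⁻¹ : (Localization.AtPrime q)ˣ) * algebraMap B (Localization.AtPrime q) c, ?_⟩
    rw [mul_assoc, ← h2, ← hu', ← mul_assoc, Units.inv_mul, one_mul]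
  · rw [Ideal.span_le, Set.singleton_subset_iff, SetLike.mem_coe, RingHom.mem_ker,
      Localization.localRingHom_to_map]
    have : algebraMap B S g = 0 := by
      rw [← RingHom.mem_ker, hker]; exact Ideal.mem_span_singleton_self g
    rw [this, map_zero]

/-- Jacobian criterion for a hypersurface in a scheme smooth at the point. -/
theorem core (hsurj : Function.Surjective (algebraMap B S)) (g : B)
    (hker : RingHom.ker (algebraMap B S) = Ideal.span {g}) (q : Ideal B) [q.IsPrime]
    (p : Ideal S) [p.IsPrime] (hq : q = p.comap (algebraMap B S))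
    [Algebra.FormallySmooth A (Localization.AtPrime q)]
    [Module.Finite (Localization.AtPrime q) Ω[Localization.AtPrime q⁄A]] :
    Algebra.FormallySmooth A (Localization.AtPrime p) ↔
      algebraMap B (Localization.AtPrime q) g = 0 ∨
        (1 : p.ResidueField) ⊗ₜ[B] D A B g ≠ 0 := by
  subst hq
  haveI : p.LiesOver (p.comap (algebraMap B S)) := ⟨rfl⟩
  letI := Localization.AtPrime.algebraOfLiesOver (p.comap (algebraMap B S)) p
  haveI : IsScalarTower A (Localization.AtPrime (p.comap (algebraMap B S)))
    (Localization.AtPrime p) := inferInstance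
  haveI : IsScalarTower B (Localization.AtPrime (p.comap (algebraMap B S)))
    (Localization.AtPrime p) := inferInstance
  haveI : IsScalarTower B (Localization.AtPrime (p.comap (algebraMap B S))) p.ResidueField :=
    IsScalarTower.to₁₂₄ B (Localization.AtPrime (p.comap (algebraMap B S)))
      (Localization.AtPrime p) p.ResidueField
  have hsurj' : Function.Surjective (algebraMap (Localization.AtPrime (p.comap (algebraMap B S)))
      (Localization.AtPrime p)) :=
    RingHom.surjective_localRingHom_of_surjective _ hsurj p
  have hker' : RingHom.ker (algebraMap (Localization.AtPrime (p.comap (algebraMap B S)))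
      (Localization.AtPrime p)) =
      Ideal.span {algebraMap B (Localization.AtPrime (p.comap (algebraMap B S))) g} :=
    ker_localRingHom hsurj g hker (p.comap (algebraMap B S)) p rfl
  have h₃ : maximalIdeal (Localization.AtPrime p) ≤
      RingHom.ker (algebraMap (Localization.AtPrime p) p.ResidueField) := by
    intro x hx
    rw [RingHom.mem_ker]
    exact (residue_eq_zero_iff x).mpr hx
  rw [P1.local_criterion (A := A) (K := p.ResidueField) hsurj'
    (algebraMap B (Localization.AtPrime (p.comap (algebraMap B S))) g) hker' h₃, Ne,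
    tmul_D_eq_zero_iff]

end Core

end P2

set_option autoImplicit false
set_option linter.style.haveILetI false

namespace P3
open TensorProduct KaehlerDifferential IsLocalRing

theorem aux
    (R A : Type u) [CommRing R] [CommRing A] [Algebra R A] [Algebra.FiniteType R A]
    (F : A) (P : Ideal (A ⧸ Ideal.span ({F} : Set A))) [P.IsPrime]
    (q : Ideal A) [q.IsPrime] (hq : q = P.comap (Ideal.Quotient.mk (Ideal.span ({F} : Set A))))
    (hX : Algebra.IsSmoothAt R q) :
    Algebra.IsSmoothAt R P ↔ algebraMap A (Localization.AtPrime q) F = 0 ∨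
      (1 : q.ResidueField) ⊗ₜ[A] KaehlerDifferential.D R A F ≠ 0 := by
  haveI : Algebra.FormallySmooth R (Localization.AtPrime q) := hX
  haveI : Algebra.EssFiniteType A (Localization.AtPrime q) :=
    Algebra.EssFiniteType.of_isLocalization (Localization.AtPrime q) q.primeCompl
  haveI : Algebra.EssFiniteType R (Localization.AtPrime q) :=
    Algebra.EssFiniteType.comp R A (Localization.AtPrime q)
  haveI : Module.Finite (Localization.AtPrime q) Ω[Localization.AtPrime q⁄R] := inferInstance
  have hsurj : Function.Surjective (algebraMap A (A ⧸ Ideal.span ({F} : Set A))) :=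
    Ideal.Quotient.mk_surjective
  have hker : RingHom.ker (algebraMap A (A ⧸ Ideal.span ({F} : Set A))) = Ideal.span {F} :=
    Ideal.mk_ker
  have hcore := P2.core (A := R) hsurj F hker q P hq
  refine hcore.trans ?_
  -- transfer between residue fields
  let φ : q.ResidueField →ₐ[A] P.ResidueField :=
    Ideal.ResidueField.mapₐ q P (Algebra.ofId A (A ⧸ Ideal.span ({F} : Set A))) hq
  rw [Ne, Ne, P0.tmul_eq_zero_iff φ]

theorem main
    (R A : Type u) [CommRing R] [CommRing A] [Algebra R A] [Algebra.FiniteType R A]
    (F : A) (P : Ideal (A ⧸ Ideal.span ({F} : Set A))) [P.IsPrime]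
    (hX : Algebra.IsSmoothAt R (P.comap (Ideal.Quotient.mk (Ideal.span ({F} : Set A))))) :
    letI q : Ideal A := P.comap (Ideal.Quotient.mk (Ideal.span ({F} : Set A)))
    Algebra.IsSmoothAt R P ↔ algebraMap A (Localization.AtPrime q) F = 0 ∨
      (1 : q.ResidueField) ⊗ₜ[A] KaehlerDifferential.D R A F ≠ 0 :=
  aux R A F P _ rfl hX

end P3

end Helpers

open TensorProduct in
/-- Let R be a Noetherian ring, A an R-algebra of finite type, F an element of A, P a prime ideal of
A/(F) and q its preimage in A, and suppose A is smooth over R at q. Then the hypersurface A/(F) is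
smooth over R at P if and only if either F is zero in the local ring A_q (F vanishes on a
neighbourhood of q) or the image dF(q) of the differential of F in κ(q) ⊗_A Ω_{A/R} is nonzero. -/
theorem result
    (R A : Type u) [CommRing R] [CommRing A] [IsNoetherianRing R] [Algebra R A] [Algebra.FiniteType R A]
    (F : A) (P : Ideal (A ⧸ Ideal.span ({F} : Set A))) [P.IsPrime]
    (hX : Algebra.IsSmoothAt R (P.comap (Ideal.Quotient.mk (Ideal.span ({F} : Set A))))) :
    letI q : Ideal A := P.comap (Ideal.Quotient.mk (Ideal.span ({F} : Set A)))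
    Algebra.IsSmoothAt R P ↔ algebraMap A (Localization.AtPrime q) F = 0 ∨
      (1 : q.ResidueField) ⊗ₜ[A] KaehlerDifferential.D R A F ≠ 0 := by
  exact P3.main R A F P hX

end Groth.Agent.S5999
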