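import Groth.Statements.S6001
import Groth.Agent.Lib.FlatGeomReduced98
import Groth.Agent.Lib.CompleteNagata98
import Groth.Agent.Lib.H14ComplFlat2
import Groth.Agent.Lib.AdicNoeth
import Groth.Agent.Lib.GeomReducedFibres

set_option autoImplicit false
set_option maxHeartbeats 400000
universe u
open SGA1

namespace Groth.Agent.S6001


open IsLocalRing TensorProduct Groth.Agent.Lib

/-- Fibres of `R → E` over fields killed by `I`, when `E` is generated modulo `I E` by the image of
an unramified essentially finite type `A`-algebra `B`. -/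
theorem fibre_reduced (A B R E K : Type u) [CommRing A] [CommRing B] [CommRing R] [CommRing E]
    [Field K] [Algebra A B] [Algebra.EssFiniteType A B] [Algebra.FormallyUnramified A B]
    [Algebra A R] [Algebra A E] [Algebra B E] [Algebra R E] [IsScalarTower A B E]
    [IsScalarTower A R E] [Algebra R K] (I : Ideal R) (hI : I ≤ RingHom.ker (algebraMap R K))
    (hsurj : ∀ e : E, ∃ b : B, e - algebraMap B E b ∈ I.map (algebraMap R E)) :
    IsReduced (K ⊗[R] E) := by
  letI algAK : Algebra A K := ((algebraMap R K).comp (algebraMap A R)).toAlgebra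
  haveI : IsScalarTower A R K := IsScalarTower.of_algebraMap_eq (fun _ => rfl)
  let Φ : K ⊗[A] B →ₐ[K] K ⊗[R] E :=
    (Algebra.TensorProduct.mapOfCompatibleSMul R A K K E).comp
      (Algebra.TensorProduct.map (AlgHom.id K K) (IsScalarTower.toAlgHom A B E))
  have hker : I.map (algebraMap R E) ≤
      RingHom.ker (Algebra.TensorProduct.includeRight (R := R) (A := K) (B := E)) := by
    rw [Ideal.map_le_iff_le_comap]
    intro r hr
    rw [Ideal.mem_comap, RingHom.mem_ker]
    show (1 : K) ⊗ₜ[R] (algebraMap R E r) = 0
    have h0 : algebraMap R K r = 0 := RingHom.mem_ker.mp (hI hr)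
    rw [Algebra.algebraMap_eq_smul_one, ← TensorProduct.smul_tmul, Algebra.smul_def, mul_one, h0,
      TensorProduct.zero_tmul]
  have hzero : ∀ (k : K) (z : E), z ∈ I.map (algebraMap R E) → k ⊗ₜ[R] z = 0 := by
    intro k z hz
    have h1' : (Algebra.TensorProduct.includeRight (R := R) (A := K) (B := E)) z = 0 := by
      have hz' := hker hz
      rwa [RingHom.mem_ker] at hz'
    have h1 : (1 : K) ⊗ₜ[R] z = 0 := h1'
    have h2 : k ⊗ₜ[R] z = (k ⊗ₜ[R] (1 : E)) * ((1 : K) ⊗ₜ[R] z) := by
      rw [Algebra.TensorProduct.tmul_mul_tmul, mul_one, one_mul]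
    rw [h2, h1, mul_zero]
  have hΦ : Function.Surjective Φ := by
    intro x
    induction x using TensorProduct.induction_on with
    | zero => exact ⟨0, map_zero _⟩
    | tmul k e =>
      obtain ⟨b, hb⟩ := hsurj e
      refine ⟨k ⊗ₜ[A] b, ?_⟩
      have h1 : Φ (k ⊗ₜ[A] b) = k ⊗ₜ[R] (algebraMap B E b) := by
        simp [Φ]
      rw [h1]
      have h2 := hzero k _ hb
      rw [TensorProduct.tmul_sub, sub_eq_zero] at h2
      exact h2.symm
    | add x y hx hy =>
      obtain ⟨x', rfl⟩ := hx
      obtain ⟨y', rfl⟩ := hy
      exact ⟨x' + y', map_add _ _ _⟩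
  haveI : Algebra.FormallyUnramified K (K ⊗[R] E) :=
    Algebra.FormallyUnramified.of_surjective Φ hΦ
  haveI : Algebra.EssFiniteType K (K ⊗[R] E) := Algebra.EssFiniteType.of_surjective Φ hΦ
  exact Algebra.FormallyUnramified.isReduced_of_field K (K ⊗[R] E)

/-- The local statement: a flat unramified essentially finite type local homomorphism preserves
analytic reducedness. -/
theorem core (A B : Type u) [CommRing A] [CommRing B] [IsNoetherianRing A] [IsNoetherianRing B]
    [IsLocalRing A] [IsLocalRing B] [Algebra A B] [IsLocalHom (algebraMap A B)] [Module.Flat A B]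
    [Algebra.EssFiniteType A B] [Algebra.FormallyUnramified A B]
    (hA : IsReduced (EGA4.Cpl A)) : IsReduced (EGA4.Cpl B) := by
  have hNA : IsNoetherianRing (EGA4.Cpl A) := AdicNoeth.isNoetherianRing_adicCompletion _
  have hNB : IsNoetherianRing (EGA4.Cpl B) := AdicNoeth.isNoetherianRing_adicCompletion _
  letI alg : Algebra (EGA4.Cpl A) (EGA4.Cpl B) := (H14ComplFlat.cplMap A B).toAlgebra
  have tower : IsScalarTower A (EGA4.Cpl A) (EGA4.Cpl B) := H14ComplFlat.isScalarTower_cplMap A B
  have hff : Module.FaithfullyFlat (EGA4.Cpl A) (EGA4.Cpl B) :=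
    H14ComplFlat.cplMap_faithfullyFlat A B
  have hflat : Module.Flat (EGA4.Cpl A) (EGA4.Cpl B) := inferInstance
  have hloc : IsLocalHom (algebraMap (EGA4.Cpl A) (EGA4.Cpl B)) :=
    H14ComplFlat.isLocalHom_cplMap A B
  have towerB : IsScalarTower A B (EGA4.Cpl B) := IsScalarTower.of_algebraMap_eq fun _ => rfl
  have hmaxE : maximalIdeal (EGA4.Cpl B) =
      (maximalIdeal (EGA4.Cpl A)).map (algebraMap (EGA4.Cpl A) (EGA4.Cpl B)) := by
    have h1 : maximalIdeal (EGA4.Cpl B) = (maximalIdeal B).map (algebraMap B (EGA4.Cpl B)) :=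
      AdicCompletion.maximalIdeal_eq_map
    have h2 : maximalIdeal (EGA4.Cpl A) = (maximalIdeal A).map (algebraMap A (EGA4.Cpl A)) :=
      AdicCompletion.maximalIdeal_eq_map
    have h3 : (maximalIdeal A).map (algebraMap A B) = maximalIdeal B :=
      Algebra.FormallyUnramified.map_maximalIdeal
    calc maximalIdeal (EGA4.Cpl B) = (maximalIdeal B).map (algebraMap B (EGA4.Cpl B)) := h1
      _ = ((maximalIdeal A).map (algebraMap A B)).map (algebraMap B (EGA4.Cpl B)) :=
          congrArg (Ideal.map (algebraMap B (EGA4.Cpl B))) h3.symm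
      _ = (maximalIdeal A).map (algebraMap A (EGA4.Cpl B)) := by
          rw [Ideal.map_map, ← IsScalarTower.algebraMap_eq]
      _ = ((maximalIdeal A).map (algebraMap A (EGA4.Cpl A))).map
            (algebraMap (EGA4.Cpl A) (EGA4.Cpl B)) := by
          rw [Ideal.map_map, ← IsScalarTower.algebraMap_eq]
      _ = (maximalIdeal (EGA4.Cpl A)).map (algebraMap (EGA4.Cpl A) (EGA4.Cpl B)) :=
          congrArg (Ideal.map (algebraMap (EGA4.Cpl A) (EGA4.Cpl B))) h2.symm
  have hNag : CAlg.IsNagata (EGA4.Cpl A) := CompleteNagata98.isNagata_of_complete_local _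
  have hJ : ∀ t ∈ maximalIdeal (EGA4.Cpl A),
      algebraMap (EGA4.Cpl A) (EGA4.Cpl B) t ∈ (⊥ : Ideal (EGA4.Cpl B)).jacobson := by
    intro t ht
    rw [IsLocalRing.jacobson_eq_maximalIdeal ⊥ bot_ne_top, hmaxE]
    exact Ideal.mem_map_of_mem _ ht
  have hsurj : ∀ e : EGA4.Cpl B, ∃ b : B,
      e - algebraMap B (EGA4.Cpl B) b ∈ maximalIdeal (EGA4.Cpl B) := by
    intro e
    obtain ⟨y, hy⟩ := (AdicCompletion.residueField_map_bijective B).2 (residue _ e)
    obtain ⟨b, rfl⟩ := residue_surjective y
    refine ⟨b, ?_⟩
    rw [IsLocalRing.ResidueField.map_residue] at hy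
    rw [← IsLocalRing.residue_eq_zero_iff, map_sub, hy, sub_self]
  have hfib : ∀ (K : Type u) [Field K] [Algebra (EGA4.Cpl A) K],
      maximalIdeal (EGA4.Cpl A) ≤ RingHom.ker (algebraMap (EGA4.Cpl A) K) →
      IsReduced (K ⊗[EGA4.Cpl A] EGA4.Cpl B) := by
    intro K _ _ hle
    refine fibre_reduced A B (EGA4.Cpl A) (EGA4.Cpl B) K (maximalIdeal (EGA4.Cpl A)) hle ?_
    intro e
    obtain ⟨b, hb⟩ := hsurj e
    exact ⟨b, hmaxE ▸ hb⟩
  have hgeom : ∀ (p : Ideal (EGA4.Cpl A)) [p.IsPrime],
      Algebra.IsGeometricallyReduced p.ResidueField (p.Fiber (EGA4.Cpl B)) := fun p _ =>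
    FlatGeomReduced98.geomReduced_fibres (EGA4.Cpl A) (EGA4.Cpl B) hNag hJ hfib p
  have hred : IsReduced (EGA4.Cpl B ⊗[EGA4.Cpl A] EGA4.Cpl A) :=
    GeomReducedFibres.isReduced_tensorProduct_of_isNoetherianRing (EGA4.Cpl A) (EGA4.Cpl B) hgeom
      (EGA4.Cpl A)
  exact isReduced_of_injective
    (Algebra.TensorProduct.rid (EGA4.Cpl A) (EGA4.Cpl A) (EGA4.Cpl B)).symm
    (Algebra.TensorProduct.rid (EGA4.Cpl A) (EGA4.Cpl A) (EGA4.Cpl B)).symm.injective

/-- Flatness of the local ring at a smooth point of a finitely presented algebra. -/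
theorem flat_of_smoothAt (A C : Type u) [CommRing A] [CommRing C] [Algebra A C]
    [Algebra.FinitePresentation A C] (q : Ideal C) [q.IsPrime]
    (h : Algebra.FormallySmooth A (Localization.AtPrime q)) :
    Module.Flat A (Localization.AtPrime q) := by
  haveI : Algebra.IsSmoothAt A q := h
  obtain ⟨f, hfq, hsm⟩ := Algebra.IsSmoothAt.exists_notMem_smooth A q
  have hle : Submonoid.powers f ≤ q.primeCompl := by
    rw [Submonoid.powers_le]
    exact hfq
  letI alg' : Algebra (Localization.Away f) (Localization.AtPrime q) :=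
    IsLocalization.localizationAlgebraOfSubmonoidLe (Localization.Away f)
      (Localization.AtPrime q) (Submonoid.powers f) q.primeCompl hle
  haveI tower' : IsScalarTower C (Localization.Away f) (Localization.AtPrime q) :=
    IsLocalization.localization_isScalarTower_of_submonoid_le _ _ _ _ hle
  haveI hloc' : IsLocalization (q.primeCompl.map (algebraMap C (Localization.Away f)))
      (Localization.AtPrime q) :=
    IsLocalization.isLocalization_of_submonoid_le _ _ (Submonoid.powers f) q.primeCompl hle
  haveI : Module.Flat (Localization.Away f) (Localization.AtPrime q) :=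
    IsLocalization.flat _ (q.primeCompl.map (algebraMap C (Localization.Away f)))
  haveI : IsScalarTower A (Localization.Away f) (Localization.AtPrime q) :=
    IsScalarTower.of_algebraMap_eq (fun a => by
      rw [IsScalarTower.algebraMap_apply A C (Localization.AtPrime q),
        IsScalarTower.algebraMap_apply C (Localization.Away f) (Localization.AtPrime q),
        ← IsScalarTower.algebraMap_apply A C (Localization.Away f)])
  haveI : Module.Flat A (Localization.Away f) := inferInstance
  exact Module.Flat.trans A (Localization.Away f) (Localization.AtPrime q)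

/-- Let A be a Noetherian local ring which is analytically reduced (its completion has no nonzero
nilpotents), and let B be the local ring at a prime q, lying over the maximal ideal of A, of an
A-algebra C of finite type that is etale over A at q (an etale local homomorphism A ⟶ B). Then B is
analytically reduced, and in particular reduced. -/
theorem result (A C : Type u) [CommRing A] [IsLocalRing A]
    [IsNoetherianRing A] [CommRing C] [Algebra A C] [Algebra.FiniteType A C] (q : Ideal C) [q.IsPrime]
    (hq : Ideal.comap (algebraMap A C) q = IsLocalRing.maximalIdeal A) (hC : Algebra.IsEtaleAt A q)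
    (hA : IsReduced (AdicCompletion (IsLocalRing.maximalIdeal A) A)) :
    IsReduced (AdicCompletion (IsLocalRing.maximalIdeal (Localization.AtPrime q)) (Localization.AtPrime q)) ∧
      IsReduced (Localization.AtPrime q) := by
  have hNC : IsNoetherianRing C := Algebra.FiniteType.isNoetherianRing A C
  have hNB : IsNoetherianRing (Localization.AtPrime q) :=
    IsLocalization.isNoetherianRing q.primeCompl _ hNC
  have hFP : Algebra.FinitePresentation A C := Algebra.FinitePresentation.of_finiteType.mp inferInstance
  have hlocAB : IsLocalHom (algebraMap A (Localization.AtPrime q)) := by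
    constructor
    intro a ha
    rw [IsScalarTower.algebraMap_apply A C (Localization.AtPrime q)] at ha
    have h1 : algebraMap A C a ∈ q.primeCompl :=
      (IsLocalization.AtPrime.isUnit_to_map_iff (Localization.AtPrime q) q _).mp ha
    by_contra hu
    have h2 : a ∈ IsLocalRing.maximalIdeal A := (IsLocalRing.mem_maximalIdeal a).mpr hu
    rw [← hq] at h2
    exact h1 h2
  have hEF : Algebra.EssFiniteType A (Localization.AtPrime q) := by
    haveI : Algebra.EssFiniteType C (Localization.AtPrime q) :=
      Algebra.EssFiniteType.of_isLocalization _ q.primeCompl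
    exact Algebra.EssFiniteType.comp A C _
  have hC' : Algebra.FormallyEtale A (Localization.AtPrime q) := hC
  have hFU : Algebra.FormallyUnramified A (Localization.AtPrime q) :=
    (Algebra.FormallyEtale.iff_formallyUnramified_and_formallySmooth.mp hC').1
  have hFS : Algebra.FormallySmooth A (Localization.AtPrime q) :=
    (Algebra.FormallyEtale.iff_formallyUnramified_and_formallySmooth.mp hC').2
  have hflat : Module.Flat A (Localization.AtPrime q) := flat_of_smoothAt A C q hFS
  have hred : IsReduced (EGA4.Cpl (Localization.AtPrime q)) := core A (Localization.AtPrime q) hA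
  refine ⟨hred, ?_⟩
  haveI : Module.Flat (Localization.AtPrime q) (EGA4.Cpl (Localization.AtPrime q)) :=
    AdicCompletion.flat_of_isNoetherian (IsLocalRing.maximalIdeal (Localization.AtPrime q))
  haveI : Module.FaithfullyFlat (Localization.AtPrime q) (EGA4.Cpl (Localization.AtPrime q)) :=
    Module.FaithfullyFlat.of_flat_of_isLocalHom
  exact isReduced_of_injective (algebraMap (Localization.AtPrime q) (EGA4.Cpl (Localization.AtPrime q)))
    (FaithfulSMul.algebraMap_injective _ _)

end Groth.Agent.S6001
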