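import Groth.Statements.S6003
import Groth.Agent.Lib.TorsorFpqcDescent
import Groth.Agent.Lib.FpqcDescent
import Groth.Agent.S9867

set_option autoImplicit false
universe u
open CategoryTheory AlgebraicGeometry
open SGA1

namespace Groth.Agent.S6003

/-- Let G be an S-group scheme which is flat and quasi-compact over S and let G act on the S-scheme X.
Then X is a principal homogeneous bundle under G (a pseudo-torsor which acquires sections on the
members of some fpqc covering family of S) if and only if X is formally principal homogeneous (a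
pseudo-torsor) and the structure morphism X → S is faithfully flat and quasi-compact. -/
theorem result {S : Scheme.{u}}
    (G X : Over S) [GrpObj G] [Flat G.hom] [QuasiCompact G.hom] (a : AlgGrp.Action G X) :
    NonAbH1.IsTorsorFor Scheme.fpqcPrecoverage a ↔
      (NonAbH1.IsPseudoTorsorSch a ∧ Surjective X.hom ∧ Flat X.hom ∧ QuasiCompact X.hom) := by
  open Groth.Agent.Lib.TorsorFpqcDescent Groth.Agent.Lib.FpqcDescent in
  constructor
  · intro h
    have e : (MonObj.one (X := G)).left ≫ G.hom = 𝟙 S := Over.w (MonObj.one (X := G))
    have hG : Surjective G.hom := ⟨fun s => ⟨(MonObj.one (X := G)).left s, by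
      rw [← Scheme.Hom.comp_apply, e]; rfl⟩⟩
    exact ⟨h.1, prop_hom_of_isTorsorFor_fpqc a @Surjective h hG,
      haveI := Groth.Agent.S9867.descendsAlong_flat.{u}
      prop_hom_of_isTorsorFor_fpqc a @Flat h inferInstance,
      prop_hom_of_isTorsorFor_fpqc a @QuasiCompact h inferInstance⟩
  · rintro ⟨hps, hsurj, hflat, hqc⟩
    refine ⟨hps, Presieve.singleton X.hom, Scheme.Hom.singleton_mem_fpqcPrecoverage X.hom, ?_⟩
    rintro _ _ ⟨⟩
    exact ⟨𝟙 _, Category.id_comp _⟩

end Groth.Agent.S6003
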