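import Groth.Statements.S6008
import Groth.Agent.Lib.GaPts
import Groth.Agent.Lib.ConstPtsV18
import Groth.Agent.Lib.KerSq18
import Groth.Agent.Lib.PtsPullback18

set_option autoImplicit false
set_option maxHeartbeats 400000
universe u
open CategoryTheory AlgebraicGeometry MonoidalCategory CartesianMonoidalCategory MonObj GrpObj
open SGA1t

namespace Groth.Agent.S6008

open Groth.Agent.Lib.GaPts Groth.Agent.Lib.ConstPtsV18

section Basic

variable (p : ℕ) [hpp : Fact p.Prime] {S : Scheme.{u}}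

lemma natCast_eq_zero (hp : (p : Γ(S, ⊤)) = 0) (T : Over S) : (p : Γ(T.left, ⊤)) = 0 := by
  have h := congrArg T.hom.appTop.hom hp
  rwa [map_natCast, map_zero] at h

lemma add_pow_of_natCast_eq_zero {R : Type*} [CommRing R] (h : (p : R) = 0) (x y : R) :
    (x + y) ^ p = x ^ p + y ^ p := by
  obtain ⟨r, hr⟩ := exists_add_pow_prime_eq hpp.out x y
  rw [hr, h]
  ring

lemma neg_pow_of_natCast_eq_zero {R : Type*} [CommRing R] (h : (p : R) = 0) (x : R) :
    (-x) ^ p = -(x ^ p) := by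
  have h1 := add_pow_of_natCast_eq_zero p h x (-x)
  rw [add_neg_cancel, zero_pow hpp.out.ne_zero] at h1
  exact (neg_eq_of_add_eq_zero_right h1.symm).symm

variable (F : Red.Ga S ⟶ Red.Ga S)
  (hF : ∀ (T : Over S) (x : T ⟶ Red.Ga S), Red.gaFn (x ≫ F) = Red.gaFn x ^ p)

include hF in
lemma gaFn_comp_P {T : Over S} (x : T ⟶ Red.Ga S) :
    Red.gaFn (x ≫ (𝟙 (Red.Ga S) * F⁻¹)) = Red.gaFn x - Red.gaFn x ^ p := by
  rw [MonObj.comp_mul, GrpObj.comp_inv, Category.comp_id, gaFn_mul, gaFn_inv, hF, sub_eq_add_neg]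

include hF in
lemma isMonHom_P (hp : (p : Γ(S, ⊤)) = 0) : IsMonHom (𝟙 (Red.Ga S) * F⁻¹) := by
  refine ⟨?_, ?_⟩
  · apply gaFn_injective
    change Red.gaFn (η[Red.Ga S] ≫ (𝟙 (Red.Ga S) * F⁻¹)) = Red.gaFn η[Red.Ga S]
    have h1 : η[Red.Ga S] = (1 : 𝟙_ (Over S) ⟶ Red.Ga S) := by
      rw [Hom.one_def, toUnit_unique (toUnit (𝟙_ (Over S))) (𝟙 _), Category.id_comp]
    rw [gaFn_comp_P p F hF, h1, gaFn_one, zero_pow hpp.out.ne_zero, sub_zero]
  · apply gaFn_injective
    change Red.gaFn (μ[Red.Ga S] ≫ (𝟙 (Red.Ga S) * F⁻¹)) =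
      Red.gaFn (((𝟙 (Red.Ga S) * F⁻¹) ⊗ₘ (𝟙 (Red.Ga S) * F⁻¹)) ≫ μ[Red.Ga S])
    have h1 : μ[Red.Ga S] = fst (Red.Ga S) (Red.Ga S) * snd (Red.Ga S) (Red.Ga S) := by
      rw [Hom.mul_def, lift_fst_snd, Category.id_comp]
    have h2 : ((𝟙 (Red.Ga S) * F⁻¹) ⊗ₘ (𝟙 (Red.Ga S) * F⁻¹)) ≫ μ[Red.Ga S] =
        (fst (Red.Ga S) (Red.Ga S) ≫ (𝟙 (Red.Ga S) * F⁻¹)) *
          (snd (Red.Ga S) (Red.Ga S) ≫ (𝟙 (Red.Ga S) * F⁻¹)) := by
      rw [Hom.mul_def]
      congr 1
    rw [h2, gaFn_comp_P p F hF, h1, gaFn_mul, gaFn_mul, gaFn_comp_P p F hF, gaFn_comp_P p F hF,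
      add_pow_of_natCast_eq_zero p (natCast_eq_zero p hp _)]
    ring

end Basic

section Algebra

variable (p : ℕ) [hpp : Fact p.Prime] {R : Type*} [CommRing R] (φ : ZMod p →+* R)

lemma exists_ringHom [Nontrivial R] (h : (p : R) = 0) :
    ∃ φ : ZMod p →+* R, ∀ k : ZMod p, φ k = ((k.val : ℕ) : R) := by
  haveI : CharP R p := (CharP.charP_iff_prime_eq_zero hpp.out).mpr h
  refine ⟨ZMod.castHom (dvd_refl p) R, fun k => ?_⟩
  rw [ZMod.castHom_apply, ZMod.natCast_val]

lemma prod_sub (a : R) : ∏ k : ZMod p, (a - φ k) = a ^ p - a := by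
  have hpoly : (Finset.univ.val.map fun k : ZMod p => (Polynomial.X - Polynomial.C k)).prod =
      (Polynomial.X ^ p - Polynomial.X : Polynomial (ZMod p)) := by
    have hroots : (Polynomial.X ^ p - Polynomial.X : Polynomial (ZMod p)).roots =
        Finset.univ.val := by
      have := FiniteField.roots_X_pow_card_sub_X (ZMod p)
      rwa [ZMod.card] at this
    have hdeg : (Polynomial.X ^ p - Polynomial.X : Polynomial (ZMod p)).natDegree = p :=
      FiniteField.X_pow_card_sub_X_natDegree_eq (ZMod p) hpp.out.one_lt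
    have hmonic : (Polynomial.X ^ p - Polynomial.X : Polynomial (ZMod p)).Monic := by
      apply Polynomial.monic_X_pow_sub
      rw [Polynomial.degree_X]
      exact_mod_cast hpp.out.one_lt
    have := Polynomial.prod_multiset_X_sub_C_of_monic_of_roots_card_eq hmonic
      (by rw [hroots, hdeg]; simp)
    rwa [hroots] at this
  have h2 := congrArg (Polynomial.eval₂ φ a) hpoly
  rw [Polynomial.eval₂_sub, Polynomial.eval₂_pow, Polynomial.eval₂_X] at h2
  rw [← h2]
  change _ = Polynomial.eval₂ φ a (∏ k : ZMod p, (Polynomial.X - Polynomial.C k))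
  rw [Polynomial.eval₂_finset_prod]
  simp

lemma isUnit_sub {k k' : ZMod p} (h : k ≠ k') : IsUnit (φ k - φ k') := by
  rw [← map_sub]
  exact (IsUnit.mk0 _ (sub_ne_zero.mpr h)).map φ

end Algebra

section Decomp

variable (p : ℕ) [hpp : Fact p.Prime] {X : Scheme.{u}} (φ : ZMod p →+* Γ(X, ⊤)) (a : Γ(X, ⊤))

/-- the product of the `a - φ k'`, `k' ≠ k` -/
noncomputable def cc (k : ZMod p) : Γ(X, ⊤) := ∏ k' ∈ Finset.univ.erase k, (a - φ k')

lemma sub_mul_cc (k : ZMod p) : (a - φ k) * cc p φ a k = a ^ p - a := by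
  have h := Finset.mul_prod_erase Finset.univ (fun k' : ZMod p => a - φ k') (Finset.mem_univ k)
  rw [cc, h, prod_sub]

/-- the open where `a = φ k` -/
noncomputable def UU (k : ZMod p) : X.Opens := X.basicOpen (cc p φ a k)

lemma mem_UU_iff (t : X) (k : ZMod p) :
    t ∈ UU p φ a k ↔ ∀ k', k' ≠ k → IsUnit (X.presheaf.germ ⊤ t trivial (a - φ k')) := by
  rw [UU, Scheme.mem_basicOpen_top, cc, map_prod, IsUnit.prod_iff]
  constructor
  · intro h k' hk'
    exact h k' (Finset.mem_erase.mpr ⟨hk', Finset.mem_univ _⟩)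
  · intro h k' hk'
    exact h k' (Finset.mem_erase.mp hk').1

variable (ha : a ^ p = a)

include ha in
lemma UU_disjoint (k k' : ZMod p) (h : k ≠ k') : UU p φ a k ⊓ UU p φ a k' = ⊥ := by
  rw [eq_bot_iff]
  rintro t ⟨h1, h2⟩
  exfalso
  rw [SetLike.mem_coe, mem_UU_iff] at h1 h2
  have hall : ∀ j : ZMod p, IsUnit (X.presheaf.germ ⊤ t trivial (a - φ j)) := by
    intro j
    by_cases hj : j = k
    · subst hj
      exact h2 j h
    · exact h1 j hj
  have hprod : IsUnit (X.presheaf.germ ⊤ t trivial (∏ j : ZMod p, (a - φ j))) := by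
    rw [map_prod, IsUnit.prod_univ_iff]
    exact hall
  rw [prod_sub, ha, sub_self, map_zero] at hprod
  exact not_isUnit_zero hprod

include ha in
lemma UU_cover : TopologicalSpace.IsOpenCover (UU p φ a) := by
  apply TopologicalSpace.IsOpenCover.mk
  rw [eq_top_iff]
  intro t _
  rw [TopologicalSpace.Opens.mem_iSup]
  have hprod : ¬ IsUnit (X.presheaf.germ ⊤ t trivial (∏ j : ZMod p, (a - φ j))) := by
    rw [prod_sub, ha, sub_self, map_zero]
    exact not_isUnit_zero
  rw [map_prod, IsUnit.prod_univ_iff] at hprod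
  obtain ⟨k, hk⟩ := not_forall.mp hprod
  refine ⟨k, ?_⟩
  rw [mem_UU_iff]
  intro k' hk'
  by_contra hnu
  have h1 : IsUnit (X.presheaf.germ ⊤ t trivial ((a - φ k) - (a - φ k'))) := by
    have : (a - φ k) - (a - φ k') = φ k' - φ k := by ring
    rw [this]
    exact (isUnit_sub p φ hk').map _
  rw [map_sub] at h1
  have h2 := IsLocalRing.nonunits_add (mem_nonunits_iff.mpr hk)
    (mem_nonunits_iff.mpr (show ¬ IsUnit (-(X.presheaf.germ ⊤ t trivial (a - φ k'))) from
      fun h => hnu (by simpa using h.neg)))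
  rw [← sub_eq_add_neg] at h2
  exact h2 h1

include ha in
lemma res_UU (k : ZMod p) : (UU p φ a k).ι.appTop (a - φ k) = 0 := by
  have hunit : IsUnit ((UU p φ a k).ι.appTop (cc p φ a k)) := by
    apply RingedSpace.isUnit_of_isUnit_germ _ ⊤
    intro x hx
    have h1 : x ∈ (UU p φ a k).toScheme.basicOpen ((UU p φ a k).ι.appTop (cc p φ a k)) := by
      rw [← Scheme.preimage_basicOpen_top]
      exact x.2
    exact ((UU p φ a k).toScheme.mem_basicOpen_top _ x).mp h1
  have h0 : (UU p φ a k).ι.appTop (a - φ k) * (UU p φ a k).ι.appTop (cc p φ a k) = 0 := by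
    rw [← map_mul, sub_mul_cc, ha, sub_self, map_zero]
  exact (hunit.mul_left_eq_zero).mp h0

end Decomp

section Const

variable (p : ℕ) [hpp : Fact p.Prime] {S : Scheme.{u}}
  {G' : Over S} [GrpObj G'] (e : G' ≅ TwC.const S (Multiplicative (ZMod p)))
  (he : TwC.IsConstGrp (Multiplicative (ZMod p)) G' e)
  (i : G' ⟶ Red.Ga S) [IsMonHom i]
  (hi : Red.gaFn (TwC.pt S (Multiplicative (ZMod p)) (Multiplicative.ofAdd 1) ≫ e.inv ≫ i) = 1)

/-- the `T`-point of `𝔾_a` attached to an index -/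
noncomputable def ptm (T : Over S) (m : Multiplicative (ZMod p)) : T ⟶ Red.Ga S :=
  toUnit T ≫ TwC.pt S (Multiplicative (ZMod p)) m ≫ e.inv ≫ i

include he in
lemma ptm_mul (T : Over S) (m n : Multiplicative (ZMod p)) :
    ptm p e i T (m * n) = ptm p e i T m * ptm p e i T n := by
  have h := he m n
  unfold ptm
  rw [← MonObj.comp_mul, ← Category.assoc (TwC.pt S _ m), ← Category.assoc (TwC.pt S _ n),
    ← MonObj.mul_comp, h, Category.assoc]

lemma ptm_comp {T' T : Over S} (g : T' ⟶ T) (m : Multiplicative (ZMod p)) :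
    g ≫ ptm p e i T m = ptm p e i T' m := by
  unfold ptm
  rw [← Category.assoc, toUnit_unique (g ≫ toUnit T) (toUnit T')]

include he in
lemma ptm_one (T : Over S) : ptm p e i T 1 = 1 := by
  have h := ptm_mul p e he i T 1 1
  rw [_root_.mul_one] at h
  calc ptm p e i T 1 = (ptm p e i T 1)⁻¹ * (ptm p e i T 1 * ptm p e i T 1) := by
        rw [inv_mul_cancel_left]
    _ = (ptm p e i T 1)⁻¹ * ptm p e i T 1 := by rw [← h]
    _ = 1 := inv_mul_cancel _

include he hi in
lemma gaFn_ptm (T : Over S) (k : ZMod p) :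
    Red.gaFn (ptm p e i T (Multiplicative.ofAdd k)) = ((k.val : ℕ) : Γ(T.left, ⊤)) := by
  have hone : Red.gaFn (ptm p e i T (Multiplicative.ofAdd 1)) = 1 := by
    unfold ptm
    rw [gaFn_comp, hi, map_one]
  have hnat : ∀ n : ℕ, Red.gaFn (ptm p e i T (Multiplicative.ofAdd (n : ZMod p))) =
      (n : Γ(T.left, ⊤)) := by
    intro n
    induction n with
    | zero =>
      rw [Nat.cast_zero, Nat.cast_zero, ofAdd_zero, ptm_one p e he i, gaFn_one]
    | succ n ih =>
      rw [Nat.cast_succ, Nat.cast_succ, ofAdd_add, ptm_mul p e he i, gaFn_mul, ih, hone]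
  have h := hnat k.val
  rwa [ZMod.natCast_zmod_val] at h

lemma natCast_pow_of_natCast_eq_zero {R : Type*} [CommRing R] (h : (p : R) = 0) (n : ℕ) :
    ((n : ℕ) : R) ^ p = n := by
  induction n with
  | zero => rw [Nat.cast_zero, zero_pow hpp.out.ne_zero]
  | succ n ih => rw [Nat.cast_succ, add_pow_of_natCast_eq_zero p h, ih, one_pow]

variable (F : Red.Ga S ⟶ Red.Ga S)
  (hF : ∀ (T : Over S) (x : T ⟶ Red.Ga S), Red.gaFn (x ≫ F) = Red.gaFn x ^ p)
  (hp : (p : Γ(S, ⊤)) = 0)

include he hi hF hp in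
lemma ptm_comp_P (T : Over S) (m : Multiplicative (ZMod p)) :
    ptm p e i T m ≫ (𝟙 (Red.Ga S) * F⁻¹) = 1 := by
  apply gaFn_injective
  change Red.gaFn (ptm p e i T m ≫ (𝟙 (Red.Ga S) * F⁻¹)) = Red.gaFn (1 : T ⟶ Red.Ga S)
  have h := gaFn_ptm p e he i hi T m.toAdd
  rw [ofAdd_toAdd] at h
  rw [gaFn_comp_P p F hF, h, natCast_pow_of_natCast_eq_zero p (natCast_eq_zero p hp T), sub_self,
    gaFn_one]

include he hi hF hp in
lemma comp_P_eq : i ≫ (𝟙 (Red.Ga S) * F⁻¹) = toUnit G' ≫ η[Red.Ga S] := by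
  rw [← cancel_epi e.inv]
  apply const_hom_ext
  intro m
  have h1 : TwC.pt S (Multiplicative (ZMod p)) m ≫ e.inv ≫ i ≫ (𝟙 (Red.Ga S) * F⁻¹) =
      ptm p e i (𝟙_ (Over S)) m ≫ (𝟙 (Red.Ga S) * F⁻¹) := by
    unfold ptm
    rw [toUnit_unique (toUnit (𝟙_ (Over S))) (𝟙 _), Category.id_comp]
    simp only [Category.assoc]
  rw [h1, ptm_comp_P p e he i hi F hF hp, Hom.one_def]
  simp only [← Category.assoc]
  congr 1
  exact toUnit_unique _ _

include he hi hF hp in
lemma exists_lift (T : Over S) (x : T ⟶ Red.Ga S)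
    (hx : x ≫ (𝟙 (Red.Ga S) * F⁻¹) = 1) : ∃ q : T ⟶ G', q ≫ i = x := by
  have ha : Red.gaFn x ^ p = Red.gaFn x := by
    have h := congrArg (fun y : T ⟶ Red.Ga S => Red.gaFn y) hx
    simp only [gaFn_comp_P p F hF, gaFn_one] at h
    exact (sub_eq_zero.mp h).symm
  cases isEmpty_or_nonempty T.left with
  | inl hE =>
    exact ⟨Over.homMk ((isInitialOfIsEmpty (X := T.left)).to G'.left)
      ((isInitialOfIsEmpty (X := T.left)).hom_ext _ _), hom_ext_of_isEmpty _ _⟩
  | inr hN =>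
    haveI : Nonempty ↥(⊤ : T.left.Opens) := by
      obtain ⟨t⟩ := hN
      exact ⟨⟨t, trivial⟩⟩
    obtain ⟨φ, hφ⟩ := exists_ringHom p (R := Γ(T.left, ⊤)) (natCast_eq_zero p hp T)
    let U : Multiplicative (ZMod p) → T.left.Opens := fun m => UU p φ (Red.gaFn x) m.toAdd
    have hdisj : ∀ m m', m ≠ m' → U m ⊓ U m' = ⊥ := fun m m' h =>
      UU_disjoint p φ (Red.gaFn x) ha _ _ (fun h' => h (Multiplicative.toAdd.injective h'))
    have hcov : TopologicalSpace.IsOpenCover U := by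
      apply TopologicalSpace.IsOpenCover.mk
      rw [eq_top_iff]
      intro t _
      obtain ⟨k, hk⟩ := (UU_cover p φ (Red.gaFn x) ha).exists_mem t
      exact TopologicalSpace.Opens.mem_iSup.mpr ⟨Multiplicative.ofAdd k, hk⟩
    refine ⟨mk T U hdisj hcov ≫ e.inv, ?_⟩
    refine hom_ext_of_cover U hcov _ _ fun m => ?_
    have h1 : resMap T (U m) ≫ (mk T U hdisj hcov ≫ e.inv) ≫ i = ptm p e i (resOver T (U m)) m := by
      rw [Category.assoc, ← Category.assoc (resMap T (U m)), resMap_mk]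
      unfold ptm
      simp only [Category.assoc]
    rw [h1]
    apply gaFn_injective
    change Red.gaFn (ptm p e i (resOver T (U m)) m) = Red.gaFn (resMap T (U m) ≫ x)
    have h2 := gaFn_ptm p e he i hi (resOver T (U m)) m.toAdd
    rw [ofAdd_toAdd] at h2
    rw [h2, gaFn_comp]
    have h3 := res_UU p φ (Red.gaFn x) ha m.toAdd
    rw [map_sub, sub_eq_zero, hφ, map_natCast] at h3
    exact h3.symm

include he hi hp in
lemma lift_unique (T : Over S) (q₁ q₂ : T ⟶ G') (h : q₁ ≫ i = q₂ ≫ i) : q₁ = q₂ := by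
  rw [← cancel_mono e.hom]
  apply ext_of_idx
  intro t
  let V : T.left.Opens :=
    ⟨{t' | idx (q₁ ≫ e.hom) t' = idx (q₁ ≫ e.hom) t}, isOpen_idx_eq _ _⟩ ⊓
    ⟨{t' | idx (q₂ ≫ e.hom) t' = idx (q₂ ≫ e.hom) t}, isOpen_idx_eq _ _⟩
  have htV : t ∈ V := ⟨rfl, rfl⟩
  have h1 : resMap T V ≫ q₁ ≫ e.hom = toUnit _ ≫ TwC.pt S _ (idx (q₁ ≫ e.hom) t) := by
    apply eq_of_idx_eq
    intro t'
    rw [idx_comp]
    exact t'.2.1
  have h2 : resMap T V ≫ q₂ ≫ e.hom = toUnit _ ≫ TwC.pt S _ (idx (q₂ ≫ e.hom) t) := by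
    apply eq_of_idx_eq
    intro t'
    rw [idx_comp]
    exact t'.2.2
  have h1' : resMap T V ≫ q₁ ≫ i = ptm p e i (resOver T V) (idx (q₁ ≫ e.hom) t) := by
    have := congrArg (fun f => f ≫ e.inv ≫ i) h1
    simpa [ptm] using this
  have h2' : resMap T V ≫ q₂ ≫ i = ptm p e i (resOver T V) (idx (q₂ ≫ e.hom) t) := by
    have := congrArg (fun f => f ≫ e.inv ≫ i) h2
    simpa [ptm] using this
  have h3 : ptm p e i (resOver T V) (idx (q₁ ≫ e.hom) t) =
      ptm p e i (resOver T V) (idx (q₂ ≫ e.hom) t) := by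
    rw [← h1', ← h2', h]
  have h4 := congrArg (fun y : resOver T V ⟶ Red.Ga S => Red.gaFn y) h3
  have g1 := gaFn_ptm p e he i hi (resOver T V) (idx (q₁ ≫ e.hom) t).toAdd
  have g2 := gaFn_ptm p e he i hi (resOver T V) (idx (q₂ ≫ e.hom) t).toAdd
  rw [ofAdd_toAdd] at g1 g2
  simp only [g1, g2] at h4
  haveI : Nonempty ↥(⊤ : (resOver T V).left.Opens) := ⟨⟨⟨t, htV⟩, trivial⟩⟩
  haveI : CharP Γ((resOver T V).left, ⊤) p :=
    (CharP.charP_iff_prime_eq_zero hpp.out).mpr (natCast_eq_zero p hp _)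
  rw [CharP.natCast_eq_natCast Γ((resOver T V).left, ⊤) p] at h4
  have h5 : (idx (q₁ ≫ e.hom) t).toAdd.val = (idx (q₂ ≫ e.hom) t).toAdd.val :=
    Nat.ModEq.eq_of_lt_of_lt h4 (ZMod.val_lt _) (ZMod.val_lt _)
  exact Multiplicative.toAdd.injective (ZMod.val_injective p h5)

include he hi hF hp in
lemma isPullback_kernel :
    IsPullback i (toUnit G') (𝟙 (Red.Ga S) * F⁻¹) η[Red.Ga S] := by
  apply Groth.Agent.Lib.PtsPullback18.isPullback_of_points (comp_P_eq p e he i hi F hF hp)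
  · intro T x y hxy
    have hx : x ≫ (𝟙 (Red.Ga S) * F⁻¹) = 1 := by
      rw [hxy, Hom.one_def]
      congr 1
      exact toUnit_unique _ _
    obtain ⟨q, hq⟩ := exists_lift p e he i hi F hF hp T x hx
    exact ⟨q, hq, toUnit_unique _ _⟩
  · intro T q₁ q₂ h1 _
    exact lift_unique p e he i hi hp T q₁ q₂ h1

end Const

section Cover

variable (p : ℕ) [hpp : Fact p.Prime]

/-- `Yᵖ - (Y - x)` over `ℤ[x]` -/
noncomputable abbrev asPoly : Polynomial Coord.{u} :=
  Polynomial.X ^ p - (Polynomial.X - Polynomial.C gen)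

/-- `ℤ[x][Y]/(Yᵖ - Y + x)` -/
abbrev ASRoot : Type u := AdjoinRoot (asPoly.{u} p)

lemma asPoly_deg_lt :
    (Polynomial.X - Polynomial.C gen : Polynomial Coord.{u}).degree < (p : WithBot ℕ) := by
  rw [Polynomial.degree_X_sub_C]
  exact_mod_cast hpp.out.one_lt

lemma asPoly_monic : (asPoly.{u} p).Monic := Polynomial.monic_X_pow_sub (asPoly_deg_lt p)

lemma asRoot_rel : AdjoinRoot.of (asPoly.{u} p) gen =
    AdjoinRoot.root (asPoly.{u} p) - (AdjoinRoot.root (asPoly.{u} p)) ^ p := by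
  have h := AdjoinRoot.eval₂_root (asPoly.{u} p)
  simp only [asPoly, Polynomial.eval₂_sub, Polynomial.eval₂_pow, Polynomial.eval₂_X,
    Polynomial.eval₂_C] at h
  have h' := sub_eq_zero.mp h
  rw [h']
  ring

lemma asRoot_nontrivial : Nontrivial (ASRoot.{u} p) := by
  have hm := asPoly_monic.{u} p
  have hnu : ¬ IsUnit (asPoly.{u} p) := by
    rw [hm.isUnit_iff]
    intro h1
    have h2 := congrArg Polynomial.degree h1
    rw [asPoly, Polynomial.degree_sub_eq_left_of_degree_lt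
      (by rw [Polynomial.degree_X_pow]; exact asPoly_deg_lt p), Polynomial.degree_X_pow,
      Polynomial.degree_one] at h2
    exact hpp.out.ne_zero (by exact_mod_cast h2)
  exact Ideal.Quotient.nontrivial_iff.mpr (by simpa [Ideal.span_singleton_eq_top] using hnu)

lemma asRoot_spec_fppf :
    Flat (Spec.map (CommRingCat.ofHom (algebraMap Coord.{u} (ASRoot.{u} p)))) ∧
    Surjective (Spec.map (CommRingCat.ofHom (algebraMap Coord.{u} (ASRoot.{u} p)))) ∧
    LocallyOfFinitePresentation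
      (Spec.map (CommRingCat.ofHom (algebraMap Coord.{u} (ASRoot.{u} p)))) := by
  have hfree : Module.Free Coord.{u} (ASRoot.{u} p) := (asPoly_monic p).free_adjoinRoot
  have hnt := asRoot_nontrivial.{u} p
  have hff : Module.FaithfullyFlat Coord.{u} (ASRoot.{u} p) := inferInstance
  have h1 := (flat_and_surjective_SpecMap_iff
    (CommRingCat.ofHom (algebraMap Coord.{u} (ASRoot.{u} p)))).mpr
    ((RingHom.faithfullyFlat_algebraMap_iff).mpr hff)
  refine ⟨h1.1, h1.2, ?_⟩
  rw [HasRingHomProperty.Spec_iff (P := @LocallyOfFinitePresentation)]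
  exact (RingHom.finitePresentation_algebraMap).mpr inferInstance

end Cover

section Final

open CategoryTheory.Limits

variable (p : ℕ) [hpp : Fact p.Prime] {S : Scheme.{u}} (F : Red.Ga S ⟶ Red.Ga S)
  (hF : ∀ (T : Over S) (x : T ⟶ Red.Ga S), Red.gaFn (x ≫ F) = Red.gaFn x ^ p)

/-- the structure map `Spec ℤ[x][Y]/(Yᵖ - Y + x) ⟶ Spec ℤ[x]` -/
noncomputable abbrev rootMap : Spec (CommRingCat.of (ASRoot.{u} p)) ⟶ Spec (CommRingCat.of Coord.{u}) :=
  Spec.map (CommRingCat.ofHom (algebraMap Coord.{u} (ASRoot.{u} p)))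

/-- the covering morphism of `𝔾_{a,S}` -/
noncomputable abbrev covMap (S : Scheme.{u}) :
    pullback (rootMap.{u} p) (pullback.fst GaZ.hom (toBaseZ S)) ⟶ (Red.Ga S).left :=
  pullback.snd _ _

/-- the covering scheme over `S` -/
noncomputable abbrev covOver (S : Scheme.{u}) : Over S := Over.mk (covMap p S ≫ (Red.Ga S).hom)

/-- the covering morphism over `S` -/
noncomputable abbrev covHom (S : Scheme.{u}) : covOver p S ⟶ Red.Ga S := Over.homMk (covMap p S) rfl

/-- the function `Y` on the covering scheme -/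
noncomputable def rootFn (S : Scheme.{u}) : Γ((covOver p S).left, ⊤) :=
  (pullback.fst (rootMap.{u} p) (pullback.fst GaZ.hom (toBaseZ S))).appTop
    ((Scheme.ΓSpecIso (CommRingCat.of (ASRoot.{u} p))).inv (AdjoinRoot.root (asPoly.{u} p)))

include hF in
lemma ptOfElt_rootFn_comp_P :
    ptOfElt (rootFn p S) ≫ (𝟙 (Red.Ga S) * F⁻¹) = covHom p S := by
  apply gaFn_injective
  change Red.gaFn (ptOfElt (rootFn p S) ≫ (𝟙 (Red.Ga S) * F⁻¹)) = Red.gaFn (covHom p S)
  rw [gaFn_comp_P p F hF, gaFn_ptOfElt]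
  have h1 : Red.gaFn (covHom p S) =
      (pullback.fst (rootMap.{u} p) (pullback.fst GaZ.hom (toBaseZ S)) ≫ rootMap.{u} p).appTop
        (coordIso.inv gen) := by
    have hc : covMap p S ≫ pullback.fst GaZ.hom (toBaseZ S) =
        pullback.fst (rootMap.{u} p) (pullback.fst GaZ.hom (toBaseZ S)) ≫ rootMap.{u} p :=
      pullback.condition.symm
    exact congrArg (fun f : pullback (rootMap.{u} p) (pullback.fst GaZ.hom (toBaseZ S)) ⟶
      Spec (CommRingCat.of Coord.{u}) => f.appTop Red.gaCoord) hc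
  rw [h1, GmPts.appTop_comp_apply, specMap_appTop_ΓSpecIso_inv]
  change _ = (pullback.fst (rootMap.{u} p) (pullback.fst GaZ.hom (toBaseZ S))).appTop
    ((Scheme.ΓSpecIso (CommRingCat.of (ASRoot.{u} p))).inv (AdjoinRoot.of (asPoly.{u} p) gen))
  rw [asRoot_rel, map_sub, map_sub, map_pow, map_pow]
  rfl

include hF in
lemma isLocallyTrivialFor_P :
    NonAbH1.IsLocallyTrivialFor Scheme.fpqcPrecoverage
      (Over.mk (𝟙 (Red.Ga S) * F⁻¹).left : Over (Red.Ga S).left) := by
  obtain ⟨h1, h2, h3⟩ := asRoot_spec_fppf.{u} p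
  have h1' : Flat (covMap p S) := MorphismProperty.pullback_snd _ _ h1
  have h2' : Surjective (covMap p S) := MorphismProperty.pullback_snd _ _ h2
  have h3' : LocallyOfFinitePresentation (covMap p S) := MorphismProperty.pullback_snd _ _ h3
  refine ⟨Presieve.singleton (covMap p S),
    Scheme.fppfPrecoverage_le_fpqcPrecoverage _ (Scheme.Hom.singleton_mem_fppfPrecoverage _), ?_⟩
  intro S' f hf
  cases hf
  refine ⟨(ptOfElt (rootFn p S)).left, ?_⟩
  have h := congrArg (fun k => k.left) (ptOfElt_rootFn_comp_P p F hF)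
  exact h

end Final

end Groth.Agent.S6008

namespace Groth.Agent.S6008

/-- Let p be a prime and S a scheme of characteristic p (p = 0 in the ring of global functions). Let F
be the Frobenius endomorphism of the additive group over S, the S-endomorphism which raises the
coordinate function of every point to the p-th power, and let P be the difference of the identity
and F in the group of endomorphisms (on points x ↦ x − x^p). Let G' be the constant S-group (Z/p)_S:
an S-group together with an isomorphism of S-schemes e from G' to the disjoint union of copies of S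
indexed by Z/p, under which the S-points of indices m and n multiply to the S-point of index m + n;
and let i : G' → G_a be the homomorphism of S-groups which sends the S-point of index 1 to the point
whose coordinate is the unit global function. Then the Artin-Schreier sequence 1 → (Z/p)_S → G_a →
G_a → 1 is exact for the fpqc topology: i and P are homomorphisms with trivial composite, (x, g) ↦
(x, x + i(g)) identifies G_a ×_S G' with the fibre product of P with itself (so that i is a kernel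
of P), and P acquires sections on the members of some fpqc covering family of its target. -/
theorem result (p : ℕ) [Fact p.Prime] {S : Scheme.{u}}
    (hp : (p : Γ(S, ⊤)) = 0) (F : Red.Ga S ⟶ Red.Ga S)
    (hF : ∀ (T : Over S) (x : T ⟶ Red.Ga S), Red.gaFn (x ≫ F) = Red.gaFn x ^ p)
    {G' : Over S} [GrpObj G'] (e : G' ≅ TwC.const S (Multiplicative (ZMod p)))
    (he : TwC.IsConstGrp (Multiplicative (ZMod p)) G' e)
    (i : G' ⟶ Red.Ga S) [IsMonHom i]
    (hi : Red.gaFn (TwC.pt S (Multiplicative (ZMod p)) (Multiplicative.ofAdd 1) ≫ e.inv ≫ i) = 1) :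
    NonAbH1.IsExactSeq Scheme.fpqcPrecoverage i (𝟙 (Red.Ga S) * F⁻¹) := by
  haveI := isMonHom_P p F hF hp
  have hker := isPullback_kernel p e he i hi F hF hp
  refine ⟨inferInstance, inferInstance, ?_, ?_, isLocallyTrivialFor_P p F hF⟩
  · rw [hker.w, Hom.one_def]
  · exact (Groth.Agent.Lib.KerSq18.isPullback_mul_fst_of_isKernel _ _ hker).flip

end Groth.Agent.S6008
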