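import Groth.Statements.S6009
import Groth.Agent.Lib.H43LocSplit2

set_option autoImplicit false
universe u
open CategoryTheory AlgebraicGeometry MonoidalCategory CartesianMonoidalCategory MonObj GrpObj
open SGA1

namespace Groth.Agent.S6009


open CategoryTheory.Limits in
/-- A commutative square with unique liftings of points is a pullback square. -/
lemma isPullback_of_existsUnique {C : Type*} [Category C] {P A B W : C} {p1 : P ⟶ A} {p2 : P ⟶ B}
    {f : A ⟶ W} {g : B ⟶ W} (w : p1 ≫ f = p2 ≫ g)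
    (h : ∀ (T : C) (a : T ⟶ A) (b : T ⟶ B), a ≫ f = b ≫ g →
      ∃! l : T ⟶ P, l ≫ p1 = a ∧ l ≫ p2 = b) :
    IsPullback p1 p2 f g := by
  refine ⟨⟨w⟩, ⟨PullbackCone.IsLimit.mk w
    (fun s => (h s.pt s.fst s.snd s.condition).exists.choose) ?_ ?_ ?_⟩⟩
  · intro s
    exact (h s.pt s.fst s.snd s.condition).exists.choose_spec.1
  · intro s
    exact (h s.pt s.fst s.snd s.condition).exists.choose_spec.2
  · intro s m hm1 hm2
    exact (h s.pt s.fst s.snd s.condition).unique ⟨hm1, hm2⟩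
      (h s.pt s.fst s.snd s.condition).exists.choose_spec

section General

open CategoryTheory.Limits

variable {S : Scheme.{u}}

/-- In a pseudo-torsor any two points differ by a point of the group. -/
lemma exists_act_eq {G X : Over S} [GrpObj G] (a : AlgGrp.Action G X)
    (h : NonAbH1.IsPseudoTorsorSch a) {T : Over S} (x y : T ⟶ X) :
    ∃ g : T ⟶ G, lift g y ≫ a.act = x := by
  have hiso : IsIso (lift a.act (snd G X)) := h
  obtain ⟨m, hm⟩ : ∃ m : T ⟶ G ⊗ X, m ≫ lift a.act (snd G X) = lift x y :=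
    ⟨lift x y ≫ inv (lift a.act (snd G X)), by rw [Category.assoc, IsIso.inv_hom_id, Category.comp_id]⟩
  have h1 : m ≫ a.act = x := by
    have := congrArg (fun m => m ≫ fst X X) hm
    simpa using this
  have h2 : m ≫ snd G X = y := by
    have := congrArg (fun m => m ≫ snd X X) hm
    simpa using this
  refine ⟨m ≫ fst G X, ?_⟩
  have h3 : lift (m ≫ fst G X) y = m := by
    rw [← h2, ← comp_lift, lift_fst_snd, Category.comp_id]
  rw [h3, h1]

variable {G G' G'' : Over S} [GrpObj G] [GrpObj G'] [GrpObj G'']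

omit [GrpObj G'] [GrpObj G''] in
/-- Exactness in the middle, on points. -/
lemma exists_mul_eq (u : G' ⟶ G) (v : G ⟶ G'')
    (hpb : IsPullback (fst G G') ((G ◁ u) ≫ μ[G]) v v) {T : Over S} (a b : T ⟶ G)
    (hab : a ≫ v = b ≫ v) : ∃ g' : T ⟶ G', b = a * (g' ≫ u) := by
  obtain ⟨l, h1, h2⟩ : ∃ l : T ⟶ G ⊗ G', l ≫ fst G G' = a ∧ l ≫ (G ◁ u) ≫ μ[G] = b :=
    ⟨hpb.lift a b hab, hpb.lift_fst _ _ _, hpb.lift_snd _ _ _⟩
  refine ⟨l ≫ snd G G', ?_⟩
  have h3 : l = lift a (l ≫ snd G G') := by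
    rw [← h1, ← comp_lift, lift_fst_snd, Category.comp_id]
  rw [h3, lift_whiskerLeft_assoc, ← Hom.mul_def] at h2
  rw [← h2]

omit [GrpObj G''] in
/-- `u` is injective on points. -/
lemma eq_one_of_comp_eq_one (u : G' ⟶ G) [IsMonHom u] (v : G ⟶ G'')
    (hpb : IsPullback (fst G G') ((G ◁ u) ≫ μ[G]) v v) {T : Over S} (g' : T ⟶ G')
    (hg : g' ≫ u = 1) : g' = 1 := by
  have h : lift (1 : T ⟶ G) g' = lift (1 : T ⟶ G) (1 : T ⟶ G') := by
    apply hpb.hom_ext
    · rw [lift_fst, lift_fst]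
    · rw [lift_whiskerLeft_assoc, lift_whiskerLeft_assoc, hg, MonObj.one_comp]
  have := congrArg (fun m => m ≫ snd G G') h
  simpa using this

theorem main [IsCommMonObj G]
    (u : G' ⟶ G) (v : G ⟶ G'') (hex : NonAbH1.IsExactSeq Scheme.fpqcPrecoverage u v)
    (Q : NonAbH1.TorsorSch G' Scheme.fpqcPrecoverage) :
    NonAbH1.IsPushforwardAlongSch u Q.act (NonAbH1.trivialAction G) ↔
      ∃ (f : 𝟙_ (Over S) ⟶ G'') (i : Q.X ⟶ G), NonAbH1.IsPullbackTorsor u v f i Q.act := by
  obtain ⟨hu, hv, huv, hpb, hloc⟩ := hex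
  obtain ⟨hpt, hQloc⟩ := Q.isTorsor
  constructor
  · rintro ⟨φ, hφ⟩
    -- points form of equivariance
    have hφpt : ∀ {T : Over S} (g' : T ⟶ G') (q : T ⟶ Q.X),
        lift g' q ≫ Q.act.act ≫ φ = (g' ≫ u) * (q ≫ φ) := by
      intro T g' q
      rw [hφ, comp_lift_assoc, lift_fst_assoc, lift_snd_assoc]
      rfl
    have hipt : ∀ {T : Over S} (g' : T ⟶ G') (q : T ⟶ Q.X),
        lift g' q ≫ Q.act.act ≫ φ⁻¹ = (q ≫ φ⁻¹) * (g' ≫ u)⁻¹ := by
      intro T g' q
      rw [GrpObj.comp_inv, GrpObj.comp_inv, ← Category.assoc, GrpObj.comp_inv, Category.assoc, hφpt,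
        _root_.mul_inv_rev]
    have hinv : ∀ {T : Over S} (g' : T ⟶ G') (q : T ⟶ Q.X),
        lift g' q ≫ Q.act.act ≫ φ⁻¹ ≫ v = q ≫ φ⁻¹ ≫ v := by
      intro T g' q
      rw [← Category.assoc Q.act.act, ← Category.assoc (lift g' q), hipt, MonObj.mul_comp,
        GrpObj.inv_comp, Category.assoc g', huv, MonObj.comp_one, inv_one, _root_.mul_one, Category.assoc]
    -- descend φ⁻¹ ≫ v along Q.X ⟶ S
    have hkp : IsPullback (fst Q.X Q.X) (snd Q.X Q.X) (toUnit Q.X) (toUnit Q.X) := by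
      refine isPullback_of_existsUnique (toUnit_unique _ _) ?_
      intro T a b _
      refine ⟨lift a b, ⟨lift_fst _ _, lift_snd _ _⟩, ?_⟩
      rintro m ⟨hm1, hm2⟩
      rw [← hm1, ← hm2, ← comp_lift, lift_fst_snd, Category.comp_id]
    have hψ : fst Q.X Q.X ≫ φ⁻¹ ≫ v = snd Q.X Q.X ≫ φ⁻¹ ≫ v := by
      apply AlgGrp.Action.hom_ext_lift₂
      intro T q₁ q₂
      obtain ⟨g', hg'⟩ := exists_act_eq Q.act hpt q₁ q₂
      rw [lift_fst_assoc, lift_snd_assoc, ← hg', Category.assoc, hinv]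
    have hQloc' : NonAbH1.IsLocallyTrivialFor Scheme.fpqcPrecoverage
        (Over.mk (toUnit Q.X).left : Over (𝟙_ (Over S)).left) := hQloc
    obtain ⟨f, hf⟩ := Groth.Agent.Lib.H43LocSplit2.exists_desc Scheme.fpqcPrecoverage (toUnit Q.X) hQloc'
      hkp (φ⁻¹ ≫ v) hψ
    -- i is a monomorphism
    have hmono : Mono (φ⁻¹ : Q.X ⟶ G) := by
      refine ⟨fun {T} q₁ q₂ h12 => ?_⟩
      obtain ⟨g', hg'⟩ := exists_act_eq Q.act hpt q₁ q₂
      have h1 := hipt g' q₂
      rw [← Category.assoc, hg', h12] at h1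
      have h2 : (g' ≫ u)⁻¹ = 1 := by
        have := congrArg (fun m => (q₂ ≫ φ⁻¹)⁻¹ * m) h1
        simpa using this.symm
      have h3 : g' ≫ u = 1 := by simpa using h2
      have h4 := eq_one_of_comp_eq_one u v hpb g' h3
      rw [← hg', h4, AlgGrp.Action.lift_one_act]
    refine ⟨f, φ⁻¹, hu, hv, ?_, fun T g' p => hipt g' p⟩
    refine isPullback_of_existsUnique hf.symm ?_
    intro T a b hab
    -- local factorisation
    obtain ⟨R, hR, hsec⟩ := hQloc
    have hcov : Sieve.generate (R.pullbackArrows T.hom) ∈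
        Scheme.fpqcPrecoverage.toGrothendieck T.left :=
      Precoverage.generate_mem_toGrothendieck (Precoverage.pullbackArrows_mem T.hom hR)
    have hex : ∃ q : T ⟶ Q.X, q ≫ φ⁻¹ = a := by
      refine Groth.Agent.Lib.H43LocSplit2.exists_factor_of_locally Scheme.fpqcPrecoverage (φ⁻¹) a _ hcov ?_
      rintro T' t ⟨T'', t', t'', ht'', rfl⟩
      obtain ⟨S', r, hr⟩ := ht''
      obtain ⟨s, hs⟩ := hsec r hr
      -- the member is `pullback.snd r T.hom`
      let To : Over S := Over.mk (pullback.snd r T.hom ≫ T.hom)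
      let tt : To ⟶ T := Over.homMk (pullback.snd r T.hom) rfl
      have hq₀w : (pullback.fst r T.hom ≫ s) ≫ Q.X.hom = To.hom := by
        rw [Category.assoc, hs, pullback.condition]
        rfl
      let q₀ : To ⟶ Q.X := Over.homMk (pullback.fst r T.hom ≫ s) hq₀w
      have h5 : (q₀ ≫ φ⁻¹) ≫ v = (tt ≫ a) ≫ v := by
        rw [Category.assoc, ← hf, Category.assoc, hab, ← Category.assoc, ← Category.assoc]
        congr 1
        exact toUnit_unique _ _
      obtain ⟨g', hg'⟩ := exists_mul_eq u v hpb (q₀ ≫ φ⁻¹) (tt ≫ a) h5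
      have h6 : (lift g'⁻¹ q₀ ≫ Q.act.act) ≫ φ⁻¹ = tt ≫ a := by
        rw [Category.assoc, hipt, GrpObj.inv_comp, _root_.inv_inv, ← hg']
      refine ⟨t' ≫ (lift g'⁻¹ q₀ ≫ Q.act.act).left, ?_⟩
      have h7 := congrArg CommaMorphism.left h6
      rw [Category.assoc, Category.assoc]
      congr 1
    obtain ⟨q, hq⟩ := hex
    refine ⟨q, ⟨hq, toUnit_unique _ _⟩, ?_⟩
    rintro m ⟨hm1, -⟩
    rw [← cancel_mono (φ⁻¹ : Q.X ⟶ G), hm1, hq]
  · rintro ⟨f, i, -, -, -, hi⟩
    refine ⟨i⁻¹, ?_⟩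
    apply AlgGrp.Action.hom_ext_lift₂
    intro T g' q
    have hR : lift g' q ≫ lift (fst G' Q.X ≫ u) (snd G' Q.X ≫ i⁻¹) ≫ (NonAbH1.trivialAction G).act =
        (g' ≫ u) * (q ≫ i⁻¹) := by
      rw [comp_lift_assoc, lift_fst_assoc, lift_snd_assoc]
      rfl
    have hL : lift g' q ≫ Q.act.act ≫ i⁻¹ = (g' ≫ u) * (q ≫ i)⁻¹ := by
      rw [GrpObj.comp_inv, GrpObj.comp_inv, hi, _root_.mul_inv_rev, _root_.inv_inv]
    rw [hR, hL, GrpObj.comp_inv]

end General

/-- Exactness of the cohomology sequence at H^1(S, G'): let u : G' → G and v : G → G'' be homomorphisms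
of affine commutative S-groups forming a sequence 1 → G' → G → G'' → 1 which is exact for the fpqc
topology, and let Q be a principal homogeneous bundle under G' (fpqc torsor). Then the bundle
deduced from Q by extension of the structure group along u is trivial, in the sense that Q admits a
u-equivariant S-morphism to G acting on itself by left translation, if and only if Q is the boundary
of some section f of G'' over S: there is a morphism i : Q → G making Q the inverse image of f under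
v, with G' acting through right translation by inverses. -/
theorem result {S : Scheme.{u}}
    {G G' G'' : Over S} [GrpObj G] [GrpObj G'] [GrpObj G'']
    [IsCommMonObj G] [IsCommMonObj G'] [IsCommMonObj G'']
    [IsAffineHom G.hom] [IsAffineHom G'.hom] [IsAffineHom G''.hom]
    (u : G' ⟶ G) (v : G ⟶ G'') (hex : NonAbH1.IsExactSeq Scheme.fpqcPrecoverage u v)
    (Q : NonAbH1.TorsorSch G' Scheme.fpqcPrecoverage) :
    NonAbH1.IsPushforwardAlongSch u Q.act (NonAbH1.trivialAction G) ↔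
      ∃ (f : 𝟙_ (Over S) ⟶ G'') (i : Q.X ⟶ G), NonAbH1.IsPullbackTorsor u v f i Q.act := by
  exact main u v hex Q

end Groth.Agent.S6009
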