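import Groth.Statements.S6010
import Groth.Agent.Lib.H43Torsor

set_option autoImplicit false
universe u
open CategoryTheory AlgebraicGeometry MonoidalCategory CartesianMonoidalCategory MonObj GrpObj
open SGA1

namespace Groth.Agent.S6010


section General

open CategoryTheory.Limits
open Groth.Agent.Lib.H43Torsor Groth.Agent.Lib.H43LocSplit2

variable {S : Scheme.{u}} {G G' G'' : Over S} [GrpObj G] [GrpObj G'] [GrpObj G'']

omit [GrpObj G] in
/-- Points form of `IsPushforwardAlongSch` for a target acting on itself by translation. -/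
lemma triv_pts (v : G ⟶ G'') {X : Over S} (θ : X ⟶ G'') {T : Over S} (g : T ⟶ G) (p : T ⟶ X) :
    lift g p ≫ lift (fst G X ≫ v) (snd G X ≫ θ) ≫ (NonAbH1.trivialAction G'').act =
      (g ≫ v) * (p ≫ θ) := by
  rw [comp_lift_assoc, lift_fst_assoc, lift_snd_assoc]
  rfl

/-- (⇐): a reduction of the structure group to `G'` trivialises the push-forward to `G''`. -/
theorem backward (u : G' ⟶ G) (v : G ⟶ G'') (hex : NonAbH1.IsExactSeq Scheme.fpqcPrecoverage u v)
    (P : NonAbH1.TorsorSch G Scheme.fpqcPrecoverage)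
    (Q : NonAbH1.TorsorSch G' Scheme.fpqcPrecoverage)
    (hQ : NonAbH1.IsPushforwardAlongSch u Q.act P.act) :
    NonAbH1.IsPushforwardAlongSch v P.act (NonAbH1.trivialAction G'') := by
  obtain ⟨hu, hv, huv, hpb, hloc⟩ := hex
  obtain ⟨hPpt, hPloc⟩ := P.isTorsor
  obtain ⟨hQpt, hQloc⟩ := Q.isTorsor
  obtain ⟨ψ, hψ⟩ := hQ
  have hψpt : ∀ {T : Over S} (g' : T ⟶ G') (q : T ⟶ Q.X),
      (lift g' q ≫ Q.act.act) ≫ ψ = lift (g' ≫ u) (q ≫ ψ) ≫ P.act.act := by
    intro T g' q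
    rw [Category.assoc, hψ, comp_lift_assoc, lift_fst_assoc, lift_snd_assoc]
  obtain ⟨m, hm⟩ : ∃ m : G ⊗ Q.X ⟶ P.X, m = (G ◁ ψ) ≫ P.act.act := ⟨_, rfl⟩
  have hmpt : ∀ {T : Over S} (g : T ⟶ G) (q : T ⟶ Q.X),
      lift g q ≫ m = lift g (q ≫ ψ) ≫ P.act.act := by
    intro T g q
    rw [hm, lift_whiskerLeft_assoc]
  -- local sections of m
  have hmloc : NonAbH1.IsLocallyTrivialFor Scheme.fpqcPrecoverage
      (Over.mk m.left : Over P.X.left) := by
    obtain ⟨R, hR, hsec⟩ := hQloc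
    refine ⟨R.pullbackArrows P.X.hom, Precoverage.pullbackArrows_mem P.X.hom hR, ?_⟩
    rintro T' f' ⟨S', r, hr⟩
    obtain ⟨s, hs⟩ := hsec r hr
    let To : Over S := Over.mk (pullback.snd r P.X.hom ≫ P.X.hom)
    let p : To ⟶ P.X := Over.homMk (pullback.snd r P.X.hom) rfl
    have hq₀w : (pullback.fst r P.X.hom ≫ s) ≫ Q.X.hom = To.hom := by
      rw [Category.assoc, hs, pullback.condition]
      rfl
    let q₀ : To ⟶ Q.X := Over.homMk (pullback.fst r P.X.hom ≫ s) hq₀w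
    obtain ⟨g, hg⟩ := exists_act_eq P.act hPpt p (q₀ ≫ ψ)
    have h1 : lift g q₀ ≫ m = p := by rw [hmpt, hg]
    exact ⟨(lift g q₀).left, congrArg CommaMorphism.left h1⟩
  -- descend fst ≫ v
  have hkp : pullback.fst m m ≫ fst G Q.X ≫ v = pullback.snd m m ≫ fst G Q.X ≫ v := by
    obtain ⟨a, ha⟩ : ∃ a : pullback m m ⟶ G ⊗ Q.X, a = pullback.fst m m := ⟨_, rfl⟩
    obtain ⟨b, hb⟩ : ∃ b : pullback m m ⟶ G ⊗ Q.X, b = pullback.snd m m := ⟨_, rfl⟩
    have hab : a ≫ m = b ≫ m := by rw [ha, hb, pullback.condition]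
    rw [← ha, ← hb]
    have ha' : a = lift (a ≫ fst G Q.X) (a ≫ snd G Q.X) := by
      rw [← comp_lift, lift_fst_snd, Category.comp_id]
    have hb' : b = lift (b ≫ fst G Q.X) (b ≫ snd G Q.X) := by
      rw [← comp_lift, lift_fst_snd, Category.comp_id]
    obtain ⟨g', hg'⟩ := exists_act_eq Q.act hQpt (a ≫ snd G Q.X) (b ≫ snd G Q.X)
    rw [ha', hb', hmpt, hmpt, ← hg', hψpt, ← AlgGrp.Action.lift_mul_act] at hab
    have h2 := act_injective P.act hPpt _ _ _ hab
    rw [← Category.assoc, ← Category.assoc, ← h2, MonObj.mul_comp, Category.assoc g', huv,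
      MonObj.comp_one, _root_.mul_one]
  obtain ⟨θ, hθ⟩ := exists_desc Scheme.fpqcPrecoverage m hmloc (IsPullback.of_hasPullback m m)
    (fst G Q.X ≫ v) hkp
  refine ⟨θ, ?_⟩
  refine hom_ext_of_locally_lift Scheme.fpqcPrecoverage m hmloc (snd G P.X) _ _ ?_
  intro T t w hw
  have ht : t = lift (t ≫ fst G P.X) (w ≫ m) := by
    rw [hw, ← comp_lift, lift_fst_snd, Category.comp_id]
  have hw' : w = lift (w ≫ fst G Q.X) (w ≫ snd G Q.X) := by
    rw [← comp_lift, lift_fst_snd, Category.comp_id]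
  have h3 : (w ≫ m) ≫ θ = (w ≫ fst G Q.X) ≫ v := by
    rw [Category.assoc, hθ, Category.assoc]
  have h4 : t ≫ P.act.act ≫ θ = ((t ≫ fst G P.X) ≫ v) * ((w ≫ fst G Q.X) ≫ v) := by
    rw [ht, lift_fst]
    nth_rewrite 1 [hw']
    rw [hmpt, ← AlgGrp.Action.lift_mul_act_assoc, ← Category.assoc, ← hmpt, Category.assoc, hθ,
      lift_fst_assoc, MonObj.mul_comp]
  rw [h4, ht, triv_pts, lift_fst, h3]

/-- (⇒): a trivialisation of the push-forward to `G''` gives a reduction of the structure group to `G'`. -/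
theorem forward (u : G' ⟶ G) (v : G ⟶ G'') (hex : NonAbH1.IsExactSeq Scheme.fpqcPrecoverage u v)
    (P : NonAbH1.TorsorSch G Scheme.fpqcPrecoverage)
    (hP : NonAbH1.IsPushforwardAlongSch v P.act (NonAbH1.trivialAction G'')) :
    ∃ Q : NonAbH1.TorsorSch G' Scheme.fpqcPrecoverage, NonAbH1.IsPushforwardAlongSch u Q.act P.act := by
  obtain ⟨hu, hv, huv, hpb, hloc⟩ := hex
  obtain ⟨hPpt, hPloc⟩ := P.isTorsor
  obtain ⟨θ, hθ⟩ := hP
  have hθpt : ∀ {T : Over S} (g : T ⟶ G) (p : T ⟶ P.X),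
      (lift g p ≫ P.act.act) ≫ θ = (g ≫ v) * (p ≫ θ) := by
    intro T g p
    rw [Category.assoc, hθ, triv_pts]
  -- the kernel of θ
  have hηmono : Mono (η[G''] : 𝟙_ (Over S) ⟶ G'') :=
    mono_of_mono_fac (toUnit_unique (η[G''] ≫ toUnit G'') (𝟙 _))
  let X' : Over S := pullback θ η[G'']
  let ι' : X' ⟶ P.X := pullback.fst θ η[G'']
  have hι'mono : Mono ι' := inferInstance
  have hι'θ : ∀ {T : Over S} (q : T ⟶ X'), (q ≫ ι') ≫ θ = 1 := by
    intro T q
    rw [Category.assoc, pullback.condition, Hom.one_def, ← Category.assoc]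
    congr 1
    exact toUnit_unique _ _
  have hfac : ∀ {T : Over S} (p : T ⟶ P.X), p ≫ θ = 1 → ∃ q : T ⟶ X', q ≫ ι' = p := by
    intro T p hp
    exact ⟨pullback.lift p (toUnit T) (by rw [hp, Hom.one_def]), pullback.lift_fst _ _ _⟩
  -- the action
  have hcompat : ((G' ◁ ι') ≫ (u ▷ P.X) ≫ P.act.act) ≫ θ = toUnit (G' ⊗ X') ≫ η[G''] := by
    apply AlgGrp.Action.hom_ext_lift₂
    intro T g' q
    rw [Category.assoc, lift_whiskerLeft_assoc, Category.assoc, lift_whiskerRight_assoc,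
      ← Category.assoc, hθpt, Category.assoc g', huv, MonObj.comp_one, hι'θ, _root_.one_mul,
      ← Category.assoc, toUnit_unique (lift g' q ≫ toUnit (G' ⊗ X')) (toUnit T), ← Hom.one_def]
  let act' : G' ⊗ X' ⟶ X' :=
    pullback.lift ((G' ◁ ι') ≫ (u ▷ P.X) ≫ P.act.act) (toUnit _) hcompat
  have hact'ι : act' ≫ ι' = (G' ◁ ι') ≫ (u ▷ P.X) ≫ P.act.act := pullback.lift_fst _ _ _
  have hact'pt : ∀ {T : Over S} (g' : T ⟶ G') (q : T ⟶ X'),
      (lift g' q ≫ act') ≫ ι' = lift (g' ≫ u) (q ≫ ι') ≫ P.act.act := by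
    intro T g' q
    rw [Category.assoc, hact'ι, lift_whiskerLeft_assoc, lift_whiskerRight_assoc]
  let aQ : AlgGrp.Action G' X' :=
    { act := act'
      one_act := by
        rw [← cancel_mono ι']
        apply AlgGrp.Action.hom_ext_lift₂
        intro T w q
        have hw : w ≫ η[G'] = 1 := by rw [Hom.one_def, toUnit_unique (toUnit T) w]
        rw [Category.assoc, lift_whiskerRight_assoc, ← Category.assoc, hact'pt, hw, MonObj.one_comp,
          AlgGrp.Action.lift_one_act, leftUnitor_hom, lift_snd_assoc]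
      mul_act := by
        rw [← cancel_mono ι']
        apply AlgGrp.Action.hom_ext_lift₃
        intro T h h' q
        rw [Category.assoc, lift_whiskerRight_assoc, ← Category.assoc, hact'pt, ← Hom.mul_def,
          MonObj.mul_comp, AlgGrp.Action.lift_mul_act, Category.assoc, Category.assoc,
          lift_lift_associator_hom_assoc, lift_whiskerLeft_assoc, ← Category.assoc, hact'pt,
          hact'pt] }
  have haQpt : ∀ {T : Over S} (g' : T ⟶ G') (q : T ⟶ X'),
      (lift g' q ≫ aQ.act) ≫ ι' = lift (g' ≫ u) (q ≫ ι') ≫ P.act.act := hact'pt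
  have hpseudo : NonAbH1.IsPseudoTorsorSch aQ := by
    apply isPseudoTorsorSch_of_pts
    · intro T x y
      obtain ⟨g, hg⟩ := exists_act_eq P.act hPpt (x ≫ ι') (y ≫ ι')
      have h1 : g ≫ v = 1 := by
        have := hθpt g (y ≫ ι')
        rw [hg, hι'θ, hι'θ, _root_.mul_one] at this
        exact this.symm
      obtain ⟨g', hg'⟩ := exists_mul_eq u v hpb (1 : T ⟶ G) g (by rw [MonObj.one_comp, h1])
      rw [_root_.one_mul] at hg'
      refine ⟨g', ?_⟩
      rw [← cancel_mono ι', haQpt, ← hg', hg]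
    · intro T g g' x hgg
      have h1 : lift (g ≫ u) (x ≫ ι') ≫ P.act.act = lift (g' ≫ u) (x ≫ ι') ≫ P.act.act := by
        rw [← haQpt, ← haQpt, hgg]
      exact eq_of_comp_eq u v hpb g g' (act_injective P.act hPpt _ _ _ h1)
  have hlocQ : NonAbH1.IsLocallyTrivialFor Scheme.fpqcPrecoverage X' := by
    obtain ⟨R₁, hR₁, hsec₁⟩ := hPloc
    refine isLocallyTrivialFor_comp Scheme.fpqcPrecoverage X' R₁ hR₁ ?_
    intro S₁ r hr
    obtain ⟨s₁, hs₁⟩ := hsec₁ r hr
    let S₁o : Over S := Over.mk r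
    let p₁ : S₁o ⟶ P.X := Over.homMk s₁ hs₁
    obtain ⟨R₂, hR₂, hsec₂⟩ := hloc
    refine ⟨R₂.pullbackArrows (p₁ ≫ θ).left, Precoverage.pullbackArrows_mem _ hR₂, ?_⟩
    rintro S₂ t ⟨W, r₂, hr₂⟩
    obtain ⟨s₂, hs₂⟩ := hsec₂ r₂ hr₂
    change s₂ ≫ v.left = r₂ at hs₂
    let S₂o : Over S := Over.mk (pullback.snd r₂ (p₁ ≫ θ).left ≫ r)
    let tt : S₂o ⟶ S₁o := Over.homMk (pullback.snd r₂ (p₁ ≫ θ).left) rfl
    have hgw : (pullback.fst r₂ (p₁ ≫ θ).left ≫ s₂) ≫ G.hom = S₂o.hom := by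
      rw [← Over.w v, Category.assoc, ← Category.assoc s₂, hs₂, ← Category.assoc, pullback.condition,
        Category.assoc, Over.w (p₁ ≫ θ)]
      rfl
    let g : S₂o ⟶ G := Over.homMk (pullback.fst r₂ (p₁ ≫ θ).left ≫ s₂) hgw
    have hgv : g ≫ v = tt ≫ p₁ ≫ θ := by
      ext1
      change (pullback.fst r₂ (p₁ ≫ θ).left ≫ s₂) ≫ v.left =
        pullback.snd r₂ (p₁ ≫ θ).left ≫ (p₁ ≫ θ).left
      rw [Category.assoc, hs₂, pullback.condition]
    have hq : (lift g⁻¹ (tt ≫ p₁) ≫ P.act.act) ≫ θ = 1 := by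
      rw [hθpt, GrpObj.inv_comp, hgv, Category.assoc, inv_mul_cancel]
    obtain ⟨q', hq'⟩ := hfac _ hq
    exact ⟨q'.left, Over.w q'⟩
  refine ⟨⟨X', aQ, hpseudo, hlocQ⟩, ι', ?_⟩
  apply AlgGrp.Action.hom_ext_lift₂
  intro T g' q
  rw [← Category.assoc, haQpt, comp_lift_assoc, lift_fst_assoc, lift_snd_assoc]

end General

/-- Exactness of the cohomology sequence at H^1(S, G): let u : G' → G and v : G → G'' be homomorphisms
of affine commutative S-groups forming a sequence 1 → G' → G → G'' → 1 which is exact for the fpqc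
topology, and let P be a principal homogeneous bundle under G (fpqc torsor). Then the bundle deduced
from P by extension of the structure group along v is trivial, in the sense that P admits a
v-equivariant S-morphism to G'' acting on itself by left translation, if and only if P comes from
G': there is a principal homogeneous bundle Q under G' with a u-equivariant S-morphism Q → P. -/
theorem result {S : Scheme.{u}}
    {G G' G'' : Over S} [GrpObj G] [GrpObj G'] [GrpObj G'']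
    [IsCommMonObj G] [IsCommMonObj G'] [IsCommMonObj G'']
    [IsAffineHom G.hom] [IsAffineHom G'.hom] [IsAffineHom G''.hom]
    (u : G' ⟶ G) (v : G ⟶ G'') (hex : NonAbH1.IsExactSeq Scheme.fpqcPrecoverage u v)
    (P : NonAbH1.TorsorSch G Scheme.fpqcPrecoverage) :
    NonAbH1.IsPushforwardAlongSch v P.act (NonAbH1.trivialAction G'') ↔
      ∃ Q : NonAbH1.TorsorSch G' Scheme.fpqcPrecoverage, NonAbH1.IsPushforwardAlongSch u Q.act P.act := by
  exact ⟨forward u v hex P, fun ⟨Q, hQ⟩ => backward u v hex P Q hQ⟩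

end Groth.Agent.S6010
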