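import Groth.Statements.S6011
-- import your own Groth.Agent.* helpers here

set_option autoImplicit false
universe u
open CategoryTheory AlgebraicGeometry
open SGA1

namespace Groth.Agent.S6011

open MonoidalCategory CartesianMonoidalCategory MonObj

section abstract

variable {S : Scheme.{u}} {G X : Over S} [GrpObj G] (a : AlgGrp.Action G X)

/-- the orbit map of a section -/
noncomputable def orb (σ : 𝟙_ (Over S) ⟶ X) : G ⟶ X := lift (𝟙 G) (toUnit G ≫ σ) ≫ a.act

theorem orb_equivariant (σ : 𝟙_ (Over S) ⟶ X) :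
    μ[G] ≫ orb a σ = (G ◁ orb a σ) ≫ a.act := by
  unfold orb
  have h1 : μ[G] ≫ lift (𝟙 G) (toUnit G ≫ σ) = lift (𝟙 (G ⊗ G)) (toUnit _ ≫ σ) ≫ (μ[G] ▷ X) := by
    apply CartesianMonoidalCategory.hom_ext <;> simp
  have h2 : lift (𝟙 (G ⊗ G)) (toUnit (G ⊗ G) ≫ σ) ≫ (α_ G G X).hom =
      G ◁ lift (𝟙 G) (toUnit G ≫ σ) := by
    apply CartesianMonoidalCategory.hom_ext
    · simp
    · apply CartesianMonoidalCategory.hom_ext <;> simp
  rw [← Category.assoc, h1, Category.assoc, a.mul_act, ← Category.assoc, h2,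
    MonoidalCategory.whiskerLeft_comp, Category.assoc]

/-- the inverse of the orbit map for a pseudo-torsor -/
noncomputable def orbInv (h : IsIso (lift a.act (snd G X))) (σ : 𝟙_ (Over S) ⟶ X) : X ⟶ G :=
  lift (𝟙 X) (toUnit X ≫ σ) ≫ inv (lift a.act (snd G X)) ≫ fst G X

theorem orb_orbInv (h : IsIso (lift a.act (snd G X))) (σ : 𝟙_ (Over S) ⟶ X) :
    orb a σ ≫ orbInv a h σ = 𝟙 G := by
  unfold orbInv
  have h1 : orb a σ ≫ lift (𝟙 X) (toUnit X ≫ σ) =
      lift (𝟙 G) (toUnit G ≫ σ) ≫ lift a.act (snd G X) := by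
    unfold orb
    apply CartesianMonoidalCategory.hom_ext
    · simp
    · simp only [Category.assoc, lift_snd]
      rw [← Category.assoc, ← Category.assoc, toUnit_unique (_ ≫ toUnit X) (toUnit G)]
  rw [← Category.assoc, h1, Category.assoc, IsIso.hom_inv_id_assoc, lift_fst]

theorem orbInv_orb (h : IsIso (lift a.act (snd G X))) (σ : 𝟙_ (Over S) ⟶ X) :
    orbInv a h σ ≫ orb a σ = 𝟙 X := by
  set θ : X ⟶ G ⊗ X := lift (𝟙 X) (toUnit X ≫ σ) ≫ inv (lift a.act (snd G X)) with hθ
  have hθψ : θ ≫ lift a.act (snd G X) = lift (𝟙 X) (toUnit X ≫ σ) := by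
    rw [hθ, Category.assoc, IsIso.inv_hom_id, Category.comp_id]
  have h1 : θ ≫ a.act = 𝟙 X := by
    have := congrArg (· ≫ fst X X) hθψ
    simpa using this
  have h2 : θ ≫ snd G X = toUnit X ≫ σ := by
    have := congrArg (· ≫ snd X X) hθψ
    simpa using this
  have h3 : (θ ≫ fst G X) ≫ lift (𝟙 G) (toUnit G ≫ σ) = θ := by
    apply CartesianMonoidalCategory.hom_ext
    · simp
    · simp only [Category.assoc, lift_snd]
      rw [h2, ← Category.assoc, ← Category.assoc, toUnit_unique (_ ≫ toUnit G) (toUnit X)]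
  have : orbInv a h σ = θ ≫ fst G X := by
    unfold orbInv; rw [hθ, Category.assoc]
  rw [this]
  unfold orb
  rw [← Category.assoc, h3, h1]

end abstract



/-- An S-scheme X with an action of the S-group G is trivial — equivariantly isomorphic over S to G
acting on itself by translation — if and only if it is formally principal homogeneous (a
pseudo-torsor) and admits a section over S. -/
theorem result {S : Scheme.{u}}
    (G X : Over S) [GrpObj G] (a : AlgGrp.Action G X) :
    Nonempty (NonAbH1.EquivIso (NonAbH1.trivialAction G) a) ↔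
      (NonAbH1.IsPseudoTorsorSch a ∧ NonAbH1.HasSectionOver X (𝟙 S)) := by
  constructor
  · rintro ⟨e⟩
    have hcomm : μ[G] ≫ e.iso.hom = (G ◁ e.iso.hom) ≫ a.act := e.comm
    refine ⟨?_, ?_⟩
    · have htriv : IsIso (lift μ[G] (snd G G)) := NonAbH1.isPseudoTorsorSch_trivialAction G
      have : lift a.act (snd G X) =
          (G ◁ e.iso.inv) ≫ lift μ[G] (snd G G) ≫ (e.iso.hom ⊗ₘ e.iso.hom) := by
        apply CartesianMonoidalCategory.hom_ext
        · simp only [Category.assoc, lift_fst, tensorHom_fst, lift_fst_assoc]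
          rw [hcomm, ← Category.assoc, ← MonoidalCategory.whiskerLeft_comp, e.iso.inv_hom_id,
            MonoidalCategory.whiskerLeft_id, Category.id_comp]
        · simp
      unfold NonAbH1.IsPseudoTorsorSch
      rw [this]
      infer_instance
    · exact ⟨(η[G] ≫ e.iso.hom).left, Over.w (η[G] ≫ e.iso.hom)⟩
  · rintro ⟨hpt, s, hs⟩
    let σ : 𝟙_ (Over S) ⟶ X := Over.homMk s hs
    exact ⟨⟨⟨orb a σ, orbInv a hpt σ, orb_orbInv a hpt σ, orbInv_orb a hpt σ⟩,
      orb_equivariant a σ⟩⟩

end Groth.Agent.S6011
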