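import Groth.Statements.S6012
import Groth.Agent.Lib.FibClv

set_option autoImplicit false
open CategoryTheory
universe v₁ v₂ u₁ u₂
open FibCat FibCat.Cleavage

namespace Groth.Agent.S6012

set_option backward.isDefEq.respectTransparency false

/-- Let `K` be a cleavage of an arbitrary functor `p : 𝒳 ⥤ 𝒮` (one chosen cartesian lift of every base
morphism at every object over its target; `p` is not assumed fibred). Then `p` is a fibred category
(composites of cartesian morphisms are cartesian) if and only if, for all composable base morphisms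
`g : R ⟶ T` and `f : T ⟶ S`, the comparison natural transformation `c_{f,g}` from `g^* f^*` to
`(fg)^*` determined by `K` is an isomorphism. -/
theorem result (𝒮 : Type u₁) (𝒳 : Type u₂) [Category.{v₁} 𝒮] [Category.{v₂} 𝒳] (p : 𝒳 ⥤ 𝒮) (K : FibCat.Cleavage p) :
    p.IsFibered ↔ ∀ (R S T : 𝒮) (f : T ⟶ S) (g : R ⟶ T), IsIso (K.comp f g) := by
  constructor
  · intro hfib R S T f g
    have : ∀ a : p.Fiber S, IsIso ((K.comp f g).app a) := by
      intro a
      have hc : p.IsCartesian (g ≫ f) (K.lift (K.obj_proj a.2 f) g ≫ K.lift a.2 f) :=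
        Functor.IsFibered.comp g f _ _
      let i := Functor.IsCartesian.domainUniqueUpToIso p (g ≫ f) (K.lift a.2 (g ≫ f))
        (K.lift (K.obj_proj a.2 f) g ≫ K.lift a.2 f)
      refine ⟨⟨Functor.Fiber.homMk p R i.inv, ?_, ?_⟩⟩
      · apply Functor.Fiber.hom_ext
        exact i.hom_inv_id
      · apply Functor.Fiber.hom_ext
        exact i.inv_hom_id
    exact NatIso.isIso_of_isIso_app _
  · intro h
    have : p.IsPreFibered := K.isPreFibered
    refine ⟨?_⟩
    intro R S T f g a b c φ ψ hφ hψ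
    have hc : p.obj c = T := IsHomLift.codomain_eq p g ψ
    let c' : p.Fiber T := Functor.Fiber.mk hc
    -- `ψ` agrees with the chosen lift of `g` at `c` up to an isomorphism `β` of the fibre
    let β := Functor.IsCartesian.domainUniqueUpToIso p g (K.lift c'.2 g) ψ
    have hβ : β.hom ≫ K.lift c'.2 g = ψ := Functor.IsCartesian.fac p g (K.lift c'.2 g) ψ
    have hφβ : p.IsCartesian f (φ ≫ β.hom) := Functor.IsCartesian.of_comp_iso p f φ β
    let α := Functor.IsCartesian.domainUniqueUpToIso p f
      (K.lift (K.obj_proj c'.2 g) f) (φ ≫ β.hom)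
    have hα : α.hom ≫ K.lift (K.obj_proj c'.2 g) f = φ ≫ β.hom :=
      Functor.IsCartesian.fac p f (K.lift (K.obj_proj c'.2 g) f) (φ ≫ β.hom)
    have := h R T S g f
    let γ : (K.inverseImage g ⋙ K.inverseImage f).obj c' ≅ (K.inverseImage (f ≫ g)).obj c' :=
      asIso ((K.comp g f).app c')
    let γ' := Functor.Fiber.fiberInclusion.mapIso γ
    have hγ : γ'.hom ≫ K.lift c'.2 (f ≫ g) = K.lift (K.obj_proj c'.2 g) f ≫ K.lift c'.2 g :=
      Groth.Agent.Lib.FibClv.comp_app_lift K g f c'
    have e : φ ≫ ψ = (α ≪≫ γ').hom ≫ K.lift c'.2 (f ≫ g) := by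
      rw [Iso.trans_hom, Category.assoc, hγ, ← Category.assoc, hα, Category.assoc, hβ]
    rw [e]
    have h1 : p.IsHomLift (𝟙 R) α.hom := inferInstance
    have h2 : p.IsHomLift (𝟙 R) γ'.hom := by
      change p.IsHomLift (𝟙 R) (Functor.Fiber.fiberInclusion.map γ.hom)
      infer_instance
    have : p.IsHomLift (𝟙 R) (α ≪≫ γ').hom := by
      rw [Iso.trans_hom]
      exact IsHomLift.comp_of_lift_id p R α.hom γ'.hom
    exact Functor.IsCartesian.of_iso_comp p (f ≫ g) (K.lift c'.2 (f ≫ g)) (α ≪≫ γ')

end Groth.Agent.S6012
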