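import Groth.Statements.S6013
import Groth.Agent.Lib.FibClv
import Groth.Agent.S6012

set_option autoImplicit false
open CategoryTheory
universe v₁ v₂ u₁ u₂
open FibCat FibCat.Cleavage

namespace Groth.Agent.S6013

set_option backward.isDefEq.respectTransparency false

open CategoryTheory.Functor

variable {𝒮 : Type u₁} {𝒳 : Type u₂} [Category.{v₁} 𝒮] [Category.{v₂} 𝒳] {p : 𝒳 ⥤ 𝒮}
  [p.IsFibered] (K : FibCat.Cleavage p)

/-- The inverse image along an identity is isomorphic to the identity functor of the fibre. -/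
noncomputable def idIso (S : 𝒮) : K.inverseImage (𝟙 S) ≅ 𝟭 (p.Fiber S) :=
  NatIso.ofComponents (fun a =>
    haveI : IsIso (K.lift a.2 (𝟙 S)) :=
      IsStronglyCartesian.isIso_of_base_isIso p (𝟙 S) (K.lift a.2 (𝟙 S))
    { hom := Fiber.homMk p S (K.lift a.2 (𝟙 S))
      inv := Fiber.homMk p S (inv (K.lift a.2 (𝟙 S)))
      hom_inv_id := by
        apply Fiber.hom_ext
        exact IsIso.hom_inv_id (K.lift a.2 (𝟙 S))
      inv_hom_id := by
        apply Fiber.hom_ext
        exact IsIso.inv_hom_id (K.lift a.2 (𝟙 S)) })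
    (by
      intro a b φ
      apply Fiber.hom_ext
      exact Groth.Agent.Lib.FibClv.inverseImage_map_lift K (𝟙 S) φ)

/-- If `g ≫ f = 𝟙`, then `f^*` followed by `g^*` is isomorphic to the identity functor. -/
noncomputable def compIso {S T : 𝒮} (f : T ⟶ S) (g : S ⟶ T) (h : g ≫ f = 𝟙 S) :
    K.inverseImage f ⋙ K.inverseImage g ≅ 𝟭 (p.Fiber S) :=
  haveI : IsIso (K.comp f g) := (Groth.Agent.S6012.result 𝒮 𝒳 p K).1 inferInstance S S T f g
  asIso (K.comp f g) ≪≫ K.inverseImageCongr h ≪≫ idIso K S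

/-- Let `p : 𝒳 ⥤ 𝒮` be a fibred category with a cleavage `K`, and let `f : T ⟶ S` be an isomorphism of
the base. Then the inverse-image functor `f^*` of `K`, from the fibre over `S` to the fibre over
`T`, is an equivalence of categories. -/
theorem result (𝒮 : Type u₁) (𝒳 : Type u₂) [Category.{v₁} 𝒮] [Category.{v₂} 𝒳] (p : 𝒳 ⥤ 𝒮) [p.IsFibered] (K : FibCat.Cleavage p)
    (S T : 𝒮) (f : T ⟶ S) [IsIso f] : (K.inverseImage f).IsEquivalence := by
  exact (CategoryTheory.Equivalence.mk (K.inverseImage f) (K.inverseImage (inv f))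
    (compIso K f (inv f) (IsIso.inv_hom_id f)).symm
    (compIso K (inv f) f (IsIso.hom_inv_id f))).isEquivalence_functor

end Groth.Agent.S6013
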