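import Groth.Statements.S6017
import Groth.Agent.Lib.H8CosetTrace
import Groth.Agent.Lib.H8LocModPow

set_option autoImplicit false
universe u
open scoped Pointwise
open SGA1

namespace Groth.Agent.S6017


/-- Stated in affine form, at the level of rings: let a finite group `G` act on a commutative ring `R`;
suppose the ring of invariants `B = R^G` is Noetherian and `R` is a finite `B`-module. Let `q` be a
prime of `R`, let `H` be a subgroup of `G` containing the stabilizer of `q` (the decomposition
group), and put `R' = R^H`, `q' = q ∩ R'`, `p = q ∩ B = q' ∩ B`. Then the local homomorphism `B_p →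
R'_{q'}` induces an isomorphism between the completions of these two Noetherian local rings;
equivalently, and this is the form stated, for every `n` the composite `B_p → R'_{q'} → R'_{q'} /
m_{q'}^n` is surjective and its kernel is exactly `m_p^n`. (The published statement concerns a
prescheme `X` finite over a locally Noetherian `Y = X/G` and the local rings of `Y` and `X/H` at the
images of a point `x`; the assertion is local on `Y` and `X` is affine over `Y`, so it is stated for
`X = Spec R`, `Y = Spec R^G`, `X/H = Spec R^H`. The hypothesis `hle` only records the inclusion `R^G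
⊆ R^H`, which always holds.) -/
theorem result
    (G R : Type u) [Group G] [Finite G] [CommRing R] [MulSemiringAction G R]
    [IsNoetherianRing (FixedPoints.subring R G)] [Module.Finite (FixedPoints.subring R G) R]
    (H : Subgroup G) (q : Ideal R) [q.IsPrime] (hD : MulAction.stabilizer G q ≤ H)
    (hle : FixedPoints.subring R G ≤ FixedPoints.subring R H) (n : ℕ) :
    let q' : Ideal (FixedPoints.subring R H) := Ideal.comap (FixedPoints.subring R H).subtype q
    let φ := Localization.localRingHom (Ideal.comap (Subring.inclusion hle) q') q' (Subring.inclusion hle) rfl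
    Function.Surjective ((Ideal.Quotient.mk (IsLocalRing.maximalIdeal (Localization.AtPrime q') ^ n)).comp φ) ∧
      Ideal.comap φ (IsLocalRing.maximalIdeal (Localization.AtPrime q') ^ n) =
        IsLocalRing.maximalIdeal (Localization.AtPrime (Ideal.comap (Subring.inclusion hle) q')) ^ n := by

  intro q' φ
  haveI hq'prime : q'.IsPrime := Ideal.comap_isPrime _ _
  let ι : (FixedPoints.subring R G) →+* (FixedPoints.subring R H) := Subring.inclusion hle
  -- `(FixedPoints.subring R H)` is Noetherian
  haveI : IsNoetherian (FixedPoints.subring R G) R := isNoetherian_of_isNoetherianRing_of_finite (FixedPoints.subring R G) R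
  letI algInst : Algebra (FixedPoints.subring R G) (FixedPoints.subring R H) := ι.toAlgebra
  let fl : (FixedPoints.subring R H) →ₗ[(FixedPoints.subring R G)] R :=
    { toFun := fun x => (x : R)
      map_add' := fun _ _ => rfl
      map_smul' := fun _ _ => rfl }
  haveI : IsNoetherian (FixedPoints.subring R G) (FixedPoints.subring R H) := isNoetherian_of_injective fl Subtype.val_injective
  haveI : IsNoetherianRing (FixedPoints.subring R H) := isNoetherian_of_tower (FixedPoints.subring R G) (inferInstance : IsNoetherian (FixedPoints.subring R G) (FixedPoints.subring R H))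
  have hfixH : ∀ x : (FixedPoints.subring R H), ∀ h ∈ H, h • (x : R) = x := fun x h hh => x.2 ⟨h, hh⟩
  have hfixG : ∀ b : (FixedPoints.subring R G), ∀ g : G, g • (b : R) = b := fun b g => b.2 g
  refine Groth.Agent.Lib.H8LocModPow.locHom_mod_pow ι q' (Ideal.comap ι q') rfl ?_ ?_ ?_ n
  · intro x
    obtain ⟨b, c, hb, hc, hcq, hbc⟩ :=
      Groth.Agent.Lib.H8CosetTrace.exists_frac_congr q hD (x : R) (hfixH x)
    refine ⟨⟨b, hb⟩, ⟨c, hc⟩, hcq, ?_⟩
    exact hbc
  · intro x hx
    obtain ⟨s, b, e, t, hs, hb, he, ht, hsq, heq, htq, hbq, hsb⟩ :=
      Groth.Agent.Lib.H8CosetTrace.exists_norm_eq q hD (x : R) (hfixH x) hx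
    refine ⟨⟨s, fun m => hs m m.2⟩, ⟨b, hb⟩, ⟨e, fun m => he m m.2⟩, ⟨t, fun m => ht m m.2⟩,
      hsq, heq, htq, hbq, ?_⟩
    exact Subtype.ext hsb
  · intro I₀ b₀ s hs hmem
    obtain ⟨T, hT0, hTadd, hTlin, hTinv, hTq⟩ :=
      Groth.Agent.Lib.H8CosetTrace.exists_retraction (H := H) q hD
    let T' : (FixedPoints.subring R H) → (FixedPoints.subring R G) := fun y => ⟨T (y : R), hTinv _ (hfixH y)⟩
    have key : ∀ w ∈ Ideal.map ι I₀, ∀ r : (FixedPoints.subring R H), T' (r * w) ∈ I₀ := by
      intro w hw
      unfold Ideal.map at hw
      induction hw using Submodule.span_induction with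
      | mem w hw =>
        obtain ⟨i, hi, rfl⟩ := hw
        intro r
        have : T' (r * ι i) = i * T' r := by
          apply Subtype.ext
          change T ((r : R) * (i : R)) = (i : R) * T (r : R)
          rw [mul_comm, hTlin _ _ (hfixG i)]
        rw [this]
        exact Ideal.mul_mem_right _ _ hi
      | zero =>
        intro r
        have : T' (r * 0) = 0 := by
          apply Subtype.ext
          change T ((r : R) * 0) = 0
          rw [mul_zero, hT0]
        rw [this]
        exact Ideal.zero_mem _
      | add w w' _ _ hw hw' =>
        intro r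
        have : T' (r * (w + w')) = T' (r * w) + T' (r * w') := by
          apply Subtype.ext
          change T ((r : R) * ((w : R) + (w' : R))) = T ((r : R) * (w : R)) + T ((r : R) * (w' : R))
          rw [mul_add, hTadd]
        rw [this]
        exact Ideal.add_mem _ (hw r) (hw' r)
      | smul a w _ hw =>
        intro r
        have : r * a • w = (r * a) * w := by rw [smul_eq_mul, mul_assoc]
        rw [this]
        exact hw (r * a)
    have h1 := key _ hmem 1
    refine ⟨T' s, hTq _ (hfixH s) hs, ?_⟩
    have : T' (1 * (s * ι b₀)) = T' s * b₀ := by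
      apply Subtype.ext
      change T ((1 : R) * ((s : R) * (b₀ : R))) = T (s : R) * (b₀ : R)
      rw [one_mul, mul_comm (s : R), hTlin _ _ (hfixG b₀), mul_comm]
    rw [this] at h1
    exact h1

end Groth.Agent.S6017
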