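import Groth.Statements.S6018
import Groth.Agent.Lib.FibClv

set_option autoImplicit false
open CategoryTheory
universe v₁ v₂ v₃ u₁ u₂ u₃
open FibCat FibCat.Cleavage

namespace Groth.Agent.S6018

set_option backward.isDefEq.respectTransparency false

/-- Let `K` be a cleavage of a functor `p : 𝒳 ⥤ 𝒮` (neither fibredness nor normalisation is assumed),
let `F, G : 𝒳 ⥤ C` be functors, and for every object `S` of the base let `u_S` be a natural
transformation between the restrictions of `F` and `G` to the fibre over `S`. If the family is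
compatible with the transport morphisms `α_f(a) : f^* a ⟶ a` of `K`, i.e. `G(α_f(a)) ∘ u_T(f^* a) =
u_S(a) ∘ F(α_f(a))` for every base morphism `f : T ⟶ S` and every `a` over `S`, then there is
exactly one natural transformation `F ⟶ G` whose component at every object is the prescribed one.
(The published statement is an isomorphism between the category of all functors `𝒳 ⥤ C` and the
category of compatible families of functors on the fibres of a normalised cloven category; this row
is its assertion on morphisms, whose published proof does not use the normalisation, so none is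
assumed here.) -/
theorem result (𝒮 : Type u₁) (𝒳 : Type u₂) [Category.{v₁} 𝒮]
    [Category.{v₂} 𝒳] (p : 𝒳 ⥤ 𝒮) (K : FibCat.Cleavage p) (C : Type u₃) [Category.{v₃} C] (F G : 𝒳 ⥤ C)
    (u : ∀ S : 𝒮, (Functor.Fiber.fiberInclusion ⋙ F : p.Fiber S ⥤ C) ⟶ Functor.Fiber.fiberInclusion ⋙ G)
    (hu : ∀ ⦃T S : 𝒮⦄ (f : T ⟶ S) (a : p.Fiber S),
      F.map ((K.transport f).app a) ≫ (u S).app a = (u T).app ((K.inverseImage f).obj a) ≫ G.map ((K.transport f).app a)) :
    ∃! v : F ⟶ G, ∀ (S : 𝒮) (a : p.Fiber S), v.app a.1 = (u S).app a := by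
  have hv : ∀ (S : 𝒮) (a : p.Fiber S),
      (u (p.obj a.1)).app (Functor.Fiber.mk (p := p) (rfl : p.obj a.1 = p.obj a.1)) =
        (u S).app a := by
    rintro S ⟨x, hx⟩
    subst hx
    rfl
  refine ⟨⟨fun x => (u (p.obj x)).app (Functor.Fiber.mk (p := p) rfl), ?_⟩, ?_, ?_⟩
  · intro x y φ
    -- factor `φ` through the chosen lift of `p.map φ` at `y`
    let a : p.Fiber (p.obj y) := Functor.Fiber.mk (p := p) rfl
    let ψ : x ⟶ K.obj a.2 (p.map φ) :=
      Functor.IsCartesian.map p (p.map φ) (K.lift a.2 (p.map φ)) φ
    have hψ : ψ ≫ K.lift a.2 (p.map φ) = φ := Functor.IsCartesian.fac _ _ _ _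
    let ψ' : Functor.Fiber.mk (p := p) (rfl : p.obj x = p.obj x) ⟶
        (K.inverseImage (p.map φ)).obj a :=
      Functor.Fiber.homMk p (p.obj x) ψ
    have n1 := (u (p.obj x)).naturality ψ'
    have n2 := hu (p.map φ) a
    simp only [Functor.comp_map, Functor.Fiber.fiberInclusion_homMk, ψ',
      FibCat.Cleavage.transport_app] at n1 n2
    change F.map φ ≫ (u (p.obj y)).app a =
      (u (p.obj x)).app (Functor.Fiber.mk (p := p) rfl) ≫ G.map φ
    conv_lhs => rw [← hψ, F.map_comp, Category.assoc, n2]
    conv_rhs => rw [← hψ, G.map_comp, ← Category.assoc, ← n1]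
    rw [Category.assoc]
  · intro S a
    exact hv S a
  · intro v' hv'
    ext x
    exact hv' (p.obj x) (Functor.Fiber.mk (p := p) rfl)

end Groth.Agent.S6018
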