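import Groth.Statements.S6019
-- import your own Groth.Agent.* helpers here

set_option autoImplicit false
open CategoryTheory
universe v₁ v₂ u₁ u₂
open FibCat FibCat.Cleavage

namespace Groth.Agent.S6019

set_option backward.isDefEq.respectTransparency false

variable {𝒮 : Type u₁} {𝒳 : Type u₂} [Category.{v₁} 𝒮] [Category.{v₂} 𝒳]

theorem isCartesian_id_of_eqToHom (p : 𝒳 ⥤ 𝒮) {R S : 𝒮} {a : 𝒳} (ha : p.obj a = S) (f : R ⟶ S)
    (h : ∃ e : R = S, f = eqToHom e) : p.IsCartesian f (𝟙 a) := by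
  obtain ⟨e, rfl⟩ := h
  subst e
  subst ha
  rw [eqToHom_refl]
  infer_instance

open Classical in
/-- The chosen lifts: identities over identities, Mathlib's choice otherwise. -/
noncomputable def lifts (p : 𝒳 ⥤ 𝒮) [p.IsPreFibered] {R S : 𝒮} {a : 𝒳} (ha : p.obj a = S)
    (f : R ⟶ S) : Σ' (b : 𝒳) (φ : b ⟶ a), p.IsCartesian f φ :=
  if h : ∃ e : R = S, f = eqToHom e then ⟨a, 𝟙 a, isCartesian_id_of_eqToHom p ha f h⟩
  else ⟨Functor.IsPreFibered.pullbackObj ha f, Functor.IsPreFibered.pullbackMap ha f,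
    inferInstance⟩

theorem exists_eqToHom_of_eq (p : 𝒳 ⥤ 𝒮) {R S : 𝒮} {a : 𝒳} (f : R ⟶ S)
    (x : Σ' (b : 𝒳) (φ : b ⟶ a), p.IsCartesian f φ) (hc : p.IsCartesian f (𝟙 a))
    (hx : x = ⟨a, 𝟙 a, hc⟩) : ∃ h : x.1 = a, x.2.1 = eqToHom h := by
  subst hx
  exact ⟨rfl, rfl⟩

/-- A pre-fibred category admits a normalised cleavage: if every base morphism `R ⟶ p(a)` has a
cartesian morphism over it with target `a`, then one cartesian lift can be chosen for every base
morphism at every object over its target in such a way that the chosen lift of each identity `𝟙 S`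
at each object `a` over `S` is the identity of `a` (identities are transport morphisms). -/
theorem result (𝒮 : Type u₁) (𝒳 : Type u₂) [Category.{v₁} 𝒮] [Category.{v₂} 𝒳]
    (p : 𝒳 ⥤ 𝒮) [p.IsPreFibered] : ∃ K : FibCat.Cleavage p, K.IsNormalised := by
  refine ⟨⟨fun ha f => (lifts p ha f).1, fun ha f => (lifts p ha f).2.1,
    fun ha f => (lifts p ha f).2.2⟩, ?_⟩
  intro S a ha
  have h : ∃ e : S = S, (𝟙 S : S ⟶ S) = eqToHom e := ⟨rfl, rfl⟩
  exact exists_eqToHom_of_eq p (𝟙 S) (lifts p ha (𝟙 S)) (isCartesian_id_of_eqToHom p ha (𝟙 S) h)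
    (by rw [lifts, dif_pos h])

end Groth.Agent.S6019
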