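import Groth.Statements.S6021
import Groth.Agent.S6020
import Groth.Agent.Lib.HZPreDerived92
import Groth.Agent.Lib.SheafifyLocZero92
import Groth.Agent.Lib.AffVanLoc

set_option autoImplicit false
universe u
open CategoryTheory CategoryTheory.Limits TopologicalSpace
open LocCohZ

namespace Groth.Agent.S6021

open Groth.Agent.Lib.HZPreDerived92 Groth.Agent.Lib.ExtPreDelta92

/-- `ℋ^{n+1}_Z F` vanishes as soon as `H^{n+1}_{Z ∩ V}(V, F) → H^{n+1}(V, F)` is injective for all
`V`: it is the sheafification of `V ↦ H^{n+1}_{Z ∩ V}(V, F)`, whose sections are locally zero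
because classes in `H^{n+1}(V, F)` are. -/
theorem isZero_of_injective {X : TopCat.{u}} (F : CohTop.Ab X) (U : Opens X) (n : ℕ)
    (hinj : ∀ V : Opens X, Function.Injective
      (fun x : Abelian.Ext ((ZqC U).obj V) F (n + 1) =>
        (Abelian.Ext.mk₀ (πC U V)).comp x (zero_add (n + 1)))) :
    IsZero ((LocCohZ.HZsh U (n + 1)).obj F) := by
  let J := Opens.grothendieckTopology X
  let T := LocCohZ.sectSuppF U
  let ι := sheafToPresheaf J AddCommGrpCat.{u}
  let sh := presheafToSheaf J AddCommGrpCat.{u}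
  obtain ⟨e⟩ := nonempty_rightDerived_iso U (n + 1)
  have hP : IsZero (sh.obj ((pF (ZqC U) (n + 1)).obj F)) := by
    apply Groth.Agent.Lib.SheafifyLocZero92.isZero_sheafify
    intro V x y hy
    let α : CohTop.HU F (n + 1) V :=
      (Abelian.Ext.mk₀ (πC U V)).comp (show Abelian.Ext ((ZqC U).obj V) F (n + 1) from x)
        (zero_add (n + 1))
    obtain ⟨V', hV', hyV', hres⟩ := Groth.Agent.Lib.AffVanTop.exists_res_eq_zero F n V α y hy
    refine ⟨V', hV', hyV', ?_⟩
    apply hinj V'
    change (Abelian.Ext.mk₀ (πC U V')).comp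
      (((pF (ZqC U) (n + 1)).obj F).map (homOfLE hV').op
        (show Abelian.Ext ((ZqC U).obj V) F (n + 1) from x)) (zero_add (n + 1)) =
      (Abelian.Ext.mk₀ (πC U V')).comp 0 (zero_add (n + 1))
    rw [Abelian.Ext.comp_zero]
    exact (toHU_pF_map U F (n + 1) (homOfLE hV') _).trans hres
  have e' : T ≅ (T ⋙ ι) ⋙ sh :=
    T.rightUnitor.symm ≪≫
      Functor.isoWhiskerLeft T (asIso (sheafificationAdjunction J AddCommGrpCat.{u}).counit).symm ≪≫
      (Functor.associator _ _ _).symm
  have e4 := Groth.Agent.Lib.RightDerivedPostComp.rightDerivedIsoOfIso e' (n + 1)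
  have e5 := Groth.Agent.Lib.RightDerivedPostComp.postCompIsoApp (T ⋙ ι) sh (n + 1) F
  exact hP.of_iso (e4.app F ≪≫ e5.symm ≪≫ sh.mapIso (e.app F))


/-- Consider a topological space X carrying an abelian sheaf F, a closed subset Z whose open complement
is U, and a natural number N > 0. Assume that, for each open V of X and each i < N, restricting
H^i(V, F) → H^i(V ∩ U, F) gives a bijection. Then ℋ^i_Z(F), the local cohomology sheaves, are zero
for every i ≤ N (no separate injectivity hypothesis in degree N is needed, since it follows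
automatically). -/
theorem result {X : TopCat.{u}} (F : CohTop.Ab X) (U : Opens X) (N : ℕ) (hN : 0 < N)
    (h : ∀ (V : Opens X) (i : ℕ), i < N → Function.Bijective (CohTop.res F i (inf_le_left : V ⊓ U ≤ V))) :
    ∀ i : ℕ, i ≤ N → IsZero ((LocCohZ.HZsh U i).obj F) := by
  intro i hi
  rcases hi.lt_or_eq with hlt | rfl
  · obtain ⟨m, rfl⟩ : ∃ m, N = m + 1 := ⟨N - 1, by omega⟩
    exact (Groth.Agent.S6020.result F U m).2
      (fun V => ⟨fun j hj => h V j (by omega), (h V m (by omega)).1⟩) i (by omega)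
  · obtain ⟨n, rfl⟩ : ∃ n, i = n + 1 := ⟨i - 1, by omega⟩
    apply isZero_of_injective F U n
    intro V
    have hS := LocCohZ.zqSeq_shortExact (X := X) (inf_le_left : V ⊓ U ≤ V)
    have hsurj : Function.Surjective
        ((Abelian.Ext.mk₀ (LocCohZ.zqSeq (inf_le_left : V ⊓ U ≤ V)).f).precomp F (zero_add n)) :=
      (h V n (by omega)).2
    have key : ∀ x₃ : Abelian.Ext (LocCohZ.zqSeq (inf_le_left : V ⊓ U ≤ V)).X₃ F (n + 1),
        (Abelian.Ext.mk₀ (LocCohZ.zqSeq (inf_le_left : V ⊓ U ≤ V)).g).comp x₃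
          (zero_add (n + 1)) = 0 → x₃ = 0 := by
      intro x₃ hx₃
      obtain ⟨x₁, rfl⟩ := Abelian.Ext.contravariant_sequence_exact₃ hS F x₃ hx₃ (n₀ := n) (by omega)
      obtain ⟨x₂, rfl⟩ := hsurj x₁
      exact hS.extClass_comp_assoc x₂
    have hinj' : Function.Injective
        ((Abelian.Ext.mk₀ (LocCohZ.zqSeq (inf_le_left : V ⊓ U ≤ V)).g).precomp F
          (zero_add (n + 1))) := by
      rw [injective_iff_map_eq_zero]
      exact key
    exact fun x x' hxx' => hinj' hxx'

end Groth.Agent.S6021
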