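import Groth.Statements.S6024
-- import your own Groth.Agent.* helpers here

set_option autoImplicit false
universe u
open CategoryTheory CategoryTheory.Limits TopologicalSpace
open LocCohZ

namespace Groth.Agent.S6024

open Opposite

/-- Under the hypothesis, every section over an open `U` extends to a global section. -/
theorem exists_global_extension {X : TopCat.{u}} (F : CohTop.Ab X)
    (h : ∀ U : Opens X, Subsingleton (LocCohZ.HZc F 1 U)) (U : Opens X)
    (s : F.obj.obj (op U)) :
    ∃ t : F.obj.obj (op (⊤ : Opens X)), (F.obj.map (homOfLE (le_top : U ≤ ⊤)).op).hom t = s := by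
  have hS := LocCohZ.zqSeq_shortExact (le_top : U ≤ ⊤)
  let x₁ : Abelian.Ext (LocCohZ.zqSeq (le_top : U ≤ ⊤)).X₁ F 0 :=
    Abelian.Ext.mk₀ (CohFree.ofSect (Opens.grothendieckTopology X) U F s)
  have hx₁ : hS.extClass.comp x₁ (by omega : 1 + 0 = 1) = 0 := by
    have := h U
    exact Subsingleton.elim (α := LocCohZ.HZc F 1 U) _ _
  obtain ⟨x₂, hx₂⟩ := Abelian.Ext.contravariant_sequence_exact₁ hS F x₁ (by omega) hx₁
  obtain ⟨ψ, rfl⟩ := Abelian.Ext.addEquiv₀.symm.surjective x₂
  refine ⟨CohFree.evalGen (Opens.grothendieckTopology X) ⊤ F ψ, ?_⟩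
  rw [← CohFree.evalGen_freeSheafMap_comp]
  have e : CohCx.freeSheafMap (Opens.grothendieckTopology X) (homOfLE (le_top : U ≤ ⊤)) ≫ ψ =
      CohFree.ofSect (Opens.grothendieckTopology X) U F s := by
    apply Abelian.Ext.addEquiv₀.symm.injective
    change Abelian.Ext.mk₀ _ = Abelian.Ext.mk₀ _
    rw [← Abelian.Ext.mk₀_comp_mk₀]
    exact hx₂
  rw [e, CohFree.evalGen_ofSect]

/-- Consider a topological space X carrying a sheaf of abelian groups F, and assume that H^1_Z(X, F)
vanishes for each closed subset Z of X (writing Z = X − U with U open). Under this assumption, F is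
flasque. -/
theorem result {X : TopCat.{u}} (F : CohTop.Ab X)
    (h : ∀ U : Opens X, Subsingleton (LocCohZ.HZc F 1 U)) : TopCat.Sheaf.IsFlasque F := by
  refine ⟨fun {U V} i => ?_⟩
  rw [AddCommGrpCat.epi_iff_surjective]
  intro s
  obtain ⟨t, ht⟩ := exists_global_extension F h V.unop s
  refine ⟨(F.obj.map (homOfLE (le_top : U.unop ≤ ⊤)).op).hom t, ?_⟩
  rw [← ht]
  change ((F.obj.map (homOfLE (le_top : U.unop ≤ ⊤)).op ≫ F.obj.map i).hom t) = _
  rw [← F.obj.map_comp]
  rfl

end Groth.Agent.S6024
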