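import Groth.Statements.S6029
import Groth.Agent.Lib.GrothSSFlex
import Groth.Agent.Lib.SectDerived
import Groth.Agent.Lib.FlasqueAcyclic

set_option autoImplicit false
universe u
open CategoryTheory CategoryTheory.Limits TopologicalSpace
open LocCohZ

namespace Groth.Agent.S6029

/-- For a closed subset Z = X − U of a topological space X and an abelian sheaf F on X: there is an E₂
spectral sequence of abelian groups with E₂^{p,q} ≅ H^p(X, ℋ^q_Z(F)) for p, q ≥ 0 (and 0 otherwise),
bounded, abutting with finite filtrations to H^n_Z(X, F) (n ≥ 0; 0 for n < 0). (Existence only: the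
E₂ identifications and the abutment isomorphisms are some isomorphisms, not the canonical maps of a
construction, so edge maps and low-degree exact sequences are not part of this statement.) -/
theorem result {X : TopCat.{u}} (F : CohTop.Ab X) (U : Opens X) :
    ∃ (E : E₂CohomologicalSpectralSequence AddCommGrpCat.{u})
      (a : SpSeq.Abutment E (fun n : ℤ =>
        if 0 ≤ n then AddCommGrpCat.of (LocCohZ.HZc F n.toNat U) else AddCommGrpCat.of PUnit.{u + 1})),
      (∀ n : ℤ, a.IsFinite n) ∧ SpSeq.IsBounded E ∧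
      ∀ p q : ℤ, Nonempty ((E.page 2 le_rfl).X (p, q) ≅
        (if 0 ≤ p ∧ 0 ≤ q then AddCommGrpCat.of (CohTop.HU ((LocCohZ.HZsh U q.toNat).obj F) p.toNat ⊤)
          else AddCommGrpCat.of PUnit.{u + 1})) := by
  have hT : ∀ Q : CohTop.Ab X, Injective Q → ∀ q : ℕ, 0 < q →
      IsZero (((Groth.Agent.Lib.RHZExt.Γtop X).rightDerived q).obj
        ((LocCohZ.sectSuppF U).obj Q)) := by
    intro Q hQ q hq
    obtain ⟨n, rfl⟩ : ∃ n, q = n + 1 := ⟨q - 1, by omega⟩
    have : TopCat.Sheaf.IsFlasque Q := Groth.Agent.Lib.FlasqueAcyclic.isFlasque_of_injective Q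
    have : TopCat.Sheaf.IsFlasque ((LocCohZ.sectSuppF U).obj Q) := Groth.Agent.S19245.result Q U
    obtain ⟨e⟩ := Groth.Agent.Lib.SectDerived.nonempty_rightDerived_obj_iso
      (Opens.grothendieckTopology X) (⊤ : Opens X) ((LocCohZ.sectSuppF U).obj Q) (n + 1)
    have := Groth.Agent.Lib.FlasqueAcyclic.subsingleton_HU ((LocCohZ.sectSuppF U).obj Q) ⊤ n
    exact (AddCommGrpCat.isZero_of_subsingleton _).of_iso e
  have eH : ∀ n : ℕ, Nonempty (((LocCohZ.sectSuppF U ⋙ Groth.Agent.Lib.RHZExt.Γtop X).rightDerived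
      n).obj F ≅ AddCommGrpCat.of (LocCohZ.HZc F n U)) := by
    intro n
    obtain ⟨e⟩ := Groth.Agent.Lib.RHZExt.nonempty_RHZ_iso U n
    exact ⟨e.app F ≪≫ (LocCohZ.HZcEquivHZFunctor F n U).symm.toAddCommGrpIso⟩
  exact Groth.Agent.Lib.GrothSSFlex.exists_grothendieck_flex (LocCohZ.sectSuppF U)
    (Groth.Agent.Lib.RHZExt.Γtop X) hT F (AddCommGrpCat.of PUnit.{u + 1})
    (AddCommGrpCat.isZero_of_subsingleton _)
    (fun n => AddCommGrpCat.of (LocCohZ.HZc F n U)) eH
    (fun p q => AddCommGrpCat.of (CohTop.HU ((LocCohZ.HZsh U q).obj F) p ⊤))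
    (fun p q => Groth.Agent.Lib.SectDerived.nonempty_rightDerived_obj_iso
      (Opens.grothendieckTopology X) (⊤ : Opens X) ((LocCohZ.HZsh U q).obj F) p)

end Groth.Agent.S6029
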