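import Groth.Statements.S6032
import Groth.Agent.S6031
import Groth.Agent.Lib.PuncturedCoh9b
import Groth.Agent.Lib.CechPushCompare

set_option autoImplicit false
universe u
open CategoryTheory CategoryTheory.Limits TopologicalSpace AlgebraicGeometry
open LocCohZ

namespace Groth.Agent.S6032

open Groth.Agent.Lib.PuncturedCoh9 Groth.Agent.Lib.TildePunct97 CohIII Opposite

section top

variable {X : TopCat.{u}} (F : CohTop.Ab X)

/-- `H^0(V, F) = F(V)`. -/
noncomputable def huEquiv (V : Opens X) : CohTop.HU F 0 V ≃+ F.obj.obj (op V) :=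
  (Abelian.Ext.addEquiv₀ (X := CohCx.freeSheaf (Opens.grothendieckTopology X) V) (Y := F)).trans
    (CohFree.homEquivSect (Opens.grothendieckTopology X) V F)

theorem huEquiv_res {W V : Opens X} (h : W ≤ V) (x : CohTop.HU F 0 V) :
    huEquiv F W ((Abelian.Ext.mk₀ (CohCx.freeSheafMap (Opens.grothendieckTopology X) (homOfLE h))).comp x
      (zero_add 0)) = (F.obj.map (homOfLE h).op).hom (huEquiv F V x) := by
  obtain ⟨φ, rfl⟩ : ∃ φ, x = Abelian.Ext.mk₀ φ := ⟨_, (Abelian.Ext.mk₀_addEquiv₀_apply x).symm⟩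
  rw [Abelian.Ext.mk₀_comp_mk₀]
  change CohFree.evalGen _ W F (Abelian.Ext.addEquiv₀ (Abelian.Ext.addEquiv₀.symm _)) =
    (F.obj.map (homOfLE h).op).hom (CohFree.evalGen _ V F
      (Abelian.Ext.addEquiv₀ (Abelian.Ext.addEquiv₀.symm _)))
  rw [AddEquiv.apply_symm_apply, AddEquiv.apply_symm_apply, CohFree.evalGen_freeSheafMap_comp]

/-- `H^1_Z(X,F) ≃ F(U)/im F(X)` when `H^1(X, F) = 0`. -/
theorem nonempty_HZ_one (U : Opens X) (hvan : ∀ α : CohTop.HU F 1 (⊤ : Opens X), α = 0) :
    Nonempty (HZc F 1 U ≃+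
      (F.obj.obj (op U)) ⧸ (F.obj.map (homOfLE (le_top : U ≤ ⊤)).op).hom.range) := by
  have hS := LocCohZ.zqSeq_shortExact (X := X) (le_top : U ≤ ⊤)
  refine nonempty_addEquiv_quotient (LocCohZ.delta F 0 (le_top : U ≤ ⊤)) ?_ (huEquiv F U) _ ?_
  · intro x₃
    obtain ⟨x₁, hx₁⟩ := Abelian.Ext.contravariant_sequence_exact₃ hS F x₃
      (hvan _) (n₀ := 0) (by omega)
    exact ⟨x₁, hx₁⟩
  · intro y
    constructor
    · intro hy
      obtain ⟨x₂, hx₂⟩ := Abelian.Ext.contravariant_sequence_exact₁ hS F y (by omega) hy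
      refine ⟨huEquiv F ⊤ x₂, ?_⟩
      rw [← hx₂]
      exact (huEquiv_res F (le_top : U ≤ ⊤) x₂).symm
    · rintro ⟨s, hs⟩
      obtain ⟨x₂, rfl⟩ := (huEquiv F ⊤).surjective s
      have h1 := huEquiv_res F (le_top : U ≤ ⊤) x₂
      have h2 : y = (Abelian.Ext.mk₀ (CohCx.freeSheafMap (Opens.grothendieckTopology X)
          (homOfLE (le_top : U ≤ ⊤)))).comp x₂ (zero_add 0) :=
        (huEquiv F U).injective (hs.symm.trans h1.symm)
      rw [h2]
      exact hS.extClass_comp_assoc x₂ (h := by omega)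

end top

end Groth.Agent.S6032

namespace Groth.Agent.S6032

open Groth.Agent.Lib.PuncturedCoh9 Groth.Agent.Lib.TildePunct97 CohIII Opposite

section spec

variable (A : Type u) [CommRing A] (fs : List A) (M : Type u) [AddCommGroup M] [Module A M]

/-- the punctured open. -/
abbrev UU : (Spec (CommRingCat.of A)).Opens := LocCoh.puncturedOpen A (Ideal.span {a | a ∈ fs})

/-- the abelian sheaf of `M~`. -/
noncomputable abbrev Fab : CohTop.Ab (Spec (CommRingCat.of A)).carrier :=
  Coh.toAb (AlgebraicGeometry.tilde (R := CommRingCat.of A) (ModuleCat.of A M))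

theorem hleU (i : Fin fs.length) : PrimeSpectrum.basicOpen (fs.get i) ≤ UU A fs := by
  intro x hx hx'
  have : fs.get i ∈ Ideal.span {a | a ∈ fs} := Ideal.subset_span (List.get_mem _ _)
  exact hx (hx' this)

theorem hcovU : UU A fs ≤ ⨆ i : Fin fs.length, PrimeSpectrum.basicOpen (fs.get i) := by
  intro x hx
  have h1 : ¬ (((Ideal.span {a | a ∈ fs} : Ideal A) : Set A) ⊆ (PrimeSpectrum.asIdeal x : Set A)) := hx
  have h2 : ∃ f ∈ fs, f ∉ PrimeSpectrum.asIdeal x := by
    by_contra hcon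
    apply h1
    exact (Submodule.span_le.mpr (fun f hf => by
      by_contra hfx
      exact hcon ⟨f, hf, hfx⟩))
  obtain ⟨f, hf, hfx⟩ := h2
  obtain ⟨i, hi⟩ := List.mem_iff_get.mp hf
  exact TopologicalSpace.Opens.mem_iSup.mpr ⟨i, by rw [hi]; exact hfx⟩

theorem res_eq (V W : (Spec (CommRingCat.of A)).Opens) (h : W ≤ V)
    (s : ↑((F M).presheaf.obj (op V))) :
    ((Fab A M).obj.map (homOfLE h).op).hom s = res M h s := rfl

theorem tilde_isQCoh (R' : CommRingCat.{u}) (N : ModuleCat.{u} R') :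
    Coh.IsQCoh (AlgebraicGeometry.tilde N) := by
  change (AlgebraicGeometry.tilde N).IsQuasicoherent
  infer_instance

theorem eps_top_bijective :
    Function.Bijective (eps M (⊤ : (Spec (CommRingCat.of A)).Opens)) :=
  @ConcreteCategory.bijective_of_isIso _ _ _ _ _ _ _ _
    (tilde.toOpen (R := CommRingCat.of A) (ModuleCat.of A M) ⊤)
    (tilde.isIso_toOpen_top (R := CommRingCat.of A) (M := ModuleCat.of A M))

theorem deg0 : Nonempty (koszulHLim fs (ModuleCat.of A M) 0 ≃+
    LocCohZ.HZM (Spec (CommRingCat.of A))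
      (AlgebraicGeometry.tilde (R := CommRingCat.of A) (ModuleCat.of A M)) 0 (UU A fs)) := by
  obtain ⟨⟨e⟩, -⟩ := transformSpec M fs (UU A fs) (hleU A fs) (hcovU A fs)
  let φ : LinearMap.ker (eps M (UU A fs)) →+ sectZ (Fab A M) (le_top : UU A fs ≤ ⊤) :=
    { toFun := fun m => ⟨eps M ⊤ m.1, by
        rw [AddMonoidHom.mem_ker]
        change res M le_top (eps M ⊤ m.1) = 0
        rw [res_eps]
        exact m.2⟩
      map_zero' := Subtype.ext (map_zero _)
      map_add' := fun a b => Subtype.ext (map_add _ _ _) }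
  have hφ : Function.Bijective φ := by
    refine ⟨fun a b hab => Subtype.ext ((eps_top_bijective A M).1 (congrArg Subtype.val hab)), ?_⟩
    rintro ⟨s, hs⟩
    obtain ⟨m, rfl⟩ := (eps_top_bijective A M).2 s
    refine ⟨⟨m, ?_⟩, rfl⟩
    rw [AddMonoidHom.mem_ker] at hs
    exact hs
  exact ⟨e.symm.toAddEquiv.trans ((AddEquiv.ofBijective φ hφ).trans
    (sect0Equiv (Fab A M) le_top).symm)⟩

theorem deg1 : Nonempty (koszulHLim fs (ModuleCat.of A M) 1 ≃+
    LocCohZ.HZM (Spec (CommRingCat.of A))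
      (AlgebraicGeometry.tilde (R := CommRingCat.of A) (ModuleCat.of A M)) 1 (UU A fs)) := by
  obtain ⟨-, ⟨e⟩⟩ := transformSpec M fs (UU A fs) (hleU A fs) (hcovU A fs)
  have hq : Coh.IsQCoh (AlgebraicGeometry.tilde (R := CommRingCat.of A) (ModuleCat.of A M)) :=
    tilde_isQCoh (CommRingCat.of A) (ModuleCat.of A M)
  obtain ⟨e1⟩ := nonempty_HZ_one (Fab A M) (UU A fs) (fun α =>
    Groth.Agent.Lib.AffVan.HU_eq_zero_of_isAffineOpen _ hq 0 (isAffineOpen_top _) α)
  have hr : ((Fab A M).obj.map (homOfLE (le_top : UU A fs ≤ ⊤)).op).hom.range =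
      (LinearMap.range (eps M (UU A fs))).toAddSubgroup := by
    ext s
    constructor
    · rintro ⟨t, rfl⟩
      obtain ⟨m, rfl⟩ := (eps_top_bijective A M).2 t
      exact ⟨m, rfl⟩
    · rintro ⟨m, rfl⟩
      exact ⟨eps M ⊤ m, rfl⟩
  rw [hr] at e1
  exact ⟨e.symm.toAddEquiv.trans (AddEquiv.trans
    (QuotientAddGroup.quotientAddEquivOfEq rfl) e1.symm)⟩

theorem deg2 (q : ℕ) : Nonempty (koszulHLim fs (ModuleCat.of A M) (q + 2) ≃+
    LocCohZ.HZM (Spec (CommRingCat.of A))
      (AlgebraicGeometry.tilde (R := CommRingCat.of A) (ModuleCat.of A M)) (q + 2) (UU A fs)) := by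
  have hq : Coh.IsQCoh (AlgebraicGeometry.tilde (R := CommRingCat.of A) (ModuleCat.of A M)) :=
    tilde_isQCoh (CommRingCat.of A) (ModuleCat.of A M)
  have hδ := (Groth.Agent.S6031.result (Spec (CommRingCat.of A)) _ hq (UU A fs)).2 (q + 1) (by omega)
  obtain ⟨e1⟩ := Groth.Agent.Lib.CechPushCompare.nonempty_HU_addEquiv_HHon
    (AlgebraicGeometry.tilde (R := CommRingCat.of A) (ModuleCat.of A M)) (UU A fs) (q + 1)
  have htop : (UU A fs).ι ''ᵁ ⊤ = UU A fs := Scheme.Opens.ι_image_top _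
  obtain ⟨e2⟩ := main2 (UU A fs) fs (fun i => by rw [htop]; exact hleU A fs i)
    (by rw [htop]; exact hcovU A fs) q M
  exact ⟨e2.symm.trans (e1.symm.trans (AddEquiv.ofBijective _ hδ))⟩

end spec

end Groth.Agent.S6032

namespace Groth.Agent.S6032


/-- Let A be a commutative ring, f = (f_1, …, f_r) a finite family of elements of A with zero locus Y in
X = Spec A, and M an A-module with associated sheaf M~. For every i the group colim_n H^i(f^n, M)
(direct limit of Koszul cohomology of the powers) is isomorphic to H^i_Y(X, M~). (Existence of an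
additive isomorphism in each degree; the published statement has an isomorphism of ∂-functors in M.) -/
theorem result (A : Type u) [CommRing A] (fs : List A) (M : Type u)
    [AddCommGroup M] [Module A M] (i : ℕ) :
    Nonempty (CohIII.koszulHLim fs (ModuleCat.of A M) i ≃+
      LocCohZ.HZM (Spec (CommRingCat.of A)) (AlgebraicGeometry.tilde (R := CommRingCat.of A) (ModuleCat.of A M)) i
        (LocCoh.puncturedOpen A (Ideal.span {a | a ∈ fs}))) := by
  match i with
  | 0 => exact deg0 A fs M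
  | 1 => exact deg1 A fs M
  | (q + 2) => exact deg2 A fs M q

end Groth.Agent.S6032
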