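import Groth.Statements.S6033
import Groth.Agent.S6032

set_option autoImplicit false
universe u
open CategoryTheory CategoryTheory.Limits TopologicalSpace AlgebraicGeometry
open LocCohZ

namespace Groth.Agent.S6033

open Groth.Agent.Lib.PuncturedCoh9 Groth.Agent.Lib.TildePunct97 CohIII Opposite
open Groth.Agent.S6032

section aux

variable (A : Type u) [CommRing A] (M : Type u) [AddCommGroup M] [Module A M]

theorem res_surjective_of_flasque
    (hfl : TopCat.Sheaf.IsFlasque (Fab A M))
    {U V : (Spec (CommRingCat.of A)).Opens} (h : V ≤ U) : Function.Surjective (res M h) := by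
  have h1 : Epi ((Fab A M).obj.map (homOfLE h).op) := hfl.epi (homOfLE h).op
  rw [AddCommGrpCat.epi_iff_surjective] at h1
  exact h1

theorem eps_surjective_of_flasque
    (hfl : TopCat.Sheaf.IsFlasque (Fab A M))
    (V : (Spec (CommRingCat.of A)).Opens) : Function.Surjective (eps M V) := by
  intro y
  obtain ⟨t, rfl⟩ := res_surjective_of_flasque A M hfl (le_top : V ≤ ⊤) y
  obtain ⟨m, rfl⟩ := (eps_top_bijective A M).2 t
  exact ⟨m, (res_eps M le_top m).symm⟩

theorem flasque_of_eps_surjective
    (h : ∀ V : (Spec (CommRingCat.of A)).Opens, Function.Surjective (eps M V)) :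
    TopCat.Sheaf.IsFlasque (Fab A M) := by
  constructor
  intro U V i
  rw [AddCommGrpCat.epi_iff_surjective]
  intro y
  obtain ⟨m, rfl⟩ := h V.unop y
  exact ⟨eps M U.unop m, res_eps M (leOfHom i.unop) m⟩

theorem subsingleton_HZc_of_flasque (hfl : TopCat.Sheaf.IsFlasque (Fab A M))
    (U : (Spec (CommRingCat.of A)).Opens) (i : ℕ) (hi : 0 < i) :
    Subsingleton (HZc (Fab A M) i U) := by
  haveI := hfl
  obtain ⟨n, rfl⟩ : ∃ n, i = n + 1 := ⟨i - 1, by omega⟩
  have htop : ∀ α : CohTop.HU (Fab A M) (n + 1) (⊤ : Opens _), α = 0 := fun α =>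
    (Groth.Agent.Lib.FlasqueAcyclic.subsingleton_HU (Fab A M) ⊤ n).elim _ _
  rcases n with _ | n
  · obtain ⟨e⟩ := nonempty_HZ_one (Fab A M) U htop
    have hs : ((Fab A M).obj.map (homOfLE (le_top : U ≤ ⊤)).op).hom.range = ⊤ := by
      rw [AddMonoidHom.range_eq_top]
      exact res_surjective_of_flasque A M hfl (le_top : U ≤ ⊤)
    haveI : Subsingleton ((Fab A M).obj.obj (op U) ⧸
        ((Fab A M).obj.map (homOfLE (le_top : U ≤ ⊤)).op).hom.range) := by
      rw [hs]
      exact QuotientAddGroup.subsingleton_quotient_top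
    exact e.toEquiv.subsingleton
  · refine subsingleton_of_forall_eq 0 fun x₃ => ?_
    have hS := LocCohZ.zqSeq_shortExact (X := (Spec (CommRingCat.of A)).carrier) (le_top : U ≤ ⊤)
    obtain ⟨x₁, hx₁⟩ := Abelian.Ext.contravariant_sequence_exact₃ hS (Fab A M) x₃
      (htop _) (n₀ := n + 1) (by omega)
    have : x₁ = 0 := (Groth.Agent.Lib.FlasqueAcyclic.subsingleton_HU (Fab A M) U n).elim _ _
    rw [← hx₁, this, Abelian.Ext.comp_zero]
    rfl

end aux


/-- Let A be a commutative ring such that the underlying space of X = Spec A is Noetherian. Then M~ is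
flasque for every injective A-module M if and only if colim_n H^1(f^n, M) = 0 (direct limit of
Koszul cohomology of the powers) for every finite family f of elements of A and every injective
A-module M; and in that case colim_n H^i(f^n, M) = 0 for all i > 0 as well. -/
theorem result (A : Type u) [CommRing A]
    [NoetherianSpace (PrimeSpectrum A)] :
    ((∀ (M : Type u) [AddCommGroup M] [Module A M], Module.Injective A M →
        TopCat.Sheaf.IsFlasque (Coh.toAb (AlgebraicGeometry.tilde (R := CommRingCat.of A) (ModuleCat.of A M)))) ↔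
      ∀ (fs : List A) (M : Type u) [AddCommGroup M] [Module A M], Module.Injective A M →
        Subsingleton (CohIII.koszulHLim fs (ModuleCat.of A M) 1)) ∧
    ((∀ (M : Type u) [AddCommGroup M] [Module A M], Module.Injective A M →
        TopCat.Sheaf.IsFlasque (Coh.toAb (AlgebraicGeometry.tilde (R := CommRingCat.of A) (ModuleCat.of A M)))) →
      ∀ (fs : List A) (M : Type u) [AddCommGroup M] [Module A M], Module.Injective A M →
        ∀ i : ℕ, 0 < i → Subsingleton (CohIII.koszulHLim fs (ModuleCat.of A M) i)) := by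
  refine ⟨⟨?_, ?_⟩, ?_⟩
  · intro hfl fs M _ _ hM
    exact (eps_surjective_iff M fs (⨆ i : Fin fs.length, PrimeSpectrum.basicOpen (fs.get i))
      (fun i => le_iSup (fun i : Fin fs.length =>
        (PrimeSpectrum.basicOpen (fs.get i) : (Spec (CommRingCat.of A)).Opens)) i) le_rfl).1
      (eps_surjective_of_flasque A M (hfl M hM) _)
  · intro hK M _ _ hM
    refine flasque_of_eps_surjective A M (fun V => ?_)
    haveI : NoetherianSpace ↥(Spec (CommRingCat.of A)) :=
      inferInstanceAs (NoetherianSpace (PrimeSpectrum A))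
    obtain ⟨fs, hle, hcov⟩ := exists_list_of_isCompact V (NoetherianSpace.isCompact _)
    rw [eps_surjective_iff M fs V hle hcov]
    exact hK fs M hM
  · intro hfl fs M _ _ hM i hi
    obtain ⟨e⟩ := Groth.Agent.S6032.result A fs M i
    haveI : Subsingleton (LocCohZ.HZM (Spec (CommRingCat.of A))
        (AlgebraicGeometry.tilde (R := CommRingCat.of A) (ModuleCat.of A M)) i
        (LocCoh.puncturedOpen A (Ideal.span {a | a ∈ fs}))) :=
      subsingleton_HZc_of_flasque A M (hfl M hM) _ i hi
    exact e.toEquiv.subsingleton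

end Groth.Agent.S6033
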