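import Groth.Statements.S6037
import Groth.Agent.Lib.GrothSSFlex
import Groth.Agent.Lib.PushSupp
import Groth.Agent.S0904

set_option autoImplicit false
universe u
open CategoryTheory CategoryTheory.Limits TopologicalSpace
open LocCohZ

namespace Groth.Agent.S6037

/-- Let f : X → Y be a continuous map of topological spaces, Y' a closed subset of Y with open
complement V, X' = f⁻¹(Y') and F an abelian sheaf on X. There is an E₂ spectral sequence of abelian
groups with E₂^{p,q} ≅ H^p_{Y'}(Y, R^q f_* F) for p, q ≥ 0 (0 otherwise), bounded, abutting with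
finite filtrations to H^n_{X'}(X, F). (The published statement is for a morphism of ringed spaces
and records module structures over the global sections of O_Y; here only abelian groups. Existence
only: the E₂ identifications and abutment isomorphisms are some isomorphisms, not the canonical
ones.) -/
theorem result {X Y : TopCat.{u}} (f : X ⟶ Y)
    (V : Opens Y) (F : CohTop.Ab X) :
    ∃ (E : E₂CohomologicalSpectralSequence AddCommGrpCat.{u})
      (a : SpSeq.Abutment E (fun n : ℤ =>
        if 0 ≤ n then AddCommGrpCat.of (LocCohZ.HZc F n.toNat ((Opens.map f).obj V))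
          else AddCommGrpCat.of PUnit.{u + 1})),
      (∀ n : ℤ, a.IsFinite n) ∧ SpSeq.IsBounded E ∧
      ∀ p q : ℤ, Nonempty ((E.page 2 le_rfl).X (p, q) ≅
        (if 0 ≤ p ∧ 0 ≤ q then AddCommGrpCat.of (LocCohZ.HZc ((CohTop.Rpush f q.toNat).obj F) p.toNat V)
          else AddCommGrpCat.of PUnit.{u + 1})) := by
  have hT : ∀ Q : CohTop.Ab X, Injective Q → ∀ q : ℕ, 0 < q →
      IsZero (((LocCohZ.gammaZF V).rightDerived q).obj ((CohTop.push f).obj Q)) := by
    intro Q hQ q hq
    obtain ⟨n, rfl⟩ : ∃ n, q = n + 1 := ⟨q - 1, by omega⟩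
    have := Groth.Agent.S0904.result f Q
    exact Functor.isZero_rightDerived_obj_injective_succ _ n _
  have eH : ∀ n : ℕ, Nonempty (((CohTop.push f ⋙ LocCohZ.gammaZF V).rightDerived n).obj F ≅
      AddCommGrpCat.of (LocCohZ.HZc F n ((Opens.map f).obj V))) := by
    intro n
    obtain ⟨e₀⟩ := Groth.Agent.Lib.PushSupp.nonempty_push_gammaZF_iso f V
    obtain ⟨e⟩ := Groth.Agent.Lib.RHZExt.nonempty_RHZ_iso ((Opens.map f).obj V) n
    exact ⟨(Groth.Agent.Lib.RightDerivedPostComp.rightDerivedIsoOfIso e₀ n).app F ≪≫ e.app F ≪≫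
      (LocCohZ.HZcEquivHZFunctor F n _).symm.toAddCommGrpIso⟩
  have eE : ∀ p q : ℕ, Nonempty (((LocCohZ.gammaZF V).rightDerived p).obj
      (((CohTop.push f).rightDerived q).obj F) ≅
      AddCommGrpCat.of (LocCohZ.HZc ((CohTop.Rpush f q).obj F) p V)) := by
    intro p q
    obtain ⟨e⟩ := Groth.Agent.Lib.RHZExt.nonempty_RHZ_iso V p
    exact ⟨e.app _ ≪≫ (LocCohZ.HZcEquivHZFunctor _ p V).symm.toAddCommGrpIso⟩
  exact Groth.Agent.Lib.GrothSSFlex.exists_grothendieck_flex (CohTop.push f)
    (LocCohZ.gammaZF V) hT F (AddCommGrpCat.of PUnit.{u + 1})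
    (AddCommGrpCat.isZero_of_subsingleton _)
    (fun n => AddCommGrpCat.of (LocCohZ.HZc F n ((Opens.map f).obj V))) eH
    (fun p q => AddCommGrpCat.of (LocCohZ.HZc ((CohTop.Rpush f q).obj F) p V)) eE

end Groth.Agent.S6037
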