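import Groth.Statements.S6038
import Groth.Agent.Lib.AffineLocCoh9c
import Groth.Agent.Lib.AffineLocCoh9d
import Groth.Agent.S6026
import Groth.Agent.Lib.RestrictStalk
import Groth.Agent.Lib.H90CohRestrict

set_option autoImplicit false
universe u
open CategoryTheory CategoryTheory.Limits TopologicalSpace AlgebraicGeometry
open LocCohZ

namespace Groth.Agent.S6038

open AlgebraicGeometry CategoryTheory CategoryTheory.Limits TopologicalSpace Opposite LocCohZ
open Groth.Agent.Lib Groth.Agent.Lib.AffineLocCoh9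

theorem local_vanish (X : Scheme.{u}) [IsLocallyNoetherian X] (U V : X.Opens) (hV : IsAffineOpen V)
    (G : X.Modules) (hG : Coh.IsCoh G)
    (i : ℕ) (hi : ∀ x : X, x ∉ (U : Set X) → ringKrullDim (X.presheaf.stalk x) < (i : WithBot ℕ∞)) :
    Subsingleton (LocCohZ.HZ (X := X.carrier) (Coh.toAb G) i (inf_le_left : V ⊓ U ≤ V)) := by
  obtain ⟨e, -⟩ := Groth.Agent.S6026.result (X := X.carrier) (inf_le_left : V ⊓ U ≤ V) i
  haveI : IsAffine (V : Scheme.{u}) := hV
  haveI : IsNoetherianRing Γ((V : Scheme.{u}), ⊤) :=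
    IsLocallyNoetherian.component_noetherian ⟨⊤, isAffineOpen_top (V : Scheme.{u})⟩
  haveI : (G.restrict V.ι).IsQuasicoherent := (H90CohRestrict.isCoh_restrict V.ι G hG).1
  have hs : Subsingleton (LocCohZ.HZM (V : Scheme.{u}) (G.restrict V.ι) i
      ((Opens.map (CohCx.incl V)).obj (V ⊓ U))) := by
    apply HZM_vanish_of_dim
    intro x' hx'
    rw [ringKrullDim_eq_of_ringEquiv (RestrictStalk.stalkRingEquiv V.ι x').symm]
    exact hi (V.ι x') (fun hx => hx' ⟨x'.2, hx⟩)
  exact @Equiv.subsingleton _ _ (e (Coh.toAb G)).toEquiv hs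


/-- In the case F = O_X (where Ext^i_Y(O_X, G) is the local cohomology sheaf ℋ^i_Y(G)). Let X be a
locally Noetherian scheme whose local rings are all regular, Y a closed subset with open complement
U, G a coherent O_X-module with underlying abelian sheaf F, and i a natural number with dim O_{X,x}
< i for every x ∈ Y. Then ℋ^i_Y(F) = 0. -/
theorem result (X : Scheme.{u}) [IsLocallyNoetherian X]
    (hreg : ∀ x : X, IsRegularLocalRing (X.presheaf.stalk x)) (U : X.Opens) (G : X.Modules) (hG : Coh.IsCoh G)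
    (i : ℕ) (hi : ∀ x : X, x ∉ (U : Set X) → ringKrullDim (X.presheaf.stalk x) < (i : WithBot ℕ∞)) :
    IsZero ((LocCohZ.HZsh (X := X.carrier) U i).obj (Coh.toAb G)) := by
  exact isZero_HZsh_of_basis (X := X.carrier) (Coh.toAb G) U i X.affineOpens
    X.isBasis_affineOpens (fun V hV => local_vanish X U V hV G hG i hi)

end Groth.Agent.S6038
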