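import Groth.Statements.S6040
import Groth.Agent.Lib.OpenShriek
import Groth.Agent.Lib.DerivedCompExact

set_option autoImplicit false
universe u
open CategoryTheory CategoryTheory.Limits TopologicalSpace
open LocCohZ

namespace Groth.Agent.S6040

lemma nonempty_iso_of_eq {X Y : TopCat.{u}} {g g' : X ⟶ Y} (h : g = g')
    (hg : (CohTop.push g).Additive) (hg' : (CohTop.push g').Additive) (q : ℕ) :
    Nonempty ((CohTop.push g).rightDerived q ≅ (CohTop.push g').rightDerived q) := by
  subst h
  exact ⟨Iso.refl _⟩


/-- Let X be a topological space, U an open subset and j : U → X the inclusion, so that the sheaf of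
sections with supports in the open U is Γ_U(F) = j_*(F|_U). For every q the local cohomology sheaf
functor ℋ^q_U, i.e. the q-th right derived functor of F ↦ j_*(F|_U), is isomorphic to F ↦ R^q
j_*(F|_U). (Existence of an isomorphism of functors for each q.) -/
theorem result {X : TopCat.{u}} (U : Opens X) (q : ℕ) :
    Nonempty (CohCx.RpushOn (𝟙 X) U q ≅ CohTop.restrFunctor U ⋙ CohTop.Rpush (CohCx.incl U) q) := by
  obtain ⟨e⟩ := nonempty_iso_of_eq (Category.comp_id (CohCx.incl U)) inferInstance
    (CohTop.instAdditiveAbPush _) q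
  exact ⟨Groth.Agent.Lib.DerivedCompExact.rightDerivedCompIso (CohTop.restrFunctor U)
    (CohTop.push (CohCx.incl U ≫ 𝟙 X)) (Groth.Agent.Lib.OpenShriek.shriekAdj U) q ≪≫
      Functor.isoWhiskerLeft _ e⟩

end Groth.Agent.S6040
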