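import Groth.Statements.S6041
import Groth.Agent.Lib.H69AlgSp
import Groth.Agent.Lib.H69QuotPres
import Groth.Agent.Lib.H69DescentAffine

set_option autoImplicit false
open CategoryTheory CategoryTheory.Limits AlgebraicGeometry MonoidalCategory
universe u
open GrpQ

namespace Groth.Agent.S6041

section Aux
open Groth.Agent.Lib.H69QuotPres

/-- Descent of a map out of `h_Z` along an fppf cover `p : Z ⟶ T` (in terms of `QuotSh.rep`). -/
theorem existsUnique_desc {S : Scheme.{u}} {Z T : Over S} (p : Z ⟶ T)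
    [Flat p.left] [Surjective p.left] [LocallyOfFinitePresentation p.left]
    {F : AlgSp.Sp S} (a : QuotSh.rep Scheme.fppfPrecoverage Z ⟶ F)
    (ha : QuotSh.repMap Scheme.fppfPrecoverage (pullback.fst p p) ≫ a =
      QuotSh.repMap Scheme.fppfPrecoverage (pullback.snd p p) ≫ a) :
    ∃! σ : QuotSh.rep Scheme.fppfPrecoverage T ⟶ F,
      a = QuotSh.repMap Scheme.fppfPrecoverage p ≫ σ := by
  have hk : IsKernelPair p (pullback.fst p p) (pullback.snd p p) := IsPullback.of_hasPullback p p
  have hkY : IsKernelPair ((AlgSp.yon S).map p) ((AlgSp.yon S).map (pullback.fst p p))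
      ((AlgSp.yon S).map (pullback.snd p p)) := hk.map (AlgSp.yon S)
  have hloc := Groth.Agent.Lib.H69DescentAffine.isLocallySurjective_yon_map p
  have hepi : Epi ((AlgSp.yon S).map p) := (Sheaf.isLocallySurjective_iff_epi _).1 hloc
  have hreg : RegularEpi ((AlgSp.yon S).map p) := regularEpiOfEpi _
  have hcolim := hkY.toCoequalizer hreg
  have ha' : (AlgSp.yon S).map (pullback.fst p p) ≫ (rIso Z).inv ≫ a =
      (AlgSp.yon S).map (pullback.snd p p) ≫ (rIso Z).inv ≫ a := by
    rw [← Category.assoc, ← rIso_inv_naturality, ← Category.assoc, ← rIso_inv_naturality,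
      Category.assoc, Category.assoc, ha]
  let η : (AlgSp.yon S).obj T ⟶ F := Cofork.IsColimit.desc hcolim ((rIso Z).inv ≫ a) ha'
  have hη : (AlgSp.yon S).map p ≫ η = (rIso Z).inv ≫ a := Cofork.IsColimit.π_desc' hcolim _ ha'
  have hepi' : Epi (QuotSh.repMap Scheme.fppfPrecoverage p) := by
    have h1 : QuotSh.repMap Scheme.fppfPrecoverage p =
        (rIso Z).hom ≫ (AlgSp.yon S).map p ≫ (rIso T).inv := by
      rw [← Category.assoc, ← rIso_naturality, Category.assoc, Iso.hom_inv_id, Category.comp_id]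
    rw [h1]
    infer_instance
  refine ⟨(rIso T).hom ≫ η, ?_, ?_⟩
  · change a = _
    rw [← Category.assoc, rIso_naturality, Category.assoc, hη, Iso.hom_inv_id_assoc]
  · intro σ hσ
    change a = _ at hσ
    rw [← cancel_epi (QuotSh.repMap Scheme.fppfPrecoverage p), ← hσ, ← Category.assoc,
      rIso_naturality, Category.assoc, hη, Iso.hom_inv_id_assoc]


theorem repMap_comp (K : Precoverage Scheme.{u}) {S : Scheme.{u}} {A B C : Over S} (f : A ⟶ B) (g : B ⟶ C) :
    QuotSh.repMap K (f ≫ g) = QuotSh.repMap K f ≫ QuotSh.repMap K g := by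
  rw [← Functor.map_comp, ← Functor.whiskerRight_comp, ← yoneda.map_comp]

end Aux

open CartesianMonoidalCategory in
/-- For schemes and the fppf topology, easy direction: let `s, t : R ⇉ U` be a pair of morphisms of
schemes over `S` (in the source an equivalence relation), `T` a scheme over `S` and `i : Z ⟶ U ×_S
T` such that `Z ⟶ T` is flat, surjective and locally of finite presentation and any two points of
`Z` over the same point of `T` have `R`-related images in `U`. Then the composite `h_Z ⟶ h_U ⟶ U/R`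
descends to exactly one section of the fppf quotient sheaf `U/R` over `T`. -/
theorem result {S : Scheme.{u}} {R U : Over S} (s t : R ⟶ U)
    (T Z : Over S) (i : Z ⟶ U ⊗ T)
    [Flat (i ≫ snd U T).left] [Surjective (i ≫ snd U T).left] [LocallyOfFinitePresentation (i ≫ snd U T).left]
    (hZZ : ∀ (T' : Over S) (z₁ z₂ : T' ⟶ Z), z₁ ≫ i ≫ snd U T = z₂ ≫ i ≫ snd U T →
      ∃ r : T' ⟶ R, r ≫ s = z₁ ≫ i ≫ fst U T ∧ r ≫ t = z₂ ≫ i ≫ fst U T) :
    ∃! σ : QuotSh.rep Scheme.fppfPrecoverage T ⟶ QuotSh.quot Scheme.fppfPrecoverage s t,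
      QuotSh.repMap Scheme.fppfPrecoverage (i ≫ fst U T) ≫ QuotSh.quotπ Scheme.fppfPrecoverage s t =
        QuotSh.repMap Scheme.fppfPrecoverage (i ≫ snd U T) ≫ σ := by
  obtain ⟨r, hr1, hr2⟩ := hZZ (pullback (i ≫ snd U T) (i ≫ snd U T))
    (pullback.fst _ _) (pullback.snd _ _) pullback.condition
  refine existsUnique_desc (i ≫ snd U T)
    (QuotSh.repMap Scheme.fppfPrecoverage (i ≫ fst U T) ≫ QuotSh.quotπ Scheme.fppfPrecoverage s t) ?_
  rw [← Category.assoc, ← repMap_comp, ← hr1, ← Category.assoc, ← repMap_comp, ← hr2,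
    repMap_comp, repMap_comp, Category.assoc, Category.assoc, QuotSh.quot_condition]

end Groth.Agent.S6041
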