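import Groth.Statements.S6045
import Groth.Agent.Lib.SchDDFamFF
import Mathlib.AlgebraicGeometry.Cover.Sigma

set_option autoImplicit false
open CategoryTheory CategoryTheory.Limits AlgebraicGeometry
universe u
open GrpQ

namespace Groth.Agent.S6045

section Aux

universe w

set_option backward.isDefEq.respectTransparency false in
lemma isOpen_of_cover_of_isAffine {S : Scheme.{u}} [IsAffine S]
    (𝒰 : Scheme.Cover.{w} (Scheme.precoverage @Flat) S) [QuasiCompactCover 𝒰.toPreZeroHypercover]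
    (s : Set S) (H : ∀ i, IsOpen ((𝒰.f i).base ⁻¹' s)) : IsOpen s := by
  obtain ⟨𝒱, f, hfin, -⟩ := QuasiCompactCover.exists_hom 𝒰
  have : Finite 𝒱.cover.I₀ := hfin
  have : Small.{u} 𝒱.cover.I₀ := inferInstance
  have hA : ∀ i, IsAffine (𝒱.cover.X i) := fun i => by
    dsimp [Scheme.AffineCover.cover]; infer_instance
  let p : ∐ 𝒱.cover.X ⟶ S := Sigma.desc 𝒱.cover.f
  have hp1 : Surjective p := ⟨fun s => by
    obtain ⟨i, y, rfl⟩ := 𝒱.cover.exists_eq s
    exact ⟨Sigma.ι 𝒱.cover.X i y, by simp [← Scheme.Hom.comp_apply, p]⟩⟩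
  have hp2 : Flat p := IsZariskiLocalAtSource.sigmaDesc 𝒱.cover.map_prop
  have hp3 : QuasiCompact p := by
    have : IsAffine (∐ 𝒱.cover.X) := inferInstance
    infer_instance
  rw [← (Flat.isQuotientMap_of_surjective p).isOpen_preimage]
  rw [(sigmaOpenCover 𝒱.cover.X).isOpenCover_opensRange.isOpen_iff_inter]
  intro j
  rw [Scheme.Hom.coe_opensRange, ← Set.image_preimage_eq_inter_range]
  apply ((sigmaOpenCover 𝒱.cover.X).f j).isOpenEmbedding.isOpenMap
  have e : f.h₀ j ≫ 𝒰.f (f.s₀ j) = Sigma.ι 𝒱.cover.X j ≫ p := by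
    rw [f.w₀ j]; simp [p]
  change IsOpen ((Sigma.ι 𝒱.cover.X j).base ⁻¹' (p.base ⁻¹' s))
  rw [← Set.preimage_comp, ← TopCat.coe_comp, ← Scheme.Hom.comp_base, ← e,
    Scheme.Hom.comp_base, TopCat.coe_comp, Set.preimage_comp]
  exact (H _).preimage (f.h₀ j).continuous

set_option backward.isDefEq.respectTransparency false in
lemma isOpen_of_cover {S : Scheme.{u}}
    (𝒰 : Scheme.Cover.{w} (Scheme.precoverage @Flat) S) [QuasiCompactCover 𝒰.toPreZeroHypercover]
    (s : Set S) (H : ∀ i, IsOpen ((𝒰.f i).base ⁻¹' s)) : IsOpen s := by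
  rw [S.affineCover.isOpenCover_opensRange.isOpen_iff_inter]
  intro a
  rw [Scheme.Hom.coe_opensRange, ← Set.image_preimage_eq_inter_range]
  apply (S.affineCover.f a).isOpenEmbedding.isOpenMap
  have : QuasiCompactCover (𝒰.pullback₁ (S.affineCover.f a)).toPreZeroHypercover :=
    show QuasiCompactCover (𝒰.toPreZeroHypercover.pullback₁ (S.affineCover.f a)) from
      inferInstance
  refine isOpen_of_cover_of_isAffine (𝒰.pullback₁ (S.affineCover.f a)) _ ?_
  intro i
  change IsOpen ((pullback.fst (S.affineCover.f a) (𝒰.f i)).base ⁻¹'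
    ((S.affineCover.f a).base ⁻¹' s))
  rw [← Set.preimage_comp, ← TopCat.coe_comp, ← Scheme.Hom.comp_base, pullback.condition,
    Scheme.Hom.comp_base, TopCat.coe_comp, Set.preimage_comp]
  exact (H i).preimage (pullback.snd (S.affineCover.f a) (𝒰.f i)).continuous

lemma isOpen_of_mem_fpqcPrecoverage {S : Scheme.{u}} {R : Presieve S}
    (hR : R ∈ Scheme.fpqcPrecoverage S) (s : Set S)
    (H : ∀ ⦃T : Scheme.{u}⦄ (g : T ⟶ S), R g → IsOpen (g.base ⁻¹' s)) : IsOpen s := by
  obtain ⟨𝒰, h𝒰, rfl⟩ := Scheme.mem_propQCPrecoverage_iff_exists_quasiCompactCover.mp hR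
  exact isOpen_of_cover 𝒰 s fun i => H _ (Presieve.ofArrows.mk i)

open Desc

instance subsingleton_lifts {Y : Scheme.{u}} (V : Over Y) [Mono V.hom] {T : Scheme.{u}}
    (x : T ⟶ Y) : Subsingleton (Lifts V x) :=
  ⟨fun a b => Subtype.ext ((cancel_mono V.hom).mp (a.2.trans b.2.symm))⟩

lemma nonempty_lifts_iff {Y : Scheme.{u}} (V : Over Y) [IsOpenImmersion V.hom] {T : Scheme.{u}}
    (x : T ⟶ Y) : Nonempty (Lifts V x) ↔ Set.range x ⊆ Set.range V.hom := by
  constructor
  · rintro ⟨v⟩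
    rw [← v.2]
    rintro _ ⟨t, rfl⟩
    exact ⟨v.1 t, by simp⟩
  · intro h
    exact ⟨⟨IsOpenImmersion.lift V.hom x h, IsOpenImmersion.lift_fac _ _ _⟩⟩

variable {S : Scheme.{u}} {ι : Type w} {X : ι → Scheme.{u}} {f : ∀ i, X i ⟶ S}

/-- The union of the images of the open subschemes. -/
def sV (D : SchDDFam f) : Set S := ⋃ i, (f i) '' Set.range (D.obj i).hom

lemma preimage_sV (D : SchDDFam f) [∀ i, IsOpenImmersion (D.obj i).hom] (i : ι) :
    (f i) ⁻¹' sV D = Set.range (D.obj i).hom := by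
  apply Set.Subset.antisymm
  · intro x hx
    simp only [sV, Set.mem_preimage, Set.mem_iUnion, Set.mem_image] at hx
    obtain ⟨j, y, hy, hxy⟩ := hx
    obtain ⟨z, hz1, hz2⟩ := Scheme.Pullback.exists_preimage_pullback (f := f i) (g := f j) x y hxy.symm
    let t := (pullback (f i) (f j)).fromSpecResidueField z
    have h : (t ≫ pullback.fst (f i) (f j)) ≫ f i = (t ≫ pullback.snd (f i) (f j)) ≫ f j := by
      simp only [Category.assoc, pullback.condition]
    have h1 : Nonempty (Lifts (D.obj j) (t ≫ pullback.snd (f i) (f j))) := by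
      rw [nonempty_lifts_iff]
      rintro _ ⟨a, rfl⟩
      simpa [t, hz2] using hy
    obtain ⟨v⟩ := h1
    have h2 : Nonempty (Lifts (D.obj i) (t ≫ pullback.fst (f i) (f j))) := ⟨D.φ _ _ h.symm v⟩
    rw [nonempty_lifts_iff] at h2
    have : Nonempty (Spec ((pullback (f i) (f j)).residueField z)) := inferInstance
    obtain ⟨a⟩ := this
    have := h2 ⟨a, rfl⟩
    simpa [t, hz1] using this
  · rintro _ ⟨y, rfl⟩
    simp only [sV, Set.mem_preimage, Set.mem_iUnion, Set.mem_image]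
    exact ⟨i, _, ⟨y, rfl⟩, rfl⟩

noncomputable def equivOfSubsingleton {α β : Type*} [Subsingleton α] [Subsingleton β]
    (h : Nonempty α ↔ Nonempty β) : α ≃ β :=
  ⟨fun a => (h.mp ⟨a⟩).some, fun b => (h.mpr ⟨b⟩).some, fun _ => Subsingleton.elim _ _,
    fun _ => Subsingleton.elim _ _⟩

lemma nonempty_lifts_can_iff (V : S.Opens) (i : ι) {T : Scheme.{u}} (x : T ⟶ X i) :
    Nonempty (Lifts (Over.mk (pullback.fst (f i) V.ι)) x) ↔ Set.range x ⊆ (f i) ⁻¹' (V : Set S) := by
  constructor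
  · rintro ⟨v⟩ _ ⟨t, rfl⟩
    have e : v.1 ≫ pullback.fst (f i) V.ι = x := v.2
    have e2 : x ≫ f i = (v.1 ≫ pullback.snd (f i) V.ι) ≫ V.ι := by
      rw [Category.assoc, ← pullback.condition, ← Category.assoc, e]
    have : (f i) (x t) = V.ι ((pullback.snd (f i) V.ι) (v.1 t)) := by
      rw [← Scheme.Hom.comp_apply, e2]
      rfl
    rw [Set.mem_preimage, this]
    exact ((pullback.snd (f i) V.ι) (v.1 t)).2
  · intro h
    have h' : Set.range (x ≫ f i) ⊆ Set.range V.ι := by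
      rintro _ ⟨t, rfl⟩
      rw [Scheme.Opens.range_ι]
      exact h ⟨t, rfl⟩
    exact ⟨⟨pullback.lift x (IsOpenImmersion.lift V.ι (x ≫ f i) h')
      (IsOpenImmersion.lift_fac _ _ _).symm, pullback.lift_fst _ _ _⟩⟩

end Aux

/-- Open immersions descend along the fpqc topology. For an fpqc covering family `f i : X i ⟶ S` of a
scheme `S`, every descent datum for schemes relative to the family all of whose members `Z i ⟶ X i`
are open immersions is effective. -/
theorem result {S : Scheme.{u}} {ι : Type u} {X : ι → Scheme.{u}}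
    (f : ∀ i, X i ⟶ S) (hf : Presieve.ofArrows X f ∈ Scheme.fpqcPrecoverage S)
    (D : Desc.SchDDFam f) (hD : ∀ i, IsOpenImmersion (D.obj i).hom) :
    D.IsEffective := by
  have : ∀ i, IsOpenImmersion (D.obj i).hom := hD
  have hopen : IsOpen (sV D) := by
    apply isOpen_of_mem_fpqcPrecoverage hf
    rintro T g ⟨i⟩
    rw [preimage_sV]
    exact (D.obj i).hom.isOpenEmbedding.isOpen_range
  let V : S.Opens := ⟨sV D, hopen⟩
  have key : ∀ ⦃T : Scheme.{u}⦄ ⦃i : ι⦄ (x : T ⟶ X i),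
      Nonempty (Desc.Lifts (((Desc.toDDFam f).obj (Over.mk V.ι)).obj i) x) ↔
        Nonempty (Desc.Lifts (D.obj i) x) := fun T i x => by
    have h1 := nonempty_lifts_can_iff (f := f) V i x
    have h2 : (f i) ⁻¹' (V : Set S) = Set.range (D.obj i).hom := preimage_sV D i
    rw [h2] at h1
    exact h1.trans (nonempty_lifts_iff (D.obj i) x).symm
  have hm : ∀ i, Mono (((Desc.toDDFam f).obj (Over.mk V.ι)).obj i).hom := fun i => by
    change Mono (pullback.fst (f i) V.ι)
    infer_instance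
  have hs : ∀ ⦃T : Scheme.{u}⦄ ⦃i : ι⦄ (x : T ⟶ X i),
      Subsingleton (Desc.Lifts (((Desc.toDDFam f).obj (Over.mk V.ι)).obj i) x) :=
    fun T i x => @subsingleton_lifts _ _ (hm i) _ x
  let e : ∀ ⦃T : Scheme.{u}⦄ ⦃i : ι⦄ (x : T ⟶ X i),
      Desc.Lifts (((Desc.toDDFam f).obj (Over.mk V.ι)).obj i) x ≃ Desc.Lifts (D.obj i) x :=
    fun T i x => @equivOfSubsingleton _ _ (hs x) inferInstance (key x)
  refine ⟨Over.mk V.ι, ⟨Groth.Agent.Lib.SchDDFamFF.isoOfPoints _ _ e ?_ ?_⟩⟩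
  · intro T T' k i x x' hx v v' hv
    rw [← cancel_mono (D.obj i).hom, Category.assoc, (e x' v').2, (e x v).2, hx]
  · intro T i j x₀ x₁ h v
    exact Subsingleton.elim _ _

end Groth.Agent.S6045
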