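import Groth.Statements.S6048
import Groth.Agent.Lib.H43QuotGrp2

set_option autoImplicit false
open CategoryTheory CategoryTheory.Limits MonoidalCategory
universe w v₁ u₁
open ShfCat

namespace Groth.Agent.S6048

section Aux
open CartesianMonoidalCategory SemiCartesianMonoidalCategory
open Groth.Agent.Lib.H43QuotGrp

variable {E : Type*} [Category E]

theorem isPullback_of_points {P X Y Z : E} (a : P ⟶ X) (b : P ⟶ Y) (f : X ⟶ Z) (g : Y ⟶ Z)
    (w : a ≫ f = b ≫ g)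
    (hex : ∀ (T : E) (x : T ⟶ X) (y : T ⟶ Y), x ≫ f = y ≫ g → ∃ p : T ⟶ P, p ≫ a = x ∧ p ≫ b = y)
    (huniq : ∀ (T : E) (p q : T ⟶ P), p ≫ a = q ≫ a → p ≫ b = q ≫ b → p = q) :
    IsPullback a b f g := by
  refine ⟨⟨w⟩, ⟨PullbackCone.IsLimit.mk w (fun s => (hex _ s.fst s.snd s.condition).choose) ?_ ?_ ?_⟩⟩
  · intro s
    exact (hex _ s.fst s.snd s.condition).choose_spec.1
  · intro s
    exact (hex _ s.fst s.snd s.condition).choose_spec.2
  · intro s m h1 h2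
    exact huniq _ _ _ (h1.trans (hex _ s.fst s.snd s.condition).choose_spec.1.symm)
      (h2.trans (hex _ s.fst s.snd s.condition).choose_spec.2.symm)

variable [CartesianMonoidalCategory E] [HasPullbacks E]

theorem main (tl : ToposLike E) {R X : E} {p₁ p₂ : R ⟶ X} (e : EffectiveEquivalenceRelation p₁ p₂)
    (Y : E) :
    (∀ (Z : E) (ι : Z ⟶ X ⊗ Y), Mono ι →
      (∀ (W : E) (r : W ⟶ R) (y : W ⟶ Y),
        (∃ z : W ⟶ Z, z ≫ ι = lift (r ≫ p₁) y) ↔ (∃ z : W ⟶ Z, z ≫ ι = lift (r ≫ p₂) y)) →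
      Epi (ι ≫ snd X Y) →
      (∀ (W : E) (z₁ z₂ : W ⟶ Z), z₁ ≫ ι ≫ snd X Y = z₂ ≫ ι ≫ snd X Y →
        ∃ r : W ⟶ R, r ≫ p₁ = z₁ ≫ ι ≫ fst X Y ∧ r ≫ p₂ = z₂ ≫ ι ≫ fst X Y) →
      ∃! f : Y ⟶ e.B, IsPullback (ι ≫ fst X Y) (ι ≫ snd X Y) e.π f) ∧
    (∀ f : Y ⟶ e.B, ∃ (Z : E) (ι : Z ⟶ X ⊗ Y), Mono ι ∧
      (∀ (W : E) (r : W ⟶ R) (y : W ⟶ Y),
        (∃ z : W ⟶ Z, z ≫ ι = lift (r ≫ p₁) y) ↔ (∃ z : W ⟶ Z, z ≫ ι = lift (r ≫ p₂) y)) ∧
      Epi (ι ≫ snd X Y) ∧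
      (∀ (W : E) (z₁ z₂ : W ⟶ Z), z₁ ≫ ι ≫ snd X Y = z₂ ≫ ι ≫ snd X Y →
        ∃ r : W ⟶ R, r ≫ p₁ = z₁ ≫ ι ≫ fst X Y ∧ r ≫ p₂ = z₂ ≫ ι ≫ fst X Y) ∧
      IsPullback (ι ≫ fst X Y) (ι ≫ snd X Y) e.π f) := by
  have hπ : Epi e.π := inferInstance
  have hw : p₁ ≫ e.π = p₂ ≫ e.π := e.isKernelPair.w
  constructor
  · intro Z ι hι hst hepi hrel
    obtain ⟨f, hf⟩ := tl.desc (ι ≫ snd X Y) (ι ≫ fst X Y ≫ e.π) (by
      intro T z₁ z₂ h12
      obtain ⟨r, hr1, hr2⟩ := hrel T z₁ z₂ h12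
      have e1 : z₁ ≫ ι ≫ fst X Y ≫ e.π = (r ≫ p₁) ≫ e.π := by
        rw [hr1]; simp only [Category.assoc]
      have e2 : z₂ ≫ ι ≫ fst X Y ≫ e.π = (r ≫ p₂) ≫ e.π := by
        rw [hr2]; simp only [Category.assoc]
      rw [e1, e2, Category.assoc, Category.assoc, hw])
    have hsq : IsPullback (ι ≫ fst X Y) (ι ≫ snd X Y) e.π f := by
      refine isPullback_of_points _ _ _ _ (by rw [hf, Category.assoc]) ?_ ?_
      · intro T x y hxy
        obtain ⟨T', e₁, _, z', hz'⟩ := tl.locLift (ι ≫ snd X Y) y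
        have h1 : (z' ≫ ι ≫ fst X Y) ≫ e.π = (e₁ ≫ x) ≫ e.π := by
          rw [Category.assoc, Category.assoc, Category.assoc, ← hf, ← Category.assoc z', hz',
            Category.assoc, ← hxy]
        have hr1 : e.isKernelPair.lift _ _ h1 ≫ p₁ = z' ≫ ι ≫ fst X Y := e.isKernelPair.lift_fst _ _ _
        have hr2 : e.isKernelPair.lift _ _ h1 ≫ p₂ = e₁ ≫ x := e.isKernelPair.lift_snd _ _ _
        have h2 : z' ≫ ι = lift (e.isKernelPair.lift _ _ h1 ≫ p₁) (e₁ ≫ y) := by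
          ext
          · rw [Category.assoc, lift_fst, hr1]
          · rw [Category.assoc, lift_snd, hz']
        obtain ⟨z'', hz''⟩ := (hst T' (e.isKernelPair.lift _ _ h1) (e₁ ≫ y)).1 ⟨z', h2⟩
        obtain ⟨b, hb⟩ := tl.factors_of_locally ι (lift x y) e₁ z'' (by
          rw [hz'', hr2, comp_lift])
        refine ⟨b, ?_, ?_⟩
        · rw [← Category.assoc, hb, lift_fst]
        · rw [← Category.assoc, hb, lift_snd]
      · intro T p q h1 h2
        rw [← cancel_mono ι]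
        ext
        · simpa using h1
        · simpa using h2
    refine ⟨f, hsq, ?_⟩
    intro f' hf'
    rw [← cancel_epi (ι ≫ snd X Y), hf, ← hf'.w, Category.assoc]
  · intro f
    have sq := IsPullback.of_hasPullback e.π f
    have hfst : lift (pullback.fst e.π f) (pullback.snd e.π f) ≫ fst X Y = pullback.fst e.π f :=
      lift_fst _ _
    have hsnd : lift (pullback.fst e.π f) (pullback.snd e.π f) ≫ snd X Y = pullback.snd e.π f :=
      lift_snd _ _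
    have key : ∀ {W : E} (a : W ⟶ X) (y : W ⟶ Y),
        (∃ z : W ⟶ pullback e.π f, z ≫ lift (pullback.fst e.π f) (pullback.snd e.π f) = lift a y) ↔
          a ≫ e.π = y ≫ f := by
      intro W a y
      constructor
      · rintro ⟨z, hz⟩
        have h1 : z ≫ pullback.fst e.π f = a := by
          rw [← hfst, ← Category.assoc, hz, lift_fst]
        have h2 : z ≫ pullback.snd e.π f = y := by
          rw [← hsnd, ← Category.assoc, hz, lift_snd]
        rw [← h1, ← h2, Category.assoc, Category.assoc, pullback.condition]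
      · intro h
        refine ⟨pullback.lift a y h, ?_⟩
        ext
        · rw [Category.assoc, hfst, lift_fst, pullback.lift_fst]
        · rw [Category.assoc, hsnd, lift_snd, pullback.lift_snd]
    refine ⟨pullback e.π f, lift (pullback.fst e.π f) (pullback.snd e.π f), ?_, ?_, ?_, ?_, ?_⟩
    · constructor
      intro T a b hab
      apply pullback.hom_ext
      · rw [← hfst, ← Category.assoc, hab, Category.assoc]
      · rw [← hsnd, ← Category.assoc, hab, Category.assoc]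
    · intro W r y
      rw [key, key, Category.assoc, Category.assoc, hw]
    · rw [hsnd]
      exact tl.epi_of_isPullback sq.flip
    · intro W z₁ z₂ h12
      rw [hsnd] at h12
      have h1 : (z₁ ≫ pullback.fst e.π f) ≫ e.π = (z₂ ≫ pullback.fst e.π f) ≫ e.π := by
        rw [Category.assoc, Category.assoc, pullback.condition, ← Category.assoc, h12, Category.assoc]
      refine ⟨e.isKernelPair.lift _ _ h1, ?_, ?_⟩
      · rw [hfst]; exact e.isKernelPair.lift_fst _ _ _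
      · rw [hfst]; exact e.isKernelPair.lift_snd _ _ _
    · rw [hfst, hsnd]
      exact sq

end Aux

open CartesianMonoidalCategory SemiCartesianMonoidalCategory in
/-- For sheaves of sets on a site with sheafification: let `p₁, p₂ : R ⇉ X` be an equivalence relation
of sheaves with universally effective quotient `π : X ⟶ X/R` and `Y` a sheaf. (a) A subsheaf `Z ⊆ X
× Y` stable under `R × Y`, covering `Y`, and any two of whose points over the same point of `Y` are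
`R`-related, is the pullback of `π` along exactly one `f : Y ⟶ X/R`; (b) every `f : Y ⟶ X/R` arises
in this way. -/
theorem result {C : Type u₁} [Category.{v₁} C]
    (J : GrothendieckTopology C) [HasSheafify J (Type w)]
    {R X : Sheaf J (Type w)} {p₁ p₂ : R ⟶ X}
    (e : UniversallyEffectiveEquivalenceRelation p₁ p₂) (Y : Sheaf J (Type w)) :
    (∀ (Z : Sheaf J (Type w)) (ι : Z ⟶ X ⊗ Y), Mono ι →
      (∀ (W : Sheaf J (Type w)) (r : W ⟶ R) (y : W ⟶ Y),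
        (∃ z : W ⟶ Z, z ≫ ι = lift (r ≫ p₁) y) ↔ (∃ z : W ⟶ Z, z ≫ ι = lift (r ≫ p₂) y)) →
      Epi (ι ≫ snd X Y) →
      (∀ (W : Sheaf J (Type w)) (z₁ z₂ : W ⟶ Z), z₁ ≫ ι ≫ snd X Y = z₂ ≫ ι ≫ snd X Y →
        ∃ r : W ⟶ R, r ≫ p₁ = z₁ ≫ ι ≫ fst X Y ∧ r ≫ p₂ = z₂ ≫ ι ≫ fst X Y) →
      ∃! f : Y ⟶ e.B, IsPullback (ι ≫ fst X Y) (ι ≫ snd X Y) e.π f) ∧
    (∀ f : Y ⟶ e.B, ∃ (Z : Sheaf J (Type w)) (ι : Z ⟶ X ⊗ Y), Mono ι ∧
      (∀ (W : Sheaf J (Type w)) (r : W ⟶ R) (y : W ⟶ Y),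
        (∃ z : W ⟶ Z, z ≫ ι = lift (r ≫ p₁) y) ↔ (∃ z : W ⟶ Z, z ≫ ι = lift (r ≫ p₂) y)) ∧
      Epi (ι ≫ snd X Y) ∧
      (∀ (W : Sheaf J (Type w)) (z₁ z₂ : W ⟶ Z), z₁ ≫ ι ≫ snd X Y = z₂ ≫ ι ≫ snd X Y →
        ∃ r : W ⟶ R, r ≫ p₁ = z₁ ≫ ι ≫ fst X Y ∧ r ≫ p₂ = z₂ ≫ ι ≫ fst X Y) ∧
      IsPullback (ι ≫ fst X Y) (ι ≫ snd X Y) e.π f) :=
  main (Groth.Agent.Lib.H43QuotGrp.toposLike_sheaf J) e.toEffectiveEquivalenceRelation Y

end Groth.Agent.S6048
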