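import Groth.Statements.S6053
-- import your own Groth.Agent.* helpers here

set_option autoImplicit false
open CategoryTheory
universe w v₁ u₁
open ShfCat

namespace Groth.Agent.S6053

set_option linter.unusedSectionVars false

section helpers

variable {C : Type u₁} [Category.{v₁} C]

/-- Composition of coverings in a precoverage stable under composition, in "unindexed" form. -/
lemma exists_comp (P : Precoverage C) [P.IsStableUnderComposition] {X : C} {R : Presieve X}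
    (hR : R ∈ P X) (A : ∀ ⦃Z : C⦄, (Z ⟶ X) → Prop)
    (h : ∀ ⦃Y : C⦄ ⦃f : Y ⟶ X⦄, R f → ∃ T ∈ P Y, ∀ ⦃Z : C⦄ ⦃g : Z ⟶ Y⦄, T g → A (g ≫ f)) :
    ∃ R' ∈ P X, ∀ ⦃Z : C⦄ ⦃k : Z ⟶ X⦄, R' k → A k := by
  obtain ⟨ι, Y, f, rfl⟩ := R.exists_eq_ofArrows
  have h' : ∀ i : ι, ∃ T ∈ P (Y i), ∀ ⦃Z : C⦄ ⦃g : Z ⟶ Y i⦄, T g → A (g ≫ f i) :=
    fun i => h (Presieve.ofArrows.mk i)
  choose T hT hTA using h'
  have h'' : ∀ i : ι, ∃ (σ : Type (max u₁ v₁)) (Z : σ → C) (g : ∀ j, Z j ⟶ Y i),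
      T i = Presieve.ofArrows Z g := fun i => (T i).exists_eq_ofArrows
  choose σ Z g hg using h''
  refine ⟨Presieve.ofArrows (fun p : Σ i, σ i ↦ Z p.1 p.2) (fun p ↦ g p.1 p.2 ≫ f p.1), ?_, ?_⟩
  · exact Precoverage.comp_mem_coverings f hR g (fun i => by rw [← hg i]; exact hT i)
  · rintro W k ⟨⟨i, j⟩⟩
    exact hTA i (by rw [hg i]; exact Presieve.ofArrows.mk j)

end helpers

section main

variable {C : Type u₁} [Category.{v₁} C] (C' : C → Prop) (P P' : Precoverage C)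

/-- The intermediate predicate: the sieve contains a composite family. -/
def Q (X : C) (S' : Sieve X) : Prop :=
  ∃ R ∈ P X, ∀ ⦃Y : C⦄ ⦃f : Y ⟶ X⦄, R f →
    C' Y ∧ ∃ T ∈ P' Y, ∀ ⦃Z : C⦄ ⦃g : Z ⟶ Y⦄, T g → S' (g ≫ f)

variable {C' P P'}

lemma Q_mono {X : C} {S₁ S₂ : Sieve X} (h : S₁ ≤ S₂) (hQ : Q C' P P' X S₁) : Q C' P P' X S₂ := by
  obtain ⟨R, hR, hR'⟩ := hQ
  refine ⟨R, hR, fun Y f hf => ?_⟩
  obtain ⟨hY, T, hT, hT'⟩ := hR' hf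
  exact ⟨hY, T, hT, fun Z g hg => h _ (hT' hg)⟩

variable [P.HasPullbacks] [P.IsStableUnderBaseChange] [P.IsStableUnderComposition]
  (hP'C : ∀ ⦃X : C⦄ ⦃R : Presieve X⦄, R ∈ P' X → C' X ∧ ∀ ⦃Y : C⦄ ⦃f : Y ⟶ X⦄, R f → C' Y)
  (hP'id : ∀ ⦃X : C⦄, C' X → Presieve.singleton (𝟙 X) ∈ P' X)
  (ha : ∀ ⦃X : C⦄ ⦃R : Presieve X⦄, R ∈ P' X → ∀ ⦃T : C⦄ (g : T ⟶ X), C' T →
    ∃ _ : R.HasPullbacks g, Presieve.pullbackArrows g R ∈ P' T)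
  (hb : ∀ X : C, ∃ R ∈ P X, ∀ ⦃Y : C⦄ ⦃f : Y ⟶ X⦄, R f → C' Y)
  (hc : ∀ ⦃S : C⦄ ⦃R₁ : Presieve S⦄, R₁ ∈ P' S →
    ∀ (R₂ : ∀ ⦃Y : C⦄ ⦃f : Y ⟶ S⦄, R₁ f → Presieve Y),
      (∀ ⦃Y : C⦄ ⦃f : Y ⟶ S⦄ (hf : R₁ f), R₂ hf ∈ P Y ∧ ∀ ⦃Z : C⦄ ⦃g : Z ⟶ Y⦄, R₂ hf g → C' Z) →
    ∀ (R₃ : ∀ ⦃Y : C⦄ ⦃f : Y ⟶ S⦄ (hf : R₁ f) ⦃Z : C⦄ ⦃g : Z ⟶ Y⦄, R₂ hf g → Presieve Z),
      (∀ ⦃Y : C⦄ ⦃f : Y ⟶ S⦄ (hf : R₁ f) ⦃Z : C⦄ ⦃g : Z ⟶ Y⦄ (hg : R₂ hf g), R₃ hf hg ∈ P' Z) →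
    ∃ T ∈ P' S, ∀ ⦃W : C⦄ ⦃q : W ⟶ S⦄, T q →
      ∃ (Y Z V : C) (f : Y ⟶ S) (hf : R₁ f) (g : Z ⟶ Y) (hg : R₂ hf g) (h : V ⟶ Z) (_ : R₃ hf hg h)
        (r : W ⟶ V), r ≫ h ≫ g ≫ f = q)

include hP'id hb in
/-- A sieve containing a `P`-family satisfies `Q`. -/
lemma Q_of_P {X : C} {S : Presieve X} (hS : S ∈ P X) : Q C' P P' X (Sieve.generate S) := by
  refine exists_comp P hS
    (fun Z k => C' Z ∧ ∃ T ∈ P' Z, ∀ ⦃W : C⦄ ⦃g : W ⟶ Z⦄, T g → (Sieve.generate S) (g ≫ k)) ?_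
  intro Y f hf
  obtain ⟨T, hT, hT'⟩ := hb Y
  refine ⟨T, hT, fun Z g hg => ⟨hT' hg, Presieve.singleton (𝟙 Z), hP'id (hT' hg), ?_⟩⟩
  intro W k hk
  cases hk
  exact ⟨_, 𝟙 _ ≫ g, f, hf, by simp⟩

include hP'id hb in
lemma Q_top (X : C) : Q C' P P' X ⊤ := by
  obtain ⟨R, hR, hR'⟩ := hb X
  exact ⟨R, hR, fun Y f hf => ⟨hR' hf, Presieve.singleton (𝟙 Y), hP'id (hR' hf),
    fun _ _ _ => trivial⟩⟩

include ha hb in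
/-- A sieve containing a `P'`-family satisfies `Q`. -/
lemma Q_of_P' {X : C} {S : Presieve X} (hS : S ∈ P' X) : Q C' P P' X (Sieve.generate S) := by
  obtain ⟨R, hR, hR'⟩ := hb X
  refine ⟨R, hR, fun Y f hf => ⟨hR' hf, ?_⟩⟩
  obtain ⟨hpb, hmem⟩ := ha hS f (hR' hf)
  refine ⟨Presieve.pullbackArrows f S, hmem, ?_⟩
  rintro W k ⟨Z, h, hh⟩
  have := S.hasPullback f hh
  exact ⟨Z, Limits.pullback.fst h f, h, hh, Limits.pullback.condition⟩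

include ha hb in
/-- `Q` is stable under pullback. -/
lemma Q_pullback {X : C} {S : Sieve X} (hQ : Q C' P P' X S) {Y : C} (f : Y ⟶ X) :
    Q C' P P' Y (S.pullback f) := by
  obtain ⟨R, hR, hR'⟩ := hQ
  have hpb : R.HasPullbacks f := P.hasPullbacks_of_mem f hR
  have hRY : Presieve.pullbackArrows f R ∈ P Y := Precoverage.pullbackArrows_mem f hR
  refine exists_comp P hRY
    (fun Z k => C' Z ∧ ∃ T ∈ P' Z, ∀ ⦃W : C⦄ ⦃g : W ⟶ Z⦄, T g → (S.pullback f) (g ≫ k)) ?_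
  rintro _ _ ⟨W, h, hh⟩
  have := R.hasPullback f hh
  obtain ⟨hW, T, hT, hT'⟩ := hR' hh
  obtain ⟨T₂, hT₂, hT₂'⟩ := hb (Limits.pullback h f)
  refine ⟨T₂, hT₂, fun Z g hg => ⟨hT₂' hg, ?_⟩⟩
  obtain ⟨hpb', hmem⟩ := ha hT (g ≫ Limits.pullback.fst h f) (hT₂' hg)
  refine ⟨Presieve.pullbackArrows (g ≫ Limits.pullback.fst h f) T, hmem, ?_⟩
  rintro _ _ ⟨V, t, ht⟩
  have := T.hasPullback (g ≫ Limits.pullback.fst h f) ht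
  show S ((Limits.pullback.snd t (g ≫ Limits.pullback.fst h f) ≫ g ≫ Limits.pullback.snd h f) ≫ f)
  have e : (Limits.pullback.snd t (g ≫ Limits.pullback.fst h f) ≫ g ≫ Limits.pullback.snd h f) ≫ f
      = Limits.pullback.fst t (g ≫ Limits.pullback.fst h f) ≫ t ≫ h := by
    simp only [Category.assoc]
    rw [← Limits.pullback.condition, ← Category.assoc g, ← Limits.pullback.condition_assoc]
  rw [e]
  exact S.downward_closed (hT' ht) _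

include hc in
/-- `Q` is transitive. -/
lemma Q_transitive {X : C} {S₀ S : Sieve X} (hQ : Q C' P P' X S₀)
    (h : ∀ ⦃Y : C⦄ ⦃f : Y ⟶ X⦄, S₀ f → Q C' P P' Y (S.pullback f)) : Q C' P P' X S := by
  obtain ⟨R, hR, hR'⟩ := hQ
  refine ⟨R, hR, fun Y f hf => ?_⟩
  obtain ⟨hY, T, hT, hT'⟩ := hR' hf
  refine ⟨hY, ?_⟩
  have h2 : ∀ ⦃Z : C⦄ ⦃g : Z ⟶ Y⦄, T g → ∃ R₂ ∈ P Z, ∀ ⦃V : C⦄ ⦃k : V ⟶ Z⦄, R₂ k →
      C' V ∧ ∃ T₃ ∈ P' V, ∀ ⦃W : C⦄ ⦃r : W ⟶ V⦄, T₃ r → S (r ≫ k ≫ g ≫ f) := by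
    intro Z g hg
    obtain ⟨R₂, hR₂, hR₂'⟩ := h (hT' hg)
    refine ⟨R₂, hR₂, fun V k hk => ?_⟩
    obtain ⟨hV, T₃, hT₃, hT₃'⟩ := hR₂' hk
    refine ⟨hV, T₃, hT₃, fun W r hr => ?_⟩
    have := hT₃' hr
    simpa using this
  choose R₂ hR₂ hR₂' using h2
  have h3 : ∀ ⦃Z : C⦄ ⦃g : Z ⟶ Y⦄ (hg : T g) ⦃V : C⦄ ⦃k : V ⟶ Z⦄, R₂ hg k →
      ∃ T₃ ∈ P' V, ∀ ⦃W : C⦄ ⦃r : W ⟶ V⦄, T₃ r → S (r ≫ k ≫ g ≫ f) :=
    fun Z g hg V k hk => (hR₂' hg hk).2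
  choose R₃ hR₃ hR₃' using h3
  obtain ⟨T', hT'mem, hT'fac⟩ := hc hT R₂ (fun Z g hg => ⟨hR₂ hg, fun V k hk => (hR₂' hg hk).1⟩)
    R₃ (fun Z g hg V k hk => hR₃ hg hk)
  refine ⟨T', hT'mem, fun W q hq => ?_⟩
  obtain ⟨Y₁, Z₁, V₁, f₁, hf₁, g₁, hg₁, h₁, hh₁, r, hr⟩ := hT'fac hq
  rw [← hr]
  have := S.downward_closed (hR₃' hf₁ hg₁ hh₁) r
  simpa using this

include hP'id ha hb hc in
lemma Q_of_saturate {X : C} {S' : Sieve X} (hS : (P ⊔ P').Saturate X S') : Q C' P P' X S' := by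
  induction hS with
  | of X S hS =>
    rcases hS with hS | hS
    · exact Q_of_P hP'id hb hS
    · exact Q_of_P' ha hb hS
  | top X => exact Q_top hP'id hb X
  | pullback X S _ Y f ih => exact Q_pullback ha hb ih f
  | transitive X S R _ _ ih1 ih2 => exact Q_transitive hc ih1 ih2

include hP'C in
lemma mem_of_Q {X : C} {S' : Sieve X} (hQ : Q C' P P' X S') : S' ∈ (P ⊔ P').toGrothendieck X := by
  obtain ⟨R, hR, hR'⟩ := hQ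
  have h1 : Sieve.generate R ∈ (P ⊔ P').toGrothendieck X :=
    Precoverage.generate_mem_toGrothendieck (Or.inl hR)
  refine GrothendieckTopology.transitive _ h1 _ ?_
  rintro Y f ⟨Z, h, g, hg, rfl⟩
  obtain ⟨-, T, hT, hT'⟩ := hR' hg
  rw [Sieve.pullback_comp]
  refine GrothendieckTopology.pullback_stable _ _ ?_
  have h2 : Sieve.generate T ∈ (P ⊔ P').toGrothendieck Z :=
    Precoverage.generate_mem_toGrothendieck (Or.inr hT)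
  refine GrothendieckTopology.superset_covering _ ?_ h2
  rw [Sieve.generate_le_iff]
  intro W k hk
  exact hT' hk

end main

/-- Let `C'` be a class of objects of `C`, `P` a precoverage on `C` stable under base change and
composition, `P'` a precoverage whose families live in `C'` and which contains the identity
singletons of `C'`, such that (a) `P'`-families pull back along morphisms of `C'` to `P'`-families,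
(b) every object has a `P`-cover by objects of `C'`, (c) over an object of `C'` every composite `P'
∘ P ∘ P'` family (middle sources in `C'`) is refined by a `P'`-family. Then a sieve on `X` is
covering for the topology generated by `P` and `P'` if and only if it contains a composite family
`X_ij ⟶ X_i ⟶ X` with `(X_i ⟶ X)_i` in `P`, all `X_i` in `C'` and each `(X_ij ⟶ X_i)_j` in `P'`. -/
theorem result {C : Type u₁} [Category.{v₁} C]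
    (C' : C → Prop) (P P' : Precoverage C)
    [P.HasPullbacks] [P.IsStableUnderBaseChange] [P.IsStableUnderComposition]
    (hP'C : ∀ ⦃X : C⦄ ⦃R : Presieve X⦄, R ∈ P' X → C' X ∧ ∀ ⦃Y : C⦄ ⦃f : Y ⟶ X⦄, R f → C' Y)
    (hP'id : ∀ ⦃X : C⦄, C' X → Presieve.singleton (𝟙 X) ∈ P' X)
    (ha : ∀ ⦃X : C⦄ ⦃R : Presieve X⦄, R ∈ P' X → ∀ ⦃T : C⦄ (g : T ⟶ X), C' T →
      ∃ _ : R.HasPullbacks g, Presieve.pullbackArrows g R ∈ P' T)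
    (hb : ∀ X : C, ∃ R ∈ P X, ∀ ⦃Y : C⦄ ⦃f : Y ⟶ X⦄, R f → C' Y)
    (hc : ∀ ⦃S : C⦄ ⦃R₁ : Presieve S⦄, R₁ ∈ P' S →
      ∀ (R₂ : ∀ ⦃Y : C⦄ ⦃f : Y ⟶ S⦄, R₁ f → Presieve Y),
        (∀ ⦃Y : C⦄ ⦃f : Y ⟶ S⦄ (hf : R₁ f), R₂ hf ∈ P Y ∧ ∀ ⦃Z : C⦄ ⦃g : Z ⟶ Y⦄, R₂ hf g → C' Z) →
      ∀ (R₃ : ∀ ⦃Y : C⦄ ⦃f : Y ⟶ S⦄ (hf : R₁ f) ⦃Z : C⦄ ⦃g : Z ⟶ Y⦄, R₂ hf g → Presieve Z),
        (∀ ⦃Y : C⦄ ⦃f : Y ⟶ S⦄ (hf : R₁ f) ⦃Z : C⦄ ⦃g : Z ⟶ Y⦄ (hg : R₂ hf g), R₃ hf hg ∈ P' Z) →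
      ∃ T ∈ P' S, ∀ ⦃W : C⦄ ⦃q : W ⟶ S⦄, T q →
        ∃ (Y Z V : C) (f : Y ⟶ S) (hf : R₁ f) (g : Z ⟶ Y) (hg : R₂ hf g) (h : V ⟶ Z) (_ : R₃ hf hg h)
          (r : W ⟶ V), r ≫ h ≫ g ≫ f = q)
    (X : C) (S' : Sieve X) :
    S' ∈ (P ⊔ P').toGrothendieck X ↔
      ∃ (R : Presieve X) (_ : R ∈ P X) (_ : ∀ ⦃Y : C⦄ ⦃f : Y ⟶ X⦄, R f → C' Y)
        (R' : ∀ ⦃Y : C⦄ ⦃f : Y ⟶ X⦄, R f → Presieve Y),
        (∀ ⦃Y : C⦄ ⦃f : Y ⟶ X⦄ (hf : R f), R' hf ∈ P' Y) ∧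
        ∀ ⦃Y : C⦄ ⦃f : Y ⟶ X⦄ (hf : R f) ⦃Z : C⦄ ⦃g : Z ⟶ Y⦄, R' hf g → S' (g ≫ f) := by
  constructor
  · intro hS
    obtain ⟨R, hR, hR'⟩ := Q_of_saturate hP'id ha hb hc hS
    have h2 : ∀ ⦃Y : C⦄ ⦃f : Y ⟶ X⦄, R f →
        ∃ T ∈ P' Y, ∀ ⦃Z : C⦄ ⦃g : Z ⟶ Y⦄, T g → S' (g ≫ f) := fun Y f hf => (hR' hf).2
    choose R' hR'mem hR'S using h2
    exact ⟨R, hR, fun Y f hf => (hR' hf).1, R', fun Y f hf => hR'mem hf,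
      fun Y f hf Z g hg => hR'S hf hg⟩
  · rintro ⟨R, hR, hRC, R', hR'mem, hR'S⟩
    exact mem_of_Q hP'C ⟨R, hR, fun Y f hf => ⟨hRC hf, R' hf, hR'mem hf, fun Z g hg => hR'S hf hg⟩⟩

end Groth.Agent.S6053
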