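import Groth.Statements.S6052
import Groth.Agent.S6053

set_option autoImplicit false
open CategoryTheory
universe w v₁ u₁
open ShfCat

namespace Groth.Agent.S6052

set_option linter.unusedSectionVars false

open Groth.Agent.S6053

section helpers

variable {C : Type u₁} [Category.{v₁} C] {C' : C → Prop} {P P' : Precoverage C}
  (F : Cᵒᵖ ⥤ Type w)

/-- map-composition for `Type`-valued presheaves, applied. -/
lemma map_comp_op {X Y Z : C} (f : Y ⟶ X) (g : Z ⟶ Y) (t : F.obj (Opposite.op X)) :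
    F.map (g ≫ f).op t = F.map g.op (F.map f.op t) := by
  rw [op_comp, Functor.map_comp_apply]

/-- Separatedness for sieves satisfying `Q`. -/
lemma isSeparatedFor_of_Q
    (hsP : ∀ ⦃X : C⦄ ⦃R : Presieve X⦄, R ∈ P X → Presieve.IsSeparatedFor F R)
    (hsP' : ∀ ⦃X : C⦄ ⦃R : Presieve X⦄, R ∈ P' X → Presieve.IsSeparatedFor F R)
    {X : C} {S' : Sieve X} (hQ : Q C' P P' X S') : Presieve.IsSeparatedFor F S'.arrows := by
  obtain ⟨R, hR, hR'⟩ := hQ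
  intro x t₁ t₂ h₁ h₂
  refine (hsP hR).ext fun Y f hf => ?_
  obtain ⟨-, T, hT, hT'⟩ := hR' hf
  refine (hsP' hT).ext fun Z g hg => ?_
  rw [← map_comp_op, ← map_comp_op, h₁ _ (hT' hg), h₂ _ (hT' hg)]

/-- Sheaf property for covering sieves satisfying `Q`, given separatedness for all covering
sieves. -/
lemma isSheafFor_of_Q (J : GrothendieckTopology C)
    (hJP : ∀ ⦃X : C⦄ ⦃R : Presieve X⦄, R ∈ P X → Sieve.generate R ∈ J X)
    (hJP' : ∀ ⦃X : C⦄ ⦃R : Presieve X⦄, R ∈ P' X → Sieve.generate R ∈ J X)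
    (hsep : ∀ ⦃X : C⦄ (S : Sieve X), S ∈ J X → Presieve.IsSeparatedFor F S.arrows)
    (hP : ∀ ⦃X : C⦄ ⦃R : Presieve X⦄, R ∈ P X → Presieve.IsSheafFor F R)
    (hP' : ∀ ⦃X : C⦄ ⦃R : Presieve X⦄, R ∈ P' X → Presieve.IsSheafFor F R)
    {X : C} {S' : Sieve X} (hS'J : S' ∈ J X) (hQ : Q C' P P' X S') :
    Presieve.IsSheafFor F S'.arrows := by
  obtain ⟨R, hR, hR'⟩ := hQ
  refine (hsep S' hS'J).isSheafFor fun x hx => ?_
  have h2 : ∀ ⦃Y : C⦄ ⦃f : Y ⟶ X⦄, R f →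
      ∃ T ∈ P' Y, ∀ ⦃Z : C⦄ ⦃g : Z ⟶ Y⦄, T g → S' (g ≫ f) := fun Y f hf => (hR' hf).2
  choose T hT hTS using h2
  let xf : ∀ ⦃Y : C⦄ ⦃f : Y ⟶ X⦄ (hf : R f), Presieve.FamilyOfElements F (T hf) :=
    fun Y f hf Z g hg => x (g ≫ f) (hTS hf hg)
  have hxf : ∀ ⦃Y : C⦄ ⦃f : Y ⟶ X⦄ (hf : R f), (xf hf).Compatible := by
    intro Y f hf Z₁ Z₂ W g₁ g₂ k₁ k₂ h₁ h₂ e
    exact hx g₁ g₂ (hTS hf h₁) (hTS hf h₂) (by rw [← Category.assoc, e, Category.assoc])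
  let y : Presieve.FamilyOfElements F R :=
    fun Y f hf => (hP' (hT hf)).amalgamate (xf hf) (hxf hf)
  have hy : ∀ ⦃Y : C⦄ ⦃f : Y ⟶ X⦄ (hf : R f) ⦃Z : C⦄ ⦃g : Z ⟶ Y⦄ (hg : T hf g),
      F.map g.op (y f hf) = x (g ≫ f) (hTS hf hg) :=
    fun Y f hf Z g hg => (hP' (hT hf)).valid_glue (hxf hf) g hg
  have key : ∀ ⦃Y : C⦄ ⦃f : Y ⟶ X⦄ (hf : R f) ⦃W : C⦄ (d : W ⟶ Y) (hd : S' (d ≫ f)),
      F.map d.op (y f hf) = x (d ≫ f) hd := by
    intro Y f hf W d hd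
    refine (hsep ((Sieve.generate (T hf)).pullback d)
      (J.pullback_stable d (hJP' (hT hf)))).ext ?_
    rintro W' c' ⟨Z, d', t, ht, e⟩
    rw [← map_comp_op, ← e, map_comp_op, hy hf ht]
    exact hx d' c' (hTS hf ht) hd (by rw [← Category.assoc, e, Category.assoc])
  have hycompat : y.Compatible := by
    intro Y₁ Y₂ W g₁ g₂ f₁ f₂ hf₁ hf₂ e
    refine (hsep ((Sieve.generate (T hf₁)).pullback g₁ ⊓ (Sieve.generate (T hf₂)).pullback g₂)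
      (J.intersection_covering (J.pullback_stable g₁ (hJP' (hT hf₁)))
        (J.pullback_stable g₂ (hJP' (hT hf₂))))).ext ?_
    rintro W' c ⟨⟨Z₁, d₁, t₁, ht₁, e₁⟩, ⟨Z₂, d₂, t₂, ht₂, e₂⟩⟩
    rw [← map_comp_op, ← map_comp_op, ← e₁, ← e₂, map_comp_op, map_comp_op, hy hf₁ ht₁,
      hy hf₂ ht₂]
    refine hx d₁ d₂ (hTS hf₁ ht₁) (hTS hf₂ ht₂) ?_
    rw [← Category.assoc, e₁, ← Category.assoc d₂, e₂, Category.assoc, Category.assoc, e]
  refine ⟨(hP hR).amalgamate y hycompat, ?_⟩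
  intro Z f hf
  refine (hsep ((Sieve.generate R).pullback f) (J.pullback_stable f (hJP hR))).ext ?_
  rintro W c ⟨Y, d, g, hg, e⟩
  rw [← map_comp_op, ← e, map_comp_op, (hP hR).valid_glue hycompat g hg]
  have hd : S' (d ≫ g) := by rw [e]; exact S'.downward_closed hf c
  rw [key hg d hd]
  simpa using hx (𝟙 _) c hd hf (by rw [Category.id_comp, e])

end helpers

/-- The sheaf case. Let `C'` be a class of objects of `C`, `P` a precoverage on `C` stable under base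
change and composition, `P'` a precoverage whose families live in `C'` and which contains the
identity singletons of `C'`, such that (a) `P'`-families pull back along morphisms of `C'` to
`P'`-families, (b) every object has a `P`-cover by objects of `C'`, (c) over an object of `C'` every
composite `P' ∘ P ∘ P'` family (middle sources in `C'`) is refined by a `P'`-family. Then a presheaf
of sets is a sheaf for the topology generated by `P` and `P'` if and only if it satisfies the sheaf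
condition for every family of `P` and every family of `P'`. (The published statement also treats
separated presheaves; only the sheaf case is stated.) -/
theorem result {C : Type u₁} [Category.{v₁} C]
    (C' : C → Prop) (P P' : Precoverage C)
    [P.HasPullbacks] [P.IsStableUnderBaseChange] [P.IsStableUnderComposition]
    (hP'C : ∀ ⦃X : C⦄ ⦃R : Presieve X⦄, R ∈ P' X → C' X ∧ ∀ ⦃Y : C⦄ ⦃f : Y ⟶ X⦄, R f → C' Y)
    (hP'id : ∀ ⦃X : C⦄, C' X → Presieve.singleton (𝟙 X) ∈ P' X)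
    (ha : ∀ ⦃X : C⦄ ⦃R : Presieve X⦄, R ∈ P' X → ∀ ⦃T : C⦄ (g : T ⟶ X), C' T →
      ∃ _ : R.HasPullbacks g, Presieve.pullbackArrows g R ∈ P' T)
    (hb : ∀ X : C, ∃ R ∈ P X, ∀ ⦃Y : C⦄ ⦃f : Y ⟶ X⦄, R f → C' Y)
    (hc : ∀ ⦃S : C⦄ ⦃R₁ : Presieve S⦄, R₁ ∈ P' S →
      ∀ (R₂ : ∀ ⦃Y : C⦄ ⦃f : Y ⟶ S⦄, R₁ f → Presieve Y),
        (∀ ⦃Y : C⦄ ⦃f : Y ⟶ S⦄ (hf : R₁ f), R₂ hf ∈ P Y ∧ ∀ ⦃Z : C⦄ ⦃g : Z ⟶ Y⦄, R₂ hf g → C' Z) →
      ∀ (R₃ : ∀ ⦃Y : C⦄ ⦃f : Y ⟶ S⦄ (hf : R₁ f) ⦃Z : C⦄ ⦃g : Z ⟶ Y⦄, R₂ hf g → Presieve Z),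
        (∀ ⦃Y : C⦄ ⦃f : Y ⟶ S⦄ (hf : R₁ f) ⦃Z : C⦄ ⦃g : Z ⟶ Y⦄ (hg : R₂ hf g), R₃ hf hg ∈ P' Z) →
      ∃ T ∈ P' S, ∀ ⦃W : C⦄ ⦃q : W ⟶ S⦄, T q →
        ∃ (Y Z V : C) (f : Y ⟶ S) (hf : R₁ f) (g : Z ⟶ Y) (hg : R₂ hf g) (h : V ⟶ Z) (_ : R₃ hf hg h)
          (r : W ⟶ V), r ≫ h ≫ g ≫ f = q)
    (F : Cᵒᵖ ⥤ Type w) :
    Presieve.IsSheaf (P ⊔ P').toGrothendieck F ↔
      (∀ ⦃X : C⦄ ⦃R : Presieve X⦄, R ∈ P X → Presieve.IsSheafFor F R) ∧
      (∀ ⦃X : C⦄ ⦃R : Presieve X⦄, R ∈ P' X → Presieve.IsSheafFor F R) := by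
  have hJP : ∀ ⦃X : C⦄ ⦃R : Presieve X⦄, R ∈ P X →
      Sieve.generate R ∈ (P ⊔ P').toGrothendieck X :=
    fun X R hR => Precoverage.generate_mem_toGrothendieck (Or.inl hR)
  have hJP' : ∀ ⦃X : C⦄ ⦃R : Presieve X⦄, R ∈ P' X →
      Sieve.generate R ∈ (P ⊔ P').toGrothendieck X :=
    fun X R hR => Precoverage.generate_mem_toGrothendieck (Or.inr hR)
  constructor
  · intro h
    exact ⟨fun X R hR => (Presieve.isSheafFor_iff_generate R).mpr (h _ (hJP hR)),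
      fun X R hR => (Presieve.isSheafFor_iff_generate R).mpr (h _ (hJP' hR))⟩
  · rintro ⟨hP, hP'⟩
    have hQ : ∀ ⦃X : C⦄ (S : Sieve X), S ∈ (P ⊔ P').toGrothendieck X → Q C' P P' X S :=
      fun X S hS => Q_of_saturate hP'id ha hb hc hS
    have hsep : ∀ ⦃X : C⦄ (S : Sieve X), S ∈ (P ⊔ P').toGrothendieck X →
        Presieve.IsSeparatedFor F S.arrows :=
      fun X S hS => isSeparatedFor_of_Q F (fun X R hR => (hP hR).isSeparatedFor)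
        (fun X R hR => (hP' hR).isSeparatedFor) (hQ S hS)
    intro X S hS
    exact isSheafFor_of_Q F _ hJP hJP' hsep hP hP' hS (hQ S hS)

end Groth.Agent.S6052
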