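import Groth.Statements.S6054
import Groth.Agent.Lib.EqRelSheaf
import Groth.Agent.Lib.SheafEpi

set_option autoImplicit false
open CategoryTheory CategoryTheory.Limits MonoidalCategory
universe w v₁ u₁
open ShfCat

namespace Groth.Agent.S6054

section Aux
open MonObj CartesianMonoidalCategory SemiCartesianMonoidalCategory

section Gen

variable {E : Type*} [Category E] [CartesianMonoidalCategory E]
variable {A B : E} [GrpObj A] [GrpObj B] (j : B ⟶ A)

/-- right multiplication action -/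
abbrev ract : A ⊗ B ⟶ A := (A ◁ j) ≫ μ

omit [GrpObj B] in
theorem lift_ract {T : E} (a : T ⟶ A) (b : T ⟶ B) : lift a b ≫ ract j = a * (b ≫ j) := by
  unfold ract
  rw [Hom.mul_def, ← Category.assoc]
  congr 1
  ext <;> simp

omit [GrpObj B] in
theorem comp_ract {T : E} (u : T ⟶ A ⊗ B) : u ≫ ract j = (u ≫ fst A B) * (u ≫ snd A B ≫ j) := by
  have h : u = lift (u ≫ fst A B) (u ≫ snd A B) := by ext <;> simp
  conv_lhs => rw [h]
  rw [lift_ract, Category.assoc]

omit [GrpObj B] in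
theorem ract_eq : ract j = fst A B * (snd A B ≫ j) := by
  have h := comp_ract j (𝟙 (A ⊗ B))
  rwa [Category.id_comp, Category.id_comp, Category.id_comp] at h

omit [GrpObj A] [GrpObj B] in
theorem lift_comp_of {X Y X' Y' T : E} (t : X ⊗ Y ⟶ X' ⊗ Y') (p : X ⟶ X') (q : Y ⟶ Y')
    (h1 : t ≫ fst X' Y' = fst X Y ≫ p) (h2 : t ≫ snd X' Y' = snd X Y ≫ q) (a : T ⟶ X) (c : T ⟶ Y) :
    lift a c ≫ t = lift (a ≫ p) (c ≫ q) := by
  ext
  · rw [Category.assoc, h1, ← Category.assoc, lift_fst, lift_fst]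
  · rw [Category.assoc, h2, ← Category.assoc, lift_snd, lift_snd]

variable [Mono j] [IsMonHom j]

omit [GrpObj B] [IsMonHom j] in
theorem jointlyMono_ract : JointlyMono₂ (fst A B) (ract j) where
  right_cancellation Y f g h₁ h₂ := by
    rw [comp_ract, comp_ract, h₁] at h₂
    have h3 : f ≫ snd A B ≫ j = g ≫ snd A B ≫ j := mul_left_cancel h₂
    have h4 : f ≫ snd A B = g ≫ snd A B := by
      rw [← cancel_mono j, Category.assoc, Category.assoc, h3]
    ext
    · exact h₁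
    · exact h4

/-- The equivalence relation on `A` given by right translation by `B`. -/
noncomputable def eqRel [HasPullbacks E] : EquivalenceRelation (fst A B) (ract j) where
  toJointlyMono₂ := jointlyMono_ract j
  r := lift (𝟙 A) 1
  reflexivity₁ := by simp
  reflexivity₂ := by
    rw [lift_ract, MonObj.one_comp, _root_.mul_one]
  s := lift (ract j) (snd A B)⁻¹
  symmetry₁ := by simp
  symmetry₂ := by
    rw [lift_ract, ract_eq, GrpObj.inv_comp, _root_.mul_assoc, mul_inv_cancel, _root_.mul_one]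
  c := pullback.cone (ract j) (fst A B)
  isLimit := pullback.isLimit (ract j) (fst A B)
  t := lift (pullback.fst (ract j) (fst A B) ≫ fst A B)
    ((pullback.fst (ract j) (fst A B) ≫ snd A B) * (pullback.snd (ract j) (fst A B) ≫ snd A B))
  transitivity₁ := by
    simp
  transitivity₂ := by
    change _ = pullback.snd (ract j) (fst A B) ≫ ract j
    rw [lift_ract, MonObj.mul_comp, ← _root_.mul_assoc, comp_ract (u := pullback.snd (ract j) (fst A B)),
      ← pullback.condition, comp_ract, Category.assoc, Category.assoc]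

end Gen

section Sh

variable {C : Type u₁} [Category.{v₁} C] (J : GrothendieckTopology C) [HasSheafify J (Type w)]
variable {A B : Sheaf J (Type w)} [hA : GrpObj A] [hB : GrpObj B] (j : B ⟶ A) [Mono j]
  (hj : @IsMonHom (Sheaf J (Type w)) _ _ B A hB.toMonObj hA.toMonObj j)

include hj in
/-- For a subgroup sheaf, `A × B ⇉ A` is the kernel pair of `A ⟶ A/B`. -/
theorem isKernelPair_π :
    IsKernelPair (coequalizer.π (fst A B) (ract j)) (fst A B) (ract j) := by
  have := hj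
  let E := Groth.Agent.Lib.EqRelSheaf.sheafEER J (eqRel j)
  let φ : E.B ⟶ coequalizer (fst A B) (ract j) :=
    E.isPushout.desc (coequalizer.π _ _) (coequalizer.π _ _) (coequalizer.condition _ _)
  have hφ : E.π ≫ φ = coequalizer.π _ _ := E.isPushout.inl_desc _ _ _
  let ψ : coequalizer (fst A B) (ract j) ⟶ E.B := coequalizer.desc E.π E.isPushout.w
  have hψ : coequalizer.π _ _ ≫ ψ = E.π := coequalizer.π_desc _ _
  have hφψ : φ ≫ ψ = 𝟙 _ := by
    apply E.isPushout.hom_ext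
    · rw [← Category.assoc, hφ, hψ, Category.comp_id]
    · rw [← Category.assoc, hφ, hψ, Category.comp_id]
  have : IsSplitMono φ := ⟨⟨⟨ψ, hφψ⟩⟩⟩
  have hk : IsKernelPair (E.π ≫ φ) (fst A B) (ract j) := E.isKernelPair.comp_of_mono
  rw [hφ] at hk
  exact hk

include hj in
/-- effectivity in terms of generalized elements -/
theorem exists_of_π_eq {T : Sheaf J (Type w)} (a a' : T ⟶ A)
    (h : a ≫ coequalizer.π (fst A B) (ract j) = a' ≫ coequalizer.π (fst A B) (ract j)) :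
    ∃ b : T ⟶ B, a' = a * (b ≫ j) := by
  have hk := isKernelPair_π J j hj
  refine ⟨hk.lift a a' h ≫ snd A B, ?_⟩
  have h1 : hk.lift a a' h ≫ fst A B = a := hk.lift_fst _ _ _
  have h2 : hk.lift a a' h ≫ ract j = a' := hk.lift_snd _ _ _
  calc a' = hk.lift a a' h ≫ ract j := h2.symm
    _ = a * ((hk.lift a a' h ≫ snd A B) ≫ j) := by rw [comp_ract, h1, Category.assoc]

omit hB [Mono j] in
theorem mul_π {T : Sheaf J (Type w)} (a : T ⟶ A) (b : T ⟶ B) :
    (a * (b ≫ j)) ≫ coequalizer.π (fst A B) (ract j) = a ≫ coequalizer.π (fst A B) (ract j) := by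
  rw [← lift_ract, Category.assoc, ← coequalizer.condition, ← Category.assoc, lift_fst]

/-- local lifting along an epimorphism -/
theorem exists_local_lift {X Y T : Sheaf J (Type w)} (p : X ⟶ Y) [Epi p] (x : T ⟶ Y) :
    ∃ (T' : Sheaf J (Type w)) (e : T' ⟶ T) (_ : Epi e) (a : T' ⟶ X), a ≫ p = e ≫ x := by
  refine ⟨pullback x p, pullback.fst x p, ?_, pullback.snd x p, pullback.condition.symm⟩
  exact Groth.Agent.Lib.SheafEpi.epi_of_isPullback J (IsPullback.of_hasPullback x p)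

end Sh

set_option maxHeartbeats 800000 in
theorem result_aux {C : Type u₁} [Category.{v₁} C]
    (J : GrothendieckTopology C) [HasSheafify J (Type w)]
    {H K G : Sheaf J (Type w)} [hH : GrpObj H] [hK : GrpObj K] [hG : GrpObj G]
    (h : H ⟶ K) (k : K ⟶ G) [Mono h] [Mono k]
    (hh : @IsMonHom (Sheaf J (Type w)) _ _ H K hH.toMonObj hK.toMonObj h)
    (hk : @IsMonHom (Sheaf J (Type w)) _ _ K G hK.toMonObj hG.toMonObj k)
    (act : coequalizer (fst G H) ((G ◁ (h ≫ k)) ≫ hG.mul) ⊗ coequalizer (fst K H) ((K ◁ h) ≫ hK.mul) ⟶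
      coequalizer (fst G H) ((G ◁ (h ≫ k)) ≫ hG.mul))
    (hact : (coequalizer.π (fst G H) ((G ◁ (h ≫ k)) ≫ hG.mul) ⊗ₘ coequalizer.π (fst K H) ((K ◁ h) ≫ hK.mul)) ≫ act =
      (G ◁ k) ≫ hG.mul ≫ coequalizer.π (fst G H) ((G ◁ (h ≫ k)) ≫ hG.mul))
    (qbar : coequalizer (fst G H) ((G ◁ (h ≫ k)) ≫ hG.mul) ⟶ coequalizer (fst G K) ((G ◁ k) ≫ hG.mul))
    (hq : coequalizer.π (fst G H) ((G ◁ (h ≫ k)) ≫ hG.mul) ≫ qbar = coequalizer.π (fst G K) ((G ◁ k) ≫ hG.mul)) :
    Mono (lift act (fst _ _)) ∧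
    ∃ wq : fst _ _ ≫ qbar = act ≫ qbar, Nonempty (IsColimit (Cofork.ofπ qbar wq)) := by
  have hhk : @IsMonHom (Sheaf J (Type w)) _ _ H G hH.toMonObj hG.toMonObj (h ≫ k) := by
    have := hh
    have := hk
    infer_instance
  -- notation
  obtain ⟨πH, hπH⟩ : ∃ p : G ⟶ coequalizer (fst G H) ((G ◁ (h ≫ k)) ≫ hG.mul),
    p = coequalizer.π (fst G H) (ract (h ≫ k)) := ⟨_, rfl⟩
  obtain ⟨π', hπ'⟩ : ∃ p : K ⟶ coequalizer (fst K H) ((K ◁ h) ≫ hK.mul),
    p = coequalizer.π (fst K H) (ract h) := ⟨_, rfl⟩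
  obtain ⟨πK, hπK⟩ : ∃ p : G ⟶ coequalizer (fst G K) ((G ◁ k) ≫ hG.mul),
    p = coequalizer.π (fst G K) (ract k) := ⟨_, rfl⟩
  have hact' : ∀ {T : Sheaf J (Type w)} (a : T ⟶ G) (c : T ⟶ K),
      lift (a ≫ πH) (c ≫ π') ≫ act = (a * (c ≫ k)) ≫ πH := by
    intro T a c
    have h0 : lift a c ≫ (coequalizer.π (fst G H) ((G ◁ (h ≫ k)) ≫ hG.mul) ⊗ₘ
        coequalizer.π (fst K H) ((K ◁ h) ≫ hK.mul)) ≫ act = lift a c ≫ (G ◁ k) ≫ hG.mul ≫
        coequalizer.π (fst G H) ((G ◁ (h ≫ k)) ≫ hG.mul) := congrArg (fun m => lift a c ≫ m) hact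
    have h1 : lift a c ≫ (coequalizer.π (fst G H) ((G ◁ (h ≫ k)) ≫ hG.mul) ⊗ₘ
        coequalizer.π (fst K H) ((K ◁ h) ≫ hK.mul)) = lift (a ≫ coequalizer.π (fst G H) ((G ◁ (h ≫ k)) ≫ hG.mul))
          (c ≫ coequalizer.π (fst K H) ((K ◁ h) ≫ hK.mul)) :=
      lift_comp_of _ _ _ (tensorHom_fst _ _) (tensorHom_snd _ _) a c
    rw [hπH, hπ']
    rw [← Category.assoc, h1] at h0
    refine h0.trans ?_
    have h2 := lift_ract k a c
    unfold ract at h2
    rw [← h2, Category.assoc, Category.assoc]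
    rfl
  have hq' : πH ≫ qbar = πK := by rw [hπH, hπK]; exact hq
  have epiH : Epi πH := by rw [hπH]; exact coequalizer.π_epi
  have epi' : Epi π' := by rw [hπ']; exact coequalizer.π_epi
  have epiK : Epi πK := by rw [hπK]; exact coequalizer.π_epi
  -- (F1)
  have mulH : ∀ {T : Sheaf J (Type w)} (a : T ⟶ G) (z : T ⟶ H), (a * (z ≫ h ≫ k)) ≫ πH = a ≫ πH := by
    intro T a z
    rw [hπH]
    exact mul_π J (h ≫ k) a z
  have mul' : ∀ {T : Sheaf J (Type w)} (c : T ⟶ K) (z : T ⟶ H), (c * (z ≫ h)) ≫ π' = c ≫ π' := by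
    intro T c z
    rw [hπ']
    exact mul_π J h c z
  have mulK : ∀ {T : Sheaf J (Type w)} (a : T ⟶ G) (c : T ⟶ K), (a * (c ≫ k)) ≫ πK = a ≫ πK := by
    intro T a c
    rw [hπK]
    exact mul_π J k a c
  -- (F2)
  have effH : ∀ {T : Sheaf J (Type w)} (a a' : T ⟶ G), a ≫ πH = a' ≫ πH →
      ∃ z : T ⟶ H, a' = a * (z ≫ h ≫ k) := by
    intro T a a' haa
    rw [hπH] at haa
    exact exists_of_π_eq J (h ≫ k) hhk a a' haa
  have effK : ∀ {T : Sheaf J (Type w)} (a a' : T ⟶ G), a ≫ πK = a' ≫ πK →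
      ∃ c : T ⟶ K, a' = a * (c ≫ k) := by
    intro T a a' haa
    rw [hπK] at haa
    exact exists_of_π_eq J k hk a a' haa
  -- (F3)
  have F3 : ∀ {T : Sheaf J (Type w)} (a : T ⟶ G) (c : T ⟶ K),
      lift (a ≫ πH) (c ≫ π') ≫ act = (a * (c ≫ k)) ≫ πH := hact'
  clear hact hq hπH hπ' hπK
  refine ⟨⟨fun {T} u v huv => ?_⟩, ?_⟩
  · -- freeness
    have h1 : u ≫ fst _ _ = v ≫ fst _ _ := by
      have := congrArg (fun m => m ≫ snd _ _) huv
      simpa only [Category.assoc, lift_snd] using this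
    have h2 : u ≫ act = v ≫ act := by
      have := congrArg (fun m => m ≫ fst _ _) huv
      simpa only [Category.assoc, lift_fst] using this
    obtain ⟨T₁, e₁, _, a, ha⟩ := exists_local_lift J πH (u ≫ fst _ _)
    obtain ⟨T₂, e₂, _, c, hc⟩ := exists_local_lift J π' (e₁ ≫ u ≫ snd _ _)
    obtain ⟨T₃, e₃, _, d, hd⟩ := exists_local_lift J π' (e₂ ≫ e₁ ≫ v ≫ snd _ _)
    have hu : (e₃ ≫ e₂ ≫ e₁) ≫ u = lift ((e₃ ≫ e₂ ≫ a) ≫ πH) ((e₃ ≫ c) ≫ π') := by
      ext
      · simp only [Category.assoc, lift_fst, ha]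
      · simp only [Category.assoc, lift_snd, hc]
    have hv : (e₃ ≫ e₂ ≫ e₁) ≫ v = lift ((e₃ ≫ e₂ ≫ a) ≫ πH) (d ≫ π') := by
      ext
      · simp only [Category.assoc, lift_fst, ha, h1]
      · simp only [Category.assoc, lift_snd, hd]
    have h3 : ((e₃ ≫ e₂ ≫ a) * ((e₃ ≫ c) ≫ k)) ≫ πH = ((e₃ ≫ e₂ ≫ a) * (d ≫ k)) ≫ πH := by
      rw [← F3, ← F3, ← hu, ← hv]
      simp only [Category.assoc, h2]
    obtain ⟨z, hz⟩ := effH _ _ h3
    have h4 : d ≫ k = ((e₃ ≫ c) * (z ≫ h)) ≫ k := by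
      have := hk
      rw [MonObj.mul_comp, Category.assoc]
      rw [_root_.mul_assoc] at hz
      exact mul_left_cancel hz
    have h5 : d = (e₃ ≫ c) * (z ≫ h) := (cancel_mono k).1 h4
    have h6 : d ≫ π' = (e₃ ≫ c) ≫ π' := by rw [h5, mul']
    have h7 : (e₃ ≫ e₂ ≫ e₁) ≫ u = (e₃ ≫ e₂ ≫ e₁) ≫ v := by rw [hu, hv, h6]
    have : Epi (e₃ ≫ e₂ ≫ e₁) := epi_comp' inferInstance (epi_comp' inferInstance inferInstance)
    exact (cancel_epi _).1 h7
  · -- the coequalizer
    have key : ∀ {T : Sheaf J (Type w)} (x : T ⟶ _) (y : T ⟶ _) {Z : Sheaf J (Type w)}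
        (s₁ s₂ : _ ⟶ Z), (∀ {T' : Sheaf J (Type w)} (a : T' ⟶ G) (c : T' ⟶ K),
          lift (a ≫ πH) (c ≫ π') ≫ s₁ = lift (a ≫ πH) (c ≫ π') ≫ s₂) →
        lift x y ≫ s₁ = lift x y ≫ s₂ := by
      intro T x y Z s₁ s₂ hs
      obtain ⟨T₁, e₁, _, a, ha⟩ := exists_local_lift J πH x
      obtain ⟨T₂, e₂, _, c, hc⟩ := exists_local_lift J π' (e₁ ≫ y)
      have hu : (e₂ ≫ e₁) ≫ lift x y = lift ((e₂ ≫ a) ≫ πH) (c ≫ π') := by
        ext
        · simp only [Category.assoc, lift_fst, ha]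
        · simp only [Category.assoc, lift_snd, hc]
      have : Epi (e₂ ≫ e₁) := epi_comp' inferInstance inferInstance
      rw [← cancel_epi (e₂ ≫ e₁), ← Category.assoc, ← Category.assoc, hu]
      exact hs _ _
    have wq : fst _ _ ≫ qbar = act ≫ qbar := by
      have h0 := key (fst _ _) (snd _ _) (fst _ _ ≫ qbar) (act ≫ qbar) (by
        intro T' a c
        rw [← Category.assoc, lift_fst, ← Category.assoc, F3, Category.assoc, Category.assoc, hq', mulK])
      have e : lift (fst (coequalizer (fst G H) ((G ◁ (h ≫ k)) ≫ hG.mul))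
          (coequalizer (fst K H) ((K ◁ h) ≫ hK.mul))) (snd _ _) = 𝟙 _ := by
        ext <;> simp
      rwa [e, Category.id_comp, Category.id_comp] at h0
    refine ⟨wq, ?_⟩
    have epiq : Epi qbar := by
      have : Epi (πH ≫ qbar) := by rw [hq']; exact epiK
      exact epi_of_epi πH qbar
    have hreg : RegularEpi qbar := regularEpiOfEpi qbar
    -- pairs identified by qbar are identified by any s coequalizing (fst, act)
    have key2 : ∀ {T : Sheaf J (Type w)} (x y : T ⟶ _) {Z : Sheaf J (Type w)} (s : _ ⟶ Z),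
        fst _ _ ≫ s = act ≫ s → x ≫ qbar = y ≫ qbar → x ≫ s = y ≫ s := by
      intro T x y Z s hs hxy
      obtain ⟨T₁, e₁, _, a, ha⟩ := exists_local_lift J πH x
      obtain ⟨T₂, e₂, _, b, hb⟩ := exists_local_lift J πH (e₁ ≫ y)
      have h1 : (e₂ ≫ a) ≫ πK = b ≫ πK := by
        rw [← hq', ← Category.assoc, ← Category.assoc, Category.assoc e₂, ha, hb, Category.assoc,
          Category.assoc, Category.assoc, Category.assoc, hxy]
      obtain ⟨c, hc⟩ := effK _ _ h1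
      have h2 : (e₂ ≫ e₁) ≫ y = lift ((e₂ ≫ e₁) ≫ x) (c ≫ π') ≫ act := by
        rw [Category.assoc, ← hb, hc, ← F3, Category.assoc, ha, Category.assoc]
      have : Epi (e₂ ≫ e₁) := epi_comp' inferInstance inferInstance
      rw [← cancel_epi (e₂ ≫ e₁), ← Category.assoc, ← Category.assoc, h2,
        Category.assoc (lift _ _) act s, ← hs, ← Category.assoc, lift_fst, Category.assoc]
    refine ⟨Cofork.IsColimit.mk _ (fun s => Cofork.IsColimit.desc hreg.isColimit s.π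
      (key2 hreg.left hreg.right s.π s.condition hreg.w)) ?_ ?_⟩
    · intro s
      exact Cofork.IsColimit.π_desc' hreg.isColimit _ _
    · intro s m hm
      rw [← cancel_epi qbar]
      exact hm.trans (Cofork.IsColimit.π_desc' hreg.isColimit _ _).symm

end Aux

open MonObj CartesianMonoidalCategory SemiCartesianMonoidalCategory in
/-- Let `G` be a sheaf of groups on a site, `K ⊆ G` a subgroup sheaf and `H ⊆ K` a subgroup sheaf normal
in `K`. With `G/H`, `K/H`, `G/K` the quotient sheaves, the right action of `K/H` on `G/H` induced by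
multiplication is free, and the canonical map `G/H ⟶ G/K` identifies `G/K` with the quotient
`(G/H)/(K/H)` (it is a coequalizer of the projection and the action). Sheaves of sets in `Type w`
with sheafification; the action and the map `G/H ⟶ G/K` are pinned by their compatibility with `G ×
K ⟶ G ⟶ G/H` and with `G ⟶ G/K`. (The published statement adds that for `K` normal in `G` the
identification respects the group structures; that clause is not stated.) -/
theorem result {C : Type u₁} [Category.{v₁} C]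
    (J : GrothendieckTopology C) [HasSheafify J (Type w)]
    {H K G : Sheaf J (Type w)} [hH : GrpObj H] [hK : GrpObj K] [hG : GrpObj G]
    (h : H ⟶ K) (k : K ⟶ G) [Mono h] [Mono k]
    (hh : @IsMonHom (Sheaf J (Type w)) _ _ H K hH.toMonObj hK.toMonObj h)
    (hk : @IsMonHom (Sheaf J (Type w)) _ _ K G hK.toMonObj hG.toMonObj k)
    (hn : ∀ (Y : Sheaf J (Type w)) (x : Y ⟶ K) (y : Y ⟶ H), ∃ y' : Y ⟶ H, x * (y ≫ h) * x⁻¹ = y' ≫ h)
    (act : coequalizer (fst G H) ((G ◁ (h ≫ k)) ≫ hG.mul) ⊗ coequalizer (fst K H) ((K ◁ h) ≫ hK.mul) ⟶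
      coequalizer (fst G H) ((G ◁ (h ≫ k)) ≫ hG.mul))
    (hact : (coequalizer.π (fst G H) ((G ◁ (h ≫ k)) ≫ hG.mul) ⊗ₘ coequalizer.π (fst K H) ((K ◁ h) ≫ hK.mul)) ≫ act =
      (G ◁ k) ≫ hG.mul ≫ coequalizer.π (fst G H) ((G ◁ (h ≫ k)) ≫ hG.mul))
    (qbar : coequalizer (fst G H) ((G ◁ (h ≫ k)) ≫ hG.mul) ⟶ coequalizer (fst G K) ((G ◁ k) ≫ hG.mul))
    (hq : coequalizer.π (fst G H) ((G ◁ (h ≫ k)) ≫ hG.mul) ≫ qbar = coequalizer.π (fst G K) ((G ◁ k) ≫ hG.mul)) :
    Mono (lift act (fst _ _)) ∧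
    ∃ wq : fst _ _ ≫ qbar = act ≫ qbar, Nonempty (IsColimit (Cofork.ofπ qbar wq)) :=
  result_aux J h k hh hk act hact qbar hq

end Groth.Agent.S6054
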