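import Groth.Statements.S6055
import Groth.Agent.Lib.H43QuotGrp2

set_option autoImplicit false
open CategoryTheory CategoryTheory.Limits MonoidalCategory
universe w v₁ u₁
open ShfCat

namespace Groth.Agent.S6055

section Aux
open MonObj CartesianMonoidalCategory SemiCartesianMonoidalCategory
open Groth.Agent.Lib.H43QuotGrp

variable {E : Type*} [Category E]

theorem isPullback_of_points {P X Y Z : E} (a : P ⟶ X) (b : P ⟶ Y) (f : X ⟶ Z) (g : Y ⟶ Z)
    (w : a ≫ f = b ≫ g)
    (hex : ∀ (T : E) (x : T ⟶ X) (y : T ⟶ Y), x ≫ f = y ≫ g → ∃ p : T ⟶ P, p ≫ a = x ∧ p ≫ b = y)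
    (huniq : ∀ (T : E) (p q : T ⟶ P), p ≫ a = q ≫ a → p ≫ b = q ≫ b → p = q) :
    IsPullback a b f g := by
  refine ⟨⟨w⟩, ⟨PullbackCone.IsLimit.mk w (fun s => (hex _ s.fst s.snd s.condition).choose) ?_ ?_ ?_⟩⟩
  · intro s
    exact (hex _ s.fst s.snd s.condition).choose_spec.1
  · intro s
    exact (hex _ s.fst s.snd s.condition).choose_spec.2
  · intro s m h1 h2
    exact huniq _ _ _ (h1.trans (hex _ s.fst s.snd s.condition).choose_spec.1.symm)
      (h2.trans (hex _ s.fst s.snd s.condition).choose_spec.2.symm)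

variable [CartesianMonoidalCategory E]
variable {G H L Q P : E} [GrpObj G] [GrpObj H] [GrpObj L] (u : H ⟶ G) (l : L ⟶ G) (π : G ⟶ Q)

theorem isKernelPair_inter [Mono u] (hl : IsMonHom l) (hQ : IsGrpQuot u π)
    (p₁ : P ⟶ H) (p₂ : P ⟶ L) (sq : IsPullback p₁ p₂ u l) :
    IsKernelPair (l ≫ π) (fst L P) ((L ◁ p₂) ≫ μ) := by
  have hm : Mono p₂ := sq.mono_snd_of_mono
  have key : ∀ {T : E} (z : T ⟶ L ⊗ P), z ≫ (L ◁ p₂) ≫ μ = (z ≫ fst L P) * (z ≫ snd L P ≫ p₂) := by
    intro T z
    rw [← Category.assoc, comp_mul_eq, Category.assoc, Category.assoc, whiskerLeft_fst,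
      whiskerLeft_snd]
  refine isPullback_of_points _ _ _ _ ?_ ?_ ?_
  · have h1 := key (𝟙 (L ⊗ P))
    rw [Category.id_comp, Category.id_comp, Category.id_comp] at h1
    have h3 : (fst L P * snd L P ≫ p₂) ≫ l = (fst L P ≫ l) * ((snd L P ≫ p₁) ≫ u) := by
      rw [MonObj.mul_comp, Category.assoc, ← sq.w, Category.assoc]
    rw [h1, ← Category.assoc (fst L P * snd L P ≫ p₂) l π, h3, hQ.mul_π, Category.assoc]
  · intro T a b hab
    rw [← Category.assoc, ← Category.assoc] at hab
    obtain ⟨h, hh⟩ := hQ.eff _ _ hab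
    have h2 : h ≫ u = (a⁻¹ * b) ≫ l := by
      rw [MonObj.mul_comp, GrpObj.inv_comp, hh]
      group
    refine ⟨lift a (sq.lift h (a⁻¹ * b) h2), by simp, ?_⟩
    rw [key]
    simp
  · intro T p q h1 h2
    rw [key, key, h1] at h2
    have h3 : p ≫ snd L P ≫ p₂ = q ≫ snd L P ≫ p₂ := mul_left_cancel h2
    ext
    · exact h1
    · rw [← cancel_mono p₂, Category.assoc, Category.assoc, h3]

end Aux

open MonObj CartesianMonoidalCategory SemiCartesianMonoidalCategory in
/-- Let `G` be a sheaf of groups on a site, `H, L ⊆ G` subgroup sheaves and `π : G ⟶ G/H` the quotient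
sheaf map. Then the pair `L × (H ∩ L) ⇉ L` (projection, right multiplication) is the kernel pair of
`L ⟶ G ⟶ G/H`, so that the image of `L` in `G/H` is the quotient sheaf `L/(H ∩ L)`. Sheaves of sets
in `Type w` with sheafification; `H ∩ L` is the fibre product `H ×_G L`. (The published statement
assumes `H` normal and also identifies this image with `(L·H)/H`; normality is not needed for the
part stated here.) -/
theorem result {C : Type u₁} [Category.{v₁} C]
    (J : GrothendieckTopology C) [HasSheafify J (Type w)]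
    {H L G : Sheaf J (Type w)} [hH : GrpObj H] [hL : GrpObj L] [hG : GrpObj G]
    (u : H ⟶ G) (l : L ⟶ G) [Mono u] [Mono l]
    (hu : @IsMonHom (Sheaf J (Type w)) _ _ H G hH.toMonObj hG.toMonObj u)
    (hl : @IsMonHom (Sheaf J (Type w)) _ _ L G hL.toMonObj hG.toMonObj l) :
    IsKernelPair (l ≫ coequalizer.π (fst G H) ((G ◁ u) ≫ hG.mul))
      (fst L (pullback u l)) ((L ◁ pullback.snd u l) ≫ hL.mul) :=
  isKernelPair_inter u l _ hl (Groth.Agent.Lib.H43QuotGrp.isGrpQuot_sheaf J u hu) _ _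
    (IsPullback.of_hasPullback u l)

end Groth.Agent.S6055
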