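import Groth.Statements.S6056
import Groth.Agent.Lib.FpqcCov18
import Groth.Agent.Lib.FpqcCovDesc18
import Groth.Agent.Lib.FpqcCovFppf18
import Groth.Agent.Lib.QuotUniq18
import Groth.Agent.Lib.PtsPullback18
import Groth.Agent.Lib.FlatSurj18
import Groth.Agent.Lib.CartPull18
import Groth.Agent.Lib.SrcLocalFppf64
import Groth.Agent.S8013

set_option autoImplicit false
set_option maxHeartbeats 400000
open CategoryTheory CategoryTheory.Limits AlgebraicGeometry MonoidalCategory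
universe u
open RedSub

namespace Groth.Agent.S6056

open MonObj CartesianMonoidalCategory Groth.Agent.Lib.FpqcCov18

section helpers

variable {S : Scheme.{u}}

/-- fppf morphisms in `Over S`, bundled as a proposition. -/
def Fppf {A B : Over S} (p : A ⟶ B) : Prop :=
  Surjective p.left ∧ Flat p.left ∧ LocallyOfFinitePresentation p.left

lemma Fppf.isFpqcCov {A B : Over S} {p : A ⟶ B} (hp : Fppf p) : IsFpqcCov p.left := by
  obtain ⟨h1, h2, h3⟩ := hp
  exact isFpqcCov_of_fppf p.left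

lemma Fppf.comp {A B C : Over S} {p : A ⟶ B} {q : B ⟶ C} (hp : Fppf p) (hq : Fppf q) :
    Fppf (p ≫ q) := by
  obtain ⟨h1, h2, h3⟩ := hp
  obtain ⟨h1', h2', h3'⟩ := hq
  refine ⟨?_, ?_, ?_⟩ <;> rw [Over.comp_left] <;> infer_instance

lemma Fppf.whiskerRight {A B : Over S} {p : A ⟶ B} (hp : Fppf p) (M : Over S) :
    Fppf (p ▷ M) := by
  obtain ⟨h1, h2, h3⟩ := hp
  have sq : IsPullback (p ▷ M).left (fst A M).left (fst B M).left p.left :=
    (Groth.Agent.Lib.CartPull18.isPullback_whiskerRight_fst M p).map (Over.forget S)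
  exact ⟨MorphismProperty.of_isPullback (P := @Surjective) sq.flip h1,
    MorphismProperty.of_isPullback (P := @Flat) sq.flip h2,
    MorphismProperty.of_isPullback (P := @LocallyOfFinitePresentation) sq.flip h3⟩

lemma Fppf.whiskerLeft {A B : Over S} {p : A ⟶ B} (hp : Fppf p) (M : Over S) :
    Fppf (M ◁ p) := by
  obtain ⟨h1, h2, h3⟩ := hp
  have sq : IsPullback (M ◁ p).left (snd M A).left (snd M B).left p.left :=
    (Groth.Agent.Lib.CartPull18.isPullback_whiskerLeft_snd M p).map (Over.forget S)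
  exact ⟨MorphismProperty.of_isPullback (P := @Surjective) sq.flip h1,
    MorphismProperty.of_isPullback (P := @Flat) sq.flip h2,
    MorphismProperty.of_isPullback (P := @LocallyOfFinitePresentation) sq.flip h3⟩

lemma Fppf.tensorHom {A B A' B' : Over S} {p : A ⟶ B} {p' : A' ⟶ B'} (hp : Fppf p)
    (hp' : Fppf p') : Fppf (p ⊗ₘ p') := by
  rw [MonoidalCategory.tensorHom_def]
  exact (hp.whiskerRight A').comp (hp'.whiskerLeft B)

/-- Local lifting of points along an fppf morphism. -/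
lemma Fppf.exists_local_lift {A B T : Over S} {p : A ⟶ B} (hp : Fppf p) (x : T ⟶ B) :
    ∃ (T' : Over S) (c : T' ⟶ T) (g : T' ⟶ A), IsFpqcCov c.left ∧ g ≫ p = c ≫ x := by
  have sq : IsPullback (pullback.fst p x).left (pullback.snd p x).left p.left x.left :=
    (IsPullback.of_hasPullback p x).map (Over.forget S)
  exact ⟨pullback p x, pullback.snd p x, pullback.fst p x, hp.isFpqcCov.of_isPullback sq,
    pullback.condition⟩

end helpers

section core

open Groth.Agent.Lib.QuotUniq18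

variable {S : Scheme.{u}} {H K G QH Kb : Over S}
    [GrpObj H] [GrpObj K] [GrpObj G] [GrpObj Kb]
    (h : H ⟶ K) (k : K ⟶ G) [Mono h] [Mono k] [IsMonHom h] [IsMonHom k]
    (qH : G ⟶ QH) (sqH : IsPullback (fst G H) ((G ◁ (h ≫ k)) ≫ μ[G]) qH qH) (fH : Fppf qH)
    (qKb : K ⟶ Kb) (sqKb : IsPullback (fst K H) ((K ◁ h) ≫ μ[K]) qKb qKb)
    (fKb : Fppf qKb)
    (act : QH ⊗ Kb ⟶ QH) (hact : (qH ⊗ₘ qKb) ≫ act = (G ◁ k) ≫ μ[G] ≫ qH)

include hact in
omit [GrpObj H] [GrpObj K] [GrpObj Kb] [Mono k] [IsMonHom k] in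
lemma act_pts {T : Over S} (g : T ⟶ G) (κ : T ⟶ K) :
    lift (g ≫ qH) (κ ≫ qKb) ≫ act = (g * (κ ≫ k)) ≫ qH := by
  have := congrArg (fun m => lift g κ ≫ m) hact
  simp only [lift_map_assoc, lift_whiskerLeft_assoc] at this
  rw [this, Hom.mul_def, Category.assoc]

include sqH sqKb fH fKb hact in
omit [GrpObj Kb] [Mono h] in
/-- The action of `K/H` on `G/H` is free. -/
lemma act_free {T : Over S} (x : T ⟶ QH) (κ₁' κ₂' : T ⟶ Kb)
    (hx : lift x κ₁' ≫ act = lift x κ₂' ≫ act) : κ₁' = κ₂' := by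
  obtain ⟨T', c, t, hc, ht⟩ := (fH.tensorHom (fKb.tensorHom fKb)).exists_local_lift
    (lift x (lift κ₁' κ₂'))
  have := epi_over c hc
  rw [← cancel_epi c]
  obtain ⟨g, hg⟩ : ∃ g : T' ⟶ G, g ≫ qH = c ≫ x := by
    refine ⟨t ≫ fst _ _, ?_⟩
    have := congrArg (· ≫ fst _ _) ht
    simpa only [Category.assoc, tensorHom_fst, lift_fst] using this
  obtain ⟨κ₁, hκ₁⟩ : ∃ κ₁ : T' ⟶ K, κ₁ ≫ qKb = c ≫ κ₁' := by
    refine ⟨t ≫ snd _ _ ≫ fst _ _, ?_⟩
    have := congrArg (· ≫ snd _ _ ≫ fst _ _) ht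
    simpa only [Category.assoc, tensorHom_snd_assoc, tensorHom_fst, lift_snd_assoc, lift_fst]
      using this
  obtain ⟨κ₂, hκ₂⟩ : ∃ κ₂ : T' ⟶ K, κ₂ ≫ qKb = c ≫ κ₂' := by
    refine ⟨t ≫ snd _ _ ≫ snd _ _, ?_⟩
    have := congrArg (· ≫ snd _ _ ≫ snd _ _) ht
    simpa only [Category.assoc, tensorHom_snd_assoc, tensorHom_snd, lift_snd_assoc, lift_snd]
      using this
  have e1 : (g * (κ₁ ≫ k)) ≫ qH = (g * (κ₂ ≫ k)) ≫ qH := by
    rw [← act_pts k qH qKb act hact g κ₁, ← act_pts k qH qKb act hact g κ₂, hg, hκ₁, hκ₂,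
      ← comp_lift, ← comp_lift, Category.assoc, Category.assoc, hx]
  obtain ⟨z, hz⟩ := (comp_eq_iff sqH _ _).mp e1
  have h2 : κ₂ ≫ k = (κ₁ * (z ≫ h)) ≫ k := by
    rw [MonObj.mul_comp, Category.assoc]
    rw [_root_.mul_assoc] at hz
    exact mul_left_cancel hz
  have hκ : κ₂ = κ₁ * (z ≫ h) := (cancel_mono k).mp h2
  have h3 : κ₁ ≫ qKb = κ₂ ≫ qKb := (comp_eq_iff sqKb κ₁ κ₂).mpr ⟨z, hκ⟩
  rw [← hκ₁, ← hκ₂, h3]

omit [GrpObj Kb] in
lemma pt_eta {A B T : Over S} (p : T ⟶ A ⊗ B) : p = lift (p ≫ fst _ _) (p ≫ snd _ _) := by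
  apply CartesianMonoidalCategory.hom_ext <;> simp

include sqH sqKb fH fKb hact in
omit [GrpObj Kb] [Mono h] in
lemma part_one {QK : Over S} (qK : G ⟶ QK)
    (sqK : IsPullback (fst G K) ((G ◁ k) ≫ μ[G]) qK qK)
    (qbar : QH ⟶ QK) (hbar : qH ≫ qbar = qK) :
    IsPullback (fst QH Kb) act qbar qbar := by
  have hepi : Epi (qH ⊗ₘ qKb) := epi_over _ (fH.tensorHom fKb).isFpqcCov
  have w : fst QH Kb ≫ qbar = act ≫ qbar := by
    rw [← cancel_epi (qH ⊗ₘ qKb), tensorHom_fst_assoc, hbar, reassoc_of% hact, hbar]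
    have := sqK.w
    rw [Category.assoc] at this
    exact this
  refine Groth.Agent.Lib.PtsPullback18.isPullback_of_points w ?_ ?_
  · intro T x₁ x₂ hx
    obtain ⟨T', c, t, hc, ht⟩ := (fH.tensorHom fH).exists_local_lift (lift x₁ x₂)
    have := epi_over c hc
    obtain ⟨g₁, hg₁⟩ : ∃ g₁ : T' ⟶ G, g₁ ≫ qH = c ≫ x₁ := by
      refine ⟨t ≫ fst _ _, ?_⟩
      have := congrArg (· ≫ fst _ _) ht
      simpa only [Category.assoc, tensorHom_fst, lift_fst] using this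
    obtain ⟨g₂, hg₂⟩ : ∃ g₂ : T' ⟶ G, g₂ ≫ qH = c ≫ x₂ := by
      refine ⟨t ≫ snd _ _, ?_⟩
      have := congrArg (· ≫ snd _ _) ht
      simpa only [Category.assoc, tensorHom_snd, lift_snd] using this
    have e1 : g₁ ≫ qK = g₂ ≫ qK := by
      rw [← hbar, ← Category.assoc, ← Category.assoc, hg₁, hg₂, Category.assoc, Category.assoc,
        hx]
    obtain ⟨κ, hκ⟩ := (comp_eq_iff sqK _ _).mp e1
    have hloc : lift (c ≫ x₁) (κ ≫ qKb) ≫ act = c ≫ x₂ := by
      rw [← hg₁, act_pts k qH qKb act hact, ← hκ, hg₂]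
    obtain ⟨κ', hκ'⟩ := exists_desc_over c hc (κ ≫ qKb) (by
      intro A a₁ a₂ ha
      apply act_free h k qH sqH fH qKb sqKb fKb act hact (a₁ ≫ c ≫ x₁)
      have h1 : lift (a₁ ≫ c ≫ x₁) (a₁ ≫ κ ≫ qKb) ≫ act = a₁ ≫ c ≫ x₂ := by
        rw [← comp_lift, Category.assoc, hloc]
      have h2 : lift (a₁ ≫ c ≫ x₁) (a₂ ≫ κ ≫ qKb) ≫ act = a₁ ≫ c ≫ x₂ := by
        rw [← Category.assoc a₁, ha, Category.assoc, ← comp_lift, Category.assoc, hloc,
          ← Category.assoc, ← ha, Category.assoc]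
      rw [h1, h2])
    refine ⟨lift x₁ κ', lift_fst _ _, ?_⟩
    rw [← cancel_epi c, ← Category.assoc, comp_lift, hκ', hloc]
  · intro T p₁ p₂ h1 h2
    have h3 : p₁ ≫ snd _ _ = p₂ ≫ snd _ _ := by
      apply act_free h k qH sqH fH qKb sqKb fKb act hact (p₁ ≫ fst _ _)
      rw [← pt_eta p₁, h1, ← pt_eta p₂]
      exact h2
    rw [pt_eta p₁, pt_eta p₂, h1, h3]

include sqH fH fKb hact in
omit [GrpObj Kb] [Mono h] in
lemma part_two {Y : Over S} (p : QH ⟶ Y) (sqp : IsPullback (fst QH Kb) act p p) :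
    IsPullback (fst G K) ((G ◁ k) ≫ μ[G]) (qH ≫ p) (qH ≫ p) := by
  have w : fst G K ≫ qH ≫ p = ((G ◁ k) ≫ μ[G]) ≫ qH ≫ p := by
    rw [Category.assoc, ← reassoc_of% hact, ← sqp.w, tensorHom_fst_assoc]
  refine Groth.Agent.Lib.PtsPullback18.isPullback_of_points w ?_ ?_
  · intro T g₁ g₂ hg
    have hg' : (g₁ ≫ qH) ≫ p = (g₂ ≫ qH) ≫ p := by simpa using hg
    obtain ⟨κ', hκ'⟩ : ∃ κ' : T ⟶ Kb, lift (g₁ ≫ qH) κ' ≫ act = g₂ ≫ qH := by
      refine ⟨sqp.lift _ _ hg' ≫ snd _ _, ?_⟩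
      have h1 := sqp.lift_fst _ _ hg'
      have h2 := sqp.lift_snd _ _ hg'
      have ht : lift (g₁ ≫ qH) (sqp.lift _ _ hg' ≫ snd _ _) = sqp.lift _ _ hg' := by
        rw [pt_eta (sqp.lift _ _ hg'), h1]
        simp
      rw [ht, h2]
    obtain ⟨T', c, κ, hc, hκ⟩ := fKb.exists_local_lift κ'
    have e1 : ((c ≫ g₁) * (κ ≫ k)) ≫ qH = (c ≫ g₂) ≫ qH := by
      rw [← act_pts k qH qKb act hact, hκ, Category.assoc, ← comp_lift, Category.assoc, hκ',
        Category.assoc]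
    obtain ⟨z, hz⟩ := (comp_eq_iff sqH _ _).mp e1
    have hfac : (κ * (z ≫ h)) ≫ k = c ≫ (g₁⁻¹ * g₂) := by
      rw [MonObj.mul_comp, Category.assoc, MonObj.comp_mul, GrpObj.comp_inv, hz,
        _root_.mul_assoc, inv_mul_cancel_left]
    obtain ⟨z', hz'⟩ := Groth.Agent.S8013.exists_factor_of_cover k (g₁⁻¹ * g₂) c hc _ hfac
    refine ⟨lift g₁ z', lift_fst _ _, ?_⟩
    rw [Groth.Agent.Lib.KerSq18.whiskerLeft_mul k (lift g₁ z'), lift_fst, lift_snd, hz',
      mul_inv_cancel_left]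
  · intro T p₁ p₂ h1 h2
    rw [Groth.Agent.Lib.KerSq18.whiskerLeft_mul k p₁, Groth.Agent.Lib.KerSq18.whiskerLeft_mul k p₂,
      h1] at h2
    have h3 : p₁ ≫ snd _ _ = p₂ ≫ snd _ _ := (cancel_mono k).mp (mul_left_cancel h2)
    rw [pt_eta p₁, pt_eta p₂, h1, h3]

end core

open MonObj CartesianMonoidalCategory SemiCartesianMonoidalCategory in
/-- For group schemes and fppf quotients: let `K ⊆ G` be a subgroup scheme and `H ⊆ K` a subgroup scheme
normal in `K`; suppose `G/H` is represented by `q_H : G ⟶ Q_H` and `K/H` by a homomorphism `K ⟶ K'`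
of group schemes, and let `act : Q_H ×_S K' ⟶ Q_H` be the right action induced by the multiplication
of `G`. Then: (i) if `G/K` is represented by `q_K : G ⟶ Q_K`, the map `Q_H ⟶ Q_K` under `G` is an
fppf covering whose kernel pair is `Q_H ×_S K' ⇉ Q_H` (projection, action), i.e. `Q_K =
(G/H)/(K/H)`; (ii) conversely, if `p : Q_H ⟶ Y` is an fppf covering with that kernel pair, then `q_H
≫ p` represents `G/K`. -/
theorem result {S : Scheme.{u}} {H K G QH Kb : Over S}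
    [hH : GrpObj H] [hK : GrpObj K] [hG : GrpObj G] [hKb : GrpObj Kb]
    (h : H ⟶ K) (k : K ⟶ G) [Mono h] [Mono k] [IsMonHom h] [IsMonHom k]
    (hn : AlgGrp.IsNormalHom h)
    (qH : G ⟶ QH) (hqH : RedSub.IsQuotient (h ≫ k) qH)
    (qKb : K ⟶ Kb) [IsMonHom qKb] (hqKb : RedSub.IsQuotient h qKb)
    (act : QH ⊗ Kb ⟶ QH) (hact : (qH ⊗ₘ qKb) ≫ act = (G ◁ k) ≫ μ[G] ≫ qH) :
    (∀ (QK : Over S) (qK : G ⟶ QK), RedSub.IsQuotient k qK →
      ∀ qbar : QH ⟶ QK, qH ≫ qbar = qK →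
        Surjective qbar.left ∧ Flat qbar.left ∧ LocallyOfFinitePresentation qbar.left ∧
          IsPullback (fst QH Kb) act qbar qbar) ∧
    (∀ (Y : Over S) (p : QH ⟶ Y),
      Surjective p.left → Flat p.left → LocallyOfFinitePresentation p.left →
      IsPullback (fst QH Kb) act p p → RedSub.IsQuotient k (qH ≫ p)) := by
  obtain ⟨sH1, sH2, sH3, sqH⟩ := hqH
  obtain ⟨sK1, sK2, sK3, sqKb⟩ := hqKb
  have fH : Fppf qH := ⟨sH1, sH2, sH3⟩
  have fKb : Fppf qKb := ⟨sK1, sK2, sK3⟩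
  refine ⟨?_, ?_⟩
  · intro QK qK hqK qbar hbar
    obtain ⟨a1, a2, a3, sqK⟩ := hqK
    have hl : qH.left ≫ qbar.left = qK.left := by rw [← Over.comp_left, hbar]
    refine ⟨?_, ?_, ?_, part_one h k qH sqH fH qKb sqKb fKb act hact qK sqK qbar hbar⟩
    · have : Surjective (qH.left ≫ qbar.left) := by rw [hl]; exact a1
      exact Surjective.of_comp qH.left qbar.left
    · have : Flat (qH.left ≫ qbar.left) := by rw [hl]; exact a2
      exact Groth.Agent.Lib.FlatSurj18.flat_of_comp_surjective qH.left qbar.left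
    · exact Groth.Agent.Lib.SrcLocalFppf64.sourceFppfLocal_locallyOfFinitePresentation
        qH.left qbar.left sH2 sH3 sH1 (by rw [hl]; exact a3)
  · intro Y p p1 p2 p3 sqp
    have := (fH.comp ⟨p1, p2, p3⟩)
    exact ⟨this.1, this.2.1, this.2.2, part_two h k qH sqH fH qKb fKb act hact p sqp⟩

end Groth.Agent.S6056
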