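import Groth.Statements.S6057
import Mathlib
-- import your own Groth.Agent.* helpers here

set_option autoImplicit false
open CategoryTheory
universe v₁ u₁
open ShfCat

namespace Groth.Agent.S6057

open Opposite

lemma sepFor_iff {C : Type u₁} [Category.{v₁} C] {X : C} (P : Cᵒᵖ ⥤ Type v₁) (R : Presieve X) :
    Presieve.IsSeparatedFor P R ↔ ∀ t₁ t₂ : P.obj (op X),
      (∀ ⦃Y : C⦄ (f : Y ⟶ X), R f → P.map f.op t₁ = P.map f.op t₂) → t₁ = t₂ := by
  constructor
  · intro h t₁ t₂ heq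
    exact h (fun Y f _ => P.map f.op t₁) t₁ t₂ (fun Y f hf => rfl) (fun Y f hf => (heq f hf).symm)
  · intro h x t₁ t₂ h₁ h₂
    exact h t₁ t₂ (fun Y f hf => (h₁ f hf).trans (h₂ f hf).symm)

/-- naturality of `φ` evaluated. -/
lemma phi_nat {C : Type u₁} [Category.{v₁} C] {S : C} {F : Cᵒᵖ ⥤ Type v₁} (φ : F ⟶ yoneda.obj S)
    {U V : C} (f : V ⟶ U) (t : F.obj (op U)) :
    φ.app (op V) (F.map f.op t) = f ≫ φ.app (op U) t := by
  rw [NatTrans.naturality_apply φ f.op t]
  rfl

/-- separatedness of the representable presheaf in elementary form. -/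
lemma yoneda_sep {C : Type u₁} [Category.{v₁} C] (J : GrothendieckTopology C)
    {S : C} (hS : Presieve.IsSheaf J (yoneda.obj S)) {U : C} (R : Sieve U) (hR : R ∈ J U)
    (s₁ s₂ : U ⟶ S) (h : ∀ ⦃V : C⦄ (f : V ⟶ U), R f → f ≫ s₁ = f ≫ s₂) : s₁ = s₂ :=
  (sepFor_iff _ _).mp ((hS R hR).isSeparatedFor) s₁ s₂ (fun _ f hf => h f hf)

lemma sep_of_sep {C : Type u₁} [Category.{v₁} C] (J : GrothendieckTopology C)
    {S : C} {F : Cᵒᵖ ⥤ Type v₁} (φ : F ⟶ yoneda.obj S)
    (h : Presieve.IsSeparated J F) : Presieve.IsSeparated (J.over S) (ShfCat.relPsh φ) := by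
  intro T R hR
  rw [sepFor_iff]
  intro t₁ t₂ heq
  apply Subtype.ext
  refine (sepFor_iff _ _).mp (h _ ((J.mem_over_iff R).mp hR)) t₁.1 t₂.1 (fun V f hf => ?_)
  have hf' := (Sieve.overEquiv_iff R f).mp hf
  exact congrArg Subtype.val (heq _ hf')

lemma sep_of_relSep {C : Type u₁} [Category.{v₁} C] (J : GrothendieckTopology C)
    {S : C} (hS : Presieve.IsSheaf J (yoneda.obj S)) {F : Cᵒᵖ ⥤ Type v₁} (φ : F ⟶ yoneda.obj S)
    (h : Presieve.IsSeparated (J.over S) (ShfCat.relPsh φ)) : Presieve.IsSeparated J F := by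
  intro U R hR
  rw [sepFor_iff]
  intro t₁ t₂ heq
  have hs : φ.app (op U) t₁ = φ.app (op U) t₂ := by
    apply yoneda_sep J hS R hR
    intro V f hf
    rw [← phi_nat, ← phi_nat, heq f hf]
  let T : Over S := Over.mk (φ.app (op U) t₁)
  let t₁' : (ShfCat.relPsh φ).obj (op T) := ⟨t₁, rfl⟩
  let t₂' : (ShfCat.relPsh φ).obj (op T) := ⟨t₂, hs.symm⟩
  have hR' := J.overEquiv_symm_mem_over T R hR
  have := (sepFor_iff _ _).mp (h _ hR') t₁' t₂' (fun T' g hg => by
    apply Subtype.ext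
    exact heq g.left ((Sieve.overEquiv_symm_iff R g).mp hg))
  exact congrArg Subtype.val this

lemma sheaf_of_sheaf {C : Type u₁} [Category.{v₁} C] (J : GrothendieckTopology C)
    {S : C} (hS : Presieve.IsSheaf J (yoneda.obj S)) {F : Cᵒᵖ ⥤ Type v₁} (φ : F ⟶ yoneda.obj S)
    (h : Presieve.IsSheaf J F) : Presieve.IsSheaf (J.over S) (ShfCat.relPsh φ) := by
  intro T R hR
  rw [← Presieve.isSeparatedFor_and_exists_isAmalgamation_iff_isSheafFor]
  refine ⟨sep_of_sep J φ (fun U R hR => (h R hR).isSeparatedFor) R hR, fun x hx => ?_⟩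
  have hR' : Sieve.overEquiv T R ∈ J T.left := (J.mem_over_iff R).mp hR
  have hxs := (Presieve.compatible_iff_sieveCompatible x).mp hx
  -- the family on `T.left`
  let y : Presieve.FamilyOfElements F (Sieve.overEquiv T R).arrows := fun V f hf =>
    (x (Over.homMk f : Over.mk (f ≫ T.hom) ⟶ T) ((Sieve.overEquiv_iff R f).mp hf)).1
  have hy : y.Compatible := by
    rw [Presieve.compatible_iff_sieveCompatible]
    intro V W f g hf
    have hf' := (Sieve.overEquiv_iff R f).mp hf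
    let g' : Over.mk ((g ≫ f) ≫ T.hom) ⟶ Over.mk (f ≫ T.hom) := Over.homMk g (by simp)
    have h1 := hxs (Over.homMk f : Over.mk (f ≫ T.hom) ⟶ T) g' hf'
    change (x (Over.homMk (g ≫ f) : Over.mk ((g ≫ f) ≫ T.hom) ⟶ T) _).1 = F.map g.op _
    have h3 := congrArg Subtype.val h1
    rw [ShfCat.relPsh_map_val] at h3
    exact h3
  obtain ⟨t, ht⟩ := ((Presieve.isSeparatedFor_and_exists_isAmalgamation_iff_isSheafFor.mpr (h _ hR')).2 y hy)
  have hφ : φ.app (op T.left) t = T.hom := by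
    apply yoneda_sep J hS _ hR'
    intro V f hf
    rw [← phi_nat, ht f hf]
    exact (x (Over.homMk f : Over.mk (f ≫ T.hom) ⟶ T) ((Sieve.overEquiv_iff R f).mp hf)).2
  refine ⟨⟨t, hφ⟩, fun T' g hg => ?_⟩
  apply Subtype.ext
  rw [ShfCat.relPsh_map_val]
  have hgl : Sieve.overEquiv T R g.left := by
    rw [Sieve.overEquiv_iff]
    let e : Over.mk (g.left ≫ T.hom) ⟶ T' := Over.homMk (𝟙 _) (by simp)
    have : (Over.homMk g.left : Over.mk (g.left ≫ T.hom) ⟶ T) = e ≫ g := by
      ext; simp [e]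
    rw [this]
    exact R.downward_closed hg e
  have h1 : F.map g.left.op t = y g.left hgl := ht g.left hgl
  refine h1.trans ?_
  -- compare `x` at `homMk g.left` and at `g`
  let e' : T' ⟶ Over.mk (g.left ≫ T.hom) := Over.homMk (𝟙 _) (by simp)
  have h2 := hxs (Over.homMk g.left : Over.mk (g.left ≫ T.hom) ⟶ T) e'
    ((Sieve.overEquiv_iff R g.left).mp hgl)
  have h3 : e' ≫ (Over.homMk g.left : Over.mk (g.left ≫ T.hom) ⟶ T) = g := by
    ext; simp [e']
  have h4 := congrArg Subtype.val h2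
  rw [ShfCat.relPsh_map_val] at h4
  have key : ∀ (g₁ g₂ : T' ⟶ T) (h₁ : R g₁) (h₂ : R g₂), g₁ = g₂ → x g₁ h₁ = x g₂ h₂ := by
    intro g₁ g₂ h₁ h₂ e; subst e; rfl
  have h5 := key _ _ (R.downward_closed ((Sieve.overEquiv_iff R g.left).mp hgl) e') hg h3
  rw [← h5, h4]
  change _ = F.map (𝟙 T'.left).op _
  simp [y]

lemma sheaf_of_relSheaf {C : Type u₁} [Category.{v₁} C] (J : GrothendieckTopology C)
    {S : C} (hS : Presieve.IsSheaf J (yoneda.obj S)) {F : Cᵒᵖ ⥤ Type v₁} (φ : F ⟶ yoneda.obj S)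
    (h : Presieve.IsSheaf (J.over S) (ShfCat.relPsh φ)) : Presieve.IsSheaf J F := by
  intro U R hR
  rw [← Presieve.isSeparatedFor_and_exists_isAmalgamation_iff_isSheafFor]
  refine ⟨sep_of_relSep J hS φ (fun T R hR => (h R hR).isSeparatedFor) R hR, fun y hy => ?_⟩
  have hys := (Presieve.compatible_iff_sieveCompatible y).mp hy
  -- the family of morphisms to `S`
  let z : Presieve.FamilyOfElements (yoneda.obj S) R.arrows := fun V f hf =>
    φ.app (op V) (y f hf)
  have hz : z.Compatible := by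
    rw [Presieve.compatible_iff_sieveCompatible]
    intro V W f g hf
    change φ.app (op W) (y (g ≫ f) _) = g ≫ φ.app (op V) (y f hf)
    rw [hys f g hf, phi_nat]
  obtain ⟨s, hs⟩ := (Presieve.isSeparatedFor_and_exists_isAmalgamation_iff_isSheafFor.mpr
    (hS R hR)).2 z hz
  have hs' : ∀ ⦃V : C⦄ (f : V ⟶ U) (hf : R f), f ≫ s = φ.app (op V) (y f hf) := fun V f hf =>
    hs f hf
  let T : Over S := Over.mk s
  have hR' := J.overEquiv_symm_mem_over T R hR
  let x : Presieve.FamilyOfElements (ShfCat.relPsh φ) ((Sieve.overEquiv T).symm R).arrows :=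
    fun T' g hg => ⟨y g.left ((Sieve.overEquiv_symm_iff R g).mp hg), by
      rw [← hs' g.left ((Sieve.overEquiv_symm_iff R g).mp hg)]
      exact Over.w g⟩
  have hx : x.Compatible := by
    rw [Presieve.compatible_iff_sieveCompatible]
    intro T' T'' g k hg
    apply Subtype.ext
    rw [ShfCat.relPsh_map_val]
    exact hys g.left k.left ((Sieve.overEquiv_symm_iff R g).mp hg)
  obtain ⟨t, ht⟩ := (Presieve.isSeparatedFor_and_exists_isAmalgamation_iff_isSheafFor.mpr
    (h _ hR')).2 x hx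
  refine ⟨t.1, fun V f hf => ?_⟩
  let g : Over.mk (f ≫ s) ⟶ T := Over.homMk f
  have hg : ((Sieve.overEquiv T).symm R) g := (Sieve.overEquiv_symm_iff R g).mpr hf
  have := congrArg Subtype.val (ht g hg)
  rw [ShfCat.relPsh_map_val] at this
  exact this

/-- Let `S` be an object whose representable presheaf is a sheaf for `J` and `φ : F ⟶ h_S` a morphism of
presheaves of sets. The relative presheaf on `C/S` (sections of `F` over `T` lying over the given `T
⟶ S`) is separated (resp. a sheaf) for the induced topology on `C/S` if and only if `F` is separated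
(resp. a sheaf). -/
theorem result {C : Type u₁} [Category.{v₁} C] (J : GrothendieckTopology C)
    {S : C} (hS : Presieve.IsSheaf J (yoneda.obj S)) {F : Cᵒᵖ ⥤ Type v₁} (φ : F ⟶ yoneda.obj S) :
    (Presieve.IsSeparated (J.over S) (ShfCat.relPsh φ) ↔ Presieve.IsSeparated J F) ∧
    (Presieve.IsSheaf (J.over S) (ShfCat.relPsh φ) ↔ Presieve.IsSheaf J F) := by
  refine ⟨⟨sep_of_relSep J hS φ, sep_of_sep J φ⟩, ⟨sheaf_of_relSheaf J hS φ, sheaf_of_sheaf J hS φ⟩⟩

end Groth.Agent.S6057
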