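import Groth.Statements.S6119
import Groth.Agent.Lib.FpqcCovFppf18
import Groth.Agent.Lib.FpqcCovDesc18
import Groth.Agent.Lib.QuotUniq18
import Groth.Agent.Lib.PtsPullback18
import Groth.Agent.Lib.FlatSurj18
import Groth.Agent.Lib.SrcLocalFppf64
import Groth.Agent.S8013

set_option autoImplicit false
set_option maxHeartbeats 800000
open CategoryTheory MonoidalCategory CartesianMonoidalCategory MonObj GrpObj AlgebraicGeometry
universe u
open RedSub

namespace Groth.Agent.S6119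

/-- The identification G/H ≅ corad(G)/corad(H): let G be a reductive S-group, d : D ⟶ G its derived
group and f₀ : G ⟶ C its coradical (C commutative, D = Ker f₀, f₀ the fppf quotient G/D, D killed by
every homomorphism to a commutative S-group scheme). Let t : T'' ⟶ C be a subtorus, H = G x_C T''
its preimage under f₀ (with projections k : H ⟶ G and g : H ⟶ T''), and q : G ⟶ Q the fppf quotient
of G by H. Then q factors uniquely as f₀ followed by q' : C ⟶ Q, and q' exhibits Q as the fppf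
quotient of C by T''. -/
theorem result {S : Scheme.{u}} {G D C T'' H Q : Over S} [GrpObj G] [GrpObj D]
    [GrpObj C] [GrpObj T''] [GrpObj H] (hG : Red.IsReductive G) (d : D ⟶ G) [IsMonHom d]
    (f₀ : G ⟶ C) [IsMonHom f₀] (hC : ∀ (X : Over S) (a b : X ⟶ C), a * b = b * a) (hker : AlgGrp.IsKernel d f₀)
    (hquot : RedSub.IsQuotient d f₀) (hkill : RedSub.KilledByCommutative d)
    (t : T'' ⟶ C) [IsMonHom t] [Mono t] (hT'' : Red.IsTorus T'') (k : H ⟶ G) [IsMonHom k] (g : H ⟶ T'') [IsMonHom g]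
    (hsq : IsPullback k g f₀ t) (q : G ⟶ Q) (hq : RedSub.IsQuotient k q) :
    ∃! q' : C ⟶ Q, f₀ ≫ q' = q ∧ RedSub.IsQuotient t q' := by
  obtain ⟨surjf₀, flatf₀, lfpf₀, sqf₀⟩ := hquot
  obtain ⟨surjq, flatq, lfpq, sqq⟩ := hq
  have covf₀ := Groth.Agent.Lib.FpqcCov18.isFpqcCov_of_fppf f₀.left
  have epif₀ := Groth.Agent.Lib.FpqcCov18.epi_over f₀ covf₀
  -- D ⊆ H
  have hd1 : d ≫ f₀ = (1 : D ⟶ T'') ≫ t := by
    rw [MonObj.one_comp, hker.w, Hom.one_def]
  let e : D ⟶ H := hsq.lift d 1 hd1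
  have he : e ≫ k = d := hsq.lift_fst _ _ _
  -- descent of q along f₀
  obtain ⟨q', hq'⟩ := Groth.Agent.Lib.FpqcCov18.exists_desc_over f₀ covf₀ q (by
    intro T x y hxy
    obtain ⟨δ, hδ⟩ := Groth.Agent.Lib.QuotUniq18.exists_eq_mul_of_comp_eq sqf₀ x y hxy
    rw [hδ, ← he, ← Category.assoc]
    exact (Groth.Agent.Lib.QuotUniq18.mul_comp_eq sqq x (δ ≫ e)).symm)
  have hleft : f₀.left ≫ q'.left = q.left := by rw [← Over.comp_left, hq']
  have surjq' : Surjective q'.left := by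
    have : Surjective (f₀.left ≫ q'.left) := by rw [hleft]; exact surjq
    exact Surjective.of_comp f₀.left q'.left
  have flatq' : Flat q'.left := by
    have : Flat (f₀.left ≫ q'.left) := by rw [hleft]; exact flatq
    exact Groth.Agent.Lib.FlatSurj18.flat_of_comp_surjective f₀.left q'.left
  have lfpq' : LocallyOfFinitePresentation q'.left := by
    apply Groth.Agent.Lib.SrcLocalFppf64.sourceFppfLocal_locallyOfFinitePresentation f₀.left q'.left
      flatf₀ lfpf₀ surjf₀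
    rw [hleft]
    exact lfpq
  -- the key T-point statement
  have keyT : ∀ (T : Over S) (x y : T ⟶ C), x ≫ q' = y ≫ q' → ∃ τ : T ⟶ T'', τ ≫ t = x⁻¹ * y := by
    intro T x y hxy
    -- first cover: lift x
    obtain ⟨W₁, c₁, xt, sq1⟩ : ∃ (W₁ : Over S) (c₁ : W₁ ⟶ T) (xt : W₁ ⟶ G), IsPullback c₁ xt x f₀ :=
      ⟨_, _, _, IsPullback.of_hasPullback x f₀⟩
    have cov1 : Groth.Agent.Lib.FpqcCov18.IsFpqcCov c₁.left :=
      covf₀.of_isPullback ((sq1.map (Over.forget _)).flip)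
    suffices h1 : ∃ τ₁ : W₁ ⟶ T'', τ₁ ≫ t = c₁ ≫ (x⁻¹ * y) by
      obtain ⟨τ₁, hτ₁⟩ := h1
      exact Groth.Agent.S8013.exists_factor_of_cover t (x⁻¹ * y) c₁ cov1 τ₁ hτ₁
    -- second cover: lift y
    obtain ⟨W₂, c₂, yt, sq2⟩ : ∃ (W₂ : Over S) (c₂ : W₂ ⟶ W₁) (yt : W₂ ⟶ G),
        IsPullback c₂ yt (c₁ ≫ y) f₀ := ⟨_, _, _, IsPullback.of_hasPullback (c₁ ≫ y) f₀⟩
    have cov2 : Groth.Agent.Lib.FpqcCov18.IsFpqcCov c₂.left :=
      covf₀.of_isPullback ((sq2.map (Over.forget _)).flip)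
    suffices h2 : ∃ τ₂ : W₂ ⟶ T'', τ₂ ≫ t = c₂ ≫ (c₁ ≫ (x⁻¹ * y)) by
      obtain ⟨τ₂, hτ₂⟩ := h2
      exact Groth.Agent.S8013.exists_factor_of_cover t _ c₂ cov2 τ₂ hτ₂
    -- on the double cover both x and y lift
    have e1 : (c₂ ≫ xt) ≫ q = yt ≫ q := by
      rw [← hq', ← Category.assoc, ← Category.assoc, Category.assoc c₂, ← sq1.w, ← sq2.w]
      simp only [Category.assoc]
      rw [hxy]
    obtain ⟨h, hh⟩ := Groth.Agent.Lib.QuotUniq18.exists_eq_mul_of_comp_eq sqq _ _ e1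
    refine ⟨h ≫ g, ?_⟩
    have e2 : c₂ ≫ c₁ ≫ y = (c₂ ≫ c₁ ≫ x) * ((h ≫ g) ≫ t) := by
      have e3 := congrArg (· ≫ f₀) hh
      simp only [MonObj.mul_comp, Category.assoc] at e3
      rw [← sq2.w, ← sq1.w, hsq.w] at e3
      simpa only [Category.assoc] using e3
    rw [MonObj.comp_mul, MonObj.comp_mul, GrpObj.comp_inv, GrpObj.comp_inv, e2,
      inv_mul_cancel_left]
  have monot : Mono t := inferInstance
  have sqq' : IsPullback (fst C T'') ((C ◁ t) ≫ μ[C]) q' q' := by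
    have hw : fst C T'' ≫ q' = ((C ◁ t) ≫ μ[C]) ≫ q' := by
      have covg : Groth.Agent.Lib.FpqcCov18.IsFpqcCov g.left :=
        covf₀.of_isPullback (hsq.map (Over.forget _))
      have epi1 := Groth.Agent.Lib.FpqcCov18.epi_over _
        (Groth.Agent.Lib.FpqcCov18.isFpqcCov_whiskerRight T'' f₀ covf₀)
      have epi2 := Groth.Agent.Lib.FpqcCov18.epi_over _
        (Groth.Agent.Lib.FpqcCov18.isFpqcCov_whiskerLeft G g covg)
      rw [← cancel_epi (f₀ ▷ T''), ← cancel_epi (G ◁ g)]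
      have l1 : (G ◁ g) ≫ (f₀ ▷ T'') ≫ fst C T'' ≫ q' = fst G H ≫ q := by
        rw [← hq', whiskerRight_fst_assoc, whiskerLeft_fst_assoc]
      have l2 : (G ◁ g) ≫ (f₀ ▷ T'') ≫ ((C ◁ t) ≫ μ[C]) ≫ q' = fst G H ≫ q := by
        have e3 := Groth.Agent.Lib.KerSq18.whiskerLeft_mul t ((G ◁ g) ≫ (f₀ ▷ T''))
        simp only [Category.assoc, whiskerRight_fst, whiskerRight_snd, whiskerLeft_fst_assoc,
          whiskerLeft_snd_assoc] at e3
        rw [← hsq.w, ← Category.assoc (snd G H), ← MonObj.mul_comp] at e3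
        have e4 : (G ◁ g) ≫ (f₀ ▷ T'') ≫ ((C ◁ t) ≫ μ[C]) ≫ q' =
            ((G ◁ g) ≫ (f₀ ▷ T'') ≫ (C ◁ t) ≫ μ[C]) ≫ q' := by
          simp only [Category.assoc]
        rw [e4, e3, Category.assoc, hq']
        exact Groth.Agent.Lib.QuotUniq18.mul_comp_eq sqq (fst G H) (snd G H)
      rw [l1, l2]
    refine Groth.Agent.Lib.PtsPullback18.isPullback_of_points hw ?_ ?_
    · intro T x y hxy
      obtain ⟨τ, hτ⟩ := keyT T x y hxy
      refine ⟨lift x τ, lift_fst _ _, ?_⟩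
      rw [Groth.Agent.Lib.KerSq18.whiskerLeft_mul, lift_fst, lift_snd, hτ, mul_inv_cancel_left]
    · intro T p₁ p₂ h1 h2
      apply CartesianMonoidalCategory.hom_ext _ _ h1
      rw [Groth.Agent.Lib.KerSq18.whiskerLeft_mul, Groth.Agent.Lib.KerSq18.whiskerLeft_mul, h1,
        mul_right_inj, cancel_mono] at h2
      exact h2
  refine ⟨q', ⟨hq', surjq', flatq', lfpq', sqq'⟩, ?_⟩
  rintro q'' ⟨hq'', -⟩
  rw [← cancel_epi f₀, hq'', hq']

end Groth.Agent.S6119
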