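import Groth.Statements.S6120
-- import your own Groth.Agent.* helpers here

set_option autoImplicit false
open CategoryTheory CategoryTheory.Limits Opposite
universe w v₁ v₂ u₁ u₂
open SGA4

namespace Groth.Agent.S6120

section
variable {I : Type u₁} [Category.{v₁} I] {C : Type u₂} [Category.{v₂} C] {A : Type w} (i : A → I)
    [∀ α β, HasBinaryProduct (i α) (i β)]
    (F : Iᵒᵖ ⥤ C)
    [HasProduct (fun α => F.obj (op (i α)))]
    [HasProduct (fun p : A × A => F.obj (op (i p.1 ⨯ i p.2)))]

/-- The map induced by the first projections. -/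
noncomputable abbrev mapA :
    ∏ᶜ (fun α => F.obj (op (i α))) ⟶ ∏ᶜ (fun p : A × A => F.obj (op (i p.1 ⨯ i p.2))) :=
  Pi.lift (fun p : A × A =>
    Pi.π (fun α => F.obj (op (i α))) p.1 ≫ F.map (prod.fst : i p.1 ⨯ i p.2 ⟶ i p.1).op)

/-- The map induced by the second projections. -/
noncomputable abbrev mapB :
    ∏ᶜ (fun α => F.obj (op (i α))) ⟶ ∏ᶜ (fun p : A × A => F.obj (op (i p.1 ⨯ i p.2))) :=
  Pi.lift (fun p : A × A =>
    Pi.π (fun α => F.obj (op (i α))) p.2 ≫ F.map (prod.snd : i p.1 ⨯ i p.2 ⟶ i p.2).op)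

lemma indep {T : C} (t : T ⟶ ∏ᶜ (fun α => F.obj (op (i α))))
    (heq : t ≫ mapA i F = t ≫ mapB i F) {j : I} {α β : A} (g : j ⟶ i α) (g' : j ⟶ i β) :
    t ≫ Pi.π (fun α => F.obj (op (i α))) α ≫ F.map g.op =
      t ≫ Pi.π (fun α => F.obj (op (i α))) β ≫ F.map g'.op := by
  have h1 : (t ≫ mapA i F) ≫ Pi.π (fun p : A × A => F.obj (op (i p.1 ⨯ i p.2))) (α, β) ≫
      F.map (prod.lift g g').op = (t ≫ mapB i F) ≫
      Pi.π (fun p : A × A => F.obj (op (i p.1 ⨯ i p.2))) (α, β) ≫ F.map (prod.lift g g').op := by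
    rw [heq]
  have ha : mapA i F ≫ Pi.π (fun p : A × A => F.obj (op (i p.1 ⨯ i p.2))) (α, β) =
      Pi.π (fun α => F.obj (op (i α))) α ≫ F.map (prod.fst : i α ⨯ i β ⟶ i α).op :=
    Pi.lift_π _ _
  have hb : mapB i F ≫ Pi.π (fun p : A × A => F.obj (op (i p.1 ⨯ i p.2))) (α, β) =
      Pi.π (fun α => F.obj (op (i α))) β ≫ F.map (prod.snd : i α ⨯ i β ⟶ i β).op :=
    Pi.lift_π _ _
  have hg : F.map (prod.fst : i α ⨯ i β ⟶ i α).op ≫ F.map (prod.lift g g').op = F.map g.op := by
    rw [← F.map_comp, ← op_comp, prod.lift_fst]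
  have hg' : F.map (prod.snd : i α ⨯ i β ⟶ i β).op ≫ F.map (prod.lift g g').op = F.map g'.op := by
    rw [← F.map_comp, ← op_comp, prod.lift_snd]
  rw [Category.assoc, Category.assoc, reassoc_of% ha, reassoc_of% hb, hg, hg'] at h1
  exact h1

variable (hcov : ∀ j : I, ∃ α, Nonempty (j ⟶ i α))

/-- chosen index -/
noncomputable def idx (j : I) : A := (hcov j).choose

/-- chosen map -/
noncomputable def toIdx (j : I) : j ⟶ i (idx i hcov j) := (hcov j).choose_spec.some

/-- The cone over `F` built from a map equalizing the two maps. -/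
noncomputable def coneOf {T : C} (t : T ⟶ ∏ᶜ (fun α => F.obj (op (i α))))
    (heq : t ≫ mapA i F = t ≫ mapB i F) : Cone F where
  pt := T
  π :=
    { app := fun j => t ≫ Pi.π (fun α => F.obj (op (i α))) (idx i hcov j.unop) ≫
        F.map (toIdx i hcov j.unop).op
      naturality := by
        intro j j' φ
        simp only [Functor.const_obj_obj, Functor.const_obj_map, Category.id_comp, Category.assoc]
        rw [← F.map_comp]
        have : (toIdx i hcov j.unop).op ≫ φ = (φ.unop ≫ toIdx i hcov j.unop).op := by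
          simp
        rw [this]
        exact indep i F t heq _ _ }

lemma coneOf_π_app {T : C} (t : T ⟶ ∏ᶜ (fun α => F.obj (op (i α))))
    (heq : t ≫ mapA i F = t ≫ mapB i F) (α : A) :
    (coneOf i F hcov t heq).π.app (op (i α)) = t ≫ Pi.π (fun α => F.obj (op (i α))) α := by
  have := indep i F t heq (toIdx i hcov (i α)) (𝟙 (i α))
  simpa [coneOf] using this

lemma cone_eq (s : Cone F) :
    Pi.lift (fun α => s.π.app (op (i α))) ≫ mapA i F =
      Pi.lift (fun α => s.π.app (op (i α))) ≫ mapB i F := by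
  apply Pi.hom_ext
  intro p
  simp

end

/-- Let `I` be a category with a family of objects `i α` (`α : A`) such that every binary product `i α ⨯
i β` exists in `I` and every object of `I` admits a morphism to some `i α`. Let `F : Iᵒᵖ ⥤ C` be a
functor, and assume that `C` has equalizers and that the products `∏ F (i α)` and `∏ F (i α ⨯ i β)`
exist in `C`. Then the limit of `F` exists, the canonical map `lim F ⟶ ∏ F (i α)` is a monomorphism,
and a map `t : T ⟶ ∏ F (i α)` factors through `lim F` exactly when its composites with the two maps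
`∏ F (i α) ⇉ ∏ F (i α ⨯ i β)` induced by the two projections agree: `lim F` is the equalizer of that
pair. (The published statement assumes that `C` has all limits of the size of `A`; only equalizers
and the two products named are assumed here, which is what the equalizer construction uses.) -/
theorem result
    {I : Type u₁} [Category.{v₁} I] {C : Type u₂} [Category.{v₂} C] {A : Type w} (i : A → I)
    [∀ α β, HasBinaryProduct (i α) (i β)]
    (hcov : ∀ j : I, ∃ α, Nonempty (j ⟶ i α))
    (F : Iᵒᵖ ⥤ C) [HasEqualizers C]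
    [HasProduct (fun α => F.obj (op (i α)))]
    [HasProduct (fun p : A × A => F.obj (op (i p.1 ⨯ i p.2)))] :
    HasLimit F ∧ ∀ [HasLimit F],
      Mono (Pi.lift (fun α => limit.π F (op (i α)))) ∧
      ∀ (T : C) (t : T ⟶ ∏ᶜ (fun α => F.obj (op (i α)))),
        (∃ s : T ⟶ limit F, s ≫ Pi.lift (fun α => limit.π F (op (i α))) = t) ↔
        t ≫ Pi.lift (fun p : A × A =>
            Pi.π (fun α => F.obj (op (i α))) p.1 ≫ F.map (prod.fst : i p.1 ⨯ i p.2 ⟶ i p.1).op) =
        t ≫ Pi.lift (fun p : A × A =>
            Pi.π (fun α => F.obj (op (i α))) p.2 ≫ F.map (prod.snd : i p.1 ⨯ i p.2 ⟶ i p.2).op) := by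
  have hlim : HasLimit F := by
    refine ⟨⟨⟨coneOf i F hcov (equalizer.ι (mapA i F) (mapB i F)) (equalizer.condition _ _), ?_⟩⟩⟩
    refine
      { lift := fun s => equalizer.lift (Pi.lift (fun α => s.π.app (op (i α)))) (cone_eq i F s)
        fac := ?_
        uniq := ?_ }
    · intro s j
      simp only [coneOf]
      rw [equalizer.lift_ι_assoc, Pi.lift_π_assoc]
      exact s.w _
    · intro s m hm
      apply equalizer.hom_ext
      rw [equalizer.lift_ι]
      apply Pi.hom_ext
      intro α
      have h1 := hm (op (i α))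
      rw [coneOf_π_app] at h1
      rw [Pi.lift_π, ← h1]
      exact Category.assoc _ _ _
  refine ⟨hlim, ?_⟩
  intro _
  have hL : Pi.lift (fun α => limit.π F (op (i α))) ≫ mapA i F =
      Pi.lift (fun α => limit.π F (op (i α))) ≫ mapB i F := cone_eq i F (limit.cone F)
  refine ⟨⟨?_⟩, ?_⟩
  · intro Z x y hxy
    apply limit.hom_ext
    intro j
    have h1 := congrArg (fun z => z ≫ Pi.π (fun α => F.obj (op (i α))) (idx i hcov j.unop) ≫
      F.map (toIdx i hcov j.unop).op) hxy
    simp only [Category.assoc] at h1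
    rw [Pi.lift_π_assoc] at h1
    have h2 : limit.π F (op (i (idx i hcov j.unop))) ≫ F.map (toIdx i hcov j.unop).op =
        limit.π F j := limit.w F _
    rw [h2] at h1
    exact h1
  · intro T t
    constructor
    · rintro ⟨s, rfl⟩
      rw [Category.assoc, Category.assoc]
      exact congrArg (fun z => s ≫ z) hL
    · intro heq
      refine ⟨limit.lift F (coneOf i F hcov t heq), ?_⟩
      apply Pi.hom_ext
      intro α
      rw [Category.assoc, Pi.lift_π]
      have h1 := limit.lift_π (coneOf i F hcov t heq) (op (i α))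
      rw [coneOf_π_app] at h1
      exact h1

end Groth.Agent.S6120
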