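import Groth.Statements.S6121
-- import your own Groth.Agent.* helpers here

set_option autoImplicit false
open CategoryTheory
universe v₁ v₂ u₁ u₂
open SGA4

namespace Groth.Agent.S6121

/-- For a fibered functor `p : E ⥤ B` (every morphism of `B` has a cartesian lift with prescribed
codomain, and cartesian morphisms compose), `p` reflects isomorphisms if and only if every fibre
category of `p` (objects over `b`, morphisms lying over the identity of `b`) is a groupoid. -/
theorem result
    {B : Type u₁} [Category.{v₁} B] {E : Type u₂} [Category.{v₂} E] (p : E ⥤ B) [p.IsFibered] :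
    p.ReflectsIsomorphisms ↔ ∀ b : B, IsGroupoid (p.Fiber b) := by
  constructor
  · intro hr b
    constructor
    intro x y φ
    have hφ : IsIso (p.map (Functor.Fiber.fiberInclusion.map φ)) := by
      rw [IsHomLift.fac' p (𝟙 b) (Functor.Fiber.fiberInclusion.map φ)]
      infer_instance
    have hiso : IsIso (Functor.Fiber.fiberInclusion.map φ) :=
      hr.reflects _
    have hl : p.IsHomLift (𝟙 b) (inv (Functor.Fiber.fiberInclusion.map φ)) :=
      IsHomLift.lift_id_inv_isIso p b _
    let ψ : y ⟶ x := ⟨@inv _ _ _ _ (Functor.Fiber.fiberInclusion.map φ) hiso, hl⟩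
    refine ⟨ψ, ?_, ?_⟩
    · apply Functor.Fiber.hom_ext
      exact IsIso.hom_inv_id (Functor.Fiber.fiberInclusion.map φ)
    · apply Functor.Fiber.hom_ext
      exact IsIso.inv_hom_id (Functor.Fiber.fiberInclusion.map φ)
  · intro h
    constructor
    intro a b φ hφ
    obtain ⟨a', χ, hχ⟩ := Functor.IsPreFibered.exists_isCartesian' (p := p) (p.map φ)
    have hχiso : IsIso χ := Functor.IsStronglyCartesian.isIso_of_base_isIso p (p.map φ) χ
    let φ' := Functor.IsCartesian.map p (p.map φ) χ φ
    have : IsGroupoid (p.Fiber (p.obj a)) := h (p.obj a)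
    have hφ' : IsIso (Functor.Fiber.homMk p (p.obj a) φ') := IsGroupoid.all_isIso _
    have hφ'' : IsIso φ' := by
      have := Functor.map_isIso Functor.Fiber.fiberInclusion (Functor.Fiber.homMk p (p.obj a) φ')
      simpa using this
    rw [← Functor.IsCartesian.fac p (p.map φ) χ φ]
    change IsIso (φ' ≫ χ)
    infer_instance

end Groth.Agent.S6121
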