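import Groth.Statements.S6123
import Mathlib.CategoryTheory.Limits.Shapes.KernelPair
import Mathlib.CategoryTheory.Limits.Shapes.Diagonal

set_option autoImplicit false
open CategoryTheory CategoryTheory.Limits Opposite
universe w v₁ v₂ u₁ u₂
open SGA4

namespace Groth.Agent.S6123

/-- For a single functor. Let `E` have pullbacks and let `φ : E ⥤ F` preserve them. If every
monomorphism `u` of `E` with `φ u` invertible is invertible, then `φ` reflects all isomorphisms. -/
theorem result
    {E : Type u₁} [Category.{v₁} E] {F : Type u₂} [Category.{v₂} F] (φ : E ⥤ F)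
    [HasPullbacks E] [PreservesLimitsOfShape WalkingCospan φ]
    (h : ∀ ⦃X Y : E⦄ (u : X ⟶ Y), Mono u → IsIso (φ.map u) → IsIso u) :
    φ.ReflectsIsomorphisms := by
  constructor
  intro X Y u hu
  have hk : IsKernelPair u (pullback.fst u u) (pullback.snd u u) := IsPullback.of_hasPullback u u
  have hk' : IsKernelPair (φ.map u) (φ.map (pullback.fst u u)) (φ.map (pullback.snd u u)) :=
    hk.map φ
  have h1 : IsIso (φ.map (pullback.fst u u)) := hk'.isIso_of_mono
  have h2 : φ.map (pullback.diagonal u) ≫ φ.map (pullback.fst u u) = 𝟙 _ := by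
    rw [← φ.map_comp, pullback.diagonal_fst, φ.map_id]
  have h3 : IsIso (φ.map (pullback.diagonal u)) := by
    have : φ.map (pullback.diagonal u) = inv (φ.map (pullback.fst u u)) := by
      rw [← cancel_mono (φ.map (pullback.fst u u)), h2, IsIso.inv_hom_id]
    rw [this]
    infer_instance
  have h4 : IsIso (pullback.diagonal u) := h _ inferInstance h3
  have h5 : IsIso (pullback.fst u u) := by
    have : pullback.fst u u = inv (pullback.diagonal u) := by
      rw [← cancel_epi (pullback.diagonal u), pullback.diagonal_fst, IsIso.hom_inv_id]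
    rw [this]
    infer_instance
  have h6 : Mono u := hk.mono_of_isIso_fst
  exact h u h6 hu

end Groth.Agent.S6123
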