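import Groth.Statements.S6124
import Mathlib.CategoryTheory.Limits.Shapes.KernelPair
import Mathlib.CategoryTheory.Limits.Shapes.Diagonal

set_option autoImplicit false
open CategoryTheory CategoryTheory.Limits Opposite
universe w v₁ v₂ u₁ u₂
open SGA4

namespace Groth.Agent.S6124

/-- Let `E` have pullbacks, let `P` be a detecting family of objects of `E` (a morphism `f` is
invertible as soon as every map out of an object of `P` factors uniquely through `f`), and let `φ i
: E ⥤ E' i` be functors preserving pullbacks. Then the `φ i` jointly reflect isomorphisms if and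
only if, for every `X` with `P X` and every subobject `X'` of `X` other than `⊤`, some `φ i` takes
the inclusion `X' ⟶ X` to a morphism that is not invertible. -/
theorem result
    {E : Type u₁} [Category.{v₁} E] [HasPullbacks E] (P : ObjectProperty E) (hP : P.IsDetecting)
    {κ : Type w} {E' : κ → Type u₂} [∀ k, Category.{v₂} (E' k)] (φ : ∀ k, E ⥤ E' k)
    [∀ k, PreservesLimitsOfShape WalkingCospan (φ k)] :
    (∀ ⦃X Y : E⦄ (f : X ⟶ Y), (∀ k, IsIso ((φ k).map f)) → IsIso f) ↔
      ∀ (X : E), P X → ∀ (X' : Subobject X), X' ≠ ⊤ → ∃ k, ¬ IsIso ((φ k).map X'.arrow) := by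
  constructor
  · intro hA X _ X' hX'
    by_contra! H
    exact hX' ((Subobject.isIso_arrow_iff_eq_top X').1 (hA X'.arrow H))
  · intro hB
    -- first the case of monomorphisms
    have hmono : ∀ ⦃X Y : E⦄ (f : X ⟶ Y), Mono f → (∀ k, IsIso ((φ k).map f)) → IsIso f := by
      intro X Y f hf hk
      apply hP
      intro G hG h
      have hpb : IsPullback (pullback.fst h f) (pullback.snd h f) h f := IsPullback.of_hasPullback h f
      have hiso : ∀ k, IsIso ((φ k).map (pullback.fst h f)) := by
        intro k
        have := hk k
        exact (hpb.map (φ k)).isIso_fst_of_isIso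
      have htop : Subobject.mk (pullback.fst h f) = ⊤ := by
        by_contra hne
        obtain ⟨k, hk'⟩ := hB G hG _ hne
        apply hk'
        have e : (Subobject.mk (pullback.fst h f)).arrow =
            (Subobject.underlyingIso (pullback.fst h f)).hom ≫ pullback.fst h f := by simp
        rw [e, Functor.map_comp]
        have := hiso k
        infer_instance
      have hfst : IsIso (pullback.fst h f) := (Subobject.isIso_iff_mk_eq_top _).2 htop
      refine ⟨inv (pullback.fst h f) ≫ pullback.snd h f, ?_, ?_⟩
      · simp [← pullback.condition]
      · intro y hy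
        rw [← cancel_mono f, hy]
        simp [← pullback.condition]
    intro X Y u hu
    have hk : IsKernelPair u (pullback.fst u u) (pullback.snd u u) := IsPullback.of_hasPullback u u
    have h1 : ∀ k, IsIso ((φ k).map (pullback.fst u u)) := by
      intro k
      have := hu k
      exact (hk.map (φ k)).isIso_fst_of_mono
    have h3 : ∀ k, IsIso ((φ k).map (pullback.diagonal u)) := by
      intro k
      have h2 : (φ k).map (pullback.diagonal u) ≫ (φ k).map (pullback.fst u u) = 𝟙 _ := by
        rw [← (φ k).map_comp, pullback.diagonal_fst, (φ k).map_id]
      have := h1 k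
      have : (φ k).map (pullback.diagonal u) = inv ((φ k).map (pullback.fst u u)) := by
        rw [← cancel_mono ((φ k).map (pullback.fst u u)), h2, IsIso.inv_hom_id]
      rw [this]
      infer_instance
    have h4 : IsIso (pullback.diagonal u) := hmono _ inferInstance h3
    have h5 : IsIso (pullback.fst u u) := by
      have : pullback.fst u u = inv (pullback.diagonal u) := by
        rw [← cancel_epi (pullback.diagonal u), pullback.diagonal_fst, IsIso.hom_inv_id]
      rw [this]
      infer_instance
    have h6 : Mono u := hk.mono_of_isIso_fst
    exact hmono u h6 hu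

end Groth.Agent.S6124
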