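import Groth.Statements.S6126
import Groth.Agent.S6125

set_option autoImplicit false
open CategoryTheory CategoryTheory.Limits
universe v₁ u₁
open SGA4

namespace Groth.Agent.S6126

/-- The set of pairs of maps from generators that are coequalized by `e`. -/
def Rel {E : Type u₁} [Category.{v₁} E] {ι : Type v₁} (G : ι → E) {P Y : E} (e : P ⟶ Y) :
    Set (Σ t' : ι, (G t' ⟶ P) × (G t' ⟶ P)) :=
  {p | p.2.1 ≫ e = p.2.2 ≫ e}

open Classical in
/-- A chosen effective quotient of `G t ⨿ G t` with prescribed relation (or a dummy). -/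
noncomputable def Ych {E : Type u₁} [Category.{v₁} E] {ι : Type v₁} (G : ι → E)
    [∀ t, HasBinaryCoproduct (G t) (G t)]
    (k : Σ t : ι, Set (Σ t' : ι, (G t' ⟶ G t ⨿ G t) × (G t' ⟶ G t ⨿ G t))) : E :=
  if h : ∃ (Y : E) (e : G k.1 ⨿ G k.1 ⟶ Y), EffectiveEpi e ∧ Rel G e = k.2 then h.choose
  else G k.1

lemma Ych_spec {E : Type u₁} [Category.{v₁} E] {ι : Type v₁} (G : ι → E)
    [∀ t, HasBinaryCoproduct (G t) (G t)]
    (k : Σ t : ι, Set (Σ t' : ι, (G t' ⟶ G t ⨿ G t) × (G t' ⟶ G t ⨿ G t)))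
    (h : ∃ (Y : E) (e : G k.1 ⨿ G k.1 ⟶ Y), EffectiveEpi e ∧ Rel G e = k.2) :
    ∃ (e' : G k.1 ⨿ G k.1 ⟶ Ych G k), EffectiveEpi e' ∧ Rel G e' = k.2 := by
  unfold Ych
  rw [dif_pos h]
  exact h.choose_spec

/-- Let `E` be a category with `v₁`-small hom-sets admitting a separating family of objects `G t`
indexed by a `v₁`-small type, in which every object admits a monomorphism into an injective object.
Assume that each coproduct `G t ⨿ G t` exists and that every morphism out of `G t ⨿ G t` factors as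
an effective epimorphism followed by a monomorphism. Then `E` admits a coseparating family of
injective objects indexed by a `v₁`-small type. (The published statement moreover bounds the size of
this family in terms of the hom-sets `Hom (G t', G t ⨿ G t)`; only existence is stated here. The
published statement speaks of generating and cogenerating families; its proof uses and produces
joint faithfulness of maps out of, resp. into, the family, which is the sense taken here.) -/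
theorem result
    {E : Type u₁} [Category.{v₁} E] {ι : Type v₁} (G : ι → E)
    (hG : (ObjectProperty.ofObj G).IsSeparating)
    [EnoughInjectives E] [∀ t, HasBinaryCoproduct (G t) (G t)]
    (hfac : ∀ (t : ι) (X : E) (f : G t ⨿ G t ⟶ X),
      ∃ (Y : E) (e : G t ⨿ G t ⟶ Y) (m : Y ⟶ X), EffectiveEpi e ∧ Mono m ∧ e ≫ m = f) :
    ∃ (κ : Type v₁) (H : κ → E),
      (∀ k, Injective (H k)) ∧ (ObjectProperty.ofObj H).IsCoseparating := by
  classical
  refine ⟨Σ t : ι, Set (Σ t' : ι, (G t' ⟶ G t ⨿ G t) × (G t' ⟶ G t ⨿ G t)),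
    fun k => Injective.under (Ych G k), fun k => inferInstance, ?_⟩
  rw [Groth.Agent.S6125.result hG]
  rintro T X ⟨t⟩ u v huv
  obtain ⟨Y, e, m, he, hm, hem⟩ := hfac t X (coprod.desc u v)
  let k : Σ t : ι, Set (Σ t' : ι, (G t' ⟶ G t ⨿ G t) × (G t' ⟶ G t ⨿ G t)) := ⟨t, Rel G e⟩
  obtain ⟨e', he', hR⟩ := Ych_spec G k ⟨Y, e, he, rfl⟩
  have hR' : Rel G e' = Rel G e := hR
  -- descend e' along e
  have hdesc : ∀ {Z : E} (g₁ g₂ : Z ⟶ G t ⨿ G t), g₁ ≫ e = g₂ ≫ e → g₁ ≫ e' = g₂ ≫ e' := by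
    intro Z g₁ g₂ hg
    apply hG
    rintro _ ⟨t'⟩ h
    have hmem : (⟨t', (h ≫ g₁, h ≫ g₂)⟩ : Σ t' : ι, (G t' ⟶ G t ⨿ G t) × (G t' ⟶ G t ⨿ G t)) ∈
        Rel G e := by
      show (h ≫ g₁) ≫ e = (h ≫ g₂) ≫ e
      rw [Category.assoc, Category.assoc, hg]
    rw [← hR'] at hmem
    have : (h ≫ g₁) ≫ e' = (h ≫ g₂) ≫ e' := hmem
    simpa using this
  let θ : Y ⟶ Ych G k := EffectiveEpi.desc e e' hdesc
  have hθ : e ≫ θ = e' := EffectiveEpi.fac e e' hdesc
  let w : X ⟶ Injective.under (Ych G k) := Injective.factorThru (θ ≫ Injective.ι (Ych G k)) m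
  have hw : m ≫ w = θ ≫ Injective.ι (Ych G k) := Injective.comp_factorThru _ _
  refine ⟨_, ⟨k⟩, w, ?_⟩
  intro huw
  apply huv
  have hu : u = coprod.inl ≫ e ≫ m := by rw [hem, coprod.inl_desc]
  have hv : v = coprod.inr ≫ e ≫ m := by rw [hem, coprod.inr_desc]
  have h1 : (coprod.inl ≫ e') ≫ Injective.ι (Ych G k) = (coprod.inr ≫ e') ≫ Injective.ι (Ych G k) := by
    rw [← hθ]
    simp only [Category.assoc]
    rw [← hw]
    rw [hu, hv] at huw
    simpa using huw
  have h2 : coprod.inl ≫ e' = coprod.inr ≫ e' := (cancel_mono _).1 h1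
  have hmem : (⟨t, (coprod.inl, coprod.inr)⟩ : Σ t' : ι, (G t' ⟶ G t ⨿ G t) × (G t' ⟶ G t ⨿ G t)) ∈
      Rel G e' := h2
  rw [hR'] at hmem
  have h3 : coprod.inl ≫ e = coprod.inr ≫ e := hmem
  rw [hu, hv, ← Category.assoc, h3, Category.assoc]

end Groth.Agent.S6126
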