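-- Statement S6127.
import Groth.Statements.S6127
import Mathlib

set_option autoImplicit false
open CategoryTheory CategoryTheory.Limits Opposite
universe u
open SGA4

namespace Groth.Agent.S6127

section Helpers

variable {C : Type u} [SmallCategory C] (P : ObjectProperty (Cᵒᵖ ⥤ Type u))
    [Reflective P.ι]

/-- Lemma A: the reflector inverts `m` iff every object of `P` is orthogonal to `m`. -/
theorem isIso_map_iff {A B : Cᵒᵖ ⥤ Type u} (m : A ⟶ B) :
    IsIso ((reflector P.ι).map m) ↔
      ∀ F, P F → Function.Bijective (fun g : B ⟶ F => m ≫ g) := by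
  rw [isIso_iff_coyoneda_map_bijective]
  have key : ∀ (G : P.FullSubcategory),
      Function.Bijective (fun x : (reflector P.ι).obj B ⟶ G => (reflector P.ι).map m ≫ x) ↔
        Function.Bijective (fun g : B ⟶ G.obj => m ≫ g) := by
    intro G
    let eA := (reflectorAdjunction P.ι).homEquiv A G
    let eB := (reflectorAdjunction P.ι).homEquiv B G
    have h : (fun g : B ⟶ G.obj => m ≫ g) =
        eA ∘ (fun x : (reflector P.ι).obj B ⟶ G => (reflector P.ι).map m ≫ x) ∘ eB.symm := by
      funext g
      simp only [Function.comp_apply, eA, eB]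
      rw [Adjunction.homEquiv_naturality_left, Equiv.apply_symm_apply]
    rw [h]
    constructor
    · intro hb
      exact eA.bijective.comp (hb.comp eB.symm.bijective)
    · intro hb
      have h2 : (fun x : (reflector P.ι).obj B ⟶ G => (reflector P.ι).map m ≫ x) =
          eA.symm ∘ (eA ∘ (fun x : (reflector P.ι).obj B ⟶ G => (reflector P.ι).map m ≫ x) ∘
            eB.symm) ∘ eB := by
        funext x
        simp
      rw [h2]
      exact eA.symm.bijective.comp (hb.comp eB.bijective)
  constructor
  · intro h F hF
    exact (key ⟨F, hF⟩).1 (h ⟨F, hF⟩)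
  · intro h G
    exact (key G).2 (h G.obj G.property)

/-- orthogonality to a sieve inclusion is the sheaf condition -/
theorem isSheafFor_iff_bijective {X : C} (S : Sieve X) (F : Cᵒᵖ ⥤ Type u) :
    Presieve.IsSheafFor F S.arrows ↔
      Function.Bijective (fun g : yoneda.obj X ⟶ F => S.functorInclusion ≫ g) := by
  rw [Presieve.isSheafFor_iff_yonedaSheafCondition, Presieve.YonedaSheafCondition,
    Function.bijective_iff_existsUnique]

theorem isIso_map_functorInclusion_iff {X : C} (S : Sieve X) :
    IsIso ((reflector P.ι).map S.functorInclusion) ↔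
      ∀ F, P F → Presieve.IsSheafFor F S.arrows := by
  rw [isIso_map_iff]
  exact forall_congr' fun F => forall_congr' fun _ => (isSheafFor_iff_bijective S F).symm

/-- the pullback square of sieve functors -/
def pullbackMap {X Y : C} (S : Sieve X) (f : Y ⟶ X) : (S.pullback f).functor ⟶ S.functor where
  app V := TypeCat.ofHom (fun g => ⟨g.1 ≫ f, g.2⟩)
  naturality V W h := by
    ext g
    apply Subtype.ext
    exact Category.assoc _ _ _

theorem isPullback_pullbackMap {X Y : C} (S : Sieve X) (f : Y ⟶ X) :
    IsPullback (pullbackMap S f) (S.pullback f).functorInclusion S.functorInclusion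
      (yoneda.map f) := by
  refine IsPullback.of_forall_isPullback_app fun V => ?_
  rw [Types.isPullback_iff]
  refine ⟨?_, ?_, ?_⟩
  · ext g
    rfl
  · rintro ⟨g, hg⟩ ⟨g', hg'⟩ ⟨-, h2⟩
    apply Subtype.ext
    exact h2
  · rintro ⟨g, hg⟩ (g' : V.unop ⟶ Y) h
    have h' : g = g' ≫ f := h
    subst h'
    exact ⟨⟨g', hg⟩, rfl, rfl⟩


variable [PreservesFiniteLimits (reflector P.ι)]

/-- the topology -/
def topo : GrothendieckTopology C := Sheaf.finestTopology {F | P F}

theorem mem_topo_iff {X : C} (S : Sieve X) :
    S ∈ topo P X ↔ IsIso ((reflector P.ι).map S.functorInclusion) := by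
  constructor
  · intro h
    rw [isIso_map_functorInclusion_iff]
    intro F hF
    exact Sheaf.sheaf_for_finestTopology {F | P F} hF S h
  · intro h
    apply Sheaf.mem_finestTopology_of_forall_isSheafFor
    intro F hF Y f
    have hpb := (isPullback_pullbackMap S f).map (reflector P.ι)
    have : IsIso ((reflector P.ι).map (S.pullback f).functorInclusion) :=
      hpb.isIso_snd_of_isIso
    exact (isIso_map_functorInclusion_iff P _).1 this F hF

theorem isSheaf_of_mem (F : Cᵒᵖ ⥤ Type u) (hF : P F) : Presieve.IsSheaf (topo P) F :=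
  Sheaf.sheaf_for_finestTopology {F | P F} hF

theorem isIso_map_unit (F : Cᵒᵖ ⥤ Type u) :
    IsIso ((reflector P.ι).map ((reflectorAdjunction P.ι).unit.app F)) := by
  have h := (reflectorAdjunction P.ι).left_triangle_components F
  have : IsIso ((reflector P.ι).map ((reflectorAdjunction P.ι).unit.app F) ≫
      (reflectorAdjunction P.ι).counit.app ((reflector P.ι).obj F)) := by
    rw [h]; exact IsIso.id _
  exact IsIso.of_isIso_comp_right _ ((reflectorAdjunction P.ι).counit.app ((reflector P.ι).obj F))


/-- the unit of the reflection, with its codomain written as a presheaf -/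
noncomputable def eta (F : Cᵒᵖ ⥤ Type u) : F ⟶ ((reflector P.ι).obj F).obj :=
  (reflectorAdjunction P.ι).unit.app F

theorem isIso_map_eta (F : Cᵒᵖ ⥤ Type u) : IsIso ((reflector P.ι).map (eta P F)) :=
  isIso_map_unit P F

/-- D1: the unit is locally surjective -/
theorem imageSieve_mem (F : Cᵒᵖ ⥤ Type u) {X : C} (y : ((reflector P.ι).obj F).obj.obj (op X)) :
    Presheaf.imageSieve (eta P F) y ∈ topo P X := by
  rw [mem_topo_iff]
  set S := Presheaf.imageSieve (eta P F) y with hS
  let yh : yoneda.obj X ⟶ ((reflector P.ι).obj F).obj := yonedaEquiv.symm y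
  have hpb : IsPullback (pullback.fst yh (eta P F)) (pullback.snd yh (eta P F)) yh (eta P F) :=
    IsPullback.of_hasPullback yh (eta P F)
  have hw : ∀ (V : Cᵒᵖ) (z : (pullback yh (eta P F)).obj V),
      (eta P F).app V ((pullback.snd yh (eta P F)).app V z) =
        ((reflector P.ι).obj F).obj.map ((pullback.fst yh (eta P F)).app V z).op y := by
    intro V z
    have h1 := congrArg (fun φ => φ.app V z) hpb.w
    simp only [NatTrans.comp_app, types_comp_apply] at h1
    rw [← h1]
    exact yonedaEquiv_symm_app_apply y V _
  let τ : pullback yh (eta P F) ⟶ S.functor :=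
    { app := fun V => TypeCat.ofHom (fun z =>
        ⟨(pullback.fst yh (eta P F)).app V z, ⟨(pullback.snd yh (eta P F)).app V z, hw V z⟩⟩)
      naturality := by
        intro V W g
        ext z
        apply Subtype.ext
        exact NatTrans.naturality_apply (pullback.fst yh (eta P F)) g z }
  have hτ : τ ≫ S.functorInclusion = pullback.fst yh (eta P F) := by
    ext V z
    rfl
  have hiso1 : IsIso ((reflector P.ι).map (pullback.fst yh (eta P F))) := by
    have := isIso_map_eta P F
    exact (hpb.map (reflector P.ι)).isIso_fst_of_isIso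
  have hmono : Mono ((reflector P.ι).map S.functorInclusion) := inferInstance
  have hsplit : IsSplitEpi ((reflector P.ι).map S.functorInclusion) :=
    ⟨⟨inv ((reflector P.ι).map (pullback.fst yh (eta P F))) ≫ (reflector P.ι).map τ, by
      rw [Category.assoc, ← Functor.map_comp, hτ, IsIso.inv_hom_id]⟩⟩
  exact isIso_of_mono_of_isSplitEpi _


/-- D2: the unit is locally injective -/
theorem equalizerSieve_mem (F : Cᵒᵖ ⥤ Type u) {X : C} (x x' : F.obj (op X))
    (h : (eta P F).app (op X) x = (eta P F).app (op X) x') :
    Presheaf.equalizerSieve (F := F) (X := op X) x x' ∈ topo P X := by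
  rw [mem_topo_iff]
  set S := Presheaf.equalizerSieve (F := F) (X := op X) x x' with hS
  let xh : yoneda.obj X ⟶ F := yonedaEquiv.symm x
  let xh' : yoneda.obj X ⟶ F := yonedaEquiv.symm x'
  have w : S.functorInclusion ≫ xh = S.functorInclusion ≫ xh' := by
    ext V ⟨g, hg⟩
    simp only [NatTrans.comp_app, types_comp_apply]
    exact (yonedaEquiv_symm_app_apply x V g).trans
      (Eq.trans hg (yonedaEquiv_symm_app_apply x' V g).symm)
  have hlim : IsLimit (Fork.ofι S.functorInclusion w) := by
    apply evaluationJointlyReflectsLimits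
    intro V
    refine (isLimitMapConeForkEquiv ((evaluation _ _).obj V) w).symm ?_
    apply Types.typeEqualizerOfUnique
    intro (g : V.unop ⟶ X) hg
    have hg' : F.map g.op x = F.map g.op x' :=
      (yonedaEquiv_symm_app_apply x V g).symm.trans
        (Eq.trans hg (yonedaEquiv_symm_app_apply x' V g))
    refine ⟨⟨g, hg'⟩, rfl, ?_⟩
    rintro ⟨g', hg''⟩ hgg
    apply Subtype.ext
    exact hgg
  have hlim' := isLimitForkMapOfIsLimit (reflector P.ι) w hlim
  have hcomp : xh ≫ eta P F = xh' ≫ eta P F := by
    apply yonedaEquiv.injective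
    rw [yonedaEquiv_comp, yonedaEquiv_comp, Equiv.apply_symm_apply, Equiv.apply_symm_apply]
    exact h
  have heq : (reflector P.ι).map xh = (reflector P.ι).map xh' := by
    have := isIso_map_eta P F
    rw [← cancel_mono ((reflector P.ι).map (eta P F)), ← Functor.map_comp, ← Functor.map_comp,
      hcomp]
  have := isIso_limit_cone_parallelPair_of_eq heq hlim'
  simpa using this

theorem mem_of_isSheaf (F : Cᵒᵖ ⥤ Type u) [P.IsClosedUnderIsomorphisms]
    (hF : Presieve.IsSheaf (topo P) F) : P F := by
  let Fs : Sheaf (topo P) (Type u) := ⟨F, (isSheaf_iff_isSheaf_of_type _ _).2 hF⟩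
  let Gs : Sheaf (topo P) (Type u) := ⟨((reflector P.ι).obj F).obj,
    (isSheaf_iff_isSheaf_of_type _ _).2 (isSheaf_of_mem P _ ((reflector P.ι).obj F).property)⟩
  let φ : Fs ⟶ Gs := ⟨eta P F⟩
  have hφ : IsIso φ := (Sheaf.isLocallyBijective_iff_isIso φ).1
    ⟨⟨fun x x' h => equalizerSieve_mem P F x x' h⟩, ⟨fun y => imageSieve_mem P F y⟩⟩
  have hη : IsIso (eta P F) := (sheafToPresheaf _ _).map_isIso φ
  exact P.prop_of_iso (asIso (eta P F)).symm ((reflector P.ι).obj F).property

end Helpers

/-- Let `C` be a small category and `P` a strictly full subcategory of the category of presheaves of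
sets on `C` whose inclusion admits a left adjoint (a reflector) preserving finite limits. Call a
sieve `S` on `X` covering when the reflector inverts the inclusion of `S`, viewed as a subpresheaf,
into the presheaf represented by `X`. Then these covering sieves form a Grothendieck topology `J` on
`C`, and a presheaf lies in `P` if and only if it is a sheaf for `J`. (This is the half of the
correspondence between topologies on `C` and such reflective subcategories that produces the
topology; the topology is pinned down by its covering sieves.) -/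
theorem result
    {C : Type u} [SmallCategory C] (P : ObjectProperty (Cᵒᵖ ⥤ Type u))
    [P.IsClosedUnderIsomorphisms] [Reflective P.ι] [PreservesFiniteLimits (reflector P.ι)] :
    ∃ J : GrothendieckTopology C,
      (∀ (X : C) (S : Sieve X), S ∈ J X ↔ IsIso ((reflector P.ι).map S.functorInclusion)) ∧
      ∀ F : Cᵒᵖ ⥤ Type u, P F ↔ Presieve.IsSheaf J F := by
  exact ⟨topo P, fun X S => mem_topo_iff P S,
    fun F => ⟨isSheaf_of_mem P F, mem_of_isSheaf P F⟩⟩

end Groth.Agent.S6127
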