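-- Statement S6128.
import Groth.Statements.S6128
import Mathlib

set_option autoImplicit false
open CategoryTheory
universe u
open SGA4

namespace Groth.Agent.S6128

/-- Let `u : C ⥤ C'` be a functor between small sites. If the right Kan extension along `u` of the
underlying presheaf of every sheaf of sets on `C` is a sheaf on `C'`, then `u` is cocontinuous: for
every object `Y` of `C` and every covering sieve `R` of `u Y`, the sieve of morphisms `g : Z ⟶ Y`
with `u g ∈ R` covers `Y`. -/
theorem result
    {C : Type u} [SmallCategory C] {C' : Type u} [SmallCategory C']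
    (J : GrothendieckTopology C) (J' : GrothendieckTopology C') (u : C ⥤ C')
    (h : ∀ G : Sheaf J (Type u), Presheaf.IsSheaf J' ((u.op.ran).obj G.obj)) :
    u.IsCocontinuous J J' := by
  constructor
  intro Y R hR
  let Gp : Cᵒᵖ ⥤ Type u := (Functor.closedSieves J).toFunctor
  have hGp : Presheaf.IsSheaf J Gp := (isSheaf_iff_isSheaf_of_type _ _).2 (classifier_isSheaf J)
  have hsh := h ⟨Gp, hGp⟩
  have hsep : Presieve.IsSeparatedFor (u.op.ran.obj Gp) R.arrows :=
    ((isSheaf_iff_isSheaf_of_type _ _).1 hsh R hR).isSeparatedFor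
  have htop : ∀ Z : C, J.IsClosed (⊤ : Sieve Z) := fun Z W f _ => trivial
  let a' : u.op ⋙ yoneda.obj (u.obj Y) ⟶ Gp :=
    { app := fun Z => TypeCat.ofHom fun _ => ⟨(⊤ : Sieve Z.unop), htop _⟩
      naturality := fun Z Z' g => by
        ext φ
        apply Subtype.ext
        exact (Sieve.pullback_top).symm }
  let b' : u.op ⋙ yoneda.obj (u.obj Y) ⟶ Gp :=
    { app := fun Z => TypeCat.ofHom fun (φ : u.obj Z.unop ⟶ u.obj Y) =>
        ⟨J.close ((R.pullback φ).functorPullback u), J.close_isClosed _⟩
      naturality := fun Z Z' g => by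
        ext φ
        apply Subtype.ext
        change J.close ((R.pullback (u.map g.unop ≫ φ)).functorPullback u) =
          (J.close ((R.pullback φ).functorPullback u)).pullback g.unop
        rw [← J.pullback_close, ← Sieve.functorPullback_pullback, Sieve.pullback_comp] }
  let adj := u.op.ranAdjunction (Type u)
  have key : adj.homEquiv _ _ a' = adj.homEquiv _ _ b' := by
    apply yonedaEquiv.injective
    apply hsep.ext
    intro V ψ hψ
    rw [yonedaEquiv_naturality, yonedaEquiv_naturality]
    congr 1
    rw [← adj.homEquiv_naturality_left, ← adj.homEquiv_naturality_left]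
    congr 1
    ext Z χ
    apply Subtype.ext
    change (⊤ : Sieve Z.unop) = J.close ((R.pullback (χ ≫ ψ)).functorPullback u)
    have h1 : R.pullback (χ ≫ ψ) = ⊤ := Sieve.pullback_eq_top_of_mem _ (R.downward_closed hψ χ)
    rw [h1, eq_comm, J.close_eq_top_iff_mem]
    exact J.top_mem _
  have key' : a' = b' := (adj.homEquiv _ _).injective key
  have h2 := congr_arg (fun τ => (τ.app (Opposite.op Y) (𝟙 (u.obj Y))).1) key'
  rw [← J.close_eq_top_iff_mem]
  have h3 : (⊤ : Sieve Y) = J.close ((R.pullback (𝟙 (u.obj Y))).functorPullback u) := h2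
  rw [Sieve.pullback_id] at h3
  exact h3.symm

end Groth.Agent.S6128
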