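-- Statement S6129.
import Groth.Statements.S6129
import Mathlib

set_option autoImplicit false
open CategoryTheory CategoryTheory.Limits
universe u
open SGA4

namespace Groth.Agent.S6129

open Opposite

section Helpers

variable {C : Type u} [SmallCategory C] {C' : Type u} [SmallCategory C'] (u : C ⥤ C')

/-- the left extension given by the unit -/
noncomputable abbrev ext (H : Cᵒᵖ ⥤ Type u) : Functor.LeftExtension u.op H :=
  Functor.LeftExtension.mk _ (u.op.lanUnit.app H)

/-- pointwise colimit property of `u_! H` -/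
noncomputable def isCol (H : Cᵒᵖ ⥤ Type u) (V : C') : IsColimit ((ext u H).coconeAt (op V)) :=
  Functor.isPointwiseLeftKanExtensionOfIsLeftKanExtension _ (u.op.lanUnit.app H) (op V)

open Classical in
/-- the retraction-like map on one leg -/
noncomputable def rhoFun (H : Cᵒᵖ ⥤ Type u) (X : C) (g : CostructuredArrow u.op (op (u.obj X)))
    (h' : H.obj g.left) : Option (H.obj (op X)) :=
  if hφ : ∃ k : X ⟶ g.left.unop, u.map k = g.hom.unop then some (H.map hφ.choose.op h') else none

theorem rhoFun_some [u.Faithful] (H : Cᵒᵖ ⥤ Type u) (X : C) (g : CostructuredArrow u.op (op (u.obj X)))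
    (h' : H.obj g.left) (k : X ⟶ g.left.unop) (hk : u.map k = g.hom.unop) :
    rhoFun u H X g h' = some (H.map k.op h') := by
  have hφ : ∃ k : X ⟶ g.left.unop, u.map k = g.hom.unop := ⟨k, hk⟩
  unfold rhoFun
  rw [dif_pos hφ]
  have : hφ.choose = k := u.map_injective (hφ.choose_spec.trans hk.symm)
  rw [this]

theorem rhoFun_none (H : Cᵒᵖ ⥤ Type u) (X : C) (g : CostructuredArrow u.op (op (u.obj X)))
    (h' : H.obj g.left) (hk : ¬ ∃ k : X ⟶ g.left.unop, u.map k = g.hom.unop) :
    rhoFun u H X g h' = none := by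
  unfold rhoFun
  rw [dif_neg hk]

theorem rhoFun_eq_some_iff [u.Faithful] (H : Cᵒᵖ ⥤ Type u) (X : C)
    (g : CostructuredArrow u.op (op (u.obj X))) (h' : H.obj g.left) (h : H.obj (op X)) :
    rhoFun u H X g h' = some h ↔ ∃ k : X ⟶ g.left.unop, u.map k = g.hom.unop ∧ H.map k.op h' = h := by
  constructor
  · intro e
    by_cases hφ : ∃ k : X ⟶ g.left.unop, u.map k = g.hom.unop
    · obtain ⟨k, hk⟩ := hφ
      rw [rhoFun_some u H X g h' k hk] at e
      exact ⟨k, hk, Option.some.inj e⟩
    · rw [rhoFun_none u H X g h' hφ] at e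
      exact absurd e (by simp)
  · rintro ⟨k, hk, rfl⟩
    exact rhoFun_some u H X g h' k hk

/-- compatibility of `rhoFun` with the transition maps -/
theorem rhoFun_natural [u.Faithful] (hu : ∀ X : C, (Over.post (X := X) u).Full)
    (H : Cᵒᵖ ⥤ Type u) (X : C) {g₁ g₂ : CostructuredArrow u.op (op (u.obj X))} (m : g₁ ⟶ g₂)
    (h₁ : H.obj g₁.left) :
    rhoFun u H X g₂ (H.map m.left h₁) = rhoFun u H X g₁ h₁ := by
  -- relation: g₂.hom.unop ≫ u.map m.left.unop = g₁.hom.unop
  have hw : g₂.hom.unop ≫ u.map m.left.unop = g₁.hom.unop := by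
    have := CostructuredArrow.w m
    have h2 := congrArg Quiver.Hom.unop this
    simpa using h2
  by_cases h2 : ∃ k : X ⟶ g₂.left.unop, u.map k = g₂.hom.unop
  · obtain ⟨k₂, hk₂⟩ := h2
    rw [rhoFun_some u H X g₂ _ k₂ hk₂]
    have hk₁ : u.map (k₂ ≫ m.left.unop) = g₁.hom.unop := by
      rw [u.map_comp, hk₂, hw]
    rw [rhoFun_some u H X g₁ _ (k₂ ≫ m.left.unop) hk₁]
    congr 1
    rw [op_comp, H.map_comp]
    rfl
  · rw [rhoFun_none u H X g₂ _ h2]
    symm
    apply rhoFun_none
    rintro ⟨k₁, hk₁⟩
    apply h2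
    -- use fullness of the slice functor over g₁.left.unop
    have := hu g₁.left.unop
    let A : Over g₁.left.unop := Over.mk k₁
    let B : Over g₁.left.unop := Over.mk m.left.unop
    let φ : (Over.post u).obj A ⟶ (Over.post u).obj B :=
      Over.homMk g₂.hom.unop (by
        show g₂.hom.unop ≫ u.map m.left.unop = u.map k₁
        rw [hw, hk₁])
    obtain ⟨ψ, hψ⟩ := (Over.post (X := g₁.left.unop) u).map_surjective φ
    refine ⟨ψ.left, ?_⟩
    have h3 := congrArg (fun t => t.left) hψ
    exact h3


/-- cocone with point `Option (H X)` -/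
noncomputable def rhoCocone [u.Faithful] (hu : ∀ X : C, (Over.post (X := X) u).Full)
    (H : Cᵒᵖ ⥤ Type u) (X : C) :
    Cocone (CostructuredArrow.proj u.op (op (u.obj X)) ⋙ H) where
  pt := Option (H.obj (op X))
  ι :=
    { app := fun g => TypeCat.ofHom (rhoFun u H X g)
      naturality := fun g₁ g₂ m => by
        ext h₁
        exact rhoFun_natural u hu H X m h₁ }

/-- the map `(u_! H)(u X) → Option (H X)` -/
noncomputable def rho [u.Faithful] (hu : ∀ X : C, (Over.post (X := X) u).Full)
    (H : Cᵒᵖ ⥤ Type u) (X : C) :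
    (u.op.lan.obj H).obj (op (u.obj X)) ⟶ Option (H.obj (op X)) :=
  (isCol u H (u.obj X)).desc (rhoCocone u hu H X)

/-- the leg of the colimit cocone -/
noncomputable abbrev leg (H : Cᵒᵖ ⥤ Type u) {V : C'} (g : CostructuredArrow u.op (op V)) :
    H.obj g.left ⟶ (u.op.lan.obj H).obj (op V) :=
  ((ext u H).coconeAt (op V)).ι.app g

theorem rho_leg [u.Faithful] (hu : ∀ X : C, (Over.post (X := X) u).Full)
    (H : Cᵒᵖ ⥤ Type u) (X : C) (g : CostructuredArrow u.op (op (u.obj X))) (h' : H.obj g.left) :
    rho u hu H X (leg u H g h') = rhoFun u H X g h' := by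
  have := (isCol u H (u.obj X)).fac (rhoCocone u hu H X) g
  exact ConcreteCategory.congr_hom this h'

/-- the base object `(X, 𝟙)` -/
abbrev g₀ (X : C) : CostructuredArrow u.op (op (u.obj X)) :=
  CostructuredArrow.mk (Y := op X) (𝟙 (op (u.obj X)))

theorem leg_g₀ (H : Cᵒᵖ ⥤ Type u) (X : C) (h : H.obj (op X)) :
    leg u H (g₀ u X) h = (u.op.lanUnit.app H).app (op X) h := by
  have : leg u H (g₀ u X) = (u.op.lanUnit.app H).app (op X) := by
    show (u.op.lanUnit.app H).app (op X) ≫ (u.op.lan.obj H).map (𝟙 _) = _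
    rw [CategoryTheory.Functor.map_id]
    exact Category.comp_id _
  rw [this]

theorem leg_w (H : Cᵒᵖ ⥤ Type u) {V : C'} {g₁ g₂ : CostructuredArrow u.op (op V)} (m : g₁ ⟶ g₂)
    (h₁ : H.obj g₁.left) : leg u H g₂ (H.map m.left h₁) = leg u H g₁ h₁ := by
  have := ((ext u H).coconeAt (op V)).w m
  exact ConcreteCategory.congr_hom this h₁

theorem lan_map_leg {H K : Cᵒᵖ ⥤ Type u} (α : H ⟶ K) {V : C'}
    (g : CostructuredArrow u.op (op V)) (h' : H.obj g.left) :
    (u.op.lan.map α).app (op V) (leg u H g h') = leg u K g (α.app g.left h') := by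
  have key : leg u H g ≫ (u.op.lan.map α).app (op V) = α.app g.left ≫ leg u K g := by
    have h1 : α.app g.left ≫ (u.op.lanUnit.app K).app g.left =
        (u.op.lanUnit.app H).app g.left ≫ (u.op.lan.map α).app (u.op.obj g.left) :=
      congr_app (u.op.lanUnit.naturality α) g.left
    have h2 : (u.op.lan.obj H).map g.hom ≫ (u.op.lan.map α).app (op V) =
        (u.op.lan.map α).app (u.op.obj g.left) ≫ (u.op.lan.obj K).map g.hom :=
      (u.op.lan.map α).naturality g.hom
    show ((u.op.lanUnit.app H).app g.left ≫ (u.op.lan.obj H).map g.hom) ≫ (u.op.lan.map α).app (op V) =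
      α.app g.left ≫ ((u.op.lanUnit.app K).app g.left ≫ (u.op.lan.obj K).map g.hom)
    rw [Category.assoc, h2, ← Category.assoc, ← h1, Category.assoc]
  exact ConcreteCategory.congr_hom key h'

theorem unit_injective [u.Faithful] (hu : ∀ X : C, (Over.post (X := X) u).Full)
    (H : Cᵒᵖ ⥤ Type u) (X : C) :
    Function.Injective ((u.op.lanUnit.app H).app (op X)) := by
  intro h₁ h₂ e
  have e' : rho u hu H X (leg u H (g₀ u X) h₁) = rho u hu H X (leg u H (g₀ u X) h₂) := by
    rw [leg_g₀, leg_g₀, e]
  rw [rho_leg, rho_leg, rhoFun_some u H X (g₀ u X) h₁ (𝟙 X) (by simp),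
    rhoFun_some u H X (g₀ u X) h₂ (𝟙 X) (by simp)] at e'
  simpa using e'

end Helpers

/-- Let `u : C ⥤ C'` be a faithful functor between small categories such that for every object `X` of
`C` the induced functor on over-categories `C/X ⥤ C'/u X` is full and faithful. Then the left Kan
extension functor `u_!` on presheaves of sets is faithful, the unit `H ⟶ u^* u_! H` of the
adjunction `u_! ⊣ u^*` is a monomorphism for every presheaf `H`, and for every morphism of
presheaves `α : H ⟶ K` the naturality square of the unit at `α` (with sides `α` and `u^* u_! α`) is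
cartesian. (The published statement assumes only the condition on the slice functors, and its proof
uses that `u` is faithful; the slice condition alone does not suffice: for a nontrivial group viewed
as a one-object category mapping to the point every slice functor is an equivalence, while `u_!` is
the orbit-set functor on `G`-sets, which is not faithful, and the unit `G ⟶ G/G` is not a
monomorphism. So `u` is taken faithful here.) -/
theorem result
    {C : Type u} [SmallCategory C] {C' : Type u} [SmallCategory C'] (u : C ⥤ C') [u.Faithful]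
    (hu : ∀ X : C, (Over.post (X := X) u).Full ∧ (Over.post (X := X) u).Faithful) :
    (u.op.lan : (Cᵒᵖ ⥤ Type u) ⥤ (C'ᵒᵖ ⥤ Type u)).Faithful ∧
    (∀ H : Cᵒᵖ ⥤ Type u, Mono ((u.op.lanAdjunction (Type u)).unit.app H)) ∧
    ∀ (H K : Cᵒᵖ ⥤ Type u) (α : H ⟶ K),
      IsPullback ((u.op.lanAdjunction (Type u)).unit.app H) α
        (((Functor.whiskeringLeft Cᵒᵖ C'ᵒᵖ (Type u)).obj u.op).map (u.op.lan.map α))
        ((u.op.lanAdjunction (Type u)).unit.app K) := by
  have huF : ∀ X : C, (Over.post (X := X) u).Full := fun X => (hu X).1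
  have hunit : (u.op.lanAdjunction (Type u)).unit = u.op.lanUnit := Functor.lanAdjunction_unit _ _
  have hmono : ∀ H : Cᵒᵖ ⥤ Type u, Mono ((u.op.lanAdjunction (Type u)).unit.app H) := by
    intro H
    rw [hunit]
    have : ∀ X : Cᵒᵖ, Mono ((u.op.lanUnit.app H).app X) := by
      rintro ⟨X⟩
      rw [mono_iff_injective]
      exact unit_injective u huF H X
    exact NatTrans.mono_of_mono_app _
  refine ⟨?_, hmono, ?_⟩
  · constructor
    intro H K α β hαβ
    have := hmono K
    rw [← cancel_mono ((u.op.lanAdjunction (Type u)).unit.app K)]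
    have h1 := (u.op.lanAdjunction (Type u)).unit.naturality α
    have h2 := (u.op.lanAdjunction (Type u)).unit.naturality β
    simp only [Functor.id_obj, Functor.id_map, Functor.comp_obj, Functor.comp_map] at h1 h2
    rw [h1, h2, hαβ]
  · intro H K α
    apply IsPullback.of_forall_isPullback_app
    rintro ⟨X⟩
    rw [Types.isPullback_iff]
    refine ⟨?_, ?_, ?_⟩
    · exact (congr_app ((u.op.lanAdjunction (Type u)).unit.naturality α) (op X)).symm
    · rintro x₁ y₁ ⟨h1, _⟩
      rw [hunit] at h1
      exact unit_injective u huF H X h1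
    · intro z k hzk
      rw [hunit] at hzk ⊢
      obtain ⟨g, h'', hz⟩ := Types.jointly_surjective_of_isColimit (isCol u H (u.obj X)) z
      obtain ⟨h', rfl⟩ : ∃ h' : H.obj g.left, h' = h'' := ⟨h'', rfl⟩
      have hz' : leg u H g h' = z := hz
      have e1 : (u.op.lan.map α).app (op (u.obj X)) (leg u H g h') =
          (u.op.lanUnit.app K).app (op X) k := by rw [hz']; exact hzk
      rw [← hz']
      rw [lan_map_leg, ← leg_g₀] at e1
      have e2 := congrArg (fun t => rho u huF K X t) e1
      simp only [rho_leg] at e2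
      rw [rhoFun_some u K X (g₀ u X) k (𝟙 X) (by simp)] at e2
      have hid : K.map (𝟙 X).op k = k := by
        rw [op_id, CategoryTheory.Functor.map_id]; rfl
      rw [hid] at e2
      obtain ⟨k', hk', hk'2⟩ := (rhoFun_eq_some_iff u K X g (α.app g.left h') k).mp e2
      refine ⟨H.map k'.op h', ?_, ?_⟩
      · let m : g ⟶ g₀ u X := CostructuredArrow.homMk k'.op (by
          apply Quiver.Hom.unop_inj
          simp [hk'])
        have := leg_w u H m h'
        rw [← this, leg_g₀]
        rfl
      · have := ConcreteCategory.congr_hom (α.naturality k'.op) h'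
        simp only [ConcreteCategory.comp_apply] at this
        rw [this]
        exact hk'2

end Groth.Agent.S6129
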