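-- Statement S6131.
import Groth.Statements.S6131


set_option autoImplicit false
open CategoryTheory CategoryTheory.Limits
universe u
open SGA4

namespace Groth.Agent.S6131

/-- For a small site `(C, J)` and an object `X` of `C`, the sheaf associated to the presheaf represented
by `X` is an initial object of the category of sheaves of sets if and only if the empty sieve covers
`X`. -/
theorem result
    {C : Type u} [SmallCategory C] (J : GrothendieckTopology C) (X : C) :
    Nonempty (IsInitial ((presheafToSheaf J (Type u)).obj (yoneda.obj X))) ↔ (⊥ : Sieve X) ∈ J X := by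
  constructor
  · rintro ⟨hinit⟩
    -- the sheaf whose sections over Y are the proofs that the empty sieve covers Y
    let P : Cᵒᵖ ⥤ Type u :=
      { obj := fun Y => ULift.{u} (PLift ((⊥ : Sieve Y.unop) ∈ J Y.unop))
        map := fun {Y Z} g => TypeCat.ofHom fun a => ⟨⟨by
          have := J.pullback_stable g.unop a.down.down
          rwa [show (⊥ : Sieve Y.unop).pullback g.unop = ⊥ from by ext; simp] at this⟩⟩
        map_id := fun Y => by ext a; exact Subsingleton.elim _ _
        map_comp := fun f g => by ext a; exact Subsingleton.elim _ _ }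
    have hP : Presieve.IsSheaf J P := by
      intro Y S hS x hx
      have hbot : (⊥ : Sieve Y) ∈ J Y := by
        refine J.transitive hS ⊥ ?_
        intro Z f hf
        have := (x f hf).down.down
        rwa [show (⊥ : Sieve Y).pullback f = ⊥ from by ext; simp]
      refine ⟨⟨⟨hbot⟩⟩, ?_, fun t _ => Subsingleton.elim _ _⟩
      intro Z f hf
      exact Subsingleton.elim _ _
    let PS : Sheaf J (Type u) := ⟨P, (isSheaf_iff_isSheaf_of_type J P).mpr hP⟩
    have m : (presheafToSheaf J (Type u)).obj (yoneda.obj X) ⟶ PS := hinit.to PS
    have m' : yoneda.obj X ⟶ P := ((sheafificationAdjunction J (Type u)).homEquiv _ _) m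
    exact (yonedaEquiv m').down.down
  · intro hbot
    refine ⟨IsInitial.ofUnique (h := fun F => ?_) _⟩
    have hF : Presieve.IsSheaf J F.obj := (isSheaf_iff_isSheaf_of_type J F.obj).mp F.property
    have huniq : ∃! t : F.obj.obj (Opposite.op X), True := by
      let x : Presieve.FamilyOfElements F.obj (⊥ : Sieve X).arrows :=
        fun W g hg => False.elim hg
      have hx : x.Compatible := by
        intro W₁ W₂ W g₁ g₂ f₁ f₂ h₁
        exact False.elim h₁
      obtain ⟨t, -, ht⟩ := hF (⊥ : Sieve X) hbot x hx
      refine ⟨t, trivial, fun t' _ => ht t' ?_⟩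
      intro W g hg
      exact False.elim hg
    let e : ((presheafToSheaf J (Type u)).obj (yoneda.obj X) ⟶ F) ≃ F.obj.obj (Opposite.op X) :=
      ((sheafificationAdjunction J (Type u)).homEquiv (yoneda.obj X) F).trans yonedaEquiv
    haveI : Unique (F.obj.obj (Opposite.op X)) :=
      ⟨⟨huniq.choose⟩, fun a => huniq.unique trivial trivial⟩
    exact e.unique

end Groth.Agent.S6131
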