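-- Statement S6138.
import Groth.Statements.S6138
import Mathlib.CategoryTheory.Limits.Shapes.Opposites.Equalizers
import Mathlib.CategoryTheory.Limits.Types.Limits
import Mathlib.CategoryTheory.EffectiveEpi.Basic
import Mathlib.CategoryTheory.Limits.Shapes.RegularMono

set_option autoImplicit false
open CategoryTheory CategoryTheory.Limits Opposite
universe v u
open SGA4

namespace Groth.Agent.S6138

/-- Let `C` have coequalizers and pullbacks, let `F` be a presheaf of sets on `C` taking coequalizers of
`C` to equalizers, and let `u ∈ F(X)`, viewed as a morphism `h_X ⟶ F`. Then this morphism is a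
monomorphism (the map `v ↦ F(v)(u)` is injective on `Hom(Y, X)` for every `Y`) if and only if `u` is
minimal: whenever `u = F(p)(u')` for an effective epimorphism `p : X ⟶ X'` and some `u' ∈ F(X')`,
`p` is an isomorphism. (Coequalizers are used for one implication and pullbacks for the other; both
are assumed here.) -/
theorem result
    {C : Type u} [Category.{v} C] [HasCoequalizers C] [HasPullbacks C]
    (F : Cᵒᵖ ⥤ Type v) [PreservesLimitsOfShape WalkingParallelPair F]
    {X : C} (u : F.obj (op X)) :
    (∀ (Y : C) (v v' : Y ⟶ X), F.map v.op u = F.map v'.op u → v = v') ↔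
      ∀ (X' : C) (p : X ⟶ X') (u' : F.obj (op X')),
        EffectiveEpi p → F.map p.op u' = u → IsIso p := by
  constructor
  · intro hA X' p u' hp hpu
    have hmono : ∀ {Z : C} (g₁ g₂ : Z ⟶ X), g₁ ≫ p = g₂ ≫ p → g₁ ≫ 𝟙 X = g₂ ≫ 𝟙 X := by
      intro Z g₁ g₂ hg
      rw [Category.comp_id, Category.comp_id]
      apply hA
      rw [← hpu]
      have h1 : F.map g₁.op (F.map p.op u') = F.map (g₁ ≫ p).op u' := by
        rw [op_comp, F.map_comp]; rfl
      have h2 : F.map g₂.op (F.map p.op u') = F.map (g₂ ≫ p).op u' := by
        rw [op_comp, F.map_comp]; rfl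
      rw [h1, h2, hg]
    let st := hp.effectiveEpi.some
    refine ⟨st.desc (𝟙 X) hmono, st.fac (𝟙 X) hmono, ?_⟩
    have : Epi p := inferInstance
    rw [← cancel_epi p, ← Category.assoc, st.fac (𝟙 X) hmono, Category.id_comp, Category.comp_id]
  · intro hB Y v v' hvv'
    let c : Cofork v v' := Cofork.ofπ (coequalizer.π v v') (coequalizer.condition v v')
    have hc : IsColimit c := coequalizerIsCoequalizer v v'
    have hlim : IsLimit (F.mapCone c.op) :=
      isLimitOfPreserves F ((Cofork.isColimitEquivIsLimitOp c) hc)
    -- the section given by u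
    let s : ∀ j : WalkingParallelPair, (parallelPair v.op v'.op ⋙ F).obj j := fun j =>
      match j with
      | WalkingParallelPair.zero => u
      | WalkingParallelPair.one => F.map v.op u
    have hs : s ∈ (parallelPair v.op v'.op ⋙ F).sections := by
      intro j j' f
      cases f with
      | left => rfl
      | right => exact hvv'.symm
      | id j =>
        cases j with
        | zero => simp [s]
        | one => simp [s]
    obtain ⟨x, hx, -⟩ := (Types.isLimit_iff (F.mapCone c.op)).mp ⟨hlim⟩ s hs
    have hx0 := hx WalkingParallelPair.zero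
    have hiso : IsIso (coequalizer.π v v') := by
      refine hB _ (coequalizer.π v v') x inferInstance ?_
      have hι : c.op.ι = (coequalizer.π v v').op := by
        rw [Cofork.op_ι]; rfl
      have hx0' : F.map c.op.ι x = u := hx0
      rwa [hι] at hx0'
    rw [← cancel_mono (coequalizer.π v v')]
    exact coequalizer.condition v v'

end Groth.Agent.S6138
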