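-- Statement S6139.
import Groth.Statements.S6139


set_option autoImplicit false
open CategoryTheory CategoryTheory.Limits
universe v u
open SGA4

namespace Groth.Agent.S6139

/-- For an object `X` of a category `C`, the empty sieve on `X` is covering for the canonical topology
of `C` (the finest topology for which every representable presheaf is a sheaf) if and only if `X` is
a strict initial object: `X` is initial and every morphism with target `X` is an isomorphism. (The
source phrases the first condition as: for some topology coarser than the canonical one the
associated sheaf of `h_X` is initial; that sheaf is initial exactly when the empty sieve covers `X`,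
and coverage by the empty sieve passes to the finer canonical topology.) -/
theorem result
    {C : Type u} [Category.{v} C] (X : C) :
    (⊥ : Sieve X) ∈ Sheaf.canonicalTopology C X ↔
      (Nonempty (IsInitial X) ∧ ∀ (Y : C) (f : Y ⟶ X), IsIso f) := by
  constructor
  · intro hbot
    have hinit : ∀ (Y : C) (f : Y ⟶ X), Nonempty (IsInitial Y) := by
      intro Y f
      have hY : (⊥ : Sieve Y) ∈ Sheaf.canonicalTopology C Y := by
        have := (Sheaf.canonicalTopology C).pullback_stable f hbot
        rwa [show (⊥ : Sieve X).pullback f = ⊥ from by ext; simp] at this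
      have huniq : ∀ Z : C, ∃! t : Y ⟶ Z, True := by
        intro Z
        have hsh := Sheaf.isSheaf_yoneda_obj Z (⊥ : Sieve Y) hY
        let x : Presieve.FamilyOfElements (yoneda.obj Z) (⊥ : Sieve Y).arrows :=
          fun W g hg => False.elim hg
        have hx : x.Compatible := by
          intro W₁ W₂ W g₁ g₂ f₁ f₂ h₁
          exact False.elim h₁
        obtain ⟨t, -, ht⟩ := hsh x hx
        refine ⟨t, trivial, fun t' _ => ht t' ?_⟩
        intro W g hg
        exact False.elim hg
      refine ⟨IsInitial.ofUniqueHom (fun Z => (huniq Z).choose) ?_⟩
      intro Z m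
      exact (huniq Z).unique trivial trivial
    refine ⟨hinit X (𝟙 X), ?_⟩
    intro Y f
    obtain ⟨hY⟩ := hinit Y f
    obtain ⟨hX⟩ := hinit X (𝟙 X)
    have : f = (hY.uniqueUpToIso hX).hom := hY.hom_ext _ _
    rw [this]
    infer_instance
  · rintro ⟨⟨hX⟩, hiso⟩
    apply Sheaf.mem_finestTopology_of_forall_isSheafFor
    rintro _ ⟨Z, rfl⟩ Y f
    have := hiso Y f
    have hY : IsInitial Y := hX.ofIso (asIso f).symm
    intro x hx
    refine ⟨hY.to Z, ?_, fun t _ => hY.hom_ext _ _⟩
    intro W g hg
    exact False.elim hg

end Groth.Agent.S6139
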