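-- Statement S6143.
import Groth.Statements.S6143
import Mathlib
import Groth.Agent.Lib.SheafifyYoneda

set_option autoImplicit false
open CategoryTheory CategoryTheory.Limits
universe u
open SGA4

namespace Groth.Agent.S6143

open Opposite

section Helpers

variable {C : Type u} [SmallCategory C]

/-- covering + mono + strict disjointness. -/
structure Good {X : C} {ι : Type u} (Y : ι → C) (s : ∀ i, Y i ⟶ X) : Prop where
  cover : Sieve.ofArrows Y s ∈ Sheaf.canonicalTopology C X
  mono : ∀ i, Mono (s i)
  disj : ∀ i j, i ≠ j → ∀ (V : C) (h : V ⟶ Y i) (h' : V ⟶ Y j), h ≫ s i = h' ≫ s j →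
    (⊥ : Sieve V) ∈ Sheaf.canonicalTopology C V

theorem subsingleton_of_bot_mem (F : Sheaf (Sheaf.canonicalTopology C) (Type u)) (V : C)
    (hV : (⊥ : Sieve V) ∈ Sheaf.canonicalTopology C V) (a b : F.obj.obj (op V)) : a = b := by
  have hsh : Presieve.IsSheaf (Sheaf.canonicalTopology C) F.obj :=
    (isSheaf_iff_isSheaf_of_type _ _).1 F.cond
  apply (hsh _ hV).isSeparatedFor.ext
  intro W f hf
  exact hf.elim

theorem glue {X : C} {ι : Type u} {Y : ι → C} {s : ∀ i, Y i ⟶ X} (hG : Good Y s)
    {Z : C} (g : Z ⟶ X) (P : ι → C) (p : ∀ i, P i ⟶ Z) (q : ∀ i, P i ⟶ Y i)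
    (hpb : ∀ i, IsPullback (q i) (p i) (s i) g)
    (F : Sheaf (Sheaf.canonicalTopology C) (Type u)) :
    Function.Bijective (fun (t : F.obj.obj (op Z)) (i : ι) => F.obj.map (p i).op t) := by
  have hsh : Presieve.IsSheaf (Sheaf.canonicalTopology C) F.obj :=
    (isSheaf_iff_isSheaf_of_type _ _).1 F.cond
  have hcov : Sieve.ofArrows P p ∈ Sheaf.canonicalTopology C Z := by
    apply GrothendieckTopology.superset_covering _ _
      (GrothendieckTopology.pullback_stable _ g hG.cover)
    intro V f hf
    rw [Sieve.pullback_apply, Sieve.mem_ofArrows_iff] at hf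
    obtain ⟨i, a, ha⟩ := hf
    rw [Sieve.mem_ofArrows_iff]
    exact ⟨i, (hpb i).lift a f ha.symm, ((hpb i).lift_snd _ _ _).symm⟩
  have hmono : ∀ i, Mono (p i) := fun i => (hpb i).mono_snd_of_mono (hG.mono i)
  -- independence of factorisation
  have hkey : ∀ (w : ∀ i, F.obj.obj (op (P i))) (V : C) (i j : ι) (a : V ⟶ P i) (a' : V ⟶ P j),
      a ≫ p i = a' ≫ p j → F.obj.map a.op (w i) = F.obj.map a'.op (w j) := by
    intro w V i j a a' haa'
    by_cases hij : i = j
    · subst hij
      have := hmono i
      rw [(cancel_mono (p i)).mp haa']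
    · apply subsingleton_of_bot_mem F V
      apply hG.disj i j hij V (a ≫ q i) (a' ≫ q j)
      rw [Category.assoc, Category.assoc, (hpb i).w, (hpb j).w, ← Category.assoc, ← Category.assoc, haa']
  constructor
  · intro t t' htt'
    apply (hsh _ hcov).isSeparatedFor.ext
    intro V f hf
    rw [Sieve.mem_ofArrows_iff] at hf
    obtain ⟨i, a, rfl⟩ := hf
    have := congrFun htt' i
    simp only at this
    rw [op_comp, F.obj.map_comp]
    simp only [types_comp_apply]
    rw [this]
  · intro w
    let x : Presieve.FamilyOfElements F.obj (Sieve.ofArrows P p).arrows :=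
      fun V f hf => F.obj.map (Sieve.ofArrows.h hf).op (w (Sieve.ofArrows.i hf))
    have hx : ∀ (V : C) (i : ι) (a : V ⟶ P i) (hf : (Sieve.ofArrows P p).arrows (a ≫ p i)),
        x (a ≫ p i) hf = F.obj.map a.op (w i) := by
      intro V i a hf
      exact hkey w V _ _ _ _ (Sieve.ofArrows.fac hf)
    have hxc : x.Compatible := by
      rw [Presieve.compatible_iff_sieveCompatible]
      intro V V' f b hf
      obtain ⟨i, a, rfl⟩ := (Sieve.mem_ofArrows_iff _ _ _).mp hf
      rw [hx V i a hf]
      have h1 : x (b ≫ a ≫ p i) ((Sieve.ofArrows P p).downward_closed hf b) =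
          F.obj.map (b ≫ a).op (w i) := by
        have := hx V' i (b ≫ a) (by rw [Category.assoc]; exact (Sieve.ofArrows P p).downward_closed hf b)
        convert this using 2
        · rw [Category.assoc]
      rw [h1, op_comp, F.obj.map_comp]
      rfl
    obtain ⟨t, ht, -⟩ := (hsh _ hcov) x hxc
    refine ⟨t, ?_⟩
    funext i
    have hpi : (Sieve.ofArrows P p).arrows (p i) := by
      rw [Sieve.mem_ofArrows_iff]; exact ⟨i, 𝟙 _, (Category.id_comp _).symm⟩
    have h1 := ht (p i) hpi
    have h2 : x (p i) hpi = w i := by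
      have := hx (P i) i (𝟙 _) (by rw [Category.id_comp]; exact hpi)
      have h3 : x (p i) hpi = x (𝟙 _ ≫ p i) (by rw [Category.id_comp]; exact hpi) := by
        congr 1
        · rw [Category.id_comp]
      rw [h3, this]
      simp
    show F.obj.map (p i).op t = w i
    rw [h1, h2]


/-- The sheaf of closed sieves. -/
noncomputable def Om : Sheaf (Sheaf.canonicalTopology C) (Type u) :=
  ⟨(Functor.closedSieves (Sheaf.canonicalTopology C)).toFunctor,
    (isSheaf_iff_isSheaf_of_type _ _).2 (classifier_isSheaf _)⟩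

theorem top_isClosed (V : C) : (Sheaf.canonicalTopology C).IsClosed (⊤ : Sieve V) :=
  fun _ _ _ => trivial

/-- constructor for sections of `Om` -/
def omMk {V : C} (S : Sieve V) (hS : (Sheaf.canonicalTopology C).IsClosed S) :
    (Om (C := C)).obj.obj (op V) := ⟨S, hS⟩

theorem om_map {V W : C} (g : W ⟶ V) (S : Sieve V) (hS : (Sheaf.canonicalTopology C).IsClosed S) :
    (Om (C := C)).obj.map g.op (omMk S hS) =
      omMk (S.pullback g) ((Sheaf.canonicalTopology C).isClosed_pullback g S hS) := rfl

theorem omMk_inj {V : C} {S S' : Sieve V} {hS : (Sheaf.canonicalTopology C).IsClosed S}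
    {hS' : (Sheaf.canonicalTopology C).IsClosed S'} (h : omMk S hS = omMk S' hS') : S = S' :=
  congrArg Subtype.val h

/-- the presheaf `W ↦ Option (W ⟶ T)` -/
def optPsh (T : C) : Cᵒᵖ ⥤ Type u where
  obj W := Option (W.unop ⟶ T)
  map g := TypeCat.ofHom fun o => o.map (fun h => g.unop ≫ h)
  map_id W := by
    ext o
    cases o <;> simp
  map_comp g g' := by
    ext o
    cases o <;> simp

def optSome {T V : C} (h : V ⟶ T) : (optPsh T).obj (op V) := some h

def optNone {T V : C} : (optPsh T).obj (op V) := none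

theorem optPsh_map_some {T V W : C} (g : W ⟶ V) (h : V ⟶ T) :
    (optPsh T).map g.op (optSome h) = optSome (g ≫ h) := rfl

theorem optSome_inj {T V : C} {h h' : V ⟶ T} (e : optSome h = optSome h') : h = h' :=
  Option.some.inj e

theorem good_of_bij {X : C} {ι : Type u} (Y : ι → C) (s : ∀ i, Y i ⟶ X)
    (hbij : ∀ F : Sheaf (Sheaf.canonicalTopology C) (Type u), Function.Bijective
      (fun (t : F.obj.obj (op X)) (i : ι) => F.obj.map (s i).op t)) : Good Y s := by
  classical
  refine ⟨?_, ?_, ?_⟩
  · -- covering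
    rw [← GrothendieckTopology.close_eq_top_iff_mem]
    have h := (hbij Om).1
    have h12 : omMk ((Sheaf.canonicalTopology C).close (Sieve.ofArrows Y s))
        ((Sheaf.canonicalTopology C).close_isClosed _) = omMk (⊤ : Sieve X) (top_isClosed X) := by
      apply h
      funext i
      show Om.obj.map (s i).op (omMk _ _) = Om.obj.map (s i).op (omMk _ _)
      rw [om_map, om_map]
      congr 1
      rw [Sieve.pullback_top, ← GrothendieckTopology.pullback_close,
        Sieve.pullback_eq_top_of_mem _ (Sieve.ofArrows_mk Y s i),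
        GrothendieckTopology.close_eq_top_iff_mem]
      exact GrothendieckTopology.top_mem _ _
    exact omMk_inj h12
  · -- mono
    intro i
    constructor
    intro V h h' hh'
    let F : Sheaf (Sheaf.canonicalTopology C) (Type u) :=
      (presheafToSheaf (Sheaf.canonicalTopology C) (Type u)).obj (optPsh (Y i))
    let η : optPsh (Y i) ⟶ F.obj := CategoryTheory.toSheafify (Sheaf.canonicalTopology C) (optPsh (Y i))
    let w : ∀ k, F.obj.obj (op (Y k)) := fun k =>
      η.app (op (Y k)) (if hk : k = i then optSome (eqToHom (by rw [hk])) else optNone)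
    obtain ⟨t, ht⟩ := (hbij F).2 w
    have hti : F.obj.map (s i).op t = η.app (op (Y i)) (optSome (𝟙 (Y i))) := by
      have := congrFun ht i
      simp only [w, ↓reduceDIte, eqToHom_refl] at this
      exact this
    have hnat : ∀ (k : V ⟶ Y i), F.obj.map k.op (η.app (op (Y i)) (optSome (𝟙 (Y i)))) =
        η.app (op V) (optSome k) := by
      intro k
      rw [← NatTrans.naturality_apply η k.op, optPsh_map_some, Category.comp_id]
    have h1 : η.app (op V) (optSome h) = η.app (op V) (optSome h') := by
      rw [← hnat h, ← hnat h', ← hti]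
      have e1 : F.obj.map h.op (F.obj.map (s i).op t) = F.obj.map (h ≫ s i).op t := by
        rw [op_comp, F.obj.map_comp]; rfl
      have e2 : F.obj.map h'.op (F.obj.map (s i).op t) = F.obj.map (h' ≫ s i).op t := by
        rw [op_comp, F.obj.map_comp]; rfl
      rw [e1, e2, hh']
    have hmem := Presheaf.equalizerSieve_mem (Sheaf.canonicalTopology C) η
      (X := op V) (optSome h) (optSome h') h1
    have hsep := (Sheaf.isSheaf_yoneda_obj (Y i) _ hmem).isSeparatedFor
    apply hsep.ext (t₁ := (h : (yoneda.obj (Y i)).obj (op V))) (t₂ := h')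
    intro W f hf
    have hf' : (optPsh (Y i)).map f.op (optSome h) = (optPsh (Y i)).map f.op (optSome h') := hf
    rw [optPsh_map_some, optPsh_map_some] at hf'
    exact optSome_inj hf'
  · -- strict disjointness
    intro i j hij V h h' hh'
    rw [← GrothendieckTopology.close_eq_top_iff_mem]
    let w : ∀ k, Om.obj.obj (op (Y k)) := fun k =>
      if k = i then omMk (⊤ : Sieve (Y k)) (top_isClosed _) else
        omMk ((Sheaf.canonicalTopology C).close (⊥ : Sieve (Y k)))
          ((Sheaf.canonicalTopology C).close_isClosed _)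
    obtain ⟨t, ht⟩ := (hbij Om).2 w
    have hti : Om.obj.map (s i).op t = omMk (⊤ : Sieve (Y i)) (top_isClosed _) := by
      have := congrFun ht i
      simp only [w, ↓reduceIte] at this
      exact this
    have htj : Om.obj.map (s j).op t = omMk ((Sheaf.canonicalTopology C).close (⊥ : Sieve (Y j)))
          ((Sheaf.canonicalTopology C).close_isClosed _) := by
      have := congrFun ht j
      simp only [w, if_neg (Ne.symm hij)] at this
      exact this
    have e1 : Om.obj.map h.op (Om.obj.map (s i).op t) = Om.obj.map (h ≫ s i).op t := by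
      rw [op_comp, Om.obj.map_comp]; rfl
    have e2 : Om.obj.map h'.op (Om.obj.map (s j).op t) = Om.obj.map (h' ≫ s j).op t := by
      rw [op_comp, Om.obj.map_comp]; rfl
    have e3 : Om.obj.map h.op (Om.obj.map (s i).op t) = Om.obj.map h'.op (Om.obj.map (s j).op t) := by
      rw [e1, e2, hh']
    rw [hti, htj, om_map, om_map] at e3
    have e5 := omMk_inj e3
    rw [Sieve.pullback_top, ← GrothendieckTopology.pullback_close] at e5
    have e6 : (⊥ : Sieve (Y j)).pullback h' = ⊥ := by
      ext W f
      simp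
    rw [e6] at e5
    exact e5.symm


/-- pulled back cofan is a colimit -/
theorem pullback_cofan_isColimit {X : C} {ι : Type u} (Y : ι → C) (s : ∀ i, Y i ⟶ X)
    [∀ (i : ι) (Z : C) (g : Z ⟶ X), HasPullback (s i) g]
    (hU : IsUniversalColimit (Cofan.mk X s)) {Z : C} (g : Z ⟶ X) :
    Nonempty (IsColimit (Cofan.mk Z (fun k => pullback.snd (s k) g))) := by
  refine hU (Cofan.mk Z (fun k => pullback.snd (s k) g))
    (Discrete.natTrans (fun k => pullback.fst (s k.as) g)) g ?_ (.of_discrete _) ?_
  · ext ⟨k⟩
    simp [pullback.condition]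
  · rintro ⟨k⟩
    exact (IsPullback.of_hasPullback (s k) g).flip

theorem yoneda_isSheafFor_of_isColimit {Z W : C} {ι : Type u} (P : ι → C) (p : ∀ i, P i ⟶ Z)
    (hc : IsColimit (Cofan.mk Z p)) (R : Sieve Z) (hR1 : ∀ i, R (p i))
    (hR2 : ∀ ⦃V : C⦄ (f : V ⟶ Z), R f → ∃ (i : ι) (a : V ⟶ P i), f = a ≫ p i) :
    Presieve.IsSheafFor (yoneda.obj W) R.arrows := by
  intro x hx
  rw [Presieve.compatible_iff_sieveCompatible] at hx
  let m : Z ⟶ W := Cofan.IsColimit.desc hc (fun i => x (p i) (hR1 i))
  have hm : ∀ i, p i ≫ m = x (p i) (hR1 i) := fun i => Cofan.IsColimit.fac hc _ i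
  refine ⟨m, ?_, ?_⟩
  · intro V f hf
    obtain ⟨i, a, rfl⟩ := hR2 f hf
    show (a ≫ p i) ≫ m = x (a ≫ p i) hf
    rw [Category.assoc, hm, hx (p i) a (hR1 i)]
    rfl
  · intro m' hm'
    apply Cofan.IsColimit.hom_ext hc
    intro i
    show p i ≫ m' = p i ≫ m
    rw [hm]
    exact hm' (p i) (hR1 i)

theorem good_of_universal {X : C} {ι : Type u} (Y : ι → C) (s : ∀ i, Y i ⟶ X)
    [∀ (i : ι) (Z : C) (g : Z ⟶ X), HasPullback (s i) g]
    (hc : IsColimit (Cofan.mk X s)) [CoproductDisjoint Y]
    (hU : IsUniversalColimit (Cofan.mk X s)) : Good Y s := by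
  classical
  have hmono : ∀ i, Mono (s i) := fun i => CoproductDisjoint.mono_inj hc i
  refine ⟨?_, hmono, ?_⟩
  · apply Sheaf.mem_finestTopology_of_forall_isSheafFor
    rintro P ⟨W, rfl⟩ Z g
    obtain ⟨hc'⟩ := pullback_cofan_isColimit Y s hU g
    apply yoneda_isSheafFor_of_isColimit (fun k => pullback (s k) g) (fun k => pullback.snd (s k) g) hc'
    · intro i
      rw [Sieve.pullback_apply, Sieve.mem_ofArrows_iff]
      exact ⟨i, pullback.fst (s i) g, pullback.condition.symm⟩
    · intro V f hf
      rw [Sieve.pullback_apply, Sieve.mem_ofArrows_iff] at hf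
      obtain ⟨i, a, ha⟩ := hf
      exact ⟨i, pullback.lift a f ha.symm, (pullback.lift_snd _ _ _).symm⟩
  · intro i j hij V h h' hh'
    apply Sheaf.mem_finestTopology_of_forall_isSheafFor
    rintro P ⟨W, rfl⟩ Z g
    have hbot : ((⊥ : Sieve V).pullback g) = ⊥ := by
      ext W f
      simp
    rw [hbot]
    -- maps to Y i, Y j
    let u : Z ⟶ Y i := g ≫ h
    let u' : Z ⟶ Y j := g ≫ h'
    have huu' : u ≫ s i = u' ≫ s j := by simp only [u, u', Category.assoc, hh']
    -- existence of a map Z ⟶ W
    obtain ⟨hI⟩ := CoproductDisjoint.nonempty_isInitial_of_ne hc hij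
      (PullbackCone.mk (pullback.fst (s i) (s j)) (pullback.snd (s i) (s j)) pullback.condition)
      (pullbackIsPullback (s i) (s j))
    let m₀ : Z ⟶ W := pullback.lift u u' huu' ≫ hI.to W
    -- uniqueness
    have huniq : ∀ a b : Z ⟶ W, a = b := by
      intro a b
      obtain ⟨hc'⟩ := pullback_cofan_isColimit Y s hU (u ≫ s i)
      let σi : Z ⟶ pullback (s i) (u ≫ s i) := pullback.lift u (𝟙 Z) (by simp)
      let σj : Z ⟶ pullback (s j) (u ≫ s i) := pullback.lift u' (𝟙 Z) (by simp [huu'])
      let d : ∀ k, pullback (s k) (u ≫ s i) ⟶ W := fun k =>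
        if k = j then pullback.snd (s k) (u ≫ s i) ≫ b else pullback.snd (s k) (u ≫ s i) ≫ a
      let m : Z ⟶ W := Cofan.IsColimit.desc hc' d
      have hm : ∀ k, pullback.snd (s k) (u ≫ s i) ≫ m = d k := fun k => Cofan.IsColimit.fac hc' _ k
      have h1 : m = a := by
        have := hm i
        simp only [d, if_neg hij] at this
        have h2 := congrArg (fun φ => σi ≫ φ) this
        simp only [σi, pullback.lift_snd_assoc, Category.id_comp] at h2
        exact h2
      have h2 : m = b := by
        have := hm j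
        simp only [d, if_pos rfl] at this
        have h2 := congrArg (fun φ => σj ≫ φ) this
        simp only [σj, pullback.lift_snd_assoc, Category.id_comp] at h2
        exact h2
      rw [← h1, ← h2]
    intro x _
    refine ⟨m₀, ?_, fun m' _ => huniq _ _⟩
    intro V' f hf
    exact hf.elim



theorem isColimit_of_bij {ι : Type u} {F : Discrete ι ⥤ C} (c : Cocone F)
    (h : ∀ W : C, Function.Bijective (fun (m : c.pt ⟶ W) (k : ι) => c.ι.app ⟨k⟩ ≫ m)) :
    Nonempty (IsColimit c) := by
  refine ⟨{ desc := fun t => ((h t.pt).2 (fun k => t.ι.app ⟨k⟩)).choose, fac := ?_, uniq := ?_ }⟩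
  · rintro t ⟨k⟩
    exact congrFun ((h t.pt).2 (fun k => t.ι.app ⟨k⟩)).choose_spec k
  · intro t m hm
    apply (h t.pt).1
    rw [((h t.pt).2 (fun k => t.ι.app ⟨k⟩)).choose_spec]
    funext k
    exact hm ⟨k⟩

/-- representable sheaf for the canonical topology -/
def yW (W : C) : Sheaf (Sheaf.canonicalTopology C) (Type u) :=
  ⟨yoneda.obj W, (isSheaf_iff_isSheaf_of_type _ _).2 (Sheaf.isSheaf_yoneda_obj W)⟩

theorem colim_of_good {X : C} {ι : Type u} {Y : ι → C} {s : ∀ i, Y i ⟶ X} (hG : Good Y s)
    (F' : Discrete ι ⥤ C) (c' : Cocone F') (g : c'.pt ⟶ X) (q : ∀ k, F'.obj ⟨k⟩ ⟶ Y k)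
    (hpb : ∀ k, IsPullback (q k) (c'.ι.app ⟨k⟩) (s k) g) : Nonempty (IsColimit c') := by
  apply isColimit_of_bij
  intro W
  exact glue hG g (fun k => F'.obj ⟨k⟩) (fun k => c'.ι.app ⟨k⟩) q hpb (yW W)

theorem isInitial_of_bot_mem (I : C) (h : (⊥ : Sieve I) ∈ Sheaf.canonicalTopology C I) :
    Nonempty (IsInitial I) := by
  have hW : ∀ W : C, ∃! m : I ⟶ W, True := by
    intro W
    have hs := Sheaf.isSheaf_yoneda_obj W _ h
    obtain ⟨m, -, hm⟩ := hs (fun V f hf => hf.elim) (fun V₁ V₂ Z g₁ g₂ f₁ f₂ h₁ => h₁.elim)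
    exact ⟨m, trivial, fun m' _ => hm m' (fun V f hf => hf.elim)⟩
  exact ⟨IsInitial.ofUniqueHom (fun W => (hW W).choose)
    (fun W m => (hW W).choose_spec.2 m trivial)⟩

end Helpers

/-- Let `C` be a small category, `X` an object and `s i : Y i ⟶ X` a family of morphisms all of whose
base changes exist. Then the associated sheaf of `h_X` for the canonical topology, with the maps
induced by the `s i`, is a coproduct of the associated sheaves of the `h_{Y i}` (in sheaves of sets
for the canonical topology) if and only if `X` is a disjoint universal coproduct of the `Y i` in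
`C`: the cofan `(X, s)` is a colimit, the injections of a coproduct of the family are monomorphisms
with pairwise pullbacks initial, and the colimit is stable under base change. (The source asks for
the coproduct decomposition after sheafification for some topology coarser than the canonical one;
this is equivalent to asking it for the canonical topology itself.) -/
theorem result
    {C : Type u} [SmallCategory C] {X : C} {ι : Type u} (Y : ι → C) (s : ∀ i, Y i ⟶ X)
    [∀ (i : ι) (Z : C) (g : Z ⟶ X), HasPullback (s i) g] :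
    Nonempty (IsColimit (Cofan.mk
        ((presheafToSheaf (Sheaf.canonicalTopology C) (Type u)).obj (yoneda.obj X))
        (fun i => (presheafToSheaf (Sheaf.canonicalTopology C) (Type u)).map (yoneda.map (s i))))) ↔
      (Nonempty (IsColimit (Cofan.mk X s)) ∧ CoproductDisjoint Y ∧
        IsUniversalColimit (Cofan.mk X s)) := by
  rw [Groth.Agent.Lib.SheafifyYoneda.isColimit_cofan_iff]
  constructor
  · intro hbij
    have hG := good_of_bij Y s hbij
    obtain ⟨hc⟩ : Nonempty (IsColimit (Cofan.mk X s)) :=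
      colim_of_good hG (Discrete.functor Y) (Cofan.mk X s) (𝟙 X) (fun k => 𝟙 _)
        (fun k => IsPullback.of_id_fst)
    refine ⟨⟨hc⟩, ?_, ?_⟩
    · haveI : ∀ i, Mono ((Cofan.mk X s).inj i) := hG.mono
      exact CoproductDisjoint.of_cofan hc
        (fun {i j} _ => PullbackCone.mk (pullback.fst (s i) (s j)) (pullback.snd (s i) (s j))
          pullback.condition)
        (fun {i j} _ => pullbackIsPullback (s i) (s j))
        (fun {i j} hij => (isInitial_of_bot_mem _ (hG.disj i j hij _ (pullback.fst (s i) (s j))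
          (pullback.snd (s i) (s j)) pullback.condition)).some)
    · intro F' c' α f _ _ hpb
      exact colim_of_good hG F' c' f (fun k => α.app ⟨k⟩) (fun k => (hpb ⟨k⟩).flip)
  · rintro ⟨⟨hc⟩, hD, hU⟩
    have hG := good_of_universal Y s hc hU
    intro F
    exact glue hG (𝟙 X) Y s (fun k => 𝟙 _) (fun k => IsPullback.of_id_fst) F

end Groth.Agent.S6143
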