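-- Statement S6144.
import Groth.Statements.S6144
import Mathlib

set_option autoImplicit false
open CategoryTheory CategoryTheory.Limits
universe w v u
open SGA4

namespace Groth.Agent.S6144

/-- Let `E` be a category with `v`-small hom-sets and pullbacks, admitting a detecting family of objects
indexed by a `v`-small type (maps out of the family jointly reflect isomorphisms). Then every
detecting family `Y : I → E`, indexed by an arbitrary type, contains a detecting subfamily indexed
by a `v`-small subset of `I`. -/
theorem result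
    {E : Type u} [Category.{v} E] [HasPullbacks E] {κ : Type v} (G : κ → E)
    (hG : (ObjectProperty.ofObj G).IsDetecting) {I : Type w} (Y : I → E)
    (hY : (ObjectProperty.ofObj Y).IsDetecting) :
    ∃ J : Set I, Small.{v} J ∧ (ObjectProperty.ofObj (fun j : J => Y j)).IsDetecting := by
  classical
  have : WellPowered.{v} E := wellPowered_of_isDetecting hG
  -- choice of indices
  have key : ∀ (p : Σ k : κ, {S : Subobject (G k) // S ≠ ⊤}),
      ∃ i : I, ∃ f : Y i ⟶ G p.1, ¬ p.2.1.Factors f := by
    rintro ⟨k, S, hS⟩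
    by_contra hcon
    push Not at hcon
    apply hS
    rw [← Subobject.isIso_arrow_iff_eq_top]
    rw [hY.isIso_iff_of_mono]
    rintro _ ⟨i⟩ f
    exact ⟨Subobject.factorThru _ _ (hcon i f), Subobject.factorThru_arrow _ _ _⟩
  choose c hc using key
  refine ⟨Set.range c, small_range c, ?_⟩
  -- (**)
  have h2 : ∀ (k : κ) (S : Subobject (G k)),
      (∀ j ∈ Set.range c, ∀ f : Y j ⟶ G k, S.Factors f) → S = ⊤ := by
    intro k S hS
    by_contra hne
    obtain ⟨f, hf⟩ := hc ⟨k, S, hne⟩
    exact hf (hS _ ⟨_, rfl⟩ f)
  -- (*)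
  have h1 : ∀ {A B : E} (m : A ⟶ B) [Mono m],
      (∀ j ∈ Set.range c, ∀ f : Y j ⟶ B, ∃ f' : Y j ⟶ A, f' ≫ m = f) → IsIso m := by
    intro A B m _ hm
    rw [hG.isIso_iff_of_mono]
    rintro _ ⟨k⟩ g
    have hS := h2 k ((Subobject.pullback g).obj (Subobject.mk m)) (by
      intro j hj f
      rw [pullback_factors_iff]
      obtain ⟨f', hf'⟩ := hm j hj (f ≫ g)
      exact (Subobject.mk_factors_iff _ _).2 ⟨f', hf'⟩)
    have : (Subobject.mk m).Factors (𝟙 _ ≫ g) := by
      rw [← pullback_factors_iff, hS]
      exact Subobject.top_factors _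
    rw [Category.id_comp, Subobject.mk_factors_iff] at this
    exact this
  intro A B f hf
  have hf' : ∀ j ∈ Set.range c, ∀ h : Y j ⟶ B, ∃! h' : Y j ⟶ A, h' ≫ f = h := by
    intro j hj h
    exact hf (Y j) (ObjectProperty.ofObj_apply (fun j : Set.range c => Y j) ⟨j, hj⟩) h
  have : Mono f := by
    rw [← pullback.isIso_diagonal_iff]
    apply h1
    intro j hj h
    refine ⟨h ≫ pullback.fst f f, ?_⟩
    have : h ≫ pullback.fst f f = h ≫ pullback.snd f f := by
      apply (hf' j hj (h ≫ pullback.fst f f ≫ f)).unique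
      · simp
      · simp [pullback.condition]
    apply pullback.hom_ext
    · simp
    · simp [this]
  apply h1
  intro j hj h
  exact (hf' j hj h).exists

end Groth.Agent.S6144
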