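import Groth.Statements.S6152
import Groth.Agent.Lib.ModSiteFreeOn
import Mathlib.CategoryTheory.Sites.Whiskering
import Mathlib.CategoryTheory.Generator.Basic

set_option autoImplicit false
universe u
open CategoryTheory
open ModSite

namespace Groth.Agent.S6152

/-- Second assertion (ringed topos of sheaves on a small site (C, J) with commutative structure sheaf
O): if G is a topologically generating family of objects (every object of C admits a covering family
by members of G), then the free O-modules A_X = j_{X!}(O|X), X in G, form a generating family of the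
category of O-modules; stated as: this family detects isomorphisms and is separating. -/
theorem result {C : Type u} [SmallCategory C] {J : GrothendieckTopology C}
    (O : Sheaf J CommRingCat.{u}) (G : Set C)
    (hG : ∀ X : C, ∃ (ι : Type u) (Y : ι → C) (f : ∀ i, Y i ⟶ X), Sieve.ofArrows Y f ∈ J X ∧ ∀ i, Y i ∈ G) :
    (ObjectProperty.ofObj fun X : G => ModSite.freeOn O (X : C)).IsDetecting ∧
    (ObjectProperty.ofObj fun X : G => ModSite.freeOn O (X : C)).IsSeparating := by
  have hsep : (ObjectProperty.ofObj fun X : G => ModSite.freeOn O (X : C)).IsSeparating := by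
    intro M N f₁ f₂ h
    apply (SheafOfModules.fullyFaithfulForget _).map_injective
    apply PresheafOfModules.hom_ext
    rintro ⟨Y⟩
    ext y
    obtain ⟨ι, Z, g, hcov, hZ⟩ := hG Y
    have hN : Presheaf.IsSeparated J N.val.presheaf := Presheaf.IsSheaf.isSeparated N.isSheaf
    have key : ∀ (V : C) (k : V ⟶ Y), (Sieve.ofArrows Z g) k →
        N.val.presheaf.map k.op (f₁.val.app (Opposite.op Y) y) = N.val.presheaf.map k.op (f₂.val.app (Opposite.op Y) y) := by
      intro V k hk
      obtain ⟨i, a, rfl⟩ := (Sieve.mem_ofArrows_iff Z g k).mp hk
      -- the section `y` restricted to `Z i` as a map out of the free module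
      let e := Groth.Agent.Lib.ModSiteFreeOn.freeOnHomEquiv O (Z i) M
      let h' : ModSite.freeOn O (Z i) ⟶ M := e.symm (M.val.map (g i).op y)
      have h1 := h (ModSite.freeOn O (Z i))
        (ObjectProperty.ofObj_apply (fun X : G => ModSite.freeOn O (X : C)) ⟨Z i, hZ i⟩) h'
      have h2 := congrArg (Groth.Agent.Lib.ModSiteFreeOn.freeOnHomEquiv O (Z i) N) h1
      rw [Groth.Agent.Lib.ModSiteFreeOn.freeOnHomEquiv_comp,
        Groth.Agent.Lib.ModSiteFreeOn.freeOnHomEquiv_comp] at h2
      have h3 : e h' = M.val.map (g i).op y := e.apply_symm_apply _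
      rw [h3] at h2
      -- now use naturality
      have n₁ := PresheafOfModules.naturality_apply f₁.val (g i).op y
      have n₂ := PresheafOfModules.naturality_apply f₂.val (g i).op y
      have h4 : N.val.map (g i).op (f₁.val.app (Opposite.op Y) y) = N.val.map (g i).op (f₂.val.app (Opposite.op Y) y) := by
        rw [← n₁, ← n₂]; exact h2
      have h5 := congrArg (N.val.map a.op) h4
      have c₁ := (PresheafOfModules.map_comp_apply N.val (g i).op a.op (f₁.val.app (Opposite.op Y) y))
      have c₂ := (PresheafOfModules.map_comp_apply N.val (g i).op a.op (f₂.val.app (Opposite.op Y) y))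
      exact (c₁.trans h5).trans c₂.symm
    exact hN Y _ hcov _ _ key
  exact ⟨hsep.isDetecting, hsep⟩

end Groth.Agent.S6152
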