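import Groth.Statements.S6160
import Groth.Agent.Lib.ModToSheafColim

set_option autoImplicit false
universe u
open CategoryTheory
open ModSite

namespace Groth.Agent.S6160

open CategoryTheory.Limits in
/-- Ringed topos of sheaves on a small site; u : A -> B a morphism of sheaves of rings: the
restriction-of-scalars functor from B-Modules to A-Modules commutes with all u-small limits and
colimits and is conservative. -/
theorem result {C : Type u} [SmallCategory C]
    {J : GrothendieckTopology C} {A B : Sheaf J RingCat.{u}} (φ : A ⟶ B) :
    PreservesLimitsOfSize.{u, u} (SheafOfModules.restrictScalars.{u} φ) ∧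
    PreservesColimitsOfSize.{u, u} (SheafOfModules.restrictScalars.{u} φ) ∧
    (SheafOfModules.restrictScalars.{u} φ).ReflectsIsomorphisms := by
  refine ⟨⟨fun {K} _ => ?_⟩, ⟨fun {K} _ => ?_⟩, ?_⟩
  · let G := SheafOfModules.forget.{u} A ⋙ PresheafOfModules.toPresheaf A.obj
    have h1 : PreservesLimitsOfShape K (SheafOfModules.restrictScalars.{u} φ ⋙ G) :=
      inferInstanceAs (PreservesLimitsOfShape K
        (SheafOfModules.forget.{u} B ⋙ PresheafOfModules.toPresheaf B.obj))
    have h0 : PreservesLimitsOfShape K G := inferInstance
    have hr : G.ReflectsIsomorphisms := inferInstance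
    have h2 : ReflectsLimitsOfShape K G := reflectsLimitsOfShape_of_reflectsIsomorphisms
    exact preservesLimitsOfShape_of_reflects_of_preserves _ G
  · let G := SheafOfModules.toSheaf.{u} A
    have h1 : PreservesColimitsOfShape K (SheafOfModules.restrictScalars.{u} φ ⋙ G) :=
      inferInstanceAs (PreservesColimitsOfShape K (SheafOfModules.toSheaf.{u} B))
    have h0 : PreservesColimitsOfShape K G := inferInstance
    have h2 : ReflectsColimitsOfShape K G := reflectsColimitsOfShape_of_reflectsIsomorphisms
    exact preservesColimitsOfShape_of_reflects_of_preserves _ G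
  · have : (SheafOfModules.restrictScalars.{u} φ ⋙ SheafOfModules.toSheaf.{u} A).ReflectsIsomorphisms :=
      inferInstanceAs (SheafOfModules.toSheaf.{u} B).ReflectsIsomorphisms
    exact reflectsIsomorphisms_of_comp _ (SheafOfModules.toSheaf.{u} A)

end Groth.Agent.S6160
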