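import Groth.Statements.S6162
import Groth.Agent.S11918
import Groth.Agent.S0864
import Groth.Agent.Lib.CechAcyc5
import Groth.Agent.Lib.LeraySec65
import Groth.Agent.Lib.SSRepack65

set_option autoImplicit false
universe u
open CategoryTheory
open CohSite

namespace Groth.Agent.S6162

open CategoryTheory.Limits in
/-- Existence form of the Leray spectral sequence; abelian sheaves on small sites: let u : D -> C be a
continuous functor between small sites whose pullback on sheaves of sets is exact (a morphism of
topoi), u_* M = M o u the direct image and R^q u_* its right derived functors. For an abelian sheaf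
M on C and an object V of D there is an E_2 spectral sequence of abelian groups, bounded, with
E_2^{p,q} isomorphic to H^p(V, R^q u_* M) for p, q >= 0 and zero otherwise, together with abutment
data whose filtrations are finite on H^n(u(V), M) (n >= 0; zero for n < 0). The E_2 identifications
and the abutment isomorphisms are asserted to exist only; they are not pinned to the canonical maps
of the construction, so edge maps and low-degree exact sequences are not part of this statement. -/
theorem result {C D : Type u} [SmallCategory C] [SmallCategory D]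
    (J : GrothendieckTopology C) (K : GrothendieckTopology D) (u : D ⥤ C) [u.IsContinuous K J]
    [PreservesFiniteLimits (u.sheafPullback (Type u) K J)] (M : Sheaf J AddCommGrpCat.{u}) (V : D) :
    ∃ (E : E₂CohomologicalSpectralSequence AddCommGrpCat.{u})
      (a : SpSeq.Abutment E (fun n : ℤ =>
        if 0 ≤ n then AddCommGrpCat.of (CohSite.HU M n.toNat (u.obj V)) else AddCommGrpCat.of PUnit.{u + 1})),
      (∀ n, a.IsFinite n) ∧ SpSeq.IsBounded E ∧
      ∀ p q : ℤ, Nonempty ((E.page 2 le_rfl).X (p, q) ≅
        (if 0 ≤ p ∧ 0 ≤ q then AddCommGrpCat.of (CohSite.HU ((CohSite.Rpush J K u q.toNat).obj M) p.toNat V)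
         else AddCommGrpCat.of PUnit.{u + 1})) := by
  have hT : ∀ Q : Sheaf J AddCommGrpCat.{u}, Injective Q → ∀ q : ℕ, 0 < q →
      IsZero (((Groth.Agent.Lib.LeraySec65.sec K V).rightDerived q).obj ((push J K u).obj Q)) := by
    intro Q hQ q hq
    obtain ⟨p, rfl⟩ : ∃ p, q = p + 1 := ⟨q - 1, by omega⟩
    have hQ' : CohCx.IsTotallyAcyclic Q := fun K' p' =>
      subsingleton_of_forall_eq 0 (fun x => Abelian.Ext.eq_zero_of_injective x)
    have h1 := Groth.Agent.S0864.result _
      (Groth.Agent.Lib.CechAcyc5.isTotallyAcyclic_push J K u Q hQ') V p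
    obtain ⟨e⟩ := Groth.Agent.Lib.LeraySec65.nonempty_rightDerived_sec_iso K V
      ((push J K u).obj Q) (p + 1)
    exact (AddCommGrpCat.isZero_of_subsingleton _).of_iso e
  have hz : IsZero (AddCommGrpCat.of PUnit.{u + 1}) := AddCommGrpCat.isZero_of_subsingleton _
  exact Groth.Agent.Lib.SSRepack65.repack
    (X := fun n => ((push J K u ⋙ Groth.Agent.Lib.LeraySec65.sec K V).rightDerived n).obj M)
    (X' := fun n => AddCommGrpCat.of (CohSite.HU M n (u.obj V)))
    (Z := fun p q => ((Groth.Agent.Lib.LeraySec65.sec K V).rightDerived p).obj
      (((push J K u).rightDerived q).obj M))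
    (Z' := fun p q => AddCommGrpCat.of (CohSite.HU ((CohSite.Rpush J K u q).obj M) p V))
    _ _ hz hz
    (fun n => Groth.Agent.Lib.LeraySec65.nonempty_rightDerived_sec_iso J (u.obj V) M n)
    (fun p q => Groth.Agent.Lib.LeraySec65.nonempty_rightDerived_sec_iso K V _ p)
    (Groth.Agent.S11918.result (push J K u) (Groth.Agent.Lib.LeraySec65.sec K V) hT M)

end Groth.Agent.S6162
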