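import Groth.Statements.S6167
import Groth.Agent.Lib.ModSiteLocFactor2

set_option autoImplicit false
universe u
open CategoryTheory
open ModSite

namespace Groth.Agent.S6167

/-- Ringed site (C, O), small, with commutative structure sheaf: a morphism from an O-module of finite
presentation (Mathlib's notion: over some family of objects covering every object, a cokernel of a
map of finite free modules) to a flat O-module factors, locally on the site, through a finite free
module: for every object X there is a covering family (Y_i -> X) and for each i a factorisation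
F|Y_i -> (O|Y_i)^n -> H|Y_i of the restricted morphism. -/
theorem result {C : Type u} [SmallCategory C] {J : GrothendieckTopology C}
    (O : Sheaf J CommRingCat.{u}) (F H : ModSite.Mod O) [F.IsFinitePresentation] (hH : ModSite.IsFlat H)
    (φ : F ⟶ H) (X : C) :
    ∃ (ι : Type u) (Y : ι → C) (g : ∀ i, Y i ⟶ X), Sieve.ofArrows Y g ∈ J X ∧
      ∀ i, ∃ (n : ℕ) (a : (ModSite.restr O (Y i)).obj F ⟶ SheafOfModules.free (ULift.{u} (Fin n)))
        (b : SheafOfModules.free (ULift.{u} (Fin n)) ⟶ (ModSite.restr O (Y i)).obj H),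
        a ≫ b = (ModSite.restr O (Y i)).map φ := by
  classical
  obtain ⟨σ, hσ⟩ := SheafOfModules.IsFinitePresentation.exists_quasicoherentData F
  let Good : C → Prop := fun W =>
    ∃ (n : ℕ) (a : (ModSite.restr O W).obj F ⟶ SheafOfModules.free (ULift.{u} (Fin n)))
      (b : SheafOfModules.free (ULift.{u} (Fin n)) ⟶ (ModSite.restr O W).obj H),
      a ≫ b = (ModSite.restr O W).map φ
  have key : ∀ (W : C) (j : σ.I) (q : W ⟶ σ.X j),
      ∃ R ∈ J W, ∀ ⦃W' : C⦄ (k' : W' ⟶ W), R k' → Good W' := by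
    intro W j q
    have hfin : (σ.presentation j).IsFinite := hσ.isFinite_presentation j
    obtain ⟨R', hR', h⟩ := @Groth.Agent.Lib.ModSiteLocFactor.locFactor_presentation _ _ _
      (O.over (σ.X j)) ((ModSite.restr O (σ.X j)).obj F)
      ((ModSite.restr O (σ.X j)).obj H) (σ.presentation j) hfin
      ((ModSite.restr O (σ.X j)).map φ)
      (Groth.Agent.Lib.ModSiteFlat.isFlat_restr (σ.X j) H hH) (Over.mk q)
    refine ⟨Sieve.overEquiv (Over.mk q) R', (J.mem_over_iff R').1 hR', fun W' k' hk' => ?_⟩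
    rw [Sieve.overEquiv_iff] at hk'
    obtain ⟨l, a, b, hab⟩ := h _ hk'
    obtain ⟨a₀, b₀, h₀⟩ := Groth.Agent.Lib.ModSiteSliceSlice.good_of_slice O (σ.X j)
      (Over.mk (k' ≫ (Over.mk q).hom)) φ a b hab
    exact ⟨l, a₀, b₀, h₀⟩
  have key2 : ∀ ⦃W : C⦄ (h : W ⟶ X), Sieve.ofObjects σ.X X h →
      ∃ R ∈ J W, ∀ ⦃W' : C⦄ (k' : W' ⟶ W), R k' → Good W' := by
    intro W h hh
    obtain ⟨j, ⟨q⟩⟩ := (Sieve.mem_ofObjects_iff ..).mp hh
    exact key W j q
  choose Rf hRf1 hRf2 using key2
  refine ⟨{p : (Σ W : C, W ⟶ X) // Good p.1}, fun p => p.1.1, fun p => p.1.2, ?_, fun p => p.2⟩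
  refine J.superset_covering ?_ (J.bind_covering (σ.coversTop X) (fun W h hh => hRf1 h hh))
  rintro Z f ⟨W, k', h, hh, hk', rfl⟩
  exact Sieve.ofArrows_mk (fun p : {p : (Σ W : C, W ⟶ X) // Good p.1} => p.1.1) (fun p => p.1.2)
    ⟨⟨Z, k' ≫ h⟩, hRf2 h hh k' hk'⟩

end Groth.Agent.S6167
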