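import Groth.Statements.S6176
-- import your own Groth.Agent.* helpers here

set_option autoImplicit false
universe u
open CategoryTheory
open SGA4

namespace Groth.Agent.S6176

open CategoryTheory.Limits in
theorem preservesProducts_forget_of_subterminal {E : Type*} [Category E] [HasTerminal E] (U : E)
    [Mono (terminal.from U)] (I : Type*) [Nonempty I] [HasLimitsOfShape (Discrete I) E] :
    PreservesLimitsOfShape (Discrete I) (Over.forget U) := by
  constructor
  intro K
  have hsub : ∀ {X : E} (a b : X ⟶ U), a = b := by
    intro X a b
    exact (cancel_mono (terminal.from U)).mp (terminal.hom_ext _ _)
  let F := K ⋙ Over.forget U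
  let i0 : Discrete I := ⟨Classical.arbitrary I⟩
  let c : Cone K :=
    { pt := Over.mk (limit.π F i0 ≫ (K.obj i0).hom)
      π := Discrete.natTrans (fun i => Over.homMk (limit.π F i) (hsub _ _)) }
  have hc : IsLimit c :=
    { lift := fun s => Over.homMk (limit.lift F ((Over.forget U).mapCone s)) (hsub _ _)
      fac := by
        intro s j
        ext
        exact limit.lift_π ((Over.forget U).mapCone s) j
      uniq := by
        intro s m hm
        ext
        apply limit.hom_ext
        intro j
        have h1 : m.left ≫ limit.π F j = (s.π.app j).left :=
          congrArg (fun t => t.left) (hm j)
        exact h1.trans (limit.lift_π ((Over.forget U).mapCone s) j).symm }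
  refine preservesLimit_of_preserves_limit_cone hc ?_
  exact IsLimit.ofIsoLimit (limit.isLimit F) (Cone.ext (Iso.refl _) (by intro j; simp [c, F]))

open CategoryTheory.Limits in
/-- The clause on products (topos of sheaves of sets on a small site; j : E/U -> E the open embedding
defined by an open U, i.e. a subobject of the final object, so that j_! is the forgetful functor
from objects over U): j_! commutes with products indexed by a nonempty u-small set. (Commutation
with fibre products and cofiltered limits, the other clauses, holds for the forgetful functor of any
slice.) -/
theorem result {C : Type u} [SmallCategory C] (J : GrothendieckTopology C)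
    (U : Sheaf J (Type u)) (hU : SGA4.IsOpen U) (I : Type u) [Nonempty I] :
    PreservesLimitsOfShape (Discrete I) (Over.forget U) := by
  have : Mono (terminal.from U) := hU
  exact preservesProducts_forget_of_subterminal U I

end Groth.Agent.S6176
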