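import Groth.Statements.S6177
import Mathlib.CategoryTheory.Sites.CartesianClosed
import Mathlib.CategoryTheory.Monoidal.Closed.Types
import Mathlib.CategoryTheory.Limits.Shapes.Pullback.Iso

set_option autoImplicit false
universe u
open CategoryTheory
open SGA4

namespace Groth.Agent.S6177

open CategoryTheory.Limits MonoidalCategory CartesianMonoidalCategory

variable {C : Type u} [SmallCategory C] (J : GrothendieckTopology C)

/-- Two maps into a subterminal object agree. -/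
theorem eq_of_isOpen (U : Sheaf J (Type u)) (hU : SGA4.IsOpen U) {T : Sheaf J (Type u)}
    (a b : T ⟶ U) : a = b := by
  have : Mono (terminal.from U) := hU
  rw [← cancel_mono (terminal.from U)]
  exact Subsingleton.elim _ _

/-- Key fact, in terms of the chosen cartesian monoidal structure. -/
theorem snd_eq_tensor (U : Sheaf J (Type u)) (hU : SGA4.IsOpen U) (Y : Sheaf J (Type u)) :
    (snd U (pushout (prod.fst : U ⨯ Y ⟶ U) (prod.snd : U ⨯ Y ⟶ Y))) =
      fst U (pushout (prod.fst : U ⨯ Y ⟶ U) (prod.snd : U ⨯ Y ⟶ Y)) ≫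
        pushout.inl (prod.fst : U ⨯ Y ⟶ U) (prod.snd : U ⨯ Y ⟶ Y) := by
  have hpo := (IsPushout.of_hasPushout (prod.fst : U ⨯ Y ⟶ U) (prod.snd : U ⨯ Y ⟶ Y)).map
    (tensorLeft U)
  apply hpo.hom_ext
  · have e1 := whiskerLeft_snd U (pushout.inl (prod.fst : U ⨯ Y ⟶ U) (prod.snd : U ⨯ Y ⟶ Y))
    have e2 := whiskerLeft_fst_assoc U (pushout.inl (prod.fst : U ⨯ Y ⟶ U) (prod.snd : U ⨯ Y ⟶ Y))
      (pushout.inl (prod.fst : U ⨯ Y ⟶ U) (prod.snd : U ⨯ Y ⟶ Y))
    have e3 : snd U U = fst U U := eq_of_isOpen J U hU _ _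
    exact e1.trans ((congrArg (· ≫ pushout.inl _ _) e3).trans e2.symm)
  · have e1 := whiskerLeft_snd U (pushout.inr (prod.fst : U ⨯ Y ⟶ U) (prod.snd : U ⨯ Y ⟶ Y))
    have e2 := whiskerLeft_fst_assoc U (pushout.inr (prod.fst : U ⨯ Y ⟶ U) (prod.snd : U ⨯ Y ⟶ Y))
      (pushout.inl (prod.fst : U ⨯ Y ⟶ U) (prod.snd : U ⨯ Y ⟶ Y))
    have key : prod.lift (fst U Y) (snd U Y) ≫ (prod.snd ≫
          pushout.inr (prod.fst : U ⨯ Y ⟶ U) (prod.snd : U ⨯ Y ⟶ Y)) =
        prod.lift (fst U Y) (snd U Y) ≫ (prod.fst ≫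
          pushout.inl (prod.fst : U ⨯ Y ⟶ U) (prod.snd : U ⨯ Y ⟶ Y)) := by
      rw [pushout.condition]
    have e3 : snd U Y ≫ pushout.inr (prod.fst : U ⨯ Y ⟶ U) (prod.snd : U ⨯ Y ⟶ Y) =
        fst U Y ≫ pushout.inl (prod.fst : U ⨯ Y ⟶ U) (prod.snd : U ⨯ Y ⟶ Y) := by
      rw [← Category.assoc, ← Category.assoc, prod.lift_snd, prod.lift_fst] at key
      exact key
    exact e1.trans (e3.trans e2.symm)

/-- Key fact for the categorical product. -/
theorem snd_eq (U : Sheaf J (Type u)) (hU : SGA4.IsOpen U) (Y : Sheaf J (Type u)) :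
    (prod.snd : U ⨯ (pushout (prod.fst : U ⨯ Y ⟶ U) (prod.snd : U ⨯ Y ⟶ Y)) ⟶ _) =
      prod.fst ≫ pushout.inl (prod.fst : U ⨯ Y ⟶ U) (prod.snd : U ⨯ Y ⟶ Y) := by
  have h := snd_eq_tensor J U hU Y
  have h1 : (prod.snd : U ⨯ (pushout (prod.fst : U ⨯ Y ⟶ U) (prod.snd : U ⨯ Y ⟶ Y)) ⟶ _) =
      CartesianMonoidalCategory.lift prod.fst prod.snd ≫ snd U _ := (lift_snd _ _).symm
  have h2 : (prod.fst : U ⨯ (pushout (prod.fst : U ⨯ Y ⟶ U) (prod.snd : U ⨯ Y ⟶ Y)) ⟶ _) =
      CartesianMonoidalCategory.lift prod.fst prod.snd ≫ fst U _ := (lift_fst _ _).symm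
  rw [h1, h, ← Category.assoc, ← h2]

theorem closedCompl_pushout (U : Sheaf J (Type u)) (hU : SGA4.IsOpen U) (Y : Sheaf J (Type u)) :
    SGA4.closedCompl U (pushout (prod.fst : U ⨯ Y ⟶ U) (prod.snd : U ⨯ Y ⟶ Y)) := by
  change IsIso _
  refine ⟨prod.lift (𝟙 U) (pushout.inl _ _), ?_, prod.lift_fst _ _⟩
  apply Limits.prod.hom_ext
  · rw [Category.assoc, prod.lift_fst, Category.comp_id, Category.id_comp]
  · rw [Category.assoc, prod.lift_snd, Category.id_comp]
    exact (snd_eq J U hU Y).symm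

theorem closedCompl_of_iso (U : Sheaf J (Type u)) {X P : Sheaf J (Type u)} (e : X ≅ P)
    (h : SGA4.closedCompl U P) : SGA4.closedCompl U X := by
  change IsIso _
  have h' : IsIso (prod.fst : U ⨯ P ⟶ U) := h
  have : (prod.fst : U ⨯ X ⟶ U) = prod.map (𝟙 U) e.hom ≫ prod.fst := by
    rw [prod.map_fst, Category.comp_id]
  rw [this]
  infer_instance

open CategoryTheory.Limits in
/-- Topos of sheaves of sets on a small site; U an open, i.e. a subobject of the final object; X_CU the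
pushout of U <- U x X -> X along the two projections: (ii) <=> (iii): the canonical map X -> X_CU is
an isomorphism if and only if the projection U x X -> U is an isomorphism (X belongs to the closed
complement of U); and (i) => (iii): if X is isomorphic to Y_CU for some Y then X belongs to the
closed complement of U ((iii) => (i) with Y = X is then immediate from (ii)). -/
theorem result {C : Type u} [SmallCategory C] (J : GrothendieckTopology C)
    (U : Sheaf J (Type u)) (hU : SGA4.IsOpen U) (X : Sheaf J (Type u)) :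
    (SGA4.closedCompl U X ↔ IsIso (pushout.inr (prod.fst : U ⨯ X ⟶ U) (prod.snd : U ⨯ X ⟶ X))) ∧
    ((∃ Y : Sheaf J (Type u), Nonempty (X ≅ pushout (prod.fst : U ⨯ Y ⟶ U) (prod.snd : U ⨯ Y ⟶ Y))) →
      SGA4.closedCompl U X) := by
  refine ⟨⟨fun h => ?_, fun h => ?_⟩, ?_⟩
  · have : IsIso (prod.fst : U ⨯ X ⟶ U) := h
    infer_instance
  · exact closedCompl_of_iso J U (asIso (pushout.inr (prod.fst : U ⨯ X ⟶ U) (prod.snd : U ⨯ X ⟶ X)))
      (closedCompl_pushout J U hU X)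
  · rintro ⟨Y, ⟨e⟩⟩
    exact closedCompl_of_iso J U e (closedCompl_pushout J U hU Y)

end Groth.Agent.S6177
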