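import Groth.Statements.S6239

set_option autoImplicit false
universe u
open CategoryTheory CategoryTheory.Limits AlgebraicGeometry
attribute [local instance] HasDerivedCategory.standard
open KSix

namespace Groth.Agent.S6239

lemma hasTorAmplitudeIn_mono {A : Type u} [CommRing A] {a b a' b' : ℤ} (ha : a' ≤ a) (hb : b ≤ b')
    {K : Dual.D A} (h : DRing.HasTorAmplitudeIn A a b K) : DRing.HasTorAmplitudeIn A a' b' K := by
  obtain ⟨E, hE, hfl, hiso⟩ := h
  refine ⟨E, ?_, hfl, hiso⟩
  intro i hi
  apply hE i
  rcases hi with hi | hi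
  · left; omega
  · right; omega

/-- Let f : X ⟶ Y be a morphism with X quasi-compact and F a cochain complex of O_X-modules which is
perfect relative to f (pseudo-coherent relative to f in chart form, and locally on X of finite
stalkwise tor amplitude over the local rings of Y). Then F has finite perfect amplitude relative to
f: one interval [a, b] works at every point of X. -/
theorem result {X Y : Scheme.{u}} [CompactSpace X] (f : X ⟶ Y)
    (F : CochainComplex X.Modules ℤ) (hF : DerSch.IsPerfectRel f F) :
    DerSch.HasFinitePerfAmplitudeRel f F := by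
  obtain ⟨hpc, hloc⟩ := hF
  choose V a b hxV hV using hloc
  obtain ⟨t, ht⟩ := isCompact_univ.elim_finite_subcover (fun x : X => ((V x : X.Opens) : Set X))
    (fun x => (V x).isOpen) (fun x _ => Set.mem_iUnion.mpr ⟨x, hxV x⟩)
  obtain ⟨B, hB⟩ := Finset.exists_le (t.image b)
  obtain ⟨A, hA⟩ := Finset.exists_le (t.image (fun x => - a x))
  refine ⟨-A, B, hpc, ?_⟩
  intro x
  have hx := ht (Set.mem_univ x)
  simp only [Set.mem_iUnion] at hx
  obtain ⟨y, hyt, hxy⟩ := hx
  have h1 := hV y x hxy
  have ha : - a y ≤ A := hA _ (Finset.mem_image_of_mem (fun x => - a x) hyt)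
  have hb : b y ≤ B := hB _ (Finset.mem_image_of_mem b hyt)
  exact hasTorAmplitudeIn_mono (by omega) hb h1

end Groth.Agent.S6239
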