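import Groth.Statements.S6263
import Mathlib.RingTheory.Flat.TorsionFree
import Mathlib.RingTheory.Support
import Mathlib.RingTheory.Flat.Stability
import Mathlib.LinearAlgebra.TensorProduct.Quotient

set_option autoImplicit false
universe u
open CAlg

namespace Groth.Agent.S6263

section helpers
open TensorProduct

lemma one_tmul_eq_zero_iff {R : Type u} [CommRing R] {M : Type u} [AddCommGroup M] [Module R M]
    (I : Ideal R) (m : M) :
    (1 : R ⧸ I) ⊗ₜ[R] m = 0 ↔ m ∈ (I • ⊤ : Submodule R M) := by
  rw [← (quotTensorEquivQuotSMul M I).map_eq_zero_iff, quotTensorEquivQuotSMul_mk_one_tmul,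
    Submodule.Quotient.mk_eq_zero]

/-- On a flat module, an element outside a prime `p` is a nonzerodivisor modulo `p`. -/
lemma mem_smul_top_of_smul_mem {R : Type u} [CommRing R] {M : Type u} [AddCommGroup M]
    [Module R M] [Module.Flat R M] (p : Ideal R) [p.IsPrime] (r : R) (hr : r ∉ p) (m : M)
    (h : r • m ∈ (p • ⊤ : Submodule R M)) : m ∈ (p • ⊤ : Submodule R M) := by
  rw [← one_tmul_eq_zero_iff] at h ⊢
  have hflat : Module.Flat (R ⧸ p) ((R ⧸ p) ⊗[R] M) := inferInstance
  have hr' : Ideal.Quotient.mk p r ∈ nonZeroDivisors (R ⧸ p) := by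
    apply mem_nonZeroDivisors_of_ne_zero
    rwa [Ne, Ideal.Quotient.eq_zero_iff_mem]
  have hreg : IsSMulRegular ((R ⧸ p) ⊗[R] M) (Ideal.Quotient.mk p r) :=
    Module.Flat.isSMulRegular_of_nonZeroDivisors (M := (R ⧸ p) ⊗[R] M) hr'
  apply hreg
  show Ideal.Quotient.mk p r • ((1 : R ⧸ p) ⊗ₜ[R] m) = Ideal.Quotient.mk p r • (0 : (R ⧸ p) ⊗[R] M)
  rw [smul_zero, TensorProduct.smul_tmul', smul_eq_mul, mul_one]
  have : (Ideal.Quotient.mk p r) = r • (1 : R ⧸ p) := by
    rw [← Ideal.Quotient.algebraMap_eq, Algebra.algebraMap_eq_smul_one]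
  rw [this, TensorProduct.smul_tmul]
  exact h

end helpers

/-- For a ring map R → S and a finite S-module N which is flat as an R-module, generalizations lift
along the map from the support of N (a subset of Spec S) to Spec R: if p ≤ p' are primes of R and q'
is a prime of S in the support of N whose inverse image in R is p', then some prime q ≤ q' of S lies
in the support of N and has inverse image p. -/
theorem result {R S : Type u} [CommRing R] [CommRing S] [Algebra R S] (N : Type u) [AddCommGroup N] [Module S N] [Module R N] [IsScalarTower R S N] [Module.Finite S N] [Module.Flat R N] (p p' : Ideal R) [p.IsPrime] [p'.IsPrime] (hle : p ≤ p') (q' : PrimeSpectrum S) (hq' : q' ∈ Module.support S N) (hover : q'.asIdeal.under R = p') : ∃ q : PrimeSpectrum S, q ≤ q' ∧ q ∈ Module.support S N ∧ q.asIdeal.under R = p := by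
  classical
  set P : Ideal S := p.map (algebraMap R S) with hP
  have hPq' : P ≤ q'.asIdeal := by
    rw [hP, Ideal.map_le_iff_le_comap]
    exact hle.trans hover.symm.le
  have hcoe : ∀ m : N, m ∈ (P • ⊤ : Submodule S N) ↔ m ∈ (p • ⊤ : Submodule R N) := by
    intro m
    have h1 := Ideal.smul_restrictScalars (R := R) (S := S) p (⊤ : Submodule S N)
    rw [Submodule.restrictScalars_top] at h1
    rw [← h1, Submodule.restrictScalars_mem]
  have hq'bar : q' ∈ Module.support S (N ⧸ (P • ⊤ : Submodule S N)) := by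
    rw [Module.support_quotient]
    exact ⟨hq', hPq'⟩
  obtain ⟨x, hx⟩ := Module.mem_support_iff'.mp hq'bar
  obtain ⟨n, rfl⟩ := Submodule.mkQ_surjective _ x
  let W : Submonoid S := (Algebra.algebraMapSubmonoid S p.primeCompl) ⊔ q'.asIdeal.primeCompl
  let Ann : Ideal S := (Submodule.span S {(P • ⊤ : Submodule S N).mkQ n}).annihilator
  have hdisj : Disjoint (Ann : Set S) (W : Set S) := by
    rw [Set.disjoint_left]
    intro w hwA hwW
    obtain ⟨a, ha, b, hb, rfl⟩ := Submonoid.mem_sup.mp hwW
    obtain ⟨r, hr, rfl⟩ := ha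
    have h0 : (algebraMap R S r * b) • (P • ⊤ : Submodule S N).mkQ n = 0 :=
      (Submodule.mem_annihilator_span_singleton _ _).mp hwA
    rw [← map_smul, Submodule.mkQ_apply, Submodule.Quotient.mk_eq_zero, mul_smul,
      algebraMap_smul, hcoe] at h0
    have h1 := mem_smul_top_of_smul_mem p r hr (b • n) h0
    rw [← hcoe] at h1
    apply hx b hb
    rw [← map_smul, Submodule.mkQ_apply, Submodule.Quotient.mk_eq_zero]
    exact h1
  obtain ⟨q, hqprime, hAq, hqW⟩ := Ideal.exists_le_prime_disjoint Ann W hdisj
  have hqq' : q ≤ q'.asIdeal := by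
    intro y hy
    by_contra hyq'
    exact Set.disjoint_left.mp hqW hy (Submonoid.mem_sup_right hyq')
  have hPq : P ≤ q := by
    refine le_trans ?_ hAq
    intro y hy
    rw [Submodule.mem_annihilator_span_singleton, ← map_smul, Submodule.mkQ_apply,
      Submodule.Quotient.mk_eq_zero]
    exact Submodule.smul_mem_smul hy Submodule.mem_top
  refine ⟨⟨q, hqprime⟩, hqq', ?_, ?_⟩
  · apply Module.support_subset_of_surjective _ (Submodule.mkQ_surjective (P • ⊤ : Submodule S N))
    rw [Module.mem_support_iff_exists_annihilator]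
    exact ⟨_, hAq⟩
  · apply le_antisymm
    · intro r hr
      by_contra hrp
      exact Set.disjoint_left.mp hqW hr (Submonoid.mem_sup_left ⟨r, hrp, rfl⟩)
    · rw [← Ideal.map_le_iff_le_comap]
      exact hPq

end Groth.Agent.S6263
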