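import Groth.Statements.S6265
import Mathlib.RingTheory.Localization.Ideal
import Mathlib.RingTheory.Localization.AtPrime.Basic
import Mathlib.RingTheory.Ideal.GoingDown
-- import your own Groth.Agent.* helpers here

set_option autoImplicit false
universe u
open CAlg

namespace Groth.Agent.S6265

/-- If every prime of `S` whose contraction to `R` lies in `p` is contained in `q`, then `S_p` is
the localization of `S` at `q`. -/
theorem isLocalization_atPrime_of_forall_le {R S : Type u} [CommRing R] [CommRing S] [Algebra R S]
    (p : Ideal R) [p.IsPrime] (q : Ideal S) [q.IsPrime] [q.LiesOver p]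
    (h : ∀ Q : Ideal S, Q.IsPrime → Q.under R ≤ p → Q ≤ q) :
    IsLocalization.AtPrime (Localization (Algebra.algebraMapSubmonoid S p.primeCompl)) q := by
  set M := Algebra.algebraMapSubmonoid S p.primeCompl with hM
  set T := Localization M with hT
  have hle : M ≤ q.primeCompl := by
    rintro _ ⟨r, hr, rfl⟩
    intro hmem
    apply hr
    rw [Ideal.LiesOver.over (p := p) (P := q)]
    exact hmem
  refine IsLocalization.of_le M q.primeCompl hle ?_
  intro t ht
  by_contra hunit
  obtain ⟨𝔪, h𝔪, ht𝔪⟩ := exists_max_ideal_of_mem_nonunits hunit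
  have hprime : 𝔪.IsPrime := h𝔪.isPrime
  set Q : Ideal S := 𝔪.comap (algebraMap S T) with hQ
  have hQprime : Q.IsPrime := Ideal.comap_isPrime _ _
  have hdisj : Disjoint (M : Set S) (Q : Set S) :=
    ((IsLocalization.isPrime_iff_isPrime_disjoint M T 𝔪).mp hprime).2
  have hQp : Q.under R ≤ p := by
    intro r hr
    by_contra hrp
    exact Set.disjoint_left.mp hdisj ⟨r, hrp, rfl⟩ hr
  exact ht (h Q hQprime hQp ht𝔪)

/-- Let R → S be a ring map with the going-down property such that over every prime of R lies at most
one prime of S, and let p be a prime of R and q a prime of S above it. Then the localization S_p of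
S at the image of R - p is a localization of S at q, i.e. S_p = S_q. -/
theorem result {R S : Type u} [CommRing R] [CommRing S] [Algebra R S] [Algebra.HasGoingDown R S] (hinj : ∀ q₁ q₂ : Ideal S, q₁.IsPrime → q₂.IsPrime → q₁.under R = q₂.under R → q₁ = q₂) (p : Ideal R) [p.IsPrime] (q : Ideal S) [q.IsPrime] [q.LiesOver p] : IsLocalization.AtPrime (Localization (Algebra.algebraMapSubmonoid S p.primeCompl)) q := by
  apply isLocalization_atPrime_of_forall_le
  intro Q hQ hQp
  have hQR : (Q.under R).IsPrime := Ideal.IsPrime.under R Q
  obtain ⟨P, hPq, hPprime, hPover⟩ :=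
    Ideal.exists_ideal_le_liesOver_of_le (p := Q.under R) (q := p) q hQp
  have := hinj P Q hPprime hQ (hPover.over).symm
  rw [← this]
  exact hPq

end Groth.Agent.S6265
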