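import Groth.Statements.S6267
-- import your own Groth.Agent.* helpers here

set_option autoImplicit false
universe u
open CAlg

namespace Groth.Agent.S6267

section helpers
open TensorProduct

variable {R : Type u} [CommRing R] {M M' : Type u} [AddCommGroup M] [Module R M]
  [AddCommGroup M'] [Module R M']

lemma tmul_one_eq_zero_iff (I : Ideal R) (m : M) :
    m ⊗ₜ[R] (1 : R ⧸ I) = 0 ↔ m ∈ (I • ⊤ : Submodule R M) := by
  rw [← (tensorQuotEquivQuotSMul M I).map_eq_zero_iff]
  have : (tensorQuotEquivQuotSMul M I) (m ⊗ₜ[R] (1 : R ⧸ I)) = Submodule.Quotient.mk m := by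
    rw [← map_one (Ideal.Quotient.mk I), tensorQuotEquivQuotSMul_tmul_mk, one_smul]
  rw [this, Submodule.Quotient.mk_eq_zero]

lemma exists_tmul_one (I : Ideal R) (t : M ⊗[R] (R ⧸ I)) :
    ∃ m : M, t = m ⊗ₜ[R] (1 : R ⧸ I) := by
  induction t with
  | zero => exact ⟨0, by simp⟩
  | tmul m r =>
    obtain ⟨r, rfl⟩ := Ideal.Quotient.mk_surjective r
    refine ⟨r • m, ?_⟩
    rw [smul_tmul]
    congr 1
    rw [← Ideal.Quotient.algebraMap_eq, Algebra.algebraMap_eq_smul_one]
  | add x y hx hy =>
    obtain ⟨a, rfl⟩ := hx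
    obtain ⟨b, rfl⟩ := hy
    exact ⟨a + b, by rw [add_tmul]⟩

lemma exists_fg_le_mem_smul_top (I : Ideal R) (x : M) (hx : x ∈ (I • ⊤ : Submodule R M)) :
    ∃ I' : Ideal R, I'.FG ∧ I' ≤ I ∧ x ∈ (I' • ⊤ : Submodule R M) := by
  induction hx using Submodule.smul_induction_on' with
  | smul a ha m _ =>
    exact ⟨Ideal.span {a}, ⟨{a}, by simp⟩, (Ideal.span_singleton_le_iff_mem _).mpr ha,
      Submodule.smul_mem_smul (Ideal.mem_span_singleton_self a) trivial⟩
  | add x _ y _ hx hy =>
    obtain ⟨I₁, h₁, l₁, m₁⟩ := hx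
    obtain ⟨I₂, h₂, l₂, m₂⟩ := hy
    exact ⟨I₁ ⊔ I₂, Submodule.FG.sup h₁ h₂, sup_le l₁ l₂,
      Submodule.add_mem _ (Submodule.smul_mono_left le_sup_left m₁)
        (Submodule.smul_mono_left le_sup_right m₂)⟩

lemma injective_rTensor_quotient (f : M →ₗ[R] M')
    (h : ∀ I : Ideal R, I.FG → Function.Injective (f.rTensor (R ⧸ I))) (I : Ideal R) :
    Function.Injective (f.rTensor (R ⧸ I)) := by
  rw [injective_iff_map_eq_zero]
  intro t ht
  obtain ⟨m, rfl⟩ := exists_tmul_one I t
  rw [LinearMap.rTensor_tmul, tmul_one_eq_zero_iff] at ht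
  obtain ⟨I', hfg, hle, hm⟩ := exists_fg_le_mem_smul_top I _ ht
  have h0 : m ⊗ₜ[R] (1 : R ⧸ I') = 0 := by
    apply h I' hfg
    rw [map_zero, LinearMap.rTensor_tmul, tmul_one_eq_zero_iff]
    exact hm
  rw [tmul_one_eq_zero_iff] at h0 ⊢
  exact Submodule.smul_mono_left hle h0

lemma rTensor_injective_of_equiv (f : M →ₗ[R] M') {Q₁ Q₂ : Type u} [AddCommGroup Q₁] [Module R Q₁]
    [AddCommGroup Q₂] [Module R Q₂] (e : Q₁ ≃ₗ[R] Q₂) (h : Function.Injective (f.rTensor Q₁)) :
    Function.Injective (f.rTensor Q₂) := by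
  have h1 : f.rTensor Q₂ = (e.toLinearMap.lTensor M') ∘ₗ (f.rTensor Q₁) ∘ₗ
      (e.symm.toLinearMap.lTensor M) := by
    ext m q
    simp
  rw [h1]
  exact ((LinearEquiv.lTensor M' e).injective.comp h).comp (LinearEquiv.lTensor M e.symm).injective

lemma comm_sq (f : M →ₗ[R] M') {A B : Type u} [AddCommGroup A] [Module R A] [AddCommGroup B]
    [Module R B] (h : A →ₗ[R] B) (x : M ⊗[R] A) :
    (f.rTensor B) (h.lTensor M x) = h.lTensor M' (f.rTensor A x) := by
  rw [← LinearMap.comp_apply, ← LinearMap.comp_apply, LinearMap.rTensor_comp_lTensor,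
    LinearMap.lTensor_comp_rTensor]

lemma injective_rTensor_of_fin [Module.Flat R M'] (f : M →ₗ[R] M')
    (h : ∀ I : Ideal R, Function.Injective (f.rTensor (R ⧸ I))) :
    ∀ (n : ℕ) (Q : Type u) [AddCommGroup Q] [Module R Q] (v : Fin n → Q),
      Submodule.span R (Set.range v) = ⊤ → Function.Injective (f.rTensor Q) := by
  intro n
  induction n with
  | zero =>
    intro Q _ _ v hv
    have hQ : Subsingleton Q := by
      have : Set.range v = ∅ := Set.range_eq_empty v
      rw [this, Submodule.span_empty] at hv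
      exact (Submodule.subsingleton_iff R).mp (subsingleton_of_bot_eq_top hv)
    have : Subsingleton (M ⊗[R] Q) := inferInstance
    exact Function.injective_of_subsingleton _
  | succ n ih =>
    intro Q _ _ v hv
    let Q' : Submodule R Q := Submodule.span R {v 0}
    have h1 : Function.Injective (f.rTensor Q') := by
      let g : R →ₗ[R] Q := LinearMap.toSpanSingleton R Q (v 0)
      have hg : LinearMap.range g = Q' := LinearMap.range_toSpanSingleton (v 0)
      let e : (R ⧸ LinearMap.ker g) ≃ₗ[R] Q' :=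
        (LinearMap.quotKerEquivRange g).trans (LinearEquiv.ofEq _ _ hg)
      exact rTensor_injective_of_equiv f e (h _)
    have h2 : Function.Injective (f.rTensor (Q ⧸ Q')) := by
      apply ih (Q ⧸ Q') (fun i => Q'.mkQ (v i.succ))
      rw [eq_top_iff]
      rintro x -
      obtain ⟨q, rfl⟩ := Submodule.mkQ_surjective Q' x
      have hq : q ∈ Submodule.span R (Set.range v) := hv ▸ Submodule.mem_top
      have hle : Submodule.span R (Set.range v) ≤
          (Submodule.span R (Set.range fun i : Fin n => Q'.mkQ (v i.succ))).comap Q'.mkQ := by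
        rw [Submodule.span_le]
        rintro _ ⟨i, rfl⟩
        refine Fin.cases ?_ (fun j => ?_) i
        · have : Q'.mkQ (v 0) = 0 := by
            rw [Submodule.mkQ_apply, Submodule.Quotient.mk_eq_zero]
            exact Submodule.mem_span_singleton_self _
          simp only [Submodule.comap_coe, Set.mem_preimage, SetLike.mem_coe]
          rw [this]
          exact Submodule.zero_mem _
        · exact Submodule.subset_span ⟨j, rfl⟩
      exact hle hq
    rw [injective_iff_map_eq_zero]
    intro x hx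
    have hx1 : Q'.mkQ.lTensor M x = 0 := by
      apply h2
      rw [map_zero, comm_sq, hx, map_zero]
    obtain ⟨x', rfl⟩ := (lTensor_exact M (LinearMap.exact_subtype_mkQ Q')
      (Submodule.mkQ_surjective Q') _).mp hx1
    have hx2 : f.rTensor Q' x' = 0 := by
      apply Module.Flat.lTensor_preserves_injective_linearMap (M := M') _ Q'.injective_subtype
      rw [← comm_sq, hx, map_zero]
    rw [h1 (hx2.trans (map_zero _).symm), map_zero]

theorem exists_fg_le_eq_lTensor_subtype {N : Type u} [AddCommGroup N] [Module R N]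
    (x : M ⊗[R] N) :
    ∃ (J : Submodule R N) (_ : J.FG) (y : M ⊗[R] J), x = LinearMap.lTensor M J.subtype y := by
  induction x with
  | zero => exact ⟨⊥, Submodule.fg_bot, 0, (map_zero _).symm⟩
  | tmul m i =>
    exact ⟨R ∙ i, Submodule.fg_span_singleton i,
      m ⊗ₜ[R] ⟨i, Submodule.mem_span_singleton_self _⟩, rfl⟩
  | add x₁ x₂ ihx₁ ihx₂ =>
    obtain ⟨J₁, fg₁, y₁, rfl⟩ := ihx₁
    obtain ⟨J₂, fg₂, y₂, rfl⟩ := ihx₂
    refine ⟨J₁ ⊔ J₂, fg₁.sup fg₂,
      LinearMap.lTensor M (J₁.inclusion le_sup_left) y₁ +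
        LinearMap.lTensor M (J₂.inclusion le_sup_right) y₂, ?_⟩
    rw [map_add, ← LinearMap.lTensor_comp_apply, ← LinearMap.lTensor_comp_apply]
    rfl

end helpers

/-- Let R be a ring and f : M → M' a map of R-modules with M' flat. Then f is universally injective
exactly when, for each finitely generated ideal I of R, the induced map M ⊗ R/I → M' ⊗ R/I (that is,
M/IM → M'/IM') is injective. -/
theorem result {R : Type u} [CommRing R] {M M' : Type u} [AddCommGroup M] [Module R M] [AddCommGroup M'] [Module R M'] [Module.Flat R M'] (f : M →ₗ[R] M') : CAlgX.UniversallyInjective R f ↔ ∀ I : Ideal R, I.FG → Function.Injective (f.rTensor (R ⧸ I)) := by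
  constructor
  · intro h I _
    exact h (R ⧸ I)
  · intro h
    have hA := injective_rTensor_quotient f h
    intro Q _ _
    rw [injective_iff_map_eq_zero]
    intro t ht
    obtain ⟨J, hJ, y, rfl⟩ := exists_fg_le_eq_lTensor_subtype t
    have hfin : Module.Finite R J := Module.Finite.iff_fg.2 hJ
    obtain ⟨n, v, hv⟩ := Module.Finite.exists_fin (R := R) (M := J)
    have hinj := injective_rTensor_of_fin f hA n J v hv
    have hy : f.rTensor J y = 0 := by
      apply Module.Flat.lTensor_preserves_injective_linearMap (M := M') _ J.injective_subtype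
      rw [← comm_sq, ht, map_zero]
    rw [hinj (hy.trans (map_zero _).symm), map_zero]

end Groth.Agent.S6267
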