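import Groth.Statements.S6271
import Groth.Agent.Lib.LGRingIso
import Mathlib.RingTheory.Idempotents
import Mathlib.RingTheory.Noetherian.Nilpotent

set_option autoImplicit false
universe u
open scoped TensorProduct
open CAlg

namespace Groth.Agent.S6271

theorem isNilpotent_of_entries_mem {R : Type u} [CommRing R] (I : Ideal R)
    (hI : ∀ x ∈ I, IsNilpotent x) {n : ℕ} (X : Matrix (Fin n) (Fin n) R)
    (hX : ∀ i j, X i j ∈ I) : IsNilpotent X := by
  classical
  let J : Ideal R := Ideal.span (Set.range (fun p : Fin n × Fin n => X p.1 p.2))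
  have hJfg : J.FG :=
    ⟨(Set.finite_range (fun p : Fin n × Fin n => X p.1 p.2)).toFinset, by
      rw [Set.Finite.coe_toFinset]⟩
  have hJle : J ≤ nilradical R := by
    rw [Ideal.span_le]
    rintro _ ⟨p, rfl⟩
    exact hI _ (hX p.1 p.2)
  obtain ⟨k, hk⟩ := hJfg.isNilpotent_iff_le_nilradical.mpr hJle
  have hmem : ∀ (k : ℕ) (i j : Fin n), (X ^ k) i j ∈ J ^ k := by
    intro k
    induction k with
    | zero =>
      intro i j
      simp
    | succ k ih =>
      intro i j
      have h1 : X ^ (k + 1) = X ^ k * X := pow_succ X k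
      rw [h1, Matrix.mul_apply, pow_succ J k]
      refine Ideal.sum_mem _ fun l _ => Ideal.mul_mem_mul (ih i l) ?_
      exact Ideal.subset_span ⟨(l, j), rfl⟩
  refine ⟨k, ?_⟩
  ext i j
  have := hmem k i j
  rw [hk] at this
  simpa using this

/-- Let R be a ring, I ⊆ R a locally nilpotent ideal (every element of I is nilpotent) and P̄ a finite
projective R/I-module. Then there is a finite projective R-module P such that P/IP (that is, R/I ⊗
P) is isomorphic to P̄ as an R/I-module. -/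
theorem result {R : Type u} [CommRing R] (I : Ideal R) (hI : ∀ x ∈ I, IsNilpotent x) (Pb : Type u) [AddCommGroup Pb] [Module (R ⧸ I) Pb] [Module.Projective (R ⧸ I) Pb] [Module.Finite (R ⧸ I) Pb] : ∃ (P : Type u) (_ : AddCommGroup P) (_ : Module R P), Module.Projective R P ∧ Module.Finite R P ∧ Nonempty (((R ⧸ I) ⊗[R] P) ≃ₗ[R ⧸ I] Pb) := by
  classical
  obtain ⟨n, πb, ιb, -, -, hπι⟩ := Module.Finite.exists_comp_eq_id_of_projective (R ⧸ I) Pb
  have hπι' : ∀ x, πb (ιb x) = x := fun x => LinearMap.congr_fun hπι x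
  let Eb : Matrix (Fin n) (Fin n) (R ⧸ I) := LinearMap.toMatrix' (ιb ∘ₗ πb)
  have hEb : IsIdempotentElem Eb := by
    change Eb * Eb = Eb
    rw [← LinearMap.toMatrix'_comp]
    congr 1
    apply LinearMap.ext
    intro x
    simp [hπι']
  let f : Matrix (Fin n) (Fin n) R →+* Matrix (Fin n) (Fin n) (R ⧸ I) :=
    (Ideal.Quotient.mk I).mapMatrix
  have hker : ∀ X ∈ RingHom.ker f, IsNilpotent X := by
    intro X hX
    apply isNilpotent_of_entries_mem I hI
    intro i j
    rw [RingHom.mem_ker] at hX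
    have := congrFun (congrFun hX i) j
    simpa [f, Ideal.Quotient.eq_zero_iff_mem] using this
  have hrange : Eb ∈ f.range := by
    refine ⟨Matrix.of fun i j => Function.surjInv Ideal.Quotient.mk_surjective (Eb i j), ?_⟩
    ext i j
    simp [f, Function.surjInv_eq]
  obtain ⟨E, hE, hfE⟩ := exists_isIdempotentElem_eq_of_ker_isNilpotent f hker Eb hrange hEb
  -- the module
  let P : Submodule R (Fin n → R) := LinearMap.range (Matrix.toLin' E)
  let πP : (Fin n → R) →ₗ[R] P := (Matrix.toLin' E).rangeRestrict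
  let ιP : P →ₗ[R] (Fin n → R) := P.subtype
  have hP : ∀ x : P, πP (ιP x) = x := by
    rintro ⟨x, y, rfl⟩
    apply Subtype.ext
    change Matrix.toLin' E (Matrix.toLin' E y) = Matrix.toLin' E y
    rw [← LinearMap.comp_apply, ← Matrix.toLin'_mul, hE.eq]
  have hιπ : ιP ∘ₗ πP = Matrix.toLin' E := by
    apply LinearMap.ext
    intro x
    rfl
  refine ⟨P, inferInstance, inferInstance, ?_, ?_, ?_⟩
  · exact Module.Projective.of_split ιP πP (LinearMap.ext hP)
  · exact Module.Finite.range _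
  · -- the isomorphism
    have hmat : LinearMap.toMatrix' (Groth.Agent.Lib.LGRingIso.bcι (R ⧸ I) ιP ∘ₗ
        Groth.Agent.Lib.LGRingIso.bcπ (R ⧸ I) πP) = LinearMap.toMatrix' (ιb ∘ₗ πb) := by
      rw [Groth.Agent.Lib.LGRingIso.toMatrix'_bc, hιπ, LinearMap.toMatrix'_toLin']
      exact hfE
    have hcomp : Groth.Agent.Lib.LGRingIso.bcι (R ⧸ I) ιP ∘ₗ
        Groth.Agent.Lib.LGRingIso.bcπ (R ⧸ I) πP = ιb ∘ₗ πb :=
      LinearMap.toMatrix'.injective hmat
    have hcomp' : ∀ x, Groth.Agent.Lib.LGRingIso.bcι (R ⧸ I) ιP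
        (Groth.Agent.Lib.LGRingIso.bcπ (R ⧸ I) πP x) = ιb (πb x) :=
      fun x => LinearMap.congr_fun hcomp x
    have hbc := Groth.Agent.Lib.LGRingIso.bcπ_bcι (R ⧸ I) πP ιP hP
    refine ⟨LinearEquiv.ofLinearMap
      (πb ∘ₗ Groth.Agent.Lib.LGRingIso.bcι (R ⧸ I) ιP)
      (Groth.Agent.Lib.LGRingIso.bcπ (R ⧸ I) πP ∘ₗ ιb) ?_ ?_⟩
    · apply LinearMap.ext
      intro y
      simp only [LinearMap.comp_apply, LinearMap.id_apply]
      rw [hcomp', hπι', hπι']
    · apply LinearMap.ext
      intro y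
      simp only [LinearMap.comp_apply, LinearMap.id_apply]
      rw [← hcomp', hbc, hbc]

end Groth.Agent.S6271
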