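import Groth.Statements.S6273
import Mathlib.RingTheory.Ideal.MinimalPrime.Localization
import Mathlib.RingTheory.Localization.Ideal
-- import your own Groth.Agent.* helpers here

set_option autoImplicit false
universe u
open CAlg

namespace Groth.Agent.S6273

/-- Key step: under the closedness hypothesis every element of `S` becomes invertible modulo the
kernel of the localization map. -/
theorem exists_mul_eq_one {R : Type u} [CommRing R] (S : Submonoid R) (A : Type u) [CommRing A]
    [Algebra R A] [IsLocalization S A]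
    (hcl : IsClosed (Set.range (PrimeSpectrum.comap (algebraMap R A)))) (s : R) (hs : s ∈ S) :
    ∃ r : R, algebraMap R A r * algebraMap R A s = 1 := by
  set f := algebraMap R A with hf
  by_contra hcon
  have hne : Ideal.span {s} ⊔ RingHom.ker f ≠ ⊤ := by
    intro htop
    apply hcon
    have h1 : (1 : R) ∈ Ideal.span {s} ⊔ RingHom.ker f := htop ▸ Submodule.mem_top
    obtain ⟨a, ha, k, hk, hak⟩ := Submodule.mem_sup.mp h1
    obtain ⟨r, rfl⟩ := Ideal.mem_span_singleton'.mp ha
    refine ⟨r, ?_⟩
    have := congrArg f hak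
    rw [map_add, map_mul, (RingHom.mem_ker).mp hk, add_zero, map_one] at this
    exact this
  obtain ⟨m, hm, hle⟩ := Ideal.exists_le_maximal _ hne
  have hmp : m.IsPrime := hm.isPrime
  have hker : RingHom.ker f ≤ m := le_sup_right.trans hle
  have hsm : s ∈ m := hle (Ideal.mem_sup_left (Ideal.subset_span rfl))
  have hker' : (⊥ : Ideal A).comap f ≤ m := by
    rwa [← RingHom.ker_eq_comap_bot]
  obtain ⟨p, hp, hpm⟩ := Ideal.exists_minimalPrimes_le hker'
  obtain ⟨p', hp', -, hpp'⟩ := Ideal.exists_comap_eq_of_mem_minimalPrimes f p hp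
  have hpprime : p.IsPrime := hp.isPrime
  have hprange : (⟨p, hpprime⟩ : PrimeSpectrum R) ∈ Set.range (PrimeSpectrum.comap f) := by
    refine ⟨⟨p', hp'⟩, ?_⟩
    ext1
    exact hpp'
  have hspec : (⟨p, hpprime⟩ : PrimeSpectrum R) ⤳ ⟨m, hmp⟩ := by
    rw [← PrimeSpectrum.le_iff_specializes]
    exact hpm
  have hmrange : (⟨m, hmp⟩ : PrimeSpectrum R) ∈ Set.range (PrimeSpectrum.comap f) :=
    hcl.stableUnderSpecialization hspec hprange
  rw [PrimeSpectrum.localization_comap_range A S] at hmrange
  exact Set.disjoint_left.mp hmrange hs hsm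

/-- Let R be a ring, S ⊆ R a multiplicative subset and A = S⁻¹R. If the image of Spec(A) → Spec(R) is
closed, then the localization map R → A is surjective; in particular A is isomorphic to R/I for the
ideal I = ker(R → A). -/
theorem result {R : Type u} [CommRing R] (S : Submonoid R) (A : Type u) [CommRing A] [Algebra R A] [IsLocalization S A] (hcl : IsClosed (Set.range (PrimeSpectrum.comap (algebraMap R A)))) : Function.Surjective (algebraMap R A) := by
  intro a
  obtain ⟨⟨x, s⟩, hxs⟩ := IsLocalization.surj S a
  obtain ⟨r, hr⟩ := exists_mul_eq_one S A hcl s s.2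
  refine ⟨x * r, ?_⟩
  dsimp only at hxs
  rw [map_mul, ← hxs, mul_assoc, mul_comm (algebraMap R A s), hr, mul_one]

end Groth.Agent.S6273
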