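import Groth.Statements.S6274
import Groth.Agent.S6273
import Mathlib.Topology.NoetherianSpace
import Mathlib.Topology.Sober
import Mathlib.RingTheory.Spectrum.Prime.Topology

set_option autoImplicit false
universe u
open CAlg

namespace Groth.Agent.S6274

section helpers

variable {R : Type u} [CommRing R]

/-- The set of primes disjoint from a submonoid is stable under generalization. -/
lemma disjoint_of_specializes (S : Submonoid R) {x y : PrimeSpectrum R} (h : x ⤳ y)
    (hy : Disjoint (S : Set R) y.asIdeal) : Disjoint (S : Set R) x.asIdeal := by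
  rw [← PrimeSpectrum.le_iff_specializes] at h
  exact hy.mono_right h

/-- In a Noetherian spectrum, a closed set of the form `{p | p ∩ S = ∅}` is open. -/
lemma isOpen_of_noetherianSpace (S : Submonoid R)
    [TopologicalSpace.NoetherianSpace (PrimeSpectrum R)]
    (hcl : IsClosed {p : PrimeSpectrum R | Disjoint (S : Set R) p.asIdeal}) :
    IsOpen {p : PrimeSpectrum R | Disjoint (S : Set R) p.asIdeal} := by
  set Z := {p : PrimeSpectrum R | Disjoint (S : Set R) p.asIdeal} with hZ
  have hsub : ∀ C ∈ irreducibleComponents (PrimeSpectrum R), (C ∩ Z).Nonempty → C ⊆ Z := by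
    rintro C hC ⟨x, hxC, hxZ⟩
    obtain ⟨η, hη⟩ := QuasiSober.sober hC.1 (isClosed_of_mem_irreducibleComponents C hC)
    have hηx : η ⤳ x := hη.specializes hxC
    have hηZ : η ∈ Z := disjoint_of_specializes S hηx hxZ
    exact (hη.mem_closed_set_iff hcl).mp hηZ
  have hcompl : Zᶜ = ⋃₀ {C ∈ irreducibleComponents (PrimeSpectrum R) | ¬ (C ∩ Z).Nonempty} := by
    ext x
    constructor
    · intro hx
      refine ⟨irreducibleComponent x, ⟨irreducibleComponent_mem_irreducibleComponents x, ?_⟩,
        mem_irreducibleComponent⟩
      intro hne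
      exact hx (hsub _ (irreducibleComponent_mem_irreducibleComponents x) hne
        mem_irreducibleComponent)
    · rintro ⟨C, ⟨hC, hne⟩, hxC⟩ hxZ
      exact hne ⟨x, hxC, hxZ⟩
  rw [← isClosed_compl_iff, hcompl, Set.sUnion_eq_biUnion]
  apply Set.Finite.isClosed_biUnion
  · exact TopologicalSpace.NoetherianSpace.finite_irreducibleComponents.subset (fun C hC => hC.1)
  · intro C hC
    exact isClosed_of_mem_irreducibleComponents C hC.1

/-- For a finitely generated submonoid the set `{p | p ∩ S = ∅}` is open. -/
lemma isOpen_of_fg (S : Submonoid R) (hS : S.FG) :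
    IsOpen {p : PrimeSpectrum R | Disjoint (S : Set R) p.asIdeal} := by
  obtain ⟨t, rfl⟩ := hS
  have : {p : PrimeSpectrum R | Disjoint ((Submonoid.closure (t : Set R) : Submonoid R) : Set R)
      p.asIdeal} = PrimeSpectrum.basicOpen (∏ x ∈ t, x) := by
    ext p
    simp only [Set.mem_ofPred_eq, SetLike.mem_coe, PrimeSpectrum.mem_basicOpen]
    constructor
    · intro hd hprod
      exact Set.disjoint_left.mp hd
        (Submonoid.prod_mem _ fun x hx => Submonoid.subset_closure hx) hprod
    · intro hprod
      rw [Set.disjoint_left]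
      intro x hxS hxp
      have hle : Submonoid.closure (t : Set R) ≤ p.asIdeal.primeCompl := by
        rw [Submonoid.closure_le]
        intro y hy hyp
        exact hprod (Ideal.mem_of_dvd p.asIdeal (Finset.dvd_prod_of_mem _ hy) hyp)
      exact hle hxS hxp
  rw [this]
  exact (PrimeSpectrum.basicOpen _).2

/-- If the image of `Spec A → Spec R` is clopen, the kernel of `R → A` is generated by `1 - e` for
an idempotent `e`. -/
lemma exists_idempotent_ker_eq (S : Submonoid R) (A : Type u) [CommRing A] [Algebra R A]
    [IsLocalization S A]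
    (hclopen : IsClopen {p : PrimeSpectrum R | Disjoint (S : Set R) p.asIdeal}) :
    ∃ e : R, IsIdempotentElem e ∧ RingHom.ker (algebraMap R A) = Ideal.span {1 - e} := by
  obtain ⟨e, he, hZ⟩ := PrimeSpectrum.isClopen_iff.mp hclopen
  refine ⟨e, he, ?_⟩
  have hmul : e * (1 - e) = 0 := by rw [mul_sub, mul_one, he.eq, sub_self]
  -- `e` becomes a unit in `A`
  have hunit : IsUnit (algebraMap R A e) := by
    by_contra hnu
    obtain ⟨m, hm, hem⟩ := exists_max_ideal_of_mem_nonunits (mem_nonunits_iff.mpr hnu)
    have hmp : m.IsPrime := hm.isPrime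
    have h1 : PrimeSpectrum.comap (algebraMap R A) ⟨m, hmp⟩ ∈
        Set.range (PrimeSpectrum.comap (algebraMap R A)) := ⟨_, rfl⟩
    rw [PrimeSpectrum.localization_comap_range A S, hZ] at h1
    exact h1 hem
  apply le_antisymm
  · intro x hx
    rw [RingHom.mem_ker, IsLocalization.map_eq_zero_iff S A] at hx
    obtain ⟨s, hs⟩ := hx
    -- `s` is a unit in `R[1/e]`
    let B := Localization.Away e
    have hsunit : IsUnit (algebraMap R B s) := by
      by_contra hnu
      obtain ⟨m, hm, hsm⟩ := exists_max_ideal_of_mem_nonunits (mem_nonunits_iff.mpr hnu)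
      have hmp : m.IsPrime := hm.isPrime
      have h1 : PrimeSpectrum.comap (algebraMap R B) ⟨m, hmp⟩ ∈
          Set.range (PrimeSpectrum.comap (algebraMap R B)) := ⟨_, rfl⟩
      rw [PrimeSpectrum.localization_away_comap_range B e, ← hZ] at h1
      exact Set.disjoint_left.mp h1 s.2 hsm
    have hx0 : algebraMap R B x = 0 := by
      apply hsunit.mul_left_cancel
      rw [← map_mul, hs, map_zero, mul_zero]
    rw [IsLocalization.map_eq_zero_iff (Submonoid.powers e) B] at hx0
    obtain ⟨⟨_, n, rfl⟩, hn⟩ := hx0
    have hex : e * x = 0 := by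
      cases n with
      | zero =>
        simp only [pow_zero, one_mul] at hn
        rw [hn, mul_zero]
      | succ k =>
        have : e ^ (k + 1) = e := he.pow_succ_eq k
        simpa [this] using hn
    rw [Ideal.mem_span_singleton']
    refine ⟨x, ?_⟩
    rw [mul_sub, mul_one, mul_comm x e, hex, sub_zero]
  · rw [Ideal.span_singleton_le_iff_mem, RingHom.mem_ker]
    apply hunit.mul_left_cancel
    rw [← map_mul, hmul, map_zero, mul_zero]

end helpers

/-- Let R be a ring, S ⊆ R a multiplicative subset and A = S⁻¹R, and assume the image of Spec(A) →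
Spec(R) is closed. If Spec(R) is a Noetherian topological space (which holds when R is Noetherian)
or S is finitely generated as a monoid, then R is isomorphic to A × R' for some ring R', by an
isomorphism whose first component is the localization map R → A. -/
theorem result {R : Type u} [CommRing R] (S : Submonoid R) (A : Type u) [CommRing A] [Algebra R A] [IsLocalization S A] (hcl : IsClosed (Set.range (PrimeSpectrum.comap (algebraMap R A)))) (h : TopologicalSpace.NoetherianSpace (PrimeSpectrum R) ∨ S.FG) : ∃ (R' : Type u) (_ : CommRing R') (e : R ≃+* A × R'), ∀ x : R, (e x).1 = algebraMap R A x := by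
  have hcl' : IsClosed {p : PrimeSpectrum R | Disjoint (S : Set R) p.asIdeal} := by
    rwa [← PrimeSpectrum.localization_comap_range A S]
  have hopen : IsOpen {p : PrimeSpectrum R | Disjoint (S : Set R) p.asIdeal} := by
    rcases h with h | h
    · exact isOpen_of_noetherianSpace S hcl'
    · exact isOpen_of_fg S h
  obtain ⟨e, he, hker⟩ := exists_idempotent_ker_eq S A ⟨hcl', hopen⟩
  have hsurj : Function.Surjective (algebraMap R A) := Groth.Agent.S6273.result S A hcl
  let J : Ideal R := Ideal.span {e}
  let φ : R →+* A × (R ⧸ J) := (algebraMap R A).prod (Ideal.Quotient.mk J)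
  have hφ : Function.Bijective φ := by
    constructor
    · rw [injective_iff_map_eq_zero]
      intro x hx
      have h1 : algebraMap R A x = 0 := congrArg Prod.fst hx
      have h2 : Ideal.Quotient.mk J x = 0 := congrArg Prod.snd hx
      rw [← RingHom.mem_ker, hker, Ideal.mem_span_singleton'] at h1
      rw [Ideal.Quotient.eq_zero_iff_mem, Ideal.mem_span_singleton'] at h2
      obtain ⟨a, ha⟩ := h1
      obtain ⟨b, hb⟩ := h2
      have : x = x * e := by rw [← hb, mul_assoc, he.eq]
      rw [this, ← ha, mul_assoc, sub_mul, one_mul, he.eq, sub_self, mul_zero]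
    · rintro ⟨a, b⟩
      obtain ⟨x, rfl⟩ := hsurj a
      obtain ⟨y, rfl⟩ := Ideal.Quotient.mk_surjective b
      refine ⟨x * e + y * (1 - e), ?_⟩
      have h1e : algebraMap R A (1 - e) = 0 := by
        rw [← RingHom.mem_ker, hker]
        exact Ideal.subset_span rfl
      have he1 : algebraMap R A e = 1 := by
        have := h1e
        rw [map_sub, map_one, sub_eq_zero] at this
        exact this.symm
      have hJe : Ideal.Quotient.mk J e = 0 :=
        Ideal.Quotient.eq_zero_iff_mem.mpr (Ideal.subset_span rfl)
      apply Prod.ext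
      · change algebraMap R A (x * e + y * (1 - e)) = algebraMap R A x
        rw [map_add, map_mul, map_mul, h1e, he1, mul_one, mul_zero, add_zero]
      · change Ideal.Quotient.mk J (x * e + y * (1 - e)) = Ideal.Quotient.mk J y
        rw [map_add, map_mul, map_mul, map_sub, map_one, hJe, mul_zero, sub_zero, mul_one,
          zero_add]
  exact ⟨R ⧸ J, inferInstance, RingEquiv.ofBijective φ hφ, fun x => rfl⟩

end Groth.Agent.S6274
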