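import Groth.Statements.S6275
import Mathlib.RingTheory.Noetherian.Basic
import Mathlib.RingTheory.Localization.Ideal
-- import your own Groth.Agent.* helpers here

set_option autoImplicit false
universe u
open CAlg

namespace Groth.Agent.S6275

/-- Let R be a Noetherian ring and p ⊆ R a prime. Then there is f ∈ R, f ∉ p, such that R_f → R_p is
injective; equivalently every x ∈ R mapping to zero in R_p maps to zero in R_f. (The cases of a
domain and of a reduced ring with finitely many minimal primes are not included here.) -/
theorem result {R : Type u} [CommRing R] [IsNoetherianRing R] (p : Ideal R) [p.IsPrime] : ∃ f : R, f ∉ p ∧ ∀ x : R, algebraMap R (Localization.AtPrime p) x = 0 → algebraMap R (Localization.Away f) x = 0 := by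
  classical
  set K : Ideal R := RingHom.ker (algebraMap R (Localization.AtPrime p)) with hK
  obtain ⟨t, ht⟩ : K.FG := IsNoetherian.noetherian K
  -- each generator is killed by some element outside p
  have hkill : ∀ x ∈ K, ∃ s : R, s ∉ p ∧ s * x = 0 := by
    intro x hx
    rw [hK, RingHom.mem_ker] at hx
    obtain ⟨⟨s, hs⟩, hsx⟩ := (IsLocalization.map_eq_zero_iff p.primeCompl _ x).mp hx
    exact ⟨s, hs, hsx⟩
  choose! s hs hsx using hkill
  refine ⟨∏ x ∈ t, s x, ?_, ?_⟩
  · intro hmem
    obtain ⟨x, hxt, hx⟩ := (Ideal.IsPrime.prod_mem_iff).mp hmem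
    have : x ∈ K := ht ▸ Ideal.subset_span hxt
    exact hs x this hx
  · intro x hx
    have hxK : x ∈ K := hx
    have hle : K ≤ RingHom.ker (algebraMap R (Localization.Away (∏ x ∈ t, s x))) := by
      rw [← ht, Ideal.span_le]
      intro y hy
      have hyK : y ∈ K := ht ▸ Ideal.subset_span hy
      rw [SetLike.mem_coe, RingHom.mem_ker,
        IsLocalization.map_eq_zero_iff (Submonoid.powers (∏ x ∈ t, s x))]
      refine ⟨⟨∏ x ∈ t, s x, Submonoid.mem_powers _⟩, ?_⟩
      change (∏ x ∈ t, s x) * y = 0
      rw [← Finset.mul_prod_erase t s hy, mul_assoc, mul_comm _ y, ← mul_assoc, hsx y hyK,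
        zero_mul]
    exact hle hxK

end Groth.Agent.S6275
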