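import Groth.Statements.S6276
import Mathlib.RingTheory.FiniteStability
import Mathlib.RingTheory.Localization.BaseChange
import Mathlib.RingTheory.Localization.Submodule
import Mathlib.FieldTheory.IntermediateField.Adjoin.Algebra
import Mathlib.RingTheory.FiniteType

set_option autoImplicit false
universe u
open scoped TensorProduct
open CAlg

namespace Groth.Agent.S6276

/-- Let k be a field, R a Noetherian k-algebra and K/k a finitely generated field extension. Then K ⊗ₖ R
is a Noetherian ring. -/
theorem result (k : Type u) [Field k] (R : Type u) [CommRing R] [Algebra k R] [IsNoetherianRing R] (K : Type u) [Field K] [Algebra k K] (hK : ∃ s : Finset K, IntermediateField.adjoin k (s : Set K) = ⊤) : IsNoetherianRing (K ⊗[k] R) := by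
  obtain ⟨s, hs⟩ := hK
  let B : Subalgebra k K := Algebra.adjoin k (s : Set K)
  have : Algebra.FiniteType k B := Algebra.FiniteType.adjoin_of_finite s.finite_toSet
  have : IsFractionRing B K := by
    refine IsFractionRing.of_field B K fun z => ?_
    have hz : z ∈ IntermediateField.adjoin k (s : Set K) := by rw [hs]; trivial
    obtain ⟨x, hx, y, hy, e⟩ := IntermediateField.mem_adjoin_iff_div.mp hz
    exact ⟨⟨x, hx⟩, ⟨y, hy⟩, e⟩
  have : IsNoetherianRing (R ⊗[k] B) := Algebra.FiniteType.isNoetherianRing R (R ⊗[k] B)
  let φ : R ⊗[k] B →ₐ[R] R ⊗[k] K := Algebra.TensorProduct.map (AlgHom.id R R) B.val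
  let : Algebra (R ⊗[k] B) (R ⊗[k] K) := φ.toRingHom.toAlgebra
  have : IsScalarTower R (R ⊗[k] B) (R ⊗[k] K) :=
    IsScalarTower.of_algebraMap_eq' φ.comp_algebraMap.symm
  have hloc := IsLocalization.tensorProduct_tensorProduct_right k R (nonZeroDivisors B) K (by
    ext x
    simp [RingHom.algebraMap_toAlgebra, φ])
  have : IsNoetherianRing (R ⊗[k] K) := @IsLocalization.isNoetherianRing _ _ _ _ _ _ hloc ‹IsNoetherianRing (R ⊗[k] B)›
  exact isNoetherianRing_of_ringEquiv _ (Algebra.TensorProduct.comm k R K).toRingEquiv

end Groth.Agent.S6276
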