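import Groth.Statements.S6278
-- import your own Groth.Agent.* helpers here

set_option autoImplicit false
universe u
open CAlg

namespace Groth.Agent.S6278

/-- A normal ring R (all localizations at primes are integrally closed domains) is integrally closed in
its total ring of fractions. -/
theorem result (R : Type u) [CommRing R] (hR : EGA4.IsNormalRing R) : IsIntegrallyClosedIn R (FractionRing R) := by
  refine ⟨IsFractionRing.injective R (FractionRing R), ?_⟩
  intro x
  constructor
  swap
  · rintro ⟨y, rfl⟩
    exact isIntegral_algebraMap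
  intro hx
  obtain ⟨a, s, hxas⟩ := IsLocalization.exists_mk'_eq (nonZeroDivisors R) x
  subst hxas
  -- the ideal of denominators
  let D : Ideal R :=
    { carrier := {d | ∃ r : R, algebraMap R (FractionRing R) r = algebraMap R (FractionRing R) d * IsLocalization.mk' (FractionRing R) a s}
      zero_mem' := ⟨0, by simp⟩
      add_mem' := by
        rintro d₁ d₂ ⟨r₁, h₁⟩ ⟨r₂, h₂⟩
        exact ⟨r₁ + r₂, by rw [map_add, map_add, h₁, h₂, add_mul]⟩
      smul_mem' := by
        rintro c d ⟨r, h⟩
        exact ⟨c * r, by rw [smul_eq_mul, map_mul, map_mul, h, mul_assoc]⟩ }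
  suffices hD : D = ⊤ by
    have h1 : (1 : R) ∈ D := hD ▸ Submodule.mem_top
    obtain ⟨r, hr⟩ := h1
    exact ⟨r, by rw [hr, map_one, one_mul]⟩
  by_contra hDne
  obtain ⟨p, hpmax, hDp⟩ := Ideal.exists_le_maximal D hDne
  have hp : p.IsPrime := hpmax.isPrime
  obtain ⟨hdom, hic⟩ := hR p
  set Rp := Localization.AtPrime p with hRp
  set K := FractionRing Rp with hK
  -- nonzerodivisors stay nonzero in Rp
  have hne : ∀ y : nonZeroDivisors R, algebraMap R Rp y ≠ 0 := by
    intro y hy
    obtain ⟨u, hu⟩ := (IsLocalization.map_eq_zero_iff p.primeCompl Rp (y : R)).mp hy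
    have : (u : R) = 0 := by
      have := y.2
      rw [mem_nonZeroDivisors_iff] at this
      exact this.2 _ hu
    exact u.2 (this ▸ p.zero_mem)
  let f : R →+* K := (algebraMap Rp K).comp (algebraMap R Rp)
  have hf : ∀ y : nonZeroDivisors R, IsUnit (f y) := by
    intro y
    apply IsUnit.mk0
    intro h0
    exact hne y ((map_eq_zero_iff _ (IsFractionRing.injective Rp K)).mp h0)
  let φ : FractionRing R →+* K := IsLocalization.lift hf
  have hφ : (algebraMap Rp K).comp (algebraMap R Rp) = φ.comp (algebraMap R (FractionRing R)) :=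
    (IsLocalization.lift_comp hf).symm
  have hint : IsIntegral Rp (φ (IsLocalization.mk' (FractionRing R) a s)) :=
    IsIntegral.map_of_comp_eq (algebraMap R Rp) φ hφ hx
  obtain ⟨b', hb'⟩ := IsIntegrallyClosed.isIntegral_iff.mp hint
  have hφalg : ∀ r : R, φ (algebraMap R (FractionRing R) r) = algebraMap Rp K (algebraMap R Rp r) :=
    fun r => (congrArg (fun g => g r) hφ).symm
  have h1 : b' * algebraMap R Rp s = algebraMap R Rp a := by
    apply IsFractionRing.injective Rp K
    rw [map_mul, hb', ← hφalg, ← hφalg, ← map_mul, IsLocalization.mk'_spec]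
  obtain ⟨b, t, hbt⟩ := IsLocalization.exists_mk'_eq p.primeCompl b'
  subst hbt
  have h2 : algebraMap R Rp (b * s) = algebraMap R Rp (a * t) := by
    rw [map_mul, map_mul, ← h1, ← IsLocalization.mk'_spec Rp b t]
    ring
  obtain ⟨u, hu⟩ := (IsLocalization.eq_iff_exists p.primeCompl Rp).mp h2
  have hmem : (u : R) * t ∈ D := by
    refine ⟨u * b, ?_⟩
    have hsunit : IsUnit (algebraMap R (FractionRing R) s) :=
      IsLocalization.map_units (FractionRing R) s
    apply hsunit.mul_right_cancel
    rw [mul_assoc, IsLocalization.mk'_spec, ← map_mul, ← map_mul]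
    congr 1
    calc (u : R) * b * s = u * (b * s) := by ring
      _ = u * (a * t) := hu
      _ = u * t * a := by ring
  exact (hp.mul_mem_iff_mem_or_mem.mp (hDp hmem)).elim u.2 t.2

end Groth.Agent.S6278
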