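import Groth.Statements.S6279
import Mathlib.RingTheory.Spectrum.Prime.RingHom
import Mathlib.RingTheory.Localization.LocalizationLocalization
-- import your own Groth.Agent.* helpers here

set_option autoImplicit false
universe u
open CAlg

namespace Groth.Agent.S6279

/-- The projection of a product of rings onto a factor is the localization away from the
corresponding idempotent. -/
theorem isLocalization_eval {ι : Type u} [DecidableEq ι] (A : ι → Type u) [∀ i, CommRing (A i)]
    (j : ι) :
    letI : Algebra (∀ i, A i) (A j) := (Pi.evalRingHom A j).toAlgebra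
    IsLocalization (Submonoid.powers (Pi.single j (1 : A j) : ∀ i, A i)) (A j) := by
  let _ : Algebra (∀ i, A i) (A j) := (Pi.evalRingHom A j).toAlgebra
  refine ⟨?_, ?_, ?_⟩
  · rintro ⟨_, n, rfl⟩
    change IsUnit (((Pi.single j (1 : A j) : ∀ i, A i) ^ n) j)
    simp
  · intro a
    refine ⟨⟨Pi.single j a, 1⟩, ?_⟩
    change a * (1 : ∀ i, A i) j = (Pi.single j a : ∀ i, A i) j
    simp
  · intro x y hxy
    refine ⟨⟨Pi.single j 1, Submonoid.mem_powers _⟩, ?_⟩
    change x j = y j at hxy
    ext i
    by_cases hij : i = j
    · subst hij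
      simp [hxy]
    · simp [Pi.single_eq_of_ne hij]

/-- A finite product of normal rings is normal (a ring is normal when every localization at a prime is
an integrally closed domain). -/
theorem result {ι : Type u} [Finite ι] (A : ι → Type u) [∀ i, CommRing (A i)] (hA : ∀ i, EGA4.IsNormalRing (A i)) : EGA4.IsNormalRing (∀ i, A i) := by
  classical
  intro P hP
  obtain ⟨j, q, hq⟩ := PrimeSpectrum.exists_comap_evalRingHom_eq (⟨P, hP⟩ : PrimeSpectrum (∀ i, A i))
  have hqP : q.asIdeal.comap (Pi.evalRingHom A j) = P := congrArg PrimeSpectrum.asIdeal hq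
  let _ : Algebra (∀ i, A i) (A j) := (Pi.evalRingHom A j).toAlgebra
  have := isLocalization_eval A j
  have : q.asIdeal.IsPrime := q.2
  let T := Localization.AtPrime q.asIdeal
  have hloc : IsLocalization.AtPrime T (q.asIdeal.comap (algebraMap (∀ i, A i) (A j))) :=
    IsLocalization.isLocalization_isLocalization_atPrime_isLocalization
      (Submonoid.powers (Pi.single j (1 : A j) : ∀ i, A i)) T q.asIdeal
  have hcomap : q.asIdeal.comap (algebraMap (∀ i, A i) (A j)) = P := hqP
  have hloc' : IsLocalization P.primeCompl T := by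
    have : (q.asIdeal.comap (algebraMap (∀ i, A i) (A j))).primeCompl = P.primeCompl := by
      ext x
      simp only [Ideal.mem_primeCompl_iff, hcomap]
    rw [← this]
    exact hloc
  let e : Localization.AtPrime P ≃ₐ[∀ i, A i] T :=
    IsLocalization.algEquiv P.primeCompl (Localization.AtPrime P) T
  obtain ⟨hdom, hic⟩ := hA j q.asIdeal
  exact ⟨MulEquiv.isDomain T e.toRingEquiv.toMulEquiv, IsIntegrallyClosed.of_equiv e.symm.toRingEquiv⟩

end Groth.Agent.S6279
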