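import Groth.Statements.S6281
import Mathlib.RingTheory.Flat.FaithfullyFlat.Basic
import Mathlib.LinearAlgebra.TensorProduct.Tower

set_option autoImplicit false
universe u
open CAlg

namespace Groth.Agent.S6281

/-- For an R-algebra S and an S-module M, flatness of S over R follows once M is both flat over R and
faithfully flat over S. -/
theorem result {R S : Type u} [CommRing R] [CommRing S] [Algebra R S] (M : Type u) [AddCommGroup M] [Module S M] [Module R M] [IsScalarTower R S M] [Module.Flat R M] [Module.FaithfullyFlat S M] : Module.Flat R S := by
  rw [Module.Flat.iff_lTensor_preserves_injective_linearMap]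
  intro N P _ _ _ _ f hf
  let g : TensorProduct R S N →ₗ[S] TensorProduct R S P :=
    TensorProduct.AlgebraTensorModule.map LinearMap.id f
  have hg : ⇑(f.lTensor S) = ⇑g := by
    ext x
    rfl
  rw [hg, ← Module.FaithfullyFlat.lTensor_injective_iff_injective S M]
  let eN := TensorProduct.AlgebraTensorModule.cancelBaseChange R S S M N
  let eP := TensorProduct.AlgebraTensorModule.cancelBaseChange R S S M P
  have key : eP.toLinearMap ∘ₗ g.lTensor M =
      (TensorProduct.AlgebraTensorModule.map (LinearMap.id : M →ₗ[S] M) f) ∘ₗ eN.toLinearMap := by
    ext m n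
    simp [eN, eP, g]
  have hinj : Function.Injective (TensorProduct.AlgebraTensorModule.map (LinearMap.id : M →ₗ[S] M) f) :=
    Module.Flat.lTensor_preserves_injective_linearMap (M := M) f hf
  have h2 : Function.Injective (eP.toLinearMap ∘ₗ g.lTensor M) := by
    rw [key]
    exact hinj.comp eN.injective
  rw [LinearMap.coe_comp] at h2
  exact Function.Injective.of_comp h2

end Groth.Agent.S6281
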