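import Groth.Statements.S6282
import Mathlib.RingTheory.Flat.FaithfullyFlat.Basic
import Mathlib.LinearAlgebra.TensorProduct.Tower

set_option autoImplicit false
universe u
open scoped TensorProduct
open CAlg

namespace Groth.Agent.S6282

section aux
variable {R S S' : Type u} [CommRing R] [CommRing S] [CommRing S'] [Algebra R S] [Algebra R S']
  [Algebra S S'] [IsScalarTower R S S'] (M : Type u) [AddCommGroup M] [Module S M] [Module R M]
  [IsScalarTower R S M]

theorem key {N P : Type u} [AddCommGroup N] [AddCommGroup P] [Module R N] [Module R P]
    (f : N →ₗ[R] P) :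
    Function.Injective (f.lTensor (S' ⊗[S] M)) ↔
      Function.Injective ((TensorProduct.AlgebraTensorModule.map (LinearMap.id : M →ₗ[S] M) f).lTensor S') := by
  let eN := TensorProduct.AlgebraTensorModule.assoc R S S' S' M N
  let eP := TensorProduct.AlgebraTensorModule.assoc R S S' S' M P
  have h'' : ∀ x, eP (f.lTensor (S' ⊗[S] M) x) =
      (TensorProduct.AlgebraTensorModule.map (LinearMap.id : M →ₗ[S] M) f).lTensor S' (eN x) := by
    intro x
    induction x using TensorProduct.induction_on with
    | zero => simp
    | add a b ha hb => simp only [map_add, ha, hb]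
    | tmul sm n =>
      induction sm using TensorProduct.induction_on with
      | zero => simp
      | add a b ha hb =>
        simp only [TensorProduct.add_tmul, map_add] at ha hb ⊢
        rw [ha, hb]
      | tmul s m => simp [eN, eP]
  have h' : ⇑eP ∘ ⇑(f.lTensor (S' ⊗[S] M)) =
      ⇑((TensorProduct.AlgebraTensorModule.map (LinearMap.id : M →ₗ[S] M) f).lTensor S') ∘ ⇑eN := by
    ext x
    exact h'' x
  constructor
  · intro hinj
    have : Function.Injective (⇑eP ∘ ⇑(f.lTensor (S' ⊗[S] M))) := eP.injective.comp hinj
    rw [h'] at this
    exact (Function.Injective.of_comp_iff' _ eN.bijective).1 this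
  · intro hinj
    have : Function.Injective (⇑((TensorProduct.AlgebraTensorModule.map (LinearMap.id : M →ₗ[S] M) f).lTensor S') ∘ ⇑eN) :=
      hinj.comp eN.injective
    rw [← h'] at this
    exact Function.Injective.of_comp this

end aux

/-- Let S → S' be a homomorphism of R-algebras, M an S-module, and M' = S' ⊗_S M with its induced
R-module structure. (1) When S' is flat over S, R-flatness of M passes to M'. (2) When S' is
faithfully flat over S, M is R-flat exactly when M' is. -/
theorem result {R S S' : Type u} [CommRing R] [CommRing S] [CommRing S'] [Algebra R S] [Algebra R S'] [Algebra S S'] [IsScalarTower R S S'] (M : Type u) [AddCommGroup M] [Module S M] [Module R M] [IsScalarTower R S M] : ([Module.Flat S S'] → Module.Flat R M → Module.Flat R (S' ⊗[S] M)) ∧ ([Module.FaithfullyFlat S S'] → (Module.Flat R M ↔ Module.Flat R (S' ⊗[S] M))) := by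
  refine ⟨fun hM => ?_, ⟨fun hM => ?_, fun hM' => ?_⟩⟩
  · rw [Module.Flat.iff_lTensor_preserves_injective_linearMap]
    intro N P _ _ _ _ f hf
    rw [key M f]
    apply Module.Flat.lTensor_preserves_injective_linearMap
    exact Module.Flat.lTensor_preserves_injective_linearMap (M := M) f hf
  · rw [Module.Flat.iff_lTensor_preserves_injective_linearMap]
    intro N P _ _ _ _ f hf
    rw [key M f]
    apply Module.Flat.lTensor_preserves_injective_linearMap
    exact Module.Flat.lTensor_preserves_injective_linearMap (M := M) f hf
  · rw [Module.Flat.iff_lTensor_preserves_injective_linearMap]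
    intro N P _ _ _ _ f hf
    have h1 : Function.Injective (f.lTensor (S' ⊗[S] M)) :=
      Module.Flat.lTensor_preserves_injective_linearMap f hf
    rw [key M f, Module.FaithfullyFlat.lTensor_injective_iff_injective] at h1
    exact h1

end Groth.Agent.S6282
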