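import Groth.Statements.S6283
import Mathlib.RingTheory.Flat.Basic
import Mathlib.LinearAlgebra.TensorProduct.Pi
import Mathlib.LinearAlgebra.TensorProduct.Tower
import Mathlib.RingTheory.Finiteness.Basic

set_option autoImplicit false
universe u
open scoped TensorProduct
open CAlg

namespace Groth.Agent.S6283

section aux
variable {R S : Type u} [CommRing R] [CommRing S] [Algebra R S] [Module.Flat R S]

theorem rid_mem {N : Type u} [AddCommGroup N] [Module R N] (f : R →ₗ[R] N)
    (y : S ⊗[R] (LinearMap.ker f)) :
    TensorProduct.rid R S ((LinearMap.ker f).subtype.lTensor S y) ∈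
      Ideal.map (algebraMap R S) (LinearMap.ker f) := by
  induction y using TensorProduct.induction_on with
  | zero => simp
  | add a b ha hb =>
    rw [map_add, map_add]
    exact Ideal.add_mem _ ha hb
  | tmul s k =>
    simp only [LinearMap.lTensor_tmul, Submodule.subtype_apply, TensorProduct.rid_tmul]
    rw [Algebra.smul_def]
    exact Ideal.mul_mem_right _ _ (Ideal.mem_map_of_mem _ k.2)

theorem mem_map_ker_iff {N : Type u} [AddCommGroup N] [Module R N] (f : R →ₗ[R] N) (s : S) :
    s ∈ Ideal.map (algebraMap R S) (LinearMap.ker f) ↔ s ⊗ₜ[R] f 1 = 0 := by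
  constructor
  · intro hs
    refine Submodule.span_induction (p := fun s _ => s ⊗ₜ[R] f 1 = 0) ?_ ?_ ?_ ?_ hs
    · rintro _ ⟨r, hr, rfl⟩
      have hr' : f r = 0 := hr
      rw [Algebra.algebraMap_eq_smul_one, TensorProduct.smul_tmul, ← map_smul, smul_eq_mul,
        mul_one, hr', TensorProduct.tmul_zero]
    · simp
    · intro a b _ _ ha hb
      rw [TensorProduct.add_tmul, ha, hb, add_zero]
    · intro a b _ hb
      rw [smul_eq_mul, ← smul_eq_mul, ← TensorProduct.smul_tmul', hb, smul_zero]
  · intro hs
    have hex : Function.Exact ((LinearMap.ker f).subtype.lTensor S) (f.lTensor S) :=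
      Module.Flat.lTensor_exact S (LinearMap.exact_subtype_ker_map f)
    have h0 : f.lTensor S (s ⊗ₜ[R] (1 : R)) = 0 := by
      rw [LinearMap.lTensor_tmul, hs]
    obtain ⟨y, hy⟩ := (hex _).1 h0
    have := rid_mem (S := S) f y
    rw [hy, TensorProduct.rid_tmul, one_smul] at this
    exact this

end aux

/-- Let R → S be a flat ring map, M an R-module and m ∈ M. Then Ann_R(m)S = Ann_S(1 ⊗ m), the
annihilator in S of the element 1 ⊗ m of S ⊗_R M. If moreover M is a finite R-module then Ann_R(M)S
= Ann_S(S ⊗_R M). -/
theorem result {R S : Type u} [CommRing R] [CommRing S] [Algebra R S] [Module.Flat R S] (M : Type u) [AddCommGroup M] [Module R M] : (∀ m : M, ((Submodule.span R {m}).annihilator).map (algebraMap R S) = (Submodule.span S {(1 : S) ⊗ₜ[R] m}).annihilator) ∧ (Module.Finite R M → (Module.annihilator R M).map (algebraMap R S) = Module.annihilator S (S ⊗[R] M)) := by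
  constructor
  · intro m
    ext s
    have h1 : (Submodule.span R {m}).annihilator = (LinearMap.ker (LinearMap.toSpanSingleton R M m) : Ideal R) := by
      ext r
      rw [Submodule.mem_annihilator_span_singleton, LinearMap.mem_ker,
        LinearMap.toSpanSingleton_apply]
    rw [h1, mem_map_ker_iff, Submodule.mem_annihilator_span_singleton,
      LinearMap.toSpanSingleton_apply, one_smul, TensorProduct.smul_tmul', smul_eq_mul, mul_one]
  · intro hfin
    obtain ⟨n, g, hg⟩ := Module.Finite.exists_fin (R := R) (M := M)
    let f : R →ₗ[R] (Fin n → M) := LinearMap.pi (fun i => LinearMap.toSpanSingleton R M (g i))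
    have h1 : Module.annihilator R M = (LinearMap.ker f : Ideal R) := by
      ext r
      rw [Module.mem_annihilator, LinearMap.mem_ker]
      constructor
      · intro h
        ext i
        simpa [f] using h (g i)
      · intro h m
        have hm : m ∈ Submodule.span R (Set.range g) := by rw [hg]; trivial
        refine Submodule.span_induction (p := fun m _ => r • m = 0) ?_ ?_ ?_ ?_ hm
        · rintro _ ⟨i, rfl⟩
          have := congrFun h i
          simpa [f] using this
        · simp
        · intro a b _ _ ha hb
          rw [smul_add, ha, hb, add_zero]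
        · intro a b _ hb
          rw [smul_comm, hb, smul_zero]
    ext s
    rw [h1, mem_map_ker_iff, Module.mem_annihilator]
    have hpi : s ⊗ₜ[R] f 1 = 0 ↔ ∀ i, s ⊗ₜ[R] g i = 0 := by
      rw [← (TensorProduct.piRight R R S (fun _ : Fin n => M)).map_eq_zero_iff]
      rw [TensorProduct.piRight_apply, TensorProduct.piRightHom_tmul]
      constructor
      · intro h i
        have := congrFun h i
        simpa [f] using this
      · intro h
        ext i
        simpa [f] using h i
    rw [hpi]
    constructor
    · intro h x
      induction x using TensorProduct.induction_on with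
      | zero => simp
      | add a b ha hb => rw [smul_add, ha, hb, add_zero]
      | tmul a m =>
        have hm : m ∈ Submodule.span R (Set.range g) := by rw [hg]; trivial
        refine Submodule.span_induction (p := fun m _ => s • (a ⊗ₜ[R] m) = 0) ?_ ?_ ?_ ?_ hm
        · rintro _ ⟨i, rfl⟩
          rw [TensorProduct.smul_tmul', smul_eq_mul, mul_comm, ← smul_eq_mul,
            ← TensorProduct.smul_tmul', h i, smul_zero]
        · simp
        · intro x y _ _ hx hy
          rw [TensorProduct.tmul_add, smul_add, hx, hy, add_zero]
        · intro r x _ hx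
          rw [TensorProduct.tmul_smul, smul_comm, hx, smul_zero]
    · intro h i
      have := h ((1 : S) ⊗ₜ[R] g i)
      rwa [TensorProduct.smul_tmul', smul_eq_mul, mul_one] at this

end Groth.Agent.S6283
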