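import Groth.Statements.S6285
import Groth.Agent.Lib.Fitting82C
import Mathlib

set_option autoImplicit false
universe u
open CAlg

namespace Groth.Agent.S6285

/-- For a ring R and an R-module M of finite presentation, the support Supp(M) is closed in Spec(R), and
its complement in Spec(R) is quasi-compact. -/
theorem result (R : Type u) [CommRing R] (M : Type u) [AddCommGroup M] [Module R M] [Module.FinitePresentation R M] : IsClosed (Module.support R M) ∧ IsCompact (Module.support R M)ᶜ := by
  refine ⟨Module.isClosed_support, ?_⟩
  rw [← Groth.Agent.Lib.Fitting82.zeroLocus_ideal_zero]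
  exact (PrimeSpectrum.isCompact_isOpen_iff_ideal.mpr
    ⟨Fitt.ideal R M 0, Groth.Agent.Lib.Fitting82.ideal_fg_of_finitePresentation 0, rfl⟩).1

end Groth.Agent.S6285
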