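import Groth.Statements.S6286
import Mathlib

set_option autoImplicit false
universe u
open scoped TensorProduct
open CAlg

namespace Groth.Agent.S6286

theorem key {R : Type u} [CommRing R] (p : PrimeSpectrum R) (B : Type u) [CommRing B] [Algebra R B]
    (b : B) :
    (∃ q : PrimeSpectrum B, b ∉ q.asIdeal ∧ q.asIdeal.comap (algebraMap R B) = p.asIdeal) ↔
      ¬ IsNilpotent (algebraMap B (B ⊗[R] p.asIdeal.ResidueField) b) := by
  rw [← PrimeSpectrum.mem_image_comap_basicOpen]
  constructor
  · rintro ⟨q, hq, hqp⟩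
    exact ⟨q, hq, PrimeSpectrum.ext hqp⟩
  · rintro ⟨q, hq, rfl⟩
    exact ⟨q, hq, rfl⟩

theorem key2 {R : Type u} [CommRing R] (p : PrimeSpectrum R) (B B' : Type u) [CommRing B]
    [CommRing B'] [Algebra R B] [Algebra R B'] (ι : B' →ₐ[R] B) (G : B →ₗ[R] B')
    (hG : ∀ x, G (ι x) = x) (b : B') :
    IsNilpotent (algebraMap B (B ⊗[R] p.asIdeal.ResidueField) (ι b)) ↔
      IsNilpotent (algebraMap B' (B' ⊗[R] p.asIdeal.ResidueField) b) := by
  let F : B' ⊗[R] p.asIdeal.ResidueField →ₐ[R] B ⊗[R] p.asIdeal.ResidueField :=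
    Algebra.TensorProduct.map ι (AlgHom.id R p.asIdeal.ResidueField)
  let H : B ⊗[R] p.asIdeal.ResidueField →ₗ[R] B' ⊗[R] p.asIdeal.ResidueField :=
    G.rTensor p.asIdeal.ResidueField
  have hHF : ∀ z, H (F z) = z := by
    intro z
    induction z using TensorProduct.induction_on with
    | zero => simp
    | tmul a b => simp [F, H, hG]
    | add a b ha hb => simp only [map_add, ha, hb]
  have hFinj : Function.Injective F.toRingHom := Function.LeftInverse.injective hHF
  have hnil := IsNilpotent.map_iff (f := F.toRingHom) hFinj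
    (r := algebraMap B' (B' ⊗[R] p.asIdeal.ResidueField) b)
  rw [← hnil]
  have : F.toRingHom (algebraMap B' (B' ⊗[R] p.asIdeal.ResidueField) b) =
      algebraMap B (B ⊗[R] p.asIdeal.ResidueField) (ι b) := by
    simp [F, Algebra.TensorProduct.algebraMap_apply]
  rw [this]

/-- Let k be a field, R and S k-algebras, S' ⊆ S a k-subalgebra and f ∈ R ⊗ₖ S', with image f again in R
⊗ₖ S. Then the images in Spec(R) of Spec((R ⊗ₖ S)_f) and of Spec((R ⊗ₖ S')_f) coincide: a prime p of
R is the contraction of a prime of R ⊗ₖ S not containing f if and only if it is the contraction of a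
prime of R ⊗ₖ S' not containing f. -/
theorem result (k : Type u) [Field k] (R S : Type u) [CommRing R] [Algebra k R] [CommRing S] [Algebra k S] (S' : Subalgebra k S) (f : R ⊗[k] S') (p : PrimeSpectrum R) : (∃ q : PrimeSpectrum (R ⊗[k] S), Algebra.TensorProduct.map (AlgHom.id k R) S'.val f ∉ q.asIdeal ∧ q.asIdeal.comap (algebraMap R (R ⊗[k] S)) = p.asIdeal) ↔ (∃ q' : PrimeSpectrum (R ⊗[k] S'), f ∉ q'.asIdeal ∧ q'.asIdeal.comap (algebraMap R (R ⊗[k] S')) = p.asIdeal) := by
  classical
  rw [key, key, not_iff_not]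
  let ι : R ⊗[k] S' →ₐ[R] R ⊗[k] S := Algebra.TensorProduct.map (AlgHom.id R R) S'.val
  have hι : ∀ x, ι x = Algebra.TensorProduct.map (AlgHom.id k R) S'.val x := by
    intro x
    induction x using TensorProduct.induction_on with
    | zero => simp
    | tmul a b => simp [ι]
    | add a b ha hb => simp only [map_add, ha, hb]
  obtain ⟨ρ, hρ⟩ := LinearMap.exists_leftInverse_of_injective S'.val.toLinearMap
    (LinearMap.ker_eq_bot.mpr Subtype.val_injective)
  let G : R ⊗[k] S →ₗ[R] R ⊗[k] S' :=
    TensorProduct.AlgebraTensorModule.map (LinearMap.id : R →ₗ[R] R) ρ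
  have hG : ∀ x, G (ι x) = x := by
    intro x
    induction x using TensorProduct.induction_on with
    | zero => simp
    | tmul a b =>
      have := LinearMap.congr_fun hρ b
      simp only [LinearMap.comp_apply, AlgHom.toLinearMap_apply, LinearMap.id_apply,
        Subalgebra.val_apply] at this
      simp [ι, G, this]
    | add a b ha hb => simp only [map_add, ha, hb]
  rw [← hι]
  exact key2 p _ _ ι G hG f

end Groth.Agent.S6286
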