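import Groth.Statements.S6289
import Mathlib.RingTheory.Valuation.ValuationRing
import Mathlib.RingTheory.LocalRing.ResidueField.Basic

set_option autoImplicit false
universe u
open CAlg

namespace Groth.Agent.S6289

theorem key (A' : Type u) [CommRing A'] [IsDomain A'] [ValuationRing A']
    (A : ValuationSubring (IsLocalRing.ResidueField A')) (a b c : A')
    (hc : a * c = b) (hcA : IsLocalRing.residue A' c ∉ A) :
    ∃ d : A', IsLocalRing.residue A' d ∈ A ∧ b * d = a := by
  have hne : IsLocalRing.residue A' c ≠ 0 := by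
    intro h0
    apply hcA
    rw [h0]
    exact A.zero_mem
  have hunit : IsUnit c := by
    by_contra hnu
    exact hne ((IsLocalRing.residue_eq_zero_iff c).2 ((IsLocalRing.mem_maximalIdeal c).2 hnu))
  obtain ⟨u, rfl⟩ := hunit
  refine ⟨((u⁻¹ : A'ˣ) : A'), ?_, ?_⟩
  · have h1 : IsLocalRing.residue A' ((u⁻¹ : A'ˣ) : A') = (IsLocalRing.residue A' (u : A'))⁻¹ := by
      apply eq_inv_of_mul_eq_one_left
      rw [← map_mul, Units.inv_mul, map_one]
    rw [h1]
    rcases A.mem_or_inv_mem (IsLocalRing.residue A' (u : A')) with h | h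
    · exact absurd h hcA
    · exact h
  · rw [← hc, mul_assoc, Units.mul_inv, mul_one]

/-- Let A' be a valuation ring with residue field K and A ⊆ K a valuation ring with fraction field K.
Then the subring C of A' consisting of the elements whose residue class lies in A is a valuation
ring. -/
theorem result (A' : Type u) [CommRing A'] [IsDomain A'] [ValuationRing A'] (A : ValuationSubring (IsLocalRing.ResidueField A')) : ValuationRing (A.toSubring.comap (IsLocalRing.residue A')) := by
  refine @ValuationRing.mk _ _ _ ⟨?_⟩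
  rintro ⟨a, ha⟩ ⟨b, hb⟩
  obtain ⟨c, hc | hc⟩ := ValuationRing.cond a b
  · by_cases hcA : IsLocalRing.residue A' c ∈ A
    · exact ⟨⟨c, hcA⟩, Or.inl (Subtype.ext hc)⟩
    · obtain ⟨d, hd, hbd⟩ := key A' A a b c hc hcA
      exact ⟨⟨d, hd⟩, Or.inr (Subtype.ext hbd)⟩
  · by_cases hcA : IsLocalRing.residue A' c ∈ A
    · exact ⟨⟨c, hcA⟩, Or.inr (Subtype.ext hc)⟩
    · obtain ⟨d, hd, hbd⟩ := key A' A b a c hc hcA
      exact ⟨⟨d, hd⟩, Or.inl (Subtype.ext hbd)⟩

end Groth.Agent.S6289
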