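import Groth.Statements.S6291
import Mathlib.RingTheory.FiniteLength
import Mathlib.RingTheory.SimpleModule.Basic
import Mathlib.RingTheory.LocalRing.MaximalIdeal.Basic

set_option autoImplicit false
universe u
open CAlg

namespace Groth.Agent.S6291

/-- Let R be a local ring with maximal ideal m and M an R-module of finite length. Then mⁿM = 0 for some
n. -/
theorem result {R : Type u} [CommRing R] [IsLocalRing R] (M : Type u) [AddCommGroup M] [Module R M] (hM : IsFiniteLength R M) : ∃ n : ℕ, (IsLocalRing.maximalIdeal R) ^ n • (⊤ : Submodule R M) = ⊥ := by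
  induction hM with
  | of_subsingleton => exact ⟨0, Subsingleton.elim _ _⟩
  | @of_simple_quotient M _ _ N _ _ ih =>
    obtain ⟨n, hn⟩ := ih
    refine ⟨n + 1, ?_⟩
    have h1 : IsLocalRing.maximalIdeal R • (⊤ : Submodule R M) ≤ N := by
      rw [Submodule.smul_le]
      intro a ha x _
      have hmax := IsSimpleModule.annihilator_isMaximal (R := R) (M := M ⧸ N)
      have hann : Module.annihilator R (M ⧸ N) = IsLocalRing.maximalIdeal R :=
        IsLocalRing.eq_maximalIdeal hmax
      have ha' : a ∈ Module.annihilator R (M ⧸ N) := hann ▸ ha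
      have := Module.mem_annihilator.1 ha' (Submodule.Quotient.mk x)
      rwa [← Submodule.Quotient.mk_smul, Submodule.Quotient.mk_eq_zero] at this
    rw [eq_bot_iff, pow_succ, Submodule.mul_smul]
    calc IsLocalRing.maximalIdeal R ^ n • IsLocalRing.maximalIdeal R • (⊤ : Submodule R M)
        ≤ IsLocalRing.maximalIdeal R ^ n • N := Submodule.smul_mono le_rfl h1
      _ = (IsLocalRing.maximalIdeal R ^ n • (⊤ : Submodule R N)).map N.subtype := by
          rw [Submodule.map_smul'', Submodule.map_top, Submodule.range_subtype]
      _ = ⊥ := by rw [hn, Submodule.map_bot]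

end Groth.Agent.S6291
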