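import Groth.Statements.S6292
import Mathlib.RingTheory.Length
import Mathlib.RingTheory.Finiteness.Ideal
import Mathlib.Algebra.Module.Torsion.Basic
import Mathlib.RingTheory.Ideal.Quotient.Basic

set_option autoImplicit false
universe u
open CAlg

namespace Groth.Agent.S6292

theorem aux {R : Type u} [CommRing R] (m : Ideal R) [m.IsMaximal] (hm : m.FG) (n : ℕ) :
    ∀ (M : Type u) [AddCommGroup M] [Module R M] [Module.Finite R M],
      m ^ n • (⊤ : Submodule R M) = ⊥ → Module.length R M ≠ ⊤ := by
  induction n with
  | zero =>
    intro M _ _ _ h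
    rw [pow_zero, Ideal.one_eq_top, Submodule.top_smul] at h
    have : Subsingleton M := by
      rw [← Submodule.subsingleton_iff R]
      exact subsingleton_of_bot_eq_top h.symm
    rw [Module.length_eq_zero]
    simp
  | succ n ih =>
    intro M _ _ _ h
    let N : Submodule R M := m • ⊤
    have hNfg : N.FG := Submodule.FG.smul hm Module.Finite.fg_top
    haveI : Module.Finite R N := Module.Finite.iff_fg.2 hNfg
    have hN : m ^ n • (⊤ : Submodule R N) = ⊥ := by
      apply Submodule.map_injective_of_injective N.injective_subtype
      rw [Submodule.map_smul'', Submodule.map_top, Submodule.range_subtype, Submodule.map_bot,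
        ← Submodule.mul_smul, ← pow_succ]
      exact h
    have h1 : Module.length R N ≠ ⊤ := ih N hN
    have h2 : Module.length R (M ⧸ N) ≠ ⊤ := by
      letI : Field (R ⧸ m) := Ideal.Quotient.field m
      haveI : Module.Finite (R ⧸ m) (M ⧸ N) := Module.Finite.of_restrictScalars_finite R (R ⧸ m) (M ⧸ N)
      rw [Module.length_eq_of_surjective (S := R) (R := R ⧸ m) (M := M ⧸ N)
        Ideal.Quotient.mk_surjective, Module.length_eq_finrank]
      exact ENat.natCast_ne_top _
    rw [Module.length_eq_add_of_exact N.subtype N.mkQ N.injective_subtype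
      (Submodule.mkQ_surjective N) (LinearMap.exact_subtype_mkQ N)]
    exact WithTop.add_ne_top.2 ⟨h1, h2⟩

/-- Let R be a ring and m ⊆ R a finitely generated maximal ideal (for instance R Noetherian). If M is a
finite R-module with mⁿM = 0 for some n, then M has finite length. -/
theorem result {R : Type u} [CommRing R] (m : Ideal R) [m.IsMaximal] (hm : m.FG) (M : Type u) [AddCommGroup M] [Module R M] [Module.Finite R M] (n : ℕ) (hn : m ^ n • (⊤ : Submodule R M) = ⊥) : IsFiniteLength R M := by
  rw [← Module.length_ne_top_iff]
  exact aux m hm n M hn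

end Groth.Agent.S6292
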