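import Groth.Statements.S6294
import Mathlib.RingTheory.Ideal.MinimalPrime.Localization
import Mathlib.Algebra.Group.Pi.Units

set_option autoImplicit false
universe u
open CAlg

namespace Groth.Agent.S6294


theorem result' {R : Type u} [CommRing R] {ι : Type} [Fintype ι] (q : ι → Ideal R)
    [∀ i, (q i).IsPrime] (hinj : Function.Injective q)
    (hmin : ∀ P : Ideal R, P ∈ minimalPrimes R ↔ P ∈ Set.range q)
    (hzd : ∀ x : R, x ∈ nonZeroDivisors R ↔ ∀ i, x ∉ q i) :
    IsLocalization (nonZeroDivisors R) (∀ i, Localization.AtPrime (q i)) := by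
  classical
  have hqmin : ∀ i, q i ∈ minimalPrimes R := fun i => (hmin _).2 ⟨i, rfl⟩
  -- separating elements
  have hsep : ∀ j i : ι, j ≠ i → ∃ u ∈ q j, u ∉ q i := by
    intro j i hji
    by_contra hcon
    push Not at hcon
    have hle : q j ≤ q i := fun u hu => hcon u hu
    have : q i ≤ q j := (hqmin i).2 ⟨inferInstance, bot_le⟩ hle
    exact hji (hinj (le_antisymm hle this))
  have hnil : ∀ j : ι, ∀ u ∈ q j, ∃ n : ℕ,
      (algebraMap R (Localization.AtPrime (q j)) u) ^ n = 0 := by
    intro j u hu
    have h1 := IsLocalization.AtPrime.radical_map_of_mem_minimalPrimes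
      (A := Localization.AtPrime (q j)) (q j) ⊥ (hqmin j)
    have h2 : algebraMap R (Localization.AtPrime (q j)) u ∈
        (q j).map (algebraMap R (Localization.AtPrime (q j))) := Ideal.mem_map_of_mem _ hu
    rw [← h1, Ideal.map_bot] at h2
    obtain ⟨n, hn⟩ := h2
    exact ⟨n, by simpa using hn⟩
  -- choose data
  have hdata : ∀ j i : ι, ∃ v : R, v ∉ q i ∧
      (j ≠ i → algebraMap R (Localization.AtPrime (q j)) v = 0) := by
    intro j i
    by_cases hji : j = i
    · exact ⟨1, fun h => (Ideal.IsPrime.ne_top inferInstance) ((Ideal.eq_top_iff_one (q i)).2 h),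
        fun h => absurd hji h⟩
    · obtain ⟨u, huj, hui⟩ := hsep j i hji
      obtain ⟨n, hn⟩ := hnil j u huj
      refine ⟨u ^ n, fun h => hui (Ideal.IsPrime.mem_of_pow_mem inferInstance n h), fun _ => ?_⟩
      rw [map_pow, hn]
  choose v hv1 hv2 using hdata
  set e : ι → R := fun i => ∏ j, v j i with he
  have he1 : ∀ i, e i ∉ q i := by
    intro i h
    rw [he, Ideal.IsPrime.prod_mem_iff] at h
    obtain ⟨j, _, hj⟩ := h
    exact hv1 j i hj
  have he2 : ∀ i j, j ≠ i → algebraMap R (Localization.AtPrime (q j)) (e i) = 0 := by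
    intro i j hji
    rw [he, map_prod]
    exact Finset.prod_eq_zero (Finset.mem_univ j) (hv2 j i hji)
  -- key computation
  have hkey : ∀ (t : ι → R) (i : ι), algebraMap R (Localization.AtPrime (q i)) (∑ j, t j * e j)
      = algebraMap R (Localization.AtPrime (q i)) (t i) *
        algebraMap R (Localization.AtPrime (q i)) (e i) := by
    intro t i
    rw [map_sum, Finset.sum_eq_single i]
    · rw [map_mul]
    · intro j _ hji
      rw [map_mul, he2 j i hji.symm, mul_zero]
    · intro h; exact absurd (Finset.mem_univ i) h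
  have hunit : ∀ i (x : R), x ∉ q i → IsUnit (algebraMap R (Localization.AtPrime (q i)) x) :=
    fun i x hx => (IsLocalization.AtPrime.isUnit_to_map_iff _ (q i) x).2 hx
  have hnzd : ∀ t : ι → R, (∀ i, t i ∉ q i) → ∑ j, t j * e j ∈ nonZeroDivisors R := by
    intro t ht
    rw [hzd]
    intro i
    have : IsUnit (algebraMap R (Localization.AtPrime (q i)) (∑ j, t j * e j)) := by
      rw [hkey]
      exact (hunit i _ (ht i)).mul (hunit i _ (he1 i))
    exact (IsLocalization.AtPrime.isUnit_to_map_iff _ (q i) _).1 this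
  rw [isLocalization_iff]
  refine ⟨?_, ?_, ?_⟩
  · intro s
    rw [Pi.isUnit_iff]
    intro i
    exact hunit i _ ((hzd _).1 s.2 i)
  · intro z
    have hz : ∀ i, ∃ x : R × (q i).primeCompl,
        z i * algebraMap R (Localization.AtPrime (q i)) x.2 =
          algebraMap R (Localization.AtPrime (q i)) x.1 :=
      fun i => IsLocalization.surj (q i).primeCompl (z i)
    choose x hx using hz
    refine ⟨(∑ j, (x j).1 * e j, ⟨∑ j, ((x j).2 : R) * e j, hnzd _ fun i => (x i).2.2⟩), ?_⟩
    funext i
    simp only [Pi.mul_apply, Pi.algebraMap_apply]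
    rw [hkey (fun j => ((x j).2 : R)) i, hkey (fun j => (x j).1) i, ← mul_assoc, hx i]
  · intro x y hxy
    have hc : ∀ i, ∃ c : (q i).primeCompl, (c : R) * x = c * y := by
      intro i
      have := congrFun hxy i
      simp only [Pi.algebraMap_apply] at this
      exact IsLocalization.exists_of_eq (M := (q i).primeCompl) this
    choose c hc using hc
    refine ⟨⟨∑ j, (c j : R) * e j, hnzd _ fun i => (c i).2⟩, ?_⟩
    simp only
    rw [Finset.sum_mul, Finset.sum_mul]
    refine Finset.sum_congr rfl fun j _ => ?_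
    rw [mul_right_comm, hc j, mul_right_comm]


/-- Let R be a ring with finitely many minimal primes q₁, …, q_t, and assume that the zerodivisors of R
are precisely the elements of q₁ ∪ … ∪ q_t. Then Q(R), the total ring of fractions of R, equals
R_{q₁} × … × R_{q_t}: the diagonal map R → ∏ R_{q_i} is a localization of R at its non-zerodivisors. -/
theorem result {R : Type u} [CommRing R] {ι : Type} [Fintype ι] (q : ι → Ideal R) [∀ i, (q i).IsPrime] (hinj : Function.Injective q) (hmin : ∀ P : Ideal R, P ∈ minimalPrimes R ↔ P ∈ Set.range q) (hzd : ∀ x : R, x ∈ nonZeroDivisors R ↔ ∀ i, x ∉ q i) : IsLocalization (nonZeroDivisors R) (∀ i, Localization.AtPrime (q i)) := by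
  exact result' q hinj hmin hzd

end Groth.Agent.S6294
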