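import Groth.Statements.S6297
import Mathlib

set_option autoImplicit false
universe u
open CAlg

namespace Groth.Agent.S6297

open Matrix in
/-- Row-multilinear expansion of a minor of a product (a weak form of Cauchy-Binet);
same statement as `Groth.Agent.S6575.det_mul_submatrix` (helper42), reproved here to keep this
file self-contained. -/
theorem det_mul_submatrix {R : Type*} [CommRing R] {l m n r : ℕ} (a : Matrix (Fin l) (Fin m) R)
    (J : Matrix (Fin m) (Fin n) R) (ρ : Fin r → Fin l) (γ : Fin r → Fin n) :
    ((a * J).submatrix ρ γ).det =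
      ∑ σ : Fin r → Fin m, (∏ i, a (ρ i) (σ i)) * (J.submatrix σ γ).det := by
  have h : (a * J).submatrix ρ γ =
      Matrix.of (fun i => ∑ j, a (ρ i) j • (fun c => J j (γ c))) := by
    ext i c
    simp [Matrix.mul_apply, Finset.sum_apply]
  rw [h]
  change Matrix.detRowAlternating.toMultilinearMap
    (fun i => ∑ j, a (ρ i) j • (fun c => J j (γ c))) = _
  rw [MultilinearMap.map_sum]
  refine Finset.sum_congr rfl fun σ _ => ?_
  rw [MultilinearMap.map_smul_univ]
  rfl

/-- Let R be a ring, m ≤ n, A an n × m matrix over R and J the ideal generated by the m × m minors of A.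
(1) For every f ∈ J there is an m × n matrix B with BA = f · 1. (2) If BA = f · 1 for some m × n
matrix B, then f^m ∈ J. -/
theorem result {R : Type u} [CommRing R] {n m : ℕ} (hmn : m ≤ n) (A : Matrix (Fin n) (Fin m) R) : (∀ f ∈ CAlgX.minorIdeal A m, ∃ B : Matrix (Fin m) (Fin n) R, B * A = f • (1 : Matrix (Fin m) (Fin m) R)) ∧ (∀ (f : R) (B : Matrix (Fin m) (Fin n) R), B * A = f • (1 : Matrix (Fin m) (Fin m) R) → f ^ m ∈ CAlgX.minorIdeal A m) := by
  classical
  constructor
  · intro f hf
    unfold CAlgX.minorIdeal at hf
    induction hf using Submodule.span_induction with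
    | mem x hx =>
      obtain ⟨⟨g, h⟩, rfl⟩ := hx
      let A' : Matrix (Fin m) (Fin m) R := A.submatrix g id
      let P : Matrix (Fin m) (Fin n) R := Matrix.of fun i j => if j = g i then 1 else 0
      have hPA : P * A = A' := by
        ext i j
        simp [P, A', Matrix.mul_apply]
      have hc : ∃ c : R, (A.submatrix g h).det = c * A'.det := by
        by_cases hh : Function.Bijective h
        · let σ : Equiv.Perm (Fin m) := Equiv.ofBijective h hh
          refine ⟨((Equiv.Perm.sign σ : ℤˣ) : ℤ), ?_⟩
          have := Matrix.det_permute' σ A'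
          rw [← this]
          rfl
        · refine ⟨0, ?_⟩
          rw [zero_mul]
          have hni : ¬ Function.Injective h := fun hi => hh (Finite.injective_iff_bijective.mp hi)
          rw [Function.Injective] at hni
          push Not at hni
          obtain ⟨i, j, hij, hne⟩ := hni
          exact Matrix.det_zero_of_column_eq hne (fun k => by simp [hij])
      obtain ⟨c, hc⟩ := hc
      refine ⟨c • (A'.adjugate * P), ?_⟩
      show c • (A'.adjugate * P) * A = (A.submatrix g h).det • (1 : Matrix (Fin m) (Fin m) R)
      rw [Matrix.smul_mul, Matrix.mul_assoc, hPA, Matrix.adjugate_mul, hc, smul_smul]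
    | zero => exact ⟨0, by simp⟩
    | add x y _ _ hx hy =>
      obtain ⟨B1, h1⟩ := hx
      obtain ⟨B2, h2⟩ := hy
      exact ⟨B1 + B2, by rw [Matrix.add_mul, h1, h2, add_smul]⟩
    | smul a x _ hx =>
      obtain ⟨B1, h1⟩ := hx
      exact ⟨a • B1, by rw [Matrix.smul_mul, h1, smul_smul]; rfl⟩
  · intro f B hBA
    have hdet : (B * A).det = f ^ m := by
      rw [hBA, Matrix.det_smul, Matrix.det_one, mul_one, Fintype.card_fin]
    rw [← hdet]
    have := det_mul_submatrix B A id id
    rw [Matrix.submatrix_id_id] at this
    rw [this]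
    apply Ideal.sum_mem
    intro σ _
    apply Ideal.mul_mem_left
    exact Ideal.subset_span ⟨(σ, id), rfl⟩

end Groth.Agent.S6297
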