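import Groth.Statements.S6298
import Mathlib.RingTheory.Ideal.Operations

set_option autoImplicit false
universe u
open CAlg

namespace Groth.Agent.S6298

/-- Let R be a ring, x ∈ R, I ⊆ R an ideal and p₁, …, p_r prime ideals such that for each i the coset x
+ I is not contained in p_i. Then there is y ∈ I with x + y ∉ p_i for all i. -/
theorem result {R : Type u} [CommRing R] (x : R) (I : Ideal R) {r : ℕ} (p : Fin r → Ideal R) [∀ i, (p i).IsPrime] (h : ∀ i, ∃ y ∈ I, x + y ∉ p i) : ∃ y ∈ I, ∀ i, x + y ∉ p i := by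
  classical
  rcases isEmpty_or_nonempty (Fin r) with hr | ⟨⟨a₀⟩⟩
  · exact ⟨0, I.zero_mem, fun i => isEmptyElim i⟩
  let T₀ : Finset (Fin r) := Finset.univ.filter (fun i => x ∈ p i)
  let T₁ : Finset (Fin r) := Finset.univ.filter (fun k => x ∉ p k ∧ ∀ i, x ∈ p i → ¬ p k ≤ p i)
  let K : Ideal R := I ⊓ T₁.inf p
  have hK : ¬ ((K : Set R) ⊆ ⋃ i ∈ (↑T₀ : Set (Fin r)), p i) := by
    rw [Ideal.subset_union_prime a₀ a₀ (fun i _ _ _ => inferInstance)]
    rintro ⟨i, hi, hle⟩
    have hxi : x ∈ p i := (Finset.mem_filter.1 hi).2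
    rcases (Ideal.IsPrime.inf_le inferInstance).1 hle with hI | hT
    · obtain ⟨y, hy, hxy⟩ := h i
      exact hxy ((p i).add_mem hxi (hI hy))
    · obtain ⟨k, hk, hki⟩ := (Ideal.IsPrime.inf_le' inferInstance).1 hT
      exact (Finset.mem_filter.1 hk).2.2 i hxi hki
  obtain ⟨y, hyK, hy⟩ := Set.not_subset.1 hK
  refine ⟨y, hyK.1, fun i hxy => ?_⟩
  by_cases hxi : x ∈ p i
  · apply hy
    refine Set.mem_biUnion (x := i) (Finset.mem_coe.2 (Finset.mem_filter.2 ⟨Finset.mem_univ _, hxi⟩)) ?_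
    have : y = (x + y) - x := by ring
    rw [this]
    exact (p i).sub_mem hxy hxi
  · by_cases hk : ∀ j, x ∈ p j → ¬ p i ≤ p j
    · have hiT : i ∈ T₁ := Finset.mem_filter.2 ⟨Finset.mem_univ _, hxi, hk⟩
      have hyi : y ∈ p i := (Finset.inf_le hiT : T₁.inf p ≤ p i) hyK.2
      apply hxi
      have : x = (x + y) - y := by ring
      rw [this]
      exact (p i).sub_mem hxy hyi
    · push Not at hk
      obtain ⟨j, hxj, hij⟩ := hk
      apply hy
      refine Set.mem_biUnion (x := j) (Finset.mem_coe.2 (Finset.mem_filter.2 ⟨Finset.mem_univ _, hxj⟩)) ?_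
      have : y = (x + y) - x := by ring
      rw [this]
      exact (p j).sub_mem (hij hxy) hxj

end Groth.Agent.S6298
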