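import Groth.Statements.S6300
import Mathlib

set_option autoImplicit false
universe u
open CAlg

namespace Groth.Agent.S6300

open Polynomial in
attribute [local instance] Polynomial.algebra in
/-- Let R be a normal ring (every localization at a prime is an integrally closed domain). Then R[x] is
a normal ring. -/
theorem result (R : Type u) [CommRing R] (hR : EGA4.IsNormalRing R) : EGA4.IsNormalRing (Polynomial R) := by
  intro P hP
  let p : Ideal R := P.comap (C : R →+* R[X])
  have hp : p.IsPrime := Ideal.comap_isPrime _ _
  obtain ⟨hdom, hic⟩ := hR p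
  let Rp := Localization.AtPrime p
  let S := Rp[X]
  let T := Localization.AtPrime P
  let M : Submonoid R[X] := p.primeCompl.map (C : R →+* R[X])
  have hloc : IsLocalization M S := Polynomial.isLocalization p.primeCompl Rp
  have hle : M ≤ P.primeCompl := by
    rintro _ ⟨r, hr, rfl⟩
    exact hr
  have hunits : ∀ y : M, IsUnit (algebraMap R[X] T y) := fun y =>
    IsLocalization.map_units T (⟨y.1, hle y.2⟩ : P.primeCompl)
  let g : S →+* T := IsLocalization.lift (M := M) (g := algebraMap R[X] T) hunits
  let _ : Algebra S T := g.toAlgebra
  have htower : IsScalarTower R[X] S T :=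
    IsScalarTower.of_algebraMap_eq' (IsLocalization.lift_comp hunits).symm
  have hlocT : IsLocalization (P.primeCompl.map (algebraMap R[X] S)) T :=
    IsLocalization.isLocalization_of_submonoid_le S T M P.primeCompl hle
  have hN : P.primeCompl.map (algebraMap R[X] S) ≤ nonZeroDivisors S := by
    rintro _ ⟨f, hf, rfl⟩
    apply mem_nonZeroDivisors_of_ne_zero
    intro h0
    have hu : IsUnit (algebraMap R[X] T f) := IsLocalization.map_units T (⟨f, hf⟩ : P.primeCompl)
    rw [IsScalarTower.algebraMap_apply R[X] S T, h0, map_zero] at hu
    exact not_isUnit_zero hu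
  exact ⟨IsLocalization.isDomain_of_le_nonZeroDivisors (S := T) (R := S) hN,
    isIntegrallyClosed_of_isLocalization T _ hN⟩

end Groth.Agent.S6300
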