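import Groth.Statements.S6301
import Mathlib

set_option autoImplicit false
universe u
open CAlg

namespace Groth.Agent.S6301

/-- An R-module M is flat exactly when, for every finitely presented R-module P and every surjective
R-module map N → M, the induced map Hom_R(P, N) → Hom_R(P, M) is surjective (modules P, N taken in
the same universe). -/
theorem result {R : Type u} [CommRing R] (M : Type u) [AddCommGroup M] [Module R M] : Module.Flat R M ↔ ∀ (P : Type u) [AddCommGroup P] [Module R P], Module.FinitePresentation R P → ∀ (N : Type u) [AddCommGroup N] [Module R N] (g : N →ₗ[R] M), Function.Surjective g → ∀ h : P →ₗ[R] M, ∃ h' : P →ₗ[R] N, g.comp h' = h := by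
  classical
  constructor
  · intro hM P _ _ hP N _ _ g hg h
    obtain ⟨k, h₂, h₃, rfl⟩ := Module.Flat.exists_factorization_of_finitePresentation h
    obtain ⟨h₃', hh⟩ := Module.projective_lifting_property g h₃ hg
    exact ⟨h₃' ∘ₗ h₂, by rw [← LinearMap.comp_assoc, hh]⟩
  · intro H
    apply Module.Flat.of_forall_isTrivialRelation
    intro l f x hfx
    -- the finitely presented module `R^l / (f)`
    let K : Submodule R (Fin l → R) := Submodule.span R {f}
    have hP : Module.FinitePresentation R ((Fin l → R) ⧸ K) := by
      apply Module.finitePresentation_of_free_of_surjective K.mkQ K.mkQ_surjective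
      rw [Submodule.ker_mkQ]
      exact Submodule.fg_span_singleton f
    have hK : K ≤ LinearMap.ker (Fintype.linearCombination R x) := by
      rw [Submodule.span_le]
      intro y hy
      rw [Set.mem_singleton_iff] at hy
      subst hy
      simpa [Fintype.linearCombination_apply] using hfx
    let h : ((Fin l → R) ⧸ K) →ₗ[R] M := K.liftQ (Fintype.linearCombination R x) hK
    let g : (M →₀ R) →ₗ[R] M := Finsupp.linearCombination R id
    have hg : Function.Surjective g := Finsupp.linearCombination_id_surjective R M
    obtain ⟨h', hh'⟩ := H _ hP (M →₀ R) g hg h
    let n : Fin l → (M →₀ R) := fun i => h' (K.mkQ (Pi.single i 1))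
    let s : Finset M := Finset.univ.biUnion fun i => (n i).support
    let e : Fin s.card ≃ s := s.equivFin.symm
    refine ⟨s.card, fun i j => n i (e j), fun j => (e j : M), ?_, ?_⟩
    · intro i
      have h1 : x i = g (n i) := by
        have := LinearMap.congr_fun hh' (K.mkQ (Pi.single i 1))
        simp only [LinearMap.comp_apply] at this
        rw [this]
        simp [h, Fintype.linearCombination_apply]
      rw [h1]
      show Finsupp.linearCombination R id (n i) = _
      rw [Finsupp.linearCombination_apply, Finsupp.sum]
      have hsub : (n i).support ⊆ s := Finset.subset_biUnion_of_mem (fun i => (n i).support) (Finset.mem_univ i)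
      rw [Finset.sum_subset hsub]
      · rw [← Finset.sum_coe_sort s, ← e.sum_comp]
        rfl
      · intro m _ hm
        rw [Finsupp.notMem_support_iff] at hm
        simp [hm]
    · intro j
      have h2 : ∑ i, f i • n i = 0 := by
        have : ∑ i, f i • n i = h' (K.mkQ (∑ i, f i • Pi.single i 1)) := by
          simp [n, map_sum]
        rw [this]
        have hf : ∑ i, f i • (Pi.single i 1 : Fin l → R) = f := by
          ext j
          simp [Finset.sum_apply, Pi.single_apply]
        rw [hf]
        have : K.mkQ f = 0 := by
          rw [Submodule.mkQ_apply, Submodule.Quotient.mk_eq_zero]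
          exact Submodule.mem_span_singleton_self f
        rw [this, map_zero]
      have := DFunLike.congr_fun h2 (e j : M)
      simpa [Finsupp.finsetSum_apply] using this

end Groth.Agent.S6301
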