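import Groth.Statements.S6303
import Mathlib.RingTheory.Flat.Basic
import Mathlib.LinearAlgebra.TensorProduct.Quotient
import Mathlib.LinearAlgebra.TensorProduct.RightExactness

set_option autoImplicit false
universe u
open CAlg

namespace Groth.Agent.S6303

/-- Let R be a ring, I, J ⊆ R ideals and M a flat R-module. Then IM ∩ JM = (I ∩ J)M. -/
theorem result {R : Type u} [CommRing R] (I J : Ideal R) (M : Type u) [AddCommGroup M] [Module R M] [Module.Flat R M] : (I • (⊤ : Submodule R M)) ⊓ (J • ⊤) = (I ⊓ J) • (⊤ : Submodule R M) := by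
  apply le_antisymm
  · rintro x ⟨hxI, hxJ⟩
    let f : I →ₗ[R] R ⧸ J := (Submodule.mkQ J) ∘ₗ I.subtype
    let μ : TensorProduct R M I →ₗ[R] M := (TensorProduct.rid R M).toLinearMap ∘ₗ I.subtype.lTensor M
    have hμ : ∀ y ∈ I • (⊤ : Submodule R M), ∃ t, μ t = y := by
      intro y hy
      refine Submodule.smul_induction_on hy ?_ ?_
      · intro a ha m _
        exact ⟨m ⊗ₜ[R] ⟨a, ha⟩, by simp [μ]⟩
      · rintro y z ⟨t, rfl⟩ ⟨s, rfl⟩
        exact ⟨t + s, map_add _ _ _⟩
    obtain ⟨t, rfl⟩ := hμ x hxI
    have hcomp : (TensorProduct.tensorQuotEquivQuotSMul M J).toLinearMap ∘ₗ f.lTensor M =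
        (J • (⊤ : Submodule R M)).mkQ ∘ₗ μ := by
      rw [show f.lTensor M = (Submodule.mkQ J).lTensor M ∘ₗ I.subtype.lTensor M from
        LinearMap.lTensor_comp _ _ _, ← LinearMap.comp_assoc,
        TensorProduct.tensorQuotEquivQuotSMul_comp_mkQ_lTensor, LinearMap.comp_assoc]
    have h0 : f.lTensor M t = 0 := by
      apply (TensorProduct.tensorQuotEquivQuotSMul M J).injective
      rw [map_zero]
      have := congrArg (fun l => l t) hcomp
      simp only [LinearMap.comp_apply, LinearEquiv.coe_coe] at this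
      rw [this, Submodule.mkQ_apply, Submodule.Quotient.mk_eq_zero]
      exact hxJ
    have hex : Function.Exact ((LinearMap.ker f).subtype.lTensor M) (f.lTensor M) :=
      Module.Flat.lTensor_exact M (LinearMap.exact_subtype_ker_map f)
    obtain ⟨s, rfl⟩ := (hex t).1 h0
    clear h0 hxI hxJ
    induction s using TensorProduct.induction_on with
    | zero => simp
    | add a b ha hb =>
      rw [map_add, map_add]
      exact Submodule.add_mem _ ha hb
    | tmul m k =>
      have hk : (k.1 : R) ∈ I ⊓ J := by
        refine ⟨k.1.2, ?_⟩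
        have h1 : f k.1 = 0 := LinearMap.mem_ker.1 k.2
        have h2 : f k.1 = Submodule.Quotient.mk (k.1 : R) := rfl
        rw [h2, Submodule.Quotient.mk_eq_zero] at h1
        exact h1
      have : μ ((LinearMap.ker f).subtype.lTensor M (m ⊗ₜ[R] k)) = (k.1 : R) • m := by
        simp [μ]
      rw [this]
      exact Submodule.smul_mem_smul hk trivial
  · exact le_inf (Submodule.smul_mono_left inf_le_left) (Submodule.smul_mono_left inf_le_right)

end Groth.Agent.S6303
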