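import Groth.Statements.S6304
import Mathlib.RingTheory.Flat.Equalizer
import Mathlib.LinearAlgebra.TensorProduct.RightExactness

set_option autoImplicit false
universe u
open CAlg

namespace Groth.Agent.S6304

/-- In a short exact sequence 0 → M' → M → M'' → 0 of R-modules whose right-hand term M'' is flat, the
middle term M is flat when M' is, and M' is flat when M is. -/
theorem result {R : Type u} [CommRing R] {M' M M'' : Type u} [AddCommGroup M'] [Module R M'] [AddCommGroup M] [Module R M] [AddCommGroup M''] [Module R M''] (f : M' →ₗ[R] M) (g : M →ₗ[R] M'') (hf : Function.Injective f) (hexact : Function.Exact f g) (hg : Function.Surjective g) [Module.Flat R M''] : (Module.Flat R M' → Module.Flat R M) ∧ (Module.Flat R M → Module.Flat R M') := by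
  constructor
  · intro hM'
    rw [Module.Flat.iff_rTensor_preserves_injective_linearMap]
    intro A' A _ _ _ _ ι hι
    have ha : Function.Injective (ι.rTensor M') :=
      Module.Flat.rTensor_preserves_injective_linearMap ι hι
    have hc : Function.Injective (ι.rTensor M'') :=
      Module.Flat.rTensor_preserves_injective_linearMap ι hι
    have hfA : Function.Injective (f.lTensor A) :=
      LinearMap.lTensor_injective_of_exact_of_flat g hg f hf hexact A
    have hex : Function.Exact (f.lTensor A') (g.lTensor A') := lTensor_exact A' hexact hg
    rw [injective_iff_map_eq_zero]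
    intro x hx
    have h1 : ι.rTensor M'' (g.lTensor A' x) = 0 := by
      rw [← LinearMap.comp_apply, LinearMap.rTensor_comp_lTensor, ← LinearMap.lTensor_comp_rTensor,
        LinearMap.comp_apply, hx, map_zero]
    have h2 : g.lTensor A' x = 0 := by
      apply hc
      rw [h1, map_zero]
    obtain ⟨y, rfl⟩ := (hex x).1 h2
    have h3 : f.lTensor A (ι.rTensor M' y) = 0 := by
      rw [← LinearMap.comp_apply, LinearMap.lTensor_comp_rTensor, ← LinearMap.rTensor_comp_lTensor,
        LinearMap.comp_apply, hx]
    have h4 : ι.rTensor M' y = 0 := by
      apply hfA
      rw [h3, map_zero]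
    have h5 : y = 0 := by
      apply ha
      rw [h4, map_zero]
    rw [h5, map_zero]
  · intro hM
    rw [Module.Flat.iff_rTensor_preserves_injective_linearMap]
    intro A' A _ _ _ _ ι hι
    have hb : Function.Injective (ι.rTensor M) :=
      Module.Flat.rTensor_preserves_injective_linearMap ι hι
    have hfA' : Function.Injective (f.lTensor A') :=
      LinearMap.lTensor_injective_of_exact_of_flat g hg f hf hexact A'
    have hcomp : Function.Injective ((f.lTensor A) ∘ₗ (ι.rTensor M')) := by
      rw [LinearMap.lTensor_comp_rTensor, ← LinearMap.rTensor_comp_lTensor]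
      exact hb.comp hfA'
    rw [LinearMap.coe_comp] at hcomp
    exact Function.Injective.of_comp hcomp

end Groth.Agent.S6304
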