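import Groth.Statements.S6308
import Mathlib.RingTheory.Support
import Mathlib.RingTheory.LocalRing.Module
import Mathlib.Algebra.Module.LocalizedModule.Submodule

set_option autoImplicit false
universe u
open scoped TensorProduct
open CAlg

namespace Groth.Agent.S6308

open TensorProduct in
/-- `φ ⊗ K` is surjective iff `K ⊗ coker φ` is trivial. -/
theorem lTensor_surjective_iff {R : Type u} [CommRing R] {M N : Type u} [AddCommGroup M]
    [Module R M] [AddCommGroup N] [Module R N] (φ : M →ₗ[R] N) (K : Type u) [AddCommGroup K]
    [Module R K] :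
    Function.Surjective (φ.lTensor K) ↔ Subsingleton (K ⊗[R] (N ⧸ LinearMap.range φ)) := by
  have hex : Function.Exact (φ.lTensor K) ((LinearMap.range φ).mkQ.lTensor K) :=
    lTensor_exact K (LinearMap.exact_map_mkQ_range φ) (Submodule.mkQ_surjective _)
  have hsurj : Function.Surjective ((LinearMap.range φ).mkQ.lTensor K) :=
    LinearMap.lTensor_surjective K (Submodule.mkQ_surjective _)
  constructor
  · intro h
    refine ⟨fun a b => ?_⟩
    obtain ⟨a', rfl⟩ := hsurj a
    obtain ⟨b', rfl⟩ := hsurj b
    obtain ⟨a'', rfl⟩ := h a'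
    obtain ⟨b'', rfl⟩ := h b'
    rw [(hex _).mpr ⟨a'', rfl⟩, (hex _).mpr ⟨b'', rfl⟩]
  · intro h y
    exact (hex y).mp (Subsingleton.elim _ _)

/-- Let R be a ring and φ : M → N a map of R-modules with N finite. For a prime p, the localization φ_p
: M_p → N_p is surjective if and only if φ ⊗ κ(p) : M ⊗ κ(p) → N ⊗ κ(p) is surjective; the set U of
such primes is open in Spec(R); and for every f ∈ R with D(f) ⊆ U the map M_f → N_f is surjective. -/
theorem result {R : Type u} [CommRing R] {M N : Type u} [AddCommGroup M] [Module R M] [AddCommGroup N] [Module R N] [Module.Finite R N] (φ : M →ₗ[R] N) : (∀ p : PrimeSpectrum R, Function.Surjective (LocalizedModule.map p.asIdeal.primeCompl φ) ↔ Function.Surjective (φ.lTensor p.asIdeal.ResidueField)) ∧ IsOpen {p : PrimeSpectrum R | Function.Surjective (LocalizedModule.map p.asIdeal.primeCompl φ)} ∧ (∀ f : R, (↑(PrimeSpectrum.basicOpen f) : Set (PrimeSpectrum R)) ⊆ {p : PrimeSpectrum R | Function.Surjective (LocalizedModule.map p.asIdeal.primeCompl φ)} → Function.Surjective (LocalizedModule.map (Submonoid.powers f) φ)) := by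
  have key : ∀ p : PrimeSpectrum R, Function.Surjective (LocalizedModule.map p.asIdeal.primeCompl φ)
      ↔ p ∉ Module.support R (N ⧸ LinearMap.range φ) := by
    intro p
    rw [LinearMap.localizedMap_surjective_iff_subsingleton_localized_coker,
      Module.notMem_support_iff]
  have hset : {p : PrimeSpectrum R | Function.Surjective (LocalizedModule.map p.asIdeal.primeCompl φ)}
      = (Module.support R (N ⧸ LinearMap.range φ))ᶜ := by
    ext p
    exact key p
  refine ⟨fun p => ?_, ?_, fun f hf => ?_⟩
  · rw [key p, lTensor_surjective_iff, Module.mem_support_iff_nontrivial_residueField_tensorProduct,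
      not_nontrivial_iff_subsingleton]
  · rw [hset, Module.support_eq_zeroLocus]
    exact (PrimeSpectrum.isClosed_zeroLocus _).isOpen_compl
  · rw [LinearMap.localizedMap_surjective_iff_subsingleton_localized_coker]
    apply LocalizedModule.subsingleton_iff_support_subset.mpr
    intro p hp
    rw [hset] at hf
    by_contra hpf
    have : p ∈ (PrimeSpectrum.basicOpen f : Set (PrimeSpectrum R)) := by
      rw [PrimeSpectrum.basicOpen_eq_zeroLocus_compl]
      exact hpf
    exact hf this hp

end Groth.Agent.S6308
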