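import Groth.Statements.S6309
import Mathlib

set_option autoImplicit false
universe u
open scoped TensorProduct
open CAlg

namespace Groth.Agent.S6309

section
variable {R : Type u} [CommRing R] {P₁ P₂ : Type u} [AddCommGroup P₁] [Module R P₁]
  [AddCommGroup P₂] [Module R P₂] [Module.Finite R P₁] [Module.Projective R P₁]
  [Module.Finite R P₂] [Module.Projective R P₂]

/-- If `φ ⊗ κ(p)` is injective then `φ` has a retraction up to an element outside `p`. -/
theorem exists_retraction_of_injective (φ : P₁ →ₗ[R] P₂) (p : PrimeSpectrum R)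
    (h : Function.Injective (φ.lTensor p.asIdeal.ResidueField)) :
    ∃ (l : P₂ →ₗ[R] P₁) (s : R), s ∉ p.asIdeal ∧ l ∘ₗ φ = s • LinearMap.id := by
  set Rp := Localization.AtPrime p.asIdeal with hRp
  set S := p.asIdeal.primeCompl with hS
  set κ := p.asIdeal.ResidueField with hκ
  let φp : Rp ⊗[R] P₁ →ₗ[Rp] Rp ⊗[R] P₂ := φ.baseChange Rp
  let e₁ := TensorProduct.AlgebraTensorModule.cancelBaseChange R Rp Rp κ P₁
  let e₂ := TensorProduct.AlgebraTensorModule.cancelBaseChange R Rp Rp κ P₂
  have hsq : ∀ z : κ ⊗[Rp] (Rp ⊗[R] P₁), e₂ (φp.lTensor κ z) = φ.lTensor κ (e₁ z) := by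
    intro z
    induction z using TensorProduct.induction_on with
    | zero => simp
    | add x y hx hy => simp only [map_add, hx, hy]
    | tmul m y =>
      induction y using TensorProduct.induction_on with
      | zero => simp
      | add x y hx hy =>
        simp only [TensorProduct.tmul_add, map_add, hx, hy]
      | tmul a x =>
        rw [LinearMap.lTensor_tmul]
        change e₂ (m ⊗ₜ[Rp] (a ⊗ₜ[R] φ x)) = φ.lTensor κ (e₁ (m ⊗ₜ[Rp] (a ⊗ₜ[R] x)))
        rw [TensorProduct.AlgebraTensorModule.cancelBaseChange_tmul,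
          TensorProduct.AlgebraTensorModule.cancelBaseChange_tmul, LinearMap.lTensor_tmul]
  have hinj' : Function.Injective (φp.lTensor (IsLocalRing.ResidueField Rp)) := by
    intro z₁ z₂ hz
    apply e₁.injective
    apply h
    rw [← hsq, ← hsq]
    exact congrArg e₂ hz
  have : Module.Free Rp (Rp ⊗[R] P₂) := Module.free_of_flat_of_isLocalRing
  obtain ⟨l', hl'⟩ :=
    (IsLocalRing.split_injective_iff_lTensor_residueField_injective φp).2 hinj'
  -- descend `l'`
  let mk₁ : P₁ →ₗ[R] Rp ⊗[R] P₁ := TensorProduct.mk R Rp P₁ 1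
  let mk₂ : P₂ →ₗ[R] Rp ⊗[R] P₂ := TensorProduct.mk R Rp P₂ 1
  have : Module.FinitePresentation R P₂ := Module.finitePresentation_of_projective R P₂
  obtain ⟨ℓ, s, hℓ⟩ := Module.FinitePresentation.exists_lift_of_isLocalizedModule S mk₁
    ((l'.restrictScalars R) ∘ₗ mk₂)
  have h1 : mk₁ ∘ₗ (ℓ ∘ₗ φ) = mk₁ ∘ₗ ((s : R) • LinearMap.id) := by
    ext x
    have h2 := LinearMap.congr_fun hℓ (φ x)
    have h3 : l' (φp (mk₁ x)) = mk₁ x := LinearMap.congr_fun hl' (mk₁ x)
    simp only [LinearMap.comp_apply, LinearMap.smul_apply, LinearMap.id_apply,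
      LinearMap.coe_restrictScalars] at h2 ⊢
    rw [h2]
    have h4 : mk₂ (φ x) = φp (mk₁ x) := by
      simp [mk₁, mk₂, φp, LinearMap.baseChange_tmul]
    rw [h4, h3, map_smul]
    rfl
  obtain ⟨g, hg⟩ := Module.Finite.exists_smul_of_comp_eq_of_isLocalizedModule S mk₁ _ _ h1
  refine ⟨(g : R) • ℓ, (g : R) * (s : R), ?_, ?_⟩
  · exact S.mul_mem g.2 s.2
  · rw [LinearMap.smul_comp, mul_smul]
    exact hg

omit [Module.Finite R P₁] [Module.Projective R P₁] [Module.Finite R P₂]
  [Module.Projective R P₂] in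
/-- A retraction up to `s ∉ p` makes `φ ⊗ κ(p)` injective. -/
theorem injective_of_retraction (φ : P₁ →ₗ[R] P₂) (p : PrimeSpectrum R)
    (l : P₂ →ₗ[R] P₁) (s : R) (hs : s ∉ p.asIdeal) (hl : l ∘ₗ φ = s • LinearMap.id) :
    Function.Injective (φ.lTensor p.asIdeal.ResidueField) := by
  have h1 : (l.lTensor p.asIdeal.ResidueField) ∘ₗ (φ.lTensor p.asIdeal.ResidueField) =
      s • LinearMap.id := by
    rw [← LinearMap.lTensor_comp, hl, LinearMap.lTensor_smul, LinearMap.lTensor_id]
  have hs' : algebraMap R p.asIdeal.ResidueField s ≠ 0 := by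
    rw [Ne, Ideal.algebraMap_residueField_eq_zero]; exact hs
  rw [← LinearMap.ker_eq_bot, LinearMap.ker_eq_bot']
  intro z hz
  have h2 := LinearMap.congr_fun h1 z
  rw [LinearMap.comp_apply, hz, map_zero, LinearMap.smul_apply, LinearMap.id_apply,
    ← algebraMap_smul p.asIdeal.ResidueField s z] at h2
  exact (smul_eq_zero.1 h2.symm).resolve_left hs'

/-- The ideal of elements `a` such that `a • id` factors through `φ`. -/
def retrIdeal (φ : P₁ →ₗ[R] P₂) : Ideal R :=
  (LinearMap.range (LinearMap.lcomp R P₁ φ)).comap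
    (LinearMap.toSpanSingleton R (P₁ →ₗ[R] P₁) LinearMap.id)

omit [Module.Finite R P₁] [Module.Projective R P₁] [Module.Finite R P₂]
  [Module.Projective R P₂] in
theorem mem_retrIdeal (φ : P₁ →ₗ[R] P₂) (a : R) :
    a ∈ retrIdeal φ ↔ ∃ l : P₂ →ₗ[R] P₁, l ∘ₗ φ = a • LinearMap.id := by
  simp only [retrIdeal, Submodule.mem_comap, LinearMap.toSpanSingleton_apply, LinearMap.mem_range,
    LinearMap.lcomp_apply']

theorem injective_iff_notMem_zeroLocus (φ : P₁ →ₗ[R] P₂) (p : PrimeSpectrum R) :
    Function.Injective (φ.lTensor p.asIdeal.ResidueField) ↔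
      p ∉ PrimeSpectrum.zeroLocus (retrIdeal φ : Set R) := by
  rw [PrimeSpectrum.mem_zeroLocus, Set.not_subset]
  constructor
  · intro h
    obtain ⟨l, s, hs, hl⟩ := exists_retraction_of_injective φ p h
    exact ⟨s, (mem_retrIdeal φ s).2 ⟨l, hl⟩, hs⟩
  · rintro ⟨s, hs, hsp⟩
    obtain ⟨l, hl⟩ := (mem_retrIdeal φ s).1 hs
    exact injective_of_retraction φ p l s hsp hl

omit [Module.Finite R P₁] [Module.Projective R P₁] [Module.Finite R P₂]
  [Module.Projective R P₂] in
theorem mk_eq_zero_iff' {M : Type u} [AddCommGroup M] [Module R M] {S : Submonoid R} (m : M)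
    (s : S) : LocalizedModule.mk m s = 0 ↔ ∃ t : S, t • m = 0 := by
  rw [← LocalizedModule.zero_mk s, LocalizedModule.mk_eq]
  constructor
  · rintro ⟨u, hu⟩
    refine ⟨u * s, ?_⟩
    rw [mul_smul, hu, smul_zero, smul_zero]
  · rintro ⟨t, ht⟩
    refine ⟨t, ?_⟩
    rw [smul_comm, ht, smul_zero, smul_zero]

omit [Module.Finite R P₁] [Module.Projective R P₁] [Module.Finite R P₂]
  [Module.Projective R P₂] in
theorem localized_injective (φ : P₁ →ₗ[R] P₂) (S : Submonoid R) (l : P₂ →ₗ[R] P₁) (a : S)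
    (hl : l ∘ₗ φ = (a : R) • LinearMap.id) :
    Function.Injective (LocalizedModule.map S φ) := by
  rw [← LinearMap.ker_eq_bot, LinearMap.ker_eq_bot']
  intro z hz
  induction z using LocalizedModule.induction_on with
  | h x t =>
    rw [LocalizedModule.map_mk, mk_eq_zero_iff'] at hz
    obtain ⟨c, hc⟩ := hz
    rw [mk_eq_zero_iff']
    refine ⟨c * a, ?_⟩
    have h1 : l (φ x) = (a : R) • x := LinearMap.congr_fun hl x
    have h2 := congrArg l hc
    rw [Submonoid.smul_def, map_smul, h1, map_zero] at h2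
    rw [Submonoid.smul_def, Submonoid.coe_mul, mul_smul]
    exact h2

omit [Module.Finite R P₁] [Module.Projective R P₁] [Module.Finite R P₂] in
theorem localized_coker_projective (φ : P₁ →ₗ[R] P₂) (S : Submonoid R) (l : P₂ →ₗ[R] P₁) (a : S)
    (hl : l ∘ₗ φ = (a : R) • LinearMap.id) :
    Module.Projective (Localization S) (LocalizedModule S (P₂ ⧸ LinearMap.range φ)) := by
  set K := LinearMap.range φ with hK
  let e : P₂ →ₗ[R] P₂ := (a : R) • LinearMap.id - φ ∘ₗ l
  have he : ∀ y, e y = (a : R) • y - φ (l y) := fun y => rfl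
  have heK : K ≤ LinearMap.ker e := by
    rintro _ ⟨x, rfl⟩
    have h1 : l (φ x) = (a : R) • x := LinearMap.congr_fun hl x
    rw [LinearMap.mem_ker, he, h1, map_smul, sub_self]
  let ebar : (P₂ ⧸ K) →ₗ[R] P₂ := K.liftQ e heK
  have hebar : ∀ y : P₂, ebar (Submodule.Quotient.mk y) = e y := fun y => rfl
  have hmk : ∀ c : P₂ ⧸ K, K.mkQ (ebar c) = (a : R) • c := by
    intro c
    obtain ⟨y, rfl⟩ := Submodule.Quotient.mk_surjective _ c
    rw [hebar, he, Submodule.mkQ_apply, Submodule.Quotient.mk_sub]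
    have : (Submodule.Quotient.mk (φ (l y)) : P₂ ⧸ K) = 0 :=
      (Submodule.Quotient.mk_eq_zero _).2 ⟨l y, rfl⟩
    rw [this, sub_zero, Submodule.Quotient.mk_smul]
  let i : LocalizedModule S (P₂ ⧸ K) →ₗ[Localization S] LocalizedModule S P₂ :=
    (Localization.mk 1 a : Localization S) • LocalizedModule.map S ebar
  let s : LocalizedModule S P₂ →ₗ[Localization S] LocalizedModule S (P₂ ⧸ K) :=
    LocalizedModule.map S K.mkQ
  have hsi : s ∘ₗ i = LinearMap.id := by
    refine LinearMap.ext fun z => ?_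
    induction z using LocalizedModule.induction_on with
    | h c t =>
      change s ((Localization.mk 1 a : Localization S) • LocalizedModule.map S ebar
        (LocalizedModule.mk c t)) = LocalizedModule.mk c t
      rw [LocalizedModule.map_mk, LocalizedModule.mk_smul_mk, one_smul]
      change LocalizedModule.map S K.mkQ (LocalizedModule.mk (ebar c) (a * t)) = _
      rw [LocalizedModule.map_mk, hmk, ← Submonoid.smul_def,
        LocalizedModule.mk_cancel_common_left]
  exact Module.Projective.of_split i s hsi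

end

/-- Let R be a ring and φ : P₁ → P₂ a map of finite projective R-modules. The set U of primes p of R
such that φ ⊗ κ(p) is injective is open, and for every f ∈ R with D(f) ⊆ U the map (P₁)_f → (P₂)_f
is injective and Coker(φ)_f is a finite projective module over R_f. -/
theorem result {R : Type u} [CommRing R] {P₁ P₂ : Type u} [AddCommGroup P₁] [Module R P₁] [AddCommGroup P₂] [Module R P₂] [Module.Finite R P₁] [Module.Projective R P₁] [Module.Finite R P₂] [Module.Projective R P₂] (φ : P₁ →ₗ[R] P₂) : IsOpen {p : PrimeSpectrum R | Function.Injective (φ.lTensor p.asIdeal.ResidueField)} ∧ ∀ f : R, (↑(PrimeSpectrum.basicOpen f) : Set (PrimeSpectrum R)) ⊆ {p : PrimeSpectrum R | Function.Injective (φ.lTensor p.asIdeal.ResidueField)} → Function.Injective (LocalizedModule.map (Submonoid.powers f) φ) ∧ Module.Finite (Localization.Away f) (LocalizedModule (Submonoid.powers f) (P₂ ⧸ LinearMap.range φ)) ∧ Module.Projective (Localization.Away f) (LocalizedModule (Submonoid.powers f) (P₂ ⧸ LinearMap.range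 φ)) := by
  have hU : {p : PrimeSpectrum R | Function.Injective (φ.lTensor p.asIdeal.ResidueField)} =
      (PrimeSpectrum.zeroLocus (retrIdeal φ : Set R))ᶜ := by
    ext p
    rw [Set.mem_setOf_eq, Set.mem_compl_iff]
    exact injective_iff_notMem_zeroLocus φ p
  rw [hU]
  refine ⟨(PrimeSpectrum.isClosed_zeroLocus _).isOpen_compl, fun f hf => ?_⟩
  have h1 : PrimeSpectrum.zeroLocus (retrIdeal φ : Set R) ⊆
      PrimeSpectrum.zeroLocus ((Ideal.span {f} : Ideal R) : Set R) := by
    rw [PrimeSpectrum.zeroLocus_span]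
    intro p hp
    by_contra hpf
    have : p ∈ (↑(PrimeSpectrum.basicOpen f) : Set (PrimeSpectrum R)) := by
      rw [PrimeSpectrum.basicOpen_eq_zeroLocus_compl]; exact hpf
    exact hf this hp
  rw [PrimeSpectrum.zeroLocus_subset_zeroLocus_iff] at h1
  have h2 : f ∈ (retrIdeal φ).radical := h1 (Ideal.mem_span_singleton_self f)
  obtain ⟨n, hn⟩ := h2
  obtain ⟨l, hl⟩ := (mem_retrIdeal φ _).1 hn
  let a : Submonoid.powers f := ⟨f ^ n, n, rfl⟩
  exact ⟨localized_injective φ _ l a hl, inferInstance, localized_coker_projective φ _ l a hl⟩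

end Groth.Agent.S6309
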