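import Groth.Statements.S6310
import Mathlib.Algebra.Module.LocalizedModule.Submodule
import Mathlib.LinearAlgebra.Matrix.Charpoly.LinearMap
import Mathlib.RingTheory.Finiteness.Basic

set_option autoImplicit false
universe u
open CAlg

namespace Groth.Agent.S6310

/-- Let R be a ring, S ⊆ R a multiplicative subset, I ⊆ R an ideal and M a finite R-module. If x₁, …,
x_r ∈ M have images generating S⁻¹(M/IM) as an S⁻¹R-module, then there is f ∈ S + I (f = s + i with
s ∈ S, i ∈ I) such that x₁, …, x_r generate M_f as an R_f-module. -/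
theorem result {R : Type u} [CommRing R] (S : Submonoid R) (I : Ideal R) (M : Type u) [AddCommGroup M] [Module R M] [Module.Finite R M] {r : ℕ} (x : Fin r → M) (hx : Submodule.span (Localization S) (Set.range fun j => LocalizedModule.mkLinearMap S (M ⧸ (I • (⊤ : Submodule R M))) (Submodule.Quotient.mk (x j))) = ⊤) : ∃ (s : R) (i : R), s ∈ S ∧ i ∈ I ∧ Submodule.span (Localization.Away (s + i)) (Set.range fun j => LocalizedModule.mkLinearMap (Submonoid.powers (s + i)) M (x j)) = ⊤ := by
  classical
  set N' : Submodule R M := Submodule.span R (Set.range x) with hN'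
  set IM : Submodule R M := I • (⊤ : Submodule R M) with hIM
  -- Step 1: every element of `M` is moved into `N' + I M` by an element of `S`.
  have step1 : ∀ m : M, ∃ t ∈ S, t • m ∈ N' ⊔ IM := by
    intro m
    set f := LocalizedModule.mkLinearMap S (M ⧸ IM) with hf
    have h1 : (Submodule.span R (Set.range fun j => (Submodule.Quotient.mk (x j) : M ⧸ IM))).localized'
        (Localization S) S f = ⊤ := by
      rw [Submodule.localized'_span, ← hx, ← Set.range_comp]
      rfl
    have h2 : f (Submodule.Quotient.mk m) ∈ (Submodule.span R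
        (Set.range fun j => (Submodule.Quotient.mk (x j) : M ⧸ IM))).localized'
        (Localization S) S f := by
      rw [h1]; trivial
    rw [Submodule.mem_localized'] at h2
    obtain ⟨n, hn, t, hnt⟩ := h2
    rw [IsLocalizedModule.mk'_eq_iff, Submonoid.smul_def, ← map_smul,
      IsLocalizedModule.eq_iff_exists S] at hnt
    obtain ⟨u, hu⟩ := hnt
    refine ⟨(u : R) * (t : R), S.mul_mem u.2 t.2, ?_⟩
    have h3 : (Submodule.Quotient.mk (((u : R) * (t : R)) • m) : M ⧸ IM) ∈
        Submodule.span R (Set.range fun j => (Submodule.Quotient.mk (x j) : M ⧸ IM)) := by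
      rw [Submodule.Quotient.mk_smul, mul_smul]
      have : (u : R) • ((t : R) • (Submodule.Quotient.mk m : M ⧸ IM)) = (u : R) • n := hu.symm
      rw [this]
      exact Submodule.smul_mem _ _ hn
    have h4 : Submodule.span R (Set.range fun j => (Submodule.Quotient.mk (x j) : M ⧸ IM)) =
        N'.map IM.mkQ := by
      rw [hN', Submodule.map_span, ← Set.range_comp]
      rfl
    rw [h4] at h3
    obtain ⟨n', hn', hn'eq⟩ := h3
    have h5 : ((u : R) * (t : R)) • m - n' ∈ IM := by
      rw [← Submodule.Quotient.mk_eq_zero, Submodule.Quotient.mk_sub, sub_eq_zero]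
      exact hn'eq.symm
    have h6 : ((u : R) * (t : R)) • m = n' + (((u : R) * (t : R)) • m - n') := by abel
    rw [h6]
    exact Submodule.add_mem _ (Submodule.mem_sup_left hn') (Submodule.mem_sup_right h5)
  -- uniform `s₀`
  obtain ⟨gen, hgen⟩ := (Module.Finite.fg_top : (⊤ : Submodule R M).FG)
  choose t ht htm using step1
  set s₀ : R := ∏ g ∈ gen, t g with hs₀
  have hs₀S : s₀ ∈ S := Submonoid.prod_mem S (fun g _ => ht g)
  have hs₀ : ∀ m : M, s₀ • m ∈ N' ⊔ IM := by
    intro m
    have hm : m ∈ Submodule.span R (gen : Set M) := by rw [hgen]; trivial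
    refine Submodule.span_induction ?_ ?_ ?_ ?_ hm
    · intro g hg
      have hdvd : t g ∣ s₀ := Finset.dvd_prod_of_mem t hg
      obtain ⟨c, hc⟩ := hdvd
      rw [hc, mul_comm, mul_smul]
      exact Submodule.smul_mem _ _ (htm g)
    · rw [smul_zero]; exact Submodule.zero_mem _
    · intro a b _ _ ha hb
      rw [smul_add]; exact Submodule.add_mem _ ha hb
    · intro a b _ hb
      rw [smul_comm]; exact Submodule.smul_mem _ _ hb
  -- Step 2: Cayley–Hamilton on `Q = M / N'`
  set Q := M ⧸ N' with hQ
  let e : Module.End R Q := algebraMap R (Module.End R Q) s₀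
  have hrange : LinearMap.range e ≤ I • (⊤ : Submodule R Q) := by
    rintro _ ⟨q, rfl⟩
    obtain ⟨m, rfl⟩ := Submodule.Quotient.mk_surjective N' q
    have h1 : e (Submodule.Quotient.mk m) = Submodule.Quotient.mk (s₀ • m) := by
      show s₀ • (Submodule.Quotient.mk m : Q) = _
      rfl
    rw [h1]
    have h2 := hs₀ m
    rw [Submodule.mem_sup] at h2
    obtain ⟨a, ha, b, hb, hab⟩ := h2
    rw [← hab, Submodule.Quotient.mk_add, (Submodule.Quotient.mk_eq_zero N').mpr ha, zero_add]
    have h3 : (Submodule.Quotient.mk b : Q) ∈ (I • (⊤ : Submodule R M)).map N'.mkQ :=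
      ⟨b, hb, rfl⟩
    rw [Submodule.map_smul''] at h3
    exact Submodule.smul_mono le_rfl le_top h3
  obtain ⟨p, hmonic, -, hcoeff, hp⟩ :=
    LinearMap.exists_monic_and_natDegree_eq_and_coeff_mem_pow_and_aeval_eq_zero R e I hrange
  have hp' : ∀ q : Q, (p.eval s₀) • q = 0 := by
    intro q
    have h1 : Polynomial.aeval e p = algebraMap R (Module.End R Q) (p.eval s₀) := by
      show Polynomial.aeval (algebraMap R (Module.End R Q) s₀) p = _
      rw [Polynomial.aeval_algebraMap_apply_eq_algebraMap_eval]
    rw [h1] at hp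
    have := LinearMap.congr_fun hp q
    simpa using this
  -- `p.eval s₀ = s₀ ^ n + i`
  set n := p.natDegree with hn
  have heval : ∃ i ∈ I, p.eval s₀ = s₀ ^ n + i := by
    refine ⟨∑ k ∈ Finset.range n, p.coeff k * s₀ ^ k, ?_, ?_⟩
    · refine sum_mem (fun k hk => Ideal.mul_mem_right _ _ ?_)
      have hk' : k < n := Finset.mem_range.mp hk
      exact Ideal.pow_le_self (by omega) (hcoeff k)
    · rw [Polynomial.eval_eq_sum_range, Finset.sum_range_succ, ← hn]
      have : p.coeff n = 1 := hmonic
      rw [this, one_mul, add_comm]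
  obtain ⟨i, hiI, hi⟩ := heval
  refine ⟨s₀ ^ n, i, S.pow_mem hs₀S n, hiI, ?_⟩
  rw [← hi]
  set g := p.eval s₀ with hg
  have hgM : ∀ m : M, g • m ∈ N' := by
    intro m
    have := hp' (Submodule.Quotient.mk m)
    rwa [← Submodule.Quotient.mk_smul, Submodule.Quotient.mk_eq_zero] at this
  -- Step 3
  rw [eq_top_iff]
  intro y _
  induction y using LocalizedModule.induction_on with
  | h m u =>
    set F := LocalizedModule.mkLinearMap (Submonoid.powers g) M with hF
    have hgmem : g ∈ Submonoid.powers g := Submonoid.mem_powers g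
    have h1 : LocalizedModule.mk m u = LocalizedModule.mk (g • m) (⟨g, hgmem⟩ * u) := by
      rw [LocalizedModule.mk_eq]
      refine ⟨1, ?_⟩
      simp only [one_smul, Submonoid.smul_def, Submonoid.coe_mul]
      rw [smul_smul, mul_comm]
    have h2 : LocalizedModule.mk (g • m) (⟨g, hgmem⟩ * u) =
        (Localization.mk 1 (⟨g, hgmem⟩ * u)) • F (g • m) := by
      rw [hF, LocalizedModule.mkLinearMap_apply, LocalizedModule.mk_smul_mk, one_smul, mul_one]
    rw [h1, h2]
    refine Submodule.smul_mem _ _ ?_
    have h3 : N'.map F ≤ (Submodule.span (Localization.Away g)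
        (Set.range fun j => F (x j))).restrictScalars R := by
      rw [hN', Submodule.map_span, Submodule.span_le]
      rintro _ ⟨_, ⟨j, rfl⟩, rfl⟩
      exact Submodule.subset_span ⟨j, rfl⟩
    exact h3 ⟨g • m, hgM m, rfl⟩

end Groth.Agent.S6310
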