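import Groth.Statements.S6311
import Groth.Agent.Lib.KZeroSub
import Mathlib.RingTheory.LocalRing.Module
import Mathlib.Algebra.Category.ModuleCat.Basic
import Mathlib.Algebra.Homology.ShortComplex.ModuleCat

set_option autoImplicit false
universe u
open CategoryTheory
open CAlg

namespace Groth.Agent.S6311


open Groth.Agent.Lib.KZeroSub

variable {R : Type u} [CommRing R]

theorem exists_equiv_prod {M N Q : Type u} [AddCommGroup M] [AddCommGroup N] [AddCommGroup Q]
    [Module R M] [Module R N] [Module R Q] (f : M →ₗ[R] N) (g : N →ₗ[R] Q)
    (hfg : Function.Exact f g) (hf : Function.Injective f) (hg : Function.Surjective g)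
    [Module.Projective R Q] : Nonempty (N ≃ₗ[R] M × Q) := by
  obtain ⟨l, hl⟩ := Module.projective_lifting_property g LinearMap.id hg
  exact ⟨(hfg.splitSurjectiveEquiv hf ⟨l, hl⟩).1⟩

variable [IsLocalRing R]

attribute [local instance] Module.free_of_flat_of_isLocalRing

theorem finrank_of_exact {M N Q : Type u} [AddCommGroup M] [AddCommGroup N] [AddCommGroup Q]
    [Module R M] [Module R N] [Module R Q] (f : M →ₗ[R] N) (g : N →ₗ[R] Q)
    (hfg : Function.Exact f g) (hf : Function.Injective f) (hg : Function.Surjective g)
    [Module.Finite R M] [Module.Projective R M] [Module.Finite R Q] [Module.Projective R Q] :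
    Module.finrank R N = Module.finrank R M + Module.finrank R Q := by
  obtain ⟨e⟩ := exists_equiv_prod f g hfg hf hg
  rw [e.finrank_eq, Module.finrank_prod]

/-- the object property. -/
abbrev P (R : Type u) [CommRing R] : ObjectProperty (ModuleCat.{u} R) :=
  fun M => Module.Finite R M ∧ Module.Projective R M

omit [IsLocalRing R] in
theorem clSub_eq_zero_of_subsingleton (X : ModuleCat.{u} R) (hX : P R X) [Subsingleton X] :
    KZero.clSub (P R) X = 0 := by
  have hz : Limits.IsZero X := ModuleCat.isZero_of_subsingleton X
  let S : ShortComplex (ModuleCat.{u} R) := ShortComplex.mk (0 : X ⟶ X) (0 : X ⟶ X) (by simp)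
  have s : S.Splitting :=
    { r := 0
      s := 0
      f_r := hz.eq_of_src _ _
      s_g := hz.eq_of_src _ _
      id := hz.eq_of_src _ _ }
  have h := clSub_shortExact (P R) S s.shortExact hX hX hX
  change KZero.clSub (P R) X = KZero.clSub (P R) X + KZero.clSub (P R) X at h
  have h3 : KZero.clSub (P R) X =
      KZero.clSub (P R) X + KZero.clSub (P R) X - KZero.clSub (P R) X := by abel
  rw [← h] at h3
  rw [h3, sub_self]

theorem hPR : P R (ModuleCat.of R R) := ⟨inferInstanceAs (Module.Finite R R),
  inferInstanceAs (Module.Projective R R)⟩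

theorem clSub_eq (n : ℕ) : ∀ (X : ModuleCat.{u} R), P R X → Module.finrank R X = n →
    KZero.clSub (P R) X = (n : ℤ) • KZero.clSub (P R) (ModuleCat.of R R) := by
  classical
  induction n with
  | zero =>
    intro X hX hn
    have := hX.1
    have := hX.2
    have hcard : Fintype.card (Module.Free.ChooseBasisIndex R X) = 0 := by
      rw [← Module.finrank_eq_card_chooseBasisIndex, hn]
    have : IsEmpty (Module.Free.ChooseBasisIndex R X) := Fintype.card_eq_zero_iff.1 hcard
    have : Subsingleton X := (Module.Free.chooseBasis R X).repr.toEquiv.subsingleton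
    rw [clSub_eq_zero_of_subsingleton X hX]
    simp
  | succ n ih =>
    intro X hX hn
    have := hX.1
    have := hX.2
    have hcard : Fintype.card (Module.Free.ChooseBasisIndex R X) = n + 1 := by
      rw [← Module.finrank_eq_card_chooseBasisIndex, hn]
    have : Nonempty (Module.Free.ChooseBasisIndex R X) := by
      rw [← Fintype.card_pos_iff, hcard]; omega
    obtain ⟨i0⟩ := this
    set b := Module.Free.chooseBasis R X
    let φ : X →ₗ[R] R := b.coord i0
    have hφ : Function.Surjective φ := fun r => ⟨r • b i0, by simp [φ]⟩
    let K := LinearMap.ker φ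
    obtain ⟨e⟩ := exists_equiv_prod K.subtype φ (LinearMap.exact_subtype_ker_map φ)
      K.subtype_injective hφ
    have hfin : Module.Finite R (K × R) := Module.Finite.equiv e
    have hproj : Module.Projective R (K × R) := Module.Projective.of_equiv e
    have hKfin : Module.Finite R K :=
      Module.Finite.of_surjective (LinearMap.fst R K R) LinearMap.fst_surjective
    have hKproj : Module.Projective R K :=
      Module.Projective.of_split (LinearMap.inl R K R) (LinearMap.fst R K R) (by ext; simp)
    have hPK : P R (ModuleCat.of R K) := ⟨hKfin, hKproj⟩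
    have hrank : Module.finrank R X = Module.finrank R K + Module.finrank R R :=
      finrank_of_exact K.subtype φ (LinearMap.exact_subtype_ker_map φ) K.subtype_injective hφ
    have hKn : Module.finrank R (ModuleCat.of R K) = n := by
      rw [Module.finrank_self] at hrank
      change Module.finrank R K = n
      omega
    let S : ShortComplex (ModuleCat.{u} R) :=
      ShortComplex.mk (ModuleCat.ofHom K.subtype) (ModuleCat.ofHom φ) (by
        ext x
        exact x.2)
    have hS : S.ShortExact := by
      refine ShortComplex.ShortExact.mk' ?_ ?_ ?_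
      · rw [ShortComplex.ShortExact.moduleCat_exact_iff_function_exact]
        exact LinearMap.exact_subtype_ker_map φ
      · rw [ModuleCat.mono_iff_injective]; exact K.subtype_injective
      · rw [ModuleCat.epi_iff_surjective]; exact hφ
    have h := clSub_shortExact (P R) S hS hPK hX hPR
    change KZero.clSub (P R) X = KZero.clSub (P R) (ModuleCat.of R K) +
      KZero.clSub (P R) (ModuleCat.of R R) at h
    rw [h, ih _ hPK hKn]
    push_cast
    rw [add_smul, one_smul]

theorem result' (R : Type u) [CommRing R] [IsLocalRing R] :
    ∃ e : KZero.K0sub (fun M : ModuleCat.{u} R => Module.Finite R M ∧ Module.Projective R M) ≃+ ℤ,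
      e (KZero.clSub (fun M : ModuleCat.{u} R => Module.Finite R M ∧ Module.Projective R M)
        (ModuleCat.of R R)) = 1 := by
  classical
  let ψ : FreeAbelianGroup (Subtype (P R)) →+ ℤ :=
    FreeAbelianGroup.lift (fun M => (Module.finrank R M.1 : ℤ))
  have hψ : KZero.relSub (P R) ≤ ψ.ker := by
    rw [KZero.relSub, AddSubgroup.closure_le]
    rintro x ⟨S, h₁, h₂, h₃, hS, rfl⟩
    have := h₁.1
    have := h₁.2
    have := h₃.1
    have := h₃.2
    have hadd := finrank_of_exact (R := R) S.f.hom S.g.hom
      ((CategoryTheory.ShortComplex.ShortExact.moduleCat_exact_iff_function_exact S).mp hS.exact)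
      hS.moduleCat_injective_f hS.moduleCat_surjective_g
    change ψ _ = 0
    rw [map_sub, map_sub]
    simp only [ψ, FreeAbelianGroup.lift_apply_of]
    rw [hadd]
    push_cast
    ring
  let φ : KZero.K0sub (P R) →+ ℤ := QuotientAddGroup.lift (KZero.relSub (P R)) ψ hψ
  have hφcl : ∀ (X : ModuleCat.{u} R), P R X → φ (KZero.clSub (P R) X) = Module.finrank R X := by
    intro X hX
    rw [KZero.clSub, dif_pos hX]
    change ψ (FreeAbelianGroup.of ⟨X, hX⟩) = _
    simp only [ψ, FreeAbelianGroup.lift_apply_of]
  have hφR : φ (KZero.clSub (P R) (ModuleCat.of R R)) = 1 := by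
    rw [hφcl _ hPR]
    change ((Module.finrank R R : ℕ) : ℤ) = 1
    rw [Module.finrank_self]; rfl
  have hall : ∀ x : KZero.K0sub (P R), x = φ x • KZero.clSub (P R) (ModuleCat.of R R) := by
    intro x
    induction x using K0sub_induction (P R) with
    | zero => simp
    | cl X hX =>
      rw [hφcl X hX]
      exact clSub_eq _ X hX rfl
    | neg y hy =>
      rw [map_neg, neg_smul, ← hy]
    | add y z hy hz =>
      rw [map_add, add_smul, ← hy, ← hz]
  have hinj : Function.Injective φ := by
    intro x y hxy
    rw [hall x, hall y, hxy]
  have hsurj : Function.Surjective φ := by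
    intro n
    refine ⟨n • KZero.clSub (P R) (ModuleCat.of R R), ?_⟩
    rw [map_zsmul, hφR, smul_eq_mul, mul_one]
  exact ⟨AddEquiv.ofBijective φ ⟨hinj, hsurj⟩, hφR⟩


/-- Let R be a local ring. Then K₀(R), the Grothendieck group of the category of finite projective
R-modules, is isomorphic to ℤ via the rank; precisely, there is an isomorphism K₀(R) ≅ ℤ of abelian
groups sending the class [R] to 1 (such an isomorphism is then unique, K₀(R) being generated by
[R]). -/
theorem result (R : Type u) [CommRing R] [IsLocalRing R] : ∃ e : KZero.K0sub (fun M : ModuleCat.{u} R => Module.Finite R M ∧ Module.Projective R M) ≃+ ℤ, e (KZero.clSub (fun M : ModuleCat.{u} R => Module.Finite R M ∧ Module.Projective R M) (ModuleCat.of R R)) = 1 := by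
  exact result' R

end Groth.Agent.S6311
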