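import Groth.Statements.S6319
import Mathlib.RingTheory.Length
import Mathlib.RingTheory.Artinian.Module
import Mathlib.RingTheory.HopkinsLevitzki
import Mathlib.Algebra.Homology.ShortComplex.ModuleCat

set_option autoImplicit false
universe u
open CategoryTheory
open CAlg

namespace Groth.Agent.S6319

/-- Let R be an Artinian local ring. The length function defines a homomorphism of abelian groups
length_R : K'₀(R) → ℤ on the Grothendieck group of finite R-modules, sending the class of a finite
module M to its (finite) length. -/
theorem result (R : Type u) [CommRing R] [IsArtinianRing R] [IsLocalRing R] : ∃ φ : KZero.K0sub (fun M : ModuleCat.{u} R => Module.Finite R M) →+ ℤ, ∀ (M : ModuleCat.{u} R), Module.Finite R M → (φ (KZero.clSub (fun M : ModuleCat.{u} R => Module.Finite R M) M) : ℤ) = (Module.length R M).toNat := by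
  classical
  let P : CategoryTheory.ObjectProperty (ModuleCat.{u} R) := fun M => Module.Finite R M
  let ψ : FreeAbelianGroup (Subtype P) →+ ℤ :=
    FreeAbelianGroup.lift (fun M => ((Module.length R M.1).toNat : ℤ))
  have hψ : KZero.relSub P ≤ ψ.ker := by
    rw [KZero.relSub, AddSubgroup.closure_le]
    rintro x ⟨S, h₁, h₂, h₃, hS, rfl⟩
    have h₁' : Module.Finite R S.X₁ := h₁
    have h₂' : Module.Finite R S.X₂ := h₂
    have h₃' : Module.Finite R S.X₃ := h₃
    have hadd := Module.length_eq_add_of_exact (R := R) S.f.hom S.g.hom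
      hS.moduleCat_injective_f hS.moduleCat_surjective_g
      ((CategoryTheory.ShortComplex.ShortExact.moduleCat_exact_iff_function_exact S).mp hS.exact)
    have f1 : Module.length R S.X₁ ≠ ⊤ := Module.length_ne_top
    have f2 : Module.length R S.X₂ ≠ ⊤ := Module.length_ne_top
    have f3 : Module.length R S.X₃ ≠ ⊤ := Module.length_ne_top
    change ψ _ = 0
    rw [map_sub, map_sub]
    simp only [ψ, FreeAbelianGroup.lift_apply_of]
    rw [hadd, ENat.toNat_add f1 f3]
    push_cast
    ring
  refine ⟨QuotientAddGroup.lift (KZero.relSub P) ψ hψ, fun M hM => ?_⟩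
  have hM' : P M := hM
  change (QuotientAddGroup.lift (KZero.relSub P) ψ hψ) (KZero.clSub P M) = _
  rw [KZero.clSub, dif_pos hM']
  change ψ (FreeAbelianGroup.of ⟨M, hM'⟩) = _
  simp only [ψ, FreeAbelianGroup.lift_apply_of]

end Groth.Agent.S6319
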