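import Groth.Statements.S6329
import Mathlib.RingTheory.Length
import Mathlib.RingTheory.LocalRing.Length
import Mathlib.RingTheory.Localization.Module
import Mathlib.Algebra.Module.LocalizedModule.Exact
import Mathlib.RingTheory.SimpleModule.Basic
import Mathlib.RingTheory.Ideal.Colon
-- import your own Groth.Agent.* helpers here

set_option autoImplicit false
universe u
open CAlg

namespace Groth.Agent.S6329

section

variable {R : Type u} [CommRing R] (m : Ideal R) [m.IsMaximal]

/-- The length of the localization at `m`. -/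
noncomputable def L (N : Type u) [AddCommGroup N] [Module R N] : ℕ∞ :=
  Module.length (Localization.AtPrime m) (LocalizedModule m.primeCompl N)

lemma L_add {N₁ N₂ N₃ : Type u} [AddCommGroup N₁] [Module R N₁] [AddCommGroup N₂] [Module R N₂]
    [AddCommGroup N₃] [Module R N₃] (f : N₁ →ₗ[R] N₂) (g : N₂ →ₗ[R] N₃)
    (hf : Function.Injective f) (hg : Function.Surjective g) (h : Function.Exact f g) :
    L m N₂ = L m N₁ + L m N₃ :=
  Module.length_eq_add_of_exact (LocalizedModule.map m.primeCompl f)
    (LocalizedModule.map m.primeCompl g) (LocalizedModule.map_injective _ f hf)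
    (LocalizedModule.map_surjective _ g hg) (LocalizedModule.map_exact m.primeCompl f g h)

lemma L_congr {N₁ N₂ : Type u} [AddCommGroup N₁] [Module R N₁] [AddCommGroup N₂] [Module R N₂]
    (e : N₁ ≃ₗ[R] N₂) : L m N₁ = L m N₂ := by
  have h := L_add m (0 : PUnit.{u+1} →ₗ[R] N₁) e.toLinearMap (fun _ _ _ => Subsingleton.elim _ _)
    e.surjective (by
      intro x
      constructor
      · intro hx
        exact ⟨0, (e.injective (by simpa using hx)).symm⟩
      · rintro ⟨y, rfl⟩
        simp)
  have h0 : L m PUnit.{u+1} = 0 := by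
    rw [L, Module.length_eq_zero_iff]
    infer_instance
  rw [h0, zero_add] at h
  exact h

/-- The localization at `m` of `R/n` for a maximal ideal `n ≠ m` vanishes. -/
lemma L_quot_of_ne (n : Ideal R) [n.IsMaximal] (hne : n ≠ m) : L m (R ⧸ n) = 0 := by
  rw [L, Module.length_eq_zero_iff]
  obtain ⟨a, han, ham⟩ : ∃ a, a ∈ n ∧ a ∉ m := by
    by_contra hcon
    push_neg at hcon
    exact hne (Ideal.IsMaximal.eq_of_le inferInstance (Ideal.IsMaximal.ne_top inferInstance) hcon)
  constructor
  intro x y
  suffices h : ∀ z : LocalizedModule m.primeCompl (R ⧸ n), z = 0 by rw [h x, h y]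
  intro z
  induction z using LocalizedModule.induction_on with
  | _ q s =>
    rw [← LocalizedModule.zero_mk s, LocalizedModule.mk_eq]
    refine ⟨⟨a, ham⟩, ?_⟩
    obtain ⟨r, rfl⟩ := Ideal.Quotient.mk_surjective q
    rw [smul_zero, smul_zero]
    change Ideal.Quotient.mk n (a * ((s : R) * r)) = 0
    exact Ideal.Quotient.eq_zero_iff_mem.mpr (n.mul_mem_right _ han)

/-- The localization at `m` of `R/m` has length one. -/
lemma L_quot_self : L m (R ⧸ m) = 1 := by
  have hunit : ∀ s : m.primeCompl, IsUnit (algebraMap R (Module.End R (R ⧸ m)) s) := by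
    intro s
    obtain ⟨b, hb⟩ := (Ideal.Quotient.maximal_ideal_iff_isField_quotient m).mp inferInstance
      |>.mul_inv_cancel (a := Ideal.Quotient.mk m s) (by
        intro h
        exact s.2 (Ideal.Quotient.eq_zero_iff_mem.mp h))
    rw [Module.End.isUnit_iff]
    constructor
    · intro x y hxy
      have h1 : Ideal.Quotient.mk m (s : R) * x = Ideal.Quotient.mk m (s : R) * y := hxy
      calc x = b * (Ideal.Quotient.mk m (s : R) * x) := by rw [← mul_assoc, mul_comm b, hb, one_mul]
        _ = b * (Ideal.Quotient.mk m (s : R) * y) := by rw [h1]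
        _ = y := by rw [← mul_assoc, mul_comm b, hb, one_mul]
    · intro y
      refine ⟨b * y, ?_⟩
      change Ideal.Quotient.mk m (s : R) * (b * y) = y
      rw [← mul_assoc, hb, one_mul]
  have hloc : IsLocalizedModule m.primeCompl (LinearMap.id : (R ⧸ m) →ₗ[R] (R ⧸ m)) :=
    { map_units := hunit
      surj := fun y => ⟨(y, 1), one_smul _ _⟩
      exists_of_eq := fun h => ⟨1, congrArg _ h⟩ }
  let e : LocalizedModule m.primeCompl (R ⧸ m) ≃ₗ[R] (R ⧸ m) :=
    IsLocalizedModule.linearEquiv m.primeCompl (LocalizedModule.mkLinearMap m.primeCompl (R ⧸ m))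
      LinearMap.id
  rw [L, Module.length_eq_one_iff]
  have hsimpleR : IsSimpleModule R (R ⧸ m) := by
    rw [isSimpleModule_iff_quot_maximal]
    exact ⟨m, inferInstance, ⟨LinearEquiv.refl _ _⟩⟩
  have hsimple : IsSimpleModule R (LocalizedModule m.primeCompl (R ⧸ m)) :=
    IsSimpleModule.congr e
  have : Nontrivial (LocalizedModule m.primeCompl (R ⧸ m)) := IsSimpleModule.nontrivial R _
  have hnt : Nontrivial (Submodule (Localization.AtPrime m)
      (LocalizedModule m.primeCompl (R ⧸ m))) := (Submodule.nontrivial_iff _).mpr this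
  suffices hso : IsSimpleOrder (Submodule (Localization.AtPrime m)
      (LocalizedModule m.primeCompl (R ⧸ m))) from @IsSimpleModule.mk _ _ _ _ _ hso
  refine { toNontrivial := hnt, eq_bot_or_eq_top := fun N => ?_ }
  rcases eq_bot_or_eq_top (N.restrictScalars R) with h | h
  · left
    rw [eq_bot_iff]
    intro x hx
    have : x ∈ N.restrictScalars R := hx
    rw [h] at this
    exact this
  · right
    rw [eq_top_iff]
    intro x _
    have : x ∈ N.restrictScalars R := by rw [h]; trivial
    exact this

lemma L_covBy {M : Type u} [AddCommGroup M] [Module R M] {p q : Submodule R M} (h : p ⋖ q) :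
    L m q = L m p + (if p.colon (q : Set M) = m then 1 else 0) := by
  classical
  let f : p →ₗ[R] q := Submodule.inclusion h.le
  have key : IsSimpleModule R (q ⧸ LinearMap.range f) := by
    rwa [Submodule.range_inclusion, ← covBy_iff_quot_is_simple h.le]
  obtain ⟨n, hn, ⟨e⟩⟩ := isSimpleModule_iff_quot_maximal.mp key
  let g : q →ₗ[R] R ⧸ n := e.toLinearMap.comp (LinearMap.range f).mkQ
  have hf : Function.Injective f := Submodule.inclusion_injective _
  have hg : Function.Surjective g := e.surjective.comp (Submodule.mkQ_surjective _)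
  have hex : Function.Exact f g :=
    LinearMap.exact_iff.mpr ((e.ker_comp _).trans (Submodule.ker_mkQ _))
  have hmem : ∀ x : q, g x = 0 ↔ (x : M) ∈ p := by
    intro x
    rw [hex x]
    constructor
    · rintro ⟨y, rfl⟩
      exact y.2
    · intro hx
      exact ⟨⟨x, hx⟩, rfl⟩
  have hcolon : p.colon (q : Set M) = n := by
    ext r
    rw [Submodule.mem_colon]
    constructor
    · intro hr
      obtain ⟨x, hx⟩ := hg 1
      have h1 : g (r • x) = 0 := (hmem (r • x)).mpr (hr x x.2)
      rw [map_smul, hx] at h1
      have h2 : Ideal.Quotient.mk n r = 0 := by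
        rw [← h1]
        change Ideal.Quotient.mk n r = Ideal.Quotient.mk n (r * 1)
        rw [mul_one]
      exact Ideal.Quotient.eq_zero_iff_mem.mp h2
    · intro hr x hx
      have h1 : g (r • ⟨x, hx⟩) = 0 := by
        rw [map_smul]
        obtain ⟨t, ht⟩ := Ideal.Quotient.mk_surjective (g ⟨x, hx⟩)
        rw [← ht]
        change Ideal.Quotient.mk n (r * t) = 0
        exact Ideal.Quotient.eq_zero_iff_mem.mpr (n.mul_mem_right _ hr)
      exact (hmem (r • ⟨x, hx⟩)).mp h1
  rw [L_add m f g hf hg hex, hcolon]
  split_ifs with hnm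
  · subst hnm
    rw [L_quot_self]
  · haveI := hn
    rw [L_quot_of_ne m n hnm]

lemma sum_lemma : ∀ (n : ℕ) (ℓ : Fin (n + 1) → ℕ∞) (a : Fin n → ℕ∞) (_ : ℓ 0 = 0)
    (_ : ∀ i : Fin n, ℓ i.succ = ℓ i.castSucc + a i), ℓ (Fin.last n) = ∑ i, a i := by
  intro n
  induction n with
  | zero =>
    intro ℓ a h0 _
    simpa using h0
  | succ n ih =>
    intro ℓ a h0 hs
    have h1 := ih (fun i => ℓ i.castSucc) (fun i => a i.castSucc) h0 (fun i => hs i.castSucc)
    rw [Fin.sum_univ_castSucc, ← h1]
    exact hs (Fin.last n)

end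

/-- Let R be a ring, M an R-module and 0 = M₀ ⊂ M₁ ⊂ … ⊂ Mₙ = M a maximal chain of submodules (a
composition series; each Mᵢ/Mᵢ₋₁ is simple, of the form R/mᵢ with mᵢ = (Mᵢ₋₁ : Mᵢ) maximal). Then
for every maximal ideal m of R the number of indices i with mᵢ = m equals length_{R_m}(M_m). -/
theorem result {R : Type u} [CommRing R] (M : Type u) [AddCommGroup M] [Module R M] (s : CompositionSeries (Submodule R M)) (h0 : s.head = ⊥) (h1 : s.last = ⊤) (m : Ideal R) [m.IsMaximal] : ((Finset.univ.filter fun i : Fin s.length => (s i.castSucc).colon (s i.succ : Set M) = m).card : ℕ∞) = Module.length (Localization.AtPrime m) (LocalizedModule m.primeCompl M) := by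
  classical
  have key := sum_lemma s.length (fun k => L m (s k))
    (fun i => if (s i.castSucc).colon (s i.succ : Set M) = m then 1 else 0)
    (by
      change L m (s.head) = 0
      rw [h0, L, Module.length_eq_zero_iff]
      infer_instance)
    (fun i => L_covBy m (s.step i))
  have htop : L m (s (Fin.last s.length)) = L m M := by
    change L m s.last = L m M
    rw [h1]
    exact L_congr m Submodule.topEquiv
  rw [htop] at key
  change _ = L m M
  rw [key, Finset.card_filter, Nat.cast_sum]
  refine Finset.sum_congr rfl fun i _ => ?_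
  split_ifs <;> simp

end Groth.Agent.S6329
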