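import Groth.Statements.S6320
import Groth.Agent.S6329
-- import your own Groth.Agent.* helpers here

set_option autoImplicit false
universe u
open CAlg

namespace Groth.Agent.S6320

section

variable {A B : Type u} [CommRing A] [IsLocalRing A] [CommRing B] [Algebra A B]

/-- The `A`-length of `B/n` is the residue degree. -/
lemma length_quot (n : Ideal B) [n.IsMaximal]
    (hover : n.comap (algebraMap A B) = IsLocalRing.maximalIdeal A)
    (hfin : Module.Finite (A ⧸ n.comap (algebraMap A B)) (B ⧸ n)) :
    Module.length A (B ⧸ n) =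
      (Module.finrank (A ⧸ n.comap (algebraMap A B)) (B ⧸ n) : ℕ∞) := by
  have hmax : (n.comap (algebraMap A B)).IsMaximal := by
    rw [hover]; infer_instance
  letI := Ideal.Quotient.field (n.comap (algebraMap A B))
  rw [← Module.length_eq_finrank (A ⧸ n.comap (algebraMap A B)) (B ⧸ n)]
  exact Module.length_eq_of_surjective (S := A) (R := A ⧸ n.comap (algebraMap A B)) (M := B ⧸ n)
    Ideal.Quotient.mk_surjective

/-- One step of a composition series. -/
lemma covBy_step {M : Type u} [AddCommGroup M] [Module B M] [Module A M] [IsScalarTower A B M]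
    (hover : ∀ n : MaximalSpectrum B, n.asIdeal.comap (algebraMap A B) = IsLocalRing.maximalIdeal A)
    (hfin : ∀ n : MaximalSpectrum B,
      Module.Finite (A ⧸ n.asIdeal.comap (algebraMap A B)) (B ⧸ n.asIdeal))
    {p q : Submodule B M} (h : p ⋖ q) :
    ∃ n : MaximalSpectrum B, p.colon (q : Set M) = n.asIdeal ∧
      Module.length A q = Module.length A p +
        (Module.finrank (A ⧸ n.asIdeal.comap (algebraMap A B)) (B ⧸ n.asIdeal) : ℕ∞) := by
  let f : p →ₗ[B] q := Submodule.inclusion h.le
  have key : IsSimpleModule B (q ⧸ LinearMap.range f) := by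
    rwa [Submodule.range_inclusion, ← covBy_iff_quot_is_simple h.le]
  obtain ⟨n, hn, ⟨e⟩⟩ := isSimpleModule_iff_quot_maximal.mp key
  let g : q →ₗ[B] B ⧸ n := e.toLinearMap.comp (LinearMap.range f).mkQ
  have hf : Function.Injective f := Submodule.inclusion_injective _
  have hg : Function.Surjective g := e.surjective.comp (Submodule.mkQ_surjective _)
  have hex : Function.Exact f g :=
    LinearMap.exact_iff.mpr ((e.ker_comp _).trans (Submodule.ker_mkQ _))
  have hmem : ∀ x : q, g x = 0 ↔ (x : M) ∈ p := by
    intro x
    rw [hex x]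
    constructor
    · rintro ⟨y, rfl⟩
      exact y.2
    · intro hx
      exact ⟨⟨x, hx⟩, rfl⟩
  have hcolon : p.colon (q : Set M) = n := by
    ext r
    rw [Submodule.mem_colon]
    constructor
    · intro hr
      obtain ⟨x, hx⟩ := hg 1
      have h1 : g (r • x) = 0 := (hmem (r • x)).mpr (hr x x.2)
      rw [map_smul, hx] at h1
      have h2 : Ideal.Quotient.mk n r = 0 := by
        rw [← h1]
        change Ideal.Quotient.mk n r = Ideal.Quotient.mk n (r * 1)
        rw [mul_one]
      exact Ideal.Quotient.eq_zero_iff_mem.mp h2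
    · intro hr x hx
      have h1 : g (r • ⟨x, hx⟩) = 0 := by
        rw [map_smul]
        obtain ⟨t, ht⟩ := Ideal.Quotient.mk_surjective (g ⟨x, hx⟩)
        rw [← ht]
        change Ideal.Quotient.mk n (r * t) = 0
        exact Ideal.Quotient.eq_zero_iff_mem.mpr (n.mul_mem_right _ hr)
      exact (hmem (r • ⟨x, hx⟩)).mp h1
  refine ⟨⟨n, hn⟩, hcolon, ?_⟩
  rw [← length_quot n (hover ⟨n, hn⟩) (hfin ⟨n, hn⟩)]
  exact Module.length_eq_add_of_exact (f.restrictScalars A) (g.restrictScalars A) hf hg hex

end

/-- Let A be a local ring with maximal ideal m, B a semi-local ring with maximal ideals m₁, …, mₙ and A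
→ B a ring map such that each mᵢ lies over m with [κ(mᵢ) : κ(m)] finite. Then for every B-module M
of finite length, length_A(M) = Σᵢ [κ(mᵢ) : κ(m)] · length_{B_{mᵢ}}(M_{mᵢ}); in particular
length_A(M) is finite. -/
theorem result {A B : Type u} [CommRing A] [IsLocalRing A] [CommRing B] [Algebra A B] [Finite (MaximalSpectrum B)] (hover : ∀ n : MaximalSpectrum B, n.asIdeal.comap (algebraMap A B) = IsLocalRing.maximalIdeal A) (hfin : ∀ n : MaximalSpectrum B, Module.Finite (A ⧸ n.asIdeal.comap (algebraMap A B)) (B ⧸ n.asIdeal)) (M : Type u) [AddCommGroup M] [Module B M] [Module A M] [IsScalarTower A B M] (hM : IsFiniteLength B M) : Module.length A M = ∑ᶠ n : MaximalSpectrum B, (Module.finrank (A ⧸ n.asIdeal.comap (algebraMap A B)) (B ⧸ n.asIdeal) : ℕ∞) * Module.length (Localization.AtPrime n.asIdeal) (LocalizedModule n.asIdeal.primeCompl M) := by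
  classical
  obtain ⟨s, hs_bot, hs_top⟩ := isFiniteLength_iff_exists_compositionSeries.mp hM
  choose nn hcol hlen using fun i : Fin s.length => covBy_step hover hfin (M := M) (s.step i)
  have key := Groth.Agent.S6329.sum_lemma s.length (fun k => Module.length A (s k))
    (fun i => (Module.finrank (A ⧸ (nn i).asIdeal.comap (algebraMap A B)) (B ⧸ (nn i).asIdeal) : ℕ∞))
    (by
      change Module.length A (s.head) = 0
      rw [hs_bot, Module.length_eq_zero_iff]
      infer_instance)
    hlen
  have htop : Module.length A (s (Fin.last s.length)) = Module.length A M := by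
    change Module.length A s.last = Module.length A M
    rw [hs_top]
    exact Module.length_top
  rw [htop] at key
  haveI : Fintype (MaximalSpectrum B) := Fintype.ofFinite _
  rw [key, finsum_eq_sum_of_fintype]
  have hcount : ∀ n : MaximalSpectrum B,
      Module.length (Localization.AtPrime n.asIdeal) (LocalizedModule n.asIdeal.primeCompl M) =
        ((Finset.univ.filter fun i : Fin s.length => nn i = n).card : ℕ∞) := by
    intro n
    haveI := n.isMaximal
    rw [← Groth.Agent.S6329.result M s hs_bot hs_top n.asIdeal]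
    congr 2
    ext i
    simp only [Finset.mem_filter, Finset.mem_univ, true_and]
    rw [hcol i]
    exact ⟨fun h => (MaximalSpectrum.ext h), fun h => by rw [h]⟩
  simp_rw [hcount]
  rw [← Finset.sum_fiberwise (s := Finset.univ) (g := nn)]
  refine Finset.sum_congr rfl fun n _ => ?_
  rw [Finset.sum_congr rfl (g := fun _ => (Module.finrank (A ⧸ n.asIdeal.comap (algebraMap A B)) (B ⧸ n.asIdeal) : ℕ∞))]
  · rw [Finset.sum_const, nsmul_eq_mul, mul_comm]
  · intro i hi
    rw [(Finset.mem_filter.mp hi).2]

end Groth.Agent.S6320
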