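import Groth.Statements.S6321
import Groth.Agent.Lib.IndEtale
import Mathlib.RingTheory.Flat.FaithfullyFlat.Algebra

set_option autoImplicit false
universe u
open CAlg

namespace Groth.Agent.S6321


open CategoryTheory

theorem result' {R : Type u} [CommRing R] {ι : Type u} [Preorder ι] [Nonempty ι] [IsDirected ι (· ≤ ·)] (G : ι → Type u) [∀ i, CommRing (G i)] [∀ i, Algebra R (G i)] (f : ∀ i j, i ≤ j → G i →+* G j) [DirectedSystem G fun i j h => f i j h] (hcompat : ∀ i j (h : i ≤ j), (f i j h).comp (algebraMap R (G i)) = algebraMap R (G j)) (hff : ∀ i, (algebraMap R (G i)).FaithfullyFlat) (i : ι) : ((Ring.DirectLimit.of G (fun i j h => f i j h) i).comp (algebraMap R (G i))).FaithfullyFlat := by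
  classical
  set ofG := Ring.DirectLimit.of G (fun i j h => f i j h) with hofG
  set u := (ofG i).comp (algebraMap R (G i)) with hu
  have hof_f : ∀ {j k : ι} (hjk : j ≤ k) (x : G j), ofG k (f j k hjk x) = ofG j x :=
    fun hjk x => Ring.DirectLimit.of_f hjk x
  have huj : ∀ j, u = (ofG j).comp (algebraMap R (G j)) := by
    intro j
    obtain ⟨k, hik, hjk⟩ := exists_ge_ge i j
    ext r
    simp only [hu, RingHom.comp_apply]
    rw [← hof_f hik, ← hof_f hjk]
    congr 1
    rw [← RingHom.comp_apply, hcompat i k hik, ← RingHom.comp_apply, hcompat j k hjk]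
  -- flatness
  have hflat : u.Flat := by
    refine Groth.Agent.Lib.IndEtale.flat_of_filtered_system (J := ι) u (fun _ => R) G
      (fun j => algebraMap R (G j)) (fun j => (hff j).flat) (fun _ => RingHom.id R) ofG
      (fun j => by rw [RingHom.comp_id]; exact huj j)
      (fun _ => RingHom.id R) (fun {j k} g => f j k (leOfHom g))
      (fun _ => rfl) ?_ ?_ (fun r => ⟨i, r, rfl⟩) ?_ ?_
    · intro j k g
      ext x
      exact hof_f (leOfHom g) x
    · intro j k g
      rw [RingHom.comp_id]
      exact (hcompat j k (leOfHom g)).symm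
    · intro s
      exact Ring.DirectLimit.exists_of s
    · intro j x hx
      obtain ⟨k, hjk, hk⟩ := Ring.DirectLimit.of.zero_exact hx
      exact ⟨k, homOfLE hjk, hk⟩
  -- faithfulness
  let _ := u.toAlgebra
  have hflat' : Module.Flat R (Ring.DirectLimit G (fun i j h => f i j h)) := hflat
  change Module.FaithfullyFlat R (Ring.DirectLimit G (fun i j h => f i j h))
  rw [Module.FaithfullyFlat.iff_flat_and_proper_ideal]
  refine ⟨hflat', fun I hI htop => ?_⟩
  rw [Ideal.smul_top_eq_map] at htop
  have hmap : I.map u = ⊤ := by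
    have := congrArg (Submodule.restrictScalars R) (rfl : I.map u = I.map u)
    apply Submodule.restrictScalars_injective R
    rw [Submodule.restrictScalars_top]
    exact htop
  -- the ideal of elements coming from some I G_k
  let T : Ideal (Ring.DirectLimit G (fun i j h => f i j h)) :=
    { carrier := {s | ∃ k, ∃ x ∈ I.map (algebraMap R (G k)), ofG k x = s}
      add_mem' := by
        rintro a b ⟨k, x, hx, rfl⟩ ⟨l, y, hy, rfl⟩
        obtain ⟨m, hkm, hlm⟩ := exists_ge_ge k l
        refine ⟨m, f k m hkm x + f l m hlm y, add_mem ?_ ?_, by rw [map_add, hof_f, hof_f]⟩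
        · rw [← hcompat k m hkm, ← Ideal.map_map]
          exact Ideal.mem_map_of_mem _ hx
        · rw [← hcompat l m hlm, ← Ideal.map_map]
          exact Ideal.mem_map_of_mem _ hy
      zero_mem' := by
        obtain ⟨k⟩ := (inferInstance : Nonempty ι)
        exact ⟨k, 0, zero_mem _, map_zero _⟩
      smul_mem' := by
        rintro c a ⟨k, x, hx, rfl⟩
        obtain ⟨l, y, rfl⟩ := Ring.DirectLimit.exists_of c
        obtain ⟨m, hkm, hlm⟩ := exists_ge_ge k l
        refine ⟨m, f l m hlm y * f k m hkm x, Ideal.mul_mem_left _ _ ?_, by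
          rw [map_mul, hof_f, hof_f]; rfl⟩
        rw [← hcompat k m hkm, ← Ideal.map_map]
        exact Ideal.mem_map_of_mem _ hx }
  have hT : I.map u ≤ T := by
    rw [Ideal.map_le_iff_le_comap]
    intro a ha
    exact ⟨i, algebraMap R (G i) a, Ideal.mem_map_of_mem _ ha, rfl⟩
  have h1 : (1 : Ring.DirectLimit G (fun i j h => f i j h)) ∈ T := hT (hmap ▸ Submodule.mem_top)
  obtain ⟨k, x, hx, hx1⟩ := h1
  have hx2 : ofG k (x - 1) = 0 := by rw [map_sub, hx1, map_one, sub_self]
  obtain ⟨l, hkl, hl⟩ := Ring.DirectLimit.of.zero_exact hx2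
  rw [map_sub, map_one, sub_eq_zero] at hl
  have h1l : (1 : G l) ∈ I.map (algebraMap R (G l)) := by
    rw [← hl, ← hcompat k l hkl, ← Ideal.map_map]
    exact Ideal.mem_map_of_mem _ hx
  have hffl : Module.FaithfullyFlat R (G l) := RingHom.faithfullyFlat_algebraMap_iff.1 (hff l)
  have hcm := Ideal.comap_map_eq_self_of_faithfullyFlat (B := G l) I
  rw [(Ideal.eq_top_iff_one _).2 h1l, Ideal.comap_top] at hcm
  exact hI hcm.symm


/-- Let R be a ring and (Sᵢ, φᵢⱼ) a directed system of faithfully flat R-algebras whose transition maps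
are R-algebra maps. Then S = colim Sᵢ is a faithfully flat R-algebra: for any index i the composite
R → Sᵢ → S is faithfully flat. -/
theorem result {R : Type u} [CommRing R] {ι : Type u} [Preorder ι] [Nonempty ι] [IsDirected ι (· ≤ ·)] (G : ι → Type u) [∀ i, CommRing (G i)] [∀ i, Algebra R (G i)] (f : ∀ i j, i ≤ j → G i →+* G j) [DirectedSystem G fun i j h => f i j h] (hcompat : ∀ i j (h : i ≤ j), (f i j h).comp (algebraMap R (G i)) = algebraMap R (G j)) (hff : ∀ i, (algebraMap R (G i)).FaithfullyFlat) (i : ι) : ((Ring.DirectLimit.of G (fun i j h => f i j h) i).comp (algebraMap R (G i))).FaithfullyFlat := by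
  exact result' G f hcompat hff i

end Groth.Agent.S6321
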