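import Groth.Statements.S6323
import Mathlib.RingTheory.Localization.BaseChange

set_option autoImplicit false
universe u
open CAlg

namespace Groth.Agent.S6323


open TensorProduct

section
variable {A : Type u} [CommRing A] (S : Submonoid A) (As : Type u) [CommRing As] [Algebra A As]
  [IsLocalization S As]
  {M M' : Type u} [AddCommGroup M] [AddCommGroup M'] [Module As M] [Module As M']
  [Module A M] [Module A M'] [IsScalarTower A As M] [IsScalarTower A As M']

include S in
theorem forward (f : M →ₗ[As] M') (h : CAlgX.UniversallyInjective A (f.restrictScalars A)) :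
    CAlgX.UniversallyInjective As f := by
  intro Q _ _
  let _ : Module A Q := Module.compHom Q (algebraMap A As)
  have : IsScalarTower A As Q := IsScalarTower.of_compHom A As Q
  have hA := h Q
  let eM := IsLocalization.moduleTensorEquiv S As M Q
  let eM' := IsLocalization.moduleTensorEquiv S As M' Q
  have hcomm : ∀ x : M ⊗[As] Q,
      eM' ((f.rTensor Q) x) = ((f.restrictScalars A).rTensor Q) (eM x) := by
    intro x
    induction x using TensorProduct.induction_on with
    | zero => simp
    | tmul m q => rfl
    | add x y hx hy => simp only [map_add, hx, hy]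
  intro x y hxy
  apply eM.injective
  apply hA
  rw [← hcomm, ← hcomm, hxy]

theorem backward (f : M →ₗ[As] M') (h : CAlgX.UniversallyInjective As f) :
    CAlgX.UniversallyInjective A (f.restrictScalars A) := by
  intro Q _ _
  have hAs := h (As ⊗[A] Q)
  let cM := TensorProduct.AlgebraTensorModule.cancelBaseChange A As As M Q
  let cM' := TensorProduct.AlgebraTensorModule.cancelBaseChange A As As M' Q
  have hcomm : ∀ y : M ⊗[As] (As ⊗[A] Q),
      cM' ((f.rTensor (As ⊗[A] Q)) y) = ((f.restrictScalars A).rTensor Q) (cM y) := by
    intro y
    induction y using TensorProduct.induction_on with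
    | zero => simp
    | tmul m z =>
      induction z using TensorProduct.induction_on with
      | zero => simp
      | tmul a q =>
        simp [cM, cM']
      | add z w hz hw =>
        rw [TensorProduct.tmul_add, map_add, map_add, map_add, map_add, hz, hw]
    | add x y hx hy => simp only [map_add, hx, hy]
  intro x y hxy
  obtain ⟨x', rfl⟩ := cM.surjective x
  obtain ⟨y', rfl⟩ := cM.surjective y
  rw [← hcomm, ← hcomm] at hxy
  rw [hAs (cM'.injective hxy)]

end

theorem result' {A B : Type u} [CommRing A] [CommRing B] [Algebra A B] (S : Submonoid A) (S' : Submonoid B) (hSS' : ∀ s ∈ S, algebraMap A B s ∈ S') (As Bs : Type u) [CommRing As] [CommRing Bs] [Algebra A As] [IsLocalization S As] [Algebra B Bs] [IsLocalization S' Bs] [Algebra As Bs] [Algebra A Bs] [IsScalarTower A B Bs] [IsScalarTower A As Bs] {M M' : Type u} [AddCommGroup M] [AddCommGroup M'] [Module Bs M] [Module Bs M'] [Module As M] [Module As M'] [Module A M] [Module A M'] [IsScalarTower As Bs M] [IsScalarTower As Bs M'] [IsScalarTower A As M] [IsScalarTower A As M'] [IsScalarTower A Bs M] [IsScalarTower A Bs M'] (f : M →ₗ[Bs] M') : CAlgX.UniversallyInjective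 A (f.restrictScalars A) ↔ CAlgX.UniversallyInjective As (f.restrictScalars As) := by
  constructor
  · intro h
    exact forward S As (f.restrictScalars As) h
  · intro h
    exact backward As (f.restrictScalars As) h


/-- Let A → B be a ring homomorphism and S ⊆ A, S' ⊆ B multiplicative subsets with S carried into S', so
that there is an induced homomorphism S⁻¹A → (S')⁻¹B. For a linear map f : M → M' between
(S')⁻¹B-modules, f is universally injective over A (scalars restricted along A → (S')⁻¹B) precisely
when it is universally injective over S⁻¹A (scalars restricted along S⁻¹A → (S')⁻¹B). -/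
theorem result {A B : Type u} [CommRing A] [CommRing B] [Algebra A B] (S : Submonoid A) (S' : Submonoid B) (hSS' : ∀ s ∈ S, algebraMap A B s ∈ S') (As Bs : Type u) [CommRing As] [CommRing Bs] [Algebra A As] [IsLocalization S As] [Algebra B Bs] [IsLocalization S' Bs] [Algebra As Bs] [Algebra A Bs] [IsScalarTower A B Bs] [IsScalarTower A As Bs] {M M' : Type u} [AddCommGroup M] [AddCommGroup M'] [Module Bs M] [Module Bs M'] [Module As M] [Module As M'] [Module A M] [Module A M'] [IsScalarTower As Bs M] [IsScalarTower As Bs M'] [IsScalarTower A As M] [IsScalarTower A As M'] [IsScalarTower A Bs M] [IsScalarTower A Bs M'] (f : M →ₗ[Bs] M') : CAlgX.UniversallyInjective A (f.restrictScalars A) ↔ CAlgX.UniversallyInjective As (f.restrictScalars As) := by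
  exact result' S S' hSS' As Bs f

end Groth.Agent.S6323
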