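import Mathlib
import Groth.Statements.S6324

set_option autoImplicit false
universe u
open CAlg

namespace Groth.Agent.S6324

section Helpers

open Polynomial

variable {B : Type*} [CommRing B]

/-- the polynomial `X^d + ∑_{j<d} c_j X^j`. -/
noncomputable def build (d : ℕ) (c : ℕ → B) : B[X] :=
  X ^ d + ∑ j ∈ Finset.range d, monomial j (c j)

theorem degree_tail_lt (d : ℕ) (c : ℕ → B) :
    (∑ j ∈ Finset.range d, monomial j (c j)).degree < d := by
  exact (degree_sum_le _ _).trans_lt <|
    (Finset.sup_lt_iff <| WithBot.bot_lt_coe d).2 fun j hj =>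
      (degree_monomial_le _ _).trans_lt <| WithBot.coe_lt_coe.2 (Finset.mem_range.mp hj)

theorem build_monic (d : ℕ) (c : ℕ → B) : (build d c).Monic :=
  monic_X_pow_add (degree_tail_lt d c)

theorem build_natDegree [Nontrivial B] (d : ℕ) (c : ℕ → B) : (build d c).natDegree = d := by
  have h : (∑ j ∈ Finset.range d, monomial j (c j)).degree < (X ^ d : B[X]).degree := by
    rw [degree_X_pow]; exact degree_tail_lt d c
  rw [build, natDegree_add_eq_left_of_degree_lt h, natDegree_X_pow]

theorem build_coeff (d : ℕ) (c : ℕ → B) {j : ℕ} (hj : j < d) : (build d c).coeff j = c j := by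
  rw [build, coeff_add, coeff_X_pow, if_neg hj.ne, zero_add, finsetSum_coeff]
  rw [Finset.sum_eq_single j]
  · rw [coeff_monomial, if_pos rfl]
  · intro i _ hij
    rw [coeff_monomial, if_neg hij]
  · intro h; exact absurd (Finset.mem_range.mpr hj) h

theorem build_eval₂ {C' : Type*} [CommRing C'] (f : B →+* C') (x : C') (d : ℕ) (c : ℕ → B) :
    eval₂ f x (build d c) = x ^ d + ∑ j ∈ Finset.range d, f (c j) * x ^ j := by
  rw [build, eval₂_add, eval₂_pow, eval₂_X, eval₂_finsetSum]
  congr 1
  refine Finset.sum_congr rfl (fun j _ => ?_)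
  rw [eval₂_monomial]

end Helpers

/-- Let R → S be a ring map, I ⊆ R an ideal and A = Σ Iⁿtⁿ ⊆ R[t] the Rees algebra of I. For s ∈ S,
being integral over I is equivalent to s·t ∈ S[t] being integral over A (via A ⊆ R[t] → S[t]). -/
theorem result {R S : Type u} [CommRing R] [CommRing S] [Algebra R S] (I : Ideal R) (s : S) : W4stkalgebra1.IsIntegralOverIdeal I s ↔ ((Polynomial.mapRingHom (algebraMap R S)).comp (reesAlgebra I).val.toRingHom).IsIntegralElem (Polynomial.C s * Polynomial.X) := by
  classical
  set φ := (Polynomial.mapRingHom (algebraMap R S)).comp (reesAlgebra I).val.toRingHom with hφ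
  have hφ_apply : ∀ b : reesAlgebra I, φ b = Polynomial.map (algebraMap R S) (b : Polynomial R) :=
    fun b => rfl
  have hpow : ∀ j : ℕ, (Polynomial.C s * Polynomial.X : Polynomial S) ^ j =
      Polynomial.C (s ^ j) * Polynomial.X ^ j := by
    intro j; rw [mul_pow, Polynomial.C_pow]
  constructor
  · rintro ⟨p, hmon, hcoef, heval⟩
    set d := p.natDegree with hd
    let c : ℕ → reesAlgebra I := fun j =>
      if h : j < d then ⟨Polynomial.monomial (d - j) (p.coeff j),
        reesAlgebra.monomial_mem.mpr (hcoef j h)⟩ else 0
    refine ⟨build d c, build_monic d c, ?_⟩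
    rw [build_eval₂]
    have hterm : ∀ j ∈ Finset.range d, φ (c j) * (Polynomial.C s * Polynomial.X) ^ j =
        Polynomial.C (algebraMap R S (p.coeff j) * s ^ j) * Polynomial.X ^ d := by
      intro j hj
      have hj' : j < d := Finset.mem_range.mp hj
      have hcj : ((c j : reesAlgebra I) : Polynomial R) = Polynomial.monomial (d - j) (p.coeff j) := by
        simp only [c, dif_pos hj']
      rw [hφ_apply, hcj, Polynomial.map_monomial, hpow, ← Polynomial.C_mul_X_pow_eq_monomial]
      have : d = (d - j) + j := (Nat.sub_add_cancel hj'.le).symm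
      conv_rhs => rw [this, pow_add, Polynomial.C_mul]
      ring
    rw [Finset.sum_congr rfl hterm, hpow, ← Finset.sum_mul, ← add_mul, ← map_sum, ← map_add]
    have : s ^ d + ∑ j ∈ Finset.range d, algebraMap R S (p.coeff j) * s ^ j =
        Polynomial.eval₂ (algebraMap R S) s p := by
      rw [Polynomial.eval₂_eq_sum_range, Finset.sum_range_succ, ← hd, hmon.coeff_natDegree,
        map_one, one_mul, add_comm]
    rw [this, heval, map_zero, zero_mul]
  · rintro ⟨P, hP, heval⟩
    rcases subsingleton_or_nontrivial R with hR | hR
    · have hS : Subsingleton S := by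
        refine ⟨fun a b => ?_⟩
        have h1 : (1 : S) = 0 := by
          rw [← map_one (algebraMap R S), Subsingleton.elim (1 : R) 0, map_zero]
        rw [← mul_one a, ← mul_one b, h1, mul_zero, mul_zero]
      refine ⟨1, Polynomial.monic_one, ?_, Subsingleton.elim _ _⟩
      intro j hj
      simp at hj
    set d := P.natDegree with hd
    let c : ℕ → R := fun j => ((P.coeff j : reesAlgebra I) : Polynomial R).coeff (d - j)
    have hcd : c d = 1 := by
      simp only [c]
      rw [hd, hP.coeff_natDegree, Nat.sub_self]
      simp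
    refine ⟨build d c, build_monic d c, ?_, ?_⟩
    · intro j hj
      rw [build_natDegree] at hj ⊢
      rw [build_coeff d c hj]
      exact (P.coeff j).2 (d - j)
    · rw [build_eval₂]
      have h0 := congrArg (fun q : Polynomial S => q.coeff d) heval
      simp only [Polynomial.coeff_zero] at h0
      rw [Polynomial.eval₂_eq_sum_range, Polynomial.finsetSum_coeff] at h0
      have hterm : ∀ j ∈ Finset.range (P.natDegree + 1),
          (φ (P.coeff j) * (Polynomial.C s * Polynomial.X) ^ j).coeff d =
            algebraMap R S (c j) * s ^ j := by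
        intro j hj
        have hj' : j ≤ d := Nat.lt_succ_iff.mp (Finset.mem_range.mp hj)
        rw [hφ_apply, hpow]
        have : Polynomial.map (algebraMap R S) ((P.coeff j : reesAlgebra I) : Polynomial R) *
            (Polynomial.C (s ^ j) * Polynomial.X ^ j) =
            (Polynomial.C (s ^ j) * Polynomial.map (algebraMap R S)
              ((P.coeff j : reesAlgebra I) : Polynomial R)) * Polynomial.X ^ j := by ring
        rw [this]
        conv_lhs => rw [← Nat.sub_add_cancel hj']
        rw [Polynomial.coeff_mul_X_pow, Polynomial.coeff_C_mul, Polynomial.coeff_map, mul_comm]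
      rw [Finset.sum_congr rfl hterm, ← hd, Finset.sum_range_succ, hcd, map_one, one_mul] at h0
      rw [add_comm]
      exact h0

end Groth.Agent.S6324
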