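import Mathlib
import Groth.Agent.S6324
import Groth.Statements.S6325

set_option autoImplicit false
universe u
open CAlg

namespace Groth.Agent.S6325

section Helpers
end Helpers

/-- Let R → S be a ring map and I ⊆ R an ideal. The elements of S integral over I form an R-submodule of
S; moreover, the product s s' is integral over I for any s ∈ S integral over R and any s' ∈ S
integral over I. -/
theorem result {R S : Type u} [CommRing R] [CommRing S] [Algebra R S] (I : Ideal R) : (∃ N : Submodule R S, ∀ s : S, s ∈ N ↔ W4stkalgebra1.IsIntegralOverIdeal I s) ∧ (∀ s s' : S, IsIntegral R s → W4stkalgebra1.IsIntegralOverIdeal I s' → W4stkalgebra1.IsIntegralOverIdeal I (s * s')) := by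
  set φ := (Polynomial.mapRingHom (algebraMap R S)).comp (reesAlgebra I).val.toRingHom with hφ
  have key : ∀ s : S, W4stkalgebra1.IsIntegralOverIdeal I s ↔
      φ.IsIntegralElem (Polynomial.C s * Polynomial.X) := fun s => Groth.Agent.S6324.result I s
  have hcomp : φ.comp (algebraMap R (reesAlgebra I)) = (Polynomial.C : S →+* Polynomial S).comp (algebraMap R S) := by
    refine RingHom.ext (fun r => ?_)
    show Polynomial.map (algebraMap R S) (Polynomial.C r) = Polynomial.C (algebraMap R S r)
    rw [Polynomial.map_C]
  -- constants integral over R are integral over φ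
  have hconst : ∀ s : S, IsIntegral R s → φ.IsIntegralElem (Polynomial.C s) := by
    rintro s ⟨q, hq, hqs⟩
    refine ⟨q.map (algebraMap R (reesAlgebra I)), hq.map _, ?_⟩
    rw [Polynomial.eval₂_map, hcomp, ← Polynomial.hom_eval₂, hqs, map_zero]
  have halg : ∀ r : R, φ.IsIntegralElem (Polynomial.C (algebraMap R S r)) := by
    intro r
    have : Polynomial.C (algebraMap R S r) = φ (algebraMap R (reesAlgebra I) r) := by
      have := congrArg (fun g : R →+* Polynomial S => g r) hcomp
      exact this.symm
    rw [this]
    exact φ.isIntegralElem_map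
  constructor
  · refine ⟨{ carrier := {s | W4stkalgebra1.IsIntegralOverIdeal I s}
              add_mem' := ?_
              zero_mem' := ?_
              smul_mem' := ?_ }, fun s => Iff.rfl⟩
    · intro a b ha hb
      simp only [Set.mem_ofPred_eq] at ha hb ⊢
      rw [key] at ha hb ⊢
      rw [map_add, add_mul]
      exact RingHom.IsIntegralElem.add φ ha hb
    · simp only [Set.mem_ofPred_eq]
      rw [key, map_zero, zero_mul]
      exact φ.isIntegralElem_zero
    · intro r a ha
      simp only [Set.mem_ofPred_eq] at ha ⊢
      rw [key] at ha ⊢
      rw [Algebra.smul_def, map_mul, mul_assoc]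
      exact RingHom.IsIntegralElem.mul φ (halg r) ha
  · intro s s' hs hs'
    rw [key] at hs' ⊢
    rw [map_mul, mul_assoc]
    exact RingHom.IsIntegralElem.mul φ (hconst s hs) hs'

end Groth.Agent.S6325
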