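import Groth.Statements.S6326
import Mathlib.Algebra.Colimit.Finiteness
import Mathlib.CategoryTheory.Limits.Types.Filtered
import Mathlib.CategoryTheory.Filtered.Basic
-- import your own Groth.Agent.* helpers here

set_option autoImplicit false
universe u
open CategoryTheory CategoryTheory.Limits
open CAlg

namespace Groth.Agent.S6326

section

variable (R : Type u) [CommRing R] (N : Type u) [AddCommGroup N] [Module R N]

/-- The index poset of finitely generated submodules. -/
abbrev FGSub := {N' : Submodule R N // N'.FG}

instance : Nonempty (FGSub R N) := ⟨⟨⊥, Submodule.fg_bot⟩⟩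

/-- The diagram `N' ↦ N / N'` over finitely generated submodules. -/
noncomputable def quotDiagram : FGSub R N ⥤ ModuleCat.{u} R where
  obj N' := ModuleCat.of R (N ⧸ N'.1)
  map {N' N''} f := ModuleCat.ofHom (Submodule.mapQ N'.1 N''.1 LinearMap.id (by
    intro x hx
    exact (leOfHom f) hx))
  map_id N' := by
    apply ModuleCat.hom_ext
    apply Submodule.linearMap_qext
    rfl
  map_comp f g := by
    apply ModuleCat.hom_ext
    apply Submodule.linearMap_qext
    rfl

end

/-- Let R be a ring and N an R-module such that whenever M is the colimit of a filtered diagram (Mᵢ) of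
R-modules (indexed by a filtered category in the same universe), the comparison map colim Hom_R(N,
Mᵢ) → Hom_R(N, M) is injective. Then N is finitely generated. (The implication from finite
generation back to this injectivity also holds; only the characterizing direction is stated here.) -/
theorem result (R : Type u) [CommRing R] (N : Type u) [AddCommGroup N] [Module R N] (h : ∀ (J : Type u) [SmallCategory J] [IsFiltered J] (F : J ⥤ ModuleCat.{u} R), Function.Injective (colimit.post F (coyoneda.obj (Opposite.op (ModuleCat.of R N))))) : Module.Finite R N := by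
  let J := FGSub R N
  let F := quotDiagram R N
  let G := coyoneda.obj (Opposite.op (ModuleCat.of R N))
  let b : J := ⟨⊥, Submodule.fg_bot⟩
  let π : ModuleCat.of R N ⟶ F.obj b := ModuleCat.ofHom (Submodule.mkQ (⊥ : Submodule R N))
  have hπ : π ≫ colimit.ι F b = 0 := by
    apply ModuleCat.hom_ext
    apply LinearMap.ext
    intro n
    let c : J := ⟨Submodule.span R {n}, Submodule.fg_span_singleton n⟩
    have hbc : b ≤ c := bot_le (a := (Submodule.span R {n}))
    have h1 : colimit.ι F b = F.map (homOfLE hbc) ≫ colimit.ι F c := (colimit.w F (homOfLE hbc)).symm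
    rw [h1]
    change (colimit.ι F c).hom ((F.map (homOfLE hbc)).hom (Submodule.Quotient.mk n)) = 0
    have h2 : (F.map (homOfLE hbc)).hom (Submodule.Quotient.mk n) = 0 := by
      change (Submodule.Quotient.mk n : N ⧸ Submodule.span R {n}) = 0
      exact (Submodule.Quotient.mk_eq_zero _).mpr (Submodule.mem_span_singleton_self n)
    rw [h2, map_zero]
  let z : ModuleCat.of R N ⟶ F.obj b := 0
  have key : colimit.ι (F ⋙ G) b π = colimit.ι (F ⋙ G) b z := by
    apply h J F
    have e1 : colimit.post F G (colimit.ι (F ⋙ G) b π) = G.map (colimit.ι F b) π :=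
      congrArg (fun φ => φ π) (colimit.ι_post F G b)
    have e2 : colimit.post F G (colimit.ι (F ⋙ G) b z) = G.map (colimit.ι F b) z :=
      congrArg (fun φ => φ z) (colimit.ι_post F G b)
    rw [e1, e2]
    change π ≫ colimit.ι F b = z ≫ colimit.ι F b
    rw [hπ, zero_comp]
  obtain ⟨k, f, g, hfg⟩ := (Types.FilteredColimit.colimit_eq_iff (F ⋙ G)).mp key
  have h3 : π ≫ F.map f = 0 := by
    have : π ≫ F.map f = z ≫ F.map g := hfg
    rw [this, zero_comp]
  have htop : k.1 = ⊤ := by
    rw [eq_top_iff]
    intro n _
    have h4 := congrArg (fun φ => φ.hom n) h3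
    have h5 : (Submodule.Quotient.mk n : N ⧸ k.1) = 0 := h4
    exact (Submodule.Quotient.mk_eq_zero _).mp h5
  exact ⟨htop ▸ k.2⟩

end Groth.Agent.S6326
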