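import Groth.Statements.S6327
import Groth.Agent.Lib.DirLimFP35
import Mathlib.Algebra.Category.ModuleCat.Limits
import Mathlib.CategoryTheory.Limits.Types.Filtered
import Mathlib.CategoryTheory.Filtered.Basic
-- import your own Groth.Agent.* helpers here

set_option autoImplicit false
universe u
open CategoryTheory CategoryTheory.Limits
open CAlg

namespace Groth.Agent.S6327

open Groth.Agent.Lib.DirLimFP35

/-- A retract of a finitely presented module is finitely presented. -/
lemma finitePresentation_of_retract {R : Type u} [CommRing R] {X N : Type u} [AddCommGroup X]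
    [Module R X] [AddCommGroup N] [Module R N] [Module.FinitePresentation R X]
    (l : X →ₗ[R] N) (φ : N →ₗ[R] X) (hl : ∀ n, l (φ n) = n) : Module.FinitePresentation R N := by
  refine Module.finitePresentation_of_surjective l (fun n => ⟨φ n, hl n⟩) ?_
  have hk : LinearMap.ker l = LinearMap.range (LinearMap.id - φ ∘ₗ l) := by
    ext x
    constructor
    · intro hx
      refine ⟨x, ?_⟩
      have : l x = 0 := hx
      simp [this]
    · rintro ⟨y, rfl⟩
      simp [hl]
  rw [hk]
  exact Submodule.fg_range _

/-- Let R be a ring and N an R-module such that whenever M is the colimit of a filtered diagram (Mᵢ) of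
R-modules (indexed by a filtered category in the same universe), the comparison map colim Hom_R(N,
Mᵢ) → Hom_R(N, M) is bijective. Then N is finitely presented. (The implication from finite
presentation back to this bijectivity also holds; only the characterizing direction is stated here.) -/
theorem result (R : Type u) [CommRing R] (N : Type u) [AddCommGroup N] [Module R N] (h : ∀ (J : Type u) [SmallCategory J] [IsFiltered J] (F : J ⥤ ModuleCat.{u} R), Function.Bijective (colimit.post F (coyoneda.obj (Opposite.op (ModuleCat.of R N))))) : Module.FinitePresentation R N := by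
  classical
  obtain ⟨ι, _, _, _, _, G, _, _, f, _, hfp, ⟨e⟩⟩ := main R N
  let F : ι ⥤ ModuleCat.{u} R := ModuleCat.directLimitDiagram G f
  let c := ModuleCat.directLimitCocone G f
  have hc : IsColimit c := ModuleCat.directLimitIsColimit G f
  let H := coyoneda.obj (Opposite.op (ModuleCat.of R N))
  let i : colimit F ≅ ModuleCat.of R (Module.DirectLimit G f) := colimit.isoColimitCocone ⟨c, hc⟩
  let ψ : ModuleCat.of R N ⟶ colimit F := ModuleCat.ofHom e.symm.toLinearMap ≫ i.inv
  obtain ⟨x, hx⟩ := (h ι F).2 ψ
  obtain ⟨j, φ, rfl⟩ := Types.jointly_surjective' x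
  have e1 : colimit.post F H (colimit.ι (F ⋙ H) j φ) = H.map (colimit.ι F j) φ :=
    congrArg (fun φ' => φ' φ) (colimit.ι_post F H j)
  let φ' : ModuleCat.of R N ⟶ ModuleCat.of R (G j) := φ
  let κ : ModuleCat.of R (G j) ⟶ colimit F := colimit.ι F j
  let κ' : ModuleCat.of R (G j) ⟶ ModuleCat.of R (Module.DirectLimit G f) :=
    ModuleCat.ofHom (Module.DirectLimit.of R ι G f j)
  have e2 : φ' ≫ κ = ψ := by
    rw [← hx]
    exact e1.symm
  have h7 : κ ≫ i.hom = κ' := colimit.isoColimitCocone_ι_hom ⟨c, hc⟩ j
  have e3 : φ' ≫ κ' = ModuleCat.ofHom e.symm.toLinearMap := by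
    have h6 : ψ ≫ i.hom = ModuleCat.ofHom e.symm.toLinearMap := by
      change (ModuleCat.ofHom e.symm.toLinearMap ≫ i.inv) ≫ i.hom = _
      rw [Category.assoc, Iso.inv_hom_id, Category.comp_id]
    rw [← h7, ← Category.assoc, e2, h6]
  have := hfp j
  refine finitePresentation_of_retract (e.toLinearMap ∘ₗ Module.DirectLimit.of R ι G f j) φ'.hom ?_
  intro n
  have e4 := congrArg (fun φ'' => φ''.hom n) e3
  have e5 : Module.DirectLimit.of R ι G f j (φ'.hom n) = e.symm n := e4
  simp [e5]

end Groth.Agent.S6327
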