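import Groth.Statements.S6330
import Mathlib.RingTheory.LocalRing.Module
import Mathlib.RingTheory.Support
import Mathlib.RingTheory.LocalProperties.Projective
import Mathlib.RingTheory.Localization.Finiteness
import Mathlib.RingTheory.Localization.Module
import Mathlib.Algebra.Module.LocalizedModule.Exact
import Mathlib.LinearAlgebra.TensorProduct.RightExactness

set_option autoImplicit false
universe u
open scoped TensorProduct
open CAlg

namespace Groth.Agent.S6330


theorem exists_equiv_prod {R : Type u} [CommRing R] {M N Q : Type u} [AddCommGroup M]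
    [AddCommGroup N] [AddCommGroup Q]
    [Module R M] [Module R N] [Module R Q] (f : M →ₗ[R] N) (g : N →ₗ[R] Q)
    (hfg : Function.Exact f g) (hf : Function.Injective f) (hg : Function.Surjective g)
    [Module.Projective R Q] : Nonempty (N ≃ₗ[R] M × Q) := by
  obtain ⟨l, hl⟩ := Module.projective_lifting_property g LinearMap.id hg
  exact ⟨(hfg.splitSurjectiveEquiv hf ⟨l, hl⟩).1⟩

variable {R : Type u} [CommRing R] {P₁ P₂ : Type u} [AddCommGroup P₁] [Module R P₁]
  [AddCommGroup P₂] [Module R P₂]

/-- fibrewise surjectivity is the complement of the support of the cokernel. -/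
theorem surjective_lTensor_iff [Module.Finite R P₂] (φ : P₁ →ₗ[R] P₂) (p : PrimeSpectrum R) :
    Function.Surjective (φ.lTensor p.asIdeal.ResidueField) ↔
      p ∉ Module.support R (P₂ ⧸ LinearMap.range φ) := by
  rw [Module.mem_support_iff_nontrivial_residueField_tensorProduct, not_nontrivial_iff_subsingleton]
  have hex : Function.Exact (φ.lTensor p.asIdeal.ResidueField)
      ((LinearMap.range φ).mkQ.lTensor p.asIdeal.ResidueField) :=
    lTensor_exact _ (LinearMap.exact_map_mkQ_range φ) (Submodule.mkQ_surjective _)
  have hsurj : Function.Surjective ((LinearMap.range φ).mkQ.lTensor p.asIdeal.ResidueField) :=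
    LinearMap.lTensor_surjective _ (Submodule.mkQ_surjective _)
  constructor
  · intro h
    refine ⟨fun a b => ?_⟩
    obtain ⟨a', rfl⟩ := hsurj a
    obtain ⟨b', rfl⟩ := hsurj b
    obtain ⟨a'', rfl⟩ := h a'
    obtain ⟨b'', rfl⟩ := h b'
    rw [hex.apply_apply_eq_zero, hex.apply_apply_eq_zero]
  · intro h x
    exact (hex x).1 (Subsingleton.elim _ _)

theorem result' [Module.Finite R P₁] [Module.Projective R P₁]
    [Module.Finite R P₂] [Module.Projective R P₂] (φ : P₁ →ₗ[R] P₂) :
    IsOpen {p : PrimeSpectrum R | Function.Surjective (φ.lTensor p.asIdeal.ResidueField)} ∧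
    ∀ f : R, (↑(PrimeSpectrum.basicOpen f) : Set (PrimeSpectrum R)) ⊆
      {p : PrimeSpectrum R | Function.Surjective (φ.lTensor p.asIdeal.ResidueField)} →
      Function.Surjective (LocalizedModule.map (Submonoid.powers f) φ) ∧
      Module.Finite (Localization.Away f) (LocalizedModule (Submonoid.powers f) (LinearMap.ker φ)) ∧
      Module.Projective (Localization.Away f)
        (LocalizedModule (Submonoid.powers f) (LinearMap.ker φ)) := by
  classical
  have hset : {p : PrimeSpectrum R | Function.Surjective (φ.lTensor p.asIdeal.ResidueField)} =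
      (Module.support R (P₂ ⧸ LinearMap.range φ))ᶜ := by
    ext p
    exact surjective_lTensor_iff φ p
  rw [hset]
  refine ⟨?_, fun f hf => ?_⟩
  · rw [isOpen_compl_iff, Module.support_eq_zeroLocus]
    exact PrimeSpectrum.isClosed_zeroLocus _
  -- a power of f kills the cokernel
  have hrad : f ∈ (Module.annihilator R (P₂ ⧸ LinearMap.range φ)).radical := by
    rw [Module.support_eq_zeroLocus] at hf
    have h1 : PrimeSpectrum.zeroLocus (Module.annihilator R (P₂ ⧸ LinearMap.range φ) : Set R) ⊆
        PrimeSpectrum.zeroLocus ((Ideal.span {f} : Ideal R) : Set R) := by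
      intro p hp
      rw [PrimeSpectrum.zeroLocus_span]
      by_contra hpf
      have : p ∈ (↑(PrimeSpectrum.basicOpen f) : Set (PrimeSpectrum R)) := by
        rw [PrimeSpectrum.mem_zeroLocus, Set.singleton_subset_iff] at hpf
        exact hpf
      exact hf this hp
    rw [PrimeSpectrum.zeroLocus_subset_zeroLocus_iff] at h1
    exact h1 (Ideal.subset_span rfl)
  obtain ⟨k, hk⟩ := hrad
  have hkill : ∀ y : P₂, f ^ k • y ∈ LinearMap.range φ := by
    intro y
    have := Module.mem_annihilator.1 hk ((LinearMap.range φ).mkQ y)
    rw [← map_smul, Submodule.mkQ_apply, Submodule.Quotient.mk_eq_zero] at this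
    exact this
  set S := Submonoid.powers f with hS
  have hsurj : Function.Surjective (LocalizedModule.map S φ) := by
    intro z
    induction z using LocalizedModule.induction_on with
    | h y s =>
      obtain ⟨x, hx⟩ := hkill y
      refine ⟨LocalizedModule.mk x (s * ⟨f ^ k, k, rfl⟩), ?_⟩
      rw [LocalizedModule.map_mk, hx, LocalizedModule.mk_eq]
      refine ⟨1, ?_⟩
      simp only [one_smul, Submonoid.smul_def, Submonoid.coe_mul, smul_smul]
  refine ⟨hsurj, ?_⟩
  -- kernel
  set φf := LocalizedModule.map S φ with hφf
  obtain ⟨e⟩ := exists_equiv_prod (LinearMap.ker φf).subtype φf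
    (LinearMap.exact_subtype_ker_map φf) (Submodule.subtype_injective _) hsurj
  have hfin : Module.Finite (Localization S) (LinearMap.ker φf × LocalizedModule S P₂) :=
    Module.Finite.equiv e
  have hproj : Module.Projective (Localization S) (LinearMap.ker φf × LocalizedModule S P₂) :=
    Module.Projective.of_equiv e
  have hKfin : Module.Finite (Localization S) (LinearMap.ker φf) :=
    Module.Finite.of_surjective
      (LinearMap.fst (Localization S) (LinearMap.ker φf) (LocalizedModule S P₂))
      LinearMap.fst_surjective
  have hKproj : Module.Projective (Localization S) (LinearMap.ker φf) :=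
    Module.Projective.of_split
      (LinearMap.inl (Localization S) (LinearMap.ker φf) (LocalizedModule S P₂))
      (LinearMap.fst (Localization S) (LinearMap.ker φf) (LocalizedModule S P₂)) (by ext; simp)
  -- identify the localized kernel with the kernel of the localized map
  set ιf := LocalizedModule.map S (LinearMap.ker φ).subtype with hιf
  have hιinj : Function.Injective ιf :=
    LocalizedModule.map_injective S _ (Submodule.subtype_injective _)
  have hex : Function.Exact ιf φf :=
    LocalizedModule.map_exact S _ _ (LinearMap.exact_subtype_ker_map φ)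
  have hrange : LinearMap.range ιf = LinearMap.ker φf := (LinearMap.exact_iff.1 hex).symm
  let e2 : LocalizedModule S (LinearMap.ker φ) ≃ₗ[Localization S] LinearMap.ker φf :=
    (LinearEquiv.ofInjective ιf hιinj).trans (LinearEquiv.ofEq _ _ hrange)
  exact ⟨Module.Finite.equiv e2.symm, Module.Projective.of_equiv e2.symm⟩


/-- Let R be a ring and φ : P₁ → P₂ a map of finite projective R-modules. The set W of primes p of R
such that φ ⊗ κ(p) is surjective is open, and for every f ∈ R with D(f) ⊆ W the map (P₁)_f → (P₂)_f
is surjective and Ker(φ)_f is a finite projective module over R_f. -/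
theorem result {R : Type u} [CommRing R] {P₁ P₂ : Type u} [AddCommGroup P₁] [Module R P₁] [AddCommGroup P₂] [Module R P₂] [Module.Finite R P₁] [Module.Projective R P₁] [Module.Finite R P₂] [Module.Projective R P₂] (φ : P₁ →ₗ[R] P₂) : IsOpen {p : PrimeSpectrum R | Function.Surjective (φ.lTensor p.asIdeal.ResidueField)} ∧ ∀ f : R, (↑(PrimeSpectrum.basicOpen f) : Set (PrimeSpectrum R)) ⊆ {p : PrimeSpectrum R | Function.Surjective (φ.lTensor p.asIdeal.ResidueField)} → Function.Surjective (LocalizedModule.map (Submonoid.powers f) φ) ∧ Module.Finite (Localization.Away f) (LocalizedModule (Submonoid.powers f) (LinearMap.ker φ)) ∧ Module.Projective (Localization.Away f) (LocalizedModule (Submonoid.powers f) (LinearMap.ker φ)) := by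
  exact result' φ

end Groth.Agent.S6330
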