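import Groth.Statements.S6331
import Mathlib.Dynamics.Newton
import Mathlib.RingTheory.Nilpotent.Basic

set_option autoImplicit false
universe u
open CAlg

namespace Groth.Agent.S6331

open Polynomial in
lemma key {S : Type u} [CommRing S] (n : ℕ) (hn : 1 ≤ n) (hunit : IsUnit ((n : ℕ) : S)) (c : S)
    (hc : IsNilpotent (1 - c)) :
    ∃! r : S, IsNilpotent (1 - r) ∧ r ^ n = c := by
  have h1 : IsNilpotent (aeval (1 : S) (X ^ n - C c : S[X])) := by
    simpa using hc
  have h2 : IsUnit (aeval (1 : S) (derivative (X ^ n - C c : S[X]))) := by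
    have : aeval (1 : S) (derivative (X ^ n - C c : S[X])) = (n : S) := by
      simp [derivative_X_pow]
    rw [this]; exact hunit
  obtain ⟨r, ⟨hr1, hr2⟩, hr3⟩ := existsUnique_nilpotent_sub_and_aeval_eq_zero h1 h2
  refine ⟨r, ⟨hr1, ?_⟩, ?_⟩
  · simpa [sub_eq_zero] using hr2
  · rintro r' ⟨h1', h2'⟩
    apply hr3
    refine ⟨h1', ?_⟩
    simp [h2']

/-- Let R be a ring, I ⊆ R an ideal all of whose elements are nilpotent, and n ≥ 1 an integer whose
image in R/I is invertible. Then (1) raising to the n-th power is a bijection of the subset 1 + I of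
R onto itself: for every y ∈ I there is exactly one x ∈ I with (1 + x)ⁿ = 1 + y; (2) a unit u of R
has an n-th root in R exactly when the residue class of u has an n-th root in R/I. -/
theorem result {R : Type u} [CommRing R] (I : Ideal R) (hI : ∀ x ∈ I, IsNilpotent x) (n : ℕ) (hn : 1 ≤ n) (hinv : IsUnit ((n : ℕ) : R ⧸ I)) : (∀ y ∈ I, ∃! x : R, x ∈ I ∧ (1 + x) ^ n = 1 + y) ∧ (∀ u : Rˣ, (∃ v : R, v ^ n = (u : R)) ↔ ∃ w : R ⧸ I, w ^ n = Ideal.Quotient.mk I (u : R)) := by
  have hnR : IsUnit ((n : ℕ) : R) := by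
    obtain ⟨b, hb⟩ := hinv.exists_right_inv
    obtain ⟨a, rfl⟩ := Ideal.Quotient.mk_surjective b
    have hmem : (n : R) * a - 1 ∈ I := by
      rw [← Ideal.Quotient.eq_zero_iff_mem, map_sub, map_mul, map_natCast, hb, map_one, sub_self]
    have hnil := hI _ hmem
    have : IsUnit ((n : R) * a) := by
      have := hnil.isUnit_add_one
      simpa using this
    exact isUnit_of_mul_isUnit_left this
  have part1 : ∀ y ∈ I, ∃! x : R, x ∈ I ∧ (1 + x) ^ n = 1 + y := by
    intro y hy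
    have hc : IsNilpotent (1 - (1 + y)) := by
      have : 1 - (1 + y) = -y := by ring
      rw [this]; exact (hI y hy).neg
    obtain ⟨r, ⟨hr1, hr2⟩, hr3⟩ := key n hn hnR (1 + y) hc
    have hrI : r - 1 ∈ I := by
      have hq := key (S := R ⧸ I) n hn hinv 1 (by simp)
      have e1 : (1 : R ⧸ I) = Ideal.Quotient.mk I r := by
        apply hq.unique
        · exact ⟨by simp, one_pow n⟩
        · refine ⟨?_, ?_⟩
          · have := hr1.map (Ideal.Quotient.mk I)
            simpa using this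
          · rw [← map_pow, hr2, map_add, map_one, Ideal.Quotient.eq_zero_iff_mem.mpr hy, add_zero]
      rw [← Ideal.Quotient.eq_zero_iff_mem, map_sub, map_one, ← e1, sub_self]
    refine ⟨r - 1, ⟨hrI, by rw [add_sub_cancel]; exact hr2⟩, ?_⟩
    rintro x ⟨hxI, hx⟩
    have : 1 + x = r := by
      apply hr3
      refine ⟨?_, hx⟩
      have : 1 - (1 + x) = -x := by ring
      rw [this]; exact (hI x hxI).neg
    rw [← this]; ring
  refine ⟨part1, ?_⟩
  intro u
  constructor
  · rintro ⟨v, hv⟩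
    exact ⟨Ideal.Quotient.mk I v, by rw [← map_pow, hv]⟩
  · rintro ⟨w, hw⟩
    obtain ⟨v₀, rfl⟩ := Ideal.Quotient.mk_surjective w
    have hi : v₀ ^ n - (u : R) ∈ I := by
      rw [← Ideal.Quotient.eq_zero_iff_mem, map_sub, map_pow, hw, sub_self]
    have hvn : IsUnit (v₀ ^ n) := by
      have h1 : IsNilpotent ((u⁻¹ : Rˣ) * (v₀ ^ n - (u : R))) :=
        hI _ (I.mul_mem_left _ hi)
      have h2 := h1.isUnit_add_one
      have h3 : v₀ ^ n = (u : R) * ((u⁻¹ : Rˣ) * (v₀ ^ n - (u : R)) + 1) := by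
        rw [mul_add, ← mul_assoc, Units.mul_inv, one_mul, mul_one, sub_add_cancel]
      rw [h3]
      exact u.isUnit.mul h2
    obtain ⟨t, ht⟩ := hvn
    have hy : (u : R) * (t⁻¹ : Rˣ) - 1 ∈ I := by
      have : (u : R) * (t⁻¹ : Rˣ) - 1 = -((t⁻¹ : Rˣ) * (v₀ ^ n - (u : R))) := by
        rw [← ht, mul_sub, Units.inv_mul]; ring
      rw [this]
      exact I.neg_mem (I.mul_mem_left _ hi)
    obtain ⟨x, ⟨-, hx⟩, -⟩ := part1 _ hy
    refine ⟨v₀ * (1 + x), ?_⟩
    rw [mul_pow, hx, ← ht, add_sub_cancel, mul_comm (u : R), ← mul_assoc, Units.mul_inv, one_mul]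

end Groth.Agent.S6331
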