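import Groth.Statements.S6332
import Mathlib.GroupTheory.SpecificGroups.Cyclic.Basic
import Mathlib.Algebra.CharP.Lemmas

set_option autoImplicit false
universe u
open Fields

namespace Groth.Agent.S6332


open IntermediateField

theorem toLinearMap_pow {K L : Type u} [Field K] [Field L] [Algebra K L] (σ : L ≃ₐ[K] L) (n : ℕ) :
    (σ.toLinearMap : Module.End K L) ^ n = (σ ^ n).toLinearMap := by
  induction n with
  | zero => ext x; simp
  | succ n ih =>
    rw [pow_succ, pow_succ, ih]
    ext x
    simp [AlgEquiv.mul_apply]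

theorem result' {K L : Type u} [Field K] [Field L] [Algebra K L] (p : ℕ)
    [Fact p.Prime] [CharP K p] [FiniteDimensional K L] [IsGalois K L]
    (hdeg : Module.finrank K L = p) :
    ∃ z : L, z ^ p - z ∈ Set.range (algebraMap K L) ∧ K⟮z⟯ = ⊤ := by
  classical
  have hpp : p.Prime := Fact.out
  have : CharP L p := charP_of_injective_algebraMap (algebraMap K L).injective p
  have hcard : Nat.card (L ≃ₐ[K] L) = p := by rw [IsGalois.card_aut_eq_finrank, hdeg]
  have : Nontrivial (L ≃ₐ[K] L) := by
    rw [← Finite.one_lt_card_iff_nontrivial, hcard]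
    exact hpp.one_lt
  obtain ⟨σ, hσ⟩ := exists_ne (1 : L ≃ₐ[K] L)
  have hgen : ∀ τ : L ≃ₐ[K] L, τ ∈ Subgroup.zpowers σ :=
    fun τ => mem_zpowers_of_prime_card hcard hσ
  have hσp : σ ^ p = 1 := by rw [← hcard]; exact pow_card_eq_one'
  have hfix : ∀ x : L, σ x = x → x ∈ Set.range (algebraMap K L) := by
    intro x hx
    have hmem : x ∈ (⊥ : IntermediateField K L) := by
      rw [IsGalois.mem_bot_iff_fixed]
      intro τ
      have hle : Subgroup.zpowers σ ≤ MulAction.stabilizer (L ≃ₐ[K] L) x := by
        rw [Subgroup.zpowers_le]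
        exact hx
      exact hle (hgen τ)
    exact IntermediateField.mem_bot.1 hmem
  set N : Module.End K L := σ.toLinearMap - 1 with hN
  have hNapp : ∀ x, N x = σ x - x := fun x => by simp [hN]
  have hNp : N ^ p = 0 := by
    have : CharP (Module.End K L) p :=
      charP_of_injective_algebraMap (algebraMap K (Module.End K L)).injective p
    rw [hN, sub_pow_char_of_commute _ (Commute.one_right _), one_pow, toLinearMap_pow, hσp]
    ext x; simp
  obtain ⟨u, hu⟩ : ∃ u, N u ≠ 0 := by
    by_contra hcon
    push Not at hcon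
    apply hσ
    ext x
    have := hcon x
    rw [hNapp, sub_eq_zero] at this
    simpa using this
  have hex : ∃ j, (N ^ j) u = 0 := ⟨p, by rw [hNp]; rfl⟩
  set j1 := Nat.find hex with hj1
  have h0 : j1 ≠ 0 := by
    intro h
    have := Nat.find_spec hex
    rw [← hj1, h, pow_zero] at this
    apply hu
    rw [show u = 0 from this, map_zero]
  have h1 : j1 ≠ 1 := by
    intro h
    have := Nat.find_spec hex
    rw [← hj1, h, pow_one] at this
    exact hu this
  obtain ⟨j, hj⟩ : ∃ j, j1 = j + 2 := ⟨j1 - 2, by omega⟩
  have hw0 : (N ^ (j + 1)) u ≠ 0 := Nat.find_min hex (by omega)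
  have hNw : N ((N ^ (j + 1)) u) = 0 := by
    have := Nat.find_spec hex
    rw [← hj1, hj, pow_succ'] at this
    exact this
  have hwv : (N ^ (j + 1)) u = N ((N ^ j) u) := by
    rw [pow_succ']; rfl
  obtain ⟨c, hc⟩ := hfix _ (by rw [← sub_eq_zero, ← hNapp]; exact hNw)
  have hc0 : c ≠ 0 := by
    rintro rfl
    rw [map_zero] at hc
    exact hw0 hc.symm
  set z : L := c⁻¹ • (N ^ j) u with hz
  have hNz : N z = 1 := by
    rw [hz, map_smul, ← hwv, ← hc, Algebra.smul_def, ← map_mul, inv_mul_cancel₀ hc0, map_one]
  have hσz : σ z = z + 1 := by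
    rw [hNapp] at hNz
    rw [← hNz]; ring
  refine ⟨z, ?_, ?_⟩
  · apply hfix
    rw [map_sub, map_pow, hσz, add_pow_char, one_pow]
    ring
  · have hprime : (Module.finrank K L).Prime := by rw [hdeg]; exact hpp
    have := IntermediateField.isSimpleOrder_of_finrank_prime K L hprime
    rcases eq_bot_or_eq_top K⟮z⟯ with h | h
    · exfalso
      have hzmem : z ∈ (⊥ : IntermediateField K L) := h ▸ mem_adjoin_simple_self K z
      obtain ⟨c', hc'⟩ := IntermediateField.mem_bot.1 hzmem
      have : σ z = z := by rw [← hc', AlgEquiv.commutes]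
      rw [hσz] at this
      simp at this
    · exact h


open IntermediateField in
/-- Let L/K be a finite Galois extension of fields of characteristic p > 0 whose degree equals the prime
p (equivalently, the Galois group is cyclic of order p). Then there is an element z of L with z ^ p
- z in K which generates L over K. -/
theorem result {K L : Type u} [Field K] [Field L] [Algebra K L] (p : ℕ)
    [Fact p.Prime] [CharP K p] [FiniteDimensional K L] [IsGalois K L]
    (hdeg : Module.finrank K L = p) :
    ∃ z : L, z ^ p - z ∈ Set.range (algebraMap K L) ∧ K⟮z⟯ = ⊤ := by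
  exact result' p hdeg

end Groth.Agent.S6332
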