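import Groth.Statements.S6334
import Mathlib.FieldTheory.KummerPolynomial

set_option autoImplicit false
universe u
open Fields

namespace Groth.Agent.S6334


open IntermediateField Polynomial

/-- in a purely inseparable extension, an element outside the base field has a power which is
outside the base field while its `p`-th power is inside. -/
theorem exists_pthRoot {F E : Type u} [Field F] [Field E] [Algebra F E] (p : ℕ)
    [Fact p.Prime] [CharP F p] [IsPurelyInseparable F E] (x : E)
    (hx : x ∉ (algebraMap F E).range) :
    ∃ y : E, y ∉ (algebraMap F E).range ∧ y ^ p ∈ (algebraMap F E).range := by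
  classical
  have : ExpChar F p := ExpChar.prime Fact.out
  have hex := IsPurelyInseparable.pow_mem F p x
  set n := Nat.find hex with hn
  have hn0 : n ≠ 0 := by
    intro h0
    have := Nat.find_spec hex
    rw [← hn, h0, pow_zero, pow_one] at this
    exact hx this
  obtain ⟨k, hk⟩ := Nat.exists_eq_succ_of_ne_zero hn0
  refine ⟨x ^ p ^ k, ?_, ?_⟩
  · exact Nat.find_min hex (by omega)
  · have := Nat.find_spec hex
    rw [← hn, hk, pow_succ, pow_mul] at this
    exact this

theorem finrank_adjoin_pthRoot {F E : Type u} [Field F] [Field E] [Algebra F E] (p : ℕ)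
    [Fact p.Prime] [CharP F p] (y : E)
    (hy : y ∉ (algebraMap F E).range) (hyp : y ^ p ∈ (algebraMap F E).range) :
    Module.finrank F F⟮y⟯ = p := by
  obtain ⟨b, hb⟩ := hyp
  have hpp : p.Prime := Fact.out
  have : CharP E p := charP_of_injective_algebraMap (algebraMap F E).injective p
  have hirr : Irreducible (X ^ p - C b : F[X]) := by
    refine X_pow_sub_C_irreducible_of_prime hpp fun c hc => hy ⟨c, ?_⟩
    have h1 : (algebraMap F E c) ^ p = y ^ p := by rw [← map_pow, hc, hb]
    exact frobenius_inj E p h1
  have hmonic : (X ^ p - C b : F[X]).Monic := monic_X_pow_sub_C b hpp.ne_zero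
  have hroot : aeval y (X ^ p - C b : F[X]) = 0 := by
    simp [hb]
  have hmin : X ^ p - C b = minpoly F y := minpoly.eq_of_irreducible_of_monic hirr hroot hmonic
  have hint : IsIntegral F y := ⟨_, hmonic, hroot⟩
  rw [adjoin.finrank hint, ← hmin, natDegree_X_pow_sub_C]

theorem image_cons_lt_succ {α : Type*} {n : ℕ} (x : α) (b : Fin n → α) (i : Fin n) :
    (Fin.cons x b : Fin (n + 1) → α) '' {j | j < i.succ} = {x} ∪ b '' {j | j < i} := by
  ext z
  constructor
  · rintro ⟨j, hj, rfl⟩
    induction j using Fin.cases with
    | zero => left; simp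
    | succ j =>
      right
      exact ⟨j, Fin.succ_lt_succ_iff.1 hj, by simp⟩
  · rintro (hz | ⟨j, hj, rfl⟩)
    · rw [Set.mem_singleton_iff] at hz
      exact ⟨0, Fin.succ_pos i, by simp [hz]⟩
    · exact ⟨j.succ, Fin.succ_lt_succ_iff.2 hj, by simp⟩

theorem key (E : Type u) [Field E] (p : ℕ) [Fact p.Prime] [CharP E p] :
    ∀ d : ℕ, ∀ (F : Type u) [Field F] [Algebra F E] [FiniteDimensional F E]
      [IsPurelyInseparable F E], Module.finrank F E = d →
    ∃ (n : ℕ) (a : Fin n → E), adjoin F (Set.range a) = ⊤ ∧
      (∀ i : Fin n, a i ^ p ∈ adjoin F (a '' {j | j < i}) ∧ a i ∉ adjoin F (a '' {j | j < i})) ∧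
      Module.finrank F E = p ^ n := by
  intro d
  induction d using Nat.strong_induction_on with
  | _ d ih =>
    intro F _ _ _ _ hd
    have hpp : p.Prime := Fact.out
    have hcF : CharP F p := (algebraMap F E).charP_iff (algebraMap F E).injective p |>.2 inferInstance
    by_cases hall : ∀ x : E, x ∈ (algebraMap F E).range
    · have hbt : (⊥ : IntermediateField F E) = ⊤ := by
        ext x
        simp only [mem_bot, mem_top, iff_true]
        exact hall x
      refine ⟨0, Fin.elim0, ?_, fun i => i.elim0, ?_⟩
      · rw [Set.range_eq_empty, adjoin_empty, hbt]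
      · rw [pow_zero]; exact bot_eq_top_iff_finrank_eq_one.1 hbt
    · push Not at hall
      obtain ⟨x, hx⟩ := hall
      obtain ⟨y, hy, hyp⟩ := exists_pthRoot p x hx
      have hfr := finrank_adjoin_pthRoot p y hy hyp
      have hmul : Module.finrank F F⟮y⟯ * Module.finrank F⟮y⟯ E = Module.finrank F E :=
        Module.finrank_mul_finrank F F⟮y⟯ E
      have hpos : 0 < Module.finrank F⟮y⟯ E := Module.finrank_pos
      have hlt : Module.finrank F⟮y⟯ E < d := by
        rw [← hd, ← hmul, hfr]
        have := hpp.two_le
        nlinarith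
      have : IsPurelyInseparable F⟮y⟯ E := IsPurelyInseparable.tower_top F F⟮y⟯ E
      obtain ⟨n', a', h1, h2, h3⟩ := ih _ hlt F⟮y⟯ rfl
      refine ⟨n' + 1, Fin.cons y a', ?_, ?_, ?_⟩
      · rw [Fin.range_cons, ← Set.singleton_union, ← adjoin_adjoin_left, h1, restrictScalars_top]
      · intro i
        induction i using Fin.cases with
        | zero =>
          have he : {j : Fin (n' + 1) | j < 0} = ∅ := by
            ext j; simp
          rw [he, Set.image_empty, adjoin_empty, Fin.cons_zero]
          exact ⟨mem_bot.2 hyp, fun h => hy (mem_bot.1 h)⟩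
        | succ i =>
          rw [image_cons_lt_succ, ← adjoin_adjoin_left, Fin.cons_succ]
          simp only [mem_restrictScalars]
          exact h2 i
      · rw [← hmul, hfr, h3, pow_succ, mul_comm]

theorem result' {F E : Type u} [Field F] [Field E] [Algebra F E] (p : ℕ)
    [Fact p.Prime] [CharP F p] [FiniteDimensional F E] [IsPurelyInseparable F E] :
    ∃ (n : ℕ) (a : Fin n → E), adjoin F (Set.range a) = ⊤ ∧
      (∀ i : Fin n, a i ^ p ∈ adjoin F (a '' {j | j < i}) ∧ a i ∉ adjoin F (a '' {j | j < i})) ∧
      Module.finrank F E = p ^ n := by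
  have : CharP E p := charP_of_injective_algebraMap (algebraMap F E).injective p
  exact key E p _ F rfl


open IntermediateField in
/-- Let E/F be a finite purely inseparable extension of fields of characteristic p > 0. Then there are
elements a_1, ..., a_n of E generating E over F such that for each i the p-th power of a_i lies in
F(a_1, ..., a_{i-1}) while a_i itself does not (so each step adjoins a p-th root and has degree p);
in particular [E : F] = p ^ n. -/
theorem result {F E : Type u} [Field F] [Field E] [Algebra F E] (p : ℕ)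
    [Fact p.Prime] [CharP F p] [FiniteDimensional F E] [IsPurelyInseparable F E] :
    ∃ (n : ℕ) (a : Fin n → E), adjoin F (Set.range a) = ⊤ ∧
      (∀ i : Fin n, a i ^ p ∈ adjoin F (a '' {j | j < i}) ∧ a i ∉ adjoin F (a '' {j | j < i})) ∧
      Module.finrank F E = p ^ n := by
  exact result' p

end Groth.Agent.S6334
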