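import Groth.Statements.S6335
import Mathlib.FieldTheory.PurelyInseparable.PerfectClosure

set_option autoImplicit false
universe u
open Fields

namespace Groth.Agent.S6335


open Polynomial

theorem result' {K L : Type u} [Field K] [Field L] [Algebra K L]
    (p : ℕ) [Fact p.Prime] [CharP K p] (a : L) (P : Polynomial K)
    (hroot : Polynomial.aeval a P = 0) (hsep : P.Separable) (hcoeff : ∀ i : ℕ, ∃ b : K, b ^ p = P.coeff i) :
    ∃ c : L, c ^ p = a := by
  classical
  have : CharP L p := charP_of_injective_algebraMap (algebraMap K L).injective p
  have : ExpChar K p := ExpChar.prime (Fact.out)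
  have : ExpChar L p := ExpChar.prime (Fact.out)
  choose b hb using hcoeff
  set Q : K[X] := ∑ i ∈ Finset.range (P.natDegree + 1), monomial i (b i) with hQ
  have hQP : Q.map (frobenius K p) = P := by
    rw [hQ, Polynomial.map_sum]
    conv_rhs => rw [P.as_sum_range]
    refine Finset.sum_congr rfl fun i _ => ?_
    rw [map_monomial, frobenius_def, hb]
  have hQp : Q ^ p = expand K p P := by
    rw [← map_frobenius_expand, map_expand, hQP]
  have hQsep : Q.Separable := by
    rw [← hQP] at hsep
    exact (separable_map _).1 hsep
  let E := AlgebraicClosure L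
  obtain ⟨c, hc⟩ := IsAlgClosed.exists_pow_nat_eq (algebraMap L E a) (Fact.out : p.Prime).pos
  have hcQ : aeval c Q = 0 := by
    have h1 : (aeval c Q) ^ p = 0 := by
      rw [← map_pow, hQp, expand_aeval, hc, aeval_algebraMap_apply, hroot, map_zero]
    exact pow_eq_zero_iff (Fact.out : p.Prime).ne_zero |>.1 h1
  have hcK : IsSeparable K c := hQsep.of_dvd (minpoly.dvd K c hcQ)
  have hcL : IsSeparable L c := hcK.tower_top L
  have h1 : c ∈ separableClosure L E := mem_separableClosure_iff.2 hcL
  have h2 : c ∈ perfectClosure L E := by
    rw [mem_perfectClosure_iff_pow_mem p]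
    exact ⟨1, by rw [pow_one, hc]; exact ⟨a, rfl⟩⟩
  have h3 : c ∈ (⊥ : IntermediateField L E) := by
    rw [← separableClosure_inf_perfectClosure]
    exact ⟨h1, h2⟩
  obtain ⟨c0, rfl⟩ := IntermediateField.mem_bot.1 h3
  refine ⟨c0, (algebraMap L E).injective ?_⟩
  rw [map_pow, hc]


/-- Let K be a field of characteristic p > 0, L/K a separable algebraic extension and a an element of L.
If a is a root of a polynomial P over K which is separable (pairwise distinct roots in an algebraic
closure) and all of whose coefficients are p-th powers in K, then a is a p-th power in L. (Part (1),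
the case where P is the minimal polynomial of a, is a special case.) -/
theorem result {K L : Type u} [Field K] [Field L] [Algebra K L]
    (p : ℕ) [Fact p.Prime] [CharP K p] [Algebra.IsSeparable K L] (a : L) (P : Polynomial K)
    (hroot : Polynomial.aeval a P = 0) (hsep : P.Separable) (hcoeff : ∀ i : ℕ, ∃ b : K, b ^ p = P.coeff i) :
    ∃ c : L, c ^ p = a := by
  exact result' p a P hroot hsep hcoeff

end Groth.Agent.S6335
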