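import Groth.Statements.S6336
import Mathlib.FieldTheory.PrimitiveElement
import Mathlib.FieldTheory.IntermediateField.Algebraic
import Mathlib.Tactic.FieldSimp
import Mathlib.Tactic.Ring

set_option autoImplicit false
universe u
open Fields

namespace Groth.Agent.S6336

open IntermediateField Polynomial in
/-- A product of elements of the form `ζ * a` with `ζ ∈ K` nonzero. -/
lemma multiset_prod_aux {K L : Type u} [Field K] [Field L] [Algebra K L] (a : L) (M : Multiset L)
    (hM : ∀ r ∈ M, ∃ ζ : K, ζ ≠ 0 ∧ r = algebraMap K L ζ * a) :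
    ∃ z : K, z ≠ 0 ∧ M.prod = algebraMap K L z * a ^ (Multiset.card M) := by
  induction M using Multiset.induction_on with
  | empty => exact ⟨1, one_ne_zero, by simp⟩
  | cons r M ih =>
    obtain ⟨z, hz, hprod⟩ := ih (fun r hr => hM r (Multiset.mem_cons_of_mem hr))
    obtain ⟨ζ, hζ, hr⟩ := hM r (Multiset.mem_cons_self r M)
    refine ⟨ζ * z, mul_ne_zero hζ hz, ?_⟩
    rw [Multiset.prod_cons, hprod, hr, Multiset.card_cons, map_mul]
    ring

open IntermediateField Polynomial in
/-- With an added hypothesis: let L/K be a finite extension of degree e generated by a single element a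
whose e-th power lies in K, and assume that the polynomial X ^ e - 1 splits into linear factors over
K (so every e-th root of unity of any extension of K already lies in K; this holds when K contains a
primitive e-th root of unity, and when e is a power of the characteristic). Then every intermediate
field of L/K is generated by a ^ d for some divisor d of e. (The published statement has no
hypothesis on roots of unity; for K the rationals and a a primitive 8-th root of unity, e = 4 and a
^ 4 = -1, the intermediate field generated by a + a⁻¹, a square root of 2, is none of K(a), K(a ^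
2), K(a ^ 4); the published proof uses that the e-th roots of unity met are fixed by the
automorphisms it constructs, which the splitting hypothesis guarantees.) -/
theorem result {K L : Type u} [Field K] [Field L] [Algebra K L]
    [FiniteDimensional K L] (a : L) (ha : K⟮a⟯ = ⊤)
    (hpow : a ^ Module.finrank K L ∈ Set.range (algebraMap K L))
    (hroots : (X ^ Module.finrank K L - 1 : K[X]).Splits) (L' : IntermediateField K L) :
    ∃ d : ℕ, d ∣ Module.finrank K L ∧ L' = K⟮a ^ d⟯ := by
  classical
  have hepos : 0 < Module.finrank K L := Module.finrank_pos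
  by_cases ha0 : a = 0
  · refine ⟨1, one_dvd _, ?_⟩
    rw [pow_one, ha]
    rw [ha0, IntermediateField.adjoin_zero] at ha
    exact eq_top_iff.mpr (ha ▸ bot_le)
  obtain ⟨c, hc⟩ := hpow
  set e := Module.finrank K L with he
  have htop : ∀ (F : IntermediateField K L), (F⟮a⟯ : IntermediateField F L) = ⊤ := by
    intro F
    rw [eq_top_iff]
    intro x _
    have h1 : K⟮a⟯ ≤ (F⟮a⟯).restrictScalars K := by
      rw [IntermediateField.adjoin_simple_le_iff]
      exact IntermediateField.mem_adjoin_simple_self F a
    have h2 : x ∈ K⟮a⟯ := by rw [ha]; trivial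
    exact h1 h2
  have hfr : ∀ (F : IntermediateField K L), (minpoly F a).natDegree = Module.finrank F L :=
    fun F => (Field.primitive_element_iff_minpoly_natDegree_eq F a).mp (htop F)
  set g := minpoly L' a with hg
  set m := g.natDegree with hm
  have hgmonic : g.Monic := minpoly.monic (IsIntegral.of_finite L' a)
  have hmpos : 0 < m := minpoly.natDegree_pos (IsIntegral.of_finite L' a)
  have hmfr : m = Module.finrank L' L := hfr L'
  -- the polynomial `X ^ e - a ^ e` over `L`
  set P : L[X] := X ^ e - C (a ^ e) with hP
  have hPne : P ≠ 0 := (monic_X_pow_sub_C _ hepos.ne').ne_zero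
  set gL : L[X] := g.map (algebraMap L' L) with hgL
  have hgLmonic : gL.Monic := hgmonic.map _
  have hdvd : gL ∣ P := by
    have h1 : g ∣ (X ^ e - C (algebraMap K L' c) : L'[X]) := by
      apply minpoly.dvd
      simp only [map_sub, map_pow, aeval_X, aeval_C]
      rw [← IsScalarTower.algebraMap_apply K L' L, hc, sub_self]
    have h2 := Polynomial.map_dvd (algebraMap L' L) h1
    have h3 : (X ^ e - C (algebraMap K L' c) : L'[X]).map (algebraMap L' L) = P := by
      simp only [Polynomial.map_sub, Polynomial.map_pow, map_X, map_C, hP]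
      rw [← IsScalarTower.algebraMap_apply K L' L, hc]
    rwa [h3] at h2
  -- roots of `P` are of the form `ζ a`
  have hrootP : ∀ r : L, P.IsRoot r → ∃ ζ : K, ζ ≠ 0 ∧ r = algebraMap K L ζ * a := by
    intro r hr
    have hre : r ^ e = a ^ e := by
      have : eval r P = 0 := hr
      simpa [hP, sub_eq_zero] using this
    have hroot : ((X ^ e - 1 : K[X]).map (algebraMap K L)).IsRoot (r / a) := by
      simp only [Polynomial.map_sub, Polynomial.map_pow, map_X, Polynomial.map_one, IsRoot.def,
        eval_sub, eval_pow, eval_X, eval_one]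
      rw [div_pow, hre, div_self (pow_ne_zero _ ha0), sub_self]
    have hne : (X ^ e - 1 : K[X]) ≠ 0 := by
      have := (monic_X_pow_sub_C (1 : K) hepos.ne').ne_zero
      simpa using this
    obtain ⟨ζ, hζ⟩ := hroots.mem_range_of_isRoot hne hroot
    refine ⟨ζ, ?_, ?_⟩
    · rintro rfl
      rw [map_zero] at hζ
      have hr0 : r = 0 := by
        have := hζ.symm
        rw [div_eq_zero_iff] at this
        exact this.resolve_right ha0
      rw [hr0, zero_pow hepos.ne'] at hre
      exact pow_ne_zero _ ha0 hre.symm
    · rw [hζ]
      field_simp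
  -- `P` splits
  have hPsplits : P.Splits := by
    have h1 : ((X ^ e - 1 : K[X]).map (algebraMap K L)).Splits := hroots.map _
    have h2 := h1.comp_of_natDegree_le_one (g := C a⁻¹ * X) (by
      rw [natDegree_C_mul_X _ (inv_ne_zero ha0)])
    have h3 : P = C (a ^ e) * ((X ^ e - 1 : K[X]).map (algebraMap K L)).comp (C a⁻¹ * X) := by
      simp only [Polynomial.map_sub, Polynomial.map_pow, map_X, Polynomial.map_one, sub_comp,
        pow_comp, X_comp, one_comp, hP]
      rw [mul_sub, mul_pow, ← C_pow, ← mul_assoc, ← C_mul, inv_pow,
        mul_inv_cancel₀ (pow_ne_zero _ ha0), C_1, one_mul, mul_one]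
    rw [h3]
    exact h2.C_mul _
  have hgLsplits : gL.Splits := hPsplits.of_dvd hPne hdvd
  -- `a ^ m ∈ L'`
  have hamem : a ^ m ∈ L' := by
    have hcard : Multiset.card gL.roots = m := by
      rw [← hgLsplits.natDegree_eq_card_roots, hgL, natDegree_map]
    obtain ⟨z, hz, hprod⟩ := multiset_prod_aux (K := K) a gL.roots (by
      intro r hr
      apply hrootP
      exact (dvd_iff_isRoot.mp ((dvd_iff_isRoot.mpr (isRoot_of_mem_roots hr)).trans hdvd)))
    have hc0 := hgLsplits.coeff_zero_eq_prod_roots_of_monic hgLmonic
    rw [hprod, hcard, hgL, coeff_map] at hc0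
    have hmem : algebraMap L' L (g.coeff 0) ∈ L' := (g.coeff 0).2
    rw [hc0] at hmem
    have hz' : algebraMap K L z ≠ 0 := by
      intro h0
      exact hz ((algebraMap K L).injective (by rw [h0, map_zero]))
    have hzmem : (-1 : L) ^ (gL.natDegree) * algebraMap K L z ∈ L' :=
      L'.mul_mem (pow_mem (neg_mem (one_mem L')) _) (L'.algebraMap_mem z)
    have hne : (-1 : L) ^ (gL.natDegree) * algebraMap K L z ≠ 0 :=
      mul_ne_zero (pow_ne_zero _ (neg_ne_zero.mpr one_ne_zero)) hz'
    rw [← hgL, ← mul_assoc] at hmem
    have := L'.mul_mem (L'.inv_mem hzmem) hmem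
    rwa [← mul_assoc, inv_mul_cancel₀ hne, one_mul] at this
  -- conclusion
  refine ⟨m, ?_, ?_⟩
  · have := Module.finrank_mul_finrank K L' L
    rw [← hmfr] at this
    exact ⟨Module.finrank K L', by rw [he, ← this, mul_comm]⟩
  · symm
    have hle : K⟮a ^ m⟯ ≤ L' := by
      rw [IntermediateField.adjoin_simple_le_iff]
      exact hamem
    apply IntermediateField.eq_of_le_of_finrank_le' hle
    rw [← hmfr, ← hfr]
    -- `a` is a root of `X ^ m - a ^ m` over `K⟮a ^ m⟯`
    set F := K⟮a ^ m⟯ with hF
    let am : F := ⟨a ^ m, IntermediateField.mem_adjoin_simple_self K (a ^ m)⟩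
    have hmon : (X ^ m - C am : F[X]).Monic := monic_X_pow_sub_C _ hmpos.ne'
    have hroot : aeval a (X ^ m - C am : F[X]) = 0 := by
      simp only [map_sub, map_pow, aeval_X, aeval_C]
      exact sub_self _
    have := natDegree_le_natDegree (minpoly.min F a hmon hroot)
    rwa [natDegree_X_pow_sub_C] at this

end Groth.Agent.S6336
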