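import Groth.Statements.S6341
import Groth.Agent.S6338
import Mathlib.LinearAlgebra.TensorProduct.DirectLimit

set_option autoImplicit false
universe u
open CAlg

namespace Groth.Agent.S6341

open TensorProduct in
lemma of_rTensor_injective (R : Type u) [CommRing R] {ι : Type u}
    [Preorder ι] [IsDirected ι (· ≤ ·)] [DecidableEq ι] (G : ι → Type u) [∀ i, AddCommGroup (G i)]
    [∀ i, Module R (G i)] (f : ∀ i j, i ≤ j → G i →ₗ[R] G j) [DirectedSystem G fun i j h => f i j h]
    (hf : ∀ i j (h : i ≤ j), CAlgX.UniversallyInjective R (f i j h)) (i : ι)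
    (Q : Type u) [AddCommGroup Q] [Module R Q] :
    Function.Injective ((Module.DirectLimit.of R ι G f i).rTensor Q) := by
  rw [injective_iff_map_eq_zero]
  intro z hz
  have h1 : Module.DirectLimit.of R ι (fun i => G i ⊗[R] Q)
      (fun i j h => (f i j h).rTensor Q) i z = 0 := by
    rw [← TensorProduct.directLimitLeft_rTensor_of, hz, map_zero]
  obtain ⟨j, hij, hj⟩ := Module.DirectLimit.of.zero_exact h1
  exact (injective_iff_map_eq_zero _).mp (hf i j hij Q) z hj

/-- The colimit of a directed system of Mittag-Leffler modules with universally injective transition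
maps is Mittag-Leffler. -/
theorem result (R : Type u) [CommRing R] {ι : Type u}
    [Preorder ι] [IsDirected ι (· ≤ ·)] [DecidableEq ι] (G : ι → Type u) [∀ i, AddCommGroup (G i)]
    [∀ i, Module R (G i)] (f : ∀ i j, i ≤ j → G i →ₗ[R] G j) [DirectedSystem G fun i j h => f i j h]
    (hf : ∀ i j (h : i ≤ j), CAlgX.UniversallyInjective R (f i j h))
    (hG : ∀ i, CAlg.IsMittagLeffler R (G i)) :
    CAlg.IsMittagLeffler R (Module.DirectLimit G f) := by
  intro κ Q _ _
  rw [injective_iff_map_eq_zero]
  intro x hx
  rcases isEmpty_or_nonempty ι with hι | hι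
  · have : Subsingleton (TensorProduct R (Module.DirectLimit G f) (∀ k, Q k)) := by
      refine ⟨fun a b => ?_⟩
      have h0 : ∀ c : TensorProduct R (Module.DirectLimit G f) (∀ k, Q k), c = 0 := by
        intro c
        induction c using TensorProduct.induction_on with
        | zero => rfl
        | tmul m q => rw [Subsingleton.elim m 0, TensorProduct.zero_tmul]
        | add a b ha hb => rw [ha, hb, add_zero]
      rw [h0 a, h0 b]
    exact Subsingleton.elim _ _
  · obtain ⟨i, y, hy⟩ := Module.DirectLimit.exists_of
      (TensorProduct.directLimitLeft f (∀ k, Q k) x)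
    have hxy : x = (Module.DirectLimit.of R ι G f i).rTensor (∀ k, Q k) y := by
      apply (TensorProduct.directLimitLeft f (∀ k, Q k)).injective
      rw [TensorProduct.directLimitLeft_rTensor_of, hy]
    have hy0 : y = 0 := by
      apply hG i κ Q
      funext k
      apply of_rTensor_injective R G f hf i (Q k)
      rw [← Groth.Agent.S6338.piRightHom_naturality, ← hxy, hx]
      simp
    rw [hxy, hy0, map_zero]

end Groth.Agent.S6341
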