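import Groth.Statements.S6342
import Mathlib.LinearAlgebra.TensorProduct.Pi
import Mathlib.LinearAlgebra.TensorProduct.Tower
import Mathlib.RingTheory.Flat.Basic

set_option autoImplicit false
universe u
open CAlg

namespace Groth.Agent.S6342

open TensorProduct

/-- Let R → S be a ring map such that S is Mittag-Leffler as an R-module, and let M be an S-module which
is flat and Mittag-Leffler over S. Then M is Mittag-Leffler as an R-module. -/
theorem result (R S : Type u) [CommRing R] [CommRing S] [Algebra R S]
    (M : Type u) [AddCommGroup M] [Module S M] [Module R M] [IsScalarTower R S M]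
    (hS : CAlg.IsMittagLeffler R S) [Module.Flat S M] (hM : CAlg.IsMittagLeffler S M) :
    CAlg.IsMittagLeffler R M := by
  intro ι Q _ _
  -- the maps
  let e := AlgebraTensorModule.cancelBaseChange R S S M (∀ i, Q i)
  let f1 : M ⊗[S] (S ⊗[R] (∀ i, Q i)) →ₗ[S] M ⊗[S] (∀ i, S ⊗[R] Q i) :=
    LinearMap.lTensor M (TensorProduct.piRightHom R S S Q)
  let f2 : M ⊗[S] (∀ i, S ⊗[R] Q i) →ₗ[S] ∀ i, M ⊗[S] (S ⊗[R] Q i) :=
    TensorProduct.piRightHom S S M (fun i => S ⊗[R] Q i)
  have hf1 : Function.Injective f1 := by
    apply Module.Flat.lTensor_preserves_injective_linearMap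
    intro a b hab
    apply hS ι Q
    have h : ∀ t : S ⊗[R] (∀ i, Q i),
        TensorProduct.piRightHom R R S Q t = TensorProduct.piRightHom R S S Q t := by
      intro t
      induction t using TensorProduct.induction_on with
      | zero => simp
      | tmul s q => simp
      | add x y hx hy => simp only [map_add, hx, hy]
    rw [h, h, hab]
  have hf2 : Function.Injective f2 := hM ι (fun i => S ⊗[R] Q i)
  have hcomm : ∀ t : M ⊗[S] (S ⊗[R] (∀ i, Q i)), ∀ i,
      AlgebraTensorModule.cancelBaseChange R S S M (Q i) (f2 (f1 t) i) =
        TensorProduct.piRightHom R R M Q (e t) i := by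
    intro t i
    induction t using TensorProduct.induction_on with
    | zero => simp
    | tmul m y =>
      induction y using TensorProduct.induction_on with
      | zero => simp
      | tmul s q => simp [f1, f2, e]
      | add x y hx hy => simp only [tmul_add, map_add, Pi.add_apply, hx, hy]
    | add x y hx hy => simp only [map_add, Pi.add_apply, hx, hy]
  intro a b hab
  obtain ⟨a', rfl⟩ := e.surjective a
  obtain ⟨b', rfl⟩ := e.surjective b
  congr 1
  apply hf1
  apply hf2
  funext i
  apply (AlgebraTensorModule.cancelBaseChange R S S M (Q i)).injective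
  rw [hcomm, hcomm, hab]

end Groth.Agent.S6342
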