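import Groth.Statements.S6343
import Groth.Agent.S6344
import Groth.Agent.S2056
import Mathlib.LinearAlgebra.TensorProduct.Pi
import Mathlib.LinearAlgebra.TensorProduct.Associator

set_option autoImplicit false
universe u
open scoped TensorProduct
open CAlg

namespace Groth.Agent.S6343

open TensorProduct

section
variable (R : Type u) [CommRing R]

/-- For a finitely presented module the comparison map is bijective. -/
lemma piRightHom_bijective_of_fp (P : Type u) [AddCommGroup P] [Module R P]
    [Module.FinitePresentation R P] (ι : Type u) (Q : ι → Type u)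
    [∀ i, AddCommGroup (Q i)] [∀ i, Module R (Q i)] :
    Function.Bijective (TensorProduct.piRightHom R R P Q) := by
  refine ⟨Groth.Agent.S6344.ml_of_finitePresentation R P ι Q, ?_⟩
  have hfg : (⊤ : Submodule R P).FG := by
    rw [← Module.finite_def]; infer_instance
  exact Groth.Agent.S6340.piRightHom_surjective_of_fg hfg ι Q

/-- Key square for finitely presented `P`. -/
lemma square (N P : Type u) [AddCommGroup N] [Module R N] [AddCommGroup P] [Module R P]
    (ι : Type u) (Q : ι → Type u) [∀ i, AddCommGroup (Q i)] [∀ i, Module R (Q i)]
    (t : P ⊗[R] (N ⊗[R] (∀ i, Q i))) (i : ι) :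
    TensorProduct.piRightHom R R P (fun i => N ⊗[R] Q i)
      ((TensorProduct.piRightHom R R N Q).lTensor P t) i =
    TensorProduct.leftComm R N P (Q i)
      (TensorProduct.piRightHom R R N (fun i => P ⊗[R] Q i)
        ((TensorProduct.piRightHom R R P Q).lTensor N
          (TensorProduct.leftComm R P N (∀ i, Q i) t)) i) := by
  induction t using TensorProduct.induction_on with
  | zero => simp
  | tmul p y =>
    induction y using TensorProduct.induction_on with
    | zero => simp
    | tmul n q => simp
    | add x y hx hy => simp only [tmul_add, map_add, Pi.add_apply, hx, hy]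
  | add x y hx hy => simp only [map_add, Pi.add_apply, hx, hy]

/-- If `N` is Mittag-Leffler the comparison map is universally injective. -/
lemma univInj_piRightHom (N : Type u) [AddCommGroup N] [Module R N]
    (hN : CAlg.IsMittagLeffler R N) (ι : Type u) (Q : ι → Type u)
    [∀ i, AddCommGroup (Q i)] [∀ i, Module R (Q i)] :
    CAlgX.UniversallyInjective R (TensorProduct.piRightHom R R N Q) := by
  rw [Groth.Agent.S2056.result]
  intro P _ _ _
  rw [← LinearMap.lTensor_inj_iff_rTensor_inj]
  intro t t' htt'
  have hb := piRightHom_bijective_of_fp R P ι Q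
  let g := LinearEquiv.ofBijective (TensorProduct.piRightHom R R P Q) hb
  have hg : Function.Injective ((TensorProduct.piRightHom R R P Q).lTensor N) := by
    have : (TensorProduct.piRightHom R R P Q).lTensor N = (LinearEquiv.lTensor N g).toLinearMap := by
      rw [LinearEquiv.coe_lTensor]; rfl
    rw [this]
    exact (LinearEquiv.lTensor N g).injective
  apply (TensorProduct.leftComm R P N (∀ i, Q i)).injective
  apply hg
  apply hN ι (fun i => P ⊗[R] Q i)
  funext i
  apply (TensorProduct.leftComm R N P (Q i)).injective
  rw [← square, ← square, htt']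

lemma square2 (M N : Type u) [AddCommGroup M] [Module R M] [AddCommGroup N] [Module R N]
    (ι : Type u) (Q : ι → Type u) [∀ i, AddCommGroup (Q i)] [∀ i, Module R (Q i)]
    (t : (M ⊗[R] N) ⊗[R] (∀ i, Q i)) (i : ι) :
    TensorProduct.assoc R M N (Q i) (TensorProduct.piRightHom R R (M ⊗[R] N) Q t i) =
      TensorProduct.piRightHom R R M (fun i => N ⊗[R] Q i)
        ((TensorProduct.piRightHom R R N Q).lTensor M
          (TensorProduct.assoc R M N (∀ i, Q i) t)) i := by
  induction t using TensorProduct.induction_on with
  | zero => simp
  | tmul y q =>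
    induction y using TensorProduct.induction_on with
    | zero => simp
    | tmul m n => simp
    | add x y hx hy => simp only [add_tmul, map_add, Pi.add_apply, hx, hy]
  | add x y hx hy => simp only [map_add, Pi.add_apply, hx, hy]

end

/-- The tensor product of two Mittag-Leffler modules over a commutative ring is Mittag-Leffler. -/
theorem result (R : Type u) [CommRing R] (M N : Type u) [AddCommGroup M] [Module R M]
    [AddCommGroup N] [Module R N] (hM : CAlg.IsMittagLeffler R M) (hN : CAlg.IsMittagLeffler R N) :
    CAlg.IsMittagLeffler R (M ⊗[R] N) := by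
  intro ι Q _ _
  intro t t' htt'
  have hφ : Function.Injective ((TensorProduct.piRightHom R R N Q).lTensor M) := by
    rw [LinearMap.lTensor_inj_iff_rTensor_inj]
    exact univInj_piRightHom R N hN ι Q M
  apply (TensorProduct.assoc R M N (∀ i, Q i)).injective
  apply hφ
  apply hM ι (fun i => N ⊗[R] Q i)
  funext i
  rw [← square2, ← square2, htt']

end Groth.Agent.S6343
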