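import Groth.Statements.S6346
import Mathlib.LinearAlgebra.TensorProduct.Pi
import Mathlib.LinearAlgebra.TensorProduct.Finiteness
import Mathlib.RingTheory.Flat.Basic

set_option autoImplicit false
universe u
open scoped TensorProduct
open CAlg

namespace Groth.Agent.S6346

open TensorProduct

section
variable {R : Type u} [CommRing R] {M : Type u} [AddCommGroup M] [Module R M]

lemma piRightHom_comm_rTensor {F : Type u} [AddCommGroup F] [Module R F] {ι : Type u}
    (Q : ι → Type u) [∀ i, AddCommGroup (Q i)] [∀ i, Module R (Q i)]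
    (g : F →ₗ[R] (∀ i, Q i)) (x : F ⊗[R] M) (α : ι) :
    TensorProduct.piRightHom R R M Q (TensorProduct.comm R _ M (g.rTensor M x)) α =
      TensorProduct.comm R _ M (((LinearMap.proj α : (∀ i, Q i) →ₗ[R] Q α) ∘ₗ g).rTensor M x) := by
  induction x using TensorProduct.induction_on with
  | zero => simp
  | tmul f m => simp
  | add x y hx hy => simp only [map_add, Pi.add_apply, hx, hy]

/-- for flat `M`, the kernel of `g ⊗ M` is the image of `ker g ⊗ M`. -/
lemma mem_range_of_rTensor_eq_zero [Module.Flat R M] {F P : Type u} [AddCommGroup F] [Module R F]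
    [AddCommGroup P] [Module R P] (g : F →ₗ[R] P) (x : F ⊗[R] M) (hx : g.rTensor M x = 0) :
    x ∈ LinearMap.range ((LinearMap.ker g).subtype.rTensor M) := by
  have hex := Module.Flat.rTensor_exact M (LinearMap.exact_subtype_ker_map g)
  exact (hex x).mp hx

lemma rTensor_eq_zero_of_mem_range {F P : Type u} [AddCommGroup F] [Module R F]
    [AddCommGroup P] [Module R P] (g : F →ₗ[R] P) (F' : Submodule R F) (hF' : F' ≤ LinearMap.ker g)
    (x : F ⊗[R] M) (hx : x ∈ LinearMap.range (F'.subtype.rTensor M)) : g.rTensor M x = 0 := by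
  obtain ⟨z, rfl⟩ := hx
  rw [← LinearMap.comp_apply, ← LinearMap.rTensor_comp]
  have : g ∘ₗ F'.subtype = 0 := by
    ext f
    exact hF' f.2
  rw [this]
  simp

/-- every tensor comes from a finite free module -/
lemma exists_fin_rep {P : Type u} [AddCommGroup P] [Module R P] (t : M ⊗[R] P) :
    ∃ (n : ℕ) (g : (Fin n → R) →ₗ[R] P) (x : (Fin n → R) ⊗[R] M),
      t = TensorProduct.comm R _ M (g.rTensor M x) := by
  classical
  obtain ⟨S, rfl⟩ := TensorProduct.exists_finsupp_left t
  let s := S.support
  let e : Fin s.card ≃ s := s.equivFin.symm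
  refine ⟨s.card, Fintype.linearCombination R (fun j => S (e j)),
    ∑ j, (Pi.single j (1 : R) : Fin s.card → R) ⊗ₜ[R] ((e j : M)), ?_⟩
  simp only [map_sum, LinearMap.rTensor_tmul, TensorProduct.comm_tmul]
  rw [Finsupp.sum, ← Finset.sum_coe_sort S.support]
  rw [← Equiv.sum_comp e]
  refine Finset.sum_congr rfl fun j _ => ?_
  congr 1
  simp [Fintype.linearCombination_apply]

end

/-- Let M be a flat module over a commutative ring R. Then M is Mittag-Leffler exactly when, for each
finite free module F = R^n and each element x of F ⊗ M there is a smallest submodule F' of F such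
that x lies in the image of F' ⊗ M → F ⊗ M. -/
theorem result (R : Type u) [CommRing R] (M : Type u)
    [AddCommGroup M] [Module R M] [Module.Flat R M] :
    CAlg.IsMittagLeffler R M ↔
      ∀ (n : ℕ) (x : (Fin n → R) ⊗[R] M), ∃ F' : Submodule R (Fin n → R),
        x ∈ LinearMap.range (F'.subtype.rTensor M) ∧
        ∀ F'' : Submodule R (Fin n → R), x ∈ LinearMap.range (F''.subtype.rTensor M) → F' ≤ F'' := by
  constructor
  · intro hML n x
    let ι := {F'' : Submodule R (Fin n → R) // x ∈ LinearMap.range (F''.subtype.rTensor M)}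
    let Q : ι → Type u := fun α => (Fin n → R) ⧸ α.1
    let g : (Fin n → R) →ₗ[R] (∀ α, Q α) := LinearMap.pi (fun α => α.1.mkQ)
    have hker : LinearMap.ker g = ⨅ α : ι, α.1 := by
      rw [LinearMap.ker_pi]
      congr 1
      funext α
      exact Submodule.ker_mkQ _
    refine ⟨⨅ α : ι, α.1, ?_, fun F'' hF'' => iInf_le (fun α : ι => α.1) ⟨F'', hF''⟩⟩
    rw [← hker]
    apply mem_range_of_rTensor_eq_zero
    apply (TensorProduct.comm R _ M).injective
    apply hML ι Q
    funext α
    rw [piRightHom_comm_rTensor, map_zero, map_zero]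
    have : ((LinearMap.proj α : (∀ i, Q i) →ₗ[R] Q α) ∘ₗ g).rTensor M x = 0 := by
      apply rTensor_eq_zero_of_mem_range _ α.1 ?_ x α.2
      intro f hf
      rw [LinearMap.mem_ker]
      simp only [g, LinearMap.comp_apply, LinearMap.pi_apply, LinearMap.proj_apply]
      exact (Submodule.Quotient.mk_eq_zero _).mpr hf
    rw [this, map_zero]
    rfl
  · intro h ι Q _ _
    rw [injective_iff_map_eq_zero]
    intro t ht
    obtain ⟨n, g, x, rfl⟩ := exists_fin_rep t
    obtain ⟨F', hxF', hmin⟩ := h n x
    have hle : F' ≤ LinearMap.ker g := by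
      intro f hf
      rw [LinearMap.mem_ker]
      funext α
      have h0 : ((LinearMap.proj α : (∀ i, Q i) →ₗ[R] Q α) ∘ₗ g).rTensor M x = 0 := by
        apply (TensorProduct.comm R _ M).injective
        rw [← piRightHom_comm_rTensor, ht, map_zero]
        rfl
      have h1 := hmin _ (mem_range_of_rTensor_eq_zero _ x h0)
      have := h1 hf
      rw [LinearMap.mem_ker] at this
      exact this
    rw [rTensor_eq_zero_of_mem_range g F' hle x hxF', map_zero]

end Groth.Agent.S6346
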