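import Groth.Statements.S6348
import Mathlib.LinearAlgebra.TensorProduct.Tower

set_option autoImplicit false
universe u
open scoped TensorProduct
open CAlg

namespace Groth.Agent.S6348

open TensorProduct in
/-- The comparison `(S ⊗[R] M) ⊗[S] P ≃ M ⊗[R] P`, as an additive equivalence. -/
noncomputable def beta (R S : Type u) [CommRing R] [CommRing S] [Algebra R S] (M : Type u)
    [AddCommGroup M] [Module R M] (P : Type u) [AddCommGroup P] [Module S P] [Module R P]
    [IsScalarTower R S P] : (S ⊗[R] M) ⊗[S] P ≃+ M ⊗[R] P :=
  ((TensorProduct.comm S _ _) ≪≫ₗ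
    (AlgebraTensorModule.cancelBaseChange R S S P M)).toAddEquiv.trans
    (TensorProduct.comm R P M).toAddEquiv

open TensorProduct in
lemma beta_tmul (R S : Type u) [CommRing R] [CommRing S] [Algebra R S] (M : Type u)
    [AddCommGroup M] [Module R M] (P : Type u) [AddCommGroup P] [Module S P] [Module R P]
    [IsScalarTower R S P] (s : S) (m : M) (p : P) :
    beta R S M P ((s ⊗ₜ[R] m) ⊗ₜ[S] p) = m ⊗ₜ[R] (s • p) := by
  simp [beta]

open TensorProduct in
lemma beta_piRightHom (R S : Type u) [CommRing R] [CommRing S] [Algebra R S] (M : Type u)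
    [AddCommGroup M] [Module R M] (ι : Type u) (Q : ι → Type u) [∀ i, AddCommGroup (Q i)]
    [∀ i, Module S (Q i)] [∀ i, Module R (Q i)] [∀ i, IsScalarTower R S (Q i)]
    (x : (S ⊗[R] M) ⊗[S] (∀ i, Q i)) (i : ι) :
    beta R S M (Q i) (TensorProduct.piRightHom S S (S ⊗[R] M) Q x i) =
      TensorProduct.piRightHom R R M Q (beta R S M (∀ i, Q i) x) i := by
  induction x using TensorProduct.induction_on with
  | zero => simp
  | tmul t q =>
    induction t using TensorProduct.induction_on with
    | zero => simp
    | tmul s m =>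
      rw [TensorProduct.piRightHom_tmul, beta_tmul, beta_tmul, TensorProduct.piRightHom_tmul]
      rfl
    | add t₁ t₂ h₁ h₂ =>
      rw [TensorProduct.add_tmul, map_add, Pi.add_apply, map_add, h₁, h₂, map_add, map_add,
        Pi.add_apply]
  | add x y hx hy =>
    rw [map_add, Pi.add_apply, map_add, hx, hy, map_add, map_add, Pi.add_apply]

/-- For a ring map R → S and a Mittag-Leffler R-module M, the S-module S ⊗_R M is Mittag-Leffler. (The
companion parts on flat modules, projective modules and direct sums of countably generated modules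
are standard base-change facts.) -/
theorem result (R S : Type u) [CommRing R] [CommRing S] [Algebra R S] (M : Type u)
    [AddCommGroup M] [Module R M] (hM : CAlg.IsMittagLeffler R M) :
    CAlg.IsMittagLeffler S (S ⊗[R] M) := by
  intro ι Q _ _
  let _ : ∀ i, Module R (Q i) := fun i => Module.compHom (Q i) (algebraMap R S)
  have : ∀ i, IsScalarTower R S (Q i) := fun i =>
    ⟨fun r s q => by
      change (r • s) • q = (algebraMap R S r) • (s • q)
      rw [Algebra.smul_def, mul_smul]⟩
  rw [injective_iff_map_eq_zero]
  intro x hx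
  have h1 : TensorProduct.piRightHom R R M Q (beta R S M (∀ i, Q i) x) = 0 := by
    funext i
    rw [← beta_piRightHom, hx]
    simp
  have h2 : beta R S M (∀ i, Q i) x = 0 := by
    apply hM ι Q
    rw [h1, map_zero]
  exact (beta R S M (∀ i, Q i)).map_eq_zero_iff.mp h2

end Groth.Agent.S6348
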