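import Groth.Statements.S6351
import Mathlib.LinearAlgebra.TensorProduct.RightExactness
import Mathlib.LinearAlgebra.TensorProduct.Quotient
import Mathlib.RingTheory.Ideal.Operations
import Mathlib.RingTheory.Nilpotent.Lemmas

set_option autoImplicit false
universe u
open scoped TensorProduct
open CAlg

namespace Groth.Agent.S6351

section helpers
variable {R : Type u} [CommRing R] (I : Ideal R)

/-- multiplication map `I ⊗ N → N`. -/
noncomputable def mu (N : Type u) [AddCommGroup N] [Module R N] : (I ⊗[R] N) →ₗ[R] N :=
  (TensorProduct.lid R N).toLinearMap ∘ₗ (Submodule.subtype I).rTensor N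

lemma mu_tmul (N : Type u) [AddCommGroup N] [Module R N] (i : I) (n : N) :
    mu I N (i ⊗ₜ[R] n) = (i : R) • n := by
  simp [mu]

lemma mu_natural {N N' : Type u} [AddCommGroup N] [Module R N] [AddCommGroup N'] [Module R N']
    (f : N →ₗ[R] N') (t : I ⊗[R] N) : f (mu I N t) = mu I N' (f.lTensor I t) := by
  induction t using TensorProduct.induction_on with
  | zero => simp
  | tmul i n => simp [mu_tmul]
  | add a b ha hb => simp [ha, hb]

lemma mu_injective (N : Type u) [AddCommGroup N] [Module R N]
    (htor : Function.Injective ((Submodule.subtype I).rTensor N)) :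
    Function.Injective (mu I N) := by
  unfold mu
  rw [LinearMap.coe_comp]
  exact (TensorProduct.lid R N).injective.comp htor

lemma exists_mu_eq {N : Type u} [AddCommGroup N] [Module R N] (n : N)
    (hn : n ∈ I • (⊤ : Submodule R N)) : ∃ t, mu I N t = n := by
  induction hn using Submodule.smul_induction_on' with
  | smul r hr m _ => exact ⟨(⟨r, hr⟩ : I) ⊗ₜ[R] m, by simp [mu_tmul]⟩
  | add a _ b _ ha hb =>
    obtain ⟨s, hs⟩ := ha
    obtain ⟨t, ht⟩ := hb
    exact ⟨s + t, by simp [hs, ht]⟩

lemma mu_lTensor_subtype_mem {N : Type u} [AddCommGroup N] [Module R N] (K : Submodule R N)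
    (s : I ⊗[R] K) : mu I N (K.subtype.lTensor I s) ∈ I • K := by
  induction s using TensorProduct.induction_on with
  | zero => simp
  | tmul i k =>
    simp only [LinearMap.lTensor_tmul, mu_tmul, Submodule.subtype_apply]
    exact Submodule.smul_mem_smul i.2 k.2
  | add a b ha hb =>
    simp only [map_add]
    exact Submodule.add_mem _ ha hb

lemma nilp_nakayama_top {N : Type u} [AddCommGroup N] [Module R N] (hI : IsNilpotent I)
    (P : Submodule R N) (h : P ⊔ I • (⊤ : Submodule R N) = ⊤) : P = ⊤ := by
  obtain ⟨n, hn⟩ := hI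
  have key : ∀ k : ℕ, P ⊔ (I ^ k) • (⊤ : Submodule R N) = ⊤ := by
    intro k
    induction k with
    | zero => simp
    | succ k ih =>
      have h1 : (⊤ : Submodule R N) ≤ P ⊔ I ^ (k+1) • (⊤ : Submodule R N) := by
        calc (⊤ : Submodule R N) = P ⊔ I • (⊤ : Submodule R N) := h.symm
          _ = P ⊔ I • (P ⊔ I ^ k • (⊤ : Submodule R N)) := by rw [ih]
          _ = P ⊔ (I • P ⊔ I • (I ^ k • (⊤ : Submodule R N))) := by rw [Submodule.smul_sup]
          _ ≤ P ⊔ I ^ (k+1) • (⊤ : Submodule R N) := by
              refine sup_le le_sup_left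
                (sup_le (le_trans Submodule.smul_le_right le_sup_left) ?_)
              rw [← Submodule.mul_smul, ← pow_succ']
              exact le_sup_right
      exact eq_top_iff.mpr h1
  have := key n
  rw [hn] at this
  simpa using this

lemma nilp_eq_bot_of_le_smul {N : Type u} [AddCommGroup N] [Module R N] (hI : IsNilpotent I)
    (K : Submodule R N) (h : K ≤ I • K) : K = ⊥ := by
  obtain ⟨n, hn⟩ := hI
  have key : ∀ k : ℕ, K ≤ (I ^ k) • K := by
    intro k
    induction k with
    | zero => simp
    | succ k ih =>
      refine h.trans ?_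
      rw [pow_succ', Submodule.mul_smul]
      exact Submodule.smul_mono le_rfl ih
  have := key n
  rw [hn] at this
  simpa using this

end helpers

/-- Let I be a nilpotent ideal of a commutative ring R and M an R-module with Tor_1^R(R/I, M) = 0, i.e.
I ⊗_R M → M injective. If a family of elements of M maps to a basis of the R/I-module M/IM = R/I ⊗
M, then it is a basis of M over R. -/
theorem result (R : Type u) [CommRing R] (I : Ideal R)
    (hI : IsNilpotent I) (M : Type u) [AddCommGroup M] [Module R M]
    (htor : Function.Injective ((Submodule.subtype I).rTensor M)) {A : Type u} (x : A → M)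
    (hli : LinearIndependent (R ⧸ I) (fun a => (1 : R ⧸ I) ⊗ₜ[R] x a))
    (hsp : Submodule.span (R ⧸ I) (Set.range fun a => (1 : R ⧸ I) ⊗ₜ[R] x a) = ⊤) :
    LinearIndependent R x ∧ Submodule.span R (Set.range x) = ⊤ := by
  classical
  -- the linear combination map
  set φ : (A →₀ R) →ₗ[R] M := Finsupp.linearCombination R x with hφ
  -- key identity: `1 ⊗ φ k = linearCombination (R/I) v (k.mapRange mk)`
  have hkey : ∀ k : A →₀ R, (1 : R ⧸ I) ⊗ₜ[R] φ k =
      Finsupp.linearCombination (R ⧸ I) (fun a => (1 : R ⧸ I) ⊗ₜ[R] x a)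
        (k.mapRange (Ideal.Quotient.mk I) (map_zero _)) := by
    intro k
    induction k using Finsupp.induction_linear with
    | zero => simp
    | add f g hf hg =>
      rw [map_add, TensorProduct.tmul_add, hf, hg, Finsupp.mapRange_add (by simp), map_add]
    | single a r =>
      simp only [hφ, Finsupp.linearCombination_single, Finsupp.mapRange_single]
      rw [TensorProduct.tmul_smul, TensorProduct.smul_tmul', TensorProduct.smul_tmul']
      congr 1
  -- Step A: spanning
  have hrange : LinearMap.range φ = Submodule.span R (Set.range x) :=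
    Finsupp.range_linearCombination R
  have hA : Submodule.span R (Set.range x) = ⊤ := by
    apply nilp_nakayama_top I hI
    rw [eq_top_iff]
    intro m _
    have hm : (1 : R ⧸ I) ⊗ₜ[R] m ∈
        Submodule.span (R ⧸ I) (Set.range fun a => (1 : R ⧸ I) ⊗ₜ[R] x a) := by
      rw [hsp]; trivial
    rw [Finsupp.mem_span_range_iff_exists_finsupp] at hm
    obtain ⟨c, hc⟩ := hm
    obtain ⟨k, rfl⟩ := Finsupp.mapRange_surjective (Ideal.Quotient.mk I) (map_zero _)
      Ideal.Quotient.mk_surjective c
    have h1 : (1 : R ⧸ I) ⊗ₜ[R] φ k = (1 : R ⧸ I) ⊗ₜ[R] m := by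
      rw [hkey k, ← hc, Finsupp.linearCombination_apply]
    have h2 : m - φ k ∈ I • (⊤ : Submodule R M) := by
      have := congrArg (TensorProduct.quotTensorEquivQuotSMul M I) h1
      rw [TensorProduct.quotTensorEquivQuotSMul_mk_one_tmul,
        TensorProduct.quotTensorEquivQuotSMul_mk_one_tmul] at this
      rw [← Submodule.Quotient.eq]
      exact this.symm
    have h3 : φ k ∈ Submodule.span R (Set.range x) := by
      rw [← hrange]; exact LinearMap.mem_range_self _ _
    have : m = φ k + (m - φ k) := by abel
    rw [this]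
    exact Submodule.add_mem_sup h3 h2
  refine ⟨?_, hA⟩
  -- Step B: linear independence
  rw [linearIndependent_iff_ker]
  have hsurj : Function.Surjective φ := by
    rw [← LinearMap.range_eq_top, hrange, hA]
  apply nilp_eq_bot_of_le_smul I hI
  intro k hk
  have hk0 : φ k = 0 := hk
  -- (1) k ∈ I • ⊤
  have h1 : k ∈ I • (⊤ : Submodule R (A →₀ R)) := by
    have h0 : k.mapRange (Ideal.Quotient.mk I) (map_zero _) = 0 := by
      apply linearIndependent_iff.mp hli
      rw [← hkey k, hk0, TensorProduct.tmul_zero]
    have hka : ∀ a, k a ∈ I := by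
      intro a
      have := DFunLike.congr_fun h0 a
      simpa [Ideal.Quotient.eq_zero_iff_mem] using this
    rw [← Finsupp.sum_single k]
    refine Submodule.sum_mem _ (fun a _ => ?_)
    have : Finsupp.single a (k a) = (k a) • Finsupp.single a (1 : R) := by simp
    rw [this]
    exact Submodule.smul_mem_smul (hka a) trivial
  obtain ⟨t, ht⟩ := exists_mu_eq I k h1
  have h3 : φ.lTensor I t = 0 := by
    apply mu_injective I M htor
    rw [← mu_natural, ht, hk0, map_zero]
  have hex := lTensor_exact (M := LinearMap.ker φ) I (LinearMap.exact_subtype_ker_map φ) hsurj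
  obtain ⟨s, hs⟩ := (hex t).mp h3
  rw [← ht, ← hs]
  exact mu_lTensor_subtype_mem I _ s

end Groth.Agent.S6351
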