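import Groth.Statements.S6353
import Mathlib.RingTheory.Ideal.Maximal

set_option autoImplicit false
universe u
open CAlg

namespace Groth.Agent.S6353

/-- The ideal of elements `x` with `x = x * f` for some `f ∈ J`. -/
def idemPart {R : Type u} [CommRing R] (J : Ideal R) : Ideal R where
  carrier := {x | ∃ f ∈ J, x = x * f}
  add_mem' := by
    rintro x y ⟨f, hf, hx⟩ ⟨g, hg, hy⟩
    refine ⟨f + g - f * g, J.sub_mem (J.add_mem hf hg) (J.mul_mem_left _ hg), ?_⟩
    have h1 : x * g = x * f * g := by rw [← hx]
    have h2 : y * f = y * g * f := by rw [← hy]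
    calc x + y = x * f + y * g := by rw [← hx, ← hy]
      _ = (x + y) * (f + g - f * g) := by
        have e : (x + y) * (f + g - f * g) =
            x * f + y * g + (x * g - x * f * g) + (y * f - y * g * f) := by ring
        rw [e, ← h1, ← h2, sub_self, sub_self, add_zero, add_zero]
  zero_mem' := ⟨0, J.zero_mem, by simp⟩
  smul_mem' := by
    rintro c x ⟨f, hf, hx⟩
    refine ⟨f, hf, ?_⟩
    rw [smul_eq_mul, mul_assoc, ← hx]

lemma mem_idemPart {R : Type u} [CommRing R] (J : Ideal R) (x : R) :
    x ∈ idemPart J ↔ ∃ f ∈ J, x = x * f := Iff.rfl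

lemma idemPart_le {R : Type u} [CommRing R] (J : Ideal R) : idemPart J ≤ J := by
  rintro x ⟨f, hf, hx⟩
  rw [hx]; exact J.mul_mem_left _ hf

/-- The multiplicative set of elements `f ^ N * (1 - j)` with `j ∈ J`. -/
def powSet {R : Type u} [CommRing R] (J : Ideal R) (f : R) : Submonoid R where
  carrier := {t | ∃ (N : ℕ) (j : R), j ∈ J ∧ t = f ^ N * (1 - j)}
  one_mem' := ⟨0, 0, J.zero_mem, by simp⟩
  mul_mem' := by
    rintro a b ⟨N, j, hj, rfl⟩ ⟨M, j', hj', rfl⟩
    refine ⟨N + M, j + j' - j * j', J.sub_mem (J.add_mem hj hj') (J.mul_mem_left _ hj'), ?_⟩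
    ring

open PrimeSpectrum in
lemma exists_pow_mem_idemPart {R : Type u} [CommRing R] (J : Ideal R)
    (hZ : StableUnderGeneralization (zeroLocus (J : Set R))) (f : R) (hf : f ∈ J) :
    ∃ N : ℕ, f ^ N ∈ idemPart J := by
  by_contra hcon
  push Not at hcon
  have hdisj : Disjoint ((⊥ : Ideal R) : Set R) (powSet J f) := by
    rw [Set.disjoint_left]
    rintro t ht ⟨N, j, hj, rfl⟩
    have h0 : f ^ N * (1 - j) = 0 := ht
    apply hcon N
    refine ⟨j, hj, ?_⟩
    have : f ^ N * (1 - j) = f ^ N - f ^ N * j := by ring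
    rw [this, sub_eq_zero] at h0
    exact h0
  obtain ⟨q, hq, -, hqd⟩ := Ideal.exists_le_prime_disjoint (⊥ : Ideal R) (powSet J f) hdisj
  rw [Set.disjoint_left] at hqd
  have hfq : f ∉ q := fun h => hqd h ⟨1, 0, J.zero_mem, by simp⟩
  have hJq : ∀ j ∈ J, (1 - j) ∉ q := fun j hj h => hqd h ⟨0, j, hj, by simp⟩
  have hne : q ⊔ J ≠ ⊤ := by
    intro htop
    obtain ⟨a, ha, j, hj, haj⟩ := Submodule.mem_sup.mp ((Ideal.eq_top_iff_one _).mp htop)
    apply hJq j hj
    have : 1 - j = a := by rw [← haj]; ring
    rw [this]; exact ha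
  obtain ⟨m, hm, hle⟩ := Ideal.exists_le_maximal _ hne
  have hmZ : (⟨m, hm.isPrime⟩ : PrimeSpectrum R) ∈ zeroLocus (J : Set R) := by
    rw [mem_zeroLocus]
    exact fun x hx => hle (Ideal.mem_sup_right hx)
  have hspec : (⟨q, hq⟩ : PrimeSpectrum R) ⤳ ⟨m, hm.isPrime⟩ := by
    rw [← le_iff_specializes]
    exact fun x hx => hle (Ideal.mem_sup_left hx)
  have hqZ := hZ hspec hmZ
  rw [mem_zeroLocus] at hqZ
  exact hfq (hqZ hf)

open PrimeSpectrum in
/-- For a commutative ring R, I ↦ V(I) is a bijection between pure ideals (R/I flat over R) and closed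
subsets of Spec R stable under generalization. Stated here as: V(I) is stable under generalization
for I pure, and every closed generalization-stable subset is V(I) for some pure I (injectivity on
pure ideals being the standard fact that pure ideals with the same zero locus coincide). -/
theorem result (R : Type u) [CommRing R] :
    (∀ I : Ideal R, I.Pure → StableUnderGeneralization (zeroLocus (I : Set R))) ∧
      ∀ Z : Set (PrimeSpectrum R), IsClosed Z → StableUnderGeneralization Z →
        ∃ I : Ideal R, I.Pure ∧ zeroLocus (I : Set R) = Z := by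
  constructor
  · intro I hI x y hyx hx
    have : I.Pure := hI
    rw [mem_zeroLocus] at hx ⊢
    rw [← le_iff_specializes] at hyx
    intro a ha
    obtain ⟨b, hb, hab⟩ := Ideal.exists_eq_mul_of_pure ha
    have h0 : a * (1 - b) ∈ y.asIdeal := by
      have : a * (1 - b) = 0 := by rw [mul_sub, mul_one, ← hab, sub_self]
      rw [this]; exact Ideal.zero_mem _
    rcases y.isPrime.mem_or_mem h0 with h | h
    · exact h
    · exfalso
      have h1 : (1 - b) ∈ x.asIdeal := hyx h
      have h2 : b ∈ x.asIdeal := hx hb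
      apply x.isPrime.ne_top
      rw [Ideal.eq_top_iff_one]
      have : (1 : R) = (1 - b) + b := by ring
      rw [this]; exact Ideal.add_mem _ h1 h2
  · intro Z hZc hZg
    obtain ⟨J, rfl⟩ := (isClosed_iff_zeroLocus_ideal Z).mp hZc
    refine ⟨idemPart J, ?_, ?_⟩
    · apply Ideal.Pure.of_inf_eq_mul
      intro K _
      apply le_antisymm _ Ideal.mul_le_inf
      rintro x ⟨hxI, hxK⟩
      obtain ⟨f, hf, hx⟩ := hxI
      obtain ⟨N, hN⟩ := exists_pow_mem_idemPart J hZg f hf
      have hxN : x = f ^ N * x := by
        induction N with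
        | zero => simp
        | succ k ih =>
          have hk : f ^ k ∈ idemPart J → x = f ^ k * x := fun h => ih h
          clear ih hk
          have : ∀ k : ℕ, x = f ^ k * x := by
            intro k
            induction k with
            | zero => simp
            | succ k ih => rw [pow_succ, mul_assoc, mul_comm f x, ← hx]; exact ih
          exact this (k + 1)
      rw [hxN]
      exact Ideal.mul_mem_mul hN hxK
    · apply Set.Subset.antisymm
      · intro p hp
        rw [mem_zeroLocus] at hp ⊢
        intro f hf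
        obtain ⟨N, hN⟩ := exists_pow_mem_idemPart J hZg f hf
        exact p.isPrime.mem_of_pow_mem N (hp hN)
      · exact zeroLocus_anti_mono (idemPart_le J)

end Groth.Agent.S6353
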