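import Groth.Statements.S6354
import Mathlib.RingTheory.Spectrum.Prime.Topology
import Mathlib.RingTheory.Ideal.IdempotentFG
import Mathlib.RingTheory.Flat.Basic

set_option autoImplicit false
universe u
open CAlg

namespace Groth.Agent.S6354

lemma pure_of_span_idem {R : Type u} [CommRing R] (e : R) (he : IsIdempotentElem e) :
    (Ideal.span {e}).Pure := by
  apply Ideal.Pure.of_isIdempotentElem ⟨{e}, by simp⟩
  rw [Ideal.isIdempotentElem_iff_of_fg _ ⟨{e}, by simp⟩]
  exact ⟨e, he, rfl⟩

open PrimeSpectrum in
/-- For an ideal I of a commutative ring R these four conditions are equivalent: (1) I is finitely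
generated and pure; (2) I = (e) for some idempotent e; (3) I is pure with V(I) open in Spec R; (4)
R/I is projective as an R-module. -/
theorem result (R : Type u) [CommRing R] (I : Ideal R) :
    List.TFAE [I.Pure ∧ I.FG, ∃ e : R, IsIdempotentElem e ∧ I = Ideal.span {e},
      I.Pure ∧ IsOpen (zeroLocus (I : Set R)), Module.Projective R (R ⧸ I)] := by
  tfae_have 1 → 2 := by
    rintro ⟨hp, hfg⟩
    have : I.Pure := hp
    have hid := Ideal.isIdempotentElem_of_pure I
    exact (Ideal.isIdempotentElem_iff_of_fg I hfg).mp hid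
  tfae_have 2 → 4 := by
    rintro ⟨e, he, rfl⟩
    let i : (R ⧸ Ideal.span {e}) →ₗ[R] R :=
      Submodule.liftQ (Ideal.span {e}) (LinearMap.mulRight R (1 - e)) (by
        intro x hx
        obtain ⟨a, rfl⟩ := Ideal.mem_span_singleton'.mp hx
        simp only [LinearMap.mem_ker, LinearMap.mulRight_apply]
        rw [mul_assoc, mul_sub, mul_one, he.eq, sub_self, mul_zero])
    apply Module.Projective.of_split i (Submodule.mkQ (Ideal.span {e}))
    ext
    simp only [LinearMap.coe_comp, Function.comp_apply, Submodule.mkQ_apply,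
      LinearMap.id_comp, i]
    rw [Submodule.liftQ_apply, LinearMap.mulRight_apply, one_mul, Submodule.Quotient.mk_sub,
      sub_eq_self]
    exact (Submodule.Quotient.mk_eq_zero _).mpr (Ideal.subset_span rfl)
  tfae_have 4 → 1 := by
    intro hproj
    refine ⟨inferInstance, ?_⟩
    obtain ⟨σ, hσ⟩ := Module.projective_lifting_property (Submodule.mkQ I) LinearMap.id
      (Submodule.mkQ_surjective I)
    set c : R := σ (Submodule.Quotient.mk 1) with hc
    have hc1 : (1 - c) ∈ I := by
      have := LinearMap.congr_fun hσ (Submodule.Quotient.mk 1)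
      simp only [LinearMap.coe_comp, Function.comp_apply, Submodule.mkQ_apply,
        LinearMap.id_coe, id_eq] at this
      rw [← Submodule.Quotient.mk_eq_zero I, Submodule.Quotient.mk_sub, hc, this, sub_self]
    have hxc : ∀ x ∈ I, x * c = 0 := by
      intro x hx
      have : x * c = σ (x • Submodule.Quotient.mk 1) := by rw [map_smul, smul_eq_mul]
      rw [this, ← Submodule.Quotient.mk_smul, smul_eq_mul, mul_one,
        (Submodule.Quotient.mk_eq_zero I).mpr hx, map_zero]
    refine ⟨{1 - c}, ?_⟩
    apply le_antisymm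
    · rw [Finset.coe_singleton]
      exact (Ideal.span_singleton_le_iff_mem I).mpr hc1
    · intro x hx
      rw [Finset.coe_singleton]
      apply Ideal.mem_span_singleton'.mpr
      exact ⟨x, by rw [mul_sub, mul_one, hxc x hx, sub_zero]⟩
  tfae_have 2 → 3 := by
    rintro ⟨e, he, rfl⟩
    refine ⟨pure_of_span_idem e he, ?_⟩
    rw [PrimeSpectrum.zeroLocus_span]
    exact ((PrimeSpectrum.isClopen_iff_zeroLocus).mpr ⟨e, he, rfl⟩).isOpen
  tfae_have 3 → 2 := by
    rintro ⟨hp, hopen⟩
    have hclopen : IsClopen (PrimeSpectrum.zeroLocus (I : Set R)) :=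
      ⟨PrimeSpectrum.isClosed_zeroLocus _, hopen⟩
    obtain ⟨e, he, hze⟩ := PrimeSpectrum.isClopen_iff_zeroLocus.mp hclopen
    refine ⟨e, he, ?_⟩
    have : I.Pure := hp
    have := pure_of_span_idem e he
    apply Ideal.zeroLocus_inj_of_pure.mp
    rw [hze, PrimeSpectrum.zeroLocus_span]
  tfae_finish

end Groth.Agent.S6354
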