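import Groth.Statements.S6355
import Groth.Agent.Lib.LocConstRank

set_option autoImplicit false
universe u
open CAlg

namespace Groth.Agent.S6355

open PrimeSpectrum

section pure

variable {R : Type u} [CommRing R]

/-- the ideal `ker (R → (1 + 𝔞)⁻¹ R)`. -/
def pureIdeal (𝔞 : Ideal R) : Ideal R where
  carrier := {x | ∃ y ∈ 𝔞, (1 + y) * x = 0}
  add_mem' := by
    rintro x x' ⟨y, hy, hx⟩ ⟨y', hy', hx'⟩
    refine ⟨y + y' + y * y', 𝔞.add_mem (𝔞.add_mem hy hy') (𝔞.mul_mem_left _ hy'), ?_⟩
    have h1 : (1 + (y + y' + y * y')) * (x + x') =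
        (1 + y') * ((1 + y) * x) + (1 + y) * ((1 + y') * x') := by ring
    rw [h1, hx, hx', mul_zero, mul_zero, add_zero]
  zero_mem' := ⟨0, 𝔞.zero_mem, by simp⟩
  smul_mem' := by
    rintro c x ⟨y, hy, hx⟩
    refine ⟨y, hy, ?_⟩
    rw [smul_eq_mul, mul_left_comm, hx, mul_zero]

theorem mem_pureIdeal {𝔞 : Ideal R} {x : R} :
    x ∈ pureIdeal 𝔞 ↔ ∃ y ∈ 𝔞, (1 + y) * x = 0 := Iff.rfl

/-- If `V(𝔞)` is stable under generalization then every element of `𝔞` has a power in the
pure ideal. -/
theorem exists_pow_mem_pureIdeal (𝔞 : Ideal R)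
    (hgen : StableUnderGeneralization (zeroLocus (𝔞 : Set R))) (y : R) (hy : y ∈ 𝔞) :
    ∃ n : ℕ, y ^ n ∈ pureIdeal 𝔞 := by
  by_contra hcon
  push Not at hcon
  -- the submonoid 1 + 𝔞
  let S : Submonoid R :=
    { carrier := {s | s - 1 ∈ 𝔞}
      one_mem' := by simp
      mul_mem' := by
        intro s t hs ht
        have : s * t - 1 = (s - 1) * t + (t - 1) := by ring
        change s * t - 1 ∈ 𝔞
        rw [this]
        exact 𝔞.add_mem (𝔞.mul_mem_right _ hs) ht }
  let T : Submonoid R := S ⊔ Submonoid.powers y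
  have hdisj : Disjoint ((⊥ : Ideal R) : Set R) (T : Set R) := by
    rw [Set.disjoint_left]
    intro x hx hxT
    have hx0 : x = 0 := hx
    subst hx0
    obtain ⟨s, hs, t, ⟨n, rfl⟩, hst⟩ := Submonoid.mem_sup.mp hxT
    apply hcon n
    refine ⟨s - 1, hs, ?_⟩
    have : 1 + (s - 1) = s := by ring
    rw [this]
    exact hst
  obtain ⟨p, hp, -, hpT⟩ := Ideal.exists_le_prime_disjoint (⊥ : Ideal R) T hdisj
  have hyp : y ∉ p := fun hyp =>
    Set.disjoint_left.mp hpT hyp (Submonoid.mem_sup_right (Submonoid.mem_powers y))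
  have hpS : ∀ s ∈ S, s ∉ p := fun s hs hsp =>
    Set.disjoint_left.mp hpT hsp (Submonoid.mem_sup_left hs)
  have hne : p ⊔ 𝔞 ≠ ⊤ := by
    intro htop
    have h1 : (1 : R) ∈ p ⊔ 𝔞 := by rw [htop]; trivial
    obtain ⟨x, hx, z, hz, hxz⟩ := Submodule.mem_sup.mp h1
    apply hpS x _ hx
    change x - 1 ∈ 𝔞
    have : x - 1 = -z := by rw [← hxz]; ring
    rw [this]
    exact 𝔞.neg_mem hz
  obtain ⟨m, hm, hle⟩ := Ideal.exists_le_maximal _ hne
  have hmZ : (⟨m, hm.isPrime⟩ : PrimeSpectrum R) ∈ zeroLocus (𝔞 : Set R) := by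
    rw [mem_zeroLocus]
    intro z hz
    exact hle (Ideal.mem_sup_right hz)
  have hspec : (⟨p, hp⟩ : PrimeSpectrum R) ⤳ ⟨m, hm.isPrime⟩ :=
    (PrimeSpectrum.le_iff_specializes _ _).mp
      (show p ≤ m from fun z hz => hle (Ideal.mem_sup_left hz))
  have hpZ := hgen hspec hmZ
  rw [mem_zeroLocus] at hpZ
  exact hyp (hpZ hy)

theorem pureIdeal_pure (𝔞 : Ideal R)
    (hgen : StableUnderGeneralization (zeroLocus (𝔞 : Set R))) :
    Module.Flat R (R ⧸ pureIdeal 𝔞) := by
  have key : ∀ x ∈ pureIdeal 𝔞, ∃ z ∈ pureIdeal 𝔞, x = x * z := by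
    rintro x ⟨y, hy, hx⟩
    obtain ⟨n, hn⟩ := exists_pow_mem_pureIdeal 𝔞 hgen y hy
    have hxy : x = x * (-y) := by
      have : (1 + y) * x = x - x * (-y) := by ring
      rw [this, sub_eq_zero] at hx
      exact hx
    have hpow : ∀ k : ℕ, x = x * (-y) ^ k := by
      intro k
      induction k with
      | zero => simp
      | succ k ih => rw [pow_succ, ← mul_assoc, ← ih, ← hxy]
    refine ⟨(-y) ^ n, ?_, hpow n⟩
    rw [neg_pow]
    exact Ideal.mul_mem_left _ _ hn
  apply Ideal.Pure.of_inf_eq_mul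
  intro J _
  refine le_antisymm ?_ Ideal.mul_le_inf
  rintro x ⟨hxI, hxJ⟩
  obtain ⟨z, hz, h⟩ := key x hxI
  have hx' : z * x ∈ pureIdeal 𝔞 * J := Ideal.mul_mem_mul hz hxJ
  rw [mul_comm z x, ← h] at hx'
  exact hx'

theorem zeroLocus_pureIdeal (𝔞 : Ideal R)
    (hgen : StableUnderGeneralization (zeroLocus (𝔞 : Set R))) :
    zeroLocus (pureIdeal 𝔞 : Set R) = zeroLocus (𝔞 : Set R) := by
  ext p
  rw [mem_zeroLocus, mem_zeroLocus]
  constructor
  · intro hI y hy
    obtain ⟨n, hn⟩ := exists_pow_mem_pureIdeal 𝔞 hgen y hy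
    exact p.isPrime.mem_of_pow_mem n (hI hn)
  · rintro ha x ⟨y, hy, hx⟩
    have h1 : (1 + y) * x ∈ p.asIdeal := by rw [hx]; exact p.asIdeal.zero_mem
    rcases p.isPrime.mem_or_mem h1 with h | h
    · exfalso
      apply p.isPrime.one_notMem
      have : (1 : R) = (1 + y) - y := by ring
      rw [this]
      exact p.asIdeal.sub_mem h (ha hy)
    · exact h

/-- If `R ⧸ I` is projective then `V(I)` is open. -/
theorem isOpen_zeroLocus_of_projective (I : Ideal R) [Module.Projective R (R ⧸ I)] :
    IsOpen (zeroLocus (I : Set R)) := by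
  obtain ⟨σ, hσ⟩ := Module.projective_lifting_property (Submodule.mkQ I) LinearMap.id
    (Submodule.mkQ_surjective I)
  let e : R := σ (Submodule.Quotient.mk 1)
  have he1 : 1 - e ∈ I := by
    have := LinearMap.congr_fun hσ (Submodule.Quotient.mk 1)
    rw [LinearMap.comp_apply, LinearMap.id_apply, Submodule.mkQ_apply] at this
    rw [← Submodule.Quotient.mk_eq_zero, Submodule.Quotient.mk_sub, this, sub_self]
  have hIe : ∀ x ∈ I, x * e = 0 := by
    intro x hx
    have : x * e = σ (x • Submodule.Quotient.mk 1) := by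
      rw [map_smul, smul_eq_mul]
    rw [this, ← Submodule.Quotient.mk_smul, (Submodule.Quotient.mk_eq_zero I).mpr
      (by rw [smul_eq_mul, mul_one]; exact hx), map_zero]
  have : zeroLocus (I : Set R) = (basicOpen e : Set (PrimeSpectrum R)) := by
    ext p
    rw [mem_zeroLocus, SetLike.mem_coe, mem_basicOpen]
    constructor
    · intro hI hep
      apply p.isPrime.one_notMem
      have : (1 : R) = (1 - e) + e := by ring
      rw [this]
      exact p.asIdeal.add_mem (hI he1) hep
    · intro hep x hx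
      have h0 : x * e ∈ p.asIdeal := by rw [hIe x hx]; exact p.asIdeal.zero_mem
      exact (p.isPrime.mem_or_mem h0).resolve_right hep
  rw [this]
  exact (basicOpen e).isOpen

end pure

/-- For a commutative ring R the following are equivalent: (1) every subset of Spec R which is closed
and stable under generalization is open; (2) every finite flat R-module is finite locally free, i.e.
(for finite modules) projective. -/
theorem result (R : Type u) [CommRing R] :
    (∀ Z : Set (PrimeSpectrum R), IsClosed Z → StableUnderGeneralization Z → IsOpen Z) ↔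
      ∀ (M : Type u) [AddCommGroup M] [Module R M], Module.Finite R M → Module.Flat R M →
        Module.Projective R M := by
  constructor
  · intro h M _ _ hfin hflat
    apply Groth.Agent.Lib.LocConstRank.projective_of_isLocallyConstant_rankAtStalk
    rw [IsLocallyConstant.iff_isOpen_fiber]
    intro r
    have husc := Groth.Agent.Lib.TFunRank.upperSemicontinuous_fibRank (A := R) M
    rw [← Groth.Agent.Lib.LocConstRank.rankAtStalk_eq_fibRank] at husc
    have hlt : ∀ k : ℕ, IsOpen {p : PrimeSpectrum R | Module.rankAtStalk M p < k} := fun k =>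
      (upperSemicontinuous_iff_isOpen_preimage.mp husc) k
    have hge : IsOpen {p : PrimeSpectrum R | r ≤ Module.rankAtStalk M p} := by
      apply h
      · have : {p : PrimeSpectrum R | r ≤ Module.rankAtStalk M p} =
            {p : PrimeSpectrum R | Module.rankAtStalk M p < r}ᶜ := by
          ext p
          simp
        rw [this]
        exact (hlt r).isClosed_compl
      · intro x y hyx hx
        have hle : y ≤ x := (PrimeSpectrum.le_iff_specializes y x).mpr hyx
        have := Module.rankAtStalk_eq_of_le_of_finite_of_flat M hle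
        change r ≤ Module.rankAtStalk M y
        rw [this]
        exact hx
    have : Module.rankAtStalk (R := R) M ⁻¹' {r} =
        {p : PrimeSpectrum R | r ≤ Module.rankAtStalk M p} ∩
          {p : PrimeSpectrum R | Module.rankAtStalk M p < r + 1} := by
      ext p
      simp only [Set.mem_preimage, Set.mem_singleton_iff, Set.mem_inter_iff, Set.mem_ofPred_eq]
      omega
    rw [this]
    exact hge.inter (hlt (r + 1))
  · intro h Z hZc hZg
    let 𝔞 := vanishingIdeal Z
    have hZ : zeroLocus (𝔞 : Set R) = Z := by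
      rw [zeroLocus_vanishingIdeal_eq_closure, hZc.closure_eq]
    have hgen : StableUnderGeneralization (zeroLocus (𝔞 : Set R)) := by rw [hZ]; exact hZg
    have hflat := pureIdeal_pure 𝔞 hgen
    have hproj : Module.Projective R (R ⧸ pureIdeal 𝔞) :=
      h (R ⧸ pureIdeal 𝔞) inferInstance hflat
    rw [← hZ, ← zeroLocus_pureIdeal 𝔞 hgen]
    exact isOpen_zeroLocus_of_projective (pureIdeal 𝔞)

end Groth.Agent.S6355
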