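import Groth.Statements.S6358
import Groth.Agent.Lib.UnivInj
import Groth.Agent.S6346
import Groth.Agent.S6344
import Mathlib.LinearAlgebra.TensorProduct.Pi
import Mathlib.Algebra.BigOperators.Fin

set_option autoImplicit false
universe u
open CAlg

namespace Groth.Agent.S6358

open TensorProduct

section
variable {R : Type u} [CommRing R] {M : Type u} [AddCommGroup M] [Module R M]

lemma span_single_eq_top (n : ℕ) : Submodule.span R
    (Set.range (fun i : Fin n => (Pi.single i 1 : Fin n → R))) = ⊤ := by
  have h0 := (Pi.basisFun R (Fin n)).span_eq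
  have h1 : (⇑(Pi.basisFun R (Fin n)) : Fin n → (Fin n → R)) =
      fun i : Fin n => (Pi.single i 1 : Fin n → R) := by
    funext i
    exact Pi.basisFun_apply R (Fin n) i
  rwa [h1] at h0

/-- If `(f ⊗ N) x = 0` for `f : Rⁿ → M`, then `f` factors through a finitely presented quotient
`g : Rⁿ → Rⁿ'/K` with `(g ⊗ N) x = 0`. -/
lemma exists_factor_of_rTensor_eq_zero {n : ℕ} (f : (Fin n → R) →ₗ[R] M)
    (N : Type u) [AddCommGroup N] [Module R N]
    (x : (Fin n → R) ⊗[R] N) (hx : f.rTensor N x = 0) :
    ∃ (n' : ℕ) (K : Submodule R (Fin n' → R)) (g : (Fin n → R) →ₗ[R] (Fin n' → R) ⧸ K)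
      (h : ((Fin n' → R) ⧸ K) →ₗ[R] M), K.FG ∧ h ∘ₗ g = f ∧ g.rTensor N x = 0 := by
  classical
  let e : Fin n → (Fin n → R) := fun j => Pi.single j 1
  have he : Submodule.span R (Set.range e) = ⊤ := span_single_eq_top n
  obtain ⟨xs, hxs⟩ := Groth.Agent.Lib.UnivInj.exists_sum_tmul_of_span e he x
  let m : Fin n → M := fun j => f (e j)
  let J : Submodule R M := Submodule.span R (Set.range m)
  have hJ : J.FG := Submodule.fg_span (Set.finite_range m)
  have hmJ : ∀ j, m j ∈ J := fun j => Submodule.subset_span ⟨j, rfl⟩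
  let t₀ : J ⊗[R] N := ∑ j, (⟨m j, hmJ j⟩ : J) ⊗ₜ[R] xs j
  have h1 : J.subtype.rTensor N t₀ = J.subtype.rTensor N 0 := by
    rw [map_zero, ← hx, hxs]
    simp only [t₀, map_sum, LinearMap.rTensor_tmul, Submodule.subtype_apply, m]
  obtain ⟨J', hJ', hle, h2⟩ := hJ.exists_rTensor_fg_inclusion_eq h1
  rw [map_zero] at h2
  have hfin : Module.Finite R J' := Module.Finite.iff_fg.2 hJ'
  obtain ⟨n', q, hq⟩ := Module.Finite.exists_fin (R := R) (M := J')
  let m' : Fin n → J' := fun j => ⟨m j, hle (hmJ j)⟩
  let gen : Fin (n + n') → J' := Fin.append m' q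
  have hgen : Submodule.span R (Set.range gen) = ⊤ := by
    rw [eq_top_iff, ← hq]
    apply Submodule.span_mono
    rintro _ ⟨j, rfl⟩
    exact ⟨Fin.natAdd n j, by simp [gen]⟩
  let xs' : Fin (n + n') → N := Fin.append xs (fun _ => 0)
  have hsum : ∑ i, gen i ⊗ₜ[R] xs' i = (0 : J' ⊗[R] N) := by
    rw [Fin.sum_univ_add]
    simp only [gen, xs', Fin.append_left, Fin.append_right, tmul_zero, Finset.sum_const_zero,
      add_zero]
    rw [← h2]
    simp only [t₀, map_sum, LinearMap.rTensor_tmul]
    rfl
  obtain ⟨k, a, y, hy, ha⟩ := TensorProduct.vanishesTrivially_of_sum_tmul_eq_zero R hgen hsum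
  let col : Fin k → (Fin (n + n') → R) := fun l i => a i l
  let K : Submodule R (Fin (n + n') → R) := Submodule.span R (Set.range col)
  have hKfg : K.FG := Submodule.fg_span (Set.finite_range col)
  let lin : (Fin (n + n') → R) →ₗ[R] M := Fintype.linearCombination R (fun i => (gen i : M))
  have hK : K ≤ LinearMap.ker lin := by
    apply Submodule.span_le.mpr
    rintro _ ⟨l, rfl⟩
    rw [SetLike.mem_coe, LinearMap.mem_ker]
    simp only [lin, Fintype.linearCombination_apply, col]
    have := congrArg (fun z : J' => (z : M)) (ha l)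
    simpa using this
  let h : ((Fin (n + n') → R) ⧸ K) →ₗ[R] M := K.liftQ lin hK
  let ext0 : (Fin n → R) →ₗ[R] (Fin (n + n') → R) :=
    Fintype.linearCombination R
      (fun j : Fin n => (Pi.single (Fin.castAdd n' j) 1 : Fin (n + n') → R))
  let g : (Fin n → R) →ₗ[R] (Fin (n + n') → R) ⧸ K := K.mkQ ∘ₗ ext0
  have hext0 : ∀ j, ext0 (e j) = Pi.single (Fin.castAdd n' j) 1 := by
    intro j
    simp [ext0, e, Fintype.linearCombination_apply, Pi.single_apply, Finset.sum_ite_eq']
  refine ⟨n + n', K, g, h, hKfg, ?_, ?_⟩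
  · apply (Pi.basisFun R (Fin n)).ext
    intro j
    rw [Pi.basisFun_apply]
    show h (K.mkQ (ext0 (e j))) = f (e j)
    rw [hext0]
    simp [h, lin, Fintype.linearCombination_apply, Pi.single_apply, Finset.sum_ite_eq', gen, m', m]
  · rw [hxs]
    simp only [map_sum, LinearMap.rTensor_tmul]
    have hsplit : ∑ i : Fin (n + n'), (K.mkQ (Pi.single i 1)) ⊗ₜ[R] xs' i =
        ∑ j : Fin n, g (e j) ⊗ₜ[R] xs j := by
      rw [Fin.sum_univ_add]
      simp only [xs', Fin.append_left, Fin.append_right, tmul_zero, Finset.sum_const_zero,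
        add_zero]
      refine Finset.sum_congr rfl fun j _ => ?_
      show _ = (K.mkQ (ext0 (e j))) ⊗ₜ[R] xs j
      rw [hext0]
    rw [← hsplit]
    have hcol : ∀ l, ∑ i, a i l • K.mkQ (Pi.single i 1) = 0 := by
      intro l
      have : ∑ i, a i l • K.mkQ (Pi.single i (1 : R)) = K.mkQ (col l) := by
        simp only [← map_smul, ← map_sum]
        congr 1
        ext i'
        simp [col, Finset.sum_apply, Pi.single_apply]
      rw [this]
      exact (Submodule.Quotient.mk_eq_zero K).2 (Submodule.subset_span ⟨l, rfl⟩)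
    simp only [hy, TensorProduct.tmul_sum, TensorProduct.tmul_smul]
    rw [Finset.sum_comm]
    simp only [TensorProduct.smul_tmul', ← TensorProduct.sum_tmul, hcol, TensorProduct.zero_tmul,
      Finset.sum_const_zero]

end

/-- bundled modules, to be able to `choose` them -/
structure Bdl (R : Type u) [CommRing R] where
  N : Type u
  [grp : AddCommGroup N]
  [mod : Module R N]

attribute [instance] Bdl.grp Bdl.mod

lemma exists_fin_rep' {R : Type u} [CommRing R] {M : Type u} [AddCommGroup M] [Module R M]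
    {P : Type u} [AddCommGroup P] [Module R P] (t : M ⊗[R] P) :
    ∃ (n : ℕ) (f : (Fin n → R) →ₗ[R] M) (x : (Fin n → R) ⊗[R] P), t = f.rTensor P x := by
  obtain ⟨n, g, x, hx⟩ := Groth.Agent.S6346.exists_fin_rep (TensorProduct.comm R M P t)
  exact ⟨n, g, x, (TensorProduct.comm R M P).injective hx⟩

/-- A module M over a commutative ring R is Mittag-Leffler exactly when each linear map f from a finite
free module R^n into M is mutually dominated by some linear map g : R^n → Q with Q finitely
presented, meaning that f ⊗ id_N and g ⊗ id_N have the same kernel for every R-module N. -/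
theorem result (R : Type u) [CommRing R] (M : Type u)
    [AddCommGroup M] [Module R M] :
    CAlg.IsMittagLeffler R M ↔
      ∀ (n : ℕ) (f : (Fin n → R) →ₗ[R] M),
        ∃ (Q : Type u) (_ : AddCommGroup Q) (_ : Module R Q) (_ : Module.FinitePresentation R Q)
          (g : (Fin n → R) →ₗ[R] Q),
          ∀ (N : Type u) [AddCommGroup N] [Module R N],
            LinearMap.ker (f.rTensor N) = LinearMap.ker (g.rTensor N) := by
  constructor
  · intro hML n f
    by_contra hcon
    -- index type of all factorizations through finitely presented quotients of finite free modules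
    let I : Type u := Σ (n' : ℕ) (K : Submodule R (Fin n' → R)),
      {p : ((Fin n → R) →ₗ[R] ((Fin n' → R) ⧸ K)) × (((Fin n' → R) ⧸ K) →ₗ[R] M) //
        K.FG ∧ p.2 ∘ₗ p.1 = f}
    let Qf : I → Type u := fun α => (Fin α.1 → R) ⧸ α.2.1
    let gf : ∀ α : I, (Fin n → R) →ₗ[R] Qf α := fun α => α.2.2.1.1
    let hf : ∀ α : I, Qf α →ₗ[R] M := fun α => α.2.2.1.2
    have hfac : ∀ α : I, hf α ∘ₗ gf α = f := fun α => α.2.2.2.2
    have hfp : ∀ α : I, Module.FinitePresentation R (Qf α) := fun α =>
      Module.finitePresentation_of_surjective α.2.1.mkQ α.2.1.mkQ_surjective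
        (by rw [Submodule.ker_mkQ]; exact α.2.2.2.1)
    have key : ∀ α : I, ∃ N : Bdl R, ∃ x : (Fin n → R) ⊗[R] N.N,
        f.rTensor N.N x = 0 ∧ (gf α).rTensor N.N x ≠ 0 := by
      intro α
      by_contra hno
      apply hcon
      refine ⟨Qf α, inferInstance, inferInstance, hfp α, gf α, ?_⟩
      intro N _ _
      ext x
      simp only [LinearMap.mem_ker]
      constructor
      · intro hx
        by_contra hg
        exact hno ⟨⟨N⟩, x, hx, hg⟩
      · intro hx
        rw [← hfac α, LinearMap.rTensor_comp, LinearMap.comp_apply, hx, map_zero]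
    choose Nα xα hxα using key
    have hfg : (⊤ : Submodule R (Fin n → R)).FG := by
      rw [← Module.finite_def]; infer_instance
    obtain ⟨X, hX⟩ := Groth.Agent.S6340.piRightHom_surjective_of_fg hfg I
      (fun α => (Nα α).N) (fun α => xα α)
    have h0 : f.rTensor (∀ α, (Nα α).N) X = 0 := by
      apply hML I (fun α => (Nα α).N)
      funext α
      rw [Groth.Agent.S6338.piRightHom_naturality, hX, (hxα α).1]
      simp
    obtain ⟨n', K, g, h, hK, hgh, hgX⟩ := exists_factor_of_rTensor_eq_zero f _ X h0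
    let β : I := ⟨n', K, ⟨(g, h), hK, hgh⟩⟩
    apply (hxα β).2
    have := Groth.Agent.S6338.piRightHom_naturality R (gf β) I (fun α => (Nα α).N) X β
    rw [hX] at this
    rw [← this]
    show TensorProduct.piRightHom R R _ _ (g.rTensor _ X) β = 0
    rw [hgX]
    simp
  · intro hdom ι Q _ _
    rw [injective_iff_map_eq_zero]
    intro t ht
    obtain ⟨n, f, x, rfl⟩ := exists_fin_rep' t
    obtain ⟨Q', _, _, hfp, g, hker⟩ := hdom n f
    have hmem : x ∈ LinearMap.ker (g.rTensor (∀ i, Q i)) := by
      rw [LinearMap.mem_ker]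
      apply Groth.Agent.S6344.ml_of_finitePresentation R Q' ι Q
      funext i
      rw [Groth.Agent.S6338.piRightHom_naturality, map_zero]
      have h1 : TensorProduct.piRightHom R R (Fin n → R) Q x i ∈
          LinearMap.ker (f.rTensor (Q i)) := by
        rw [LinearMap.mem_ker, ← Groth.Agent.S6338.piRightHom_naturality, ht]
        rfl
      rw [hker (Q i)] at h1
      exact h1
    rw [← hker (∀ i, Q i)] at hmem
    exact hmem

end Groth.Agent.S6358
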