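import Groth.Statements.S6356
import Groth.Agent.S6358
import Mathlib.LinearAlgebra.Isomorphisms

set_option autoImplicit false
universe u
open scoped TensorProduct
open CAlg

namespace Groth.Agent.S6356

open TensorProduct

/-- An R-module M is Mittag-Leffler if and only if for every finitely presented module P and every
linear map f : P → M there exist a finitely presented module Q and a linear map g : P → Q such that
f and g dominate each other, i.e. for every module N the maps f ⊗ id_N and g ⊗ id_N have the same
kernel. -/
theorem result (R : Type u) [CommRing R] (M : Type u)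
    [AddCommGroup M] [Module R M] :
    CAlg.IsMittagLeffler R M ↔
      ∀ (P : Type u) [AddCommGroup P] [Module R P] [Module.FinitePresentation R P] (f : P →ₗ[R] M),
        ∃ (Q : Type u) (_ : AddCommGroup Q) (_ : Module R Q) (_ : Module.FinitePresentation R Q) (g : P →ₗ[R] Q),
          ∀ (N : Type u) [AddCommGroup N] [Module R N],
            LinearMap.ker (f.rTensor N) = LinearMap.ker (g.rTensor N) := by
  constructor
  · intro hML P _ _ _ f
    obtain ⟨n, π, hπ⟩ := Module.Finite.exists_fin' R P
    obtain ⟨Q, _, _, hfp, g', hker⟩ := (Groth.Agent.S6358.result R M).mp hML n (f ∘ₗ π)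
    -- kernels agree for N = R
    have hle : LinearMap.ker π ≤ LinearMap.ker g' := by
      intro c hc
      rw [LinearMap.mem_ker] at hc ⊢
      have h1 : c ⊗ₜ[R] (1 : R) ∈ LinearMap.ker ((f ∘ₗ π).rTensor R) := by
        rw [LinearMap.mem_ker, LinearMap.rTensor_tmul, LinearMap.comp_apply, hc, map_zero,
          TensorProduct.zero_tmul]
      rw [hker R, LinearMap.mem_ker, LinearMap.rTensor_tmul] at h1
      have := congrArg (TensorProduct.rid R Q) h1
      simpa using this
    let eqv := π.quotKerEquivOfSurjective hπ
    let g : P →ₗ[R] Q := (LinearMap.ker π).liftQ g' hle ∘ₗ eqv.symm.toLinearMap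
    have hgπ : g ∘ₗ π = g' := by
      refine LinearMap.ext fun c => ?_
      have : eqv.symm (π c) = Submodule.Quotient.mk c :=
        LinearMap.quotKerEquivOfSurjective_symm_apply π hπ c
      simp only [g, LinearMap.comp_apply, LinearEquiv.coe_coe, this]
      rfl
    refine ⟨Q, inferInstance, inferInstance, hfp, g, ?_⟩
    intro N _ _
    ext x
    obtain ⟨x', rfl⟩ := LinearMap.rTensor_surjective N hπ x
    have h1 : f.rTensor N (π.rTensor N x') = (f ∘ₗ π).rTensor N x' := by
      rw [LinearMap.rTensor_comp, LinearMap.comp_apply]
    have h2 : g.rTensor N (π.rTensor N x') = g'.rTensor N x' := by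
      rw [← LinearMap.comp_apply, ← LinearMap.rTensor_comp, hgπ]
    have hk := hker N
    rw [LinearMap.mem_ker, LinearMap.mem_ker, h1, h2]
    constructor
    · intro hx
      have h3 : x' ∈ LinearMap.ker ((f ∘ₗ π).rTensor N) := hx
      rw [hk] at h3
      exact h3
    · intro hx
      have h3 : x' ∈ LinearMap.ker (g'.rTensor N) := hx
      rw [← hk] at h3
      exact h3
  · intro h
    rw [Groth.Agent.S6358.result]
    intro n f
    exact h (Fin n → R) f

end Groth.Agent.S6356
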