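import Groth.Statements.S6357
import Groth.Agent.S6359
import Groth.Agent.S6358
import Mathlib.LinearAlgebra.TensorProduct.DirectLimit
import Mathlib.Data.Fintype.Order

set_option autoImplicit false
universe u
open CAlg

namespace Groth.Agent.S6357

open TensorProduct Module Module.DirectLimit

section
variable {R : Type u} [CommRing R] {ι : Type u}
    [Preorder ι] [IsDirected ι (· ≤ ·)] [Nonempty ι] [DecidableEq ι] {G : ι → Type u}
    [∀ i, AddCommGroup (G i)] [∀ i, Module R (G i)]
    (f : ∀ i j, i ≤ j → G i →ₗ[R] G j) [DirectedSystem G fun i j h => f i j h]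

/-- an element of `G i ⊗ N` dying in the colimit dies at a finite stage -/
lemma exists_rTensor_eq_zero (N : Type u) [AddCommGroup N] [Module R N] (i : ι)
    (x : G i ⊗[R] N) (hx : (of R ι G f i).rTensor N x = 0) :
    ∃ (k : ι) (hik : i ≤ k), (f i k hik).rTensor N x = 0 := by
  have h1 := congrArg (directLimitLeft f N) hx
  rw [directLimitLeft_rTensor_of, map_zero] at h1
  exact Module.DirectLimit.of.zero_exact h1

lemma of_comp_f (i j : ι) (hij : i ≤ j) : of R ι G f j ∘ₗ f i j hij = of R ι G f i := by
  ext x
  simp

end

/-- Given finitely presented R-modules G_i forming a directed system over a nonempty directed index set,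
with transition maps f_ij and colimit M, the module M is Mittag-Leffler exactly when every index i
admits some j ≥ i for which f_ij factors through f_ik whenever k ≥ i. -/
theorem result (R : Type u) [CommRing R] {ι : Type u}
    [Preorder ι] [IsDirected ι (· ≤ ·)] [Nonempty ι] [DecidableEq ι] (G : ι → Type u)
    [∀ i, AddCommGroup (G i)] [∀ i, Module R (G i)] [∀ i, Module.FinitePresentation R (G i)]
    (f : ∀ i j, i ≤ j → G i →ₗ[R] G j) [DirectedSystem G fun i j h => f i j h] :
    CAlg.IsMittagLeffler R (Module.DirectLimit G f) ↔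
      ∀ i, ∃ (j : ι) (hij : i ≤ j), ∀ (k : ι) (hik : i ≤ k),
        ∃ h : G k →ₗ[R] G j, f i j hij = h ∘ₗ f i k hik := by
  constructor
  · intro hML i
    -- Step 1: find j with `f i j` dominating `of i`
    have step1 : ∃ (j : ι) (hij : i ≤ j), ∀ (N : Type u) [AddCommGroup N] [Module R N],
        LinearMap.ker ((of R ι G f i).rTensor N) ≤ LinearMap.ker ((f i j hij).rTensor N) := by
      by_contra hcon
      have key : ∀ j : {j : ι // i ≤ j}, ∃ N : Groth.Agent.S6358.Bdl R, ∃ x : G i ⊗[R] N.N,
          (of R ι G f i).rTensor N.N x = 0 ∧ (f i j.1 j.2).rTensor N.N x ≠ 0 := by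
        intro j
        by_contra hno
        apply hcon
        refine ⟨j.1, j.2, ?_⟩
        intro N _ _ x hx
        rw [LinearMap.mem_ker] at hx ⊢
        by_contra hg
        exact hno ⟨⟨N⟩, x, hx, hg⟩
      choose Nα xα hxα using key
      have hfg : (⊤ : Submodule R (G i)).FG := by
        rw [← Module.finite_def]; infer_instance
      obtain ⟨X, hX⟩ := Groth.Agent.S6340.piRightHom_surjective_of_fg hfg {j : ι // i ≤ j}
        (fun α => (Nα α).N) (fun α => xα α)
      have h0 : (of R ι G f i).rTensor (∀ α, (Nα α).N) X = 0 := by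
        apply hML {j : ι // i ≤ j} (fun α => (Nα α).N)
        funext α
        rw [Groth.Agent.S6338.piRightHom_naturality, hX, (hxα α).1]
        simp
      obtain ⟨k, hik, hk⟩ := exists_rTensor_eq_zero f _ i X h0
      apply (hxα ⟨k, hik⟩).2
      have := Groth.Agent.S6338.piRightHom_naturality R (f i k hik) {j : ι // i ≤ j}
        (fun α => (Nα α).N) X ⟨k, hik⟩
      rw [hX, hk] at this
      rw [← this]
      simp
    obtain ⟨j, hij, hdom⟩ := step1
    refine ⟨j, hij, fun k hik => ?_⟩
    -- coker of `f i k` is finitely presented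
    have hfp : Module.FinitePresentation R (G k ⧸ LinearMap.range (f i k hik)) := by
      apply Module.finitePresentation_of_surjective (LinearMap.range (f i k hik)).mkQ
        (Submodule.mkQ_surjective _)
      rw [Submodule.ker_mkQ, LinearMap.range_eq_map]
      exact (Module.Finite.fg_top).map _
    apply (Groth.Agent.S6359.result R (f i k hik) (f i j hij)).mp
    intro Q _ _ x hx
    apply hdom Q
    rw [LinearMap.mem_ker] at hx ⊢
    rw [← of_comp_f f i k hik, LinearMap.rTensor_comp, LinearMap.comp_apply, hx, map_zero]
  · intro hfac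
    rw [Groth.Agent.S6358.result]
    intro n φ
    -- factor φ through a finite stage
    have hex : ∀ l : Fin n, ∃ (il : ι) (y : G il),
        of R ι G f il y = φ (Pi.single l 1) := fun l => exists_of _
    choose il y hy using hex
    obtain ⟨i, hi⟩ := Finite.exists_le il
    let z : Fin n → G i := fun l => f (il l) i (hi l) (y l)
    have hz : ∀ l, of R ι G f i (z l) = φ (Pi.single l 1) := by
      intro l
      simp only [z, of_f, hy]
    let φ₀ : (Fin n → R) →ₗ[R] G i := Fintype.linearCombination R z
    have hφ₀ : of R ι G f i ∘ₗ φ₀ = φ := by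
      apply (Pi.basisFun R (Fin n)).ext
      intro l
      rw [Pi.basisFun_apply, LinearMap.comp_apply]
      simp only [φ₀, Fintype.linearCombination_apply_single, one_smul, hz]
    obtain ⟨j, hij, hj⟩ := hfac i
    refine ⟨G j, inferInstance, inferInstance, inferInstance, f i j hij ∘ₗ φ₀, ?_⟩
    intro N _ _
    ext x
    rw [LinearMap.mem_ker, LinearMap.mem_ker]
    constructor
    · intro hx
      rw [← hφ₀, LinearMap.rTensor_comp, LinearMap.comp_apply] at hx
      obtain ⟨k, hik, hk⟩ := exists_rTensor_eq_zero f N i _ hx
      obtain ⟨h, hh⟩ := hj k hik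
      rw [hh, LinearMap.comp_assoc, LinearMap.rTensor_comp, LinearMap.rTensor_comp,
        LinearMap.comp_apply, LinearMap.comp_apply, hk, map_zero]
    · intro hx
      rw [← hφ₀, ← of_comp_f f i j hij, LinearMap.comp_assoc, LinearMap.rTensor_comp,
        LinearMap.comp_apply, hx, map_zero]

end Groth.Agent.S6357
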