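import Groth.Statements.S6361
import Groth.Agent.Lib.CtblML

set_option autoImplicit false
universe u
open CAlg

namespace Groth.Agent.S6361

/-- Let M be a Mittag-Leffler, countably generated module over a commutative ring R, and f : P → M a
linear map with P finitely generated. Then there is an endomorphism a of M which factors through
some finitely presented module and satisfies a ∘ f = f. -/
theorem result (R : Type u)
    [CommRing R] (M : Type u) [AddCommGroup M] [Module R M] (hML : CAlg.IsMittagLeffler R M)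
    (hc : CAlg.IsCountablyGenerated R M) {P : Type u} [AddCommGroup P] [Module R P] [Module.Finite R P]
    (f : P →ₗ[R] M) :
    ∃ (Q : Type u) (_ : AddCommGroup Q) (_ : Module R Q) (_ : Module.FinitePresentation R Q)
      (b : M →ₗ[R] Q) (c : Q →ₗ[R] M), (c ∘ₗ b) ∘ₗ f = f := by
  classical
  obtain ⟨k, K, hK, u, s, hs⟩ := Groth.Agent.Lib.CtblML.exists_fp_summand hML hc
  have hfp : ∀ n, Module.FinitePresentation R ((Fin (k n) → R) ⧸ K n) := fun n =>
    Groth.Agent.Lib.CtblML.finitePresentation_quotient _ (hK n)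
  obtain ⟨G, hG⟩ := (Module.Finite.fg_top : (⊤ : Submodule R P).FG)
  -- bound on supports
  let m : ℕ := (G.biUnion fun p => DFinsupp.support (s (f p))).sup id + 1
  let Q : Type u := ∀ n : Fin m, (Fin (k n) → R) ⧸ K n
  let b : M →ₗ[R] Q := LinearMap.pi fun n : Fin m =>
    DirectSum.component R ℕ (fun n => (Fin (k n) → R) ⧸ K n) n ∘ₗ s
  let c : Q →ₗ[R] M := ∑ n : Fin m, u n ∘ₗ LinearMap.proj n
  refine ⟨Q, inferInstance, inferInstance, inferInstance, b, c, ?_⟩
  apply LinearMap.ext_on hG
  intro p hp
  have hsp : ∀ n ∈ DFinsupp.support (s (f p)), n < m := by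
    intro n hn
    have : n ≤ (G.biUnion fun p => DFinsupp.support (s (f p))).sup id :=
      Finset.le_sup (f := id) (Finset.mem_biUnion.mpr ⟨p, hp, hn⟩)
    omega
  have h1 : f p = DirectSum.toModule R ℕ M u (s (f p)) := (LinearMap.congr_fun hs (f p)).symm
  have h2 : DirectSum.toModule R ℕ M u (s (f p)) =
      ∑ n ∈ DFinsupp.support (s (f p)), u n ((s (f p)) n) := by
    conv_lhs => rw [← DirectSum.sum_support_of (s (f p))]
    rw [map_sum]
    apply Finset.sum_congr rfl
    intro n _
    exact DirectSum.toModule_lof R n _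
  have h3 : (c ∘ₗ b) (f p) = ∑ n : Fin m, u n ((s (f p)) n) := by
    simp only [LinearMap.comp_apply, c, LinearMap.sum_apply]
    rfl
  show (c ∘ₗ b) (f p) = f p
  rw [h3, Fin.sum_univ_eq_sum_range (fun n => u n ((s (f p)) n)) m]
  refine Eq.trans ?_ (h1.trans h2).symm
  symm
  apply Finset.sum_subset
  · intro n hn
    exact Finset.mem_range.mpr (hsp n hn)
  · intro n _ hn
    rw [DFinsupp.notMem_support_iff] at hn
    rw [hn, map_zero]

end Groth.Agent.S6361
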