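import Groth.Statements.S6362
import Mathlib.FieldTheory.PrimitiveElement
import Mathlib.FieldTheory.Fixed

set_option autoImplicit false
universe u
open scoped TensorProduct
open Fields

namespace Groth.Agent.S6362


variable {F K L : Type u} [Field F] [Field K] [Field L] [Algebra F K] [Algebra F L]

/-- the `L`-algebra map `L ⊗ K → ∏_σ L`. -/
noncomputable def Φ' : L ⊗[F] K →ₐ[L] ((K →ₐ[F] L) → L) :=
  AlgHom.pi fun σ : K →ₐ[F] L =>
    Algebra.TensorProduct.lift (AlgHom.id L L) σ (fun a b => Commute.all a (σ b))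

theorem Φ'_tmul (b : L) (a : K) (σ : K →ₐ[F] L) : Φ' (b ⊗ₜ[F] a) σ = b * σ a := by
  simp [Φ']

theorem Φ'_comm (x : K ⊗[F] L) (σ : K →ₐ[F] L) :
    Φ' (Algebra.TensorProduct.comm F K L x) σ =
      Algebra.TensorProduct.lift σ (AlgHom.id F L) (fun a b => Commute.all (σ a) b) x := by
  induction x using TensorProduct.induction_on with
  | zero => simp
  | tmul a b => simp [Φ'_tmul, mul_comm]
  | add x y hx hy => simp only [map_add, Pi.add_apply, hx, hy]

theorem Φ'_surjective [FiniteDimensional F K] : Function.Surjective (Φ' (F := F) (K := K) (L := L)) := by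
  classical
  have : Fintype (K →ₐ[F] L) := Fintype.ofFinite _
  by_contra hns
  have hlt : LinearMap.range (Φ' (F := F) (K := K) (L := L)).toLinearMap < ⊤ := by
    rw [lt_top_iff_ne_top, Ne, LinearMap.range_eq_top]
    exact hns
  obtain ⟨f, hf0, hf⟩ := Submodule.exists_le_ker_of_lt_top _ hlt
  apply hf0
  -- coefficients
  set c : (K →ₐ[F] L) → L := fun σ => f (fun τ => if σ = τ then 1 else 0) with hc
  have hsum : ∑ σ : K →ₐ[F] L, c σ • (σ.toLinearMap : K →ₗ[F] L) = 0 := by
    ext a
    have hmem : Φ' ((1 : L) ⊗ₜ[F] a) ∈ LinearMap.ker f := by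
      refine hf ?_
      rw [LinearMap.mem_range]
      exact ⟨(1 : L) ⊗ₜ[F] a, rfl⟩
    rw [LinearMap.mem_ker, LinearMap.pi_apply_eq_sum_univ] at hmem
    rw [LinearMap.sum_apply, LinearMap.zero_apply, ← hmem]
    refine Finset.sum_congr rfl fun σ _ => ?_
    rw [LinearMap.smul_apply, Φ'_tmul, one_mul, smul_eq_mul, smul_eq_mul, mul_comm]
    rfl
  have hli := linearIndependent_toLinearMap F K L
  rw [Fintype.linearIndependent_iff] at hli
  have hc0 := hli c hsum
  refine LinearMap.ext fun v => ?_
  rw [LinearMap.pi_apply_eq_sum_univ, LinearMap.zero_apply]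
  refine Finset.sum_eq_zero fun σ _ => ?_
  have := hc0 σ
  simp only [hc] at this
  rw [this, smul_zero]

theorem Φ'_bijective [FiniteDimensional F K] [Algebra.IsSeparable F K] [IsAlgClosed L] :
    Function.Bijective (Φ' (F := F) (K := K) (L := L)) := by
  classical
  have hfr : Module.finrank L (L ⊗[F] K) = Module.finrank L ((K →ₐ[F] L) → L) := by
    rw [Module.finrank_baseChange, Module.finrank_fintype_fun_eq_card, AlgHom.card]
  have hsurj := Φ'_surjective (F := F) (K := K) (L := L)
  have := (LinearMap.injective_iff_surjective_of_finrank_eq_finrank hfr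
    (f := (Φ' (F := F) (K := K) (L := L)).toLinearMap)).2 hsurj
  exact ⟨this, hsurj⟩

theorem result' [FiniteDimensional F K] [Algebra.IsSeparable F K] [IsAlgClosed L] :
    Function.Bijective (fun x : K ⊗[F] L => fun σ : K →ₐ[F] L =>
      Algebra.TensorProduct.lift σ (AlgHom.id F L) (fun a b => Commute.all (σ a) b) x) := by
  have h : (fun x : K ⊗[F] L => fun σ : K →ₐ[F] L =>
      Algebra.TensorProduct.lift σ (AlgHom.id F L) (fun a b => Commute.all (σ a) b) x)
      = Φ' ∘ (Algebra.TensorProduct.comm F K L) := by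
    funext x σ
    exact (Φ'_comm x σ).symm
  rw [h]
  exact Φ'_bijective.comp (Algebra.TensorProduct.comm F K L).bijective


/-- Let K/F be a finite separable extension and L/F an extension with L algebraically closed. Then the
L-algebra map K ⊗_F L → ∏_σ L, indexed by the F-algebra maps σ : K → L and sending a ⊗ b to (σ(a)
b)_σ, is an isomorphism; stated as bijectivity of that map. -/
theorem result {F K L : Type u} [Field F] [Field K] [Field L]
    [Algebra F K] [Algebra F L] [FiniteDimensional F K] [Algebra.IsSeparable F K] [IsAlgClosed L] :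
    Function.Bijective (fun x : K ⊗[F] L => fun σ : K →ₐ[F] L =>
      Algebra.TensorProduct.lift σ (AlgHom.id F L) (fun a b => Commute.all (σ a) b) x) := by
  exact result'

end Groth.Agent.S6362
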