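import Groth.Statements.S6363
-- import your own Groth.Agent.* helpers here

set_option autoImplicit false
universe u
open scoped TensorProduct
open Fields

namespace Groth.Agent.S6363


open IntermediateField

theorem result' {K L M : Type u} [Field K] [Field L] [Field M]
    [Algebra K L] [Algebra K M] [Algebra L M] [IsScalarTower K L M] [FiniteDimensional K L]
    [IsNormalClosure K L M] :
    ∃ f : (⨂[K] _ : Fin (Field.finSepDegree K L), L) →ₐ[K] M, Function.Surjective f := by
  classical
  have hnc := (Algebra.IsAlgebraic.isNormalClosure_iff (F := K) (K := L) (L := M)).1 inferInstance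
  have hn : Field.finSepDegree K L = Nat.card (L →ₐ[K] M) :=
    Field.finSepDegree_eq_of_adjoin_splits K L M (adjoin_univ K L) fun s _ =>
      ⟨Algebra.IsIntegral.isIntegral s, hnc.1 s⟩
  have : Finite (L →ₐ[K] M) := Fintype.finite (minpoly.AlgHom.fintype K L M)
  let e : Fin (Field.finSepDegree K L) ≃ (L →ₐ[K] M) :=
    (finCongr hn).trans (Finite.equivFin (L →ₐ[K] M)).symm
  let g : MultilinearMap K (fun _ : Fin (Field.finSepDegree K L) => L) M :=
    (MultilinearMap.mkPiAlgebra K (Fin (Field.finSepDegree K L)) M).compLinearMap
      (fun i => (e i).toLinearMap)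
  have hg : ∀ x, g x = ∏ i, e i (x i) := fun x => by
    simp [g]
  let f : (⨂[K] _ : Fin (Field.finSepDegree K L), L) →ₐ[K] M :=
    PiTensorProduct.liftAlgHom g (by rw [hg]; simp)
      (fun x y => by rw [hg, hg, hg, ← Finset.prod_mul_distrib]; simp)
  have hf : ∀ x, f (PiTensorProduct.tprod K x) = ∏ i, e i (x i) := fun x => by
    simp [f, hg]
  refine ⟨f, ?_⟩
  have : Algebra.IsAlgebraic K M := by
    have := IsNormalClosure.normal (F := K) (K := L) (L := M)
    exact this.toIsAlgebraic
  have hfield : IsField f.range := Subalgebra.isField_of_algebraic f.range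
  set F' := f.range.toIntermediateField' hfield with hF'
  have hmem : ∀ m, m ∈ F' ↔ m ∈ f.range := fun m => Iff.rfl
  have hle : ∀ σ : L →ₐ[K] M, σ.fieldRange ≤ F' := by
    intro σ m hm
    obtain ⟨a, rfl⟩ := hm
    rw [hmem]
    refine ⟨PiTensorProduct.tprod K (Function.update 1 (e.symm σ) a), ?_⟩
    change f _ = σ a
    rw [hf, Finset.prod_eq_single (e.symm σ)]
    · simp
    · intro i _ hi
      rw [Function.update_of_ne hi]; simp
    · intro h; exact absurd (Finset.mem_univ _) h
  have htop : F' = ⊤ := by
    rw [eq_top_iff, ← hnc.2, normalClosure_le_iff]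
    exact hle
  intro m
  have : m ∈ F' := htop ▸ mem_top
  exact (hmem m).1 this


/-- For a finite field extension L/K and a normal closure M of L/K, some K-algebra homomorphism from the
n-fold tensor power L ⊗_K ⋯ ⊗_K L to M is surjective, where n = [L : K]_s is the separable degree
(so n ≤ [L : K]). -/
theorem result {K L M : Type u} [Field K] [Field L] [Field M]
    [Algebra K L] [Algebra K M] [Algebra L M] [IsScalarTower K L M] [FiniteDimensional K L]
    [IsNormalClosure K L M] :
    ∃ f : (⨂[K] _ : Fin (Field.finSepDegree K L), L) →ₐ[K] M, Function.Surjective f := by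
  exact result'

end Groth.Agent.S6363
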