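import Groth.Statements.S6364
import Mathlib.LinearAlgebra.Charpoly.ToMatrix
import Mathlib.LinearAlgebra.Matrix.Charpoly.Minpoly
import Mathlib.RingTheory.Norm.Basic

set_option autoImplicit false
universe u
open Fields

namespace Groth.Agent.S6364

open Matrix Polynomial in
theorem charpoly_blockDiagonal_const {R m o : Type*} [CommRing R] [Fintype m] [DecidableEq m]
    [Fintype o] [DecidableEq o] (A : Matrix m m R) :
    (blockDiagonal fun _ : o => A).charpoly = A.charpoly ^ Fintype.card o := by
  have h : charmatrix (blockDiagonal fun _ : o => A) = blockDiagonal fun _ : o => charmatrix A := by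
    ext ⟨i, k⟩ ⟨j, k'⟩
    by_cases hk : k = k'
    · subst hk
      by_cases hij : i = j
      · subst hij
        simp [blockDiagonal_apply]
      · simp [blockDiagonal_apply, hij]
    · simp [blockDiagonal_apply, hk]
  rw [Matrix.charpoly, h, det_blockDiagonal, Matrix.charpoly]
  simp


open IntermediateField in
/-- Let L/K be a finite extension and a ∈ L with minimal polynomial P over K. Then P ^ e, with e = [L :
K(a)], is the characteristic polynomial of multiplication by a (the K-linear map x ↦ a x on L), and
e · deg P = [L : K]. -/
theorem result {K L : Type u} [Field K] [Field L] [Algebra K L] [FiniteDimensional K L]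
    (a : L) :
    (Algebra.lmul K L a).charpoly = minpoly K a ^ Module.finrank K⟮a⟯ L ∧
      Module.finrank K⟮a⟯ L * (minpoly K a).natDegree = Module.finrank K L := by
  classical
  have hint : IsIntegral K a := Algebra.IsIntegral.isIntegral a
  let pbx := IntermediateField.adjoin.powerBasis hint
  let c := Module.finBasis K⟮a⟯ L
  have hdeg : Module.finrank K K⟮a⟯ = (minpoly K a).natDegree :=
    IntermediateField.adjoin.finrank hint
  refine ⟨?_, ?_⟩
  · rw [← LinearMap.charpoly_toMatrix (Algebra.lmul K L a) (pbx.basis.smulTower c)]
    have h1 : LinearMap.toMatrix (pbx.basis.smulTower c) (pbx.basis.smulTower c)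
        (Algebra.lmul K L a) = Algebra.leftMulMatrix (pbx.basis.smulTower c)
          (algebraMap K⟮a⟯ L (IntermediateField.AdjoinSimple.gen K a)) := by
      rw [IntermediateField.AdjoinSimple.algebraMap_gen]
      rfl
    rw [h1, Algebra.smulTower_leftMulMatrix_algebraMap, charpoly_blockDiagonal_const]
    have h2 : (Algebra.leftMulMatrix pbx.basis (IntermediateField.AdjoinSimple.gen K a)).charpoly =
        minpoly K a := by
      have := charpoly_leftMulMatrix pbx
      rw [IntermediateField.adjoin.powerBasis_gen] at this
      rw [this, IntermediateField.minpoly_gen]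
    rw [h2, Fintype.card_fin]
  · rw [← hdeg, mul_comm]
    exact Module.finrank_mul_finrank K K⟮a⟯ L

end Groth.Agent.S6364
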