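import Groth.Statements.S6367
-- import your own Groth.Agent.* helpers here

set_option autoImplicit false
universe u
open CAlg

namespace Groth.Agent.S6367

/-- Let 0 → M₁ → M₂ → M₃ → 0 be a short exact sequence of R-modules (f injective, g surjective, image of
f = kernel of g). If M₁ and M₃ are coherent — finitely generated with every finitely generated
submodule finitely presented — then so is M₂. -/
theorem result (R : Type u) [CommRing R] {M₁ M₂ M₃ : Type u}
    [AddCommGroup M₁] [Module R M₁] [AddCommGroup M₂] [Module R M₂] [AddCommGroup M₃] [Module R M₃]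
    (f : M₁ →ₗ[R] M₂) (g : M₂ →ₗ[R] M₃) (hf : Function.Injective f) (hg : Function.Surjective g)
    (hfg : LinearMap.range f = LinearMap.ker g)
    (h₁ : (Module.Finite R M₁ ∧ ∀ N : Submodule R M₁, N.FG → Module.FinitePresentation R N))
    (h₃ : (Module.Finite R M₃ ∧ ∀ N : Submodule R M₃, N.FG → Module.FinitePresentation R N)) :
    (Module.Finite R M₂ ∧ ∀ N : Submodule R M₂, N.FG → Module.FinitePresentation R N) := by
  obtain ⟨hfin₁, hcoh₁⟩ := h₁
  obtain ⟨hfin₃, hcoh₃⟩ := h₃
  have hgf : ∀ x, g (f x) = 0 := fun x => by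
    have : f x ∈ LinearMap.ker g := hfg ▸ LinearMap.mem_range_self f x
    exact this
  refine ⟨?_, ?_⟩
  · refine ⟨?_⟩
    apply Submodule.fg_of_fg_map_of_fg_inf_ker g
    · rw [Submodule.map_top, LinearMap.range_eq_top.mpr hg]; exact Module.Finite.fg_top
    · rw [top_inf_eq, ← hfg, LinearMap.range_eq_map]
      exact Module.Finite.fg_top.map f
  · intro N hN
    let l : N →ₗ[R] N.map g := g.submoduleMap N
    have hl : Function.Surjective l := g.submoduleMap_surjective N
    have hFP₃ : Module.FinitePresentation R (N.map g) := hcoh₃ _ (hN.map g)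
    have hNfin : Module.Finite R N := Module.Finite.iff_fg.mpr hN
    have hker : (LinearMap.ker l).FG := Module.FinitePresentation.fg_ker l hl
    let K₁ : Submodule R M₁ := N.comap f
    let ψ : K₁ →ₗ[R] N := (f.comp K₁.subtype).codRestrict N (fun x => x.2)
    have hψ : ∀ x, ψ x ∈ LinearMap.ker l := by
      intro x
      rw [LinearMap.mem_ker]
      apply Subtype.ext
      exact hgf x.1
    let φ : K₁ →ₗ[R] LinearMap.ker l := ψ.codRestrict _ hψ
    have hφinj : Function.Injective φ := by
      intro x y hxy
      have h1 : (φ x : N) = φ y := by rw [hxy]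
      have h2 : ((φ x : N) : M₂) = ((φ y : N) : M₂) := by rw [h1]
      exact Subtype.ext (hf h2)
    have hφsurj : Function.Surjective φ := by
      rintro ⟨⟨n, hn⟩, hy⟩
      have hgn : g n = 0 := by
        have := congrArg Subtype.val (LinearMap.mem_ker.mp hy)
        exact this
      have : n ∈ LinearMap.range f := by rw [hfg]; exact hgn
      obtain ⟨x, rfl⟩ := this
      exact ⟨⟨x, hn⟩, rfl⟩
    let e : K₁ ≃ₗ[R] LinearMap.ker l := LinearEquiv.ofBijective φ ⟨hφinj, hφsurj⟩
    have hkerfin : Module.Finite R (LinearMap.ker l) := Module.Finite.iff_fg.mpr hker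
    have hK₁fin : Module.Finite R K₁ := Module.Finite.equiv e.symm
    have hFP₁ : Module.FinitePresentation R K₁ := hcoh₁ K₁ (Module.Finite.iff_fg.mp hK₁fin)
    have hFPker : Module.FinitePresentation R (LinearMap.ker l) :=
      Module.FinitePresentation.of_equiv e
    exact Module.finitePresentation_of_ker l hl

end Groth.Agent.S6367
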