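import Groth.Statements.S6366
import Groth.Agent.S6367

set_option autoImplicit false
universe u
open CAlg

namespace Groth.Agent.S6366

/-- coherent module (local abbreviation) -/
def IsCohMod (R : Type u) [CommRing R] (M : Type u) [AddCommGroup M] [Module R M] : Prop :=
  Module.Finite R M ∧ ∀ N : Submodule R M, N.FG → Module.FinitePresentation R N

theorem isCohMod_of_equiv {R : Type u} [CommRing R] {M M' : Type u} [AddCommGroup M] [Module R M]
    [AddCommGroup M'] [Module R M'] (e : M ≃ₗ[R] M') (h : IsCohMod R M) : IsCohMod R M' := by
  obtain ⟨hfin, hcoh⟩ := h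
  refine ⟨Module.Finite.equiv e, fun N hN => ?_⟩
  have h1 : (N.map e.symm.toLinearMap).FG := hN.map _
  have h2 := hcoh _ h1
  exact Module.FinitePresentation.of_equiv (e.symm.submoduleMap N).symm

theorem isCohMod_prod {R : Type u} [CommRing R] {M M' : Type u} [AddCommGroup M] [Module R M]
    [AddCommGroup M'] [Module R M'] (h : IsCohMod R M) (h' : IsCohMod R M') :
    IsCohMod R (M × M') :=
  Groth.Agent.S6367.result R (LinearMap.inl R M M') (LinearMap.snd R M M')
    LinearMap.inl_injective LinearMap.snd_surjective (LinearMap.range_inl R M M') h h'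

theorem isCohMod_pi {R : Type u} [CommRing R] (hR : IsCohMod R R) :
    ∀ n : ℕ, IsCohMod R (Fin n → R) := by
  intro n
  induction n with
  | zero =>
    refine ⟨inferInstance, fun N _ => ?_⟩
    infer_instance
  | succ n ih =>
    exact isCohMod_of_equiv (Fin.consLinearEquiv R (fun _ : Fin n.succ => R)) (isCohMod_prod hR ih)

theorem isCohMod_quotient {R : Type u} [CommRing R] {M : Type u} [AddCommGroup M] [Module R M]
    (h : IsCohMod R M) (K : Submodule R M) (hK : K.FG) : IsCohMod R (M ⧸ K) := by
  obtain ⟨hfin, hcoh⟩ := h
  refine ⟨inferInstance, fun N hN => ?_⟩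
  let N' : Submodule R M := N.comap K.mkQ
  have hN' : N'.FG := by
    apply Submodule.fg_of_fg_map_of_fg_inf_ker K.mkQ
    · rw [Submodule.map_comap_eq_of_surjective K.mkQ_surjective]; exact hN
    · rw [Submodule.ker_mkQ]
      have : N' ⊓ K = K := inf_eq_right.mpr (by
        intro x hx
        show K.mkQ x ∈ N
        rw [Submodule.mkQ_apply, (Submodule.Quotient.mk_eq_zero K).mpr hx]
        exact N.zero_mem)
      rw [this]; exact hK
  have hFP : Module.FinitePresentation R N' := hcoh N' hN'
  let l : N' →ₗ[R] N := K.mkQ.restrict (fun x hx => hx)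
  have hl : Function.Surjective l := by
    rintro ⟨y, hy⟩
    obtain ⟨x, rfl⟩ := K.mkQ_surjective y
    exact ⟨⟨x, hy⟩, rfl⟩
  have hker : (LinearMap.ker l).FG := by
    have : LinearMap.ker l = K.comap N'.subtype := by
      ext x
      rw [LinearMap.mem_ker, Submodule.mem_comap]
      constructor
      · intro hx
        have := congrArg Subtype.val hx
        exact (Submodule.Quotient.mk_eq_zero K).mp this
      · intro hx
        apply Subtype.ext
        exact (Submodule.Quotient.mk_eq_zero K).mpr hx
    rw [this]
    have hle : K ≤ N' := by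
      intro x hx
      show K.mkQ x ∈ N
      rw [Submodule.mkQ_apply, (Submodule.Quotient.mk_eq_zero K).mpr hx]
      exact N.zero_mem
    have e : (K.comap N'.subtype) ≃ₗ[R] K := Submodule.comapSubtypeEquivOfLe hle
    have : Module.Finite R K := Module.Finite.iff_fg.mpr hK
    have : Module.Finite R (K.comap N'.subtype) := Module.Finite.equiv e.symm
    exact Module.Finite.iff_fg.mp this
  exact Module.finitePresentation_of_surjective l hl hker


/-- Let R be a coherent ring, i.e. every finitely generated ideal of R is finitely presented. Then an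
R-module is coherent (finitely generated, and every finitely generated submodule is finitely
presented) if and only if it is finitely presented. -/
theorem result (R : Type u) [CommRing R]
    (hR : ∀ I : Ideal R, I.FG → Module.FinitePresentation R I) (M : Type u) [AddCommGroup M] [Module R M] :
    (Module.Finite R M ∧ ∀ N : Submodule R M, N.FG → Module.FinitePresentation R N) ↔ Module.FinitePresentation R M := by
  constructor
  · rintro ⟨hfin, h⟩
    have := h ⊤ (Module.Finite.iff_fg.mp inferInstance)
    exact Module.FinitePresentation.of_equiv (Submodule.topEquiv : (⊤ : Submodule R M) ≃ₗ[R] M)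
  · intro hM
    obtain ⟨n, K, e, hK⟩ := Module.FinitePresentation.exists_fin R M
    have hRcoh : IsCohMod R R := ⟨inferInstance, fun I hI => hR I hI⟩
    exact isCohMod_of_equiv e.symm (isCohMod_quotient (isCohMod_pi hRcoh n) K hK)

end Groth.Agent.S6366
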