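import Groth.Statements.S6368
import Mathlib.RingTheory.Flat.FaithfullyFlat.Basic
import Mathlib.LinearAlgebra.TensorProduct.Finiteness

set_option autoImplicit false
universe u
open scoped TensorProduct
open CAlg

namespace Groth.Agent.S6368

/-- Let R → S be faithfully flat and M an R-module. If the S-module S ⊗_R M is countably generated then
M is countably generated. -/
theorem result (R S : Type u) [CommRing R] [CommRing S] [Algebra R S]
    [Module.FaithfullyFlat R S] (M : Type u) [AddCommGroup M] [Module R M]
    (h : CAlg.IsCountablyGenerated S (S ⊗[R] M)) : CAlg.IsCountablyGenerated R M := by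
  classical
  obtain ⟨s, hs, hspan⟩ := h
  choose F hF using fun x : S ⊗[R] M => TensorProduct.exists_finset x
  let T : Set M := ⋃ x ∈ s, Prod.snd '' (F x : Set (S × M))
  have hT : T.Countable :=
    Set.Countable.biUnion hs (fun x _ => ((F x).finite_toSet.image _).countable)
  refine ⟨T, hT, ?_⟩
  set M' : Submodule R M := Submodule.span R T with hM'
  have hsurj : Function.Surjective (M'.subtype.baseChange S) := by
    rw [← LinearMap.range_eq_top, eq_top_iff, ← hspan, Submodule.span_le]
    intro x hx
    rw [hF x]
    refine Submodule.sum_mem _ (fun i hi => ?_)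
    have him : i.2 ∈ M' := Submodule.subset_span (Set.mem_biUnion hx ⟨i, hi, rfl⟩)
    exact ⟨i.1 ⊗ₜ[R] ⟨i.2, him⟩, by simp⟩
  have hsurj' : Function.Surjective (M'.subtype.lTensor S) := by
    intro y
    obtain ⟨z, hz⟩ := hsurj y
    exact ⟨z, by rw [← hz]; rfl⟩
  have := (Module.FaithfullyFlat.lTensor_surjective_iff_surjective R S M'.subtype).mp hsurj'
  rw [← LinearMap.range_eq_top, Submodule.range_subtype] at this
  exact this

end Groth.Agent.S6368
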