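import Mathlib
import Groth.Statements.S6369

set_option autoImplicit false
universe u
open CAlg

namespace Groth.Agent.S6369

section Helpers

open FractionalIdeal nonZeroDivisors

section Generic
variable {D : Type*} [CommRing D] [IsDomain D]

/-- invertibility of an integral ideal -/
def Inv (I : Ideal D) : Prop :=
  ∃ J : FractionalIdeal D⁰ (FractionRing D), (I : FractionalIdeal D⁰ (FractionRing D)) * J = 1

lemma inv_mul {I J : Ideal D} : Inv (I * J) ↔ Inv I ∧ Inv J := by
  constructor
  · rintro ⟨K, hK⟩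
    rw [FractionalIdeal.coeIdeal_mul] at hK
    refine ⟨⟨J * K, by rw [← mul_assoc, hK]⟩, ⟨I * K, ?_⟩⟩
    rw [← mul_assoc, mul_comm (J : FractionalIdeal D⁰ (FractionRing D)), hK]
  · rintro ⟨⟨K, hK⟩, ⟨K', hK'⟩⟩
    refine ⟨K * K', ?_⟩
    rw [coeIdeal_mul, mul_mul_mul_comm, hK, hK', one_mul]

lemma inv_top : Inv (⊤ : Ideal D) := ⟨1, by simp⟩

lemma inv_span_singleton {a : D} (ha : a ≠ 0) : Inv (Ideal.span {a}) := by
  refine ⟨spanSingleton D⁰ (algebraMap D (FractionRing D) a)⁻¹, ?_⟩
  rw [coeIdeal_span_singleton, spanSingleton_mul_spanSingleton, mul_inv_cancel₀, spanSingleton_one]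
  exact (map_ne_zero_iff _ (IsFractionRing.injective D _)).mpr ha

lemma inv_multiset_prod {s : Multiset (Ideal D)} : Inv s.prod ↔ ∀ I ∈ s, Inv I := by
  induction s using Multiset.induction_on with
  | empty => simp [inv_top]
  | cons a s ih => simp [Multiset.prod_cons, inv_mul, ih]

lemma inv_ne_bot {I : Ideal D} (hI : Inv I) : I ≠ ⊥ := by
  rintro rfl
  obtain ⟨K, hK⟩ := hI
  simp at hK

lemma inv_cancel {I J J' : Ideal D} (hI : Inv I) (h : I * J = I * J') : J = J' := by
  obtain ⟨K, hK⟩ := hI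
  apply coeIdeal_injective (K := FractionRing D)
  show (J : FractionalIdeal D⁰ (FractionRing D)) = J'
  have h2 : (I : FractionalIdeal D⁰ (FractionRing D)) * J = I * J' := by
    rw [← coeIdeal_mul, ← coeIdeal_mul, h]
  calc (J : FractionalIdeal D⁰ (FractionRing D)) = (I * K) * J := by rw [hK, one_mul]
    _ = K * (I * J) := by ring
    _ = K * (I * J') := by rw [h2]
    _ = (I * K) * J' := by ring
    _ = J' := by rw [hK, one_mul]

lemma prod_le_of_mem {s : Multiset (Ideal D)} {P : Ideal D} (hP : P ∈ s) : s.prod ≤ P :=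
  Ideal.le_of_dvd (Multiset.dvd_prod hP)

/-- factorizations into invertible primes are unique -/
lemma unique_factorization_inv (n : ℕ) : ∀ (s t : Multiset (Ideal D)), s.card = n →
    (∀ P ∈ s, P.IsPrime ∧ Inv P) → (∀ P ∈ t, P.IsPrime ∧ Inv P) → s.prod = t.prod → s = t := by
  classical
  induction n with
  | zero =>
    intro s t hs _ ht h
    rw [Multiset.card_eq_zero] at hs
    subst hs
    rw [Multiset.prod_zero] at h
    by_contra hne
    obtain ⟨Q, hQ⟩ := Multiset.exists_mem_of_ne_zero (Ne.symm hne)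
    have := prod_le_of_mem hQ
    rw [← h, Ideal.one_eq_top, top_le_iff] at this
    exact (ht Q hQ).1.ne_top this
  | succ n ih =>
    intro s t hs hsP htP h
    have hsne : s.toFinset.Nonempty := by
      rw [Multiset.toFinset_nonempty]
      intro h0
      rw [h0] at hs
      simp at hs
    obtain ⟨P, hPmin⟩ := s.toFinset.exists_minimal hsne
    have hPs : P ∈ s := Multiset.mem_toFinset.mp hPmin.1
    have hP := hsP P hPs
    -- some Q ∈ t with Q ≤ P
    obtain ⟨Q, hQt, hQP⟩ := hP.1.multiset_prod_le.mp (h ▸ prod_le_of_mem hPs)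
    have hQ := htP Q hQt
    obtain ⟨P', hP's, hP'Q⟩ := hQ.1.multiset_prod_le.mp (h.symm ▸ prod_le_of_mem hQt)
    have hPP' : P ≤ P' := hPmin.2 (Multiset.mem_toFinset.mpr hP's) (hP'Q.trans hQP)
    have hQeq : Q = P := le_antisymm hQP (hPP'.trans hP'Q)
    subst hQeq
    rw [← Multiset.cons_erase hPs, ← Multiset.cons_erase hQt, Multiset.prod_cons,
      Multiset.prod_cons] at h
    have h' := inv_cancel hP.2 h
    have hcard : (s.erase Q).card = n := by
      rw [Multiset.card_erase_of_mem hPs, hs]; rfl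
    have := ih (s.erase Q) (t.erase Q) hcard
      (fun X hX => hsP X (Multiset.mem_of_mem_erase hX))
      (fun X hX => htP X (Multiset.mem_of_mem_erase hX)) h'
    rw [← Multiset.cons_erase hPs, ← Multiset.cons_erase hQt, this]

end Generic

section Main
variable {R : Type u} [CommRing R] [IsDomain R]

/-- an invertible prime is maximal, assuming existence of prime factorizations. -/
lemma sup_span_eq_top
    (h : ∀ I : Ideal R, I ≠ ⊥ → ∃ s : Multiset (Ideal R), (∀ p ∈ s, p.IsPrime ∧ p ≠ ⊥) ∧ s.prod = I)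
    (P : Ideal R) [hPp : P.IsPrime] (hP : Inv P) (a : R) (ha : a ∉ P) :
    P ⊔ Ideal.span {a} = ⊤ := by
  classical
  have hP0 : P ≠ ⊥ := inv_ne_bot hP
  let π := Ideal.Quotient.mk P
  have hπ : Function.Surjective π := Ideal.Quotient.mk_surjective
  have hker : RingHom.ker π = P := Ideal.mk_ker
  have hπa : π a ≠ 0 := by
    intro h0
    exact ha (Ideal.Quotient.eq_zero_iff_mem.mp h0)
  set I := P ⊔ Ideal.span {a} with hI
  set I₂ := P ⊔ Ideal.span {a ^ 2} with hI₂
  have hI0 : I ≠ ⊥ := fun h0 => hP0 (le_bot_iff.mp (h0 ▸ le_sup_left))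
  have hI₂0 : I₂ ≠ ⊥ := fun h0 => hP0 (le_bot_iff.mp (h0 ▸ le_sup_left))
  obtain ⟨s, hs, hsI⟩ := h I hI0
  obtain ⟨t, ht, htI⟩ := h I₂ hI₂0
  have hmapI : Ideal.map π I = Ideal.span {π a} := by
    rw [hI, Ideal.map_sup, Ideal.map_quotient_self, bot_sup_eq, Ideal.map_span, Set.image_singleton]
  have hmapI₂ : Ideal.map π I₂ = Ideal.span {π a} * Ideal.span {π a} := by
    rw [hI₂, Ideal.map_sup, Ideal.map_quotient_self, bot_sup_eq, Ideal.map_span,
      Set.image_singleton, Ideal.span_singleton_mul_span_singleton, map_pow, pow_two]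
  -- images of the multisets
  have hsle : ∀ Q ∈ s, P ≤ Q := fun Q hQ =>
    le_trans le_sup_left (hsI ▸ prod_le_of_mem hQ : I ≤ Q)
  have htle : ∀ Q ∈ t, P ≤ Q := fun Q hQ =>
    le_trans le_sup_left (htI ▸ prod_le_of_mem hQ : I₂ ≤ Q)
  set s' := s.map (Ideal.map π) with hs'
  set t' := t.map (Ideal.map π) with ht'
  have hs'prod : s'.prod = Ideal.span {π a} := by
    rw [hs', ← hmapI, ← hsI]
    exact (map_multiset_prod (Ideal.mapHom π) s).symm
  have ht'prod : t'.prod = Ideal.span {π a} * Ideal.span {π a} := by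
    rw [ht', ← hmapI₂, ← htI]
    exact (map_multiset_prod (Ideal.mapHom π) t).symm
  have hs'P : ∀ X ∈ s', X.IsPrime ∧ Inv X := by
    intro X hX
    refine ⟨?_, ?_⟩
    · obtain ⟨Q, hQ, rfl⟩ := Multiset.mem_map.mp hX
      have := (hs Q hQ).1
      exact Ideal.map_isPrime_of_surjective hπ (hker.le.trans (hsle Q hQ))
    · have : Inv s'.prod := hs'prod ▸ inv_span_singleton hπa
      exact inv_multiset_prod.mp this X hX
  have ht'P : ∀ X ∈ t', X.IsPrime ∧ Inv X := by
    intro X hX
    refine ⟨?_, ?_⟩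
    · obtain ⟨Q, hQ, rfl⟩ := Multiset.mem_map.mp hX
      have := (ht Q hQ).1
      exact Ideal.map_isPrime_of_surjective hπ (hker.le.trans (htle Q hQ))
    · have : Inv t'.prod := by
        rw [ht'prod]
        exact inv_mul.mpr ⟨inv_span_singleton hπa, inv_span_singleton hπa⟩
      exact inv_multiset_prod.mp this X hX
  have hss't' : s' + s' = t' := by
    refine unique_factorization_inv _ (s' + s') t' rfl ?_ ht'P ?_
    · intro X hX
      rcases Multiset.mem_add.mp hX with hX | hX <;> exact hs'P X hX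
    · rw [Multiset.prod_add, hs'prod, ht'prod]
  -- pull back
  have hcomap : ∀ (w : Multiset (Ideal R)), (∀ Q ∈ w, P ≤ Q) →
      (w.map (Ideal.map π)).map (Ideal.comap π) = w := by
    intro w hw
    rw [Multiset.map_map]
    conv_rhs => rw [← Multiset.map_id w]
    refine Multiset.map_congr rfl fun Q hQ => ?_
    simp only [Function.comp_apply, id]
    rw [Ideal.comap_map_of_surjective π hπ, ← RingHom.ker_eq_comap_bot, hker]
    exact sup_eq_left.mpr (hw Q hQ)
  have hsst : s + s = t := by
    have := congrArg (Multiset.map (Ideal.comap π)) hss't'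
    rw [Multiset.map_add, hs', ht', hcomap s hsle, hcomap t htle] at this
    exact this
  have hII₂ : I₂ = I * I := by
    rw [← htI, ← hsst, Multiset.prod_add, hsI]
  -- P ≤ P * I
  have hPI : P ≤ P * I := by
    intro x hx
    have hx2 : x ∈ I * I := hII₂ ▸ (le_sup_left : P ≤ I₂) hx
    have hle : I * I ≤ P * P ⊔ Ideal.span {a} := by
      rw [Ideal.mul_le]
      intro y hy z hz
      obtain ⟨p, hp, q, hq, rfl⟩ := Submodule.mem_sup.mp hy
      obtain ⟨p', hp', q', hq', rfl⟩ := Submodule.mem_sup.mp hz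
      obtain ⟨c, rfl⟩ := Ideal.mem_span_singleton'.mp hq
      obtain ⟨c', rfl⟩ := Ideal.mem_span_singleton'.mp hq'
      have : (p + c * a) * (p' + c' * a) = p * p' + (p * c' + c * p' + c * c' * a) * a := by ring
      rw [this]
      exact Submodule.add_mem_sup (Ideal.mul_mem_mul hp hp')
        (Ideal.mem_span_singleton'.mpr ⟨_, rfl⟩)
    obtain ⟨y, hy, z, hz, hyz⟩ := Submodule.mem_sup.mp (hle hx2)
    obtain ⟨c, rfl⟩ := Ideal.mem_span_singleton'.mp hz
    have hyP : y ∈ P := Ideal.mul_le_right hy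
    have hcaP : c * a ∈ P := by
      have : c * a = x - y := by rw [← hyz]; ring
      rw [this]; exact sub_mem hx hyP
    have hcP : c ∈ P := (hPp.mem_or_mem hcaP).resolve_right ha
    rw [← hyz]
    refine add_mem (Ideal.mul_mono_right le_sup_left hy) ?_
    rw [mul_comm c a, mul_comm a c]
    exact Ideal.mul_mem_mul hcP (Ideal.mem_sup_right (Ideal.mem_span_singleton_self a))
  have heq : P * I = P * ⊤ := by
    rw [Ideal.mul_top]
    exact le_antisymm Ideal.mul_le_left hPI
  exact inv_cancel hP heq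

theorem main_aux
    (h : ∀ I : Ideal R, I ≠ ⊥ →
      ∃! s : Multiset (Ideal R), (∀ p ∈ s, p.IsPrime ∧ p ≠ ⊥) ∧ s.prod = I) :
    IsDedekindDomain R := by
  classical
  have h' : ∀ I : Ideal R, I ≠ ⊥ →
      ∃ s : Multiset (Ideal R), (∀ p ∈ s, p.IsPrime ∧ p ≠ ⊥) ∧ s.prod = I :=
    fun I hI => (h I hI).exists
  -- every nonzero prime is invertible
  have hprime : ∀ Q : Ideal R, Q.IsPrime → Q ≠ ⊥ → Inv Q := by
    intro Q hQ hQ0
    obtain ⟨x, hxQ, hx0⟩ := Submodule.exists_mem_ne_zero_of_ne_bot hQ0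
    have hspan0 : Ideal.span {x} ≠ ⊥ := by
      rwa [Ne, Ideal.span_singleton_eq_bot]
    obtain ⟨s, hs, hsx⟩ := h' _ hspan0
    have hsInv : ∀ P ∈ s, Inv P := inv_multiset_prod.mp (hsx ▸ inv_span_singleton hx0)
    have hle : s.prod ≤ Q := by
      rw [hsx, Ideal.span_singleton_le_iff_mem]; exact hxQ
    obtain ⟨P, hPs, hPQ⟩ := hQ.multiset_prod_le.mp hle
    have hPeq : P = Q := by
      by_contra hne
      have hlt : P < Q := lt_of_le_of_ne hPQ hne
      obtain ⟨a, haQ, haP⟩ := Set.exists_of_ssubset hlt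
      have := (hs P hPs).1
      have htop := sup_span_eq_top h' P (hsInv P hPs) a haP
      have : P ⊔ Ideal.span {a} ≤ Q :=
        sup_le hPQ ((Ideal.span_singleton_le_iff_mem _).mpr haQ)
      rw [htop, top_le_iff] at this
      exact hQ.ne_top this
    exact hPeq ▸ hsInv P hPs
  -- every nonzero ideal is invertible
  have hideal : ∀ I : Ideal R, I ≠ ⊥ → Inv I := by
    intro I hI
    obtain ⟨s, hs, hsI⟩ := h' I hI
    rw [← hsI]
    exact inv_multiset_prod.mpr fun P hP => hprime P (hs P hP).1 (hs P hP).2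
  rw [isDedekindDomain_iff_mul_inv_cancel (K := FractionRing R)]
  intro I hI
  rw [FractionalIdeal.mul_inv_cancel_iff]
  obtain ⟨a, J, ha, hJ⟩ := exists_eq_spanSingleton_mul I
  have hJ0 : J ≠ ⊥ := by
    rintro rfl
    apply hI
    rw [hJ]
    simp
  obtain ⟨K, hK⟩ := hideal J hJ0
  refine ⟨spanSingleton R⁰ (algebraMap R (FractionRing R) a) * K, ?_⟩
  rw [hJ, mul_mul_mul_comm, spanSingleton_mul_spanSingleton, inv_mul_cancel₀, spanSingleton_one,
    one_mul, hK]
  exact (map_ne_zero_iff _ (IsFractionRing.injective R _)).mpr ha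

end Main

end Helpers

/-- (1) ⇒ (3): let R be a domain such that every nonzero ideal is a product of nonzero prime ideals,
uniquely up to permutation of the factors. Then R is Noetherian, integrally closed and of dimension
at most one, i.e. a Dedekind domain in the Noetherian sense. (The converse and the description by
discrete valuation rings at maximal ideals are the standard equivalences.) -/
theorem result (R : Type u) [CommRing R] [IsDomain R]
    (h : ∀ I : Ideal R, I ≠ ⊥ → ∃! s : Multiset (Ideal R), (∀ p ∈ s, p.IsPrime ∧ p ≠ ⊥) ∧ s.prod = I) :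
    IsDedekindDomain R := by
  exact main_aux h

end Groth.Agent.S6369
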