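import Groth.Statements.S6370
import Groth.Agent.Lib.KrullAkizuki2
import Mathlib.RingTheory.KrullDimension.Field
import Mathlib.RingTheory.Spectrum.Prime.Topology

set_option autoImplicit false
universe u
open CAlg

namespace Groth.Agent.S6370

/-- For a one-dimensional Noetherian domain A with fraction field K, a finite field extension L of K
(separable or not) and B the integral closure of A in L: B is a Dedekind domain, Spec B → Spec A is
surjective and has finite fibres, and at every maximal ideal Q of B the residue field B/Q is finite
over A/(Q ∩ A). -/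
theorem result (A K L B : Type u) [CommRing A] [IsDomain A]
    [IsNoetherianRing A] (hdim : ringKrullDim A = 1) [Field K] [Algebra A K] [IsFractionRing A K]
    [Field L] [Algebra K L] [FiniteDimensional K L] [Algebra A L] [IsScalarTower A K L]
    [CommRing B] [IsDomain B] [Algebra A B] [Algebra B L] [IsScalarTower A B L] [IsIntegralClosure B A L] :
    IsDedekindDomain B ∧ Function.Surjective (PrimeSpectrum.comap (algebraMap A B)) ∧
      (∀ p : PrimeSpectrum A, (PrimeSpectrum.comap (algebraMap A B) ⁻¹' {p}).Finite) ∧
      ∀ Q : Ideal B, Q.IsMaximal → Module.Finite (A ⧸ Q.comap (algebraMap A B)) (B ⧸ Q) := by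
  have hK1 : Ring.KrullDimLE 1 A := by
    rw [Ring.krullDimLE_iff, hdim]
    rfl
  have hnf : ¬ IsField A := by
    intro h
    have := ringKrullDim_eq_zero_of_isField h
    rw [hdim] at this
    exact one_ne_zero this
  have hD1 : Ring.DimensionLEOne A := ⟨fun hp hprime => hprime.isMaximal_of_ne_bot hp⟩
  have hinj : Function.Injective (algebraMap B L) := IsIntegralClosure.algebraMap_injective B A L
  have hN : IsNoetherianRing B :=
    Groth.Agent.Lib.KrullAkizuki.isNoetherianRing_of_between (R := A) (K := K) (L := L) (A := B) hinj
  have hint : Algebra.IsIntegral A B := IsIntegralClosure.isIntegral_algebra A L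
  have hfrac : IsFractionRing B L := IsIntegralClosure.isFractionRing_of_finite_extension A K L B
  have hinjAB : Function.Injective (algebraMap A B) := by
    have h1 : Function.Injective (algebraMap A L) := by
      rw [IsScalarTower.algebraMap_eq A K L]
      exact (algebraMap K L).injective.comp (IsFractionRing.injective A K)
    rw [IsScalarTower.algebraMap_eq A B L] at h1
    exact Function.Injective.of_comp h1
  have hfaith : FaithfulSMul A B := (faithfulSMul_iff_algebraMap_injective A B).mpr hinjAB
  have hD1B : Ring.DimensionLEOne B := Ring.DimensionLEOne.of_isIntegral A B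
  refine ⟨?_, ?_, ?_, ?_⟩
  · rw [isDedekindDomain_iff B L]
    refine ⟨inferInstance, hN, hD1B, ?_⟩
    intro x hx
    have : IsIntegral A x := isIntegral_trans x hx
    exact (IsIntegralClosure.isIntegral_iff (A := B)).mp this
  · exact Algebra.IsIntegral.comap_surjective A B
  · intro p
    by_cases hp : p.asIdeal = ⊥
    · refine Set.Finite.subset (Set.finite_singleton (⟨⊥, Ideal.isPrime_bot⟩ : PrimeSpectrum B)) ?_
      intro Q hQ
      have h1 : Q.asIdeal.comap (algebraMap A B) = ⊥ := by
        have := congrArg PrimeSpectrum.asIdeal hQ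
        rw [← hp]; exact this
      have h2 : Q.asIdeal = ⊥ := Ideal.eq_bot_of_comap_eq_bot h1
      exact PrimeSpectrum.ext h2
    · obtain ⟨x, hxp, hx0⟩ := Submodule.exists_mem_ne_zero_of_ne_bot hp
      have hfin := Groth.Agent.Lib.KrullAkizuki.finite_primes_of_mem K L hinj x hx0
      refine Set.Finite.of_finite_image (f := PrimeSpectrum.asIdeal) (hfin.subset ?_) ?_
      · rintro _ ⟨Q, hQ, rfl⟩
        refine ⟨Q.isPrime, ?_⟩
        have := congrArg PrimeSpectrum.asIdeal hQ
        have h3 : x ∈ Q.asIdeal.comap (algebraMap A B) := by
          rw [show Q.asIdeal.comap (algebraMap A B) = p.asIdeal from this]; exact hxp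
        exact h3
      · intro Q _ Q' _ h
        exact PrimeSpectrum.ext h
  · intro Q hQ
    have hQ0 : Q ≠ ⊥ := by
      intro h
      have hBf : IsField B := by rw [Ring.isField_iff_maximal_bot, ← h]; exact hQ
      exact hnf (isField_of_isIntegral_of_isField hinjAB hBf)
    have hq0 : Q.comap (algebraMap A B) ≠ ⊥ := fun h => hQ0 (Ideal.eq_bot_of_comap_eq_bot h)
    obtain ⟨x, hxq, hx0⟩ := Submodule.exists_mem_ne_zero_of_ne_bot hq0
    have hfinA : Module.Finite A (B ⧸ Q) :=
      Groth.Agent.Lib.KrullAkizuki.finite_quotient_of_mem K L hinj x hx0 Q hxq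
    exact Module.Finite.of_restrictScalars_finite A _ _

end Groth.Agent.S6370

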