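import Groth.Statements.S6371
import Mathlib.RingTheory.Localization.BaseChange
import Mathlib.Algebra.Module.LocalizedModule.IsLocalization
import Mathlib.RingTheory.Ideal.Maximal
import Mathlib.Algebra.Module.Torsion.Basic

set_option autoImplicit false
universe u
open CAlg

namespace Groth.Agent.S6371

section helpers

open TensorProduct

variable (R S : Type u) [CommRing R] [CommRing S] [Algebra R S]

theorem forward (hepi : Algebra.IsEpi R S) (p : Ideal R) [hp : p.IsPrime] :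
    Algebra.IsEpi (Localization.AtPrime p)
      (Localization (Algebra.algebraMapSubmonoid S p.primeCompl)) := by
  classical
  set Rp := Localization.AtPrime p with hRp
  set Sp := Localization (Algebra.algebraMapSubmonoid S p.primeCompl) with hSp
  let ι : S →ₗ[R] Sp := (IsScalarTower.toAlgHom R S Sp).toLinearMap
  have hι : ∀ s, ι s = algebraMap S Sp s := fun s => rfl
  let F : S ⊗[R] S →ₗ[R] Sp ⊗[R] Sp := TensorProduct.map ι ι
  let φ : Sp ⊗[R] Sp →ₗ[R] Sp ⊗[Rp] Sp := TensorProduct.mapOfCompatibleSMul Rp R R Sp Sp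
  have stepa : ∀ s : S, (1 : Sp) ⊗ₜ[Rp] (algebraMap S Sp s) = (algebraMap S Sp s) ⊗ₜ[Rp] (1 : Sp) := by
    intro s
    have h1 := (Algebra.isEpi_iff_forall_one_tmul_eq R S).mp hepi s
    have h2 := congrArg (fun z => φ (F z)) h1
    simp only [F, φ, TensorProduct.map_tmul, TensorProduct.mapOfCompatibleSMul_tmul, hι,
      map_one] at h2
    exact h2
  rw [Algebra.isEpi_iff_forall_one_tmul_eq]
  intro y
  obtain ⟨s, t, rfl⟩ := IsLocalization.exists_mk'_eq (Algebra.algebraMapSubmonoid S p.primeCompl) y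
  set u : Sp := algebraMap S Sp t with hu
  have hunit : IsUnit u := IsLocalization.map_units Sp t
  obtain ⟨v, hv⟩ := hunit.exists_left_inv
  have hv' : u * v = 1 := by rw [mul_comm]; exact hv
  have hy : IsLocalization.mk' Sp s t = algebraMap S Sp s * v := by
    have h1 : IsLocalization.mk' Sp s t * u = algebraMap S Sp s := IsLocalization.mk'_spec Sp s t
    calc IsLocalization.mk' Sp s t = IsLocalization.mk' Sp s t * (u * v) := by rw [hv', mul_one]
      _ = algebraMap S Sp s * v := by rw [← mul_assoc, h1]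
  have hu1 : (1 : Sp) ⊗ₜ[Rp] u = u ⊗ₜ[Rp] (1 : Sp) := stepa t
  have hvv : (1 : Sp) ⊗ₜ[Rp] v = v ⊗ₜ[Rp] (1 : Sp) := by
    have e1 : (v ⊗ₜ[Rp] (1 : Sp)) * (u ⊗ₜ[Rp] (1 : Sp)) * ((1 : Sp) ⊗ₜ[Rp] v) = (1 : Sp) ⊗ₜ[Rp] v := by
      simp only [Algebra.TensorProduct.tmul_mul_tmul, mul_one, one_mul, hv]
    have e2 : (v ⊗ₜ[Rp] (1 : Sp)) * ((1 : Sp) ⊗ₜ[Rp] u) * ((1 : Sp) ⊗ₜ[Rp] v) = v ⊗ₜ[Rp] (1 : Sp) := by
      simp only [Algebra.TensorProduct.tmul_mul_tmul, mul_one, one_mul, hv']
    rw [← e1, ← hu1, e2]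
  rw [hy]
  calc (1 : Sp) ⊗ₜ[Rp] (algebraMap S Sp s * v)
      = ((1 : Sp) ⊗ₜ[Rp] (algebraMap S Sp s)) * ((1 : Sp) ⊗ₜ[Rp] v) := by
        rw [Algebra.TensorProduct.tmul_mul_tmul, one_mul]
    _ = ((algebraMap S Sp s) ⊗ₜ[Rp] (1 : Sp)) * (v ⊗ₜ[Rp] (1 : Sp)) := by rw [stepa s, hvv]
    _ = (algebraMap S Sp s * v) ⊗ₜ[Rp] (1 : Sp) := by
        rw [Algebra.TensorProduct.tmul_mul_tmul, one_mul]

theorem backward (h : ∀ (p : Ideal R) [p.IsPrime],
      Algebra.IsEpi (Localization.AtPrime p)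
        (Localization (Algebra.algebraMapSubmonoid S p.primeCompl))) :
    Algebra.IsEpi R S := by
  classical
  rw [Algebra.isEpi_iff_forall_one_tmul_eq]
  intro s
  rw [← sub_eq_zero]
  set d : S ⊗[R] S := (1 : S) ⊗ₜ[R] s - s ⊗ₜ[R] (1 : S) with hd
  by_contra hne
  have hann : Ideal.torsionOf R (S ⊗[R] S) d ≠ ⊤ := by
    intro htop
    apply hne
    have : (1 : R) ∈ Ideal.torsionOf R (S ⊗[R] S) d := by rw [htop]; trivial
    rw [Ideal.mem_torsionOf_iff, one_smul] at this
    exact this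
  obtain ⟨m, hm, hle⟩ := Ideal.exists_le_maximal _ hann
  have hp : m.IsPrime := hm.isPrime
  have hepi := h m
  set Rp := Localization.AtPrime m with hRp
  set Sp := Localization (Algebra.algebraMapSubmonoid S m.primeCompl) with hSp
  let ι : S →ₗ[R] Sp := (IsScalarTower.toAlgHom R S Sp).toLinearMap
  have hι : ∀ s, ι s = algebraMap S Sp s := fun s => rfl
  let F : S ⊗[R] S →ₗ[R] Sp ⊗[R] Sp := TensorProduct.map ι ι
  let ψ : Sp ⊗[Rp] Sp →ₗ[R] Sp ⊗[R] Sp := TensorProduct.mapOfCompatibleSMul R Rp R Sp Sp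
  have h1 := (Algebra.isEpi_iff_forall_one_tmul_eq Rp Sp).mp hepi (algebraMap S Sp s)
  have h2 := congrArg ψ h1
  simp only [ψ, TensorProduct.mapOfCompatibleSMul_tmul] at h2
  have hFd : F d = 0 := by
    rw [hd, map_sub]
    simp only [F, TensorProduct.map_tmul, hι, map_one]
    rw [h2, sub_self]
  rw [IsLocalizedModule.eq_zero_iff m.primeCompl F] at hFd
  obtain ⟨c, hc⟩ := hFd
  have hcm : (c : R) ∈ m := hle (by rw [Ideal.mem_torsionOf_iff]; exact hc)
  exact c.2 hcm

end helpers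

/-- A ring map R → S is an epimorphism of rings if and only if for every prime p of R the localized map
R_p → S_p is an epimorphism, where S_p is S localized at the image of R ∖ p. -/
theorem result (R S : Type u) [CommRing R] [CommRing S] [Algebra R S] :
    Algebra.IsEpi R S ↔ ∀ (p : Ideal R) [p.IsPrime],
      Algebra.IsEpi (Localization.AtPrime p) (Localization (Algebra.algebraMapSubmonoid S p.primeCompl)) := by
  exact ⟨fun h p hp => forward R S h p, backward R S⟩

end Groth.Agent.S6371
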