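import Groth.Statements.S6374
import Groth.Agent.S6373
import Mathlib.RingTheory.LocalRing.ResidueField.Fiber

set_option autoImplicit false
universe u
open CAlg

namespace Groth.Agent.S6374

open TensorProduct in
/-- Base change of an epimorphism is an epimorphism. -/
theorem isEpi_baseChange (R S A : Type u) [CommRing R] [CommRing S] [Algebra R S]
    [CommRing A] [Algebra R A] [Algebra.IsEpi R S] : Algebra.IsEpi A (A ⊗[R] S) := by
  rw [Algebra.isEpi_iff_forall_one_tmul_eq]
  -- the R-linear map S ⊗ S → B ⊗[A] B
  let B := A ⊗[R] S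
  let ι : S →ₗ[R] B := (Algebra.TensorProduct.includeRight : S →ₐ[R] B).toLinearMap
  let Φ : S ⊗[R] S →ₗ[R] B ⊗[A] B :=
    TensorProduct.lift (LinearMap.mk₂ R (fun s s' => (ι s) ⊗ₜ[A] (ι s'))
      (fun s₁ s₂ s' => by simp [add_tmul])
      (fun r s s' => by
        simp only [map_smul]
        rw [TensorProduct.smul_tmul'])
      (fun s s₁ s₂ => by simp [tmul_add])
      (fun r s s' => by
        simp only [map_smul]
        rw [TensorProduct.tmul_smul]))
  have hS : ∀ s : S, (1 : B) ⊗ₜ[A] (ι s) = (ι s) ⊗ₜ[A] (1 : B) := by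
    intro s
    have := congrArg Φ ((Algebra.isEpi_iff_forall_one_tmul_eq R S).mp inferInstance s)
    simp only [Φ, TensorProduct.lift.tmul, LinearMap.mk₂_apply] at this
    have h1 : ι 1 = (1 : B) := rfl
    rw [h1] at this
    exact this
  intro b
  induction b using TensorProduct.induction_on with
  | zero => simp
  | tmul a s =>
    have hb : a ⊗ₜ[R] s = a • (ι s) := by
      show a ⊗ₜ[R] s = a • ((1 : A) ⊗ₜ[R] s)
      rw [TensorProduct.smul_tmul', smul_eq_mul, mul_one]
    rw [hb, TensorProduct.tmul_smul, hS, ← TensorProduct.smul_tmul']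
  | add x y hx hy => rw [tmul_add, add_tmul, hx, hy]


/-- For an epimorphism of rings R → S, the induced map Spec S → Spec R is injective and induces trivial
residue field extensions; stated in the form the proof gives: for every prime p of R the fibre ring
S ⊗_R κ(p) is either zero or κ(p) → S ⊗_R κ(p) is bijective, together with injectivity of Spec S →
Spec R. -/
theorem result (R S : Type u) [CommRing R] [CommRing S] [Algebra R S]
    [Algebra.IsEpi R S] :
    Function.Injective (PrimeSpectrum.comap (algebraMap R S)) ∧
      ∀ (p : Ideal R) [p.IsPrime],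
        Subsingleton (p.Fiber S) ∨ Function.Bijective (algebraMap p.ResidueField (p.Fiber S)) := by
  have hfib : ∀ (p : Ideal R) [p.IsPrime],
      Subsingleton (p.Fiber S) ∨ Function.Bijective (algebraMap p.ResidueField (p.Fiber S)) := by
    intro p _
    have : Algebra.IsEpi p.ResidueField (p.Fiber S) := isEpi_baseChange R S p.ResidueField
    exact Groth.Agent.S6373.result p.ResidueField (p.Fiber S)
  refine ⟨?_, hfib⟩
  intro x y hxy
  set p := PrimeSpectrum.comap (algebraMap R S) x with hp
  let x' : PrimeSpectrum.comap (algebraMap R S) ⁻¹' {p} := ⟨x, rfl⟩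
  let y' : PrimeSpectrum.comap (algebraMap R S) ⁻¹' {p} := ⟨y, hxy.symm⟩
  suffices h : x' = y' from congrArg Subtype.val h
  apply (PrimeSpectrum.preimageEquivFiber R S p).injective
  rcases hfib p.asIdeal with h | h
  · exact (PrimeSpectrum.isEmpty_iff_subsingleton.mpr h).elim (PrimeSpectrum.preimageEquivFiber R S p x')
  · let e : p.asIdeal.ResidueField ≃+* p.asIdeal.Fiber S := RingEquiv.ofBijective _ h
    have : Subsingleton (PrimeSpectrum (p.asIdeal.Fiber S)) :=
      (PrimeSpectrum.comapEquiv e).symm.toEquiv.subsingleton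
    exact Subsingleton.elim _ _

end Groth.Agent.S6374
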