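import Groth.Statements.S6375
import Mathlib.LinearAlgebra.TensorProduct.Vanishing
import Mathlib.Algebra.Colimit.TensorProduct
import Mathlib.SetTheory.Cardinal.Arithmetic
import Mathlib.Data.List.GetD

set_option autoImplicit false
universe u
open CAlg

namespace Groth.Agent.S6375

section helpers

open TensorProduct

variable {R S : Type u} [CommRing R] [CommRing S] [Algebra R S]

/-- zigzag datum for `s`. -/
def D (s : S) (l k : ℕ) (a : Fin (l + 2) → Fin k → R) : Prop :=
  ∃ (m : Fin (l + 2) → S) (y : Fin k → S), m 0 = s ∧ m 1 = 1 ∧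
    (∀ j, ∑ i, a i j • m i = 0) ∧ (∑ j, a 0 j • y j = 1) ∧ (∑ j, a 1 j • y j = -s) ∧
    ∀ i : Fin l, ∑ j, a i.succ.succ j • y j = 0

theorem D_unique (s s' : S) (l k : ℕ) (a : Fin (l + 2) → Fin k → R)
    (h : D s l k a) (h' : D s' l k a) : s = s' := by
  obtain ⟨_, y, -, -, -, hy0, hy1, hy2⟩ := h
  obtain ⟨m', _, hm0, hm1, hm, -, -, -⟩ := h'
  have h1 : ∑ j, (∑ i, a i j • m' i) * y j = 0 := by
    apply Finset.sum_eq_zero
    intro j _
    rw [hm j, zero_mul]
  have h2 : ∑ j, (∑ i, a i j • m' i) * y j = ∑ i, m' i * ∑ j, a i j • y j := by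
    simp_rw [Finset.sum_mul, Finset.mul_sum]
    rw [Finset.sum_comm]
    apply Finset.sum_congr rfl
    intro i _
    apply Finset.sum_congr rfl
    intro j _
    rw [smul_mul_assoc, mul_smul_comm]
  rw [h2, Fin.sum_univ_succ, Fin.sum_univ_succ] at h1
  have h3 : ∑ i : Fin l, m' i.succ.succ * ∑ j, a i.succ.succ j • y j = 0 := by
    apply Finset.sum_eq_zero
    intro i _
    rw [hy2 i, mul_zero]
  rw [h3, add_zero, hy0, hm0] at h1
  have h4 : m' (Fin.succ 0) = 1 := hm1
  have h5 : ∑ j, a (Fin.succ 0) j • y j = -s := hy1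
  rw [h4, h5] at h1
  have : s' - s = 0 := by
    rw [← h1]; ring
  exact (sub_eq_zero.mp this).symm

theorem D_exists [Algebra.IsEpi R S] (s : S) :
    ∃ (l k : ℕ) (a : Fin (l + 2) → Fin k → R), D s l k a := by
  have h1 : (1 : S) ⊗ₜ[R] s = s ⊗ₜ[R] 1 :=
    (Algebra.isEpi_iff_forall_one_tmul_eq R S).mp inferInstance s
  let N₀ : Submodule R S := Submodule.span R {s, 1}
  have hs0 : s ∈ N₀ := Submodule.subset_span (Set.mem_insert _ _)
  have h10 : (1 : S) ∈ N₀ := Submodule.subset_span (Set.mem_insert_of_mem _ rfl)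
  have hN₀ : N₀.FG := Submodule.fg_span (Set.toFinite _)
  let x : N₀ ⊗[R] S := (⟨s, hs0⟩ : N₀) ⊗ₜ[R] (1 : S) - (⟨1, h10⟩ : N₀) ⊗ₜ[R] s
  have hx : N₀.subtype.rTensor S x = N₀.subtype.rTensor S 0 := by
    simp only [x, map_sub, LinearMap.rTensor_tmul, Submodule.subtype_apply, map_zero]
    rw [h1, sub_self]
  obtain ⟨N', hfg, hle, heq⟩ := Submodule.FG.exists_rTensor_fg_inclusion_eq hN₀ hx
  obtain ⟨l, g, hg⟩ := Submodule.fg_iff_exists_fin_generating_family.mp hfg
  have hgN : ∀ i, g i ∈ N' := fun i => by rw [← hg]; exact Submodule.subset_span ⟨i, rfl⟩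
  let m : Fin (l + 2) → N' :=
    Fin.cons ⟨s, hle hs0⟩ (Fin.cons ⟨1, hle h10⟩ (fun i => ⟨g i, hgN i⟩))
  let n : Fin (l + 2) → S := Fin.cons 1 (Fin.cons (-s) (fun _ => 0))
  have hm : Submodule.span R (Set.range m) = ⊤ := by
    apply Submodule.map_injective_of_injective N'.injective_subtype
    rw [Submodule.map_span, Submodule.map_subtype_top]
    apply le_antisymm
    · rw [Submodule.span_le]
      rintro _ ⟨_, ⟨i, rfl⟩, rfl⟩
      exact (m i).2
    · have hle2 : Submodule.span R (Set.range g) ≤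
          Submodule.span R (N'.subtype '' Set.range m) := by
        apply Submodule.span_mono
        rintro _ ⟨i, rfl⟩
        exact ⟨m i.succ.succ, ⟨i.succ.succ, rfl⟩, rfl⟩
      rwa [hg] at hle2
  have hmn : ∑ i, m i ⊗ₜ[R] n i = (0 : N' ⊗[R] S) := by
    rw [Fin.sum_univ_succ, Fin.sum_univ_succ]
    have h3 : ∑ i : Fin l, m i.succ.succ ⊗ₜ[R] n i.succ.succ = 0 := by
      apply Finset.sum_eq_zero
      intro i _
      simp [n]
    rw [h3, add_zero]
    simp only [x, map_sub, LinearMap.rTensor_tmul, map_zero] at heq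
    simp only [m, n, Fin.cons_zero, Fin.cons_succ]
    rw [tmul_neg]
    rw [sub_eq_add_neg] at heq
    exact heq
  obtain ⟨k, a, y, hay, ham⟩ := TensorProduct.vanishesTrivially_of_sum_tmul_eq_zero R hm hmn
  refine ⟨l, k, a, fun i => (m i : S), y, rfl, rfl, ?_, ?_, ?_, ?_⟩
  · intro j
    have := congrArg N'.subtype (ham j)
    simpa using this
  · exact (hay 0).symm
  · exact (hay 1).symm
  · intro i
    exact (hay i.succ.succ).symm

/-- decode a list into a matrix. -/
def decode (l k : ℕ) (L : List R) : Fin (l + 2) → Fin k → R :=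
  fun i j => L.getD (finProdFinEquiv (i, j)).val 0

theorem decode_ofFn (l k : ℕ) (a : Fin (l + 2) → Fin k → R) :
    decode l k (List.ofFn (fun t : Fin ((l + 2) * k) =>
      a (finProdFinEquiv.symm t).1 (finProdFinEquiv.symm t).2)) = a := by
  funext i j
  unfold decode
  rw [List.getD_eq_getElem (hn := by rw [List.length_ofFn]; exact (finProdFinEquiv (i, j)).2),
    List.getElem_ofFn]
  simp only [Fin.eta, Equiv.symm_apply_apply]

theorem card_le [Algebra.IsEpi R S] [Infinite R] : Cardinal.mk S ≤ Cardinal.mk R := by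
  have hex : ∀ s : S, ∃ d : ℕ × ℕ × List R, D s d.1 d.2.1 (decode d.1 d.2.1 d.2.2) := by
    intro s
    obtain ⟨l, k, a, h⟩ := D_exists (R := R) s
    refine ⟨(l, k, List.ofFn (fun t : Fin ((l + 2) * k) =>
      a (finProdFinEquiv.symm t).1 (finProdFinEquiv.symm t).2)), ?_⟩
    simp only
    rw [decode_ofFn]
    exact h
  choose f hf using hex
  have hinj : Function.Injective f := by
    intro s s' hss
    have h1 := hf s
    have h2 := hf s'
    rw [hss] at h1
    exact D_unique s s' _ _ _ h1 h2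
  calc Cardinal.mk S ≤ Cardinal.mk (ℕ × ℕ × List R) := Cardinal.mk_le_of_injective hinj
    _ = Cardinal.mk R := by
      have hR : Cardinal.aleph0 ≤ Cardinal.mk R := Cardinal.aleph0_le_mk R
      simp only [Cardinal.mk_prod, Cardinal.mk_list_eq_mk, Cardinal.mk_nat, Cardinal.lift_aleph0,
        Cardinal.lift_uzero]
      rw [Cardinal.aleph0_mul_eq hR, Cardinal.aleph0_mul_eq hR]

end helpers

/-- For an infinite source ring: if R → S is an epimorphism of rings with R infinite, then |S| ≤ |R| as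
cardinals. (For finite R the published statement also asserts |S| ≤ |R|, but its proof only gives
that S is countable and omits the rest, so that case is not included.) -/
theorem result (R S : Type u) [CommRing R] [CommRing S] [Algebra R S] [Algebra.IsEpi R S]
    [Infinite R] : Cardinal.mk S ≤ Cardinal.mk R := by
  exact card_le

end Groth.Agent.S6375
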