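import Groth.Statements.S6377
import Groth.Agent.S12205
import Groth.Agent.S6313
import Groth.Agent.S0360
import Groth.Agent.Lib.GluePairFlat
import Groth.Agent.Lib.DevTor
-- import your own Groth.Agent.* helpers here

set_option autoImplicit false
universe u
open CategoryTheory
open scoped TensorProduct
open CAlg

namespace Groth.Agent.S6377

open Limits MonoidalCategory
open Groth.Agent.Lib Groth.Agent.Lib.TorLES Groth.Agent.Lib.TorBalance

variable (A : Type u) [CommRing A] (M : Type u) [AddCommGroup M] [Module A M]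

/-- `Tor_i(N, M) = 0` for `1 ≤ i ≤ k`. -/
def PC (k : ℕ) (N : Type u) [AddCommGroup N] [Module A N] : Prop :=
  ∀ i, 1 ≤ i → i ≤ k →
    IsZero (((Tor (ModuleCat.{u} A) i).obj (ModuleCat.of A N)).obj (ModuleCat.of A M))

section basic

variable {A M} {N N' : Type u} [AddCommGroup N] [Module A N] [AddCommGroup N'] [Module A N']

lemma PC.of_equiv {k : ℕ} (e : N ≃ₗ[A] N') (h : PC A M k N') : PC A M k N :=
  fun i hi hk => isZero_tor_of_iso e.toModuleIso i (h i hi hk)

lemma PC.mono {k k' : ℕ} (h : PC A M k N) (hk : k' ≤ k) : PC A M k' N :=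
  fun i hi hik => h i hi (hik.trans hk)

lemma PC.of_subsingleton [Subsingleton N] (k : ℕ) : PC A M k N :=
  fun i _ _ => isZero_tor_of_isZero_left (ModuleCat.isZero_of_subsingleton _) i

/-- the sequence `0 → N₁ → N → N/N₁ → 0`. -/
noncomputable def subSC (N₁ : Submodule A N) : ShortComplex (ModuleCat.{u} A) :=
  ShortComplex.mk (ModuleCat.ofHom N₁.subtype) (ModuleCat.ofHom N₁.mkQ) (by
    apply ModuleCat.hom_ext
    apply LinearMap.ext
    intro x
    exact (Submodule.Quotient.mk_eq_zero N₁).2 x.2)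

lemma subSC_shortExact (N₁ : Submodule A N) : (subSC N₁).ShortExact :=
  ModuleCat.shortComplex_shortExact _ (LinearMap.exact_subtype_mkQ N₁) Subtype.val_injective
    N₁.mkQ_surjective

lemma PC.ext {k : ℕ} (N₁ : Submodule A N) (h1 : PC A M k N₁) (h3 : PC A M k (N ⧸ N₁)) :
    PC A M k N :=
  fun i hi hk => isZero_tor_X₂ (subSC_shortExact N₁) i (h1 i hi hk) (h3 i hi hk)

lemma PC.shift {k : ℕ} (N₁ : Submodule A N)
    (h2 : ∀ n, IsZero (((Tor (ModuleCat.{u} A) (n + 1)).obj (ModuleCat.of A N)).obj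
      (ModuleCat.of A M)))
    (h3 : PC A M (k + 1) (N ⧸ N₁)) : PC A M k N₁ := by
  intro i hi hk
  obtain ⟨j, rfl⟩ : ∃ j, i = j + 1 := ⟨i - 1, by omega⟩
  exact isZero_tor_X₁ (subSC_shortExact N₁) (j + 1) (h3 (j + 1 + 1) (by omega) (by omega)) (h2 j)

lemma PC.of_ker_range {k : ℕ} {P : Type u} [AddCommGroup P] [Module A P] (g : N →ₗ[A] P)
    (h1 : PC A M k (LinearMap.ker g)) (h3 : PC A M k (LinearMap.range g)) : PC A M k N :=
  PC.ext (LinearMap.ker g) h1 (PC.of_equiv g.quotKerEquivRange h3)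

lemma PC.of_fg {k : ℕ} (h : ∀ N' : Submodule A N, N'.FG → PC A M k N') : PC A M k N := by
  intro i hi hk
  have := H15TorFiltered.tor_flip_preservesColimitsOfShape A i (ModuleCat.of A M)
    (DevTor.FGSub (ModuleCat.of A N))
  exact DevTor.isZero_of_fg (ModuleCat.of A N) ((Tor (ModuleCat.{u} A) i).flip.obj (ModuleCat.of A M))
    (fun N' hN' => h N' hN' i hi hk)

lemma PC.pi {k : ℕ} (n : ℕ) (h : PC A M k N) : PC A M k (Fin n → N) := by
  intro i hi hk
  have hX := h i hi hk
  have := Groth.Agent.S0360.flip_additive (ModuleCat.of A M) i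
  let T := (Tor (ModuleCat.{u} A) i).flip.obj (ModuleCat.of A M)
  show IsZero (T.obj (ModuleCat.of A (Fin n → N)))
  have hX' : IsZero (T.obj (ModuleCat.of A N)) := hX
  have hid : 𝟙 (ModuleCat.of A (Fin n → N)) =
      ∑ j : Fin n, (ModuleCat.ofHom (LinearMap.proj (R := A) (φ := fun _ : Fin n => N) j) :
          ModuleCat.of A (Fin n → N) ⟶ ModuleCat.of A N) ≫
        (ModuleCat.ofHom (LinearMap.single A (fun _ : Fin n => N) j) :
          ModuleCat.of A N ⟶ ModuleCat.of A (Fin n → N)) := by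
    apply ModuleCat.hom_ext
    apply LinearMap.ext
    intro v
    rw [ModuleCat.hom_sum]
    simp only [ModuleCat.hom_id, LinearMap.id_coe, id_eq, LinearMap.sum_apply, ModuleCat.hom_comp,
      ModuleCat.hom_ofHom, LinearMap.coe_comp, Function.comp_apply, LinearMap.coe_proj,
      Function.eval, LinearMap.coe_single]
    exact (Finset.univ_sum_single v).symm
  rw [IsZero.iff_id_eq_zero, ← CategoryTheory.Functor.map_id, hid, CategoryTheory.Functor.map_sum]
  apply Finset.sum_eq_zero
  intro j _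
  rw [CategoryTheory.Functor.map_comp, hX'.eq_of_tgt (T.map _) 0, zero_comp]

end basic

section phase1

variable {A} (I : Ideal A)

/-- a finite module killed by `I` is a quotient of `(A/I)^n`. -/
lemma exists_surj_of_killed (N : Type u) [AddCommGroup N] [Module A N] [Module.Finite A N]
    (hN : ∀ a ∈ I, ∀ x : N, a • x = 0) :
    ∃ (n : ℕ) (g : (Fin n → A ⧸ I) →ₗ[A] N), Function.Surjective g := by
  obtain ⟨n, f, hf⟩ := Module.Finite.exists_fin' A N
  let ψ : Fin n → (A ⧸ I) →ₗ[A] N := fun j =>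
    Submodule.liftQ I
      (LinearMap.toSpanSingleton A N (f (fun j' => if j = j' then 1 else 0))) (by
        intro r hr
        rw [LinearMap.mem_ker, LinearMap.toSpanSingleton_apply]
        exact hN r hr _)
  refine ⟨n, LinearMap.lsum A (fun _ => A ⧸ I) A ψ, ?_⟩
  intro x
  obtain ⟨v, rfl⟩ := hf x
  refine ⟨fun j => Submodule.Quotient.mk (v j), ?_⟩
  rw [LinearMap.pi_apply_eq_sum_univ f v, LinearMap.lsum_apply, LinearMap.sum_apply]
  refine Finset.sum_congr rfl (fun j _ => ?_)
  rfl

variable {M}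

/-- Phase 1: modules killed by `I`. -/
theorem pc_of_killed (k : ℕ) [Module.Flat (A ⧸ I) ((A ⧸ I) ⊗[A] M)] (h3 : PC A M k (A ⧸ I)) :
    ∀ j : ℕ, j + 1 ≤ k → ∀ (N : Type u) [AddCommGroup N] [Module A N],
      (∀ a ∈ I, ∀ x : N, a • x = 0) →
      IsZero (((Tor (ModuleCat.{u} A) (j + 1)).obj (ModuleCat.of A N)).obj (ModuleCat.of A M)) := by
  intro j
  induction j with
  | zero =>
    intro hk N _ _ hN
    exact Groth.Agent.S12205.result A I M (h3 1 le_rfl hk) N 1 (by simpa using hN)
  | succ j ih =>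
    intro hk N _ _ hN
    have := H15TorFiltered.tor_flip_preservesColimitsOfShape A (j + 1 + 1) (ModuleCat.of A M)
      (DevTor.FGSub (ModuleCat.of A N))
    refine DevTor.isZero_of_fg (ModuleCat.of A N)
      ((Tor (ModuleCat.{u} A) (j + 1 + 1)).flip.obj (ModuleCat.of A M)) ?_
    intro N' hN'
    have : Module.Finite A N' := Module.Finite.iff_fg.2 hN'
    have hN'k : ∀ a ∈ I, ∀ x : N', a • x = 0 := fun a ha x => Subtype.ext (hN a ha x)
    obtain ⟨n, g, hg⟩ := exists_surj_of_killed I N' hN'k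
    have hS := Groth.Agent.S0360.presSC_shortExact g hg
    have hK : ∀ a ∈ I, ∀ x : LinearMap.ker g, a • x = 0 := by
      intro a ha x
      apply Subtype.ext
      funext j'
      show a • (x.1 j') = 0
      obtain ⟨r, hr⟩ := Submodule.Quotient.mk_surjective _ (x.1 j')
      rw [← hr, ← Submodule.Quotient.mk_smul, Submodule.Quotient.mk_eq_zero]
      exact Ideal.mul_mem_right _ _ ha
    have h1 := ih (by omega) (LinearMap.ker g) hK
    have h2 := PC.pi (M := M) n h3 (j + 1 + 1) (by omega) hk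
    exact isZero_tor_X₃ hS (j + 1) h2 h1

theorem pc_killed (k : ℕ) [Module.Flat (A ⧸ I) ((A ⧸ I) ⊗[A] M)] (h3 : PC A M k (A ⧸ I))
    (N : Type u) [AddCommGroup N] [Module A N] (hN : ∀ a ∈ I, ∀ x : N, a • x = 0) :
    PC A M k N := by
  intro i hi hk
  obtain ⟨j, rfl⟩ : ∃ j, i = j + 1 := ⟨i - 1, by omega⟩
  exact pc_of_killed I k h3 j hk N hN

end phase1

section phase2

variable {A M} {r : ℕ} (f : Fin r → A)

/-- killed by `f j` for `j < s`, `f j`-power torsion for `j ≥ s`. -/
def KT (s : ℕ) (N : Type u) [AddCommGroup N] [Module A N] : Prop :=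
  (∀ j : Fin r, (j : ℕ) < s → ∀ x : N, f j • x = 0) ∧
  (∀ j : Fin r, s ≤ (j : ℕ) → ∀ x : N, ∃ n, f j ^ n • x = 0)

/-- `f j`-power torsion for `j < s`. -/
def PT (s : ℕ) (N : Type u) [AddCommGroup N] [Module A N] : Prop :=
  ∀ j : Fin r, (j : ℕ) < s → ∀ x : N, ∃ n, f j ^ n • x = 0

variable {f} {N : Type u} [AddCommGroup N] [Module A N]

lemma KT.submodule {s : ℕ} (h : KT f s N) (N' : Submodule A N) : KT f s N' :=
  ⟨fun j hj x => Subtype.ext (h.1 j hj x),
    fun j hj x => (h.2 j hj x).imp fun _ hn => Subtype.ext hn⟩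

lemma KT.quotient {s : ℕ} (h : KT f s N) (N' : Submodule A N) : KT f s (N ⧸ N') := by
  constructor
  · intro j hj x
    obtain ⟨y, rfl⟩ := Submodule.Quotient.mk_surjective _ x
    rw [← Submodule.Quotient.mk_smul, h.1 j hj y, Submodule.Quotient.mk_zero]
  · intro j hj x
    obtain ⟨y, rfl⟩ := Submodule.Quotient.mk_surjective _ x
    obtain ⟨n, hn⟩ := h.2 j hj y
    exact ⟨n, by rw [← Submodule.Quotient.mk_smul, hn, Submodule.Quotient.mk_zero]⟩

lemma PT.submodule {s : ℕ} (h : PT f s N) (N' : Submodule A N) : PT f s N' :=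
  fun j hj x => (h j hj x).imp fun _ hn => Subtype.ext hn

lemma exists_pow_of_finite (a : A) [Module.Finite A N] (h : ∀ x : N, ∃ n, a ^ n • x = 0) :
    ∃ n, ∀ x : N, a ^ n • x = 0 := by
  obtain ⟨m, s, hs⟩ := Module.Finite.exists_fin (R := A) (M := N)
  choose e he using h
  refine ⟨∑ i, e (s i), fun x => ?_⟩
  have hx : x ∈ Submodule.span A (Set.range s) := hs ▸ Submodule.mem_top
  induction hx using Submodule.span_induction with
  | mem y hy =>
    obtain ⟨i, rfl⟩ := hy
    have : ∑ i, e (s i) = (∑ i, e (s i) - e (s i)) + e (s i) :=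
      (Nat.sub_add_cancel (Finset.single_le_sum (f := fun i => e (s i))
        (fun _ _ => Nat.zero_le _) (Finset.mem_univ i))).symm
    rw [this, pow_add, mul_smul, he, smul_zero]
  | zero => exact smul_zero _
  | add y z _ _ hy hz => rw [smul_add, hy, hz, add_zero]
  | smul c y _ hy => rw [smul_comm, hy, smul_zero]

variable (f)

/-- inner induction on the exponent. -/
lemma pc_KT_inner (k s : ℕ) (hs : s < r)
    (IH : ∀ (N : Type u) [AddCommGroup N] [Module A N], KT f (s + 1) N → PC A M k N) :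
    ∀ (n : ℕ) (N : Type u) [AddCommGroup N] [Module A N], KT f s N →
      (∀ x : N, f ⟨s, hs⟩ ^ n • x = 0) → PC A M k N := by
  intro n
  induction n with
  | zero =>
    intro N _ _ _ h0
    have : Subsingleton N := ⟨fun x y => by
      have hx := h0 x
      have hy := h0 y
      rw [pow_zero, one_smul] at hx hy
      rw [hx, hy]⟩
    exact PC.of_subsingleton k
  | succ n ih =>
    intro N _ _ hKT hn
    let N₁ : Submodule A N := LinearMap.range (LinearMap.lsmul A N (f ⟨s, hs⟩))
    refine PC.ext N₁ (ih N₁ (hKT.submodule N₁) ?_) (IH (N ⧸ N₁) ?_)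
    · rintro ⟨y, x, rfl⟩
      apply Subtype.ext
      show f ⟨s, hs⟩ ^ n • (f ⟨s, hs⟩ • x) = 0
      rw [smul_smul, ← pow_succ]
      exact hn x
    · have hq := hKT.quotient N₁
      refine ⟨fun j hj x => ?_, fun j hj x => hq.2 j (by omega) x⟩
      rcases Nat.lt_succ_iff_lt_or_eq.1 hj with hlt | heq
      · exact hq.1 j hlt x
      · obtain rfl : j = ⟨s, hs⟩ := Fin.ext heq
        obtain ⟨y, rfl⟩ := Submodule.Quotient.mk_surjective _ x
        rw [← Submodule.Quotient.mk_smul, Submodule.Quotient.mk_eq_zero]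
        exact ⟨y, rfl⟩

theorem pc_KT (k : ℕ) [Module.Flat (A ⧸ Ideal.span (Set.range f))
      ((A ⧸ Ideal.span (Set.range f)) ⊗[A] M)]
    (h3 : PC A M k (A ⧸ Ideal.span (Set.range f))) :
    ∀ (d s : ℕ), s + d = r → ∀ (N : Type u) [AddCommGroup N] [Module A N],
      KT f s N → PC A M k N := by
  intro d
  induction d with
  | zero =>
    intro s hs N _ _ hKT
    refine pc_killed (Ideal.span (Set.range f)) k h3 N ?_
    have hle : Ideal.span (Set.range f) ≤ Module.annihilator A N := by
      rw [Ideal.span_le]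
      rintro _ ⟨j, rfl⟩
      exact Module.mem_annihilator.2 (hKT.1 j (by omega))
    exact fun a ha x => Module.mem_annihilator.1 (hle ha) x
  | succ d ih =>
    intro s hs N _ _ hKT
    have hsr : s < r := by omega
    apply PC.of_fg
    intro N' hN'
    have : Module.Finite A N' := Module.Finite.iff_fg.2 hN'
    have hKT' := hKT.submodule N'
    obtain ⟨n, hn⟩ := exists_pow_of_finite (N := N') (f ⟨s, hsr⟩) (hKT'.2 ⟨s, hsr⟩ le_rfl)
    exact pc_KT_inner f k s hsr (fun N₂ _ _ h => ih (s + 1) (by omega) N₂ h) n N' hKT' hn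

theorem pc_PT
    (h1 : ∀ i, Module.Flat (Localization.Away (f i)) (LocalizedModule (Submonoid.powers (f i)) M))
    [Module.Flat (A ⧸ Ideal.span (Set.range f)) ((A ⧸ Ideal.span (Set.range f)) ⊗[A] M)]
    (h3 : PC A M (r + 1) (A ⧸ Ideal.span (Set.range f))) :
    ∀ (d s : ℕ), s + d = r → ∀ (N : Type u) [AddCommGroup N] [Module A N],
      PT f s N → PC A M (s + 1) N := by
  intro d
  induction d with
  | zero =>
    intro s hs N _ _ hPT
    obtain rfl : s = r := by omega
    exact pc_KT f (s + 1) h3 s 0 (by omega) N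
      ⟨fun j hj => absurd hj (Nat.not_lt_zero _), fun j _ x => hPT j j.2 x⟩
  | succ d ih =>
    intro s hs N _ _ hPT
    have hsr : s < r := by omega
    let a : A := f ⟨s, hsr⟩
    let S := Submonoid.powers a
    let g : N →ₗ[A] LocalizedModule S N := LocalizedModule.mkLinearMap S N
    refine PC.of_ker_range g ?_ ?_
    · -- the kernel is `f_s`-power torsion
      refine (ih (s + 1) (by omega) (LinearMap.ker g) ?_).mono (by omega)
      intro j hj x
      rcases Nat.lt_succ_iff_lt_or_eq.1 hj with hlt | heq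
      · exact hPT.submodule _ j hlt x
      · obtain rfl : j = ⟨s, hsr⟩ := Fin.ext heq
        obtain ⟨c, hc⟩ := (IsLocalizedModule.eq_zero_iff S g).1 x.2
        obtain ⟨n, hn⟩ := (Submonoid.mem_powers_iff _ _).1 c.2
        refine ⟨n, Subtype.ext ?_⟩
        show a ^ n • (x : N) = 0
        rw [hn]
        exact hc
    · -- the image
      refine PC.shift (LinearMap.range g) ?_ (ih (s + 1) (by omega) _ ?_)
      · intro n
        exact isZero_tor_symm
          (GluePairFlat.isZero_tor_of_away_module M (h1 ⟨s, hsr⟩) (LocalizedModule S N) n)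
      · intro j hj x
        obtain ⟨y, rfl⟩ := Submodule.Quotient.mk_surjective _ x
        obtain ⟨⟨m, c⟩, hc⟩ := IsLocalizedModule.surj S g y
        rcases Nat.lt_succ_iff_lt_or_eq.1 hj with hlt | heq
        · obtain ⟨n, hn⟩ := hPT j hlt m
          refine ⟨n, ?_⟩
          rw [← Submodule.Quotient.mk_smul]
          have h0 : f j ^ n • y = 0 := by
            apply IsLocalizedModule.smul_injective g c
            show c • (f j ^ n • y) = c • (0 : LocalizedModule S N)
            rw [smul_zero, smul_comm, hc, ← map_smul, hn, map_zero]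
          rw [h0, Submodule.Quotient.mk_zero]
        · obtain rfl : j = ⟨s, hsr⟩ := Fin.ext heq
          obtain ⟨n, hn⟩ := (Submonoid.mem_powers_iff _ _).1 c.2
          refine ⟨n, ?_⟩
          rw [← Submodule.Quotient.mk_smul, Submodule.Quotient.mk_eq_zero]
          refine ⟨m, ?_⟩
          rw [← hc]
          show c • y = a ^ n • y
          rw [hn]
          rfl

end phase2


/-- Let A be a ring, M an A-module and I = (f_1, ..., f_r) an ideal generated by r ≥ 1 elements. If (1)
M_{f_i} is flat over A_{f_i} for each i, (2) M/IM is flat over A/I, and (3) Tor_i^A(M, A/I) = 0 for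
i = 1, ..., r + 1, then M is flat over A. (The published statement adds the same with 'faithfully
flat', whose proof it omits; that variant is not included.) -/
theorem result (A : Type u) [CommRing A] (M : Type u) [AddCommGroup M]
    [Module A M] {r : ℕ} (hr : 1 ≤ r) (f : Fin r → A)
    (h1 : ∀ i, Module.Flat (Localization.Away (f i)) (LocalizedModule (Submonoid.powers (f i)) M))
    (h2 : Module.Flat (A ⧸ Ideal.span (Set.range f)) ((A ⧸ Ideal.span (Set.range f)) ⊗[A] M))
    (h3 : ∀ i : ℕ, 1 ≤ i → i ≤ r + 1 →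
      Limits.IsZero (((CategoryTheory.Tor (ModuleCat.{u} A) i).obj (ModuleCat.of A M)).obj (ModuleCat.of A (A ⧸ Ideal.span (Set.range f))))) :
    Module.Flat A M := by
  have h3' : PC A M (r + 1) (A ⧸ Ideal.span (Set.range f)) :=
    fun i hi hk => isZero_tor_symm (h3 i hi hk)
  have key := pc_PT f h1 h3' r 0 (by omega)
  rw [Groth.Agent.S6313.result]
  intro J _
  exact isZero_tor_symm
    (key (A ⧸ J) (fun j hj => absurd hj (Nat.not_lt_zero _)) 1 le_rfl le_rfl)

end Groth.Agent.S6377
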