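import Groth.Statements.S6378
import Groth.Agent.Lib.TorLES
import Mathlib.RingTheory.FiniteLength
import Mathlib.RingTheory.SimpleModule.Basic

set_option autoImplicit false
universe u
open CategoryTheory
open CAlg

namespace Groth.Agent.S6378

/-- Let (R, m, κ) be a local ring and M an R-module with Tor_1^R(κ, M) = 0. Then Tor_1^R(N, M) = 0 for
every finite length R-module N. -/
theorem result (R : Type u) [CommRing R] [IsLocalRing R]
    (M : Type u) [AddCommGroup M] [Module R M]
    (h : Limits.IsZero (((CategoryTheory.Tor (ModuleCat.{u} R) 1).obj (ModuleCat.of R (IsLocalRing.ResidueField R))).obj (ModuleCat.of R M)))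
    (N : Type u) [AddCommGroup N] [Module R N] (hN : IsFiniteLength R N) :
    Limits.IsZero (((CategoryTheory.Tor (ModuleCat.{u} R) 1).obj (ModuleCat.of R N)).obj (ModuleCat.of R M)) := by
  induction hN with
  | of_subsingleton =>
    exact Lib.TorLES.isZero_tor_of_isZero_left (ModuleCat.isZero_of_subsingleton _) 1
  | @of_simple_quotient N _ _ N' hsimple _ ih =>
    -- the short exact sequence `0 → N' → N → N ⧸ N' → 0`
    let S : ShortComplex (ModuleCat.{u} R) :=
      ShortComplex.mk (ModuleCat.ofHom N'.subtype) (ModuleCat.ofHom N'.mkQ) (by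
        ext x
        simp)
    have hS : S.ShortExact := by
      have hex : S.Exact := by
        rw [ShortComplex.ShortExact.moduleCat_exact_iff_function_exact]
        intro y
        constructor
        · intro hy
          refine ⟨⟨y, ?_⟩, rfl⟩
          simpa [S] using hy
        · rintro ⟨x, rfl⟩
          simp [S]
      have hm : Mono S.f := by
        rw [ModuleCat.mono_iff_injective]
        exact N'.injective_subtype
      have he : Epi S.g := by
        rw [ModuleCat.epi_iff_surjective]
        exact N'.mkQ_surjective
      exact ⟨hex⟩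
    -- the simple quotient is the residue field
    obtain ⟨I, hI, ⟨e⟩⟩ := isSimpleModule_iff_quot_maximal.mp hsimple
    have hIeq : I = IsLocalRing.maximalIdeal R := IsLocalRing.eq_maximalIdeal hI
    subst hIeq
    have e' : ModuleCat.of R (N ⧸ N') ≅ ModuleCat.of R (IsLocalRing.ResidueField R) :=
      e.toModuleIso
    exact Lib.TorLES.isZero_tor_X₂ hS 1 ih (Lib.TorLES.isZero_tor_of_iso e' 1 h)

end Groth.Agent.S6378
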