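import Groth.Statements.S6379
import Groth.Agent.S6346
import Mathlib.LinearAlgebra.TensorProduct.Pi
import Mathlib.LinearAlgebra.TensorProduct.Finiteness
import Mathlib.RingTheory.Flat.Basic

set_option autoImplicit false
universe u
open scoped TensorProduct
open CAlg

namespace Groth.Agent.S6379

open TensorProduct Groth.Agent.S6346

/-- Let M be a flat Mittag-Leffler module over a commutative ring R, F an R-module and x ∈ F ⊗_R M. Then
among the submodules F' of F with x in the image of F' ⊗ M → F ⊗ M there is a smallest one, and it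
is a finitely generated module. -/
theorem result (R : Type u) [CommRing R] (M : Type u)
    [AddCommGroup M] [Module R M] [Module.Flat R M] (hM : CAlg.IsMittagLeffler R M)
    (F : Type u) [AddCommGroup F] [Module R F] (x : F ⊗[R] M) :
    ∃ F' : Submodule R F, F'.FG ∧ x ∈ LinearMap.range (F'.subtype.rTensor M) ∧
      ∀ F'' : Submodule R F, x ∈ LinearMap.range (F''.subtype.rTensor M) → F' ≤ F'' := by
  classical
  let ι := {F'' : Submodule R F // x ∈ LinearMap.range (F''.subtype.rTensor M)}
  let Q : ι → Type u := fun α => F ⧸ α.1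
  let g : F →ₗ[R] (∀ α, Q α) := LinearMap.pi (fun α => α.1.mkQ)
  have hker : LinearMap.ker g = ⨅ α : ι, α.1 := by
    rw [LinearMap.ker_pi]
    congr 1
    funext α
    exact Submodule.ker_mkQ _
  have hmin : ∀ F'' : Submodule R F, x ∈ LinearMap.range (F''.subtype.rTensor M) →
      (⨅ α : ι, α.1) ≤ F'' := fun F'' hF'' => iInf_le (fun α : ι => α.1) ⟨F'', hF''⟩
  have hmem : x ∈ LinearMap.range ((⨅ α : ι, α.1).subtype.rTensor M) := by
    rw [← hker]
    apply mem_range_of_rTensor_eq_zero
    apply (TensorProduct.comm R _ M).injective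
    apply hM ι Q
    funext α
    rw [piRightHom_comm_rTensor, map_zero, map_zero]
    have : ((LinearMap.proj α : (∀ i, Q i) →ₗ[R] Q α) ∘ₗ g).rTensor M x = 0 := by
      apply rTensor_eq_zero_of_mem_range _ α.1 ?_ x α.2
      intro f hf
      rw [LinearMap.mem_ker]
      simp only [g, LinearMap.comp_apply, LinearMap.pi_apply, LinearMap.proj_apply]
      exact (Submodule.Quotient.mk_eq_zero _).mpr hf
    rw [this, map_zero]
    rfl
  refine ⟨⨅ α : ι, α.1, ?_, hmem, hmin⟩
  -- finite generation
  set F' : Submodule R F := ⨅ α : ι, α.1 with hF'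
  obtain ⟨z, hz⟩ := hmem
  obtain ⟨S, hS⟩ := TensorProduct.exists_finsupp_right z
  -- F₁ = span of the finitely many first components
  let F₁ : Submodule R F :=
    Submodule.span R (Set.range (fun m : S.support => ((S m : F') : F)))
  have hF₁fg : F₁.FG := Submodule.fg_span (Set.finite_range _)
  have hF₁le : F₁ ≤ F' := by
    apply Submodule.span_le.mpr
    rintro _ ⟨m, rfl⟩
    exact (S m).2
  have hSm : ∀ m : M, ((S m : F') : F) ∈ F₁ := by
    intro m
    by_cases hm : m ∈ S.support
    · exact Submodule.subset_span ⟨⟨m, hm⟩, rfl⟩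
    · rw [Finsupp.notMem_support_iff.mp hm]
      exact F₁.zero_mem
  have hxF₁ : x ∈ LinearMap.range (F₁.subtype.rTensor M) := by
    refine ⟨∑ m ∈ S.support, (⟨((S m : F') : F), hSm m⟩ : F₁) ⊗ₜ[R] m, ?_⟩
    rw [← hz, hS, Finsupp.sum, map_sum, map_sum]
    refine Finset.sum_congr rfl fun m _ => ?_
    simp
  have : F' = F₁ := le_antisymm (hmin F₁ hxF₁) hF₁le
  rw [this]
  exact hF₁fg

end Groth.Agent.S6379
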