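import Groth.Statements.S6380
import Groth.Agent.S6358
import Mathlib.LinearAlgebra.Isomorphisms
import Mathlib.Algebra.Module.FinitePresentation

set_option autoImplicit false
universe u
open scoped TensorProduct
open CAlg

namespace Groth.Agent.S6380

open TensorProduct

/-- Given a linear map f : P → M of R-modules with P finitely presented, an R-module Q and an element x
of P ⊗ Q in the kernel of f ⊗ id_Q, one can factor f as h ∘ f' through some finitely presented
module P' (with f' : P → P' and h : P' → M) so that already f' ⊗ id_Q sends x to zero. -/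
theorem result (R : Type u) [CommRing R] {P M Q : Type u}
    [AddCommGroup P] [Module R P] [Module.FinitePresentation R P] [AddCommGroup M] [Module R M]
    [AddCommGroup Q] [Module R Q] (f : P →ₗ[R] M) (x : P ⊗[R] Q) (hx : f.rTensor Q x = 0) :
    ∃ (P' : Type u) (_ : AddCommGroup P') (_ : Module R P') (_ : Module.FinitePresentation R P')
      (f' : P →ₗ[R] P') (h : P' →ₗ[R] M), f = h ∘ₗ f' ∧ f'.rTensor Q x = 0 := by
  obtain ⟨n, π, hπ⟩ := Module.Finite.exists_fin' R P
  have hkerfg : (LinearMap.ker π).FG := Module.FinitePresentation.fg_ker π hπ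
  obtain ⟨x', rfl⟩ := LinearMap.rTensor_surjective Q hπ x
  have hx' : (f ∘ₗ π).rTensor Q x' = 0 := by
    rw [LinearMap.rTensor_comp, LinearMap.comp_apply, hx]
  obtain ⟨n', K, g', h', hK, hfac, hg'⟩ :=
    Groth.Agent.S6358.exists_factor_of_rTensor_eq_zero (f ∘ₗ π) Q x' hx'
  have hfp'' : Module.FinitePresentation R ((Fin n' → R) ⧸ K) :=
    Module.finitePresentation_of_surjective K.mkQ K.mkQ_surjective
      (by rw [Submodule.ker_mkQ]; exact hK)
  let L : Submodule R ((Fin n' → R) ⧸ K) := Submodule.map g' (LinearMap.ker π)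
  have hLfg : L.FG := hkerfg.map g'
  have hfp' : Module.FinitePresentation R (((Fin n' → R) ⧸ K) ⧸ L) :=
    Module.finitePresentation_of_surjective L.mkQ L.mkQ_surjective
      (by rw [Submodule.ker_mkQ]; exact hLfg)
  have hLle : L ≤ LinearMap.ker h' := by
    rintro _ ⟨c, hc, rfl⟩
    rw [LinearMap.mem_ker, ← LinearMap.comp_apply, hfac, LinearMap.comp_apply]
    rw [SetLike.mem_coe, LinearMap.mem_ker] at hc
    rw [hc, map_zero]
  let h : (((Fin n' → R) ⧸ K) ⧸ L) →ₗ[R] M := L.liftQ h' hLle
  let g'' : (Fin n → R) →ₗ[R] (((Fin n' → R) ⧸ K) ⧸ L) := L.mkQ ∘ₗ g'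
  have hle : LinearMap.ker π ≤ LinearMap.ker g'' := by
    intro c hc
    rw [LinearMap.mem_ker]
    simp only [g'', LinearMap.comp_apply, Submodule.mkQ_apply]
    rw [Submodule.Quotient.mk_eq_zero]
    exact ⟨c, hc, rfl⟩
  let eqv := π.quotKerEquivOfSurjective hπ
  let f' : P →ₗ[R] (((Fin n' → R) ⧸ K) ⧸ L) :=
    (LinearMap.ker π).liftQ g'' hle ∘ₗ eqv.symm.toLinearMap
  have hf'π : f' ∘ₗ π = g'' := by
    refine LinearMap.ext fun c => ?_
    have : eqv.symm (π c) = Submodule.Quotient.mk c :=
      LinearMap.quotKerEquivOfSurjective_symm_apply π hπ c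
    simp only [f', LinearMap.comp_apply, LinearEquiv.coe_coe, this]
    rfl
  have hhg'' : h ∘ₗ g'' = f ∘ₗ π := by
    rw [← hfac]
    refine LinearMap.ext fun c => ?_
    rfl
  refine ⟨_, inferInstance, inferInstance, hfp', f', h, ?_, ?_⟩
  · refine LinearMap.ext fun p => ?_
    obtain ⟨c, rfl⟩ := hπ p
    rw [← LinearMap.comp_apply, ← hhg'', ← hf'π]
    rfl
  · rw [← LinearMap.comp_apply, ← LinearMap.rTensor_comp, hf'π]
    show (L.mkQ ∘ₗ g').rTensor Q x' = 0
    rw [LinearMap.rTensor_comp, LinearMap.comp_apply, hg', map_zero]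

end Groth.Agent.S6380
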