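import Groth.Statements.S6381
import Mathlib
import Groth.Agent.Lib.MonicTower97
-- import your own Groth.Agent.* helpers here

set_option autoImplicit false
universe u
open CAlg

namespace Groth.Agent.S6381

open Polynomial

/-- Let R be a ring, p ⊆ R a prime and L a finite extension of the residue field κ(p). Then one can find
a ring map R → S, with S finite free over R, for which q = pS is a prime of S and the residue field
κ(q) is isomorphic to L over κ(p) (stated as a ring isomorphism κ(q) ≅ L compatible with the maps
from R, which determines compatibility with κ(p)). -/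
theorem result (R : Type u) [CommRing R] (p : Ideal R) [p.IsPrime]
    (L : Type u) [Field L] [Algebra p.ResidueField L] [FiniteDimensional p.ResidueField L]
    [Algebra R L] [IsScalarTower R p.ResidueField L] :
    ∃ (S : Type u) (_ : CommRing S) (_ : Algebra R S) (_ : Module.Finite R S) (_ : Module.Free R S)
      (_ : (p.map (algebraMap R S)).IsPrime)
      (e : (p.map (algebraMap R S)).ResidueField ≃+* L),
      ∀ r : R, e (algebraMap R (p.map (algebraMap R S)).ResidueField r) = algebraMap R L r := by
  classical
  set κ := p.ResidueField with hκ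
  set f : R →+* L := algebraMap R L with hf
  have hfκ : f = (algebraMap κ L).comp (algebraMap R κ) := IsScalarTower.algebraMap_eq R κ L
  have hkerf : RingHom.ker f = p := by
    rw [hfκ, RingHom.ker_comp_of_injective _ (algebraMap κ L).injective]
    exact Ideal.ker_algebraMap_residueField (I := p)
  let _ : Algebra (R ⧸ p) L := ((algebraMap κ L).comp (algebraMap (R ⧸ p) κ)).toAlgebra
  have _ : IsScalarTower (R ⧸ p) κ L := IsScalarTower.of_algebraMap_eq fun _ => rfl
  have hf2 : f = (algebraMap (R ⧸ p) L).comp (Ideal.Quotient.mk p) := by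
    rw [hfκ]
    ext r
    rfl
  have hinj : Function.Injective (algebraMap (R ⧸ p) L) :=
    (algebraMap κ L).injective.comp (IsFractionRing.injective (R ⧸ p) κ)
  have halg : ∀ z : L, ∃ q : R[X], q.map f ≠ 0 ∧ eval₂ f z q = 0 := by
    intro z
    have hz : IsAlgebraic κ z := Algebra.IsAlgebraic.isAlgebraic z
    rw [← IsFractionRing.isAlgebraic_iff (R ⧸ p) κ L] at hz
    obtain ⟨q, hq0, hq⟩ := hz
    obtain ⟨q', rfl⟩ := Polynomial.map_surjective (Ideal.Quotient.mk p)
      Ideal.Quotient.mk_surjective q
    refine ⟨q', ?_, ?_⟩
    · rw [hf2, ← Polynomial.map_map]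
      intro h0
      apply hq0
      exact Polynomial.map_injective _ hinj (by rw [h0, Polynomial.map_zero])
    · rw [hf2, ← eval₂_map]
      exact hq
  let b := Module.finBasis κ L
  have hgen : Subfield.closure (Set.range f ∪ Set.range b) = ⊤ := by
    rw [eq_top_iff]
    intro z _
    rw [← b.sum_repr z]
    apply sum_mem
    intro i _
    rw [Algebra.smul_def]
    apply mul_mem
    · obtain ⟨a, c, hc, hac⟩ := IsFractionRing.div_surjective (A := R ⧸ p) (b.repr z i)
      obtain ⟨a', rfl⟩ := Ideal.Quotient.mk_surjective a
      obtain ⟨c', rfl⟩ := Ideal.Quotient.mk_surjective c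
      rw [← hac, map_div₀]
      apply div_mem
      · apply Subfield.subset_closure
        left
        exact ⟨a', by rw [hfκ]; rfl⟩
      · apply Subfield.subset_closure
        left
        exact ⟨c', by rw [hfκ]; rfl⟩
    · exact Subfield.subset_closure (Or.inr ⟨i, rfl⟩)
  obtain ⟨S, instS, instAlg, h, hfin, hfree, hcomp, hker, hcl⟩ :=
    Groth.Agent.Lib.MonicTower97.tower _ R L f halg b hgen
  rw [hkerf] at hker
  have hprime : (p.map (algebraMap R S)).IsPrime := by
    rw [← hker]
    exact RingHom.ker_isPrime h
  refine ⟨S, instS, instAlg, hfin, hfree, hprime, ?_⟩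
  set q := p.map (algebraMap R S) with hq
  let φ : q.ResidueField →+* L := Ideal.ResidueField.lift q h (le_of_eq hker.symm) (by
    intro s hs
    rw [Submonoid.mem_comap, IsUnit.mem_submonoid_iff, isUnit_iff_ne_zero]
    intro h0
    apply hs
    rw [← hker]
    exact h0)
  have hφ : ∀ s : S, φ (algebraMap S q.ResidueField s) = h s :=
    fun s => Ideal.ResidueField.lift_algebraMap _ _ _ _ s
  have hsurj : Function.Surjective φ := by
    intro z
    have : z ∈ φ.fieldRange := by
      have hle : Subfield.closure (Set.range h) ≤ φ.fieldRange := by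
        rw [Subfield.closure_le]
        rintro _ ⟨s, rfl⟩
        exact ⟨algebraMap S q.ResidueField s, hφ s⟩
      apply hle
      rw [hcl]
      trivial
    exact this
  refine ⟨RingEquiv.ofBijective φ ⟨φ.injective, hsurj⟩, ?_⟩
  intro r
  rw [RingEquiv.ofBijective_apply, IsScalarTower.algebraMap_apply R S q.ResidueField, hφ]
  exact RingHom.congr_fun hcomp r

end Groth.Agent.S6381
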