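import Groth.Statements.S6382
import Groth.Agent.S0390
import Groth.Agent.Lib.FlatCrit
import Mathlib.RingTheory.Flat.Stability
import Mathlib.LinearAlgebra.TensorProduct.Tower
import Mathlib.RingTheory.TensorProduct.Finite

set_option autoImplicit false
universe u
open CAlg

namespace Groth.Agent.S6382

open TensorProduct Function in
/-- If `N` is a flat `S`-module and `M` is an `S`-module which is flat over `R`, then `N ⊗[S] M`
is flat over `R`. -/
theorem flat_tensor_of_flat {R S : Type*} [CommRing R] [CommRing S] [Algebra R S]
    (N : Type*) [AddCommGroup N] [Module S N] [Module R N] [IsScalarTower R S N] [Module.Flat S N]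
    (M : Type*) [AddCommGroup M] [Module S M] [Module R M] [IsScalarTower R S M]
    [Module.Flat R M] :
    Module.Flat R (N ⊗[S] M) := by
  rw [Module.Flat.iff_lTensor_injectiveₛ]
  intro P _ _ I
  let e₁ := TensorProduct.AlgebraTensorModule.assoc R S S N M I
  let e₂ := TensorProduct.AlgebraTensorModule.assoc R S S N M P
  let g : M ⊗[R] I →ₗ[S] M ⊗[R] P := TensorProduct.AlgebraTensorModule.lTensor S M I.subtype
  have hg : Injective g := by
    have := Module.Flat.lTensor_preserves_injective_linearMap (M := M) I.subtype
      Subtype.val_injective
    exact this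
  have hg' : Injective (g.lTensor N) := Module.Flat.lTensor_preserves_injective_linearMap g hg
  have comm : ∀ x, e₂ (I.subtype.lTensor (N ⊗[S] M) x) = g.lTensor N (e₁ x) := by
    intro x
    induction x with
    | zero => simp
    | add x y hx hy => simp only [map_add, hx, hy]
    | tmul t i =>
      induction t with
      | zero => simp
      | add x y hx hy => simp only [add_tmul, map_add, hx, hy]
      | tmul n m => rfl
  intro x y hxy
  apply e₁.injective
  apply hg'
  rw [← comm, ← comm, hxy]

/-- Consider a commutative square of local rings and local homomorphisms R → S, R → R', S → S', R' → S',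
and a finite S-module M. Assume the maps R → R' and S → S' are flat, M is flat over R, the maximal
ideal of R generates the maximal ideal of R', and R', S' are Noetherian. Then M' = M ⊗_S S' (any
base change of M along S → S') is flat over R'. -/
theorem result (R S R' S' : Type u) [CommRing R] [CommRing S]
    [CommRing R'] [CommRing S'] [IsLocalRing R] [IsLocalRing S] [IsLocalRing R'] [IsLocalRing S']
    [Algebra R S] [Algebra R R'] [Algebra S S'] [Algebra R' S'] [Algebra R S']
    [IsScalarTower R S S'] [IsScalarTower R R' S']
    [IsLocalHom (algebraMap R S)] [IsLocalHom (algebraMap R R')] [IsLocalHom (algebraMap S S')]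
    [IsLocalHom (algebraMap R' S')] [Module.Flat R R'] [Module.Flat S S']
    [IsNoetherianRing R'] [IsNoetherianRing S']
    (hm : (IsLocalRing.maximalIdeal R).map (algebraMap R R') = IsLocalRing.maximalIdeal R')
    (M : Type u) [AddCommGroup M] [Module S M] [Module R M] [IsScalarTower R S M] [Module.Finite S M]
    [Module.Flat R M]
    (M' : Type u) [AddCommGroup M'] [Module S' M'] [Module S M'] [IsScalarTower S S' M'] [Module R' M']
    [IsScalarTower R' S' M'] (j : M →ₗ[S] M') (hj : IsBaseChange S' j) :
    Module.Flat R' M' := by
  -- the `R`-module structure on `M'` through `S'`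
  let modR : Module R M' := Module.compHom M' (algebraMap R S')
  have hsmul : ∀ (r : R) (x : M'), r • x = algebraMap R S' r • x := fun _ _ => rfl
  have hRS' : IsScalarTower R S' M' := ⟨fun r s x => by
    rw [hsmul, Algebra.smul_def, mul_smul]⟩
  have hRR' : IsScalarTower R R' M' := ⟨fun r r' x => by
    rw [hsmul, Algebra.smul_def, ← algebraMap_smul S' (algebraMap R R' r * r') x, map_mul,
      ← IsScalarTower.algebraMap_apply R R' S', mul_smul, algebraMap_smul S' r' x]⟩
  -- `M'` is finite over `S'` and flat over `R`
  have hfin : Module.Finite S' M' := Module.Finite.equiv hj.equiv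
  have hflat0 : Module.Flat R (TensorProduct S S' M) := flat_tensor_of_flat S' M
  have hflat : Module.Flat R M' :=
    Module.Flat.of_linearEquiv (hj.equiv.restrictScalars R).symm
  have h1 : Function.Injective ((IsLocalRing.maximalIdeal R).subtype.rTensor M') :=
    Module.Flat.rTensor_preserves_injective_linearMap _ Subtype.val_injective
  have h2 := Groth.Agent.Lib.FlatCrit.rTensor_map_injective (S := R')
    (IsLocalRing.maximalIdeal R) h1
  rw [hm] at h2
  exact Groth.Agent.S0390.result (R := R') (S := S') (M := M') h2

end Groth.Agent.S6382
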