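import Groth.Statements.S6384
import Groth.Agent.Lib.FlatTopInduced88

set_option autoImplicit false
universe u
open scoped TensorProduct
open CAlg

namespace Groth.Agent.S6384

/-- Let φ : R → R' be a ring map, I ⊆ R an ideal and M an R-module such that M/IM is R/I-flat and R' ⊗_R
M is R'-flat. Put I₂ = φ⁻¹(φ(I²) R'). Then M/I₂M is flat over R/I₂. -/
theorem result (R R' : Type u) [CommRing R] [CommRing R'] [Algebra R R']
    (I : Ideal R) (M : Type u) [AddCommGroup M] [Module R M] [Module.Flat (R ⧸ I) ((R ⧸ I) ⊗[R] M)]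
    [Module.Flat R' (R' ⊗[R] M)] :
    Module.Flat (R ⧸ ((I ^ 2).map (algebraMap R R')).comap (algebraMap R R'))
      ((R ⧸ ((I ^ 2).map (algebraMap R R')).comap (algebraMap R R')) ⊗[R] M) := by
  have hfam : ∀ _ : Unit, Module.Flat R' (R' ⊗[R] M) := fun _ => inferInstance
  have := Groth.Agent.Lib.FlatTopInduced88.flat_quotient_iInf_comap M (fun _ : Unit => R') I
    (fun _ => (I ^ 2).map (algebraMap R R')) 2 (fun _ => Ideal.le_comap_map)
  exact Groth.Agent.Lib.FlatTopInduced88.flat_quotient_of_le M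
    (K := ⨅ _ : Unit, ((I ^ 2).map (algebraMap R R')).comap (algebraMap R R'))
    (iInf_le (fun _ : Unit => ((I ^ 2).map (algebraMap R R')).comap (algebraMap R R')) ())

end Groth.Agent.S6384
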