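import Groth.Statements.S6385
import Mathlib
import Groth.Agent.Lib.FTDim

set_option autoImplicit false
universe u
open CAlg

namespace Groth.Agent.S6385

/-- Let k be a field, S a finite type k-algebra, q a prime of S and x the corresponding point of X =
Spec S. Then there is g ∈ S, g ∉ q, such that dim S_g equals dim_x X — the minimum of dim S_{g'}
over all g' ∉ q — and, writing d for this dimension, a finite injective k-algebra map from the
polynomial ring k[y_1, ..., y_d] to S_g. -/
theorem result (k S : Type u) [Field k] [CommRing S] [Algebra k S]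
    [Algebra.FiniteType k S] (q : Ideal S) [q.IsPrime] :
    ∃ (g : S) (d : ℕ), g ∉ q ∧ ringKrullDim (Localization.Away g) = d ∧
      (∀ g' : S, g' ∉ q → ringKrullDim (Localization.Away g) ≤ ringKrullDim (Localization.Away g')) ∧
      ∃ φ : MvPolynomial (Fin d) k →ₐ[k] Localization.Away g, Function.Injective φ ∧ φ.toRingHom.Finite := by
  classical
  -- every nonzero localization has a Noether normalization
  have key : ∀ g : S, g ∉ q → ∃ (d : ℕ), ringKrullDim (Localization.Away g) = d ∧
      ∃ φ : MvPolynomial (Fin d) k →ₐ[k] Localization.Away g,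
        Function.Injective φ ∧ φ.toRingHom.Finite := by
    intro g hg
    have hnt : Nontrivial (Localization.Away g) := by
      have hdisj : Disjoint (Submonoid.powers g : Set S) (q : Set S) :=
        (Ideal.disjoint_powers_iff_notMem_of_isPrime _).mpr hg
      have hp := IsLocalization.isPrime_of_isPrime_disjoint (Submonoid.powers g)
        (Localization.Away g) q ‹_› hdisj
      exact ⟨⟨0, 1, fun h => hp.ne_top ((Ideal.eq_top_iff_one _).mpr (h ▸ Ideal.zero_mem _))⟩⟩
    have hft : Algebra.FiniteType k (Localization.Away g) :=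
      Algebra.FiniteType.trans (inferInstance : Algebra.FiniteType k S)
        (IsLocalization.finiteType_of_monoid_fg (Submonoid.powers g) (Localization.Away g))
    obtain ⟨d, φ, hinj, hfin⟩ := exists_finite_inj_algHom_of_fg k (Localization.Away g)
    refine ⟨d, ?_, φ, hinj, hfin⟩
    let _ : Algebra (MvPolynomial (Fin d) k) (Localization.Away g) := φ.toRingHom.toAlgebra
    have hfin' : Module.Finite (MvPolynomial (Fin d) k) (Localization.Away g) := hfin
    have hint : Algebra.IsIntegral (MvPolynomial (Fin d) k) (Localization.Away g) :=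
      Algebra.IsIntegral.of_finite _ _
    rw [← Groth.Agent.Lib.FTDim.ringKrullDim_eq_of_isIntegral_of_injective
      (R := MvPolynomial (Fin d) k) (S := Localization.Away g) hinj,
      Groth.Agent.Lib.FTDim.ringKrullDim_mvPolynomial]
  have hex : ∃ d : ℕ, ∃ g : S, g ∉ q ∧ ringKrullDim (Localization.Away g) = d := by
    obtain ⟨d, hd, -⟩ := key 1 (fun h => (‹q.IsPrime›).ne_top ((Ideal.eq_top_iff_one _).mpr h))
    exact ⟨d, 1, fun h => (‹q.IsPrime›).ne_top ((Ideal.eq_top_iff_one _).mpr h), hd⟩
  obtain ⟨g, hg, hd⟩ := Nat.find_spec hex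
  refine ⟨g, Nat.find hex, hg, hd, ?_, ?_⟩
  · intro g' hg'
    obtain ⟨d', hd', -⟩ := key g' hg'
    rw [hd, hd']
    have : Nat.find hex ≤ d' := Nat.find_min' hex ⟨g', hg', hd'⟩
    exact_mod_cast this
  · obtain ⟨d', hd', φ, hφ⟩ := key g hg
    have : d' = Nat.find hex := by
      have := hd'.symm.trans hd
      exact_mod_cast this
    subst this
    exact ⟨φ, hφ⟩

end Groth.Agent.S6385
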