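import Groth.Statements.S6386
import Mathlib.Algebra.FreeAlgebra.Cardinality
import Mathlib.SetTheory.Cardinal.Arithmetic
import Mathlib.RingTheory.Flat.EquationalCriterion

set_option autoImplicit false
universe u
open CAlg

namespace Groth.Agent.S6386

section helpers
open Cardinal
variable (A B : Type u) [CommRing A] [CommRing B] [Algebra A B]

/-- index type of candidate relations with entries in `C` -/
abbrev Idx (C : Subalgebra A B) := Σ l : ℕ, (Fin l → A × C)

variable {A B}

theorem exists_wit [Module.Flat A B] (C : Subalgebra A B) (r : Idx A B C) :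
    ∃ (k : ℕ) (y : Fin k → B), (∑ i, (r.2 i).1 • ((r.2 i).2 : B) = 0 →
      ∃ a : Fin r.1 → Fin k → A, (∀ i, ((r.2 i).2 : B) = ∑ j, a i j • y j) ∧
        ∀ j, ∑ i, (r.2 i).1 * a i j = 0) := by
  by_cases h : ∑ i, (r.2 i).1 • ((r.2 i).2 : B) = 0
  · obtain ⟨k, a, y, h1, h2⟩ := Module.Flat.isTrivialRelation_of_sum_smul_eq_zero h
    exact ⟨k, y, fun _ => ⟨a, h1, h2⟩⟩
  · exact ⟨0, Fin.elim0, fun h' => absurd h' h⟩

noncomputable def witK [Module.Flat A B] (C : Subalgebra A B) (r : Idx A B C) : ℕ :=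
  (exists_wit C r).choose

noncomputable def witY [Module.Flat A B] (C : Subalgebra A B) (r : Idx A B C) :
    Fin (witK C r) → B :=
  (exists_wit C r).choose_spec.choose

theorem wit_spec [Module.Flat A B] (C : Subalgebra A B) (r : Idx A B C)
    (h : ∑ i, (r.2 i).1 • ((r.2 i).2 : B) = 0) :
    ∃ a : Fin r.1 → Fin (witK C r) → A, (∀ i, ((r.2 i).2 : B) = ∑ j, a i j • witY C r j) ∧
        ∀ j, ∑ i, (r.2 i).1 * a i j = 0 :=
  (exists_wit C r).choose_spec.choose_spec h

/-- all the chosen witnesses -/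
noncomputable def W [Module.Flat A B] (C : Subalgebra A B) : Set B :=
  ⋃ r : Idx A B C, Set.range (witY C r)

noncomputable def step [Module.Flat A B] (C : Subalgebra A B) : Subalgebra A B :=
  Algebra.adjoin A ((C : Set B) ∪ W C)

theorem le_step [Module.Flat A B] (C : Subalgebra A B) : C ≤ step C := fun _ hx =>
  Algebra.subset_adjoin (Or.inl hx)

theorem wit_mem_step [Module.Flat A B] (C : Subalgebra A B) (r : Idx A B C) (j) :
    witY C r j ∈ step C :=
  Algebra.subset_adjoin (Or.inr (Set.mem_iUnion.2 ⟨r, Set.mem_range_self j⟩))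

theorem card_idx (C : Subalgebra A B) (hC : #C ≤ max #A ℵ₀) : #(Idx A B C) ≤ max #A ℵ₀ := by
  have h0 : ℵ₀ ≤ max #A ℵ₀ := le_max_right _ _
  rw [← Cardinal.mk_congr (List.equivSigmaTuple (α := A × C))]
  refine (Cardinal.mk_list_le_max _).trans (max_le h0 ?_)
  rw [Cardinal.mk_prod, Cardinal.lift_id, Cardinal.lift_id]
  exact Cardinal.mul_le_of_le h0 (le_max_left _ _) hC

theorem card_W [Module.Flat A B] (C : Subalgebra A B) (hC : #C ≤ max #A ℵ₀) :
    #(W C) ≤ max #A ℵ₀ := by
  have h0 : ℵ₀ ≤ max #A ℵ₀ := le_max_right _ _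
  refine (Cardinal.mk_iUnion_le _).trans ?_
  refine Cardinal.mul_le_of_le h0 (card_idx C hC) ?_
  refine ciSup_le' fun r => ?_
  exact (Cardinal.lt_aleph0_iff_set_finite.2 (Set.finite_range _)).le.trans h0

theorem card_step [Module.Flat A B] (C : Subalgebra A B) (hC : #C ≤ max #A ℵ₀) :
    #(step C) ≤ max #A ℵ₀ := by
  have h0 : ℵ₀ ≤ max #A ℵ₀ := le_max_right _ _
  refine (Algebra.cardinalMk_adjoin_le A _).trans ?_
  refine sup_le (sup_le (le_max_left _ _) ?_) h0
  refine (Cardinal.mk_union_le _ _).trans ?_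
  exact Cardinal.add_le_of_le h0 hC (card_W C hC)

noncomputable def chain [Module.Flat A B] (E : Subalgebra A B) (n : ℕ) : Subalgebra A B :=
  step^[n] E

theorem chain_succ [Module.Flat A B] (E : Subalgebra A B) (n : ℕ) :
    chain E (n + 1) = step (chain E n) := Function.iterate_succ_apply' _ _ _

theorem chain_mono [Module.Flat A B] (E : Subalgebra A B) : Monotone (chain E) :=
  monotone_nat_of_le_succ fun n => by rw [chain_succ]; exact le_step _

theorem card_chain [Module.Flat A B] (E : Subalgebra A B) (hE : #E ≤ max #A ℵ₀) (n : ℕ) :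
    #(chain E n) ≤ max #A ℵ₀ := by
  induction n with
  | zero => exact hE
  | succ n ih => rw [chain_succ]; exact card_step _ ih

end helpers

/-- The key step of its proof: let A be a ring, κ = max(|A|, ℵ₀), and B a flat A-algebra. Then every
A-subalgebra E ⊆ B with at most κ elements lies inside a flat A-subalgebra B' ⊆ B with at most κ
elements. Consequently B is the filtered colimit (union) of its flat A-subalgebras of cardinality at
most κ. -/
theorem result (A B : Type u) [CommRing A] [CommRing B] [Algebra A B]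
    [Module.Flat A B] (E : Subalgebra A B) (hE : Cardinal.mk E ≤ max (Cardinal.mk A) Cardinal.aleph0) :
    ∃ B' : Subalgebra A B, E ≤ B' ∧ Module.Flat A B' ∧ Cardinal.mk B' ≤ max (Cardinal.mk A) Cardinal.aleph0 := by
  have h0 : Cardinal.aleph0 ≤ max (Cardinal.mk A) Cardinal.aleph0 := le_max_right _ _
  have hdir : Directed (· ≤ ·) (chain E) := (chain_mono E).directed_le
  have hcoe : ((⨆ n, chain E n : Subalgebra A B) : Set B) = ⋃ n, (chain E n : Set B) :=
    Subalgebra.coe_iSup_of_directed hdir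
  have hmem : ∀ x : B, x ∈ ⨆ n, chain E n ↔ ∃ n, x ∈ chain E n := fun x => by
    rw [← SetLike.mem_coe, hcoe, Set.mem_iUnion]; rfl
  refine ⟨⨆ n, chain E n, le_iSup (chain E) 0, ?_, ?_⟩
  · rw [Module.Flat.iff_forall_isTrivialRelation]
    intro l f x hrel
    -- all entries in a common stage
    have hN : ∃ N, ∀ i, (x i : B) ∈ chain E N := by
      choose n hn using fun i => (hmem (x i)).1 (x i).2
      exact ⟨Finset.univ.sup n, fun i => chain_mono E (Finset.le_sup (Finset.mem_univ i)) (hn i)⟩
    obtain ⟨N, hN⟩ := hN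
    let r : Idx A B (chain E N) := ⟨l, fun i => (f i, ⟨x i, hN i⟩)⟩
    have hrel' : ∑ i, (r.2 i).1 • ((r.2 i).2 : B) = 0 := by
      have := congrArg (Subalgebra.val _) hrel
      simpa using this
    obtain ⟨a, h1, h2⟩ := wit_spec (chain E N) r hrel'
    have hy : ∀ j, witY (chain E N) r j ∈ ⨆ n, chain E n := fun j =>
      (hmem _).2 ⟨N + 1, by rw [chain_succ]; exact wit_mem_step _ _ _⟩
    refine ⟨witK (chain E N) r, a, fun j => ⟨witY (chain E N) r j, hy j⟩, fun i => ?_, h2⟩
    apply Subtype.ext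
    have := h1 i
    simpa using this
  · change Cardinal.mk ((⨆ n, chain E n : Subalgebra A B) : Set B) ≤ _
    rw [hcoe]
    have h := Cardinal.mk_iUnion_le_lift (fun n => (chain E n : Set B))
    rw [Cardinal.lift_uzero] at h
    refine h.trans ?_
    refine Cardinal.mul_le_of_le h0 (by simp) ?_
    refine ciSup_le' fun n => ?_
    rw [Cardinal.lift_uzero]
    exact card_chain E hE n

end Groth.Agent.S6386
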