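import Groth.Statements.S6389
import Mathlib.LinearAlgebra.DFinsupp
import Mathlib.Algebra.DirectSum.Module
import Mathlib.Order.SuccPred.Limit
import Mathlib.Order.Cover
import Mathlib.LinearAlgebra.Isomorphisms

set_option autoImplicit false
universe u
open CAlg

namespace Groth.Agent.S6389

section indep
variable {R : Type u} [CommRing R] {M : Type u} [AddCommGroup M] [Module R M]

/-- A family of submodules indexed by a linear order, each member disjoint from the supremum of the
earlier ones, is independent. -/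
lemma iSupIndep_of_disjoint_lt {ι : Type*} [LinearOrder ι] (N : ι → Submodule R M)
    (h : ∀ i, Disjoint (N i) (⨆ j, ⨆ (_ : j < i), N j)) : iSupIndep N := by
  classical
  rw [iSupIndep_iff_finsetSum_eq_zero_imp_eq_zero]
  intro s
  induction s using Finset.induction_on_max with
  | empty => intro v _ _ i hi; simp at hi
  | insert a s hlt ih =>
    intro v hv hsum i hi
    have ha : a ∉ s := fun h => lt_irrefl a (hlt a h)
    rw [Finset.sum_insert ha] at hsum
    have h1 : ∑ j ∈ s, v j ∈ ⨆ j, ⨆ (_ : j < a), N j := by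
      refine Submodule.sum_mem _ fun j hj => ?_
      exact Submodule.mem_iSup_of_mem j (Submodule.mem_iSup_of_mem (hlt j hj)
        (hv j (Finset.mem_insert_of_mem hj)))
    have h2 : v a = - ∑ j ∈ s, v j := eq_neg_of_add_eq_zero_left hsum
    have h3 : v a = 0 := by
      have hva : v a ∈ N a := hv a (Finset.mem_insert_self a s)
      have hva' : v a ∈ ⨆ j, ⨆ (_ : j < a), N j := by
        rw [h2]; exact Submodule.neg_mem _ h1
      exact (Submodule.disjoint_def.mp (h a)) _ hva hva'
    rw [h3, zero_add] at hsum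
    rcases Finset.mem_insert.mp hi with rfl | hi'
    · exact h3
    · exact ih v (fun j hj => hv j (Finset.mem_insert_of_mem hj)) hsum i hi'

/-- variant along an injective map to a linear order -/
lemma iSupIndep_of_disjoint_lt' {ι κ : Type*} [LinearOrder κ] (f : ι → κ)
    (hf : Function.Injective f) (N : ι → Submodule R M)
    (h : ∀ i, Disjoint (N i) (⨆ j, ⨆ (_ : f j < f i), N j)) : iSupIndep N := by
  let _ : LinearOrder ι := LinearOrder.lift' f hf
  exact iSupIndep_of_disjoint_lt N h

variable {S : Type u} [LinearOrder S] [WellFoundedLT S]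

/-- Given a dévissage with chosen complements at successor steps, the complements form an internal
direct sum decomposition. -/
lemma isInternal_of_devissage [DecidableEq {p : S × S // p.1 ⋖ p.2}]
    (Mf : S → Submodule R M) (hmono : Monotone Mf)
    (hlim : ∀ s : S, Order.IsSuccPrelimit s → Mf s = ⨆ t : {t : S // t < s}, Mf t.1)
    (htop : (⨆ s, Mf s) = ⊤)
    (C : {p : S × S // p.1 ⋖ p.2} → Submodule R M)
    (hC : ∀ p, Mf p.1.1 ⊓ C p = ⊥ ∧ Mf p.1.1 ⊔ C p = Mf p.1.2) :
    DirectSum.IsInternal C := by
  apply DirectSum.isInternal_submodule_of_iSupIndep_of_iSup_eq_top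
  · apply iSupIndep_of_disjoint_lt' (fun p : {p : S × S // p.1 ⋖ p.2} => p.1.2)
    · intro p q hpq
      replace hpq : p.1.2 = q.1.2 := hpq
      have h1 : p.1.1 = q.1.1 := by
        have hq := q.2
        rw [← hpq] at hq
        exact p.2.unique_left hq
      exact Subtype.ext (Prod.ext h1 hpq)
    · intro p
      have hle : (⨆ j : {p : S × S // p.1 ⋖ p.2}, ⨆ (_ : j.1.2 < p.1.2), C j) ≤ Mf p.1.1 := by
        refine iSup_le fun j => iSup_le fun hj => ?_
        have h1 : j.1.2 ≤ p.1.1 := p.2.le_of_lt hj
        calc C j ≤ Mf j.1.2 := by rw [← (hC j).2]; exact le_sup_right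
          _ ≤ Mf p.1.1 := hmono h1
      rw [disjoint_iff, eq_bot_iff, ← (hC p).1]
      exact le_inf (inf_le_right.trans hle) inf_le_left
  · rw [eq_top_iff, ← htop]
    refine iSup_le fun s => ?_
    induction s using WellFoundedLT.induction with
    | ind s ih =>
      by_cases hs : Order.IsSuccPrelimit s
      · rw [hlim s hs]
        exact iSup_le fun t => ih t.1 t.2
      · rw [Order.IsSuccPrelimit] at hs
        push Not at hs
        obtain ⟨a, ha⟩ := hs
        rw [← (hC ⟨(a, s), ha⟩).2]
        exact sup_le (ih a ha.lt) (le_iSup C ⟨(a, s), ha⟩)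

/-- the complement at a successor step is isomorphic to the quotient -/
noncomputable def complEquivQuotient (A B C : Submodule R M) (h1 : A ⊓ C = ⊥) (h2 : A ⊔ C = B) :
    C ≃ₗ[R] (↥B ⧸ Submodule.comap B.subtype A) := by
  have hCB : C ≤ B := h2 ▸ le_sup_right
  let f : C →ₗ[R] (↥B ⧸ Submodule.comap B.subtype A) :=
    (Submodule.mkQ _) ∘ₗ Submodule.inclusion hCB
  refine LinearEquiv.ofBijective f ⟨?_, ?_⟩
  · rw [← LinearMap.ker_eq_bot, eq_bot_iff]
    intro c hc
    rw [LinearMap.mem_ker] at hc
    simp only [f, LinearMap.comp_apply, Submodule.mkQ_apply, Submodule.Quotient.mk_eq_zero,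
      Submodule.mem_comap, Submodule.subtype_apply, Submodule.coe_inclusion] at hc
    have : (c : M) ∈ A ⊓ C := ⟨hc, c.2⟩
    rw [h1, Submodule.mem_bot] at this
    rw [Submodule.mem_bot]
    exact Subtype.ext this
  · intro q
    obtain ⟨b, rfl⟩ := Submodule.Quotient.mk_surjective _ q
    have hb : (b : M) ∈ A ⊔ C := h2 ▸ b.2
    obtain ⟨a, ha, c, hc, hac⟩ := Submodule.mem_sup.mp hb
    refine ⟨⟨c, hc⟩, ?_⟩
    simp only [f, LinearMap.comp_apply, Submodule.mkQ_apply]
    rw [Submodule.Quotient.eq]
    simp only [Submodule.mem_comap, Submodule.subtype_apply, Submodule.coe_sub,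
      Submodule.coe_inclusion]
    have : c - (b : M) = -a := by rw [← hac]; abel
    rw [this]
    exact Submodule.neg_mem _ ha

end indep

/-- Let (M_s)_{s ∈ S} be a direct sum dévissage of an R-module M: an increasing family of submodules
indexed by a well-ordered set S with M_s = ⋃_{t<s} M_t at every index s that is not a successor (in
particular the first term is 0), ⋃_s M_s = M, and M_s a direct summand of M_t whenever t is the
successor of s. Then M is isomorphic to the direct sum, over the successor steps s ⋖ t, of the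
quotients M_t/M_s (existence of an isomorphism; the map in the source depends on chosen
complements). -/
theorem result (R : Type u) [CommRing R] (M : Type u)
    [AddCommGroup M] [Module R M] (S : Type u) [LinearOrder S] [WellFoundedLT S] (Mf : S → Submodule R M)
    (hmono : Monotone Mf) :
    (∀ s : S, Order.IsSuccPrelimit s → Mf s = ⨆ t : {t : S // t < s}, Mf t.1) →
      (⨆ s, Mf s) = ⊤ →
      (∀ s t : S, s ⋖ t → ∃ C : Submodule R M, Mf s ⊓ C = ⊥ ∧ Mf s ⊔ C = Mf t) →
      Nonempty (M ≃ₗ[R] DirectSum {p : S × S // p.1 ⋖ p.2}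
        fun p => ↥(Mf p.1.2) ⧸ Submodule.comap (Mf p.1.2).subtype (Mf p.1.1)) := by
  classical
  intro hlim htop hsucc
  have hex : ∀ p : {p : S × S // p.1 ⋖ p.2}, ∃ C : Submodule R M,
      Mf p.1.1 ⊓ C = ⊥ ∧ Mf p.1.1 ⊔ C = Mf p.1.2 := fun p => hsucc p.1.1 p.1.2 p.2
  choose C hC using hex
  have hint := isInternal_of_devissage Mf hmono hlim htop C hC
  let e1 : (DirectSum {p : S × S // p.1 ⋖ p.2} fun p => C p) ≃ₗ[R] M :=
    LinearEquiv.ofBijective (DirectSum.coeLinearMap C) hint
  let e2 : (DirectSum {p : S × S // p.1 ⋖ p.2} fun p => C p) ≃ₗ[R]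
      DirectSum {p : S × S // p.1 ⋖ p.2}
        fun p => ↥(Mf p.1.2) ⧸ Submodule.comap (Mf p.1.2).subtype (Mf p.1.1) :=
    DFinsupp.mapRange.linearEquiv fun p => complEquivQuotient _ _ _ (hC p).1 (hC p).2
  exact ⟨e1.symm ≪≫ₗ e2⟩

end Groth.Agent.S6389
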