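import Groth.Statements.S6390
import Groth.Agent.S6389
import Mathlib.SetTheory.Cardinal.Order
import Mathlib.Order.WithBot

set_option autoImplicit false
universe u
open scoped Classical
open CAlg

namespace Groth.Agent.S6390

section
variable {R : Type u} [CommRing R]

lemma ctbl_of_surjective {A B : Type u} [AddCommGroup A] [Module R A] [AddCommGroup B] [Module R B]
    (f : A →ₗ[R] B) (hf : Function.Surjective f) (h : CAlg.IsCountablyGenerated R A) :
    CAlg.IsCountablyGenerated R B := by
  obtain ⟨s, hs, hspan⟩ := h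
  refine ⟨f '' s, hs.image f, ?_⟩
  rw [← Submodule.map_span, hspan, Submodule.map_top, LinearMap.range_eq_top]
  exact hf

end

/-- An R-module M is a direct sum of countably generated modules if and only if it admits a Kaplansky
dévissage, i.e. an increasing family of submodules (M_s) indexed by a well-ordered set S with M_s =
⋃_{t<s} M_t at non-successor indices (so the first term is 0), ⋃_s M_s = M, and, whenever t is the
successor of s, M_s a direct summand of M_t with M_t/M_s countably generated. -/
theorem result (R : Type u) [CommRing R] (M : Type u)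
    [AddCommGroup M] [Module R M] :
    (∃ (ι : Type u) (N : ι → Submodule R M), DirectSum.IsInternal N ∧ ∀ i, CAlg.IsCountablyGenerated R (N i)) ↔
      ∃ (S : Type u) (_ : LinearOrder S) (_ : WellFoundedLT S) (Mf : S → Submodule R M), Monotone Mf ∧
        (∀ s : S, Order.IsSuccPrelimit s → Mf s = ⨆ t : {t : S // t < s}, Mf t.1) ∧
        (⨆ s, Mf s) = ⊤ ∧
        (∀ s t : S, s ⋖ t → ∃ C : Submodule R M, Mf s ⊓ C = ⊥ ∧ Mf s ⊔ C = Mf t ∧
          CAlg.IsCountablyGenerated R (↥(Mf t) ⧸ Submodule.comap (Mf t).subtype (Mf s))) := by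
  constructor
  · rintro ⟨ι, N, hN, hc⟩
    have hindep : iSupIndep N := hN.submodule_iSupIndep
    have htopN : iSup N = ⊤ := hN.submodule_iSup_eq_top
    obtain ⟨lo, wf⟩ := exists_wellFoundedLT ι
    let Mf : WithTop ι → Submodule R M := fun s => ⨆ (i : ι) (_ : (i : WithTop ι) < s), N i
    have hmono : Monotone Mf := by
      intro s s' hss'
      exact iSup_mono fun i => iSup_mono' fun hi => ⟨lt_of_lt_of_le hi hss', le_rfl⟩
    refine ⟨WithTop ι, inferInstance, inferInstance, Mf, hmono, ?_, ?_, ?_⟩
    · intro s hs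
      apply le_antisymm
      · refine iSup_le fun i => iSup_le fun hi => ?_
        have hncov : ¬ ((i : WithTop ι) ⋖ s) := hs _
        rw [not_covBy_iff hi] at hncov
        obtain ⟨t, hit, hts⟩ := hncov
        refine le_trans ?_ (le_iSup (fun t : {t : WithTop ι // t < s} => Mf t.1) ⟨t, hts⟩)
        exact le_iSup_of_le i (le_iSup_of_le hit le_rfl)
      · exact iSup_le fun t => hmono t.2.le
    · rw [eq_top_iff, ← htopN]
      refine iSup_le fun i => ?_
      refine le_trans ?_ (le_iSup Mf ⊤)
      exact le_iSup_of_le i (le_iSup_of_le (WithTop.coe_lt_top i) le_rfl)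
    · intro s t hst
      have hsne : s ≠ ⊤ := ne_top_of_lt hst.lt
      obtain ⟨i₀, rfl⟩ := WithTop.ne_top_iff_exists.mp hsne
      have h1 : Mf (i₀ : WithTop ι) ⊓ N i₀ = ⊥ := by
        rw [eq_bot_iff]
        have hle : Mf (i₀ : WithTop ι) ≤ ⨆ (j : ι) (_ : j ≠ i₀), N j := by
          refine iSup_le fun i => iSup_le fun hi => ?_
          have : i ≠ i₀ := ne_of_lt (WithTop.coe_lt_coe.mp hi)
          exact le_iSup_of_le i (le_iSup_of_le this le_rfl)
        have hd := (hindep i₀).symm
        rw [disjoint_iff] at hd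
        rw [← hd]
        exact inf_le_inf_right _ hle
      have h2 : Mf (i₀ : WithTop ι) ⊔ N i₀ = Mf t := by
        apply le_antisymm
        · apply sup_le (hmono hst.le)
          exact le_iSup_of_le i₀ (le_iSup_of_le hst.lt le_rfl)
        · refine iSup_le fun i => iSup_le fun hi => ?_
          have hle : (i : WithTop ι) ≤ i₀ := hst.le_of_lt hi
          rcases lt_or_eq_of_le (WithTop.coe_le_coe.mp hle) with h | h
          · exact le_sup_of_le_left
              (le_iSup_of_le i (le_iSup_of_le (WithTop.coe_lt_coe.mpr h) le_rfl))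
          · rw [h]; exact le_sup_right
      refine ⟨N i₀, h1, h2, ?_⟩
      exact ctbl_of_surjective _
        (Groth.Agent.S6389.complEquivQuotient _ _ _ h1 h2).surjective (hc i₀)
  · rintro ⟨S, lo, wf, Mf, hmono, hlim, htop, hsucc⟩
    have hex : ∀ p : {p : S × S // p.1 ⋖ p.2}, ∃ C : Submodule R M,
        Mf p.1.1 ⊓ C = ⊥ ∧ Mf p.1.1 ⊔ C = Mf p.1.2 ∧
        CAlg.IsCountablyGenerated R (↥(Mf p.1.2) ⧸ Submodule.comap (Mf p.1.2).subtype (Mf p.1.1)) :=
      fun p => hsucc p.1.1 p.1.2 p.2
    choose C hC using hex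
    refine ⟨{p : S × S // p.1 ⋖ p.2}, C, ?_, ?_⟩
    · exact @Groth.Agent.S6389.isInternal_of_devissage R _ M _ _ S _ _
        (fun a b => Classical.propDecidable (a = b)) Mf hmono hlim htop C
        (fun p => ⟨(hC p).1, (hC p).2.1⟩)
    · intro p
      exact ctbl_of_surjective _
        (Groth.Agent.S6389.complEquivQuotient _ _ _ (hC p).1 (hC p).2.1).symm.surjective (hC p).2.2

end Groth.Agent.S6390
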