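import Groth.Statements.S6391
import Groth.Agent.Lib.HenselEtaleLift
import Groth.Agent.Lib.IndEtale

set_option autoImplicit false
universe u
open CAlg

namespace Groth.Agent.S6391

open CategoryTheory CategoryTheory.Limits

section
variable {R S C Q : Type u} [CommRing R] [CommRing S] [CommRing C] [CommRing Q]
  [Algebra R S] [Algebra R C] [Algebra R Q]

/-- two maps from an ind-etale algebra agreeing modulo an ideal in the Jacobson radical are equal. -/
theorem indEtale_hom_ext (hS : EtPBC.IsIndEtale R S) (J' : Ideal C) (hJ' : J' ≤ Ideal.jacobson ⊥)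
    (f g : S →ₐ[R] C) (h : ∀ x, f x - g x ∈ J') : f = g := by
  obtain ⟨J, _, _, E, _, _, hE, t, φ, hcomp, hsurj, hker⟩ :=
    Groth.Agent.Lib.IndEtale.exists_concrete R S hS
  ext b
  obtain ⟨j, x, rfl⟩ := hsurj b
  have : Algebra.Etale R (E j) := hE j
  have := Groth.Agent.Lib.HenselEtaleLift.algHom_ext_of_sub_mem (A := R) (S := E j) J' hJ'
    (f.comp (φ j)) (g.comp (φ j)) (fun x => h (φ j x))
  exact congrArg (fun k : E j →ₐ[R] C => k x) this

/-- lifting etale algebra maps along a surjection from a henselian pair. -/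
theorem etale_exists_lift {E : Type u} [CommRing E] [Algebra R E] [Algebra.Etale R E]
    (J' : Ideal C) [HenselianRing C J'] (π : C →ₐ[R] Q) (hπ : Function.Surjective π)
    (hker : RingHom.ker π.toRingHom = J') (ψ : E →ₐ[R] Q) : ∃ σ : E →ₐ[R] C, π.comp σ = ψ := by
  subst hker
  let e : (C ⧸ RingHom.ker π.toRingHom) ≃ₐ[R] Q := Ideal.quotientKerAlgEquivOfSurjective hπ
  obtain ⟨σ, hσ⟩ := Groth.Agent.Lib.HenselEtaleLift.exists_lift_of_algebra (A := R) (S := E)
    (RingHom.ker π.toRingHom) ((e.symm : Q →ₐ[R] _).comp ψ)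
  refine ⟨σ, ?_⟩
  ext x
  have := congrArg (fun k : E →ₐ[R] C ⧸ RingHom.ker π.toRingHom => e (k x)) hσ
  have h2 : e ((e.symm : Q →ₐ[R] _) (ψ x)) = ψ x := e.apply_symm_apply (ψ x)
  simp only [AlgHom.comp_apply] at this
  rw [h2] at this
  rw [← this]
  rfl

/-- an `R`-algebra map as a morphism in `Under (CommRingCat.of R)`. -/
def toUnderHom {X Y : Type u} [CommRing X] [CommRing Y] [Algebra R X] [Algebra R Y] (f : X →ₐ[R] Y) :
    Under.mk (CommRingCat.ofHom (algebraMap R X)) ⟶ Under.mk (CommRingCat.ofHom (algebraMap R Y)) :=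
  Under.homMk (CommRingCat.ofHom f.toRingHom) (by
    ext a
    exact f.commutes a)

/-- lifting maps from an ind-etale algebra along a surjection from a henselian pair. -/
theorem indEtale_exists_lift (hS : EtPBC.IsIndEtale R S) (J' : Ideal C) [HenselianRing C J']
    (π : C →ₐ[R] Q) (hπ : Function.Surjective π) (hker : RingHom.ker π.toRingHom = J')
    (ψ : S →ₐ[R] Q) : ∃ σ : S →ₐ[R] C, π.comp σ = ψ := by
  obtain ⟨J, _, _, D, c, hc, hD, ⟨e⟩⟩ := hS
  let instAlg : ∀ j, Algebra R (D.obj j).right := fun j => (D.obj j).hom.hom.toAlgebra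
  let φ : ∀ j, (D.obj j).right →ₐ[R] S := fun j =>
    { toRingHom := (c.ι.app j ≫ e.hom).right.hom
      commutes' := fun a => by
        have := Under.w (c.ι.app j ≫ e.hom)
        exact congrArg (fun g => g.hom a) this }
  have hlift : ∀ j, ∃ σ : (D.obj j).right →ₐ[R] C, π.comp σ = ψ.comp (φ j) := fun j => by
    have : Algebra.Etale R (D.obj j).right := hD j
    exact etale_exists_lift J' π hπ hker _
  choose σ hσ using hlift
  have hJ' : J' ≤ Ideal.jacobson ⊥ := HenselianRing.jac
  let tr : ∀ {i j : J}, (i ⟶ j) → ((D.obj i).right →ₐ[R] (D.obj j).right) := fun {i j} f =>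
    { toRingHom := (D.map f).right.hom
      commutes' := fun a => by
        have := Under.w (D.map f)
        exact congrArg (fun g => g.hom a) this }
  have hφtr : ∀ {i j : J} (f : i ⟶ j), (φ j).comp (tr f) = φ i := by
    intro i j f
    ext x
    have := c.w f
    change (c.ι.app j ≫ e.hom).right.hom ((D.map f).right.hom x) = (c.ι.app i ≫ e.hom).right.hom x
    rw [← this]
    rfl
  have hnat : ∀ {i j : J} (f : i ⟶ j), (σ j).comp (tr f) = σ i := by
    intro i j f
    have : Algebra.Etale R (D.obj i).right := hD i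
    refine Groth.Agent.Lib.HenselEtaleLift.algHom_ext_of_sub_mem (A := R) (S := (D.obj i).right)
      J' hJ' _ _ (fun x => ?_)
    rw [← hker, RingHom.mem_ker, map_sub, sub_eq_zero]
    have h1 := congrArg (fun k : (D.obj j).right →ₐ[R] Q => k (tr f x)) (hσ j)
    have h2 := congrArg (fun k : (D.obj i).right →ₐ[R] Q => k x) (hσ i)
    have h3 := congrArg (fun k : (D.obj i).right →ₐ[R] S => ψ (k x)) (hφtr f)
    simp only [AlgHom.comp_apply] at h1 h2 h3
    change π ((σ j) (tr f x)) = π ((σ i) x)
    rw [h1, h2, h3]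
  let s : Cocone D :=
    { pt := Under.mk (CommRingCat.ofHom (algebraMap R C))
      ι :=
        { app := fun j => Under.homMk (CommRingCat.ofHom (σ j).toRingHom) (by
            ext a
            exact (σ j).commutes a)
          naturality := fun i j f => by
            ext x
            exact congrArg (fun k : (D.obj i).right →ₐ[R] C => k x) (hnat f) } }
  let Φ : Under.mk (CommRingCat.ofHom (algebraMap R S)) ⟶ Under.mk (CommRingCat.ofHom (algebraMap R C)) :=
    e.inv ≫ hc.desc s
  let σS : S →ₐ[R] C :=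
    { toRingHom := Φ.right.hom
      commutes' := fun a => congrArg (fun g => g.hom a) (Under.w Φ) }
  refine ⟨σS, ?_⟩
  have key : Φ ≫ toUnderHom π = toUnderHom ψ := by
    change (e.inv ≫ hc.desc s) ≫ toUnderHom π = toUnderHom ψ
    rw [Category.assoc, Iso.inv_comp_eq]
    refine hc.hom_ext (fun j => ?_)
    rw [← Category.assoc, hc.fac]
    ext x
    have h2 := congrArg (fun k : (D.obj j).right →ₐ[R] Q => k x) (hσ j)
    exact h2
  ext b
  exact congrArg (fun k => k.right.hom b) key

end

/-- Let R be a ring, S and S' henselian local rings which are filtered colimits of étale R-algebras, and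
K a field together with R-algebra maps S → K and S' → K identifying K with the residue field of each
(surjective with kernel the maximal ideal). Then exactly one isomorphism of R-algebras S → S'
commutes with the two maps to K. -/
theorem result (R S S' K : Type u) [CommRing R]
    [CommRing S] [CommRing S'] [Field K] [HenselianLocalRing S] [HenselianLocalRing S']
    [Algebra R S] [Algebra R S'] [Algebra R K] (hS : EtPBC.IsIndEtale R S) (hS' : EtPBC.IsIndEtale R S')
    (u : S →ₐ[R] K) (u' : S' →ₐ[R] K) (hu : Function.Surjective u) (hu' : Function.Surjective u')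
    (hku : RingHom.ker u.toRingHom = IsLocalRing.maximalIdeal S)
    (hku' : RingHom.ker u'.toRingHom = IsLocalRing.maximalIdeal S') :
    ∃! e : S ≃ₐ[R] S', u'.comp (e : S →ₐ[R] S') = u := by
  have hJ : IsLocalRing.maximalIdeal S ≤ Ideal.jacobson ⊥ :=
    (IsLocalRing.jacobson_eq_maximalIdeal ⊥ bot_ne_top).ge
  have hJ' : IsLocalRing.maximalIdeal S' ≤ Ideal.jacobson ⊥ :=
    (IsLocalRing.jacobson_eq_maximalIdeal ⊥ bot_ne_top).ge
  obtain ⟨Φ, hΦ⟩ := indEtale_exists_lift hS (IsLocalRing.maximalIdeal S') u' hu' hku' u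
  obtain ⟨Ψ, hΨ⟩ := indEtale_exists_lift hS' (IsLocalRing.maximalIdeal S) u hu hku u'
  have h1 : Ψ.comp Φ = AlgHom.id R S := by
    refine indEtale_hom_ext hS _ hJ _ _ (fun x => ?_)
    rw [← hku, RingHom.mem_ker, map_sub, sub_eq_zero]
    have a1 := congrArg (fun k : S' →ₐ[R] K => k (Φ x)) hΨ
    have a2 := congrArg (fun k : S →ₐ[R] K => k x) hΦ
    simp only [AlgHom.comp_apply] at a1 a2
    change u (Ψ (Φ x)) = u x
    rw [a1, a2]
  have h2 : Φ.comp Ψ = AlgHom.id R S' := by
    refine indEtale_hom_ext hS' _ hJ' _ _ (fun x => ?_)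
    rw [← hku', RingHom.mem_ker, map_sub, sub_eq_zero]
    have a1 := congrArg (fun k : S →ₐ[R] K => k (Ψ x)) hΦ
    have a2 := congrArg (fun k : S' →ₐ[R] K => k x) hΨ
    simp only [AlgHom.comp_apply] at a1 a2
    change u' (Φ (Ψ x)) = u' x
    rw [a1, a2]
  refine ⟨AlgEquiv.ofAlgHom Φ Ψ h2 h1, ?_, ?_⟩
  · ext x
    exact congrArg (fun k : S →ₐ[R] K => k x) hΦ
  · intro e' he'
    have : (e' : S →ₐ[R] S') = Φ := by
      refine indEtale_hom_ext hS _ hJ' _ _ (fun x => ?_)
      rw [← hku', RingHom.mem_ker, map_sub, sub_eq_zero]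
      have a1 := congrArg (fun k : S →ₐ[R] K => k x) he'
      have a2 := congrArg (fun k : S →ₐ[R] K => k x) hΦ
      simp only [AlgHom.comp_apply] at a1 a2
      change u' ((e' : S →ₐ[R] S') x) = u' (Φ x)
      rw [a1, a2]
    ext x
    exact congrArg (fun k : S →ₐ[R] S' => k x) this

end Groth.Agent.S6391
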