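import Groth.Statements.S6392
import Groth.Agent.S6357

set_option autoImplicit false
universe u
open CAlg

namespace Groth.Agent.S6392

open Module Module.DirectLimit

/-- Suppose M is the colimit of finitely presented R-modules G_i along a directed system over a nonempty
directed index set (transition maps f_ij), and M is both Mittag-Leffler and countably generated.
Then some countable directed subset I' of the indices already computes M: the canonical map from the
colimit of the G_i with i ∈ I' to M is bijective. -/
theorem result (R : Type u) [CommRing R]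
    {ι : Type u} [Preorder ι] [IsDirected ι (· ≤ ·)] [Nonempty ι] [DecidableEq ι] (G : ι → Type u)
    [∀ i, AddCommGroup (G i)] [∀ i, Module R (G i)] [∀ i, Module.FinitePresentation R (G i)]
    (f : ∀ i j, i ≤ j → G i →ₗ[R] G j) [DirectedSystem G fun i j h => f i j h]
    (hML : CAlg.IsMittagLeffler R (Module.DirectLimit G f))
    (hc : CAlg.IsCountablyGenerated R (Module.DirectLimit G f)) :
    ∃ I' : Set ι, I'.Countable ∧ DirectedOn (· ≤ ·) I' ∧
      Function.Bijective (Module.DirectLimit.lift R I' (fun i : I' => G i.1)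
        (fun (i j : I') (h : i ≤ j) => f i.1 j.1 h)
        (fun i : I' => Module.DirectLimit.of R ι G f i.1)
        (fun (i j : I') (h : i ≤ j) (x : G i.1) => Module.DirectLimit.of_f)) := by
  classical
  -- countable generating sequence
  obtain ⟨s, hs, hspan⟩ := hc
  have hs' : (insert (0 : Module.DirectLimit G f) s).Countable := hs.insert 0
  obtain ⟨x, hx⟩ := hs'.exists_eq_range (Set.insert_nonempty 0 s)
  have hxspan : Submodule.span R (Set.range x) = ⊤ := by
    rw [eq_top_iff, ← hspan, ← hx]
    exact Submodule.span_mono (Set.subset_insert 0 s)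
  -- preimages at finite stages
  have hex : ∀ n, ∃ (a : ι) (y : G a), of R ι G f a y = x n := fun n => exists_of (x n)
  choose a y hy using hex
  -- Mittag-Leffler criterion
  have hfac := (Groth.Agent.S6357.result R G f).mp hML
  choose J hJ hJfac using hfac
  -- the sequence of indices
  let ub : ι → ι → ι := fun p q => (exists_ge_ge p q).choose
  have hub1 : ∀ p q, p ≤ ub p q := fun p q => (exists_ge_ge p q).choose_spec.1
  have hub2 : ∀ p q, q ≤ ub p q := fun p q => (exists_ge_ge p q).choose_spec.2
  let idx : ℕ → ι := fun n => Nat.rec (a 0) (fun n prev => ub (J prev) (a (n + 1))) n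
  have hidx_succ : ∀ n, idx (n + 1) = ub (J (idx n)) (a (n + 1)) := fun n => rfl
  have hJidx : ∀ n, J (idx n) ≤ idx (n + 1) := fun n => by rw [hidx_succ]; exact hub1 _ _
  have hstep : ∀ n, idx n ≤ idx (n + 1) := fun n => (hJ (idx n)).trans (hJidx n)
  have hmono : Monotone idx := monotone_nat_of_le_succ hstep
  have ha : ∀ n, a n ≤ idx n := by
    intro n
    cases n with
    | zero => exact le_rfl
    | succ n => rw [hidx_succ]; exact hub2 _ _
  refine ⟨Set.range idx, Set.countable_range idx, ?_, ?_⟩
  · rintro _ ⟨m, rfl⟩ _ ⟨n, rfl⟩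
    exact ⟨idx (max m n), ⟨_, rfl⟩, hmono (le_max_left m n), hmono (le_max_right m n)⟩
  · have hdir : DirectedOn (· ≤ ·) (Set.range idx) := by
      rintro _ ⟨m, rfl⟩ _ ⟨n, rfl⟩
      exact ⟨idx (max m n), ⟨_, rfl⟩, hmono (le_max_left m n), hmono (le_max_right m n)⟩
    have : IsDirectedOrder (Set.range idx) := hdir.isDirectedOrder
    have : Nonempty (Set.range idx) := ⟨⟨idx 0, ⟨0, rfl⟩⟩⟩
    set L := Module.DirectLimit.lift R (Set.range idx) (fun i : Set.range idx => G i.1)
        (fun (i j : Set.range idx) (h : i ≤ j) => f i.1 j.1 h)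
        (fun i : Set.range idx => Module.DirectLimit.of R ι G f i.1)
        (fun (i j : Set.range idx) (h : i ≤ j) (x : G i.1) => Module.DirectLimit.of_f) with hL
    constructor
    · -- injective
      rw [injective_iff_map_eq_zero]
      intro z hz
      obtain ⟨⟨_, ⟨n, rfl⟩⟩, w, rfl⟩ := exists_of z
      rw [hL, lift_of] at hz
      obtain ⟨k, hk, hk0⟩ := of.zero_exact hz
      obtain ⟨h, hh⟩ := hJfac (idx n) k hk
      have h1 : f (idx n) (J (idx n)) (hJ (idx n)) w = 0 := by
        rw [hh, LinearMap.comp_apply, hk0, map_zero]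
      have h2 : f (idx n) (idx (n + 1)) (hstep n) w = 0 := by
        have := DirectedSystem.map_map (f := fun i j h => f i j h) (hJ (idx n)) (hJidx n) w
        rw [← this, h1, map_zero]
      have hle : (⟨idx n, ⟨n, rfl⟩⟩ : Set.range idx) ≤ ⟨idx (n + 1), ⟨n + 1, rfl⟩⟩ := hstep n
      have h3 := of_f (R := R) (ι := Set.range idx) (G := fun i : Set.range idx => G i.1)
        (f := fun (i j : Set.range idx) (h : i ≤ j) => f i.1 j.1 h) (hij := hle) (x := w)
      rw [← h3]
      exact (congrArg _ h2).trans (map_zero _)
    · -- surjective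
      rw [← LinearMap.range_eq_top, eq_top_iff, ← hxspan]
      apply Submodule.span_le.mpr
      rintro _ ⟨n, rfl⟩
      refine ⟨of R _ _ _ ⟨idx n, ⟨n, rfl⟩⟩ (f (a n) (idx n) (ha n) (y n)), ?_⟩
      rw [hL, lift_of]
      show of R ι G f (idx n) (f (a n) (idx n) (ha n) (y n)) = x n
      rw [of_f, hy]

end Groth.Agent.S6392
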