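import Groth.Statements.S6405
-- import your own Groth.Agent.* helpers here

set_option autoImplicit false
open CategoryTheory
universe v u
open FibCat

namespace Groth.Agent.S6405

/-- an equivalence over the base has an underlying equivalence of categories -/
theorem isEquivalence_of_isEquivOver {C : Type u} [Category.{v} C]
    {𝒳 𝒴 : BasedCategory.{v, max u v} C} (F : 𝒳 ⥤ᵇ 𝒴) (h : FibCat.IsEquivOver F) :
    F.toFunctor.IsEquivalence := by
  obtain ⟨G, ⟨e1⟩, ⟨e2⟩⟩ := h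
  let η : 𝟭 𝒳.obj ≅ F.toFunctor ⋙ G.toFunctor :=
    ((BasedNatTrans.forgetful 𝒳 𝒳).mapIso e1).symm
  let ε : G.toFunctor ⋙ F.toFunctor ≅ 𝟭 𝒴.obj := (BasedNatTrans.forgetful 𝒴 𝒴).mapIso e2
  exact (CategoryTheory.Equivalence.mk F.toFunctor G.toFunctor η ε).isEquivalence_functor

/-- in a category fibred in groupoids, morphisms over identities are invertible -/
theorem isIso_of_isHomLift_id {C : Type u} [Category.{v} C] {𝒳 : BasedCategory.{v, max u v} C}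
    (h𝒳 : FibCat.IsFibGrpd 𝒳.p) {x y : 𝒳.obj} (U : C) (ψ : x ⟶ y) [𝒳.p.IsHomLift (𝟙 U) ψ] :
    IsIso ψ := by
  have := h𝒳.isStronglyCartesian ψ
  have hiso : IsIso (𝒳.p.map ψ) := by
    rw [IsHomLift.fac' 𝒳.p (𝟙 U) ψ]
    infer_instance
  exact Functor.IsStronglyCartesian.isIso_of_base_isIso 𝒳.p (𝒳.p.map ψ) ψ

/-- (2) ⇒ (1): if `𝒳` is fibred in groupoids over `C` and the canonical functor `I_𝒳 ⟶ 𝒳` from its
inertia is an equivalence over `C`, then `𝒳` is fibred in setoids. (The published statement is an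
equivalence; this row states only that the inertia condition implies that `𝒳` is fibred in setoids.) -/
theorem result {C : Type u} [Category.{v} C] {𝒳 : BasedCategory.{v, max u v} C} (h𝒳 : FibCat.IsFibGrpd 𝒳.p)
    (h : FibCat.IsEquivOver (FibCat.inertiaToBase (FibCat.toSelf 𝒳))) : FibCat.IsFibSetoid 𝒳.p := by
  refine ⟨h𝒳, ?_⟩
  intro U a b
  constructor
  intro φ ψ
  have hφ : 𝒳.p.IsHomLift (𝟙 U) φ.1 := φ.2
  have hψ : 𝒳.p.IsHomLift (𝟙 U) ψ.1 := ψ.2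
  have := isIso_of_isHomLift_id h𝒳 U φ.1
  have := isIso_of_isHomLift_id h𝒳 U ψ.1
  have hmap : 𝒳.p.map φ.1 = 𝒳.p.map ψ.1 := by
    rw [IsHomLift.fac' 𝒳.p (𝟙 U) φ.1, IsHomLift.fac' 𝒳.p (𝟙 U) ψ.1]
  let α : a.1 ≅ a.1 :=
    { hom := φ.1 ≫ inv ψ.1
      inv := ψ.1 ≫ inv φ.1
      hom_inv_id := by simp
      inv_hom_id := by simp }
  have hα : (FibCat.toSelf 𝒳).map α.hom = 𝟙 ((FibCat.toSelf 𝒳).obj a.1) := by
    change 𝒳.p.map (φ.1 ≫ inv ψ.1) = 𝟙 _
    rw [Functor.map_comp, Functor.map_inv, hmap]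
    simp
  let A : (FibCat.inertia (FibCat.toSelf 𝒳)).obj := ⟨a.1, α, hα⟩
  let B : (FibCat.inertia (FibCat.toSelf 𝒳)).obj :=
    ⟨a.1, Iso.refl _, (FibCat.toSelf 𝒳).map_id a.1⟩
  have := isEquivalence_of_isEquivOver _ h
  obtain ⟨m, hm⟩ := (FibCat.inertiaToBase (FibCat.toSelf 𝒳)).toFunctor.map_surjective
    (X := A) (Y := B) (𝟙 a.1)
  have hm' : m.hom = 𝟙 a.1 := hm
  have hcomm := m.comm
  rw [hm'] at hcomm
  have hα1 : φ.1 ≫ inv ψ.1 = 𝟙 a.1 := by
    simpa [A, B, α] using hcomm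
  apply Subtype.ext
  have := congrArg (fun t => t ≫ ψ.1) hα1
  simpa using this

end Groth.Agent.S6405
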