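import Groth.Statements.S6406
import Groth.Agent.Lib.FibGrpd
import Groth.Agent.Lib.FpEquiv
import Mathlib.CategoryTheory.IsomorphismClasses
-- import your own Groth.Agent.* helpers here

set_option autoImplicit false
open CategoryTheory
universe v u
open FibCat

namespace Groth.Agent.S6406

set_option backward.isDefEq.respectTransparency false
set_option backward.isDefEq.respectTransparency.types false
set_option linter.style.haveILetI false
set_option linter.unusedVariables false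

open Functor Groth.Agent.Lib.FibGrpd Groth.Agent.Lib.FpEquiv

section Quot

universe v₂ u₂

variable {C : Type u} [Category.{v} C] {𝒳 : Type u₂} [Category.{v₂} 𝒳] (p : 𝒳 ⥤ C)

/-- Isomorphism classes of the fibre over `U`. -/
abbrev Cl (U : C) : Type u₂ := Quotient (isIsomorphicSetoid (p.Fiber U))

/-- A morphism `f` of the base relates two classes when it lifts to representatives. -/
def Rel {U V : C} (f : U ⟶ V) (a : Cl p U) (b : Cl p V) : Prop :=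
  ∃ (x : p.Fiber U) (y : p.Fiber V), (⟦x⟧ : Cl p U) = a ∧ (⟦y⟧ : Cl p V) = b ∧
    ∃ φ : x.1 ⟶ y.1, p.IsHomLift f φ

variable {p}

theorem rel_mk_iff {U V : C} (f : U ⟶ V) (x : p.Fiber U) (y : p.Fiber V) :
    Rel p f (⟦x⟧ : Cl p U) (⟦y⟧ : Cl p V) ↔ ∃ φ : x.1 ⟶ y.1, p.IsHomLift f φ := by
  constructor
  · rintro ⟨x', y', hx, hy, φ, hφ⟩
    obtain ⟨e⟩ := Quotient.exact hx
    obtain ⟨e'⟩ := Quotient.exact hy
    refine ⟨e.inv.1 ≫ φ ≫ e'.hom.1, ?_⟩
    haveI := e.inv.2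
    haveI := e'.hom.2
    have : p.IsHomLift (𝟙 U ≫ f ≫ 𝟙 V) (e.inv.1 ≫ φ ≫ e'.hom.1) := inferInstance
    simpa using this
  · rintro ⟨φ, hφ⟩
    exact ⟨x, y, rfl, rfl, φ, hφ⟩

theorem rel_id {U : C} (a : Cl p U) : Rel p (𝟙 U) a a := by
  induction a using Quotient.inductionOn with
  | h x => exact ⟨x, x, rfl, rfl, 𝟙 x.1, IsHomLift.id x.2⟩

theorem rel_comp {U V W : C} {f : U ⟶ V} {g : V ⟶ W} {a : Cl p U} {b : Cl p V} {c : Cl p W}
    (h1 : Rel p f a b) (h2 : Rel p g b c) : Rel p (f ≫ g) a c := by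
  obtain ⟨x, y, rfl, rfl, φ, hφ⟩ := h1
  obtain ⟨y', z, hy, rfl, ψ, hψ⟩ := h2
  obtain ⟨e⟩ := Quotient.exact hy
  refine ⟨x, z, rfl, rfl, φ ≫ e.inv.1 ≫ ψ, ?_⟩
  haveI := e.inv.2
  have : p.IsHomLift (f ≫ 𝟙 V ≫ g) (φ ≫ e.inv.1 ≫ ψ) := inferInstance
  simpa using this

variable (p)

/-- Objects of the quotient category: an object of the base with an isomorphism class of its fibre. -/
def QObj : Type (max u u₂) := Σ U : C, Cl p U

instance : Category.{v} (QObj p) where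
  Hom a b := {f : a.1 ⟶ b.1 // Rel p f a.2 b.2}
  id a := ⟨𝟙 a.1, rel_id a.2⟩
  comp f g := ⟨f.1 ≫ g.1, rel_comp f.2 g.2⟩
  id_comp f := Subtype.ext (Category.id_comp _)
  comp_id f := Subtype.ext (Category.comp_id _)
  assoc f g h := Subtype.ext (Category.assoc _ _ _)

/-- The structure functor of the quotient category. -/
def proj : QObj p ⥤ C where
  obj a := a.1
  map f := f.1

/-- The quotient functor. -/
def quot : 𝒳 ⥤ QObj p where
  obj a := ⟨p.obj a, ⟦⟨a, rfl⟩⟧⟩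
  map {a b} φ := ⟨p.map φ, ⟨⟨a, rfl⟩, ⟨b, rfl⟩, rfl, rfl, φ, inferInstance⟩⟩
  map_id a := Subtype.ext (p.map_id a)
  map_comp φ ψ := Subtype.ext (p.map_comp φ ψ)

theorem quot_comp_proj : quot p ⋙ proj p = p := rfl

variable {p}

theorem proj_isHomLift_iff {R S : C} (f : R ⟶ S) {a b : QObj p} (φ : a ⟶ b) :
    (proj p).IsHomLift f φ ↔ ∃ (h1 : a.1 = R) (h2 : b.1 = S), φ.1 = eqToHom h1 ≫ f ≫ eqToHom h2.symm := by
  constructor
  · intro h
    exact ⟨IsHomLift.domain_eq (proj p) f φ, IsHomLift.codomain_eq (proj p) f φ,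
      IsHomLift.fac' (proj p) f φ⟩
  · rintro ⟨h1, h2, h⟩
    exact IsHomLift.of_fac' (proj p) f φ h1 h2 h

theorem proj_isHomLift_self {a b : QObj p} (φ : a ⟶ b) : (proj p).IsHomLift φ.1 φ :=
  inferInstanceAs ((proj p).IsHomLift ((proj p).map φ) φ)

theorem proj_isHomLift_mk {a b : QObj p} (f : a.1 ⟶ b.1) (h : Rel p f a.2 b.2) :
    (proj p).IsHomLift f (⟨f, h⟩ : a ⟶ b) :=
  proj_isHomLift_self (⟨f, h⟩ : a ⟶ b)

theorem proj_hom_eq_of_isHomLift {a b : QObj p} (f : a.1 ⟶ b.1) (φ : a ⟶ b)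
    (h : (proj p).IsHomLift f φ) : φ.1 = f := by
  have := IsHomLift.fac' (proj p) f φ
  simp only [eqToHom_refl, Category.id_comp, Category.comp_id] at this
  exact this

/-- In a category fibred in setoids, morphisms are determined by their image in the base. -/
theorem hom_ext_of_map_eq [FibCat.IsFibGrpd p] (hthin : ∀ U : C, Quiver.IsThin (p.Fiber U))
    {a b : 𝒳} (φ ψ : a ⟶ b) (h : p.map φ = p.map ψ) : φ = ψ := by
  haveI : p.IsStronglyCartesian (p.map ψ) ψ := FibCat.IsFibGrpd.isStronglyCartesian ψ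
  haveI : p.IsHomLift (p.map ψ) φ := by rw [← h]; infer_instance
  let χ := IsStronglyCartesian.map p (p.map ψ) ψ (g := 𝟙 (p.obj a)) (Category.id_comp _).symm φ
  have hχ : χ ≫ ψ = φ := IsStronglyCartesian.fac p (p.map ψ) ψ _ φ
  haveI hl : p.IsHomLift (𝟙 (p.obj a)) χ := IsStronglyCartesian.map_isHomLift p (p.map ψ) ψ _ φ
  let A : p.Fiber (p.obj a) := ⟨a, rfl⟩
  let m1 : A ⟶ A := ⟨χ, hl⟩
  let m2 : A ⟶ A := 𝟙 A
  haveI := hthin (p.obj a)
  have : m1 = m2 := Subsingleton.elim _ _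
  have h2 : χ = 𝟙 a := congrArg Subtype.val this
  rw [← hχ, h2, Category.id_comp]

variable (p)

theorem proj_isFibGrpd [FibCat.IsFibGrpd p] : FibCat.IsFibGrpd (proj p) where
  exists_lift {x V} f := by
    obtain ⟨U, q⟩ := x
    induction q using Quotient.inductionOn with
    | h x₀ =>
      obtain ⟨a, ha⟩ := x₀
      change V ⟶ U at f
      subst ha
      obtain ⟨y, φ, hφ⟩ := FibCat.IsFibGrpd.exists_lift (p := p) f
      exact ⟨⟨V, ⟦⟨y, IsHomLift.domain_eq p f φ⟩⟧⟩, ⟨f, ⟨_, _, rfl, rfl, φ, hφ⟩⟩,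
        proj_isHomLift_mk (a := ⟨V, ⟦⟨y, IsHomLift.domain_eq p f φ⟩⟧⟩) (b := ⟨p.obj a, ⟦⟨a, rfl⟩⟧⟩) f _⟩
  isStronglyCartesian {y x} φ := by
    haveI : (proj p).IsHomLift ((proj p).map φ) φ := inferInstance
    refine { universal_property' := ?_ }
    intro a' g φ' hφ'
    change a'.1 ⟶ y.1 at g
    have h1 : φ'.1 = g ≫ φ.1 := proj_hom_eq_of_isHomLift (g ≫ φ.1) φ' hφ'
    have hrel : Rel p g a'.2 y.2 := by
      have r1 : Rel p (g ≫ φ.1) a'.2 x.2 := h1 ▸ φ'.2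
      have r2 : Rel p φ.1 y.2 x.2 := φ.2
      obtain ⟨z, t, hz, ht, ψ, hψ⟩ := r1
      obtain ⟨w, t', hw, ht', φ₀, hφ₀⟩ := r2
      obtain ⟨e⟩ := Quotient.exact (ht.trans ht'.symm)
      haveI := e.hom.2
      haveI : p.IsHomLift ((g ≫ φ.1) ≫ 𝟙 _) (ψ ≫ e.hom.1) := inferInstance
      haveI : p.IsHomLift (g ≫ φ.1) (ψ ≫ e.hom.1) := by simpa using this
      haveI := isStronglyCartesian_of_isHomLift p φ.1 φ₀
      refine ⟨z, w, hz, hw, IsStronglyCartesian.map p φ.1 φ₀ (g := g) rfl (ψ ≫ e.hom.1), ?_⟩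
      exact IsStronglyCartesian.map_isHomLift p φ.1 φ₀ rfl (ψ ≫ e.hom.1)
    refine ⟨⟨g, hrel⟩, ⟨proj_isHomLift_mk g hrel, Subtype.ext h1.symm⟩, ?_⟩
    rintro χ ⟨hχ, -⟩
    exact Subtype.ext (proj_hom_eq_of_isHomLift g χ hχ)

theorem cl_eq_of_fiber_hom [FibCat.IsFibGrpd p] {U : C} {q₁ q₂ : Cl p U}
    (f : @Quiver.Hom (QObj p) _ ⟨U, q₁⟩ ⟨U, q₂⟩) (hf : (proj p).IsHomLift (𝟙 U) f) : q₁ = q₂ := by
  have h1 : f.1 = 𝟙 U := proj_hom_eq_of_isHomLift (a := ⟨U, q₁⟩) (b := ⟨U, q₂⟩) (𝟙 U) f hf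
  have hrel : Rel p (𝟙 U) q₁ q₂ := h1 ▸ f.2
  obtain ⟨x, y, rfl, rfl, φ, hφ⟩ := hrel
  haveI := isGroupoid_fiber p U
  let m : x ⟶ y := ⟨φ, hφ⟩
  exact Quotient.sound ⟨asIso m⟩

theorem proj_isDiscrete_fiber [FibCat.IsFibGrpd p] (U : C) : IsDiscrete ((proj p).Fiber U) where
  subsingleton X Y := ⟨fun f g => by
    apply Subtype.ext
    apply Subtype.ext
    haveI := f.2
    haveI := g.2
    have hf := IsHomLift.fac' (proj p) (𝟙 U) f.1
    have hg := IsHomLift.fac' (proj p) (𝟙 U) g.1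
    exact hf.trans hg.symm⟩
  eq_of_hom {X Y} f := by
    obtain ⟨⟨U₁, q₁⟩, h₁⟩ := X
    obtain ⟨⟨U₂, q₂⟩, h₂⟩ := Y
    change U₁ = U at h₁
    change U₂ = U at h₂
    subst h₁
    subst h₂
    have := cl_eq_of_fiber_hom p f.1 f.2
    subst this
    rfl

theorem quot_faithful [FibCat.IsFibGrpd p] (hthin : ∀ U : C, Quiver.IsThin (p.Fiber U)) :
    (quot p).Faithful where
  map_injective {a b} φ ψ h := hom_ext_of_map_eq hthin φ ψ (congrArg Subtype.val h)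

theorem quot_full : (quot p).Full where
  map_surjective {a b} g := by
    obtain ⟨φ, hφ⟩ := (rel_mk_iff g.1 ⟨a, rfl⟩ ⟨b, rfl⟩).mp g.2
    refine ⟨φ, Subtype.ext ?_⟩
    exact (IsHomLift.eq_of_isHomLift p g.1 φ).symm

end Quot


/-- A category fibred in setoids over `C` admits an equivalence over `C` to a category fibred in sets
over `C`. (The target is taken in the same universes as the slices `C/U`; its morphism sets are
essentially as small as those of `C`.) -/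
theorem result {C : Type u} [Category.{v} C] {𝒳 : BasedCategory.{v, max u v} C} (h𝒳 : FibCat.IsFibSetoid 𝒳.p) :
    ∃ (𝒴 : BasedCategory.{v, max u v} C) (F : 𝒳 ⥤ᵇ 𝒴), FibCat.IsFibSet 𝒴.p ∧ FibCat.IsEquivOver F := by
  obtain ⟨hfib, hthin⟩ := h𝒳
  haveI := hfib
  let 𝒴 : BasedCategory.{v, max u v} C := { obj := QObj 𝒳.p, p := proj 𝒳.p }
  let F : 𝒳 ⥤ᵇ 𝒴 := { toFunctor := quot 𝒳.p, w := quot_comp_proj 𝒳.p }
  refine ⟨𝒴, F, ⟨proj_isFibGrpd 𝒳.p, proj_isDiscrete_fiber 𝒳.p⟩, ?_⟩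
  haveI : F.toFunctor.Full := quot_full 𝒳.p
  haveI : F.toFunctor.Faithful := quot_faithful 𝒳.p hthin
  apply isEquivOver_of_ff_of_ess
  rintro ⟨U, q⟩
  induction q using Quotient.inductionOn with
  | h x₀ =>
    obtain ⟨a, ha⟩ := x₀
    subst ha
    exact ⟨a, Iso.refl _, inferInstanceAs (𝒴.p.IsHomLift (𝟙 (𝒴.p.obj (F.toFunctor.obj a))) (𝟙 (F.toFunctor.obj a)))⟩

end Groth.Agent.S6406
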