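import Groth.Statements.S6407
-- import your own Groth.Agent.* helpers here

set_option autoImplicit false
open CategoryTheory
universe v u
open FibCat

namespace Groth.Agent.S6407

/-- in a category fibred in setoids, two morphisms over the same morphism of the base agree -/
theorem eq_of_isHomLift {C : Type u} [Category.{v} C] {𝒴 : BasedCategory.{v, max u v} C}
    (h𝒴 : FibCat.IsFibSetoid 𝒴.p) {P Q : 𝒴.obj} {R S : C} (u : R ⟶ S) (a b : P ⟶ Q)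
    [𝒴.p.IsHomLift u a] [𝒴.p.IsHomLift u b] : a = b := by
  obtain rfl : 𝒴.p.obj P = R := IsHomLift.domain_eq 𝒴.p u b
  obtain rfl : 𝒴.p.obj Q = S := IsHomLift.codomain_eq 𝒴.p u b
  obtain rfl : u = 𝒴.p.map b := IsHomLift.eq_of_isHomLift 𝒴.p u b
  have := h𝒴.1.isStronglyCartesian b
  let χ : P ⟶ P := Functor.IsStronglyCartesian.map 𝒴.p (𝒴.p.map b) b (g := 𝟙 _)
    (f' := 𝒴.p.map b) (by simp) a
  have hχ : χ ≫ b = a := Functor.IsStronglyCartesian.fac 𝒴.p (𝒴.p.map b) b _ a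
  have hχl : 𝒴.p.IsHomLift (𝟙 (𝒴.p.obj P)) χ :=
    Functor.IsStronglyCartesian.map_isHomLift 𝒴.p (𝒴.p.map b) b _ a
  have hthin := h𝒴.2 (𝒴.p.obj P)
  let P' : 𝒴.p.Fiber (𝒴.p.obj P) := ⟨P, rfl⟩
  let m1 : P' ⟶ P' := ⟨χ, hχl⟩
  let m2 : P' ⟶ P' := 𝟙 P'
  have hm : m1 = m2 := (hthin P' P').elim _ _
  have hχ1 : χ = 𝟙 P := congrArg (fun φ => Functor.Fiber.fiberInclusion.map φ) hm
  rw [← hχ, hχ1, Category.id_comp]

/-- For categories `𝒳, 𝒴` fibred in setoids over `C` and functors `f, g : 𝒳 ⟶ 𝒴` over `C` that agree on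
isomorphism classes of objects of each fibre category, there is a unique 2-isomorphism `f ≅ g` over
`C`. -/
theorem result {C : Type u} [Category.{v} C] {𝒳 𝒴 : BasedCategory.{v, max u v} C} (h𝒳 : FibCat.IsFibSetoid 𝒳.p) (h𝒴 : FibCat.IsFibSetoid 𝒴.p) (f g : 𝒳 ⥤ᵇ 𝒴)
    (hfg : ∀ (U : C) (x : 𝒳.p.Fiber U), Nonempty ((FibCat.fiberFunctor f U).obj x ≅ (FibCat.fiberFunctor g U).obj x)) :
    Nonempty (Unique (f ≅ g)) := by
  classical
  let e : ∀ x : 𝒳.obj, f.obj x ≅ g.obj x := fun x =>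
    Functor.Fiber.fiberInclusion.mapIso (Classical.choice (hfg (𝒳.p.obj x) ⟨x, rfl⟩))
  have he : ∀ x : 𝒳.obj, 𝒴.p.IsHomLift (𝟙 (𝒳.p.obj x)) (e x).hom := fun x =>
    (Classical.choice (hfg (𝒳.p.obj x) ⟨x, rfl⟩)).hom.2
  let i : f ≅ g := BasedNatIso.mkNatIso
    (NatIso.ofComponents e (by
      intro x y φ
      have h1 : 𝒴.p.IsHomLift (𝒳.p.map φ) (f.map φ ≫ (e y).hom) := by
        have := he y
        have : 𝒴.p.IsHomLift (𝒳.p.map φ ≫ 𝟙 _) (f.map φ ≫ (e y).hom) := inferInstance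
        simpa using this
      have h2 : 𝒴.p.IsHomLift (𝒳.p.map φ) ((e x).hom ≫ g.map φ) := by
        have := he x
        have : 𝒴.p.IsHomLift (𝟙 _ ≫ 𝒳.p.map φ) ((e x).hom ≫ g.map φ) := inferInstance
        simpa using this
      exact eq_of_isHomLift h𝒴 (𝒳.p.map φ) _ _)) he
  refine ⟨⟨⟨i⟩, fun j => ?_⟩⟩
  apply Iso.ext
  apply BasedNatTrans.homCategory.ext
  ext x
  have h1 : 𝒴.p.IsHomLift (𝟙 (𝒳.p.obj x)) (j.hom.toNatTrans.app x) := j.hom.isHomLift' x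
  have h2 : 𝒴.p.IsHomLift (𝟙 (𝒳.p.obj x)) (i.hom.toNatTrans.app x) := i.hom.isHomLift' x
  exact eq_of_isHomLift h𝒴 (𝟙 (𝒳.p.obj x)) _ _

end Groth.Agent.S6407
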