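import Groth.Statements.S6408
-- import your own Groth.Agent.* helpers here

set_option autoImplicit false
open CategoryTheory
universe v u
open FibCat

namespace Groth.Agent.S6408

theorem basedFunctor_ext {C : Type u} [Category.{v} C] {𝒳 𝒴 : BasedCategory.{v, max u v} C}
    {F G : 𝒳 ⥤ᵇ 𝒴} (h : F.toFunctor = G.toFunctor) : F = G := by
  cases F
  cases G
  cases h
  rfl

/-- components of a 2-morphism into a category fibred in sets are `eqToHom`s -/
theorem app_eq_eqToHom {C : Type u} [Category.{v} C] {𝒳 𝒴 : BasedCategory.{v, max u v} C}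
    (h𝒴 : ∀ U : C, IsDiscrete (𝒴.p.Fiber U)) {F G : 𝒳 ⥤ᵇ 𝒴} (α : F ⟶ G) (x : 𝒳.obj) :
    ∃ h : F.obj x = G.obj x, α.toNatTrans.app x = eqToHom h := by
  have := h𝒴 (𝒳.p.obj x)
  let a : 𝒴.p.Fiber (𝒳.p.obj x) := ⟨F.obj x, F.w_obj x⟩
  let b : 𝒴.p.Fiber (𝒳.p.obj x) := ⟨G.obj x, G.w_obj x⟩
  let m : a ⟶ b := ⟨α.toNatTrans.app x, α.isHomLift' x⟩
  have hab : a = b := IsDiscrete.eq_of_hom m
  have hm : m = eqToHom hab := Subsingleton.elim _ _
  have hobj : F.obj x = G.obj x := congrArg Subtype.val hab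
  refine ⟨hobj, ?_⟩
  have := congrArg (fun φ => Functor.Fiber.fiberInclusion.map φ) hm
  simp only [eqToHom_map] at this
  exact this

/-- Between categories fibred in sets over `C` the only 2-morphisms over `C` are identities. -/
theorem result {C : Type u} [Category.{v} C] {𝒳 𝒴 : BasedCategory.{v, max u v} C} (h𝒳 : FibCat.IsFibSet 𝒳.p) (h𝒴 : FibCat.IsFibSet 𝒴.p) {F G : 𝒳 ⥤ᵇ 𝒴} (α : F ⟶ G) :
    ∃ h : F = G, α = eqToHom h := by
  have hF : F.toFunctor = G.toFunctor := by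
    refine Functor.ext (fun x => (app_eq_eqToHom h𝒴.2 α x).1) (fun x y f => ?_)
    obtain ⟨hx, ex⟩ := app_eq_eqToHom h𝒴.2 α x
    obtain ⟨hy, ey⟩ := app_eq_eqToHom h𝒴.2 α y
    have nat := α.toNatTrans.naturality f
    rw [ex, ey] at nat
    rw [← Category.assoc, ← nat]
    simp
  have h : F = G := basedFunctor_ext hF
  refine ⟨h, ?_⟩
  subst h
  rw [eqToHom_refl]
  apply BasedNatTrans.homCategory.ext
  ext x
  obtain ⟨hx, ex⟩ := app_eq_eqToHom h𝒴.2 α x
  rw [ex]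
  simp

end Groth.Agent.S6408
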