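import Groth.Statements.S6412
import Groth.Agent.Lib.SelfProd

set_option autoImplicit false
open CategoryTheory CategoryTheory.Limits
universe v u
open FibCat

namespace Groth.Agent.S6412

open Groth.Agent.Lib.FpEquiv Groth.Agent.Lib.SliceFp Groth.Agent.Lib.SelfProd

theorem isRepresentable_fp_diag_of {C : Type u} [Category.{v} C] [HasBinaryProducts C]
    [HasPullbacks C] {𝒮 : BasedCategory.{v, max u v} C}
    (hyp : ∀ (U : C) (G : FibCat.overCat U ⥤ᵇ 𝒮), FibCat.IsRepresentable1 G) (W : C)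
    (K : FibCat.overCat W ⥤ᵇ FibCat.fp (FibCat.toSelf 𝒮) (FibCat.toSelf 𝒮)) :
    FibCat.IsRepresentable (FibCat.fp K (FibCat.diag (FibCat.toSelf 𝒮))) := by
  let Δ := FibCat.diag (FibCat.toSelf 𝒮)
  let K₁ := splitFst K
  let K₂ := splitSnd K
  let δ := FibCat.diag (FibCat.toSelf (FibCat.overCat W))
  let q := FibCat.fpFst (prodMap K₁ K₂) Δ
  -- step 1: replace `K` by `δ ≫ (K₁ × K₂)`
  rw [isRepresentable_fp_congr_left (splitIso K) Δ]
  -- step 2: paste
  rw [← isRepresentable_iff_of_isEquivOver (fpPasteLeft_isEquivOver δ (prodMap K₁ K₂) Δ)]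
  -- step 3: `(C/W ×_C C/W) ×_{𝒮 ×_C 𝒮} 𝒮` is a slice
  obtain ⟨P, E₀, hE₀⟩ := hyp W K₂ W K₁
  obtain ⟨E₁, hE₁⟩ := isEquivOver_inv hE₀
  have hE : FibCat.IsEquivOver (BasedFunctor.comp E₁ (diagEquiv K₁ K₂)) :=
    isEquivOver_comp hE₁ (diagEquiv_isEquivOver K₁ K₂)
  rw [← isRepresentable_fp_precomp_right _ hE δ q]
  -- step 4: move to slices
  obtain ⟨c, hc⟩ := isEquivOver_inv (prodSlice_isEquivOver W W)
  obtain ⟨hc1, hc2, -⟩ := ff_ess_of_isEquivOver c hc
  rw [isRepresentable_fp_postcomp _ _ c]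
  rw [isRepresentable_fp_congr_left (overYonedaIso _) _,
    isRepresentable_fp_congr_right _ (overYonedaIso _)]
  exact isRepresentable_fp_overMapB _ _

/-- For `C` with binary products and fibre products and `𝒮` fibred in groupoids over `C`, the diagonal
`𝒮 ⟶ 𝒮 ×_C 𝒮` is representable if and only if every functor `C/U ⟶ 𝒮` over `C` is representable.
(Representability of each base change to a slice `C/V` is taken as a category over `C`; for
categories fibred in groupoids this agrees with representability over `C/V`.) -/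
theorem result {C : Type u} [Category.{v} C] [HasBinaryProducts C] [HasPullbacks C] {𝒮 : BasedCategory.{v, max u v} C} (h𝒮 : FibCat.IsFibGrpd 𝒮.p) :
    FibCat.IsRepresentable1 (FibCat.diag (FibCat.toSelf 𝒮)) ↔ ∀ (U : C) (G : FibCat.overCat U ⥤ᵇ 𝒮), FibCat.IsRepresentable1 G := by
  constructor
  · intro hΔ U G V H
    have h1 : IsRepresentable (fp (BasedFunctor.comp (prodSlice V U) (prodMap H G))
        (FibCat.diag (FibCat.toSelf 𝒮))) := hΔ (V ⨯ U) _
    have h2 : IsRepresentable (fp (prodMap H G) (FibCat.diag (FibCat.toSelf 𝒮))) :=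
      (isRepresentable_fp_precomp_left (prodSlice V U) (prodSlice_isEquivOver V U)
        (prodMap H G) (FibCat.diag (FibCat.toSelf 𝒮))).1 h1
    exact isRepresentable_of_isEquivOver (diagEquiv_isEquivOver H G) h2
  · intro hyp W K
    exact isRepresentable_fp_diag_of hyp W K

end Groth.Agent.S6412
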