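import Groth.Statements.S6417
-- import your own Groth.Agent.* helpers here

set_option autoImplicit false
open CategoryTheory CategoryTheory.Limits
universe v₁ u₁ v₂ u₂
open FibCat

namespace Groth.Agent.S6417

theorem aux {𝒮 : Type u₁} [Category.{v₁} 𝒮] {C : Type u₂} [Category.{v₂} C] (p : 𝒮 ⥤ C)
    {x y z w : 𝒮} (φ : x ⟶ y) (ψ : z ⟶ y) [p.IsStronglyCartesian (p.map φ) φ] {P : C}
    (fst : P ⟶ p.obj x) (snd : P ⟶ p.obj z) (hP : IsPullback fst snd (p.map φ) (p.map ψ))
    (a : w ⟶ z) [p.IsStronglyCartesian snd a] :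
    ∃ b : w ⟶ x, p.IsHomLift fst b ∧ IsPullback b a φ ψ := by
  obtain rfl : p.obj w = P := IsHomLift.domain_eq p snd a
  obtain rfl : snd = p.map a := IsHomLift.eq_of_isHomLift p snd a
  have hlift : p.IsHomLift (fst ≫ p.map φ) (a ≫ ψ) := by
    rw [hP.w, ← p.map_comp]
    infer_instance
  let b : w ⟶ x := Functor.IsStronglyCartesian.map p (p.map φ) φ (g := fst)
    (f' := fst ≫ p.map φ) rfl (a ≫ ψ)
  have hb : b ≫ φ = a ≫ ψ := Functor.IsStronglyCartesian.fac p (p.map φ) φ rfl (a ≫ ψ)
  have hbl : p.IsHomLift fst b := Functor.IsStronglyCartesian.map_isHomLift p (p.map φ) φ rfl (a ≫ ψ)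
  have hbmap : p.map b = fst := (IsHomLift.eq_of_isHomLift p fst b).symm
  refine ⟨b, hbl, ⟨⟨hb⟩, ⟨PullbackCone.IsLimit.mk hb
    (fun s => Functor.IsStronglyCartesian.map p (p.map a) a
      (g := hP.lift (p.map s.fst) (p.map s.snd)
        (by rw [← p.map_comp, ← p.map_comp, s.condition]))
      (f' := p.map s.snd) (hP.lift_snd _ _ _).symm s.snd) ?_ ?_ ?_⟩⟩⟩
  · intro s
    have hc : p.map s.fst ≫ p.map φ = p.map s.snd ≫ p.map ψ := by
      rw [← p.map_comp, ← p.map_comp, s.condition]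
    set u := hP.lift (p.map s.fst) (p.map s.snd) hc with hu
    set χ := Functor.IsStronglyCartesian.map p (p.map a) a (g := u)
      (f' := p.map s.snd) (hP.lift_snd _ _ _).symm s.snd with hχ
    have hχa : χ ≫ a = s.snd := Functor.IsStronglyCartesian.fac p (p.map a) a _ s.snd
    have hχl : p.IsHomLift u χ := Functor.IsStronglyCartesian.map_isHomLift p (p.map a) a _ s.snd
    have h1 : p.IsHomLift (p.map s.fst) (χ ≫ b) := by
      have : p.map s.fst = u ≫ fst := (hP.lift_fst _ _ _).symm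
      rw [this]
      infer_instance
    apply Functor.IsStronglyCartesian.ext p (p.map φ) φ (p.map s.fst)
    rw [Category.assoc, hb, ← Category.assoc, hχa, s.condition]
  · intro s
    exact Functor.IsStronglyCartesian.fac p (p.map a) a _ s.snd
  · intro s m hm1 hm2
    have hc : p.map s.fst ≫ p.map φ = p.map s.snd ≫ p.map ψ := by
      rw [← p.map_comp, ← p.map_comp, s.condition]
    have hm : p.IsHomLift (hP.lift (p.map s.fst) (p.map s.snd) hc) m := by
      have : hP.lift (p.map s.fst) (p.map s.snd) hc = p.map m := by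
        apply hP.hom_ext
        · rw [hP.lift_fst, ← hbmap, ← p.map_comp, hm1]
        · rw [hP.lift_snd, ← p.map_comp, hm2]
      rw [this]
      infer_instance
    exact Functor.IsStronglyCartesian.map_uniq p (p.map a) a _ s.snd m hm2

/-- For `p : 𝒮 ⥤ C`, a strongly cartesian `φ : x ⟶ y`, any `ψ : z ⟶ y`, and a strongly cartesian `a : w
⟶ z` lying over the second projection of `p x ×_{p y} p z`, the object `w` is a fibre product `x ×_y
z`: there is `b : w ⟶ x` over the first projection with `(b, a)` a pullback square. -/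
theorem result {𝒮 : Type u₁} [Category.{v₁} 𝒮] {C : Type u₂} [Category.{v₂} C] (p : 𝒮 ⥤ C) {x y z w : 𝒮} (φ : x ⟶ y) (ψ : z ⟶ y)
    [p.IsStronglyCartesian (p.map φ) φ] [HasPullback (p.map φ) (p.map ψ)] (a : w ⟶ z)
    [p.IsStronglyCartesian (pullback.snd (p.map φ) (p.map ψ)) a] :
    ∃ b : w ⟶ x, p.IsHomLift (pullback.fst (p.map φ) (p.map ψ)) b ∧ IsPullback b a φ ψ := by
  exact aux p φ ψ _ _ (IsPullback.of_hasPullback (p.map φ) (p.map ψ)) a

end Groth.Agent.S6417
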