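import Groth.Statements.S6418
-- import your own Groth.Agent.* helpers here

set_option autoImplicit false
open CategoryTheory
universe v₁ u₁ v₂ u₂
open FibCat

namespace Groth.Agent.S6418

theorem over_obj_ext {C : Type u₂} [Category.{v₂} C] {U : C} (X Y : Over U)
    (h : X.left = Y.left) (w : X.hom = eqToHom h ≫ Y.hom) : X = Y := by
  obtain ⟨Xl, ⟨⟨⟩⟩, Xh⟩ := X
  obtain ⟨Yl, ⟨⟨⟩⟩, Yh⟩ := Y
  change Xl = Yl at h
  subst h
  change Xh = eqToHom rfl ≫ Yh at w
  rw [eqToHom_refl, Category.id_comp] at w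
  subst w
  rfl

theorem isStronglyCartesian_of_forget {𝒮 : Type u₁} [Category.{v₁} 𝒮] {C : Type u₂}
    [Category.{v₂} C] {U : C} (p' : 𝒮 ⥤ Over U) {a b : 𝒮} (φ : a ⟶ b)
    [(p' ⋙ Over.forget U).IsStronglyCartesian ((p' ⋙ Over.forget U).map φ) φ] :
    p'.IsStronglyCartesian (p'.map φ) φ := by
  refine { toIsHomLift := inferInstance, universal_property' := ?_ }
  intro a' g φ' hφ'
  have e1 : g ≫ p'.map φ = p'.map φ' := IsHomLift.eq_of_isHomLift p' (g ≫ p'.map φ) φ'
  have e1' : (p' ⋙ Over.forget U).map φ' =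
      (Over.forget U).map g ≫ (p' ⋙ Over.forget U).map φ := by
    rw [Functor.comp_map, Functor.comp_map, ← Functor.map_comp, e1]
  obtain ⟨χ, ⟨hχ1, hχ2⟩, hχ3⟩ := Functor.IsStronglyCartesian.universal_property
    (p' ⋙ Over.forget U) ((p' ⋙ Over.forget U).map φ) φ ((Over.forget U).map g)
    ((p' ⋙ Over.forget U).map φ') e1' φ'
  refine ⟨χ, ⟨?_, hχ2⟩, ?_⟩
  · have e2 : (Over.forget U).map g = (p' ⋙ Over.forget U).map χ :=
      IsHomLift.eq_of_isHomLift (p' ⋙ Over.forget U) ((Over.forget U).map g) χ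
    have e3 : g = p'.map χ := Over.OverMorphism.ext e2
    rw [e3]
    infer_instance
  · rintro χ' ⟨hχ'1, hχ'2⟩
    have e4 : g = p'.map χ' := IsHomLift.eq_of_isHomLift p' g χ'
    refine hχ3 χ' ⟨?_, hχ'2⟩
    rw [e4]
    exact IsHomLift.map (p' ⋙ Over.forget U) χ'

/-- If `p' : 𝒮 ⥤ C/U` composed with the forgetful functor `C/U ⥤ C` is a fibred category, then so is
`p'`. -/
theorem result {𝒮 : Type u₁} [Category.{v₁} 𝒮] {C : Type u₂} [Category.{v₂} C] {U : C} (p' : 𝒮 ⥤ Over U) [(p' ⋙ Over.forget U).IsFibered] : p'.IsFibered := by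
  apply Functor.IsFibered.of_exists_isStronglyCartesian
  intro a R f
  obtain ⟨b, φ, hφ⟩ := IsPreFibered.exists_isCartesian (p' ⋙ Over.forget U) (a := a) rfl
    ((Over.forget U).map f)
  have hφ' : (p' ⋙ Over.forget U).IsStronglyCartesian ((Over.forget U).map f) φ :=
    Functor.IsFibered.isStronglyCartesian_of_isCartesian _ _ _
  have hlift : (p' ⋙ Over.forget U).IsHomLift ((Over.forget U).map f) φ := hφ.toIsHomLift
  have hl : (p'.obj b).left = R.left :=
    @IsHomLift.domain_eq _ _ _ _ (p' ⋙ Over.forget U) _ _ _ _ ((Over.forget U).map f) φ hlift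
  have hfac := @IsHomLift.fac' _ _ _ _ (p' ⋙ Over.forget U) _ _ _ _ ((Over.forget U).map f) φ
    hlift
  have hRb : p'.obj b = R := by
    apply over_obj_ext _ _ hl
    rw [← Over.w (p'.map φ), ← Over.w f]
    have : (p'.map φ).left = eqToHom hl ≫ f.left := by
      simpa using hfac
    rw [this, Category.assoc]
  subst hRb
  have hf : f = p'.map φ := by
    apply Over.OverMorphism.ext
    exact @IsHomLift.eq_of_isHomLift _ _ _ _ (p' ⋙ Over.forget U) _ _ ((Over.forget U).map f) φ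
      hlift
  subst hf
  have : (p' ⋙ Over.forget U).IsStronglyCartesian ((p' ⋙ Over.forget U).map φ) φ := hφ'
  exact ⟨b, φ, isStronglyCartesian_of_forget p' φ⟩

end Groth.Agent.S6418
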