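import Groth.Statements.S6419
import Groth.Agent.S6418

set_option autoImplicit false
open CategoryTheory
universe v₁ u₁ v₂ u₂
open FibCat

namespace Groth.Agent.S6419

/-- If `p' : 𝒮 ⥤ C/U` composed with the forgetful functor `C/U ⥤ C` is fibred in groupoids, then so is
`p'`. -/
theorem result {𝒮 : Type u₁} [Category.{v₁} 𝒮] {C : Type u₂} [Category.{v₂} C] {U : C} (p' : 𝒮 ⥤ Over U) (h : FibCat.IsFibGrpd (p' ⋙ Over.forget U)) : FibCat.IsFibGrpd p' := by
  refine ⟨?_, ?_⟩
  · intro x V f
    obtain ⟨y, φ, hlift⟩ := h.exists_lift (x := x) ((Over.forget U).map f)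
    have hl : (p'.obj y).left = V.left :=
      @IsHomLift.domain_eq _ _ _ _ (p' ⋙ Over.forget U) _ _ _ _ ((Over.forget U).map f) φ hlift
    have hfac := @IsHomLift.fac' _ _ _ _ (p' ⋙ Over.forget U) _ _ _ _ ((Over.forget U).map f) φ
      hlift
    have hRb : p'.obj y = V := by
      apply Groth.Agent.S6418.over_obj_ext _ _ hl
      rw [← Over.w (p'.map φ), ← Over.w f]
      have : (p'.map φ).left = eqToHom hl ≫ f.left := by
        simpa using hfac
      rw [this, Category.assoc]
    subst hRb
    have hf : f = p'.map φ := by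
      apply Over.OverMorphism.ext
      exact @IsHomLift.eq_of_isHomLift _ _ _ _ (p' ⋙ Over.forget U) _ _ ((Over.forget U).map f) φ
        hlift
    subst hf
    exact ⟨y, φ, inferInstance⟩
  · intro y x φ
    have := h.isStronglyCartesian φ
    exact Groth.Agent.S6418.isStronglyCartesian_of_forget p' φ

end Groth.Agent.S6419
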