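import Groth.Statements.S6421
import Groth.Agent.S6420

set_option autoImplicit false
open CategoryTheory CategoryTheory.Limits
universe v u
open FibCat

namespace Groth.Agent.S6421

section

variable {X Y Z A B C : Type u} [Category.{v} X] [Category.{v} Y] [Category.{v} Z]
    [Category.{v} A] [Category.{v} B] [Category.{v} C] {H : X ⥤ Z} {I : Y ⥤ Z} {F : A ⥤ C}
    {G : B ⥤ C} (ψ : CatCospanTransform H I F G)

theorem obj_iso_hom (x : CategoricalPullback H I) :
    ((FibCat.categoricalPullbackMap ψ).obj x).iso.hom =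
      (ψ.squareLeft.iso.inv.app x.fst) ≫ ψ.base.map x.iso.hom ≫
        ψ.squareRight.iso.hom.app x.snd := by
  simp [categoricalPullbackMap]
  rfl

theorem obj_fst (x : CategoricalPullback H I) :
    ((FibCat.categoricalPullbackMap ψ).obj x).fst = ψ.left.obj x.fst := rfl

theorem obj_snd (x : CategoricalPullback H I) :
    ((FibCat.categoricalPullbackMap ψ).obj x).snd = ψ.right.obj x.snd := rfl

theorem full_of [ψ.left.Full] [ψ.left.Faithful] [ψ.right.Full] [ψ.right.Faithful]
    [ψ.base.Faithful] : (FibCat.categoricalPullbackMap ψ).Full := by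
  constructor
  intro x y m
  let a : ψ.left.obj x.fst ⟶ ψ.left.obj y.fst := m.fst
  let b : ψ.right.obj x.snd ⟶ ψ.right.obj y.snd := m.snd
  have hw : F.map a ≫ (ψ.squareLeft.iso.inv.app y.fst ≫ ψ.base.map y.iso.hom ≫
      ψ.squareRight.iso.hom.app y.snd) = (ψ.squareLeft.iso.inv.app x.fst ≫
      ψ.base.map x.iso.hom ≫ ψ.squareRight.iso.hom.app x.snd) ≫ G.map b := by
    have := m.w
    rw [obj_iso_hom, obj_iso_hom] at this
    exact this
  let f₁ : x.fst ⟶ y.fst := ψ.left.preimage a
  let f₂ : x.snd ⟶ y.snd := ψ.right.preimage b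
  have hL : ψ.base.map (H.map f₁) =
      ψ.squareLeft.iso.hom.app x.fst ≫ F.map a ≫ ψ.squareLeft.iso.inv.app y.fst := by
    have := ψ.squareLeft.iso.hom.naturality f₁
    simp only [Functor.comp_map, f₁, Functor.map_preimage] at this
    rw [← Category.assoc, ← this, Category.assoc, Iso.hom_inv_id_app, Category.comp_id]
  have hR : ψ.base.map (I.map f₂) ≫ ψ.squareRight.iso.hom.app y.snd =
      ψ.squareRight.iso.hom.app x.snd ≫ G.map b := by
    have := ψ.squareRight.iso.hom.naturality f₂
    simpa only [Functor.comp_map, f₂, Functor.map_preimage] using this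
  have w : H.map f₁ ≫ y.iso.hom = x.iso.hom ≫ I.map f₂ := by
    apply ψ.base.map_injective
    rw [Functor.map_comp, Functor.map_comp]
    rw [← cancel_mono (ψ.squareRight.iso.hom.app y.snd)]
    rw [Category.assoc, Category.assoc, hR, hL]
    simp only [Category.assoc]
    rw [hw]
    simp
  refine ⟨⟨f₁, f₂, w⟩, ?_⟩
  apply CategoricalPullback.hom_ext
  · exact ψ.left.map_preimage a
  · exact ψ.right.map_preimage b

end

/-- For a 2-commutative morphism of cospans of categories whose outer functors `X ⥤ A`, `Y ⥤ B` are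
fully faithful and whose middle functor `Z ⥤ C` is faithful, the induced functor `X ×_Z Y ⥤ A ×_C B`
is fully faithful. -/
theorem result {X Y Z A B C : Type u} [Category.{v} X] [Category.{v} Y] [Category.{v} Z] [Category.{v} A] [Category.{v} B] [Category.{v} C] {H : X ⥤ Z} {I : Y ⥤ Z} {F : A ⥤ C} {G : B ⥤ C} (ψ : CatCospanTransform H I F G) [ψ.left.Full] [ψ.left.Faithful] [ψ.right.Full] [ψ.right.Faithful] [ψ.base.Faithful] :
    (FibCat.categoricalPullbackMap ψ).Full ∧ (FibCat.categoricalPullbackMap ψ).Faithful := by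
  exact ⟨full_of ψ, Groth.Agent.S6420.result ψ⟩

end Groth.Agent.S6421
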