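import Groth.Statements.S6422
import Groth.Agent.S6421

set_option autoImplicit false
open CategoryTheory CategoryTheory.Limits
universe v u
open FibCat

namespace Groth.Agent.S6422

section

variable {X Y Z A B C : Type u} [Category.{v} X] [Category.{v} Y] [Category.{v} Z]
    [Category.{v} A] [Category.{v} B] [Category.{v} C] {H : X ⥤ Z} {I : Y ⥤ Z} {F : A ⥤ C}
    {G : B ⥤ C} (ψ : CatCospanTransform H I F G)

theorem essSurj_of [ψ.left.IsEquivalence] [ψ.right.IsEquivalence] [ψ.base.Full]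
    [ψ.base.Faithful] : (FibCat.categoricalPullbackMap ψ).EssSurj := by
  constructor
  intro z
  let x₁ := ψ.left.objPreimage z.fst
  let i₁ : ψ.left.obj x₁ ≅ z.fst := ψ.left.objObjPreimageIso z.fst
  let y₁ := ψ.right.objPreimage z.snd
  let i₂ : ψ.right.obj y₁ ≅ z.snd := ψ.right.objObjPreimageIso z.snd
  let e' : ψ.base.obj (H.obj x₁) ≅ ψ.base.obj (I.obj y₁) :=
    ψ.squareLeft.iso.app x₁ ≪≫ F.mapIso i₁ ≪≫ z.iso ≪≫ G.mapIso i₂.symm ≪≫
      (ψ.squareRight.iso.app y₁).symm
  let e : H.obj x₁ ≅ I.obj y₁ := ψ.base.preimageIso e'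
  let w : CategoricalPullback H I := ⟨x₁, y₁, e⟩
  have hw : F.map i₁.hom ≫ z.iso.hom = (ψ.squareLeft.iso.inv.app x₁ ≫ ψ.base.map e.hom ≫
      ψ.squareRight.iso.hom.app y₁) ≫ G.map i₂.hom := by
    have : ψ.base.map e.hom = e'.hom := by
      simp [e]
    rw [this]
    simp only [e', Iso.trans_hom, Iso.app_hom, Functor.mapIso_hom, Iso.symm_hom, Iso.app_inv,
      Category.assoc, Iso.inv_hom_id_app, Category.comp_id, Iso.inv_hom_id_app_assoc,
      Functor.mapIso_inv]
    simp only [Functor.comp_obj, Category.id_comp]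
    rw [← Functor.map_comp, Iso.inv_hom_id, Functor.map_id, Category.comp_id]
  refine ⟨w, ⟨CategoricalPullback.mkIso (x := (FibCat.categoricalPullbackMap ψ).obj w) (y := z)
    i₁ i₂ ?_⟩⟩
  rw [Groth.Agent.S6421.obj_iso_hom]
  exact hw

end

/-- For a 2-commutative morphism of cospans of categories whose outer functors `X ⥤ A`, `Y ⥤ B` are
equivalences and whose middle functor `Z ⥤ C` is fully faithful, the induced functor `X ×_Z Y ⥤ A
×_C B` is an equivalence of categories. -/
theorem result {X Y Z A B C : Type u} [Category.{v} X] [Category.{v} Y] [Category.{v} Z] [Category.{v} A] [Category.{v} B] [Category.{v} C] {H : X ⥤ Z} {I : Y ⥤ Z} {F : A ⥤ C} {G : B ⥤ C} (ψ : CatCospanTransform H I F G) [ψ.left.IsEquivalence] [ψ.right.IsEquivalence] [ψ.base.Full] [ψ.base.Faithful] :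
    (FibCat.categoricalPullbackMap ψ).IsEquivalence := by
  have h1 := Groth.Agent.S6421.full_of ψ
  have h2 := Groth.Agent.S6420.result ψ
  have h3 := essSurj_of ψ
  exact { }

end Groth.Agent.S6422
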