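import Groth.Statements.S6423
import Mathlib.Data.Fintype.Powerset
import Mathlib.Data.Fintype.Sigma
import Mathlib.Order.Preorder.Finite
import Mathlib.Data.Set.Finite.Powerset
-- import your own Groth.Agent.* helpers here

set_option autoImplicit false
open CategoryTheory CategoryTheory.Limits
universe v u
open CatLim

namespace Groth.Agent.S6423

variable {C : Type u} [Category.{v} C] {J : Type} [SmallCategory J]

/-- A "partial product" of the diagram `F` on a set `S` of objects: an object `M` with a jointly
monic family of maps to the `F.obj j`, `j ∈ S`, through which every cone over `F` factors. -/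
structure PreLim (F : J ⥤ C) (S : Set J) where
  M : C
  m : ∀ j, j ∈ S → (M ⟶ F.obj j)
  mono : ∀ {T : C} (g g' : T ⟶ M), (∀ j (hj : j ∈ S), g ≫ m j hj = g' ≫ m j hj) → g = g'
  factor : ∀ (c : Cone F), ∃ g : c.pt ⟶ M, ∀ j (hj : j ∈ S), g ≫ m j hj = c.π.app j

/-- The partial product on a single object. -/
def PreLim.single (F : J ⥤ C) (j₀ : J) : PreLim F {j₀} where
  M := F.obj j₀
  m j hj := eqToHom (by rw [Set.mem_singleton_iff.mp hj])
  mono g g' h := by simpa using h j₀ rfl
  factor c := ⟨c.π.app j₀, fun j hj => by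
    obtain rfl : j = j₀ := hj
    simp⟩

open Classical in
/-- Extension along an arrow `x ⟶ y` with `y ∈ S`. -/
noncomputable def PreLim.extendSource [HasPullbacks C] {F : J ⥤ C} {S : Set J} (P : PreLim F S)
    {x y : J} (a : x ⟶ y) (hy : y ∈ S) (hx : x ∉ S) : PreLim F (insert x S) where
  M := pullback (P.m y hy) (F.map a)
  m j hj := if h : j = x then pullback.snd _ _ ≫ eqToHom (by rw [h])
    else pullback.fst _ _ ≫ P.m j (by
      rcases hj with hj | hj
      · exact absurd hj h
      · exact hj)
  mono {T} g g' h := by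
    apply pullback.hom_ext
    · apply P.mono
      intro j hj
      have hjx : j ≠ x := fun e => hx (e ▸ hj)
      have := h j (Set.mem_insert_of_mem _ hj)
      simpa [hjx, Category.assoc] using this
    · have := h x (Set.mem_insert _ _)
      simpa using this
  factor c := by
    obtain ⟨g, hg⟩ := P.factor c
    refine ⟨pullback.lift g (c.π.app x) (by rw [hg y hy]; exact (c.w a).symm), ?_⟩
    intro j hj
    by_cases h : j = x
    · subst h
      simp [pullback.lift_snd]
    · have hjS : j ∈ S := by
        rcases hj with hj | hj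
        · exact absurd hj h
        · exact hj
      simp [h, hg j hjS, pullback.lift_fst_assoc]

open Classical in
/-- Extension along an arrow `y ⟶ x` with `y ∈ S`. -/
noncomputable def PreLim.extendTarget {F : J ⥤ C} {S : Set J} (P : PreLim F S)
    {x y : J} (a : y ⟶ x) (hy : y ∈ S) (hx : x ∉ S) : PreLim F (insert x S) where
  M := P.M
  m j hj := if h : j = x then P.m y hy ≫ F.map a ≫ eqToHom (by rw [h])
    else P.m j (by
      rcases hj with hj | hj
      · exact absurd hj h
      · exact hj)
  mono {T} g g' h := by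
    apply P.mono
    intro j hj
    have hjx : j ≠ x := fun e => hx (e ▸ hj)
    have := h j (Set.mem_insert_of_mem _ hj)
    simpa [hjx] using this
  factor c := by
    obtain ⟨g, hg⟩ := P.factor c
    refine ⟨g, ?_⟩
    intro j hj
    by_cases h : j = x
    · subst h
      simp [reassoc_of% (hg y hy)]
    · have hjS : j ∈ S := by
        rcases hj with hj | hj
        · exact absurd hj h
        · exact hj
      simp [h, hg j hjS]

/-- For a finite connected category, a partial product on all objects exists. -/
theorem exists_preLim_univ [HasPullbacks C] [FinCategory J] [IsConnected J] (F : J ⥤ C) :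
    Nonempty (PreLim F Set.univ) := by
  classical
  obtain ⟨j₀⟩ : Nonempty J := IsConnected.is_nonempty
  let Q : Set (Set J) := {S | j₀ ∈ S ∧ Nonempty (PreLim F S)}
  have hfin : Q.Finite := Set.toFinite Q
  have hne : Q.Nonempty := ⟨{j₀}, rfl, ⟨PreLim.single F j₀⟩⟩
  obtain ⟨S, hS⟩ := hfin.exists_maximal hne
  obtain ⟨⟨hj₀, ⟨P⟩⟩, hmax⟩ := hS
  have key : ∀ {j₁ j₂ : J} (_ : j₁ ⟶ j₂), j₁ ∈ S ↔ j₂ ∈ S := by
    intro j₁ j₂ a
    constructor
    · intro h1
      by_contra h2
      have hQ : insert j₂ S ∈ Q := ⟨Set.mem_insert_of_mem _ hj₀, ⟨P.extendTarget a h1 h2⟩⟩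
      exact h2 (hmax hQ (Set.subset_insert _ _) (Set.mem_insert _ _))
    · intro h2
      by_contra h1
      have hQ : insert j₁ S ∈ Q := ⟨Set.mem_insert_of_mem _ hj₀, ⟨P.extendSource a h2 h1⟩⟩
      exact h1 (hmax hQ (Set.subset_insert _ _) (Set.mem_insert _ _))
  have hall : ∀ j, j ∈ S := induct_on_objects S hj₀ key
  have hS : S = Set.univ := Set.eq_univ_of_forall hall
  subst hS
  exact ⟨P⟩

/-- Joint equalizers of finitely many parallel pairs out of a fixed object. -/
theorem exists_joint_equalizer [HasEqualizers C] {ι : Type} (A : Finset ι) {M : C} (Z : ι → C)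
    (u w : ∀ i, M ⟶ Z i) :
    ∃ (E : C) (e : E ⟶ M), Mono e ∧ (∀ i ∈ A, e ≫ u i = e ≫ w i) ∧
      ∀ {T : C} (g : T ⟶ M), (∀ i ∈ A, g ≫ u i = g ≫ w i) → ∃ h : T ⟶ E, h ≫ e = g := by
  classical
  induction A using Finset.induction_on with
  | empty =>
    exact ⟨M, 𝟙 M, inferInstance, by simp, fun g _ => ⟨g, by simp⟩⟩
  | insert a A ha ih =>
    obtain ⟨E, e, he, heq, hlift⟩ := ih
    refine ⟨equalizer (e ≫ u a) (e ≫ w a), equalizer.ι _ _ ≫ e, mono_comp _ _, ?_, ?_⟩
    · intro i hi
      rcases Finset.mem_insert.mp hi with rfl | hi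
      · simpa using equalizer.condition (e ≫ u i) (e ≫ w i)
      · simp [heq i hi]
    · intro T g hg
      obtain ⟨h, hh⟩ := hlift g (fun i hi => hg i (Finset.mem_insert_of_mem hi))
      have : h ≫ e ≫ u a = h ≫ e ≫ w a := by
        rw [← Category.assoc, ← Category.assoc, hh]
        exact hg a (Finset.mem_insert_self _ _)
      exact ⟨equalizer.lift h this, by simp [hh]⟩

theorem hasLimit_of_finite_connected [HasEqualizers C] [HasPullbacks C] [FinCategory J]
    [IsConnected J] (F : J ⥤ C) : HasLimit F := by
  classical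
  obtain ⟨P⟩ := exists_preLim_univ F
  let m : ∀ j, P.M ⟶ F.obj j := fun j => P.m j (Set.mem_univ j)
  obtain ⟨E, e, he, heq, hlift⟩ := exists_joint_equalizer
    (Finset.univ : Finset (Σ (j : J) (j' : J), (j ⟶ j'))) (fun i => F.obj i.2.1)
    (fun i => m i.1 ≫ F.map i.2.2) (fun i => m i.2.1)
  refine HasLimit.mk ⟨{ pt := E, π := { app := fun j => e ≫ m j, naturality := ?_ } }, ?_⟩
  · intro j j' f
    have := heq ⟨j, j', f⟩ (Finset.mem_univ _)
    simpa using this.symm
  · refine IsLimit.ofExistsUnique fun s => ?_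
    obtain ⟨g, hg⟩ := P.factor s
    have hg' : ∀ j, g ≫ m j = s.π.app j := fun j => hg j (Set.mem_univ j)
    obtain ⟨h, hh⟩ := hlift g (fun i _ => by
      rw [reassoc_of% (hg' i.1), hg' i.2.1]
      exact s.w i.2.2)
    refine ⟨h, ?_, ?_⟩
    · intro j
      dsimp
      rw [reassoc_of% hh, hg']
    · intro h' hh'
      rw [← cancel_mono e]
      apply P.mono
      intro j hj
      have := hh' j
      rw [Category.assoc, Category.assoc]
      change h' ≫ e ≫ m j = h ≫ e ≫ m j
      rw [this, reassoc_of% hh, hg']


/-- (2) ⇒ (1): a category with equalizers and fibre products has all finite connected limits. -/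
theorem result {C : Type u} [Category.{v} C] [HasEqualizers C] [HasPullbacks C]
    (J : Type) [SmallCategory J] [FinCategory J] [IsConnected J] : HasLimitsOfShape J C := by
  exact ⟨fun F => hasLimit_of_finite_connected F⟩

end Groth.Agent.S6423
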