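import Groth.Statements.S6424
import Mathlib.CategoryTheory.Limits.Constructions.LimitsOfProductsAndEqualizers
import Mathlib.CategoryTheory.Limits.Constructions.FiniteProductsOfBinaryProducts

set_option autoImplicit false
open CategoryTheory CategoryTheory.Limits
universe v u
open CatLim

namespace Groth.Agent.S6424

theorem hasProduct_fin_succ {C : Type u} [Category.{v} C] [HasBinaryProducts C] :
    ∀ (n : ℕ) (f : Fin (n + 1) → C), HasProduct f
  | 0 => fun f =>
    have : Subsingleton (Fin (0 + 1)) := inferInstanceAs (Subsingleton (Fin 1))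
    have : Nonempty (Fin (0 + 1)) := ⟨0⟩
    hasProduct_unique f
  | n + 1 => fun f =>
    have : HasProduct (fun i : Fin (n + 1) => f i.succ) := hasProduct_fin_succ n _
    HasLimit.mk ⟨_, extendFanIsLimit f
      (limit.isLimit (Discrete.functor fun i : Fin (n + 1) => f i.succ))
      (limit.isLimit (pair (f 0) (∏ᶜ fun i : Fin (n + 1) => f i.succ)))⟩

theorem hasProduct_of_finite_nonempty {C : Type u} [Category.{v} C] [HasBinaryProducts C]
    {ι : Type} [Finite ι] [Nonempty ι] (f : ι → C) : HasProduct f := by
  classical
  have := Fintype.ofFinite ι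
  obtain ⟨n, hn⟩ : ∃ n, Fintype.card ι = n + 1 :=
    Nat.exists_eq_succ_of_ne_zero Fintype.card_ne_zero
  let e : ι ≃ Fin (n + 1) := Fintype.equivFinOfCardEq hn
  have := hasProduct_fin_succ n (fun i => f (e.symm i))
  exact hasProduct_of_equiv_of_iso (fun i => f (e.symm i)) f e
    (fun j => eqToIso (by simp))

/-- (2) ⇒ (1): a category with products of pairs and equalizers has all finite nonempty limits. -/
theorem result {C : Type u} [Category.{v} C] [HasBinaryProducts C] [HasEqualizers C]
    (J : Type) [SmallCategory J] [FinCategory J] [Nonempty J] : HasLimitsOfShape J C := by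
  constructor
  intro F
  have : HasLimit (Discrete.functor F.obj) := hasProduct_of_finite_nonempty F.obj
  have : Nonempty (Σ p : J × J, p.1 ⟶ p.2) := by
    obtain ⟨j⟩ := ‹Nonempty J›
    exact ⟨⟨(j, j), 𝟙 j⟩⟩
  have : Finite (Σ p : J × J, p.1 ⟶ p.2) := by
    have : ∀ p : J × J, Finite (p.1 ⟶ p.2) := fun p => inferInstance
    infer_instance
  have : HasLimit (Discrete.functor fun f : Σ p : J × J, p.1 ⟶ p.2 => F.obj f.1.2) :=
    hasProduct_of_finite_nonempty _
  exact hasLimit_of_equalizer_and_product F

end Groth.Agent.S6424
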