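import Groth.Statements.S6425
import Mathlib.CategoryTheory.Limits.Shapes.FunctorToTypes
import Mathlib.CategoryTheory.Limits.Types.Products

set_option autoImplicit false
open CategoryTheory CategoryTheory.Limits
universe v
open CatLim

namespace Groth.Agent.S6425

theorem types_prod_ext {X Y : Type v} (p q : (X ⨯ Y : Type v))
    (h1 : (prod.fst : X ⨯ Y ⟶ X) p = (prod.fst : X ⨯ Y ⟶ X) q)
    (h2 : (prod.snd : X ⨯ Y ⟶ Y) p = (prod.snd : X ⨯ Y ⟶ Y) q) : p = q := by
  have e1 : ∀ p : (X ⨯ Y : Type v),
      ((Types.binaryProductIso X Y).hom p).1 = (prod.fst : X ⨯ Y ⟶ X) p := fun p => by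
    have := ConcreteCategory.congr_hom (Types.binaryProductIso_hom_comp_fst X Y) p
    simpa using this
  have e2 : ∀ p : (X ⨯ Y : Type v),
      ((Types.binaryProductIso X Y).hom p).2 = (prod.snd : X ⨯ Y ⟶ Y) p := fun p => by
    have := ConcreteCategory.congr_hom (Types.binaryProductIso_hom_comp_snd X Y) p
    simpa using this
  apply (Types.binaryProductIso X Y).toEquiv.injective
  apply Prod.ext
  · exact (e1 p).trans (h1.trans (e1 q).symm)
  · exact (e2 p).trans (h2.trans (e2 q).symm)

/-- Over an index category in which any two objects map to a common object, the comparison map `colim (M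
× N) → colim M × colim N` for diagrams of sets is surjective. -/
theorem result {I : Type v} [SmallCategory I]
    (hI : ∀ x y : I, ∃ (z : I) (_ : x ⟶ z) (_ : y ⟶ z), True) (M N : I ⥤ Type v) :
    Function.Surjective (prodComparison (colim : (I ⥤ Type v) ⥤ Type v) M N) := by
  intro p
  obtain ⟨i, m, hm⟩ := Types.jointly_surjective' ((prod.fst : colim.obj M ⨯ colim.obj N ⟶ colim.obj M) p)
  obtain ⟨j, n, hn⟩ := Types.jointly_surjective' ((prod.snd : colim.obj M ⨯ colim.obj N ⟶ colim.obj N) p)
  obtain ⟨z, f, g, -⟩ := hI i j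
  refine ⟨colimit.ι (M ⨯ N) z (FunctorToTypes.prodMk (M.map f m) (N.map g n)), ?_⟩
  apply types_prod_ext
  · rw [← hm]
    have h1 := ConcreteCategory.congr_hom (prodComparison_fst (colim : (I ⥤ Type v) ⥤ Type v)
      M N) (colimit.ι (M ⨯ N) z (FunctorToTypes.prodMk (M.map f m) (N.map g n)))
    rw [ConcreteCategory.comp_apply] at h1
    rw [h1]
    have h2 := colimit.ι_map_apply (carrier := fun X => X) (prod.fst : M ⨯ N ⟶ M) z
      (FunctorToTypes.prodMk (M.map f m) (N.map g n))
    erw [h2]
    rw [FunctorToTypes.prodMk_fst]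
    exact colimit.w_apply M f m
  · rw [← hn]
    have h1 := ConcreteCategory.congr_hom (prodComparison_snd (colim : (I ⥤ Type v) ⥤ Type v)
      M N) (colimit.ι (M ⨯ N) z (FunctorToTypes.prodMk (M.map f m) (N.map g n)))
    rw [ConcreteCategory.comp_apply] at h1
    rw [h1]
    have h2 := colimit.ι_map_apply (carrier := fun X => X) (prod.snd : M ⨯ N ⟶ N) z
      (FunctorToTypes.prodMk (M.map f m) (N.map g n))
    erw [h2]
    rw [FunctorToTypes.prodMk_snd]
    exact colimit.w_apply N g n

end Groth.Agent.S6425
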