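import Groth.Statements.S6426
import Mathlib.GroupTheory.QuotientGroup.Defs
import Mathlib.Algebra.Category.Grp.Zero
import Mathlib.Algebra.Category.Grp.Preadditive

set_option autoImplicit false
open CategoryTheory CategoryTheory.Limits
universe v
open CatLim

namespace Groth.Agent.S6426

section

variable {I : Type v} [SmallCategory I] [Nonempty I]
    (hI : ∀ x y : I, ∃ (z : I) (_ : x ⟶ z) (_ : y ⟶ z), True) (M : I ⥤ AddCommGrpCat.{v})

/-- the union of the images of the `M i` in the colimit, as a subgroup -/
noncomputable def imgSubgroup (hI : ∀ x y : I, ∃ (z : I) (_ : x ⟶ z) (_ : y ⟶ z), True)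
    (M : I ⥤ AddCommGrpCat.{v}) : AddSubgroup (colimit M : AddCommGrpCat.{v}) where
  carrier := {y | ∃ (i : I) (x : M.obj i), colimit.ι M i x = y}
  zero_mem' := by
    obtain ⟨i⟩ := ‹Nonempty I›
    exact ⟨i, 0, map_zero _⟩
  add_mem' := by
    rintro _ _ ⟨i, x, rfl⟩ ⟨j, y, rfl⟩
    obtain ⟨z, f, g, -⟩ := hI i j
    refine ⟨z, M.map f x + M.map g y, ?_⟩
    rw [map_add]
    have h1 : (colimit.ι M z) ((M.map f) x) = (colimit.ι M i) x := by
      rw [← ConcreteCategory.comp_apply, colimit.w]
    have h2 : (colimit.ι M z) ((M.map g) y) = (colimit.ι M j) y := by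
      rw [← ConcreteCategory.comp_apply, colimit.w]
    rw [h1, h2]
  neg_mem' := by
    rintro _ ⟨i, x, rfl⟩
    exact ⟨i, -x, map_neg _ _⟩

include hI in
theorem imgSubgroup_eq_top : imgSubgroup hI M = ⊤ := by
  let S := imgSubgroup hI M
  let π : colimit M ⟶ AddCommGrpCat.of ((colimit M : AddCommGrpCat.{v}) ⧸ S) :=
    AddCommGrpCat.ofHom (QuotientAddGroup.mk' S)
  have hπ : π = 0 := by
    apply colimit.hom_ext
    intro i
    ext x
    simp only [AddCommGrpCat.hom_comp, AddMonoidHom.coe_comp, Function.comp_apply,
      Limits.comp_zero, AddCommGrpCat.hom_zero, AddMonoidHom.zero_apply]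
    change QuotientAddGroup.mk' S ((colimit.ι M i) x) = 0
    rw [QuotientAddGroup.mk'_apply, QuotientAddGroup.eq_zero_iff]
    exact ⟨i, x, rfl⟩
  rw [eq_top_iff]
  intro y _
  have : π y = 0 := by rw [hπ]; rfl
  change QuotientAddGroup.mk' S y = 0 at this
  rwa [QuotientAddGroup.mk'_apply, QuotientAddGroup.eq_zero_iff] at this

end

/-- Over a nonempty index category in which any two objects map to a common object, the set-theoretic
colimit of a diagram of abelian groups surjects onto its colimit in abelian groups. (The published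
statement does not require the index category to be nonempty; this row assumes it, because for the
empty index category the colimit of sets is empty while the colimit of abelian groups is the zero
group.) -/
theorem result {I : Type v} [SmallCategory I] [Nonempty I]
    (hI : ∀ x y : I, ∃ (z : I) (_ : x ⟶ z) (_ : y ⟶ z), True) (M : I ⥤ AddCommGrpCat.{v}) :
    Function.Surjective (colimit.post M (forget AddCommGrpCat.{v})) := by
  intro y
  have hy : y ∈ imgSubgroup hI M := by
    rw [imgSubgroup_eq_top hI M]
    trivial
  obtain ⟨i, x, rfl⟩ := hy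
  refine ⟨colimit.ι (M ⋙ forget AddCommGrpCat.{v}) i x, ?_⟩
  have := ConcreteCategory.congr_hom (colimit.ι_post M (forget AddCommGrpCat.{v}) i) x
  rw [ConcreteCategory.comp_apply] at this
  exact this

end Groth.Agent.S6426
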