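import Groth.Statements.S6427
-- import your own Groth.Agent.* helpers here

set_option autoImplicit false
open CategoryTheory CategoryTheory.Limits
universe v
open CatLim

namespace Groth.Agent.S6427

theorem rel_of_eqvGen {I : Type v} [SmallCategory I]
    (hI : ∀ ⦃x y z : I⦄ (f : x ⟶ y) (g : x ⟶ z), ∃ (w : I) (f' : y ⟶ w) (g' : z ⟶ w),
      f ≫ f' = g ≫ g') (N : I ⥤ Type v) (p q : Σ j, N.obj j)
    (h : Relation.EqvGen N.ColimitTypeRel p q) :
    ∃ (k : I) (f : p.1 ⟶ k) (g : q.1 ⟶ k), N.map f p.2 = N.map g q.2 := by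
  induction h with
  | rel p q h =>
    obtain ⟨f, hf⟩ := h
    refine ⟨q.1, f, 𝟙 _, ?_⟩
    rw [hf]
    simp
  | refl p => exact ⟨p.1, 𝟙 _, 𝟙 _, rfl⟩
  | symm p q _ ih =>
    obtain ⟨k, f, g, h⟩ := ih
    exact ⟨k, g, f, h.symm⟩
  | trans p q r _ _ ih1 ih2 =>
    obtain ⟨k, f, g, h1⟩ := ih1
    obtain ⟨k', g', h', h2⟩ := ih2
    obtain ⟨w, u, u', hu⟩ := hI g g'
    refine ⟨w, f ≫ u, h' ≫ u', ?_⟩
    rw [FunctorToTypes.map_comp_apply, FunctorToTypes.map_comp_apply, h1, ← h2,
      ← FunctorToTypes.map_comp_apply, ← FunctorToTypes.map_comp_apply, hu]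

/-- Over an index category in which every pair of morphisms with common source can be completed to a
commutative square, colimits of sets preserve injective morphisms of diagrams. -/
theorem result {I : Type v} [SmallCategory I]
    (hI : ∀ ⦃x y z : I⦄ (f : x ⟶ y) (g : x ⟶ z), ∃ (w : I) (f' : y ⟶ w) (g' : z ⟶ w), f ≫ f' = g ≫ g')
    {M N : I ⥤ Type v} (φ : M ⟶ N) (hφ : ∀ i, Function.Injective (φ.app i)) :
    Function.Injective (colimMap φ) := by
  intro a b h
  obtain ⟨i, m, rfl⟩ := Types.jointly_surjective' a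
  obtain ⟨j, m', rfl⟩ := Types.jointly_surjective' b
  have e1 := colimit.ι_map_apply (carrier := fun X => X) φ i m
  have e2 := colimit.ι_map_apply (carrier := fun X => X) φ j m'
  have h' : colimit.ι N i (φ.app i m) = colimit.ι N j (φ.app j m') := by
    rw [← e1, ← e2]
    exact h
  obtain ⟨k, f, g, hk⟩ := rel_of_eqvGen hI N ⟨i, φ.app i m⟩ ⟨j, φ.app j m'⟩ (Types.colimit_eq h')
  apply Types.colimit_sound' f g
  apply hφ k
  have n1 := NatTrans.naturality_apply φ f m
  have n2 := NatTrans.naturality_apply φ g m'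
  rw [n1, n2]
  exact hk

end Groth.Agent.S6427
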