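import Groth.Statements.S6428
import Mathlib.CategoryTheory.Limits.Final

set_option autoImplicit false
open CategoryTheory CategoryTheory.Limits
universe v₁ u₁ v₂ u₂ v₃ u₃
open CatLim

namespace Groth.Agent.S6428

section

variable {I : Type u₁} [Category.{v₁} I] {I' : Type u₂} [Category.{v₂} I'] (F : I ⥤ I')

/-- from the fibre over `y'` to the structured arrows `x' ⟶ F -`, given `β : x' ⟶ y'` -/
def toStructuredArrow {x' y' : I'} (β : x' ⟶ y') : F.Fiber y' ⥤ StructuredArrow x' F where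
  obj a := StructuredArrow.mk (Y := a.1) (β ≫ eqToHom a.2.symm)
  map {a b} φ := StructuredArrow.homMk φ.1 (by
    have := φ.2
    have h := IsHomLift.fac' F (𝟙 y') φ.1
    simp only [StructuredArrow.mk_right, StructuredArrow.mk_hom_eq_self, Category.assoc]
    rw [h]
    simp)
  map_id a := rfl
  map_comp φ ψ := rfl

theorem final_of (h1 : ∀ x' : I', IsConnected (F.Fiber x'))
    (h2 : ∀ ⦃x' y' : I'⦄ (α' : x' ⟶ y'), ∃ (x y : I) (hx : F.obj x = x') (hy : F.obj y = y')
      (α : x ⟶ y), F.map α = eqToHom hx ≫ α' ≫ eqToHom hy.symm) : F.Final := by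
  constructor
  intro x'
  have := h1 x'
  obtain ⟨x₁⟩ := (inferInstance : Nonempty (F.Fiber x'))
  have : Nonempty (StructuredArrow x' F) := ⟨(toStructuredArrow F (𝟙 x')).obj x₁⟩
  suffices h : ∀ A : StructuredArrow x' F, Zigzag A ((toStructuredArrow F (𝟙 x')).obj x₁) from
    zigzag_isConnected fun A B => (h A).trans (h B).symm
  intro A
  obtain ⟨x₀, y₀, hx, hy, α, hα⟩ := h2 A.hom
  have := h1 (F.obj A.right)
  -- step 1 : A is the image of ⟨A.right, rfl⟩
  have hA : A = (toStructuredArrow F A.hom).obj ⟨A.right, rfl⟩ := by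
    change A = StructuredArrow.mk (A.hom ≫ eqToHom rfl)
    rw [eqToHom_refl, Category.comp_id]
    rfl
  have z1 : Zigzag A ((toStructuredArrow F A.hom).obj ⟨y₀, hy⟩) := by
    conv_lhs => rw [hA]
    exact zigzag_obj_of_zigzag _ (isPreconnected_zigzag _ _)
  -- step 2 : the lift of `A.hom`
  let m : (toStructuredArrow F (𝟙 x')).obj ⟨x₀, hx⟩ ⟶ (toStructuredArrow F A.hom).obj ⟨y₀, hy⟩ :=
    StructuredArrow.homMk α (by
      change (𝟙 x' ≫ eqToHom hx.symm) ≫ F.map α = A.hom ≫ eqToHom hy.symm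
      rw [hα]
      simp)
  have z2 : Zigzag ((toStructuredArrow F A.hom).obj ⟨y₀, hy⟩)
      ((toStructuredArrow F (𝟙 x')).obj ⟨x₀, hx⟩) := Zigzag.of_inv m
  -- step 3 : inside the fibre over `x'`
  have z3 : Zigzag ((toStructuredArrow F (𝟙 x')).obj ⟨x₀, hx⟩)
      ((toStructuredArrow F (𝟙 x')).obj x₁) := by
    have := h1 x'
    exact zigzag_obj_of_zigzag _ (isPreconnected_zigzag _ _)
  exact z1.trans (z2.trans z3)

end

/-- If `F : I ⥤ I'` has connected fibre categories and is surjective on morphisms, then for every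
diagram `M : I' ⥤ C` the colimit of `F ⋙ M` exists if and only if that of `M` does, and the
canonical comparison between them is then an isomorphism. -/
theorem result {I : Type u₁} [Category.{v₁} I] {I' : Type u₂} [Category.{v₂} I'] {C : Type u₃} [Category.{v₃} C] (F : I ⥤ I')
    (h1 : ∀ x' : I', IsConnected (F.Fiber x'))
    (h2 : ∀ ⦃x' y' : I'⦄ (α' : x' ⟶ y'), ∃ (x y : I) (hx : F.obj x = x') (hy : F.obj y = y') (α : x ⟶ y), F.map α = eqToHom hx ≫ α' ≫ eqToHom hy.symm)
    (M : I' ⥤ C) :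
    (HasColimit (F ⋙ M) ↔ HasColimit M) ∧ ∀ [HasColimit (F ⋙ M)] [HasColimit M], IsIso (colimit.pre M F) := by
  have := final_of F h1 h2
  refine ⟨Functor.Final.hasColimit_comp_iff F (G := M), ?_⟩
  intro _ _
  infer_instance

end Groth.Agent.S6428
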