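import Groth.Statements.S6430
-- import your own Groth.Agent.* helpers here

set_option autoImplicit false
open CategoryTheory
universe v₂ u₂ v u
open FibCat

namespace Groth.Agent.S6430

section helpers

variable {C : Type u} [Category.{v} C] {𝒮 : Type u₂} [Category.{v₂} 𝒮] (p : 𝒮 ⥤ C)

lemma cart_of {R S : C} {a b : 𝒮} (f : R ⟶ S) (φ : a ⟶ b) (h : p.IsStronglyCartesian f φ) :
    p.IsStronglyCartesian (p.map φ) φ := by
  have := h.toIsHomLift
  subst_hom_lift p f φ
  exact h

lemma isHomLift_iff {R S : C} (f : R ⟶ S) {y x : FibCat.cartSub p} (φ : y ⟶ x) :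
    (FibCat.cartSubProj p).IsHomLift f φ ↔ p.IsHomLift f φ.hom := by
  constructor
  · intro h
    exact IsHomLift.of_fac p f φ.hom
      (IsHomLift.domain_eq (FibCat.cartSubProj p) f φ)
      (IsHomLift.codomain_eq (FibCat.cartSubProj p) f φ)
      (IsHomLift.fac (FibCat.cartSubProj p) f φ)
  · intro h
    have ha : p.obj y.obj = R := IsHomLift.domain_eq p f φ.hom
    have hb : p.obj x.obj = S := IsHomLift.codomain_eq p f φ.hom
    have hf : f = eqToHom ha.symm ≫ p.map φ.hom ≫ eqToHom hb := IsHomLift.fac p f φ.hom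
    exact IsHomLift.of_fac (FibCat.cartSubProj p) f φ ha hb hf

end helpers

/-- For a fibred category `p : 𝒮 ⥤ C`, the wide subcategory of `𝒮` on the strongly cartesian morphisms
is fibred in groupoids over `C`. -/
theorem result {C : Type u} [Category.{v} C] {𝒮 : Type u₂} [Category.{v₂} 𝒮] (p : 𝒮 ⥤ C) [p.IsFibered] :
    FibCat.IsFibGrpd (FibCat.cartSubProj p) := by
  refine ⟨?_, ?_⟩
  · intro x V f
    let f' : V ⟶ p.obj x.obj := f
    obtain ⟨b, φ₀, hφ₀⟩ := Functor.IsPreFibered.exists_isCartesian' (p := p) (a := x.obj) f'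
    have hs : p.IsStronglyCartesian f' φ₀ :=
      Functor.IsFibered.isStronglyCartesian_of_isCartesian p f' φ₀
    refine ⟨⟨b⟩, ⟨φ₀, cart_of p f' φ₀ hs⟩, ?_⟩
    rw [isHomLift_iff]
    exact hs.toIsHomLift
  · intro y x φ
    have hφ : p.IsStronglyCartesian (p.map φ.hom) φ.hom := φ.property
    refine { toIsHomLift := inferInstance, universal_property' := ?_ }
    intro a' g φ' hφ'
    let g' : p.obj a'.obj ⟶ p.obj y.obj := g
    have h1 : p.IsHomLift (g' ≫ p.map φ.hom) φ'.hom := (isHomLift_iff p _ φ').mp hφ'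
    obtain ⟨χ₀, ⟨hχ₀, hfac⟩, huniq⟩ :=
      hφ.universal_property' g' φ'.hom
    have hφ'c : p.IsStronglyCartesian (p.map φ'.hom) φ'.hom := φ'.property
    have heq : p.map φ'.hom = g' ≫ p.map φ.hom :=
      (IsHomLift.eq_of_isHomLift p (g' ≫ p.map φ.hom) φ'.hom).symm
    have hcomp : p.IsStronglyCartesian (g' ≫ p.map φ.hom) (χ₀ ≫ φ.hom) := by
      rw [hfac, ← heq]; exact hφ'c
    have hχc : p.IsStronglyCartesian g' χ₀ :=
      Functor.IsStronglyCartesian.of_comp (p := p) (f := g') (g := p.map φ.hom) (φ := χ₀)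
        (ψ := φ.hom)
    let χ : a' ⟶ y := ⟨χ₀, cart_of p g' χ₀ hχc⟩
    refine ⟨χ, ⟨(isHomLift_iff p g χ).mpr hχ₀, ?_⟩, ?_⟩
    · apply WideSubcategory.hom_ext
      exact hfac
    · rintro χ' ⟨hχ'1, hχ'2⟩
      apply WideSubcategory.hom_ext
      apply huniq
      refine ⟨(isHomLift_iff p g χ').mp hχ'1, ?_⟩
      exact congrArg (fun k => k.hom) hχ'2

end Groth.Agent.S6430
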