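import Groth.Statements.S6433
-- import your own Groth.Agent.* helpers here

set_option autoImplicit false
open CategoryTheory
universe v u v' u'
open CatLoc

namespace Groth.Agent.S6433

section helpers

variable {C : Type u} [Category.{v} C] {D : Type u'} [Category.{v'} D] (W : MorphismProperty C)
  (L : C ⥤ D) [L.IsLocalization W] [W.HasLeftCalculusOfFractions]

lemma common_den (ι : Type) [Finite ι] :
    ∀ (X : ι → C) (Y : C) (g : ∀ i, L.obj (X i) ⟶ L.obj Y),
      ∃ (Y' : C) (s : Y ⟶ Y') (_ : W s), ∀ i, ∃ f : X i ⟶ Y', g i ≫ L.map s = L.map f := by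
  induction ι using Finite.induction_empty_option with
  | of_equiv e ih =>
    intro X Y g
    obtain ⟨Y', s, hs, hf⟩ := ih (fun a => X (e a)) Y (fun a => g (e a))
    refine ⟨Y', s, hs, fun b => ?_⟩
    obtain ⟨a, rfl⟩ := e.surjective b
    exact hf a
  | h_empty =>
    intro X Y g
    exact ⟨Y, 𝟙 Y, W.id_mem Y, fun i => i.elim⟩
  | h_option ih =>
    intro X Y g
    obtain ⟨Y₁, s₁, hs₁, hf⟩ := ih (fun a => X (some a)) Y (fun a => g (some a))
    obtain ⟨φ, hφ⟩ := Localization.exists_leftFraction L W (g none)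
    -- Ore condition for the pair (s₁, φ.s)
    obtain ⟨ψ, hψ⟩ := (MorphismProperty.RightFraction.mk s₁ hs₁ φ.s).exists_leftFraction
    -- ψ.f : Y₁ ⟶ Y'', ψ.s : φ.Y' ⟶ Y'' in W, φ.s ≫ ψ.s = s₁ ≫ ψ.f
    have hψ' : φ.s ≫ ψ.s = s₁ ≫ ψ.f := hψ
    refine ⟨ψ.Y', φ.s ≫ ψ.s, W.comp_mem _ _ φ.hs ψ.hs, ?_⟩
    rintro (_ | a)
    · refine ⟨φ.f ≫ ψ.s, ?_⟩
      have := φ.map_comp_map_s L (Localization.inverts L W)
      rw [← hφ] at this
      rw [L.map_comp, ← Category.assoc, this, L.map_comp]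
    · obtain ⟨f, hf'⟩ := hf a
      refine ⟨f ≫ ψ.f, ?_⟩
      rw [hψ', L.map_comp, ← Category.assoc, hf', L.map_comp]

end helpers

/-- For a left multiplicative system `W` and a localization functor `L`, any finite family of morphisms
`L X_i ⟶ L Y` admits a common denominator: some `s : Y ⟶ Y'` in `W` and morphisms `f_i : X_i ⟶ Y'`
with `g_i = L(s)⁻¹ L(f_i)`. -/
theorem result {C : Type u} [Category.{v} C] {D : Type u'} [Category.{v'} D] (W : MorphismProperty C) (L : C ⥤ D) [L.IsLocalization W] [W.HasLeftCalculusOfFractions]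
    {ι : Type} [Finite ι] (X : ι → C) (Y : C) (g : ∀ i, L.obj (X i) ⟶ L.obj Y) :
    ∃ (Y' : C) (s : Y ⟶ Y') (_ : W s) (f : ∀ i, X i ⟶ Y'), ∀ i, g i ≫ L.map s = L.map (f i) := by
  obtain ⟨Y', s, hs, hf⟩ := common_den W L ι X Y g
  choose f hf using hf
  exact ⟨Y', s, hs, f, hf⟩

end Groth.Agent.S6433
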