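import Groth.Statements.S6434
import Mathlib
import Groth.Agent.S6433

set_option autoImplicit false
open CategoryTheory
universe v u v' u'
open CatLoc

namespace Groth.Agent.S6434
set_option linter.style.haveILetI false

section Helpers

variable {C : Type u} [Category.{v} C] {D : Type u'} [Category.{v'} D] (W : MorphismProperty C)
  (L : C ⥤ D) [L.IsLocalization W] [W.HasLeftCalculusOfFractions]

/-- equalise finitely many pairs of morphisms that become equal in the localization -/
lemma equalize (ι : Type) [Finite ι] :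
    ∀ (X : ι → C) (Y : C) (a b : ∀ i, X i ⟶ Y) (_ : ∀ i, L.map (a i) = L.map (b i)),
      ∃ (Y' : C) (w : Y ⟶ Y') (_ : W w), ∀ i, a i ≫ w = b i ≫ w := by
  induction ι using Finite.induction_empty_option with
  | of_equiv e ih =>
    intro X Y a b hab
    obtain ⟨Y', w, hw, h⟩ := ih (fun i => X (e i)) Y (fun i => a (e i)) (fun i => b (e i))
      (fun i => hab (e i))
    refine ⟨Y', w, hw, fun j => ?_⟩
    obtain ⟨i, rfl⟩ := e.surjective j
    exact h i
  | h_empty =>
    intro X Y a b _
    exact ⟨Y, 𝟙 Y, W.id_mem Y, fun i => i.elim⟩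
  | h_option ih =>
    intro X Y a b hab
    obtain ⟨Y₁, w₁, hw₁, h₁⟩ := ih (fun i => X (some i)) Y (fun i => a (some i))
      (fun i => b (some i)) (fun i => hab (some i))
    have h2 : L.map (a none ≫ w₁) = L.map (b none ≫ w₁) := by
      rw [L.map_comp, L.map_comp, hab none]
    obtain ⟨Y₂, w₂, hw₂, h₂⟩ := (MorphismProperty.map_eq_iff_postcomp L W _ _).mp h2
    refine ⟨Y₂, w₁ ≫ w₂, W.comp_mem _ _ hw₁ hw₂, ?_⟩
    rintro (_ | i)
    · simpa only [Category.assoc] using h₂
    · rw [← Category.assoc, h₁ i, Category.assoc]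


open Limits

include W in
lemma isColimit_mapCocone {J : Type} [SmallCategory J] [FinCategory J] {K : J ⥤ C}
    {c : Cocone K} (hc : IsColimit c) : Nonempty (IsColimit (L.mapCocone c)) := by
  haveI : L.EssSurj := Localization.essSurj L W
  refine ⟨IsColimit.ofExistsUnique fun t => ?_⟩
  -- replace the vertex by `L.obj Y`
  let Y := L.objPreimage t.pt
  let e : L.obj Y ≅ t.pt := L.objObjPreimageIso t.pt
  have inv_iso : ∀ {A B : C} (s : A ⟶ B), W s → IsIso (L.map s) :=
    fun s hs => Localization.inverts L W s hs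
  -- uniqueness
  have huniq : ∀ m m' : L.obj c.pt ⟶ t.pt,
      (∀ j, L.map (c.ι.app j) ≫ m = t.ι.app j) → (∀ j, L.map (c.ι.app j) ≫ m' = t.ι.app j) →
        m = m' := by
    intro m m' hm hm'
    obtain ⟨Y', s, hs, f, hf⟩ := Groth.Agent.S6433.result W L (ι := Bool)
      (fun _ => c.pt) Y (fun b => if b then m ≫ e.inv else m' ≫ e.inv)
    have hf1 : (m ≫ e.inv) ≫ L.map s = L.map (f true) := by simpa using hf true
    have hf2 : (m' ≫ e.inv) ≫ L.map s = L.map (f false) := by simpa using hf false
    have hj : ∀ j, L.map (c.ι.app j ≫ f true) = L.map (c.ι.app j ≫ f false) := by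
      intro j
      rw [L.map_comp, L.map_comp, ← hf1, ← hf2, ← Category.assoc, ← Category.assoc,
        ← Category.assoc, ← Category.assoc, hm j, hm' j]
    obtain ⟨Y'', w, hw, hwf⟩ := equalize W L J (fun j => K.obj j) Y'
      (fun j => c.ι.app j ≫ f true) (fun j => c.ι.app j ≫ f false) hj
    have h3 : f true ≫ w = f false ≫ w := by
      apply hc.hom_ext
      intro j
      simpa only [Category.assoc] using hwf j
    haveI := inv_iso w hw
    haveI := inv_iso s hs
    have h4 : L.map (f true) = L.map (f false) := by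
      rw [← cancel_mono (L.map w), ← L.map_comp, ← L.map_comp, h3]
    rw [← hf1, ← hf2, cancel_mono, cancel_mono] at h4
    exact h4
  -- existence
  obtain ⟨Y', s, hs, f, hf⟩ := Groth.Agent.S6433.result W L (ι := J)
    (fun j => K.obj j) Y (fun j => t.ι.app j ≫ e.inv)
  have harr : ∀ α : (Σ (j k : J), (j ⟶ k)),
      L.map (K.map α.2.2 ≫ f α.2.1) = L.map (f α.1) := by
    rintro ⟨j, k, φ⟩
    rw [L.map_comp, ← hf k, ← hf j]
    have := t.w φ
    simp only [Functor.comp_map] at this
    show L.map (K.map φ) ≫ (t.ι.app k ≫ e.inv) ≫ L.map s = _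
    rw [← this]
    simp only [Category.assoc]
  obtain ⟨Y'', w, hw, hwf⟩ := equalize W L (Σ (j k : J), (j ⟶ k))
    (fun α => K.obj α.1) Y' (fun α => K.map α.2.2 ≫ f α.2.1) (fun α => f α.1) harr
  let c' : Cocone K :=
    { pt := Y''
      ι :=
        { app := fun j => f j ≫ w
          naturality := fun j k φ => by
            have := hwf ⟨j, k, φ⟩
            simp only [Category.assoc] at this
            simp [this] } }
  haveI := inv_iso w hw
  haveI := inv_iso s hs
  refine ⟨L.map (hc.desc c') ≫ inv (L.map w) ≫ inv (L.map s) ≫ e.hom, ?_, ?_⟩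
  · intro j
    show L.map (c.ι.app j) ≫ _ = _
    rw [← Category.assoc, ← L.map_comp, hc.fac]
    show L.map (f j ≫ w) ≫ _ = _
    rw [L.map_comp, Category.assoc, IsIso.hom_inv_id_assoc, ← hf j, Category.assoc,
      Category.assoc, IsIso.hom_inv_id_assoc, e.inv_hom_id]
    exact Category.comp_id _
  · intro m hm
    exact huniq _ _ hm (fun j => by
      show L.map (c.ι.app j) ≫ _ = _
      rw [← Category.assoc, ← L.map_comp, hc.fac]
      show L.map (f j ≫ w) ≫ _ = _
      rw [L.map_comp, Category.assoc, IsIso.hom_inv_id_assoc, ← hf j, Category.assoc,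
        Category.assoc, IsIso.hom_inv_id_assoc, e.inv_hom_id]
      exact Category.comp_id _)

end Helpers


/-- The localization functor at a left multiplicative system commutes with finite colimits. -/
theorem result {C : Type u} [Category.{v} C] {D : Type u'} [Category.{v'} D] (W : MorphismProperty C) (L : C ⥤ D) [L.IsLocalization W] [W.HasLeftCalculusOfFractions] :
    Limits.PreservesFiniteColimits L := by
  exact ⟨fun J _ _ => ⟨fun {K} => ⟨fun {c} hc => isColimit_mapCocone W L hc⟩⟩⟩

end Groth.Agent.S6434
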