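import Groth.Statements.S6437
import Groth.Agent.S6427
import Mathlib.Data.Fintype.Sigma
-- import your own Groth.Agent.* helpers here

set_option autoImplicit false
set_option linter.unusedVariables false
set_option linter.style.haveILetI false
open CategoryTheory CategoryTheory.Limits
universe v
open CatLim

namespace Groth.Agent.S6437

section Helpers

variable {I : Type v} [SmallCategory I]

/-- Finitely many arrows out of a common source can be completed to a common arrow. -/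
theorem exists_common
    (h1 : ∀ ⦃w x y : I⦄ (a : w ⟶ x) (b : w ⟶ y), ∃ (z : I) (c : x ⟶ z) (d : y ⟶ z), a ≫ c = b ≫ d)
    {ι : Type} (T : Finset ι) {k : I} (tgt : ι → I) (u : ∀ t, k ⟶ tgt t) :
    ∃ (z : I) (h : k ⟶ z), ∀ t ∈ T, ∃ c : tgt t ⟶ z, u t ≫ c = h := by
  classical
  induction T using Finset.induction_on with
  | empty => exact ⟨k, 𝟙 k, by simp⟩
  | insert t T ht ih =>
    obtain ⟨z, h, hc⟩ := ih
    obtain ⟨z', c, d, hcd⟩ := h1 h (u t)
    refine ⟨z', h ≫ c, ?_⟩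
    intro t' ht'
    rcases Finset.mem_insert.mp ht' with rfl | ht'
    · exact ⟨d, hcd.symm⟩
    · obtain ⟨c', hc'⟩ := hc t' ht'
      exact ⟨c' ≫ c, by rw [← Category.assoc, hc']⟩

/-- Finitely many equalities in colimits, all at a common index, are witnessed by a common arrow. -/
theorem exists_common_eq
    (h1 : ∀ ⦃w x y : I⦄ (a : w ⟶ x) (b : w ⟶ y), ∃ (z : I) (c : x ⟶ z) (d : y ⟶ z), a ≫ c = b ≫ d)
    (h2 : ∀ ⦃x y : I⦄ (a b : x ⟶ y), ∃ (z : I) (c : y ⟶ z), a ≫ c = b ≫ c)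
    {ι : Type} (T : Finset ι) {k : I} (G : ι → (I ⥤ Type v)) (a b : ∀ t, (G t).obj k)
    (hab : ∀ t ∈ T, colimit.ι (G t) k (a t) = colimit.ι (G t) k (b t)) :
    ∃ (z : I) (h : k ⟶ z), ∀ t ∈ T, (G t).map h (a t) = (G t).map h (b t) := by
  classical
  have key : ∀ t, ∃ (kt : I) (u : k ⟶ kt), t ∈ T → (G t).map u (a t) = (G t).map u (b t) := by
    intro t
    by_cases ht : t ∈ T
    · obtain ⟨k', f, g, hfg⟩ := Groth.Agent.S6427.rel_of_eqvGen
        (fun _ _ _ f g => h1 f g) (G t) ⟨k, a t⟩ ⟨k, b t⟩ (Types.colimit_eq (hab t ht))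
      obtain ⟨z, c, hc⟩ := h2 f g
      refine ⟨z, f ≫ c, fun _ => ?_⟩
      have e1 : (G t).map (f ≫ c) (a t) = (G t).map c ((G t).map f (a t)) := by
        rw [Functor.map_comp]; rfl
      have e2 : (G t).map (g ≫ c) (b t) = (G t).map c ((G t).map g (b t)) := by
        rw [Functor.map_comp]; rfl
      rw [e1, hfg, ← e2, ← hc]
    · exact ⟨k, 𝟙 k, fun h => absurd h ht⟩
  choose tgt u hu using key
  obtain ⟨z, h, hc⟩ := exists_common h1 T tgt u
  refine ⟨z, h, fun t ht => ?_⟩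
  obtain ⟨c, hc⟩ := hc t ht
  have e1 : ∀ x : (G t).obj k, (G t).map h x = (G t).map c ((G t).map (u t) x) := by
    intro x
    rw [← hc, Functor.map_comp]; rfl
  rw [e1, e1, hu t ht]

/-- Two objects of `I` have a common target. -/
def CT (i i' : I) : Prop := ∃ (k : I), Nonempty (i ⟶ k) ∧ Nonempty (i' ⟶ k)

theorem CT.refl (i : I) : CT i i := ⟨i, ⟨𝟙 i⟩, ⟨𝟙 i⟩⟩

theorem CT.symm {i i' : I} (h : CT i i') : CT i' i := by
  obtain ⟨k, h1, h2⟩ := h
  exact ⟨k, h2, h1⟩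

theorem CT.trans
    (h1 : ∀ ⦃w x y : I⦄ (a : w ⟶ x) (b : w ⟶ y), ∃ (z : I) (c : x ⟶ z) (d : y ⟶ z), a ≫ c = b ≫ d)
    {i i' i'' : I} (h : CT i i') (h' : CT i' i'') : CT i i'' := by
  obtain ⟨k, ⟨f⟩, ⟨g⟩⟩ := h
  obtain ⟨k', ⟨f'⟩, ⟨g'⟩⟩ := h'
  obtain ⟨z, c, d, -⟩ := h1 g f'
  exact ⟨z, ⟨f ≫ c⟩, ⟨g' ≫ d⟩⟩

/-- Finitely many objects each having a common target with a fixed one have a common target. -/
theorem exists_common_target
    (h1 : ∀ ⦃w x y : I⦄ (a : w ⟶ x) (b : w ⟶ y), ∃ (z : I) (c : x ⟶ z) (d : y ⟶ z), a ≫ c = b ≫ d)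
    {ι : Type} (T : Finset ι) (i₀ : I) (obj : ι → I) (hct : ∀ t ∈ T, CT (obj t) i₀) :
    ∃ (k : I), Nonempty (i₀ ⟶ k) ∧ ∀ t ∈ T, Nonempty (obj t ⟶ k) := by
  classical
  induction T using Finset.induction_on with
  | empty => exact ⟨i₀, ⟨𝟙 _⟩, by simp⟩
  | insert t T ht ih =>
    obtain ⟨k, ⟨w⟩, hk⟩ := ih (fun t' ht' => hct t' (Finset.mem_insert_of_mem ht'))
    obtain ⟨m, ⟨f⟩, ⟨g⟩⟩ := hct t (Finset.mem_insert_self _ _)
    obtain ⟨z, c, d, -⟩ := h1 w g
    refine ⟨z, ⟨w ≫ c⟩, ?_⟩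
    intro t' ht'
    rcases Finset.mem_insert.mp ht' with rfl | ht'
    · exact ⟨f ≫ d⟩
    · obtain ⟨u⟩ := hk t' ht'
      exact ⟨u ≫ c⟩

end Helpers


section Main

variable {I : Type v} [SmallCategory I] {J : Type} [SmallCategory J]

/-- The pointwise limit of `K`: sections at each index. -/
noncomputable def P (K : J ⥤ I ⥤ Type v) : I ⥤ Type v := K.flip ⋙ Functor.sectionsFunctor J

theorem P_map_val (K : J ⥤ I ⥤ Type v) {i i' : I} (f : i ⟶ i') (s : (P K).obj i) (j : J) :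
    ((P K).map f s).1 j = (K.obj j).map f (s.1 j) := rfl

/-- The pointwise limit cone. -/
noncomputable def cone (K : J ⥤ I ⥤ Type v) : Cone K where
  pt := P K
  π :=
    { app := fun j =>
        { app := fun i => ↾fun s => s.1 j
          naturality := fun i i' f => by
            ext s
            rfl }
      naturality := fun j j' φ => by
        ext i s
        exact (s.2 φ).symm }

theorem cone_π_app_app (K : J ⥤ I ⥤ Type v) (j : J) (i : I) (s : (P K).obj i) :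
    ((cone K).π.app j).app i s = s.1 j := rfl

noncomputable def coneIsLimit (K : J ⥤ I ⥤ Type v) : IsLimit (cone K) :=
  evaluationJointlyReflectsLimits _ (fun i => Nonempty.some ((Types.isLimit_iff _).mpr
    (fun s hs => ⟨⟨s, hs⟩, fun j => rfl, fun y hy => Subtype.ext (funext hy)⟩)))

theorem colimMap_π_ι (K : J ⥤ I ⥤ Type v) (j : J) (i : I) (s : (P K).obj i) :
    colimMap ((cone K).π.app j) (colimit.ι (P K) i s) = colimit.ι (K.obj j) i (s.1 j) :=
  colimit.ι_map_apply (carrier := fun X => X) ((cone K).π.app j) i s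

theorem inj
    (h1 : ∀ ⦃w x y : I⦄ (a : w ⟶ x) (b : w ⟶ y), ∃ (z : I) (c : x ⟶ z) (d : y ⟶ z), a ≫ c = b ≫ d)
    (h2 : ∀ ⦃x y : I⦄ (a b : x ⟶ y), ∃ (z : I) (c : y ⟶ z), a ≫ c = b ≫ c)
    [FinCategory J] [Nonempty J] (K : J ⥤ I ⥤ Type v) (x y : colimit (P K))
    (hxy : ∀ j, colimMap ((cone K).π.app j) x = colimMap ((cone K).π.app j) y) : x = y := by
  obtain ⟨i, s, rfl⟩ := Types.jointly_surjective' x
  obtain ⟨i', s', rfl⟩ := Types.jointly_surjective' y
  simp only [colimMap_π_ι] at hxy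
  obtain ⟨j₀⟩ := ‹Nonempty J›
  obtain ⟨k, f, g, hfg⟩ := Groth.Agent.S6427.rel_of_eqvGen (fun _ _ _ f g => h1 f g)
    (K.obj j₀) ⟨i, s.1 j₀⟩ ⟨i', s'.1 j₀⟩ (Types.colimit_eq (hxy j₀))
  have hx : colimit.ι (P K) i s = colimit.ι (P K) k ((P K).map f s) := Types.colimit_sound f rfl
  have hy : colimit.ι (P K) i' s' = colimit.ι (P K) k ((P K).map g s') := Types.colimit_sound g rfl
  rw [hx, hy]
  have hj : ∀ j ∈ (Finset.univ : Finset J),
      colimit.ι (K.obj j) k (((P K).map f s).1 j) = colimit.ι (K.obj j) k (((P K).map g s').1 j) := by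
    intro j _
    rw [P_map_val, P_map_val]
    have e1 : colimit.ι (K.obj j) i (s.1 j) = colimit.ι (K.obj j) k ((K.obj j).map f (s.1 j)) :=
      Types.colimit_sound f rfl
    have e2 : colimit.ι (K.obj j) i' (s'.1 j) = colimit.ι (K.obj j) k ((K.obj j).map g (s'.1 j)) :=
      Types.colimit_sound g rfl
    rw [← e1, ← e2]
    exact hxy j
  obtain ⟨z, h, hz⟩ := exists_common_eq h1 h2 (Finset.univ : Finset J) (fun j => K.obj j)
    (fun j => ((P K).map f s).1 j) (fun j => ((P K).map g s').1 j) hj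
  apply Types.colimit_sound' h h
  apply Subtype.ext
  funext j
  rw [P_map_val, P_map_val]
  exact hz j (Finset.mem_univ j)

theorem surj
    (h1 : ∀ ⦃w x y : I⦄ (a : w ⟶ x) (b : w ⟶ y), ∃ (z : I) (c : x ⟶ z) (d : y ⟶ z), a ≫ c = b ≫ d)
    (h2 : ∀ ⦃x y : I⦄ (a b : x ⟶ y), ∃ (z : I) (c : y ⟶ z), a ≫ c = b ≫ c)
    [FinCategory J] [IsConnected J] (K : J ⥤ I ⥤ Type v) (σ : ∀ j, colimit (K.obj j))
    (hσ : ∀ {j j' : J} (φ : j ⟶ j'), colimMap (K.map φ) (σ j) = σ j') :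
    ∃ x : colimit (P K), ∀ j, colimMap ((cone K).π.app j) x = σ j := by
  classical
  have hrep : ∀ j, ∃ (i : I) (a : (K.obj j).obj i), colimit.ι (K.obj j) i a = σ j :=
    fun j => Types.jointly_surjective' (σ j)
  choose idx a ha using hrep
  obtain ⟨j₀⟩ : Nonempty J := IsConnected.is_nonempty
  have hct : ∀ j, CT (idx j) (idx j₀) := by
    apply induct_on_objects {j | CT (idx j) (idx j₀)} (CT.refl _)
    intro j₁ j₂ φ
    have hrel : CT (idx j₁) (idx j₂) := by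
      have := hσ φ
      rw [← ha j₁, ← ha j₂, colimit.ι_map_apply (carrier := fun X => X)] at this
      obtain ⟨k, f, g, -⟩ := Groth.Agent.S6427.rel_of_eqvGen (fun _ _ _ f g => h1 f g)
        (K.obj j₂) ⟨idx j₁, _⟩ ⟨idx j₂, _⟩ (Types.colimit_eq this)
      exact ⟨k, ⟨f⟩, ⟨g⟩⟩
    constructor
    · intro h; exact CT.trans h1 hrel.symm h
    · intro h; exact CT.trans h1 hrel h
  obtain ⟨k, -, hk⟩ := exists_common_target h1 (Finset.univ : Finset J) (idx j₀) idx
    (fun j _ => hct j)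
  have hk' : ∀ j, Nonempty (idx j ⟶ k) := fun j => hk j (Finset.mem_univ j)
  let u : ∀ j, idx j ⟶ k := fun j => (hk' j).some
  let b : ∀ j, (K.obj j).obj k := fun j => (K.obj j).map (u j) (a j)
  have hb : ∀ j, colimit.ι (K.obj j) k (b j) = σ j := fun j => by
    rw [← ha j]
    exact (Types.colimit_sound (u j) rfl).symm
  obtain ⟨z, h, hz⟩ := exists_common_eq h1 h2
    (Finset.univ : Finset (Σ (j : J) (j' : J), (j ⟶ j'))) (fun φ => K.obj φ.2.1)
    (fun φ => (K.map φ.2.2).app k (b φ.1)) (fun φ => b φ.2.1) (by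
      intro φ _
      rw [← colimit.ι_map_apply (carrier := fun X => X), hb, hσ, hb])
  have hsec : (fun j => (K.obj j).map h (b j)) ∈ (K.flip.obj z).sections := by
    intro j j' φ
    have := hz ⟨j, j', φ⟩ (Finset.mem_univ _)
    show (K.map φ).app z ((K.obj j).map h (b j)) = (K.obj j').map h (b j')
    refine Eq.trans ?_ this
    exact NatTrans.naturality_apply (K.map φ) h (b j)
  refine ⟨colimit.ι (P K) z ⟨_, hsec⟩, fun j => ?_⟩
  rw [colimMap_π_ι, ← hb j]
  exact (Types.colimit_sound h rfl).symm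

theorem main
    (h1 : ∀ ⦃w x y : I⦄ (a : w ⟶ x) (b : w ⟶ y), ∃ (z : I) (c : x ⟶ z) (d : y ⟶ z), a ≫ c = b ≫ d)
    (h2 : ∀ ⦃x y : I⦄ (a b : x ⟶ y), ∃ (z : I) (c : y ⟶ z), a ≫ c = b ≫ c)
    [FinCategory J] [IsConnected J] (K : J ⥤ I ⥤ Type v) :
    PreservesLimit K (colim : (I ⥤ Type v) ⥤ Type v) := by
  apply preservesLimit_of_preserves_limit_cone (coneIsLimit K)
  refine Nonempty.some ((Types.isLimit_iff _).mpr ?_)
  intro σ hσ
  haveI : Nonempty J := IsConnected.is_nonempty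
  obtain ⟨x, hx⟩ := surj h1 h2 K σ (fun φ => hσ φ)
  refine ⟨x, hx, ?_⟩
  intro y hy
  apply inj h1 h2 K
  intro j
  exact (hy j).trans (hx j).symm

end Main


/-- Over an index category in which spans can be completed to commutative squares and parallel pairs can
be coequalized (a disjoint union of filtered categories), colimits of sets commute with finite
connected limits. -/
theorem result {I : Type v} [SmallCategory I]
    (h1 : ∀ ⦃w x y : I⦄ (a : w ⟶ x) (b : w ⟶ y), ∃ (z : I) (c : x ⟶ z) (d : y ⟶ z), a ≫ c = b ≫ d)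
    (h2 : ∀ ⦃x y : I⦄ (a b : x ⟶ y), ∃ (z : I) (c : y ⟶ z), a ≫ c = b ≫ c)
    (J : Type) [SmallCategory J] [FinCategory J] [IsConnected J] :
    PreservesLimitsOfShape J (colim : (I ⥤ Type v) ⥤ Type v) := by
  exact ⟨fun {K} => main h1 h2 K⟩

end Groth.Agent.S6437
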