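import Groth.Statements.S6438
import Mathlib.CategoryTheory.Limits.Shapes.FiniteMultiequalizer
import Mathlib.CategoryTheory.Limits.IsConnected
import Mathlib.Data.Fintype.EquivFin
-- import your own Groth.Agent.* helpers here

set_option autoImplicit false
set_option linter.unusedVariables false
set_option linter.style.haveILetI false
set_option linter.unusedSimpArgs false
open CategoryTheory
universe v u
open CatLim

namespace Groth.Agent.S6438

open Limits


theorem auxA {C : Type*} [Category C] {x a b c : C} (ψ : x ⟶ a) (h : a = b) (h' : b = a)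
    (g : a ⟶ c) : (ψ ≫ eqToHom h) ≫ (eqToHom h' ≫ g) = ψ ≫ g := by
  subst h; simp

theorem auxB {C : Type*} [Category C] {x a b : C} (f : x ⟶ a) (h : a = b) (h' : b = a) :
    (f ≫ eqToHom h) ≫ eqToHom h' = f := by
  subst h; simp

section Construction

variable {I : Type u} [Category.{v} I] {n m : ℕ} (eI : I ≃ Fin n) (src tgt : Fin m → I)
  (arr : ∀ j, src j ⟶ tgt j)

/-- The shape: one left vertex per object, one right vertex per generator. -/
abbrev shape : MulticospanShape where
  L := Fin n
  R := Fin m
  fst j := eI (src j)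
  snd j := eI (tgt j)

/-- The diagram: a generator `f : a ⟶ b` becomes `a ⟶ b ⟵ b` with legs `f` and `𝟙 b`. -/
def index : MulticospanIndex (shape eI src tgt) I where
  left i := eI.symm i
  right j := tgt j
  fst j := eqToHom (eI.symm_apply_apply _) ≫ arr j
  snd j := eqToHom (eI.symm_apply_apply _)

abbrev JJ : Type := WalkingMulticospan (shape eI src tgt)

/-- The functor from the finite subdivision category. -/
def FF : JJ eI src tgt ⥤ I := (index eI src tgt arr).multicospan

/-- The left vertex of an object. -/
abbrev Lv (a : I) : JJ eI src tgt := WalkingMulticospan.left (eI a)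

theorem FF_obj_Lv (a : I) : (FF eI src tgt arr).obj (Lv eI src tgt a) = a :=
  eI.symm_apply_apply a

theorem FF_map_fst (j : Fin m) :
    (FF eI src tgt arr).map (WalkingMulticospan.Hom.fst (J := shape eI src tgt) j) =
      eqToHom (eI.symm_apply_apply _) ≫ arr j := rfl

theorem FF_map_snd (j : Fin m) :
    (FF eI src tgt arr).map (WalkingMulticospan.Hom.snd (J := shape eI src tgt) j) =
      eqToHom (eI.symm_apply_apply _) := rfl

/-- An object of the structured arrow category at a left vertex. -/
def mkL (x a : I) (ψ : x ⟶ a) : StructuredArrow x (FF eI src tgt arr) :=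
  StructuredArrow.mk (Y := Lv eI src tgt a) (ψ ≫ eqToHom (FF_obj_Lv eI src tgt arr a).symm)

/-- The morphism property: postcomposition with `φ` stays in the same zigzag class. -/
def PF (x : I) : MorphismProperty I := fun a b φ =>
  ∀ ψ : x ⟶ a, Zigzag (mkL eI src tgt arr x a ψ) (mkL eI src tgt arr x b (ψ ≫ φ))

theorem PF_mult (x : I) : (PF eI src tgt arr x).IsMultiplicative where
  id_mem a := by
    intro ψ
    rw [Category.comp_id]
  comp_mem f g hf hg := by
    intro ψ
    have := hg (ψ ≫ f)
    rw [Category.assoc] at this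
    exact (hf ψ).trans this

theorem PF_gen (x : I) (j : Fin m) : PF eI src tgt arr x (arr j) := by
  intro ψ
  let mid : StructuredArrow x (FF eI src tgt arr) :=
    StructuredArrow.mk (Y := (WalkingMulticospan.right j : JJ eI src tgt))
      (show x ⟶ (FF eI src tgt arr).obj (WalkingMulticospan.right j) from ψ ≫ arr j)
  let a1 : mkL eI src tgt arr x (src j) ψ ⟶ mid :=
    StructuredArrow.homMk (WalkingMulticospan.Hom.fst (J := shape eI src tgt) j)
      (auxA ψ _ (eI.symm_apply_apply (src j)) (arr j))
  let a2 : mkL eI src tgt arr x (tgt j) (ψ ≫ arr j) ⟶ mid :=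
    StructuredArrow.homMk (WalkingMulticospan.Hom.snd (J := shape eI src tgt) j)
      (auxB (ψ ≫ arr j) _ (eI.symm_apply_apply (tgt j)))
  exact (Zigzag.of_hom a1).trans (Zigzag.of_inv a2)

theorem final_FF
    (hgen : ∀ P : MorphismProperty I, P.IsMultiplicative → (∀ j, P (arr j)) → P = ⊤) :
    (FF eI src tgt arr).Final := by
  constructor
  intro x
  have hP : PF eI src tgt arr x = ⊤ :=
    hgen _ (PF_mult eI src tgt arr x) (PF_gen eI src tgt arr x)
  have hL : ∀ (a : I) (ψ : x ⟶ a),
      Zigzag (mkL eI src tgt arr x x (𝟙 x)) (mkL eI src tgt arr x a ψ) := by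
    intro a ψ
    have h1 : PF eI src tgt arr x ψ := by rw [hP]; trivial
    have := h1 (𝟙 x)
    rwa [Category.id_comp] at this
  haveI : Nonempty (StructuredArrow x (FF eI src tgt arr)) := ⟨mkL eI src tgt arr x x (𝟙 x)⟩
  apply zigzag_isConnected
  suffices h : ∀ X, Zigzag (mkL eI src tgt arr x x (𝟙 x)) X from fun X Y => (h X).symm.trans (h Y)
  intro X
  obtain ⟨⟨⟨⟩⟩, Y, f⟩ := X
  cases Y with
  | left i =>
    obtain ⟨a, rfl⟩ : ∃ a, i = eI a := ⟨eI.symm i, by simp⟩
    have := hL a (f ≫ eqToHom (FF_obj_Lv eI src tgt arr a))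
    convert this using 1
    simp [mkL, StructuredArrow.mk]
  | right j =>
    have h1 := hL (tgt j) f
    let X' : StructuredArrow x (FF eI src tgt arr) :=
      StructuredArrow.mk (Y := (WalkingMulticospan.right j : JJ eI src tgt)) f
    let a2 : mkL eI src tgt arr x (tgt j) f ⟶ X' :=
      StructuredArrow.homMk (WalkingMulticospan.Hom.snd (J := shape eI src tgt) j)
        (auxB f _ (eI.symm_apply_apply (tgt j)))
    exact h1.trans (Zigzag.of_hom a2)

/-- An object of the costructured arrow category at a left vertex. -/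
def mkL' (x a : I) (ψ : a ⟶ x) : CostructuredArrow (FF eI src tgt arr) x :=
  CostructuredArrow.mk (Y := Lv eI src tgt a) (eqToHom (FF_obj_Lv eI src tgt arr a) ≫ ψ)

def PI (x : I) : MorphismProperty I := fun a b φ =>
  ∀ ψ : b ⟶ x, Zigzag (mkL' eI src tgt arr x a (φ ≫ ψ)) (mkL' eI src tgt arr x b ψ)

theorem PI_mult (x : I) : (PI eI src tgt arr x).IsMultiplicative where
  id_mem a := by
    intro ψ
    rw [Category.id_comp]
  comp_mem f g hf hg := by
    intro ψ
    have := hf (g ≫ ψ)
    rw [← Category.assoc] at this
    exact this.trans (hg ψ)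

theorem PI_gen (x : I) (j : Fin m) : PI eI src tgt arr x (arr j) := by
  intro ψ
  let mid : CostructuredArrow (FF eI src tgt arr) x :=
    CostructuredArrow.mk (Y := (WalkingMulticospan.right j : JJ eI src tgt))
      (show (FF eI src tgt arr).obj (WalkingMulticospan.right j) ⟶ x from ψ)
  let a1 : mkL' eI src tgt arr x (src j) (arr j ≫ ψ) ⟶ mid :=
    CostructuredArrow.homMk (WalkingMulticospan.Hom.fst (J := shape eI src tgt) j)
      (Category.assoc _ _ _)
  let a2 : mkL' eI src tgt arr x (tgt j) ψ ⟶ mid :=
    CostructuredArrow.homMk (WalkingMulticospan.Hom.snd (J := shape eI src tgt) j) rfl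
  exact (Zigzag.of_hom a1).trans (Zigzag.of_inv a2)

theorem initial_FF
    (hgen : ∀ P : MorphismProperty I, P.IsMultiplicative → (∀ j, P (arr j)) → P = ⊤) :
    (FF eI src tgt arr).Initial := by
  constructor
  intro x
  have hP : PI eI src tgt arr x = ⊤ :=
    hgen _ (PI_mult eI src tgt arr x) (PI_gen eI src tgt arr x)
  have hL : ∀ (a : I) (ψ : a ⟶ x),
      Zigzag (mkL' eI src tgt arr x a ψ) (mkL' eI src tgt arr x x (𝟙 x)) := by
    intro a ψ
    have h1 : PI eI src tgt arr x ψ := by rw [hP]; trivial
    have := h1 (𝟙 x)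
    rwa [Category.comp_id] at this
  haveI : Nonempty (CostructuredArrow (FF eI src tgt arr) x) :=
    ⟨mkL' eI src tgt arr x x (𝟙 x)⟩
  apply zigzag_isConnected
  suffices h : ∀ X, Zigzag X (mkL' eI src tgt arr x x (𝟙 x)) from
    fun X Y => (h X).trans (h Y).symm
  intro X
  obtain ⟨Y, ⟨⟨⟩⟩, f⟩ := X
  cases Y with
  | left i =>
    obtain ⟨a, rfl⟩ : ∃ a, i = eI a := ⟨eI.symm i, by simp⟩
    have := hL a (eqToHom (FF_obj_Lv eI src tgt arr a).symm ≫ f)
    convert this using 1
    simp [mkL', CostructuredArrow.mk]
  | right j =>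
    have h1 := hL (tgt j) f
    let X' : CostructuredArrow (FF eI src tgt arr) x :=
      CostructuredArrow.mk (Y := (WalkingMulticospan.right j : JJ eI src tgt)) f
    let a2 : mkL' eI src tgt arr x (tgt j) f ⟶ X' :=
      CostructuredArrow.homMk (WalkingMulticospan.Hom.snd (J := shape eI src tgt) j) rfl
    exact (Zigzag.of_inv a2).trans h1

end Construction


/-- A category with finitely many objects whose morphisms are generated under composition by finitely
many of them receives a functor from a finite category which is both final and initial, the finite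
category being connected (resp. nonempty) exactly when the given one is. (The published statement
says that limits and colimits of every diagram are computed after restriction along the functor;
this is expressed here through finality and initiality.) -/
theorem result {I : Type u} [Category.{v} I] [Finite I]
    (gen : Finset (Σ x y : I, x ⟶ y))
    (hgen : ∀ P : MorphismProperty I, P.IsMultiplicative → (∀ a ∈ gen, P a.2.2) → P = ⊤) :
    ∃ (J : Type) (_ : SmallCategory J) (_ : FinCategory J) (F : J ⥤ I),
      F.Final ∧ F.Initial ∧ (IsConnected J ↔ IsConnected I) ∧ (Nonempty J ↔ Nonempty I) := by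
  classical
  obtain ⟨n, ⟨eI⟩⟩ := Finite.exists_equiv_fin I
  let eg : {a // a ∈ gen} ≃ Fin gen.card := gen.equivFin
  let src : Fin gen.card → I := fun j => (eg.symm j).1.1
  let tgt : Fin gen.card → I := fun j => (eg.symm j).1.2.1
  let arr : ∀ j, src j ⟶ tgt j := fun j => (eg.symm j).1.2.2
  have hgen' : ∀ P : MorphismProperty I, P.IsMultiplicative → (∀ j, P (arr j)) → P = ⊤ := by
    intro P hP h
    apply hgen P hP
    intro a ha
    obtain ⟨j, rfl⟩ : ∃ j, a = (eg.symm j).1 := ⟨eg ⟨a, ha⟩, by simp⟩
    exact h j
  haveI hfin := final_FF eI src tgt arr hgen'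
  refine ⟨JJ eI src tgt, inferInstance, inferInstance, FF eI src tgt arr, hfin,
    initial_FF eI src tgt arr hgen', Functor.isConnected_iff_of_final (FF eI src tgt arr), ?_⟩
  constructor
  · rintro ⟨X⟩
    exact ⟨(FF eI src tgt arr).obj X⟩
  · rintro ⟨a⟩
    exact ⟨Lv eI src tgt a⟩

end Groth.Agent.S6438
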