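import Groth.Statements.S6439
-- import your own Groth.Agent.* helpers here

set_option autoImplicit false
open CategoryTheory
universe v u
open FibCat

namespace Groth.Agent.S6439

section helpers

open Bicategory

universe w₁ v₁ u₁

variable {B : Type u₁} [Bicategory.{w₁, v₁} B] {a b : B}

/-- precomposition with an invertible 1-morphism is an equivalence of hom categories -/
noncomputable def precompEquiv (c : B) (f : a ⟶ b) (g : b ⟶ a) (η : f ≫ g ≅ 𝟙 a)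
    (ε : g ≫ f ≅ 𝟙 b) : (b ⟶ c) ≌ (a ⟶ c) :=
  CategoryTheory.Equivalence.mk (precomp c f) (precomp c g)
    ((leftUnitorNatIso b c).symm ≪≫ ((precomposing b b c).mapIso ε.symm) ≪≫
      associatorNatIsoRight g f c)
    ((associatorNatIsoRight f g c).symm ≪≫ (precomposing a a c).mapIso η ≪≫
      leftUnitorNatIso a c)

/-- postcomposition with an invertible 1-morphism is an equivalence of hom categories -/
noncomputable def postcompEquiv (x : B) (f : a ⟶ b) (g : b ⟶ a) (η : f ≫ g ≅ 𝟙 a)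
    (ε : g ≫ f ≅ 𝟙 b) : (x ⟶ a) ≌ (x ⟶ b) :=
  CategoryTheory.Equivalence.mk (postcomp x f) (postcomp x g)
    ((rightUnitorNatIso x a).symm ≪≫ ((postcomposing x a a).mapIso η.symm) ≪≫
      (associatorNatIsoLeft x f g).symm)
    (associatorNatIsoLeft x g f ≪≫ (postcomposing x b b).mapIso ε ≪≫
      rightUnitorNatIso x b)

end helpers

/-- For categories fibred in groupoids over `C` and equivalences `φ : 𝒮₁ ⟶ 𝒮₂`, `ψ : 𝒮₃ ⟶ 𝒮₄` over `C`,
the functor `α ↦ ψ ∘ α ∘ φ` between the categories of functors over `C` is an equivalence of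
categories. -/
theorem result {C : Type u} [Category.{v} C] {𝒮₁ 𝒮₂ 𝒮₃ 𝒮₄ : BasedCategory.{v, max u v} C}
    (h₁ : FibCat.IsFibGrpd 𝒮₁.p) (h₂ : FibCat.IsFibGrpd 𝒮₂.p) (h₃ : FibCat.IsFibGrpd 𝒮₃.p) (h₄ : FibCat.IsFibGrpd 𝒮₄.p)
    (φ : 𝒮₁ ⟶ 𝒮₂) (ψ : 𝒮₃ ⟶ 𝒮₄) (hφ : FibCat.IsEquivOver φ) (hψ : FibCat.IsEquivOver ψ) :
    (Bicategory.precomp 𝒮₃ φ ⋙ Bicategory.postcomp 𝒮₁ ψ).IsEquivalence := by
  obtain ⟨G, ⟨η⟩, ⟨ε⟩⟩ := hφ
  obtain ⟨G', ⟨η'⟩, ⟨ε'⟩⟩ := hψ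
  have h1 : (Bicategory.precomp 𝒮₃ φ).IsEquivalence :=
    (precompEquiv 𝒮₃ φ G η ε).isEquivalence_functor
  have h2 : (Bicategory.postcomp 𝒮₁ ψ).IsEquivalence :=
    (postcompEquiv 𝒮₁ ψ G' η' ε').isEquivalence_functor
  infer_instance

end Groth.Agent.S6439
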