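import Groth.Statements.S6441

set_option autoImplicit false
open CategoryTheory CategoryTheory.Limits Opposite
universe u
open SiteMisc

namespace Groth.Agent.S6441

section Aux

variable {C D : Type u} [SmallCategory C] [SmallCategory D]
    (J : GrothendieckTopology C) (K : GrothendieckTopology D) (u : C ⥤ D)

/-- A sheaf of sets has exactly one section over an object covered by the empty sieve. -/
theorem sheaf_unique_of_bot_mem (F : Sheaf K (Type u)) {V : D} (hV : (⊥ : Sieve V) ∈ K V)
    (s t : F.obj.obj (op V)) : s = t := by
  have hF := (isSheaf_iff_isSheaf_of_type K F.obj).1 F.property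
  exact (hF.isSeparated _ hV).ext (fun W f hf => hf.elim)

/-- For an almost cocontinuous functor `u`, a morphism of presheaves on `D` which is locally bijective and whose source
and target have at most one section on sheaf-theoretically empty objects restricts to a locally injective morphism. -/
theorem isLocallyInjective_whiskerLeft (hu : BigSite.IsAlmostCocontinuous u J K) {G G' : Dᵒᵖ ⥤ Type u}
    (φ : G ⟶ G') [Presheaf.IsLocallyInjective K φ]
    (hG : ∀ V : D, (⊥ : Sieve V) ∈ K V → ∀ s t : G.obj (op V), s = t) :
    Presheaf.IsLocallyInjective J (Functor.whiskerLeft u.op φ) where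
  equalizerSieve_mem {X} x y h := by
    have hR : Presheaf.equalizerSieve (F := G) (X := op (u.obj X.unop)) x y ∈ K (u.obj X.unop) :=
      Presheaf.equalizerSieve_mem K φ (X := op (u.obj X.unop)) x y h
    obtain ⟨R', hR', hR'2⟩ := hu X.unop _ hR
    refine J.superset_covering ?_ hR'
    intro V g hg
    rcases hR'2 g hg with hbot | hmem
    · exact hG _ hbot _ _
    · exact hmem

theorem isLocallySurjective_whiskerLeft (hu : BigSite.IsAlmostCocontinuous u J K) {G G' : Dᵒᵖ ⥤ Type u}
    (φ : G ⟶ G') [Presheaf.IsLocallySurjective K φ]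
    (hG : ∀ V : D, (⊥ : Sieve V) ∈ K V → Nonempty (G.obj (op V)))
    (hG' : ∀ V : D, (⊥ : Sieve V) ∈ K V → ∀ s t : G'.obj (op V), s = t) :
    Presheaf.IsLocallySurjective J (Functor.whiskerLeft u.op φ) where
  imageSieve_mem {X} s := by
    have hR : Presheaf.imageSieve φ (U := u.obj X) s ∈ K (u.obj X) :=
      Presheaf.imageSieve_mem K φ s
    obtain ⟨R', hR', hR'2⟩ := hu X _ hR
    refine J.superset_covering ?_ hR'
    intro V g hg
    rcases hR'2 g hg with hbot | hmem
    · obtain ⟨t⟩ := hG _ hbot
      exact ⟨t, hG' _ hbot _ _⟩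
    · exact hmem


theorem isIso_homEquiv_symm_of_locallyBijective {P : Cᵒᵖ ⥤ Type u} {F : Sheaf J (Type u)}
    (ψ : P ⟶ (sheafToPresheaf J (Type u)).obj F) (h1 : Presheaf.IsLocallyInjective J ψ)
    (h2 : Presheaf.IsLocallySurjective J ψ) :
    IsIso (((sheafificationAdjunction J (Type u)).homEquiv P F).symm ψ) := by
  have hW : J.W ψ := J.W_of_isLocallyBijective _
  have hiso : IsIso ((presheafToSheaf J (Type u)).map ψ) := (J.W_iff _).1 hW
  rw [Adjunction.homEquiv_counit]
  infer_instance

end Aux

/-- For a continuous and almost cocontinuous functor `u` between small sites and a presheaf of sets `G`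
taking singleton values on sheaf theoretically empty objects, sheafification commutes with `u^p`:
the canonical comparison `(u^p G)^# ⟶ u^p(G^#)` is an isomorphism. -/
theorem result {C D : Type u} [SmallCategory C] [SmallCategory D]
    (J : GrothendieckTopology C) (K : GrothendieckTopology D) (u : C ⥤ D) [u.IsContinuous J K]
    (hu : BigSite.IsAlmostCocontinuous u J K) (G : Dᵒᵖ ⥤ Type u)
    (hG : ∀ V : D, (⊥ : Sieve V) ∈ K V → Nonempty (Unique (G.obj (op V)))) :
    IsIso (((sheafificationAdjunction J (Type u)).homEquiv (u.op ⋙ G)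
      ((u.sheafPushforwardContinuous (Type u) J K).obj ((presheafToSheaf K (Type u)).obj G))).symm
        (Functor.whiskerLeft u.op (toSheafify K G))) := by
  have h1 : Presheaf.IsLocallyInjective J (Functor.whiskerLeft u.op (toSheafify K G)) :=
    isLocallyInjective_whiskerLeft J K u hu (toSheafify K G) (fun V hV s t => by
      obtain ⟨h⟩ := hG V hV
      exact (h.uniq s).trans (h.uniq t).symm)
  have h2 : Presheaf.IsLocallySurjective J (Functor.whiskerLeft u.op (toSheafify K G)) :=
    isLocallySurjective_whiskerLeft J K u hu (toSheafify K G) (fun V hV => by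
      obtain ⟨h⟩ := hG V hV
      exact ⟨h.default⟩)
      (fun V hV s t => sheaf_unique_of_bot_mem K ((presheafToSheaf K (Type u)).obj G) hV s t)
  exact isIso_homEquiv_symm_of_locallyBijective J
    (F := (u.sheafPushforwardContinuous (Type u) J K).obj ((presheafToSheaf K (Type u)).obj G))
    (Functor.whiskerLeft u.op (toSheafify K G)) h1 h2

end Groth.Agent.S6441
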