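import Groth.Statements.S6440
import Groth.Agent.S6441

set_option autoImplicit false
open CategoryTheory CategoryTheory.Limits Opposite
universe u
open SiteMisc

namespace Groth.Agent.S6440

section Aux

variable {C D : Type u} [SmallCategory C] [SmallCategory D]
    (J : GrothendieckTopology C) (K : GrothendieckTopology D) (u : C ⥤ D)

/-- A sheaf of sets has a section over an object covered by the empty sieve. -/
theorem sheaf_nonempty_of_bot_mem (F : Sheaf K (Type u)) {V : D} (hV : (⊥ : Sieve V) ∈ K V) :
    Nonempty (F.obj.obj (op V)) := by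
  have hF := (isSheaf_iff_isSheaf_of_type K F.obj).1 F.property
  have h := hF _ hV
  let x : Presieve.FamilyOfElements F.obj (⊥ : Sieve V).arrows := fun W f hf => hf.elim
  have hx : x.Compatible := fun _ _ _ _ _ _ _ h₁ => h₁.elim
  obtain ⟨t, -, -⟩ := h x hx
  exact ⟨t⟩

/-- A connected colimit of presheaves that are sheaves has exactly one section over an object covered by the empty
sieve. -/
theorem unique_colimit_of_bot_mem {I : Type} [SmallCategory I] [IsConnected I] (F : I ⥤ Sheaf K (Type u))
    (E : Cocone (F ⋙ sheafToPresheaf K (Type u))) (hE : IsColimit E) {V : D}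
    (hV : (⊥ : Sieve V) ∈ K V) : Nonempty (Unique (E.pt.obj (op V))) := by
  have hEV : IsColimit (((evaluation Dᵒᵖ (Type u)).obj (op V)).mapCocone E) :=
    isColimitOfPreserves _ hE
  -- the canonical element for each `i`
  have hne : ∀ i : I, Nonempty ((F.obj i).obj.obj (op V)) := fun i => sheaf_nonempty_of_bot_mem K _ hV
  let φ : I → E.pt.obj (op V) := fun i => (E.ι.app i).app (op V) (hne i).some
  have hφ : ∀ (i j : I) (f : i ⟶ j), φ i = φ j := by
    intro i j f
    have h1 := congrFun (congrArg (fun α => α.app (op V)) (E.w f)) (hne i).some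
    have h2 : ((F.map f).hom.app (op V)) (hne i).some = (hne j).some :=
      Groth.Agent.S6441.sheaf_unique_of_bot_mem K _ hV _ _
    change (E.ι.app i).app (op V) (hne i).some = (E.ι.app j).app (op V) (hne j).some
    rw [← h2]
    exact h1.symm
  have hconst : ∀ i j : I, φ i = φ j := fun i j => constant_of_preserves_morphisms φ hφ i j
  obtain ⟨i₀⟩ : Nonempty I := IsConnected.is_nonempty
  refine ⟨⟨⟨φ i₀⟩, fun s => ?_⟩⟩
  obtain ⟨i, x, rfl⟩ := Types.jointly_surjective_of_isColimit hEV s
  have hx : x = (hne i).some := Groth.Agent.S6441.sheaf_unique_of_bot_mem K _ hV _ _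
  change (E.ι.app i).app (op V) x = φ i₀
  rw [hx]
  exact hconst i i₀

theorem toSheafify_comp_homEquiv_symm {P : Cᵒᵖ ⥤ Type u} {F : Sheaf J (Type u)}
    (ψ : P ⟶ (sheafToPresheaf J (Type u)).obj F) :
    toSheafify J P ≫ (((sheafificationAdjunction J (Type u)).homEquiv P F).symm ψ).hom = ψ := by
  have h := ((sheafificationAdjunction J (Type u)).homEquiv P F).apply_symm_apply ψ
  rw [Adjunction.homEquiv_unit] at h
  exact h

end Aux


/-- For a continuous and almost cocontinuous functor `u` between small sites, the functor `u^s` on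
sheaves of sets preserves finite connected colimits. -/
theorem result {C D : Type u} [SmallCategory C] [SmallCategory D]
    (J : GrothendieckTopology C) (K : GrothendieckTopology D) (u : C ⥤ D) [u.IsContinuous J K]
    (hu : BigSite.IsAlmostCocontinuous u J K) (I : Type) [SmallCategory I] [FinCategory I] [IsConnected I] :
    PreservesColimitsOfShape I (u.sheafPushforwardContinuous (Type u) J K) := by
  constructor
  intro F
  let E := colimit.cocone (F ⋙ sheafToPresheaf K (Type u))
  have hE : IsColimit E := colimit.isColimit _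
  apply preservesColimit_of_preserves_colimit_cocone (Sheaf.isColimitSheafifyCocone E hE)
  let E' : Cocone ((F ⋙ u.sheafPushforwardContinuous (Type u) J K) ⋙ sheafToPresheaf J (Type u)) :=
    ((Functor.whiskeringLeft _ _ (Type u)).obj u.op).mapCocone E
  have hE' : IsColimit E' := isColimitOfPreserves ((Functor.whiskeringLeft _ _ (Type u)).obj u.op) hE
  have h2 := Sheaf.isColimitSheafifyCocone E' hE'
  have hG := fun V hV => unique_colimit_of_bot_mem K F E hE (V := V) hV
  haveI hiso := Groth.Agent.S6441.result J K u hu E.pt hG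
  let c : (Sheaf.sheafifyCocone E').pt ⟶
      ((u.sheafPushforwardContinuous (Type u) J K).mapCocone (Sheaf.sheafifyCocone E)).pt :=
    ((sheafificationAdjunction J (Type u)).homEquiv (u.op ⋙ E.pt)
      ((u.sheafPushforwardContinuous (Type u) J K).obj ((presheafToSheaf K (Type u)).obj E.pt))).symm
        (Functor.whiskerLeft u.op (toSheafify K E.pt))
  haveI : IsIso c := hiso
  refine IsColimit.ofIsoColimit h2 (Cocone.ext (asIso c) ?_)
  intro i
  apply ObjectProperty.hom_ext
  change ((Sheaf.sheafifyCocone E').ι.app i).hom ≫ c.hom =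
    Functor.whiskerLeft u.op ((Sheaf.sheafifyCocone E).ι.app i).hom
  rw [Sheaf.sheafifyCocone_ι_app_val, Sheaf.sheafifyCocone_ι_app_val]
  have hc : toSheafify J E'.pt ≫ c.hom = Functor.whiskerLeft u.op (toSheafify K E.pt) :=
    toSheafify_comp_homEquiv_symm J
      (F := (u.sheafPushforwardContinuous (Type u) J K).obj ((presheafToSheaf K (Type u)).obj E.pt))
      (Functor.whiskerLeft u.op (toSheafify K E.pt))
  exact (Category.assoc _ _ _).trans ((congrArg (fun z => E'.ι.app i ≫ z) hc).trans rfl)

end Groth.Agent.S6440
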