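import Groth.Statements.S6443
import Groth.Agent.Lib.SliceFp

set_option autoImplicit false
open CategoryTheory
universe v u
open FibCat

namespace Groth.Agent.S6443

/-- If a category `𝒮` fibred in groupoids over `C` is represented by `X` via `j : 𝒮 ⟶ C/X` and by `X'`
via `j' : 𝒮 ⟶ C/X'` (equivalences over `C`), then there is an isomorphism `X' ≅ X` under which `j'`
becomes 2-isomorphic to `j` over `C`. -/
theorem result {C : Type u} [Category.{v} C] {𝒮 : BasedCategory.{v, max u v} C} (h𝒮 : FibCat.IsFibGrpd 𝒮.p)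
    {X X' : C} (j : 𝒮 ⥤ᵇ FibCat.overCat X) (j' : 𝒮 ⥤ᵇ FibCat.overCat X') (hj : FibCat.IsEquivOver j) (hj' : FibCat.IsEquivOver j') :
    ∃ e : X' ≅ X, Nonempty (BasedFunctor.comp j' (⟨Over.map e.hom, Over.mapForget_eq e.hom⟩ : FibCat.overCat X' ⥤ᵇ FibCat.overCat X) ≅ j) := by
  obtain ⟨k', ⟨η'⟩, ⟨ε'⟩⟩ := hj'
  obtain ⟨k, ⟨η⟩, ⟨ε⟩⟩ := hj
  let h : FibCat.overCat X' ⥤ᵇ FibCat.overCat X := BasedFunctor.comp k' j
  let h' : FibCat.overCat X ⥤ᵇ FibCat.overCat X' := BasedFunctor.comp k j'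
  let t : X' ⟶ X := Groth.Agent.Lib.SliceFp.overYonedaMor h
  let t' : X ⟶ X' := Groth.Agent.Lib.SliceFp.overYonedaMor h'
  -- `h ≫ h' ≅ 𝟭` and `h' ≫ h ≅ 𝟭`
  have iso1 : BasedFunctor.comp h h' ≅ BasedFunctor.id (FibCat.overCat X') :=
    Groth.Agent.Lib.FpEquiv.whiskerLeftIso k'
      (Groth.Agent.Lib.FpEquiv.whiskerRightIso η j' ≪≫ Groth.Agent.Lib.FpEquiv.idCompIso j') ≪≫ ε'
  have iso2 : BasedFunctor.comp h' h ≅ BasedFunctor.id (FibCat.overCat X) :=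
    Groth.Agent.Lib.FpEquiv.whiskerLeftIso k
      (Groth.Agent.Lib.FpEquiv.whiskerRightIso η' j ≪≫ Groth.Agent.Lib.FpEquiv.idCompIso j) ≪≫ ε
  have γ : h ≅ Groth.Agent.Lib.SliceFp.overMapB t := Groth.Agent.Lib.SliceFp.overYonedaIso h
  have γ' : h' ≅ Groth.Agent.Lib.SliceFp.overMapB t' := Groth.Agent.Lib.SliceFp.overYonedaIso h'
  have e1 : t ≫ t' = 𝟙 X' := by
    rw [← Groth.Agent.Lib.SliceFp.overYonedaMor_comp_overMapB t t',
      ← Groth.Agent.Lib.SliceFp.overYonedaMor_id (U := X')]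
    apply Groth.Agent.Lib.SliceFp.overYonedaMor_congr
    exact (Groth.Agent.Lib.FpEquiv.whiskerLeftIso _ γ'.symm ≪≫
      Groth.Agent.Lib.FpEquiv.whiskerRightIso γ.symm h' ≪≫ iso1).hom
  have e2 : t' ≫ t = 𝟙 X := by
    rw [← Groth.Agent.Lib.SliceFp.overYonedaMor_comp_overMapB t' t,
      ← Groth.Agent.Lib.SliceFp.overYonedaMor_id (U := X)]
    apply Groth.Agent.Lib.SliceFp.overYonedaMor_congr
    exact (Groth.Agent.Lib.FpEquiv.whiskerLeftIso _ γ.symm ≪≫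
      Groth.Agent.Lib.FpEquiv.whiskerRightIso γ'.symm h ≪≫ iso2).hom
  refine ⟨⟨t, t', e1, e2⟩, ⟨?_⟩⟩
  exact Groth.Agent.Lib.FpEquiv.whiskerLeftIso j' γ.symm ≪≫
    Groth.Agent.Lib.FpEquiv.whiskerRightIso η' j ≪≫ Groth.Agent.Lib.FpEquiv.idCompIso j

end Groth.Agent.S6443
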