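import Groth.Statements.S6444
-- import your own Groth.Agent.* helpers here

set_option autoImplicit false
open CategoryTheory
universe v u v' u'
open CatLoc

namespace Groth.Agent.S6444

/-- For a left multiplicative system, a commutative square in the localization between the images of two
morphisms `f, f'` of `C` lifts to a commutative diagram `X → X'' ← X'`, `Y → Y'' ← Y'` in `C` over a
third morphism `f''`, the backward arrows lying in `W`. -/
theorem result {C : Type u} [Category.{v} C] {D : Type u'} [Category.{v'} D] (W : MorphismProperty C) (L : C ⥤ D) [L.IsLocalization W] [W.HasLeftCalculusOfFractions]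
    {X Y X' Y' : C} (f : X ⟶ Y) (f' : X' ⟶ Y') (a : L.obj X ⟶ L.obj X') (b : L.obj Y ⟶ L.obj Y') (w : L.map f ≫ b = a ≫ L.map f') :
    ∃ (X'' Y'' : C) (f'' : X'' ⟶ Y'') (g : X ⟶ X'') (h : Y ⟶ Y'') (s : X' ⟶ X'') (t : Y' ⟶ Y''),
      W s ∧ W t ∧ f ≫ h = g ≫ f'' ∧ f' ≫ t = s ≫ f'' ∧ L.map g = a ≫ L.map s ∧ L.map h = b ≫ L.map t := by
  obtain ⟨α, hα⟩ := Localization.exists_leftFraction L W a
  obtain ⟨β, hβ⟩ := Localization.exists_leftFraction L W b
  have hα' : a ≫ L.map α.s = L.map α.f := by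
    rw [hα]; exact α.map_comp_map_s L (Localization.inverts L W)
  have hβ' : b ≫ L.map β.s = L.map β.f := by
    rw [hβ]; exact β.map_comp_map_s L (Localization.inverts L W)
  obtain ⟨ψ, hψ⟩ := (MorphismProperty.RightFraction.mk α.s α.hs f').exists_leftFraction
  have hψ' : f' ≫ ψ.s = α.s ≫ ψ.f := hψ
  obtain ⟨χ, hχ⟩ := (MorphismProperty.RightFraction.mk ψ.s ψ.hs β.s).exists_leftFraction
  have hχ' : β.s ≫ χ.s = ψ.s ≫ χ.f := hχ
  have ht₁ : W (β.s ≫ χ.s) := W.comp_mem _ _ β.hs χ.hs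
  have hb : b ≫ L.map (β.s ≫ χ.s) = L.map (β.f ≫ χ.s) := by
    rw [L.map_comp, ← Category.assoc, hβ', L.map_comp]
  have hsq : f' ≫ (β.s ≫ χ.s) = α.s ≫ (ψ.f ≫ χ.f) := by
    rw [hχ', ← Category.assoc, hψ', Category.assoc]
  have hL : L.map (f ≫ (β.f ≫ χ.s)) = L.map (α.f ≫ (ψ.f ≫ χ.f)) := by
    calc L.map (f ≫ (β.f ≫ χ.s)) = L.map f ≫ b ≫ L.map (β.s ≫ χ.s) := by
          rw [L.map_comp, hb]
      _ = a ≫ L.map (f' ≫ (β.s ≫ χ.s)) := by
          rw [← Category.assoc, w, Category.assoc, ← L.map_comp]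
      _ = (a ≫ L.map α.s) ≫ L.map (ψ.f ≫ χ.f) := by
          rw [hsq, L.map_comp, Category.assoc]
      _ = L.map (α.f ≫ (ψ.f ≫ χ.f)) := by
          rw [hα', ← L.map_comp]
  obtain ⟨Y₄, u, hu, hfu⟩ := (MorphismProperty.map_eq_iff_postcomp L W _ _).mp hL
  refine ⟨α.Y', Y₄, (ψ.f ≫ χ.f) ≫ u, α.f, (β.f ≫ χ.s) ≫ u, α.s, (β.s ≫ χ.s) ≫ u, α.hs,
    W.comp_mem _ _ ht₁ hu, ?_, ?_, hα'.symm, ?_⟩
  · rw [← Category.assoc, hfu, Category.assoc]
  · rw [← Category.assoc, hsq, Category.assoc]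
  · rw [L.map_comp, ← hb, Category.assoc, ← L.map_comp]

end Groth.Agent.S6444
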