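import Groth.Statements.S6447
-- import your own Groth.Agent.* helpers here

set_option autoImplicit false
open CategoryTheory CategoryTheory.Limits
universe v u
open FibCat

namespace Groth.Agent.S6447

section Helpers

open CategoricalPullback

variable {X Y V : Type u} [Category.{v} X] [Category.{v} Y] [Category.{v} V] (p : X ⥤ Y) (q : V ⥤ Y)

noncomputable abbrev ψ : CatCospanTransform (π₂ p q) (π₂ p q) p p :=
  ⟨π₁ p q, q, π₁ p q, ⟨(CatCommSq.iso (π₁ p q) (π₂ p q) p q).symm⟩, ⟨(CatCommSq.iso (π₁ p q) (π₂ p q) p q).symm⟩⟩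

noncomputable abbrev M : (π₂ p q) ⊡ (π₂ p q) ⥤ p ⊡ p := FibCat.categoricalPullbackMap (ψ p q)

noncomputable abbrev ΔU : p ⊡ q ⥤ (π₂ p q) ⊡ (π₂ p q) :=
  (CatCommSqOver.toFunctorToCategoricalPullback (π₂ p q) (π₂ p q) (p ⊡ q)).obj ⟨𝟭 _, 𝟭 _, Iso.refl _⟩

noncomputable abbrev ΔX : X ⥤ p ⊡ p :=
  (CatCommSqOver.toFunctorToCategoricalPullback p p X).obj ⟨𝟭 _, 𝟭 _, Iso.refl _⟩

theorem M_obj_iso_hom (w : (π₂ p q) ⊡ (π₂ p q)) :
    ((M p q).obj w).iso.hom = w.fst.iso.hom ≫ q.map w.iso.hom ≫ w.snd.iso.inv := by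
  simp [M, FibCat.categoricalPullbackMap, ψ]
  rfl

theorem M_obj_fst (w : (π₂ p q) ⊡ (π₂ p q)) : ((M p q).obj w).fst = w.fst.fst := rfl
theorem M_obj_snd (w : (π₂ p q) ⊡ (π₂ p q)) : ((M p q).obj w).snd = w.snd.fst := rfl
theorem M_map_fst {w w' : (π₂ p q) ⊡ (π₂ p q)} (f : w ⟶ w') : ((M p q).map f).fst = f.fst.fst := rfl
theorem M_map_snd {w w' : (π₂ p q) ⊡ (π₂ p q)} (f : w ⟶ w') : ((M p q).map f).snd = f.snd.fst := rfl

/-- the filling 2-isomorphism -/
noncomputable def eIso : π₁ p q ⋙ ΔX p ≅ ΔU p q ⋙ M p q :=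
  NatIso.ofComponents (fun u => CategoricalPullback.mkIso (Iso.refl _) (Iso.refl _) (by
    change p.map (𝟙 u.fst) ≫ ((M p q).obj ((ΔU p q).obj u)).iso.hom = 𝟙 _ ≫ p.map (𝟙 u.fst)
    rw [M_obj_iso_hom]
    change p.map (𝟙 u.fst) ≫ (u.iso.hom ≫ q.map (𝟙 u.snd) ≫ u.iso.inv) = 𝟙 _ ≫ p.map (𝟙 u.fst)
    simp)) (by
    intro u u' f
    ext
    · change f.fst ≫ 𝟙 _ = 𝟙 _ ≫ f.fst
      simp
    · change f.fst ≫ 𝟙 _ = 𝟙 _ ≫ f.fst
      simp)

theorem eIso_fst (u : p ⊡ q) : ((eIso p q).hom.app u).fst = 𝟙 _ := rfl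
theorem eIso_snd (u : p ⊡ q) : ((eIso p q).hom.app u).snd = 𝟙 _ := rfl

noncomputable abbrev Φ : p ⊡ q ⥤ (ΔX p) ⊡ (M p q) :=
  (CatCommSqOver.toFunctorToCategoricalPullback (ΔX p) (M p q) (p ⊡ q)).obj ⟨π₁ p q, ΔU p q, eIso p q⟩

theorem Φ_faithful : (Φ p q).Faithful where
  map_injective {u u'} f g h := by
    have h1 := congrArg (fun k => k.snd.fst) h
    exact h1

theorem Φ_full : (Φ p q).Full where
  map_surjective {u u'} h := by
    have hw := h.w
    have h1 : h.fst = h.snd.fst.fst := by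
      have := congrArg (fun k => k.fst) hw
      change h.fst ≫ 𝟙 _ = 𝟙 _ ≫ h.snd.fst.fst at this
      simpa using this
    have h2 : h.fst = h.snd.snd.fst := by
      have := congrArg (fun k => k.snd) hw
      change h.fst ≫ 𝟙 _ = 𝟙 _ ≫ h.snd.snd.fst at this
      simpa using this
    have h3 : h.snd.fst.snd = h.snd.snd.snd := by
      have := h.snd.w
      change h.snd.fst.snd ≫ 𝟙 _ = 𝟙 _ ≫ h.snd.snd.snd at this
      simpa using this
    have e : h.snd.fst = h.snd.snd := by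
      ext
      · rw [← h1, ← h2]
      · exact h3
    refine ⟨h.snd.fst, ?_⟩
    apply CategoricalPullback.hom_ext
    · exact h1.symm
    · apply CategoricalPullback.hom_ext
      · rfl
      · exact e

theorem Φ_essSurj : (Φ p q).EssSurj where
  mem_essImage z := by
    -- z = (x, w, iso) with w = (u₁, u₂, θ)
    let x := z.fst
    let u₁ := z.snd.fst
    let u₂ := z.snd.snd
    let θ : u₁.snd ≅ u₂.snd := z.snd.iso
    let a₁ : x ≅ u₁.fst := (π₁ p p).mapIso z.iso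
    let a₂ : x ≅ u₂.fst := (π₂ p p).mapIso z.iso
    have hz : p.map a₁.hom ≫ (u₁.iso.hom ≫ q.map θ.hom ≫ u₂.iso.inv) = p.map a₂.hom := by
      have := z.iso.hom.w
      rw [M_obj_iso_hom] at this
      change p.map a₁.hom ≫ (u₁.iso.hom ≫ q.map θ.hom ≫ u₂.iso.inv) = 𝟙 _ ≫ p.map a₂.hom at this
      simpa using this
    let γ : u₁ ≅ u₂ := CategoricalPullback.mkIso (a₁.symm ≪≫ a₂) θ (by
      change p.map (a₁.inv ≫ a₂.hom) ≫ u₂.iso.hom = u₁.iso.hom ≫ q.map θ.hom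
      rw [Functor.map_comp, ← hz]
      simp [← Functor.map_comp_assoc])
    let c : (ΔU p q).obj u₁ ≅ z.snd := CategoricalPullback.mkIso (Iso.refl u₁) γ (by
      change (𝟙 u₁ : u₁ ⟶ u₁).snd ≫ θ.hom = 𝟙 _ ≫ γ.hom.snd
      simp [γ])
    refine ⟨u₁, ⟨CategoricalPullback.mkIso a₁.symm c ?_⟩⟩
    ext
    · change a₁.inv ≫ a₁.hom = 𝟙 _ ≫ 𝟙 _
      simp
    · change a₁.inv ≫ a₂.hom = 𝟙 _ ≫ (a₁.inv ≫ a₂.hom)
      simp


end Helpers


/-- For a 2-fibre product `U = X ×_Y V` of categories, the square formed by `U ⟶ X`, the diagonals `U ⟶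
U ×_V U`, `X ⟶ X ×_Y X` and the induced functor `U ×_V U ⟶ X ×_Y X` is 2-cartesian. (The filling
2-isomorphism is the one whose two components at every object are identities; it exists and is
unique with that property.) -/
theorem result {X Y V : Type u} [Category.{v} X] [Category.{v} Y] [Category.{v} V] (p : X ⥤ Y) (q : V ⥤ Y) :
    ∃ e, (∀ u, (e.hom.app u).fst = 𝟙 _ ∧ (e.hom.app u).snd = 𝟙 _) ∧ FibCat.IsTwoCart
      (CategoricalPullback.π₁ p q)
      ((CategoricalPullback.CatCommSqOver.toFunctorToCategoricalPullback (CategoricalPullback.π₂ p q) (CategoricalPullback.π₂ p q) (CategoricalPullback p q)).obj ⟨𝟭 _, 𝟭 _, Iso.refl _⟩)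
      ((CategoricalPullback.CatCommSqOver.toFunctorToCategoricalPullback p p X).obj ⟨𝟭 _, 𝟭 _, Iso.refl _⟩)
      (FibCat.categoricalPullbackMap (⟨CategoricalPullback.π₁ p q, q, CategoricalPullback.π₁ p q, ⟨(CatCommSq.iso (CategoricalPullback.π₁ p q) (CategoricalPullback.π₂ p q) p q).symm⟩, ⟨(CatCommSq.iso (CategoricalPullback.π₁ p q) (CategoricalPullback.π₂ p q) p q).symm⟩⟩ : CatCospanTransform (CategoricalPullback.π₂ p q) (CategoricalPullback.π₂ p q) p p))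
      e := by
  refine ⟨eIso p q, fun u => ⟨rfl, rfl⟩, ?_⟩
  have := Φ_faithful p q
  have := Φ_full p q
  have := Φ_essSurj p q
  exact (Functor.IsEquivalence.mk inferInstance inferInstance inferInstance : (Φ p q).IsEquivalence)

end Groth.Agent.S6447
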