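import Groth.Statements.S6448
-- import your own Groth.Agent.* helpers here

set_option autoImplicit false
open CategoryTheory
universe v u
open CatLim

namespace Groth.Agent.S6448

section helpers

variable {I : Type u} [Category.{v} I]

lemma exists_cospan_of_zigzag
    (h1 : ∀ ⦃w x y : I⦄ (a : w ⟶ x) (b : w ⟶ y), ∃ (z : I) (c : x ⟶ z) (d : y ⟶ z), a ≫ c = b ≫ d)
    {x y : I} (h : Zigzag x y) : ∃ z : I, Nonempty (x ⟶ z) ∧ Nonempty (y ⟶ z) := by
  induction h with
  | refl => exact ⟨x, ⟨𝟙 x⟩, ⟨𝟙 x⟩⟩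
  | tail _ hzag ih =>
    obtain ⟨z, ⟨a⟩, ⟨b⟩⟩ := ih
    rcases hzag with ⟨⟨f⟩⟩ | ⟨⟨f⟩⟩
    · obtain ⟨t, c, d, -⟩ := h1 b f
      exact ⟨t, ⟨a ≫ c⟩, ⟨d⟩⟩
    · exact ⟨z, ⟨a⟩, ⟨f ≫ b⟩⟩

end helpers

/-- In a category where spans complete to commutative squares and parallel pairs are coequalized by a
later arrow, every connected component is filtered (so the category is a disjoint union of filtered
categories). -/
theorem result {I : Type u} [Category.{v} I]
    (h1 : ∀ ⦃w x y : I⦄ (a : w ⟶ x) (b : w ⟶ y), ∃ (z : I) (c : x ⟶ z) (d : y ⟶ z), a ≫ c = b ≫ d)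
    (h2 : ∀ ⦃x y : I⦄ (a b : x ⟶ y), ∃ (z : I) (c : y ⟶ z), a ≫ c = b ≫ c)
    (j : ConnectedComponents I) : IsFiltered j.Component := by
  have hmem : ∀ (X : j.Component) (z : I), (X.obj ⟶ z) → j.objectProperty z := by
    intro X z f
    have hX : Quotient.mk'' X.obj = j := X.property
    rw [← hX]
    exact (Quotient.sound' (Relation.ReflTransGen.single (Or.inl ⟨f⟩) : Zigzag X.obj z)).symm
  refine { cocone_objs := ?_, cocone_maps := ?_, nonempty := inferInstance }
  · intro X Y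
    have hX : Quotient.mk'' X.obj = j := X.property
    have hY : Quotient.mk'' Y.obj = j := Y.property
    have hz : Zigzag X.obj Y.obj := Quotient.exact' (hX.trans hY.symm)
    obtain ⟨z, ⟨a⟩, ⟨b⟩⟩ := exists_cospan_of_zigzag h1 hz
    exact ⟨⟨z, hmem X z a⟩, ObjectProperty.homMk a, ObjectProperty.homMk b, trivial⟩
  · intro X Y f g
    obtain ⟨z, c, hc⟩ := h2 f.hom g.hom
    refine ⟨⟨z, hmem Y z c⟩, ObjectProperty.homMk c, ?_⟩
    apply ObjectProperty.hom_ext
    exact hc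

end Groth.Agent.S6448
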