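import Groth.Statements.S6453
import Groth.Agent.Lib.StalkIdeal84
import Groth.Agent.Lib.CartierMult84

set_option autoImplicit false
universe u
open CategoryTheory AlgebraicGeometry
attribute [local instance] HasDerivedCategory.standard
open IntMult

namespace Groth.Agent.S6453

set_option maxHeartbeats 800000
set_option linter.style.haveILetI false
open Groth.Agent.Lib.StalkIdeal84 Groth.Agent.Lib.CartierMult84

/-- Suppose the ideal of V in O_{X,ξ} is generated by a single nonzerodivisor g (c = 1: V is an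
effective Cartier divisor at ξ). Then e(X, V·W, Z) = length_{O_{X,ξ}}(O_{W,ξ}/g O_{W,ξ}), i.e. the
length of O_{X,ξ}/(I_{W,ξ} + (g)). Here X is a nonsingular variety over an algebraically closed
field K (smooth, separated, quasi-compact, integral), V and W are closed subvarieties given by
quasi-coherent ideal sheaves with integral subschemes, of dimensions r and s with dim X = n,
intersecting properly, and ξ is the generic point of an irreducible component Z of V ∩ W (a point of
V ∩ W maximal under specialization); e(X, V·W, Z) = IntMult.mult is the alternating sum of lengths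
of Tor over O_{X,ξ}, and O_{W,ξ} = O_{X,ξ}/I_{W,ξ}. -/
theorem result (K : Type u) [Field K] [IsAlgClosed K] (X : Scheme.{u}) (f : X ⟶ Spec (CommRingCat.of K)) [Smooth f] [IsSeparated f] [QuasiCompact f] [IsIntegral X] (IV IW : X.IdealSheafData) [IsIntegral IV.subscheme] [IsIntegral IW.subscheme] (n r s : ℕ) (hn : topologicalKrullDim X = n) (hr : topologicalKrullDim IV.support = r) (hs : topologicalKrullDim IW.support = s) (hprop : IntMult.ProperInt (IV.support : Set X) (IW.support : Set X) n r s) (ξ : X) (hξV : ξ ∈ IV.support) (hξW : ξ ∈ IW.support) (hmax : ∀ ξ' : X, ξ' ∈ IV.support → ξ' ∈ IW.support → ξ' ⤳ ξ → ξ' = ξ) (g : ↑(X.presheaf.stalk ξ)) (hg : IntMult.stalkIdeal IV ξ = Ideal.span {g}) (hreg : IsSMulRegular (↑(X.presheaf.stalk ξ)) g) : (IntMult.mult IV IW ξ : ℤ) = (Module.length (X.presheaf.stalk ξ) (↑(X.presheaf.stalk ξ) ⧸ (IntMult.stalkIdeal IW ξ ⊔ Ideal.span {g}))).toNat := by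
  haveI : IsLocallyNoetherian X := LocallyOfFiniteType.isLocallyNoetherian f
  haveI : IsNoetherianRing (X.presheaf.stalk ξ) := inferInstance
  have hP := isPrime_stalkIdeal IW ξ hξW
  have hgW : g ∉ IntMult.stalkIdeal IW ξ := by
    intro hmem
    obtain ⟨_, ⟨U, hU : IsAffineOpen U, rfl⟩, hxU, -⟩ :=
      X.isBasis_affineOpens.exists_subset_of_mem_open (Set.mem_univ ξ) isOpen_univ
    have hle : IntMult.stalkIdeal IV ξ ≤ IntMult.stalkIdeal IW ξ := by
      rw [hg]; exact (Ideal.span_singleton_le_iff_mem _).mpr hmem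
    have h1 := ideal_le_of_stalkIdeal_le IV IW ⟨U, hU⟩ ξ hxU hξW hle
    have h2 := support_subset_of_ideal_le IV IW ⟨U, hU⟩ ξ hxU hξW h1
    have hVW : (IV.support : Set X) ∩ IW.support = IW.support := Set.inter_eq_right.mpr h2
    obtain ⟨hn1, hdim⟩ := hprop ⟨ξ, hξV, hξW⟩
    rw [hVW] at hdim
    have h3 : (s : WithBot ℕ∞) ≤ ((r + s - n : ℕ) : WithBot ℕ∞) := hs ▸ hdim
    have hnr : n ≤ r := by
      have : s ≤ r + s - n := by exact_mod_cast h3
      omega
    by_cases hVu : (IV.support : Set X) = Set.univ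
    · have hVt : IV.support = ⊤ := by
        apply SetLike.coe_injective
        rw [hVu]; rfl
      have hIV : IV = ⊥ := Scheme.IdealSheafData.support_eq_top_iff.mp hVt
      have h4 : IntMult.stalkIdeal IV ξ = ⊥ := by
        rw [stalkIdeal_eq_map IV ⟨U, hU⟩ ξ hxU, hIV]
        simp
      rw [hg] at h4
      have hg0 : g = 0 := Ideal.span_singleton_eq_bot.mp h4
      rw [hg0] at hreg
      have := hreg (a₁ := 1) (a₂ := 0) (by simp)
      exact one_ne_zero this
    · have h5 := topologicalKrullDim_add_one_le_of_ne_univ (IV.support : Set X)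
        IV.support.isClosed hVu
      have h6 : (r : WithBot ℕ∞) + 1 ≤ (n : WithBot ℕ∞) := by
        rw [← hn, ← hr]; exact h5
      have : r + 1 ≤ n := by exact_mod_cast h6
      omega
  have hgP : IsSMulRegular (X.presheaf.stalk ξ ⧸ IntMult.stalkIdeal IW ξ) g := by
    intro a b hab
    obtain ⟨a', rfl⟩ := Ideal.Quotient.mk_surjective a
    obtain ⟨b', rfl⟩ := Ideal.Quotient.mk_surjective b
    have h1 : Ideal.Quotient.mk (IntMult.stalkIdeal IW ξ) (g * a') =
        Ideal.Quotient.mk (IntMult.stalkIdeal IW ξ) (g * b') := hab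
    rw [Ideal.Quotient.eq, ← mul_sub] at h1
    rw [Ideal.Quotient.eq]
    exact (hP.mem_or_mem h1).resolve_left hgW
  unfold IntMult.mult
  rw [hg]
  exact chi_eq_length _ g hreg hgP

end Groth.Agent.S6453
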