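import Groth.Statements.S6454
import Groth.Agent.Lib.C1CapTensor

set_option autoImplicit false
universe u
open CategoryTheory AlgebraicGeometry
open Cyc

namespace Groth.Agent.S6454

/-- Let L, N be invertible O_X-modules and α a (k + 1)-cycle on X. Then c_1(L) ∩ α + c_1(N) ∩ α = c_1(L
⊗ N) ∩ α in CH_k(X): for any nonzero rational sections used to compute the three caps (the tensor
product is CohB1.tensorMod), the sum of the first two k-cycles is rationally equivalent to the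
third. Here L(ξ) = L_ξ/𝔪_ξ L_ξ is the space of rational sections of L on the closure of ξ,
div_{L|W}(s) and c_1(L) ∩ α are computed as coefficient functions from chosen nonzero rational
sections (Cyc.secDivFun, Cyc.c1CapFun), and results are compared up to rational equivalence for any
cycles with those coefficients. A pair (X, δ) with Cyc.IsSetup plays the role of a scheme locally of
finite type over the base (S, δ) (X locally Noetherian with universally catenary local rings, δ a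
dimension function). -/
theorem result (X : Scheme.{u}) (δ : X → ℤ) (hX : Cyc.IsSetup X δ) (L N : X.Modules) (hL : PicF.IsInvertible L) (hN : PicF.IsInvertible N) (k : ℤ) (α : AlgebraicCycle X ℤ) (hα : α ∈ Cyc.Zk X δ (k + 1)) (sL : (ξ : X) → Cyc.secFibre L ξ) (hsL : ∀ ξ, sL ξ ≠ 0) (sN : (ξ : X) → Cyc.secFibre N ξ) (hsN : ∀ ξ, sN ξ ≠ 0) (sT : (ξ : X) → Cyc.secFibre (CohB1.tensorMod L N) ξ) (hsT : ∀ ξ, sT ξ ≠ 0) (γL γN γT : AlgebraicCycle X ℤ) (hγL : ⇑γL = Cyc.c1CapFun δ L ⇑α sL) (hγN : ⇑γN = Cyc.c1CapFun δ N ⇑α sN) (hγT : ⇑γT = Cyc.c1CapFun δ (CohB1.tensorMod L N) ⇑α sT) : Cyc.RatEquiv δ k (γL + γN) γT := by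
  have hT := Groth.Agent.Lib.H78TensorGen.isInvertible_tensorMod hL hN
  choose l hl using fun ξ => Submodule.Quotient.mk_surjective _ (sL ξ)
  choose n hn using fun ξ => Submodule.Quotient.mk_surjective _ (sN ξ)
  have hl0 : ∀ ξ, (Submodule.Quotient.mk (l ξ) : Cyc.secFibre L ξ) ≠ 0 := fun ξ => by
    rw [hl]; exact hsL ξ
  have hn0 : ∀ ξ, (Submodule.Quotient.mk (n ξ) : Cyc.secFibre N ξ) ≠ 0 := fun ξ => by
    rw [hn]; exact hsN ξ
  let sT' : (ξ : X) → Cyc.secFibre (CohB1.tensorMod L N) ξ := fun ξ =>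
    Submodule.Quotient.mk (Groth.Agent.Lib.C1CapTensor.mu L N ξ (l ξ) (n ξ))
  have hsT' : ∀ ξ, sT' ξ ≠ 0 := fun ξ =>
    Groth.Agent.Lib.C1CapTensor.mk_mu_ne_zero hL hN ξ (l ξ) (n ξ) (hl0 ξ) (hn0 ξ)
  have hsum : ⇑(γL + γN) = Cyc.c1CapFun δ (CohB1.tensorMod L N) ⇑α sT' := by
    funext x
    have h1 : (γL + γN) x = γL x + γN x := rfl
    have h2 : γL x = ∑ᶠ ξ, α ξ * Cyc.secDivFun δ L ξ (sL ξ) x := by rw [hγL]; rfl
    have h3 : γN x = ∑ᶠ ξ, α ξ * Cyc.secDivFun δ N ξ (sN ξ) x := by rw [hγN]; rfl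
    have h4 : Cyc.c1CapFun δ (CohB1.tensorMod L N) ⇑α sT' x =
        ∑ᶠ ξ, α ξ * Cyc.secDivFun δ (CohB1.tensorMod L N) ξ (sT' ξ) x := rfl
    rw [h1, h2, h3, h4, ← finsum_add_distrib
      (Groth.Agent.Lib.C1CapIndep.support_c1Cap_term_finite δ L α sL x)
      (Groth.Agent.Lib.C1CapIndep.support_c1Cap_term_finite δ N α sN x)]
    refine finsum_congr fun ξ => ?_
    have := Groth.Agent.Lib.C1CapTensor.secDivFun_tensor δ hL hN ξ (l ξ) (n ξ) (hl0 ξ) (hn0 ξ) x
    rw [hl, hn] at this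
    show _ = α ξ * Cyc.secDivFun δ (CohB1.tensorMod L N) ξ
      (Submodule.Quotient.mk (Groth.Agent.Lib.C1CapTensor.mu L N ξ (l ξ) (n ξ))) x
    rw [this]
    ring
  exact Groth.Agent.Lib.C1CapIndep.ratEquiv_c1CapFun δ hT k α hα sT' sT hsT' hsT (γL + γN) γT
    hsum hγT

end Groth.Agent.S6454
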