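import Groth.Statements.S6455
import Groth.Agent.Lib.C1CapIndep
import Groth.Agent.Lib.StructureModuleStalk

set_option autoImplicit false
universe u
open CategoryTheory AlgebraicGeometry
open Cyc

namespace Groth.Agent.S6455

open Groth.Agent.Lib.StructureModuleStalk Groth.Agent.Lib.StructureModule
open Groth.Agent.Lib.LocFact82 Groth.Agent.Lib.LenQuotFormula Groth.Agent.Lib.C1CapIndep

theorem bijective_smul_oneStalk {X : Scheme.{u}} (ξ : X) :
    Function.Bijective (fun a : X.presheaf.stalk ξ => a • oneStalk ξ) :=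
  (stalkEquiv ξ).bijective

/-- the rational section `1` of the structure sheaf on the closure of `ξ`. -/
noncomputable def oneSec {X : Scheme.{u}} (ξ : X) : Cyc.secFibre (Coh.structureModule X) ξ :=
  Submodule.Quotient.mk (oneStalk ξ)

theorem oneSec_ne_zero {X : Scheme.{u}} (ξ : X) : oneSec ξ ≠ 0 := by
  have h := (smul_mk_ne_zero_iff ξ (oneStalk ξ) (bijective_smul_oneStalk ξ) 1).mpr
    (fun h1 => (IsLocalRing.maximalIdeal (X.presheaf.stalk ξ)).ne_top_iff_one.mp
      (IsLocalRing.maximalIdeal.isMaximal _).ne_top h1)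
  rwa [one_smul] at h

theorem secDivFun_oneSec {X : Scheme.{u}} (δ : X → ℤ) (hX : Cyc.IsSetup X δ) (ξ x : X) :
    Cyc.secDivFun δ (Coh.structureModule X) ξ (oneSec ξ) x = 0 := by
  obtain ⟨hNoeth, _, hdimfun⟩ := hX
  haveI := hNoeth
  unfold Cyc.secDivFun
  by_cases h : ξ ⤳ x ∧ δ x + 1 = δ ξ
  · rw [dif_pos h]
    have hL := Groth.Agent.Lib.H90Invertible.isInvertible_structureModule X
    have ht : ∃ t : (Coh.structureModule X).presheaf.stalk x,
        Submodule.span (X.presheaf.stalk x) {t} = ⊤ := by
      refine ⟨oneStalk x, ?_⟩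
      rw [eq_top_iff]
      intro y _
      obtain ⟨a, ha⟩ := (bijective_smul_oneStalk x).2 y
      exact Submodule.mem_span_singleton.mpr ⟨a, ha⟩
    have htspec := Classical.choose_spec ht
    -- `oneStalk x = f • t` with `f` a unit
    have hmem : oneStalk x ∈ Submodule.span (X.presheaf.stalk x) {Classical.choose ht} := by
      rw [htspec]; trivial
    obtain ⟨f, hf⟩ := Submodule.mem_span_singleton.mp hmem
    obtain ⟨v, hv⟩ := (bijective_smul_oneStalk x).2 (Classical.choose ht)
    simp only at hv
    have hfv : f * v = 1 := by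
      apply (bijective_smul_oneStalk x).1
      simp only
      rw [mul_smul, hv, hf, one_smul]
    have hfu : IsUnit f := IsUnit.of_mul_eq_one v hfv
    have hgerm : ((Coh.structureModule X).presheaf.germ ⊤ x trivial) (toSec ⊤ 1) =
        f • Classical.choose ht := by
      rw [hf]; rfl
    have hone : oneSec ξ = Submodule.Quotient.mk
        (((Coh.structureModule X).presheaf.germ ⊤ ξ trivial) (toSec ⊤ 1)) := rfl
    rw [hone, Groth.Agent.S1925.secOrdAt_mk_germ hL ξ x h.1 (toSec ⊤ 1) ht f hgerm]
    have hfne : Cyc.specMap x ξ h.1 f ≠ 0 := (hfu.map (Cyc.specMap x ξ h.1)).ne_zero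
    have h1ne : Cyc.specMap x ξ h.1 1 ≠ 0 := by
      rw [map_one]; exact one_ne_zero
    have := Groth.Agent.S1907.ordAt_eq hdimfun x ξ h.1 h.2 f 1 hfne h1ne
    rw [map_one, div_one] at this
    rw [this]
    have hc1 : c (1 : X.presheaf.stalk x)
        (⟨genPrime X h.1, inferInstance⟩ : PrimeSpectrum (X.presheaf.stalk x)) = 0 := by
      unfold c
      rw [map_one]
      exact Ring.ord_one _
    have hcf : c f
        (⟨genPrime X h.1, inferInstance⟩ : PrimeSpectrum (X.presheaf.stalk x)) = 0 := by
      unfold c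
      exact Ring.ord_of_isUnit (hfu.map _)
    rw [hc1, hcf]
    simp
  · rw [dif_neg h]


/-- c_1(O_X) ∩ α = 0 in CH_k(X) for every (k + 1)-cycle α: computed with any nonzero rational sections
of the structure sheaf, the k-cycle c_1(O_X) ∩ α is rationally equivalent to zero. Here L(ξ) =
L_ξ/𝔪_ξ L_ξ is the space of rational sections of L on the closure of ξ, div_{L|W}(s) and c_1(L) ∩ α
are computed as coefficient functions from chosen nonzero rational sections (Cyc.secDivFun,
Cyc.c1CapFun), and results are compared up to rational equivalence for any cycles with those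
coefficients. A pair (X, δ) with Cyc.IsSetup plays the role of a scheme locally of finite type over
the base (S, δ) (X locally Noetherian with universally catenary local rings, δ a dimension
function). -/
theorem result (X : Scheme.{u}) (δ : X → ℤ) (hX : Cyc.IsSetup X δ) (k : ℤ) (α : AlgebraicCycle X ℤ) (hα : α ∈ Cyc.Zk X δ (k + 1)) (s : (ξ : X) → Cyc.secFibre (Coh.structureModule X) ξ) (hs : ∀ ξ, s ξ ≠ 0) (γ : AlgebraicCycle X ℤ) (hγ : ⇑γ = Cyc.c1CapFun δ (Coh.structureModule X) ⇑α s) : Cyc.RatEquivZero δ k γ := by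
  have hL := Groth.Agent.Lib.H90Invertible.isInvertible_structureModule X
  have h0 : ⇑(0 : AlgebraicCycle X ℤ) =
      Cyc.c1CapFun δ (Coh.structureModule X) ⇑α (fun ξ => oneSec ξ) := by
    funext x
    have : Cyc.c1CapFun δ (Coh.structureModule X) ⇑α (fun ξ => oneSec ξ) x =
        ∑ᶠ ξ : X, α ξ * Cyc.secDivFun δ (Coh.structureModule X) ξ (oneSec ξ) x := rfl
    rw [this]
    symm
    refine finsum_eq_zero_of_forall_eq_zero fun ξ => ?_
    rw [secDivFun_oneSec δ hX, mul_zero]
  have h := ratEquiv_c1CapFun δ hL k α hα s (fun ξ => oneSec ξ) hs (fun ξ => oneSec_ne_zero ξ)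
    γ 0 hγ h0
  unfold Cyc.RatEquiv at h
  rwa [sub_zero] at h

end Groth.Agent.S6455
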