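import Groth.Statements.S6464
-- import your own Groth.Agent.* helpers here

set_option autoImplicit false
universe u v
open CycAlg

namespace Groth.Agent.S6464

section aux

variable {R : Type u} [CommRing R] {M N : Type v} [AddCommGroup M] [Module R M]
  [AddCommGroup N] [Module R N]

lemma length_sub_add_quot (p : Submodule R M) :
    Module.length R M = Module.length R p + Module.length R (M ⧸ p) :=
  Module.length_eq_add_of_exact p.subtype p.mkQ p.subtype_injective p.mkQ_surjective
    (LinearMap.exact_subtype_mkQ p)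

lemma length_ker_add_range (φ : M →ₗ[R] N) :
    Module.length R M = Module.length R (LinearMap.ker φ) + Module.length R (LinearMap.range φ) :=
  Module.length_eq_add_of_exact (LinearMap.ker φ).subtype φ.rangeRestrict
    (LinearMap.ker φ).subtype_injective φ.surjective_rangeRestrict
    (by
      intro x
      constructor
      · intro hx
        refine ⟨⟨x, ?_⟩, rfl⟩
        have := congrArg Subtype.val hx
        simpa using this
      · rintro ⟨y, rfl⟩
        ext
        simpa using y.2)

lemma length_perH (φ : M →ₗ[R] N) (ψ : N →ₗ[R] M) (h : φ ∘ₗ ψ = 0) :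
    Module.length R (LinearMap.ker φ) =
      Module.length R (LinearMap.range ψ) + Module.length R (CycAlg.perH φ ψ) := by
  have hle : LinearMap.range ψ ≤ LinearMap.ker φ := by
    rintro _ ⟨y, rfl⟩
    exact LinearMap.congr_fun h y
  rw [length_sub_add_quot ((LinearMap.range ψ).submoduleOf (LinearMap.ker φ)),
    (Submodule.submoduleOfEquivOfLe hle).length_eq]

end aux

/-- Let (M, N, φ, ψ) be a 2-periodic complex over a ring R with M and N of finite length. Then its
cohomology modules have finite length and e_R(M, N, φ, ψ) = length_R(M) − length_R(N). (The case M =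
N, where the conclusion reads e_R(M, φ, ψ) = 0, is the special case and is not restated.) -/
theorem result {R : Type u} [CommRing R] {M N : Type v} [AddCommGroup M] [Module R M] [AddCommGroup N] [Module R N] (φ : M →ₗ[R] N) (ψ : N →ₗ[R] M) (h : CycAlg.IsPeriodic φ ψ) (hM : Module.length R M < ⊤) (hN : Module.length R N < ⊤) : CycAlg.FinCoh R φ ψ ∧ CycAlg.herbrand R φ ψ = ((Module.length R M).toNat : ℤ) - ((Module.length R N).toNat : ℤ) := by
  obtain ⟨h1, h2⟩ := h
  have e1 := length_ker_add_range φ
  have e2 := length_ker_add_range ψ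
  have e3 := length_perH φ ψ h1
  have e4 := length_perH ψ φ h2
  obtain ⟨m, hm⟩ := ENat.ne_top_iff_exists.mp hM.ne
  obtain ⟨n, hn⟩ := ENat.ne_top_iff_exists.mp hN.ne
  rw [← hm] at e1
  rw [← hn] at e2
  -- all the pieces are finite
  have fa : Module.length R (LinearMap.ker φ) ≠ ⊤ := by
    intro ht; rw [ht, top_add] at e1; exact ENat.natCast_ne_top _ e1
  have fb : Module.length R (LinearMap.range φ) ≠ ⊤ := by
    intro ht; rw [ht, add_top] at e1; exact ENat.natCast_ne_top _ e1
  have fc : Module.length R (LinearMap.ker ψ) ≠ ⊤ := by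
    intro ht; rw [ht, top_add] at e2; exact ENat.natCast_ne_top _ e2
  have fd : Module.length R (LinearMap.range ψ) ≠ ⊤ := by
    intro ht; rw [ht, add_top] at e2; exact ENat.natCast_ne_top _ e2
  obtain ⟨a, ha⟩ := ENat.ne_top_iff_exists.mp fa
  obtain ⟨b, hb⟩ := ENat.ne_top_iff_exists.mp fb
  obtain ⟨c, hc⟩ := ENat.ne_top_iff_exists.mp fc
  obtain ⟨d, hd⟩ := ENat.ne_top_iff_exists.mp fd
  rw [← ha, ← hb] at e1
  rw [← hc, ← hd] at e2
  rw [← ha, ← hd] at e3
  rw [← hc, ← hb] at e4
  have f0 : Module.length R (CycAlg.perH φ ψ) ≠ ⊤ := by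
    intro ht; rw [ht, add_top] at e3; exact ENat.natCast_ne_top _ e3
  have f1 : Module.length R (CycAlg.perH ψ φ) ≠ ⊤ := by
    intro ht; rw [ht, add_top] at e4; exact ENat.natCast_ne_top _ e4
  obtain ⟨x, hx⟩ := ENat.ne_top_iff_exists.mp f0
  obtain ⟨y, hy⟩ := ENat.ne_top_iff_exists.mp f1
  rw [← hx] at e3
  rw [← hy] at e4
  refine ⟨⟨lt_top_iff_ne_top.mpr f0, lt_top_iff_ne_top.mpr f1⟩, ?_⟩
  unfold CycAlg.herbrand
  rw [← hx, ← hy, ← hm, ← hn]
  simp only [ENat.toNat_natCast]
  have e1' : m = a + b := by exact_mod_cast e1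
  have e2' : n = c + d := by exact_mod_cast e2
  have e3' : a = d + x := by exact_mod_cast e3
  have e4' : c = b + y := by exact_mod_cast e4
  omega

end Groth.Agent.S6464
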