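import Groth.Statements.S6472
import Groth.Agent.Lib.H87DiagReg
import Groth.Agent.Lib.H56LocDim
import Groth.Agent.S12422

set_option autoImplicit false
universe u
open CategoryTheory CategoryTheory.Limits AlgebraicGeometry
open IntMult

namespace Groth.Agent.S6472

/-- Let X be a nonsingular variety of dimension n over the algebraically closed field K. Then Δ : X → X
×_K X, the diagonal, is regular of codimension n as an immersion (RegImm.IsRegularImmersionOfCodim
of kind regular: an immersion which, around every point, in an affine open where it is closed, is
cut out by a regular sequence of length n). Nonsingular variety: X → Spec K smooth, separated,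
quasi-compact, X integral; n = Krull dimension of X. -/
theorem result (K : Type u) [Field K] [IsAlgClosed K] (X : Scheme.{u}) (f : X ⟶ Spec (CommRingCat.of K)) [Smooth f] [IsSeparated f] [QuasiCompact f] [IsIntegral X] (n : ℕ) (hn : topologicalKrullDim X = n) : RegImm.IsRegularImmersionOfCodim RegImm.Kind.regular n (pullback.diagonal f) := by
  letI : X.Over (Spec (CommRingCat.of K)) := ⟨f⟩
  haveI : LocallyOfFiniteType (X ↘ Spec (CommRingCat.of K)) :=
    (inferInstance : LocallyOfFiniteType f)
  haveI : SmoothOfRelativeDimension n f := by
    apply Groth.Agent.Lib.H87FirstSeqSmooth.smoothOfRelativeDimension_of_fibreDimAt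
    intro x
    have h1 := Groth.Agent.S12422.fibreDimAt_over_field K X x
    have h2 := Groth.Agent.Lib.H56LocDim.localDim_eq_dim_of_irreducible K X x
    change FlatMor.fibreDimAt f x = _ at h1
    rw [h1, h2, hn]
  refine ⟨inferInstance, fun z => ?_⟩
  exact Groth.Agent.Lib.H87DiagReg.exists_regular_at_diagonal f n z

end Groth.Agent.S6472
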