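import Groth.Statements.S6473
import Groth.Agent.Lib.H8RegImmDim
import Groth.Agent.Lib.H30IrrFib

set_option autoImplicit false
universe u
open CategoryTheory CategoryTheory.Limits AlgebraicGeometry
open IntMult

namespace Groth.Agent.S6473

open AlgebraicGeometry CategoryTheory Limits
open Groth.Agent.Lib.H30DimField Groth.Agent.Lib.H30DimRel Groth.Agent.Lib.H30FlatDim
  Groth.Agent.Lib.H30IrrFib Groth.Agent.Lib.H8RegImmDim

/-- Let f : X → Y be a morphism of varieties over K which is a regular immersion of codimension c, and Z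
⊂ Y a closed subvariety of dimension d. Then each irreducible component T of f⁻¹(Z) = X ×_Y Z
satisfies dim T ≥ d − c; stated as d ≤ dim T + c. Varieties: integral, separated, of finite type
over the algebraically closed field K. (The published statement takes f to be a closed immersion,
regular immersions being closed there; this row allows any immersion cut out, locally on Y where it
is closed, by a regular sequence of length c, the bound being local on Y. The published statement
also has a second part, for local complete intersection morphisms of a given relative dimension,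
which this row does not state.) -/
theorem result (K : Type u) [Field K] [IsAlgClosed K] (X Y Z : Scheme.{u}) (gX : X ⟶ Spec (CommRingCat.of K)) (gY : Y ⟶ Spec (CommRingCat.of K)) [IsSeparated gX] [LocallyOfFiniteType gX] [QuasiCompact gX] [IsIntegral X] [IsSeparated gY] [LocallyOfFiniteType gY] [QuasiCompact gY] [IsIntegral Y] (f : X ⟶ Y) (hf : f ≫ gY = gX) (c : ℕ) (hreg : RegImm.IsRegularImmersionOfCodim RegImm.Kind.regular c f) (ι : Z ⟶ Y) [IsClosedImmersion ι] [IsIntegral Z] (d : ℕ) (hd : topologicalKrullDim Z = d) (T : Set ↥(pullback f ι)) (hT : T ∈ irreducibleComponents ↥(pullback f ι)) : ((d : ℕ) : WithBot ℕ∞) ≤ topologicalKrullDim ↥T + c := by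
  haveI : IsImmersion f := hreg.1
  haveI : QuasiCompact f := by
    haveI : QuasiCompact (f ≫ gY) := by rw [hf]; infer_instance
    exact QuasiCompact.of_comp f gY
  letI : Z.Over (Spec (CommRingCat.of K)) := ⟨ι ≫ gY⟩
  haveI : LocallyOfFiniteType (Z ↘ Spec (CommRingCat.of K)) :=
    inferInstanceAs (LocallyOfFiniteType (ι ≫ gY))
  letI : (pullback f ι).Over (Spec (CommRingCat.of K)) := ⟨pullback.snd f ι ≫ ι ≫ gY⟩
  haveI : LocallyOfFiniteType ((pullback f ι) ↘ Spec (CommRingCat.of K)) :=
    inferInstanceAs (LocallyOfFiniteType (pullback.snd f ι ≫ ι ≫ gY))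
  haveI := isLocallyNoetherian K Z
  haveI := jacobsonSpace K (pullback f ι)
  -- the generic point of `T`
  obtain ⟨t, ht⟩ : ∃ t, IsGenericPoint t T :=
    QuasiSober.sober hT.1 (isClosed_of_mem_irreducibleComponents T hT)
  have hteq : closure {t} = T := ht.def
  have htmax : ∀ t' : ↥(pullback f ι), t' ⤳ t → t' = t :=
    (closure_mem_irreducibleComponents_iff t).mp (hteq ▸ hT)
  have hcond : f (pullback.fst f ι t) = ι (pullback.snd f ι t) := by
    rw [← Scheme.Hom.comp_apply, ← Scheme.Hom.comp_apply, pullback.condition]
  obtain ⟨U, hxU, hcl, rs, hlen, -, hker⟩ := hreg.2 (pullback.fst f ι t)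
  have hstalk : ringKrullDim (Z.presheaf.stalk (pullback.snd f ι t)) ≤ (c : WithBot ℕ∞) := by
    rw [← hlen]
    apply stalk_dim_le f ι U hcl rs hker (pullback.snd f ι t) (hcond ▸ hxU)
      ⟨pullback.fst f ι t, hcond⟩
    intro z' hz' ⟨x', hx'⟩
    obtain ⟨t', -, ht'z⟩ := Scheme.Pullback.exists_preimage_pullback x' z' hx'
    have h1 : t' ⤳ t := by
      apply (pullback.snd f ι).isEmbedding.isInducing.specializes_iff.mp
      rw [ht'z]
      exact hz'
    rw [← ht'z, htmax t' h1]
  -- dimensions
  have hdimT : topologicalKrullDim ↥T = (((td K (pullback f ι) t).toNat : ℕ) : WithBot ℕ∞) := by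
    rw [← hteq]
    exact Groth.Agent.S6462.part1 (isDimFun K (pullback f ι))
      (td_eq_zero_of_isClosed K (pullback f ι)) t
  have htd := td_eq_add K (pullback f ι) Z (pullback.snd f ι) rfl t
  rw [rt_of_isPreimmersion (pullback.snd f ι) t] at htd
  have hZ := dim_eq_stalk_add K Z (pullback.snd f ι t)
  rw [hd] at hZ
  rw [hZ, hdimT]
  have h2 : (td K (pullback f ι) t).toNat = (td K Z (pullback.snd f ι t)).toNat := by
    rw [htd]
    simp
  rw [h2, add_comm]
  exact add_le_add_right hstalk _

end Groth.Agent.S6473
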