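import Groth.Statements.S6476
import Groth.Agent.S16234
import Mathlib.RingTheory.Support
import Mathlib.RingTheory.Spectrum.Prime.Module
import Mathlib.RingTheory.Localization.Module
import Mathlib.RingTheory.Localization.Finiteness
import Mathlib.RingTheory.Localization.AtPrime.Basic
import Mathlib.RingTheory.FiniteLength
import Mathlib.RingTheory.Artinian.Module
import Mathlib.Tactic

set_option autoImplicit false
universe u v
open CycAlg

namespace Groth.Agent.S6476

section easy

variable {A : Type u} [CommRing A] {M : Type v} [AddCommGroup M] [Module A M]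
  (φ ψ : M →ₗ[A] M)

/-- if `ker φ' ⊆ im ψ'` then the cohomology module vanishes. -/
lemma perH_subsingleton {N : Type v} [AddCommGroup N] [Module A N] (f g : N →ₗ[A] N)
    (h : ∀ x, f x = 0 → ∃ y, g y = x) : Subsingleton (CycAlg.perH f g) := by
  rw [Submodule.Quotient.subsingleton_iff, eq_top_iff]
  rintro ⟨x, hx⟩ -
  obtain ⟨y, rfl⟩ := h x hx
  exact ⟨y, rfl⟩

end easy

section fl

variable {A : Type u} [CommRing A] [IsNoetherianRing A] [IsLocalRing A]
  {M : Type v} [AddCommGroup M] [Module A M] [Module.Finite A M]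

/-- a prime of `A_P` lying over `P` is the maximal ideal. -/
lemma isMaximal_of_comap_eq (P : Ideal A) [P.IsPrime] (q : Ideal (Localization.AtPrime P))
    [hq : q.IsPrime] (h : q.comap (algebraMap A (Localization.AtPrime P)) = P) : q.IsMaximal := by
  have : q = IsLocalRing.maximalIdeal (Localization.AtPrime P) := by
    apply le_antisymm (IsLocalRing.le_maximalIdeal hq.ne_top)
    intro x hx
    obtain ⟨a, s, rfl⟩ := IsLocalization.exists_mk'_eq P.primeCompl x
    rw [IsLocalization.AtPrime.mk'_mem_maximal_iff (Localization.AtPrime P) P] at hx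
    rw [IsLocalization.mk'_mem_iff]
    rw [← h] at hx
    exact hx
  rw [this]
  infer_instance

lemma isFiniteLength_quotient_of_injective (hdim : Module.supportDim A M = 1)
    (θ : M →ₗ[A] M) (hθ : Function.Injective θ) :
    IsFiniteLength A (M ⧸ LinearMap.range θ) := by
  rw [← Groth.Agent.S16234.result]
  intro P hP
  by_contra hmax
  have hPM : P ∈ Module.support A M :=
    Module.support_subset_of_surjective _ (Submodule.mkQ_surjective (LinearMap.range θ)) hP
  let mm : PrimeSpectrum A := IsLocalRing.closedPoint A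
  have hmm : mm ∈ Module.support A M := Module.mem_support_mono le_top hPM
  have hPlt : P < mm := by
    refine lt_of_le_of_ne le_top (fun h => hmax ?_)
    rw [h]
    exact IsLocalRing.maximalIdeal.isMaximal A
  -- `P` is minimal in the support
  have hmin : ∀ P' ∈ Module.support A M, P' ≤ P → P' = P := by
    intro P' hP' hle
    by_contra hne
    have hlt : P' < P := lt_of_le_of_ne hle hne
    let c : LTSeries (Module.support A M) :=
      LTSeries.mk 2 ![⟨P', hP'⟩, ⟨P, hPM⟩, ⟨mm, hmm⟩] (by
        rw [Fin.strictMono_iff_lt_succ]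
        intro i
        fin_cases i
        · exact hlt
        · exact hPlt)
    have h2 := Order.LTSeries.length_le_krullDim c
    have h3 : c.length = 2 := rfl
    rw [h3] at h2
    change _ ≤ Module.supportDim A M at h2
    rw [hdim] at h2
    exact absurd h2 (by decide)
  -- localize at `P`
  let S := P.asIdeal.primeCompl
  have hfl : IsFiniteLength (Localization.AtPrime P.asIdeal) (LocalizedModule S M) := by
    rw [← Groth.Agent.S16234.result]
    intro q hq
    apply isMaximal_of_comap_eq P.asIdeal q.asIdeal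
    -- the contraction of `q` lies in the support of `M` and below `P`
    obtain ⟨x, hx⟩ := Module.mem_support_iff'.1 hq
    induction x using LocalizedModule.induction_on with
    | h m s =>
      let q₀ : PrimeSpectrum A := PrimeSpectrum.comap (algebraMap A (Localization.AtPrime P.asIdeal)) q
      have hq₀ : q₀ ∈ Module.support A M := by
        rw [Module.mem_support_iff']
        refine ⟨m, fun r hr h0 => ?_⟩
        refine hx (algebraMap A _ r) hr ?_
        rw [algebraMap_smul, LocalizedModule.smul'_mk, h0, LocalizedModule.zero_mk]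
      have hle : q₀ ≤ P := by
        intro a ha
        by_contra haP
        have hu : IsUnit (algebraMap A (Localization.AtPrime P.asIdeal) a) :=
          IsLocalization.map_units _ (⟨a, haP⟩ : P.asIdeal.primeCompl)
        exact q.2.ne_top (Ideal.eq_top_of_isUnit_mem _ ha hu)
      have := hmin q₀ hq₀ hle
      exact congrArg PrimeSpectrum.asIdeal this
  rw [isFiniteLength_iff_isNoetherian_isArtinian] at hfl
  obtain ⟨-, hart⟩ := hfl
  have hsurj : Function.Surjective (LocalizedModule.map S θ) :=
    IsArtinian.surjective_of_injective_endomorphism _ (LocalizedModule.map_injective S θ hθ)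
  -- contradiction
  refine (Module.notMem_support_iff'.2 ?_) hP
  intro x
  obtain ⟨m, rfl⟩ := Submodule.mkQ_surjective _ x
  obtain ⟨y, hy⟩ := hsurj (LocalizedModule.mk m 1)
  induction y using LocalizedModule.induction_on with
  | h n s =>
    rw [LocalizedModule.map_mk, LocalizedModule.mk_eq] at hy
    obtain ⟨u, hu⟩ := hy
    refine ⟨(u : A) * (s : A), (u * s).2, ?_⟩
    rw [Submodule.mkQ_apply, ← Submodule.Quotient.mk_smul, Submodule.Quotient.mk_eq_zero]
    refine ⟨(u : A) • n, ?_⟩
    rw [map_smul, mul_smul]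
    simpa [Submonoid.smul_def] using hu

end fl

/-- Let A be a Noetherian local ring, M a finite A-module of dimension 1, and φ, ψ : M → M injective
with φ(ψ(M)) = ψ(φ(M)) (e.g. φ, ψ commute). Then length_A(M/φψM) is finite and (M/φψM, φ, ψ) is an
exact (2, 1)-periodic complex; here φ', ψ' denote the endomorphisms of M/φψM induced by φ and ψ, and
exactness says both cohomology modules (CycAlg.perH) are trivial. -/
theorem result {A : Type u} [CommRing A] [IsNoetherianRing A] [IsLocalRing A] {M : Type v} [AddCommGroup M] [Module A M] [Module.Finite A M] (hdim : Module.supportDim A M = 1) (φ ψ : M →ₗ[A] M) (hφ : Function.Injective φ) (hψ : Function.Injective ψ) (hcomm : Submodule.map φ (LinearMap.range ψ) = Submodule.map ψ (LinearMap.range φ)) (φ' ψ' : (M ⧸ LinearMap.range (φ ∘ₗ ψ)) →ₗ[A] (M ⧸ LinearMap.range (φ ∘ₗ ψ))) (hφ' : φ' ∘ₗ (LinearMap.range (φ ∘ₗ ψ)).mkQ = (LinearMap.range (φ ∘ₗ ψ)).mkQ ∘ₗ φ) (hψ' : ψ' ∘ₗ (LinearMap.range (φ ∘ₗ ψ)).mkQ = (LinearMap.range (φ ∘ₗ ψ)).mkQ ∘ₗ ψ) : Module.length A (M ⧸ LinearMap.range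 (φ ∘ₗ ψ)) < ⊤ ∧ CycAlg.IsPeriodic φ' ψ' ∧ Subsingleton (CycAlg.perH φ' ψ') ∧ Subsingleton (CycAlg.perH ψ' φ') := by
  have hrange : LinearMap.range (φ ∘ₗ ψ) = LinearMap.range (ψ ∘ₗ φ) := by
    rw [LinearMap.range_comp, LinearMap.range_comp, hcomm]
  have hφ'a : ∀ m, φ' (Submodule.Quotient.mk m) = Submodule.Quotient.mk (φ m) := fun m =>
    LinearMap.congr_fun hφ' m
  have hψ'a : ∀ m, ψ' (Submodule.Quotient.mk m) = Submodule.Quotient.mk (ψ m) := fun m =>
    LinearMap.congr_fun hψ' m
  refine ⟨?_, ⟨?_, ?_⟩, ?_, ?_⟩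
  · rw [lt_top_iff_ne_top, Module.length_ne_top_iff]
    exact isFiniteLength_quotient_of_injective hdim (φ ∘ₗ ψ) (hφ.comp hψ)
  · -- φ' ∘ ψ' = 0
    refine LinearMap.ext fun x => ?_
    obtain ⟨m, rfl⟩ := Submodule.mkQ_surjective _ x
    simp only [Submodule.mkQ_apply, LinearMap.comp_apply, LinearMap.zero_apply]
    rw [hψ'a, hφ'a, Submodule.Quotient.mk_eq_zero]
    exact ⟨m, rfl⟩
  · -- ψ' ∘ φ' = 0
    refine LinearMap.ext fun x => ?_
    obtain ⟨m, rfl⟩ := Submodule.mkQ_surjective _ x
    simp only [Submodule.mkQ_apply, LinearMap.comp_apply, LinearMap.zero_apply]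
    rw [hφ'a, hψ'a, Submodule.Quotient.mk_eq_zero, hrange]
    exact ⟨m, rfl⟩
  · apply perH_subsingleton
    intro x hx
    obtain ⟨m, rfl⟩ := Submodule.mkQ_surjective _ x
    rw [Submodule.mkQ_apply, hφ'a, Submodule.Quotient.mk_eq_zero] at hx
    obtain ⟨n, hn⟩ := hx
    rw [LinearMap.comp_apply] at hn
    have := hφ hn
    refine ⟨Submodule.Quotient.mk n, ?_⟩
    rw [hψ'a, this, Submodule.mkQ_apply]
  · apply perH_subsingleton
    intro x hx
    obtain ⟨m, rfl⟩ := Submodule.mkQ_surjective _ x
    rw [Submodule.mkQ_apply, hψ'a, Submodule.Quotient.mk_eq_zero, hrange] at hx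
    obtain ⟨n, hn⟩ := hx
    rw [LinearMap.comp_apply] at hn
    have := hψ hn
    refine ⟨Submodule.Quotient.mk n, ?_⟩
    rw [hφ'a, this, Submodule.mkQ_apply]

end Groth.Agent.S6476
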