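import Groth.Statements.S6478
import Groth.Agent.Lib.CycFlatPull2
import Groth.Agent.Lib.QuasiSection
import Groth.Agent.Lib.H30FibBC

set_option autoImplicit false
universe u
open CategoryTheory AlgebraicGeometry
open CategoryTheory.Limits
open Cyc

namespace Groth.Agent.S6478

open Groth.Agent.Lib.H30DimRel Groth.Agent.Lib.H30FibBC in
/-- the length of the closed fibre of the stalk map only depends on the morphism -/
theorem length_congr_hom {X Y' : Scheme.{u}} (g₁ g₂ : Y' ⟶ X) (h : g₁ = g₂) (y' : Y') :
    Module.length (Y'.presheaf.stalk y')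
        (Y'.presheaf.stalk y' ⧸ Ideal.map (g₁.stalkMap y').hom
          (IsLocalRing.maximalIdeal (X.presheaf.stalk (g₁ y')))) =
      Module.length (Y'.presheaf.stalk y')
        (Y'.presheaf.stalk y' ⧸ Ideal.map (g₂.stalkMap y').hom
          (IsLocalRing.maximalIdeal (X.presheaf.stalk (g₂ y')))) := by
  subst h; rfl

/-- length of the closed fibre of the stalk map of a composite with flat first map -/
theorem length_comp {X X' Y' : Scheme.{u}} (f' : Y' ⟶ X') (p : X' ⟶ X) [Flat f'] (y' : Y') :
    Module.length (Y'.presheaf.stalk y')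
        (Y'.presheaf.stalk y' ⧸ Ideal.map ((f' ≫ p).stalkMap y').hom
          (IsLocalRing.maximalIdeal (X.presheaf.stalk ((f' ≫ p) y')))) =
      Module.length (X'.presheaf.stalk (f' y'))
          (X'.presheaf.stalk (f' y') ⧸ Ideal.map (p.stalkMap (f' y')).hom
            (IsLocalRing.maximalIdeal (X.presheaf.stalk (p (f' y'))))) *
        Module.length (Y'.presheaf.stalk y')
          (Y'.presheaf.stalk y' ⧸ Ideal.map (f'.stalkMap y').hom
            (IsLocalRing.maximalIdeal (X'.presheaf.stalk (f' y')))) := by
  have hlen := Groth.Agent.Lib.CycFlatPull.length_quot_tower (p.stalkMap (f' y')).hom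
    (f'.stalkMap y').hom (Flat.stalkMap f' y')
  have hcomp : ((f' ≫ p).stalkMap y').hom =
      (f'.stalkMap y').hom.comp (p.stalkMap (f' y')).hom := by
    rw [Scheme.Hom.stalkMap_comp]; rfl
  rw [hcomp]; exact hlen


/-- Let f : Y → X be flat, locally of finite type, of relative dimension r, Y' = Y ×_X X' with f' : Y' →
X' and q : Y' → Y, δY, δY' the induced dimension functions (q again has shift c at generic points of
its fibres). Then f' is flat of relative dimension r and (f')^* ∘ g^* = g^* ∘ f^* on k-cycles,
coefficientwise. Setting: p : X' → X is flat (not necessarily of finite type), (X, δ) and (X', δ')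
satisfy Cyc.IsSetup, and δ'(x') = δ(p x') + c whenever x' is maximal under generalization inside its
fibre p⁻¹(p x'); g^* : Z_k(X) → Z_{k+c}(X') is the coefficientwise flat pullback Cyc.pullFun p δ' δ
c. (The published statement takes X′ = X ×_S S′ and Y′ = Y ×_S S′ for a flat S′ → S, with X and Y
locally of finite type over S, and also records the same square on Chow groups, which follows; this
row allows any flat p : X′ → X with the shift condition and states the cycle-level square.) -/
theorem result (X X' Y : Scheme.{u}) (f : Y ⟶ X) (p : X' ⟶ X) [Flat f] [LocallyOfFiniteType f] [Flat p] (r : ℕ) (hr : Cyc.HasRelDim f r) (δ : X → ℤ) (δ' : X' → ℤ) (δY : Y → ℤ) (δY' : ↥(pullback f p) → ℤ) (hX : Cyc.IsSetup X δ) (hX' : Cyc.IsSetup X' δ') (hY : Cyc.IsSetup Y δY) (hf : Cyc.DeltaCompat f δY δ) (hf' : Cyc.DeltaCompat (pullback.snd f p) δY' δ') (c : ℤ) (hc : ∀ x' : X', (∀ y, p y = p x' → y ⤳ x' → y = x') → δ' x' = δ (p x') + c) (hcY : ∀ y' : ↥(pullback f p), (∀ y, pullback.fst f p y = pullback.fst f p y' → y ⤳ y' → y = y') → δY' y' = δY (pullback.fst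 f p y') + c) (k : ℤ) (α : AlgebraicCycle X ℤ) (hα : α ∈ Cyc.Zk X δ k) : Cyc.HasRelDim (pullback.snd f p) r ∧ Cyc.pullFun (pullback.snd f p) δY' δ' r (Cyc.pullFun p δ' δ c ⇑α) = Cyc.pullFun (pullback.fst f p) δY' δY c (Cyc.pullFun f δY δ r ⇑α) := by
  haveI : LocallyOfFiniteType (pullback.snd f p) := inferInstance
  haveI : Flat (pullback.snd f p) := inferInstance
  haveI : Flat (pullback.fst f p) := inferInstance
  have hrf : ∀ y : Y, FlatMor.fibreDimAt f y = (r : WithBot ℕ∞) :=
    (Groth.Agent.Lib.H30FibBC.hasRelDim_iff f r).mp hr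
  have hrf' : ∀ y' : ↥(pullback f p), FlatMor.fibreDimAt (pullback.snd f p) y' = (r : WithBot ℕ∞) := by
    intro y'
    rw [Groth.Agent.Lib.H30FibBC.fibreDimAt_eq_of_isPullback f p (pullback.fst f p) (pullback.snd f p)
      (IsPullback.of_hasPullback f p) y']
    exact hrf _
  have hr' : Cyc.HasRelDim (pullback.snd f p) r :=
    (Groth.Agent.Lib.H30FibBC.hasRelDim_iff (pullback.snd f p) r).mpr hrf'
  refine ⟨hr', ?_⟩
  have hrt_le : ∀ y' : ↥(pullback f p), Groth.Agent.Lib.H30DimRel.rt (pullback.snd f p) y' ≤ r := by
    intro y'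
    have h1 := Groth.Agent.Lib.FibreDimStrata.rt_le_fibreDimAt (pullback.snd f p) y'
    rw [hrf'] at h1
    exact_mod_cast h1
  have hδY' : ∀ y' : ↥(pullback f p), δY' y' =
      δ' ((pullback.snd f p) y') + (Groth.Agent.Lib.H30DimRel.rt (pullback.snd f p) y' : ℤ) := by
    intro y'
    obtain ⟨n, hn, h⟩ := hf' y'
    rw [h, Groth.Agent.Lib.H30DimRel.rt_eq_of_trdeg_eq (pullback.snd f p) y' n hn]
  have hpt : ∀ y' : ↥(pullback f p), p ((pullback.snd f p) y') = f ((pullback.fst f p) y') := by
    intro y'
    have := congrArg (fun φ : pullback f p ⟶ X => φ y') (pullback.condition (f := f) (g := p))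
    exact this.symm
  funext y'
  have hL2le := Groth.Agent.Lib.CycFlatPull.delta_le hX'.2.2 hc ((pullback.snd f p) y')
  have hkey : (δY' y' = δ' ((pullback.snd f p) y') + (r : ℤ) ∧
        δ' ((pullback.snd f p) y') = δ (p ((pullback.snd f p) y')) + c) ↔
      (δY' y' = δY ((pullback.fst f p) y') + c ∧
        δY ((pullback.fst f p) y') = δ (f ((pullback.fst f p) y')) + (r : ℤ)) := by
    constructor
    · rintro ⟨h1, h2⟩
      have hx'max := (Groth.Agent.Lib.CycFlatPull.delta_eq_iff hX'.2.2 hc
        ((pullback.snd f p) y')).mp h2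
      have ht' : Groth.Agent.Lib.H30DimRel.rt (pullback.snd f p) y' = r := by
        have := hδY' y'; omega
      have hy'max : ∀ w' : ↥(pullback f p), (pullback.fst f p) w' = (pullback.fst f p) y' →
          w' ⤳ y' → w' = y' := by
        intro w' hqw' hsp
        by_contra hne
        have hfw' : (pullback.snd f p) w' = (pullback.snd f p) y' := by
          apply hx'max
          · rw [hpt, hpt, hqw']
          · exact hsp.map (pullback.snd f p).continuous
        have h3 := Groth.Agent.Lib.QuasiSection.rt_lt_of_specializes_ne (pullback.snd f p) w' y'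
          hsp hfw' hne
        have h4 := hrt_le w'
        omega
      have hR1 := hcY y' hy'max
      refine ⟨hR1, ?_⟩
      rw [← hpt]; omega
    · rintro ⟨h1, h2⟩
      rw [← hpt] at h2
      have h3 := hδY' y'
      have h4 := hrt_le y'
      constructor <;> omega
  unfold Cyc.pullFun
  by_cases hL : (δY' y' = δ' ((pullback.snd f p) y') + (r : ℤ) ∧
        δ' ((pullback.snd f p) y') = δ (p ((pullback.snd f p) y')) + c)
  · obtain ⟨hR1, hR2⟩ := hkey.mp hL
    rw [if_pos hL.1, if_pos hL.2, if_pos hR1, if_pos hR2]
    have hA := length_comp (pullback.snd f p) p y'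
    have hB := length_comp (pullback.fst f p) f y'
    have hAB := length_congr_hom (pullback.snd f p ≫ p) (pullback.fst f p ≫ f)
      (pullback.condition (f := f) (g := p)).symm y'
    rw [hA, hB] at hAB
    have hAB' := congrArg (fun v : ℕ∞ => (v.toNat : ℤ)) hAB
    simp only [ENat.toNat_mul, Nat.cast_mul] at hAB'
    rw [mul_assoc, mul_assoc, hAB', hpt]
  · have hR : ¬ (δY' y' = δY ((pullback.fst f p) y') + c ∧
        δY ((pullback.fst f p) y') = δ (f ((pullback.fst f p) y')) + (r : ℤ)) := fun h => hL (hkey.mpr h)
    have hLHS : (if δY' y' = δ' ((pullback.snd f p) y') + (r : ℤ) then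
        (if δ' ((pullback.snd f p) y') = δ (p ((pullback.snd f p) y')) + c then
          α (p ((pullback.snd f p) y')) *
            ((Module.length (X'.presheaf.stalk ((pullback.snd f p) y'))
              (X'.presheaf.stalk ((pullback.snd f p) y') ⧸
                Ideal.map (p.stalkMap ((pullback.snd f p) y')).hom
                  (IsLocalRing.maximalIdeal (X.presheaf.stalk (p ((pullback.snd f p) y')))))).toNat : ℤ)
          else 0) *
          ((Module.length ((pullback f p).presheaf.stalk y')
            ((pullback f p).presheaf.stalk y' ⧸ Ideal.map ((pullback.snd f p).stalkMap y').hom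
              (IsLocalRing.maximalIdeal (X'.presheaf.stalk ((pullback.snd f p) y'))))).toNat : ℤ)
        else 0) = 0 := by
      by_cases h1 : δY' y' = δ' ((pullback.snd f p) y') + (r : ℤ)
      · rw [if_pos h1]
        by_cases h2 : δ' ((pullback.snd f p) y') = δ (p ((pullback.snd f p) y')) + c
        · exact absurd ⟨h1, h2⟩ hL
        · rw [if_neg h2, zero_mul]
      · rw [if_neg h1]
    have hRHS : (if δY' y' = δY ((pullback.fst f p) y') + c then
        (if δY ((pullback.fst f p) y') = δ (f ((pullback.fst f p) y')) + (r : ℤ) then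
          α (f ((pullback.fst f p) y')) *
            ((Module.length (Y.presheaf.stalk ((pullback.fst f p) y'))
              (Y.presheaf.stalk ((pullback.fst f p) y') ⧸
                Ideal.map (f.stalkMap ((pullback.fst f p) y')).hom
                  (IsLocalRing.maximalIdeal (X.presheaf.stalk (f ((pullback.fst f p) y')))))).toNat : ℤ)
          else 0) *
          ((Module.length ((pullback f p).presheaf.stalk y')
            ((pullback f p).presheaf.stalk y' ⧸ Ideal.map ((pullback.fst f p).stalkMap y').hom
              (IsLocalRing.maximalIdeal (Y.presheaf.stalk ((pullback.fst f p) y'))))).toNat : ℤ)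
        else 0) = 0 := by
      by_cases h1 : δY' y' = δY ((pullback.fst f p) y') + c
      · rw [if_pos h1]
        by_cases h2 : δY ((pullback.fst f p) y') = δ (f ((pullback.fst f p) y')) + (r : ℤ)
        · exact absurd ⟨h1, h2⟩ hR
        · rw [if_neg h2, zero_mul]
      · rw [if_neg h1]
    exact hLHS.trans hRHS.symm

end Groth.Agent.S6478
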