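import Groth.Statements.S6481
import Groth.Agent.Lib.GlueHtOne61

set_option autoImplicit false
universe u
open CycAlg

namespace Groth.Agent.S6481

/-- Let (A, 𝔪) be a 2-dimensional Noetherian local ring, t ∈ 𝔪 a nonzerodivisor with V(t) = {𝔪, 𝔮_1, …,
𝔮_r}, and A_{𝔮_i} ⊂ B_i finite ring extensions with B_i/A_{𝔮_i} annihilated by a power of t and with
t a nonzerodivisor on each B_i. Then A admits some finite extension A ⊂ B whose quotient B/A is
killed by some power of t, such that for every i the localization B_{𝔮_i} = B ⊗_A A_{𝔮_i} is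
isomorphic to B_i (existence of an A_{𝔮_i}-algebra isomorphism; B itself is only asserted to exist).
(The published statement allows any finite ring extensions A_{𝔮_i} ⊂ B_i; this row asks t to be a
nonzerodivisor on each B_i, the case its proof treats, where B_i sits inside t^{-n}A_{𝔮_i}. The
published statement also makes B local with the same residue field as A; this row omits that
clause.) Finite extension with quotient killed by a power of t: CycAlg.IsFinExt with the ideal (t). -/
theorem result (A : Type u) [CommRing A] [IsNoetherianRing A] [IsLocalRing A] (hA : ringKrullDim A = 2) (t : A) (ht : t ∈ IsLocalRing.maximalIdeal A) (htnz : t ∈ nonZeroDivisors A) (r : ℕ) (q : Fin r → Ideal A) (hq : ∀ i, (q i).IsPrime) (hinj : Function.Injective q) (hqm : ∀ i, q i ≠ IsLocalRing.maximalIdeal A) (htq : ∀ i, t ∈ q i) (hV : ∀ p : Ideal A, p.IsPrime → t ∈ p → p = IsLocalRing.maximalIdeal A ∨ ∃ i, p = q i) (B : Fin r → Type u) [∀ i, CommRing (B i)] [∀ i, Algebra (Localization.AtPrime (q i)) (B i)] (hB : ∀ i, CycAlg.IsFinExt (Localization.AtPrime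 (q i)) (B i) (Ideal.span {algebraMap A (Localization.AtPrime (q i)) t})) (htB : ∀ i, IsSMulRegular (B i) (algebraMap A (Localization.AtPrime (q i)) t)) : ∃ (C : Type u) (_ : CommRing C) (_ : Algebra A C), CycAlg.IsFinExt A C (Ideal.span {t}) ∧ ∀ i, Nonempty (TensorProduct A (Localization.AtPrime (q i)) C ≃ₐ[Localization.AtPrime (q i)] B i) := by
  classical
  have hne : Nontrivial A := inferInstance
  -- the primes `q i` are pairwise incomparable
  have hle_max : ∀ i, q i < IsLocalRing.maximalIdeal A := fun i =>
    lt_of_le_of_ne (IsLocalRing.le_maximalIdeal (hq i).ne_top) (hqm i)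
  have hht1 : ∀ i, (1 : ℕ∞) ≤ (q i).height := fun i =>
    (Ideal.one_le_height_span_singleton_of_mem_nonZeroDivisors htnz).trans
      (Ideal.height_mono ((Ideal.span_singleton_le_iff_mem _).mpr (htq i)))
  have hincomp : ∀ i j, q j ≤ q i → j = i := by
    intro i j hji
    by_contra hne
    have hlt : q j < q i := lt_of_le_of_ne hji (fun e => hne (hinj e))
    have h2 : (q j).height + 1 ≤ (q i).height := Ideal.height_add_one_le_of_lt_of_isPrime hlt
    have h3 : (q i).height + 1 ≤ (IsLocalRing.maximalIdeal A).height :=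
      Ideal.height_add_one_le_of_lt_of_isPrime (hle_max i)
    have h4 : (3 : ℕ∞) ≤ (IsLocalRing.maximalIdeal A).height := by
      calc (3 : ℕ∞) = 1 + 1 + 1 := by norm_num
        _ ≤ (q j).height + 1 + 1 := by gcongr; exact hht1 j
        _ ≤ (q i).height + 1 := by gcongr
        _ ≤ _ := h3
    have h5 : ((IsLocalRing.maximalIdeal A).height : WithBot ℕ∞) = 2 := by
      rw [IsLocalRing.maximalIdeal_height_eq_ringKrullDim, hA]
    have h6 : ((3 : ℕ∞) : WithBot ℕ∞) ≤ 2 := by
      rw [← h5]
      exact WithBot.coe_le_coe.mpr h4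
    have h7 : ((3 : ℕ∞) : WithBot ℕ∞) = ((3 : ℕ) : WithBot ℕ∞) := rfl
    have h8 : (2 : WithBot ℕ∞) = ((2 : ℕ) : WithBot ℕ∞) := rfl
    rw [h7, h8, Nat.cast_le] at h6
    omega
  -- uniform exponent
  choose n0 hn0 using fun i => (hB i).2.2
  set n : ℕ := ∑ i, n0 i with hn
  have hn_le : ∀ i, n0 i ≤ n := fun i => Finset.single_le_sum (fun _ _ => Nat.zero_le _)
    (Finset.mem_univ i)
  have hLD : ∀ i, Groth.Agent.Lib.GlueHtOne61.LocalData t n (q i) (B i) := by
    intro i
    refine ⟨(hB i).1, ?_, htB i⟩
    intro b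
    have h1 : (algebraMap A (Localization.AtPrime (q i)) t) ^ n0 i ∈
        Ideal.span {algebraMap A (Localization.AtPrime (q i)) t} ^ n0 i :=
      Ideal.pow_mem_pow (Ideal.subset_span (Set.mem_singleton _)) _
    obtain ⟨l, hl⟩ := hn0 i _ h1 b
    refine ⟨(algebraMap A (Localization.AtPrime (q i)) t) ^ (n - n0 i) * l, ?_⟩
    rw [map_mul, hl, ← Algebra.smul_def, smul_smul, ← pow_add, Nat.sub_add_cancel (hn_le i)]
  -- separation of the primes
  have hav : ∀ i j : Fin r, j ≠ i → ∃ u : A, u ∉ q i ∧
      algebraMap A (Localization.AtPrime (q j)) u ∈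
        Ideal.span {(algebraMap A (Localization.AtPrime (q j)) t) ^ n} := by
    intro i j hji
    have hrad : IsLocalRing.maximalIdeal (Localization.AtPrime (q j)) ≤
        (Ideal.span {(algebraMap A (Localization.AtPrime (q j)) t) ^ n}).radical := by
      rw [Ideal.radical_eq_sInf]
      refine le_sInf ?_
      rintro P ⟨hP1, hP2⟩
      have htP : algebraMap A (Localization.AtPrime (q j)) t ∈ P :=
        hP2.mem_of_pow_mem n (hP1 (Ideal.subset_span (Set.mem_singleton _)))
      have hcomap_le : P.comap (algebraMap A (Localization.AtPrime (q j))) ≤ q j :=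
        (Ideal.comap_mono (IsLocalRing.le_maximalIdeal hP2.ne_top)).trans
          (IsLocalization.AtPrime.under_maximalIdeal (Localization.AtPrime (q j)) (q j)).le
      have hPeq : q j ≤ P.comap (algebraMap A (Localization.AtPrime (q j))) := by
        rcases hV _ (Ideal.IsPrime.comap _) (Ideal.mem_comap.mpr htP) with e | ⟨k, e⟩
        · exact absurd (le_antisymm (IsLocalRing.le_maximalIdeal (hq j).ne_top)
            (e ▸ hcomap_le)) (hqm j)
        · have : k = j := hincomp j k (e ▸ hcomap_le)
          rw [e, this]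
      calc IsLocalRing.maximalIdeal (Localization.AtPrime (q j))
          = (q j).map (algebraMap A (Localization.AtPrime (q j))) :=
            (Localization.AtPrime.map_eq_maximalIdeal).symm
        _ ≤ (P.comap (algebraMap A (Localization.AtPrime (q j)))).map
              (algebraMap A (Localization.AtPrime (q j))) := Ideal.map_mono hPeq
        _ ≤ P := Ideal.map_comap_le
    obtain ⟨N, hN⟩ := Ideal.exists_pow_le_of_le_radical_of_fg hrad
      ((isNoetherianRing_iff_ideal_fg _).mp inferInstance _)
    have hnle : ¬ q j ≤ q i := fun hle => hji (hincomp i j hle)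
    obtain ⟨e, hej, hei⟩ := Set.not_subset.mp hnle
    refine ⟨e ^ N, fun hmem => hei ((hq i).mem_of_pow_mem N hmem), ?_⟩
    apply hN
    rw [map_pow]
    apply Ideal.pow_mem_pow
    rw [← Localization.AtPrime.map_eq_maximalIdeal]
    exact Ideal.mem_map_of_mem _ hej
  let _ : ∀ i, Algebra A (B i) := fun i =>
    ((algebraMap (Localization.AtPrime (q i)) (B i)).comp
      (algebraMap A (Localization.AtPrime (q i)))).toAlgebra
  have _ : ∀ i, IsScalarTower A (Localization.AtPrime (q i)) (B i) := fun i =>
    IsScalarTower.of_algebraMap_eq fun _ => rfl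
  refine ⟨Groth.Agent.Lib.GlueHtOne61.C hLD, inferInstance, inferInstance,
    ⟨Groth.Agent.Lib.GlueHtOne61.injective_algebraMap_C hLD htnz,
      Groth.Agent.Lib.GlueHtOne61.finite_C hLD htnz, n,
      fun x hx c => Groth.Agent.Lib.GlueHtOne61.smul_mem_range hLD htnz x hx c⟩, fun i => ?_⟩
  exact Groth.Agent.Lib.GlueHtOne61.nonempty_tensor_equiv hLD htnz hav i

end Groth.Agent.S6481
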