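import Groth.Statements.S6484

set_option autoImplicit false
universe u
open CategoryTheory AlgebraicGeometry
open CategoryTheory.Limits
open Cyc

namespace Groth.Agent.S6484

/-- If f : Y → X is completely decomposed (this prelude's Cyc.IsCompletelyDecomposed: over every point
of X lies a point of Y with trivial residue field extension) and g : X' → X is any morphism of
schemes, then the base change Y ×_X X' → X' is completely decomposed. Consequently the base change
of an envelope (a proper completely decomposed morphism) is an envelope, properness being preserved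
by base change. (The published envelope statement takes X′ → X between schemes locally of finite
type over a base; this row allows any g.) -/
theorem result (X X' Y : Scheme.{u}) (f : Y ⟶ X) (g : X' ⟶ X) (hcd : Cyc.IsCompletelyDecomposed f) : Cyc.IsCompletelyDecomposed (pullback.snd f g) := by
  intro x'
  obtain ⟨y, hy, hsurj⟩ := hcd (g x')
  have hbij : Function.Bijective (f.residueFieldMap y).hom :=
    ⟨(f.residueFieldMap y).hom.injective, hsurj⟩
  have hiso : IsIso (f.residueFieldMap y) :=
    (ConcreteCategory.isIso_iff_bijective _).mpr hbij
  -- the map κ(y) ⟶ κ(x')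
  let σ : Y.residueField y ⟶ X'.residueField x' :=
    inv (f.residueFieldMap y) ≫ (X.residueFieldCongr hy).hom ≫ g.residueFieldMap x'
  have hσ : (Spec.map σ ≫ Y.fromSpecResidueField y) ≫ f = X'.fromSpecResidueField x' ≫ g := by
    rw [Category.assoc, ← Scheme.Hom.SpecMap_residueFieldMap_fromSpecResidueField,
      ← Spec.map_comp_assoc]
    simp only [σ, IsIso.hom_inv_id_assoc, Spec.map_comp, Category.assoc,
      Scheme.residueFieldCongr_fromSpecResidueField,
      Scheme.Hom.SpecMap_residueFieldMap_fromSpecResidueField]
  let t : Spec (.of (X'.residueField x')) ⟶ pullback f g :=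
    pullback.lift (Spec.map σ ≫ Y.fromSpecResidueField y) (X'.fromSpecResidueField x') hσ
  have ht : t ≫ pullback.snd f g = X'.fromSpecResidueField x' := pullback.lift_snd _ _ _
  have h1 := Scheme.descResidueField_stalkClosedPointTo_comp (pullback.snd f g) t
  have h2 : (Scheme.SpecToEquivOfField (X'.residueField x') X') (t ≫ pullback.snd f g) =
      ⟨x', 𝟙 _⟩ := by
    rw [← Equiv.eq_symm_apply, ht]
    simp only [Scheme.SpecToEquivOfField, Equiv.coe_fn_symm_mk, Spec.map_id]
    exact (Category.id_comp _).symm
  rw [Scheme.SpecToEquivOfField_eq_iff] at h2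
  obtain ⟨e, he⟩ := h2
  refine ⟨t (IsLocalRing.closedPoint (X'.residueField x')), ?_, ?_⟩
  · simpa [Scheme.SpecToEquivOfField] using e
  · have h3 : (pullback.snd f g).residueFieldMap
        (t (IsLocalRing.closedPoint (X'.residueField x'))) ≫
        Scheme.descResidueField (Scheme.stalkClosedPointTo t) = (X'.residueFieldCongr e).hom := by
      rw [← h1]
      simpa [Scheme.SpecToEquivOfField] using he
    intro b
    refine ⟨(X'.residueFieldCongr e).inv
      ((Scheme.descResidueField (Scheme.stalkClosedPointTo t)).hom b), ?_⟩
    apply (Scheme.descResidueField (Scheme.stalkClosedPointTo t)).hom.injective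
    have h4 : ∀ z, (X'.residueFieldCongr e).hom.hom ((X'.residueFieldCongr e).inv.hom z) = z :=
      fun z => by
        rw [← CommRingCat.comp_apply, Iso.inv_hom_id]
        rfl
    have h5 := congrArg (fun φ => φ.hom ((X'.residueFieldCongr e).inv.hom
      ((Scheme.descResidueField (Scheme.stalkClosedPointTo t)).hom b))) h3
    exact h5.trans (h4 _)

end Groth.Agent.S6484
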