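import Groth.Statements.S6485
import Mathlib.Algebra.MvPolynomial.PDeriv
import Mathlib.Algebra.MvPolynomial.NoZeroDivisors
import Mathlib.Algebra.MvPolynomial.Degrees

set_option autoImplicit false
universe u
open IntMult

namespace Groth.Agent.S6485

open MvPolynomial

section aux
variable {k : Type u} [Field k] {n : ℕ}

/-- the exponent vector of the monomial attached to a permutation -/
noncomputable def mono (τ : Equiv.Perm (Fin n)) : (Fin n × Fin n) →₀ ℕ :=
  ∑ i, Finsupp.single (τ i, i) 1

theorem mono_apply (τ : Equiv.Perm (Fin n)) (i j : Fin n) :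
    mono τ (i, j) = if τ j = i then 1 else 0 := by
  classical
  simp only [mono, Finsupp.finsetSum_apply, Finsupp.single_apply, Prod.mk.injEq]
  rw [Finset.sum_eq_single j]
  · simp
  · intro b _ hb
    simp [hb]
  · simp

theorem mono_injective : Function.Injective (mono (n := n)) := by
  intro τ τ' h
  ext j
  have h1 : mono τ' (τ j, j) = 1 := by rw [← h, mono_apply]; simp
  rw [mono_apply] at h1
  by_cases h2 : τ' j = τ j
  · rw [h2]
  · simp [h2] at h1

variable (k n) in
theorem det_eq : (Matrix.mvPolynomialX (Fin n) (Fin n) k).det =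
    ∑ τ : Equiv.Perm (Fin n), C ((Equiv.Perm.sign τ : ℤ) : k) * monomial (mono τ) 1 := by
  rw [Matrix.det_apply']
  refine Finset.sum_congr rfl fun τ _ => ?_
  have e1 : ((Equiv.Perm.sign τ : ℤ) : MvPolynomial (Fin n × Fin n) k) =
      C ((Equiv.Perm.sign τ : ℤ) : k) := by simp
  have e2 : ∏ i, Matrix.mvPolynomialX (Fin n) (Fin n) k (τ i) i = monomial (mono τ) 1 := by
    rw [mono, monomial_sum_one]
    rfl
  rw [e1, e2]

theorem coeff_det (m : (Fin n × Fin n) →₀ ℕ) :
    coeff m (Matrix.mvPolynomialX (Fin n) (Fin n) k).det =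
      ∑ τ : Equiv.Perm (Fin n), ((Equiv.Perm.sign τ : ℤ) : k) * if mono τ = m then 1 else 0 := by
  classical
  rw [det_eq, coeff_sum]
  refine Finset.sum_congr rfl fun τ _ => ?_
  rw [coeff_C_mul, coeff_monomial]

theorem exists_of_mem_support {m : (Fin n × Fin n) →₀ ℕ}
    (hm : m ∈ (Matrix.mvPolynomialX (Fin n) (Fin n) k).det.support) : ∃ τ, mono τ = m := by
  classical
  by_contra h
  push Not at h
  rw [mem_support_iff, coeff_det] at hm
  apply hm
  apply Finset.sum_eq_zero
  intro τ _
  simp [h τ]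

theorem mono_mem_support (τ : Equiv.Perm (Fin n)) :
    mono τ ∈ (Matrix.mvPolynomialX (Fin n) (Fin n) k).det.support := by
  classical
  rw [mem_support_iff, coeff_det, Finset.sum_eq_single τ]
  · simp only [if_true, mul_one]
    rcases Int.units_eq_one_or (Equiv.Perm.sign τ) with h | h <;> simp [h]
  · intro τ' _ h
    rw [if_neg (fun h' => h (mono_injective h')), mul_zero]
  · simp


/-- every monomial of the determinant has exponent at most one in each variable, and never
involves two distinct variables of the same row or of the same column -/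
theorem support_le_one {m : (Fin n × Fin n) →₀ ℕ}
    (hm : m ∈ (Matrix.mvPolynomialX (Fin n) (Fin n) k).det.support) (v : Fin n × Fin n) :
    m v ≤ 1 := by
  obtain ⟨τ, rfl⟩ := exists_of_mem_support hm
  obtain ⟨i, j⟩ := v
  rw [mono_apply]
  split_ifs <;> simp

theorem support_disjoint {m : (Fin n × Fin n) →₀ ℕ}
    (hm : m ∈ (Matrix.mvPolynomialX (Fin n) (Fin n) k).det.support) {v w : Fin n × Fin n}
    (hvw : v ≠ w) (h : v.1 = w.1 ∨ v.2 = w.2) : m v = 0 ∨ m w = 0 := by
  obtain ⟨τ, rfl⟩ := exists_of_mem_support hm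
  obtain ⟨i, j⟩ := v
  obtain ⟨i', j'⟩ := w
  rw [mono_apply, mono_apply]
  by_cases h1 : τ j = i
  · by_cases h2 : τ j' = i'
    · exfalso
      apply hvw
      rcases h with h | h
      · simp only at h
        have : j = j' := τ.injective (by rw [h1, h2, h])
        rw [Prod.mk.injEq]; exact ⟨h, this⟩
      · simp only at h
        subst h
        rw [Prod.mk.injEq]; exact ⟨h1.symm.trans h2, rfl⟩
    · right; simp [h2]
  · left; simp [h1]

theorem degreeOf_det (v : Fin n × Fin n) :
    degreeOf v (Matrix.mvPolynomialX (Fin n) (Fin n) k).det = 1 := by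
  apply le_antisymm
  · rw [degreeOf_le_iff]
    intro m hm
    exact support_le_one hm v
  · obtain ⟨i, j⟩ := v
    have h := monomial_le_degreeOf (i, j) (mono_mem_support (k := k) (Equiv.swap i j))
    rw [mono_apply] at h
    simpa using h

theorem coeff_eq_zero_of_degreeOf_eq_zero {σ : Type*} {v : σ} {h : MvPolynomial σ k}
    (hv : degreeOf v h = 0) {m : σ →₀ ℕ} (hm : m v ≠ 0) : coeff m h = 0 := by
  by_contra hc
  have := monomial_le_degreeOf v (mem_support_iff.mpr hc)
  omega

theorem pderiv_eq_zero_of_degreeOf_eq_zero {σ : Type*} {v : σ} {h : MvPolynomial σ k}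
    (hv : degreeOf v h = 0) : pderiv v h = 0 := by
  ext m
  rw [coeff_pderiv, coeff_eq_zero_of_degreeOf_eq_zero hv (by simp), zero_mul, coeff_zero]

theorem pderiv_ne_zero_of_degreeOf_eq_one {σ : Type*} {v : σ} {h : MvPolynomial σ k}
    (hv : degreeOf v h = 1) : pderiv v h ≠ 0 := by
  classical
  have hne : h.support.Nonempty := by
    rw [Finset.nonempty_iff_ne_empty, Ne, support_eq_empty]
    rintro rfl
    simp at hv
  rw [degreeOf_eq_sup] at hv
  obtain ⟨m, hm, hm1⟩ := Finset.exists_mem_eq_sup _ hne (fun m => m v)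
  rw [hv] at hm1
  intro h0
  have hc := congrArg (coeff (m - Finsupp.single v 1)) h0
  rw [coeff_pderiv, coeff_zero] at hc
  have e : m - Finsupp.single v 1 + Finsupp.single v 1 = m := by
    ext u
    by_cases huv : u = v
    · subst huv; simp [← hm1]
    · simp [Ne.symm huv]
  rw [e] at hc
  have e2 : ((m - Finsupp.single v 1 : σ →₀ ℕ) : σ → ℕ) v = 0 := by simp [← hm1]
  rw [e2] at hc
  simp only [Nat.cast_zero, zero_add, mul_one] at hc
  exact (mem_support_iff.mp hm) hc

theorem pderiv_pderiv_det {v w : Fin n × Fin n} (hvw : v ≠ w) (h : v.1 = w.1 ∨ v.2 = w.2) :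
    pderiv v (pderiv w (Matrix.mvPolynomialX (Fin n) (Fin n) k).det) = 0 := by
  ext m
  rw [coeff_pderiv, coeff_pderiv, coeff_zero]
  have : coeff (m + Finsupp.single v 1 + Finsupp.single w 1)
      (Matrix.mvPolynomialX (Fin n) (Fin n) k).det = 0 := by
    by_contra hc
    rcases support_disjoint (mem_support_iff.mpr hc) hvw h with h1 | h1
    · simp at h1
    · simp at h1
  rw [this, zero_mul, zero_mul]

theorem key {f g : MvPolynomial (Fin n × Fin n) k}
    (hfg : (Matrix.mvPolynomialX (Fin n) (Fin n) k).det = f * g) {v w : Fin n × Fin n}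
    (hvw : v ≠ w) (h : v.1 = w.1 ∨ v.2 = w.2) (hf : degreeOf v f = 1) (hg : degreeOf w g = 1)
    (hf' : degreeOf w f = 0) (hg' : degreeOf v g = 0) : False := by
  have h0 := pderiv_pderiv_det (k := k) hvw h
  rw [hfg, pderiv_mul, pderiv_eq_zero_of_degreeOf_eq_zero hf', zero_mul, zero_add, pderiv_mul] at h0
  have h1 : pderiv v (pderiv w g) = 0 := by
    ext m
    rw [coeff_pderiv, coeff_pderiv, coeff_eq_zero_of_degreeOf_eq_zero hg' (by simp), zero_mul,
      zero_mul, coeff_zero]
  rw [h1, mul_zero, add_zero] at h0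
  exact (mul_ne_zero (pderiv_ne_zero_of_degreeOf_eq_one hf)
    (pderiv_ne_zero_of_degreeOf_eq_one hg)) h0

theorem isUnit_right {f g : MvPolynomial (Fin n × Fin n) k}
    (hfg : (Matrix.mvPolynomialX (Fin n) (Fin n) k).det = f * g) (v₀ : Fin n × Fin n)
    (h0 : degreeOf v₀ f = 1) : IsUnit g := by
  have hD : (Matrix.mvPolynomialX (Fin n) (Fin n) k).det ≠ 0 := Matrix.det_mvPolynomialX_ne_zero _ k
  have hf : f ≠ 0 := by rintro rfl; simp at hfg; exact hD hfg
  have hg : g ≠ 0 := by rintro rfl; simp at hfg; exact hD hfg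
  have hsum : ∀ v, degreeOf v f + degreeOf v g = 1 := fun v => by
    rw [← degreeOf_mul_eq hf hg, ← hfg, degreeOf_det]
  have step : ∀ v w : Fin n × Fin n, v ≠ w → (v.1 = w.1 ∨ v.2 = w.2) → degreeOf v f = 1 →
      degreeOf w f = 1 := by
    intro v w hvw h hv
    by_contra hw
    have h1 := hsum v
    have h2 := hsum w
    exact key hfg hvw h hv (by omega) (by omega) (by omega)
  have hall : ∀ w, degreeOf w f = 1 := by
    rintro ⟨i, j⟩
    have hu : degreeOf (v₀.1, j) f = 1 := by
      by_cases hu : v₀ = (v₀.1, j)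
      · rw [← hu]; exact h0
      · exact step v₀ _ hu (Or.inl rfl) h0
    by_cases hw : ((v₀.1, j) : Fin n × Fin n) = (i, j)
    · rw [← hw]; exact hu
    · exact step _ _ hw (Or.inr rfl) hu
  have hg0 : ∀ w, degreeOf w g = 0 := fun w => by
    have := hsum w
    have := hall w
    omega
  have hC : g = C (coeff 0 g) := by
    classical
    ext m
    rw [coeff_C]
    split_ifs with hm
    · rw [hm]
    · have : ∃ w, m w ≠ 0 := by
        by_contra hc
        push Not at hc
        exact hm (Finsupp.ext fun w => (hc w).symm)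
      obtain ⟨w, hw⟩ := this
      exact coeff_eq_zero_of_degreeOf_eq_zero (hg0 w) hw
  rw [hC]
  apply IsUnit.map
  rw [isUnit_iff_ne_zero]
  intro hc
  rw [hc, C_0] at hC
  exact hg hC

end aux

/-- Let k be a field and n ≥ 1. Then the determinant of the generic matrix (x_{ij})_{1 ≤ i, j ≤ n} is an
irreducible element of the polynomial ring k[x_{ij}] (Mathlib's Matrix.mvPolynomialX is the generic
matrix over MvPolynomial (Fin n × Fin n) k). -/
theorem result (k : Type u) [Field k] (n : ℕ) (hn : 1 ≤ n) : Irreducible (Matrix.mvPolynomialX (Fin n) (Fin n) k).det := by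
  have v₀ : Fin n × Fin n := (⟨0, hn⟩, ⟨0, hn⟩)
  rw [irreducible_iff]
  refine ⟨fun hu => ?_, fun a b hab => ?_⟩
  · obtain ⟨e, he⟩ := hu.exists_right_inv
    have hD : (Matrix.mvPolynomialX (Fin n) (Fin n) k).det ≠ 0 :=
      Matrix.det_mvPolynomialX_ne_zero _ k
    have he0 : e ≠ 0 := by rintro rfl; simp at he
    have := degreeOf_mul_eq (n := v₀) hD he0
    rw [he, degreeOf_det] at this
    simp only [degreeOf_one] at this
    omega
  · have hD : (Matrix.mvPolynomialX (Fin n) (Fin n) k).det ≠ 0 :=
      Matrix.det_mvPolynomialX_ne_zero _ k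
    have ha : a ≠ 0 := by rintro rfl; simp at hab; exact hD hab
    have hb : b ≠ 0 := by rintro rfl; simp at hab; exact hD hab
    have hsum : degreeOf v₀ a + degreeOf v₀ b = 1 := by
      rw [← degreeOf_mul_eq ha hb, ← hab, degreeOf_det]
    by_cases h1 : degreeOf v₀ a = 1
    · exact Or.inr (isUnit_right hab v₀ h1)
    · exact Or.inl (isUnit_right (hab.trans (mul_comm a b)) v₀ (by omega))


end Groth.Agent.S6485
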