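import Groth.Statements.S6493
import Mathlib.RingTheory.HopkinsLevitzki
import Mathlib.AlgebraicGeometry.Stalk
import Mathlib.AlgebraicGeometry.Noetherian

set_option autoImplicit false
universe u
open CategoryTheory AlgebraicGeometry
open Cyc

namespace Groth.Agent.S6493

/-- Suppose Z ⊂ X is a closed subscheme whose δ-dimension is at most k, and pick a point ξ of Z
satisfying δ(ξ) = k. In that case Z has an irreducible component whose generic point is ξ; and at
every generic point ξ' of an irreducible component of Z (every point of Z maximal under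
generalization) the length of O_{Z,ξ'} over O_{X,ξ'} (= its length over itself) is finite. Here a
pair (X, δ) with Cyc.IsSetup plays the role of a scheme locally of finite type over the base (S, δ)
(X locally Noetherian with universally catenary local rings, δ a dimension function). -/
theorem result (X Z : Scheme.{u}) (δ : X → ℤ) (hX : Cyc.IsSetup X δ) (i : Z ⟶ X) [IsClosedImmersion i] (k : ℤ) (hZ : ∀ z : Z, δ (i z) ≤ k) (ξ : Z) (hξ : δ (i ξ) = k) : (∀ z : Z, z ⤳ ξ → z = ξ) ∧ ∀ ξ' : Z, (∀ z : Z, z ⤳ ξ' → z = ξ') → Module.length ↑(Z.presheaf.stalk ξ') ↑(Z.presheaf.stalk ξ') < ⊤ := by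
  obtain ⟨hN, -, hdim⟩ := hX
  constructor
  · intro z hz
    by_contra hne
    have hsp : i z ⤳ i ξ := hz.map i.continuous
    have hne' : i z ≠ i ξ := fun h => hne (i.isClosedEmbedding.injective h)
    have := (hdim (i z) (i ξ) hsp hne').1
    have := hZ z
    omega
  · intro ξ' hgen
    have : IsLocallyNoetherian Z := LocallyOfFiniteType.isLocallyNoetherian i
    have hsub : Subsingleton (PrimeSpectrum (Z.presheaf.stalk ξ')) := by
      refine ⟨fun p q => ?_⟩
      apply (Z.fromSpecStalk ξ').isEmbedding.injective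
      have hp : Z.fromSpecStalk ξ' p ∈ Set.range (Z.fromSpecStalk ξ') := ⟨p, rfl⟩
      have hq : Z.fromSpecStalk ξ' q ∈ Set.range (Z.fromSpecStalk ξ') := ⟨q, rfl⟩
      rw [Scheme.range_fromSpecStalk] at hp hq
      exact (hgen _ hp).trans (hgen _ hq).symm
    have hdim0 : Ring.KrullDimLE 0 (Z.presheaf.stalk ξ') := by
      refine Ring.KrullDimLE.mk₀ fun I hI => ?_
      obtain ⟨m, hm, hIm⟩ := Ideal.exists_le_maximal I hI.ne_top
      have : (⟨I, hI⟩ : PrimeSpectrum (Z.presheaf.stalk ξ')) = ⟨m, hm.isPrime⟩ :=
        Subsingleton.elim _ _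
      have hIm' : I = m := congrArg PrimeSpectrum.asIdeal this
      exact hIm' ▸ hm
    have : IsArtinianRing (Z.presheaf.stalk ξ') := isArtinianRing_iff_krullDimLE_zero.mpr hdim0
    exact lt_top_iff_ne_top.mpr Module.length_ne_top

end Groth.Agent.S6493
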