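import Groth.Statements.S6501
import Mathlib.RingTheory.DividedPowers.Padic
import Mathlib.RingTheory.Flat.TorsionFree
import Mathlib.RingTheory.Flat.Basic

set_option autoImplicit false
universe u
open DPow

namespace Groth.Agent.S6501

open TensorProduct in
/-- Existence of divided powers from the divisibility condition on generators. -/
theorem nonempty_dividedPowers {A : Type u} [CommRing A] [IsAddTorsionFree A] (I : Ideal A)
    (S : Set A) (hS : Ideal.span S = I)
    (H : ∀ x ∈ S, ∀ n : ℕ, 1 ≤ n → x ^ n ∈ Ideal.span {(Nat.factorial n : A)} * I) :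
    Nonempty (DividedPowers I) := by
  classical
  let f : A →+* ℚ ⊗[ℤ] A := (Algebra.TensorProduct.includeRight : A →ₐ[ℤ] ℚ ⊗[ℤ] A).toRingHom
  have hf : Function.Injective f :=
    Algebra.TensorProduct.includeRight_injective (Int.cast_injective)
  let hJ : DividedPowers (I.map f) := DividedPowers.RatAlgebra.dividedPowers (I.map f)
  have hmemJ : ∀ {x : A}, x ∈ I → f x ∈ I.map f := fun hx => Ideal.mem_map_of_mem f hx
  have hunit : ∀ n : ℕ, IsUnit ((n.factorial : ℕ) : ℚ ⊗[ℤ] A) := fun n =>
    IsUnit.natCast_factorial_of_algebra ℚ n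
  -- the predicate
  have key : ∀ x ∈ I, ∀ n : ℕ, ∃ (y : A) (_ : n ≠ 0 → y ∈ I), f y = hJ.dpow n (f x) := by
    intro x hx
    rw [← hS] at hx
    induction hx using Submodule.span_induction with
    | mem x hxS =>
      intro n
      have hxI : x ∈ I := hS ▸ Ideal.subset_span hxS
      rcases Nat.eq_zero_or_pos n with rfl | hn
      · exact ⟨1, fun h => (h rfl).elim, by rw [hJ.dpow_zero (hmemJ hxI), map_one]⟩
      · obtain ⟨y, hyI, hy⟩ := Ideal.mem_span_singleton_mul.mp (H x hxS n hn)
        refine ⟨y, fun _ => hyI, ?_⟩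
        apply (hunit n).mul_left_cancel
        rw [DividedPowers.factorial_mul_dpow_eq_pow hJ (hmemJ hxI), ← map_pow, ← hy, map_mul,
          map_natCast]
    | zero =>
      intro n
      rcases Nat.eq_zero_or_pos n with rfl | hn
      · exact ⟨1, fun h => (h rfl).elim, by
          rw [map_zero, hJ.dpow_zero (Ideal.zero_mem _), map_one]⟩
      · exact ⟨0, fun _ => Ideal.zero_mem _, by
          rw [map_zero]
          exact (hJ.dpow_eval_zero hn.ne').symm⟩
    | add x y hx hy ihx ihy =>
      intro n
      have hxI : x ∈ I := hS ▸ hx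
      have hyI : y ∈ I := hS ▸ hy
      choose a ha ha' using ihx
      choose b hb hb' using ihy
      refine ⟨(Finset.antidiagonal n).sum fun k => a k.1 * b k.2, fun hn => ?_, ?_⟩
      · refine Ideal.sum_mem _ fun k hk => ?_
        by_cases hk1 : k.1 = 0
        · have : k.2 ≠ 0 := by
            intro hk2
            have := Finset.mem_antidiagonal.mp hk
            omega
          exact Ideal.mul_mem_left _ _ (hb _ this)
        · exact Ideal.mul_mem_right _ _ (ha _ hk1)
      · rw [map_add, hJ.dpow_add (hmemJ hxI) (hmemJ hyI), map_sum]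
        refine Finset.sum_congr rfl fun k _ => ?_
        rw [map_mul, ha', hb']
    | smul c x hx ihx =>
      intro n
      have hxI : x ∈ I := hS ▸ hx
      obtain ⟨a, ha, ha'⟩ := ihx n
      refine ⟨c ^ n * a, fun hn => Ideal.mul_mem_left _ _ (ha hn), ?_⟩
      rw [smul_eq_mul, map_mul, map_mul (f := f) c x, hJ.dpow_mul (hmemJ hxI), map_pow, ha']
  exact ⟨DividedPowers.ofInjective I (I.map f) f hf hJ rfl (fun n x hx => key x hx n)⟩

/-- Let A be a commutative ring whose additive group is torsion free and I an ideal of A. Then I carries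
at most one divided power structure, and it carries one if and only if I is generated by a set S
such that for every x in S and every n ≥ 1 the power x^n lies in the ideal generated by the products
of n! with elements of I. -/
theorem result {A : Type u} [CommRing A] [IsAddTorsionFree A] (I : Ideal A) :
    Subsingleton (DividedPowers I) ∧
    (Nonempty (DividedPowers I) ↔ ∃ S : Set A, Ideal.span S = I ∧
      ∀ x ∈ S, ∀ n : ℕ, 1 ≤ n → x ^ n ∈ Ideal.span {(Nat.factorial n : A)} * I) := by
  refine ⟨⟨fun hI hI' => ?_⟩, ?_, ?_⟩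
  · refine DividedPowers.ext hI hI' fun n x hx => ?_
    have h1 := DividedPowers.factorial_mul_dpow_eq_pow hI (n := n) hx
    have h2 := DividedPowers.factorial_mul_dpow_eq_pow hI' (n := n) hx
    have h3 : n.factorial • hI.dpow n x = n.factorial • hI'.dpow n x := by
      rw [nsmul_eq_mul, nsmul_eq_mul, h1, h2]
    exact IsAddTorsionFree.nsmul_right_injective (Nat.factorial_ne_zero n) h3
  · rintro ⟨hI⟩
    refine ⟨(I : Set A), Ideal.span_eq I, fun x hx n hn => ?_⟩
    rw [← DividedPowers.factorial_mul_dpow_eq_pow hI hx]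
    exact Ideal.mul_mem_mul (Ideal.mem_span_singleton_self _)
      (hI.dpow_mem (Nat.one_le_iff_ne_zero.mp hn) hx)
  · rintro ⟨S, hS, H⟩
    exact nonempty_dividedPowers I S hS H

end Groth.Agent.S6501
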