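import Groth.Statements.S6524
import Groth.Agent.Lib.BaerFamily

set_option autoImplicit false
universe u
open CategoryTheory
open CohSite

namespace Groth.Agent.S6524

open Opposite

section

variable {C : Type u} [SmallCategory C] (J : GrothendieckTopology C)

/-- Morphisms out of the free abelian sheaf on `X` are the sections over `X`. -/
noncomputable def freeHomEquiv (X : C) (F : Sheaf J AddCommGrpCat.{u}) :
    (CohCx.freeSheaf J X ⟶ F) ≃ F.obj.obj (op X) :=
  ((sheafificationAdjunction J AddCommGrpCat.{u}).homEquiv _ _).trans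
    (((AddCommGrpCat.adj.{u}.whiskerRight Cᵒᵖ).homEquiv (yoneda.obj X) F.obj).trans
      yonedaEquiv)

lemma freeHomEquiv_comp (X : C) {F G : Sheaf J AddCommGrpCat.{u}} (h : CohCx.freeSheaf J X ⟶ F)
    (f : F ⟶ G) :
    freeHomEquiv J X G (h ≫ f) = f.hom.app (op X) (freeHomEquiv J X F h) := by
  simp only [freeHomEquiv, Equiv.trans_apply]
  rw [Adjunction.homEquiv_naturality_right, Adjunction.homEquiv_naturality_right]
  rw [yonedaEquiv_comp]
  rfl

lemma isSeparating_freeSheaf :
    ObjectProperty.IsSeparating (.ofObj (fun X : C ↦ CohCx.freeSheaf J X)) := by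
  intro F G f g hfg
  ext X x
  obtain ⟨X⟩ := X
  have := hfg _ ⟨X⟩ ((freeHomEquiv J X F).symm x)
  have h2 := congrArg (freeHomEquiv J X G) this
  rw [freeHomEquiv_comp, freeHomEquiv_comp, Equiv.apply_symm_apply] at h2
  exact h2

end

/-- Let (C, J) be a small site and I an abelian sheaf. Suppose that for every object X of C, every
abelian subsheaf S of the free abelian sheaf Z_X^# on X (given as a monomorphism S → Z_X^#) and
every morphism S → I, the morphism extends to Z_X^# → I. Then I is an injective abelian sheaf. -/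
theorem result {C : Type u} [SmallCategory C]
    (J : GrothendieckTopology C) (I : Sheaf J AddCommGrpCat.{u})
    (h : ∀ (X : C) (S : Sheaf J AddCommGrpCat.{u}) (i : S ⟶ CohCx.freeSheaf J X) [Mono i] (φ : S ⟶ I),
      ∃ ψ : CohCx.freeSheaf J X ⟶ I, i ≫ ψ = φ) :
    Injective I :=
  Groth.Agent.Lib.BaerFamily.injective_of_family.{u, u} (isSeparating_freeSheaf J) I
    (fun X S m _ φ ↦ h X S m φ)

end Groth.Agent.S6524
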