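import Groth.Statements.S6530
import Mathlib.RingTheory.DividedPowers.Basic

set_option autoImplicit false
universe u
open DPow

namespace Groth.Agent.S6530

section

variable {A : Type u} [CommRing A] {I : Ideal A} (γ : DividedPowers I) (p : ℕ) (t : ℕ)

local notation "P" => Ideal.span {(p : A)}
local notation "Ahat" => AdicCompletion (Ideal.span {(p : A)}) A

theorem mem_pow_iff (k : ℕ) (x : A) : x ∈ (Ideal.span {(p : A)}) ^ k ↔ ∃ r, x = (p : A) ^ k * r := by
  rw [Ideal.span_singleton_pow, Ideal.mem_span_singleton']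
  constructor
  · rintro ⟨r, rfl⟩; exact ⟨r, mul_comm _ _⟩
  · rintro ⟨r, rfl⟩; exact ⟨r, mul_comm _ _⟩

/-- Key congruence. -/
theorem dpow_sub_mem (ht : Ideal.span {(p : A)} ^ t ≤ I) (n m : ℕ) {a b : A} (ha : a ∈ I)
    (hb : b ∈ I) (hab : a - b ∈ Ideal.span {(p : A)} ^ (m + t)) :
    γ.dpow n a - γ.dpow n b ∈ Ideal.span {(p : A)} ^ m := by
  obtain ⟨r, hr⟩ := (mem_pow_iff p (m + t) _).mp hab
  have hc' : (p : A) ^ t * r ∈ I := ht ((mem_pow_iff p t _).mpr ⟨r, rfl⟩)
  have hc : a - b = (p : A) ^ m * ((p : A) ^ t * r) := by rw [hr, pow_add]; ring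
  have hcI : a - b ∈ I := I.sub_mem ha hb
  have e : a = b + (a - b) := by ring
  rw [e, γ.dpow_add hb hcI, Finset.Nat.sum_antidiagonal_eq_sum_range_succ_mk,
    Finset.sum_range_succ]
  rw [Nat.sub_self, γ.dpow_zero hcI, mul_one, add_sub_cancel_right]
  refine Ideal.sum_mem _ fun i hi => ?_
  rw [Finset.mem_range] at hi
  dsimp only
  refine Ideal.mul_mem_left _ _ ?_
  rw [hc, γ.dpow_mul hc']
  refine Ideal.mul_mem_right _ _ ?_
  rw [← pow_mul]
  exact (mem_pow_iff p m _).mpr ⟨(p : A) ^ (m * (n - i) - m), by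
    rw [← pow_add]; congr 1
    have : 1 ≤ n - i := by omega
    have : m ≤ m * (n - i) := Nat.le_mul_of_pos_right m this
    omega⟩

/-- Compatibility of lifts with the transition maps. -/
theorem lift_compat {m n : ℕ} (hmn : m ≤ n) (x : Ahat) {b : A}
    (hb : Ideal.Quotient.mk (P ^ n) b = AdicCompletion.evalₐ P n x) :
    Ideal.Quotient.mk (P ^ m) b = AdicCompletion.evalₐ P m x := by
  induction x using AdicCompletion.induction_on with
  | h a =>
    rw [AdicCompletion.evalₐ_mk] at hb ⊢
    rw [← AdicCompletion.Ideal.mk_eq_mk P hmn a]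
    rw [Ideal.Quotient.eq] at hb ⊢
    exact Ideal.pow_le_pow_right hmn hb

variable (ht : Ideal.span {(p : A)} ^ t ≤ I)

/-- The projection `Â → A/I`. -/
noncomputable def piMap : Ahat →+* A ⧸ I :=
  (Ideal.Quotient.factor ht).comp (AdicCompletion.evalₐ P t).toRingHom

theorem lift_mem_I {x : Ahat} (hx : x ∈ RingHom.ker (piMap p t ht)) {k : ℕ} (hk : t ≤ k) {b : A}
    (hb : Ideal.Quotient.mk (P ^ k) b = AdicCompletion.evalₐ P k x) : b ∈ I := by
  have h1 := lift_compat p hk x hb
  rw [RingHom.mem_ker] at hx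
  have : piMap p t ht x = Ideal.Quotient.mk I b := by
    show Ideal.Quotient.factor ht (AdicCompletion.evalₐ P t x) = _
    rw [← h1, Ideal.Quotient.factor_mk]
  rw [this] at hx
  exact Ideal.Quotient.eq_zero_iff_mem.mp hx

theorem mem_ker_of_lift {x : Ahat} {b : A} (hbI : b ∈ I)
    (hb : Ideal.Quotient.mk (P ^ t) b = AdicCompletion.evalₐ P t x) :
    x ∈ RingHom.ker (piMap p t ht) := by
  rw [RingHom.mem_ker]
  show Ideal.Quotient.factor ht (AdicCompletion.evalₐ P t x) = _
  rw [← hb, Ideal.Quotient.factor_mk]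
  exact Ideal.Quotient.eq_zero_iff_mem.mpr hbI

/-- Chosen lifts of the components. -/
noncomputable def lft (x : Ahat) (k : ℕ) : A :=
  (Ideal.Quotient.mk_surjective (AdicCompletion.evalₐ P k x)).choose

theorem lft_spec (x : Ahat) (k : ℕ) :
    Ideal.Quotient.mk (P ^ k) (lft p x k) = AdicCompletion.evalₐ P k x :=
  (Ideal.Quotient.mk_surjective (AdicCompletion.evalₐ P k x)).choose_spec

/-- The sequence `e ↦ γ_n(lift of x_{e+t})`. -/
noncomputable def dseq (n : ℕ) (x : Ahat) : ℕ → A := fun e => γ.dpow n (lft p x (e + t))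

theorem dseq_cauchy (n : ℕ) {x : Ahat} (hx : x ∈ RingHom.ker (piMap p t ht)) :
    AdicCompletion.IsAdicCauchy P A (dseq γ p t n x) := by
  intro m k hmk
  rw [SModEq.sub_mem]
  show _ ∈ ((P ^ m • ⊤ : Ideal A))
  rw [smul_eq_mul, Ideal.mul_top]
  have h1 := lft_spec p x (m + t)
  have h2 := lift_compat p (show m + t ≤ k + t by omega) x (lft_spec p x (k + t))
  refine dpow_sub_mem γ p t ht n m (lift_mem_I p t ht hx (by omega) h1)
    (lift_mem_I p t ht hx (by omega) (lft_spec p x (k + t))) ?_
  rw [← Ideal.Quotient.eq, h1, h2]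

open Classical in
/-- The divided powers on the completion. -/
noncomputable def dl (n : ℕ) (x : Ahat) : Ahat :=
  if hx : x ∈ RingHom.ker (piMap p t ht) then
    AdicCompletion.mk P A ⟨dseq γ p t n x, dseq_cauchy γ p t ht n hx⟩
  else 0

/-- Characterisation of the components of `dl`. -/
theorem evalₐ_dl (n : ℕ) {x : Ahat} (hx : x ∈ RingHom.ker (piMap p t ht)) (e : ℕ) {b : A}
    (hb : Ideal.Quotient.mk (P ^ (e + t)) b = AdicCompletion.evalₐ P (e + t) x) :
    AdicCompletion.evalₐ P e (dl γ p t ht n x) = Ideal.Quotient.mk (P ^ e) (γ.dpow n b) := by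
  rw [dl, dif_pos hx, AdicCompletion.evalₐ_mk, Ideal.Quotient.eq]
  refine dpow_sub_mem γ p t ht n e (lift_mem_I p t ht hx (by omega) (lft_spec p x (e + t)))
    (lift_mem_I p t ht hx (by omega) hb) ?_
  rw [← Ideal.Quotient.eq, lft_spec, hb]


theorem dl_mem {n : ℕ} (hn : n ≠ 0) {x : Ahat} (hx : x ∈ RingHom.ker (piMap p t ht)) :
    dl γ p t ht n x ∈ RingHom.ker (piMap p t ht) := by
  have hb := lft_spec p x (t + t)
  have hbI := lift_mem_I p t ht hx (by omega) hb
  exact mem_ker_of_lift p t ht (γ.dpow_mem hn hbI) (evalₐ_dl γ p t ht n hx t hb).symm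

/-- The divided power structure on the kernel. -/
noncomputable def dlDP : DividedPowers (RingHom.ker (piMap p t ht)) where
  dpow := dl γ p t ht
  dpow_null := fun {n x} hx => by rw [dl, dif_neg hx]
  dpow_zero := fun {x} hx => by
    refine AdicCompletion.ext_evalₐ fun e => ?_
    have hb := lft_spec p x (e + t)
    rw [evalₐ_dl γ p t ht 0 hx e hb, γ.dpow_zero (lift_mem_I p t ht hx (by omega) hb), map_one,
      map_one]
  dpow_one := fun {x} hx => by
    refine AdicCompletion.ext_evalₐ fun e => ?_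
    have hb := lft_spec p x (e + t)
    rw [evalₐ_dl γ p t ht 1 hx e hb, γ.dpow_one (lift_mem_I p t ht hx (by omega) hb),
      lift_compat p (show e ≤ e + t by omega) x hb]
  dpow_mem := fun {n x} hn hx => dl_mem γ p t ht hn hx
  dpow_add := fun {n x y} hx hy => by
    refine AdicCompletion.ext_evalₐ fun e => ?_
    have hb := lft_spec p x (e + t)
    have hc := lft_spec p y (e + t)
    have hbI := lift_mem_I p t ht hx (by omega) hb
    have hcI := lift_mem_I p t ht hy (by omega) hc
    have hbc : Ideal.Quotient.mk (P ^ (e + t)) (lft p x (e + t) + lft p y (e + t)) =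
        AdicCompletion.evalₐ P (e + t) (x + y) := by rw [map_add, map_add, hb, hc]
    rw [evalₐ_dl γ p t ht n (Ideal.add_mem _ hx hy) e hbc, γ.dpow_add hbI hcI, map_sum, map_sum]
    refine Finset.sum_congr rfl fun k _ => ?_
    rw [map_mul, map_mul, evalₐ_dl γ p t ht k.1 hx e hb, evalₐ_dl γ p t ht k.2 hy e hc]
  dpow_mul := fun {n r x} hx => by
    refine AdicCompletion.ext_evalₐ fun e => ?_
    have hb := lft_spec p x (e + t)
    have hc := lft_spec p r (e + t)
    have hbI := lift_mem_I p t ht hx (by omega) hb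
    have hbc : Ideal.Quotient.mk (P ^ (e + t)) (lft p r (e + t) * lft p x (e + t)) =
        AdicCompletion.evalₐ P (e + t) (r * x) := by rw [map_mul, map_mul, hb, hc]
    rw [evalₐ_dl γ p t ht n (Ideal.mul_mem_left _ r hx) e hbc, γ.dpow_mul hbI, map_mul, map_mul,
      map_pow, map_pow, evalₐ_dl γ p t ht n hx e hb,
      lift_compat p (show e ≤ e + t by omega) r hc]
  mul_dpow := fun {m n x} hx => by
    refine AdicCompletion.ext_evalₐ fun e => ?_
    have hb := lft_spec p x (e + t)
    have hbI := lift_mem_I p t ht hx (by omega) hb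
    rw [map_mul, map_mul, map_natCast, evalₐ_dl γ p t ht m hx e hb, evalₐ_dl γ p t ht n hx e hb,
      evalₐ_dl γ p t ht (m + n) hx e hb, ← map_mul, γ.mul_dpow hbI, map_mul, map_natCast]
  dpow_comp := fun {m n x} hn hx => by
    refine AdicCompletion.ext_evalₐ fun e => ?_
    have hb := lft_spec p x (e + t + t)
    have hbI := lift_mem_I p t ht hx (by omega) hb
    have hb' := lift_compat p (show e + t ≤ e + t + t by omega) x hb
    have h1 := evalₐ_dl γ p t ht n hx (e + t) hb
    rw [evalₐ_dl γ p t ht m (dl_mem γ p t ht hn hx) e h1.symm, γ.dpow_comp hn hbI, map_mul,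
      map_mul, map_natCast, map_natCast, evalₐ_dl γ p t ht (m * n) hx e hb']

end


/-- Let (A, I, γ) be a divided power ring and p a prime number with p^t A ⊆ I for some t ≥ 0, so that p
is nilpotent in A/I. Let A^∧ be the p-adic completion of A and π : A^∧ → A/I the composite of the
evaluation A^∧ → A/p^tA with the projection A/p^tA → A/I. Then π is surjective, and there is a
divided power structure on Ker(π) (this kernel is the p-adic completion of I) such that the
canonical map A → A^∧ is a homomorphism of divided power rings. -/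
theorem result {A : Type u} [CommRing A] {I : Ideal A}
    (γ : DividedPowers I) (p : ℕ) [Fact p.Prime] (t : ℕ) (ht : Ideal.span {(p : A)} ^ t ≤ I) :
    Function.Surjective ((Ideal.Quotient.factor ht).comp
      (AdicCompletion.evalₐ (Ideal.span {(p : A)}) t).toRingHom) ∧
    ∃ δ : DividedPowers (RingHom.ker ((Ideal.Quotient.factor ht).comp
      (AdicCompletion.evalₐ (Ideal.span {(p : A)}) t).toRingHom)),
      γ.IsDPMorphism δ (algebraMap A (AdicCompletion (Ideal.span {(p : A)}) A)) := by
  constructor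
  · intro y
    obtain ⟨a, rfl⟩ := Ideal.Quotient.mk_surjective y
    refine ⟨AdicCompletion.of _ A a, ?_⟩
    show Ideal.Quotient.factor ht (AdicCompletion.evalₐ _ t (AdicCompletion.of _ A a)) = _
    rw [AdicCompletion.evalₐ_of, Ideal.Quotient.factor_mk]
  · refine ⟨dlDP γ p t ht, ?_, ?_⟩
    · rw [Ideal.map_le_iff_le_comap]
      intro a ha
      rw [Ideal.mem_comap]
      refine mem_ker_of_lift p t ht ha ?_
      rw [AdicCompletion.algebraMap_apply, AdicCompletion.evalₐ_of]
      rfl
    · intro n a ha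
      refine AdicCompletion.ext_evalₐ fun e => ?_
      have hmem : algebraMap A (AdicCompletion (Ideal.span {(p : A)}) A) a ∈
          RingHom.ker (piMap p t ht) := by
        refine mem_ker_of_lift p t ht ha ?_
        rw [AdicCompletion.algebraMap_apply, AdicCompletion.evalₐ_of]
        rfl
      have hb : Ideal.Quotient.mk (Ideal.span {(p : A)} ^ (e + t)) a =
          AdicCompletion.evalₐ (Ideal.span {(p : A)}) (e + t)
            (algebraMap A (AdicCompletion (Ideal.span {(p : A)}) A) a) := by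
        rw [AdicCompletion.algebraMap_apply, AdicCompletion.evalₐ_of]
        rfl
      show AdicCompletion.evalₐ _ e (dl γ p t ht n _) = _
      rw [evalₐ_dl γ p t ht n hmem e hb, AdicCompletion.algebraMap_apply,
        AdicCompletion.evalₐ_of]
      rfl

end Groth.Agent.S6530
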