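import Groth.Statements.S6541
import Groth.Agent.Lib.P1Recog54
import Groth.Agent.Lib.P1Sections54

set_option autoImplicit false
universe u
open CategoryTheory CategoryTheory.Limits AlgebraicGeometry
open Curves

namespace Groth.Agent.S6541

lemma aux (a b c g : ℕ) (D : ℤ) (hrr : (a : ℤ) - b = D + c - g) (hD : D = 1) (hg : g = 0) (hc : 0 < c) :
    2 ≤ a := by lia

/-- Let X be a proper curve over the field k (proper, integral, of dimension one). If the first
cohomology of O_X vanishes and some invertible O_X-module has degree 1, then X is isomorphic to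
P^1_k over k. -/
theorem result (k : Type u) [Field k] (X : Scheme.{u}) [X.Over (Spec (CommRingCat.of k))]
    [IsIntegral X] [IsProper (X ↘ (Spec (CommRingCat.of k)))] (hdim : topologicalKrullDim X = 1)
    (h1 : Subsingleton (Coh.HH X (Coh.structureModule X) 1))
    (L : X.Modules) (hL : PicF.IsInvertible L) (hdeg : Curv2.deg k X L 1 = 1) :
    ∃ e : X ≅ CohB1.ProjSpace 1 k, e.hom ≫ CohB1.ProjSpace.toSpec 1 k = X ↘ (Spec (CommRingCat.of k)) := by
  have H : Groth.Agent.Lib.ProperFinHyp.Hyp.{u} := fun A _ _ X _ _ M hM n => Groth.Agent.S0002.result A X M hM n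
  haveI : L.IsQuasicoherent := (Groth.Agent.Lib.H90Invertible.isCoh_of_isInvertible hL).1
  have hrr := Groth.Agent.Lib.RiemannRoch54.riemann_roch k X hdim.le L
  have hpos := Groth.Agent.Lib.P1Sections54.finrank_H0_structure_pos k X H
  have hg : Curv2.genus k X = 0 := by
    unfold Curv2.genus
    exact Module.finrank_zero_of_subsingleton
  have h2 : 2 ≤ Module.finrank k (Coh.HH X L 0) := aux _ _ _ _ _ hrr hdeg hg hpos
  obtain ⟨-, s, hs⟩ := Groth.Agent.Lib.P1Sections54.exists_generatedBy_of_deg_eq_one H k X hdim.le hL hdeg h2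
  exact Groth.Agent.Lib.P1Recog54.exists_iso_projectiveLine k X hdim hL s hs hdeg

end Groth.Agent.S6541
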