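import Groth.Statements.S6542
import Groth.Agent.Lib.P1Recog54b
import Groth.Agent.Lib.CurveDegGroup54

set_option autoImplicit false
universe u
open CategoryTheory CategoryTheory.Limits AlgebraicGeometry
attribute [local instance] Curv2.resAlgebra
open Curves

namespace Groth.Agent.S6542

/-- Let X be a proper curve over the field k (proper, integral, of dimension one). If H^1(X, O_X) = 0
and there are closed points x_1, ..., x_n of X whose local rings are normal and whose residue-field
degrees over k have greatest common divisor 1, then X is isomorphic to P^1_k over k. -/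
theorem result (k : Type u) [Field k] (X : Scheme.{u}) [X.Over (Spec (CommRingCat.of k))]
    [IsIntegral X] [IsProper (X ↘ (Spec (CommRingCat.of k)))] (hdim : topologicalKrullDim X = 1)
    (h1 : Subsingleton (Coh.HH X (Coh.structureModule X) 1))
    (s : Finset X) (hcl : ∀ x ∈ s, IsClosed ({x} : Set X)) (hn : ∀ x ∈ s, IsIntegrallyClosed (X.presheaf.stalk x))
    (hgcd : s.gcd (fun x => Module.finrank k (X.residueField x)) = 1) :
    ∃ e : X ≅ CohB1.ProjSpace 1 k, e.hom ≫ CohB1.ProjSpace.toSpec 1 k = X ↘ (Spec (CommRingCat.of k)) := by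
  have H : Groth.Agent.Lib.ProperFinHyp.Hyp.{u} := fun A _ _ X _ _ M hM n => Groth.Agent.S0002.result A X M hM n
  haveI : IsLocallyNoetherian X :=
    LocallyOfFiniteType.isLocallyNoetherian (X ↘ Spec (CommRingCat.of k))
  have hg : Curv2.genus k X = 0 := by
    unfold Curv2.genus
    exact Module.finrank_zero_of_subsingleton
  obtain ⟨L, hL, hdeg⟩ := Groth.Agent.Lib.CurveDegGroup54.exists_invertible_deg_one_of_gcd k X hdim s hcl
    (fun x hx => Groth.Agent.Lib.CurveDegGroup54.isPrincipalIdealRing_stalk_of_isIntegrallyClosed X hdim.le x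
      (hn x hx)) hgcd
  exact Groth.Agent.Lib.P1Recog54.exists_iso_of_genus_zero_of_deg_one H k X hdim hg hL hdeg

end Groth.Agent.S6542
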