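import Groth.Statements.S6563
import Groth.Agent.S1667
import Groth.Agent.Lib.ProjCompl84
import Groth.Agent.Lib.ImageInt84

set_option autoImplicit false
universe u
open CategoryTheory CategoryTheory.Limits AlgebraicGeometry
open Curves

namespace Groth.Agent.S6563

set_option maxHeartbeats 800000
set_option linter.style.haveILetI false
open CategoryTheory CategoryTheory.Limits AlgebraicGeometry

/-- Let k be a field and f : X → Y a morphism over k of varieties over k, with X a curve (integral,
separated and of finite type over k, of dimension one) and Y proper over k (and integral). Then f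
extends over a projective completion of X: there are a projective curve X̄ over k (integral, of
dimension one, admitting a closed immersion over k into some P^n_k), an open immersion j : X → X̄
over k and a k-morphism g : X̄ → Y with g ∘ j = f. -/
theorem result (k : Type u) [Field k]
    (X Y : Scheme.{u}) [X.Over (Spec (CommRingCat.of k))] [Y.Over (Spec (CommRingCat.of k))]
    [IsIntegral X] [IsSeparated (X ↘ (Spec (CommRingCat.of k)))] [LocallyOfFiniteType (X ↘ (Spec (CommRingCat.of k)))] [QuasiCompact (X ↘ (Spec (CommRingCat.of k)))] (hdX : topologicalKrullDim X = 1)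
    [IsIntegral Y] [IsProper (Y ↘ (Spec (CommRingCat.of k)))]
    (f : X ⟶ Y) (hf : f ≫ (Y ↘ (Spec (CommRingCat.of k))) = X ↘ (Spec (CommRingCat.of k))) :
    ∃ (Xb : Scheme.{u}) (_ : Xb.Over (Spec (CommRingCat.of k))) (j : X ⟶ Xb) (g : Xb ⟶ Y),
      IsOpenImmersion j ∧ j ≫ g = f ∧ j ≫ (Xb ↘ (Spec (CommRingCat.of k))) = X ↘ (Spec (CommRingCat.of k)) ∧ g ≫ (Y ↘ (Spec (CommRingCat.of k))) = Xb ↘ (Spec (CommRingCat.of k)) ∧
      IsIntegral Xb ∧ topologicalKrullDim Xb = 1 ∧
      ∃ (n : ℕ) (i : Xb ⟶ CohB1.ProjSpace n k), IsClosedImmersion i ∧ i ≫ CohB1.ProjSpace.toSpec n k = Xb ↘ (Spec (CommRingCat.of k)) := by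
  obtain ⟨n, i, hi_imm, hi⟩ := Groth.Agent.S1667.result k X (le_of_eq hdX)
  haveI := hi_imm
  haveI hPn : IsProper (CohB1.ProjSpace.toSpec n k) :=
    Groth.Agent.Lib.ProjSpaceProper.isProper_toSpec n k
  let P := pullback (CohB1.ProjSpace.toSpec n k) (Y ↘ Spec (CommRingCat.of k))
  let γ : X ⟶ P := pullback.lift i f (by rw [hi, hf])
  haveI : IsImmersion (γ ≫ pullback.fst _ _) := by
    rw [pullback.lift_fst]; infer_instance
  haveI : IsImmersion γ := IsImmersion.of_comp γ (pullback.fst _ _)
  let π : P ⟶ Spec (CommRingCat.of k) := pullback.fst _ _ ≫ CohB1.ProjSpace.toSpec n k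
  haveI : IsProper π := inferInstance
  have hγπ : γ ≫ π = X ↘ Spec (CommRingCat.of k) := by
    simp only [π, γ, pullback.lift_fst_assoc, hi]
  haveI : QuasiCompact (γ ≫ π) := hγπ ▸ inferInstance
  haveI : QuasiCompact γ := QuasiCompact.of_comp γ π
  let Xb := γ.image
  let j : X ⟶ Xb := γ.toImage
  let g : Xb ⟶ Y := γ.imageι ≫ pullback.snd _ _
  let ov : Xb.Over (Spec (CommRingCat.of k)) := ⟨γ.imageι ≫ π⟩
  have hjι : j ≫ γ.imageι = γ := γ.toImage_imageι
  haveI hprop : IsProper (γ.imageι ≫ π) := inferInstance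
  haveI hint : IsIntegral Xb := Groth.Agent.Lib.ImageInt84.isIntegral_image γ
  have hopen : IsOpen (Set.range j.base) := j.isOpenEmbedding.isOpen_range
  have hdense : Dense (Set.range j.base) := (inferInstance : IsDominant j).denseRange
  have hdimXb : topologicalKrullDim Xb = 1 := by
    letI := ov
    haveI : LocallyOfFiniteType (Xb ↘ (Spec (CommRingCat.of k))) := by
      change LocallyOfFiniteType (γ.imageι ≫ π)
      infer_instance
    rw [← Groth.Agent.Lib.H8DenseDim.dim_dense_open k Xb (Set.range j.base) hopen hdense]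
    have e : X ≃ₜ Set.range j.base := j.isOpenEmbedding.isEmbedding.toHomeomorph
    rw [← e.isHomeomorph.topologicalKrullDim_eq]
    exact hdX
  refine ⟨Xb, ov, j, g, inferInstance, ?_, ?_, ?_, hint, hdimXb, ?_⟩
  · change j ≫ γ.imageι ≫ pullback.snd _ _ = f
    rw [← Category.assoc, hjι, pullback.lift_snd]
  · change j ≫ γ.imageι ≫ π = _
    rw [← Category.assoc, hjι, hγπ]
  · change (γ.imageι ≫ pullback.snd _ _) ≫ (Y ↘ Spec (CommRingCat.of k)) = γ.imageι ≫ π
    rw [Category.assoc, ← pullback.condition]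
  · -- projectivity via S1667 + properness
    letI := ov
    haveI : IsProper (Xb ↘ (Spec (CommRingCat.of k))) := hprop
    obtain ⟨m, i', hi'_imm, hi'⟩ := Groth.Agent.S1667.result k Xb (le_of_eq hdimXb)
    haveI := hi'_imm
    haveI hPm : IsProper (CohB1.ProjSpace.toSpec m k) :=
      Groth.Agent.Lib.ProjSpaceProper.isProper_toSpec m k
    haveI : IsProper (i' ≫ CohB1.ProjSpace.toSpec m k) := hi' ▸ hprop
    haveI : IsProper i' := IsProper.of_comp i' (CohB1.ProjSpace.toSpec m k)
    refine ⟨m, i', ?_, hi'⟩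
    exact Groth.Agent.Lib.ImageInt84.isClosedImmersion_of_isClosed_range i'
      i'.isClosedMap.isClosed_range

end Groth.Agent.S6563
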