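import Groth.Statements.S6575
import Mathlib.RingTheory.Ideal.Operations
import Mathlib.RingTheory.Ideal.Quotient.Basic
import Mathlib.RingTheory.Derivation.Basic

set_option autoImplicit false
universe u
open Curves

namespace Groth.Agent.S6575

open Matrix in
/-- Row-multilinear expansion of a minor of a product (a weak form of Cauchy-Binet). -/
theorem det_mul_submatrix {R : Type*} [CommRing R] {l m n r : ℕ} (a : Matrix (Fin l) (Fin m) R)
    (J : Matrix (Fin m) (Fin n) R) (ρ : Fin r → Fin l) (γ : Fin r → Fin n) :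
    ((a * J).submatrix ρ γ).det =
      ∑ σ : Fin r → Fin m, (∏ i, a (ρ i) (σ i)) * (J.submatrix σ γ).det := by
  have h : (a * J).submatrix ρ γ =
      Matrix.of (fun i => ∑ j, a (ρ i) j • (fun c => J j (γ c))) := by
    ext i c
    simp [Matrix.mul_apply, Finset.sum_apply]
  rw [h]
  change Matrix.detRowAlternating.toMultilinearMap
    (fun i => ∑ j, a (ρ i) j • (fun c => J j (γ c))) = _
  rw [MultilinearMap.map_sum]
  refine Finset.sum_congr rfl fun σ _ => ?_
  rw [MultilinearMap.map_smul_univ]
  rfl

/-- The set of `r × r` minors of the Jacobian matrix of a family. -/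
def minors {A : Type*} [CommRing A] {n m : ℕ} (r : ℕ) (M : Matrix (Fin m) (Fin n) A) : Set A :=
  {d : A | ∃ (ρ : Fin r → Fin m) (γ : Fin r → Fin n), Function.Injective ρ ∧ Function.Injective γ ∧
    d = (M.submatrix ρ γ).det}

theorem minors_le {R A : Type*} [CommRing R] [CommRing A] [Algebra R A] {n m l : ℕ} (r : ℕ)
    (D : Fin n → Derivation R A A)
    (f : Fin m → A) (g : Fin l → A)
    (hgf : Ideal.span (Set.range g) ≤ Ideal.span (Set.range f)) :
    Ideal.span (minors r (Matrix.of fun (j : Fin l) (i : Fin n) => D i (g j))) ⊔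
        Ideal.span (Set.range g) ≤
      Ideal.span (minors r (Matrix.of fun (j : Fin m) (i : Fin n) => D i (f j))) ⊔
        Ideal.span (Set.range f) := by
  classical
  refine sup_le ?_ (hgf.trans le_sup_right)
  rw [Ideal.span_le]
  rintro d ⟨ρ, γ, hρ, hγ, rfl⟩
  set I := Ideal.span (Set.range f) with hI
  have hex : ∀ s : Fin l, ∃ c : Fin m → A, ∑ j, c j * f j = g s := fun s =>
    Ideal.mem_span_range_iff_exists_fun.mp (hgf (Ideal.subset_span ⟨s, rfl⟩))
  choose a ha using hex
  let π := Ideal.Quotient.mk I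
  let Jf : Matrix (Fin m) (Fin n) A := Matrix.of fun (j : Fin m) (i : Fin n) => D i (f j)
  let Jg : Matrix (Fin l) (Fin n) A := Matrix.of fun (j : Fin l) (i : Fin n) => D i (g j)
  let aM : Matrix (Fin l) (Fin m) A := Matrix.of a
  have hπf : ∀ j, π (f j) = 0 := fun j =>
    Ideal.Quotient.eq_zero_iff_mem.mpr (Ideal.subset_span ⟨j, rfl⟩)
  have hJ : Jg.map π = (aM * Jf).map π := by
    ext s i
    simp only [Matrix.map_apply, Jg, Jf, aM, Matrix.of_apply, Matrix.mul_apply]
    rw [← ha s, map_sum, map_sum, map_sum]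
    refine Finset.sum_congr rfl fun j _ => ?_
    rw [Derivation.leibniz, map_add, smul_eq_mul, smul_eq_mul, map_mul, map_mul, hπf]
    ring
  have h1 : π ((Jg.submatrix ρ γ).det) = π (((aM * Jf).submatrix ρ γ).det) := by
    rw [RingHom.map_det, RingHom.map_det]
    congr 1
    ext i c
    exact congr_fun (congr_fun hJ (ρ i)) (γ c)
  rw [det_mul_submatrix] at h1
  have h2 : (Jg.submatrix ρ γ).det -
      ∑ σ : Fin r → Fin m, (∏ i, aM (ρ i) (σ i)) * (Jf.submatrix σ γ).det ∈ I :=
    (Ideal.Quotient.eq).mp h1
  have h3 : ∑ σ : Fin r → Fin m, (∏ i, aM (ρ i) (σ i)) * (Jf.submatrix σ γ).det ∈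
      Ideal.span (minors r Jf) := by
    refine Submodule.sum_mem _ fun σ _ => Ideal.mul_mem_left _ _ ?_
    by_cases hσ : Function.Injective σ
    · exact Ideal.subset_span ⟨σ, γ, hσ, hγ, rfl⟩
    · have : (Jf.submatrix σ γ).det = 0 := by
        rw [Function.Injective] at hσ
        push Not at hσ
        obtain ⟨i, j, hij, hne⟩ := hσ
        exact Matrix.det_zero_of_row_eq hne (by ext c; simp [hij])
      rw [this]
      exact zero_mem _
  have : (Jg.submatrix ρ γ).det = ((Jg.submatrix ρ γ).det -
      ∑ σ : Fin r → Fin m, (∏ i, aM (ρ i) (σ i)) * (Jf.submatrix σ γ).det) +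
      ∑ σ : Fin r → Fin m, (∏ i, aM (ρ i) (σ i)) * (Jf.submatrix σ γ).det := by ring
  change (Jg.submatrix ρ γ).det ∈ _
  rw [this]
  exact add_mem (Ideal.mem_sup_right h2) (Ideal.mem_sup_left h3)

/-- Let k be a field, A = k[[x_1, …, x_n]] and I ⊆ A an ideal generated by f_1, …, f_m and also by g_1,
…, g_l. Then for every r ≥ 0 the ideal of A/I generated by the r × r minors of (∂f_j/∂x_i) equals
the one generated by the r × r minors of (∂g_s/∂x_i); stated in A as equality of the ideals
generated by the minors together with I. (The published result also asserts independence of the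
regular system of parameters x_1, …, x_n, which is not stated here.) -/
theorem result (k : Type u) [Field k] (n m l r : ℕ)
    (f : Fin m → MvPowerSeries (Fin n) k) (g : Fin l → MvPowerSeries (Fin n) k)
    (hfg : Ideal.span (Set.range f) = Ideal.span (Set.range g)) :
    Ideal.span {d : MvPowerSeries (Fin n) k | ∃ (ρ : Fin r → Fin m) (γ : Fin r → Fin n), Function.Injective ρ ∧ Function.Injective γ ∧
          d = ((Matrix.of fun (j : Fin m) (i : Fin n) => MvPowerSeries.pderiv k i (f j)).submatrix ρ γ).det} ⊔ Ideal.span (Set.range f) =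
      Ideal.span {d : MvPowerSeries (Fin n) k | ∃ (ρ : Fin r → Fin l) (γ : Fin r → Fin n), Function.Injective ρ ∧ Function.Injective γ ∧
          d = ((Matrix.of fun (j : Fin l) (i : Fin n) => MvPowerSeries.pderiv k i (g j)).submatrix ρ γ).det} ⊔ Ideal.span (Set.range g) := by
  exact le_antisymm
    (minors_le (R := k) r (fun i => MvPowerSeries.pderiv k i) g f hfg.le)
    (minors_le (R := k) r (fun i => MvPowerSeries.pderiv k i) f g hfg.ge)

end Groth.Agent.S6575
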