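import Groth.Statements.S6580
-- import your own Groth.Agent.* helpers here
import Mathlib.Tactic.NoncommRing

set_option autoImplicit false
universe v u
open CategoryTheory CategoryTheory.Limits
open CohDer

namespace Groth.Agent.S6580

theorem idem_lift {R : Type*} [Ring R] (x : R) (h : (x * x - x) * (x * x - x) = 0) :
    (x + (x * x - x) - (x * (x * x - x) + x * (x * x - x))) *
        (x + (x * x - x) - (x * (x * x - x) + x * (x * x - x))) =
      x + (x * x - x) - (x * (x * x - x) + x * (x * x - x)) := by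
  have key : (x + (x * x - x) - (x * (x * x - x) + x * (x * x - x))) *
        (x + (x * x - x) - (x * (x * x - x) + x * (x * x - x))) -
      (x + (x * x - x) - (x * (x * x - x) + x * (x * x - x))) =
      (x * x - x) * (x * x - x) * (4 * x * x - 4 * x - 3) := by
    noncomm_ring
  rw [← sub_eq_zero, key, h, zero_mul]


open CategoryTheory.Pretriangulated in
/-- Let (X, Y, Z, f, g, h) be a distinguished triangle of a pretriangulated category, and let a : X ⟶ X
and c : Z ⟶ Z be idempotents with h ≫ a⟦1⟧ = c ≫ h. Then there is an idempotent b : Y ⟶ Y such that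
(a, b, c) is an endomorphism of the triangle. -/
theorem result {D : Type u} [Category.{v} D] [Preadditive D] [HasZeroObject D] [HasShift D ℤ]
    [∀ n : ℤ, (shiftFunctor D n).Additive] [Pretriangulated D]
    (T : Triangle D) (hT : T ∈ distinguishedTriangles) (a : T.obj₁ ⟶ T.obj₁) (c : T.obj₃ ⟶ T.obj₃)
    (ha : a ≫ a = a) (hc : c ≫ c = c) (comm : T.mor₃ ≫ (shiftFunctor D (1 : ℤ)).map a = c ≫ T.mor₃) :
    ∃ b : T.obj₂ ⟶ T.obj₂, b ≫ b = b ∧ T.mor₁ ≫ b = a ≫ T.mor₁ ∧ T.mor₂ ≫ c = b ≫ T.mor₂ := by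
  obtain ⟨b₀, hb₁, hb₂⟩ := complete_distinguished_triangle_morphism₂ T T hT hT a c comm
  have hd1 : T.mor₁ ≫ (b₀ ≫ b₀ - b₀) = 0 := by
    rw [Preadditive.comp_sub, ← Category.assoc, hb₁, Category.assoc, hb₁, ← Category.assoc, ha,
      sub_self]
  have hd2 : (b₀ ≫ b₀ - b₀) ≫ T.mor₂ = 0 := by
    rw [Preadditive.sub_comp, Category.assoc, ← hb₂, ← Category.assoc, ← hb₂, Category.assoc, hc,
      sub_self]
  obtain ⟨d', hd'⟩ := Triangle.coyoneda_exact₂ T hT (b₀ ≫ b₀ - b₀) hd2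
  have hdd : (b₀ ≫ b₀ - b₀) ≫ (b₀ ≫ b₀ - b₀) = 0 := by
    calc (b₀ ≫ b₀ - b₀) ≫ (b₀ ≫ b₀ - b₀) = (d' ≫ T.mor₁) ≫ (b₀ ≫ b₀ - b₀) := by rw [← hd']
      _ = 0 := by rw [Category.assoc, hd1, comp_zero]
  have hidem := idem_lift (R := End T.obj₂) b₀ hdd
  refine ⟨b₀ + (b₀ ≫ b₀ - b₀) - ((b₀ ≫ b₀ - b₀) ≫ b₀ + (b₀ ≫ b₀ - b₀) ≫ b₀), hidem, ?_, ?_⟩
  · simp only [Preadditive.comp_add, Preadditive.comp_sub, ← Category.assoc] at hd1 ⊢
    rw [sub_eq_zero] at hd1
    simp only [hd1, sub_self, add_zero, sub_zero, zero_comp]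
    exact hb₁
  · simp only [Preadditive.add_comp, Preadditive.sub_comp, Category.assoc] at hd2 ⊢
    rw [sub_eq_zero] at hd2
    simp only [hd2, sub_self, add_zero, sub_zero]
    exact hb₂

end Groth.Agent.S6580
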