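import Groth.Statements.S6593
import Mathlib.Tactic.NormNum

set_option autoImplicit false
universe w v u
open CategoryTheory CategoryTheory.Limits
open CohDer

namespace Groth.Agent.S6593

open CategoryTheory.Pretriangulated in
/-- Exactness of `Hom(-, B)` at the first object, phrased without negative shifts. -/
theorem yoneda_exact₁' {D : Type u} [Category.{v} D] [Preadditive D] [HasZeroObject D]
    [HasShift D ℤ] [∀ n : ℤ, (shiftFunctor D n).Additive] [Pretriangulated D]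
    (T : Triangle D) (hT : T ∈ distinguishedTriangles) {B : D} (u : T.obj₁ ⟶ B)
    (hu : T.mor₃ ≫ (shiftFunctor D (1 : ℤ)).map u = 0) : ∃ v : T.obj₂ ⟶ B, u = T.mor₁ ≫ v := by
  obtain ⟨v', hv'⟩ := Triangle.yoneda_exact₃ _ (rot_of_distTriang _ hT)
    ((shiftFunctor D (1 : ℤ)).map u) hu
  have hv'' : (shiftFunctor D (1 : ℤ)).map u = (-(shiftFunctor D (1 : ℤ)).map T.mor₁) ≫ v' := hv'
  obtain ⟨v, hv⟩ := (shiftFunctor D (1 : ℤ)).map_surjective
    (show (shiftFunctor D (1 : ℤ)).obj T.obj₂ ⟶ (shiftFunctor D (1 : ℤ)).obj B from v')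
  refine ⟨-v, ?_⟩
  apply (shiftFunctor D (1 : ℤ)).map_injective
  rw [hv'', Functor.map_comp, Functor.map_neg, Preadditive.neg_comp, Preadditive.comp_neg, hv]

set_option backward.defeqAttrib.useBackward true in
set_option backward.isDefEq.respectTransparency false in
open CategoryTheory.Pretriangulated in
theorem coprod_distinguished {D : Type u} [Category.{v} D] [Preadditive D] [HasZeroObject D] [HasShift D ℤ]
    [∀ n : ℤ, (shiftFunctor D n).Additive] [Pretriangulated D]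
    {J : Type w} (T : J → Triangle D) (hT : ∀ j, T j ∈ distinguishedTriangles)
    [HasCoproduct (fun j => (T j).obj₁)] [HasCoproduct (fun j => (T j).obj₂)] [HasCoproduct (fun j => (T j).obj₃)] :
    Triangle.mk (Limits.Sigma.map (fun j => (T j).mor₁)) (Limits.Sigma.map (fun j => (T j).mor₂))
      (Sigma.desc (fun j => (T j).mor₃ ≫ (shiftFunctor D (1 : ℤ)).map (Sigma.ι (fun j => (T j).obj₁) j))) ∈ distinguishedTriangles := by
  set F₁ := Limits.Sigma.map (fun j => (T j).mor₁) with hF₁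
  set F₂ := Limits.Sigma.map (fun j => (T j).mor₂) with hF₂
  set F₃ := Sigma.desc (fun j => (T j).mor₃ ≫
    (shiftFunctor D (1 : ℤ)).map (Sigma.ι (fun j => (T j).obj₁) j)) with hF₃
  obtain ⟨W, g₂, g₃, hT''⟩ := distinguished_cocone_triangle F₁
  have hφ : ∀ j, ∃ c : (T j).obj₃ ⟶ W,
      (T j).mor₂ ≫ c = Sigma.ι (fun j => (T j).obj₂) j ≫ g₂ ∧
      (T j).mor₃ ≫ (shiftFunctor D (1 : ℤ)).map (Sigma.ι (fun j => (T j).obj₁) j) = c ≫ g₃ :=
    fun j => complete_distinguished_triangle_morphism (T j) (Triangle.mk F₁ g₂ g₃) (hT j) hT''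
      (Sigma.ι (fun j => (T j).obj₁) j) (Sigma.ι (fun j => (T j).obj₂) j)
      (Sigma.ι_map (fun j => (T j).mor₁) j).symm
  choose φ hφ₂ hφ₃ using hφ
  let Φ : (∐ fun j => (T j).obj₃) ⟶ W := Sigma.desc φ
  have hΦ₂ : F₂ ≫ Φ = g₂ := by
    apply Sigma.hom_ext
    intro j
    rw [hF₂, Sigma.ι_map_assoc, Sigma.ι_desc, hφ₂]
  have hΦ₃ : F₃ = Φ ≫ g₃ := by
    apply Sigma.hom_ext
    intro j
    rw [hF₃, Sigma.ι_desc, Sigma.ι_desc_assoc, hφ₃]
  have hF₁₂ : F₁ ≫ F₂ = 0 := by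
    apply Sigma.hom_ext
    intro j
    rw [hF₁, hF₂, Sigma.ι_map_assoc, Sigma.ι_map, ← Category.assoc,
      comp_distTriang_mor_zero₁₂ _ (hT j), zero_comp, comp_zero]
  suffices hiso : IsIso Φ by
    let eΦ : (∐ fun j => (T j).obj₃) ≅ W := asIso Φ
    refine isomorphic_distinguished _ hT'' _
      (Triangle.isoMk _ _ (Iso.refl _) (Iso.refl _) eΦ ?_ ?_ ?_)
    · dsimp
      rw [Category.comp_id, Category.id_comp]
    · dsimp [eΦ]
      rw [Category.id_comp]
      exact hΦ₂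
    · dsimp [eΦ]
      rw [CategoryTheory.Functor.map_id, Category.comp_id]
      exact hΦ₃
  refine isIso_of_coyoneda_map_bijective _ (fun A => ⟨?_, ?_⟩)
  · -- injectivity
    suffices h : ∀ f : W ⟶ A, Φ ≫ f = 0 → f = 0 by
      intro f₁ f₂ hf
      have := h (f₁ - f₂) (by rw [Preadditive.comp_sub]; exact sub_eq_zero.mpr hf)
      exact sub_eq_zero.mp this
    intro f hf
    let e := (shiftFunctorCompIsoId D (-1 : ℤ) (1 : ℤ) (by norm_num)).app A
    have h1 : g₂ ≫ f = 0 := by rw [← hΦ₂, Category.assoc, hf, comp_zero]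
    obtain ⟨g, hg⟩ : ∃ g : (shiftFunctor D (1 : ℤ)).obj (∐ fun j => (T j).obj₁) ⟶ A,
        f = g₃ ≫ g := Triangle.yoneda_exact₃ _ hT'' f h1
    obtain ⟨g', hg'⟩ : ∃ g' : (∐ fun j => (T j).obj₁) ⟶ (shiftFunctor D (-1 : ℤ)).obj A,
        (shiftFunctor D (1 : ℤ)).map g' = g ≫ e.inv :=
      (shiftFunctor D (1 : ℤ)).map_surjective (g ≫ e.inv)
    have hu : ∀ j, ∃ v : (T j).obj₂ ⟶ (shiftFunctor D (-1 : ℤ)).obj A,
        Sigma.ι (fun j => (T j).obj₁) j ≫ g' = (T j).mor₁ ≫ v := by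
      intro j
      apply yoneda_exact₁' (T j) (hT j)
      rw [Functor.map_comp, hg', ← Category.assoc, hφ₃ j, Category.assoc, ← Category.assoc g₃]
      have : g₃ ≫ g = f := hg.symm
      rw [this]
      have h2 : φ j ≫ f = 0 := by
        have : Sigma.ι (fun j => (T j).obj₃) j ≫ Φ ≫ f = 0 := by rw [hf, comp_zero]
        simpa [Φ] using this
      rw [← Category.assoc, h2, zero_comp]
    choose v hv using hu
    have hg'' : g' = F₁ ≫ Sigma.desc v := by
      apply Sigma.hom_ext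
      intro j
      simp [hF₁, hv]
    have h3 : g = (shiftFunctor D (1 : ℤ)).map g' ≫ e.hom := by
      rw [hg', Category.assoc, Iso.inv_hom_id, Category.comp_id]
    have hz : g₃ ≫ (shiftFunctor D (1 : ℤ)).map F₁ = 0 := comp_distTriang_mor_zero₃₁ _ hT''
    rw [hg, h3, hg'', Functor.map_comp, Category.assoc, ← Category.assoc g₃, hz, zero_comp]
  · -- surjectivity
    intro a
    let e := (shiftFunctorCompIsoId D (-1 : ℤ) (1 : ℤ) (by norm_num)).app A
    obtain ⟨a', ha'⟩ : ∃ a' : W ⟶ A, F₂ ≫ a = g₂ ≫ a' :=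
      Triangle.yoneda_exact₂ _ hT'' (F₂ ≫ a)
        (by
          change F₁ ≫ F₂ ≫ a = 0
          rw [← Category.assoc, hF₁₂, zero_comp])
    have hr : F₂ ≫ (a - Φ ≫ a') = 0 := by
      rw [Preadditive.comp_sub, ← Category.assoc, hΦ₂, ha', sub_self]
    have hb : ∀ j, ∃ b : (shiftFunctor D (1 : ℤ)).obj (T j).obj₁ ⟶ A,
        Sigma.ι (fun j => (T j).obj₃) j ≫ (a - Φ ≫ a') = (T j).mor₃ ≫ b := by
      intro j
      apply Triangle.yoneda_exact₃ _ (hT j)
      have : Sigma.ι (fun j => (T j).obj₂) j ≫ F₂ ≫ (a - Φ ≫ a') = 0 := by rw [hr, comp_zero]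
      simpa [hF₂] using this
    choose b hb using hb
    have hb' : ∀ j, ∃ b' : (T j).obj₁ ⟶ (shiftFunctor D (-1 : ℤ)).obj A,
        (shiftFunctor D (1 : ℤ)).map b' = b j ≫ e.inv :=
      fun j => (shiftFunctor D (1 : ℤ)).map_surjective _
    choose b' hb'' using hb'
    let B' : (shiftFunctor D (1 : ℤ)).obj (∐ fun j => (T j).obj₁) ⟶ A :=
      (shiftFunctor D (1 : ℤ)).map (Sigma.desc b') ≫ e.hom
    have hrB : a - Φ ≫ a' = F₃ ≫ B' := by
      apply Sigma.hom_ext
      intro j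
      rw [hb j]
      simp only [hF₃, B', Sigma.ι_desc_assoc, Category.assoc]
      rw [← Category.assoc ((shiftFunctor D (1 : ℤ)).map _), ← Functor.map_comp, Sigma.ι_desc,
        hb'', Category.assoc, Iso.inv_hom_id, Category.comp_id]
    refine ⟨a' + g₃ ≫ B', ?_⟩
    change Φ ≫ (a' + g₃ ≫ B') = a
    rw [Preadditive.comp_add, ← Category.assoc, ← hΦ₃, ← hrB]
    abel


open CategoryTheory.Pretriangulated in
/-- Let D be a pretriangulated category and (X_i → Y_i → Z_i → X_i⟦1⟧)_{i ∈ I} a family of distinguished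
triangles. If the direct sums ⨁ X_i, ⨁ Y_i, ⨁ Z_i exist, then ⨁ X_i → ⨁ Y_i → ⨁ Z_i → (⨁ X_i)⟦1⟧ is
a distinguished triangle (the last map is induced by the composites Z_i → X_i⟦1⟧ → (⨁ X_i)⟦1⟧). -/
theorem result {D : Type u} [Category.{v} D] [Preadditive D] [HasZeroObject D] [HasShift D ℤ]
    [∀ n : ℤ, (shiftFunctor D n).Additive] [Pretriangulated D]
    {J : Type w} (T : J → Triangle D) (hT : ∀ j, T j ∈ distinguishedTriangles)
    [HasCoproduct (fun j => (T j).obj₁)] [HasCoproduct (fun j => (T j).obj₂)] [HasCoproduct (fun j => (T j).obj₃)] :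
    Triangle.mk (Limits.Sigma.map (fun j => (T j).mor₁)) (Limits.Sigma.map (fun j => (T j).mor₂))
      (Sigma.desc (fun j => (T j).mor₃ ≫ (shiftFunctor D (1 : ℤ)).map (Sigma.ι (fun j => (T j).obj₁) j))) ∈ distinguishedTriangles := by
  exact coprod_distinguished T hT

end Groth.Agent.S6593
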