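import Groth.Statements.S6581
import Groth.Agent.S6593

set_option autoImplicit false
universe v u
open CategoryTheory CategoryTheory.Limits
open CohDer

namespace Groth.Agent.S6581


open CategoryTheory.Pretriangulated

section

variable {D : Type u} [Category.{v} D] [Preadditive D] [HasZeroObject D] [HasShift D ℤ]
    [∀ n : ℤ, (shiftFunctor D n).Additive] [Pretriangulated D]

/-- The direct sum of two triangles. -/
noncomputable abbrev sumT (A B : Triangle D) : Triangle D :=
  Triangle.mk (biprod.map A.mor₁ B.mor₁) (biprod.map A.mor₂ B.mor₂)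
    (biprod.desc (A.mor₃ ≫ (shiftFunctor D (1 : ℤ)).map biprod.inl)
      (B.mor₃ ≫ (shiftFunctor D (1 : ℤ)).map biprod.inr))

/-- The family of two triangles. -/
def fam (A B : Triangle D) : WalkingPair → Triangle D := fun j => WalkingPair.casesOn j A B

/-- coproduct over `WalkingPair` is the biproduct -/
noncomputable def sigmaIsoBiprod (F : WalkingPair → D) : ∐ F ≅ F .left ⊞ F .right where
  hom := Sigma.desc (fun j => match j with
    | .left => biprod.inl
    | .right => biprod.inr)
  inv := biprod.desc (Sigma.ι F .left) (Sigma.ι F .right)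
  hom_inv_id := by
    apply Sigma.hom_ext
    rintro ⟨⟩ <;> simp
  inv_hom_id := by
    apply biprod.hom_ext' <;> simp

end


set_option backward.defeqAttrib.useBackward true in
set_option backward.isDefEq.respectTransparency false in
theorem sum_dist {D : Type u} [Category.{v} D] [Preadditive D] [HasZeroObject D] [HasShift D ℤ]
    [∀ n : ℤ, (shiftFunctor D n).Additive] [Pretriangulated D]
    (A B : Triangle D) (hA : A ∈ distinguishedTriangles) (hB : B ∈ distinguishedTriangles) :
    sumT A B ∈ distinguishedTriangles := by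
  have hfam : ∀ j, fam A B j ∈ distinguishedTriangles := by
    rintro ⟨⟩
    · exact hA
    · exact hB
  have h := Groth.Agent.S6593.coprod_distinguished (fam A B) hfam
  refine isomorphic_distinguished _ h _ ?_
  refine (Triangle.isoMk _ _ (sigmaIsoBiprod (fun j => (fam A B j).obj₁))
    (sigmaIsoBiprod (fun j => (fam A B j).obj₂)) (sigmaIsoBiprod (fun j => (fam A B j).obj₃))
    ?_ ?_ ?_).symm
  · apply Sigma.hom_ext
    rintro ⟨⟩
    · simp [sigmaIsoBiprod, fam]
    · simp [sigmaIsoBiprod, fam]
  · apply Sigma.hom_ext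
    rintro ⟨⟩
    · simp [sigmaIsoBiprod, fam]
    · simp [sigmaIsoBiprod, fam]
  · apply Sigma.hom_ext
    rintro ⟨⟩
    · simp [sigmaIsoBiprod, fam]
      rw [← CategoryTheory.Functor.map_comp, Sigma.ι_desc]
    · simp [sigmaIsoBiprod, fam]
      rw [← CategoryTheory.Functor.map_comp, Sigma.ι_desc]

set_option backward.defeqAttrib.useBackward true in
set_option backward.isDefEq.respectTransparency false in
theorem dist_of_sum {D : Type u} [Category.{v} D] [Preadditive D] [HasZeroObject D] [HasShift D ℤ]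
    [∀ n : ℤ, (shiftFunctor D n).Additive] [Pretriangulated D]
    (A B : Triangle D) (hS : sumT A B ∈ distinguishedTriangles) :
    A ∈ distinguishedTriangles ∧ B ∈ distinguishedTriangles := by
  obtain ⟨Q, g₁, h₁, hA₁⟩ := distinguished_cocone_triangle A.mor₁
  obtain ⟨Q', g₁', h₁', hB₁⟩ := distinguished_cocone_triangle B.mor₁
  have hS₁ := sum_dist _ _ hA₁ hB₁
  obtain ⟨c, hc₂, hc₃⟩ := complete_distinguished_triangle_morphism (Triangle.mk A.mor₁ g₁ h₁)
    (sumT A B) hA₁ hS biprod.inl biprod.inl (by simp)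
  obtain ⟨c', hc₂', hc₃'⟩ := complete_distinguished_triangle_morphism (Triangle.mk B.mor₁ g₁' h₁')
    (sumT A B) hB₁ hS biprod.inr biprod.inr (by simp)
  dsimp at c c' hc₂ hc₃ hc₂' hc₃'
  have hfst : biprod.desc (A.mor₃ ≫ (shiftFunctor D (1 : ℤ)).map biprod.inl)
      (B.mor₃ ≫ (shiftFunctor D (1 : ℤ)).map biprod.inr) ≫ (shiftFunctor D (1 : ℤ)).map biprod.fst
      = biprod.fst ≫ A.mor₃ := by
    apply biprod.hom_ext'
    · rw [biprod.inl_desc_assoc, Category.assoc, ← CategoryTheory.Functor.map_comp, biprod.inl_fst,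
        CategoryTheory.Functor.map_id, Category.comp_id, biprod.inl_fst_assoc]
    · rw [biprod.inr_desc_assoc, Category.assoc, ← CategoryTheory.Functor.map_comp, biprod.inr_fst,
        Functor.map_zero, comp_zero, biprod.inr_fst_assoc, zero_comp]
  have hsnd : biprod.desc (A.mor₃ ≫ (shiftFunctor D (1 : ℤ)).map biprod.inl)
      (B.mor₃ ≫ (shiftFunctor D (1 : ℤ)).map biprod.inr) ≫ (shiftFunctor D (1 : ℤ)).map biprod.snd
      = biprod.snd ≫ B.mor₃ := by
    apply biprod.hom_ext'
    · rw [biprod.inl_desc_assoc, Category.assoc, ← CategoryTheory.Functor.map_comp, biprod.inl_snd,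
        Functor.map_zero, comp_zero, biprod.inl_snd_assoc, zero_comp]
    · rw [biprod.inr_desc_assoc, Category.assoc, ← CategoryTheory.Functor.map_comp, biprod.inr_snd,
        CategoryTheory.Functor.map_id, Category.comp_id, biprod.inr_snd_assoc]
  have hγ₂ : g₁ ≫ c ≫ biprod.fst = A.mor₂ := by
    rw [reassoc_of% hc₂, biprod.map_fst, biprod.inl_fst_assoc]
  have hγ₃ : (c ≫ biprod.fst) ≫ A.mor₃ = h₁ := by
    rw [Category.assoc, ← hfst, ← reassoc_of% hc₃, ← CategoryTheory.Functor.map_comp, biprod.inl_fst,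
      CategoryTheory.Functor.map_id, Category.comp_id]
  have hγ₂' : g₁' ≫ c' ≫ biprod.snd = B.mor₂ := by
    rw [reassoc_of% hc₂', biprod.map_snd, biprod.inr_snd_assoc]
  have hγ₃' : (c' ≫ biprod.snd) ≫ B.mor₃ = h₁' := by
    rw [Category.assoc, ← hsnd, ← reassoc_of% hc₃', ← CategoryTheory.Functor.map_comp, biprod.inr_snd,
      CategoryTheory.Functor.map_id, Category.comp_id]
  let φ : sumT (Triangle.mk A.mor₁ g₁ h₁) (Triangle.mk B.mor₁ g₁' h₁') ⟶ sumT A B :=
    { hom₁ := 𝟙 _
      hom₂ := 𝟙 _
      hom₃ := biprod.map (c ≫ biprod.fst) (c' ≫ biprod.snd)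
      comm₁ := by simp
      comm₂ := by
        dsimp
        rw [Category.id_comp]
        apply biprod.hom_ext'
        · rw [biprod.inl_map_assoc, biprod.inl_map, biprod.inl_map, Category.assoc,
            reassoc_of% hγ₂]
        · rw [biprod.inr_map_assoc, biprod.inr_map, biprod.inr_map, Category.assoc,
            reassoc_of% hγ₂']
      comm₃ := by
        dsimp
        rw [CategoryTheory.Functor.map_id, Category.comp_id]
        apply biprod.hom_ext'
        · rw [biprod.inl_desc, biprod.inl_map_assoc, biprod.inl_desc, ← Category.assoc, hγ₃]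
        · rw [biprod.inr_desc, biprod.inr_map_assoc, biprod.inr_desc, ← Category.assoc, hγ₃'] }
  have hiso : IsIso (biprod.map (c ≫ biprod.fst) (c' ≫ biprod.snd)) :=
    isIso₃_of_isIso₁₂ φ hS₁ hS (by dsimp [φ]; infer_instance) (by dsimp [φ]; infer_instance)
  have hγiso : IsIso (c ≫ biprod.fst) := isIso_left_of_isIso_biprod_map _ (c' ≫ biprod.snd)
  have hγiso' : IsIso (c' ≫ biprod.snd) := isIso_right_of_isIso_biprod_map (c ≫ biprod.fst) _
  constructor
  · refine isomorphic_distinguished _ hA₁ _ (Triangle.isoMk (Triangle.mk A.mor₁ g₁ h₁) A (Iso.refl _) (Iso.refl _)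
      (asIso (c ≫ biprod.fst)) ?_ ?_ ?_).symm
    · simp
    · dsimp
      rw [Category.id_comp, hγ₂]
    · dsimp
      rw [CategoryTheory.Functor.map_id, Category.comp_id]
      exact hγ₃.symm
  · refine isomorphic_distinguished _ hB₁ _ (Triangle.isoMk (Triangle.mk B.mor₁ g₁' h₁') B (Iso.refl _) (Iso.refl _)
      (asIso (c' ≫ biprod.snd)) ?_ ?_ ?_).symm
    · simp
    · dsimp
      rw [Category.id_comp, hγ₂']
    · dsimp
      rw [CategoryTheory.Functor.map_id, Category.comp_id]
      exact hγ₃'.symm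


open CategoryTheory.Pretriangulated in
/-- Let T = (X, Y, Z, f, g, h) and T' = (X', Y', Z', f', g', h') be triangles in a pretriangulated
category. The direct sum triangle (X ⊞ X', Y ⊞ Y', Z ⊞ Z', f ⊕ f', g ⊕ g', h ⊕ h') (whose third map
Z ⊞ Z' ⟶ (X ⊞ X')⟦1⟧ has components h ≫ inl⟦1⟧ and h' ≫ inr⟦1⟧) is distinguished if and only if T
and T' are both distinguished. -/
theorem result {D : Type u} [Category.{v} D] [Preadditive D] [HasZeroObject D] [HasShift D ℤ]
    [∀ n : ℤ, (shiftFunctor D n).Additive] [Pretriangulated D]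
    (T T' : Triangle D) :
    Triangle.mk (biprod.map T.mor₁ T'.mor₁) (biprod.map T.mor₂ T'.mor₂)
        (biprod.desc (T.mor₃ ≫ (shiftFunctor D (1 : ℤ)).map biprod.inl) (T'.mor₃ ≫ (shiftFunctor D (1 : ℤ)).map biprod.inr)) ∈ distinguishedTriangles ↔
      (T ∈ distinguishedTriangles ∧ T' ∈ distinguishedTriangles) := by
  exact ⟨fun h => dist_of_sum T T' h, fun h => sum_dist T T' h.1 h.2⟩

end Groth.Agent.S6581
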