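import Groth.Statements.S6585
-- import your own Groth.Agent.* helpers here
import Mathlib.CategoryTheory.Triangulated.Orthogonal

set_option autoImplicit false
universe v u
open CategoryTheory CategoryTheory.Limits
open CohDer

namespace Groth.Agent.S6585

open CategoryTheory.Pretriangulated in
/-- Let D be a triangulated category and E, K objects of D. Then Hom(E, K⟦i⟧) = 0 for all integers i if
and only if Hom(E', K) = 0 for every E' in ⟨E⟩, the smallest strictly full saturated triangulated
subcategory of D containing E (the objects obtained from E by shifts, finite direct sums, direct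
summands and extensions). -/
theorem result {D : Type u} [Category.{v} D] [Preadditive D] [HasZeroObject D] [HasShift D ℤ]
    [∀ n : ℤ, (shiftFunctor D n).Additive] [Pretriangulated D] [IsTriangulated D]
    (E K : D) :
    (∀ (i : ℤ) (f : E ⟶ (shiftFunctor D i).obj K), f = 0) ↔
      ∀ (E' : D), (ObjectProperty.singleton E).triangEnvelope E' → ∀ f : E' ⟶ K, f = 0 := by
  have hret : ((ObjectProperty.singleton K).shiftClosure ℤ).leftOrthogonal.IsStableUnderRetracts :=
    ⟨fun r hY Z f hZ => by
      have : f = r.i ≫ (r.r ≫ f) := by rw [← Category.assoc, r.retract, Category.id_comp]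
      rw [this, hY (r.r ≫ f) hZ, comp_zero]⟩
  constructor
  · intro h E' hE' f
    have hle : (ObjectProperty.singleton E).triangEnvelope ≤
        ((ObjectProperty.singleton K).shiftClosure ℤ).leftOrthogonal := by
      rw [ObjectProperty.triangEnvelope_le_iff, ObjectProperty.singleton_le_iff]
      rintro Y f ⟨Y', a, e, hY'⟩
      rw [ObjectProperty.singleton_iff] at hY'
      subst hY'
      rw [← cancel_mono e.hom, zero_comp]
      exact h a _
    exact hle E' hE' f ⟨K, 0, (shiftFunctorZero D ℤ).symm.app K,
      (ObjectProperty.singleton_iff K K).2 rfl⟩
  · intro h i f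
    have hE : (ObjectProperty.singleton E).triangEnvelope ((shiftFunctor D (-i)).obj E) :=
      ObjectProperty.le_shift ((ObjectProperty.singleton E).triangEnvelope) (-i) _
        ((ObjectProperty.singleton E).le_triangEnvelope _ ((ObjectProperty.singleton_iff E E).2 rfl))
    have h1 := h _ hE ((shiftFunctor D (-i)).map f ≫ (shiftShiftNeg K i).hom)
    rw [← cancel_mono (shiftShiftNeg K i).inv, Category.assoc, Iso.hom_inv_id, Category.comp_id,
      zero_comp] at h1
    apply (shiftFunctor D (-i)).map_injective
    rw [h1, Functor.map_zero]

end Groth.Agent.S6585
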