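import Groth.Statements.S6587
-- import your own Groth.Agent.* helpers here

set_option autoImplicit false
universe v u
open CategoryTheory CategoryTheory.Limits Opposite
open CohDer

namespace Groth.Agent.S6587

open CategoryTheory.Pretriangulated in
/-- Let D be a triangulated category and let X_n → Y_n → Z_n → X_n⟦1⟧ be an inverse system of
distinguished triangles of D indexed by ℕ (levelwise maps f, g, h of inverse systems, each level
distinguished). If the inverse system (Z_n) is pro-zero, then the levelwise map f : (X_n) → (Y_n) is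
a pro-isomorphism. -/
theorem result {D : Type u} [Category.{v} D] [Preadditive D] [HasZeroObject D] [HasShift D ℤ]
    [∀ n : ℤ, (shiftFunctor D n).Additive] [Pretriangulated D] [IsTriangulated D]
    (X Y Z : ARSys.PS D) (f : X ⟶ Y) (g : Y ⟶ Z) (h : Z ⟶ X ⋙ shiftFunctor D (1 : ℤ))
    (hT : ∀ n : ℕ, Triangle.mk (f.app (op n)) (g.app (op n)) (h.app (op n)) ∈ distinguishedTriangles)
    (hZ : DerCA.IsProZero Z) :
    DerCA.IsProIso f := by
  intro n
  obtain ⟨m, hnm, hZ1⟩ := hZ n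
  obtain ⟨k, hmk, hZ2⟩ := hZ m
  have natf : ∀ {a b : ℕ} (hab : a ≤ b),
      ARSys.tr X hab ≫ f.app (op a) = f.app (op b) ≫ ARSys.tr Y hab :=
    fun hab => f.naturality _
  have natg : ∀ {a b : ℕ} (hab : a ≤ b),
      ARSys.tr Y hab ≫ g.app (op a) = g.app (op b) ≫ ARSys.tr Z hab :=
    fun hab => g.naturality _
  have nath : ∀ {a b : ℕ} (hab : a ≤ b),
      ARSys.tr Z hab ≫ h.app (op a) =
        h.app (op b) ≫ (shiftFunctor D (1 : ℤ)).map (ARSys.tr X hab) :=
    fun hab => h.naturality _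
  have trcomp : ∀ (W : ARSys.PS D) {a b c : ℕ} (hab : a ≤ b) (hbc : b ≤ c),
      ARSys.tr W hbc ≫ ARSys.tr W hab = ARSys.tr W (hab.trans hbc) := by
    intro W a b c hab hbc
    rw [← W.map_comp]
    rfl
  obtain ⟨b₁, hb₁'⟩ : ∃ b₁ : Y.obj (op m) ⟶ X.obj (op n),
      ARSys.tr Y hnm = b₁ ≫ f.app (op n) :=
    Triangle.coyoneda_exact₂ _ (hT n) (ARSys.tr Y hnm) (by
      show ARSys.tr Y hnm ≫ g.app (op n) = 0
      rw [natg, hZ1, comp_zero])
  have hd : (f.app (op m) ≫ b₁ - ARSys.tr X hnm) ≫ f.app (op n) = 0 := by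
    rw [Preadditive.sub_comp, Category.assoc, ← hb₁', natf, sub_self]
  have hd' : h.app (op m) ≫
      (shiftFunctor D (1 : ℤ)).map (f.app (op m) ≫ b₁ - ARSys.tr X hnm) = 0 := by
    rw [Functor.map_sub, Preadditive.comp_sub, Functor.map_comp, ← Category.assoc]
    have h31 : h.app (op m) ≫ (shiftFunctor D (1 : ℤ)).map (f.app (op m)) = 0 :=
      comp_distTriang_mor_zero₃₁ _ (hT m)
    rw [h31, zero_comp, ← nath, hZ1, zero_comp, sub_zero]
  obtain ⟨ψ, hψ⟩ : ∃ ψ : (shiftFunctor D (1 : ℤ)).obj (Y.obj (op m)) ⟶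
        (shiftFunctor D (1 : ℤ)).obj (X.obj (op n)),
      (shiftFunctor D (1 : ℤ)).map (f.app (op m) ≫ b₁ - ARSys.tr X hnm) =
        (-(shiftFunctor D (1 : ℤ)).map (f.app (op m))) ≫ ψ :=
    Triangle.yoneda_exact₂ _ (rot_of_distTriang _ (rot_of_distTriang _ (hT m)))
      ((shiftFunctor D (1 : ℤ)).map (f.app (op m) ≫ b₁ - ARSys.tr X hnm)) hd'
  obtain ⟨c, rfl⟩ := (shiftFunctor D (1 : ℤ)).map_surjective ψ
  have hψ' : (shiftFunctor D (1 : ℤ)).map (f.app (op m) ≫ b₁ - ARSys.tr X hnm) =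
      (-(shiftFunctor D (1 : ℤ)).map (f.app (op m))) ≫ (shiftFunctor D (1 : ℤ)).map c := hψ
  have hc : f.app (op m) ≫ b₁ - ARSys.tr X hnm = -(f.app (op m) ≫ c) := by
    apply (shiftFunctor D (1 : ℤ)).map_injective
    rw [hψ', Functor.map_neg, Functor.map_comp, Preadditive.neg_comp]
  have hb₂ : f.app (op m) ≫ (b₁ + c) = ARSys.tr X hnm := by
    rw [Preadditive.comp_add]
    have := hc
    rw [sub_eq_iff_eq_add] at this
    rw [this]
    abel
  have hcf : f.app (op m) ≫ (c ≫ f.app (op n)) = 0 := by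
    have := hd
    rw [hc, Preadditive.neg_comp, neg_eq_zero, Category.assoc] at this
    exact this
  obtain ⟨c', hc''⟩ : ∃ c' : Z.obj (op m) ⟶ Y.obj (op n),
      c ≫ f.app (op n) = g.app (op m) ≫ c' :=
    Triangle.yoneda_exact₂ _ (hT m) (c ≫ f.app (op n)) hcf
  refine ⟨k, hnm.trans hmk, ARSys.tr Y hmk ≫ (b₁ + c), ?_, ?_⟩
  · rw [← Category.assoc, ← natf, Category.assoc, hb₂, trcomp]
  · rw [Category.assoc, Preadditive.add_comp, ← hb₁', hc'', Preadditive.comp_add,
      ← Category.assoc (ARSys.tr Y hmk) (g.app (op m)), natg, hZ2, comp_zero, zero_comp, add_zero,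
      trcomp]

end Groth.Agent.S6587
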