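import Groth.Statements.S6594
-- import your own Groth.Agent.* helpers here

set_option autoImplicit false
universe v u
open CategoryTheory CategoryTheory.Limits
open CohDer

namespace Groth.Agent.S6594

set_option backward.defeqAttrib.useBackward true in
set_option backward.isDefEq.respectTransparency false in
open CategoryTheory.Pretriangulated in
theorem hasKernel_iff {D : Type u} [Category.{v} D] [Preadditive D] [HasZeroObject D] [HasShift D ℤ]
    [∀ n : ℤ, (shiftFunctor D n).Additive] [Pretriangulated D]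
    {X Y : D} (f : X ⟶ Y) :
    HasKernel f ↔ ∃ (K Z Q : D) (e₁ : X ≅ K ⊞ Z) (e₂ : Y ≅ Z ⊞ Q),
      f = e₁.hom ≫ biprod.snd ≫ biprod.inl ≫ e₂.inv := by
  constructor
  · intro hK
    obtain ⟨Z, m₂, m₃, hT⟩ := distinguished_cocone_triangle (kernel.ι f)
    have h3 : m₃ = 0 := Triangle.mor₃_eq_zero_of_mono₁ _ hT (inferInstance : Mono (kernel.ι f))
    obtain ⟨e, he₁, he₂⟩ := exists_iso_binaryBiproduct_of_distTriang _ hT h3
    dsimp at e he₁ he₂
    have hinl : biprod.inl ≫ e.inv = kernel.ι f := by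
      rw [← he₁, Category.assoc, Iso.hom_inv_id, Category.comp_id]
    let f' : Z ⟶ Y := biprod.inr ≫ e.inv ≫ f
    have hf : f = e.hom ≫ biprod.snd ≫ f' := by
      rw [← cancel_epi e.inv, Iso.inv_hom_id_assoc]
      apply biprod.hom_ext'
      · rw [← Category.assoc, hinl, kernel.condition, biprod.inl_snd_assoc, zero_comp]
      · rw [biprod.inr_snd_assoc]
    have hmono : Mono f' := by
      rw [Preadditive.mono_iff_cancel_zero]
      intro W t ht
      have h0 : (t ≫ biprod.inr ≫ e.inv) ≫ f = 0 := by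
        simpa only [Category.assoc, f'] using ht
      have hs : kernel.lift f (t ≫ biprod.inr ≫ e.inv) h0 ≫ kernel.ι f =
          t ≫ biprod.inr ≫ e.inv := kernel.lift_ι _ _ _
      have h1 := congrArg (fun x => x ≫ e.hom ≫ biprod.snd) hs
      simp only [Category.assoc, Iso.inv_hom_id_assoc, biprod.inr_snd, Category.comp_id] at h1
      rw [← h1, ← hinl]
      simp
    obtain ⟨Q, n₂, n₃, hT'⟩ := distinguished_cocone_triangle f'
    have h3' : n₃ = 0 := Triangle.mor₃_eq_zero_of_mono₁ _ hT' hmono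
    obtain ⟨e', he'₁, he'₂⟩ := exists_iso_binaryBiproduct_of_distTriang _ hT' h3'
    dsimp at e' he'₁ he'₂
    refine ⟨kernel f, Z, Q, e, e', ?_⟩
    have : f' = biprod.inl ≫ e'.inv := by
      rw [← he'₁, Category.assoc, Iso.hom_inv_id, Category.comp_id]
    rw [← this]
    exact hf
  · rintro ⟨K, Z, Q, e₁, e₂, rfl⟩
    have h1 : HasKernel (biprod.snd : K ⊞ Z ⟶ Z) := inferInstance
    have h2 : HasKernel ((biprod.snd : K ⊞ Z ⟶ Z) ≫ (biprod.inl ≫ e₂.inv : Z ⟶ Y)) :=
      hasKernel_comp_mono _ _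
    exact hasKernel_iso_comp e₁.hom _

open CategoryTheory.Pretriangulated in
/-- (1) ⇔ (3): let D be a pretriangulated category and f : X ⟶ Y a morphism. Then f has a kernel if and
only if f is isomorphic to a composite K ⊞ Z → Z → Z ⊞ Q of a projection and a coprojection for some
objects K, Z, Q. -/
theorem result {D : Type u} [Category.{v} D] [Preadditive D] [HasZeroObject D] [HasShift D ℤ]
    [∀ n : ℤ, (shiftFunctor D n).Additive] [Pretriangulated D]
    {X Y : D} (f : X ⟶ Y) :
    HasKernel f ↔ ∃ (K Z Q : D) (e₁ : X ≅ K ⊞ Z) (e₂ : Y ≅ Z ⊞ Q),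
      f = e₁.hom ≫ biprod.snd ≫ biprod.inl ≫ e₂.inv := by
  exact hasKernel_iff f

end Groth.Agent.S6594
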