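import Groth.Statements.S6596
import Groth.Agent.Lib.Postnikov

set_option autoImplicit false
universe v u
open CategoryTheory CategoryTheory.Limits
open CohDer

namespace Groth.Agent.S6596

open CategoryTheory.Pretriangulated in
/-- Let D be a triangulated category and φ : X ⟶ X' a morphism of chain complexes in D considered in
degrees ≤ n, where a Postnikov system for the complex X_n → … → X_0 consists of objects Y_k, an
isomorphism Y_0 ⟶ X_0, and for 0 ≤ k < n distinguished triangles Y_{k+1} ⟶ X_{k+1} ⟶ Y_k ⟶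
Y_{k+1}⟦1⟧ with X_{k+1} ⟶ Y_k ⟶ X_k the differential. Suppose X and X' carry Postnikov systems (Y,
a, b, c) and (Y', a', b', c'). If Hom(X_i⟦i - j - 1⟧, X'_j) = 0 for all j + 1 < i ≤ n, then φ
extends to a morphism of Postnikov systems: morphisms y_k : Y_k ⟶ Y'_k for k ≤ n forming, with the
φ_k, morphisms of the distinguished triangles and compatible with Y_0 ⟶ X_0 and Y'_0 ⟶ X'_0. -/
theorem result {D : Type u} [Category.{v} D] [Preadditive D] [HasZeroObject D] [HasShift D ℤ]
    [∀ n : ℤ, (shiftFunctor D n).Additive] [Pretriangulated D] [IsTriangulated D]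
    (X X' : ChainComplex D ℕ) (φ : X ⟶ X') (n : ℕ)
    (Y : ℕ → D) (a : ∀ k, Y k ⟶ X.X k) (b : ∀ k, X.X (k + 1) ⟶ Y k)
    (c : ∀ k, Y k ⟶ (shiftFunctor D (1 : ℤ)).obj (Y (k + 1)))
    (h0 : IsIso (a 0))
    (hP : ∀ k, k < n → Triangle.mk (a (k + 1)) (b k) (c k) ∈ distinguishedTriangles ∧ b k ≫ a k = X.d (k + 1) k)
    (qY : ℕ → D) (qa : ∀ k, qY k ⟶ X'.X k) (qb : ∀ k, X'.X (k + 1) ⟶ qY k)
    (qc : ∀ k, qY k ⟶ (shiftFunctor D (1 : ℤ)).obj (qY (k + 1)))
    (qh0 : IsIso (qa 0))
    (qhP : ∀ k, k < n → Triangle.mk (qa (k + 1)) (qb k) (qc k) ∈ distinguishedTriangles ∧ qb k ≫ qa k = X'.d (k + 1) k)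
    (hX : ∀ i j : ℕ, j + 1 < i → i ≤ n → ∀ ψ : (shiftFunctor D ((i : ℤ) - j - 1)).obj (X.X i) ⟶ X'.X j, ψ = 0) :
    ∃ y : ∀ k, Y k ⟶ qY k,
      (∀ k, k ≤ n → y k ≫ qa k = a k ≫ φ.f k) ∧
      (∀ k, k < n → b k ≫ y k = φ.f (k + 1) ≫ qb k ∧ c k ≫ (shiftFunctor D (1 : ℤ)).map (y (k + 1)) = y k ≫ qc k) := by
  classical
  have hPt : ∀ k, k < n → Triangle.mk (a (k + 1)) (b k) (c k) ∈ distinguishedTriangles :=
    fun k hk => (hP k hk).1
  have qhPt : ∀ k, k < n → Triangle.mk (qa (k + 1)) (qb k) (qc k) ∈ distinguishedTriangles :=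
    fun k hk => (qhP k hk).1
  -- the square `b k ≫ y k = φ (k+1) ≫ b' k` is forced
  have hsq : ∀ k, k < n → ∀ yk : Y k ⟶ qY k, yk ≫ qa k = a k ≫ φ.f k →
      b k ≫ yk = φ.f (k + 1) ≫ qb k := by
    intro k hk yk hyk
    have hδ : (b k ≫ yk - φ.f (k + 1) ≫ qb k) ≫ qa k = 0 := by
      rw [Preadditive.sub_comp, Category.assoc, hyk, ← Category.assoc, (hP k hk).2, Category.assoc,
        (qhP k hk).2, φ.comm, sub_self]
    rw [← sub_eq_zero]
    cases k with
    | zero =>
      rw [← cancel_mono (qa 0), hδ, zero_comp]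
    | succ k' =>
      have hT' := qhPt k' (by omega)
      obtain ⟨g, hg⟩ := Triangle.coyoneda_exact₁ _ hT'
        ((shiftFunctor D (1 : ℤ)).map (b (k' + 1) ≫ yk - φ.f (k' + 1 + 1) ≫ qb (k' + 1)))
        (by
          change (shiftFunctor D (1 : ℤ)).map _ ≫ (shiftFunctor D (1 : ℤ)).map (qa (k' + 1)) = 0
          rw [← Functor.map_comp, hδ, Functor.map_zero])
      have hg0 : g = 0 := by
        apply Groth.Agent.Lib.Postnikov.hom_to_Y_eq_zero X' n qY qa qb qc qh0 qhPt k' (by omega)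
          (Groth.Agent.Lib.Postnikov.sh (X.X (k' + 1 + 1)))
        intro i j hij ψ
        obtain ⟨e⟩ := Groth.Agent.Lib.Postnikov.nonempty_iterate_shift_iso (X.X (k' + 1 + 1))
          (1 : ℤ) (((k' + 1 + 1 : ℕ) : ℤ) - j - 1) i (by rw [← hij]; push_cast; ring)
        have h1 : e.inv ≫ ψ = 0 := hX (k' + 1 + 1) j (by omega) (by omega) _
        have : ψ = e.hom ≫ (e.inv ≫ ψ) := by simp
        rw [this, h1, comp_zero]
      apply (shiftFunctor D (1 : ℤ)).map_injective
      rw [Functor.map_zero]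
      refine hg.trans ?_
      rw [hg0, zero_comp]
      rfl
  -- inductive construction
  have hE : ∀ k, k ≤ n → ∃ y : ∀ j, Y j ⟶ qY j,
      (∀ j, j ≤ k → y j ≫ qa j = a j ≫ φ.f j) ∧
      (∀ j, j < k → b j ≫ y j = φ.f (j + 1) ≫ qb j ∧
        c j ≫ (shiftFunctor D (1 : ℤ)).map (y (j + 1)) = y j ≫ qc j) := by
    intro k
    induction k with
    | zero =>
      intro _
      refine ⟨fun j => match j with
        | 0 => a 0 ≫ φ.f 0 ≫ inv (qa 0)
        | j + 1 => 0, ?_, ?_⟩
      · intro j hj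
        obtain rfl : j = 0 := by omega
        simp
      · intro j hj
        omega
    | succ k ih =>
      intro hk
      obtain ⟨y, hy1, hy2⟩ := ih (by omega)
      have hα := hsq k (by omega) (y k) (hy1 k le_rfl)
      obtain ⟨ynew, hn1, hn2⟩ := complete_distinguished_triangle_morphism₁ _ _
        (hPt k (by omega)) (qhPt k (by omega)) (φ.f (k + 1)) (y k) hα
      refine ⟨Function.update y (k + 1) ynew, ?_, ?_⟩
      · intro j hj
        by_cases hjk : j = k + 1
        · subst hjk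
          rw [Function.update_self]
          exact hn1.symm
        · rw [Function.update_of_ne hjk]
          exact hy1 j (by omega)
      · intro j hj
        by_cases hjk : j = k
        · subst hjk
          rw [Function.update_self, Function.update_of_ne (by omega)]
          exact ⟨hα, hn2⟩
        · rw [Function.update_of_ne (by omega), Function.update_of_ne (by omega)]
          exact hy2 j (by omega)
  exact hE n le_rfl

end Groth.Agent.S6596
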