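import Groth.Statements.S6597
import Groth.Agent.Lib.Postnikov

set_option autoImplicit false
universe v u
open CategoryTheory CategoryTheory.Limits
open CohDer

namespace Groth.Agent.S6597

open CategoryTheory.Pretriangulated Groth.Agent.Lib.Postnikov in
/-- Key induction: the difference `w` of two morphisms of Postnikov systems dies after composing
with any probe `r : Y'_k ⟶ Z` into an object receiving no maps from the relevant `X_j`. -/
theorem diff_comp_eq_zero {D : Type u} [Category.{v} D] [Preadditive D] [HasZeroObject D]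
    [HasShift D ℤ] [∀ n : ℤ, (shiftFunctor D n).Additive] [Pretriangulated D]
    (X : ChainComplex D ℕ) (n : ℕ)
    (Y : ℕ → D) (a : ∀ k, Y k ⟶ X.X k) (b : ∀ k, X.X (k + 1) ⟶ Y k)
    (c : ∀ k, Y k ⟶ (shiftFunctor D (1 : ℤ)).obj (Y (k + 1)))
    (hP : ∀ k, k < n → Triangle.mk (a (k + 1)) (b k) (c k) ∈ distinguishedTriangles)
    (qY : ℕ → D) (qc : ∀ k, qY k ⟶ (shiftFunctor D (1 : ℤ)).obj (qY (k + 1)))
    (w : ∀ k, Y k ⟶ qY k) (hw0 : w 0 = 0)
    (hw : ∀ k, k < n → c k ≫ (shiftFunctor D (1 : ℤ)).map (w (k + 1)) = w k ≫ qc k)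
    (k : ℕ) : k ≤ n → ∀ (Z : D) (r : qY k ⟶ Z),
      (∀ i j : ℕ, i + j = k → 1 ≤ j → ∀ ψ : X.X j ⟶ (sh^[i]) Z, ψ = 0) → w k ≫ r = 0 := by
  induction k with
  | zero =>
    intro _ Z r _
    rw [hw0, zero_comp]
  | succ k ih =>
    intro hk Z r hyp
    have hT := hP k (by omega)
    have h1 : w k ≫ (qc k ≫ (shiftFunctor D (1 : ℤ)).map r) = 0 := by
      apply ih (by omega) (sh Z)
      intro i j hij hj ψ
      exact hyp (i + 1) j (by omega) hj ψ
    have h2 : c k ≫ (shiftFunctor D (1 : ℤ)).map (w (k + 1) ≫ r) = 0 := by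
      rw [Functor.map_comp, ← Category.assoc, hw k (by omega), Category.assoc, h1]
    obtain ⟨g, hg⟩ := Triangle.yoneda_exact₃ _ (rot_of_distTriang _ hT)
      ((shiftFunctor D (1 : ℤ)).map (w (k + 1) ≫ r)) h2
    obtain ⟨g', rfl⟩ := (shiftFunctor D (1 : ℤ)).map_surjective g
    have h3 : g' = 0 := hyp 0 (k + 1) (by omega) (by omega) g'
    apply (shiftFunctor D (1 : ℤ)).map_injective
    rw [Functor.map_zero]
    refine hg.trans ?_
    rw [h3, Functor.map_zero, comp_zero]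
    rfl

open CategoryTheory.Pretriangulated in
/-- Let D be a triangulated category, φ : X ⟶ X' a morphism of chain complexes in D considered in
degrees ≤ n, where a Postnikov system for the complex X_n → … → X_0 consists of objects Y_k, an
isomorphism Y_0 ⟶ X_0, and for 0 ≤ k < n distinguished triangles Y_{k+1} ⟶ X_{k+1} ⟶ Y_k ⟶
Y_{k+1}⟦1⟧ with X_{k+1} ⟶ Y_k ⟶ X_k the differential; let (Y, a, b, c) and (Y', a', b', c') be
Postnikov systems for X and X'. If Hom(X_i⟦i⟧, Y'_n⟦n⟧) = 0 for i = 1, …, n, then two morphisms of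
Postnikov systems extending φ agree on Y_n. (The published statement says there is at most one
morphism of Postnikov systems; the argument, by induction along Y_0 → Y_1⟦1⟧ → … → Y_n⟦n⟧,
determines the component in degree n, which is what is asserted here.) -/
theorem result {D : Type u} [Category.{v} D] [Preadditive D] [HasZeroObject D] [HasShift D ℤ]
    [∀ n : ℤ, (shiftFunctor D n).Additive] [Pretriangulated D] [IsTriangulated D]
    (X X' : ChainComplex D ℕ) (φ : X ⟶ X') (n : ℕ)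
    (Y : ℕ → D) (a : ∀ k, Y k ⟶ X.X k) (b : ∀ k, X.X (k + 1) ⟶ Y k)
    (c : ∀ k, Y k ⟶ (shiftFunctor D (1 : ℤ)).obj (Y (k + 1)))
    (h0 : IsIso (a 0))
    (hP : ∀ k, k < n → Triangle.mk (a (k + 1)) (b k) (c k) ∈ distinguishedTriangles ∧ b k ≫ a k = X.d (k + 1) k)
    (qY : ℕ → D) (qa : ∀ k, qY k ⟶ X'.X k) (qb : ∀ k, X'.X (k + 1) ⟶ qY k)
    (qc : ∀ k, qY k ⟶ (shiftFunctor D (1 : ℤ)).obj (qY (k + 1)))
    (qh0 : IsIso (qa 0))
    (qhP : ∀ k, k < n → Triangle.mk (qa (k + 1)) (qb k) (qc k) ∈ distinguishedTriangles ∧ qb k ≫ qa k = X'.d (k + 1) k)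
    (hv : ∀ i : ℕ, 1 ≤ i → i ≤ n → ∀ ψ : (shiftFunctor D (i : ℤ)).obj (X.X i) ⟶ (shiftFunctor D (n : ℤ)).obj (qY n), ψ = 0)
    (y z : ∀ k, Y k ⟶ qY k)
    (hy : (∀ k, k ≤ n → y k ≫ qa k = a k ≫ φ.f k) ∧
      (∀ k, k < n → b k ≫ y k = φ.f (k + 1) ≫ qb k ∧ c k ≫ (shiftFunctor D (1 : ℤ)).map (y (k + 1)) = y k ≫ qc k))
    (hz : (∀ k, k ≤ n → z k ≫ qa k = a k ≫ φ.f k) ∧
      (∀ k, k < n → b k ≫ z k = φ.f (k + 1) ≫ qb k ∧ c k ≫ (shiftFunctor D (1 : ℤ)).map (z (k + 1)) = z k ≫ qc k)) :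
    y n = z n := by
  have hPt : ∀ k, k < n → Triangle.mk (a (k + 1)) (b k) (c k) ∈ distinguishedTriangles :=
    fun k hk => (hP k hk).1
  have hw0 : y 0 - z 0 = 0 := by
    rw [← cancel_mono (qa 0), Preadditive.sub_comp, hy.1 0 (by omega), hz.1 0 (by omega), sub_self,
      zero_comp]
  have hw : ∀ k, k < n → c k ≫ (shiftFunctor D (1 : ℤ)).map (y (k + 1) - z (k + 1)) =
      (y k - z k) ≫ qc k := by
    intro k hk
    rw [Functor.map_sub, Preadditive.comp_sub, (hy.2 k hk).2, (hz.2 k hk).2, Preadditive.sub_comp]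
  have key := diff_comp_eq_zero X n Y a b c hPt qY qc (fun k => y k - z k) hw0 hw n le_rfl
    (qY n) (𝟙 _) ?_
  · rw [Category.comp_id] at key
    exact sub_eq_zero.mp key
  · intro i j hij hj ψ
    obtain ⟨e⟩ := Groth.Agent.Lib.Postnikov.nonempty_iterate_iso i (qY n)
    have h1 : ψ ≫ e.hom = 0 := by
      apply (shiftFunctor D (j : ℤ)).map_injective
      rw [Functor.map_zero]
      have iso := (shiftFunctorAdd' D (i : ℤ) (j : ℤ) (n : ℤ) (by rw [← hij]; push_cast; ring)).app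
        (qY n)
      rw [← cancel_mono iso.inv, zero_comp]
      exact hv j hj (by omega) _
    have : ψ = (ψ ≫ e.hom) ≫ e.inv := by simp
    rw [this, h1, zero_comp]

end Groth.Agent.S6597
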