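import Groth.Statements.S6598
import Mathlib.Algebra.Homology.HomotopyCategory.Pretriangulated
import Mathlib.Algebra.Homology.HomologicalComplexBiprod
import Mathlib.Algebra.Homology.Embedding.CochainComplex

set_option linter.unusedSectionVars false

set_option autoImplicit false
universe v u
open CategoryTheory CategoryTheory.Limits
open CohDer

namespace Groth.Agent.S6598


section Split

variable {V : Type u} [Category.{v} V] [Preadditive V] [HasBinaryBiproducts V]

/-- A split monomorphism with an explicit complement is the inclusion of a summand. -/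
theorem exists_iso_of_split {A B C : V} (i : A ⟶ B) (r : B ⟶ A) (j : C ⟶ B) (q : B ⟶ C)
    (hir : i ≫ r = 𝟙 A) (hiq : i ≫ q = 0) (hjr : j ≫ r = 0) (hjq : j ≫ q = 𝟙 C)
    (htot : r ≫ i + q ≫ j = 𝟙 B) :
    ∃ e : B ≅ A ⊞ C, i ≫ e.hom = biprod.inl := by
  refine ⟨⟨biprod.lift r q, biprod.desc i j, ?_, ?_⟩, ?_⟩
  · rw [biprod.lift_desc, htot]
  · apply biprod.hom_ext <;> apply biprod.hom_ext' <;> simp [hir, hiq, hjr, hjq]
  · apply biprod.hom_ext <;> simp [hir, hiq]

end Split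


section Main

open CochainComplex HomComplex HomologicalComplex

variable {V : Type u} [Category.{v} V] [Preadditive V] [HasBinaryBiproducts V] [HasZeroObject V]

theorem isZero_biprod_X (K L : CochainComplex V ℤ) (i : ℤ) (hK : IsZero (K.X i))
    (hL : IsZero (L.X i)) : IsZero ((K ⊞ L).X i) :=
  ((biprod_isZero_iff _ _).2 ⟨hK, hL⟩).of_iso (biprodXIso K L i)

noncomputable def homotopy_fst_inl (L M : CochainComplex V ℤ) (h0 : Homotopy (𝟙 M) 0) :
    Homotopy ((biprod.fst : L ⊞ M ⟶ L) ≫ biprod.inl) (𝟙 (L ⊞ M)) := by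
  have H : Homotopy ((biprod.fst : L ⊞ M ⟶ L) ≫ biprod.inl + biprod.snd ≫ 𝟙 M ≫ biprod.inr)
      ((biprod.fst : L ⊞ M ⟶ L) ≫ biprod.inl + biprod.snd ≫ 0 ≫ biprod.inr) :=
    (Homotopy.refl _).add ((h0.compRight biprod.inr).compLeft biprod.snd)
  refine (Homotopy.ofEq ?_).trans (H.symm.trans (Homotopy.ofEq ?_))
  · simp
  · rw [Category.id_comp, biprod.total]

set_option backward.defeqAttrib.useBackward true in
set_option backward.isDefEq.respectTransparency false in
theorem split_term (K L : CochainComplex V ℤ) (α : K ⟶ L) (n : ℤ) :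
    ∃ (C : V) (e : (L ⊞ mappingCone (𝟙 K)).X n ≅ K.X n ⊞ C),
      (biprod.lift α (mappingCone.inr (𝟙 K)) : K ⟶ L ⊞ mappingCone (𝟙 K)).f n ≫ e.hom
        = biprod.inl := by
  let M := mappingCone (𝟙 K)
  let ιL := (biprod.inl : L ⟶ L ⊞ M).f n
  let ιC := (biprod.inr : M ⟶ L ⊞ M).f n
  let πL := (biprod.fst : L ⊞ M ⟶ L).f n
  let πC := (biprod.snd : L ⊞ M ⟶ M).f n
  let cinl := (mappingCone.inl (𝟙 K)).v (n + 1) n (by lia)
  let cinr := (mappingCone.inr (𝟙 K)).f n
  let cfst := (mappingCone.fst (𝟙 K)).1.v n (n + 1) rfl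
  let csnd := (mappingCone.snd (𝟙 K)).v n n (add_zero n)
  have h1 : cinl ≫ cfst = 𝟙 _ := mappingCone.inl_v_fst_v _ _ _ _
  have h2 : cinl ≫ csnd = 0 := mappingCone.inl_v_snd_v _ _ _ _
  have h3 : cinr ≫ cfst = 0 := mappingCone.inr_f_fst_v _ _ _ _
  have h4 : cinr ≫ csnd = 𝟙 _ := mappingCone.inr_f_snd_v _ _
  have h5 : cfst ≫ cinl + csnd ≫ cinr = 𝟙 _ := mappingCone.id_X _ _ _ _
  have hiL : (biprod.lift α (mappingCone.inr (𝟙 K)) : K ⟶ L ⊞ M).f n ≫ πL = α.f n := by
    rw [← comp_f, biprod.lift_fst]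
  have hiC : (biprod.lift α (mappingCone.inr (𝟙 K)) : K ⟶ L ⊞ M).f n ≫ πC = cinr := by
    rw [← comp_f, biprod.lift_snd]
  have hLL : ιL ≫ πL = 𝟙 _ := biprod_inl_fst_f _ _ _
  have hLC : ιL ≫ πC = 0 := biprod_inl_snd_f _ _ _
  have hCL : ιC ≫ πL = 0 := biprod_inr_fst_f _ _ _
  have hCC : ιC ≫ πC = 𝟙 _ := biprod_inr_snd_f _ _ _
  have htot : πL ≫ ιL + πC ≫ ιC = 𝟙 _ := biprod_total_f _ _ _
  have hi : (biprod.lift α (mappingCone.inr (𝟙 K)) : K ⟶ L ⊞ M).f n
      = α.f n ≫ ιL + cinr ≫ ιC := by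
    rw [← Category.comp_id ((biprod.lift α (mappingCone.inr (𝟙 K)) : K ⟶ L ⊞ M).f n), ← htot,
      Preadditive.comp_add, reassoc_of% hiL, reassoc_of% hiC]
  refine ⟨L.X n ⊞ K.X (n + 1), ?_⟩
  refine exists_iso_of_split _ (πC ≫ csnd)
    (biprod.desc ιL (cinl ≫ ιC))
    (biprod.lift (πL - πC ≫ csnd ≫ α.f n) (πC ≫ cfst)) ?_ ?_ ?_ ?_ ?_
  · rw [reassoc_of% hiC, h4]
  · apply biprod.hom_ext
    · rw [Category.assoc, biprod.lift_fst, Preadditive.comp_sub, hiL, reassoc_of% hiC,
        reassoc_of% h4, sub_self, zero_comp]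
    · rw [Category.assoc, biprod.lift_snd, reassoc_of% hiC, h3, zero_comp]
  · apply biprod.hom_ext'
    · rw [biprod.inl_desc_assoc, reassoc_of% hLC, zero_comp, comp_zero]
    · rw [biprod.inr_desc_assoc, Category.assoc, reassoc_of% hCC, h2, comp_zero]
  · apply biprod.hom_ext' <;> apply biprod.hom_ext
    · simp only [biprod.inl_desc_assoc, Category.assoc, biprod.lift_fst, Preadditive.comp_sub,
        hLL, reassoc_of% hLC, zero_comp, sub_zero, Category.comp_id, biprod.inl_fst]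
    · simp only [biprod.inl_desc_assoc, Category.assoc, biprod.lift_snd, reassoc_of% hLC,
        zero_comp, Category.comp_id, biprod.inl_snd]
    · simp only [biprod.inr_desc_assoc, Category.assoc, biprod.lift_fst, Preadditive.comp_sub,
        hCL, reassoc_of% hCC, reassoc_of% h2, zero_comp, comp_zero, sub_zero, Category.comp_id,
        biprod.inr_fst]
    · simp only [biprod.inr_desc_assoc, Category.assoc, biprod.lift_snd, reassoc_of% hCC, h1,
        Category.comp_id, biprod.inr_snd]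
  · rw [biprod.lift_desc, hi]
    simp only [Preadditive.comp_add, Preadditive.sub_comp, Category.assoc]
    rw [← htot]
    have : πC ≫ ιC = πC ≫ (cfst ≫ cinl + csnd ≫ cinr) ≫ ιC := by rw [h5, Category.id_comp]
    rw [this]
    simp only [Preadditive.comp_add, Preadditive.add_comp, Category.assoc]
    abel

end Main

section Final

open CochainComplex HomComplex HomologicalComplex

variable {V : Type u} [Category.{v} V] [Preadditive V] [HasBinaryBiproducts V] [HasZeroObject V]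

theorem main (K L : CochainComplex V ℤ) (α : K ⟶ L) :
    ∃ (L' : CochainComplex V ℤ) (α' : K ⟶ L') (π : L' ⟶ L) (s : L ⟶ L'),
      α' ≫ π = α ∧ s ≫ π = 𝟙 L ∧ Nonempty (Homotopy (π ≫ s) (𝟙 L')) ∧
      (∀ n : ℤ, ∃ (C : V) (e : L'.X n ≅ K.X n ⊞ C), α'.f n ≫ e.hom = biprod.inl) ∧
      (∀ a : ℤ, K.IsStrictlyGE a → L.IsStrictlyGE a → ∃ a' : ℤ, L'.IsStrictlyGE a') ∧
      (∀ a : ℤ, K.IsStrictlyLE a → L.IsStrictlyLE a → ∃ a' : ℤ, L'.IsStrictlyLE a') := by
  refine ⟨L ⊞ mappingCone (𝟙 K), biprod.lift α (mappingCone.inr (𝟙 K)), biprod.fst, biprod.inl,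
    biprod.lift_fst _ _, biprod.inl_fst,
    ⟨homotopy_fst_inl L _ (mappingCone.homotopyToZeroOfId K)⟩, split_term K L α, ?_, ?_⟩
  · intro a hK hL
    refine ⟨a - 1, ?_⟩
    rw [isStrictlyGE_iff]
    intro i hi
    apply isZero_biprod_X
    · exact L.isZero_of_isStrictlyGE a i (by lia)
    · rw [mappingCone.isZero_X_iff]
      exact ⟨K.isZero_of_isStrictlyGE a (i + 1) (by lia), K.isZero_of_isStrictlyGE a i (by lia)⟩
  · intro a hK hL
    refine ⟨a, ?_⟩
    rw [isStrictlyLE_iff]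
    intro i hi
    apply isZero_biprod_X
    · exact L.isZero_of_isStrictlyLE a i (by lia)
    · rw [mappingCone.isZero_X_iff]
      exact ⟨K.isZero_of_isStrictlyLE a (i + 1) (by lia), K.isZero_of_isStrictlyLE a i (by lia)⟩

end Final


/-- Let α : K ⟶ L be a morphism of cochain complexes over an additive category. There is a factorization
K ⟶ L' ⟶ L of α such that (1) K ⟶ L' is a termwise split injection (in each degree isomorphic to the
inclusion of a direct summand) and (2) L' ⟶ L admits a section s : L ⟶ L' (s followed by L' ⟶ L is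
the identity) such that L' ⟶ L followed by s is homotopic to the identity of L'. Moreover if K and L
are both bounded below, resp. both bounded above, then L' may be chosen bounded below, resp. bounded
above. -/
theorem result {V : Type u} [Category.{v} V] [Preadditive V] [HasBinaryBiproducts V] [HasZeroObject V]
    (K L : CochainComplex V ℤ) (α : K ⟶ L) :
    ∃ (L' : CochainComplex V ℤ) (α' : K ⟶ L') (π : L' ⟶ L) (s : L ⟶ L'),
      α' ≫ π = α ∧ s ≫ π = 𝟙 L ∧ Nonempty (Homotopy (π ≫ s) (𝟙 L')) ∧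
      (∀ n : ℤ, ∃ (C : V) (e : L'.X n ≅ K.X n ⊞ C), α'.f n ≫ e.hom = biprod.inl) ∧
      (∀ a : ℤ, K.IsStrictlyGE a → L.IsStrictlyGE a → ∃ a' : ℤ, L'.IsStrictlyGE a') ∧
      (∀ a : ℤ, K.IsStrictlyLE a → L.IsStrictlyLE a → ∃ a' : ℤ, L'.IsStrictlyLE a') := by
  exact main K L α

end Groth.Agent.S6598
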