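import Groth.Statements.S6599
import Groth.Agent.S6598
import Mathlib.Algebra.Homology.HomotopyCategory.MappingCocone

set_option autoImplicit false
universe v u
open CategoryTheory CategoryTheory.Limits
open CohDer

namespace Groth.Agent.S6599


set_option linter.unusedSectionVars false

section Split

variable {V : Type u} [Category.{v} V] [Preadditive V] [HasBinaryBiproducts V]

/-- A split epimorphism with an explicit complement is the projection onto a summand. -/
theorem exists_iso_of_split_epi {A B C : V} (p : B ⟶ A) (σ : A ⟶ B) (j : C ⟶ B) (q : B ⟶ C)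
    (hσp : σ ≫ p = 𝟙 A) (hjp : j ≫ p = 0) (hσq : σ ≫ q = 0) (hjq : j ≫ q = 𝟙 C)
    (htot : q ≫ j + p ≫ σ = 𝟙 B) :
    ∃ e : B ≅ C ⊞ A, e.inv ≫ p = biprod.snd := by
  refine ⟨⟨biprod.lift q p, biprod.desc j σ, ?_, ?_⟩, ?_⟩
  · rw [biprod.lift_desc, htot]
  · apply biprod.hom_ext <;> apply biprod.hom_ext' <;> simp [hσp, hjp, hσq, hjq]
  · apply biprod.hom_ext' <;> simp [hσp, hjp]

end Split

section Main

open CochainComplex HomComplex HomologicalComplex

variable {V : Type u} [Category.{v} V] [Preadditive V] [HasBinaryBiproducts V] [HasZeroObject V]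

/-- The mapping cocone of the identity is contractible. -/
noncomputable def homotopyToZeroOfId (L : CochainComplex V ℤ) :
    Homotopy (𝟙 (mappingCocone (𝟙 L))) 0 := by
  have h := (mappingCone.homotopyToZeroOfId L).shift (-1)
  refine (Homotopy.ofEq ?_).trans (h.trans (Homotopy.ofEq ?_))
  · exact (CategoryTheory.Functor.map_id _ _).symm
  · exact Functor.map_zero _ _ _

/-- `s ≫ i ≃ 𝟙` on `K ⊞ M` for contractible `M`. -/
noncomputable def homotopy_fst_inl (K M : CochainComplex V ℤ) (h0 : Homotopy (𝟙 M) 0) :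
    Homotopy ((biprod.fst : K ⊞ M ⟶ K) ≫ biprod.inl) (𝟙 (K ⊞ M)) :=
  Groth.Agent.S6598.homotopy_fst_inl K M h0

theorem isZero_cocone_X (L : CochainComplex V ℤ) (n : ℤ) (h1 : IsZero (L.X n))
    (h2 : IsZero (L.X (n + -1))) : IsZero ((mappingCocone (𝟙 L)).X n) := by
  have : IsZero ((mappingCone (𝟙 L)).X (n + -1)) := by
    rw [mappingCone.isZero_X_iff]
    refine ⟨?_, h2⟩
    have : n + -1 + 1 = n := by lia
    rw [this]; exact h1
  exact this

end Main


section Term

open CochainComplex HomComplex HomologicalComplex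

variable {V : Type u} [Category.{v} V] [Preadditive V] [HasBinaryBiproducts V] [HasZeroObject V]

set_option backward.defeqAttrib.useBackward true in
set_option backward.isDefEq.respectTransparency false in
theorem split_term (K L : CochainComplex V ℤ) (α : K ⟶ L) (n : ℤ) :
    ∃ (C : V) (e : (K ⊞ mappingCocone (𝟙 L)).X n ≅ C ⊞ L.X n),
      e.inv ≫ (biprod.desc α (mappingCocone.fst (𝟙 L)) : K ⊞ mappingCocone (𝟙 L) ⟶ L).f n
        = biprod.snd := by
  let M := mappingCocone (𝟙 L)
  let ιK := (biprod.inl : K ⟶ K ⊞ M).f n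
  let ιM := (biprod.inr : M ⟶ K ⊞ M).f n
  let πK := (biprod.fst : K ⊞ M ⟶ K).f n
  let πM := (biprod.snd : K ⊞ M ⟶ M).f n
  let minl := (mappingCocone.inl (𝟙 L)).v n n (add_zero n)
  let minr := (mappingCocone.inr (𝟙 L)).1.v (n + -1) n (by lia)
  let mfst := (mappingCocone.fst (𝟙 L)).f n
  let msnd := (mappingCocone.snd (𝟙 L)).v n (n + -1) rfl
  have h1 : minl ≫ mfst = 𝟙 _ := mappingCocone.inl_v_fst_f _ _
  have h2 : minl ≫ msnd = 0 := mappingCocone.inl_v_snd_v _ _ _ _
  have h3 : minr ≫ mfst = 0 := mappingCocone.inr_v_fst_f _ _ _ _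
  have h4 : minr ≫ msnd = 𝟙 _ := mappingCocone.inr_v_snd_v _ _ _ _
  have h5 : mfst ≫ minl + msnd ≫ minr = 𝟙 _ := mappingCocone.id_X _ _ _ _
  have hpK : ιK ≫ (biprod.desc α (mappingCocone.fst (𝟙 L)) : K ⊞ M ⟶ L).f n = α.f n := by
    rw [← comp_f, biprod.inl_desc]
  have hpM : ιM ≫ (biprod.desc α (mappingCocone.fst (𝟙 L)) : K ⊞ M ⟶ L).f n = mfst := by
    rw [← comp_f, biprod.inr_desc]
  have hKK : ιK ≫ πK = 𝟙 _ := biprod_inl_fst_f _ _ _
  have hKM : ιK ≫ πM = 0 := biprod_inl_snd_f _ _ _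
  have hMK : ιM ≫ πK = 0 := biprod_inr_fst_f _ _ _
  have hMM : ιM ≫ πM = 𝟙 _ := biprod_inr_snd_f _ _ _
  have htot : πK ≫ ιK + πM ≫ ιM = 𝟙 _ := biprod_total_f _ _ _
  have hp : (biprod.desc α (mappingCocone.fst (𝟙 L)) : K ⊞ M ⟶ L).f n
      = πK ≫ α.f n + πM ≫ mfst := by
    rw [← Category.id_comp ((biprod.desc α (mappingCocone.fst (𝟙 L)) : K ⊞ M ⟶ L).f n), ← htot,
      Preadditive.add_comp, Category.assoc, Category.assoc, hpK, hpM]
  refine ⟨K.X n ⊞ L.X (n + -1), ?_⟩
  refine exists_iso_of_split_epi _ (minl ≫ ιM)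
    (biprod.desc (ιK - α.f n ≫ minl ≫ ιM) (minr ≫ ιM))
    (biprod.lift πK (πM ≫ msnd)) ?_ ?_ ?_ ?_ ?_
  · rw [Category.assoc, hpM, h1]
  · apply biprod.hom_ext'
    · rw [biprod.inl_desc_assoc, Preadditive.sub_comp, hpK, Category.assoc, Category.assoc, hpM,
        h1, Category.comp_id, sub_self, comp_zero]
    · rw [biprod.inr_desc_assoc, Category.assoc, hpM, h3, comp_zero]
  · apply biprod.hom_ext
    · rw [Category.assoc, biprod.lift_fst, Category.assoc, hMK, comp_zero, zero_comp]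
    · rw [Category.assoc, biprod.lift_snd, Category.assoc, reassoc_of% hMM, h2, zero_comp]
  · apply biprod.hom_ext' <;> apply biprod.hom_ext
    · simp only [biprod.inl_desc_assoc, Category.assoc, biprod.lift_fst, Preadditive.sub_comp,
        hKK, hMK, comp_zero, sub_zero, Category.comp_id, biprod.inl_fst]
    · simp only [biprod.inl_desc_assoc, Category.assoc, biprod.lift_snd, Preadditive.sub_comp,
        reassoc_of% hKM, reassoc_of% hMM, h2, zero_comp, comp_zero, sub_zero, Category.comp_id,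
        biprod.inl_snd]
    · simp only [biprod.inr_desc_assoc, Category.assoc, biprod.lift_fst, hMK, comp_zero,
        Category.comp_id, biprod.inr_fst]
    · simp only [biprod.inr_desc_assoc, Category.assoc, biprod.lift_snd, reassoc_of% hMM, h4,
        Category.comp_id, biprod.inr_snd]
  · rw [biprod.lift_desc, hp]
    simp only [Preadditive.comp_sub, Preadditive.add_comp, Category.assoc]
    rw [← htot]
    have : πM ≫ ιM = πM ≫ (mfst ≫ minl + msnd ≫ minr) ≫ ιM := by rw [h5, Category.id_comp]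
    rw [this]
    simp only [Preadditive.comp_add, Preadditive.add_comp, Category.assoc]
    abel

theorem main (K L : CochainComplex V ℤ) (α : K ⟶ L) :
    ∃ (K' : CochainComplex V ℤ) (i : K ⟶ K') (α' : K' ⟶ L) (s : K' ⟶ K),
      i ≫ α' = α ∧ i ≫ s = 𝟙 K ∧ Nonempty (Homotopy (s ≫ i) (𝟙 K')) ∧
      (∀ n : ℤ, ∃ (C : V) (e : K'.X n ≅ C ⊞ L.X n), e.inv ≫ α'.f n = biprod.snd) ∧
      (∀ a : ℤ, K.IsStrictlyGE a → L.IsStrictlyGE a → ∃ a' : ℤ, K'.IsStrictlyGE a') ∧
      (∀ a : ℤ, K.IsStrictlyLE a → L.IsStrictlyLE a → ∃ a' : ℤ, K'.IsStrictlyLE a') := by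
  refine ⟨K ⊞ mappingCocone (𝟙 L), biprod.inl, biprod.desc α (mappingCocone.fst (𝟙 L)),
    biprod.fst, biprod.inl_desc _ _, biprod.inl_fst,
    ⟨homotopy_fst_inl K _ (homotopyToZeroOfId L)⟩, split_term K L α, ?_, ?_⟩
  · intro a hK hL
    refine ⟨a, ?_⟩
    rw [isStrictlyGE_iff]
    intro i hi
    apply Groth.Agent.S6598.isZero_biprod_X
    · exact K.isZero_of_isStrictlyGE a i (by lia)
    · exact isZero_cocone_X L i (L.isZero_of_isStrictlyGE a i (by lia))
        (L.isZero_of_isStrictlyGE a (i + -1) (by lia))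
  · intro a hK hL
    refine ⟨a + 1, ?_⟩
    rw [isStrictlyLE_iff]
    intro i hi
    apply Groth.Agent.S6598.isZero_biprod_X
    · exact K.isZero_of_isStrictlyLE a i (by lia)
    · exact isZero_cocone_X L i (L.isZero_of_isStrictlyLE a i (by lia))
        (L.isZero_of_isStrictlyLE a (i + -1) (by lia))

end Term


/-- Let α : K ⟶ L be a morphism of cochain complexes over an additive category. There is a factorization
K ⟶ K' ⟶ L of α such that (1) K' ⟶ L is a termwise split surjection (in each degree isomorphic to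
the projection onto a direct summand) and (2) K ⟶ K' admits a retraction s : K' ⟶ K (K ⟶ K' followed
by s is the identity) such that s followed by K ⟶ K' is homotopic to the identity of K'. Moreover if
K and L are both bounded below, resp. both bounded above, then K' may be chosen bounded below, resp.
bounded above. -/
theorem result {V : Type u} [Category.{v} V] [Preadditive V] [HasBinaryBiproducts V] [HasZeroObject V]
    (K L : CochainComplex V ℤ) (α : K ⟶ L) :
    ∃ (K' : CochainComplex V ℤ) (i : K ⟶ K') (α' : K' ⟶ L) (s : K' ⟶ K),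
      i ≫ α' = α ∧ i ≫ s = 𝟙 K ∧ Nonempty (Homotopy (s ≫ i) (𝟙 K')) ∧
      (∀ n : ℤ, ∃ (C : V) (e : K'.X n ≅ C ⊞ L.X n), e.inv ≫ α'.f n = biprod.snd) ∧
      (∀ a : ℤ, K.IsStrictlyGE a → L.IsStrictlyGE a → ∃ a' : ℤ, K'.IsStrictlyGE a') ∧
      (∀ a : ℤ, K.IsStrictlyLE a → L.IsStrictlyLE a → ∃ a' : ℤ, K'.IsStrictlyLE a') := by
  exact main K L α

end Groth.Agent.S6599
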