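import Groth.Statements.S6600
-- import your own Groth.Agent.* helpers here
import Mathlib.CategoryTheory.Triangulated.Orthogonal

set_option autoImplicit false
universe v u
open CategoryTheory CategoryTheory.Limits
open CohDer

namespace Groth.Agent.S6600

open CategoryTheory.Pretriangulated in
/-- Let D be a triangulated category, A ⊂ D a full subcategory invariant under all shifts, and X → Y → Z
→ X⟦1⟧ a distinguished triangle. Then Z lies in the right orthogonal A^⊥ if and only if Hom(A, X) →
Hom(A, Y) is bijective for every object A of A. -/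
theorem result {D : Type u} [Category.{v} D] [Preadditive D] [HasZeroObject D] [HasShift D ℤ]
    [∀ n : ℤ, (shiftFunctor D n).Additive] [Pretriangulated D] [IsTriangulated D]
    (P : ObjectProperty D) [P.IsStableUnderShift ℤ] (T : Triangle D) (hT : T ∈ distinguishedTriangles) :
    P.rightOrthogonal T.obj₃ ↔ ∀ A : D, P A → Function.Bijective (fun u : A ⟶ T.obj₁ => u ≫ T.mor₁) := by
  constructor
  · intro hZ A hA
    constructor
    · intro u₁ u₂ h12
      have h0 : (u₁ - u₂) ≫ T.mor₁ = 0 := by
        rw [Preadditive.sub_comp, sub_eq_zero]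
        exact h12
      obtain ⟨g, hg⟩ := Triangle.coyoneda_exact₂ _ (inv_rot_of_distTriang _ hT) (u₁ - u₂) h0
      have hg0 : g = 0 := (ObjectProperty.le_shift P.rightOrthogonal (-1 : ℤ) _ hZ) g hA
      rw [hg0, zero_comp] at hg
      exact sub_eq_zero.1 hg
    · intro v
      obtain ⟨u, hu⟩ := Triangle.coyoneda_exact₂ T hT v (hZ (v ≫ T.mor₂) hA)
      exact ⟨u, hu.symm⟩
  · intro h A w hA
    have h1 : w ≫ T.mor₃ = 0 := by
      apply (shiftFunctor D (-1 : ℤ)).map_injective
      rw [Functor.map_zero]
      have hA' : P ((shiftFunctor D (-1 : ℤ)).obj A) := ObjectProperty.le_shift P (-1 : ℤ) _ hA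
      have key := (h _ hA').1
        (a₁ := (shiftFunctor D (-1 : ℤ)).map (w ≫ T.mor₃) ≫
          (shiftFunctorCompIsoId D (1 : ℤ) (-1) (by simp)).hom.app T.obj₁) (a₂ := 0) (by
        simp only [zero_comp, Category.assoc]
        have nat := (shiftFunctorCompIsoId D (1 : ℤ) (-1) (by simp)).hom.naturality T.mor₁
        simp only [Functor.comp_map, Functor.id_map] at nat
        rw [← nat, ← Functor.map_comp_assoc, Category.assoc, comp_distTriang_mor_zero₃₁ _ hT,
          comp_zero, Functor.map_zero, zero_comp])
      rw [← cancel_mono ((shiftFunctorCompIsoId D (1 : ℤ) (-1) (by simp)).hom.app T.obj₁),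
        zero_comp]
      exact key
    obtain ⟨v, hv⟩ := Triangle.coyoneda_exact₃ T hT w h1
    obtain ⟨u, hu⟩ := (h A hA).2 v
    simp only at hu
    rw [hv, ← hu, Category.assoc, comp_distTriang_mor_zero₁₂ _ hT, comp_zero]

end Groth.Agent.S6600
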