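import Groth.Statements.S6601
-- import your own Groth.Agent.* helpers here
import Mathlib.CategoryTheory.Triangulated.Orthogonal

set_option autoImplicit false
universe v u
open CategoryTheory CategoryTheory.Limits
open CohDer

namespace Groth.Agent.S6601

open CategoryTheory.Pretriangulated in
/-- Let D be a triangulated category, B ⊂ D a full subcategory invariant under all shifts, and X → Y → Z
→ X⟦1⟧ a distinguished triangle. Then X lies in the left orthogonal ^⊥B if and only if Hom(Z, B) →
Hom(Y, B) is bijective for every object B of B. -/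
theorem result {D : Type u} [Category.{v} D] [Preadditive D] [HasZeroObject D] [HasShift D ℤ]
    [∀ n : ℤ, (shiftFunctor D n).Additive] [Pretriangulated D] [IsTriangulated D]
    (P : ObjectProperty D) [P.IsStableUnderShift ℤ] (T : Triangle D) (hT : T ∈ distinguishedTriangles) :
    P.leftOrthogonal T.obj₁ ↔ ∀ B : D, P B → Function.Bijective (fun u : T.obj₃ ⟶ B => T.mor₂ ≫ u) := by
  constructor
  · intro hX B hB
    constructor
    · intro u₁ u₂ h12
      have h0 : T.mor₂ ≫ (u₁ - u₂) = 0 := by
        rw [Preadditive.comp_sub, sub_eq_zero]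
        exact h12
      obtain ⟨w, hw⟩ := Triangle.yoneda_exact₃ T hT (u₁ - u₂) h0
      have hw0 : w = 0 := (ObjectProperty.le_shift P.leftOrthogonal (1 : ℤ) _ hX) w hB
      rw [hw0, comp_zero] at hw
      exact sub_eq_zero.1 hw
    · intro v
      obtain ⟨u, hu⟩ := Triangle.yoneda_exact₂ T hT v (hX (T.mor₁ ≫ v) hB)
      exact ⟨u, hu.symm⟩
  · intro h B w hB
    have hB' : P ((shiftFunctor D (1 : ℤ)).obj B) := ObjectProperty.le_shift P (1 : ℤ) _ hB
    have h1 : T.mor₃ ≫ (shiftFunctor D (1 : ℤ)).map w = 0 :=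
      (h _ hB').1 (a₁ := T.mor₃ ≫ (shiftFunctor D (1 : ℤ)).map w) (a₂ := 0) (by
        simp only [comp_zero]
        rw [← Category.assoc, comp_distTriang_mor_zero₂₃ _ hT, zero_comp])
    obtain ⟨g', hg'⟩ := Triangle.yoneda_exact₃ _ (rot_of_distTriang _ hT)
      ((shiftFunctor D (1 : ℤ)).map w) h1
    obtain ⟨v, rfl⟩ := (shiftFunctor D (1 : ℤ)).map_surjective g'
    obtain ⟨u, hu⟩ := (h B hB).2 v
    simp only at hu
    have hg'' : (shiftFunctor D (1 : ℤ)).map w =
        (-(shiftFunctor D (1 : ℤ)).map T.mor₁) ≫ (shiftFunctor D (1 : ℤ)).map (T.mor₂ ≫ u) := by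
      rw [hu]
      exact hg'
    apply (shiftFunctor D (1 : ℤ)).map_injective
    rw [hg'', Functor.map_zero, Preadditive.neg_comp, neg_eq_zero, ← Functor.map_comp,
      ← Category.assoc, comp_distTriang_mor_zero₁₂ _ hT, zero_comp, Functor.map_zero]

end Groth.Agent.S6601
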