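import Groth.Statements.S6602
import Mathlib.CategoryTheory.Adjunction.PartialAdjoint
import Mathlib.CategoryTheory.Triangulated.Subcategory

set_option autoImplicit false
universe v u
open CategoryTheory CategoryTheory.Limits
open CohDer

namespace Groth.Agent.S6602

open CategoryTheory.Pretriangulated in
/-- (1) ⇔ (2): let D be a triangulated category and B a full triangulated subcategory. The inclusion
functor B → D has a left adjoint if and only if for every X in D there is a distinguished triangle A
→ X → B → A⟦1⟧ with B in B and A in the left orthogonal ^⊥B. (The published statement further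
asserts that B is then saturated and, when strictly full, equals the right orthogonal of its left
orthogonal; this row asserts only the equivalence.) -/
theorem result {D : Type u} [Category.{v} D] [Preadditive D] [HasZeroObject D] [HasShift D ℤ]
    [∀ n : ℤ, (shiftFunctor D n).Additive] [Pretriangulated D] [IsTriangulated D]
    (P : ObjectProperty D) [P.IsTriangulated] :
    P.ι.IsRightAdjoint ↔ ∀ X : D, ∃ (A B : D) (f : A ⟶ X) (g : X ⟶ B) (h : B ⟶ (shiftFunctor D (1 : ℤ)).obj A),
      Triangle.mk f g h ∈ distinguishedTriangles ∧ P B ∧ P.leftOrthogonal A := by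
  constructor
  · intro hadj X
    let L := P.ι.leftAdjoint
    let adj : L ⊣ P.ι := Adjunction.ofIsRightAdjoint P.ι
    -- bijectivity of precomposition with the unit
    have hbij : ∀ (Y : D), P Y → Function.Bijective
        (fun g : (L.obj X).obj ⟶ Y => adj.unit.app X ≫ g) := by
      intro Y hY
      have h := (adj.homEquiv X ⟨Y, hY⟩).bijective
      have h2 : (fun g : (L.obj X).obj ⟶ Y => adj.unit.app X ≫ g) =
          (adj.homEquiv X ⟨Y, hY⟩) ∘ (fun g => ObjectProperty.homMk g) := by
        funext g
        dsimp only [Function.comp]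
        rw [Adjunction.homEquiv_unit]
        rfl
      rw [h2]
      refine h.comp ⟨?_, ObjectProperty.homMk_surjective⟩
      intro g g' hgg'
      exact congrArg (fun φ => φ.hom) hgg'
    obtain ⟨A, f, h', hT⟩ := Pretriangulated.distinguished_cocone_triangle₁ (adj.unit.app X)
    refine ⟨A, (L.obj X).obj, f, adj.unit.app X, h', hT, (L.obj X).property, ?_⟩
    intro Y u hY
    apply (shiftFunctor D (1 : ℤ)).map_injective
    rw [Functor.map_zero]
    have hY1 : P ((shiftFunctor D (1 : ℤ)).obj Y) := P.le_shift (1 : ℤ) _ hY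
    have hTr := Pretriangulated.rot_of_distTriang _ hT
    have h1 : h' ≫ (shiftFunctor D (1 : ℤ)).map u = 0 := by
      apply (hbij _ hY1).1
      dsimp
      have : adj.unit.app X ≫ h' = 0 := Pretriangulated.comp_distTriang_mor_zero₂₃ _ hT
      rw [reassoc_of% this, zero_comp, comp_zero]
    obtain ⟨v', hv'⟩ : ∃ v' : (shiftFunctor D (1 : ℤ)).obj X ⟶ (shiftFunctor D (1 : ℤ)).obj Y,
        (shiftFunctor D (1 : ℤ)).map u = (-(shiftFunctor D (1 : ℤ)).map f) ≫ v' :=
      Pretriangulated.Triangle.yoneda_exact₃ _ hTr ((shiftFunctor D (1 : ℤ)).map u) h1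
    obtain ⟨w, hw⟩ : ∃ w : X ⟶ Y, (shiftFunctor D (1 : ℤ)).map w = v' :=
      ⟨(shiftFunctor D (1 : ℤ)).preimage v', Functor.map_preimage _ _⟩
    obtain ⟨g, hg⟩ := (hbij Y hY).2 w
    dsimp only at hg
    have h12 : f ≫ adj.unit.app X = 0 := Pretriangulated.comp_distTriang_mor_zero₁₂ _ hT
    rw [hv', ← hw, ← hg, Preadditive.neg_comp, ← Functor.map_comp, ← Category.assoc,
      h12, zero_comp, Functor.map_zero, neg_zero]
  · intro h
    apply Functor.isRightAdjoint_of_leftAdjointObjIsDefined_eq_top
    ext X
    simp only [Pi.top_apply, Prop.top_eq_true, iff_true]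
    rw [Functor.leftAdjointObjIsDefined_iff]
    obtain ⟨A, B, f, g, hh, hT, hB, hA⟩ := h X
    have hA1 : ∀ (Y : D), P Y → ∀ u : (shiftFunctor D (1 : ℤ)).obj A ⟶ Y, u = 0 := by
      intro Y hY u
      have adj : shiftFunctor D (1 : ℤ) ⊣ shiftFunctor D (-1 : ℤ) :=
        (shiftEquiv D (1 : ℤ)).toAdjunction
      apply (adj.homEquiv _ _).injective
      rw [hA (adj.homEquiv _ _ u) (P.le_shift (-1 : ℤ) _ hY), Adjunction.homEquiv_unit,
        Functor.map_zero, comp_zero]
    have hbij : ∀ (Y : P.FullSubcategory), Function.Bijective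
        (fun φ : (⟨B, hB⟩ : P.FullSubcategory) ⟶ Y => g ≫ φ.hom) := by
      intro Y
      constructor
      · intro φ φ' hφ
        dsimp at hφ
        apply ObjectProperty.hom_ext
        have h0 : g ≫ (φ.hom - φ'.hom) = 0 := by rw [Preadditive.comp_sub, hφ, sub_self]
        obtain ⟨ψ, hψ⟩ : ∃ ψ : (shiftFunctor D (1 : ℤ)).obj A ⟶ Y.obj,
            φ.hom - φ'.hom = hh ≫ ψ :=
          Pretriangulated.Triangle.yoneda_exact₃ _ hT _ h0
        rw [hA1 _ Y.property ψ, comp_zero] at hψ
        exact sub_eq_zero.1 hψ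
      · intro w
        obtain ⟨φ, hφ⟩ := Pretriangulated.Triangle.yoneda_exact₂ _ hT w (hA _ Y.property)
        exact ⟨ObjectProperty.homMk φ, hφ.symm⟩
    exact ⟨⟨B, hB⟩, ⟨{ homEquiv := fun {Y} => Equiv.ofBijective _ (hbij Y)
                       homEquiv_comp := fun {Y Y'} γ φ => by
                         show g ≫ (φ ≫ γ).hom = (g ≫ φ.hom) ≫ γ.hom
                         rw [Category.assoc]
                         rfl }⟩⟩

end Groth.Agent.S6602
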