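import Groth.Statements.S6604
-- import your own Groth.Agent.* helpers here
import Groth.Agent.S6603

set_option autoImplicit false
universe v u v' u'
open CategoryTheory CategoryTheory.Limits
open CohDer

namespace Groth.Agent.S6604

open CategoryTheory.Pretriangulated ZeroObject


/-- Let D be a triangulated category, B a full triangulated subcategory and Q : D → D/B the quotient
functor. Q sends an object Z of D to zero (Q(Z) = 0, i.e. Z belongs to the kernel of Q) exactly
when, for a suitable object Z' of D, the direct sum Z ⊞ Z' is isomorphic to some object lying in B;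
put differently, the kernel is the smallest saturated, strictly full triangulated subcategory that
contains B. -/
theorem result {D : Type u} [Category.{v} D] [Preadditive D] [HasZeroObject D] [HasShift D ℤ]
    [∀ n : ℤ, (shiftFunctor D n).Additive] [Pretriangulated D] [IsTriangulated D]
    (B : ObjectProperty D) [B.IsTriangulated]
    {E : Type u'} [Category.{v'} E] (Q : D ⥤ E) [Q.IsLocalization B.trW] (Z : D) :
    IsZero (Q.obj Z) ↔ ∃ (Z' Y : D), B Y ∧ Nonempty (Z ⊞ Z' ≅ Y) := by
  constructor
  · intro hZ
    obtain ⟨Z', hZ'⟩ := (Groth.Agent.S6603.isZero_iff_right B.trW Q Z).1 hZ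
    rw [← ObjectProperty.trW_isoClosure] at hZ'
    have h1 := (B.isoClosure.trW_iff_of_distinguished _
      (Groth.Agent.S6603.zero_inl_snd_distinguished Z Z')).1 hZ'
    obtain ⟨Y, hY, ⟨e⟩⟩ := h1
    exact ⟨_, Y, hY, ⟨e⟩⟩
  · rintro ⟨Z', Y, hY, ⟨e⟩⟩
    have h1 : B.trW (0 : (0 : D) ⟶ Y) :=
      ObjectProperty.trW.mk B (contractible_distinguished₁ Y) hY
    have h2 : IsZero (Q.obj Y) := (Groth.Agent.S6603.isZero_iff_right B.trW Q Y).2 ⟨0, h1⟩
    have h3 : IsZero (Q.obj (Z ⊞ Z')) := h2.of_iso (Q.mapIso e)
    exact Groth.Agent.S6603.isZero_of_retract (Q.map biprod.inl) (Q.map biprod.fst)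
      (by rw [← Q.map_comp, biprod.inl_fst, Q.map_id]) h3

end Groth.Agent.S6604
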