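import Groth.Statements.S6606
import Mathlib.Algebra.Homology.HomotopyCategory.Triangulated
import Mathlib.Algebra.Homology.HomotopyCategory.HomologicalFunctor
import Mathlib.Algebra.Homology.HomotopyCategory.KProjective
import Mathlib.Algebra.Homology.Embedding.CochainComplex

set_option autoImplicit false
universe v u
open CategoryTheory CategoryTheory.Limits
open CohDer

namespace Groth.Agent.S6606


section NullHomotopy

open CochainComplex HomComplex HomologicalComplex

variable {A : Type u} [Category.{v} A] [Abelian A]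

/-- One step of the descending induction. -/
theorem step (P C : CochainComplex A ℤ) (f : P ⟶ C) (m : ℤ) (β : Cochain P C (-1))
    (hβ : ∀ p, m < p → (δ (-1) 0 β).v p p (add_zero p) = f.f p)
    (h : IsZero (P.X m) ∨ (Projective (P.X m) ∧ C.ExactAt m)) :
    ∃ β' : Cochain P C (-1), ∀ p, m - 1 < p → (δ (-1) 0 β').v p p (add_zero p) = f.f p := by
  rcases h with hz | ⟨hproj, hex⟩
  · refine ⟨β, fun p hp => ?_⟩
    by_cases hpm : p = m
    · subst hpm
      exact hz.eq_of_src _ _
    · exact hβ p (by lia)
  · let u : P.X m ⟶ C.X m := f.f m - (δ (-1) 0 β).v m m (add_zero m)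
    have hu : u ≫ C.d m (m + 1) = 0 := by
      have h1 := congrArg (fun z : Cochain P C 1 => z.v m (m + 1) rfl) (δ_δ (-1) 0 1 β)
      simp only [Cochain.zero_v] at h1
      rw [δ_v 0 1 (zero_add 1) _ m (m + 1) rfl m (m + 1) (by lia) rfl, hβ (m + 1) (by lia)] at h1
      simp only [Int.negOnePow_one, Units.neg_smul, one_smul] at h1
      rw [Preadditive.sub_comp, f.comm, sub_eq_zero]
      exact (add_neg_eq_zero.mp h1).symm
    rw [C.exactAt_iff' (m - 1) m (m + 1) (by simp) (by simp)] at hex
    let k : P.X m ⟶ C.X (m - 1) := hex.liftFromProjective u hu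
    have hk : k ≫ C.d (m - 1) m = u := hex.liftFromProjective_comp u hu
    refine ⟨β + Cochain.single k (-1), fun p hp => ?_⟩
    rw [δ_add, Cochain.add_v]
    by_cases hpm : p = m
    · subst hpm
      rw [δ_v (-1) 0 (neg_add_cancel 1) (Cochain.single k (-1)) p p (add_zero p) (p - 1) (p + 1)
        rfl rfl, Cochain.single_v k (-1) (by lia),
        Cochain.single_v_eq_zero _ _ _ _ _ (by lia), hk]
      simp [u]
    · rw [hβ p (by lia), add_eq_left,
        δ_v (-1) 0 (neg_add_cancel 1) (Cochain.single k (-1)) p p (add_zero p) (p - 1) (p + 1)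
        rfl rfl, Cochain.single_v_eq_zero _ _ _ _ _ hpm,
        Cochain.single_v_eq_zero _ _ _ _ _ (by lia)]
      simp

end NullHomotopy


section NullHomotopy2

open CochainComplex HomComplex HomologicalComplex

variable {A : Type u} [Category.{v} A] [Abelian A]

/-- A map from a bounded complex of projectives concentrated in degrees `≥ n` to a complex
which is exact in degrees `≥ n` is null-homotopic. -/
theorem exists_homotopy_zero (P C : CochainComplex A ℤ) (f : P ⟶ C) (n b : ℤ)
    [P.IsStrictlyGE n] [P.IsStrictlyLE b] (hP : ∀ i : ℤ, Projective (P.X i))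
    (hC : ∀ i : ℤ, n ≤ i → C.ExactAt i) : Nonempty (Homotopy f 0) := by
  have key : ∀ k : ℕ, ∃ β : Cochain P C (-1),
      ∀ p, b - k < p → (δ (-1) 0 β).v p p (add_zero p) = f.f p := by
    intro k
    induction k with
    | zero =>
      refine ⟨0, fun p hp => ?_⟩
      exact (P.isZero_of_isStrictlyLE b p (by simpa using hp)).eq_of_src _ _
    | succ k ih =>
      obtain ⟨β, hβ⟩ := ih
      obtain ⟨β', hβ'⟩ := step P C f (b - k) β hβ (by
        by_cases h : n ≤ b - k
        · exact Or.inr ⟨hP _, hC _ h⟩
        · exact Or.inl (P.isZero_of_isStrictlyGE n _ (by lia)))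
      exact ⟨β', fun p hp => hβ' p (by push_cast at hp; lia)⟩
  obtain ⟨β, hβ⟩ := key (b - n + 1).toNat
  refine ⟨(Cochain.equivHomotopy f 0).symm ⟨β, ?_⟩⟩
  rw [Cochain.ofHom_zero, add_zero]
  ext p
  rw [Cochain.ofHom_v]
  by_cases hp : n ≤ p
  · exact (hβ p (by lia)).symm
  · exact (P.isZero_of_isStrictlyGE n p (by lia)).eq_of_src _ _

end NullHomotopy2

section Cone

open CochainComplex HomComplex HomologicalComplex Pretriangulated

variable {A : Type u} [Category.{v} A] [Abelian A]

theorem epi_homotopyCategory_map {E L : CochainComplex A ℤ} (α : E ⟶ L) (i : ℤ)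
    (h : Epi (HomologicalComplex.homologyMap α i)) :
    Epi ((HomotopyCategory.homologyFunctor A (ComplexShape.up ℤ) i).map
      ((HomotopyCategory.quotient A (ComplexShape.up ℤ)).map α)) := by
  have e := NatIso.naturality_2 (HomotopyCategory.homologyFunctorFactors A (ComplexShape.up ℤ) i) α
  dsimp at e
  rw [← e]
  have : Epi ((HomologicalComplex.homologyFunctor A (ComplexShape.up ℤ) i).map α) := h
  infer_instance

theorem mono_homotopyCategory_map {E L : CochainComplex A ℤ} (α : E ⟶ L) (i : ℤ)
    (h : Mono (HomologicalComplex.homologyMap α i)) :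
    Mono ((HomotopyCategory.homologyFunctor A (ComplexShape.up ℤ) i).map
      ((HomotopyCategory.quotient A (ComplexShape.up ℤ)).map α)) := by
  have e := NatIso.naturality_2 (HomotopyCategory.homologyFunctorFactors A (ComplexShape.up ℤ) i) α
  dsimp at e
  rw [← e]
  have : Mono ((HomologicalComplex.homologyFunctor A (ComplexShape.up ℤ) i).map α) := h
  infer_instance

theorem exactAt_mappingCone {E L : CochainComplex A ℤ} (α : E ⟶ L) (i : ℤ)
    (hepi : Epi (HomologicalComplex.homologyMap α i))
    (hmono : Mono (HomologicalComplex.homologyMap α (i + 1))) :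
    (mappingCone α).ExactAt i := by
  let F := HomotopyCategory.homologyFunctor A (ComplexShape.up ℤ) 0
  let T := mappingCone.triangleh α
  have hT : T ∈ distTriang _ := HomotopyCategory.mappingCone_triangleh_distinguished α
  have h1 : Epi ((F.shift i).map T.mor₁) := epi_homotopyCategory_map α i hepi
  have h2 : Mono ((F.shift (i + 1)).map T.mor₁) := mono_homotopyCategory_map α (i + 1) hmono
  have h3 : (F.shift i).map T.mor₂ = 0 :=
    (F.homologySequence_epi_shift_map_mor₁_iff T hT i).mp h1
  have h4 : F.homologySequenceδ T i (i + 1) rfl = 0 :=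
    (F.homologySequence_mono_shift_map_mor₁_iff T hT i (i + 1) rfl).mp h2
  have h5 : Epi ((F.shift i).map T.mor₂) :=
    (F.homologySequence_epi_shift_map_mor₂_iff T hT i (i + 1) rfl).mpr h4
  have h6 : IsZero ((F.shift i).obj T.obj₃) := IsZero.of_epi_eq_zero _ h3
  rw [exactAt_iff_isZero_homology]
  exact h6.of_iso ((HomotopyCategory.homologyFunctorFactors A (ComplexShape.up ℤ) i).app
    (mappingCone α)).symm

theorem main (P E L : CochainComplex A ℤ) (β : P ⟶ L) (α : E ⟶ L) (n b : ℤ)
    [P.IsStrictlyGE n] [P.IsStrictlyLE b]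
    (hP : ∀ i : ℤ, Projective (P.X i))
    (hiso : ∀ i : ℤ, n < i → IsIso (HomologicalComplex.homologyMap α i))
    (hepi : Epi (HomologicalComplex.homologyMap α n)) :
    ∃ γ : P ⟶ E, Nonempty (Homotopy (γ ≫ α) β) := by
  have hC : ∀ i : ℤ, n ≤ i → (mappingCone α).ExactAt i := by
    intro i hi
    have := hiso (i + 1) (by lia)
    apply exactAt_mappingCone α i ?_ inferInstance
    rcases hi.eq_or_lt with rfl | hlt
    · exact hepi
    · have := hiso i hlt
      infer_instance
  obtain ⟨H⟩ := exists_homotopy_zero P (mappingCone α) (β ≫ mappingCone.inr α) n b hP hC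
  have hT := HomotopyCategory.mappingCone_triangleh_distinguished α
  have hzero : (HomotopyCategory.quotient A (ComplexShape.up ℤ)).map β ≫
      (mappingCone.triangleh α).mor₂ = 0 := by
    change (HomotopyCategory.quotient A (ComplexShape.up ℤ)).map β ≫
      (HomotopyCategory.quotient A (ComplexShape.up ℤ)).map (mappingCone.inr α) = 0
    rw [← CategoryTheory.Functor.map_comp, HomotopyCategory.eq_of_homotopy _ _ H, Functor.map_zero]
  obtain ⟨g, hg⟩ := Triangle.coyoneda_exact₂ _ hT _ hzero
  obtain ⟨γ, hγ⟩ : ∃ γ : P ⟶ E, (HomotopyCategory.quotient A (ComplexShape.up ℤ)).map γ = g :=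
    (HomotopyCategory.quotient A (ComplexShape.up ℤ)).map_surjective g
  refine ⟨γ, ⟨HomotopyCategory.homotopyOfEq _ _ ?_⟩⟩
  rw [CategoryTheory.Functor.map_comp, hγ]
  exact hg.symm

end Cone


/-- Let A be an abelian category, β : P ⟶ L and α : E ⟶ L morphisms of cochain complexes and n an
integer. Assume P is a bounded complex of projective objects with Pⁱ = 0 for i < n, and that Hⁱ(α)
is an isomorphism for i > n and an epimorphism for i = n. Then there is γ : P ⟶ E such that γ ≫ α is
homotopic to β. -/
theorem result {A : Type u} [Category.{v} A] [Abelian A]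
    (P E L : CochainComplex A ℤ) (β : P ⟶ L) (α : E ⟶ L) (n b : ℤ) [P.IsStrictlyGE n] [P.IsStrictlyLE b]
    (hP : ∀ i : ℤ, Projective (P.X i))
    (hiso : ∀ i : ℤ, n < i → IsIso (HomologicalComplex.homologyMap α i)) (hepi : Epi (HomologicalComplex.homologyMap α n)) :
    ∃ γ : P ⟶ E, Nonempty (Homotopy (γ ≫ α) β) := by
  exact main P E L β α n b hP hiso hepi

end Groth.Agent.S6606
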