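import Groth.Statements.S6609
import Groth.Agent.S6608

set_option autoImplicit false
universe v u
open CategoryTheory CategoryTheory.Limits
open CohDer

namespace Groth.Agent.S6609

section
open CategoryTheory.Pretriangulated

variable {D : Type u} [Category.{v} D] [Preadditive D] [HasZeroObject D] [HasShift D ℤ]
    [∀ n : ℤ, (shiftFunctor D n).Additive] [Pretriangulated D]
    (S : MorphismProperty D) [S.IsMultiplicative] [S.IsCompatibleWithTriangulation]

set_option backward.defeqAttrib.useBackward true in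
set_option backward.isDefEq.respectTransparency false in
theorem lms2 {X Y X' : D} (f : X ⟶ Y) (t : X ⟶ X') (ht : S t) :
    ∃ (Y' : D) (f' : X' ⟶ Y') (s' : Y ⟶ Y'), S s' ∧ f ≫ s' = t ≫ f' := by
  obtain ⟨Z, g, h, hT⟩ := distinguished_cocone_triangle f
  have hT' := inv_rot_of_distTriang _ hT
  obtain ⟨Y', f', k, hT₂⟩ := distinguished_cocone_triangle ((Triangle.mk f g h).invRotate.mor₁ ≫ t)
  obtain ⟨c, hc, hc₁, -⟩ := MorphismProperty.compatible_with_triangulation (W := S) _ _ hT' hT₂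
    (𝟙 _) t (S.id_mem _) ht (by simp)
  exact ⟨Y', f', c, hc, by simpa using hc₁⟩

set_option backward.defeqAttrib.useBackward true in
set_option backward.isDefEq.respectTransparency false in
theorem rms2 {X Y Y' : D} (f : X ⟶ Y) (s : Y' ⟶ Y) (hs : S s) :
    ∃ (X' : D) (f' : X' ⟶ Y') (t' : X' ⟶ X), S t' ∧ t' ≫ f = f' ≫ s := by
  obtain ⟨Z, g, h, hT⟩ := distinguished_cocone_triangle f
  obtain ⟨W, k, l, hT'⟩ := distinguished_cocone_triangle (s ≫ g)
  have hTr := rot_of_distTriang _ hT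
  obtain ⟨c, hc, hc₁, hc₂⟩ := MorphismProperty.compatible_with_triangulation (W := S) _ _ hT' hTr
    s (𝟙 Z) hs (S.id_mem _) (by simp)
  dsimp at c hc hc₁ hc₂
  let e := shiftFunctorCompIsoId D (1 : ℤ) (-1) (add_neg_cancel 1)
  refine ⟨W⟦(-1 : ℤ)⟧, -(l⟦(-1 : ℤ)⟧') ≫ e.hom.app Y',
    c⟦(-1 : ℤ)⟧' ≫ e.hom.app X, ?_, ?_⟩
  · refine S.comp_mem _ _ (S.shift hc _) ?_
    exact Groth.Agent.S6608.result S _
  · have h1 : c ≫ f⟦(1 : ℤ)⟧' = -(l ≫ s⟦(1 : ℤ)⟧') := by
      rw [hc₂]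
      simp
    have n1 : (f⟦(1 : ℤ)⟧')⟦(-1 : ℤ)⟧' ≫ e.hom.app Y = e.hom.app X ≫ f := e.hom.naturality f
    have n2 : (s⟦(1 : ℤ)⟧')⟦(-1 : ℤ)⟧' ≫ e.hom.app Y = e.hom.app Y' ≫ s := e.hom.naturality s
    rw [Category.assoc, ← n1, ← Functor.map_comp_assoc, h1, Preadditive.neg_comp, Category.assoc,
      ← n2, Functor.map_neg, Functor.map_comp, Preadditive.neg_comp, Category.assoc]

end

open CategoryTheory.Pretriangulated in
/-- Let D be a pretriangulated category and S a set of arrows satisfying MS1 (identities, stable under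
composition), MS5 (stable under shifts in both directions) and MS6 (compatibility with distinguished
triangles). Then MS2 holds: (LMS2) for f : X ⟶ Y and t : X ⟶ X' in S there are f' : X' ⟶ Y' and s' :
Y ⟶ Y' in S with f ≫ s' = t ≫ f'; (RMS2) for f : X ⟶ Y and s : Y' ⟶ Y in S there are f' : X' ⟶ Y'
and t' : X' ⟶ X in S with t' ≫ f = f' ≫ s. -/
theorem result {D : Type u} [Category.{v} D] [Preadditive D] [HasZeroObject D] [HasShift D ℤ]
    [∀ n : ℤ, (shiftFunctor D n).Additive] [Pretriangulated D]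
    (S : MorphismProperty D) [S.IsMultiplicative] [S.IsCompatibleWithTriangulation] :
    (∀ {X Y X' : D} (f : X ⟶ Y) (t : X ⟶ X'), S t →
      ∃ (Y' : D) (f' : X' ⟶ Y') (s' : Y ⟶ Y'), S s' ∧ f ≫ s' = t ≫ f') ∧
    (∀ {X Y Y' : D} (f : X ⟶ Y) (s : Y' ⟶ Y), S s →
      ∃ (X' : D) (f' : X' ⟶ Y') (t' : X' ⟶ X), S t' ∧ t' ≫ f = f' ≫ s) := by
  exact ⟨fun f t ht => lms2 S f t ht, fun f s hs => rms2 S f s hs⟩

end Groth.Agent.S6609
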