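import Groth.Statements.S6610
import Groth.Agent.Lib.CochainOp
import Groth.Agent.S1123

set_option autoImplicit false
universe v u
open CategoryTheory CategoryTheory.Limits
open CohDer

namespace Groth.Agent.S6610

/-- Let A be an abelian category with enough projectives and S : 0 → A• → B• → C• → 0 a short exact
sequence of cochain complexes all vanishing above degree n. Then there are a short exact sequence T
: 0 → P₁ → P₂ → P₃ → 0 of complexes of projective objects vanishing above degree n and a morphism of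
short exact sequences T ⟶ S whose three components are quasi-isomorphisms (projective resolutions).
(The published statement is phrased for bounded below complexes; projective resolutions are bounded
above by definition and exist only for complexes with cohomology bounded above, so the statement is
given here for bounded above complexes, the case dual to the injective one.) -/
theorem result {A : Type u} [Category.{v} A] [Abelian A] [EnoughProjectives A]
    (S : ShortComplex (CochainComplex A ℤ)) (hS : S.ShortExact) (n : ℤ)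
    [S.X₁.IsStrictlyLE n] [S.X₂.IsStrictlyLE n] [S.X₃.IsStrictlyLE n] :
    ∃ (T : ShortComplex (CochainComplex A ℤ)) (φ : T ⟶ S), T.ShortExact ∧
      T.X₁.IsStrictlyLE n ∧ T.X₂.IsStrictlyLE n ∧ T.X₃.IsStrictlyLE n ∧
      (∀ k : ℤ, Projective (T.X₁.X k) ∧ Projective (T.X₂.X k) ∧ Projective (T.X₃.X k)) ∧
      QuasiIso φ.τ₁ ∧ QuasiIso φ.τ₂ ∧ QuasiIso φ.τ₃ := by
  open Groth.Agent.Lib.CochainOp in
  -- the dual short exact sequence in `Aᵒᵖ`
  let S' : ShortComplex (CochainComplex Aᵒᵖ ℤ) :=
    ShortComplex.mk (opNMap S.g) (opNMap S.f) (by rw [← opNMap_comp, S.zero, opNMap_zero])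
  have hS' : S'.ShortExact := by
    refine HomologicalComplex.shortExact_of_degreewise_shortExact _ (fun i => ?_)
    have h1 := (HomologicalComplex.shortExact_iff_degreewise_shortExact S).mp hS (-i)
    exact h1.op
  have i1 : S'.X₁.IsStrictlyGE (-n) := isStrictlyGE_opN S.X₃ n
  have i2 : S'.X₂.IsStrictlyGE (-n) := isStrictlyGE_opN S.X₂ n
  have i3 : S'.X₃.IsStrictlyGE (-n) := isStrictlyGE_opN S.X₁ n
  obtain ⟨T', φ', hT', h1, h2, h3, hinj, q1, q2, q3⟩ := Groth.Agent.S1123.result S' hS' (-n)
  let T : ShortComplex (CochainComplex A ℤ) :=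
    ShortComplex.mk (unopNMap T'.g) (unopNMap T'.f)
      (by rw [← unopNMap_comp, T'.zero, unopNMap_zero])
  have hT : T.ShortExact := by
    refine HomologicalComplex.shortExact_of_degreewise_shortExact _ (fun i => ?_)
    have h1 := (HomologicalComplex.shortExact_iff_degreewise_shortExact T').mp hT' (-i)
    exact h1.unop
  let φ : T ⟶ S :=
    { τ₁ := unopNMap φ'.τ₃ ≫ (unopOpIso S.X₁).hom
      τ₂ := unopNMap φ'.τ₂ ≫ (unopOpIso S.X₂).hom
      τ₃ := unopNMap φ'.τ₁ ≫ (unopOpIso S.X₃).hom
      comm₁₂ := by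
        change (unopNMap φ'.τ₃ ≫ (unopOpIso S.X₁).hom) ≫ S.f =
          unopNMap T'.g ≫ unopNMap φ'.τ₂ ≫ (unopOpIso S.X₂).hom
        rw [Category.assoc, ← unopOpIso_hom_naturality, ← Category.assoc, ← Category.assoc,
          ← unopNMap_comp, ← unopNMap_comp]
        congr 2
        exact φ'.comm₂₃.symm
      comm₂₃ := by
        change (unopNMap φ'.τ₂ ≫ (unopOpIso S.X₂).hom) ≫ S.g =
          unopNMap T'.f ≫ unopNMap φ'.τ₁ ≫ (unopOpIso S.X₃).hom
        rw [Category.assoc, ← unopOpIso_hom_naturality, ← Category.assoc, ← Category.assoc,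
          ← unopNMap_comp, ← unopNMap_comp]
        congr 2
        exact φ'.comm₁₂.symm }
  have := h1
  have := h2
  have := h3
  have hq1 : QuasiIso (unopNMap φ'.τ₃) := quasiIso_unopNMap _
  have hq2 : QuasiIso (unopNMap φ'.τ₂) := quasiIso_unopNMap _
  have hq3 : QuasiIso (unopNMap φ'.τ₁) := quasiIso_unopNMap _
  refine ⟨T, φ, hT, isStrictlyLE_unopN T'.X₃ n, isStrictlyLE_unopN T'.X₂ n,
    isStrictlyLE_unopN T'.X₁ n, ?_, ?_, ?_, ?_⟩
  · intro k
    have := (hinj (-k)).1
    have := (hinj (-k)).2.1
    have := (hinj (-k)).2.2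
    exact ⟨inferInstanceAs (Projective (Opposite.unop (T'.X₃.X (-k)))),
      inferInstanceAs (Projective (Opposite.unop (T'.X₂.X (-k)))),
      inferInstanceAs (Projective (Opposite.unop (T'.X₁.X (-k))))⟩
  · exact inferInstanceAs (QuasiIso (unopNMap φ'.τ₃ ≫ (unopOpIso S.X₁).hom))
  · exact inferInstanceAs (QuasiIso (unopNMap φ'.τ₂ ≫ (unopOpIso S.X₂).hom))
  · exact inferInstanceAs (QuasiIso (unopNMap φ'.τ₁ ≫ (unopOpIso S.X₃).hom))

end Groth.Agent.S6610
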