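import Groth.Statements.S6611
import Mathlib.Algebra.Homology.HomotopyCategory.KInjective
import Mathlib.Algebra.Homology.HomologySequenceLemmas

set_option autoImplicit false
universe v u
open CategoryTheory CategoryTheory.Limits
open CohDer

namespace Groth.Agent.S6611

/-- Let A be an abelian category, α : K ⟶ L a quasi-isomorphism of cochain complexes which is injective
in every degree, I a bounded below complex of injective objects and γ : K ⟶ I a morphism. Then there
is a morphism β : L ⟶ I with α ≫ β = γ. -/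
theorem result {A : Type u} [Category.{v} A] [Abelian A]
    (K L I : CochainComplex A ℤ) (α : K ⟶ L) [QuasiIso α] (hα : ∀ n : ℤ, Mono (α.f n))
    (a : ℤ) [I.IsStrictlyGE a] (hI : ∀ n : ℤ, Injective (I.X n)) (γ : K ⟶ I) :
    ∃ β : L ⟶ I, α ≫ β = γ := by
  open CochainComplex HomComplex in
  classical
  have hKI : I.IsKInjective := CochainComplex.isKInjective_of_injective I a
  have hmono : Mono α := HomologicalComplex.mono_of_mono_f α hα
  -- the short exact sequence
  let S : ShortComplex (CochainComplex A ℤ) := ShortComplex.mk α (cokernel.π α) (cokernel.condition α)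
  have hS : S.ShortExact := { exact := ShortComplex.exact_cokernel α }
  have hQ : (cokernel α).Acyclic := hS.acyclic_X₃ (inferInstanceAs (QuasiIso α))
  have hSn : ∀ n : ℤ, (S.map (HomologicalComplex.eval A (ComplexShape.up ℤ) n)).ShortExact :=
    fun n => hS.map_of_exact _
  -- degreewise extension
  let β₀ : Cochain L I 0 := Cochain.ofHoms (fun p => Injective.factorThru (γ.f p) (α.f p))
  have hβ₀ : (Cochain.ofHom α).comp β₀ (zero_add 0) = Cochain.ofHom γ := by
    ext p
    simp [β₀, Injective.comp_factorThru]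
  -- the obstruction
  let z₀ : Cochain L I 1 := δ 0 1 β₀
  have hz₀ : (Cochain.ofHom α).comp z₀ (zero_add 1) = 0 := by
    rw [← δ_ofHom_comp, hβ₀, δ_ofHom]
  have hz₀v : ∀ (p q : ℤ) (hpq : p + 1 = q), α.f p ≫ z₀.v p q hpq = 0 := by
    intro p q hpq
    have := Cochain.congr_v hz₀ p q hpq
    simpa using this
  -- it factors through the cokernel
  have hepiS : ∀ p : ℤ, Epi (S.map (HomologicalComplex.eval A (ComplexShape.up ℤ) p)).g :=
    fun p => (hSn p).epi_g
  let z : Cochain (cokernel α) I 1 := Cochain.mk (fun p q hpq =>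
    haveI := hepiS p
    (hSn p).exact.desc (z₀.v p q hpq) (hz₀v p q hpq))
  have hπz : (Cochain.ofHom (cokernel.π α)).comp z (zero_add 1) = z₀ := by
    ext p q hpq
    rw [Cochain.zero_cochain_comp_v, Cochain.ofHom_v, Cochain.mk_v]
    haveI := hepiS p
    exact (hSn p).exact.g_desc _ _
  have hepi : ∀ p : ℤ, Epi ((cokernel.π α).f p) := fun p => hepiS p
  have hz : δ 1 2 z = 0 := by
    have h1 : (Cochain.ofHom (cokernel.π α)).comp (δ 1 2 z) (zero_add 2) = 0 := by
      rw [← δ_ofHom_comp, hπz, δ_δ]
    ext p q hpq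
    have := Cochain.congr_v h1 p q hpq
    rw [Cochain.zero_cochain_comp_v, Cochain.ofHom_v, Cochain.zero_v] at this
    rw [Cochain.zero_v, ← cancel_epi ((cokernel.π α).f p), this, comp_zero]
  obtain ⟨w, hw⟩ := CochainComplex.IsKInjective.eq_δ_of_cocycle (Cocycle.mk z 2 (by norm_num) hz)
    hQ 0 (by norm_num)
  have hw' : δ 0 1 w = z := hw
  -- the corrected cochain
  let β₁ : Cochain L I 0 := β₀ - (Cochain.ofHom (cokernel.π α)).comp w (zero_add 0)
  have hβ₁ : δ 0 1 β₁ = 0 := by
    rw [δ_sub, δ_ofHom_comp, hw', hπz, sub_self]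
  refine ⟨Cocycle.homOf (Cocycle.mk β₁ 1 (zero_add 1) hβ₁), ?_⟩
  ext p
  have h1 : α.f p ≫ (cokernel.π α).f p = 0 := by
    rw [← HomologicalComplex.comp_f, cokernel.condition, HomologicalComplex.zero_f]
  simp only [HomologicalComplex.comp_f, Cocycle.homOf_f, Cocycle.mk_coe, β₁, Cochain.sub_v,
    Cochain.zero_cochain_comp_v, Cochain.ofHom_v, Preadditive.comp_sub, reassoc_of% h1, zero_comp,
    sub_zero]
  simp [β₀, Injective.comp_factorThru]

end Groth.Agent.S6611
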