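import Groth.Statements.S6612

set_option autoImplicit false
universe v u
open CategoryTheory CategoryTheory.Limits
open CohDer

namespace Groth.Agent.S6612

/-- Let A be an additive category and 0 → A₂ → B₂ → C₂ → 0 a termwise split exact sequence of complexes.
Given a chain map b from a complex B₁ into B₂ and a chain map b' from B₂ into a complex B₃, suppose
that both composites b ≫ (B₂ → C₂) and (A₂ → B₂) ≫ b' are null-homotopic. Then b ≫ b' is homotopic
to zero. (The published statement has three termwise split sequences Aᵢ → Bᵢ → Cᵢ and asks both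
squares of each diagram to commute up to homotopy; this row keeps only the middle sequence and the
two conditions at B₂ that the argument uses, so it is more general.) -/
theorem result {V : Type u} [Category.{v} V] [Preadditive V] [HasBinaryBiproducts V]
    (S : ShortComplex (CochainComplex V ℤ))
    (σ : ∀ n : ℤ, (S.map (HomologicalComplex.eval V (ComplexShape.up ℤ) n)).Splitting)
    {B₁ B₃ : CochainComplex V ℤ} (b : B₁ ⟶ S.X₂) (b' : S.X₂ ⟶ B₃)
    (hb : Nonempty (Homotopy (b ≫ S.g) 0)) (hb' : Nonempty (Homotopy (S.f ≫ b') 0)) :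
    Nonempty (Homotopy (b ≫ b') 0) := by
  obtain ⟨H⟩ := hb
  obtain ⟨H'⟩ := hb'
  -- retractions and sections in each degree
  obtain ⟨r, s, hfr, hsg, hid⟩ : ∃ (r : ∀ n, S.X₂.X n ⟶ S.X₁.X n) (s : ∀ n, S.X₃.X n ⟶ S.X₂.X n),
      (∀ n, S.f.f n ≫ r n = 𝟙 (S.X₁.X n)) ∧ (∀ n, s n ≫ S.g.f n = 𝟙 (S.X₃.X n)) ∧
      (∀ n, r n ≫ S.f.f n + S.g.f n ≫ s n = 𝟙 (S.X₂.X n)) :=
    ⟨fun n => (σ n).r, fun n => (σ n).s, fun n => (σ n).f_r, fun n => (σ n).s_g,
      fun n => (σ n).id⟩
  -- lift of the homotopy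
  let Ht : ∀ i j, B₁.X i ⟶ S.X₂.X j := fun i j => H.hom i j ≫ s j
  have hHt : ∀ i j, ¬ (ComplexShape.up ℤ).Rel j i → Ht i j = 0 := by
    intro i j hij
    simp only [Ht, H.zero i j hij, zero_comp]
  let N : B₁ ⟶ S.X₂ := Homotopy.nullHomotopicMap Ht
  have hN : Homotopy N 0 := Homotopy.nullHomotopy Ht hHt
  let b₀ : B₁ ⟶ S.X₂ := b - N
  have hNg : N ≫ S.g = b ≫ S.g := by
    simp only [N]
    rw [Homotopy.nullHomotopicMap_comp]
    ext n
    have := H.comm n
    rw [HomologicalComplex.zero_f_apply, add_zero] at this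
    rw [this]
    simp only [Homotopy.nullHomotopicMap, Ht, Category.assoc, hsg, Category.comp_id]
  have hb₀g : b₀ ≫ S.g = 0 := by
    simp only [b₀, Preadditive.sub_comp, hNg, sub_self]
  have hb₀g' : ∀ n, b₀.f n ≫ S.g.f n = 0 := by
    intro n
    have := congrArg (fun φ => φ.f n) hb₀g
    simpa using this
  have hb₀rf : ∀ n, b₀.f n ≫ r n ≫ S.f.f n = b₀.f n := by
    intro n
    have h1 : r n ≫ S.f.f n = 𝟙 _ - S.g.f n ≫ s n := by
      rw [← hid n, add_sub_cancel_right]
    rw [h1, Preadditive.comp_sub, Category.comp_id, ← Category.assoc, hb₀g' n, zero_comp, sub_zero]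
  -- the factorization through the subcomplex
  let a : B₁ ⟶ S.X₁ :=
    { f := fun n => b₀.f n ≫ r n
      comm' := by
        intro i j hij
        have h2 : (b₀.f i ≫ r i ≫ S.X₁.d i j) ≫ S.f.f j =
            (B₁.d i j ≫ b₀.f j ≫ r j) ≫ S.f.f j := by
          calc (b₀.f i ≫ r i ≫ S.X₁.d i j) ≫ S.f.f j
              = b₀.f i ≫ r i ≫ (S.X₁.d i j ≫ S.f.f j) := by simp only [Category.assoc]
            _ = b₀.f i ≫ r i ≫ (S.f.f i ≫ S.X₂.d i j) := by rw [S.f.comm i j]
            _ = (b₀.f i ≫ r i ≫ S.f.f i) ≫ S.X₂.d i j := by simp only [Category.assoc]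
            _ = b₀.f i ≫ S.X₂.d i j := by rw [hb₀rf i]
            _ = B₁.d i j ≫ b₀.f j := b₀.comm i j
            _ = B₁.d i j ≫ (b₀.f j ≫ r j ≫ S.f.f j) := by rw [hb₀rf j]
            _ = (B₁.d i j ≫ b₀.f j ≫ r j) ≫ S.f.f j := by simp only [Category.assoc]
        have h3 := congrArg (fun φ => φ ≫ r j) h2
        simp only [Category.assoc, hfr, Category.comp_id] at h3
        simp only [Category.assoc]
        exact h3 }
  have haf : a ≫ S.f = b₀ := by
    ext n
    simp only [HomologicalComplex.comp_f, a, Category.assoc]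
    exact hb₀rf n
  have hdecomp : b ≫ b' = a ≫ (S.f ≫ b') + N ≫ b' := by
    rw [← Category.assoc, haf]
    simp only [b₀, Preadditive.sub_comp, sub_add_cancel]
  have h1 : Homotopy (a ≫ (S.f ≫ b')) 0 := by
    have := H'.compLeft a
    simpa using this
  have h2 : Homotopy (N ≫ b') 0 := by
    have := hN.compRight b'
    simpa using this
  have h3 : Homotopy (a ≫ (S.f ≫ b') + N ≫ b') (0 + 0) := h1.add h2
  rw [hdecomp]
  exact ⟨h3.trans (Homotopy.ofEq (by simp))⟩

end Groth.Agent.S6612
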