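import Groth.Statements.S6613
import Mathlib.CategoryTheory.Localization.CalculusOfFractions.Fractions
import Mathlib.CategoryTheory.Localization.LocalizerMorphism

set_option autoImplicit false
universe v u v' u'
open CategoryTheory CategoryTheory.Limits
open CohDer

namespace Groth.Agent.S6613

section helpers

variable {D : Type u} [Category.{v} D] (P : ObjectProperty D)
    (S : MorphismProperty D) [S.HasRightCalculusOfFractions]
    (hP : ∀ X : D, ∃ (X' : D) (s : X' ⟶ X), P X' ∧ S s)

include hP in
/-- The induced class of morphisms on the full subcategory has a right calculus of fractions. -/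
lemma hasRightCalculus : (S.inverseImage P.ι).HasRightCalculusOfFractions where
  exists_rightFraction X Y φ := by
    let φ' : S.LeftFraction X.obj Y.obj := ⟨φ.f.hom, φ.s.hom, φ.hs⟩
    obtain ⟨ψ, hψ⟩ := φ'.exists_rightFraction
    obtain ⟨X'', t, hX'', ht⟩ := hP ψ.X'
    refine ⟨⟨(ObjectProperty.homMk (t ≫ ψ.s) : (⟨X'', hX''⟩ : P.FullSubcategory) ⟶ X),
      S.comp_mem _ _ ht ψ.hs, ObjectProperty.homMk (t ≫ ψ.f)⟩, ?_⟩
    ext
    simpa [φ'] using t ≫= hψ
  ext X Y Z f₁ f₂ s hs eq := by
    obtain ⟨X', t, ht, fac⟩ := MorphismProperty.HasRightCalculusOfFractions.ext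
      f₁.hom f₂.hom s.hom hs (by simpa using congrArg (fun a => a.hom) eq)
    obtain ⟨X'', u, hX'', hu⟩ := hP X'
    refine ⟨⟨X'', hX''⟩, ObjectProperty.homMk (u ≫ t), S.comp_mem _ _ hu ht, ?_⟩
    ext
    simp [fac]

end helpers

section main

variable {D : Type u} [Category.{v} D] (P : ObjectProperty D)
    (S : MorphismProperty D) [S.HasRightCalculusOfFractions]
    {E : Type u'} [Category.{v'} E] (Q : D ⥤ E) [Q.IsLocalization S]
    (hP : ∀ X : D, ∃ (X' : D) (s : X' ⟶ X), P X' ∧ S s)

/-- the inclusion as a localizer morphism -/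
def locMor : LocalizerMorphism (S.inverseImage P.ι) S where
  functor := P.ι
  map _ _ _ hf := hf

include hP in
lemma isLocalization_aux : (P.ι ⋙ Q).IsLocalization (S.inverseImage P.ι) := by
  have hcalc := hasRightCalculus P S hP
  let Φ := locMor P S
  let L₁ := (S.inverseImage P.ι).Q
  let F := Φ.localizedFunctor L₁ Q
  let e : P.ι ⋙ Q ≅ L₁ ⋙ F := CatCommSq.iso Φ.functor L₁ Q F
  have hL₁ : L₁.EssSurj := Localization.essSurj L₁ (S.inverseImage P.ι)
  -- essential surjectivity
  have hess : F.EssSurj := by
    refine ⟨fun Y => ?_⟩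
    have := Localization.essSurj Q S
    obtain ⟨X', s, hX', hs⟩ := hP (Q.objPreimage Y)
    have := Localization.inverts Q S s hs
    exact ⟨L₁.obj ⟨X', hX'⟩, ⟨(e.symm.app ⟨X', hX'⟩) ≪≫ asIso (Q.map s) ≪≫ Q.objObjPreimageIso Y⟩⟩
  -- fullness
  have hfull : F.Full := by
    refine F.full_of_comp_essSurj L₁ (fun X₁ X₂ φ ↦ ?_)
    obtain ⟨φ', hφ'⟩ : ∃ φ', φ = e.inv.app X₁ ≫ φ' ≫ e.hom.app X₂ :=
      ⟨e.hom.app X₁ ≫ φ ≫ e.inv.app X₂, by simp⟩
    obtain ⟨f, hf⟩ := Localization.exists_rightFraction Q S φ'
    obtain ⟨X₃, t, hX₃, ht⟩ := hP f.X'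
    let g : (S.inverseImage P.ι).RightFraction X₁ X₂ :=
      { X' := ⟨X₃, hX₃⟩
        f := ObjectProperty.homMk (t ≫ f.f)
        s := ObjectProperty.homMk (t ≫ f.s)
        hs := S.comp_mem _ _ ht f.hs }
    have := Localization.inverts L₁ _ _ g.hs
    refine ⟨g.map L₁ (Localization.inverts _ _), ?_⟩
    rw [← cancel_epi (F.map (L₁.map g.s)), ← Functor.map_comp,
      MorphismProperty.RightFraction.map_s_comp_map]
    have h1 : F.map (L₁.map g.s) = e.inv.app _ ≫ Q.map (t ≫ f.s) ≫ e.hom.app _ := by
      have := e.hom.naturality g.s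
      simp only [Functor.comp_map] at this
      rw [← cancel_epi (e.hom.app g.X'), ← this]
      simp [g]
    have h2 : F.map (L₁.map g.f) = e.inv.app _ ≫ Q.map (t ≫ f.f) ≫ e.hom.app _ := by
      have := e.hom.naturality g.f
      simp only [Functor.comp_map] at this
      rw [← cancel_epi (e.hom.app g.X'), ← this]
      simp [g]
    rw [h1, h2, hφ', hf]
    simp only [Category.assoc, Iso.hom_inv_id_app_assoc, Functor.map_comp]
    congr 2
    rw [← Category.assoc (Q.map f.s), MorphismProperty.RightFraction.map_s_comp_map]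
  -- faithfulness
  have hfaith : F.Faithful := by
    have hop : F.op.Faithful := by
      have : L₁.op.IsLocalization (S.inverseImage P.ι).op := inferInstance
      refine Functor.faithful_of_comp_of_hasLeftCalculusOfFractions L₁.op
        (S.inverseImage P.ι).op F.op (fun X₁ X₂ f g hfg ↦ ?_)
      have hfg' : F.map (L₁.map f.unop) = F.map (L₁.map g.unop) :=
        Quiver.Hom.op_inj hfg
      have hQ : Q.map f.unop.hom = Q.map g.unop.hom := by
        have h1 := e.hom.naturality f.unop
        have h2 := e.hom.naturality g.unop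
        simp only [Functor.comp_map] at h1 h2
        rw [← cancel_mono (e.hom.app _)]
        erw [h1, h2, hfg']
      rw [MorphismProperty.map_eq_iff_precomp Q S] at hQ
      obtain ⟨X₃, s, hs, fac⟩ := hQ
      obtain ⟨X₄, t, hX₄, ht⟩ := hP X₃
      have : L₁.map f.unop = L₁.map g.unop := by
        rw [MorphismProperty.map_eq_iff_precomp L₁ (S.inverseImage P.ι)]
        refine ⟨⟨X₄, hX₄⟩, ObjectProperty.homMk (t ≫ s), S.comp_mem _ _ ht hs, ?_⟩
        ext
        simp [fac]
      exact Quiver.Hom.unop_inj this
    exact ⟨fun {X Y} a b h => Quiver.Hom.op_inj (F.op.map_injective (congrArg Quiver.Hom.op h))⟩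
  have : F.IsEquivalence := { }
  have : Φ.IsLocalizedEquivalence := LocalizerMorphism.IsLocalizedEquivalence.mk' Φ L₁ Q F
  exact inferInstanceAs ((Φ.functor ⋙ Q).IsLocalization (S.inverseImage P.ι))

end main

/-- Let D be a pretriangulated category, D' ⊂ D a full pretriangulated subcategory, S a saturated
multiplicative system of D compatible with the triangulated structure and Q : D → S⁻¹D the
localization. Assume every X in D admits some s : X' ⟶ X in S with X' in D'. Then, with S' = S ∩
Arrows(D'), the functor (S')⁻¹D' → S⁻¹D is an equivalence; equivalently the composite D' → D → S⁻¹D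
is a localization of D' at S'. (The published result additionally claims that the intersection S' =
S ∩ Arrows(D') forms a multiplicative system on D' which is saturated and respects the triangulated
structure of D'; this row asserts only the localization property.) -/
theorem result {D : Type u} [Category.{v} D] [Preadditive D] [HasZeroObject D] [HasShift D ℤ]
    [∀ n : ℤ, (shiftFunctor D n).Additive] [Pretriangulated D]
    (P : ObjectProperty D) [P.IsTriangulated]
    (S : MorphismProperty D) [S.HasLeftCalculusOfFractions] [S.HasRightCalculusOfFractions] [S.IsCompatibleWithTriangulation]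
    {E : Type u'} [Category.{v'} E] (Q : D ⥤ E) [Q.IsLocalization S]
    (hsat : ∀ {X Y : D} (f : X ⟶ Y), IsIso (Q.map f) → S f)
    (hP : ∀ X : D, ∃ (X' : D) (s : X' ⟶ X), P X' ∧ S s) :
    (P.ι ⋙ Q).IsLocalization (S.inverseImage P.ι) := by
  exact isLocalization_aux P S Q hP

end Groth.Agent.S6613
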