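import Groth.Statements.S6614
-- import your own Groth.Agent.* helpers here

set_option autoImplicit false
universe v u
open CategoryTheory CategoryTheory.Limits Opposite
open CohDer

namespace Groth.Agent.S6614

section helpers

open CategoryTheory.Pretriangulated

variable {D : Type u} [Category.{v} D] [Preadditive D] [HasZeroObject D] [HasShift D ℤ]
    [∀ n : ℤ, (shiftFunctor D n).Additive] [Pretriangulated D]

/-- A split monomorphism in a pretriangulated category has a complement, compatible with the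
given retraction. -/
lemma split_mono_decomp {A X : D} (f : A ⟶ X) (r : X ⟶ A) (hfr : f ≫ r = 𝟙 A) :
    ∃ (Z : D) (e : X ≅ A ⊞ Z), f ≫ e.hom = biprod.inl ∧ e.hom ≫ biprod.fst = r := by
  obtain ⟨Z, g, h, hT⟩ := distinguished_cocone_triangle f
  have h0 : h = 0 := by
    have h1 : h ≫ f⟦(1 : ℤ)⟧' = 0 := comp_distTriang_mor_zero₃₁ _ hT
    have h2 : f⟦(1 : ℤ)⟧' ≫ r⟦(1 : ℤ)⟧' = 𝟙 _ := by
      rw [← (shiftFunctor D (1 : ℤ)).map_comp, hfr, (shiftFunctor D (1 : ℤ)).map_id]
    calc h = h ≫ f⟦(1 : ℤ)⟧' ≫ r⟦(1 : ℤ)⟧' := by rw [h2, Category.comp_id]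
      _ = 0 := by rw [← Category.assoc, h1, zero_comp]
  have hepi : Epi g := (Triangle.mk f g h).epi₂ hT h0
  have hfg : f ≫ g = 0 := comp_distTriang_mor_zero₁₂ _ hT
  obtain ⟨(ι : Z ⟶ X), (hι : 𝟙 X - r ≫ f = g ≫ ι)⟩ := Triangle.yoneda_exact₂ _ hT (𝟙 X - r ≫ f) (by
    show f ≫ (𝟙 X - r ≫ f) = 0
    rw [Preadditive.comp_sub, Category.comp_id, ← Category.assoc, hfr, Category.id_comp, sub_self])
  have hιg : ι ≫ g = 𝟙 Z := by
    rw [← cancel_epi g, ← Category.assoc, ← hι, Preadditive.sub_comp, Category.id_comp,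
      Category.assoc, hfg, comp_zero, sub_zero, Category.comp_id]
  have htot : r ≫ f + g ≫ ι = 𝟙 X := by
    rw [← hι]; abel
  let d : BinaryBiproductData A Z := binaryBiproductData (Triangle.mk f g h) hT h0 ι hιg r htot
  let e : X ≅ A ⊞ Z := biprod.uniqueUpToIso A Z d.isBilimit
  have he : e.hom = biprod.lift r g := rfl
  refine ⟨Z, e, ?_, ?_⟩
  · rw [he]
    apply biprod.hom_ext
    · rw [Category.assoc, biprod.lift_fst, hfr, biprod.inl_fst]
    · rw [Category.assoc, biprod.lift_snd, hfg, biprod.inl_snd]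
  · rw [he, biprod.lift_fst]

end helpers

/-- Let D be a triangulated category and (A_n) an ℕ-indexed inverse system of D which is essentially
constant with value A relative to the cone c. Then there are an index i and direct sum
decompositions A_{i+j} ≅ A ⊞ Z_j (j ≥ 0) such that (a) c_{i+j} is the inclusion of the summand A and
the transition maps A_{i+k} → A_{i+j} are 𝟙_A ⊕ (Z_k → Z_j), and (b) for every j there is k ≥ j with
Z_k → Z_j zero. (The published statement is an equivalence whose converse is given without proof;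
this row states only the forward implication.) -/
theorem result {D : Type u} [Category.{v} D] [Preadditive D] [HasZeroObject D] [HasShift D ℤ]
    [∀ n : ℤ, (shiftFunctor D n).Additive] [Pretriangulated D] [IsTriangulated D]
    (X : ARSys.PS D) (A : D) (c : (Functor.const ℕᵒᵖ).obj A ⟶ X) (hX : DerCA.IsEssConstant X A c) :
    ∃ (i : ℕ) (Z : ℕ → D) (e : ∀ j : ℕ, X.obj (op (i + j)) ≅ A ⊞ Z j) (z : ∀ j k : ℕ, j ≤ k → (Z k ⟶ Z j)),
      (∀ j : ℕ, c.app (op (i + j)) ≫ (e j).hom = biprod.inl) ∧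
      (∀ (j k : ℕ) (hjk : j ≤ k), (e k).inv ≫ ARSys.tr X (Nat.add_le_add_left hjk i) = biprod.map (𝟙 A) (z j k hjk) ≫ (e j).inv) ∧
      (∀ j : ℕ, ∃ (k : ℕ) (hjk : j ≤ k), z j k hjk = 0) := by
  obtain ⟨i, s, hs, hfac⟩ := hX
  -- naturality of the cone
  have hc : ∀ {n m : ℕ} (h : n ≤ m), c.app (op m) ≫ ARSys.tr X h = c.app (op n) := by
    intro n m h
    have := c.naturality (homOfLE h).op
    simp only [Functor.const_obj_obj, Functor.const_obj_map, Category.id_comp] at this
    exact this.symm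
  have htr : ∀ {n m l : ℕ} (h₁ : n ≤ m) (h₂ : m ≤ l),
      ARSys.tr X h₂ ≫ ARSys.tr X h₁ = ARSys.tr X (h₁.trans h₂) := by
    intro n m l h₁ h₂
    simp only [ARSys.tr, ← X.map_comp]
    rfl
  let r : ∀ j : ℕ, X.obj (op (i + j)) ⟶ A := fun j => ARSys.tr X (Nat.le_add_right i j) ≫ s
  have hr : ∀ j, c.app (op (i + j)) ≫ r j = 𝟙 A := by
    intro j
    simp only [r, ← Category.assoc, hc, hs]
  choose Z e he₁ he₂ using fun j => split_mono_decomp (A := A) (c.app (op (i + j))) (r j) (hr j)
  have he₁' : ∀ j, biprod.inl ≫ (e j).inv = c.app (op (i + j)) := by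
    intro j
    rw [← he₁ j, Category.assoc, Iso.hom_inv_id, Category.comp_id]
  refine ⟨i, Z, e, fun j k hjk => biprod.inr ≫ (e k).inv ≫
    ARSys.tr X (Nat.add_le_add_left hjk i) ≫ (e j).hom ≫ biprod.snd, he₁, ?_, ?_⟩
  · intro j k hjk
    rw [← cancel_mono (e j).hom, Category.assoc, Category.assoc, Iso.inv_hom_id, Category.comp_id]
    have hrr : ARSys.tr X (Nat.add_le_add_left hjk i) ≫ r j = r k := by
      simp only [r, ← Category.assoc, htr]
    apply biprod.hom_ext'
    · apply biprod.hom_ext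
      · simp only [Category.assoc, biprod.inl_map_assoc, biprod.inl_fst, Category.id_comp]
        rw [he₂ j, hrr, ← he₂ k, Iso.inv_hom_id_assoc, biprod.inl_fst]
      · simp only [Category.assoc, biprod.inl_map_assoc, biprod.inl_snd, Category.id_comp]
        rw [← Category.assoc biprod.inl, he₁', ← Category.assoc, hc, ← Category.assoc, he₁ j,
          biprod.inl_snd]
    · apply biprod.hom_ext
      · simp only [Category.assoc, biprod.inr_map_assoc, biprod.inr_fst, comp_zero]
        rw [he₂ j, hrr, ← he₂ k, Iso.inv_hom_id_assoc, biprod.inr_fst]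
      · simp only [Category.assoc, biprod.inr_map_assoc, biprod.inr_snd, Category.comp_id]
  · intro j
    obtain ⟨k', hi, hj, hk'⟩ := hfac (i + j)
    obtain ⟨k, rfl⟩ := Nat.exists_eq_add_of_le hi
    have hjk : j ≤ k := Nat.le_of_add_le_add_left hj
    refine ⟨k, hjk, ?_⟩
    have : ARSys.tr X (Nat.add_le_add_left hjk i) = ARSys.tr X hi ≫ s ≫ c.app (op (i + j)) := hk'
    show biprod.inr ≫ (e k).inv ≫ ARSys.tr X (Nat.add_le_add_left hjk i) ≫ (e j).hom ≫
      biprod.snd = 0
    rw [this]
    simp only [Category.assoc]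
    rw [← Category.assoc (c.app (op (i + j))), he₁ j]
    erw [biprod.inl_snd]
    simp

end Groth.Agent.S6614
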