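import Groth.Statements.S6617
import Groth.Agent.S6598

set_option autoImplicit false
universe v u
open CategoryTheory CategoryTheory.Limits
open CohDer

namespace Groth.Agent.S6617


universe w

/-- A dependent sequence built by successive choices. -/
theorem exists_dep_seq {α : ℕ → Type w} (P : ∀ n, α n → Prop)
    (Rel : ∀ n, α n → α (n + 1) → Prop) (a0 : α 0) (h0 : P 0 a0)
    (step : ∀ n (a : α n), P n a → ∃ b : α (n + 1), P (n + 1) b ∧ Rel n a b) :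
    ∃ t : ∀ n, α n, t 0 = a0 ∧ (∀ n, P n (t n)) ∧ ∀ n, Rel n (t n) (t (n + 1)) := by
  classical
  let t' : ∀ n, {a : α n // P n a} := fun n => Nat.rec (motive := fun n => {a : α n // P n a})
    ⟨a0, h0⟩
    (fun n a => ⟨Classical.choose (step n a.1 a.2), (Classical.choose_spec (step n a.1 a.2)).1⟩) n
  refine ⟨fun n => (t' n).1, rfl, fun n => (t' n).2, fun n => ?_⟩
  exact (Classical.choose_spec (step n (t' n).1 (t' n).2)).2

open CochainComplex in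
theorem main {V : Type u} [Category.{v} V] [Preadditive V] [HasBinaryBiproducts V] [HasZeroObject V]
    (X : ℕ → CochainComplex V ℤ) (a : ∀ i, X i ⟶ X (i + 1)) :
    ∃ (B : ℕ → CochainComplex V ℤ) (b : ∀ i, B i ⟶ B (i + 1)) (e : ∀ i, HomotopyEquiv (B i) (X i)),
      (∀ i, b i ≫ (e (i + 1)).hom = (e i).hom ≫ a i) ∧
      (∀ (i : ℕ) (n : ℤ), ∃ (C : V) (ε : (B (i + 1)).X n ≅ (B i).X n ⊞ C), (b i).f n ≫ ε.hom = biprod.inl) ∧
      ((∀ i, ∃ m : ℤ, (X i).IsStrictlyGE m) → ∀ i, ∃ m : ℤ, (B i).IsStrictlyGE m) ∧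
      ((∀ i, ∃ m : ℤ, (X i).IsStrictlyLE m) → ∀ i, ∃ m : ℤ, (B i).IsStrictlyLE m) := by
  obtain ⟨t, -, htP, htRel⟩ := exists_dep_seq
    (α := fun i => Σ B : CochainComplex V ℤ, HomotopyEquiv B (X i))
    (fun _ p => ((∀ j, ∃ m : ℤ, (X j).IsStrictlyGE m) → ∃ m : ℤ, p.1.IsStrictlyGE m) ∧
      ((∀ j, ∃ m : ℤ, (X j).IsStrictlyLE m) → ∃ m : ℤ, p.1.IsStrictlyLE m))
    (fun i p p' => ∃ b : p.1 ⟶ p'.1, b ≫ p'.2.hom = p.2.hom ≫ a i ∧
      ∀ n : ℤ, ∃ (C : V) (ε : p'.1.X n ≅ p.1.X n ⊞ C), b.f n ≫ ε.hom = biprod.inl)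
    ⟨X 0, HomotopyEquiv.refl (X 0)⟩ ⟨fun h => h 0, fun h => h 0⟩
    (by
      rintro i ⟨B, e⟩ ⟨hGE, hLE⟩
      obtain ⟨L', α', π, s, hα'π, hsπ, ⟨H⟩, hsplit, hGE', hLE'⟩ :=
        Groth.Agent.S6598.main B (X (i + 1)) (e.hom ≫ a i)
      refine ⟨⟨L', ⟨π, s, H, Homotopy.ofEq hsπ⟩⟩, ⟨?_, ?_⟩, ⟨α', hα'π, hsplit⟩⟩
      · intro h
        obtain ⟨m₁, hm₁⟩ := hGE h
        obtain ⟨m₂, hm₂⟩ := h (i + 1)
        exact hGE' (min m₁ m₂) (B.isStrictlyGE_of_ge _ m₁ (min_le_left _ _))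
          ((X (i + 1)).isStrictlyGE_of_ge _ m₂ (min_le_right _ _))
      · intro h
        obtain ⟨m₁, hm₁⟩ := hLE h
        obtain ⟨m₂, hm₂⟩ := h (i + 1)
        exact hLE' (max m₁ m₂) (B.isStrictlyLE_of_le m₁ _ (le_max_left _ _))
          ((X (i + 1)).isStrictlyLE_of_le m₂ _ (le_max_right _ _)))
  choose b hb hsplit using htRel
  exact ⟨fun i => (t i).1, b, fun i => (t i).2, hb, hsplit, fun h i => (htP i).1 h,
    fun h i => (htP i).2 h⟩



/-- Let A be an additive category and A₀ → A₁ → A₂ → … a sequence of composable morphisms of complexes.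
There are complexes Bᵢ, homotopy equivalences Bᵢ ⟶ Aᵢ and termwise split injections Bᵢ ⟶ Bᵢ₊₁
forming a commutative ladder over the given sequence. Moreover if all Aᵢ are bounded below, resp.
bounded above, then the Bᵢ may be chosen bounded below, resp. bounded above. (The published
statement is for finite sequences A₁ → … → A_n; this row takes a sequence indexed by ℕ, built by the
same step-by-step construction.) -/
theorem result {V : Type u} [Category.{v} V] [Preadditive V] [HasBinaryBiproducts V] [HasZeroObject V]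
    (X : ℕ → CochainComplex V ℤ) (a : ∀ i, X i ⟶ X (i + 1)) :
    ∃ (B : ℕ → CochainComplex V ℤ) (b : ∀ i, B i ⟶ B (i + 1)) (e : ∀ i, HomotopyEquiv (B i) (X i)),
      (∀ i, b i ≫ (e (i + 1)).hom = (e i).hom ≫ a i) ∧
      (∀ (i : ℕ) (n : ℤ), ∃ (C : V) (ε : (B (i + 1)).X n ≅ (B i).X n ⊞ C), (b i).f n ≫ ε.hom = biprod.inl) ∧
      ((∀ i, ∃ m : ℤ, (X i).IsStrictlyGE m) → ∀ i, ∃ m : ℤ, (B i).IsStrictlyGE m) ∧
      ((∀ i, ∃ m : ℤ, (X i).IsStrictlyLE m) → ∀ i, ∃ m : ℤ, (B i).IsStrictlyLE m) := by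
  exact main X a

end Groth.Agent.S6617
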