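import Groth.Statements.S6621

set_option autoImplicit false
universe v u v' u'
open CategoryTheory CategoryTheory.Limits
open CohDer

namespace Groth.Agent.S6621

section
open CategoryTheory.Pretriangulated

variable {D : Type u} [Category.{v} D] [Preadditive D] [HasZeroObject D] [HasShift D ℤ]
    [∀ n : ℤ, (shiftFunctor D n).Additive] [Pretriangulated D] [IsTriangulated D]
    (S : MorphismProperty D) [S.HasLeftCalculusOfFractions] [S.HasRightCalculusOfFractions]
    [S.IsCompatibleWithTriangulation]

lemma isZero_obj_iff_of_isEquivalence {C : Type*} {C' : Type*} [Category C] [Category C']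
    (F : C ⥤ C') [F.IsEquivalence] (X : C) : IsZero (F.obj X) ↔ IsZero X := by
  constructor
  · intro h
    exact IsZero.of_full_of_faithful_of_isZero F X h
  · intro h
    apply IsZero.of_full_of_faithful_of_isZero F.inv
    exact h.of_iso (F.asEquivalence.unitIso.app X).symm

/-- the statement for the standard localization -/
theorem key {X Y : D} (f : X ⟶ Y) :
    ObjectProperty.trW (fun Z : D => IsZero (S.Q.obj Z)) f ↔ IsIso (S.Q.map f) := by
  constructor
  · rintro ⟨Z, g, h, hT, hZ⟩
    have hT' := S.Q.map_distinguished _ hT
    exact (Triangle.isZero₃_iff_isIso₁ _ hT').mp hZ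
  · intro hf
    obtain ⟨Z, g, h, hT⟩ := distinguished_cocone_triangle f
    refine ⟨Z, g, h, hT, ?_⟩
    have hT' := S.Q.map_distinguished _ hT
    exact (Triangle.isZero₃_iff_isIso₁ _ hT').mpr hf

end

/-- Let D be a triangulated category, S a multiplicative system compatible with the triangulated
structure, Q : D → S⁻¹D the localization and B(S) = Ker(Q) the full subcategory of objects Z with
Q(Z) = 0. Then the multiplicative system S(B(S)) attached to B(S) (morphisms whose cone lies in B(S)
up to isomorphism) consists exactly of the morphisms f such that Q(f) is an isomorphism, i.e. it is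
the saturation of S. -/
theorem result {D : Type u} [Category.{v} D] [Preadditive D] [HasZeroObject D] [HasShift D ℤ]
    [∀ n : ℤ, (shiftFunctor D n).Additive] [Pretriangulated D] [IsTriangulated D]
    (S : MorphismProperty D) [S.HasLeftCalculusOfFractions] [S.HasRightCalculusOfFractions] [S.IsCompatibleWithTriangulation]
    {E : Type u'} [Category.{v'} E] (Q : D ⥤ E) [Q.IsLocalization S] {X Y : D} (f : X ⟶ Y) :
    ObjectProperty.trW (fun Z : D => IsZero (Q.obj Z)) f ↔ IsIso (Q.map f) := by
  let e := Localization.compUniqFunctor S.Q Q S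
  let G := (Localization.uniq S.Q Q S).functor
  have hzero : ∀ Z : D, IsZero (Q.obj Z) ↔ IsZero (S.Q.obj Z) := by
    intro Z
    rw [← isZero_obj_iff_of_isEquivalence G (S.Q.obj Z)]
    exact (e.app Z).symm.isZero_iff
  have hiso : IsIso (Q.map f) ↔ IsIso (S.Q.map f) := by
    rw [← isIso_iff_of_reflects_iso (S.Q.map f) G]
    exact (NatIso.isIso_map_iff e f).symm
  have hP : (fun Z : D => IsZero (Q.obj Z)) = (fun Z : D => IsZero (S.Q.obj Z)) := by
    funext Z
    exact propext (hzero Z)
  rw [hP, hiso]
  exact key S f

end Groth.Agent.S6621
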