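import Groth.Statements.S6623
import Mathlib.Tactic.Ring
import Mathlib.Tactic.Linarith
import Mathlib.Tactic.NormNum

set_option autoImplicit false
universe v u
open CategoryTheory CategoryTheory.Limits
open CohDer

namespace Groth.Agent.S6623

section Helpers
open CategoryTheory.Pretriangulated

variable {D : Type u} [Category.{v} D] [Preadditive D] [HasZeroObject D] [HasShift D ℤ]
    [∀ n : ℤ, (shiftFunctor D n).Additive] [Pretriangulated D]

/-- one-step shift on objects -/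
abbrev sh (Z : D) : D := (shiftFunctor D (1 : ℤ)).obj Z

theorem nonempty_iterate_iso (m : ℕ) : ∀ Z : D,
    Nonempty ((sh^[m]) Z ≅ (shiftFunctor D (m : ℤ)).obj Z) := by
  induction m with
  | zero =>
    intro Z
    exact ⟨((shiftFunctorZero D ℤ).app Z).symm⟩
  | succ m ih =>
    intro Z
    obtain ⟨e⟩ := ih (sh Z)
    refine ⟨e ≪≫ ((shiftFunctorAdd' D (1 : ℤ) (m : ℤ) ((m + 1 : ℕ) : ℤ) (by push_cast; ring)).app Z).symm⟩

/-- C1 -/
theorem hom_iterate_eq_zero (A Z : D) (n : ℤ) (m : ℕ) (h : n + m = 0)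
    (hyp : ∀ ψ : (shiftFunctor D n).obj A ⟶ Z, ψ = 0) : ∀ ψ : A ⟶ (sh^[m]) Z, ψ = 0 := by
  intro ψ
  obtain ⟨e⟩ := nonempty_iterate_iso m Z
  have h1 : ψ ≫ e.hom = 0 := by
    apply (shiftFunctor D n).map_injective
    rw [Functor.map_zero]
    have iso := (shiftFunctorCompIsoId D (m : ℤ) n (by omega)).app Z
    rw [← cancel_mono iso.hom, zero_comp]
    exact hyp _
  have : ψ = (ψ ≫ e.hom) ≫ e.inv := by simp
  rw [this, h1, zero_comp]

/-- C2 -/
theorem iterate_hom_eq_zero (A Z : D) (n : ℤ) (m : ℕ) (h : n + m = 0)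
    (hyp : ∀ ψ : A ⟶ (shiftFunctor D n).obj Z, ψ = 0) : ∀ ψ : (sh^[m]) A ⟶ Z, ψ = 0 := by
  intro ψ
  obtain ⟨e⟩ := nonempty_iterate_iso m A
  have h1 : e.inv ≫ ψ = 0 := by
    apply (shiftFunctor D n).map_injective
    rw [Functor.map_zero]
    have iso := (shiftFunctorCompIsoId D (m : ℤ) n (by omega)).app A
    rw [← cancel_epi iso.inv, comp_zero]
    exact hyp _
  have : ψ = e.hom ≫ (e.inv ≫ ψ) := by simp
  rw [this, h1, comp_zero]


/-- D1: dévissage for maps out of `Y k`. -/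
theorem hom_from_Y_eq_zero (X : ChainComplex D ℕ) (n : ℕ)
    (Y : ℕ → D) (a : ∀ k, Y k ⟶ X.X k) (b : ∀ k, X.X (k + 1) ⟶ Y k)
    (c : ∀ k, Y k ⟶ (shiftFunctor D (1 : ℤ)).obj (Y (k + 1)))
    (h0 : IsIso (a 0))
    (hP : ∀ k, k < n → Triangle.mk (a (k + 1)) (b k) (c k) ∈ distinguishedTriangles)
    (k : ℕ) : k ≤ n → ∀ Z : D, (∀ i j : ℕ, i + j = k → ∀ ψ : X.X j ⟶ (sh^[i]) Z, ψ = 0) →
      ∀ ψ : Y k ⟶ Z, ψ = 0 := by
  induction k with
  | zero =>
    intro _ Z hyp ψ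
    have : inv (a 0) ≫ ψ = 0 := hyp 0 0 rfl _
    rw [← cancel_epi (inv (a 0)), this, comp_zero]
  | succ k ih =>
    intro hk Z hyp ψ
    have hT := hP k (by omega)
    -- Hom(Y k, Z⟦1⟧) = 0
    have h1 : ∀ ψ' : Y k ⟶ sh Z, ψ' = 0 := by
      apply ih (by omega) (sh Z)
      intro i j hij ψ'
      exact hyp (i + 1) j (by omega) ψ'
    have h2 : c k ≫ (shiftFunctor D (1 : ℤ)).map ψ = 0 := h1 _
    obtain ⟨g, hg⟩ := Triangle.yoneda_exact₃ _ (rot_of_distTriang _ hT)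
      ((shiftFunctor D (1 : ℤ)).map ψ) h2
    obtain ⟨g', rfl⟩ := (shiftFunctor D (1 : ℤ)).map_surjective g
    have h3 : g' = 0 := hyp 0 (k + 1) (by omega) g'
    apply (shiftFunctor D (1 : ℤ)).map_injective
    rw [Functor.map_zero]
    refine hg.trans ?_
    rw [h3, Functor.map_zero, comp_zero]
    rfl

/-- D2: dévissage for maps into `Y k`. -/
theorem hom_to_Y_eq_zero (X : ChainComplex D ℕ) (n : ℕ)
    (Y : ℕ → D) (a : ∀ k, Y k ⟶ X.X k) (b : ∀ k, X.X (k + 1) ⟶ Y k)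
    (c : ∀ k, Y k ⟶ (shiftFunctor D (1 : ℤ)).obj (Y (k + 1)))
    (h0 : IsIso (a 0))
    (hP : ∀ k, k < n → Triangle.mk (a (k + 1)) (b k) (c k) ∈ distinguishedTriangles)
    (k : ℕ) : k ≤ n → ∀ W : D, (∀ i j : ℕ, i + j = k → ∀ ψ : (sh^[i]) W ⟶ X.X j, ψ = 0) →
      ∀ ψ : W ⟶ Y k, ψ = 0 := by
  induction k with
  | zero =>
    intro _ W hyp ψ
    have : ψ ≫ a 0 = 0 := hyp 0 0 rfl _
    rw [← cancel_mono (a 0), this, zero_comp]
  | succ k ih =>
    intro hk W hyp ψ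
    have hT := hP k (by omega)
    have h1 : ψ ≫ a (k + 1) = 0 := hyp 0 (k + 1) (by omega) _
    obtain ⟨g, hg⟩ := Triangle.coyoneda_exact₁ _ hT ((shiftFunctor D (1 : ℤ)).map ψ)
      (by
        change (shiftFunctor D (1 : ℤ)).map ψ ≫ (shiftFunctor D (1 : ℤ)).map (a (k + 1)) = 0
        rw [← Functor.map_comp, h1, Functor.map_zero])
    have h2 : g = 0 := by
      apply ih (by omega) (sh W)
      intro i j hij ψ'
      exact hyp (i + 1) j (by omega) ψ'
    apply (shiftFunctor D (1 : ℤ)).map_injective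
    rw [Functor.map_zero]
    refine hg.trans ?_
    rw [h2, zero_comp]
    rfl


end Helpers

open CategoryTheory.Pretriangulated in
/-- Let D be a triangulated category, φ : X ⟶ X' a morphism of chain complexes in D considered in
degrees ≤ n, where a Postnikov system for the complex X_n → … → X_0 consists of objects Y_k, an
isomorphism Y_0 ⟶ X_0, and for 0 ≤ k < n distinguished triangles Y_{k+1} ⟶ X_{k+1} ⟶ Y_k ⟶
Y_{k+1}⟦1⟧ with X_{k+1} ⟶ Y_k ⟶ X_k the differential; let (Y, a, b, c) and (Y', a', b', c') be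
Postnikov systems for X and X'. If Hom(X_{j-i}⟦1-i⟧, X'_j) = 0 and Hom(X_j, X'_{j-i}⟦-i⟧) = 0 for
all 0 < i ≤ j ≤ n, then there is at most one morphism of Postnikov systems extending φ: two such
morphisms agree on Y_k for every k ≤ n. -/
theorem result {D : Type u} [Category.{v} D] [Preadditive D] [HasZeroObject D] [HasShift D ℤ]
    [∀ n : ℤ, (shiftFunctor D n).Additive] [Pretriangulated D] [IsTriangulated D]
    (X X' : ChainComplex D ℕ) (φ : X ⟶ X') (n : ℕ)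
    (Y : ℕ → D) (a : ∀ k, Y k ⟶ X.X k) (b : ∀ k, X.X (k + 1) ⟶ Y k)
    (c : ∀ k, Y k ⟶ (shiftFunctor D (1 : ℤ)).obj (Y (k + 1)))
    (h0 : IsIso (a 0))
    (hP : ∀ k, k < n → Triangle.mk (a (k + 1)) (b k) (c k) ∈ distinguishedTriangles ∧ b k ≫ a k = X.d (k + 1) k)
    (qY : ℕ → D) (qa : ∀ k, qY k ⟶ X'.X k) (qb : ∀ k, X'.X (k + 1) ⟶ qY k)
    (qc : ∀ k, qY k ⟶ (shiftFunctor D (1 : ℤ)).obj (qY (k + 1)))
    (qh0 : IsIso (qa 0))
    (qhP : ∀ k, k < n → Triangle.mk (qa (k + 1)) (qb k) (qc k) ∈ distinguishedTriangles ∧ qb k ≫ qa k = X'.d (k + 1) k)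
    (hv : ∀ i j : ℕ, 0 < i → i ≤ j → j ≤ n →
      (∀ ψ : (shiftFunctor D (1 - (i : ℤ))).obj (X.X (j - i)) ⟶ X'.X j, ψ = 0) ∧
      (∀ ψ : X.X j ⟶ (shiftFunctor D (-(i : ℤ))).obj (X'.X (j - i)), ψ = 0))
    (y z : ∀ k, Y k ⟶ qY k)
    (hy : (∀ k, k ≤ n → y k ≫ qa k = a k ≫ φ.f k) ∧
      (∀ k, k < n → b k ≫ y k = φ.f (k + 1) ≫ qb k ∧ c k ≫ (shiftFunctor D (1 : ℤ)).map (y (k + 1)) = y k ≫ qc k))
    (hz : (∀ k, k ≤ n → z k ≫ qa k = a k ≫ φ.f k) ∧
      (∀ k, k < n → b k ≫ z k = φ.f (k + 1) ≫ qb k ∧ c k ≫ (shiftFunctor D (1 : ℤ)).map (z (k + 1)) = z k ≫ qc k))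
    (k : ℕ) (hk : k ≤ n) :
    y k = z k := by
  have hPt : ∀ k, k < n → Triangle.mk (a (k + 1)) (b k) (c k) ∈ distinguishedTriangles :=
    fun k hk => (hP k hk).1
  have qhPt : ∀ k, k < n → Triangle.mk (qa (k + 1)) (qb k) (qc k) ∈ distinguishedTriangles :=
    fun k hk => (qhP k hk).1
  induction k with
  | zero =>
    have h1 := hy.1 0 hk
    have h2 := hz.1 0 hk
    rw [← cancel_mono (qa 0), h1, h2]
  | succ k ih =>
    have hk' : k < n := by omega
    have ih' : y k = z k := ih (by omega)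
    have hT := hPt k hk'
    have hT' := qhPt k hk'
    -- the difference
    have hw1 : (y (k + 1) - z (k + 1)) ≫ qa (k + 1) = 0 := by
      rw [Preadditive.sub_comp, hy.1 (k + 1) hk, hz.1 (k + 1) hk, sub_self]
    have hw2 : c k ≫ (shiftFunctor D (1 : ℤ)).map (y (k + 1) - z (k + 1)) = 0 := by
      rw [Functor.map_sub, Preadditive.comp_sub, (hy.2 k hk').2, (hz.2 k hk').2, ih', sub_self]
    -- D1 and D2
    have hD1 : ∀ ψ : Y k ⟶ X'.X (k + 1), ψ = 0 := by
      apply hom_from_Y_eq_zero X n Y a b c h0 hPt k (by omega) (X'.X (k + 1))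
      intro i j hij
      have hj : k + 1 - (i + 1) = j := by omega
      have := (hv (i + 1) (k + 1) (by omega) (by omega) hk).1
      rw [hj] at this
      exact hom_iterate_eq_zero (X.X j) (X'.X (k + 1)) (1 - ((i + 1 : ℕ) : ℤ)) i
        (by push_cast; ring) this
    have hD2 : ∀ ψ : sh (X.X (k + 1)) ⟶ qY k, ψ = 0 := by
      apply hom_to_Y_eq_zero X' n qY qa qb qc qh0 qhPt k (by omega) (sh (X.X (k + 1)))
      intro i j hij
      have hj : k + 1 - (i + 1) = j := by omega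
      have := (hv (i + 1) (k + 1) (by omega) (by omega) hk).2
      rw [hj] at this
      exact iterate_hom_eq_zero (X.X (k + 1)) (X'.X j) (-((i + 1 : ℕ) : ℤ)) (i + 1)
        (by push_cast; ring) this
    -- step 1
    obtain ⟨u, hu⟩ := Triangle.coyoneda_exact₁ _ hT'
      ((shiftFunctor D (1 : ℤ)).map (y (k + 1) - z (k + 1)))
      (by
        change (shiftFunctor D (1 : ℤ)).map (y (k + 1) - z (k + 1)) ≫
          (shiftFunctor D (1 : ℤ)).map (qa (k + 1)) = 0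
        rw [← Functor.map_comp, hw1, Functor.map_zero])
    -- step 2
    have hu2 : (c k ≫ u) ≫ qc k = 0 := by
      rw [Category.assoc]
      have : u ≫ qc k = (shiftFunctor D (1 : ℤ)).map (y (k + 1) - z (k + 1)) := hu.symm
      rw [this, hw2]
    obtain ⟨t, ht⟩ := Triangle.coyoneda_exact₃ _ hT' (c k ≫ u) hu2
    have ht0 : t = 0 := hD1 t
    have hcu : c k ≫ u = 0 := by
      refine ht.trans ?_
      rw [ht0, zero_comp]
    -- step 3
    obtain ⟨v, hv'⟩ := Triangle.yoneda_exact₃ _ (rot_of_distTriang _ hT) u hcu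
    have hv0 : v = 0 := hD2 v
    have hu0 : u = 0 := by
      refine hv'.trans ?_
      rw [hv0, comp_zero]
      rfl
    have hw : y (k + 1) - z (k + 1) = 0 := by
      apply (shiftFunctor D (1 : ℤ)).map_injective
      rw [Functor.map_zero]
      refine hu.trans ?_
      rw [hu0, zero_comp]
      rfl
    exact sub_eq_zero.mp hw

end Groth.Agent.S6623
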