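import Groth.Statements.S6626
import Groth.Agent.Lib.EtClopen

set_option autoImplicit false
open CategoryTheory CategoryTheory.Limits AlgebraicGeometry Opposite
universe u
open EtCore

namespace Groth.Agent.S6626

open Groth.Agent.Lib.EtGerm Groth.Agent.Lib.EtStalkPullGerm Groth.Agent.Lib.EtClopen

/-- direct image along a morphism satisfying condition (A) is faithful -/
theorem faithful_push_of_propA {X Y : Scheme.{u}} (f : X ⟶ Y) (hA : BigSite.PropA f) :
    (EtCoh.push f).Faithful where
  map_injective {F G} a b hab := by
    have hV : ∀ V : Y.Etale, a.hom.app (op ((EtCoh.bc f).obj V)) =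
        b.hom.app (op ((EtCoh.bc f).obj V)) := fun V =>
      congrArg (fun (c : (EtCoh.push f).obj F ⟶ (EtCoh.push f).obj G) => c.hom.app (op V)) hab
    ext U : 3
    induction U using Opposite.rec with
    | op U =>
    ext s
    apply section_ext_of_forall_pt
    intro u
    obtain ⟨V, v, hv, W, hW, h, hcomm, hu⟩ := hA U.left U.hom u
    -- the etale `X`-scheme `X ×_Y V` in the two orders
    let P2 : X.Etale := Scheme.Etale.mk (pullback.fst f v)
    let P : X.Etale := (EtCoh.bc f).obj (Scheme.Etale.mk v)
    let e : P2 ⟶ P := MorphismProperty.Over.homMk (pullbackSymmetry f v).hom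
      (pullbackSymmetry_hom_comp_snd f v) trivial
    have he : IsIso e.left := by
      show IsIso (pullbackSymmetry f v).hom
      infer_instance
    have hP2 : a.hom.app (op P2) = b.hom.app (op P2) := by
      let e' : P ⟶ P2 := MorphismProperty.Over.homMk (pullbackSymmetry f v).inv
        (pullbackSymmetry_inv_comp_fst f v) trivial
      have hee' : e ≫ e' = 𝟙 P2 := by
        apply MorphismProperty.Over.Hom.ext
        exact (pullbackSymmetry f v).hom_inv_id
      have n1 := a.hom.naturality e.op
      have n2 := b.hom.naturality e.op
      have n3 : F.obj.map e'.op ≫ F.obj.map e.op = 𝟙 _ := by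
        rw [← Functor.map_comp, ← op_comp, hee', op_id]
        exact F.obj.map_id _
      calc a.hom.app (op P2) = (F.obj.map e'.op ≫ F.obj.map e.op) ≫ a.hom.app (op P2) := by
            rw [n3, Category.id_comp]
        _ = F.obj.map e'.op ≫ a.hom.app (op P) ≫ G.obj.map e.op := by
            rw [Category.assoc, n1]
        _ = F.obj.map e'.op ≫ b.hom.app (op P) ≫ G.obj.map e.op := by rw [hV]
        _ = (F.obj.map e'.op ≫ F.obj.map e.op) ≫ b.hom.app (op P2) := by
            rw [Category.assoc, n2]
        _ = b.hom.app (op P2) := by rw [n3, Category.id_comp]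
    let k : openSub P2 W ⟶ U := MorphismProperty.Over.homMk h hcomm trivial
    refine ⟨openSub P2 W, k, hu, ?_⟩
    obtain ⟨s', hs'⟩ := exists_section_extending_of_clopen F P2 W hW (F.obj.map k.op s)
    have n1 := NatTrans.naturality_apply a.hom k.op s
    have n2 := NatTrans.naturality_apply b.hom k.op s
    have n3 := NatTrans.naturality_apply a.hom (openSubι P2 W).op s'
    have n4 := NatTrans.naturality_apply b.hom (openSubι P2 W).op s'
    rw [← n1, ← n2, ← hs', n3, n4, hP2]

/-- Let f : X ⟶ Y be a morphism of schemes satisfying condition (A) (for every etale U ⟶ X and every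
point u of U there are an etale V ⟶ Y, an open and closed subscheme W of X ×_Y V and an X-morphism W
⟶ U whose image contains u). Then, on abelian sheaves on the small etale sites, f_* reflects
monomorphisms and epimorphisms, the counit f⁻¹ f_* F ⟶ F is an epimorphism for every F, and f_* is
faithful. -/
theorem result {X Y : Scheme.{u}} (f : X ⟶ Y) (hA : BigSite.PropA f) :
    (EtCoh.push f).ReflectsMonomorphisms ∧ (EtCoh.push f).ReflectsEpimorphisms ∧
      (∀ F : EtCoh.Ab X, Epi ((EtCoh.pullPushAdj f).counit.app F)) ∧ (EtCoh.push f).Faithful := by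
  have := faithful_push_of_propA f hA
  exact ⟨Functor.reflectsMonomorphisms_of_faithful _, Functor.reflectsEpimorphisms_of_faithful _,
    fun F => inferInstance, this⟩

end Groth.Agent.S6626
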