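import Groth.Statements.S6631

set_option autoImplicit false
open CategoryTheory CategoryTheory.Limits AlgebraicGeometry Opposite
universe u
open EtDesc

namespace Groth.Agent.S6631

section Aux

variable {X Y : Scheme.{u}}

set_option backward.isDefEq.respectTransparency false in
/-- Condition (C) in site form. -/
lemma exists_surj_of_propC (f : X ⟶ Y) (hC : BigSite.PropC f) (U : X.Etale) :
    ∃ (V : Y.Etale) (k : (EtCoh.bc f).obj V ⟶ U), Function.Surjective k.left := by
  obtain ⟨V₀, v, hv, h, hh, hs⟩ := hC U.left U.hom
  refine ⟨Scheme.Etale.mk v,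
    MorphismProperty.Over.homMk ((pullbackSymmetry v f).hom ≫ h) ?_ trivial, ?_⟩
  · change ((pullbackSymmetry v f).hom ≫ h) ≫ U.hom = pullback.snd v f
    rw [Category.assoc, hh, pullbackSymmetry_hom_comp_fst]
  · change Function.Surjective ((pullbackSymmetry v f).hom ≫ h)
    rw [Scheme.Hom.comp_base, TopCat.coe_comp]
    exact hs.surj.comp (pullbackSymmetry v f).hom.surjective

/-- A surjective morphism of the small etale site generates a covering sieve. -/
lemma generate_singleton_mem {W U : X.Etale} (k : W ⟶ U) (hk : Function.Surjective k.left) :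
    Sieve.generate (Presieve.singleton k) ∈ X.smallEtaleTopology U := by
  have h := (Scheme.ofArrows_mem_smallEtaleTopology_iff (X := X) (W := U) (ι := PUnit.{1})
    (Z := fun _ => W) (fun _ => k)).2 (by
      ext y; simp only [Set.mem_iUnion, Set.mem_range, Set.mem_univ, iff_true]
      obtain ⟨w, hw⟩ := hk y
      exact ⟨⟨⟩, w, hw⟩)
  rwa [Sieve.ofArrows, Presieve.ofArrows_pUnit] at h

/-- Restriction along a surjective morphism is injective on sections of a sheaf. -/
lemma map_injective_of_surjective (F : Sh X) {W U : X.Etale} (k : W ⟶ U)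
    (hk : Function.Surjective k.left) : Function.Injective (F.obj.map k.op) := by
  intro s t hst
  have hsep := ((isSheaf_iff_isSheaf_of_type _ _).1 F.property).isSeparated
  refine (hsep _ (generate_singleton_mem k hk)).ext ?_
  rintro Z _ ⟨Z', l, _, ⟨⟩, rfl⟩
  rw [op_comp, F.obj.map_comp]
  exact congrArg (F.obj.map l.op) hst

theorem injective_app_of_mono' {F G : Sh X} (v : F ⟶ G) [Mono v]
    (U : X.Etale) : Function.Injective (v.hom.app (op U)) := by
  have h1 : Mono v.hom := (sheafToPresheaf X.smallEtaleTopology (Type (u + 1))).map_mono v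
  have h2 : Mono (v.hom.app (op U)) := inferInstance
  exact (mono_iff_injective _).1 h2

end Aux

/-- Let f : X ⟶ Y be a morphism of schemes satisfying condition (C) (for every etale U ⟶ X there are an
etale V ⟶ Y and a surjective X-morphism X ×_Y V ⟶ U). Then the direct image of sheaves of sets on
the small etale sites along f reflects monomorphisms and epimorphisms. -/
theorem result {X Y : Scheme.{u}} (f : X ⟶ Y) (hC : BigSite.PropC f) :
    (EtDesc.pushSh f).ReflectsMonomorphisms ∧ (EtDesc.pushSh f).ReflectsEpimorphisms := by
  constructor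
  · refine ⟨fun {F G} a ha => ?_⟩
    have hinj : ∀ U : X.Etale, Function.Injective (a.hom.app (op U)) := by
      intro U s t hst
      obtain ⟨V, k, hk⟩ := exists_surj_of_propC f hC U
      apply map_injective_of_surjective F k hk
      have h1 := injective_app_of_mono' ((EtDesc.pushSh f).map a) V
      apply h1
      change a.hom.app (op ((EtCoh.bc f).obj V)) (F.obj.map k.op s) =
        a.hom.app (op ((EtCoh.bc f).obj V)) (F.obj.map k.op t)
      have n := a.hom.naturality k.op
      have ns := ConcreteCategory.congr_hom n s
      have nt := ConcreteCategory.congr_hom n t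
      simp only [types_comp_apply] at ns nt
      rw [ns, nt, hst]
    have : Mono a.hom := by
      apply (config := {allowSynthFailures := true}) NatTrans.mono_of_mono_app
      intro U
      exact (mono_iff_injective _).2 (hinj U.unop)
    exact Sheaf.Hom.mono_of_presheaf_mono _ _ a
  · refine ⟨fun {F G} a ha => ?_⟩
    rw [← Sheaf.isLocallySurjective_iff_epi] at ha ⊢
    refine ⟨fun {U} t => ?_⟩
    obtain ⟨V, k, hk⟩ := exists_surj_of_propC f hC U
    have hR := Presheaf.imageSieve_mem Y.smallEtaleTopology ((EtDesc.pushSh f).map a).hom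
      (U := op V) (G.obj.map k.op t)
    have hR' := (EtCoh.coverPreserving_bc f).cover_preserve hR
    refine X.smallEtaleTopology.transitive (generate_singleton_mem k hk) _ ?_
    rintro Z _ ⟨Z', l', _, ⟨⟩, rfl⟩
    rw [Sieve.pullback_comp]
    apply X.smallEtaleTopology.pullback_stable
    refine X.smallEtaleTopology.superset_covering ?_ hR'
    rintro Z m ⟨V', w, n, hw, rfl⟩
    obtain ⟨s', hs'⟩ : ∃ s' : F.obj.obj (op ((EtCoh.bc f).obj V')),
        a.hom.app (op ((EtCoh.bc f).obj V')) s' =
          G.obj.map ((EtCoh.bc f).map w).op (G.obj.map k.op t) := hw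
    refine ⟨F.obj.map n.op s', ?_⟩
    have n1 := ConcreteCategory.congr_hom (a.hom.naturality n.op) s'
    simp only [types_comp_apply] at n1
    rw [n1, hs']
    simp only [← Functor.map_comp_apply, ← op_comp, Category.assoc]

end Groth.Agent.S6631
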