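import Groth.Statements.S6632

set_option autoImplicit false
open CategoryTheory CategoryTheory.Limits AlgebraicGeometry Opposite
universe u
open EtCore

namespace Groth.Agent.S6632

section Aux

variable {X Y : Scheme.{u}}

set_option backward.isDefEq.respectTransparency.types false in
/-- Pointwise criterion for covering sieves of the small etale site. -/
lemma mem_smallEtale_iff (W : X.Etale) (R : Sieve W) :
    R ∈ X.smallEtaleTopology W ↔
      ∀ x : W.left, ∃ (Z : X.Etale) (k : Z ⟶ W) (z : Z.left), R k ∧ k.left z = x := by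
  have eX : X.smallEtaleTopology =
      (X.smallPretopology (P := EtCoh.etaleMP) (Q := EtCoh.etaleMP)).toGrothendieck :=
    Scheme.smallGrothendieckTopology_eq_toGrothendieck_smallPretopology X le_rfl
  constructor
  · intro h x
    rw [eX] at h
    obtain ⟨Z, k, z, hk, -, hz⟩ := (Scheme.mem_toGrothendieck_smallPretopology W R).1 h x
    exact ⟨Z, k, z, hk, hz⟩
  · intro h
    rw [eX]
    refine (Scheme.mem_toGrothendieck_smallPretopology W R).2 fun x => ?_
    obtain ⟨Z, k, z, hk, hz⟩ := h x
    exact ⟨Z, k, z, hk, inferInstance, hz⟩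

/-- The empty sieve covers an object with empty underlying space. -/
lemma bot_mem_of_isEmpty (W : X.Etale) [IsEmpty W.left] : (⊥ : Sieve W) ∈ X.smallEtaleTopology W := by
  rw [mem_smallEtale_iff]
  intro x
  exact (IsEmpty.false x).elim

set_option backward.isDefEq.respectTransparency false in
theorem result_aux {X Y : Scheme.{u}} (f : X ⟶ Y)
    (hC : ∀ (V : Scheme.{u}) (v : V ⟶ Y) [Etale v], BigSite.PropC (pullback.snd f v))
    (hcl : ∀ (V : Scheme.{u}) (v : V ⟶ Y) [Etale v], IsClosedMap (pullback.snd f v).base) :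
    BigSite.IsAlmostCocontinuous (EtCoh.bc f) Y.smallEtaleTopology X.smallEtaleTopology := by
  intro U R hR
  let R' : Sieve U :=
    { arrows := fun V g => (⊥ : Sieve ((EtCoh.bc f).obj V)) ∈ X.smallEtaleTopology _ ∨
        R ((EtCoh.bc f).map g)
      downward_closed := by
        intro V V' g hg l
        rcases hg with hg | hg
        · left
          have := X.smallEtaleTopology.pullback_stable ((EtCoh.bc f).map l) hg
          rwa [Sieve.pullback_bot] at this
        · right
          rw [Functor.map_comp]
          exact R.downward_closed hg _ }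
  refine ⟨R', ?_, fun V g hg => hg⟩
  rw [mem_smallEtale_iff]
  intro y
  let q : ((EtCoh.bc f).obj U).left ⟶ U.left := pullback.fst U.hom f
  let σ := pullbackSymmetry U.hom f
  have hq : q = σ.hom ≫ pullback.snd f U.hom := (pullbackSymmetry_hom_comp_snd U.hom f).symm
  by_cases hy : y ∈ Set.range q
  · obtain ⟨x, rfl⟩ := hy
    obtain ⟨Z, k, z, hk, rfl⟩ := (mem_smallEtale_iff _ R).1 hR x
    obtain ⟨V₀, v, hv, h, hh, hs⟩ := hC U.left U.hom Z.left (k.left ≫ σ.hom)
    let V' : Y.Etale := Scheme.Etale.mk (v ≫ U.hom)
    let g : V' ⟶ U := MorphismProperty.Over.homMk v rfl trivial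
    obtain ⟨t, ht⟩ := hs.surj z
    refine ⟨V', g, (pullback.snd (pullback.snd f U.hom) v) t, ?_, ?_⟩
    · right
      let bg : pullback (v ≫ U.hom) f ⟶ pullback U.hom f := ((EtCoh.bc f).map g).left
      have hbg : bg ≫ pullback.fst U.hom f = pullback.fst (v ≫ U.hom) f ≫ v :=
        (EtCoh.isPullback_bc_map f g).w
      let θ : pullback (v ≫ U.hom) f ⟶ pullback (pullback.snd f U.hom) v :=
        pullback.lift (bg ≫ σ.hom) (pullback.fst (v ≫ U.hom) f) (by
          rw [Category.assoc, pullbackSymmetry_hom_comp_snd]; exact hbg)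
      have e1 : (θ ≫ h) ≫ k.left = bg := by
        rw [← cancel_mono σ.hom, Category.assoc, Category.assoc, hh]
        exact pullback.lift_fst _ _ _
      have e2 : (θ ≫ h) ≫ Z.hom = ((EtCoh.bc f).obj V').hom := by
        have hk' : k.left ≫ ((EtCoh.bc f).obj U).hom = Z.hom := Over.w k.hom
        have hg' : bg ≫ ((EtCoh.bc f).obj U).hom = ((EtCoh.bc f).obj V').hom :=
          Over.w ((EtCoh.bc f).map g).hom
        rw [← hk', ← Category.assoc, e1, hg']
      let m : (EtCoh.bc f).obj V' ⟶ Z := MorphismProperty.Over.homMk (θ ≫ h) e2 trivial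
      have hm : m ≫ k = (EtCoh.bc f).map g := by
        apply MorphismProperty.Over.Hom.ext
        exact e1
      rw [← hm]
      exact R.downward_closed hk m
    · change v ((pullback.snd (pullback.snd f U.hom) v) t) = q (k.left z)
      rw [← ht]
      simp only [← Scheme.Hom.comp_apply]
      congr 1
      rw [hq, ← pullback.condition, ← hh]
      simp only [Category.assoc]
  · have hclq : IsClosedMap q := by
      rw [hq, Scheme.Hom.comp_base, TopCat.coe_comp]
      exact (hcl U.left U.hom).comp σ.hom.homeomorph.isClosedMap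
    let W₀ : U.left.Opens := ⟨(Set.range q)ᶜ, hclq.isClosed_range.isOpen_compl⟩
    let V' : Y.Etale := Scheme.Etale.mk (W₀.ι ≫ U.hom)
    let g : V' ⟶ U := MorphismProperty.Over.homMk W₀.ι rfl trivial
    refine ⟨V', g, ⟨y, hy⟩, ?_, rfl⟩
    left
    have : IsEmpty ((EtCoh.bc f).obj V').left := by
      refine ⟨fun t => ?_⟩
      let a := (pullback.fst (W₀.ι ≫ U.hom) f) t
      let b := (pullback.snd (W₀.ι ≫ U.hom) f) t
      have hab : U.hom (W₀.ι a) = f b := by
        calc U.hom (W₀.ι a) = (pullback.fst (W₀.ι ≫ U.hom) f ≫ W₀.ι ≫ U.hom) t := rfl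
          _ = (pullback.snd (W₀.ι ≫ U.hom) f ≫ f) t :=
            congrArg (fun m : pullback (W₀.ι ≫ U.hom) f ⟶ Y => m t) pullback.condition
          _ = f b := rfl
      obtain ⟨x, hx1, -⟩ := Scheme.Pullback.exists_preimage_pullback (f := U.hom) (g := f) _ _ hab
      exact a.2 ⟨x, hx1⟩
    exact bot_mem_of_isEmpty _

end Aux

/-- Let f : X ⟶ Y be a morphism of schemes such that, for every etale V ⟶ Y, the base change X ×_Y V ⟶ V
satisfies condition (C) (for every etale U ⟶ X ×_Y V there are an etale V' ⟶ V and a surjective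
morphism from the base change of V' to U over X ×_Y V) and is closed as a map of topological spaces.
Then the base change functor V ↦ X ×_Y V from the small etale site of Y to that of X is almost
cocontinuous: every covering sieve of X ×_Y V contains the images of the members of some covering
sieve of V, except for members V' for which X ×_Y V' is covered by the empty sieve. -/
theorem result {X Y : Scheme.{u}} (f : X ⟶ Y)
    (hC : ∀ (V : Scheme.{u}) (v : V ⟶ Y) [Etale v], BigSite.PropC (pullback.snd f v))
    (hcl : ∀ (V : Scheme.{u}) (v : V ⟶ Y) [Etale v], IsClosedMap (pullback.snd f v).base) :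
    BigSite.IsAlmostCocontinuous (EtCoh.bc f) Y.smallEtaleTopology X.smallEtaleTopology :=
  result_aux f hC hcl

end Groth.Agent.S6632
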