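import Groth.Statements.S6634
import Groth.Agent.Lib.EtPushEpi39
import Groth.Agent.Lib.PropB34

set_option autoImplicit false
open CategoryTheory CategoryTheory.Limits AlgebraicGeometry Opposite
universe u
open EtCore

namespace Groth.Agent.S6634

/-- For an integral morphism of schemes f : X ⟶ Y the direct image along f of abelian sheaves on the
small etale sites sends epimorphisms to epimorphisms. (The published statement also covers sheaves
of sets; this row treats abelian sheaves only.) -/
theorem result {X Y : Scheme.{u}} (f : X ⟶ Y) [IsIntegralHom f] :
    (EtCoh.push f).PreservesEpimorphisms :=
  Groth.Agent.Lib.EtPushEpi39.push_preservesEpimorphisms_of_propB f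
    (Groth.Agent.Lib.PropB34.propB_integral f)

end Groth.Agent.S6634
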