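import Groth.Statements.S6637
import Groth.Agent.Lib.BigSiteMonoCounit

set_option autoImplicit false
open CategoryTheory CategoryTheory.Limits AlgebraicGeometry Opposite
universe u
open BigSite

namespace Groth.Agent.S6637

/-- For the Zariski, etale, smooth and fppf topologies: for a monomorphism of schemes f : X ⟶ Y the
counit f_big⁻¹ f_big,* F ⟶ F is an isomorphism for every sheaf of sets F on the big site of X, and
for every abelian sheaf. (The published statement also covers the syntomic topology; this row treats
the Zariski, etale, smooth and fppf topologies only.) -/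
theorem result {X Y : Scheme.{u}} (f : X ⟶ Y) [Mono f]
    (K : Precoverage Scheme.{u}) (hK : K = Scheme.zariskiPrecoverage ∨ K = Scheme.etalePrecoverage ∨
      K = Scheme.precoverage @Smooth ∨ K = Scheme.fppfPrecoverage) :
    (∀ F : QuotSh.Sh K X, IsIso ((BigSite.bigAdj K f (Type (u + 1))).counit.app F)) ∧
      (∀ F : BigSite.Ab K X, IsIso ((BigSite.bigAdj K f AddCommGrpCat.{u + 1}).counit.app F)) := by
  refine ⟨fun F => ?_, fun F => ?_⟩
  · exact Groth.Agent.Lib.BigSiteMonoCounit.isIso_counit_app (Over.mapPullbackAdj f)
      (QuotSh.J K X) (QuotSh.J K Y) (Type (u + 1)) F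
  · exact Groth.Agent.Lib.BigSiteMonoCounit.isIso_counit_app (Over.mapPullbackAdj f)
      (QuotSh.J K X) (QuotSh.J K Y) AddCommGrpCat.{u + 1} F

end Groth.Agent.S6637
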