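import Groth.Statements.S6639
import Groth.Agent.Lib.SigmaLin

set_option autoImplicit false
universe u
open scoped TensorProduct
open EtBase

namespace Groth.Agent.S6639

open Groth.Agent.Lib.SigmaLin Polynomial

/-- In a field of characteristic `p`, the roots of `X^p - X` are the images of `0, …, p-1`. -/
theorem exists_nat_of_pow_eq {L : Type*} [Field L] (p : ℕ) [Fact p.Prime] [CharP L p] (c : L)
    (hc : c ^ p = c) : ∃ j : ℕ, (j : L) = c := by
  classical
  have hp1 : 1 < p := (Fact.out : p.Prime).one_lt
  set P : L[X] := X ^ p - X with hP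
  have hP0 : P ≠ 0 := FiniteField.X_pow_card_sub_X_ne_zero L hp1
  have hdeg : P.natDegree = p := FiniteField.X_pow_card_sub_X_natDegree_eq L hp1
  let A : Finset L := (Finset.range p).image (fun j : ℕ => (j : L))
  have hAcard : A.card = p := by
    rw [Finset.card_image_of_injOn, Finset.card_range]
    intro a ha b hb hab
    exact CharP.natCast_injOn_Iio L p (by simpa using ha) (by simpa using hb) hab
  have hroot : ∀ x : L, x ^ p = x → x ∈ P.roots.toFinset := by
    intro x hx
    rw [Multiset.mem_toFinset, mem_roots hP0, IsRoot.def, hP, eval_sub, eval_pow, eval_X, hx,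
      sub_self]
  have hsub : A ⊆ P.roots.toFinset := by
    intro x hx
    obtain ⟨j, -, rfl⟩ := Finset.mem_image.mp hx
    apply hroot
    have := map_natCast (frobenius L p) j
    rwa [frobenius_def] at this
  have hle : P.roots.toFinset.card ≤ A.card := by
    rw [hAcard]
    exact (Multiset.toFinset_card_le _).trans ((card_roots' P).trans hdeg.le)
  have hEq := Finset.eq_of_subset_of_card_le hsub hle
  have hcA : c ∈ A := by rw [hEq]; exact hroot c hc
  obtain ⟨j, -, hj⟩ := Finset.mem_image.mp hcA
  exact ⟨j, hj⟩


/-- Let k ⟶ k' be a homomorphism of algebraically closed fields of characteristic p > 0 (an extension of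
algebraically closed fields), V a finite-dimensional k-vector space, F : V ⟶ V additive with F(c •
v) = c^p • F(v), and F' the additive endomorphism of V' = k' ⊗_k V satisfying F'(c ⊗ v) = c^p ⊗
F(v). Then v ↦ 1 ⊗ v maps the fixed vectors of F bijectively onto the fixed vectors of F'. -/
theorem result {k k' V : Type u} [Field k] [IsAlgClosed k] [Field k']
    [IsAlgClosed k'] [Algebra k k'] (p : ℕ) [Fact p.Prime] [CharP k p]
    [AddCommGroup V] [Module k V] [FiniteDimensional k V] (F : V →+ V)
    (hF : ∀ (c : k) (v : V), F (c • v) = c ^ p • F v)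
    (F' : k' ⊗[k] V →+ k' ⊗[k] V) (hF' : ∀ (c : k') (v : V), F' (c ⊗ₜ[k] v) = (c ^ p) ⊗ₜ[k] F v) :
    Set.BijOn (fun v : V => (1 : k') ⊗ₜ[k] v) {v : V | F v = v} {w : k' ⊗[k] V | F' w = w} := by
  have hchar : CharP k' p := charP_of_injective_algebraMap (algebraMap k k').injective p
  -- functionals
  have hΨ : ∀ (φ : V →ₗ[k] k) (c : k') (v : V),
      ((Algebra.linearMap k k' ∘ₗ φ).liftBaseChange k') (c ⊗ₜ[k] v) = c * algebraMap k k' (φ v) := by
    intro φ c v
    rw [LinearMap.liftBaseChange_tmul]
    rfl
  refine ⟨?_, ?_, ?_⟩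
  · intro v hv
    change F' ((1 : k') ⊗ₜ[k] v) = (1 : k') ⊗ₜ[k] v
    rw [hF', one_pow, show F v = v from hv]
  · intro v _ v' _ hvv'
    change (1 : k') ⊗ₜ[k] v = (1 : k') ⊗ₜ[k] v' at hvv'
    rw [← sub_eq_zero, ← Module.forall_dual_apply_eq_zero_iff k]
    intro φ
    have h1 := congrArg ((Algebra.linearMap k k' ∘ₗ φ).liftBaseChange k') hvv'
    rw [hΨ, hΨ, one_mul, one_mul] at h1
    rw [map_sub, sub_eq_zero]
    exact (algebraMap k k').injective h1
  · intro w hw
    change F' w = w at hw
    let σ : k →+* k := frobenius k p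
    let T : V →ₛₗ[σ] V :=
      { toFun := F
        map_add' := F.map_add
        map_smul' := fun c v => hF c v }
    have hTF : ∀ v, T v = F v := fun _ => rfl
    have hσ : Function.Surjective σ := surjective_frobenius k p
    have h2 : Solvable₂ σ := solvable₂_of_pow (p := p) (fun x => rfl)
    have h3 : Solvable₃ σ := solvable₃_of_pow (p := p) (fun x => rfl)
    set W : Submodule k V := ⨅ n : ℕ, S T n with hW
    obtain ⟨b, hb⟩ : ∃ b : Module.Basis (Fin (Module.finrank k W)) k W,
        ∀ i, T (b i : V) = (b i : V) := (sub_surjective_and_exists_fixed_basis T hσ h2 h3).2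
    obtain ⟨N, hN⟩ := exists_S_stable T
    -- iterates of F' on pure tensors
    have hiter : ∀ (n : ℕ) (c : k') (v : V), (⇑F')^[n] (c ⊗ₜ[k] v) = (c ^ p ^ n) ⊗ₜ[k] (⇑T)^[n] v := by
      intro n
      induction n with
      | zero => intro c v; simp
      | succ n ih =>
        intro c v
        rw [Function.iterate_succ_apply', ih, hF', Function.iterate_succ_apply', ← pow_mul,
          ← pow_succ, hTF]
    have hmem : ∀ (n : ℕ) (x : k' ⊗[k] V), (⇑F')^[n] x ∈ (S T n).baseChange k' := by
      intro n x
      induction x using TensorProduct.induction_on with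
      | zero =>
        rw [iterate_map_zero]
        exact Submodule.zero_mem _
      | tmul c v =>
        rw [hiter]
        exact Submodule.tmul_mem_baseChange_of_mem _ (iter_mem_S T n v)
      | add x y hx hy =>
        rw [iterate_map_add]
        exact Submodule.add_mem _ hx hy
    have hwW : w ∈ W.baseChange k' := by
      have h1 := hmem N w
      rw [Function.iterate_fixed hw, ← iInf_S_eq T hN] at h1
      exact h1
    -- write w in terms of the fixed basis
    have hspan : W.baseChange k' ≤
        Submodule.span k' (Set.range fun i => (1 : k') ⊗ₜ[k] ((b i : W) : V)) := by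
      rw [Submodule.baseChange_eq_span, Submodule.span_le]
      rintro _ ⟨x, hx, rfl⟩
      have hx' : (⟨x, hx⟩ : W) = ∑ i, b.repr ⟨x, hx⟩ i • b i := (b.sum_repr ⟨x, hx⟩).symm
      have hx'' : x = ∑ i, b.repr ⟨x, hx⟩ i • ((b i : W) : V) := by
        have := congrArg (Submodule.subtype W) hx'
        rw [map_sum] at this
        simp only [map_smul, Submodule.subtype_apply] at this
        exact this
      rw [hx'']
      change (TensorProduct.mk k k' V 1) _ ∈ _
      rw [map_sum]
      refine Submodule.sum_mem _ fun i _ => ?_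
      rw [map_smul]
      change (b.repr ⟨x, hx⟩ i) • ((1 : k') ⊗ₜ[k] ((b i : W) : V)) ∈ _
      rw [← algebraMap_smul k' (b.repr ⟨x, hx⟩ i)]
      exact Submodule.smul_mem _ _ (Submodule.subset_span ⟨i, rfl⟩)
    obtain ⟨c, hc⟩ := (Submodule.mem_span_range_iff_exists_fun k').mp (hspan hwW)
    -- semilinearity of F'
    have hsemi : ∀ (a : k') (x : k' ⊗[k] V), F' (a • x) = a ^ p • F' x := by
      intro a x
      induction x using TensorProduct.induction_on with
      | zero => simp
      | tmul d v =>
        rw [TensorProduct.smul_tmul', hF', hF', TensorProduct.smul_tmul', smul_eq_mul, smul_eq_mul,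
          mul_pow]
      | add x y hx hy => rw [smul_add, map_add, hx, hy, map_add, smul_add]
    have hF'w : F' w = ∑ i, (c i) ^ p • ((1 : k') ⊗ₜ[k] ((b i : W) : V)) := by
      rw [← hc, map_sum]
      refine Finset.sum_congr rfl fun i _ => ?_
      rw [hsemi, hF', one_pow, ← hTF, hb i]
    -- coordinates via functionals
    obtain ⟨g, hg⟩ := LinearMap.exists_leftInverse_of_injective W.subtype
      (LinearMap.ker_eq_bot.mpr W.injective_subtype)
    have hgb : ∀ i, g ((b i : W) : V) = b i := fun i => by
      have := LinearMap.congr_fun hg (b i)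
      simpa using this
    have hcoord : ∀ (d : Fin (Module.finrank k W) → k') (j : Fin (Module.finrank k W)),
        ((Algebra.linearMap k k' ∘ₗ (b.coord j ∘ₗ g)).liftBaseChange k')
          (∑ i, d i • ((1 : k') ⊗ₜ[k] ((b i : W) : V))) = d j := by
      intro d j
      rw [map_sum]
      rw [Finset.sum_eq_single j]
      · rw [map_smul, hΨ, LinearMap.comp_apply, hgb, Module.Basis.coord_apply,
          Module.Basis.repr_self, Finsupp.single_eq_same, map_one, mul_one, smul_eq_mul, mul_one]
      · intro i _ hij
        rw [map_smul, hΨ, LinearMap.comp_apply, hgb, Module.Basis.coord_apply,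
          Module.Basis.repr_self, Finsupp.single_apply, if_neg hij, map_zero, mul_zero, smul_zero]
      · intro h; exact absurd (Finset.mem_univ j) h
    have hcp : ∀ j, (c j) ^ p = c j := by
      intro j
      have h1 := hcoord (fun i => (c i) ^ p) j
      have h2 := hcoord c j
      rw [← hF'w, hw] at h1
      rw [hc] at h2
      rw [← h1, h2]
    choose a ha using fun j => exists_nat_of_pow_eq p (c j) (hcp j)
    refine ⟨∑ i, ((a i : ℕ) : k) • ((b i : W) : V), ?_, ?_⟩
    · change F (∑ i, ((a i : ℕ) : k) • ((b i : W) : V)) = _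
      rw [map_sum]
      refine Finset.sum_congr rfl fun i _ => ?_
      rw [hF, ← hTF, hb i]
      congr 1
      have := map_natCast (frobenius k p) (a i)
      rwa [frobenius_def] at this
    · change (1 : k') ⊗ₜ[k] (∑ i, ((a i : ℕ) : k) • ((b i : W) : V)) = w
      rw [TensorProduct.tmul_sum, ← hc]
      refine Finset.sum_congr rfl fun i _ => ?_
      rw [TensorProduct.tmul_smul, ← algebraMap_smul k' ((a i : ℕ) : k), map_natCast, ha]

end Groth.Agent.S6639
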