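import Groth.Statements.S6640
import Groth.Agent.Lib.EtConstStalk
import Groth.Agent.Lib.EtMuConst
import Mathlib.AlgebraicGeometry.Morphisms.UniversallyOpen

set_option autoImplicit false
open CategoryTheory CategoryTheory.Limits AlgebraicGeometry Opposite
universe u
open EtCore

namespace Groth.Agent.S6640

/-- Let X be an irreducible scheme, ξ a geometric point over its generic point, A' an additive subgroup
of an abelian group A, and G an abelian sheaf on the small etale site of X with monomorphisms a :
const A' ⟶ G and b : G ⟶ const A whose composite is the map of constant sheaves induced by the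
inclusion. If the stalk of a at ξ is an isomorphism, then a is an isomorphism. -/
theorem result {X : Scheme.{u}} [IrreducibleSpace ↥X]
    {Ω : Type u} [Field Ω] [IsSepClosed Ω] (ξ : Spec (CommRingCat.of Ω) ⟶ X)
    (hξ : ξ.base default = genericPoint ↥X)
    (A : Type) [AddCommGroup A] (A' : AddSubgroup A) (G : EtCoh.Ab X)
    (a : EtCoh.const X ↥A' ⟶ G) (b : G ⟶ EtCoh.const X A) [Mono a] [Mono b]
    (hab : a ≫ b = (constantSheaf X.smallEtaleTopology AddCommGrpCat.{u + 1}).map
      (AddCommGrpCat.ofHom (AddEquiv.ulift.symm.toAddMonoidHom.comp (A'.subtype.comp AddEquiv.ulift.toAddMonoidHom))))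
    (hst : IsIso ((EtCoh.stalk ξ).map a)) : IsIso a := by
  open Groth.Agent.Lib.EtGerm Groth.Agent.Lib.EtConst Groth.Agent.Lib.EtRootCover
    Groth.Agent.Lib.EtMuConst in
  have hepi : Epi a := by
    apply epi_of_forall_exists_lift
    intro V t v
    -- `b t` is locally constant
    obtain ⟨W, g, α, hv, hα⟩ := exists_constSec_eq_pt (AddCommGrpCat.of (ULift.{u + 1} A))
      (b.hom.app (op V) t) v
    -- a geometric point of `W` over the generic point
    obtain ⟨w₀, hw₀⟩ := hv
    have hopen : IsOpen (Set.range W.hom.base) := W.hom.isOpenMap.isOpen_range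
    have hgen : genericPoint ↥X ∈ Set.range W.hom.base := by
      rw [(genericPoint_spec ↥X).mem_open_set_iff hopen]
      exact ⟨W.hom.base w₀, trivial, ⟨w₀, rfl⟩⟩
    obtain ⟨w', hw'⟩ := hgen
    obtain ⟨z, -⟩ := exists_nbhd_of_pt ξ W w' (hw'.trans hξ.symm)
    -- the germ of `t` at `z` comes from `A'`
    have hsurj : Function.Surjective ((EtCoh.stalk ξ).map a) := by
      have : Epi ((EtCoh.stalk ξ).map a) := inferInstance
      exact (AddCommGrpCat.epi_iff_surjective _).1 this
    obtain ⟨p, hp⟩ := hsurj (germ ξ G z (G.obj.map g.op t))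
    obtain ⟨β, rfl⟩ := constGerm_surjective ξ (AddCommGrpCat.of (ULift.{u + 1} ↥A')) p
    -- compare in the stalk of `const A`
    have h1 : (EtCoh.stalk ξ).map b ((EtCoh.stalk ξ).map a (constGerm ξ _ β)) =
        constGerm ξ (AddCommGrpCat.of (ULift.{u + 1} A)) α := by
      rw [hp, germ_naturality]
      have hnat := b.hom.naturality g.op
      have h2 : b.hom.app (op W) (G.obj.map g.op t) =
          (EtCoh.const X A).obj.map g.op (b.hom.app (op V) t) :=
        congrArg (fun f => f.hom t) hnat
      rw [h2]
      have h3 : (EtCoh.const X A).obj.map g.op (b.hom.app (op V) t) = constSec _ W α := hα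
      rw [h3, germ_constSec]
    have h4 : (EtCoh.stalk ξ).map b ((EtCoh.stalk ξ).map a (constGerm ξ _ β)) =
        (EtCoh.stalk ξ).map (a ≫ b) (constGerm ξ _ β) := by
      rw [Functor.map_comp]
      rfl
    rw [h4, hab, stalk_map_constGerm] at h1
    have h5 := constGerm_injective ξ _ h1
    -- the lift
    refine ⟨W, g, constSec _ W β, ⟨w₀, hw₀⟩, ?_⟩
    apply injective_app_of_mono b
    have h6 : b.hom.app (op W) (a.hom.app (op W) (constSec _ W β)) =
        (a ≫ b).hom.app (op W) (constSec _ W β) := rfl
    have hnat := b.hom.naturality g.op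
    have h7 : b.hom.app (op W) (G.obj.map g.op t) =
        (EtCoh.const X A).obj.map g.op (b.hom.app (op V) t) :=
      congrArg (fun f => f.hom t) hnat
    rw [h6, h7, hab, constSec_map, h5]
    exact hα.symm
  exact isIso_of_mono_of_epi a

end Groth.Agent.S6640
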