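import Groth.Statements.S6642
import Groth.Agent.Lib.EtLocConst22b

set_option autoImplicit false
open CategoryTheory CategoryTheory.Limits AlgebraicGeometry Opposite
universe u
open EtCore

namespace Groth.Agent.S6642

/-- Abelian sheaves and sheaves of modules: for a morphism of schemes f : X ⟶ Y, inverse image along f
on the small etale sites preserves locally constant abelian sheaves, finite locally constant abelian
sheaves, and finite type locally constant sheaves of Λ-modules. (The published statement also covers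
sheaves of sets and all locally constant sheaves of modules; this row treats the abelian and
finite-type module cases.) -/
theorem result {X Y : Scheme.{u}} (f : X ⟶ Y) :
    (∀ G : EtCoh.Ab Y, EtRest.IsLocallyConstant G → EtRest.IsLocallyConstant ((EtCoh.pull f).obj G)) ∧
    (∀ G : EtCoh.Ab Y, EtCoh.IsFiniteLocallyConstant G → EtCoh.IsFiniteLocallyConstant ((EtCoh.pull f).obj G)) ∧
    (∀ (Λ : Type (u + 1)) [CommRing Λ] (G : EtModW.Mod Λ Y),
      EtModW.IsFTLocConst Λ G → EtModW.IsFTLocConst Λ ((EtModW.pull Λ f).obj G)) := by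
  have key : ∀ {Z : Scheme.{u}} (G : EtCoh.Ab Z), EtRest.IsLocallyConstant G ↔
      Groth.Agent.Lib.EtLocConst22.IsLC AddCommGrpCat.{u + 1} (fun _ => True) G := by
    intro Z G
    constructor
    · rintro ⟨ι, U, hU, h⟩
      refine ⟨ι, U, hU, fun i => ?_⟩
      obtain ⟨M, i1, hiso⟩ := h i
      exact ⟨AddCommGrpCat.of M, trivial, hiso⟩
    · rintro ⟨ι, U, hU, h⟩
      refine ⟨ι, U, hU, fun i => ?_⟩
      obtain ⟨M, -, hiso⟩ := h i
      exact ⟨M, inferInstance, hiso⟩
  refine ⟨fun G hG => ?_, fun G hG => ?_, fun Λ _ G hG => ?_⟩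
  · exact (key _).2 (((key G).1 hG).pull f)
  · exact Groth.Agent.Lib.EtLocConst22.isFLC_pull f hG
  · exact Groth.Agent.Lib.EtLocConst22.isFTLC_pull Λ f hG

end Groth.Agent.S6642
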