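import Groth.Statements.S6645
import Groth.Agent.Lib.EtExt22d

set_option autoImplicit false
open CategoryTheory CategoryTheory.Limits AlgebraicGeometry Opposite
universe u
open EtCore

namespace Groth.Agent.S6645

/-- On the small etale site of a scheme, kernels and cokernels of maps between finite locally constant
abelian sheaves are finite locally constant, and the property of being finite locally constant is
closed under extensions (a weak Serre subcategory). -/
theorem result (X : Scheme.{u}) :
    (∀ (F G : EtCoh.Ab X) (φ : F ⟶ G), EtCoh.IsFiniteLocallyConstant F → EtCoh.IsFiniteLocallyConstant G →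
      EtCoh.IsFiniteLocallyConstant (kernel φ) ∧ EtCoh.IsFiniteLocallyConstant (cokernel φ)) ∧
    ObjectProperty.IsClosedUnderExtensions (fun F : EtCoh.Ab X => EtCoh.IsFiniteLocallyConstant F) := by
  refine ⟨fun F G φ hF hG => ⟨Groth.Agent.Lib.EtLCKer22.isFLC_kernel φ hF hG,
    Groth.Agent.Lib.EtLCKer22.isFLC_cokernel φ hF hG⟩, ⟨fun {S} hS h₁ h₃ => ?_⟩⟩
  exact Groth.Agent.Lib.EtExt22.isFLC_of_ext' S hS h₁ h₃

end Groth.Agent.S6645
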