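import Groth.Statements.S6648
import Groth.Agent.Lib.EtGerm
import Mathlib.AlgebraicGeometry.Morphisms.UniversallyOpen

set_option autoImplicit false
open CategoryTheory CategoryTheory.Limits AlgebraicGeometry Opposite
universe u
open EtCore

namespace Groth.Agent.S6648

/-- For a sheaf of (commutative) rings O on the small etale site of a scheme S, the set of points s of S
over which some geometric stalk of O is a nonzero ring is closed in S. (Rings are taken in the
universe of the schemes, as for the structure presheaf of the prelude.) -/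
theorem result {S : Scheme.{u}} (O : Sheaf S.smallEtaleTopology CommRingCat.{u}) :
    IsClosed {s : ↥S | ∃ (Ω : Type u) (_ : Field Ω) (_ : IsSepClosed Ω) (ξ : Spec (CommRingCat.of Ω) ⟶ S),
      ξ.base default = s ∧ Nontrivial ↑((Scheme.pointSmallEtale ξ).presheafFiber.obj O.obj)} := by
  open Groth.Agent.Lib.EtGerm Groth.Agent.Lib.EtStalkConservative in
  rw [← isOpen_compl_iff, isOpen_iff_forall_mem_open]
  intro s hs
  have h1 : ¬ Nontrivial ↑((Scheme.pointSmallEtale (stdPt s)).presheafFiber.obj O.obj) :=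
    fun hN => hs ⟨_, _, _, stdPt s, stdPt_default s, hN⟩
  rw [not_nontrivial_iff_subsingleton] at h1
  obtain ⟨y, -⟩ := exists_nbhd_of_pt (stdPt s) (EtCoh.top S) s (stdPt_default s).symm
  have h2 : (Scheme.pointSmallEtale (stdPt s)).toPresheafFiber (EtCoh.top S) y O.obj 1 =
      (Scheme.pointSmallEtale (stdPt s)).toPresheafFiber (EtCoh.top S) y O.obj 0 :=
    Subsingleton.elim _ _
  obtain ⟨V, g, z, -, hg⟩ :=
    ((Scheme.pointSmallEtale (stdPt s)).toPresheafFiber_eq_iff' (P := O.obj) _ y 1 0).1 h2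
  have h3 : (1 : O.obj.obj (op V)) = 0 := by
    rw [map_one, map_zero] at hg
    exact hg
  refine ⟨Set.range V.hom.base, ?_, V.hom.isOpenMap.isOpen_range,
    ⟨Nbhd.pt (stdPt s) z, (Nbhd.hom_pt (stdPt s) z).trans (stdPt_default s)⟩⟩
  rintro _ ⟨v, rfl⟩ ⟨Ω, _, _, ξ, hξ, hN⟩
  obtain ⟨w, -⟩ := exists_nbhd_of_pt ξ V v hξ.symm
  have h4 := congrArg ((Scheme.pointSmallEtale ξ).toPresheafFiber V w O.obj) h3
  rw [map_one, map_zero] at h4
  exact one_ne_zero h4

end Groth.Agent.S6648
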