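import Groth.Statements.S6649
import Groth.Agent.Lib.H30DimField
import Groth.Agent.Lib.C1Brauer
import Groth.Agent.Lib.CiTrdeg
import Groth.Agent.S0212

set_option autoImplicit false
open CategoryTheory CategoryTheory.Limits AlgebraicGeometry Opposite
universe u
open Curves

namespace Groth.Agent.S6649

open Groth.Agent.Lib.H30DimField

theorem isCr_of_isCi {K : Type*} [Field K] (h : Curves.IsCi K 1) : Curves.IsCr K 1 := by
  intro n d f hf hd hlt
  obtain ⟨a, ha, h⟩ := h 1 n (fun _ => f) (fun _ => d) (fun _ => hf) (fun _ => hd)
    (by simpa using hlt)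
  exact ⟨a, ha, h 0⟩


/-- For a curve C over an algebraically closed field k (C integral of dimension one, separated and of
finite type over k) the Brauer group of the function field of C is zero: every finite-dimensional
central division algebra over the function field has dimension one. -/
theorem result (k : Type u) [Field k] [IsAlgClosed k] (C : Scheme.{u})
    (f : C ⟶ Spec (CommRingCat.of k)) [IsSeparated f] [LocallyOfFiniteType f] [QuasiCompact f] [IsIntegral C]
    (hdim : topologicalKrullDim ↥C = 1)
    (D : Type u) [DivisionRing D] [Algebra ↑C.functionField D] [Algebra.IsCentral ↑C.functionField D]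
    [FiniteDimensional ↑C.functionField D] : Module.finrank ↑C.functionField D = 1 := by
  letI : C.Over (Spec (CommRingCat.of k)) := ⟨f⟩
  haveI : LocallyOfFiniteType (C ↘ Spec (CommRingCat.of k)) := ‹LocallyOfFiniteType f›
  have h1 := krullDim_eq_td k C
  rw [hdim] at h1
  have h2 : (td k C (genericPoint C)).toNat = 1 := by exact_mod_cast h1.symm
  letI := Curv2.resAlgebra k C (genericPoint C)
  have h3 : Algebra.trdeg k (C.residueField (genericPoint C)) = 1 := by
    rw [trdeg_eq_td, h2]; simp
  have h4 : Curves.IsCi (C.residueField (genericPoint C)) 1 :=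
    Groth.Agent.S0212.result k _ 1 (by rw [h3]; rfl)
  let e : C.functionField ≃+* C.residueField (genericPoint C) :=
    RingEquiv.ofBijective (C.residue (genericPoint C)).hom
      ⟨(C.residue (genericPoint C)).hom.injective, IsLocalRing.residue_surjective⟩
  have h5 : Curves.IsCi C.functionField 1 := Groth.Agent.Lib.CiTrdeg.isCi_of_ringEquiv e.symm 1 h4
  exact Groth.Agent.Lib.C1Brauer.finrank_eq_one_of_isCr_one (isCr_of_isCi h5)

end Groth.Agent.S6649
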