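import Groth.Statements.S6686
import Groth.Agent.Lib.BigSiteInj
import Groth.Agent.Lib.DerivedComm
import Groth.Agent.Lib.OverBC

set_option autoImplicit false
universe u
open CategoryTheory CategoryTheory.Limits AlgebraicGeometry Opposite
open BigSite

namespace Groth.Agent.S6686

theorem exact_pullBig {T S : Scheme.{u}} (g : T ⟶ S) :
    PreservesFiniteLimits (BigSite.pullBig Scheme.etalePrecoverage g AddCommGrpCat.{u + 1}) ∧
    PreservesFiniteColimits (BigSite.pullBig Scheme.etalePrecoverage g AddCommGrpCat.{u + 1}) := by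
  constructor
  · have : PreservesLimitsOfSize.{0, 0} (BigSite.pullBig Scheme.etalePrecoverage g AddCommGrpCat.{u + 1}) :=
      (BigSite.shriekAbAdj Scheme.etalePrecoverage g).rightAdjoint_preservesLimits
    exact PreservesLimitsOfSize.preservesFiniteLimits _
  · have : PreservesColimitsOfSize.{0, 0} (BigSite.pullBig Scheme.etalePrecoverage g AddCommGrpCat.{u + 1}) :=
      (BigSite.bigAdj Scheme.etalePrecoverage g AddCommGrpCat.{u + 1}).leftAdjoint_preservesColimits
    exact PreservesColimitsOfSize.preservesFiniteColimits _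

theorem exact_resEt (S : Scheme.{u}) :
    PreservesFiniteLimits (BigSite.resEt Scheme.etalePrecoverage S) ∧
    PreservesFiniteColimits (BigSite.resEt Scheme.etalePrecoverage S) := by
  constructor
  · have : PreservesLimitsOfSize.{0, 0} (BigSite.resEt Scheme.etalePrecoverage S) :=
      (BigSite.piEtAdj Scheme.etalePrecoverage S).rightAdjoint_preservesLimits
    exact PreservesLimitsOfSize.preservesFiniteLimits _
  · have : PreservesColimitsOfSize.{0, 0} (BigSite.resEt Scheme.etalePrecoverage S) :=
      (BigSite.iEtAdj Scheme.etalePrecoverage S).leftAdjoint_preservesColimits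
    exact PreservesColimitsOfSize.preservesFiniteColimits _

theorem exact_resEtAlong {T S : Scheme.{u}} (g : T ⟶ S) :
    PreservesFiniteLimits (BigSite.resEtAlong Scheme.etalePrecoverage g) ∧
    PreservesFiniteColimits (BigSite.resEtAlong Scheme.etalePrecoverage g) := by
  obtain ⟨a, b⟩ := exact_pullBig g
  obtain ⟨c, d⟩ := exact_resEt T
  exact ⟨comp_preservesFiniteLimits _ _, comp_preservesFiniteColimits _ _⟩

/-- the underlying isomorphism of functors of sites -/
noncomputable def siteIso {T S T' S' : Scheme.{u}} {f : T ⟶ S} {g : S' ⟶ S}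
    {g' : T' ⟶ T} {f' : T' ⟶ S'} (c : IsPullback g' f' f g) :
    (EtFppf.a S' ⋙ Over.map g) ⋙ Over.pullback f ≅ EtCoh.bc f' ⋙ (EtFppf.a T' ⋙ Over.map g') :=
  Functor.associator _ _ _ ≪≫
    Functor.isoWhiskerLeft (EtFppf.a S') (Groth.Agent.Lib.OverBC.overBC c).symm ≪≫
    (Functor.associator _ _ _).symm ≪≫
    Functor.isoWhiskerRight
      (MorphismProperty.Over.pullbackCompForgetIso (P := EtCoh.etaleMP) (Q := ⊤) f').symm (Over.map g') ≪≫
    Functor.associator _ _ _

/-- Part (3): for an abelian sheaf and degree by degree: let f : T → S be a morphism of schemes, g : S'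
→ S a scheme over S and T' = S' ×_S T with projections g' : T' → T and f' : T' → S'. For an abelian
sheaf F on the big etale site of T and every q ≥ 0, the restriction i_g⁻¹ (R^q f_{big,*} F) to the
small etale site of S' is isomorphic to R^q f'_{small,*} (i_{g'}⁻¹ F), where i_h⁻¹ restricts a
big-etale sheaf over a base to the small etale site of a scheme h over that base. (Existence of an
isomorphism only: the comparison map is not constructed here. For g the identity of S this gives
(R^q f_{big,*} F)|_{S_et} ≅ R^q f_{small,*} (F|_{T_et}).) -/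
theorem result {T S T' S' : Scheme.{u}} (f : T ⟶ S) (g : S' ⟶ S)
    (g' : T' ⟶ T) (f' : T' ⟶ S') (c : IsPullback g' f' f g) (F : BigSite.Ab Scheme.etalePrecoverage T) (q : ℕ) :
    Nonempty ((BigSite.resEtAlong Scheme.etalePrecoverage g).obj ((BigSite.RpushBig Scheme.etalePrecoverage f q).obj F) ≅
      (EtCoh.Rpush f' q).obj ((BigSite.resEtAlong Scheme.etalePrecoverage g').obj F)) := by
  obtain ⟨l1, c1⟩ := exact_resEtAlong g
  obtain ⟨l2, c2⟩ := exact_resEtAlong g'
  have e : BigSite.pushBig Scheme.etalePrecoverage f AddCommGrpCat.{u + 1} ⋙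
      BigSite.resEtAlong Scheme.etalePrecoverage g ≅
      BigSite.resEtAlong Scheme.etalePrecoverage g' ⋙ EtCoh.push f' := by
    have i1 := Functor.isContinuous_comp (EtFppf.a S') (Over.map g)
      S'.smallEtaleTopology (QuotSh.J Scheme.etalePrecoverage S') (QuotSh.J Scheme.etalePrecoverage S)
    have i2 := Functor.isContinuous_comp (EtFppf.a S' ⋙ Over.map g) (Over.pullback f)
      S'.smallEtaleTopology (QuotSh.J Scheme.etalePrecoverage S) (QuotSh.J Scheme.etalePrecoverage T)
    have i3 := Functor.isContinuous_comp (EtFppf.a T') (Over.map g')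
      T'.smallEtaleTopology (QuotSh.J Scheme.etalePrecoverage T') (QuotSh.J Scheme.etalePrecoverage T)
    have i4 := Functor.isContinuous_comp (EtCoh.bc f') (EtFppf.a T' ⋙ Over.map g')
      S'.smallEtaleTopology T'.smallEtaleTopology (QuotSh.J Scheme.etalePrecoverage T)
    refine Functor.isoWhiskerLeft _
        (Functor.sheafPushforwardContinuousComp' (Iso.refl (EtFppf.a S' ⋙ Over.map g)) _ _ _ _) ≪≫
      Functor.sheafPushforwardContinuousComp'
        (Iso.refl ((EtFppf.a S' ⋙ Over.map g) ⋙ Over.pullback f)) _ _ _ _ ≪≫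
      Functor.sheafPushforwardContinuousIso (siteIso c) _ _ _ ≪≫
      (Functor.sheafPushforwardContinuousComp'
        (Iso.refl (EtCoh.bc f' ⋙ (EtFppf.a T' ⋙ Over.map g'))) _ _ _ _).symm ≪≫
      Functor.isoWhiskerRight
        (Functor.sheafPushforwardContinuousComp' (Iso.refl (EtFppf.a T' ⋙ Over.map g')) _ _ _ _).symm _
  exact Groth.Agent.Lib.DerivedComm.nonempty_iso
    (BigSite.pushBig Scheme.etalePrecoverage f AddCommGrpCat.{u + 1})
    (EtCoh.push f')
    (BigSite.resEtAlong Scheme.etalePrecoverage g')
    (BigSite.resEtAlong Scheme.etalePrecoverage g)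
    (fun J hJ => Groth.Agent.Lib.BigSiteInj.injective_resEtAlong g' Scheme.etalePrecoverage J) e F q

end Groth.Agent.S6686
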