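import Groth.Statements.S6689
import Groth.Agent.Lib.EtConstr22h

set_option autoImplicit false
universe u
open CategoryTheory CategoryTheory.Limits AlgebraicGeometry Opposite
attribute [local instance] HasDerivedCategory.standard
open EtModD

namespace Groth.Agent.S6689

/-- Let Λ be a Noetherian ring, f : X → Y a morphism of schemes and K an object of D(Y_et, Λ) whose
cohomology sheaves are all constructible sheaves of Λ-modules. Then all cohomology sheaves of f⁻¹ K
are constructible, where f⁻¹ on derived categories is induced by the exact inverse image functor on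
sheaves of Λ-modules (its left exactness is carried as an instance hypothesis). -/
theorem result (Λ : Type (u + 1)) [CommRing Λ] [IsNoetherianRing Λ] {X Y : Scheme.{u}}
    (f : X ⟶ Y) [PreservesFiniteLimits (EtModW.pull Λ f)] (K : EtModD.D Λ Y)
    (hK : ∀ i : ℤ, EtModW.IsConstructible Λ (EtModD.HD K i)) (i : ℤ) :
    EtModW.IsConstructible Λ (EtModD.HD ((EtModW.pull Λ f).mapDerivedCategory.obj K) i) := by
  classical
  obtain ⟨K₀, ⟨e⟩⟩ : ∃ K₀ : CochainComplex (EtModW.Mod Λ Y) ℤ,
      Nonempty (DerivedCategory.Q.obj K₀ ≅ K) :=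
    ⟨_, ⟨DerivedCategory.Q.objObjPreimageIso K⟩⟩
  let F := EtModW.pull Λ f
  -- the homology of `K₀` is constructible
  have h0 : EtModW.IsConstructible Λ (K₀.homology i) :=
    Groth.Agent.Lib.EtConstr22.isConstructibleMod_of_iso Λ
      (((DerivedCategory.homologyFunctor (EtModW.Mod Λ Y) i).mapIso e).symm ≪≫
        (DerivedCategory.homologyFunctorFactors (EtModW.Mod Λ Y) i).app K₀) (hK i)
  have h1 : EtModW.IsConstructible Λ (F.obj (K₀.homology i)) :=
    Groth.Agent.Lib.EtConstr22.isConstructibleMod_pull Λ f h0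
  have e1 : EtModD.HD (F.mapDerivedCategory.obj K) i ≅
      (((F.mapHomologicalComplex (ComplexShape.up ℤ)).obj K₀)).homology i :=
    (DerivedCategory.homologyFunctor (EtModW.Mod Λ X) i).mapIso
      (F.mapDerivedCategory.mapIso e.symm ≪≫ F.mapDerivedCategoryFactors.app K₀) ≪≫
      (DerivedCategory.homologyFunctorFactors (EtModW.Mod Λ X) i).app _
  have e2 : (((F.mapHomologicalComplex (ComplexShape.up ℤ)).obj K₀)).homology i ≅
      F.obj (K₀.homology i) := (K₀.sc i).mapHomologyIso F
  exact Groth.Agent.Lib.EtConstr22.isConstructibleMod_of_iso Λ (e1 ≪≫ e2).symm h1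

end Groth.Agent.S6689
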