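import Groth.Statements.S6696
import Groth.Agent.Lib.BigSiteInj
import Groth.Agent.Lib.DerivedComm
import Groth.Agent.Lib.OverBC

set_option autoImplicit false
universe u
open CategoryTheory CategoryTheory.Limits AlgebraicGeometry Opposite
open BigSite

namespace Groth.Agent.S6696

/-- Part (5): for an abelian sheaf and degree by degree: let f : T → S be a morphism of schemes, g : S'
→ S a scheme over S and T' = S' ×_S T with projections g' : T' → T and f' : T' → S'. For an abelian
sheaf F on the big etale site of T and every q ≥ 0, the restriction g_big⁻¹ (R^q f_{big,*} F) of the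
big-site higher direct image to the big etale site of S' is isomorphic to R^q f'_{big,*} (g'_big⁻¹
F). (Existence of an isomorphism only.) -/
theorem result {T S T' S' : Scheme.{u}} (f : T ⟶ S) (g : S' ⟶ S)
    (g' : T' ⟶ T) (f' : T' ⟶ S') (c : IsPullback g' f' f g) (F : BigSite.Ab Scheme.etalePrecoverage T) (q : ℕ) :
    Nonempty ((BigSite.pullBig Scheme.etalePrecoverage g AddCommGrpCat.{u + 1}).obj
        ((BigSite.RpushBig Scheme.etalePrecoverage f q).obj F) ≅
      (BigSite.RpushBig Scheme.etalePrecoverage f' q).obj
        ((BigSite.pullBig Scheme.etalePrecoverage g' AddCommGrpCat.{u + 1}).obj F)) := by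
  have l1 : PreservesFiniteLimits (BigSite.pullBig Scheme.etalePrecoverage g AddCommGrpCat.{u + 1}) := by
    have : PreservesLimitsOfSize.{0, 0} (BigSite.pullBig Scheme.etalePrecoverage g AddCommGrpCat.{u + 1}) :=
      (BigSite.shriekAbAdj Scheme.etalePrecoverage g).rightAdjoint_preservesLimits
    exact PreservesLimitsOfSize.preservesFiniteLimits _
  have c1 : PreservesFiniteColimits (BigSite.pullBig Scheme.etalePrecoverage g AddCommGrpCat.{u + 1}) := by
    have : PreservesColimitsOfSize.{0, 0} (BigSite.pullBig Scheme.etalePrecoverage g AddCommGrpCat.{u + 1}) :=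
      (BigSite.bigAdj Scheme.etalePrecoverage g AddCommGrpCat.{u + 1}).leftAdjoint_preservesColimits
    exact PreservesColimitsOfSize.preservesFiniteColimits _
  have l2 : PreservesFiniteLimits (BigSite.pullBig Scheme.etalePrecoverage g' AddCommGrpCat.{u + 1}) := by
    have : PreservesLimitsOfSize.{0, 0} (BigSite.pullBig Scheme.etalePrecoverage g' AddCommGrpCat.{u + 1}) :=
      (BigSite.shriekAbAdj Scheme.etalePrecoverage g').rightAdjoint_preservesLimits
    exact PreservesLimitsOfSize.preservesFiniteLimits _
  have c2 : PreservesFiniteColimits (BigSite.pullBig Scheme.etalePrecoverage g' AddCommGrpCat.{u + 1}) := by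
    have : PreservesColimitsOfSize.{0, 0} (BigSite.pullBig Scheme.etalePrecoverage g' AddCommGrpCat.{u + 1}) :=
      (BigSite.bigAdj Scheme.etalePrecoverage g' AddCommGrpCat.{u + 1}).leftAdjoint_preservesColimits
    exact PreservesColimitsOfSize.preservesFiniteColimits _
  have e : BigSite.pushBig Scheme.etalePrecoverage f AddCommGrpCat.{u + 1} ⋙
      BigSite.pullBig Scheme.etalePrecoverage g AddCommGrpCat.{u + 1} ≅
      BigSite.pullBig Scheme.etalePrecoverage g' AddCommGrpCat.{u + 1} ⋙
      BigSite.pushBig Scheme.etalePrecoverage f' AddCommGrpCat.{u + 1} := by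
    have i1 := Functor.isContinuous_comp (Over.map g) (Over.pullback f)
      (QuotSh.J Scheme.etalePrecoverage S') (QuotSh.J Scheme.etalePrecoverage S)
      (QuotSh.J Scheme.etalePrecoverage T)
    have i2 := Functor.isContinuous_comp (Over.pullback f') (Over.map g')
      (QuotSh.J Scheme.etalePrecoverage S') (QuotSh.J Scheme.etalePrecoverage T')
      (QuotSh.J Scheme.etalePrecoverage T)
    exact Functor.sheafPushforwardContinuousComp' (Iso.refl _) _ _ _ _ ≪≫
      Functor.sheafPushforwardContinuousIso (Groth.Agent.Lib.OverBC.overBC c).symm _ _ _ ≪≫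
      (Functor.sheafPushforwardContinuousComp' (Iso.refl _) _ _ _ _).symm
  exact Groth.Agent.Lib.DerivedComm.nonempty_iso
    (BigSite.pushBig Scheme.etalePrecoverage f AddCommGrpCat.{u + 1})
    (BigSite.pushBig Scheme.etalePrecoverage f' AddCommGrpCat.{u + 1})
    (BigSite.pullBig Scheme.etalePrecoverage g' AddCommGrpCat.{u + 1})
    (BigSite.pullBig Scheme.etalePrecoverage g AddCommGrpCat.{u + 1})
    (fun J hJ => Groth.Agent.Lib.BigSiteInj.injective_pullBig g' Scheme.etalePrecoverage J) e F q

end Groth.Agent.S6696
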