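import Groth.Statements.S6697
import Groth.Agent.Lib.BigSiteInj
import Groth.Agent.Lib.KInjAdj

set_option autoImplicit false
universe u
open CategoryTheory CategoryTheory.Limits AlgebraicGeometry Opposite
open BigSite

namespace Groth.Agent.S6697

/-- Let S be a scheme, I a K-injective complex of abelian sheaves on the big etale site of S (every
morphism from an acyclic complex to I is null-homotopic) and f : T → S a scheme over S. Then (b) the
termwise restriction I|_{S_et} to the small etale site of S is K-injective, and (a) the termwise
restriction i_f⁻¹ I to the small etale site of T is K-injective. -/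
theorem result (S : Scheme.{u})
    (I : CochainComplex (BigSite.Ab Scheme.etalePrecoverage S) ℤ) [I.IsKInjective] {T : Scheme.{u}} (f : T ⟶ S) :
    CochainComplex.IsKInjective (((BigSite.resEt Scheme.etalePrecoverage S).mapHomologicalComplex (ComplexShape.up ℤ)).obj I) ∧
      CochainComplex.IsKInjective (((BigSite.resEtAlong Scheme.etalePrecoverage f).mapHomologicalComplex (ComplexShape.up ℤ)).obj I) := by
  have h1 := Groth.Agent.Lib.BigSiteInj.preservesFiniteLimits_piEtPull S Scheme.etalePrecoverage
  have h2 := Groth.Agent.Lib.BigSiteInj.preservesFiniteLimits_piEtPull T Scheme.etalePrecoverage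
  have h3 := Groth.Agent.Lib.BigSiteInj.preservesFiniteLimits_shriekAb f Scheme.etalePrecoverage
  have a1 : (BigSite.piEtPull Scheme.etalePrecoverage S).Additive :=
    (BigSite.piEtAdj Scheme.etalePrecoverage S).left_adjoint_additive
  have c1 : PreservesFiniteColimits (BigSite.piEtPull Scheme.etalePrecoverage S) := by
    have : PreservesColimitsOfSize.{0, 0} (BigSite.piEtPull Scheme.etalePrecoverage S) :=
      (BigSite.piEtAdj Scheme.etalePrecoverage S).leftAdjoint_preservesColimits
    exact PreservesColimitsOfSize.preservesFiniteColimits _
  let adj2 := (BigSite.piEtAdj Scheme.etalePrecoverage T).comp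
    (BigSite.shriekAbAdj Scheme.etalePrecoverage f)
  have a2 : (BigSite.piEtPull Scheme.etalePrecoverage T ⋙
      BigSite.shriekAb Scheme.etalePrecoverage f).Additive := adj2.left_adjoint_additive
  have c2 : PreservesFiniteColimits (BigSite.piEtPull Scheme.etalePrecoverage T ⋙
      BigSite.shriekAb Scheme.etalePrecoverage f) := by
    have : PreservesColimitsOfSize.{0, 0} (BigSite.piEtPull Scheme.etalePrecoverage T ⋙
        BigSite.shriekAb Scheme.etalePrecoverage f) := adj2.leftAdjoint_preservesColimits
    exact PreservesColimitsOfSize.preservesFiniteColimits _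
  have l2 : PreservesFiniteLimits (BigSite.piEtPull Scheme.etalePrecoverage T ⋙
      BigSite.shriekAb Scheme.etalePrecoverage f) := comp_preservesFiniteLimits _ _
  exact ⟨Groth.Agent.Lib.KInjAdj.isKInjective_map (BigSite.piEtAdj Scheme.etalePrecoverage S) I,
    Groth.Agent.Lib.KInjAdj.isKInjective_map adj2 I⟩

end Groth.Agent.S6697
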