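import Groth.Statements.S6708
-- import your own Groth.Agent.* helpers here

set_option autoImplicit false
universe v u
open CategoryTheory
open DEquiv

namespace Groth.Agent.S6708

open CategoryTheory.Limits CategoryTheory.Pretriangulated in
/-- Let D be a pretriangulated category, D' ⊆ D a full triangulated subcategory (given as a property of
objects that is triangulated in Mathlib's sense) and X an object of D. Then the category of arrows E
⟶ X with E in D' is filtered. -/
theorem result
    {D : Type u} [Category.{v} D] [Preadditive D] [HasZeroObject D] [HasShift D ℤ]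
    [∀ n : ℤ, (shiftFunctor D n).Additive] [Pretriangulated D]
    (P : ObjectProperty D) [P.IsTriangulated] (X : D) :
    IsFiltered (CostructuredArrow P.ι X) := by
  have : Nonempty (CostructuredArrow P.ι X) := by
    obtain ⟨Z, hZ, hPZ⟩ := P.exists_prop_of_containsZero
    exact ⟨CostructuredArrow.mk (Y := (⟨Z, hPZ⟩ : P.FullSubcategory)) (0 : Z ⟶ X)⟩
  refine { cocone_objs := ?_, cocone_maps := ?_ }
  · intro A B
    -- the biproduct is in the iso closure of P
    have h := P.ext_of_isTriangulatedClosed₂' _
      (binaryBiproductTriangle_distinguished A.left.obj B.left.obj) A.left.property B.left.property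
    obtain ⟨E, hE, ⟨e⟩⟩ := h
    change A.left.obj ⊞ B.left.obj ≅ E at e
    let E' : P.FullSubcategory := ⟨E, hE⟩
    let Z : CostructuredArrow P.ι X :=
      CostructuredArrow.mk (Y := E') (e.inv ≫ biprod.desc A.hom B.hom)
    refine ⟨Z, CostructuredArrow.homMk (ObjectProperty.homMk (biprod.inl ≫ e.hom)) ?_,
      CostructuredArrow.homMk (ObjectProperty.homMk (biprod.inr ≫ e.hom)) ?_, trivial⟩
    · simp [Z, E']
    · simp [Z, E']
  · intro A B a b
    obtain ⟨C, g, h, hT⟩ := distinguished_cocone_triangle (a.left.hom - b.left.hom)
    have hC := P.ext_of_isTriangulatedClosed₃' _ hT A.left.property B.left.property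
    obtain ⟨E, hE, ⟨e⟩⟩ := hC
    change C ≅ E at e
    have hzero : (a.left.hom - b.left.hom) ≫ B.hom = 0 := by
      have ha := CostructuredArrow.w a
      have hb := CostructuredArrow.w b
      simp only [ObjectProperty.ι_map] at ha hb
      rw [Preadditive.sub_comp, ha, hb, sub_self]
    obtain ⟨c, hc⟩ := Triangle.yoneda_exact₂ _ hT B.hom hzero
    simp only [Triangle.mk_mor₂] at hc
    let E' : P.FullSubcategory := ⟨E, hE⟩
    let Z : CostructuredArrow P.ι X := CostructuredArrow.mk (Y := E') (e.inv ≫ c)
    refine ⟨Z, CostructuredArrow.homMk (ObjectProperty.homMk (g ≫ e.hom)) ?_, ?_⟩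
    · have hc' : B.hom = g ≫ (c : C ⟶ X) := hc
      simp only [Z, E', CostructuredArrow.mk_left, ObjectProperty.ι_map, ObjectProperty.homMk_hom,
        CostructuredArrow.mk_hom_eq_self, Category.assoc, Iso.hom_inv_id_assoc]
      exact hc'.symm
    · ext
      have h0 : (a.left.hom - b.left.hom) ≫ g = 0 := comp_distTriang_mor_zero₁₂ _ hT
      rw [Preadditive.sub_comp, sub_eq_zero] at h0
      simp only [CostructuredArrow.comp_left, CostructuredArrow.homMk_left,
        ObjectProperty.FullSubcategory.comp_hom, ObjectProperty.homMk_hom]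
      rw [← Category.assoc, h0, Category.assoc]

end Groth.Agent.S6708
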