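import Mathlib
import Groth.Statements.S6710

set_option autoImplicit false
universe u v
open CategoryTheory
open FunMor

namespace Groth.Agent.S6710

section Helpers

open scoped TensorProduct

variable {A : Type u} [CommRing A]

/-- elements of a minimal prime over `I` are nilpotent modulo `I` after localizing at `p`. -/
theorem minprime_nil {I p : Ideal A} (hp : p ∈ I.minimalPrimes) {x : A} (hx : x ∈ p) :
    ∃ s ∉ p, ∃ n : ℕ, s * x ^ n ∈ I := by
  have : p.IsPrime := hp.1.1
  by_contra hcon
  have hcon' : ∀ s, s ∉ p → ∀ n : ℕ, s * x ^ n ∉ I := by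
    intro s hs n h
    exact hcon ⟨s, hs, n, h⟩
  have hdisj : Disjoint (I : Set A) ((p.primeCompl ⊔ Submonoid.powers x : Submonoid A) : Set A) := by
    rw [Set.disjoint_left]
    intro a haI haS
    rw [SetLike.mem_coe, Submonoid.mem_sup] at haS
    obtain ⟨s, hs, z, hz, rfl⟩ := haS
    obtain ⟨n, rfl⟩ := hz
    exact hcon' s hs n haI
  obtain ⟨q, hq, hIq, hqS⟩ := Ideal.exists_le_prime_disjoint I _ hdisj
  have hqp : q ≤ p := by
    intro a ha
    by_contra hap
    exact Set.disjoint_left.1 hqS ha (Submonoid.mem_sup_left (show a ∈ p.primeCompl from hap))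
  have hpq : p ≤ q := hp.2 ⟨hq, hIq⟩ hqp
  exact Set.disjoint_left.1 hqS (hpq hx) (Submonoid.mem_sup_right (Submonoid.mem_powers x))

/-- the `p`-saturation of an ideal. -/
def sat (I p : Ideal A) [p.IsPrime] : Ideal A where
  carrier := {a | ∃ s, s ∉ p ∧ s * a ∈ I}
  zero_mem' := ⟨1, fun h => (Ideal.IsPrime.ne_top ‹_›) ((Ideal.eq_top_iff_one p).2 h), by simp⟩
  add_mem' := by
    rintro a b ⟨s, hs, hsa⟩ ⟨t, ht, htb⟩
    refine ⟨s * t, fun h => (Ideal.IsPrime.mem_or_mem ‹_› h).elim hs ht, ?_⟩
    have : s * t * (a + b) = t * (s * a) + s * (t * b) := by ring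
    rw [this]
    exact I.add_mem (I.mul_mem_left _ hsa) (I.mul_mem_left _ htb)
  smul_mem' := by
    rintro c a ⟨s, hs, hsa⟩
    refine ⟨s, hs, ?_⟩
    have : s * (c • a) = c * (s * a) := by rw [smul_eq_mul]; ring
    rw [this]
    exact I.mul_mem_left _ hsa

theorem mem_sat {I p : Ideal A} [p.IsPrime] {a : A} :
    a ∈ sat I p ↔ ∃ s, s ∉ p ∧ s * a ∈ I := Iff.rfl

/-- a nonzero `A`-linear map `M → κ(p)` when `p ∈ Supp M`, `M` finite. -/
theorem exists_map_residueField {M : Type v} [AddCommGroup M] [Module A M] [Module.Finite A M]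
    (p : PrimeSpectrum A) (hp : p ∈ Module.support A M) :
    ∃ θ : M →ₗ[A] p.asIdeal.ResidueField, θ ≠ 0 := by
  rw [Module.mem_support_iff_nontrivial_residueField_tensorProduct] at hp
  obtain ⟨v, hv⟩ := exists_ne (0 : p.asIdeal.ResidueField ⊗[A] M)
  have hex : ∃ ψ : Module.Dual p.asIdeal.ResidueField (p.asIdeal.ResidueField ⊗[A] M), ψ v ≠ 0 := by
    by_contra h
    simp only [not_exists, not_not] at h
    exact hv ((Module.forall_dual_apply_eq_zero_iff p.asIdeal.ResidueField v).1 h)
  obtain ⟨ψ, hψ⟩ := hex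
  refine ⟨(ψ.restrictScalars A).comp (TensorProduct.mk A p.asIdeal.ResidueField M 1), ?_⟩
  intro h0
  apply hψ
  have hpure : ∀ (c : p.asIdeal.ResidueField) (m : M), ψ (c ⊗ₜ[A] m) = 0 := by
    intro c m
    have h1 : ψ ((1 : p.asIdeal.ResidueField) ⊗ₜ[A] m) = 0 := by
      have := LinearMap.congr_fun h0 m
      simpa using this
    have h2 : c ⊗ₜ[A] m = c • ((1 : p.asIdeal.ResidueField) ⊗ₜ[A] m) := by
      rw [TensorProduct.smul_tmul', smul_eq_mul, mul_one]
    rw [h2, map_smul, h1, smul_zero]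
  have hall : ∀ w : p.asIdeal.ResidueField ⊗[A] M, ψ w = 0 := by
    intro w
    induction w using TensorProduct.induction_on with
    | zero => exact map_zero _
    | tmul c m => exact hpure c m
    | add x y hx hy => rw [map_add, hx, hy, add_zero]
  exact hall v

/-- clearing denominators: coefficients `λ` in `A` describing a nonzero functional mod `p`. -/
theorem exists_lambda {M : Type v} [AddCommGroup M] [Module A M] [Module.Finite A M]
    (p : PrimeSpectrum A) (hp : p ∈ Module.support A M) {b : ℕ} (K : Submodule A (Fin b → A))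
    (e : M ≃ₗ[A] (Fin b → A) ⧸ K) :
    ∃ lam : Fin b → A, (∀ k ∈ K, ∑ i, k i * lam i ∈ p.asIdeal) ∧ ∃ i0, lam i0 ∉ p.asIdeal := by
  classical
  obtain ⟨θ, hθ⟩ := exists_map_residueField p hp
  -- pull back to the free module
  set θ' : (Fin b → A) →ₗ[A] p.asIdeal.ResidueField := θ.comp (e.symm.toLinearMap.comp K.mkQ) with hθ'
  have hθK : ∀ k ∈ K, θ' k = 0 := by
    intro k hk
    have hq : K.mkQ k = 0 := (Submodule.Quotient.mk_eq_zero K).2 hk
    rw [hθ', LinearMap.comp_apply, LinearMap.comp_apply, hq, map_zero, map_zero]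
  set t : Fin b → p.asIdeal.ResidueField := fun i => θ' (Pi.single i 1) with ht
  have hθ'v : ∀ v : Fin b → A, θ' v = ∑ i, v i • t i := by
    intro v
    conv_lhs => rw [← Finset.univ_sum_single v]
    rw [map_sum]
    apply Finset.sum_congr rfl
    intro i _
    have : (Pi.single i (v i) : Fin b → A) = v i • Pi.single i 1 := by
      rw [← Pi.single_smul, smul_eq_mul, mul_one]
    rw [this, map_smul]
  obtain ⟨s, hs⟩ := IsLocalization.exist_integer_multiples
    (nonZeroDivisors (A ⧸ p.asIdeal)) Finset.univ t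
  have hs' : ∀ i, ∃ l : A, algebraMap A p.asIdeal.ResidueField l = (s : A ⧸ p.asIdeal) • t i := by
    intro i
    obtain ⟨y, hy⟩ := hs i (Finset.mem_univ i)
    obtain ⟨l, rfl⟩ := Ideal.Quotient.mk_surjective y
    exact ⟨l, hy⟩
  choose lam hlam using hs'
  have hs0 : algebraMap (A ⧸ p.asIdeal) p.asIdeal.ResidueField (s : A ⧸ p.asIdeal) ≠ 0 := by
    intro h
    have := (IsFractionRing.injective (A ⧸ p.asIdeal) p.asIdeal.ResidueField)
      (h.trans (map_zero _).symm)
    exact nonZeroDivisors.coe_ne_zero s this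
  refine ⟨lam, ?_, ?_⟩
  · intro k hk
    rw [← Ideal.algebraMap_residueField_eq_zero, map_sum]
    have : ∀ i, algebraMap A p.asIdeal.ResidueField (k i * lam i) =
        (s : A ⧸ p.asIdeal) • (k i • t i) := by
      intro i
      rw [map_mul, hlam, Algebra.smul_def, Algebra.smul_def, Algebra.smul_def]
      ring
    rw [Finset.sum_congr rfl (fun i _ => this i), ← Finset.smul_sum, ← hθ'v, hθK k hk, smul_zero]
  · by_contra hall
    simp only [not_exists, not_not] at hall
    apply hθ
    have ht0 : ∀ i, t i = 0 := by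
      intro i
      have h1 := hlam i
      rw [Ideal.algebraMap_residueField_eq_zero.2 (hall i), Algebra.smul_def] at h1
      exact (mul_eq_zero.1 h1.symm).resolve_left hs0
    have hθ'0 : θ' = 0 := by
      apply LinearMap.ext
      intro v
      rw [hθ'v]
      simp [ht0]
    ext m
    have := LinearMap.congr_fun hθ'0 (Classical.choose (K.mkQ_surjective (e m)))
    have hsp := Classical.choose_spec (K.mkQ_surjective (e m))
    rw [hθ', LinearMap.comp_apply, LinearMap.comp_apply, hsp] at this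
    simpa using this

theorem exists_c (I p : Ideal A) [hpp : p.IsPrime] (hp : p ∈ I.minimalPrimes) {b : ℕ}
    (K : Submodule A (Fin b → A)) (hK : K.FG) (lam : Fin b → A)
    (h1 : ∀ k ∈ K, ∑ i, k i * lam i ∈ p) (i0 : Fin b) (h2 : lam i0 ∉ p) :
    ∃ c : Fin b → A, (∀ k ∈ K, ∑ i, k i * c i ∈ I) ∧ c i0 ∉ I := by
  classical
  obtain ⟨S, hS⟩ := hK
  -- the linear functional
  let D : (Fin b → A) →ₗ[A] A :=
    { toFun := fun k => ∑ i, k i * lam i
      map_add' := fun k k' => by
        simp only [Pi.add_apply, add_mul, Finset.sum_add_distrib]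
      map_smul' := fun a k => by
        simp only [Pi.smul_apply, smul_eq_mul, RingHom.id_apply, Finset.mul_sum, mul_assoc] }
  have hD : ∀ k, D k = ∑ i, k i * lam i := fun k => rfl
  set J : Ideal A := Ideal.span (D '' (S : Set (Fin b → A))) with hJ
  have hJfg : J.FG := ⟨S.image D, by rw [hJ, Finset.coe_image]⟩
  have h1ne : (1 : A) ∉ sat I p := by
    rintro ⟨s, hs, hs1⟩
    rw [mul_one] at hs1
    exact hs (hp.1.2 hs1)
  have hJrad : J ≤ (sat I p).radical := by
    rw [hJ, Ideal.span_le]
    rintro _ ⟨r, hr, rfl⟩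
    have hrK : r ∈ K := hS ▸ Submodule.subset_span hr
    obtain ⟨s, hs, n, hsn⟩ := minprime_nil hp (h1 r hrK)
    exact ⟨n, s, hs, hsn⟩
  have hex := Ideal.exists_pow_le_of_le_radical_of_fg hJrad hJfg
  have hn0 : Nat.find hex ≠ 0 := by
    intro h0
    have := Nat.find_spec hex
    rw [h0, pow_zero] at this
    exact h1ne (this (by simp))
  have hmin : ¬ J ^ (Nat.find hex - 1) ≤ sat I p :=
    Nat.find_min hex (Nat.sub_one_lt hn0)
  obtain ⟨y, hyJ, hyI⟩ := SetLike.not_le_iff_exists.1 hmin
  have hyδ : ∀ r ∈ S, y * D r ∈ sat I p := by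
    intro r hr
    apply Nat.find_spec hex
    have : Nat.find hex = (Nat.find hex - 1) + 1 := by omega
    rw [this, pow_succ]
    exact Ideal.mul_mem_mul hyJ (Ideal.subset_span ⟨r, hr, rfl⟩)
  have hch : ∀ r : Fin b → A, ∃ t, t ∉ p ∧ (r ∈ S → t * (y * D r) ∈ I) := by
    intro r
    by_cases hr : r ∈ S
    · obtain ⟨t, ht, htI⟩ := hyδ r hr
      exact ⟨t, ht, fun _ => htI⟩
    · exact ⟨1, fun h => hpp.ne_top ((Ideal.eq_top_iff_one p).2 h), fun h => absurd h hr⟩
  choose t ht htI using hch
  set T : A := ∏ r ∈ S, t r with hT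
  have hTp : T ∉ p := by
    rw [hT, Ideal.IsPrime.prod_mem_iff]
    rintro ⟨r, -, hr⟩
    exact ht r hr
  have hTI : ∀ r ∈ S, T * y * D r ∈ I := by
    intro r hr
    have : T * y * D r = (∏ r' ∈ S.erase r, t r') * (t r * (y * D r)) := by
      rw [hT, ← Finset.mul_prod_erase S t hr]; ring
    rw [this]
    exact I.mul_mem_left _ (htI r hr)
  refine ⟨fun i => T * y * lam i, ?_, ?_⟩
  · have hle : K ≤ Submodule.comap ((T * y) • D) (I : Submodule A A) := by
      rw [← hS, Submodule.span_le]
      intro r hr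
      change ((T * y) • D) r ∈ I
      rw [LinearMap.smul_apply, smul_eq_mul]
      exact hTI r hr
    intro k hk
    have := hle hk
    change ((T * y) • D) k ∈ I at this
    rw [LinearMap.smul_apply, smul_eq_mul, hD, Finset.mul_sum] at this
    convert this using 2
    ring
  · intro hc
    apply hyI
    refine ⟨T * lam i0, fun h => (hpp.mem_or_mem h).elim hTp h2, ?_⟩
    have : T * lam i0 * y = T * y * lam i0 := by ring
    rw [this]
    exact hc

end Helpers

/-- The statement for an affine scheme written in terms of modules: let A be a commutative ring, M a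
finitely presented A-module and N a nonzero A-module with Supp(N) ⊆ Supp(M). Then Hom_A(M, N) is
nonzero. -/
theorem result
    (A : Type u) [CommRing A] (M : Type v) [AddCommGroup M] [Module A M]
    [Module.FinitePresentation A M] (N : Type v) [AddCommGroup N] [Module A N] [Nontrivial N]
    (h : Module.support A N ⊆ Module.support A M) : Nontrivial (M →ₗ[A] N) := by
  classical
  obtain ⟨x, hx⟩ := exists_ne (0 : N)
  set I : Ideal A := LinearMap.ker (LinearMap.toSpanSingleton A N x) with hIdef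
  have hI : ∀ a : A, a ∈ I ↔ a • x = 0 := by
    intro a
    rw [hIdef, LinearMap.mem_ker, LinearMap.toSpanSingleton_apply]
  have hIne : I ≠ ⊤ := by
    intro htop
    have : (1 : A) ∈ I := htop ▸ Submodule.mem_top
    rw [hI, one_smul] at this
    exact hx this
  obtain ⟨m, hm, hIm⟩ := Ideal.exists_le_maximal I hIne
  have := hm.isPrime
  obtain ⟨p, hp, -⟩ := Ideal.exists_minimalPrimes_le hIm
  have hpp : p.IsPrime := hp.1.1
  let P : PrimeSpectrum A := ⟨p, hpp⟩
  have hPN : P ∈ Module.support A N := by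
    rw [Module.mem_support_iff_exists_annihilator]
    refine ⟨x, fun a ha => ?_⟩
    rw [Submodule.mem_annihilator_span_singleton] at ha
    exact hp.1.2 ((hI a).2 ha)
  have hPM : P ∈ Module.support A M := h hPN
  obtain ⟨b, K, e, hK⟩ := Module.FinitePresentation.exists_fin A M
  obtain ⟨lam, hl1, i0, hl2⟩ := exists_lambda P hPM K e
  obtain ⟨c, hc1, hc2⟩ := exists_c I p hp K hK lam hl1 i0 hl2
  let Dc : (Fin b → A) →ₗ[A] A :=
    ∑ i, (c i) • (LinearMap.proj i : (Fin b → A) →ₗ[A] A)
  have hDc : ∀ v, Dc v = ∑ i, v i * c i := by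
    intro v
    simp only [Dc, LinearMap.sum_apply, LinearMap.smul_apply, LinearMap.proj_apply, smul_eq_mul]
    exact Finset.sum_congr rfl fun i _ => mul_comm _ _
  let ℓ : (Fin b → A) →ₗ[A] N := (LinearMap.toSpanSingleton A N x).comp Dc
  have hℓ : ∀ v, ℓ v = (∑ i, v i * c i) • x := by
    intro v
    simp only [ℓ, LinearMap.comp_apply, LinearMap.toSpanSingleton_apply, hDc]
  have hle : K ≤ LinearMap.ker ℓ := by
    intro k hk
    rw [LinearMap.mem_ker, hℓ]
    exact (hI _).1 (hc1 k hk)
  let φ : M →ₗ[A] N := (K.liftQ ℓ hle).comp e.toLinearMap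
  have hφ : φ ≠ 0 := by
    intro h0
    have h1 := LinearMap.congr_fun h0 (e.symm (K.mkQ (Pi.single i0 1)))
    simp only [φ, LinearMap.comp_apply, LinearEquiv.coe_coe, LinearEquiv.apply_symm_apply,
      Submodule.mkQ_apply, Submodule.liftQ_apply, LinearMap.zero_apply] at h1
    rw [hℓ] at h1
    have hsum : ∑ i, (Pi.single i0 (1 : A) : Fin b → A) i * c i = c i0 := by
      rw [Finset.sum_eq_single i0]
      · simp
      · intro j _ hj
        rw [Pi.single_eq_of_ne hj, zero_mul]
      · intro h; exact absurd (Finset.mem_univ i0) h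
    rw [hsum] at h1
    exact hc2 ((hI _).2 h1)
  exact ⟨⟨φ, 0, hφ⟩⟩

end Groth.Agent.S6710
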