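import Groth.Statements.S6713
import Groth.Agent.Lib.Cnt65

set_option autoImplicit false
universe w v u
open CategoryTheory
open DEquiv

namespace Groth.Agent.S6713

/-- Let A be an abelian category which is countable: Hom(X, Y) is countable for all objects X, Y and
there are countably many isomorphism classes of objects. Then the bounded derived category D^b(A) is
countable in the same sense. -/
theorem result
    {A : Type u} [Category.{v} A] [Abelian A] [HasDerivedCategory.{w} A]
    (hhom : ∀ X Y : A, Countable (X ⟶ Y))
    (hiso : ∃ e : ℕ → A, ∀ X : A, ∃ n : ℕ, Nonempty (X ≅ e n)) :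
    (∀ K L : DerivedCategory.Bounded A, Countable (K ⟶ L)) ∧
      ∃ e : ℕ → DerivedCategory.Bounded A, ∀ K : DerivedCategory.Bounded A,
        ∃ n : ℕ, Nonempty (K ≅ e n) := by
  obtain ⟨en, hen⟩ := hiso
  have hc : ∀ K L : DerivedCategory.Bounded A, Countable (K ⟶ L) :=
    fun K L => Groth.Agent.Lib.Sib65.countable_hom hhom en hen K L
  exact ⟨hc, Groth.Agent.Lib.Sib65.exists_enumeration en hen hc⟩

end Groth.Agent.S6713
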