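import Groth.Statements.S6731
import Mathlib.LinearAlgebra.Dual.Lemmas
import Mathlib.LinearAlgebra.Dual.Basis
-- import your own Groth.Agent.* helpers here

set_option autoImplicit false
universe w v u
open CategoryTheory
open DEquiv

namespace Groth.Agent.S6731

section

variable (k : Type w) [Field k] (T : Type u) [Category.{v} T] [Preadditive T] [Linear k T]

/-- A Serre structure: a functor with a binatural perfect pairing. -/
structure SD where
  S : T ⥤ T
  c : ∀ X Y : T, (X ⟶ Y) ≃ₗ[k] Module.Dual k (Y ⟶ S.obj X)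
  h₁ : ∀ (X Y Y' : T) (f : X ⟶ Y) (g : Y ⟶ Y') (h : Y' ⟶ S.obj X),
    c X Y' (f ≫ g) h = c X Y f (g ≫ h)
  h₂ : ∀ (X' X Y : T) (a : X' ⟶ X) (f : X ⟶ Y) (h : Y ⟶ S.obj X'),
    c X' Y (a ≫ f) h = c X Y f (h ≫ S.map a)

variable {k T}

namespace SD

variable (D D' : SD k T)

/-- The trace functional. -/
noncomputable def tr (X : T) : Module.Dual k (X ⟶ D.S.obj X) := D.c X X (𝟙 X)

theorem c_eq_tr {X Y : T} (f : X ⟶ Y) (h : Y ⟶ D.S.obj X) : D.c X Y f h = D.tr X (f ≫ h) := by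
  have := D.h₁ X X Y (𝟙 X) f h
  rwa [Category.id_comp] at this

theorem tr_comm {X' X : T} (a : X' ⟶ X) (g : X ⟶ D.S.obj X') :
    D.tr X (g ≫ D.S.map a) = D.tr X' (a ≫ g) := by
  rw [← D.c_eq_tr a g]
  have := D.h₂ X' X X a (𝟙 X) g
  rw [Category.comp_id] at this
  exact this.symm

theorem ext_right {X Y : T} (w w' : Y ⟶ D.S.obj X)
    (h : ∀ g : X ⟶ Y, D.c X Y g w = D.c X Y g w') : w = w' := by
  rw [← sub_eq_zero, ← Module.forall_dual_apply_eq_zero_iff k]
  intro ξ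
  obtain ⟨g, rfl⟩ := (D.c X Y).surjective ξ
  rw [map_sub, h g, sub_self]

variable [∀ X Y : T, Module.Finite k (X ⟶ Y)]

theorem exists_right {X Y : T} (t : Module.Dual k (X ⟶ Y)) :
    ∃ w : Y ⟶ D.S.obj X, ∀ g, D.c X Y g w = t g := by
  let Φ : (Y ⟶ D.S.obj X) ≃ₗ[k] Module.Dual k (X ⟶ Y) :=
    (Module.evalEquiv k (Y ⟶ D.S.obj X)).trans (D.c X Y).dualMap
  refine ⟨Φ.symm t, fun g => ?_⟩
  have h1 : Φ (Φ.symm t) g = t g := by rw [LinearEquiv.apply_symm_apply]
  rw [← h1]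
  rfl

/-- The comparison morphism between two Serre structures. -/
noncomputable def comp (X : T) : D.S.obj X ⟶ D'.S.obj X :=
  (D'.exists_right (X := X) (Y := D.S.obj X) (D.tr X)).choose

theorem comp_spec (X : T) (g : X ⟶ D.S.obj X) :
    D'.c X (D.S.obj X) g (D.comp D' X) = D.tr X g :=
  (D'.exists_right (X := X) (Y := D.S.obj X) (D.tr X)).choose_spec g

theorem compat {X Y : T} (f : X ⟶ Y) (h : Y ⟶ D.S.obj X) :
    D.c X Y f h = D'.c X Y f (h ≫ D.comp D' X) := by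
  rw [D.c_eq_tr, ← D.comp_spec D', D'.h₁]

theorem comp_unique {X : T} (ψ : D.S.obj X ⟶ D'.S.obj X)
    (hψ : ∀ (Y : T) (f : X ⟶ Y) (h : Y ⟶ D.S.obj X), D.c X Y f h = D'.c X Y f (h ≫ ψ)) :
    ψ = D.comp D' X := by
  apply D'.ext_right
  intro g
  rw [D.comp_spec D', ← Category.id_comp ψ, ← hψ, D.c_eq_tr, Category.comp_id]

theorem comp_natural {X' X : T} (a : X' ⟶ X) :
    D.S.map a ≫ D.comp D' X = D.comp D' X' ≫ D'.S.map a := by
  apply D'.ext_right
  intro g
  rw [← D'.h₁, D.comp_spec D', ← D'.h₂, D.comp_spec D', D.tr_comm]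

theorem comp_comp (X : T) : D.comp D' X ≫ D'.comp D X = 𝟙 _ := by
  apply D.ext_right
  intro g
  rw [← D.h₁, D'.comp_spec D, ← D'.c_eq_tr, D.comp_spec D', D.c_eq_tr, Category.comp_id]

/-- The comparison isomorphism between two Serre structures. -/
noncomputable def compIso : D.S ≅ D'.S :=
  NatIso.ofComponents
    (fun X => ⟨D.comp D' X, D'.comp D X, D.comp_comp D' X, D'.comp_comp D X⟩)
    (fun a => D.comp_natural D' a)

end SD

end

open CategoryTheory.Limits CategoryTheory.Pretriangulated in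
/-- Let k be a field and T a k-linear triangulated category with dim_k Hom(X, Y) < ∞ for all X, Y. Let
(S, c) and (S', c') be Serre functors: k-linear equivalences T ⥤ T with k-linear isomorphisms
c_{X,Y} : Hom(X, Y) ≅ Hom(Y, S X)^∨ natural in X and Y (likewise c'). Then there is a unique
isomorphism of functors φ : S ≅ S' compatible with c and c', i.e. c_{X,Y}(f) is c'_{X,Y}(f) composed
with postcomposition by φ_X. -/
theorem result
    {k : Type w} [Field k]
    {T : Type u} [Category.{v} T] [Preadditive T] [Linear k T] [HasZeroObject T] [HasShift T ℤ]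
    [∀ n : ℤ, (shiftFunctor T n).Additive] [∀ n : ℤ, (shiftFunctor T n).Linear k] [Pretriangulated T]
    [IsTriangulated T] [∀ X Y : T, Module.Finite k (X ⟶ Y)]
    (S : T ≌ T) [S.functor.Additive] [S.functor.Linear k]
    (c : ∀ X Y : T, (X ⟶ Y) ≃ₗ[k] Module.Dual k (Y ⟶ S.functor.obj X))
    (hc₁ : ∀ (X Y Y' : T) (f : X ⟶ Y) (g : Y ⟶ Y'),
      c X Y' (f ≫ g) = (c X Y f) ∘ₗ Linear.leftComp k (S.functor.obj X) g)
    (hc₂ : ∀ (X' X Y : T) (a : X' ⟶ X) (f : X ⟶ Y),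
      c X' Y (a ≫ f) = (c X Y f) ∘ₗ Linear.rightComp k Y (S.functor.map a))
    (S' : T ≌ T) [S'.functor.Additive] [S'.functor.Linear k]
    (c' : ∀ X Y : T, (X ⟶ Y) ≃ₗ[k] Module.Dual k (Y ⟶ S'.functor.obj X))
    (hc'₁ : ∀ (X Y Y' : T) (f : X ⟶ Y) (g : Y ⟶ Y'),
      c' X Y' (f ≫ g) = (c' X Y f) ∘ₗ Linear.leftComp k (S'.functor.obj X) g)
    (hc'₂ : ∀ (X' X Y : T) (a : X' ⟶ X) (f : X ⟶ Y),
      c' X' Y (a ≫ f) = (c' X Y f) ∘ₗ Linear.rightComp k Y (S'.functor.map a)) :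
    ∃! φ : S.functor ≅ S'.functor, ∀ (X Y : T) (f : X ⟶ Y),
      c X Y f = (c' X Y f) ∘ₗ Linear.rightComp k Y (φ.hom.app X) := by
  let D : SD k T :=
    { S := S.functor
      c := c
      h₁ := fun X Y Y' f g h => LinearMap.congr_fun (hc₁ X Y Y' f g) h
      h₂ := fun X' X Y a f h => LinearMap.congr_fun (hc₂ X' X Y a f) h }
  let D' : SD k T :=
    { S := S'.functor
      c := c'
      h₁ := fun X Y Y' f g h => LinearMap.congr_fun (hc'₁ X Y Y' f g) h
      h₂ := fun X' X Y a f h => LinearMap.congr_fun (hc'₂ X' X Y a f) h }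
  refine ⟨D.compIso D', ?_, ?_⟩
  · intro X Y f
    apply LinearMap.ext
    intro h
    exact D.compat D' f h
  · intro φ hφ
    apply Iso.ext
    apply NatTrans.ext
    funext X
    exact D.comp_unique D' (φ.hom.app X) (fun Y f h => LinearMap.congr_fun (hφ X Y f) h)

end Groth.Agent.S6731
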