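import Groth.Statements.S6776
import Mathlib.CategoryTheory.Abelian.Basic

set_option autoImplicit false
open CategoryTheory CategoryTheory.Limits
universe v u
open CategoryTheory CategoryTheory.Abelian

namespace Groth.Agent.S6776

/-- In an abelian category a cocartesian square whose left arrow `g` is a monomorphism is also
cartesian, and the arrow `h` opposite to `g` is a monomorphism. -/
theorem result {A : Type u} [Category.{v} A] [Abelian A] {w x y z : A} (f : w ⟶ y) (g : w ⟶ x) (h : y ⟶ z) (k : x ⟶ z) (sq : IsPushout f g h k) [Mono g] : IsPullback f g h k ∧ Mono h := by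
  have hh : Mono h := Abelian.mono_inl_of_isColimit f g sq.isColimit
  have hcok : ∀ s : PullbackCone h k, s.snd ≫ cokernel.π g = 0 := by
    intro s
    have h1 : f ≫ (0 : y ⟶ cokernel g) = g ≫ cokernel.π g := by simp
    have h2 : k ≫ sq.desc 0 (cokernel.π g) h1 = cokernel.π g := sq.inr_desc _ _ _
    have h3 : h ≫ sq.desc 0 (cokernel.π g) h1 = 0 := sq.inl_desc _ _ _
    rw [← h2, ← Category.assoc, ← s.condition, Category.assoc, h3, comp_zero]
  refine ⟨⟨⟨sq.w⟩, ⟨PullbackCone.IsLimit.mk _ (fun s => Abelian.monoLift g s.snd (hcok s))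
    ?_ ?_ ?_⟩⟩, hh⟩
  · intro s
    rw [← cancel_mono h, Category.assoc, sq.w, ← Category.assoc, Abelian.monoLift_comp, s.condition]
  · intro s
    exact Abelian.monoLift_comp _ _ _
  · intro s m _ hm
    rw [← cancel_mono g, hm, Abelian.monoLift_comp]

end Groth.Agent.S6776
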