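import Groth.Statements.S6779
import Groth.Agent.Lib.H43Moore

set_option autoImplicit false
open CategoryTheory
universe u
open SSet

namespace Groth.Agent.S6779

/-- The underlying simplicial set of a simplicial group is a Kan complex. -/
theorem result (X : SimplicialObject GrpCat.{u}) : SSet.KanComplex (X ⋙ forget GrpCat.{u}) := by
  let grp : ∀ n, Group ((X ⋙ forget GrpCat.{u}).obj n) := fun n =>
    inferInstanceAs (Group (X.obj n))
  exact Groth.Agent.Lib.H43Moore.kanComplex_of_group (X ⋙ forget GrpCat.{u})
    (fun {m n} f a b => map_mul (X.map f).hom a b)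

end Groth.Agent.S6779
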