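import Groth.Statements.S6781
import Groth.Agent.S6780

set_option autoImplicit false
open CategoryTheory
universe u
open SSet

namespace Groth.Agent.S6781

section Aux

open CategoryTheory Simplicial Opposite AlgebraicTopology AlgebraicTopology.DoldKan

section Alg

/-- The generalized-element test object. -/
abbrev ZZ : AddCommGrpCat.{u} := AddCommGrpCat.of (ULift.{u} ℤ)

/-- The generalized element associated to an element. -/
def elt {G : AddCommGrpCat.{u}} (g : G) : ZZ.{u} ⟶ G :=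
  AddCommGrpCat.ofHom ((zmultiplesHom G g).comp AddEquiv.ulift.toAddMonoidHom)

@[simp] lemma elt_one {G : AddCommGrpCat.{u}} (g : G) : elt g ⟨1⟩ = g := by
  change (1 : ℤ) • g = g
  simp

lemma elt_ext {G : AddCommGrpCat.{u}} {φ ψ : ZZ.{u} ⟶ G} (h : φ ⟨1⟩ = ψ ⟨1⟩) : φ = ψ := by
  ext ⟨n⟩
  have : (⟨n⟩ : ULift.{u} ℤ) = n • ⟨1⟩ := by
    apply ULift.ext; simp
  rw [this, map_zsmul, map_zsmul, h]

@[simp] lemma elt_zero {G : AddCommGrpCat.{u}} : elt (0 : G) = 0 :=
  elt_ext (by rw [elt_one]; rfl)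

lemma elt_comp {G H : AddCommGrpCat.{u}} (g : G) (φ : G ⟶ H) : elt g ≫ φ = elt (φ g) :=
  elt_ext (by rw [ConcreteCategory.comp_apply, elt_one, elt_one])

/-- The alternating face map complex. -/
abbrev KK (X : SimplicialObject AddCommGrpCat.{u}) : ChainComplex AddCommGrpCat.{u} ℕ :=
  (alternatingFaceMapComplex AddCommGrpCat.{u}).obj X

variable {X Y : SimplicialObject AddCommGrpCat.{u}} (f : X ⟶ Y)
  (hf : ∀ n : SimplexCategoryᵒᵖ, Function.Surjective (f.app n))
  (hq : QuasiIso ((alternatingFaceMapComplex AddCommGrpCat.{u}).map f))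

include hf hq in
lemma coreA (n k : ℕ) (hk : (ComplexShape.down ℕ).next n = k) (z : X _⦋n⦌)
    (hz0 : f.app _ z = 0) (hz1 : ((KK X).d n k) z = 0) :
    ∃ a : X _⦋n + 1⦌, f.app _ a = 0 ∧ ((KK X).d (n + 1) n) a = z := by
  set φ := (alternatingFaceMapComplex AddCommGrpCat.{u}).map f with hφ
  have hφf : ∀ m, φ.f m = f.app (op ⦋m⦌) := fun m => rfl
  have hcomm : ∀ (i j : ℕ) (x : X _⦋i⦌), f.app _ ((KK X).d i j x) =
      (KK Y).d i j (f.app _ x) := by
    intro i j x
    have := congrArg (fun g => g x) (φ.comm i j)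
    simp only [ConcreteCategory.comp_apply] at this
    exact this.symm
  -- Step 1: injectivity on `H_n`
  have hmono : Mono (HomologicalComplex.homologyMap φ n) := by
    have := (quasiIsoAt_iff_isIso_homologyMap φ n).1 (hq.quasiIsoAt n)
    infer_instance
  rw [HomologicalComplex.mono_homologyMap_iff_up_to_refinements φ (n + 1) n k (by simp) hk]
    at hmono
  obtain ⟨A', π, hπ, x₁, hx₁⟩ := hmono (elt z) (by rw [elt_comp, hz1, elt_zero]) 0
    (by rw [elt_comp, hφf, hz0, elt_zero, Limits.zero_comp])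
  obtain ⟨a', ha'⟩ := (AddCommGrpCat.epi_iff_surjective π).1 hπ ⟨1⟩
  have ha : (KK X).d (n + 1) n (x₁ a') = z := by
    have := congrArg (fun g => g a') hx₁
    simp only [ConcreteCategory.comp_apply, ha'] at this
    rw [elt_one] at this
    exact this.symm
  -- Step 2: surjectivity on `H_{n+1}`
  have hepi : Epi (HomologicalComplex.homologyMap φ (n + 1)) := by
    have := (quasiIsoAt_iff_isIso_homologyMap φ (n + 1)).1 (hq.quasiIsoAt (n + 1))
    infer_instance
  rw [HomologicalComplex.epi_homologyMap_iff_up_to_refinements φ (n + 2) (n + 1) n (by simp)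
    (by simp)] at hepi
  obtain ⟨A'', π', hπ', x₂, hx₂, y₁, hy₁⟩ := hepi (elt (f.app _ (x₁ a')))
    (by rw [elt_comp, ← hcomm, ha, hz0, elt_zero])
  obtain ⟨a'', ha''⟩ := (AddCommGrpCat.epi_iff_surjective π').1 hπ' ⟨1⟩
  obtain ⟨b, hb⟩ := hf _ (y₁ a'')
  have h1 : f.app _ (x₁ a') - f.app _ (x₂ a'') = (KK Y).d (n + 2) (n + 1) (y₁ a'') := by
    have := congrArg (fun g => g a'') hy₁
    simp only [ConcreteCategory.comp_apply, ha''] at this
    rw [elt_one] at this
    rw [this, hφf]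
    exact add_sub_cancel_left _ _
  have h2 : (KK X).d (n + 1) n (x₂ a'') = 0 := by
    have := congrArg (fun g => g a'') hx₂
    simpa using this
  refine ⟨x₁ a' - x₂ a'' - (KK X).d (n + 2) (n + 1) b, ?_, ?_⟩
  · rw [map_sub, map_sub, hcomm, hb, h1]; exact sub_self _
  · rw [map_sub, map_sub, ha, h2]
    have := congrArg (fun g => g b) ((KK X).d_comp_d (n + 2) (n + 1) n)
    simp only [ConcreteCategory.comp_apply] at this
    rw [this]; simp

include hf hq in
lemma coreB (n k : ℕ) (hk : (ComplexShape.down ℕ).next n = k) (z : X _⦋n⦌)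
    (hz0 : f.app _ z = 0) (hz1 : ((KK X).d n k) z = 0)
    (hz2 : (PInfty.f n : X _⦋n⦌ ⟶ X _⦋n⦌) z = z) :
    ∃ w : X _⦋n + 1⦌, f.app _ w = 0 ∧ X.δ 0 w = z ∧ ∀ j : Fin (n + 1), X.δ j.succ w = 0 := by
  obtain ⟨a, ha0, ha1⟩ := coreA f hf hq n k hk z hz0 hz1
  have hhigh : ∀ j : Fin (n + 1), X.δ j.succ ((PInfty.f (n + 1) : X _⦋n + 1⦌ ⟶ X _⦋n + 1⦌) a) = 0 := by
    intro j
    have := congrArg (fun g => g a) (HigherFacesVanish.of_P (X := X) (n + 1) n j (by omega))
    rw [← PInfty_f] at this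
    simpa using this
  refine ⟨(PInfty.f (n + 1) : X _⦋n + 1⦌ ⟶ X _⦋n + 1⦌) a, ?_, ?_, hhigh⟩
  · have := congrArg (fun g => g a) (PInfty_f_naturality (n + 1) f)
    simp only [ConcreteCategory.comp_apply] at this
    rw [← this, ha0, map_zero]
  · have h1 : (KK X).d (n + 1) n ((PInfty.f (n + 1) : X _⦋n + 1⦌ ⟶ X _⦋n + 1⦌) a) = z := by
      have := congrArg (fun g => g a) ((PInfty (X := X)).comm (n + 1) n)
      simp only [ConcreteCategory.comp_apply] at this
      exact this.trans ((congrArg (fun t => (PInfty.f n : X _⦋n⦌ ⟶ X _⦋n⦌) t) ha1).trans hz2)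
    have h2 : (KK X).d (n + 1) n = ∑ i : Fin (n + 2), (-1 : ℤ) ^ (i : ℕ) • X.δ i :=
      AlternatingFaceMapComplex.obj_d_eq X n
    rw [h2, Fin.sum_univ_succ] at h1
    simp only [Fin.val_zero, pow_zero, one_smul] at h1
    rw [← h1]
    have h3 : ∀ (s : Finset (Fin (n + 1))) (w : X _⦋n + 1⦌), (∀ j : Fin (n + 1), X.δ j.succ w = 0) →
        (∑ i ∈ s, (-1 : ℤ) ^ ((i.succ : Fin (n + 2)) : ℕ) • X.δ i.succ).hom w = 0 := by
      intro s w hw
      induction s using Finset.induction_on with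
      | empty => simp
      | insert i s hi ih =>
        rw [Finset.sum_insert hi, AddCommGrpCat.hom_add, AddMonoidHom.add_apply, ih,
          AddCommGrpCat.hom_zsmul, AddMonoidHom.zsmul_apply]
        have := hw i
        erw [this]; simp
    change _ = (AddCommGrpCat.Hom.hom (X.δ 0 +
      ∑ i : Fin (n + 1), (-1 : ℤ) ^ ((i.succ : Fin (n + 2)) : ℕ) • X.δ i.succ)) _
    rw [AddCommGrpCat.hom_add, AddMonoidHom.add_apply, h3 Finset.univ _ hhigh, add_zero]

include hf hq in
lemma fillZero (z : X _⦋0⦌) (hz0 : f.app _ z = 0) :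
    ∃ w : X _⦋1⦌, f.app _ w = 0 ∧ X.δ 0 w = z ∧ ∀ j : Fin 1, X.δ j.succ w = 0 := by
  refine coreB f hf hq 0 0 (by simp) z hz0 ?_ rfl
  have : (KK X).d 0 0 = 0 := (KK X).shape 0 0 (by simp)
  rw [this]; rfl

include hf hq in
lemma fillSucc (m : ℕ) (z : X _⦋m + 1⦌) (hz0 : f.app _ z = 0)
    (hz : ∀ j : Fin (m + 2), X.δ j z = 0) :
    ∃ w : X _⦋m + 2⦌, f.app _ w = 0 ∧ X.δ 0 w = z ∧ ∀ j : Fin (m + 2), X.δ j.succ w = 0 := by
  refine coreB f hf hq (m + 1) m (by simp) z hz0 ?_ ?_
  · have h2 : (KK X).d (m + 1) m = ∑ i : Fin (m + 2), (-1 : ℤ) ^ (i : ℕ) • X.δ i :=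
      AlternatingFaceMapComplex.obj_d_eq X m
    have h3 : elt z ≫ (KK X).d (m + 1) m = 0 := by
      rw [h2, Preadditive.comp_sum]
      refine Finset.sum_eq_zero (fun i _ => ?_)
      rw [Preadditive.comp_zsmul, elt_comp, hz i, elt_zero, smul_zero]
    have := congrArg (fun g => g ⟨1⟩) h3
    simp only [ConcreteCategory.comp_apply] at this
    rw [elt_one] at this
    exact this
  · have v : HigherFacesVanish (m + 1) (elt z) := fun j _ => by
      rw [elt_comp, hz, elt_zero]
    have := congrArg (fun g => g ⟨1⟩) v.comp_P_eq_self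
    simp only [ConcreteCategory.comp_apply] at this
    rw [elt_one, ← PInfty_f] at this
    exact this

end Alg

section Main

open SSet modelCategoryQuillen HomotopicalAlgebra

variable {G H : SimplicialObject AddCommGrpCat.{u}} (f : G ⟶ H)

lemma yonedaEquiv_δ_comp' {n : ℕ} (j : Fin (n + 2))
    (g : Δ[n + 1] ⟶ G ⋙ forget AddCommGrpCat.{u}) :
    (yonedaEquiv (stdSimplex.δ j ≫ g) : G _⦋n⦌) = G.δ j (yonedaEquiv g : G _⦋n + 1⦌) := by
  rw [stdSimplex.yonedaEquiv_δ_comp]; rfl

lemma yonedaEquiv_comp' {n : ℕ} (g : Δ[n] ⟶ G ⋙ forget AddCommGrpCat.{u}) :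
    (yonedaEquiv (g ≫ Functor.whiskerRight f (forget AddCommGrpCat.{u})) : H _⦋n⦌) =
      f.app _ (yonedaEquiv g : G _⦋n⦌) := rfl

theorem main (hf : ∀ n : SimplexCategoryᵒᵖ, Function.Surjective (f.app n))
    (hq : QuasiIso ((alternatingFaceMapComplex AddCommGrpCat.{u}).map f)) :
    I.rlp (X := G ⋙ forget AddCommGrpCat.{u}) (Y := H ⋙ forget AddCommGrpCat.{u})
      (Functor.whiskerRight f (forget AddCommGrpCat.{u})) := by
  set p := Functor.whiskerRight f (forget AddCommGrpCat.{u}) with hp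
  have hJ : J.rlp p := Groth.Agent.S6780.result f hf
  have : Fibration p := (modelCategoryQuillen.fibration_iff p).2 hJ
  intro A B ι hι
  obtain ⟨n⟩ := hι
  refine ⟨fun {t b} sq => ?_⟩
  obtain _ | n := n
  · obtain ⟨u, hu⟩ := hf _ (yonedaEquiv b)
    exact ⟨⟨{
      l := yonedaEquiv.symm u
      fac_left := by ext
      fac_right := yonedaEquiv.injective (by
        rw [yonedaEquiv_comp', Equiv.apply_symm_apply]; exact hu) }⟩⟩
  · -- the faces of the sphere
    have hcompat : horn.IsCompatible (i := (0 : Fin (n + 2)))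
        (fun j _ => boundary.ι j ≫ t) := by
      obtain _ | m := n
      · simp
      · simp only [horn.isCompatible_iff, ← Category.assoc]
        intro j k hj hk hjk
        congr 1
        obtain ⟨j, rfl⟩ := j.eq_castSucc_of_ne_last (Fin.ne_last_of_lt hjk)
        obtain ⟨k, rfl⟩ := k.eq_succ_of_ne_zero (Fin.ne_zero_of_lt hjk)
        rw [← cancel_mono (Subcomplex.ι _), Category.assoc, Category.assoc, boundary.ι_ι,
          boundary.ι_ι, Fin.pred_succ, Fin.castPred_castSucc, stdSimplex.δ_comp_δ (by grind)]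
    have hcomm : ∀ j : Fin (n + 2), (boundary.ι j ≫ t) ≫ p = stdSimplex.δ j ≫ b := by
      intro j
      rw [Category.assoc, sq.w, boundary.ι_ι_assoc]
    obtain ⟨φ₁, hφ₁, hφ₁p⟩ := hcompat.exists_lift p b (fun j _ => hcomm j)
    obtain ⟨u₁, hu₁⟩ : ∃ u₁ : G _⦋n + 1⦌, u₁ = yonedaEquiv φ₁ := ⟨_, rfl⟩
    obtain ⟨xx, hxx⟩ : ∃ xx : Fin (n + 2) → G _⦋n⦌, ∀ j, xx j = yonedaEquiv (boundary.ι j ≫ t) :=
      ⟨_, fun _ => rfl⟩
    obtain ⟨y, hy⟩ : ∃ y : H _⦋n + 1⦌, y = yonedaEquiv b := ⟨_, rfl⟩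
    have hface : ∀ j : Fin (n + 2), j ≠ 0 → G.δ j u₁ = xx j := by
      intro j hj
      rw [hu₁, ← yonedaEquiv_δ_comp', hφ₁ j hj, hxx]
    have hfu₁ : f.app _ u₁ = y := by
      rw [hu₁, ← yonedaEquiv_comp', ← hp, hφ₁p, hy]
    have hfx : ∀ j : Fin (n + 2), f.app _ (xx j) = H.δ j y := by
      intro j
      rw [hxx, ← yonedaEquiv_comp', ← hp, hcomm j, hy]
      exact yonedaEquiv_δ_comp' j b
    have hnat : ∀ (m : ℕ) (j : Fin (m + 2)) (a : G _⦋m + 1⦌),
        f.app _ (G.δ j a) = H.δ j (f.app _ a) := by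
      intro m j a
      have := congrArg (fun g => g a) (SimplicialObject.δ_naturality f j)
      simp only [ConcreteCategory.comp_apply] at this
      exact this
    have hz0 : f.app _ (xx 0 - G.δ 0 u₁) = 0 := by
      rw [map_sub, hfx, hnat, hfu₁, sub_self]
    obtain ⟨w, hw0, hw1, hw2⟩ : ∃ w : G _⦋n + 1⦌, f.app _ w = 0 ∧ G.δ 0 w = xx 0 - G.δ 0 u₁ ∧
        ∀ j : Fin (n + 1), G.δ j.succ w = 0 := by
      obtain _ | m := n
      · exact fillZero f hf hq _ hz0
      · refine fillSucc f hf hq m _ hz0 (fun j => ?_)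
        have h1 : G.δ j (G.δ 0 u₁) = G.δ 0 (G.δ j.succ u₁) := by
          have := congrArg (fun g => g u₁)
            (SimplicialObject.δ_comp_δ G (i := 0) (j := j) (Fin.zero_le j))
          simp only [ConcreteCategory.comp_apply] at this
          exact this.symm
        have h2 : stdSimplex.δ j ≫ boundary.ι (0 : Fin (m + 3)) =
            stdSimplex.δ 0 ≫ boundary.ι j.succ := by
          rw [← cancel_mono (Subcomplex.ι _), Category.assoc, Category.assoc, boundary.ι_ι,
            boundary.ι_ι]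
          exact (stdSimplex.δ_comp_δ (Fin.zero_le j)).symm
        rw [map_sub, h1, hface j.succ (Fin.succ_ne_zero j), sub_eq_zero, hxx, hxx,
          ← yonedaEquiv_δ_comp', ← yonedaEquiv_δ_comp', ← Category.assoc, ← Category.assoc, h2]
    have hfaces : ∀ j : Fin (n + 2), G.δ j (u₁ + w) = xx j := by
      intro j
      rw [map_add]
      obtain rfl | ⟨j', rfl⟩ := j.eq_zero_or_eq_succ
      · rw [hw1]; abel
      · rw [hw2, add_zero, hface _ (Fin.succ_ne_zero j')]
    exact ⟨⟨{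
      l := yonedaEquiv.symm (u₁ + w : G _⦋n + 1⦌)
      fac_left := boundary.hom_ext (fun j => by
        rw [boundary.ι_ι_assoc]
        apply yonedaEquiv.injective
        rw [← hxx]
        refine Eq.trans ?_ (hfaces j)
        rw [yonedaEquiv_δ_comp', Equiv.apply_symm_apply])
      fac_right := yonedaEquiv.injective (by
        rw [yonedaEquiv_comp', Equiv.apply_symm_apply, ← hy, map_add, hfu₁, hw0, add_zero]) }⟩⟩

end Main


end Aux

/-- A degreewise surjective homomorphism of simplicial abelian groups inducing a quasi-isomorphism of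
the associated chain complexes is a trivial Kan fibration of the underlying simplicial sets. -/
theorem result {X Y : SimplicialObject AddCommGrpCat.{u}} (f : X ⟶ Y) (hf : ∀ n : SimplexCategoryᵒᵖ, Function.Surjective (f.app n)) (hq : QuasiIso ((AlgebraicTopology.alternatingFaceMapComplex AddCommGrpCat.{u}).map f)) : SSet.modelCategoryQuillen.I.rlp (X := X ⋙ forget AddCommGrpCat.{u}) (Y := Y ⋙ forget AddCommGrpCat.{u}) (Functor.whiskerRight f (forget AddCommGrpCat.{u})) :=
  main f hf hq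

end Groth.Agent.S6781
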