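import Groth.Statements.S6782
import Mathlib.AlgebraicTopology.SimplicialSet.CategoryWithFibrations
import Mathlib.AlgebraicTopology.SimplicialSet.Boundary

set_option autoImplicit false
open CategoryTheory Opposite
universe u
open SSet

namespace Groth.Agent.S6782

open Simplicial MonoidalCategory

variable {U V : SSet.{u}} (f : V ⟶ U) (n : ℕ)

/-- lifting against `∂Δ[m] ⟶ Δ[m]` for `m ≤ n` -/
theorem lift_le (h1 : ∀ i : ℕ, i < n → Function.Bijective (f.app (op (SimplexCategory.mk i))))
    (h2 : Function.Surjective (f.app (op (SimplexCategory.mk n)))) (m : ℕ) (hm : m ≤ n) :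
    HasLiftingProperty (boundary.{u} m).ι f := by
  have hsurj : Function.Surjective (f.app (op (SimplexCategory.mk m))) := by
    rcases hm.lt_or_eq with h | h
    · exact (h1 m h).2
    · subst h; exact h2
  refine ⟨fun {t b} sq => ?_⟩
  obtain ⟨v, hv⟩ := hsurj (SSet.yonedaEquiv b)
  have hr : SSet.yonedaEquiv.symm v ≫ f = b := by
    apply SSet.yonedaEquiv.injective
    rw [SSet.yonedaEquiv_comp, Equiv.apply_symm_apply, hv]
  refine ⟨⟨{ l := SSet.yonedaEquiv.symm v, fac_left := ?_, fac_right := hr }⟩⟩
  cases m with
  | zero => exact boundary.hom_ext₀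
  | succ k =>
    apply boundary.hom_ext
    intro i
    apply SSet.yonedaEquiv.injective
    apply (h1 k (by omega)).1
    rw [← SSet.yonedaEquiv_comp, ← SSet.yonedaEquiv_comp]
    simp only [Category.assoc]
    rw [hr, sq.w]

section Ext

variable {A B : SSet.{u}} (j : A ⟶ B)
  (hj : ∀ d : (SimplexCategory.Truncated n)ᵒᵖ,
    Function.Bijective (j.app ((SimplexCategory.Truncated.inclusion n).op.obj d)))

include hj in
/-- uniqueness of extensions along a map which is bijective on the `n`-truncation -/
theorem ext_unique [SimplicialObject.IsCoskeletal V n] (l l' : B ⟶ V) (hl : j ≫ l = j ≫ l') :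
    l = l' := by
  apply Functor.hom_ext_of_isRightKanExtension V
    (𝟙 ((SimplexCategory.Truncated.inclusion n).op ⋙ V))
  ext d x
  obtain ⟨y, rfl⟩ := (hj d).2 x
  exact congrArg (fun g => g.app _ y) hl

/-- the extension on the truncation -/
noncomputable def ηext (t : A ⟶ V) :
    (SimplexCategory.Truncated.inclusion n).op ⋙ B ⟶
      (SimplexCategory.Truncated.inclusion n).op ⋙ V where
  app d := ↾(fun x => t.app _ ((Equiv.ofBijective _ (hj d)).symm x))
  naturality d d' θ := by
    ext x
    obtain ⟨y, rfl⟩ := (hj d).2 x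
    have e1 : (Equiv.ofBijective _ (hj d)).symm (j.app _ y) = y :=
      (Equiv.ofBijective _ (hj d)).symm_apply_apply y
    have e2 : (Equiv.ofBijective _ (hj d')).symm
        (B.map ((SimplexCategory.Truncated.inclusion n).op.map θ) (j.app _ y)) =
        A.map ((SimplexCategory.Truncated.inclusion n).op.map θ) y := by
      rw [Equiv.symm_apply_eq]
      exact (NatTrans.naturality_apply j _ y).symm
    show t.app _ ((Equiv.ofBijective _ (hj d')).symm
        (B.map ((SimplexCategory.Truncated.inclusion n).op.map θ) (j.app _ y))) =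
      V.map ((SimplexCategory.Truncated.inclusion n).op.map θ)
        (t.app _ ((Equiv.ofBijective _ (hj d)).symm (j.app _ y)))
    rw [e1, e2, NatTrans.naturality_apply]

include hj in
theorem ext_exists [SimplicialObject.IsCoskeletal V n] (t : A ⟶ V) : ∃ l : B ⟶ V, j ≫ l = t := by
  let l : B ⟶ V :=
    Functor.liftOfIsRightKanExtension V (𝟙 ((SimplexCategory.Truncated.inclusion n).op ⋙ V))
      B (ηext n j hj t)
  have hfac : ∀ d : (SimplexCategory.Truncated n)ᵒᵖ,
      l.app ((SimplexCategory.Truncated.inclusion n).op.obj d) = (ηext n j hj t).app d := by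
    intro d
    have := Functor.liftOfIsRightKanExtension_fac_app V
      (𝟙 ((SimplexCategory.Truncated.inclusion n).op ⋙ V)) B (ηext n j hj t) d
    exact (Category.comp_id (l.app _)).symm.trans this
  refine ⟨l, ?_⟩
  apply Functor.hom_ext_of_isRightKanExtension V
    (𝟙 ((SimplexCategory.Truncated.inclusion n).op ⋙ V))
  ext d y
  have h1 : l.app _ (j.app _ y) = (ηext n j hj t).app d (j.app _ y) := by rw [hfac]
  have h2 : (ηext n j hj t).app d (j.app _ y) = t.app _ y :=
    congrArg (t.app _) ((Equiv.ofBijective _ (hj d)).symm_apply_apply y)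
  exact h1.trans h2

include hj in
theorem lift_of_bij [SimplicialObject.IsCoskeletal V n] [SimplicialObject.IsCoskeletal U n] :
    HasLiftingProperty j f := by
  refine ⟨fun {t b} sq => ?_⟩
  obtain ⟨l, hl⟩ := ext_exists n j hj t
  refine ⟨⟨{ l := l, fac_left := hl, fac_right := ?_ }⟩⟩
  apply ext_unique n j hj
  rw [← Category.assoc, hl, sq.w]

end Ext

theorem boundary_bij (m : ℕ) (hm : n < m) (d : (SimplexCategory.Truncated n)ᵒᵖ) :
    Function.Bijective ((boundary.{u} m).ι.app
      ((SimplexCategory.Truncated.inclusion n).op.obj d)) := by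
  obtain ⟨⟨d, hd⟩⟩ := d
  induction d using SimplexCategory.rec with | _ k =>
  have hk : k < m := lt_of_le_of_lt hd hm
  constructor
  · intro x y hxy
    exact Subtype.ext hxy
  · intro x
    have hx : x ∈ (boundary.{u} m).obj (op ⦋k⦌) := by
      rw [boundary_obj_eq_univ k m hk]; trivial
    exact ⟨⟨x, hx⟩, rfl⟩

theorem main_aux (h1 : ∀ i : ℕ, i < n → Function.Bijective (f.app (op (SimplexCategory.mk i))))
    (h2 : Function.Surjective (f.app (op (SimplexCategory.mk n))))
    [SimplicialObject.IsCoskeletal U n] [SimplicialObject.IsCoskeletal V n] :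
    SSet.modelCategoryQuillen.I.rlp f := by
  rintro _ _ _ ⟨m⟩
  by_cases hm : m ≤ n
  · exact lift_le f n h1 h2 m hm
  · exact lift_of_bij f n _ (boundary_bij n m (by omega))


/-- A map of `n`-coskeletal simplicial sets which is bijective on simplices of dimension `< n` and
surjective on `n`-simplices is a trivial Kan fibration. -/
theorem result {U V : SSet.{u}} (f : V ⟶ U) (n : ℕ) (h1 : ∀ i : ℕ, i < n → Function.Bijective (f.app (op (SimplexCategory.mk i)))) (h2 : Function.Surjective (f.app (op (SimplexCategory.mk n)))) [SimplicialObject.IsCoskeletal U n] [SimplicialObject.IsCoskeletal V n] : SSet.modelCategoryQuillen.I.rlp f := by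
  exact main_aux f n h1 h2

end Groth.Agent.S6782
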