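import Groth.Statements.S6783


set_option autoImplicit false
open CategoryTheory
universe u
open SSet

namespace Groth.Agent.S6783

section Aux

open Simplicial Opposite SimplicialObject Limits

variable {A B : Type u} (f : A ⟶ B)

lemma equiv_naturality (X' X : Augmented (Type u)) (incl : X' ⟶ X) (F : Arrow (Type u))
    (ψ : Augmented.toArrow.obj X ⟶ F) :
    cechNerveEquiv X' F (Augmented.toArrow.map incl ≫ ψ) = incl ≫ cechNerveEquiv X F ψ := by
  have := (cechNerveAdjunction (C := Type u)).homEquiv_naturality_left incl ψ
  simp only [cechNerveAdjunction, Adjunction.mkOfHomEquiv_homEquiv] at this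
  exact this

open modelCategoryQuillen in
theorem main (hf : Function.Surjective f) :
    I.rlp (Arrow.mk f).augmentedCechNerve.hom := by
  intro _ _ ι hι
  obtain ⟨n⟩ := hι
  refine ⟨fun {t b} sq => ?_⟩
  let Xb : Augmented (Type u) := Comma.mk (left := (∂Δ[n] : SSet.{u})) (right := B) (∂Δ[n].ι ≫ b)
  let Xs : Augmented (Type u) := Comma.mk (left := (Δ[n] : SSet.{u})) (right := B) b
  let incl : Xb ⟶ Xs := CommaMorphism.mk (left := ∂Δ[n].ι) (right := 𝟙 B) (by
    dsimp [Xb, Xs]
    ext m x
    rfl)
  let T : Xb ⟶ (Arrow.mk f).augmentedCechNerve := CommaMorphism.mk (left := t) (right := 𝟙 B) (by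
    dsimp [Xb]
    rw [sq.w]
    ext m x
    rfl)
  suffices h : ∃ L : Xs ⟶ (Arrow.mk f).augmentedCechNerve, incl ≫ L = T by
    obtain ⟨L, hL⟩ := h
    have hr : L.right = 𝟙 B := by
      have := congrArg CommaMorphism.right hL
      exact (Category.id_comp L.right).symm.trans this
    have hw := L.w
    exact ⟨⟨{
      l := L.left
      fac_left := congrArg CommaMorphism.left hL
      fac_right := by
        rw [hr] at hw
        refine hw.trans ?_
        ext m x
        rfl }⟩⟩
  suffices h : ∃ ψ : Augmented.toArrow.obj Xs ⟶ Arrow.mk f,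
      Augmented.toArrow.map incl ≫ ψ = (cechNerveEquiv Xb (Arrow.mk f)).symm T by
    obtain ⟨ψ, hψ⟩ := h
    refine ⟨cechNerveEquiv Xs (Arrow.mk f) ψ, ?_⟩
    rw [← equiv_naturality, hψ, Equiv.apply_symm_apply]
  obtain _ | n := n
  · refine ⟨Arrow.homMk (u := ↾(fun x => Function.surjInv hf (b.app _ x))) (v := 𝟙 B) ?_, ?_⟩
    · ext x
      exact Function.surjInv_eq hf _
    · ext x
      · obtain ⟨x, hx⟩ := x
        simp [boundary_zero] at hx
      · rfl
  · have : IsIso (Augmented.toArrow.map incl) := by
      have h1 : IsIso (Augmented.toArrow.map incl).left := by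
        rw [isIso_iff_bijective]
        constructor
        · intro x y h
          exact Subtype.ext h
        · intro x
          exact ⟨⟨x, by rw [boundary_obj_eq_univ 0 (n + 1)]; trivial⟩, rfl⟩
      have h2 : IsIso (Augmented.toArrow.map incl).right := by
        change IsIso (𝟙 B)
        infer_instance
      exact Arrow.isIso_of_isIso_left_of_isIso_right _
    exact ⟨inv (Augmented.toArrow.map incl) ≫ _, IsIso.hom_inv_id_assoc _ _⟩

end Aux


/-- For a surjective map of sets `f : A → B`, the augmentation from the Čech nerve of `f` (with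
`n`-simplices the `(n+1)`-fold fibre product of `A` over `B`) to the constant simplicial set `B` is
a trivial Kan fibration. -/
theorem result {A B : Type u} (f : A ⟶ B) (hf : Function.Surjective f) : SSet.modelCategoryQuillen.I.rlp (Arrow.mk f).augmentedCechNerve.hom :=
  main f hf

end Groth.Agent.S6783
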