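import Groth.Statements.S6784
import Mathlib.CategoryTheory.Functor.KanExtension.Pointwise

set_option autoImplicit false
open CategoryTheory
universe u
open SSet

namespace Groth.Agent.S6784

section Aux
open CategoryTheory CategoryTheory.Limits Opposite Simplicial SimplexCategory
open SimplexCategory.Truncated CategoryTheory.Functor

variable (N : ℕ)

/-- evaluation of a simplex of the standard simplex at a vertex -/
def ev {a : SimplexCategory} (y : (stdSimplex.{u}.obj ⦋N⦌).obj (op a)) (l : Fin (a.len + 1)) :
    Fin (N + 1) :=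
  stdSimplex.asOrderHom y l

lemma ev_mono {a : SimplexCategory} (y : (stdSimplex.{u}.obj ⦋N⦌).obj (op a)) :
    Monotone (ev N y) := (stdSimplex.asOrderHom y).monotone

lemma ev_map {a a' : SimplexCategory} (θ : a' ⟶ a) (y : (stdSimplex.{u}.obj ⦋N⦌).obj (op a))
    (l : Fin (a'.len + 1)) :
    ev N ((stdSimplex.{u}.obj ⦋N⦌).map θ.op y) l = ev N y (θ.toOrderHom l) := rfl

lemma ev_ext {a : SimplexCategory} (y y' : (stdSimplex.{u}.obj ⦋N⦌).obj (op a))
    (h : ∀ l, ev N y l = ev N y' l) : y = y' := by
  apply stdSimplex.objEquiv.injective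
  apply SimplexCategory.Hom.ext
  ext l : 2
  exact h l

lemma ev_objMk {a : SimplexCategory} (g : Fin (a.len + 1) →o Fin (N + 1)) (l : Fin (a.len + 1)) :
    ev N (stdSimplex.objMk.{u} (n := ⦋N⦌) (m := op a) g) l = g l := rfl

/-- The vertex objects of the comma category. -/
abbrev vtx (m : SimplexCategory) (k : Fin (m.len + 1)) :
    StructuredArrow (op m) (Truncated.inclusion 1).op :=
  StructuredArrow.mk (Y := op (⟨⦋0⦌, by simp⟩ : SimplexCategory.Truncated 1))
    (SimplexCategory.const ⦋0⦌ m k).op

/-- The edge objects of the comma category. -/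
abbrev edg (m : SimplexCategory) (k k' : Fin (m.len + 1)) (h : k ≤ k') :
    StructuredArrow (op m) (Truncated.inclusion 1).op :=
  StructuredArrow.mk (Y := op (⟨⦋1⦌, by simp⟩ : SimplexCategory.Truncated 1))
    (SimplexCategory.mkOfLe (n := m.len) k k' h).op

/-- The morphism from an object of the comma category to one of its vertices. -/
def toVtx (m : SimplexCategory) (j : StructuredArrow (op m) (Truncated.inclusion 1).op)
    (l : Fin (j.right.unop.obj.len + 1)) :
    j ⟶ vtx m (j.hom.unop.toOrderHom l) :=
  StructuredArrow.homMk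
    (Quiver.Hom.op (ObjectProperty.homMk (SimplexCategory.const ⦋0⦌ j.right.unop.obj l)))
    (by
      apply Quiver.Hom.unop_inj
      ext x
      rfl)

/-- The vertex function of a point of a cone. -/
def vfun (m : SimplexCategory)
    (s : Cone (StructuredArrow.proj (op m) (inclusion 1).op ⋙ (inclusion 1).op ⋙
      stdSimplex.{u}.obj ⦋N⦌)) (x : s.pt) (k : Fin (m.len + 1)) : Fin (N + 1) :=
  ev N (a := ⦋0⦌) (s.π.app (vtx m k) x) 0

lemma vfun_eq (m : SimplexCategory)
    (s : Cone (StructuredArrow.proj (op m) (inclusion 1).op ⋙ (inclusion 1).op ⋙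
      stdSimplex.{u}.obj ⦋N⦌)) (x : s.pt)
    (j : StructuredArrow (op m) (Truncated.inclusion 1).op)
    (l : Fin (j.right.unop.obj.len + 1)) :
    vfun N m s x (j.hom.unop.toOrderHom l) = ev N (a := j.right.unop.obj) (s.π.app j x) l := by
  have h := ConcreteCategory.congr_hom (s.w (toVtx m j l)) x
  unfold vfun
  rw [← h]
  rfl

lemma vfun_mono (m : SimplexCategory)
    (s : Cone (StructuredArrow.proj (op m) (inclusion 1).op ⋙ (inclusion 1).op ⋙
      stdSimplex.{u}.obj ⦋N⦌)) (x : s.pt) : Monotone (vfun N m s x) := by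
  intro k k' h
  have h0 := vfun_eq N m s x (edg m k k' h) 0
  have h1 := vfun_eq N m s x (edg m k k' h) 1
  have := ev_mono N (a := ⦋1⦌) (s.π.app (edg m k k' h) x) (show (0 : Fin 2) ≤ 1 by decide)
  exact (h0.trans_le this).trans h1.symm.le

noncomputable def isPointwise (m : SimplexCategory) :
    (SimplicialObject.Truncated.rightExtensionInclusion (stdSimplex.{u}.obj ⦋N⦌) 1).IsPointwiseRightKanExtensionAt
      (op m) where
  lift s := ↾fun x => stdSimplex.objMk.{u} (n := ⦋N⦌) (m := op m)
    ⟨vfun N m s x, vfun_mono N m s x⟩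
  fac s j := by
    ext x
    apply ev_ext
    intro l
    have h := vfun_eq N m s x j l
    refine Eq.trans ?_ h
    rfl
  uniq s t ht := by
    ext x
    apply ev_ext
    intro k
    have h := ConcreteCategory.congr_hom (ht (vtx m k)) x
    refine Eq.trans ?_ (ev_objMk N _ k).symm
    change _ = vfun N m s x k
    unfold vfun
    rw [← h]
    rfl

theorem isCoskeletal_stdSimplex :
    SimplicialObject.IsCoskeletal (stdSimplex.{u}.obj ⦋N⦌) 1 where
  isRightKanExtension :=
    RightExtension.IsPointwiseRightKanExtension.isRightKanExtension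
      (E := SimplicialObject.Truncated.rightExtensionInclusion (stdSimplex.{u}.obj ⦋N⦌) 1)
      (fun Δ => isPointwise N Δ.unop)

end Aux

/-- The standard simplex `Δ[n]` is `1`-coskeletal, i.e. it is the right Kan extension of its
`1`-truncation. -/
theorem result (n : ℕ) : SimplicialObject.IsCoskeletal (SSet.stdSimplex.{u}.obj (SimplexCategory.mk n)) 1 := by
  exact isCoskeletal_stdSimplex n

end Groth.Agent.S6784
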