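import Groth.Statements.S6799

set_option autoImplicit false
open CategoryTheory Opposite
universe u
open SSet

namespace Groth.Agent.S6799

open Simplicial MonoidalCategory


/-- `α` is the constant simplex at the vertex `1` -/
def IsOne {m : SimplexCategoryᵒᵖ} (α : (Δ[1] : SSet.{u}).obj m) : Prop :=
  ∀ i, (stdSimplex.objEquiv α).toOrderHom i = 1

lemma isOne_map_iff {m m' : SimplexCategoryᵒᵖ} (θ : m ⟶ m') (α : (Δ[1] : SSet.{u}).obj m) :
    IsOne ((Δ[1] : SSet.{u}).map θ α) ↔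
      ∀ i, (stdSimplex.objEquiv α).toOrderHom (θ.unop.toOrderHom i) = 1 := by
  rfl

lemma isOne_map {m m' : SimplexCategoryᵒᵖ} (θ : m ⟶ m') (α : (Δ[1] : SSet.{u}).obj m)
    (h : IsOne α) : IsOne ((Δ[1] : SSet.{u}).map θ α) := by
  rw [isOne_map_iff]
  intro i
  exact h _

variable {U V : SSet.{u}} (f₀ f₁ : V ⟶ U) (n : ℕ)

lemma agree_map {m m' : SimplexCategoryᵒᵖ} (θ : m ⟶ m') (v : V.obj m)
    (hv : f₀.app m v = f₁.app m v) : f₀.app m' (V.map θ v) = f₁.app m' (V.map θ v) := by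
  rw [NatTrans.naturality_apply, NatTrans.naturality_apply, hv]

variable (h : ∀ i : ℕ, i < n → f₀.app (op (SimplexCategory.mk i)) = f₁.app (op (SimplexCategory.mk i)))

include h in
lemma agree_of_lt (m : SimplexCategoryᵒᵖ) (hm : m.unop.len < n) (v : V.obj m) :
    f₀.app m v = f₁.app m v := by
  obtain ⟨m⟩ := m
  induction m using SimplexCategory.rec with | _ k =>
  exact congrArg (fun g => g v) (h k hm)


include h in
lemma agree_of_isOne_map {m m' : SimplexCategoryᵒᵖ} (hm : m.unop.len ≤ n) (θ : m ⟶ m')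
    (α : (Δ[1] : SSet.{u}).obj m) (hα : ¬ IsOne α) (hθ : IsOne ((Δ[1] : SSet.{u}).map θ α))
    (v : V.obj m) : f₀.app m' (V.map θ v) = f₁.app m' (V.map θ v) := by
  rw [isOne_map_iff] at hθ
  have hns : ¬ Function.Surjective θ.unop.toOrderHom := by
    intro hs
    apply hα
    intro j
    obtain ⟨i, rfl⟩ := hs j
    exact hθ i
  obtain ⟨m⟩ := m
  induction m using SimplexCategory.rec with | _ k =>
  cases k with
  | zero =>
    exfalso
    apply hns
    intro j
    exact ⟨0, Subsingleton.elim (α := Fin 1) _ _⟩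
  | succ k =>
    obtain ⟨i, θ', hθ'⟩ := SimplexCategory.eq_comp_δ_of_not_surjective θ.unop hns
    have hθ'' : θ = (SimplexCategory.δ i).op ≫ θ'.op := by
      rw [← op_comp, ← hθ']; rfl
    rw [hθ'', Functor.map_comp_apply]
    apply agree_map
    exact agree_of_lt f₀ f₁ n h _ (by simp at hm ⊢; omega) _

open Classical in
include h in
lemma η_nat {m m' : SimplexCategoryᵒᵖ} (hm : m.unop.len ≤ n) (θ' : m ⟶ m')
    (x : (V ⊗ Δ[1]).obj m) :
    (if IsOne ((Δ[1] : SSet.{u}).map θ' x.2) then f₁.app _ (V.map θ' x.1)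
      else f₀.app _ (V.map θ' x.1)) =
        U.map θ' (if IsOne x.2 then f₁.app _ x.1 else f₀.app _ x.1) := by
  by_cases h1 : IsOne x.2
  · rw [if_pos h1, if_pos (isOne_map θ' _ h1), NatTrans.naturality_apply]
  · rw [if_neg h1]
    by_cases h2 : IsOne ((Δ[1] : SSet.{u}).map θ' x.2)
    · rw [if_pos h2, ← agree_of_isOne_map f₀ f₁ n h hm θ' x.2 h1 h2 x.1,
        NatTrans.naturality_apply]
    · rw [if_neg h2, NatTrans.naturality_apply]

open Classical in
/-- the homotopy on the `n`-truncation -/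
noncomputable def η (h : ∀ i : ℕ, i < n → f₀.app (op (SimplexCategory.mk i)) = f₁.app (op (SimplexCategory.mk i))) :
    (SimplexCategory.Truncated.inclusion n).op ⋙ (V ⊗ Δ[1]) ⟶
      (SimplexCategory.Truncated.inclusion n).op ⋙ U where
  app d := ↾(fun x => if IsOne x.2 then f₁.app _ x.1 else f₀.app _ x.1)
  naturality d d' θ := by
    ext x
    exact η_nat f₀ f₁ n h d.unop.property θ.unop.hom.op x

lemma not_isOne_ι₀ (m : SimplexCategoryᵒᵖ) (x : V.obj m) :
    ¬ IsOne ((ι₀ : V ⟶ V ⊗ Δ[1]).app m x).2 := by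
  intro hx
  have := hx 0
  revert this
  show ((0 : Fin 2) = 1) → False
  decide

lemma isOne_ι₁ (m : SimplexCategoryᵒᵖ) (x : V.obj m) :
    IsOne ((ι₁ : V ⟶ V ⊗ Δ[1]).app m x).2 := by
  intro i
  rfl

theorem main_aux (h : ∀ i : ℕ, i < n → f₀.app (op (SimplexCategory.mk i)) = f₁.app (op (SimplexCategory.mk i)))
    [SimplicialObject.IsCoskeletal U n] : Nonempty (SSet.Homotopy f₀ f₁) := by
  let hm : V ⊗ Δ[1] ⟶ U :=
    Functor.liftOfIsRightKanExtension U (𝟙 ((SimplexCategory.Truncated.inclusion n).op ⋙ U))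
      (V ⊗ Δ[1]) (η f₀ f₁ n h)
  have hfac : ∀ d : (SimplexCategory.Truncated n)ᵒᵖ,
      hm.app ((SimplexCategory.Truncated.inclusion n).op.obj d) = (η f₀ f₁ n h).app d := by
    intro d
    have := Functor.liftOfIsRightKanExtension_fac_app U
      (𝟙 ((SimplexCategory.Truncated.inclusion n).op ⋙ U)) (V ⊗ Δ[1]) (η f₀ f₁ n h) d
    exact (Category.comp_id (hm.app _)).symm.trans this
  have h₀ : ι₀ ≫ hm = f₀ := by
    apply Functor.hom_ext_of_isRightKanExtension U
      (𝟙 ((SimplexCategory.Truncated.inclusion n).op ⋙ U))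
    ext d x
    have h1 : hm.app _ (ι₀.app _ x) = (η f₀ f₁ n h).app d (ι₀.app _ x) := by rw [hfac]
    have h2 : (η f₀ f₁ n h).app d (ι₀.app _ x) = f₀.app _ x :=
      if_neg (not_isOne_ι₀ _ x)
    exact h1.trans h2
  have h₁ : ι₁ ≫ hm = f₁ := by
    apply Functor.hom_ext_of_isRightKanExtension U
      (𝟙 ((SimplexCategory.Truncated.inclusion n).op ⋙ U))
    ext d x
    have h1 : hm.app _ (ι₁.app _ x) = (η f₀ f₁ n h).app d (ι₁.app _ x) := by rw [hfac]
    have h2 : (η f₀ f₁ n h).app d (ι₁.app _ x) = f₁.app _ x :=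
      if_pos (isOne_ι₁ _ x)
    exact h1.trans h2
  refine ⟨{ h := hm, h₀ := h₀, h₁ := h₁, rel := ?_ }⟩
  ext m x
  obtain ⟨⟨a, ha⟩, b⟩ := x
  exact ha.elim


/-- Two maps between `n`-coskeletal simplicial sets which agree on simplices of dimension `< n` are
homotopic, by a single homotopy. -/
theorem result {U V : SSet.{u}} (f₀ f₁ : V ⟶ U) (n : ℕ) (h : ∀ i : ℕ, i < n → f₀.app (op (SimplexCategory.mk i)) = f₁.app (op (SimplexCategory.mk i))) [SimplicialObject.IsCoskeletal U n] [SimplicialObject.IsCoskeletal V n] : Nonempty (SSet.Homotopy f₀ f₁) := by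
  exact main_aux f₀ f₁ n h

end Groth.Agent.S6799
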