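import Groth.Statements.S6785
import Groth.Agent.S6799

set_option autoImplicit false
open CategoryTheory
universe u
open SSet

namespace Groth.Agent.S6785

section Aux

open Simplicial MonoidalCategory Groth.Agent.S6799

/-- `α` is the constant simplex at the vertex `0` -/
def IsZ {m : SimplexCategoryᵒᵖ} (α : (Δ[1] : SSet.{u}).obj m) : Prop :=
  ∀ i, (stdSimplex.objEquiv α).toOrderHom i = 0

lemma isZ_map {m m' : SimplexCategoryᵒᵖ} (θ : m ⟶ m') (α : (Δ[1] : SSet.{u}).obj m)
    (h : IsZ α) : IsZ ((Δ[1] : SSet.{u}).map θ α) := by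
  intro i
  exact h _

lemma not_isOne_of_isZ {m : SimplexCategoryᵒᵖ} (α : (Δ[1] : SSet.{u}).obj m) (h : IsZ α) :
    ¬ IsOne α := by
  intro h1
  have h0 := h 0
  rw [h1 0] at h0
  exact absurd h0 (by decide)

/-- The two ends of the cylinder. -/
def ends (X : SSet.{u}) : (X ⊗ Δ[1]).Subcomplex where
  obj m := {p | IsOne p.2 ∨ IsZ p.2}
  map θ p hp := by
    rcases hp with hp | hp
    · exact Or.inl (isOne_map θ _ hp)
    · exact Or.inr (isZ_map θ _ hp)

variable {W X Y : SSet.{u}} (f : X ⟶ Y)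

open Classical in
lemma endsMap_nat (u₀ u₁ : W ⟶ X) {m m' : SimplexCategoryᵒᵖ} (θ : m ⟶ m')
    (p : (W ⊗ Δ[1]).obj m) (hp : p ∈ (ends W).obj m) :
    (if IsOne ((Δ[1] : SSet.{u}).map θ p.2) then u₁.app _ (W.map θ p.1)
      else u₀.app _ (W.map θ p.1)) =
        X.map θ (if IsOne p.2 then u₁.app _ p.1 else u₀.app _ p.1) := by
  rcases hp with hp | hp
  · rw [if_pos hp, if_pos (isOne_map θ _ hp), NatTrans.naturality_apply]
  · rw [if_neg (not_isOne_of_isZ _ hp), if_neg (not_isOne_of_isZ _ (isZ_map θ _ hp)),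
      NatTrans.naturality_apply]

open Classical in
/-- The map on the ends of the cylinder. -/
noncomputable def endsMap (u₀ u₁ : W ⟶ X) : ((ends W : (W ⊗ Δ[1]).Subcomplex) : SSet.{u}) ⟶ X where
  app m := ↾(fun p => if IsOne p.1.2 then u₁.app m p.1.1 else u₀.app m p.1.1)
  naturality m m' θ := by
    ext ⟨p, hp⟩
    exact endsMap_nat u₀ u₁ θ p hp

lemma isZ_ι₀ (m : SimplexCategoryᵒᵖ) (x : W.obj m) :
    IsZ ((ι₀ : W ⟶ W ⊗ Δ[1]).app m x).2 := by
  intro i
  rfl

include f in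
theorem nonempty_homotopy (hf : (MorphismProperty.monomorphisms SSet.{u}).rlp f)
    (u₀ u₁ : W ⟶ X) (h : u₀ ≫ f = u₁ ≫ f) : Nonempty (SSet.Homotopy u₀ u₁) := by
  have sq : CommSq (endsMap u₀ u₁) (ends W).ι f (CartesianMonoidalCategory.fst _ _ ≫ u₀ ≫ f) := by
    constructor
    ext m ⟨p, hp⟩
    by_cases h1 : IsOne p.2
    · have : (endsMap u₀ u₁).app m ⟨p, hp⟩ = u₁.app m p.1 := if_pos h1
      change f.app m ((endsMap u₀ u₁).app m ⟨p, hp⟩) = f.app m (u₀.app m p.1)
      rw [this]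
      exact (congrArg (fun g => g.app m p.1) h).symm
    · have : (endsMap u₀ u₁).app m ⟨p, hp⟩ = u₀.app m p.1 := if_neg h1
      change f.app m ((endsMap u₀ u₁).app m ⟨p, hp⟩) = f.app m (u₀.app m p.1)
      rw [this]
  have := hf (ends W).ι (MorphismProperty.monomorphisms.infer_property _)
  refine ⟨{ h := sq.lift, h₀ := ?_, h₁ := ?_, rel := ?_ }⟩
  · ext m x
    have h2 : (ends W).ι ≫ sq.lift = endsMap u₀ u₁ := sq.fac_left
    have h3 := congrArg (fun g => g.app m ⟨ι₀.app m x, Or.inr (isZ_ι₀ m x)⟩) h2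
    exact h3.trans (if_neg (not_isOne_ι₀ _ x))
  · ext m x
    have h2 : (ends W).ι ≫ sq.lift = endsMap u₀ u₁ := sq.fac_left
    have h3 := congrArg (fun g => g.app m ⟨ι₁.app m x, Or.inl (isOne_ι₁ m x)⟩) h2
    exact h3.trans (if_pos (isOne_ι₁ _ x))
  · ext m x
    obtain ⟨⟨a, ha⟩, b⟩ := x
    exact ha.elim

end Aux


/-- A trivial Kan fibration `f : X ⟶ Y` of simplicial sets is a homotopy equivalence; more precisely it
has a section `g`, and `g ∘ f` is homotopic to the identity of `X` by a single homotopy in each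
direction. (The published statement only asserts a homotopy equivalence; the section and the
one-step homotopies are what its proof constructs.) -/
theorem result {X Y : SSet.{u}} (f : X ⟶ Y) (hf : SSet.modelCategoryQuillen.I.rlp f) : ∃ g : Y ⟶ X, g ≫ f = 𝟙 Y ∧ Nonempty (SSet.Homotopy (𝟙 X) (f ≫ g)) ∧ Nonempty (SSet.Homotopy (f ≫ g) (𝟙 X)) := by
  have hf' : (MorphismProperty.monomorphisms SSet.{u}).rlp f := by
    rw [SSet.rlp_monomorphisms]; exact hf
  have sq : CommSq (Subcomplex.isInitialBot.to X) (⊥ : Y.Subcomplex).ι f (𝟙 Y) :=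
    ⟨Subcomplex.isInitialBot.hom_ext _ _⟩
  have := hf' (⊥ : Y.Subcomplex).ι (MorphismProperty.monomorphisms.infer_property _)
  refine ⟨sq.lift, sq.fac_right, ?_, ?_⟩
  · exact nonempty_homotopy f hf' (𝟙 X) (f ≫ sq.lift) (by
      rw [Category.id_comp, Category.assoc, sq.fac_right, Category.comp_id])
  · exact nonempty_homotopy f hf' (f ≫ sq.lift) (𝟙 X) (by
      rw [Category.id_comp, Category.assoc, sq.fac_right, Category.comp_id])

end Groth.Agent.S6785
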