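import Groth.Statements.S6786
import Groth.Agent.Lib.MLTower31

set_option autoImplicit false
open CategoryTheory CategoryTheory.Limits
universe u
open HomAlg3

namespace Groth.Agent.S6786

/-- For a sequence `(A_i) ⟶ (B_i) ⟶ (C_i) ⟶ (D_i)` of inverse systems of abelian groups over `ℕ` that is
exact levelwise at the two middle places, if `(A_i)` is Mittag-Leffler then `lim B_i ⟶ lim C_i ⟶ lim
D_i` is exact. -/
theorem result {A B C D : ℕᵒᵖ ⥤ AddCommGrpCat.{u}} (a : A ⟶ B) (b : B ⟶ C) (c : C ⟶ D) (hB : ∀ i, (b.app i).hom.ker = (a.app i).hom.range) (hC : ∀ i, (c.app i).hom.ker = (b.app i).hom.range) (hA : (A ⋙ forget AddCommGrpCat).IsMittagLeffler) : (limMap c).hom.ker = (limMap b).hom.range := by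
  classical
  open Groth.Agent.MLTower31 in
  apply le_antisymm
  · intro x hx
    rw [AddMonoidHom.mem_ker] at hx
    have hx' : ∀ i, ∃ e, (b.app i).hom e = (limit.π C i).hom x := by
      intro i
      have h0 : (limit.π D i).hom ((limMap c).hom x) = 0 := by rw [hx, map_zero]
      rw [π_limMap] at h0
      have : (limit.π C i).hom x ∈ (c.app i).hom.ker := h0
      rw [hC i] at this
      exact this
    obtain ⟨y, hy⟩ := exists_limit_lift a b hB hA x hx'
    exact ⟨y, hy⟩
  · rintro _ ⟨y, rfl⟩
    rw [AddMonoidHom.mem_ker]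
    apply limit_ext D
    intro i
    rw [π_limMap, π_limMap, map_zero]
    have : (b.app i).hom ((limit.π B i).hom y) ∈ (c.app i).hom.ker := by
      rw [hC i]; exact ⟨_, rfl⟩
    exact this

end Groth.Agent.S6786
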