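import Groth.Statements.S6787
import Groth.Agent.Lib.MLTower31

set_option autoImplicit false
open CategoryTheory CategoryTheory.Limits
universe u
open HomAlg3

namespace Groth.Agent.S6787

/-- Take inverse systems `(A_i)`, `(B_i)`, `(C_i)` of abelian groups over `ℕ`, with morphisms of systems
`(A_i) ⟶ (B_i) ⟶ (C_i)` that give a short exact sequence at every index, and suppose `(C_i)` is
essentially constant. Then `(A_i)` is Mittag-Leffler if and only if `(B_i)` is. -/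
theorem result {A B C : ℕᵒᵖ ⥤ AddCommGrpCat.{u}} (a : A ⟶ B) (b : B ⟶ C) (ha : ∀ i, Function.Injective (a.app i).hom) (hb : ∀ i, Function.Surjective (b.app i).hom) (hex : ∀ i, (b.app i).hom.ker = (a.app i).hom.range) (hC : ∃ (C₀ : AddCommGrpCat.{u}) (c : (Functor.const ℕᵒᵖ).obj C₀ ⟶ C), DerCA.IsEssConstant C C₀ c) : (A ⋙ forget AddCommGrpCat).IsMittagLeffler ↔ (B ⋙ forget AddCommGrpCat).IsMittagLeffler := by
  classical
  open Groth.Agent.MLTower31 Opposite in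
  obtain ⟨C₀, c, i₀, s, hs, hc⟩ := hC
  -- naturality of the cone `c`
  have hcn : ∀ {n m : ℕ} (h : n ≤ m) (γ : C₀), (tr C h).hom ((c.app (op m)).hom γ) =
      (c.app (op n)).hom γ := by
    intro n m h γ
    have := ConcreteCategory.congr_hom (c.naturality (homOfLE h).op) γ
    exact this.symm
  -- the factorization property
  have hfac : ∀ j : ℕ, ∃ (k : ℕ) (hi : i₀ ≤ k) (hj : j ≤ k), ∀ γ : C.obj (op k),
      (tr C hj).hom γ = (c.app (op j)).hom (s.hom ((tr C hi).hom γ)) := by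
    intro j
    obtain ⟨k, hi, hj, h⟩ := hc j
    exact ⟨k, hi, hj, fun γ => ConcreteCategory.congr_hom h γ⟩
  have hba : ∀ (i : ℕᵒᵖ) (α : A.obj i), (b.app i).hom ((a.app i).hom α) = 0 := by
    intro i α
    have : (a.app i).hom α ∈ (b.app i).hom.ker := by rw [hex i]; exact ⟨α, rfl⟩
    exact this
  have hker : ∀ (i : ℕᵒᵖ) (x : B.obj i), (b.app i).hom x = 0 → ∃ α, (a.app i).hom α = x := by
    intro i x hx
    have : x ∈ (b.app i).hom.ker := hx
    rw [hex i] at this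
    exact this
  rw [isMittagLeffler_iff, isMittagLeffler_iff]
  constructor
  · intro hA j
    obtain ⟨i₁, hji₁, h₁⟩ := hA j
    obtain ⟨i₂, hi₀i₂, hi₁i₂, h₂⟩ := hfac i₁
    refine ⟨i₂, hji₁.trans hi₁i₂, fun k hk x => ?_⟩
    -- γ' ∈ C_k with γ'|_{i₁} = b(x)|_{i₁}
    let γ₀ : C₀ := s.hom ((tr C hi₀i₂).hom ((b.app (op i₂)).hom x))
    obtain ⟨z, hz⟩ := hb (op k) ((c.app (op k)).hom γ₀)
    have hz' : (b.app (op i₁)).hom ((tr B (hi₁i₂.trans hk)).hom z - (tr B hi₁i₂).hom x) = 0 := by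
      rw [map_sub, ← nat_tr, ← nat_tr, hz, hcn, h₂, sub_self]
    obtain ⟨α, hα⟩ := hker _ _ hz'
    obtain ⟨β, hβ⟩ := h₁ k (hi₁i₂.trans hk) α
    refine ⟨z - (a.app (op k)).hom β, ?_⟩
    rw [map_sub, nat_tr a, hβ, ← nat_tr a, hα, map_sub, tr_tr, tr_tr]
    abel
  · intro hB j
    let j' : ℕ := max i₀ j
    have hi₀j' : i₀ ≤ j' := le_max_left _ _
    have hjj' : j ≤ j' := le_max_right _ _
    obtain ⟨i₁, hj'i₁, h₁⟩ := hB j'
    refine ⟨i₁, hjj'.trans hj'i₁, fun m hm α => ?_⟩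
    obtain ⟨k', hi₀k', hmk', h₂⟩ := hfac m
    obtain ⟨y', hy'⟩ := h₁ k' (hm.trans hmk') ((a.app (op i₁)).hom α)
    have hby : (b.app (op m)).hom ((tr B hmk').hom y') = 0 := by
      rw [← nat_tr, h₂, nat_tr]
      have : (tr B hi₀k').hom y' = (tr B hi₀j').hom ((tr B (hj'i₁.trans (hm.trans hmk'))).hom y') :=
        (tr_tr B _ _ _).symm
      rw [this, hy', nat_tr a, nat_tr a, hba, map_zero, map_zero]
    obtain ⟨β, hβ⟩ := hker _ _ hby
    refine ⟨β, ha _ ?_⟩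
    rw [← nat_tr a, ← nat_tr a, hβ, tr_tr]
    have : (tr B ((hjj'.trans hj'i₁).trans (hm.trans hmk'))).hom y' =
        (tr B hjj').hom ((tr B (hj'i₁.trans (hm.trans hmk'))).hom y') := (tr_tr B _ _ _).symm
    rw [this, hy', tr_tr]

end Groth.Agent.S6787
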