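import Groth.Statements.S6789


set_option autoImplicit false
open CategoryTheory CategoryTheory.Limits
universe v u
open CategoryTheory CategoryTheory.SimplicialObject

namespace Groth.Agent.S6789

section Aux

open Simplicial Opposite

lemma sA_val {n : ℕ} (i : Fin (n + 2)) (k : Fin (n + 1)) :
    (i.succAbove k : ℕ) = if (k : ℕ) < i then (k : ℕ) else k + 1 := by
  simp only [Fin.succAbove, Fin.lt_def, Fin.val_castSucc]
  split_ifs <;> simp

lemma pA_val {n : ℕ} (j : Fin (n + 1)) (k : Fin (n + 2)) :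
    (j.predAbove k : ℕ) = if (j : ℕ) < k then (k : ℕ) - 1 else k := by
  simp only [Fin.predAbove, Fin.lt_def, Fin.val_castSucc]
  split_ifs <;> simp

/-- Decide `Fin` (in)equalities involving `succAbove` and `predAbove`. -/
macro "fin_tac" : tactic => `(tactic|
  (simp only [Fin.ext_iff, Fin.le_def, Fin.lt_def, sA_val, pA_val, Fin.val_succ,
      Fin.val_castSucc, Fin.val_last, Fin.val_zero] at *
   split_ifs <;> omega))

variable {C : Type u} [Category.{v} C] {Y X : C} (f : Y ⟶ X)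
  [∀ n : ℕ, HasWidePullback (Arrow.mk f).right (fun _ : Fin (n + 1) => (Arrow.mk f).left)
    (fun _ => (Arrow.mk f).hom)]

/-- The projections of the Čech nerve. -/
noncomputable abbrev pr {n : ℕ} (k : Fin (n + 1)) : (Arrow.mk f).cechNerve _⦋n⦌ ⟶ Y :=
  WidePullback.π (fun _ => (Arrow.mk f).hom) k

/-- The base map of the Čech nerve. -/
noncomputable abbrev bs {n : ℕ} : (Arrow.mk f).cechNerve _⦋n⦌ ⟶ X :=
  WidePullback.base (fun _ => (Arrow.mk f).hom)

lemma pr_f {n : ℕ} (k : Fin (n + 1)) : pr f k ≫ f = bs f :=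
  WidePullback.π_arrow (fun _ => (Arrow.mk f).hom) k

@[reassoc]
lemma δ_pr {n : ℕ} (i : Fin (n + 2)) (k : Fin (n + 1)) :
    (Arrow.mk f).cechNerve.δ i ≫ pr f k = pr f (i.succAbove k) :=
  WidePullback.lift_π _ _ _ _ _

@[reassoc]
lemma σ_pr {n : ℕ} (i : Fin (n + 1)) (k : Fin (n + 2)) :
    (Arrow.mk f).cechNerve.σ i ≫ pr f k = pr f (i.predAbove k) :=
  WidePullback.lift_π _ _ _ _ _

@[reassoc]
lemma δ_bs {n : ℕ} (i : Fin (n + 2)) :
    (Arrow.mk f).cechNerve.δ i ≫ bs f = bs f :=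
  WidePullback.lift_base (fun _ => (Arrow.mk f).hom) _ _ _

@[reassoc]
lemma σ_bs {n : ℕ} (i : Fin (n + 1)) :
    (Arrow.mk f).cechNerve.σ i ≫ bs f = bs f :=
  WidePullback.lift_base (fun _ => (Arrow.mk f).hom) _ _ _

lemma ext_cech {Z : C} {n : ℕ} (a b : Z ⟶ (Arrow.mk f).cechNerve _⦋n⦌)
    (hπ : ∀ k, a ≫ pr f k = b ≫ pr f k) (hb : a ≫ bs f = b ≫ bs f) : a = b :=
  WidePullback.hom_ext _ _ _ hπ hb

variable (α β : Y ⟶ Y) (hα : α ≫ f = f) (hβ : β ≫ f = f)

omit [∀ n : ℕ, HasWidePullback (Arrow.mk f).right (fun _ : Fin (n + 1) => (Arrow.mk f).left)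
    (fun _ => (Arrow.mk f).hom)] in
include hα hβ in
lemma ite_f (P : Prop) [Decidable P] : (if P then α else β) ≫ f = f := by
  split_ifs <;> assumption

/-- The homotopy operators. -/
noncomputable def hh {n : ℕ} (j : Fin (n + 1)) :
    (Arrow.mk f).cechNerve _⦋n⦌ ⟶ (Arrow.mk f).cechNerve _⦋n + 1⦌ :=
  WidePullback.lift (bs f)
    (fun k : Fin (n + 2) => pr f (j.predAbove k) ≫ (if (k : ℕ) ≤ (j : ℕ) then α else β))
    (fun k => by
      change (pr f (j.predAbove k) ≫ (if (k : ℕ) ≤ (j : ℕ) then α else β)) ≫ f = bs f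
      rw [Category.assoc, ite_f f α β hα hβ, pr_f])

lemma hh_pr {n : ℕ} (j : Fin (n + 1)) (k : Fin (n + 2)) :
    hh f α β hα hβ j ≫ pr f k =
      pr f (j.predAbove k) ≫ (if (k : ℕ) ≤ (j : ℕ) then α else β) :=
  WidePullback.lift_π _ _ _ _ _

lemma hh_bs {n : ℕ} (j : Fin (n + 1)) : hh f α β hα hβ j ≫ bs f = bs f :=
  WidePullback.lift_base (fun _ => (Arrow.mk f).hom) _ _ _

lemma pr_ite_congr {n : ℕ} {x x' : Fin (n + 1)} {P P' : Prop} [Decidable P] [Decidable P']
    (hx : x = x') (hP : P ↔ P') :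
    pr f x ≫ (if P then α else β) = pr f x' ≫ (if P' then α else β) := by
  subst hx
  congr 1
  exact if_congr hP rfl rfl

variable (φ₁ φ₂ : Arrow.mk f ⟶ Arrow.mk f) (h₁ : φ₁.right = 𝟙 X) (h₂ : φ₂.right = 𝟙 X)

lemma left_f (φ : Arrow.mk f ⟶ Arrow.mk f) (h : φ.right = 𝟙 X) : φ.left ≫ f = f := by
  have := φ.w
  simp only [Arrow.mk_hom] at this
  rw [this, h]
  exact Category.comp_id _

lemma map_pr (φ : Arrow.mk f ⟶ Arrow.mk f) {n : ℕ} (k : Fin (n + 1)) :
    (Arrow.mapCechNerve φ).app (op ⦋n⦌) ≫ pr f k = pr f k ≫ φ.left :=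
  WidePullback.lift_π _ _ _ _ _

lemma map_bs (φ : Arrow.mk f ⟶ Arrow.mk f) (h : φ.right = 𝟙 X) {n : ℕ} :
    (Arrow.mapCechNerve φ).app (op ⦋n⦌) ≫ bs f = bs f := by
  refine (WidePullback.lift_base (fun _ => (Arrow.mk f).hom) _ _ _).trans ?_
  rw [h]
  exact Category.comp_id _

/-- The homotopy. -/
noncomputable def homotopy : SimplicialObject.Homotopy (Arrow.mapCechNerve φ₁) (Arrow.mapCechNerve φ₂) where
  h j := hh f φ₁.left φ₂.left (left_f f φ₁ h₁) (left_f f φ₂ h₂) j
  h_zero_comp_δ_zero n := by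
    apply ext_cech
    · intro k
      simp only [Category.assoc, δ_pr, hh_pr, map_pr]
      have hx : Fin.predAbove 0 (Fin.succAbove 0 k) = k := by
        rw [Fin.succAbove_zero, Fin.ext_iff, pA_val]
        simp
      have hy : ¬ ((Fin.succAbove 0 k : Fin (n + 2)) : ℕ) ≤ ((0 : Fin (n + 1)) : ℕ) := by
        rw [Fin.succAbove_zero]
        simp
      rw [hx, if_neg hy]
    · simp only [Category.assoc, δ_bs, hh_bs, map_bs f _ h₂]
  h_last_comp_δ_last n := by
    apply ext_cech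
    · intro k
      simp only [Category.assoc, δ_pr, hh_pr, map_pr]
      have hx : (Fin.last n).predAbove ((Fin.last (n + 1)).succAbove k) = k := by fin_tac
      rw [hx, if_pos (by fin_tac)]
    · simp only [Category.assoc, δ_bs, hh_bs, map_bs f _ h₁]
  h_succ_comp_δ_castSucc_of_lt i j hij := by
    apply ext_cech
    · intro k
      simp only [Category.assoc, δ_pr, hh_pr, δ_pr_assoc]
      exact pr_ite_congr f _ _ (by fin_tac) (by fin_tac)
    · simp only [Category.assoc, δ_bs, hh_bs]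
  h_succ_comp_δ_castSucc_succ j := by
    apply ext_cech
    · intro k
      simp only [Category.assoc, δ_pr, hh_pr]
      exact pr_ite_congr f _ _ (by fin_tac) (by fin_tac)
    · simp only [Category.assoc, δ_bs, hh_bs]
  h_castSucc_comp_δ_succ_of_lt i j hji := by
    apply ext_cech
    · intro k
      simp only [Category.assoc, δ_pr, hh_pr, δ_pr_assoc]
      exact pr_ite_congr f _ _ (by fin_tac) (by fin_tac)
    · simp only [Category.assoc, δ_bs, hh_bs]
  h_comp_σ_castSucc_of_le i j hij := by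
    apply ext_cech
    · intro k
      simp only [Category.assoc, σ_pr, hh_pr, σ_pr_assoc]
      exact pr_ite_congr f _ _ (by fin_tac) (by fin_tac)
    · simp only [Category.assoc, σ_bs, hh_bs]
  h_comp_σ_succ_of_lt i j hji := by
    apply ext_cech
    · intro k
      simp only [Category.assoc, σ_pr, hh_pr, σ_pr_assoc]
      exact pr_ite_congr f _ _ (by fin_tac) (by fin_tac)
    · simp only [Category.assoc, σ_bs, hh_bs]

lemma mapCechNerve_id : Arrow.mapCechNerve (𝟙 (Arrow.mk f)) = 𝟙 (Arrow.mk f).cechNerve := by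
  ext n
  refine WidePullback.hom_ext _ _ _ (fun k => ?_) ?_
  · refine (WidePullback.lift_π _ _ _ _ _).trans ?_
    simp
  · refine (WidePullback.lift_base (fun _ => (Arrow.mk f).hom) _ _ _).trans ?_
    simp

end Aux


/-- For a morphism `f : Y ⟶ X` with a section `s`, the endomorphism of the Čech nerve of `f` (the
simplicial object of iterated fibre products of `Y` over `X`) that applies `s ∘ f` factorwise admits
simplicial homotopies to and from the identity: the published formula gives one direction and its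
mirror image (exchange the roles of the identity and `s ∘ f`) gives the other. -/
theorem result {C : Type u} [Category.{v} C] {Y X : C} (f : Y ⟶ X) (s : X ⟶ Y) (hs : s ≫ f = 𝟙 X) [∀ n : ℕ, HasWidePullback (Arrow.mk f).right (fun _ : Fin (n + 1) => (Arrow.mk f).left) (fun _ => (Arrow.mk f).hom)] (φ : Arrow.mk f ⟶ Arrow.mk f) (hφl : φ.left = f ≫ s) (hφr : φ.right = 𝟙 X) : Nonempty (SimplicialObject.Homotopy (𝟙 (Arrow.mk f).cechNerve) (Arrow.mapCechNerve φ)) ∧ Nonempty (SimplicialObject.Homotopy (Arrow.mapCechNerve φ) (𝟙 (Arrow.mk f).cechNerve)) := by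
  have h1 : (𝟙 (Arrow.mk f) : Arrow.mk f ⟶ Arrow.mk f).right = 𝟙 X := rfl
  rw [← mapCechNerve_id f]
  exact ⟨⟨homotopy f _ _ h1 hφr⟩, ⟨homotopy f _ _ hφr h1⟩⟩

end Groth.Agent.S6789
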