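import Groth.Statements.S6790
import Mathlib.CategoryTheory.Monoidal.Rigid.Basic
import Mathlib.CategoryTheory.Idempotents.Basic

set_option autoImplicit false
open CategoryTheory CategoryTheory.Limits MonoidalCategory
universe v u
open CategoryTheory CategoryTheory.Monoidal

namespace Groth.Agent.S6790

open ExactPairing

variable {C : Type u} [Category.{v} C] [MonoidalCategory C]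

theorem zigzagA {X X₁ Y₁ : C} [HasRightDual X] (i : X₁ ⟶ X) (p : X ⟶ X₁) (hip : i ≫ p = 𝟙 X₁)
    (j : Y₁ ⟶ Xᘁ) (q : Xᘁ ⟶ Y₁) (hmate : q ≫ j = (p ≫ i)ᘁ) :
    (η_ X Xᘁ ≫ p ▷ Xᘁ ≫ X₁ ◁ q) ▷ X₁ ≫ (α_ _ _ _).hom ≫ X₁ ◁ (j ▷ X₁ ≫ Xᘁ ◁ i ≫ ε_ X Xᘁ) =
      (λ_ X₁).hom ≫ (ρ_ X₁).inv := by
  calc
    _ = 𝟙 _ ⊗≫ η_ X Xᘁ ▷ X₁ ⊗≫ p ▷ Xᘁ ▷ X₁ ⊗≫ X₁ ◁ (q ≫ j) ▷ X₁ ⊗≫ X₁ ◁ Xᘁ ◁ i ⊗≫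
          X₁ ◁ ε_ X Xᘁ ⊗≫ 𝟙 _ := by
      monoidal
    _ = 𝟙 _ ⊗≫ η_ X Xᘁ ▷ X₁ ⊗≫ p ▷ Xᘁ ▷ X₁ ⊗≫ X₁ ◁ ((p ≫ i)ᘁ ▷ X₁ ≫ Xᘁ ◁ i) ⊗≫
          X₁ ◁ ε_ X Xᘁ ⊗≫ 𝟙 _ := by
      rw [hmate]; monoidal
    _ = 𝟙 _ ⊗≫ η_ X Xᘁ ▷ X₁ ⊗≫ p ▷ Xᘁ ▷ X₁ ⊗≫ X₁ ◁ Xᘁ ◁ i ⊗≫
          X₁ ◁ ((p ≫ i)ᘁ ▷ X ≫ ε_ X Xᘁ) ⊗≫ 𝟙 _ := by
      rw [← whisker_exchange]; monoidal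
    _ = 𝟙 _ ⊗≫ η_ X Xᘁ ▷ X₁ ⊗≫ p ▷ Xᘁ ▷ X₁ ⊗≫ X₁ ◁ Xᘁ ◁ (i ≫ p ≫ i) ⊗≫
          X₁ ◁ ε_ X Xᘁ ⊗≫ 𝟙 _ := by
      rw [rightAdjointMate_comp_evaluation]; monoidal
    _ = 𝟙 _ ⊗≫ η_ X Xᘁ ▷ X₁ ⊗≫ (p ▷ (Xᘁ ⊗ X₁) ≫ X₁ ◁ Xᘁ ◁ i) ⊗≫
          X₁ ◁ ε_ X Xᘁ ⊗≫ 𝟙 _ := by
      rw [← Category.assoc i p i, hip, Category.id_comp]; monoidal
    _ = 𝟙 _ ⊗≫ (η_ X Xᘁ ▷ X₁ ≫ (X ⊗ Xᘁ) ◁ i) ⊗≫ (p ▷ (Xᘁ ⊗ X) ≫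
          X₁ ◁ ε_ X Xᘁ) ⊗≫ 𝟙 _ := by
      rw [← whisker_exchange]; monoidal
    _ = 𝟙 _ ⊗≫ i ⊗≫ (η_ X Xᘁ ▷ X ⊗≫ X ◁ ε_ X Xᘁ) ⊗≫ p ⊗≫ 𝟙 _ := by
      rw [← whisker_exchange, ← whisker_exchange]; monoidal
    _ = 𝟙 _ ⊗≫ (i ≫ p) ⊗≫ 𝟙 _ := by
      rw [evaluation_coevaluation'']; monoidal
    _ = _ := by
      rw [hip]; monoidal

theorem zigzagB {X X₁ Y₁ : C} [HasRightDual X] (i : X₁ ⟶ X) (p : X ⟶ X₁)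
    (j : Y₁ ⟶ Xᘁ) (q : Xᘁ ⟶ Y₁) (hjq : j ≫ q = 𝟙 Y₁) (hmate : q ≫ j = (p ≫ i)ᘁ) :
    Y₁ ◁ (η_ X Xᘁ ≫ p ▷ Xᘁ ≫ X₁ ◁ q) ≫ (α_ _ _ _).inv ≫ (j ▷ X₁ ≫ Xᘁ ◁ i ≫ ε_ X Xᘁ) ▷ Y₁ =
      (ρ_ Y₁).hom ≫ (λ_ Y₁).inv := by
  calc
    _ = 𝟙 _ ⊗≫ (Y₁ ◁ (η_ X Xᘁ ≫ p ▷ Xᘁ ≫ X₁ ◁ q) ≫ j ▷ (X₁ ⊗ Y₁)) ⊗≫ Xᘁ ◁ i ▷ Y₁ ⊗≫
          ε_ X Xᘁ ▷ Y₁ ⊗≫ 𝟙 _ := by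
      monoidal
    _ = 𝟙 _ ⊗≫ j ⊗≫ Xᘁ ◁ η_ X Xᘁ ⊗≫ Xᘁ ◁ p ▷ Xᘁ ⊗≫ Xᘁ ◁ (X₁ ◁ q ≫ i ▷ Y₁) ⊗≫
          ε_ X Xᘁ ▷ Y₁ ⊗≫ 𝟙 _ := by
      rw [whisker_exchange]; monoidal
    _ = 𝟙 _ ⊗≫ j ⊗≫ Xᘁ ◁ η_ X Xᘁ ⊗≫ Xᘁ ◁ (p ≫ i) ▷ Xᘁ ⊗≫ ((Xᘁ ⊗ X) ◁ q ≫
          ε_ X Xᘁ ▷ Y₁) ⊗≫ 𝟙 _ := by
      rw [whisker_exchange]; monoidal
    _ = 𝟙 _ ⊗≫ j ⊗≫ (Xᘁ ◁ η_ X Xᘁ ⊗≫ Xᘁ ◁ (p ≫ i) ▷ Xᘁ ⊗≫ ε_ X Xᘁ ▷ Xᘁ) ⊗≫ q ⊗≫ 𝟙 _ := by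
      rw [whisker_exchange]; monoidal
    _ = 𝟙 _ ⊗≫ (j ≫ (p ≫ i)ᘁ ≫ q) ⊗≫ 𝟙 _ := by
      dsimp only [rightAdjointMate]; monoidal
    _ = _ := by
      rw [← hmate, Category.assoc, hjq, Category.comp_id, hjq]; monoidal


/-- In an idempotent-complete additive monoidal category, a direct summand of an object admitting a dual
(with coevaluation `𝟙_ A ⟶ X ⊗ Y` and evaluation `Y ⊗ X ⟶ 𝟙_ A`) again admits such a dual. -/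
theorem result {A : Type u} [Category.{v} A] [Preadditive A] [HasFiniteBiproducts A] [MonoidalCategory A] [MonoidalPreadditive A] [IsIdempotentComplete A] {X X₁ : A} (i : X₁ ⟶ X) (p : X ⟶ X₁) (hip : i ≫ p = 𝟙 X₁) [HasRightDual X] : Nonempty (HasRightDual X₁) := by
  obtain ⟨Y₁, j, q, hjq, hqj⟩ := IsIdempotentComplete.idempotents_split (Xᘁ) ((p ≫ i)ᘁ) (by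
    rw [← comp_rightAdjointMate]
    congr 1
    rw [Category.assoc, ← Category.assoc i p i, hip, Category.id_comp])
  exact ⟨{ rightDual := Y₁
           exact :=
            { coevaluation' := η_ X Xᘁ ≫ p ▷ Xᘁ ≫ X₁ ◁ q
              evaluation' := j ▷ X₁ ≫ Xᘁ ◁ i ≫ ε_ X Xᘁ
              coevaluation_evaluation' := zigzagB i p j q hjq hqj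
              evaluation_coevaluation' := zigzagA i p hip j q hqj } }⟩

end Groth.Agent.S6790
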