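import Groth.Statements.S6791
import Mathlib.CategoryTheory.Abelian.SerreClass.Localization
import Mathlib.CategoryTheory.Localization.CalculusOfFractions.Preadditive

set_option autoImplicit false
set_option linter.style.haveILetI false
open CategoryTheory CategoryTheory.Limits
universe v u v' u' v'' u''
open CategoryTheory CategoryTheory.SerreClass

namespace Groth.Agent.S6791

theorem isZero_image_of_map_eq_zero {A : Type u} [Category.{v} A] [Abelian A] {B : Type u'}
    [Category.{v'} B] [Abelian B] (F : A ⥤ B) [F.Additive] [PreservesFiniteLimits F]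
    [PreservesFiniteColimits F] {X Y : A} (f : X ⟶ Y) (hf : F.map f = 0) :
    IsZero (F.obj (Abelian.image f)) := by
  have h1 : F.map (Abelian.factorThruImage f) ≫ F.map (Abelian.image.ι f) = 0 := by
    rw [← F.map_comp, Abelian.image.fac, hf]
  have h2 : F.map (Abelian.factorThruImage f) = 0 := by
    rw [← cancel_mono (F.map (Abelian.image.ι f)), h1, zero_comp]
  exact IsZero.of_epi_eq_zero _ h2

/-- For an exact functor `F : A ⥤ B` of abelian categories and a Serre class `P` of `A` killed by `F`,
with `L : A ⥤ Q` a model of the quotient `A/P` and `Fbar : Q ⥤ B` the induced functor, `P` is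
exactly the kernel of `F` if and only if `Fbar` is faithful. -/
theorem result {A : Type u} [Category.{v} A] [Abelian A] {B : Type u'} [Category.{v'} B] [Abelian B] (F : A ⥤ B) [F.Additive] [PreservesFiniteLimits F] [PreservesFiniteColimits F] (P : ObjectProperty A) [P.IsSerreClass] (hP : ∀ X : A, P X → IsZero (F.obj X)) {Q : Type u''} [Category.{v''} Q] [Abelian Q] (L : A ⥤ Q) [L.IsLocalization P.isoModSerre] [L.Additive] [PreservesFiniteLimits L] [PreservesFiniteColimits L] (Fbar : Q ⥤ B) (e : L ⋙ Fbar ≅ F) : (∀ X : A, IsZero (F.obj X) → P X) ↔ Fbar.Faithful := by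
  haveI : (L ⋙ Fbar).Additive := Functor.additive_of_iso e.symm
  haveI : Fbar.Additive := (Localization.functor_additive_iff L P.isoModSerre Fbar).mpr inferInstance
  have hmap : ∀ {X Y : A} (f : X ⟶ Y), Fbar.map (L.map f) = 0 → F.map f = 0 := by
    intro X Y f hf
    have := e.hom.naturality f
    rw [Functor.comp_map, hf, zero_comp] at this
    rw [← cancel_epi (e.hom.app X), ← this, comp_zero]
  constructor
  · intro H
    have key : ∀ {X Y : A} (ψ : L.obj X ⟶ L.obj Y), Fbar.map ψ = 0 → ψ = 0 := by
      intro X Y ψ hψ
      obtain ⟨φ, rfl⟩ := Localization.exists_leftFraction L P.isoModSerre ψ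
      have hs : IsIso (L.map φ.s) := Localization.inverts L P.isoModSerre _ φ.hs
      have h1 : φ.map L (Localization.inverts L P.isoModSerre) ≫ L.map φ.s = L.map φ.f :=
        φ.map_comp_map_s L _
      have h2 : Fbar.map (L.map φ.f) = 0 := by
        rw [← h1, Fbar.map_comp, hψ, zero_comp]
      have h3 : F.map φ.f = 0 := hmap _ h2
      have h4 : P (Abelian.image φ.f) := H _ (isZero_image_of_map_eq_zero F _ h3)
      have h5 : L.map φ.f = 0 :=
        (ObjectProperty.SerreClassLocalization.map_eq_zero_iff L P φ.f).mpr h4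
      rw [← cancel_mono (L.map φ.s), h1, h5, zero_comp]
    have := Localization.essSurj L P.isoModSerre
    refine ⟨fun {q1 q2} f g hfg => ?_⟩
    rw [← sub_eq_zero]
    have h0 : Fbar.map (f - g) = 0 := by rw [Functor.map_sub, hfg, sub_self]
    let i1 := L.objObjPreimageIso q1
    let i2 := L.objObjPreimageIso q2
    have h6 : i1.hom ≫ (f - g) ≫ i2.inv = 0 := by
      apply key
      rw [Fbar.map_comp, Fbar.map_comp, h0, zero_comp, comp_zero]
    rw [← cancel_epi i1.hom, ← cancel_mono i2.inv, Category.assoc, h6, comp_zero, zero_comp]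
  · intro hfaith X hX
    rw [← ObjectProperty.SerreClassLocalization.isZero_obj_iff L P X, IsZero.iff_id_eq_zero]
    apply Fbar.map_injective
    rw [Fbar.map_zero]
    have h1 : IsZero (Fbar.obj (L.obj X)) := IsZero.of_iso hX (e.app X)
    exact h1.eq_of_src _ _

end Groth.Agent.S6791
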