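import Groth.Statements.S6795
import Mathlib.CategoryTheory.Limits.Shapes.Products

set_option autoImplicit false
set_option linter.style.haveILetI false
open CategoryTheory CategoryTheory.Limits
universe v u
open CategoryTheory CategoryTheory.Preadditive

namespace Groth.Agent.S6795

/-- The family `(g, 0, 0, ...)`. -/
def famZ {D : Type u} [Category.{v} D] [Preadditive D] {W X : D} (g : W ⟶ X) : ℕ → (W ⟶ X)
  | 0 => g
  | _ + 1 => 0

/-- The family defining the section. -/
def famS {D : Type u} [Category.{v} D] [Preadditive D] {P X : D} (π : ℕ → (P ⟶ X))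
    (e : X ⟶ X) : ℕ → (P ⟶ X)
  | 0 => π 0
  | m + 1 => π m ≫ (𝟙 X - e) + π (m + 1) ≫ e

/-- A preadditive category with countable products in which split epimorphisms have kernels is
idempotent complete (Karoubian). -/
theorem result {D : Type u} [Category.{v} D] [Preadditive D] [HasCountableProducts D] (hk : ∀ ⦃X Y : D⦄ (f : X ⟶ Y), IsSplitEpi f → HasKernel f) : IsIdempotentComplete D := by
  rw [Idempotents.isIdempotentComplete_iff_idempotents_have_kernels]
  intro X e he
  let P : D := ∏ᶜ (fun _ : ℕ => X)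
  let π : ∀ n : ℕ, P ⟶ X := fun n => Pi.π (fun _ : ℕ => X) n
  let Φ : P ⟶ P := Pi.lift (fun n => π n ≫ e + π (n + 1) ≫ (𝟙 X - e))
  let Ψ : P ⟶ P := Pi.lift (famS π e)
  have hΦ : ∀ n, Φ ≫ π n = π n ≫ e + π (n + 1) ≫ (𝟙 X - e) := fun n => Pi.lift_π _ n
  have hΨ0 : Ψ ≫ π 0 = π 0 := Pi.lift_π _ 0
  have hΨS : ∀ m, Ψ ≫ π (m + 1) = π m ≫ (𝟙 X - e) + π (m + 1) ≫ e := fun m => Pi.lift_π _ (m + 1)
  have h1e : (𝟙 X - e) ≫ (𝟙 X - e) = 𝟙 X - e := Idempotents.idem_of_id_sub_idem e he
  have he1 : e ≫ (𝟙 X - e) = 0 := by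
    rw [Preadditive.comp_sub, Category.comp_id, he, sub_self]
  have h1ee : (𝟙 X - e) ≫ e = 0 := by
    rw [Preadditive.sub_comp, Category.id_comp, he, sub_self]
  have hsum : e + (𝟙 X - e) = 𝟙 X := by abel
  have hΨΦ : Ψ ≫ Φ = 𝟙 P := by
    refine Pi.hom_ext _ _ (fun n => ?_)
    change (Ψ ≫ Φ) ≫ π n = 𝟙 P ≫ π n
    rw [Category.assoc, hΦ, Preadditive.comp_add, ← Category.assoc, ← Category.assoc, hΨS,
      Category.id_comp]
    cases n with
    | zero =>
      rw [hΨ0, Preadditive.add_comp, Category.assoc, Category.assoc, h1e, he1, comp_zero,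
        add_zero, ← Preadditive.comp_add, hsum, Category.comp_id]
    | succ m =>
      rw [hΨS, Preadditive.add_comp, Preadditive.add_comp, Category.assoc, Category.assoc,
        Category.assoc, Category.assoc, h1e, he1, h1ee, he, comp_zero, comp_zero, add_zero,
        zero_add, ← Preadditive.comp_add, hsum, Category.comp_id]
  haveI : IsSplitEpi Φ := IsSplitEpi.mk' ⟨Ψ, hΨΦ⟩
  haveI : HasKernel Φ := hk Φ inferInstance
  let k : kernel Φ ⟶ P := kernel.ι Φ
  have hk0 : ∀ n, k ≫ π n ≫ e + k ≫ π (n + 1) ≫ (𝟙 X - e) = 0 := by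
    intro n
    have : k ≫ Φ ≫ π n = 0 := by rw [← Category.assoc, kernel.condition, zero_comp]
    rw [hΦ, Preadditive.comp_add] at this
    exact this
  have hk1 : ∀ n, k ≫ π n ≫ e = 0 := by
    intro n
    have := congrArg (fun t => t ≫ e) (hk0 n)
    simp only [Preadditive.add_comp, Category.assoc, he, h1ee, comp_zero, add_zero,
      zero_comp] at this
    exact this
  have hk2 : ∀ n, k ≫ π (n + 1) = 0 := by
    intro n
    have h3 := hk0 n
    rw [hk1 n, zero_add] at h3
    calc k ≫ π (n + 1) = k ≫ π (n + 1) ≫ (e + (𝟙 X - e)) := by rw [hsum, Category.comp_id]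
      _ = 0 := by rw [Preadditive.comp_add, Preadditive.comp_add, hk1 (n + 1), h3, add_zero]
  have hcond : (k ≫ π 0) ≫ e = 0 := by rw [Category.assoc]; exact hk1 0
  have hlift : ∀ {W : D} (g : W ⟶ X), g ≫ e = 0 → Pi.lift (famZ g) ≫ Φ = 0 := by
    intro W g hg
    refine Pi.hom_ext _ _ (fun n => ?_)
    change (Pi.lift (famZ g) ≫ Φ) ≫ π n = 0 ≫ π n
    rw [Category.assoc, hΦ, Preadditive.comp_add, ← Category.assoc, ← Category.assoc,
      zero_comp]
    change (Pi.lift (famZ g) ≫ Pi.π _ n) ≫ e + (Pi.lift (famZ g) ≫ Pi.π _ (n + 1)) ≫ (𝟙 X - e) = 0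
    rw [Pi.lift_π, Pi.lift_π]
    cases n with
    | zero => simp only [famZ, hg, zero_comp, add_zero]
    | succ m => simp only [famZ, zero_comp, add_zero]
  refine ⟨⟨KernelFork.ofι (k ≫ π 0) hcond, ?_⟩⟩
  refine KernelFork.IsLimit.ofι _ hcond
    (fun {W} g hg => kernel.lift Φ (Pi.lift (famZ g)) (hlift g hg)) ?_ ?_
  · intro W g hg
    change kernel.lift Φ _ _ ≫ kernel.ι Φ ≫ Pi.π _ 0 = g
    rw [← Category.assoc, kernel.lift_ι, Pi.lift_π]
    rfl
  · intro W g hg m hm
    rw [← cancel_mono (kernel.ι Φ), kernel.lift_ι]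
    refine Pi.hom_ext _ _ (fun n => ?_)
    rw [Pi.lift_π, Category.assoc]
    cases n with
    | zero => rw [← hm]; rfl
    | succ n =>
      change m ≫ k ≫ π (n + 1) = 0
      rw [hk2 n, comp_zero]

end Groth.Agent.S6795
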