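import Groth.Statements.S6796
import Groth.Agent.S6795
import Mathlib.CategoryTheory.Limits.Shapes.Opposites.Kernels
import Mathlib.CategoryTheory.Limits.Shapes.Opposites.Products
import Mathlib.CategoryTheory.Preadditive.Opposite

set_option autoImplicit false
set_option linter.style.haveILetI false
open CategoryTheory CategoryTheory.Limits
universe v u
open CategoryTheory CategoryTheory.Preadditive

namespace Groth.Agent.S6796

/-- A preadditive category with countable coproducts in which split monomorphisms have cokernels is
idempotent complete (Karoubian). -/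
theorem result {D : Type u} [Category.{v} D] [Preadditive D] [HasCountableCoproducts D] (hk : ∀ ⦃X Y : D⦄ (f : X ⟶ Y), IsSplitMono f → HasCokernel f) : IsIdempotentComplete D := by
  rw [← Idempotents.isIdempotentComplete_iff_opposite]
  haveI : HasCountableProducts Dᵒᵖ := ⟨fun J _ => inferInstance⟩
  apply Groth.Agent.S6795.result
  intro X Y f hf
  haveI : IsSplitMono f.unop := by
    obtain ⟨⟨s⟩⟩ := hf
    exact IsSplitMono.mk' ⟨s.section_.unop, by rw [← unop_comp, s.id, unop_id]⟩
  haveI : HasCokernel f.unop := hk f.unop inferInstance
  have h := CokernelCofork.IsColimit.ofπOp (cokernel.π f.unop) (cokernel.condition f.unop)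
    (cokernelIsCokernel f.unop)
  exact ⟨⟨_, h⟩⟩

end Groth.Agent.S6796
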