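import Groth.Statements.S6800
import Mathlib.CategoryTheory.FinCategory.Basic
import Mathlib.Data.Finite.Sigma

set_option autoImplicit false
set_option linter.style.haveILetI false
open CategoryTheory CategoryTheory.Limits
universe v u
open CategoryTheory CategoryTheory.SimplicialObject CategoryTheory.SimplicialObject.Truncated

namespace Groth.Agent.S6800

theorem finite_truncated (m : ℕ) : Finite (SimplexCategory.Truncated m) := by
  refine Finite.of_injective (β := Fin (m + 1)) (fun a => ⟨a.obj.len, Nat.lt_succ_of_le a.property⟩) ?_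
  intro a b h
  have h1 : a.obj.len = b.obj.len := by simpa using congrArg Fin.val h
  obtain ⟨⟨a⟩, ha⟩ := a
  obtain ⟨⟨b⟩, hb⟩ := b
  simp only at h1
  subst h1
  rfl

theorem finite_truncated_hom (m : ℕ) (a b : SimplexCategory.Truncated m) : Finite (a ⟶ b) := by
  refine Finite.of_injective (β := (a.obj ⟶ b.obj)) (fun f => f.hom) ?_
  intro f g h
  exact ObjectProperty.hom_ext _ h

theorem finite_op_hom {C : Type*} [Category C] (h : ∀ a b : C, Finite (a ⟶ b)) (a b : Cᵒᵖ) :
    Finite (a ⟶ b) :=
  haveI := h b.unop a.unop
  Finite.of_equiv _ (opEquiv a b).symm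

theorem finite_structuredArrow {m : ℕ} (X : SimplexCategoryᵒᵖ) :
    Finite (StructuredArrow X (SimplexCategory.Truncated.inclusion m).op) := by
  haveI : Finite (SimplexCategory.Truncated m)ᵒᵖ :=
    haveI := finite_truncated m
    Finite.of_equiv _ Opposite.equivToOpposite
  haveI : ∀ Y : (SimplexCategory.Truncated m)ᵒᵖ,
      Finite (X ⟶ (SimplexCategory.Truncated.inclusion m).op.obj Y) :=
    fun Y => finite_op_hom (fun a b => inferInstance) _ _
  refine Finite.of_injective
    (β := Σ Y : (SimplexCategory.Truncated m)ᵒᵖ, (X ⟶ (SimplexCategory.Truncated.inclusion m).op.obj Y))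
    (fun a => ⟨a.right, a.hom⟩) ?_
  intro a b h
  obtain ⟨⟨⟨⟩⟩, ar, ah⟩ := a
  obtain ⟨⟨⟨⟩⟩, br, bh⟩ := b
  simp only [Sigma.mk.injEq] at h
  obtain ⟨h1, h2⟩ := h
  subst h1
  simp only [heq_eq_eq] at h2
  subst h2
  rfl

theorem finite_structuredArrow_hom {m : ℕ} (X : SimplexCategoryᵒᵖ)
    (a b : StructuredArrow X (SimplexCategory.Truncated.inclusion m).op) : Finite (a ⟶ b) := by
  haveI : Finite (a.right ⟶ b.right) := finite_op_hom (finite_truncated_hom m) _ _
  refine Finite.of_injective (β := (a.right ⟶ b.right)) (fun f => f.right) ?_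
  intro f g h
  exact StructuredArrow.hom_ext _ _ h


/-- In a category with finite limits every truncated simplicial object has a pointwise right Kan
extension along the inclusion of the truncated simplex category, i.e. the coskeleton functors exist
and are given by the limit formula. -/
theorem result {C : Type u} [Category.{v} C] [HasFiniteLimits C] (m : ℕ) (U : (SimplexCategory.Truncated m)ᵒᵖ ⥤ C) : (SimplexCategory.Truncated.inclusion m).op.HasPointwiseRightKanExtension U := by
  intro X
  haveI : Finite (StructuredArrow X (SimplexCategory.Truncated.inclusion m).op) := finite_structuredArrow X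
  haveI : ∀ a b : StructuredArrow X (SimplexCategory.Truncated.inclusion m).op, Finite (a ⟶ b) :=
    finite_structuredArrow_hom X
  letI : FinCategory (StructuredArrow X (SimplexCategory.Truncated.inclusion m).op) :=
    { fintypeObj := Fintype.ofFinite _
      fintypeHom := fun a b => Fintype.ofFinite _ }
  infer_instance


end Groth.Agent.S6800
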