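import Groth.Statements.S6802
import Groth.Agent.Lib.H86SubobjElem

set_option autoImplicit false
open CategoryTheory
universe v u
open SpSeq SpSeq.FilObj

namespace Groth.Agent.S6802

open Groth.Agent.Lib.H86SubobjElem CategoryTheory.Limits

theorem fil_factors {A : Type u} [Category.{v} A] [Abelian A] {K L : SpSeq.FilObj A}
    (f : K ⟶ L) (p : ℤ) {W : A} (x : W ⟶ K.obj) (hx : (K.fil p).Factors x) :
    (L.fil p).Factors (x ≫ f.hom) := by
  rw [← Limits.pullback_factors_iff]
  exact Subobject.factors_of_le x (f.compat p) hx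

/-- The composite of two strict morphisms of filtered objects is strict when the first one is an
epimorphism. -/
theorem result {A : Type u} [Category.{v} A] [Abelian A] {K L M : SpSeq.FilObj A} (f : K ⟶ L) (g : L ⟶ M) (hf : SpSeq.FilObj.IsStrict f) (hg : SpSeq.FilObj.IsStrict g) [Epi f.hom] : SpSeq.FilObj.IsStrict (f ≫ g) := by
  intro p
  apply eq_of_forall_factors_iff
  intro W y
  rw [Subobject.inf_factors]
  change (imageSubobject ((K.fil p).arrow ≫ f.hom ≫ g.hom)).Factors y ↔
    (imageSubobject (f.hom ≫ g.hom)).Factors y ∧ (M.fil p).Factors y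
  constructor
  · intro hy
    obtain ⟨W', π, hπ, x, hx⟩ := (imageSubobject_factors_iff _ _).mp hy
    constructor
    · exact (imageSubobject_factors_iff _ _).mpr ⟨W', π, hπ, x ≫ (K.fil p).arrow, by
        rw [hx, Category.assoc]⟩
    · refine factors_of_epi_comp _ π y ?_
      rw [hx, ← Category.assoc]
      exact fil_factors (f ≫ g) p _ (Subobject.factors_comp_arrow x)
  · rintro ⟨hy1, hy2⟩
    obtain ⟨W1, π1, hπ1, x1, hx1⟩ := (imageSubobject_factors_iff _ _).mp hy1
    have h2 : (imageSubobject ((L.fil p).arrow ≫ g.hom)).Factors ((x1 ≫ f.hom) ≫ g.hom) := by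
      rw [hg p, Subobject.inf_factors]
      constructor
      · exact imageSubobject_factors_comp_self g.hom _
      · rw [Category.assoc, ← hx1]
        exact Subobject.factors_of_factors_right π1 hy2
    obtain ⟨W2, π2, hπ2, x2, hx2⟩ := (imageSubobject_factors_iff _ _).mp h2
    have h4 : (imageSubobject ((K.fil p).arrow ≫ f.hom)).Factors (x2 ≫ (L.fil p).arrow) := by
      rw [hf p, Subobject.inf_factors]
      constructor
      · obtain ⟨W', π, hπ, x, hx⟩ :=
          surjective_up_to_refinements_of_epi f.hom (x2 ≫ (L.fil p).arrow)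
        exact (imageSubobject_factors_iff _ _).mpr ⟨W', π, hπ, x, hx⟩
      · exact Subobject.factors_comp_arrow x2
    obtain ⟨W3, π3, hπ3, x3, hx3⟩ := (imageSubobject_factors_iff _ _).mp h4
    refine (imageSubobject_factors_iff _ _).mpr ⟨W3, π3 ≫ π2 ≫ π1, inferInstance, x3, ?_⟩
    have h5 := congrArg (fun t => t ≫ g.hom) hx3
    simp only [Category.assoc] at h5 hx2 ⊢
    rw [← h5, hx1, hx2]

end Groth.Agent.S6802
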