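import Groth.Statements.S6804
import Mathlib
import Groth.Agent.S6802

set_option autoImplicit false
open CategoryTheory CategoryTheory.Limits
universe v u
open SpSeq SpSeq.FilObj

namespace Groth.Agent.S6804
set_option backward.isDefEq.respectTransparency.types false
set_option linter.style.haveILetI false
open CategoryTheory CategoryTheory.Limits SpSeq SpSeq.FilObj Groth.Agent.Lib.H86SubobjElem

variable {A : Type u} [Category.{v} A] [Abelian A]

/-- Build a filtered morphism from an elementwise compatibility. -/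
def mkHom {K L : FilObj A} (h : K.obj ⟶ L.obj)
    (hc : ∀ p, (L.fil p).Factors ((K.fil p).arrow ≫ h)) : K ⟶ L :=
  ⟨h, fun p => Subobject.le_of_factors (pullback_factors h _ _ (hc p))⟩

@[simp] theorem mkHom_hom {K L : FilObj A} (h : K.obj ⟶ L.obj)
    (hc : ∀ p, (L.fil p).Factors ((K.fil p).arrow ≫ h)) : (mkHom h hc).hom = h := rfl

theorem comp_hom {K L M : FilObj A} (f : K ⟶ L) (g : L ⟶ M) : (f ≫ g).hom = f.hom ≫ g.hom := rfl

theorem id_hom (K : FilObj A) : (𝟙 K : K ⟶ K).hom = 𝟙 K.obj := rfl

theorem hom_ext' {K L : FilObj A} (f g : K ⟶ L) (h : f.hom = g.hom) : f = g :=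
  FilObj.Hom.ext h

section
variable {K L M : FilObj A} (f : L ⟶ K) (g : M ⟶ K)

/-- The pullback filtered object. -/
noncomputable def pb : FilObj A where
  obj := pullback f.hom g.hom
  fil p := (Subobject.pullback (pullback.fst f.hom g.hom)).obj (L.fil p) ⊓
    (Subobject.pullback (pullback.snd f.hom g.hom)).obj (M.fil p)
  anti := fun _ _ h => inf_le_inf ((Subobject.pullback _).monotone (L.anti h))
    ((Subobject.pullback _).monotone (M.anti h))

theorem pb_factors_iff_raw (p : ℤ) {W : A} (x : W ⟶ pullback f.hom g.hom) :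
    ((Subobject.pullback (pullback.fst f.hom g.hom)).obj (L.fil p) ⊓
      (Subobject.pullback (pullback.snd f.hom g.hom)).obj (M.fil p)).Factors x ↔
      (L.fil p).Factors (x ≫ pullback.fst f.hom g.hom) ∧
      (M.fil p).Factors (x ≫ pullback.snd f.hom g.hom) := by
  rw [Subobject.inf_factors, pullback_factors_iff, pullback_factors_iff]

/-- first projection on underlying objects -/
noncomputable def pr1 : (pb f g).obj ⟶ L.obj := pullback.fst f.hom g.hom
/-- second projection on underlying objects -/
noncomputable def pr2 : (pb f g).obj ⟶ M.obj := pullback.snd f.hom g.hom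

theorem pr_condition : pr1 f g ≫ f.hom = pr2 f g ≫ g.hom := pullback.condition

noncomputable def pbLift {W : A} (a : W ⟶ L.obj) (b : W ⟶ M.obj) (h : a ≫ f.hom = b ≫ g.hom) :
    W ⟶ (pb f g).obj := pullback.lift a b h

@[reassoc (attr := simp)]
theorem pbLift_pr1 {W : A} (a : W ⟶ L.obj) (b : W ⟶ M.obj) (h : a ≫ f.hom = b ≫ g.hom) :
    pbLift f g a b h ≫ pr1 f g = a := pullback.lift_fst _ _ _

@[reassoc (attr := simp)]
theorem pbLift_pr2 {W : A} (a : W ⟶ L.obj) (b : W ⟶ M.obj) (h : a ≫ f.hom = b ≫ g.hom) :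
    pbLift f g a b h ≫ pr2 f g = b := pullback.lift_snd _ _ _

theorem pb_hom_ext {W : A} {a b : W ⟶ (pb f g).obj} (h1 : a ≫ pr1 f g = b ≫ pr1 f g)
    (h2 : a ≫ pr2 f g = b ≫ pr2 f g) : a = b := pullback.hom_ext h1 h2

theorem pb_factors_iff (p : ℤ) {W : A} (x : W ⟶ (pb f g).obj) :
    ((pb f g).fil p).Factors x ↔
      (L.fil p).Factors (x ≫ pr1 f g) ∧ (M.fil p).Factors (x ≫ pr2 f g) := by
  exact pb_factors_iff_raw f g p x

noncomputable def pbFst : pb f g ⟶ L :=
  mkHom (pr1 f g) fun p => ((pb_factors_iff f g p _).mp (Subobject.factors_self _)).1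

noncomputable def pbSnd : pb f g ⟶ M :=
  mkHom (pr2 f g) fun p => ((pb_factors_iff f g p _).mp (Subobject.factors_self _)).2

theorem pb_isPullback : IsPullback (pbFst f g) (pbSnd f g) f g := by
  refine ⟨⟨hom_ext' _ _ (pr_condition f g)⟩, ⟨PullbackCone.IsLimit.mk _ ?_ ?_ ?_ ?_⟩⟩
  · intro s
    refine mkHom (pbLift f g s.fst.hom s.snd.hom (congrArg FilObj.Hom.hom s.condition)) ?_
    intro p
    rw [pb_factors_iff]
    constructor
    · rw [Category.assoc, pbLift_pr1]
      exact Groth.Agent.S6802.fil_factors s.fst p _ (Subobject.factors_self _)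
    · rw [Category.assoc, pbLift_pr2]
      exact Groth.Agent.S6802.fil_factors s.snd p _ (Subobject.factors_self _)
  · intro s
    exact hom_ext' _ _ (pbLift_pr1 _ _ _ _ _)
  · intro s
    exact hom_ext' _ _ (pbLift_pr2 _ _ _ _ _)
  · intro s m h1 h2
    apply hom_ext'
    apply pb_hom_ext
    · rw [mkHom_hom, pbLift_pr1]
      exact congrArg FilObj.Hom.hom h1
    · rw [mkHom_hom, pbLift_pr2]
      exact congrArg FilObj.Hom.hom h2

theorem pbSnd_strict (hf : IsStrict f) : IsStrict (pbSnd f g) := by
  intro p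
  apply eq_of_forall_factors_iff
  intro W y
  rw [Subobject.inf_factors]
  change (imageSubobject (((pb f g).fil p).arrow ≫ pr2 f g)).Factors y ↔
    (imageSubobject (pr2 f g)).Factors y ∧ (M.fil p).Factors y
  constructor
  · intro hy
    obtain ⟨W', π, hπ, x, hx⟩ := (imageSubobject_factors_iff _ _).mp hy
    constructor
    · exact (imageSubobject_factors_iff _ _).mpr ⟨W', π, hπ, x ≫ ((pb f g).fil p).arrow, by
        rw [hx, Category.assoc]⟩
    · refine factors_of_epi_comp _ π y ?_
      rw [hx, ← Category.assoc]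
      exact Groth.Agent.S6802.fil_factors (pbSnd f g) p _ (Subobject.factors_comp_arrow x)
  · rintro ⟨hy1, hy2⟩
    obtain ⟨W1, π1, hπ1, x1, hx1⟩ := (imageSubobject_factors_iff _ _).mp hy1
    -- (x1 ≫ fst) ≫ f lies in image f ⊓ K.fil p
    have h2 : (imageSubobject ((L.fil p).arrow ≫ f.hom)).Factors
        ((x1 ≫ pr1 f g) ≫ f.hom) := by
      rw [hf p, Subobject.inf_factors]
      constructor
      · exact imageSubobject_factors_comp_self f.hom _
      · rw [Category.assoc, pr_condition, ← Category.assoc, ← hx1, Category.assoc]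
        exact Subobject.factors_of_factors_right π1
          (Groth.Agent.S6802.fil_factors g p y hy2)
    obtain ⟨W2, π2, hπ2, z, hz⟩ := (imageSubobject_factors_iff _ _).mp h2
    have hcond : (z ≫ (L.fil p).arrow) ≫ f.hom = ((π2 ≫ π1) ≫ y) ≫ g.hom := by
      rw [Category.assoc, ← hz, Category.assoc π2 π1 y, hx1]
      simp only [Category.assoc, pr_condition]
    let x' : W2 ⟶ (pb f g).obj := pbLift f g (z ≫ (L.fil p).arrow) ((π2 ≫ π1) ≫ y) hcond
    have hx' : ((pb f g).fil p).Factors x' := by
      rw [pb_factors_iff]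
      constructor
      · rw [pbLift_pr1]; exact Subobject.factors_comp_arrow z
      · rw [pbLift_pr2]; exact Subobject.factors_of_factors_right _ hy2
    refine (imageSubobject_factors_iff _ _).mpr
      ⟨W2, π2 ≫ π1, inferInstance, ((pb f g).fil p).factorThru x' hx', ?_⟩
    rw [← Category.assoc, Subobject.factorThru_arrow, pbLift_pr2]

end

theorem iso_strict {P Q : FilObj A} (e : P ≅ Q) : IsStrict e.hom := by
  intro p
  apply eq_of_forall_factors_iff
  intro W y
  rw [Subobject.inf_factors]
  constructor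
  · intro hy
    obtain ⟨W', π, hπ, x, hx⟩ := (imageSubobject_factors_iff _ _).mp hy
    constructor
    · exact (imageSubobject_factors_iff _ _).mpr ⟨W', π, hπ, x ≫ (P.fil p).arrow, by
        rw [hx, Category.assoc]⟩
    · refine factors_of_epi_comp _ π y ?_
      rw [hx, ← Category.assoc]
      exact Groth.Agent.S6802.fil_factors e.hom p _ (Subobject.factors_comp_arrow x)
  · rintro ⟨-, hy2⟩
    have h1 : (P.fil p).Factors (y ≫ e.inv.hom) := Groth.Agent.S6802.fil_factors e.inv p y hy2
    refine (imageSubobject_factors_iff _ _).mpr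
      ⟨W, 𝟙 W, inferInstance, (P.fil p).factorThru _ h1, ?_⟩
    rw [← Category.assoc, Subobject.factorThru_arrow, Category.assoc, ← comp_hom, e.inv_hom_id,
      id_hom, Category.comp_id, Category.id_comp]

instance iso_epi {P Q : FilObj A} (e : P ≅ Q) : Epi e.hom.hom := by
  have : IsIso e.hom.hom := ⟨e.inv.hom, by rw [← comp_hom, e.hom_inv_id, id_hom],
    by rw [← comp_hom, e.inv_hom_id, id_hom]⟩
  infer_instance


/-- Fibre products exist in the category of filtered objects of an abelian category, and the base change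
of a strict morphism is strict. -/
theorem result {A : Type u} [Category.{v} A] [Abelian A] {K L M : SpSeq.FilObj A} (f : L ⟶ K) (g : M ⟶ K) : HasPullback f g ∧ ∀ (P : SpSeq.FilObj A) (g' : P ⟶ L) (f' : P ⟶ M), IsPullback g' f' f g → SpSeq.FilObj.IsStrict f → SpSeq.FilObj.IsStrict f' := by
  refine ⟨(pb_isPullback f g).hasPullback, ?_⟩
  intro P g' f' h hf
  let e : P ≅ pb f g := h.isoIsPullback _ _ (pb_isPullback f g)
  have he : e.hom ≫ pbSnd f g = f' := h.isoIsPullback_hom_snd _ _ (pb_isPullback f g)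
  rw [← he]
  haveI := iso_epi e
  exact Groth.Agent.S6802.result e.hom (pbSnd f g) (iso_strict e) (pbSnd_strict f g hf)

end Groth.Agent.S6804
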