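import Groth.Statements.S6803
import Mathlib
import Groth.Agent.S6804

set_option autoImplicit false
open CategoryTheory CategoryTheory.Limits
universe v u
open SpSeq SpSeq.FilObj

namespace Groth.Agent.S6803
set_option backward.isDefEq.respectTransparency.types false
set_option linter.style.haveILetI false
open CategoryTheory CategoryTheory.Limits SpSeq SpSeq.FilObj Groth.Agent.Lib.H86SubobjElem
open Groth.Agent.S6804

variable {A : Type u} [Category.{v} A] [Abelian A]

/-- The join of two images is the image of the map from the biproduct. -/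
theorem sup_image_eq {X Z Y : A} (a : X ⟶ Y) (b : Z ⟶ Y) :
    imageSubobject a ⊔ imageSubobject b = imageSubobject (biprod.desc a b) := by
  apply le_antisymm
  · apply sup_le
    · have : a = biprod.inl ≫ biprod.desc a b := by simp
      conv_lhs => rw [this]
      exact imageSubobject_comp_le _ _
    · have : b = biprod.inr ≫ biprod.desc a b := by simp
      conv_lhs => rw [this]
      exact imageSubobject_comp_le _ _
  · refine imageSubobject_le _ (biprod.desc
      (factorThruImageSubobject a ≫ (imageSubobject a).ofLE _ le_sup_left)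
      (factorThruImageSubobject b ≫ (imageSubobject b).ofLE _ le_sup_right)) ?_
    ext <;> simp

theorem sup_image_factors_iff {X Z Y W : A} (a : X ⟶ Y) (b : Z ⟶ Y) (y : W ⟶ Y) :
    (imageSubobject a ⊔ imageSubobject b).Factors y ↔
      ∃ (W' : A) (π : W' ⟶ W) (_ : Epi π) (x : W' ⟶ X) (z : W' ⟶ Z),
        π ≫ y = x ≫ a + z ≫ b := by
  rw [sup_image_eq, imageSubobject_factors_iff]
  constructor
  · rintro ⟨W', π, hπ, u, hu⟩
    refine ⟨W', π, hπ, u ≫ biprod.fst, u ≫ biprod.snd, ?_⟩
    rw [hu]
    simp only [Category.assoc, ← Preadditive.comp_add]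
    congr 1
    ext <;> simp
  · rintro ⟨W', π, hπ, x, z, h⟩
    refine ⟨W', π, hπ, biprod.lift x z, ?_⟩
    rw [h]
    simp [biprod.lift_desc]

set_option backward.isDefEq.respectTransparency false in
/-- Exactness of the pushout sequence, elementwise. -/
theorem pushout_lift_up_to_refinements {X₁ X₂ X₃ X₄ : A} {t : X₁ ⟶ X₂} {l : X₁ ⟶ X₃}
    {r : X₂ ⟶ X₄} {b : X₃ ⟶ X₄} (h : IsPushout t l r b) {T : A} (x₂ : T ⟶ X₂) (x₃ : T ⟶ X₃)
    (hx : x₂ ≫ r = x₃ ≫ b) :
    ∃ (T' : A) (π : T' ⟶ T) (_ : Epi π) (x₁ : T' ⟶ X₁), π ≫ x₂ = x₁ ≫ t ∧ π ≫ x₃ = x₁ ≫ l := by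
  obtain ⟨T', π, hπ, x₁, hx₁⟩ := h.exact_shortComplex.exact_up_to_refinements
    (biprod.lift x₂ (-x₃)) (by simp [hx])
  refine ⟨T', π, hπ, x₁, ?_, ?_⟩
  · have := hx₁ =≫ biprod.fst
    simpa using this
  · have := hx₁ =≫ biprod.snd
    simpa using this

theorem hom_inv_hom {L M : FilObj A} (e : L ≅ M) : e.hom.hom ≫ e.inv.hom = 𝟙 _ := by
  rw [← comp_hom, e.hom_inv_id, id_hom]

theorem inv_hom_hom {L M : FilObj A} (e : L ≅ M) : e.inv.hom ≫ e.hom.hom = 𝟙 _ := by
  rw [← comp_hom, e.inv_hom_id, id_hom]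

theorem image_comp_iso_factors {L M : FilObj A} (e : L ≅ M) {X W : A} (a : X ⟶ L.obj)
    (y : W ⟶ M.obj) :
    (imageSubobject (a ≫ e.hom.hom)).Factors y ↔ (imageSubobject a).Factors (y ≫ e.inv.hom) := by
  rw [imageSubobject_factors_iff, imageSubobject_factors_iff]
  constructor
  · rintro ⟨W', π, hπ, x, hx⟩
    refine ⟨W', π, hπ, x, ?_⟩
    rw [← Category.assoc, hx, Category.assoc, Category.assoc, hom_inv_hom, Category.comp_id]
  · rintro ⟨W', π, hπ, x, hx⟩
    refine ⟨W', π, hπ, x, ?_⟩
    rw [← Category.assoc, ← hx, Category.assoc, Category.assoc, inv_hom_hom, Category.comp_id]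

theorem fil_iso_factors {L M : FilObj A} (e : L ≅ M) (p : ℤ) {W : A} (y : W ⟶ M.obj) :
    (M.fil p).Factors y ↔ (L.fil p).Factors (y ≫ e.inv.hom) := by
  constructor
  · intro h
    exact Groth.Agent.S6802.fil_factors e.inv p y h
  · intro h
    have := Groth.Agent.S6802.fil_factors e.hom p _ h
    rwa [Category.assoc, inv_hom_hom, Category.comp_id] at this

theorem strict_comp_iso {K L M : FilObj A} (f : K ⟶ L) (e : L ≅ M) (hf : IsStrict f) :
    IsStrict (f ≫ e.hom) := by
  intro p
  apply eq_of_forall_factors_iff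
  intro W y
  rw [Subobject.inf_factors]
  change (imageSubobject ((K.fil p).arrow ≫ f.hom ≫ e.hom.hom)).Factors y ↔
    (imageSubobject (f.hom ≫ e.hom.hom)).Factors y ∧ (M.fil p).Factors y
  have h1 := image_comp_iso_factors e ((K.fil p).arrow ≫ f.hom) y
  simp only [Category.assoc] at h1
  rw [h1, image_comp_iso_factors, fil_iso_factors e, hf p, Subobject.inf_factors]

section
variable {K L M : FilObj A} (f : K ⟶ L) (g : K ⟶ M)

/-- The pushout filtered object. -/
noncomputable def po : FilObj A where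
  obj := pushout f.hom g.hom
  fil p := imageSubobject ((L.fil p).arrow ≫ pushout.inl f.hom g.hom) ⊔
    imageSubobject ((M.fil p).arrow ≫ pushout.inr f.hom g.hom)
  anti := fun p q h => by
    apply sup_le_sup
    · rw [← Subobject.ofLE_arrow (L.anti h), Category.assoc]
      exact imageSubobject_comp_le _ _
    · rw [← Subobject.ofLE_arrow (M.anti h), Category.assoc]
      exact imageSubobject_comp_le _ _

noncomputable def i1 : L.obj ⟶ (po f g).obj := pushout.inl f.hom g.hom
noncomputable def i2 : M.obj ⟶ (po f g).obj := pushout.inr f.hom g.hom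

theorem po_sq : IsPushout f.hom g.hom (i1 f g) (i2 f g) := IsPushout.of_hasPushout _ _

theorem po_fil (p : ℤ) : (po f g).fil p =
    imageSubobject ((L.fil p).arrow ≫ i1 f g) ⊔ imageSubobject ((M.fil p).arrow ≫ i2 f g) := rfl

noncomputable def poInl : L ⟶ po f g :=
  mkHom (i1 f g) fun p => by
    rw [po_fil]
    refine Subobject.factors_of_le _ le_sup_left ?_
    have := imageSubobject_factors_comp_self ((L.fil p).arrow ≫ i1 f g) (𝟙 _)
    rwa [Category.id_comp] at this

noncomputable def poInr : M ⟶ po f g :=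
  mkHom (i2 f g) fun p => by
    rw [po_fil]
    refine Subobject.factors_of_le _ le_sup_right ?_
    have := imageSubobject_factors_comp_self ((M.fil p).arrow ≫ i2 f g) (𝟙 _)
    rwa [Category.id_comp] at this

theorem po_isPushout : IsPushout f g (poInl f g) (poInr f g) := by
  refine ⟨⟨hom_ext' _ _ (po_sq f g).w⟩, ⟨PushoutCocone.IsColimit.mk _ ?_ ?_ ?_ ?_⟩⟩
  · intro s
    refine ⟨(po_sq f g).desc s.inl.hom s.inr.hom (congrArg FilObj.Hom.hom s.condition), ?_⟩
    intro p
    rw [po_fil]
    apply sup_le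
    · have hF : ((Subobject.pullback ((po_sq f g).desc s.inl.hom s.inr.hom
          (congrArg FilObj.Hom.hom s.condition))).obj (s.pt.fil p)).Factors
          ((L.fil p).arrow ≫ i1 f g) := by
        apply pullback_factors
        rw [Category.assoc, IsPushout.inl_desc]
        exact Groth.Agent.S6802.fil_factors s.inl p _ (Subobject.factors_self _)
      exact imageSubobject_le _ (Subobject.factorThru _ _ hF) (Subobject.factorThru_arrow _ _ hF)
    · have hF : ((Subobject.pullback ((po_sq f g).desc s.inl.hom s.inr.hom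
          (congrArg FilObj.Hom.hom s.condition))).obj (s.pt.fil p)).Factors
          ((M.fil p).arrow ≫ i2 f g) := by
        apply pullback_factors
        rw [Category.assoc, IsPushout.inr_desc]
        exact Groth.Agent.S6802.fil_factors s.inr p _ (Subobject.factors_self _)
      exact imageSubobject_le _ (Subobject.factorThru _ _ hF) (Subobject.factorThru_arrow _ _ hF)
  · intro s
    exact hom_ext' _ _ ((po_sq f g).inl_desc _ _ _)
  · intro s
    exact hom_ext' _ _ ((po_sq f g).inr_desc _ _ _)
  · intro s m h1 h2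
    apply hom_ext'
    apply (po_sq f g).hom_ext
    · rw [IsPushout.inl_desc]
      exact congrArg FilObj.Hom.hom h1
    · rw [IsPushout.inr_desc]
      exact congrArg FilObj.Hom.hom h2

theorem poInr_strict (hf : IsStrict f) : IsStrict (poInr f g) := by
  intro p
  apply eq_of_forall_factors_iff
  intro W y
  rw [Subobject.inf_factors]
  change (imageSubobject ((M.fil p).arrow ≫ i2 f g)).Factors y ↔
    (imageSubobject (i2 f g)).Factors y ∧ ((po f g).fil p).Factors y
  constructor
  · intro hy
    obtain ⟨W', π, hπ, x, hx⟩ := (imageSubobject_factors_iff _ _).mp hy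
    constructor
    · exact (imageSubobject_factors_iff _ _).mpr ⟨W', π, hπ, x ≫ (M.fil p).arrow, by
        rw [hx, Category.assoc]⟩
    · refine factors_of_epi_comp _ π y ?_
      rw [hx, ← Category.assoc]
      exact Groth.Agent.S6802.fil_factors (poInr f g) p _ (Subobject.factors_comp_arrow x)
  · rintro ⟨hy1, hy2⟩
    obtain ⟨W1, π1, hπ1, m, hm⟩ := (imageSubobject_factors_iff _ _).mp hy1
    have hy2' : ((po f g).fil p).Factors (π1 ≫ y) := Subobject.factors_of_factors_right π1 hy2
    rw [po_fil, sup_image_factors_iff] at hy2'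
    obtain ⟨W2, π2, hπ2, l', m', hlm⟩ := hy2'
    -- (π2 ≫ m - m' ≫ arrow_M) ≫ i2 = (l' ≫ arrow_L) ≫ i1
    have hrel : (l' ≫ (L.fil p).arrow) ≫ i1 f g =
        (π2 ≫ m - m' ≫ (M.fil p).arrow) ≫ i2 f g := by
      rw [Preadditive.sub_comp, Category.assoc π2 m, ← hm, hlm]
      simp only [Category.assoc]
      abel
    obtain ⟨W3, π3, hπ3, k, hk1, hk2⟩ :=
      pushout_lift_up_to_refinements (po_sq f g) _ _ hrel
    -- k ≫ f lies in image f ⊓ L.fil p
    have h3 : (imageSubobject ((K.fil p).arrow ≫ f.hom)).Factors (k ≫ f.hom) := by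
      rw [hf p, Subobject.inf_factors]
      constructor
      · exact imageSubobject_factors_comp_self f.hom _
      · rw [← hk1, ← Category.assoc]
        exact Subobject.factors_comp_arrow _
    obtain ⟨W4, π4, hπ4, k', hk'⟩ := (imageSubobject_factors_iff _ _).mp h3
    -- the element of M.fil p
    have hw : (M.fil p).Factors
        ((π4 ≫ π3 ≫ m') ≫ (M.fil p).arrow + (k' ≫ (K.fil p).arrow) ≫ g.hom) := by
      apply Subobject.factors_add
      · exact Subobject.factors_comp_arrow _
      · exact Groth.Agent.S6802.fil_factors g p _ (Subobject.factors_comp_arrow k')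
    refine (imageSubobject_factors_iff _ _).mpr
      ⟨W4, π4 ≫ π3 ≫ π2 ≫ π1, inferInstance, (M.fil p).factorThru _ hw, ?_⟩
    rw [← Category.assoc ((M.fil p).factorThru _ hw), Subobject.factorThru_arrow]
    -- compute
    have e1 : π4 ≫ π3 ≫ π2 ≫ m = (π4 ≫ π3 ≫ m') ≫ (M.fil p).arrow + π4 ≫ k ≫ g.hom := by
      have := congrArg (fun t => π4 ≫ t) hk2
      simp only [Preadditive.comp_sub, Category.assoc] at this ⊢
      rw [← this]
      abel
    have e2 : (π4 ≫ k ≫ g.hom) ≫ i2 f g = ((k' ≫ (K.fil p).arrow) ≫ g.hom) ≫ i2 f g := by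
      have w := (po_sq f g).w
      simp only [Category.assoc]
      rw [← w]
      have := congrArg (fun t => t ≫ i1 f g) hk'
      simpa only [Category.assoc] using this
    calc (π4 ≫ π3 ≫ π2 ≫ π1) ≫ y = (π4 ≫ π3 ≫ π2 ≫ m) ≫ i2 f g := by
          simp only [Category.assoc, hm]
      _ = ((π4 ≫ π3 ≫ m') ≫ (M.fil p).arrow + π4 ≫ k ≫ g.hom) ≫ i2 f g := by rw [e1]
      _ = ((π4 ≫ π3 ≫ m') ≫ (M.fil p).arrow + (k' ≫ (K.fil p).arrow) ≫ g.hom) ≫ i2 f g := by
          rw [Preadditive.add_comp, e2, ← Preadditive.add_comp]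

end


/-- Pushouts exist in the category of filtered objects of an abelian category, and the pushout of a
strict morphism is strict. -/
theorem result {A : Type u} [Category.{v} A] [Abelian A] {K L M : SpSeq.FilObj A} (f : K ⟶ L) (g : K ⟶ M) : HasPushout f g ∧ ∀ (P : SpSeq.FilObj A) (g' : L ⟶ P) (f' : M ⟶ P), IsPushout f g g' f' → SpSeq.FilObj.IsStrict f → SpSeq.FilObj.IsStrict f' := by
  refine ⟨(po_isPushout f g).hasPushout, ?_⟩
  intro P g' f' h hf
  let e : po f g ≅ P := (po_isPushout f g).isoIsPushout _ _ h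
  have he : poInr f g ≫ e.hom = f' := (po_isPushout f g).inr_isoIsPushout_hom _ _ h
  rw [← he]
  exact strict_comp_iso _ e (poInr_strict f g hf)

end Groth.Agent.S6803
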