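import Groth.Statements.S6806
import Groth.Agent.Lib.H79TruncFin
import Mathlib.AlgebraicTopology.DoldKan.Normalized
import Mathlib.AlgebraicTopology.DoldKan.Degeneracies

set_option autoImplicit false
open CategoryTheory CategoryTheory.Limits
universe v u
open CategoryTheory CategoryTheory.Abelian

namespace Groth.Agent.S6806

/-- For an `m`-truncated simplicial object `U` of an abelian category, the normalized Moore complex of
its free extension `i_{m!} U` (left adjoint of truncation) is zero in every degree `n > m`. Here the
normalized complex in degree `n` is the intersection of the kernels of the faces `d_1, …, d_n`; the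
published statement intersects the kernels of `d_0, …, d_{n-1}` instead, and the two versions
correspond under reversal of the ordering of each `[n]`, so both vanish. -/
theorem result {A : Type u} [Category.{v} A] [Abelian A] (m : ℕ) [∀ F : (SimplexCategory.Truncated m)ᵒᵖ ⥤ A, (SimplexCategory.Truncated.inclusion m).op.HasLeftKanExtension F] (U : SimplicialObject.Truncated A m) (n : ℕ) (hn : m < n) : AlgebraicTopology.NormalizedMooreComplex.objX ((SimplicialObject.Truncated.sk m).obj U) n = ⊥ := by
  have hpw : ∀ F : (SimplexCategory.Truncated m)ᵒᵖ ⥤ A,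
      (SimplexCategory.Truncated.inclusion m).op.HasPointwiseLeftKanExtension F :=
    fun F => Groth.Agent.Lib.H79TruncFin.hasPointwiseLeftKanExtension_inclusion m F
  obtain ⟨n', rfl⟩ : ∃ n', n = n' + 1 := ⟨n - 1, by omega⟩
  let X : SimplicialObject A := (SimplicialObject.Truncated.sk m).obj U
  let η : U ⟶ (SimplexCategory.Truncated.inclusion m).op ⋙ X :=
    (SimplexCategory.Truncated.inclusion m).op.lanUnit.app U
  have hP := Functor.isPointwiseLeftKanExtensionOfIsLeftKanExtension X η
  let P : X.obj (Opposite.op (SimplexCategory.mk (n' + 1))) ⟶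
      X.obj (Opposite.op (SimplexCategory.mk (n' + 1))) :=
    (AlgebraicTopology.DoldKan.PInfty (X := X)).f (n' + 1)
  have hzero : P = 0 := by
    apply (hP (Opposite.op (SimplexCategory.mk (n' + 1)))).hom_ext
    intro j
    change (η.app j.left ≫ X.map j.hom) ≫ P = (η.app j.left ≫ X.map j.hom) ≫ 0
    rw [comp_zero]
    obtain ⟨i, θ', h⟩ := SimplexCategory.eq_σ_comp_of_not_injective j.hom.unop (by
      intro hinj
      have : Mono j.hom.unop := SimplexCategory.mono_iff_injective.mpr hinj
      have h1 := SimplexCategory.len_le_of_mono j.hom.unop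
      have h2 : j.left.unop.obj.len ≤ m := j.left.unop.property
      simp at h1
      omega)
    have h' : j.hom = θ'.op ≫ (SimplexCategory.σ i).op := by
      rw [← op_comp, ← h]; rfl
    rw [h', X.map_comp, Category.assoc, Category.assoc]
    have h0 : X.map (SimplexCategory.σ i).op ≫ P = 0 :=
      AlgebraicTopology.DoldKan.σ_comp_PInfty X i
    rw [h0, comp_zero, comp_zero]
  have h1 := AlgebraicTopology.DoldKan.inclusionOfMooreComplexMap_comp_PInfty X
  have h2 := HomologicalComplex.congr_hom h1 (n' + 1)
  rw [HomologicalComplex.comp_f, AlgebraicTopology.inclusionOfMooreComplexMap_f] at h2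
  have h3 : (AlgebraicTopology.NormalizedMooreComplex.objX X (n' + 1)).arrow ≫ P =
      (AlgebraicTopology.NormalizedMooreComplex.objX X (n' + 1)).arrow := h2
  rw [hzero, comp_zero] at h3
  have h4 := Subobject.mk_arrow (AlgebraicTopology.NormalizedMooreComplex.objX X (n' + 1))
  rw [← h4]
  exact Subobject.mk_eq_bot_iff_zero.mpr h3.symm

end Groth.Agent.S6806
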