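import Groth.Statements.S6808
-- import your own Groth.Agent.* helpers here

set_option autoImplicit false
open CategoryTheory Opposite
universe u
open SSet

namespace Groth.Agent.S6808

/-- A map of simplicial sets preserving non-degeneracy of simplices and injective on non-degenerate
simplices is injective in every dimension. -/
theorem result {U V : SSet.{u}} (f : U ⟶ V) (ha : ∀ (n : ℕ) (x : U.obj (op (SimplexCategory.mk n))), x ∈ U.nonDegenerate n → f.app (op (SimplexCategory.mk n)) x ∈ V.nonDegenerate n) (hb : ∀ n : ℕ, Set.InjOn (f.app (op (SimplexCategory.mk n))) (U.nonDegenerate n)) (n : ℕ) : Function.Injective (f.app (op (SimplexCategory.mk n))) := by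
  intro x x' hxx'
  obtain ⟨m₁, s₁, hs₁, y₁, hy₁⟩ := U.exists_nonDegenerate x
  obtain ⟨m₂, s₂, hs₂, y₂, hy₂⟩ := U.exists_nonDegenerate x'
  have h1 : f.app _ x = V.map s₁.op (f.app _ y₁.1) := by
    rw [hy₁]; exact NatTrans.naturality_apply f s₁.op y₁.1
  have h2 : f.app _ x = V.map s₂.op (f.app _ y₂.1) := by
    rw [hxx', hy₂]; exact NatTrans.naturality_apply f s₂.op y₂.1
  have hm : m₁ = m₂ := V.unique_nonDegenerate_dim (f.app _ x) s₁ ⟨_, ha _ _ y₁.2⟩ h1 s₂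
    ⟨_, ha _ _ y₂.2⟩ h2
  subst hm
  have hy : (⟨f.app _ y₁.1, ha _ _ y₁.2⟩ : V.nonDegenerate m₁) = ⟨f.app _ y₂.1, ha _ _ y₂.2⟩ :=
    V.unique_nonDegenerate_simplex (f.app _ x) s₁ ⟨_, ha _ _ y₁.2⟩ h1 s₂ ⟨_, ha _ _ y₂.2⟩ h2
  have hs : s₁ = s₂ :=
    V.unique_nonDegenerate_map (f.app _ x) s₁ ⟨_, ha _ _ y₁.2⟩ h1 s₂ ⟨_, ha _ _ y₂.2⟩ h2
  have hy' : y₁.1 = y₂.1 := hb m₁ y₁.2 y₂.2 (congrArg Subtype.val hy)
  rw [hy₁, hy₂, hs, hy']

end Groth.Agent.S6808
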