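import Groth.Statements.S6811
import Groth.Agent.Lib.H79TruncFin
import Mathlib.CategoryTheory.Adjunction.Unique

set_option autoImplicit false
open CategoryTheory CategoryTheory.Limits
universe v u
open CategoryTheory CategoryTheory.SimplicialObject

namespace Groth.Agent.S6811

/-- In a category with finite limits, an `n`-coskeletal simplicial object is `m`-coskeletal for every `m
≥ n`. -/
theorem result {C : Type u} [Category.{v} C] [HasFiniteLimits C] (U : SimplicialObject C) {n m : ℕ} (h : n ≤ m) [U.IsCoskeletal n] : U.IsCoskeletal m := by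
  have : ∀ (k : ℕ) (F : (SimplexCategory.Truncated k)ᵒᵖ ⥤ C),
      (SimplexCategory.Truncated.inclusion k).op.HasPointwiseRightKanExtension F :=
    fun k F => Groth.Agent.Lib.H79TruncFin.hasPointwiseRightKanExtension_inclusion k F
  have : ∀ (F : (SimplexCategory.Truncated n)ᵒᵖ ⥤ C),
      (SimplexCategory.Truncated.incl n m h).op.HasPointwiseRightKanExtension F := by
    intro F Y
    have : FinCategory (StructuredArrow Y (SimplexCategory.Truncated.incl n m h).op) :=
      Groth.Agent.Lib.H79TruncFin.finCategoryStructuredArrow _ _
    change HasLimit _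
    infer_instance
  rw [isCoskeletal_iff_isIso]
  let adjj : Truncated.trunc C m n h ⊣ (SimplexCategory.Truncated.incl n m h).op.ran :=
    Functor.ranAdjunction _ C
  let adj' : truncation n ⊣ (SimplexCategory.Truncated.incl n m h).op.ran ⋙ Truncated.cosk m :=
    ((coskAdj m).comp adjj).ofNatIsoLeft (truncationCompTrunc h)
  let e : (SimplexCategory.Truncated.incl n m h).op.ran ⋙ Truncated.cosk m ≅ Truncated.cosk n :=
    adj'.rightAdjointUniq (coskAdj n)
  exact (coskAdj m).isIso_unit_app_of_iso (isoCoskOfIsCoskeletal U n ≪≫ (e.app _).symm)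

end Groth.Agent.S6811
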