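import Groth.Statements.S6812
import Groth.Agent.S6808
import Groth.Agent.S6805

set_option autoImplicit false
open CategoryTheory
universe u
open SSet

namespace Groth.Agent.S6812

open Opposite Simplicial

section

variable (U : SSet.{u}) (n : ℕ)

/-- The unit of the skeleton adjunction at the truncation of `U`. -/
noncomputable abbrev η : (SSet.truncation n).obj U ⟶
    (SSet.truncation n).obj ((SSet.Truncated.sk n).obj ((SSet.truncation n).obj U)) :=
  (SSet.skAdj n).unit.app ((SSet.truncation n).obj U)

/-- The counit of the skeleton adjunction at `U`. -/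
noncomputable abbrev ε : (SSet.Truncated.sk n).obj ((SSet.truncation n).obj U) ⟶ U :=
  (SSet.skAdj n).counit.app U

lemma η_ε : η U n ≫ (SSet.truncation n).map (ε U n) = 𝟙 _ :=
  (SSet.skAdj n).right_triangle_components U

lemma ε_η_apply (j : (SimplexCategory.Truncated n)ᵒᵖ) (u : ((SSet.truncation n).obj U).obj j) :
    (ε U n).app ((SimplexCategory.Truncated.inclusion n).op.obj j) ((η U n).app j u) = u := by
  have := congrArg (fun φ => φ.app j u) (η_ε U n)
  exact this

lemma exists_rep {k : ℕ} (x : ((SSet.Truncated.sk n).obj ((SSet.truncation n).obj U)).obj (op ⦋k⦌)) :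
    ∃ (j : (SimplexCategory.Truncated n)ᵒᵖ)
      (f : (SimplexCategory.Truncated.inclusion n).op.obj j ⟶ op ⦋k⦌)
      (u : ((SSet.truncation n).obj U).obj j),
      ((SSet.Truncated.sk n).obj ((SSet.truncation n).obj U)).map f ((η U n).app j u) = x := by
  have hK : Functor.IsLeftKanExtension ((SimplicialObject.sk n).obj U)
      ((SimplicialObject.skAdj n).unit.app ((SimplicialObject.truncation n).obj U)) :=
    inferInstance
  have hP := @Functor.isPointwiseLeftKanExtensionOfIsLeftKanExtension _ _ _ _ _ _ _ _ _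
    ((SSet.Truncated.sk n).obj ((SSet.truncation n).obj U)) (η U n) hK
  obtain ⟨j, y, hy⟩ := Limits.Types.jointly_surjective_of_isColimit
    (hP (Opposite.op (SimplexCategory.mk k))) x
  exact ⟨j.left, j.hom, y, hy⟩

lemma η_bijective (j : (SimplexCategory.Truncated n)ᵒᵖ) :
    Function.Bijective ((η U n).app j) := by
  have h1 : IsIso (SSet.skAdj.{u} n).unit := SSet.Truncated.sk_coreflective n
  have h2 : IsIso (η U n) := inferInstance
  have h3 : IsIso ((η U n).app j) := inferInstance
  exact (isIso_iff_bijective _).mp h3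

lemma ε_injective {k : ℕ} (hk : k ≤ n) : Function.Injective ((ε U n).app (op ⦋k⦌)) := by
  intro x x' h
  obtain ⟨u, rfl⟩ := (η_bijective U n (op ⟨⦋k⦌, hk⟩)).2 x
  obtain ⟨u', rfl⟩ := (η_bijective U n (op ⟨⦋k⦌, hk⟩)).2 x'
  have e1 := ε_η_apply U n (op ⟨⦋k⦌, hk⟩) u
  have e2 := ε_η_apply U n (op ⟨⦋k⦌, hk⟩) u'
  have : u = u' := by
    rw [← e1, ← e2]
    exact h
  rw [this]

lemma ε_surjective {k : ℕ} (hk : k ≤ n) (u : U.obj (op ⦋k⦌)) :
    ∃ x, (ε U n).app (op ⦋k⦌) x = u :=
  ⟨(η U n).app (op ⟨⦋k⦌, hk⟩) u, ε_η_apply U n (op ⟨⦋k⦌, hk⟩) u⟩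

end

/-- For a simplicial set `U`, the counit `i_{n!} sk_n U ⟶ U` of the skeleton adjunction is a
monomorphism whose image is the subcomplex of `U` generated by its simplices of dimension `≤ n`. -/
theorem result (U : SSet.{u}) (n : ℕ) : Mono ((SSet.skAdj n).counit.app U) ∧ SSet.Subcomplex.range ((SSet.skAdj n).counit.app U) = U.skeleton (n + 1) := by
  have hdim : ((SSet.Truncated.sk n).obj ((SSet.truncation n).obj U)).HasDimensionLT (n + 1) :=
    Groth.Agent.S6805.result n _
  have hle : ∀ (k : ℕ), (((SSet.Truncated.sk n).obj ((SSet.truncation n).obj U)).nonDegenerate k).Nonempty →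
      k ≤ n := by
    intro k ⟨x, hx⟩
    have := SSet.dim_lt_of_nonDegenerate _ ⟨x, hx⟩ (n + 1)
    omega
  refine ⟨?_, ?_⟩
  · have hinj : ∀ k : ℕ, Function.Injective ((ε U n).app (op ⦋k⦌)) := by
      refine Groth.Agent.S6808.result (ε U n) ?_ ?_
      · intro k x hx
        have hk : k ≤ n := hle k ⟨x, hx⟩
        intro hdeg
        obtain ⟨i, hi, s, v, hv⟩ := hdeg
        obtain ⟨w, rfl⟩ := ε_surjective U n (k := i) (by omega) v
        apply hx
        refine ⟨i, hi, s, w, ?_⟩
        apply ε_injective U n hk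
        rw [← hv]
        exact NatTrans.naturality_apply (ε U n) s.op w
      · intro k x hx x' _ h
        exact ε_injective U n (hle k ⟨x, hx⟩) h
    have : ∀ c : SimplexCategoryᵒᵖ, Mono ((ε U n).app c) := by
      rintro ⟨c⟩
      induction c using SimplexCategory.rec with | _ k =>
      exact (mono_iff_injective _).mpr (hinj k)
    exact NatTrans.mono_of_mono_app (ε U n)
  · apply le_antisymm
    · rintro ⟨c⟩ y hy
      induction c using SimplexCategory.rec with | _ k =>
      obtain ⟨x, rfl⟩ := hy
      obtain ⟨j, f, u, rfl⟩ := exists_rep U n x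
      have h1 : (ε U n).app (op ⦋k⦌) (((SSet.Truncated.sk n).obj ((SSet.truncation n).obj U)).map f
          ((η U n).app j u)) = U.map f u := by
        refine (NatTrans.naturality_apply (ε U n) f ((η U n).app j u)).trans ?_
        exact congrArg (U.map f) (ε_η_apply U n j u)
      rw [h1]
      apply (U.skeleton (n + 1)).map f
      obtain ⟨j⟩ := j
      obtain ⟨j, hj⟩ := j
      induction j using SimplexCategory.rec with | _ i =>
      exact U.mem_skeleton u (Nat.lt_succ_of_le hj)
    · dsimp [SSet.skeleton]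
      simp only [iSup_le_iff]
      intro i x
      rw [SSet.Subcomplex.ofSimplex_le_iff]
      exact ε_surjective U n (Nat.le_of_lt_succ i.2) x.1

end Groth.Agent.S6812
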