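import Groth.Statements.S6813
import Groth.Agent.Lib.H79TruncFin
import Mathlib.CategoryTheory.Functor.KanExtension.Pointwise
import Mathlib.CategoryTheory.Limits.Constructions.Over.Connected
import Mathlib.CategoryTheory.Limits.Constructions.Over.Basic

set_option autoImplicit false
open CategoryTheory CategoryTheory.Limits
universe v u
open CategoryTheory CategoryTheory.SimplicialObject

namespace Groth.Agent.S6813

section Aux
open CategoryTheory CategoryTheory.Limits Opposite Simplicial SimplexCategory
open SimplexCategory.Truncated CategoryTheory.Functor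

variable (n : ℕ) (hn : 1 ≤ n)

/-- The vertex objects of the comma category. -/
abbrev vtx (m : SimplexCategory) (k : Fin (m.len + 1)) :
    StructuredArrow (op m) (Truncated.inclusion n).op :=
  StructuredArrow.mk (Y := op (⟨⦋0⦌, by simp⟩ : SimplexCategory.Truncated n))
    (SimplexCategory.const ⦋0⦌ m k).op

include hn in
/-- The edge objects of the comma category. -/
abbrev edg (m : SimplexCategory) (k k' : Fin (m.len + 1)) (h : k ≤ k') :
    StructuredArrow (op m) (Truncated.inclusion n).op :=
  StructuredArrow.mk (Y := op (⟨⦋1⦌, by simpa using hn⟩ : SimplexCategory.Truncated n))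
    (SimplexCategory.mkOfLe (n := m.len) k k' h).op

/-- The morphism from an object of the comma category to one of its vertices. -/
def toVtx (m : SimplexCategory) (j : StructuredArrow (op m) (Truncated.inclusion n).op)
    (l : Fin (j.right.unop.obj.len + 1)) :
    j ⟶ vtx n m (j.hom.unop.toOrderHom l) :=
  StructuredArrow.homMk
    (Quiver.Hom.op (ObjectProperty.homMk (SimplexCategory.const ⦋0⦌ j.right.unop.obj l)))
    (by
      apply Quiver.Hom.unop_inj
      ext x
      rfl)

include hn in
lemma zigzag_vtx (m : SimplexCategory) (k k' : Fin (m.len + 1)) (h : k ≤ k') :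
    Zigzag (vtx n m k) (vtx n m k') := by
  have h0 : Zigzag (edg n hn m k k' h) (vtx n m k) := Zigzag.of_hom (toVtx n m (edg n hn m k k' h) 0)
  have h1 : Zigzag (edg n hn m k k' h) (vtx n m k') := Zigzag.of_hom (toVtx n m (edg n hn m k k' h) 1)
  exact h0.symm.trans h1

include hn in
lemma isConnected_sa (m : SimplexCategory) :
    IsConnected (StructuredArrow (op m) (Truncated.inclusion n).op) := by
  have : Nonempty (StructuredArrow (op m) (Truncated.inclusion n).op) := ⟨vtx n m 0⟩
  apply zigzag_isConnected
  intro j₁ j₂
  have a1 : Zigzag j₁ (vtx n m (j₁.hom.unop.toOrderHom 0)) := Zigzag.of_hom (toVtx n m j₁ 0)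
  have a2 : Zigzag j₂ (vtx n m (j₂.hom.unop.toOrderHom 0)) := Zigzag.of_hom (toVtx n m j₂ 0)
  refine a1.trans (Zigzag.trans ?_ a2.symm)
  rcases le_total (j₁.hom.unop.toOrderHom 0) (j₂.hom.unop.toOrderHom 0) with h | h
  · exact zigzag_vtx n hn m _ _ h
  · exact (zigzag_vtx n hn m _ _ h).symm

end Aux

/-- For `k ≥ 1` the forgetful functor from the over category `C/X` to `C` (with `C` having finite
limits) commutes with `cosk_k`; stated as: a `k`-coskeletal simplicial object of `C/X` has
`k`-coskeletal underlying simplicial object in `C`. -/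
theorem result {C : Type u} [Category.{v} C] [HasFiniteLimits C] (X : C) (k : ℕ) (hk : 1 ≤ k) (V : SimplicialObject (Over X)) [V.IsCoskeletal k] : SimplicialObject.IsCoskeletal (V ⋙ Over.forget X) k := by
  have hp : ∀ U : (SimplexCategory.Truncated k)ᵒᵖ ⥤ Over X,
      (SimplexCategory.Truncated.inclusion k).op.HasPointwiseRightKanExtension U :=
    fun U => Groth.Agent.Lib.H79TruncFin.hasPointwiseRightKanExtension_inclusion k U
  have hV : (Functor.RightExtension.mk V
      (𝟙 ((SimplexCategory.Truncated.inclusion k).op ⋙ V))).IsPointwiseRightKanExtension :=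
    Functor.isPointwiseRightKanExtensionOfIsRightKanExtension V (𝟙 _)
  refine ⟨?_⟩
  refine Functor.RightExtension.IsPointwiseRightKanExtension.isRightKanExtension
    (E := SimplicialObject.Truncated.rightExtensionInclusion (V ⋙ Over.forget X) k) (fun Δ => ?_)
  have := isConnected_sa k hk Δ.unop
  exact isLimitOfPreserves (Over.forget X) (hV Δ)

end Groth.Agent.S6813
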