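import Groth.Statements.S6816
import Mathlib.Algebra.Homology.HomotopyCategory.HomComplexShift

set_option autoImplicit false
open CategoryTheory CategoryTheory.Limits
universe v u
open CochainComplex

namespace Groth.Agent.S6816

/-- Abstract comparison of the boundary maps attached to two splittings. -/
theorem abstract_key {D : Type u} [Category.{v} D] [Preadditive D]
    {A₀ B₀ C₀ A₁ B₁ C₁ : D} (f₀ : A₀ ⟶ B₀) (g₀ : B₀ ⟶ C₀) (f₁ : A₁ ⟶ B₁) (g₁ : B₁ ⟶ C₁)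
    (dA : A₀ ⟶ A₁) (dB : B₀ ⟶ B₁) (dC : C₀ ⟶ C₁)
    (hf : f₀ ≫ dB = dA ≫ f₁) (hg : dB ≫ g₁ = g₀ ≫ dC) (hfg : f₀ ≫ g₀ = 0)
    (r₀ : B₀ ⟶ A₀) (s₀ : C₀ ⟶ B₀) (s₀' : C₀ ⟶ B₀)
    (r₁ : B₁ ⟶ A₁) (s₁ : C₁ ⟶ B₁) (r₁' : B₁ ⟶ A₁) (s₁' : C₁ ⟶ B₁)
    (id₀ : r₀ ≫ f₀ + g₀ ≫ s₀ = 𝟙 B₀) (s_g₀ : s₀ ≫ g₀ = 𝟙 C₀) (s_g₀' : s₀' ≫ g₀ = 𝟙 C₀)
    (id₁ : r₁ ≫ f₁ + g₁ ≫ s₁ = 𝟙 B₁) (f_r₁ : f₁ ≫ r₁ = 𝟙 A₁) (f_r₁' : f₁ ≫ r₁' = 𝟙 A₁)
    (s_g₁' : s₁' ≫ g₁ = 𝟙 C₁) (s_r₁' : s₁' ≫ r₁' = 0) :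
    s₀ ≫ dB ≫ r₁ = -((s₀' ≫ r₀) ≫ dA - dC ≫ (s₁' ≫ r₁)) + s₀' ≫ dB ≫ r₁' := by
  have hs₀' : s₀' = (s₀' ≫ r₀) ≫ f₀ + s₀ := by
    calc s₀' = s₀' ≫ (r₀ ≫ f₀ + g₀ ≫ s₀) := by rw [id₀, Category.comp_id]
      _ = _ := by
        rw [Preadditive.comp_add, ← Category.assoc, ← Category.assoc s₀', s_g₀',
          Category.id_comp]
  have hs₁' : s₁' = (s₁' ≫ r₁) ≫ f₁ + s₁ := by
    calc s₁' = s₁' ≫ (r₁ ≫ f₁ + g₁ ≫ s₁) := by rw [id₁, Category.comp_id]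
      _ = _ := by
        rw [Preadditive.comp_add, ← Category.assoc, ← Category.assoc s₁', s_g₁',
          Category.id_comp]
  have e1 : s₁ ≫ r₁' = -(s₁' ≫ r₁) := by
    have := s_r₁'
    rw [hs₁', Preadditive.add_comp, Category.assoc, f_r₁', Category.comp_id] at this
    exact eq_neg_of_add_eq_zero_right this
  have hr₁' : r₁' = r₁ - g₁ ≫ (s₁' ≫ r₁) := by
    calc r₁' = (r₁ ≫ f₁ + g₁ ≫ s₁) ≫ r₁' := by rw [id₁, Category.id_comp]
      _ = _ := by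
        rw [Preadditive.add_comp, Category.assoc, f_r₁', Category.comp_id, Category.assoc, e1,
          Preadditive.comp_neg, sub_eq_add_neg]
  set t₀ := s₀' ≫ r₀ with ht₀
  set t₁ := s₁' ≫ r₁ with ht₁
  rw [hs₀', hr₁']
  simp only [Preadditive.add_comp, Preadditive.comp_sub, Category.assoc]
  rw [reassoc_of% hf, f_r₁, Category.comp_id, reassoc_of% hg, reassoc_of% s_g₀,
    reassoc_of% hfg, zero_comp, comp_zero]
  abel

open CochainComplex.HomComplex in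
set_option backward.isDefEq.respectTransparency false in
/-- The difference of the two `1`-cocycles is a coboundary. -/
theorem cocycle_eq {C : Type u} [Category.{v} C] [Preadditive C]
    (S : ShortComplex (CochainComplex C ℤ))
    (σ σ' : ∀ n : ℤ, (S.map (HomologicalComplex.eval C (ComplexShape.up ℤ) n)).Splitting) :
    (cocycleOfDegreewiseSplit S σ).1 =
      -(δ 0 1 (Cochain.ofHoms (fun p => (σ' p).s ≫ (σ p).r))) +
        (cocycleOfDegreewiseSplit S σ').1 := by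
  ext p q hpq
  obtain rfl : q = p + 1 := by omega
  have hfg : S.f.f p ≫ S.g.f p = 0 := by
    rw [← HomologicalComplex.comp_f, S.zero, HomologicalComplex.zero_f]
  rw [Cochain.add_v, Cochain.neg_v, δ_v 0 1 (zero_add 1) _ p (p + 1) rfl p (p + 1) (by omega)
    (by omega)]
  simp only [cocycleOfDegreewiseSplit, Cocycle.mk_coe, Cochain.mk_v, Cochain.ofHoms_v,
    Int.negOnePow_one, Units.neg_smul, one_smul]
  rw [← sub_eq_add_neg]
  exact abstract_key (S.f.f p) (S.g.f p) (S.f.f (p + 1)) (S.g.f (p + 1))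
    (S.X₁.d p (p + 1)) (S.X₂.d p (p + 1)) (S.X₃.d p (p + 1))
    (S.f.comm p (p + 1)) (S.g.comm p (p + 1)).symm hfg
    (σ p).r (σ p).s (σ' p).s (σ (p + 1)).r (σ (p + 1)).s (σ' (p + 1)).r (σ' (p + 1)).s
    (σ p).id (σ p).s_g (σ' p).s_g (σ (p + 1)).id (σ (p + 1)).f_r (σ' (p + 1)).f_r
    (σ' (p + 1)).s_g (σ' (p + 1)).s_r

/-- The boundary morphisms `C ⟶ A⟦1⟧` attached to two degreewise splittings of a degreewise split
sequence `A ⟶ B ⟶ C` of cochain complexes are homotopic. -/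
theorem result {C : Type u} [Category.{v} C] [Preadditive C] [HasBinaryBiproducts C] (S : ShortComplex (CochainComplex C ℤ)) (σ σ' : ∀ n : ℤ, (S.map (HomologicalComplex.eval C (ComplexShape.up ℤ) n)).Splitting) : Nonempty (Homotopy (CochainComplex.homOfDegreewiseSplit S σ) (CochainComplex.homOfDegreewiseSplit S σ')) := by
  refine ⟨(HomComplex.Cochain.equivHomotopy _ _).symm
    ⟨(HomComplex.Cochain.ofHoms (fun p => (σ' p).s ≫ (σ p).r)).rightShift 1 (-1) (by omega), ?_⟩⟩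
  rw [HomComplex.Cochain.δ_rightShift _ 1 (-1) 0 (by omega) 1 (by omega)]
  simp only [homOfDegreewiseSplit, HomComplex.Cocycle.equivHom_symm_apply,
    HomComplex.Cocycle.cochain_ofHom_homOf_eq_coe, HomComplex.Cocycle.rightShift_coe]
  rw [cocycle_eq S σ σ', HomComplex.Cochain.rightShift_add, HomComplex.Cochain.rightShift_neg]
  simp

end Groth.Agent.S6816
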