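import Groth.Statements.S6817
import Mathlib.AlgebraicTopology.SimplicialSet.Homology.HomotopyInvariance
import Mathlib.AlgebraicTopology.DoldKan.PInfty
import Mathlib.AlgebraicTopology.DoldKan.Homotopies
import Mathlib.AlgebraicTopology.DoldKan.HomotopyEquivalence
import Mathlib.Algebra.Homology.Refinements
import Mathlib.GroupTheory.FreeAbelianGroup
import Mathlib.Algebra.Category.Grp.EpiMono

set_option autoImplicit false
open CategoryTheory
universe u
open SSet

namespace Groth.Agent.S6817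

section Aux

open CategoryTheory Simplicial Opposite AlgebraicTopology AlgebraicTopology.DoldKan

/-- The generalized-element test object. -/
abbrev ZZ : AddCommGrpCat.{u} := AddCommGrpCat.of (ULift.{u} ℤ)

/-- The generalized element associated to an element. -/
def elt {G : AddCommGrpCat.{u}} (g : G) : ZZ.{u} ⟶ G :=
  AddCommGrpCat.ofHom ((zmultiplesHom G g).comp AddEquiv.ulift.toAddMonoidHom)

@[simp] lemma elt_one {G : AddCommGrpCat.{u}} (g : G) : elt g ⟨1⟩ = g := by
  change (1 : ℤ) • g = g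
  simp

lemma elt_ext {G : AddCommGrpCat.{u}} {φ ψ : ZZ.{u} ⟶ G} (h : φ ⟨1⟩ = ψ ⟨1⟩) : φ = ψ := by
  ext ⟨n⟩
  have : (⟨n⟩ : ULift.{u} ℤ) = n • ⟨1⟩ := by
    apply ULift.ext; simp
  rw [this, map_zsmul, map_zsmul, h]

@[simp] lemma elt_zero {G : AddCommGrpCat.{u}} : elt (0 : G) = 0 :=
  elt_ext (by rw [elt_one]; rfl)

lemma elt_comp {G H : AddCommGrpCat.{u}} (g : G) (φ : G ⟶ H) : elt g ≫ φ = elt (φ g) :=
  elt_ext (by rw [ConcreteCategory.comp_apply, elt_one, elt_one])

lemma sum_zsmul_apply {P Q : AddCommGrpCat.{u}} {ι : Type*} (s : Finset ι) (c : ι → ℤ)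
    (φ : ι → (P ⟶ Q)) (x : P) :
    (∑ i ∈ s, c i • φ i) x = ∑ i ∈ s, c i • (φ i x) := by
  classical
  induction s using Finset.induction_on with
  | empty => simp
  | insert i s hi ih =>
    rw [Finset.sum_insert hi, Finset.sum_insert hi, AddCommGrpCat.hom_add_apply, ih]
    rfl

section Refine

variable {K L : ChainComplex AddCommGrpCat.{u} ℕ} (φ : K ⟶ L)

lemma epi_of_elt (i j k : ℕ) (hi : (ComplexShape.down ℕ).prev j = i)
    (hk : (ComplexShape.down ℕ).next j = k)
    (H : ∀ y : L.X j, L.d j k y = 0 → ∃ x : K.X j, K.d j k x = 0 ∧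
      ∃ y' : L.X i, y = φ.f j x + L.d i j y') :
    Epi (HomologicalComplex.homologyMap φ j) := by
  rw [HomologicalComplex.epi_homologyMap_iff_up_to_refinements φ i j k hi hk]
  intro A y₂ hy₂
  have hy : ∀ a : A, L.d j k (y₂ a) = 0 := fun a => by
    have := congrArg (fun g => g a) hy₂
    simpa using this
  choose x hx y' hy' using fun a : A => H (y₂ a) (hy a)
  refine ⟨AddCommGrpCat.of (FreeAbelianGroup A),
    AddCommGrpCat.ofHom (FreeAbelianGroup.lift id), ?_,
    AddCommGrpCat.ofHom (FreeAbelianGroup.lift x), ?_,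
    AddCommGrpCat.ofHom (FreeAbelianGroup.lift y'), ?_⟩
  · rw [AddCommGrpCat.epi_iff_surjective]
    intro a
    exact ⟨FreeAbelianGroup.of a, by simp⟩
  · ext t
    simpa using hx t
  · ext t
    simpa using hy' t

lemma mono_of_elt (i j k : ℕ) (hi : (ComplexShape.down ℕ).prev j = i)
    (hk : (ComplexShape.down ℕ).next j = k)
    (H : ∀ x : K.X j, K.d j k x = 0 → (∃ y : L.X i, φ.f j x = L.d i j y) →
      ∃ x' : K.X i, x = K.d i j x') :
    Mono (HomologicalComplex.homologyMap φ j) := by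
  rw [HomologicalComplex.mono_homologyMap_iff_up_to_refinements φ i j k hi hk]
  intro A x₂ hx₂ y₁ hy₁
  have h1 : ∀ a : A, K.d j k (x₂ a) = 0 := fun a => by
    have := congrArg (fun g => g a) hx₂
    simpa using this
  have h2 : ∀ a : A, φ.f j (x₂ a) = L.d i j (y₁ a) := fun a => by
    have := congrArg (fun g => g a) hy₁
    simpa using this
  choose x' hx' using fun a : A => H (x₂ a) (h1 a) ⟨y₁ a, h2 a⟩
  refine ⟨AddCommGrpCat.of (FreeAbelianGroup A),
    AddCommGrpCat.ofHom (FreeAbelianGroup.lift id), ?_,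
    AddCommGrpCat.ofHom (FreeAbelianGroup.lift x'), ?_⟩
  · rw [AddCommGrpCat.epi_iff_surjective]
    intro a
    exact ⟨FreeAbelianGroup.of a, by simp⟩
  · ext t
    simpa using hx' t

end Refine

section Simp

open CategoryTheory.Limits

/-- The underlying simplicial set. -/
abbrev UU (X : SimplicialObject AddCommGrpCat.{u}) : SSet.{u} := X ⋙ forget AddCommGrpCat.{u}

/-- The alternating face map complex. -/
abbrev KK (X : SimplicialObject AddCommGrpCat.{u}) : ChainComplex AddCommGrpCat.{u} ℕ :=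
  (alternatingFaceMapComplex AddCommGrpCat.{u}).obj X

/-- The integral chains on the underlying simplicial set. -/
noncomputable abbrev CZ (X : SimplicialObject AddCommGrpCat.{u}) : ChainComplex AddCommGrpCat.{u} ℕ :=
  (UU X).chainComplex ZZ.{u}

variable {X Y : SimplicialObject AddCommGrpCat.{u}} (f : X ⟶ Y)

/-- The generator of the integral chains attached to a simplex. -/
noncomputable def br {n : ℕ} (x : X _⦋n⦌) : (CZ X).X n :=
  (SSet.ιChainComplex (R := ZZ.{u}) (UU X) (x : (UU X) _⦋n⦌)) ⟨1⟩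

lemma br_d {n : ℕ} (x : X _⦋n + 1⦌) :
    (CZ X).d (n + 1) n (br x) = ∑ i : Fin (n + 2), (-1 : ℤ) ^ (i : ℕ) • br (X.δ i x) := by
  have := congrArg (fun g => g (⟨1⟩ : ULift.{u} ℤ))
    (SSet.ιChainComplex_d (UU X) ZZ.{u} (x : (UU X) _⦋n + 1⦌))
  simp only [ConcreteCategory.comp_apply] at this
  refine this.trans ?_
  rw [sum_zsmul_apply]
  rfl

/-- The underlying map of simplicial sets. -/
abbrev fU : UU X ⟶ UU Y := Functor.whiskerRight f (forget AddCommGrpCat.{u})

lemma br_map {n : ℕ} (x : X _⦋n⦌) :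
    (SSet.chainComplexMap (fU f) ZZ.{u}).f n (br x) = br (f.app _ x) := by
  have := congrArg (fun g => g (⟨1⟩ : ULift.{u} ℤ))
    (SSet.ι_chainComplexMap_f (UU X) (UU Y) (fU f) ZZ.{u} (x : (UU X) _⦋n⦌))
  simp only [ConcreteCategory.comp_apply] at this
  exact this

/-- The counit, as a morphism of simplicial abelian groups. -/
noncomputable def epsS (X : SimplicialObject AddCommGrpCat.{u}) :
    ((SimplicialObject.whiskering _ _).obj (sigmaConst.obj ZZ.{u})).obj (UU X) ⟶ X where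
  app n := Sigma.desc (fun x : (UU X).obj n => elt (x : X.obj n))
  naturality n m θ := by
    apply Sigma.hom_ext
    intro x
    simp only [SimplicialObject.whiskering_obj_obj_map, sigmaConst_obj_map]
    erw [Sigma.ι_comp_map'_assoc, Sigma.ι_desc_assoc]
    simp only [Category.id_comp, Sigma.ι_desc, elt_comp]
    rfl

/-- The counit, as a chain map. -/
noncomputable def eps (X : SimplicialObject AddCommGrpCat.{u}) : CZ X ⟶ KK X :=
  (alternatingFaceMapComplex AddCommGrpCat.{u}).map (epsS X)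

lemma ι_eps {n : ℕ} (x : X _⦋n⦌) :
    SSet.ιChainComplex (R := ZZ.{u}) (UU X) (x : (UU X) _⦋n⦌) ≫ (eps X).f n = elt x :=
  Sigma.ι_desc _ _

lemma eps_br {n : ℕ} (x : X _⦋n⦌) : (eps X).f n (br x) = x := by
  have := congrArg (fun g => g (⟨1⟩ : ULift.{u} ℤ)) (ι_eps x)
  simp only [ConcreteCategory.comp_apply] at this
  exact this.trans (elt_one x)

lemma eps_d (i j : ℕ) (c : (CZ X).X i) :
    (KK X).d i j ((eps X).f i c) = (eps X).f j ((CZ X).d i j c) := by
  have := congrArg (fun g => g c) ((eps X).comm i j)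
  simp only [ConcreteCategory.comp_apply] at this
  exact this

lemma eps_nat {n : ℕ} (c : (CZ X).X n) :
    (eps Y).f n ((SSet.chainComplexMap (fU f) ZZ.{u}).f n c) = f.app _ ((eps X).f n c) := by
  have : (SSet.chainComplexMap (fU f) ZZ.{u}).f n ≫ (eps Y).f n = (eps X).f n ≫ f.app (op ⦋n⦌) := by
    apply SSet.chainComplex_hom_ext
    intro x
    rw [SSet.ι_chainComplexMap_f_assoc, ← Category.assoc]
    erw [ι_eps, ι_eps]
    rw [elt_comp]
    rfl
  have := congrArg (fun g => g c) this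
  simp only [ConcreteCategory.comp_apply] at this
  exact this

/-- The normalization projector, on elements. -/
noncomputable abbrev PI (X : SimplicialObject AddCommGrpCat.{u}) (n : ℕ) : X _⦋n⦌ ⟶ X _⦋n⦌ :=
  (PInfty.f n : X _⦋n⦌ ⟶ X _⦋n⦌)

lemma PI_higher (n : ℕ) (a : X _⦋n + 1⦌) (j : Fin (n + 1)) :
    X.δ j.succ (PI X (n + 1) a) = 0 := by
  have := congrArg (fun g => g a) (HigherFacesVanish.of_P (X := X) (n + 1) n j (by omega))
  rw [← PInfty_f] at this
  simpa using this

/-- The differential of the alternating face map complex, as an additive map. -/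
noncomputable def dd (X : SimplicialObject AddCommGrpCat.{u}) (n : ℕ) : X _⦋n + 1⦌ →+ X _⦋n⦌ :=
  ((KK X).d (n + 1) n).hom

lemma PI_cycle (n k : ℕ) (hk : (ComplexShape.down ℕ).next n = k) (z : X _⦋n⦌)
    (hz : (KK X).d n k z = 0) :
    ∃ b : X _⦋n + 1⦌, PI X n z = z + dd X n b := by
  subst hk
  have h := (homotopyPInftyToId X).comm n
  rw [prevD_eq _ (show (ComplexShape.down ℕ).Rel (n + 1) n from rfl)] at h
  have h' := congrArg (fun g => g z) h
  refine ⟨(homotopyPInftyToId X).hom n (n + 1) z, ?_⟩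
  refine h'.trans ?_
  rw [AddCommGrpCat.hom_add_apply, AddCommGrpCat.hom_add_apply]
  have e1 : ((dNext n) (homotopyPInftyToId X).hom :
      (AlternatingFaceMapComplex.obj X).X n ⟶ (AlternatingFaceMapComplex.obj X).X n) z = 0 := by
    change ((KK X).d n ((ComplexShape.down ℕ).next n) ≫
      (homotopyPInftyToId X).hom ((ComplexShape.down ℕ).next n) n) z = 0
    rw [ConcreteCategory.comp_apply, hz, map_zero]
  rw [e1, zero_add, add_comm]
  rfl

lemma dd_eq_sum (n : ℕ) (w : X _⦋n + 1⦌) :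
    dd X n w = ∑ i : Fin (n + 2), (-1 : ℤ) ^ (i : ℕ) • X.δ i w := by
  have h2 : (KK X).d (n + 1) n = ∑ i : Fin (n + 2), (-1 : ℤ) ^ (i : ℕ) • X.δ i :=
    AlternatingFaceMapComplex.obj_d_eq X n
  change ((KK X).d (n + 1) n) w = _
  rw [h2, sum_zsmul_apply]

lemma dd_of_higher (n : ℕ) (w : X _⦋n + 1⦌) (hw : ∀ j : Fin (n + 1), X.δ j.succ w = 0) :
    dd X n w = X.δ 0 w := by
  rw [dd_eq_sum, Fin.sum_univ_succ]
  simp [hw]

lemma PI_dd (n : ℕ) (a : X _⦋n + 1⦌) : dd X n (PI X (n + 1) a) = PI X n (dd X n a) := by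
  have := congrArg (fun g => g a) ((PInfty (X := X)).comm (n + 1) n)
  simp only [ConcreteCategory.comp_apply] at this
  exact this

lemma PI_nat (n : ℕ) (a : X _⦋n⦌) : f.app _ (PI X n a) = PI Y n (f.app _ a) := by
  have := congrArg (fun g => g a) (PInfty_f_naturality n f)
  simp only [ConcreteCategory.comp_apply] at this
  exact this.symm

lemma dd_nat (n : ℕ) (a : X _⦋n + 1⦌) : f.app _ (dd X n a) = dd Y n (f.app _ a) := by
  have := congrArg (fun g => g a) (((alternatingFaceMapComplex AddCommGrpCat.{u}).map f).comm (n + 1) n)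
  simp only [ConcreteCategory.comp_apply] at this
  exact this.symm

lemma bd (n : ℕ) (w : X _⦋n + 1⦌) (hw : ∀ j : Fin (n + 1), X.δ j.succ w = 0) :
    (CZ X).d (n + 1) n (br w - br (0 : X _⦋n + 1⦌)) = br (X.δ 0 w) - br (0 : X _⦋n⦌) := by
  have h1 : (CZ X).d (n + 1) n (br w) = br (X.δ 0 w) +
      ∑ j : Fin (n + 1), (-1 : ℤ) ^ ((j.succ : Fin (n + 2)) : ℕ) • br (0 : X _⦋n⦌) := by
    rw [br_d, Fin.sum_univ_succ]
    simp only [hw, Fin.val_zero, pow_zero, one_smul]
  have h2 : (CZ X).d (n + 1) n (br (0 : X _⦋n + 1⦌)) = br (0 : X _⦋n⦌) +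
      ∑ j : Fin (n + 1), (-1 : ℤ) ^ ((j.succ : Fin (n + 2)) : ℕ) • br (0 : X _⦋n⦌) := by
    rw [br_d, Fin.sum_univ_succ]
    simp only [map_zero, Fin.val_zero, pow_zero, one_smul]
  rw [map_sub, h1, h2]
  abel

lemma cyc_succ (m : ℕ) (z : X _⦋m + 1⦌) (hz : ∀ i : Fin (m + 2), X.δ i z = 0) :
    (CZ X).d (m + 1) m (br z - br (0 : X _⦋m + 1⦌)) = 0 := by
  rw [map_sub, br_d, br_d]
  simp only [hz, map_zero, sub_self]

lemma PI_faces (m : ℕ) (z : X _⦋m + 1⦌) (hz : dd X m z = 0) (i : Fin (m + 2)) :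
    X.δ i (PI X (m + 1) z) = 0 := by
  induction i using Fin.cases with
  | zero => rw [← dd_of_higher m _ (PI_higher m z), PI_dd, hz, map_zero]
  | succ j => exact PI_higher m z j

lemma cyc (n k : ℕ) (hk : (ComplexShape.down ℕ).next n = k) (z : X _⦋n⦌)
    (hz : (KK X).d n k z = 0) :
    (CZ X).d n k (br (PI X n z) - br (0 : X _⦋n⦌)) = 0 := by
  subst hk
  obtain _ | m := n
  · rw [ChainComplex.next_nat_zero, HomologicalComplex.shape _ _ _ (by simp)]
    rfl
  · have hk : (ComplexShape.down ℕ).next (m + 1) = m := ChainComplex.next_nat_succ m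
    rw [hk] at hz ⊢
    exact cyc_succ m _ (PI_faces m z hz)

/-- The counit on elements. -/
noncomputable def epsE (X : SimplicialObject AddCommGrpCat.{u}) (n : ℕ) : (CZ X).X n →+ X _⦋n⦌ :=
  ((eps X).f n).hom

lemma epsE_br {n : ℕ} (x : X _⦋n⦌) : epsE X n (br x) = x := eps_br x

lemma epsE_d (n : ℕ) (c : (CZ X).X (n + 1)) :
    epsE X n ((CZ X).d (n + 1) n c) = dd X n (epsE X (n + 1) c) := (eps_d (n + 1) n c).symm

lemma epsE_nat {n : ℕ} (c : (CZ X).X n) :
    epsE Y n ((SSet.chainComplexMap (fU f) ZZ.{u}).f n c) = f.app _ (epsE X n c) := eps_nat f c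

lemma epiK (n : ℕ) (hepi : Epi (SSet.homologyMap (fU f) ZZ.{u} n)) :
    Epi (HomologicalComplex.homologyMap ((alternatingFaceMapComplex AddCommGrpCat.{u}).map f) n) := by
  apply epi_of_elt _ (n + 1) n _ (ChainComplex.prev ℕ n) rfl
  intro y hy
  obtain ⟨b, hb⟩ := PI_cycle n _ rfl y hy
  have hc := cyc n _ rfl y hy
  change Epi (HomologicalComplex.homologyMap (SSet.chainComplexMap (fU f) ZZ.{u}) n) at hepi
  rw [HomologicalComplex.epi_homologyMap_iff_up_to_refinements _ (n + 1) n _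
    (ChainComplex.prev ℕ n) rfl] at hepi
  obtain ⟨A', π, hπ, x₂, hx₂, y₁, hy₁⟩ := hepi (elt (br (PI Y n y) - br (0 : Y _⦋n⦌)))
    (by rw [elt_comp, hc, elt_zero])
  obtain ⟨a', ha'⟩ := (AddCommGrpCat.epi_iff_surjective π).1 hπ ⟨1⟩
  have h1 : br (PI Y n y) - br (0 : Y _⦋n⦌) =
      (SSet.chainComplexMap (fU f) ZZ.{u}).f n (x₂ a') + (CZ Y).d (n + 1) n (y₁ a') := by
    have := congrArg (fun g => g a') hy₁
    simp only [ConcreteCategory.comp_apply, ha'] at this
    rw [elt_one] at this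
    exact this
  have h2 : (CZ X).d n ((ComplexShape.down ℕ).next n) (x₂ a') = 0 := by
    have := congrArg (fun g => g a') hx₂
    simpa using this
  refine ⟨epsE X n (x₂ a'), ?_, epsE Y (n + 1) (y₁ a') - b, ?_⟩
  · exact (eps_d n _ (x₂ a')).trans (by rw [h2, map_zero])
  · have h3 := congrArg (fun c => epsE Y n c) h1
    simp only [map_sub, map_add, epsE_br, epsE_nat, epsE_d] at h3
    rw [sub_zero, hb] at h3
    change y = f.app _ (epsE X n (x₂ a')) + dd Y n (epsE Y (n + 1) (y₁ a') - b)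
    rw [map_sub, ← add_sub_assoc, ← h3]
    abel

lemma monoK (n : ℕ) (hmono : Mono (SSet.homologyMap (fU f) ZZ.{u} n)) :
    Mono (HomologicalComplex.homologyMap ((alternatingFaceMapComplex AddCommGrpCat.{u}).map f) n) := by
  apply mono_of_elt _ (n + 1) n _ (ChainComplex.prev ℕ n) rfl
  rintro x hx ⟨y, hy⟩
  change f.app _ x = dd Y n y at hy
  obtain ⟨b, hb⟩ := PI_cycle n _ rfl x hx
  have hc := cyc n _ rfl x hx
  have hy' : Y.δ 0 (PI Y (n + 1) y) = f.app _ (PI X n x) := by
    rw [← dd_of_higher n _ (PI_higher n y), PI_dd, ← hy, PI_nat]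
  have hbd := bd n (PI Y (n + 1) y) (PI_higher n y)
  change Mono (HomologicalComplex.homologyMap (SSet.chainComplexMap (fU f) ZZ.{u}) n) at hmono
  rw [HomologicalComplex.mono_homologyMap_iff_up_to_refinements _ (n + 1) n _
    (ChainComplex.prev ℕ n) rfl] at hmono
  obtain ⟨A', π, hπ, x₁, hx₁⟩ := hmono (elt (br (PI X n x) - br (0 : X _⦋n⦌)))
    (by rw [elt_comp, hc, elt_zero]) (elt (br (PI Y (n + 1) y) - br (0 : Y _⦋n + 1⦌)))
    (by rw [elt_comp, elt_comp, hbd, map_sub, br_map, br_map, map_zero, hy'])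
  obtain ⟨a', ha'⟩ := (AddCommGrpCat.epi_iff_surjective π).1 hπ ⟨1⟩
  have h1 : br (PI X n x) - br (0 : X _⦋n⦌) = (CZ X).d (n + 1) n (x₁ a') := by
    have := congrArg (fun g => g a') hx₁
    simp only [ConcreteCategory.comp_apply, ha'] at this
    rw [elt_one] at this
    exact this
  refine ⟨epsE X (n + 1) (x₁ a') - b, ?_⟩
  have h3 := congrArg (fun c => epsE X n c) h1
  simp only [map_sub, epsE_br, epsE_d] at h3
  rw [sub_zero, hb] at h3
  change x = dd X n (epsE X (n + 1) (x₁ a') - b)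
  rw [map_sub, ← h3]
  abel

end Simp

end Aux

/-- A homomorphism of simplicial abelian groups whose underlying map of simplicial sets is a homotopy
equivalence induces a quasi-isomorphism of associated chain complexes. (The published statement
allows the composites with a homotopy inverse to be joined to the identities by chains of
homotopies; this row assumes single homotopies, in either direction.) -/
theorem result {X Y : SimplicialObject AddCommGrpCat.{u}} (f : X ⟶ Y) (g : (Y ⋙ forget AddCommGrpCat.{u} : SSet.{u}) ⟶ (X ⋙ forget AddCommGrpCat.{u} : SSet.{u})) (hX : Nonempty (SSet.Homotopy (Functor.whiskerRight f (forget AddCommGrpCat.{u}) ≫ g) (𝟙 _)) ∨ Nonempty (SSet.Homotopy (𝟙 _) (Functor.whiskerRight f (forget AddCommGrpCat.{u}) ≫ g))) (hY : Nonempty (SSet.Homotopy (g ≫ Functor.whiskerRight f (forget AddCommGrpCat.{u})) (𝟙 _)) ∨ Nonempty (SSet.Homotopy (𝟙 _) (g ≫ Functor.whiskerRight f (forget AddCommGrpCat.{u})))) : QuasiIso ((AlgebraicTopology.alternatingFaceMapComplex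 AddCommGrpCat.{u}).map f) := by
  have e1 : ∀ n, SSet.homologyMap (fU f) ZZ.{u} n ≫ SSet.homologyMap g ZZ.{u} n = 𝟙 _ := by
    intro n
    rw [← SSet.homologyMap_comp, ← SSet.homologyMap_id]
    rcases hX with ⟨⟨H⟩⟩ | ⟨⟨H⟩⟩
    · exact H.congr_homologyMap _ n
    · exact (H.congr_homologyMap _ n).symm
  have e2 : ∀ n, SSet.homologyMap g ZZ.{u} n ≫ SSet.homologyMap (fU f) ZZ.{u} n = 𝟙 _ := by
    intro n
    rw [← SSet.homologyMap_comp, ← SSet.homologyMap_id]
    rcases hY with ⟨⟨H⟩⟩ | ⟨⟨H⟩⟩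
    · exact H.congr_homologyMap _ n
    · exact (H.congr_homologyMap _ n).symm
  have hiso : ∀ n, IsIso (SSet.homologyMap (fU f) ZZ.{u} n) := fun n =>
    ⟨⟨SSet.homologyMap g ZZ.{u} n, e1 n, e2 n⟩⟩
  refine ⟨fun n => ?_⟩
  rw [quasiIsoAt_iff_isIso_homologyMap]
  have := hiso n
  have h1 := epiK f n inferInstance
  have h2 := monoK f n inferInstance
  exact isIso_of_mono_of_epi _

end Groth.Agent.S6817
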