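import Groth.Statements.S6818
import Mathlib.AlgebraicTopology.DoldKan.Normalized
import Mathlib.AlgebraicTopology.DoldKan.Degeneracies

set_option autoImplicit false
open CategoryTheory CategoryTheory.Limits Opposite
universe v u
open CategoryTheory CategoryTheory.Abelian

namespace Groth.Agent.S6818

section

variable {A : Type u} [Category.{v} A] [Abelian A]

omit [Abelian A] in
lemma factors_of_exists {X Y : A} (T : Subobject Y) (f : X ⟶ Y) (g : X ⟶ (T : A))
    (h : g ≫ T.arrow = f) : T.Factors f :=
  (Subobject.factors_iff _ _).mpr ⟨g, h⟩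

lemma factors_of_comp_cokernel_eq_zero {X Y : A} (T : Subobject Y) (f : X ⟶ Y)
    (h : f ≫ cokernel.π T.arrow = 0) : T.Factors f :=
  factors_of_exists T f (Abelian.monoLift T.arrow f h) (Abelian.monoLift_comp T.arrow f h)

lemma imageSubobject_le_of_factors {X Y : A} (T : Subobject Y) (f : X ⟶ Y) (h : T.Factors f) :
    imageSubobject f ≤ T :=
  imageSubobject_le f (T.factorThru f h) (T.factorThru_arrow f h)

lemma imageSubobject_self_factors {X Y : A} (f : X ⟶ Y) : (imageSubobject f).Factors f :=
  factors_of_exists _ f (factorThruImageSubobject f) (imageSubobject_arrow_comp f)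

lemma imageSubobject_le_kernelSubobject {X Y Z : A} (f : X ⟶ Y) (g : Y ⟶ Z) (h : f ≫ g = 0) :
    imageSubobject f ≤ kernelSubobject g :=
  imageSubobject_le_of_factors _ f (kernelSubobject_factors g f h)

lemma arrow_comp_eq_zero_of_le_kernelSubobject {Y Z : A} (S : Subobject Y) (g : Y ⟶ Z)
    (h : S ≤ kernelSubobject g) : S.arrow ≫ g = 0 := by
  rw [← Subobject.ofLE_arrow h, Category.assoc, kernelSubobject_arrow_comp, comp_zero]

end

/-- For a simplicial object `U` of an abelian category and `n ≥ 0`, the subobjects `U'_m ⊆ U_m`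
generated by the images of all `U_i ⟶ U_m` induced by maps `[m] ⟶ [i]` with `i ≤ n` form a
simplicial subobject equal to `U` in dimensions `≤ n` whose normalized part vanishes in dimensions
`> n`. Here the normalized subobject of `U_m` is the joint kernel of the faces `d_1, …, d_m`; the
published statement uses the faces `d_0, …, d_{m-1}`, the mirror-image convention, and both versions
hold. -/
theorem result {A : Type u} [Category.{v} A] [Abelian A] (U : SimplicialObject A) (n : ℕ) (U' : ∀ m : ℕ, Subobject (U.obj (op (SimplexCategory.mk m)))) (hU' : ∀ m : ℕ, IsLUB (Set.range (fun φ : Σ i : Fin (n + 1), (SimplexCategory.mk m ⟶ SimplexCategory.mk i) => imageSubobject (U.map φ.2.op))) (U' m)) : (∀ (m m' : ℕ) (ψ : SimplexCategory.mk m' ⟶ SimplexCategory.mk m), imageSubobject ((U' m).arrow ≫ U.map ψ.op) ≤ U' m') ∧ (∀ i : ℕ, i ≤ n → U' i = ⊤) ∧ (∀ m : ℕ, n < m → U' m ⊓ AlgebraicTopology.NormalizedMooreComplex.objX U m = ⊥) := by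
  refine ⟨?_, ?_, ?_⟩
  · intro m m' ψ
    have hle : U' m ≤ kernelSubobject (U.map ψ.op ≫ cokernel.π (U' m').arrow) := by
      apply (hU' m).2
      rintro _ ⟨⟨i, φ⟩, rfl⟩
      have hfac : (U' m').Factors (U.map φ.op ≫ U.map ψ.op) := by
        have h1 : imageSubobject (U.map (ψ ≫ φ).op) ≤ U' m' := (hU' m').1 ⟨⟨i, ψ ≫ φ⟩, rfl⟩
        rw [← U.map_comp, ← op_comp]
        exact Subobject.factors_of_le _ h1 (imageSubobject_self_factors _)
      apply imageSubobject_le_kernelSubobject
      rw [← Category.assoc, ← Subobject.factorThru_arrow _ _ hfac, Category.assoc,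
        cokernel.condition, comp_zero]
    apply imageSubobject_le_of_factors
    apply factors_of_comp_cokernel_eq_zero
    rw [Category.assoc]
    exact arrow_comp_eq_zero_of_le_kernelSubobject _ _ hle
  · intro i hi
    rw [eq_top_iff]
    refine le_trans ?_ ((hU' i).1 ⟨⟨⟨i, Nat.lt_succ_of_le hi⟩, 𝟙 _⟩, rfl⟩)
    dsimp only
    rw [op_id, U.map_id, imageSubobject_mono, Subobject.mk_eq_top_of_isIso]
  · intro m hm
    obtain ⟨m', rfl⟩ : ∃ m', m = m' + 1 := ⟨m - 1, by omega⟩
    let P : U.obj (op (SimplexCategory.mk (m' + 1))) ⟶ U.obj (op (SimplexCategory.mk (m' + 1))) :=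
      (AlgebraicTopology.DoldKan.PInfty (X := U)).f (m' + 1)
    have hle : U' (m' + 1) ≤ kernelSubobject P := by
      apply (hU' (m' + 1)).2
      rintro _ ⟨⟨i, φ⟩, rfl⟩
      apply imageSubobject_le_kernelSubobject
      obtain ⟨k, θ', h⟩ := SimplexCategory.eq_σ_comp_of_not_injective φ (by
        intro hinj
        have : Mono φ := SimplexCategory.mono_iff_injective.mpr hinj
        have h1 := SimplexCategory.len_le_of_mono φ
        have h2 := i.2
        simp at h1
        omega)
      rw [h, op_comp, U.map_comp, Category.assoc]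
      have h0 : U.map (SimplexCategory.σ k).op ≫ P = 0 :=
        AlgebraicTopology.DoldKan.σ_comp_PInfty U k
      rw [h0, comp_zero]
    set S := U' (m' + 1) ⊓ AlgebraicTopology.NormalizedMooreComplex.objX U (m' + 1) with hS
    have h1 : S.arrow ≫ P = 0 :=
      arrow_comp_eq_zero_of_le_kernelSubobject S P (le_trans inf_le_left hle)
    have h2 : S.arrow ≫ P = S.arrow := by
      have hN : (AlgebraicTopology.NormalizedMooreComplex.objX U (m' + 1)).arrow ≫ P =
          (AlgebraicTopology.NormalizedMooreComplex.objX U (m' + 1)).arrow := by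
        have e1 := AlgebraicTopology.DoldKan.inclusionOfMooreComplexMap_comp_PInfty U
        have e2 := HomologicalComplex.congr_hom e1 (m' + 1)
        rw [HomologicalComplex.comp_f, AlgebraicTopology.inclusionOfMooreComplexMap_f] at e2
        exact e2
      rw [← Subobject.ofLE_arrow (inf_le_right : S ≤ _), Category.assoc, hN]
    rw [h1] at h2
    rw [← Subobject.mk_arrow S]
    exact Subobject.mk_eq_bot_iff_zero.mpr h2.symm

end Groth.Agent.S6818
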