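import Groth.Statements.S6819
import Groth.Agent.Lib.H79TruncFin
import Groth.Agent.Lib.H79MooreMono
import Groth.Agent.S6806
import Groth.Agent.S6818

set_option autoImplicit false
open CategoryTheory CategoryTheory.Limits Opposite
universe v u
open CategoryTheory CategoryTheory.Abelian

namespace Groth.Agent.S6819

open Groth.Agent.Lib.H79MooreMono Groth.Agent.S6818

section

variable {A : Type u} [Category.{v} A] [Abelian A]

lemma arrow_eq_zero_of_eq_bot {B : A} (S : Subobject B) (h : S = ⊥) : S.arrow = 0 := by
  subst h
  exact Subobject.bot_arrow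

lemma mono_of_source_eq_bot {B C : A} (S : Subobject B) (h : S = ⊥) (f : (S : A) ⟶ C) : Mono f := by
  have h0 : 𝟙 (S : A) = 0 := by
    rw [← cancel_mono S.arrow, zero_comp, Category.id_comp, arrow_eq_zero_of_eq_bot S h]
  constructor
  intro Z g g' _
  rw [← Category.comp_id g, ← Category.comp_id g', h0, comp_zero, comp_zero]

lemma comp_cokernel_eq_zero_of_image_le {W Y : A} (T : Subobject Y) (f : W ⟶ Y)
    (h : imageSubobject f ≤ T) : f ≫ cokernel.π T.arrow = 0 := by
  have h2 := Subobject.factors_of_le _ h (imageSubobject_self_factors f)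
  rw [← Subobject.factorThru_arrow _ _ h2, Category.assoc, cokernel.condition, comp_zero]

end

/-- For a simplicial object `U` of an abelian category, the counit `i_{n!} sk_n U ⟶ U` of the skeleton
adjunction is a monomorphism in each degree, with image the subobject generated by the images of the
maps `U_i ⟶ U_m` induced by `[m] ⟶ [i]`, `i ≤ n`. -/
theorem result {A : Type u} [Category.{v} A] [Abelian A] (U : SimplicialObject A) (n : ℕ) (U' : ∀ m : ℕ, Subobject (U.obj (op (SimplexCategory.mk m)))) (hU' : ∀ m : ℕ, IsLUB (Set.range (fun φ : Σ i : Fin (n + 1), (SimplexCategory.mk m ⟶ SimplexCategory.mk i) => imageSubobject (U.map φ.2.op))) (U' m)) [∀ F : (SimplexCategory.Truncated n)ᵒᵖ ⥤ A, (SimplexCategory.Truncated.inclusion n).op.HasLeftKanExtension F] (m : ℕ) : Mono (((SimplicialObject.skAdj n).counit.app U).app (op (SimplexCategory.mk m))) ∧ imageSubobject (((SimplicialObject.skAdj n).counit.app U).app (op (SimplexCategory.mk m))) = U' m := by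
  have hpw : ∀ F : (SimplexCategory.Truncated n)ᵒᵖ ⥤ A,
      (SimplexCategory.Truncated.inclusion n).op.HasPointwiseLeftKanExtension F :=
    fun F => Groth.Agent.Lib.H79TruncFin.hasPointwiseLeftKanExtension_inclusion n F
  have hpw' : ∀ F : (SimplexCategory.Truncated n)ᵒᵖ ⥤ A,
      (SimplexCategory.Truncated.inclusion n).op.HasPointwiseRightKanExtension F :=
    fun F => Groth.Agent.Lib.H79TruncFin.hasPointwiseRightKanExtension_inclusion n F
  let X : SimplicialObject A := (SimplicialObject.sk n).obj U
  let ε : X ⟶ U := (SimplicialObject.skAdj n).counit.app U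
  let η : (SimplicialObject.truncation n).obj U ⟶ (SimplicialObject.truncation n).obj X :=
    (SimplicialObject.skAdj n).unit.app ((SimplicialObject.truncation n).obj U)
  have hηε : η ≫ (SimplicialObject.truncation n).map ε = 𝟙 _ :=
    (SimplicialObject.skAdj n).right_triangle_components U
  have hηε_app : ∀ j : (SimplexCategory.Truncated n)ᵒᵖ,
      η.app j ≫ ε.app ((SimplexCategory.Truncated.inclusion n).op.obj j) = 𝟙 _ := by
    intro j
    exact congrArg (fun φ => φ.app j) hηε
  have hP := Functor.isPointwiseLeftKanExtensionOfIsLeftKanExtension X η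
  have hleg : ∀ (k : ℕ) (j : CostructuredArrow (SimplexCategory.Truncated.inclusion n).op
      (op (SimplexCategory.mk k))),
      (η.app j.left ≫ X.map j.hom) ≫ ε.app (op (SimplexCategory.mk k)) = U.map j.hom := by
    intro k j
    have h1 : X.map j.hom ≫ ε.app (op (SimplexCategory.mk k)) =
        ε.app ((SimplexCategory.Truncated.inclusion n).op.obj j.left) ≫ U.map j.hom :=
      ε.naturality j.hom
    calc (η.app j.left ≫ X.map j.hom) ≫ ε.app (op (SimplexCategory.mk k))
        = η.app j.left ≫ (X.map j.hom ≫ ε.app (op (SimplexCategory.mk k))) :=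
          Category.assoc _ _ _
      _ = η.app j.left ≫ (ε.app ((SimplexCategory.Truncated.inclusion n).op.obj j.left) ≫
            U.map j.hom) := congrArg (fun t => η.app j.left ≫ t) h1
      _ = (η.app j.left ≫ ε.app ((SimplexCategory.Truncated.inclusion n).op.obj j.left)) ≫
            U.map j.hom := (Category.assoc _ _ _).symm
      _ = 𝟙 _ ≫ U.map j.hom := congrArg (fun t => t ≫ U.map j.hom) (hηε_app j.left)
      _ = U.map j.hom := Category.id_comp _
  refine ⟨?_, ?_⟩
  · apply mono_app_of_mono_Nf ε
    intro k
    by_cases hk : k ≤ n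
    · have hiso : IsIso (ε.app (op (SimplexCategory.mk k))) := by
        have h1 : IsIso (SimplicialObject.skAdj (C := A) n).unit :=
          SimplicialObject.Truncated.sk_coreflective n
        have h2 : IsIso η := inferInstance
        have h3 : IsIso (η.app (op ⟨SimplexCategory.mk k, hk⟩)) := inferInstance
        have h4 := hηε_app (op ⟨SimplexCategory.mk k, hk⟩)
        have h5 : IsIso (η.app (op ⟨SimplexCategory.mk k, hk⟩) ≫
            ε.app ((SimplexCategory.Truncated.inclusion n).op.obj (op ⟨SimplexCategory.mk k, hk⟩))) := by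
          rw [h4]; exact IsIso.id _
        exact @IsIso.of_isIso_comp_left _ _ _ _ _ (η.app (op ⟨SimplexCategory.mk k, hk⟩)) _ h3 h5
      have hm : Mono (Nf ε k ≫ (AlgebraicTopology.NormalizedMooreComplex.objX U k).arrow) := by
        rw [Nf_arrow]
        infer_instance
      exact mono_of_mono (Nf ε k) (AlgebraicTopology.NormalizedMooreComplex.objX U k).arrow
    · exact mono_of_source_eq_bot _
        (Groth.Agent.S6806.result n ((SimplicialObject.truncation n).obj U) k (by omega)) _
  · apply le_antisymm
    · apply imageSubobject_le_of_factors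
      apply factors_of_comp_cokernel_eq_zero
      apply (hP (op (SimplexCategory.mk m))).hom_ext
      intro j
      change (η.app j.left ≫ X.map j.hom) ≫ (ε.app (op (SimplexCategory.mk m)) ≫
        cokernel.π (U' m).arrow) = (η.app j.left ≫ X.map j.hom) ≫ 0
      rw [comp_zero, ← Category.assoc, hleg m j]
      have h1 : imageSubobject (U.map j.hom) ≤ U' m :=
        (hU' m).1 ⟨⟨⟨j.left.unop.obj.len, Nat.lt_succ_of_le j.left.unop.property⟩, j.hom.unop⟩, rfl⟩
      exact comp_cokernel_eq_zero_of_image_le _ _ h1
    · apply (hU' m).2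
      rintro _ ⟨⟨i, φ⟩, rfl⟩
      apply imageSubobject_le_of_factors
      let j0 : (SimplexCategory.Truncated n)ᵒᵖ :=
        op ⟨SimplexCategory.mk i, Nat.le_of_lt_succ i.2⟩
      let f0 : (SimplexCategory.Truncated.inclusion n).op.obj j0 ⟶ op (SimplexCategory.mk m) := φ.op
      let j : CostructuredArrow (SimplexCategory.Truncated.inclusion n).op
          (op (SimplexCategory.mk m)) := CostructuredArrow.mk f0
      have := hleg m j
      have h3 : U.map φ.op = (η.app j.left ≫ X.map j.hom) ≫ ε.app (op (SimplexCategory.mk m)) :=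
        this.symm
      dsimp only
      rw [h3]
      exact imageSubobject_factors_comp_self _ _

end Groth.Agent.S6819
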