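import Groth.Statements.S6820
-- import your own Groth.Agent.* helpers here

set_option autoImplicit false
universe u
open Smoothing

namespace Groth.Agent.S6820

/-- Let A be a Noetherian ring, M a finite A-module, S a multiplicative subset of A and π an element of
A such that on the localised module S⁻¹M the kernels of multiplication by π and by π² agree. Then
there is an element s of S such that for every n > 0 the kernels of multiplication by sⁿπ and by
(sⁿπ)² on M agree. (Kernel equalities are written as implications, the reverse inclusions being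
automatic.) -/
theorem result {A : Type u} [CommRing A] [IsNoetherianRing A]
    (M : Type u) [AddCommGroup M] [Module A M] [Module.Finite A M] (S : Submonoid A) (π : A)
    (h : ∀ m : LocalizedModule S M, π ^ 2 • m = 0 → π • m = 0) :
    ∃ s ∈ S, ∀ n : ℕ, 0 < n → ∀ m : M, (s ^ n * π) ^ 2 • m = 0 → (s ^ n * π) • m = 0 := by
  classical
  -- Step 1: every element killed by `π ^ 2` has `π • m` killed by an element of `S`.
  have h1 : ∀ m : M, π ^ 2 • m = 0 → ∃ s ∈ S, (s * π) • m = 0 := by
    intro m hm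
    have h2 : π ^ 2 • (LocalizedModule.mkLinearMap S M m) = 0 := by
      rw [← map_smul, hm, map_zero]
    have h3 := h _ h2
    rw [← map_smul, IsLocalizedModule.eq_zero_iff S] at h3
    obtain ⟨s, hs⟩ := h3
    exact ⟨s.1, s.2, by rw [mul_smul]; exact hs⟩
  -- Step 2: a single element of `S` works for all of them.
  let K₂ : Submodule A M := LinearMap.ker (LinearMap.lsmul A M (π ^ 2))
  have hK₂ : ∀ m : M, m ∈ K₂ ↔ π ^ 2 • m = 0 := fun m => by simp [K₂]
  have hfg : K₂.FG := IsNoetherian.noetherian K₂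
  obtain ⟨T, hT⟩ := hfg
  have hTmem : ∀ t : M, t ∈ T → π ^ 2 • t = 0 := fun t ht =>
    (hK₂ t).mp (hT ▸ Submodule.subset_span ht)
  choose! σ hσS hσ using h1
  let s₀ : A := ∏ t ∈ T, σ t
  have hs₀S : s₀ ∈ S := Submonoid.prod_mem S fun t ht => hσS t (hTmem t ht)
  have hs₀ : ∀ m : M, π ^ 2 • m = 0 → (s₀ * π) • m = 0 := by
    intro m hm
    have hmK : m ∈ Submodule.span A (T : Set M) := hT ▸ (hK₂ m).mpr hm
    have hle : Submodule.span A (T : Set M) ≤ LinearMap.ker (LinearMap.lsmul A M (s₀ * π)) := by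
      rw [Submodule.span_le]
      intro t ht
      have hdvd : σ t ∣ s₀ := Finset.dvd_prod_of_mem σ ht
      obtain ⟨c, hc⟩ := hdvd
      simp only [SetLike.mem_coe, LinearMap.mem_ker, LinearMap.lsmul_apply]
      rw [hc, show σ t * c * π = c * (σ t * π) by ring, mul_smul, hσ t (hTmem t ht), smul_zero]
    simpa using hle hmK
  -- Step 3: stabilisation of the `s₀`-power torsion.
  let f : ℕ →o Submodule A M :=
    { toFun := fun k => LinearMap.ker (LinearMap.lsmul A M (s₀ ^ k))
      monotone' := by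
        intro a b hab m hm
        simp only [LinearMap.mem_ker, LinearMap.lsmul_apply] at hm ⊢
        obtain ⟨c, rfl⟩ := Nat.exists_eq_add_of_le hab
        rw [pow_add, mul_comm, mul_smul, hm, smul_zero] }
  obtain ⟨n₀, hn₀⟩ := monotone_stabilizes_iff_noetherian.mpr
    (inferInstance : IsNoetherian A M) f
  have hf : ∀ (k : ℕ) (m : M), m ∈ f k ↔ s₀ ^ k • m = 0 := fun k m => by simp [f]
  let N := n₀ + 1
  refine ⟨s₀ ^ N, Submonoid.pow_mem S hs₀S N, ?_⟩
  -- property (T)
  have hT' : ∀ j : ℕ, 0 < j → ∀ m : M, (s₀ ^ N) ^ j • m = 0 → s₀ ^ N • m = 0 := by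
    intro j hj m hm
    rw [← pow_mul] at hm
    have h1 : m ∈ f (N * j) := (hf _ _).mpr hm
    have h2 : f n₀ = f (N * j) := hn₀ _ (by
      calc n₀ ≤ N := Nat.le_succ _
        _ ≤ N * j := Nat.le_mul_of_pos_right _ hj)
    have h3 : f n₀ = f N := hn₀ _ (Nat.le_succ _)
    rw [← h2, h3] at h1
    exact (hf _ _).mp h1
  intro n hn m hm
  set s := s₀ ^ N with hs
  -- `s • π² • m = 0`
  have e1 : s ^ (2 * n) • (π ^ 2 • m) = 0 := by
    rw [← mul_smul, show s ^ (2 * n) * π ^ 2 = (s ^ n * π) ^ 2 by ring]; exact hm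
  have e2 : s • (π ^ 2 • m) = 0 := hT' (2 * n) (by omega) _ e1
  have e3 : π ^ 2 • (s • m) = 0 := by rw [smul_comm]; exact e2
  have e4 : (s₀ * π) • (s • m) = 0 := hs₀ _ e3
  have e5 : s ^ 2 • (π • m) = 0 := by
    have : s ^ 2 • (π • m) = s₀ ^ n₀ • ((s₀ * π) • (s • m)) := by
      simp only [← mul_smul]
      congr 1
      rw [hs]; ring
    rw [this, e4, smul_zero]
  have e6 : s • (π • m) = 0 := hT' 2 (by omega) _ e5
  obtain ⟨k, rfl⟩ : ∃ k, n = k + 1 := ⟨n - 1, by omega⟩
  rw [show s ^ (k + 1) * π = s ^ k * (s * π) by ring, mul_smul, mul_smul, e6, smul_zero]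

end Groth.Agent.S6820
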