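import Groth.Statements.S6829
import Mathlib
import Groth.Agent.Lib.H47KerBaseChange

set_option autoImplicit false
universe u
open Smoothing

namespace Groth.Agent.S6829
open TensorProduct
section Helpers
open MvPolynomial

attribute [local instance] Algebra.TensorProduct.rightAlgebra

variable {R A R' : Type u} [CommRing R] [CommRing A] [Algebra R A] [CommRing R'] [Algebra R R']

/-- the base-changed hom -/
noncomputable def hom' (P : MarkedPresentation R A) :
    MvPolynomial (Fin P.n) R' →ₐ[R'] R' ⊗[R] A :=
  MvPolynomial.aeval (fun i => (1 : R') ⊗ₜ[R] P.hom (X i))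

theorem hom'_map (P : MarkedPresentation R A) (p : MvPolynomial (Fin P.n) R) :
    hom' (R' := R') P (MvPolynomial.map (algebraMap R R') p) = (1 : R') ⊗ₜ[R] P.hom p := by
  induction p using MvPolynomial.induction_on with
  | C a =>
    rw [MvPolynomial.map_C, hom', MvPolynomial.aeval_C, MvPolynomial.algHom_C,
      Algebra.TensorProduct.algebraMap_apply, Algebra.algebraMap_eq_smul_one (A := A) a,
      TensorProduct.tmul_smul, Algebra.algebraMap_eq_smul_one, TensorProduct.smul_tmul',
      algebraMap_smul]
  | add p q hp hq => rw [map_add, map_add, map_add, hp, hq, TensorProduct.tmul_add]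
  | mul_X p i hp =>
    rw [map_mul, map_mul, map_mul, hp, MvPolynomial.map_X, hom', MvPolynomial.aeval_X,
      Algebra.TensorProduct.tmul_mul_tmul, one_mul]

theorem hom'_surj (P : MarkedPresentation R A) : Function.Surjective (hom' (R' := R') P) := by
  intro x
  induction x using TensorProduct.induction_on with
  | zero => exact ⟨0, map_zero _⟩
  | tmul r a =>
    obtain ⟨p, rfl⟩ := P.surj a
    refine ⟨r • MvPolynomial.map (algebraMap R R') p, ?_⟩
    rw [map_smul, hom'_map, TensorProduct.smul_tmul', smul_eq_mul, mul_one]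
  | add x y hx hy =>
    obtain ⟨p, rfl⟩ := hx
    obtain ⟨q, rfl⟩ := hy
    exact ⟨p + q, map_add _ _ _⟩

theorem aeval_eq_hom (P : MarkedPresentation R A) :
    (MvPolynomial.aeval (fun i => P.hom (X i)) : MvPolynomial (Fin P.n) R →ₐ[R] A) = P.hom := by
  apply MvPolynomial.algHom_ext
  intro i
  rw [MvPolynomial.aeval_X]

/-- generators attached to a marked presentation -/
noncomputable def gen (P : MarkedPresentation R A) : Algebra.Generators R A (Fin P.n) :=
  Algebra.Generators.ofSurjective (fun i => P.hom (X i)) (by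
    rw [aeval_eq_hom]; exact P.surj)

/-- base-changed generators -/
noncomputable def gen' (P : MarkedPresentation R A) :
    Algebra.Generators R' (R' ⊗[R] A) (Fin P.n) :=
  Algebra.Generators.ofSurjective (fun i => (1 : R') ⊗ₜ[R] P.hom (X i)) (hom'_surj P)

theorem gen'_val (P : MarkedPresentation R A) (i : Fin P.n) :
    (gen' (R' := R') P).val i = algebraMap A (R' ⊗[R] A) ((gen P).val i) := rfl

theorem ker_hom'_le (P : MarkedPresentation R A) :
    RingHom.ker (hom' (R' := R') P).toRingHom ≤
      Ideal.span (Set.range fun j => MvPolynomial.map (algebraMap R R') (P.rel j)) := by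
  have hK := Groth.Agent.Lib.H47KerBaseChange.ker_le_map (R := R) (S := A) (R' := R')
    (S' := R' ⊗[R] A) (gen P) (gen' (R' := R') P) (gen'_val (R' := R') P)
  intro y hy
  have h2 := hK hy
  have h3 : RingHom.ker (MvPolynomial.aeval (gen P).val : MvPolynomial (Fin P.n) R →ₐ[R] A) =
      Ideal.span (Set.range P.rel) := by
    rw [← P.ker_eq]
    change RingHom.ker (MvPolynomial.aeval (fun i => P.hom (X i)) :
      MvPolynomial (Fin P.n) R →ₐ[R] A) = _
    rw [aeval_eq_hom]
    rfl
  rw [h3, Ideal.map_span, ← Set.range_comp] at h2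
  exact h2

/-- the base-changed marked presentation -/
noncomputable def bc (P : MarkedPresentation R A) : MarkedPresentation R' (R' ⊗[R] A) where
  n := P.n
  m := P.m
  c := P.c
  hcn := P.hcn
  hcm := P.hcm
  rel j := MvPolynomial.map (algebraMap R R') (P.rel j)
  hom := hom' P
  surj := hom'_surj P
  ker_eq := by
    apply le_antisymm (ker_hom'_le P)
    rw [Ideal.span_le]
    rintro _ ⟨j, rfl⟩
    change hom' (R' := R') P (MvPolynomial.map (algebraMap R R') (P.rel j)) = 0
    rw [hom'_map]
    have : P.hom (P.rel j) = 0 := by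
      have h1 : P.rel j ∈ RingHom.ker P.hom.toRingHom := by
        rw [P.ker_eq]; exact Ideal.subset_span ⟨j, rfl⟩
      exact h1
    rw [this, TensorProduct.tmul_zero]

theorem jacobianMinor_map {n m c : ℕ} (f : Fin m → MvPolynomial (Fin n) R) (rows : Fin c → Fin m)
    (cols : Fin c → Fin n) :
    jacobianMinor (fun j => MvPolynomial.map (algebraMap R R') (f j)) rows cols =
      MvPolynomial.map (algebraMap R R') (jacobianMinor f rows cols) := by
  unfold jacobianMinor
  rw [RingHom.map_det]
  congr 1
  refine Matrix.ext fun j k => ?_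
  simp only [Matrix.of_apply, RingHom.mapMatrix_apply, Matrix.map_apply]
  exact MvPolynomial.pderiv_map (φ := algebraMap R R')

theorem killsTail_aux (P : MarkedPresentation R A) (a : A) (h : KillsTail P a)
    (a'' : MvPolynomial (Fin P.n) R') (ha'' : hom' (R' := R') P a'' = (1 : R') ⊗ₜ[R] a)
    (j : Fin P.m) (hj : P.c ≤ (j : ℕ)) :
    a'' * MvPolynomial.map (algebraMap R R') (P.rel j) ∈
      Ideal.span ((fun j => MvPolynomial.map (algebraMap R R') (P.rel j)) ''
        {j' : Fin P.m | (j' : ℕ) < P.c}) ⊔
      Ideal.span (Set.range fun j => MvPolynomial.map (algebraMap R R') (P.rel j)) ^ 2 := by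
  obtain ⟨a', ha'⟩ := P.surj a
  set φ := MvPolynomial.map (σ := Fin P.n) (algebraMap R R') with hφ
  set I' : Ideal (MvPolynomial (Fin P.n) R') :=
    Ideal.span (Set.range fun j => φ (P.rel j)) with hI'
  have hker : RingHom.ker (hom' (R' := R') P).toRingHom = I' := (bc (R' := R') P).ker_eq
  have h1 : a'' - φ a' ∈ I' := by
    rw [← hker, RingHom.mem_ker]
    change hom' (R' := R') P (a'' - φ a') = 0
    rw [map_sub, ha'', hom'_map, ha', sub_self]
  have h2 : φ (P.rel j) ∈ I' := Ideal.subset_span ⟨j, rfl⟩
  have h3 : (a'' - φ a') * φ (P.rel j) ∈ I' ^ 2 := by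
    rw [pow_two]; exact Ideal.mul_mem_mul h1 h2
  have h4 := h a' ha' j hj
  have h5 : φ (a' * P.rel j) ∈
      Ideal.span ((fun j => φ (P.rel j)) '' {j' : Fin P.m | (j' : ℕ) < P.c}) ⊔ I' ^ 2 := by
    have := Ideal.mem_map_of_mem φ h4
    rw [Ideal.map_sup, Ideal.map_pow, Ideal.map_span, Ideal.map_span, ← Set.range_comp,
      ← Set.image_comp] at this
    exact this
  have h6 : a'' * φ (P.rel j) = (a'' - φ a') * φ (P.rel j) + φ (a' * P.rel j) := by
    rw [map_mul]
    ring
  rw [h6]
  exact add_mem (Ideal.mem_sup_right h3) h5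

theorem killsTail_bc (P : MarkedPresentation R A) (a : A) (h : KillsTail P a) :
    KillsTail (bc (R' := R') P) ((1 : R') ⊗ₜ[R] a) :=
  fun a'' ha'' j hj => killsTail_aux P a h a'' ha'' j hj

end Helpers


open TensorProduct in
/-- Let A be a finitely presented R-algebra, R → R' a ring map and a ∈ A. If a is elementary standard,
resp. strictly standard, in A over R, then a ⊗ 1 is elementary standard, resp. strictly standard, in
A ⊗_R R' over R' (written here as 1 ⊗ a in R' ⊗_R A). -/
theorem result {R A R' : Type u} [CommRing R] [CommRing A] [Algebra R A]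
    [Algebra.FinitePresentation R A] [CommRing R'] [Algebra R R'] (a : A) :
    (Smoothing.IsElementaryStandard R A a →
        Smoothing.IsElementaryStandard R' (R' ⊗[R] A) ((1 : R') ⊗ₜ[R] a)) ∧
      (Smoothing.IsStrictlyStandard R A a →
        Smoothing.IsStrictlyStandard R' (R' ⊗[R] A) ((1 : R') ⊗ₜ[R] a)) := by
  constructor
  · rintro ⟨P, ⟨a₀, ha₀⟩, hk⟩
    refine ⟨bc P, ⟨(1 : R') ⊗ₜ[R] a₀, ?_⟩, killsTail_bc P a hk⟩
    have hj : jacobianMinor (bc (R' := R') P).rel (Fin.castLE (bc (R' := R') P).hcm)
        (Fin.castLE (bc (R' := R') P).hcn) =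
        MvPolynomial.map (algebraMap R R')
          (jacobianMinor P.rel (Fin.castLE P.hcm) (Fin.castLE P.hcn)) :=
      jacobianMinor_map P.rel _ _
    rw [hj]
    change _ = _ * hom' (R' := R') P _
    rw [hom'_map, Algebra.TensorProduct.tmul_mul_tmul, one_mul, ← ha₀]
  · rintro ⟨P, hmem, hk⟩
    refine ⟨bc P, ?_, killsTail_bc P a hk⟩
    have h1 := Ideal.mem_map_of_mem
      (Algebra.TensorProduct.includeRight (R := R) (A := R') (B := A)).toRingHom hmem
    rw [Ideal.map_span, ← Set.range_comp] at h1
    have hfun : (fun cols : Fin (bc (R' := R') P).c → Fin (bc (R' := R') P).n =>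
        (bc (R' := R') P).hom (jacobianMinor (bc (R' := R') P).rel
          (Fin.castLE (bc (R' := R') P).hcm) cols)) =
        (⇑(Algebra.TensorProduct.includeRight (R := R) (A := R') (B := A)).toRingHom ∘
          fun cols : Fin P.c → Fin P.n =>
            P.hom (jacobianMinor P.rel (Fin.castLE P.hcm) cols)) := by
      funext cols
      have hj : jacobianMinor (bc (R' := R') P).rel (Fin.castLE (bc (R' := R') P).hcm) cols =
          MvPolynomial.map (algebraMap R R')
            (jacobianMinor P.rel (Fin.castLE P.hcm) cols) :=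
        jacobianMinor_map P.rel _ _
      rw [hj]
      change hom' (R' := R') P _ = _
      rw [hom'_map]
      rfl
    rw [hfun]
    exact h1

end Groth.Agent.S6829
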