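import Groth.Statements.S6841
import Mathlib
import Groth.Agent.S4580
import Groth.Agent.Lib.H93SmoothCrit

set_option autoImplicit false
universe u
open Smoothing

namespace Groth.Agent.S6841

section Helpers

set_option autoImplicit false

namespace N1
open MvPolynomial KaehlerDifferential TensorProduct
open Groth.Agent.Lib.H93SmoothCrit

section Main

variable {R A K : Type u} [CommRing R] [CommRing A] [Algebra R A] [Field K] [Algebra A K]
  [Algebra R K] [IsScalarTower R A K] {N : ℕ}
  (φ : MvPolynomial (Fin N) R →ₐ[R] A)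

variable (K) in
/-- `ρ : R[x] → K`. -/
noncomputable def ρ : MvPolynomial (Fin N) R →ₐ[R] K :=
  (IsScalarTower.toAlgHom R A K).comp φ

lemma ρ_apply (x : MvPolynomial (Fin N) R) : ρ K φ x = algebraMap A K (φ x) := rfl

variable (K) in
/-- The `R[x]`-algebra structure on `K`. -/
@[reducible] noncomputable def algK : Algebra (MvPolynomial (Fin N) R) K :=
  (ρ K φ).toRingHom.toAlgebra

lemma tower : letI := algK K φ
    IsScalarTower R (MvPolynomial (Fin N) R) K := by
  letI := algK K φ
  exact IsScalarTower.of_algebraMap_eq (fun r => ((ρ K φ).commutes r).symm)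

variable (K) in
/-- The gradient in `K^N`, as an `R`-linear map. -/
noncomputable def gradLin : MvPolynomial (Fin N) R →ₗ[R] (Fin N → K) :=
  LinearMap.pi (fun j => (ρ K φ).toLinearMap ∘ₗ (pderiv j).toLinearMap)

lemma gradLin_apply (f : MvPolynomial (Fin N) R) (j : Fin N) :
    gradLin K φ f j = ρ K φ (pderiv j f) := rfl

variable (K) in
/-- The gradient, as a derivation. -/
noncomputable def gradDer : letI := algK K φ
    haveI := tower (K := K) φ
    Derivation R (MvPolynomial (Fin N) R) (Fin N → K) :=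
  letI := algK K φ
  haveI := tower (K := K) φ
  Derivation.mk' (gradLin K φ) (by
    intro a b
    ext j
    simp only [gradLin_apply, Pi.add_apply, Pi.smul_apply, Derivation.leibniz, map_add,
      Algebra.smul_def, smul_eq_mul, map_mul]
    rfl)

variable (hφ : Function.Surjective φ)

include hφ in
/-- A functional on `K^N` killing the gradients of the relations gives a functional on
`Ω[A/R]`. -/
lemma exists_functional (Φ : Module.Dual K (Fin N → K))
    (hΦ : ∀ x, φ x = 0 → Φ (gradLin K φ x) = 0) :
    ∃ ℓ : Ω[A⁄R] →ₗ[A] K,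
      ∀ x : MvPolynomial (Fin N) R,
        ℓ (KaehlerDifferential.D R A (φ x)) = Φ (gradLin K φ x) := by
  letI := algK K φ
  haveI := tower (K := K) φ
  let d₁ : Derivation R (MvPolynomial (Fin N) R) K :=
    (Φ.restrictScalars (MvPolynomial (Fin N) R)).compDer (gradDer K φ)
  have hd₁ : ∀ x, d₁ x = Φ (gradLin K φ x) := fun x => rfl
  have hsm : ∀ (x : MvPolynomial (Fin N) R) (m : K), x • m = φ x • m := by
    intro x m
    rw [Algebra.smul_def, Algebra.smul_def]
    rfl
  let dA : Derivation R A K :=
    F1.descend φ hφ hsm d₁ (fun x hx => by rw [hd₁]; exact hΦ x hx)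
  refine ⟨dA.liftKaehlerDifferential, fun x => ?_⟩
  rw [Derivation.liftKaehlerDifferential_comp_D, F1.descend_apply, hd₁]

variable (K) in
/-- The span of the gradients of the relations. -/
noncomputable def W : Submodule K (Fin N → K) :=
  Submodule.span K ((gradLin K φ) '' {x | φ x = 0})

include hφ in
lemma key (n : ℕ) [Module.Finite K (Ω[A⁄R] →ₗ[A] K)]
    (hn : Module.finrank K (Ω[A⁄R] →ₗ[A] K) ≤ n) :
    N ≤ Module.finrank K (W K φ) + n := by
  classical
  have h1 := Subspace.finrank_add_finrank_dualAnnihilator_eq (W K φ)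
  rw [Module.finrank_fin_fun] at h1
  suffices h : Module.finrank K (W K φ).dualAnnihilator ≤ n by omega
  let dx : Fin N → Ω[A⁄R] := fun j => KaehlerDifferential.D R A (φ (X j))
  let Res : (Ω[A⁄R] →ₗ[A] K) →ₗ[K] Module.Dual K (Fin N → K) :=
    { toFun := fun ℓ => ∑ j, ℓ (dx j) • (LinearMap.proj j : (Fin N → K) →ₗ[K] K)
      map_add' := fun ℓ₁ ℓ₂ => by
        show ∑ j, (ℓ₁ + ℓ₂) (dx j) • _ = ∑ j, ℓ₁ (dx j) • _ + ∑ j, ℓ₂ (dx j) • _
        simp only [LinearMap.add_apply, add_smul, Finset.sum_add_distrib]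
      map_smul' := fun c ℓ => by
        show ∑ j, (c • ℓ) (dx j) • _ = c • ∑ j, ℓ (dx j) • _
        simp only [LinearMap.smul_apply, Finset.smul_sum, smul_smul, smul_eq_mul] }
  have hRes : (W K φ).dualAnnihilator ≤ LinearMap.range Res := by
    intro Φ hΦ
    rw [Submodule.mem_dualAnnihilator] at hΦ
    obtain ⟨ℓ, hℓ⟩ := exists_functional φ hφ Φ
      (fun x hx => hΦ _ (Submodule.subset_span ⟨x, hx, rfl⟩))
    refine ⟨ℓ, ?_⟩
    refine LinearMap.pi_ext (fun i x => ?_)
    change (∑ j, ℓ (dx j) • (LinearMap.proj j : (Fin N → K) →ₗ[K] K))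
      (Pi.single i x) = _
    rw [LinearMap.sum_apply, Finset.sum_eq_single i]
    · simp only [LinearMap.smul_apply, LinearMap.proj_apply, Pi.single_eq_same, smul_eq_mul]
      rw [hℓ]
      have h2 : gradLin K φ (X i) = Pi.single i 1 := by
        ext j
        rw [gradLin_apply, pderiv_X]
        by_cases hij : j = i
        · subst hij; simp
        · rw [Pi.single_eq_of_ne (Ne.symm hij), Pi.single_eq_of_ne hij, map_zero]
      rw [h2]
      have h3 : (Pi.single i x : Fin N → K) = x • Pi.single i 1 := by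
        ext j
        by_cases hij : j = i
        · subst hij; simp
        · simp [Pi.single_eq_of_ne hij]
      rw [h3, map_smul, smul_eq_mul, mul_comm]
    · intro j _ hji
      simp [Pi.single_eq_of_ne hji]
    · intro h; exact absurd (Finset.mem_univ i) h
  calc Module.finrank K (W K φ).dualAnnihilator
      ≤ Module.finrank K (LinearMap.range Res) := Submodule.finrank_mono hRes
    _ ≤ Module.finrank K (Ω[A⁄R] →ₗ[A] K) := LinearMap.finrank_range_le Res
    _ ≤ n := hn

include hφ in
theorem exists_minor (n : ℕ) [Module.Finite K (Ω[A⁄R] →ₗ[A] K)]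
    (hn : Module.finrank K (Ω[A⁄R] →ₗ[A] K) ≤ n) :
    ∃ (f : Fin (N - n) → MvPolynomial (Fin N) R) (cols : Fin (N - n) ↪ Fin N),
      (∀ i, φ (f i) = 0) ∧
      algebraMap A K (φ (Matrix.det (Matrix.of fun i j : Fin (N - n) => pderiv (cols j) (f i))))
        ≠ 0 := by
  classical
  have hkey := key φ hφ n hn
  obtain ⟨v, hv, -, hli⟩ := Submodule.exists_fun_fin_finrank_span_eq K
    ((gradLin K φ) '' {x | φ x = 0})
  have hc : N - n ≤ Module.finrank K
      (Submodule.span K ((gradLin K φ) '' {x | φ x = 0})) := by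
    exact Nat.sub_le_iff_le_add.mpr hkey
  choose f hf using hv
  let e : Fin (N - n) ↪ Fin _ := Fin.castLEEmb hc
  have hli' : LinearIndependent K (fun i => gradLin K φ (f (e i))) := by
    have h1 := hli.comp e e.injective
    have h2 : (fun i => gradLin K φ (f (e i))) = v ∘ e := by
      funext i
      exact (hf (e i)).2
    rw [h2]
    exact h1
  -- the matrix of gradients
  let Mκ : Matrix (Fin (N - n)) (Fin N) K := Matrix.of fun i k => ρ K φ (pderiv k (f (e i)))
  let S : Set (Fin (N - n) → K) := Set.range (fun k : Fin N => fun i => Mκ i k)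
  have hS : ∀ b : Fin (N - n) → K, b ≠ 0 → ∃ v ∈ S, b ⬝ᵥ v ≠ 0 := by
    intro b hb
    by_contra hcon
    push_neg at hcon
    apply hb
    have h1 : ∑ i, b i • gradLin K φ (f (e i)) = 0 := by
      ext k
      have := hcon _ ⟨k, rfl⟩
      simp only [dotProduct] at this
      rw [Finset.sum_apply]
      simpa [Mκ, gradLin_apply] using this
    funext i
    exact Fintype.linearIndependent_iff.mp hli' b h1 i
  obtain ⟨cf, hcS, hc'⟩ := Groth.Agent.S4580.Z4.exists_det_ne_zero S hS
  choose cols0 hcols0 using hcS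
  have hmat : (Matrix.of fun i j => cf j i) =
      (ρ K φ).toRingHom.mapMatrix
        (Matrix.of fun i k : Fin (N - n) => pderiv (cols0 k) (f (e i))) := by
    ext i j
    simp only [Matrix.of_apply, RingHom.mapMatrix_apply, Matrix.map_apply]
    rw [← hcols0 j]
    rfl
  rw [hmat] at hc'
  have hinj : Function.Injective cols0 := by
    intro j1 j2 hj
    by_contra hne
    apply hc'
    exact Matrix.det_zero_of_column_eq hne (by intro i; simp [hj])
  refine ⟨fun i => f (e i), ⟨cols0, hinj⟩, fun i => (hf (e i)).1, ?_⟩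
  intro h0
  apply hc'
  rw [← RingHom.map_det]
  exact h0

end Main

end N1

set_option autoImplicit false

namespace N2
open KaehlerDifferential TensorProduct

/-- A surjection `P → A` of formally smooth `R`-algebras, `P` local with `Ω[P/R]` finite free, such
that the rank of `Ω[A/R]` (tested on a field `L`) is at least that of `Ω[P/R]`, is injective. -/
theorem ker_eq_bot {R P A L : Type u} [CommRing R] [CommRing P] [CommRing A] [Algebra R P]
    [Algebra R A] [Algebra P A] [IsScalarTower R P A] [IsLocalRing P]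
    (hsurj : Function.Surjective (algebraMap P A))
    [Algebra.FormallySmooth R P] [Algebra.FormallySmooth R A]
    [Module.Free P Ω[P⁄R]] [Module.Finite P Ω[P⁄R]]
    (hI : (RingHom.ker (algebraMap P A)).FG)
    [Field L] [Algebra A L]
    (hrank : Module.finrank P Ω[P⁄R] ≤ Module.finrank L (L ⊗[A] Ω[A⁄R])) :
    RingHom.ker (algebraMap P A) = ⊥ := by
  haveI : Nontrivial A := (algebraMap A L).domain_nontrivial
  haveI : IsLocalRing A := IsLocalRing.of_surjective' (algebraMap P A) hsurj
  haveI : Module.Finite A Ω[A⁄R] := Module.Finite.of_surjective (mapBaseChange R P A)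
    (mapBaseChange_surjective R P A hsurj)
  haveI : Module.Free A Ω[A⁄R] := Module.free_of_flat_of_isLocalRing
  have h1 : Module.finrank A (A ⊗[P] Ω[P⁄R]) = Module.finrank P Ω[P⁄R] :=
    Module.finrank_baseChange
  have h2 : Module.finrank L (L ⊗[A] Ω[A⁄R]) = Module.finrank A Ω[A⁄R] :=
    Module.finrank_baseChange
  have h3 : Module.finrank A Ω[A⁄R] ≤ Module.finrank A (A ⊗[P] Ω[P⁄R]) :=
    LinearMap.finrank_le_finrank_of_surjective (mapBaseChange_surjective R P A hsurj)
  have h4 : Module.finrank A (A ⊗[P] Ω[P⁄R]) = Module.finrank A Ω[A⁄R] := by omega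
  let i : (A ⊗[P] Ω[P⁄R]) ≃ₗ[A] Ω[A⁄R] := LinearEquiv.ofFinrankEq _ _ h4
  have hinj : Function.Injective (mapBaseChange R P A) :=
    OrzechProperty.injective_of_surjective_of_injective i.toLinearMap _ i.injective
      (mapBaseChange_surjective R P A hsurj)
  obtain ⟨l, hl⟩ := (Algebra.FormallySmooth.iff_split_injection (R := R) (P := P) (A := A) hsurj).mp inferInstance
  have hexact := exact_kerCotangentToTensor_mapBaseChange R P A hsurj
  have hzero : ∀ x, kerCotangentToTensor R P A x = 0 := by
    intro x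
    apply hinj
    rw [map_zero]
    exact hexact.apply_apply_eq_zero x
  have hsub : Subsingleton (RingHom.ker (algebraMap P A)).Cotangent := by
    refine ⟨fun x y => ?_⟩
    have hx : ∀ z, z = l (kerCotangentToTensor R P A z) := by
      intro z
      rw [← LinearMap.comp_apply, hl]; rfl
    rw [hx x, hx y, hzero, hzero]
  rw [Ideal.cotangent_subsingleton_iff] at hsub
  have hle : RingHom.ker (algebraMap P A) ≤ IsLocalRing.maximalIdeal P :=
    IsLocalRing.le_maximalIdeal (RingHom.ker_ne_top _)
  refine Submodule.eq_bot_of_le_smul_of_le_jacobson_bot (RingHom.ker (algebraMap P A)) _ hI ?_ ?_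
  · rw [smul_eq_mul, hsub.eq]
  · rw [IsLocalRing.jacobson_eq_maximalIdeal ⊥ bot_ne_top]
    exact hle

end N2

set_option autoImplicit false

namespace N3
open KaehlerDifferential TensorProduct MvPolynomial

section
variable {R Λ A : Type u} [CommRing R] [CommRing Λ] [IsLocalRing Λ] [Algebra R Λ]
  [CommRing A] [Algebra R A] [Algebra A Λ] [IsScalarTower R A Λ]

example : Algebra A (IsLocalRing.ResidueField Λ) := inferInstance
example : IsScalarTower R A (IsLocalRing.ResidueField Λ) := inferInstance
example : IsScalarTower A Λ (IsLocalRing.ResidueField Λ) := inferInstance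

lemma finrank_hom [Module.Finite A Ω[A⁄R]] [Module.Free Λ (Λ ⊗[A] Ω[A⁄R])] :
    Module.Finite (IsLocalRing.ResidueField Λ) (Ω[A⁄R] →ₗ[A] IsLocalRing.ResidueField Λ) ∧
    Module.finrank (IsLocalRing.ResidueField Λ) (Ω[A⁄R] →ₗ[A] IsLocalRing.ResidueField Λ) =
      Module.finrank Λ (Λ ⊗[A] Ω[A⁄R]) := by
  set K := IsLocalRing.ResidueField Λ
  let e1 : (Ω[A⁄R] →ₗ[A] K) ≃ₗ[K] (K ⊗[A] Ω[A⁄R] →ₗ[K] K) := LinearMap.liftBaseChangeEquiv K
  let e2 : K ⊗[Λ] (Λ ⊗[A] Ω[A⁄R]) ≃ₗ[K] K ⊗[A] Ω[A⁄R] :=
    AlgebraTensorModule.cancelBaseChange A Λ K K Ω[A⁄R]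
  haveI : Module.Finite K (K ⊗[A] Ω[A⁄R]) := inferInstance
  have h1 : Module.finrank K (K ⊗[Λ] (Λ ⊗[A] Ω[A⁄R])) = Module.finrank Λ (Λ ⊗[A] Ω[A⁄R]) :=
    Module.finrank_baseChange
  have h2 : Module.finrank K (K ⊗[A] Ω[A⁄R] →ₗ[K] K) = Module.finrank K (K ⊗[A] Ω[A⁄R]) :=
    Subspace.dual_finrank_eq
  refine ⟨Module.Finite.equiv e1.symm, ?_⟩
  rw [e1.finrank_eq, h2, ← e2.finrank_eq, h1]

end

/-- Rank of the differentials of a localization, tested on a field `L`. -/
lemma finrank_tensor_localization {R Λ A L : Type u} [CommRing R] [CommRing A] [Algebra R A]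
    [CommRing Λ] [Nontrivial Λ] [Algebra A Λ] [Field L] [Algebra Λ L] [Algebra A L]
    [IsScalarTower A Λ L]
    (q : Ideal A) [q.IsPrime] [Algebra (Localization.AtPrime q) L]
    [IsScalarTower A (Localization.AtPrime q) L] [Module.Free Λ (Λ ⊗[A] Ω[A⁄R])] :
    Module.finrank L (L ⊗[Localization.AtPrime q] Ω[Localization.AtPrime q⁄R]) =
      Module.finrank Λ (Λ ⊗[A] Ω[A⁄R]) := by
  let e0 : (Localization.AtPrime q) ⊗[A] Ω[A⁄R] ≃ₗ[Localization.AtPrime q]
      Ω[Localization.AtPrime q⁄R] :=
    (IsLocalizedModule.isBaseChange q.primeCompl (Localization.AtPrime q)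
      (KaehlerDifferential.map R R A (Localization.AtPrime q))).equiv
  let e1 : L ⊗[Localization.AtPrime q] ((Localization.AtPrime q) ⊗[A] Ω[A⁄R])
      ≃ₗ[L] L ⊗[Localization.AtPrime q] Ω[Localization.AtPrime q⁄R] :=
    TensorProduct.AlgebraTensorModule.congr (LinearEquiv.refl L L) e0
  let e2 : L ⊗[Localization.AtPrime q] ((Localization.AtPrime q) ⊗[A] Ω[A⁄R])
      ≃ₗ[L] L ⊗[A] Ω[A⁄R] :=
    TensorProduct.AlgebraTensorModule.cancelBaseChange A (Localization.AtPrime q) L L Ω[A⁄R]
  let e3 : L ⊗[Λ] (Λ ⊗[A] Ω[A⁄R]) ≃ₗ[L] L ⊗[A] Ω[A⁄R] :=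
    TensorProduct.AlgebraTensorModule.cancelBaseChange A Λ L L Ω[A⁄R]
  have h1 : Module.finrank L (L ⊗[Λ] (Λ ⊗[A] Ω[A⁄R])) = Module.finrank Λ (Λ ⊗[A] Ω[A⁄R]) :=
    Module.finrank_baseChange
  rw [← e1.finrank_eq, e2.finrank_eq, ← e3.finrank_eq, h1]

/-- Injectivity of a local ring hom induced by a surjection propagates from a generization,
if the source local ring is a domain. -/
lemma localRingHom_injective {B A : Type u} [CommRing B] [CommRing A] (π : B →+* A)
    (hπ : Function.Surjective π) (p q : Ideal A) [p.IsPrime] [q.IsPrime] (hqp : q ≤ p)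
    [IsDomain (Localization.AtPrime (p.comap π))]
    (hinj : Function.Injective (Localization.localRingHom (q.comap π) q π rfl)) :
    Function.Injective (Localization.localRingHom (p.comap π) p π rfl) := by
  have hqp' : q.comap π ≤ p.comap π := Ideal.comap_mono hqp
  -- (a)
  have ha : ∀ x : B, π x = 0 → algebraMap B (Localization.AtPrime (p.comap π)) x = 0 := by
    intro x hx
    have h1 : algebraMap B (Localization.AtPrime (q.comap π)) x = 0 := by
      apply hinj
      rw [Localization.localRingHom_to_map, hx, map_zero, map_zero]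
    rw [IsLocalization.map_eq_zero_iff (q.comap π).primeCompl] at h1
    obtain ⟨t, ht⟩ := h1
    have h2 : algebraMap B (Localization.AtPrime (p.comap π)) (t : B) *
        algebraMap B (Localization.AtPrime (p.comap π)) x = 0 := by
      rw [← map_mul, ht, map_zero]
    have h3 : algebraMap B (Localization.AtPrime (p.comap π)) (t : B) ≠ 0 := by
      intro h0
      rw [IsLocalization.map_eq_zero_iff (p.comap π).primeCompl] at h0
      obtain ⟨u, hu⟩ := h0
      have hmem : (u : B) * (t : B) ∈ q.comap π := by rw [hu]; exact zero_mem _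
      rcases Ideal.IsPrime.mem_or_mem inferInstance hmem with h | h
      · exact u.2 (hqp' h)
      · exact t.2 h
    exact (mul_eq_zero.mp h2).resolve_left h3
  rw [injective_iff_map_eq_zero]
  intro y hy
  obtain ⟨x, s, rfl⟩ := IsLocalization.exists_mk'_eq (p.comap π).primeCompl y
  rw [Localization.localRingHom_mk', IsLocalization.mk'_eq_zero_iff] at hy
  obtain ⟨u, hu⟩ := hy
  obtain ⟨u', hu'⟩ := hπ (u : A)
  have hu'p : u' ∉ p.comap π := by
    intro h
    apply u.2
    rw [← hu']
    exact h
  have h4 : algebraMap B (Localization.AtPrime (p.comap π)) (u' * x) = 0 := by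
    apply ha
    rw [map_mul, hu']
    exact hu
  rw [map_mul] at h4
  have h5 : IsUnit (algebraMap B (Localization.AtPrime (p.comap π)) u') :=
    IsLocalization.map_units (M := (p.comap π).primeCompl) _ ⟨u', hu'p⟩
  have h6 := (h5.mul_right_eq_zero).mp h4
  rw [IsLocalization.mk'_eq_zero_iff]
  exact (IsLocalization.map_eq_zero_iff (p.comap π).primeCompl _ _).mp h6

section Main
open Groth.Agent.S9441 Groth.Agent.Lib.H93SmoothCrit

variable {R Λ A : Type u} [CommRing R] [IsDomain R] [IsDiscreteValuationRing R]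
  [CommRing Λ] [IsDomain Λ] [IsDiscreteValuationRing Λ] [Algebra R Λ]
  [CommRing A] [Algebra R A] [Algebra.FiniteType R A] [Algebra A Λ] [IsScalarTower R A Λ]
  [(RingHom.ker (algebraMap A Λ)).IsPrime]

theorem main (hq : Algebra.IsSmoothAt R (RingHom.ker (algebraMap A Λ)))
    (hfree : Module.Free Λ (Λ ⊗[A] Ω[A⁄R])) :
    Algebra.IsSmoothAt R ((IsLocalRing.maximalIdeal Λ).comap (algebraMap A Λ)) := by
  classical
  set p : Ideal A := (IsLocalRing.maximalIdeal Λ).comap (algebraMap A Λ) with hp
  set q : Ideal A := RingHom.ker (algebraMap A Λ) with hq_def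
  have hqp : q ≤ p := fun x hx => by
    rw [hp, Ideal.mem_comap, (RingHom.mem_ker.mp hx)]; exact zero_mem _
  haveI : Algebra.FinitePresentation R A :=
    Algebra.FinitePresentation.of_finiteType.mp inferInstance
  obtain ⟨hfin, hrk⟩ := finrank_hom (R := R) (Λ := Λ) (A := A)
  set d := Module.finrank Λ (Λ ⊗[A] Ω[A⁄R]) with hd
  obtain ⟨N, φ, hφ⟩ := Algebra.FiniteType.iff_quotient_mvPolynomial''.mp ‹Algebra.FiniteType R A›
  obtain ⟨f, cols, hf, hminor⟩ :=
    N1.exists_minor (K := IsLocalRing.ResidueField Λ) φ hφ d hrk.le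
  set hP : MvPolynomial (Fin N) R :=
    Matrix.det (Matrix.of fun i j : Fin (N - d) => pderiv (cols j) (f i)) with hhP
  have hPp : φ hP ∉ p := by
    intro hmem
    apply hminor
    rw [IsScalarTower.algebraMap_apply A Λ (IsLocalRing.ResidueField Λ)]
    exact (IsLocalRing.residue_eq_zero_iff _).mpr hmem
  -- the quotient `B = R[x]/(f)` and the surjection `B → A`
  let πₐ : E1.Quot f →ₐ[R] A := Ideal.Quotient.liftₐ (Ideal.span (Set.range f)) φ (by
    intro a ha
    have : Ideal.span (Set.range f) ≤ RingHom.ker φ.toRingHom := by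
      rw [Ideal.span_le]
      rintro _ ⟨i, rfl⟩
      exact hf i
    exact this ha)
  have hπₐ : Function.Surjective πₐ := by
    intro a
    obtain ⟨x, rfl⟩ := hφ a
    exact ⟨Ideal.Quotient.mk _ x, rfl⟩
  set hB : E1.Quot f := Ideal.Quotient.mk _ hP with hhB
  have hπB : πₐ hB = φ hP := rfl
  have hBp : hB ∉ p.comap πₐ.toRingHom := hPp
  have hBq : hB ∉ q.comap πₐ.toRingHom := fun h => hBp (Ideal.comap_mono hqp h)
  haveI : IsNoetherianRing (E1.Quot f) := Algebra.FiniteType.isNoetherianRing R _
  haveI : Algebra.FinitePresentation R (E1.Quot f) :=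
    Algebra.FinitePresentation.of_finiteType.mp inferInstance
  haveI hstd : Algebra.IsStandardSmoothOfRelativeDimension (N - (N - d)) R
      (Localization.Away hB) :=
    E1.isStandardSmooth f cols hB (Localization.Away hB)
      (IsLocalization.Away.algebraMap_isUnit hB)
  have hfs : Algebra.FormallySmooth R (Localization.Away hB) := by
    haveI : Algebra.IsStandardSmooth R (Localization.Away hB) :=
      Algebra.IsStandardSmoothOfRelativeDimension.isStandardSmooth (N - (N - d))
    infer_instance
  have hsub := Algebra.basicOpen_subset_smoothLocus_iff.mpr hfs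
  have hsmp : Algebra.IsSmoothAt R (p.comap πₐ.toRingHom) :=
    hsub (show (⟨p.comap πₐ.toRingHom, inferInstance⟩ : PrimeSpectrum (E1.Quot f)) ∈
      (PrimeSpectrum.basicOpen hB : Set _) from hBp)
  haveI : IsRegularLocalRing (Localization.AtPrime (p.comap πₐ.toRingHom)) :=
    Groth.Agent.Lib.H56RegSmooth.isRegularLocalRing_of_isSmoothAt _ hsmp
  haveI : IsDomain (Localization.AtPrime (p.comap πₐ.toRingHom)) :=
    Groth.Agent.Lib.RegularLocal.isDomain (Localization.AtPrime (p.comap πₐ.toRingHom))
  obtain ⟨hfsq, hfreeq, hfinq, hrkq⟩ :=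
    F4.free_of_away R (E1.Quot f) (q.comap πₐ.toRingHom) (N - (N - d)) hB hBq
  -- local algebra structures
  let ψq : Localization.AtPrime (q.comap πₐ.toRingHom) →ₐ[R] Localization.AtPrime q :=
    Localization.localAlgHom (q.comap πₐ.toRingHom) q πₐ rfl
  letI : Algebra (Localization.AtPrime (q.comap πₐ.toRingHom)) (Localization.AtPrime q) :=
    ψq.toRingHom.toAlgebra
  haveI : IsScalarTower R (Localization.AtPrime (q.comap πₐ.toRingHom)) (Localization.AtPrime q) :=
    IsScalarTower.of_algebraMap_eq (fun r => (ψq.commutes r).symm)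
  have hsurjq : Function.Surjective (algebraMap (Localization.AtPrime (q.comap πₐ.toRingHom))
      (Localization.AtPrime q)) :=
    RingHom.surjective_localRingHom_of_surjective πₐ.toRingHom hπₐ q
  -- the fraction field of `Λ`
  have hunitL : ∀ s : q.primeCompl, IsUnit (algebraMap A (FractionRing Λ) s) := by
    intro s
    apply IsUnit.mk0
    rw [IsScalarTower.algebraMap_apply A Λ (FractionRing Λ)]
    intro h0
    have := (IsFractionRing.injective Λ (FractionRing Λ)) (h0.trans (map_zero _).symm)
    exact s.2 (RingHom.mem_ker.mpr this)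
  letI : Algebra (Localization.AtPrime q) (FractionRing Λ) := (IsLocalization.lift hunitL).toAlgebra
  haveI : IsScalarTower A (Localization.AtPrime q) (FractionRing Λ) :=
    IsScalarTower.of_algebraMap_eq (fun a => (IsLocalization.lift_eq hunitL a).symm)
  have hrankL := finrank_tensor_localization (R := R) (Λ := Λ) (A := A) (L := FractionRing Λ) q
  haveI : Algebra.FormallySmooth R (Localization.AtPrime q) := hq
  haveI : Algebra.FormallySmooth R (Localization.AtPrime (q.comap πₐ.toRingHom)) := hfsq
  haveI : IsNoetherianRing (Localization.AtPrime (q.comap πₐ.toRingHom)) :=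
    IsLocalization.isNoetherianRing (q.comap πₐ.toRingHom).primeCompl _ inferInstance
  have hker := N2.ker_eq_bot (R := R) (P := Localization.AtPrime (q.comap πₐ.toRingHom))
    (A := Localization.AtPrime q) (L := FractionRing Λ) hsurjq (IsNoetherian.noetherian _)
    (by rw [hrkq, hrankL]; omega)
  have hinjq : Function.Injective
      (Localization.localRingHom (q.comap πₐ.toRingHom) q πₐ.toRingHom rfl) :=
    (RingHom.injective_iff_ker_eq_bot _).mpr hker
  have hinjp := localRingHom_injective πₐ.toRingHom hπₐ p q hqp hinjq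
  have hsurjp := RingHom.surjective_localRingHom_of_surjective πₐ.toRingHom hπₐ p
  let e : Localization.AtPrime (p.comap πₐ.toRingHom) ≃ₐ[R] Localization.AtPrime p :=
    AlgEquiv.ofBijective (Localization.localAlgHom (p.comap πₐ.toRingHom) p πₐ rfl)
      ⟨hinjp, hsurjp⟩
  haveI : Algebra.FormallySmooth R (Localization.AtPrime (p.comap πₐ.toRingHom)) := hsmp
  exact Algebra.FormallySmooth.of_equiv (A := Localization.AtPrime (p.comap πₐ.toRingHom)) e

end Main

end N3

end Helpers

open TensorProduct in
/-- Let R ⊆ Λ be an extension of discrete valuation rings of ramification index 1 (m_R Λ = m_Λ), A a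
flat R-algebra of finite type with an R-algebra map A → Λ, 𝔮 its kernel and 𝔭 the inverse image of
the maximal ideal of Λ. Assume R → A is smooth at 𝔮. Provided the Λ-module Ω_{A/R} ⊗_A Λ is free,
the map R → A is also smooth at the prime 𝔭. (The published statement phrases the freeness
hypothesis through a surjection B → A from an R-algebra smooth at the point, with kernel I, as
freeness of the cokernel of I/I² ⊗_A Λ → Ω_{B/R} ⊗_B Λ; that cokernel is Ω_{A/R} ⊗_A Λ, which is how
its proof begins, so the two forms are equivalent.) -/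
theorem result {R Λ A : Type u} [CommRing R] [IsDomain R]
    [IsDiscreteValuationRing R] [CommRing Λ] [IsDomain Λ] [IsDiscreteValuationRing Λ] [Algebra R Λ]
    [NoZeroSMulDivisors R Λ] (he : (IsLocalRing.maximalIdeal R).map (algebraMap R Λ) = IsLocalRing.maximalIdeal Λ)
    [CommRing A] [Algebra R A] [Module.Flat R A] [Algebra.FiniteType R A] [Algebra A Λ] [IsScalarTower R A Λ]
    [(RingHom.ker (algebraMap A Λ)).IsPrime]
    (hq : Algebra.IsSmoothAt R (RingHom.ker (algebraMap A Λ)))
    (hfree : Module.Free Λ (Λ ⊗[A] Ω[A⁄R])) :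
    Algebra.IsSmoothAt R ((IsLocalRing.maximalIdeal Λ).comap (algebraMap A Λ)) := by
  exact N3.main hq hfree

end Groth.Agent.S6841
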