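import Groth.Statements.S6864
import Mathlib.RingTheory.Nakayama
import Mathlib.LinearAlgebra.TensorProduct.Quotient

set_option autoImplicit false
universe u
open TensorProduct
open CAlg

namespace Groth.Agent.S6864

section aux
variable {R : Type u} [CommRing R] {M : Type u} [AddCommGroup M] [Module R M]

lemma one_tmul_eq_zero_iff (I : Ideal R) (x : M) :
    (1 : R ⧸ I) ⊗ₜ[R] x = 0 ↔ x ∈ I • (⊤ : Submodule R M) := by
  rw [← (TensorProduct.quotTensorEquivQuotSMul M I).map_eq_zero_iff,
    TensorProduct.quotTensorEquivQuotSMul_mk_one_tmul, Submodule.Quotient.mk_eq_zero]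

lemma exists_one_tmul_eq (I : Ideal R) (t : (R ⧸ I) ⊗[R] M) : ∃ x : M, (1 : R ⧸ I) ⊗ₜ[R] x = t := by
  obtain ⟨x, hx⟩ := Submodule.Quotient.mk_surjective _ (TensorProduct.quotTensorEquivQuotSMul M I t)
  refine ⟨x, ?_⟩
  apply (TensorProduct.quotTensorEquivQuotSMul M I).injective
  rw [TensorProduct.quotTensorEquivQuotSMul_mk_one_tmul, hx]

end aux

/-- Let `I` be an ideal of a commutative ring `R` contained in the Jacobson radical and let `φ : P → P'`
be an `R`-linear map between finite projective `R`-modules. If the induced map `P/IP → P'/IP'` is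
bijective, then `φ` is bijective. -/
theorem result {R : Type u} [CommRing R] (I : Ideal R)
    (hI : I ≤ Ideal.jacobson (⊥ : Ideal R)) {P P' : Type u}
    [AddCommGroup P] [Module R P] [Module.Finite R P] [Module.Projective R P]
    [AddCommGroup P'] [Module R P'] [Module.Finite R P'] [Module.Projective R P'] (φ : P →ₗ[R] P')
    (h : Function.Bijective (φ.baseChange (R ⧸ I))) : Function.Bijective φ := by
  have hsurj : Function.Surjective φ := by
    rw [← LinearMap.range_eq_top, eq_top_iff]
    apply Submodule.le_of_le_smul_of_le_jacobson_bot Module.Finite.fg_top hI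
    intro y _
    obtain ⟨t, ht⟩ := h.2 ((1 : R ⧸ I) ⊗ₜ[R] y)
    obtain ⟨x, rfl⟩ := exists_one_tmul_eq I t
    rw [LinearMap.baseChange_tmul] at ht
    have h0 : (1 : R ⧸ I) ⊗ₜ[R] (y - φ x) = 0 := by
      rw [TensorProduct.tmul_sub, ht, sub_self]
    rw [one_tmul_eq_zero_iff] at h0
    have : y = φ x + (y - φ x) := by abel
    rw [this]
    exact Submodule.add_mem_sup (LinearMap.mem_range_self _ _) h0
  refine ⟨?_, hsurj⟩
  obtain ⟨s, hs⟩ := Module.projective_lifting_property φ LinearMap.id hsurj
  set π : P →ₗ[R] P := LinearMap.id - s ∘ₗ φ with hπ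
  have hφs : ∀ y, φ (s y) = y := fun y => LinearMap.congr_fun hs y
  have hπk : ∀ k ∈ LinearMap.ker φ, π k = k := by
    intro k hk
    rw [LinearMap.mem_ker] at hk
    simp [hπ, hk]
  have hK : LinearMap.ker φ = LinearMap.range π := by
    apply le_antisymm
    · intro k hk
      exact ⟨k, hπk k hk⟩
    · rintro _ ⟨p, rfl⟩
      rw [LinearMap.mem_ker]
      simp [hπ, hφs]
  have hfg : (LinearMap.ker φ).FG := by
    rw [hK, LinearMap.range_eq_map]
    exact Module.Finite.fg_top.map π
  have hbot : LinearMap.ker φ = ⊥ := by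
    apply Submodule.eq_bot_of_le_smul_of_le_jacobson_bot I _ hfg _ hI
    intro k hk
    have h1 : (1 : R ⧸ I) ⊗ₜ[R] k = 0 := by
      apply h.1
      rw [LinearMap.baseChange_tmul, LinearMap.mem_ker.mp hk, TensorProduct.tmul_zero, map_zero]
    rw [one_tmul_eq_zero_iff] at h1
    have h2 : π k ∈ Submodule.map π (I • (⊤ : Submodule R P)) := Submodule.mem_map_of_mem h1
    rw [Submodule.map_smul'', Submodule.map_top, ← hK, hπk k hk] at h2
    exact h2
  exact LinearMap.ker_eq_bot.mp hbot

end Groth.Agent.S6864
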