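import Groth.Statements.S6866
import Mathlib.RingTheory.Flat.Localization
import Mathlib.RingTheory.Flat.Stability
import Mathlib.RingTheory.Localization.FractionRing
import Mathlib.Algebra.Module.LocalizedModule.Basic
import Mathlib.LinearAlgebra.TensorProduct.Tower
import Mathlib.LinearAlgebra.Basis.VectorSpace
import Mathlib.LinearAlgebra.FreeModule.Basic

set_option autoImplicit false
universe u
open TensorProduct
open CAlg

namespace Groth.Agent.S6866

/-- If `M` is a torsion free module over a domain `R` and `R → R'` is a flat ring map to another domain,
then `R' ⊗_R M` is torsion free over `R'`. -/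
theorem result (R R' : Type u) [CommRing R] [IsDomain R] [CommRing R']
    [IsDomain R'] [Algebra R R'] [Module.Flat R R'] (M : Type u) [AddCommGroup M] [Module R M]
    [Module.IsTorsionFree R M] : Module.IsTorsionFree R' (R' ⊗[R] M) := by
  let V := LocalizedModule (nonZeroDivisors R) M
  let f : M →ₗ[R] V := LocalizedModule.mkLinearMap (nonZeroDivisors R) M
  have hf : Function.Injective f := by
    rw [← LinearMap.ker_eq_bot, LinearMap.ker_eq_bot']
    intro m hm
    rw [IsLocalizedModule.eq_zero_iff (nonZeroDivisors R) f] at hm
    obtain ⟨s, hs⟩ := hm
    have hs0 : (s : R) ≠ 0 := nonZeroDivisors.ne_zero s.2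
    exact (smul_eq_zero_iff_right hs0).mp hs
  have hV : Module.Flat R V := by
    have : Module.Flat (FractionRing R) V := inferInstance
    exact Module.Flat.trans R (FractionRing R) V
  have h1 : Function.Injective (f.lTensor R') :=
    Module.Flat.lTensor_preserves_injective_linearMap f hf
  constructor
  intro x hx
  have hx0 : x ≠ 0 := hx.ne_zero
  have hmul : Function.Injective (LinearMap.mulLeft R x) := by
    intro a b hab
    exact mul_left_cancel₀ hx0 hab
  have h2 : Function.Injective ((LinearMap.mulLeft R x).rTensor V) :=
    Module.Flat.rTensor_preserves_injective_linearMap _ hmul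
  intro t₁ t₂ ht
  apply h1
  apply h2
  have key : ∀ t : R' ⊗[R] M, (LinearMap.mulLeft R x).rTensor V (f.lTensor R' t) =
      f.lTensor R' (x • t) := by
    intro t
    induction t using TensorProduct.induction_on with
    | zero => simp
    | tmul a m => simp [TensorProduct.smul_tmul']
    | add a b ha hb => simp only [map_add, smul_add, ha, hb]
  rw [key, key]
  exact congrArg _ ht

end Groth.Agent.S6866
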