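import Groth.Statements.S6868
import Groth.Agent.S12121

set_option autoImplicit false
universe u
open CAlg

namespace Groth.Agent.S6868

theorem torsionFree_iff_ass (R : Type u) [CommRing R]
    [IsDomain R] [IsNoetherianRing R] (M : Type u) [AddCommGroup M] [Module R M]
    [Nontrivial M] :
    Module.IsTorsionFree R M ↔ associatedPrimes R M = {⊥} := by
  rw [Module.isTorsionFree_iff_smul_eq_zero]
  have hU := biUnion_associatedPrimes_eq_zero_divisors R M
  constructor
  · intro h
    have hall : ∀ p ∈ associatedPrimes R M, p = ⊥ := by
      intro p hp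
      rw [eq_bot_iff]
      intro r hr
      have : r ∈ ⋃ p ∈ associatedPrimes R M, (p : Set R) := Set.mem_iUnion₂_of_mem hp hr
      rw [hU] at this
      obtain ⟨x, hx, hrx⟩ := this
      rcases h r x hrx with h0 | h0
      · simpa using h0
      · exact absurd h0 hx
    obtain ⟨p, hp⟩ := associatedPrimes.nonempty R M
    ext q
    constructor
    · intro hq; exact hall q hq
    · intro hq
      rw [Set.mem_singleton_iff] at hq
      rw [hq, ← hall p hp]; exact hp
  · intro h r m hrm
    by_contra hcon
    rw [not_or] at hcon
    have : r ∈ ⋃ p ∈ associatedPrimes R M, (p : Set R) := by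
      rw [hU]; exact ⟨m, hcon.2, hrm⟩
    rw [h] at this
    simp at this
    exact hcon.1 this

/-- (1) ⇔ (3) ⇔ (4): for a Noetherian domain `R` and a nonzero finite `R`-module `M`, torsion-freeness
of `M` is equivalent to `(0)` being the unique associated prime of `M`, and also to the conjunction:
`(0)` belongs to the support of `M` and `M` satisfies Serre's condition `(S_1)`. (The published
statement also lists embedding into a finite free module and the absence of embedded associated
primes; this row states the other three conditions.) -/
theorem result (R : Type u) [CommRing R]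
    [IsDomain R] [IsNoetherianRing R] (M : Type u) [AddCommGroup M] [Module R M] [Module.Finite R M] [Nontrivial M] :
    (Module.IsTorsionFree R M ↔ associatedPrimes R M = {⊥}) ∧
    (Module.IsTorsionFree R M ↔
      (⟨⊥, Ideal.isPrime_bot⟩ : PrimeSpectrum R) ∈ Module.support R M ∧ LocCoh.HasSk 1 R M) := by
  refine ⟨torsionFree_iff_ass R M, ?_⟩
  rw [torsionFree_iff_ass R M]
  constructor
  · intro h
    constructor
    · have hb : (⊥ : Ideal R) ∈ associatedPrimes R M := by rw [h]; rfl
      exact Groth.Agent.Lib.DepthRees.mem_support_of_mem_associatedPrimes hb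
    · rw [← Groth.Agent.S12121.noEmbedded_iff_hasSk_one]
      intro p hp q hq _
      rw [h] at hp hq
      rw [Set.mem_singleton_iff] at hp hq
      rw [hp, hq]
  · rintro ⟨hsupp, hS1⟩
    have hann : Module.annihilator R M = ⊥ := by
      rw [Module.support_eq_zeroLocus, PrimeSpectrum.mem_zeroLocus] at hsupp
      rw [eq_bot_iff]
      exact hsupp
    have hmin := Groth.Agent.S2085.result.mpr hS1
    have hall : ∀ p ∈ associatedPrimes R M, p = ⊥ := by
      intro p hp
      have h1 := hmin p hp
      rw [hann] at h1
      have h2 : (⊥ : Ideal R) ∈ (⊥ : Ideal R).minimalPrimes := by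
        rw [Ideal.minimalPrimes_eq_subsingleton_self]; rfl
      have h3 := h1.2 ⟨Ideal.isPrime_bot, le_refl _⟩ bot_le
      exact le_antisymm h3 bot_le
    obtain ⟨p, hp⟩ := associatedPrimes.nonempty R M
    ext q
    constructor
    · intro hq; exact hall q hq
    · intro hq
      rw [Set.mem_singleton_iff] at hq
      rw [hq, ← hall p hp]; exact hp

end Groth.Agent.S6868
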