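import Groth.Statements.S6871
import Mathlib
-- import your own Groth.Agent.* helpers here

set_option autoImplicit false
universe u
open CAlg

namespace Groth.Agent.S6871

section
variable {R : Type u} [CommRing R] (S : Submonoid R) (M : Type u) [AddCommGroup M] [Module R M]

/-- The comparison map from the dual to the dual of the localization. -/
noncomputable def dMap :
    Module.Dual R M →ₗ[R] Module.Dual (Localization S) (LocalizedModule S M) :=
  IsLocalizedModule.mapExtendScalars S (LocalizedModule.mkLinearMap S M)
    (Algebra.linearMap R (Localization S)) (Localization S)

lemma dMap_apply (φ : Module.Dual R M) (m : M) :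
    dMap S M φ (LocalizedModule.mkLinearMap S M m) = algebraMap R (Localization S) (φ m) := by
  rw [dMap, IsLocalizedModule.mapExtendScalars_apply_apply, IsLocalizedModule.map_apply]
  rfl

instance dMap_isLocalizedModule [Module.FinitePresentation R M] :
    IsLocalizedModule S (dMap S M) :=
  Module.FinitePresentation.isLocalizedModule_mapExtendScalars _ _ _ _

/-- The comparison map from the double dual to the double dual of the localization. -/
noncomputable def ddMap [Module.FinitePresentation R M] :
    Module.Dual R (Module.Dual R M) →ₗ[R]
      Module.Dual (Localization S) (Module.Dual (Localization S) (LocalizedModule S M)) :=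
  IsLocalizedModule.mapExtendScalars S (dMap S M)
    (Algebra.linearMap R (Localization S)) (Localization S)

lemma ddMap_apply [Module.FinitePresentation R M] (ψ : Module.Dual R (Module.Dual R M))
    (φ : Module.Dual R M) :
    ddMap S M ψ (dMap S M φ) = algebraMap R (Localization S) (ψ φ) := by
  rw [ddMap, IsLocalizedModule.mapExtendScalars_apply_apply, IsLocalizedModule.map_apply]
  rfl

instance ddMap_isLocalizedModule [Module.FinitePresentation R M]
    [Module.FinitePresentation R (Module.Dual R M)] :
    IsLocalizedModule S (ddMap S M) :=
  Module.FinitePresentation.isLocalizedModule_mapExtendScalars _ _ _ _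

lemma eval_comm [Module.FinitePresentation R M] (m : M) :
    Module.Dual.eval (Localization S) (LocalizedModule S M) (LocalizedModule.mkLinearMap S M m) =
      ddMap S M (Module.Dual.eval R M m) := by
  apply LinearMap.restrictScalars_injective R
  apply IsLocalizedModule.linearMap_ext S (dMap S M) (Algebra.linearMap R (Localization S))
  ext φ
  simp only [LinearMap.coe_comp, LinearMap.coe_restrictScalars, Function.comp_apply,
    Module.Dual.eval_apply, dMap_apply, ddMap_apply]

lemma map_eval [Module.FinitePresentation R M] [Module.FinitePresentation R (Module.Dual R M)] :
    IsLocalizedModule.map S (LocalizedModule.mkLinearMap S M) (ddMap S M) (Module.Dual.eval R M) =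
      (Module.Dual.eval (Localization S) (LocalizedModule S M)).restrictScalars R := by
  apply IsLocalizedModule.linearMap_ext S (LocalizedModule.mkLinearMap S M) (ddMap S M)
  ext m : 1
  simp only [LinearMap.coe_comp, LinearMap.coe_restrictScalars, Function.comp_apply,
    IsLocalizedModule.map_apply, eval_comm]

end

section
variable {R : Type u} [CommRing R] (M : Type u) [AddCommGroup M] [Module R M]

lemma reflexive_localized [Module.FinitePresentation R M]
    [Module.FinitePresentation R (Module.Dual R M)] (S : Submonoid R)
    (h : Module.IsReflexive R M) :
    Module.IsReflexive (Localization S) (LocalizedModule S M) := by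
  constructor
  have hb := h.bijective_dual_eval'
  have h1 := IsLocalizedModule.map_injective S (LocalizedModule.mkLinearMap S M) (ddMap S M)
    (Module.Dual.eval R M) hb.1
  have h2 := IsLocalizedModule.map_surjective S (LocalizedModule.mkLinearMap S M) (ddMap S M)
    (Module.Dual.eval R M) hb.2
  rw [map_eval] at h1 h2
  exact ⟨h1, h2⟩

lemma reflexive_of_localized_maximal [Module.FinitePresentation R M]
    [Module.FinitePresentation R (Module.Dual R M)]
    (h : ∀ (m : Ideal R) (_ : m.IsMaximal),
        Module.IsReflexive (Localization.AtPrime m) (LocalizedModule m.primeCompl M)) :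
    Module.IsReflexive R M := by
  constructor
  refine bijective_of_isLocalized_maximal
    (fun P _ => LocalizedModule P.primeCompl M)
    (fun P _ => LocalizedModule.mkLinearMap P.primeCompl M)
    (fun P _ => Module.Dual (Localization P.primeCompl)
      (Module.Dual (Localization P.primeCompl) (LocalizedModule P.primeCompl M)))
    (fun P _ => ddMap P.primeCompl M) (Module.Dual.eval R M) ?_
  intro P hP
  rw [map_eval]
  exact (h P hP).bijective_dual_eval'

end

/-- Let `R` be a Noetherian domain and `M` a finite `R`-module. Then `M` is reflexive if and only if
`M_𝔭` is a reflexive `R_𝔭`-module for every prime `𝔭`, if and only if `M_𝔪` is a reflexive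
`R_𝔪`-module for every maximal ideal `𝔪`. -/
theorem result (R : Type u) [CommRing R] [IsDomain R] [IsNoetherianRing R] (M : Type u)
    [AddCommGroup M] [Module R M] [Module.Finite R M] :
    (Module.IsReflexive R M ↔
      ∀ (p : Ideal R) [p.IsPrime], Module.IsReflexive (Localization.AtPrime p) (LocalizedModule p.primeCompl M)) ∧
    (Module.IsReflexive R M ↔
      ∀ (m : Ideal R) (_ : m.IsMaximal),
        Module.IsReflexive (Localization.AtPrime m) (LocalizedModule m.primeCompl M)) := by
  have hfp : Module.FinitePresentation R M := Module.finitePresentation_of_finite R M
  have hfin : Module.Finite R (Module.Dual R M) := inferInstance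
  have hfp' : Module.FinitePresentation R (Module.Dual R M) :=
    Module.finitePresentation_of_finite R _
  have h1 : Module.IsReflexive R M →
      ∀ (p : Ideal R) [p.IsPrime],
        Module.IsReflexive (Localization.AtPrime p) (LocalizedModule p.primeCompl M) :=
    fun h p _ => reflexive_localized M p.primeCompl h
  have h2 : (∀ (m : Ideal R) (_ : m.IsMaximal),
        Module.IsReflexive (Localization.AtPrime m) (LocalizedModule m.primeCompl M)) →
      Module.IsReflexive R M := reflexive_of_localized_maximal M
  refine ⟨⟨h1, fun h => h2 fun m hm => ?_⟩, ⟨fun h m hm => ?_, h2⟩⟩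
  · have := hm.isPrime
    exact h m
  · have := hm.isPrime
    exact h1 h m

end Groth.Agent.S6871
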