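import Groth.Statements.S6873
import Groth.Agent.S6872
import Mathlib.LinearAlgebra.Dual.Lemmas
import Mathlib.RingTheory.Noetherian.Basic

set_option autoImplicit false
universe u
open CAlg

namespace Groth.Agent.S6873

section aux
variable {R : Type u} [CommRing R] [IsDomain R]

lemma exists_div {N : Type u} [AddCommGroup N] [Module R N] (c : R) (hc : c ≠ 0)
    (h : N →ₗ[R] R) (hd : ∀ x, c ∣ h x) : ∃ y : N →ₗ[R] R, ∀ x, c * y x = h x := by
  choose q hq using hd
  refine ⟨{ toFun := q, map_add' := ?_, map_smul' := ?_ }, fun x => (hq x).symm⟩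
  · intro a b
    apply mul_left_cancel₀ hc
    rw [mul_add, ← hq, ← hq, ← hq, map_add]
  · intro r a
    apply mul_left_cancel₀ hc
    simp only [RingHom.id_apply, smul_eq_mul]
    rw [← hq, map_smul, smul_eq_mul, hq a]
    ring

/-- A finite reflexive module over a Noetherian domain embeds in a finite free module with torsion
free cokernel. -/
theorem exists_embedding_of_isReflexive [IsNoetherianRing R] (M : Type u) [AddCommGroup M]
    [Module R M] [Module.Finite R M] [Module.IsReflexive R M] :
    ∃ (n : ℕ) (f : M →ₗ[R] (Fin n → R)), Function.Injective f ∧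
      Module.IsTorsionFree R ((Fin n → R) ⧸ LinearMap.range f) := by
  have hj := Module.bijective_dual_eval R M
  have : Module.Finite R (Module.Dual R M) := inferInstance
  obtain ⟨n, ψ, hψ⟩ := Module.Finite.exists_fin (R := R) (M := Module.Dual R M)
  let F : M →ₗ[R] (Fin n → R) := LinearMap.pi ψ
  have hFapp : ∀ m i, F m i = ψ i m := fun m i => rfl
  -- a functional vanishing/divisibility principle
  have hspan : ∀ (P : Module.Dual R M → Prop), (∀ i, P (ψ i)) → P 0 →
      (∀ a b, P a → P b → P (a + b)) → (∀ (r : R) a, P a → P (r • a)) → ∀ χ, P χ := by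
    intro P h1 h2 h3 h4 χ
    have hχ : χ ∈ Submodule.span R (Set.range ψ) := by
      rw [hψ]
      trivial
    induction hχ using Submodule.span_induction with
    | mem x hx =>
      obtain ⟨i, rfl⟩ := hx
      exact h1 i
    | zero => exact h2
    | add a b _ _ ha hb => exact h3 a b ha hb
    | smul r a _ ha => exact h4 r a ha
  refine ⟨n, F, ?_, ?_⟩
  · rw [← LinearMap.ker_eq_bot, LinearMap.ker_eq_bot']
    intro m hm
    apply hj.1
    rw [map_zero]
    ext χ
    rw [Module.Dual.eval_apply, LinearMap.zero_apply]
    refine hspan (fun χ => χ m = 0) ?_ ?_ ?_ ?_ χ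
    · intro i
      rw [← hFapp, hm]
      rfl
    · rfl
    · intro a b ha hb
      rw [LinearMap.add_apply, ha, hb, add_zero]
    · intro r a ha
      rw [LinearMap.smul_apply, ha, smul_zero]
  · rw [Module.isTorsionFree_iff_smul_eq_zero]
    intro c q hcq
    by_cases hc : c = 0
    · exact Or.inl hc
    right
    obtain ⟨v, rfl⟩ := Submodule.Quotient.mk_surjective _ q
    rw [← Submodule.Quotient.mk_smul, Submodule.Quotient.mk_eq_zero] at hcq
    obtain ⟨m, hm⟩ := hcq
    rw [Submodule.Quotient.mk_eq_zero]
    -- every functional takes a value divisible by `c` at `m`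
    have hdvd : ∀ χ : Module.Dual R M, c ∣ χ m := by
      refine hspan (fun χ => c ∣ χ m) ?_ ?_ ?_ ?_
      · intro i
        refine ⟨v i, ?_⟩
        rw [← hFapp, hm]
        rfl
      · exact ⟨0, by simp⟩
      · intro a b ha hb
        rw [LinearMap.add_apply]
        exact dvd_add ha hb
      · intro r a ha
        rw [LinearMap.smul_apply, smul_eq_mul]
        exact Dvd.dvd.mul_left ha r
    obtain ⟨y, hy⟩ := exists_div c hc (Module.Dual.eval R M m) hdvd
    obtain ⟨m', hm'⟩ := hj.2 y
    refine ⟨m', ?_⟩
    funext i
    apply mul_left_cancel₀ hc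
    have h1 : c * y (ψ i) = ψ i m := hy (ψ i)
    have h2 : y (ψ i) = ψ i m' := by
      rw [← hm']
      rfl
    rw [hFapp, ← h2, h1, ← hFapp, hm]
    rfl

end aux

/-- For a Noetherian domain `R`, a finite `R`-module `M` is reflexive if and only if `M` admits an
injective `R`-linear map into `Rⁿ`, for some `n`, whose cokernel is torsion free. -/
theorem result (R : Type u) [CommRing R] [IsDomain R]
    [IsNoetherianRing R] (M : Type u) [AddCommGroup M] [Module R M] [Module.Finite R M] :
    Module.IsReflexive R M ↔ ∃ (n : ℕ) (f : M →ₗ[R] (Fin n → R)), Function.Injective f ∧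
      Module.IsTorsionFree R ((Fin n → R) ⧸ LinearMap.range f) := by
  constructor
  · intro h
    exact exists_embedding_of_isReflexive M
  · rintro ⟨n, f, hf, htf⟩
    exact Groth.Agent.S6872.isReflexive_of_exact R f (LinearMap.range f).mkQ hf
      (LinearMap.exact_map_mkQ_range f)

end Groth.Agent.S6873
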