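import Groth.Statements.S6874
import Groth.Agent.S6873
import Groth.Agent.S6866
import Mathlib.LinearAlgebra.TensorProduct.RightExactness
import Mathlib.RingTheory.TensorProduct.Finite
import Mathlib.RingTheory.TensorProduct.Free
import Mathlib.LinearAlgebra.FreeModule.Finite.Basic
import Mathlib.LinearAlgebra.Dual.Lemmas

set_option autoImplicit false
universe u
open TensorProduct
open CAlg

namespace Groth.Agent.S6874

/-- For a flat ring map `R → R'` between Noetherian domains and a finite reflexive `R`-module `M`, the
base change `R' ⊗_R M` is a (finite) reflexive `R'`-module. -/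
theorem result (R R' : Type u) [CommRing R] [IsDomain R]
    [IsNoetherianRing R] [CommRing R'] [IsDomain R'] [IsNoetherianRing R'] [Algebra R R'] [Module.Flat R R']
    (M : Type u) [AddCommGroup M] [Module R M] [Module.Finite R M] [Module.IsReflexive R M] :
    Module.IsReflexive R' (R' ⊗[R] M) := by
  obtain ⟨n, F, hF, htf⟩ := Groth.Agent.S6873.exists_embedding_of_isReflexive (R := R) M
  let Q := (Fin n → R) ⧸ LinearMap.range F
  let g : (Fin n → R) →ₗ[R] Q := (LinearMap.range F).mkQ
  have hg : Function.Surjective g := Submodule.mkQ_surjective _
  have hex : Function.Exact F g := LinearMap.exact_map_mkQ_range F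
  have h1 : Function.Injective (F.baseChange R') :=
    Module.Flat.lTensor_preserves_injective_linearMap F hF
  have h2 : Function.Exact (F.baseChange R') (g.baseChange R') :=
    lTensor_exact R' hex hg
  have : Module.IsTorsionFree R' (R' ⊗[R] Q) := Groth.Agent.S6866.result R R' Q
  have : Module.IsReflexive R' (R' ⊗[R] (Fin n → R)) := inferInstance
  exact Groth.Agent.S6872.isReflexive_of_exact R' (F.baseChange R') (g.baseChange R') h1 h2

end Groth.Agent.S6874
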