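import Groth.Statements.S6877
import Groth.Agent.S6876
import Groth.Agent.S18701
import Groth.Agent.Lib.H47Reflexive
import Groth.Agent.Lib.H8CM
-- import your own Groth.Agent.* helpers here

set_option autoImplicit false
universe u
open CAlg

namespace Groth.Agent.S6877

open Groth.Agent.Lib.H47Reflexive

/-- `Hom(M,N)_p ≃ Hom(M_p, N_p)` as `R_p`-modules (`M` finite over Noetherian `R`). -/
noncomputable def homLocEquiv (R : Type u) [CommRing R] [IsNoetherianRing R]
    (M N : Type u) [AddCommGroup M] [Module R M] [Module.Finite R M] [AddCommGroup N] [Module R N]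
    (p : Ideal R) [p.IsPrime] :
    LocalizedModule p.primeCompl (M →ₗ[R] N) ≃ₗ[Localization.AtPrime p]
      (LocalizedModule p.primeCompl M →ₗ[Localization.AtPrime p] LocalizedModule p.primeCompl N) :=
  haveI : Module.FinitePresentation R M := Module.finitePresentation_of_finite R M
  (IsLocalizedModule.linearEquiv p.primeCompl
    (LocalizedModule.mkLinearMap p.primeCompl (M →ₗ[R] N))
    (IsLocalizedModule.mapExtendScalars p.primeCompl (LocalizedModule.mkLinearMap p.primeCompl M)
      (LocalizedModule.mkLinearMap p.primeCompl N)
      (Localization.AtPrime p))).extendScalarsOfIsLocalization p.primeCompl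
    (Localization.AtPrime p)

theorem support_linearMap_subset (R : Type u) [CommRing R] [IsNoetherianRing R]
    (M N : Type u) [AddCommGroup M] [Module R M] [Module.Finite R M] [AddCommGroup N] [Module R N]
    [Module.Finite R N] : Module.support R (M →ₗ[R] N) ⊆ Module.support R N := by
  have hfin : Module.Finite R (M →ₗ[R] N) := Module.IsNoetherian.finite R _
  rw [Module.support_eq_zeroLocus, Module.support_eq_zeroLocus]
  apply PrimeSpectrum.zeroLocus_anti_mono
  intro a ha
  rw [SetLike.mem_coe, Module.mem_annihilator] at ha ⊢
  intro φ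
  ext m
  rw [LinearMap.smul_apply, ha, LinearMap.zero_apply]

/-- Let `R` be a Noetherian ring and `M, N` finite `R`-modules. If `N` has `(S_1)`, resp. `(S_2)`, then
so does `Hom_R(M, N)`. (The published statement has a third part, over a domain: `N` torsion free
with `(S_2)` implies the same for `Hom_R(M, N)`; this row states parts one and two.) -/
theorem result (R : Type u) [CommRing R] [IsNoetherianRing R]
    (M N : Type u) [AddCommGroup M] [Module R M] [Module.Finite R M] [AddCommGroup N] [Module R N] [Module.Finite R N] :
    (LocCoh.HasSk 1 R N → LocCoh.HasSk 1 R (M →ₗ[R] N)) ∧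
    (LocCoh.HasSk 2 R N → LocCoh.HasSk 2 R (M →ₗ[R] N)) := by
  have key : ∀ (p : Ideal R) [p.IsPrime],
      (1 ≤ LocCoh.depth (Localization.AtPrime p) (LocalizedModule p.primeCompl N) →
        1 ≤ LocCoh.depth (Localization.AtPrime p) (LocalizedModule p.primeCompl (M →ₗ[R] N))) ∧
      (2 ≤ LocCoh.depth (Localization.AtPrime p) (LocalizedModule p.primeCompl N) →
        2 ≤ LocCoh.depth (Localization.AtPrime p) (LocalizedModule p.primeCompl (M →ₗ[R] N))) := by
    intro p _
    rw [Groth.Agent.Lib.H8CM.depth_eq_of_equiv (homLocEquiv R M N p)]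
    exact Groth.Agent.S6876.result (Localization.AtPrime p) (LocalizedModule p.primeCompl M)
      (LocalizedModule p.primeCompl N)
  have hs : ∀ (p : Ideal R) [p.IsPrime],
      Module.supportDim (Localization.AtPrime p) (LocalizedModule p.primeCompl (M →ₗ[R] N)) ≤
      Module.supportDim (Localization.AtPrime p) (LocalizedModule p.primeCompl N) := fun p _ =>
    Groth.Agent.S18701.supportDim_localized_le_of_support_subset p _ _
      (support_linearMap_subset R M N)
  refine ⟨fun hN p _ => arith1 _ _ _ _ (hs p) (key p).1 (hN p),
    fun hN p _ => arith2 _ _ _ _ (hs p) (key p).1 (key p).2 (hN p)⟩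

end Groth.Agent.S6877
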