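import Groth.Statements.S6878

set_option autoImplicit false
universe u
open CAlg

namespace Groth.Agent.S6878

/-- Let `R` be a Noetherian ring and `φ : M → N` a map of `R`-modules. Suppose that for every prime `𝔭`
of `R` either `M_𝔭 → N_𝔭` is injective or `𝔭` is not an associated prime of `M`. Then `φ` is
injective. -/
theorem result (R : Type u) [CommRing R]
    [IsNoetherianRing R] {M N : Type u} [AddCommGroup M] [Module R M] [AddCommGroup N] [Module R N] (φ : M →ₗ[R] N)
    (h : ∀ (p : Ideal R) [p.IsPrime],
      Function.Injective (LocalizedModule.map p.primeCompl φ) ∨ p ∉ associatedPrimes R M) :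
    Function.Injective φ := by
  rw [← LinearMap.ker_eq_bot, LinearMap.ker_eq_bot']
  intro x hx
  by_contra hx0
  obtain ⟨P, hP, hle⟩ := exists_le_isAssociatedPrime_of_isNoetherianRing R x hx0
  haveI : P.IsPrime := hP.isPrime
  rcases h P with hinj | hn
  · have h1 : LocalizedModule.map P.primeCompl φ (LocalizedModule.mk x 1) = 0 := by
      rw [LocalizedModule.map_mk, hx, LocalizedModule.zero_mk]
    have h2 : LocalizedModule.mk x (1 : P.primeCompl) = 0 := by
      apply hinj
      rw [h1, map_zero]
    rw [← LocalizedModule.zero_mk (1 : P.primeCompl), LocalizedModule.mk_eq] at h2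
    obtain ⟨u, hu⟩ := h2
    simp only [one_smul, smul_zero] at hu
    have hmem : (u : R) ∈ (⊥ : Submodule R M).colon {x} := by
      rw [Submodule.mem_colon_singleton, Submodule.mem_bot]
      exact hu
    exact u.2 (hle hmem)
  · exact hn hP

end Groth.Agent.S6878
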