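import Groth.Statements.S6881
import Mathlib

set_option autoImplicit false
universe u
open CAlg

namespace Groth.Agent.S6881

section Aux

open Module

/-- a `K`-valued linear map with integral values factors through `A` -/
theorem exists_linearMap_of_forall_mem {A K M : Type*} [CommRing A] [Field K] [Algebra A K]
    [IsFractionRing A K] [AddCommGroup M] [Module A M] (ψ : M →ₗ[A] K)
    (h : ∀ m, ψ m ∈ Set.range (algebraMap A K)) :
    ∃ g : M →ₗ[A] A, ∀ m, algebraMap A K (g m) = ψ m := by
  have hinj : Function.Injective (Algebra.linearMap A K) := IsFractionRing.injective A K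
  have h' : ∀ m, ψ m ∈ LinearMap.range (Algebra.linearMap A K) := fun m => by
    obtain ⟨a, ha⟩ := h m
    exact ⟨a, ha⟩
  refine ⟨(LinearEquiv.ofInjective (Algebra.linearMap A K) hinj).symm.toLinearMap ∘ₗ
    (ψ.codRestrict _ h'), fun m => ?_⟩
  have := (LinearEquiv.ofInjective (Algebra.linearMap A K) hinj).apply_symm_apply
    (ψ.codRestrict _ h' m)
  have h2 := congrArg Subtype.val this
  rw [LinearEquiv.ofInjective_apply] at h2
  exact h2

variable (A K L : Type u) [CommRing A] [IsDomain A] [Field K] [Algebra A K] [IsFractionRing A K]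
  [Field L] [Algebra K L] [FiniteDimensional K L] [Algebra A L] [IsScalarTower A K L]

/-- an integral `K`-basis `e` of `L`, a common denominator `d` and the functionals
`g i = d • (i-th coordinate)` on the integral closure -/
theorem exists_data [Module.Finite A ↥(integralClosure A L)] :
    ∃ (ι : Type u) (_ : Fintype ι) (e : Basis ι K L) (_ : ∀ i, e i ∈ integralClosure A L)
      (d : A) (_ : d ≠ 0) (g : ι → (↥(integralClosure A L) →ₗ[A] A)),
      ∀ i (b : ↥(integralClosure A L)),
        algebraMap A K (g i b) = algebraMap A K d * e.repr (b : L) i := by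
  classical
  obtain ⟨s, e, he⟩ := FiniteDimensional.exists_is_basis_integral A K L
  obtain ⟨G, hG⟩ := (Module.Finite.fg_top : (⊤ : Submodule A ↥(integralClosure A L)).FG)
  let T : Finset K := (Finset.univ ×ˢ G).image (fun p : ↥s × ↥(integralClosure A L) =>
    e.repr (p.2 : L) p.1)
  obtain ⟨⟨d, hd⟩, hdT⟩ := IsLocalization.exist_integer_multiples_of_finset (nonZeroDivisors A) T
  have hd0 : d ≠ 0 := nonZeroDivisors.ne_zero hd
  let ψ : ↥s → (↥(integralClosure A L) →ₗ[A] K) := fun i =>
    d • ((e.coord i).restrictScalars A ∘ₗ (integralClosure A L).val.toLinearMap)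
  have hψ : ∀ i b, ψ i b ∈ Set.range (algebraMap A K) := by
    intro i b
    have hle : Submodule.span A (G : Set ↥(integralClosure A L)) ≤
        (LinearMap.range (Algebra.linearMap A K)).comap (ψ i) := by
      rw [Submodule.span_le]
      intro g hg
      have hmem : e.repr (g : L) i ∈ T :=
        Finset.mem_image.mpr ⟨(i, g), Finset.mem_product.mpr ⟨Finset.mem_univ _, hg⟩, rfl⟩
      obtain ⟨a, ha⟩ := hdT _ hmem
      refine ⟨a, ?_⟩
      simpa [ψ] using ha
    have hb : b ∈ Submodule.span A (G : Set ↥(integralClosure A L)) := by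
      rw [hG]; trivial
    obtain ⟨a, ha⟩ := hle hb
    exact ⟨a, ha⟩
  choose g hg using fun i => exists_linearMap_of_forall_mem (ψ i) (hψ i)
  refine ⟨↥s, inferInstance, e, he, d, hd0, g, fun i b => ?_⟩
  rw [hg i b]
  simp [ψ, Algebra.smul_def]

include K in
theorem result' [IsNoetherianRing A] [Module.Finite A ↥(integralClosure A L)] :
    Module.IsReflexive A ↥(integralClosure A L) := by
  classical
  obtain ⟨ι, _, e, he, d, hd0, g, hg⟩ := exists_data A K L
  let eB : ι → ↥(integralClosure A L) := fun i => ⟨e i, he i⟩
  have hdK : algebraMap A K d ≠ 0 := fun h0 =>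
    hd0 ((IsFractionRing.injective A K) (h0.trans (map_zero _).symm))
  have hdL : algebraMap A L d ≠ 0 := by
    rw [IsScalarTower.algebraMap_apply A K L]
    exact fun h0 => hdK ((algebraMap K L).injective (h0.trans (map_zero _).symm))
  have hcoe : ∀ (c : ι → A), ((∑ i, c i • eB i : ↥(integralClosure A L)) : L) =
      ∑ i, c i • e i := by
    intro c
    rw [AddSubmonoidClass.coe_finset_sum]
    rfl
  -- key identity
  have key : ∀ b : ↥(integralClosure A L), d • b = ∑ i, g i b • eB i := by
    intro b
    apply Subtype.ext
    rw [hcoe]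
    change d • (b : L) = _
    conv_lhs => rw [← e.sum_repr (b : L)]
    rw [Finset.smul_sum]
    refine Finset.sum_congr rfl fun i _ => ?_
    rw [← algebraMap_smul K (g i b) (e i), hg, ← algebraMap_smul K d, smul_smul]
  -- (†)
  have dagger : ∀ (φ : Dual A (Dual A ↥(integralClosure A L)))
      (f : Dual A ↥(integralClosure A L)), d * φ f = ∑ i, f (eB i) * φ (g i) := by
    intro φ f
    have hf : d • f = ∑ i, f (eB i) • g i := by
      ext b
      rw [LinearMap.smul_apply, LinearMap.sum_apply, ← map_smul, key b, map_sum]
      refine Finset.sum_congr rfl fun i _ => ?_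
      rw [map_smul, LinearMap.smul_apply, smul_eq_mul, smul_eq_mul, mul_comm]
    have := congrArg φ hf
    rw [map_smul, map_sum, smul_eq_mul] at this
    rw [this]
    refine Finset.sum_congr rfl fun i _ => ?_
    rw [map_smul, smul_eq_mul]
  constructor
  constructor
  · -- injectivity
    rw [injective_iff_map_eq_zero]
    intro b hb
    have h0 : ∀ i, g i b = 0 := fun i => LinearMap.congr_fun hb (g i)
    have h1 : d • b = 0 := by
      rw [key b]
      exact Finset.sum_eq_zero fun i _ => by rw [h0 i, zero_smul]
    have h2 : algebraMap A L d * (b : L) = 0 := by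
      rw [← Algebra.smul_def]
      exact congrArg Subtype.val h1
    apply Subtype.ext
    exact (mul_eq_zero.mp h2).resolve_left hdL
  · -- surjectivity
    intro φ
    let Λ : Set (L →ₗ[K] K) :=
      {l | ∀ b : ↥(integralClosure A L), l (b : L) ∈ Set.range (algebraMap A K)}
    have hΛmul : ∀ l ∈ Λ, ∀ b : ↥(integralClosure A L),
        l ∘ₗ LinearMap.mulLeft K (b : L) ∈ Λ := by
      intro l hl b b'
      exact hl (b * b')
    let B' : Subalgebra A L :=
      { carrier := {y | ∀ l ∈ Λ, l y ∈ Set.range (algebraMap A K)}
        mul_mem' := by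
          intro x y hx hy l hl
          have hμ : l ∘ₗ LinearMap.mulLeft K x ∈ Λ := by
            intro b
            have := hx _ (hΛmul l hl b)
            simpa [mul_comm] using this
          exact hy _ hμ
        add_mem' := by
          intro x y hx hy l hl
          obtain ⟨a, ha⟩ := hx l hl
          obtain ⟨a', ha'⟩ := hy l hl
          exact ⟨a + a', by rw [map_add, map_add, ha, ha']⟩
        algebraMap_mem' := by
          intro a l hl
          exact hl ⟨algebraMap A L a, Subalgebra.algebraMap_mem _ a⟩ }
    have hcoord : ∀ i, (algebraMap A K d) • e.coord i ∈ Λ := by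
      intro i b
      exact ⟨g i b, by rw [hg]; rfl⟩
    have hB'fg : B'.toSubmodule.FG := by
      refine Submodule.FG.of_le (Submodule.fg_span (Set.finite_range
        (fun i => (algebraMap A K d)⁻¹ • e i))) ?_
      intro y hy
      have hy' : ∀ i, ∃ a : A, algebraMap A K a = algebraMap A K d * e.repr y i := fun i =>
        hy _ (hcoord i)
      choose a ha using hy'
      have : y = ∑ i, a i • ((algebraMap A K d)⁻¹ • e i) := by
        conv_lhs => rw [← e.sum_repr y]
        refine Finset.sum_congr rfl fun i _ => ?_
        rw [← algebraMap_smul K (a i), smul_smul, ha, mul_comm, ← mul_assoc,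
          inv_mul_cancel₀ hdK, one_mul]
      rw [this]
      exact Submodule.sum_mem _ fun i _ =>
        Submodule.smul_mem _ _ (Submodule.subset_span ⟨i, rfl⟩)
    let x : L := ∑ i, ((algebraMap A K d)⁻¹ * algebraMap A K (φ (g i))) • e i
    have hxB' : x ∈ B' := by
      intro l hl
      obtain ⟨f, hf⟩ := exists_linearMap_of_forall_mem
        (l.restrictScalars A ∘ₗ (integralClosure A L).val.toLinearMap) hl
      refine ⟨φ f, ?_⟩
      have h1 := congrArg (algebraMap A K) (dagger φ f)
      rw [map_mul, map_sum] at h1
      have h2 : l x = (algebraMap A K d)⁻¹ * ∑ i, algebraMap A K (f (eB i) * φ (g i)) := by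
        simp only [x, map_sum, map_smul, smul_eq_mul, Finset.mul_sum]
        refine Finset.sum_congr rfl fun i _ => ?_
        have : l (e i) = algebraMap A K (f (eB i)) := (hf (eB i)).symm
        rw [this, map_mul]
        ring
      rw [h2, ← h1, ← mul_assoc, inv_mul_cancel₀ hdK, one_mul]
    have hxB : x ∈ integralClosure A L := IsIntegral.of_mem_of_fg B' hB'fg x hxB'
    refine ⟨⟨x, hxB⟩, ?_⟩
    ext f
    change f ⟨x, hxB⟩ = φ f
    have hdx : d • (⟨x, hxB⟩ : ↥(integralClosure A L)) = ∑ i, φ (g i) • eB i := by
      apply Subtype.ext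
      rw [hcoe]
      change d • x = _
      simp only [x, Finset.smul_sum]
      refine Finset.sum_congr rfl fun i _ => ?_
      rw [← algebraMap_smul K d, smul_smul, ← mul_assoc, mul_inv_cancel₀ hdK, one_mul,
        algebraMap_smul]
    have h3 : d * f ⟨x, hxB⟩ = d * φ f := by
      rw [dagger φ f, ← smul_eq_mul, ← map_smul, hdx, map_sum]
      refine Finset.sum_congr rfl fun i _ => ?_
      rw [map_smul, smul_eq_mul, mul_comm]
    exact mul_left_cancel₀ hd0 h3

end Aux

/-- For `A` a Noetherian integrally closed domain with fraction field `K` and `L/K` a finite field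
extension, if the integral closure of `A` in `L` is a finitely generated `A`-module then it is a
reflexive `A`-module. -/
theorem result (A K L : Type u) [CommRing A] [IsDomain A] [IsNoetherianRing A]
    [IsIntegrallyClosed A] [Field K] [Algebra A K] [IsFractionRing A K] [Field L] [Algebra K L] [FiniteDimensional K L]
    [Algebra A L] [IsScalarTower A K L] [Module.Finite A ↥(integralClosure A L)] :
    Module.IsReflexive A ↥(integralClosure A L) := by
  exact result' A K L

end Groth.Agent.S6881
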