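import Groth.Statements.S6882
import Mathlib.Algebra.Module.PID
import Mathlib.LinearAlgebra.Dual.Lemmas
import Mathlib.Algebra.Module.Torsion.Basic

set_option autoImplicit false
universe u
open CAlg

namespace Groth.Agent.S6882

/-- For a finite module `M` over a discrete valuation ring `R`, the evaluation map from `M` to its
double dual `M**` is surjective. -/
theorem result (R : Type u) [CommRing R] [IsDomain R]
    [IsDiscreteValuationRing R] (M : Type u) [AddCommGroup M] [Module R M] [Module.Finite R M] :
    Function.Surjective (Module.Dual.eval R M) := by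
  classical
  let T : Submodule R M := Submodule.torsion R M
  let N := M ⧸ T
  let π : M →ₗ[R] N := T.mkQ
  have hπ : Function.Surjective π := T.mkQ_surjective
  have : Module.Free R N := Module.free_of_finite_type_torsion_free'
  have : Module.IsReflexive R N := inferInstance
  -- every functional on `M` factors through `N`
  have hfac : ∀ f : Module.Dual R M, ∃ g : Module.Dual R N, g.comp π = f := by
    intro f
    have hker : T ≤ LinearMap.ker f := by
      intro m hm
      obtain ⟨a, ha⟩ := (Submodule.mem_torsion_iff m).mp hm
      have h1 : (a : R) * f m = 0 := by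
        rw [← smul_eq_mul, ← map_smul]
        have : (a : R) • m = 0 := ha
        rw [this, map_zero]
      rcases mul_eq_zero.mp h1 with h | h
      · exact absurd h (nonZeroDivisors.ne_zero a.2)
      · exact h
    exact ⟨T.liftQ f hker, T.liftQ_mkQ f hker⟩
  intro ξ
  -- transport `ξ` to the double dual of `N`
  let ξN : Module.Dual R (Module.Dual R N) := ξ.comp π.dualMap
  obtain ⟨n, hn⟩ := (Module.bijective_dual_eval R N).2 ξN
  obtain ⟨m, rfl⟩ := hπ n
  refine ⟨m, ?_⟩
  ext f
  obtain ⟨g, rfl⟩ := hfac f
  have := congrArg (fun η => η g) hn
  have h2 : π.dualMap g = g.comp π := rfl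
  simpa [ξN, Module.Dual.eval_apply, h2] using this

end Groth.Agent.S6882
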