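import Groth.Statements.S6886
import Mathlib

set_option autoImplicit false
universe u
open TensorProduct
open CAlg

namespace Groth.Agent.S6886

open Polynomial in
/-- Every monic polynomial splits into linear factors over some finite free faithful extension. -/
theorem exists_splitting (n : ℕ) : ∀ (R : Type u) [CommRing R] (P : R[X]), P.Monic → P.natDegree = n →
    ∃ (R' : Type u) (_ : CommRing R') (_ : Algebra R R'), Module.Finite R R' ∧ Module.Free R R' ∧
      Function.Injective (algebraMap R R') ∧
      ∃ s : Multiset R', P.map (algebraMap R R') = (s.map fun a => X - C a).prod := by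
  induction n with
  | zero =>
    intro R _ P hP hdeg
    refine ⟨R, inferInstance, inferInstance, inferInstance, inferInstance, fun _ _ h => h, 0, ?_⟩
    have : P = 1 := hP.natDegree_eq_zero.mp hdeg
    simp [this]
  | succ n ih =>
    intro R _ P hP hdeg
    -- first adjoin a root
    have hfin₁ : Module.Finite R (AdjoinRoot P) := (AdjoinRoot.powerBasis' hP).finite
    have hfree₁ : Module.Free R (AdjoinRoot P) := Module.Free.of_basis (AdjoinRoot.powerBasis' hP).basis
    have hinj₁ : Function.Injective (algebraMap R (AdjoinRoot P)) := by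
      rw [injective_iff_map_eq_zero]
      intro r hr
      by_contra hne
      have h1 : AdjoinRoot.mk P (C r) = 0 := hr
      rw [AdjoinRoot.mk_eq_zero] at h1
      refine hP.not_dvd_of_natDegree_lt ?_ ?_ h1
      · simpa using hne
      · simp [hdeg]
    have hroot : IsRoot (P.map (algebraMap R (AdjoinRoot P))) (AdjoinRoot.root P) :=
      AdjoinRoot.isRoot_root P
    obtain ⟨Q, hQ⟩ : ∃ Q, (X - C (AdjoinRoot.root P)) * Q = P.map (algebraMap R (AdjoinRoot P)) :=
      ⟨_, mul_divByMonic_eq_iff_isRoot.mpr hroot⟩
    have hPm : (P.map (algebraMap R (AdjoinRoot P))).Monic := hP.map _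
    haveI : Nontrivial R := by
      by_contra h
      rw [not_nontrivial_iff_subsingleton] at h
      have : P.natDegree = 0 := by rw [Subsingleton.elim P 0]; simp
      omega
    haveI : Nontrivial (AdjoinRoot P) := hinj₁.nontrivial
    have hQm : Q.Monic := (monic_X_sub_C _).of_mul_monic_left (hQ ▸ hPm)
    have hQd : Q.natDegree = n := by
      have h2 : (P.map (algebraMap R (AdjoinRoot P))).natDegree = n + 1 := by
        rw [hP.natDegree_map, hdeg]
      rw [← hQ, (monic_X_sub_C _).natDegree_mul hQm, natDegree_X_sub_C] at h2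
      omega
    obtain ⟨R₂, _, _, hfin₂, hfree₂, hinj₂, s, hs⟩ := ih (AdjoinRoot P) Q hQm hQd
    letI : Algebra R R₂ := ((algebraMap (AdjoinRoot P) R₂).comp (algebraMap R (AdjoinRoot P))).toAlgebra
    haveI : IsScalarTower R (AdjoinRoot P) R₂ := IsScalarTower.of_algebraMap_eq (fun _ => rfl)
    refine ⟨R₂, inferInstance, inferInstance, Module.Finite.trans (AdjoinRoot P) R₂,
      Module.Free.trans (R := R) (S := AdjoinRoot P) (M := R₂), hinj₂.comp hinj₁,
      algebraMap (AdjoinRoot P) R₂ (AdjoinRoot.root P) ::ₘ s, ?_⟩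
    have : P.map (algebraMap R R₂) =
        (P.map (algebraMap R (AdjoinRoot P))).map (algebraMap (AdjoinRoot P) R₂) := by
      rw [Polynomial.map_map]; rfl
    rw [this, ← hQ, Polynomial.map_mul, hs]
    simp

open Polynomial in
/-- A finite family of monic polynomials splits over a common finite free faithful extension. -/
theorem exists_splitting_family (n : ℕ) : ∀ (R : Type u) [CommRing R] (P : Fin n → R[X]),
    (∀ i, (P i).Monic) →
    ∃ (R' : Type u) (_ : CommRing R') (_ : Algebra R R'), Module.Finite R R' ∧ Module.Free R R' ∧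
      Function.Injective (algebraMap R R') ∧
      ∀ i, ∃ s : Multiset R', (P i).map (algebraMap R R') = (s.map fun a => X - C a).prod := by
  induction n with
  | zero =>
    intro R _ P hP
    exact ⟨R, inferInstance, inferInstance, inferInstance, inferInstance, fun _ _ h => h,
      fun i => i.elim0⟩
  | succ n ih =>
    intro R _ P hP
    obtain ⟨R₁, _, _, hfin₁, hfree₁, hinj₁, s₀, hs₀⟩ :=
      exists_splitting _ R (P 0) (hP 0) rfl
    obtain ⟨R₂, _, _, hfin₂, hfree₂, hinj₂, hs⟩ :=
      ih R₁ (fun i => (P i.succ).map (algebraMap R R₁)) (fun i => (hP _).map _)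
    letI : Algebra R R₂ := ((algebraMap R₁ R₂).comp (algebraMap R R₁)).toAlgebra
    haveI : IsScalarTower R R₁ R₂ := IsScalarTower.of_algebraMap_eq (fun _ => rfl)
    have key : ∀ Q : R[X], Q.map (algebraMap R R₂) =
        (Q.map (algebraMap R R₁)).map (algebraMap R₁ R₂) := by
      intro Q; rw [Polynomial.map_map]; rfl
    refine ⟨R₂, inferInstance, inferInstance, Module.Finite.trans R₁ R₂,
      Module.Free.trans (R := R) (S := R₁) (M := R₂), hinj₂.comp hinj₁, ?_⟩
    intro i
    refine Fin.cases ?_ (fun i => ?_) i
    · refine ⟨s₀.map (algebraMap R₁ R₂), ?_⟩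
      rw [key, hs₀, Polynomial.map_multiset_prod, Multiset.map_map, Multiset.map_map]
      congr 1
      refine Multiset.map_congr rfl (fun a _ => ?_)
      simp
    · obtain ⟨s, hs⟩ := hs i
      exact ⟨s, by rw [key, hs]⟩

theorem result (R S : Type u) [CommRing R] [CommRing S] [Algebra R S]
    [Module.Finite R S] :
    ∃ (R' : Type u) (_ : CommRing R') (_ : Algebra R R'), Module.Finite R R' ∧ Module.Free R R' ∧
      Function.Injective (algebraMap R R') ∧
      ∃ (n : ℕ) (d : Fin n → ℕ) (α : (i : Fin n) → Fin (d i) → R')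
        (φ : MvPolynomial (Fin n) R' →ₐ[R'] R' ⊗[R] S), Function.Surjective φ ∧
          ∀ i, φ (∏ j, (MvPolynomial.X i - MvPolynomial.C (α i j))) = 0 := by
  obtain ⟨n, s, hs⟩ := Module.Finite.exists_fin (R := R) (M := S)
  have hint : ∀ i, ∃ p : Polynomial R, p.Monic ∧ Polynomial.aeval (s i) p = 0 := fun i =>
    Algebra.IsIntegral.isIntegral (R := R) (s i)
  choose P hPm hP0 using hint
  obtain ⟨R', _, _, hfin, hfree, hinj, hsplit⟩ := exists_splitting_family n R P hPm
  choose ms hms using hsplit
  refine ⟨R', inferInstance, inferInstance, hfin, hfree, hinj, n, fun i => (ms i).toList.length,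
    fun i j => (ms i).toList.get j,
    MvPolynomial.aeval (fun i => (1 : R') ⊗ₜ[R] s i), ?_, ?_⟩
  · intro x
    induction x using TensorProduct.induction_on with
    | zero => exact ⟨0, map_zero _⟩
    | add x y hx hy =>
      obtain ⟨a, rfl⟩ := hx
      obtain ⟨b, rfl⟩ := hy
      exact ⟨a + b, map_add _ _ _⟩
    | tmul r x =>
      have hx : x ∈ Submodule.span R (Set.range s) := by rw [hs]; trivial
      rw [Submodule.mem_span_range_iff_exists_fun] at hx
      obtain ⟨c, rfl⟩ := hx
      refine ⟨∑ i, MvPolynomial.C (c i • r) * MvPolynomial.X i, ?_⟩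
      rw [map_sum, TensorProduct.tmul_sum]
      refine Finset.sum_congr rfl (fun i _ => ?_)
      rw [map_mul, MvPolynomial.aeval_C, MvPolynomial.aeval_X,
        Algebra.TensorProduct.algebraMap_apply, Algebra.TensorProduct.tmul_mul_tmul]
      simp [TensorProduct.smul_tmul]
  · intro i
    set t : R' ⊗[R] S := (1 : R') ⊗ₜ[R] s i with ht
    have h1 : Polynomial.aeval t ((P i).map (algebraMap R R')) = 0 := by
      rw [Polynomial.aeval_map_algebraMap]
      have : t = (Algebra.TensorProduct.includeRight : S →ₐ[R] R' ⊗[R] S) (s i) := rfl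
      rw [this, Polynomial.aeval_algHom_apply, hP0, map_zero]
    rw [hms i, ← Multiset.coe_toList (ms i), Multiset.map_coe, Multiset.prod_coe,
      map_list_prod, List.map_map] at h1
    rw [map_prod]
    simp only [map_sub, MvPolynomial.aeval_X, MvPolynomial.aeval_C]
    rw [← List.prod_ofFn]
    convert h1 using 2
    refine List.ext_get (by simp) (fun k h1 h2 => ?_)
    simp [ht]

end Groth.Agent.S6886
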