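import Groth.Statements.S6887
import Mathlib.LinearAlgebra.Matrix.Charpoly.LinearMap
import Mathlib.RingTheory.Nakayama
import Mathlib.RingTheory.Finiteness.Basic
import Mathlib.RingTheory.Finiteness.Cardinality

set_option autoImplicit false
universe u
open Polynomial
open CAlg

namespace Groth.Agent.S6887

/-- Cayley–Hamilton for an element acting on a finitely generated algebra: if the matrix `T`
represents multiplication by `b` on generators `g`, then `charpoly T` kills `b`. -/
lemma aeval_charpoly_eq_zero {A B : Type*} [CommRing A] [CommRing B] [Algebra A B]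
    {ι : Type*} [Fintype ι] [DecidableEq ι] (g : ι → B)
    (hg : Submodule.span A (Set.range g) = ⊤) (b : B) (T : Matrix ι ι A)
    (hT : T.Represents g (Algebra.lmul A B b)) :
    Polynomial.aeval b T.charpoly = 0 := by
  let TT : Matrix.isRepresentation A g := ⟨T, _, hT⟩
  have h1 : Matrix.isRepresentation.toEnd A g hg TT = Algebra.lmul A B b :=
    Matrix.isRepresentation.eq_toEnd_of_represents A g hg TT hT
  have h2 : Polynomial.aeval TT T.charpoly = 0 := by
    ext1
    rw [Polynomial.aeval_subalgebra_coe, Matrix.aeval_self_charpoly, Subalgebra.coe_zero]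
  have h3 : Polynomial.aeval (Algebra.lmul A B b) T.charpoly = 0 := by
    rw [← h1, Polynomial.aeval_algHom_apply, h2, map_zero]
  rw [Polynomial.aeval_algHom_apply] at h3
  have := LinearMap.congr_fun h3 1
  simpa using this

/-- Let `(A, I)` be a Zariski pair (`I` inside the Jacobson radical) and `A → B` a finite ring map.
Suppose `B/IB ≅ B₁ × B₂` as `A`-algebras with `A → B₁` surjective, and `b ∈ B` maps to `(1, 0)`.
Then there is a monic `f ∈ A[x]` with `f(b) = 0` whose reduction modulo `I` is `(x - 1) x^d` for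
some `d ≥ 1`. -/
theorem result (A B : Type u) [CommRing A] [CommRing B]
    [Algebra A B] [Module.Finite A B] (I : Ideal A) (hI : I ≤ Ideal.jacobson (⊥ : Ideal A))
    (B₁ B₂ : Type u) [CommRing B₁] [CommRing B₂] [Algebra A B₁] [Algebra A B₂]
    (e : (B ⧸ I.map (algebraMap A B)) ≃ₐ[A] B₁ × B₂) (h₁ : Function.Surjective (algebraMap A B₁)) (b : B)
    (hb : e (Ideal.Quotient.mk (I.map (algebraMap A B)) b) = (1, 0)) :
    ∃ (f : A[X]) (d : ℕ), f.Monic ∧ Polynomial.aeval b f = 0 ∧ 1 ≤ d ∧
      f.map (Ideal.Quotient.mk I) = (X - 1) * X ^ d := by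
  classical
  -- the A-linear surjection `π : B → B₁ × B₂`
  let π : B →ₐ[A] B₁ × B₂ := e.toAlgHom.comp (Ideal.Quotient.mkₐ A (I.map (algebraMap A B)))
  have hπ : Function.Surjective π := e.surjective.comp Ideal.Quotient.mk_surjective
  have hπb : π b = (1, 0) := hb
  have hker : ∀ x : B, π x = 0 → x ∈ I • (⊤ : Submodule A B) := by
    intro x hx
    have : Ideal.Quotient.mk (I.map (algebraMap A B)) x = 0 := e.injective (by simpa [π] using hx)
    rw [Ideal.Quotient.eq_zero_iff_mem] at this
    rw [Ideal.smul_top_eq_map]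
    exact this
  -- `B₂` is a finite `A`-module
  let p₂ : B →ₗ[A] B₂ := (LinearMap.snd A B₁ B₂) ∘ₗ π.toLinearMap
  have hp₂ : Function.Surjective p₂ := Prod.snd_surjective.comp hπ
  have : Module.Finite A B₂ := Module.Finite.of_surjective p₂ hp₂
  obtain ⟨m0, y0, hy0⟩ := Module.Finite.exists_fin (R := A) (M := B₂)
  obtain ⟨m, y, hm, hy⟩ : ∃ (m : ℕ) (y : Fin m → B₂), 1 ≤ m ∧ Submodule.span A (Set.range y) = ⊤ := by
    refine ⟨m0 + 1, Fin.cons 0 y0, by omega, ?_⟩
    rw [eq_top_iff, ← hy0]
    apply Submodule.span_mono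
    rintro _ ⟨j, rfl⟩
    exact ⟨j.succ, by simp⟩
  choose c hc using fun j : Fin m => hπ (0, y j)
  let g : Fin (m + 1) → B := Fin.cons b c
  have hg0 : g 0 = b := rfl
  have hgs : ∀ j : Fin m, g j.succ = c j := fun j => rfl
  -- the generators span `B` (Nakayama)
  have hspan : Submodule.span A (Set.range g) = ⊤ := by
    rw [eq_top_iff]
    refine Submodule.le_of_le_smul_of_le_jacobson_bot Module.Finite.fg_top hI ?_
    intro x _
    obtain ⟨a, ha⟩ := h₁ (π x).1
    have hx2 : (π x).2 ∈ Submodule.span A (Set.range y) := by rw [hy]; trivial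
    obtain ⟨w, hw⟩ := (Submodule.mem_span_range_iff_exists_fun A).1 hx2
    have hmem : a • b + ∑ j, w j • c j ∈ Submodule.span A (Set.range g) := by
      refine Submodule.add_mem _ (Submodule.smul_mem _ _ (Submodule.subset_span ⟨0, hg0⟩))
        (Submodule.sum_mem _ fun j _ => Submodule.smul_mem _ _ (Submodule.subset_span ⟨j.succ, hgs j⟩))
    have hdiff : π (x - (a • b + ∑ j, w j • c j)) = 0 := by
      rw [map_sub, map_add, map_smul, map_sum, hπb]
      simp only [map_smul, hc]
      ext
      · simp [Prod.fst_sum, Algebra.smul_def, ha]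
      · simp [Prod.snd_sum, hw]
    have := hker _ hdiff
    rw [Submodule.mem_sup]
    exact ⟨_, hmem, _, this, by abel⟩
  -- the matrix of multiplication by `b`
  have hcol : ∀ j : Fin (m + 1), ∃ a : Fin (m + 1) → A, (∀ i, a i ∈ I) ∧
      ∑ i, a i • g i = b * g j - (if j = 0 then b else 0) := by
    intro j
    have hmem : b * g j - (if j = 0 then b else 0) ∈ I • Submodule.span A (Set.range g) := by
      rw [hspan]
      apply hker
      refine Fin.cases ?_ (fun k => ?_) j
      · simp [hg0, hπb]
      · simp [hgs, hπb, hc, Fin.succ_ne_zero]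
    obtain ⟨a, ha, hsum⟩ := (Submodule.mem_ideal_smul_span_iff_exists_sum I g _).1 hmem
    refine ⟨a, ha, ?_⟩
    rw [← hsum, Finsupp.sum_fintype _ _ (by simp)]
  choose a haI ha using hcol
  let T : Matrix (Fin (m + 1)) (Fin (m + 1)) A :=
    fun i j => a j i + (if i = 0 ∧ j = 0 then 1 else 0)
  have hT : T.Represents g (Algebra.lmul A B b) := by
    rw [Matrix.represents_iff']
    intro j
    simp only [T, add_smul, Finset.sum_add_distrib, ha j]
    rw [Finset.sum_eq_single (0 : Fin (m + 1))]
    · by_cases hj : j = 0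
      · simp [hj, hg0]
      · simp [hj]
    · intro i _ hi
      simp [hi]
    · simp
  refine ⟨T.charpoly, m, T.charpoly_monic, aeval_charpoly_eq_zero g hspan b T hT, hm, ?_⟩
  rw [← Matrix.charpoly_map]
  have hTm : T.map (Ideal.Quotient.mk I) = Matrix.diagonal (fun i => if i = 0 then 1 else 0) := by
    ext i j
    simp only [T, Matrix.map_apply, map_add, Matrix.diagonal_apply]
    rw [Ideal.Quotient.eq_zero_iff_mem.2 (haI j i), zero_add]
    by_cases hij : i = j
    · subst hij
      by_cases hi : i = 0 <;> simp [hi]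
    · by_cases hi : i = 0
      · have : ¬ j = 0 := fun h => hij (hi.trans h.symm)
        simp [hij, this]
      · simp [hij, hi]
  rw [hTm, Matrix.charpoly_diagonal, Fin.prod_univ_succ]
  simp [Fin.succ_ne_zero]

end Groth.Agent.S6887
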