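import Groth.Statements.S6888
import Mathlib.Algebra.Polynomial.Derivative
import Mathlib.Algebra.Polynomial.Eval.Defs
import Mathlib.Tactic.LinearCombination
import Mathlib.Tactic.Ring
import Mathlib.Tactic.Abel

set_option autoImplicit false
universe u
open Polynomial
open CAlg

namespace Groth.Agent.S6888

variable {A : Type u} [CommRing A]

/-- An idempotent in the Jacobson radical is zero. -/
lemma idem_eq_zero {I : Ideal A} (hI : I ≤ Ideal.jacobson (⊥ : Ideal A)) {e : A}
    (he : IsIdempotentElem e) (heI : e ∈ I) : e = 0 := by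
  have h1 : IsUnit (e * (-1) + 1) := (Ideal.mem_jacobson_bot.mp (hI heI)) (-1)
  have h2 : e * (e * (-1) + 1) = 0 := by
    have : e * e = e := he
    linear_combination -this
  exact (IsUnit.mul_left_eq_zero h1).mp h2

lemma exists_fin_prod (f : A[X]) (s : Multiset A) (hs : f = (s.map fun a => X - C a).prod) :
    ∃ (n : ℕ) (a : Fin n → A), f = ∏ i, (X - C (a i)) := by
  refine ⟨s.toList.length, fun i => s.toList.get i, ?_⟩
  rw [hs]
  conv_lhs => rw [← Multiset.coe_toList s]
  rw [Multiset.map_coe, Multiset.prod_coe, ← List.prod_ofFn]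
  congr 1
  refine List.ext_get (by simp) (fun k h1 h2 => ?_)
  simp


/-- Let `A` be absolutely integrally closed (every monic polynomial over `A` is a product of linear
factors) and `I ⊆ A` an ideal contained in the Jacobson radical such that `A → A/I` is surjective
(hence bijective) on idempotents. Then `(A, I)` is a henselian pair. (The published statement also
records the converse, which holds for every henselian pair; this row states the sufficiency only.) -/
theorem result (A : Type u) [CommRing A]
    (hA : ∀ f : A[X], f.Monic → ∃ s : Multiset A, f = (s.map fun a => X - C a).prod) (I : Ideal A)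
    (hI : I ≤ Ideal.jacobson (⊥ : Ideal A))
    (hidem : ∀ e : A ⧸ I, IsIdempotentElem e → ∃ e' : A, IsIdempotentElem e' ∧ Ideal.Quotient.mk I e' = e) :
    HenselianRing A I := by
  refine ⟨hI, ?_⟩
  intro f hf a₀ hfa₀ hder
  obtain ⟨s, hs⟩ := hA f hf
  obtain ⟨n, a, rfl⟩ := exists_fin_prod f s hs
  clear hs s
  set π := Ideal.Quotient.mk I with hπ
  -- the elements `c i = π (a₀ - a i)`
  let c : Fin n → A ⧸ I := fun i => π (a₀ - a i)
  let p : Fin n → A ⧸ I := fun j => ∏ i ∈ Finset.univ.erase j, c i
  have hprod : ∏ i, c i = 0 := by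
    have : (∏ i, (X - C (a i))).eval a₀ = ∏ i, (a₀ - a i) := by
      rw [eval_prod]; simp
    rw [this] at hfa₀
    have h2 : π (∏ i, (a₀ - a i)) = 0 := Ideal.Quotient.eq_zero_iff_mem.mpr hfa₀
    rw [map_prod] at h2
    exact h2
  have hcp : ∀ j, c j * p j = 0 := by
    intro j
    rw [Finset.mul_prod_erase Finset.univ c (Finset.mem_univ j)]
    exact hprod
  have hpp : ∀ j k, j ≠ k → p j * p k = 0 := by
    intro j k hjk
    have hk : k ∈ Finset.univ.erase j := Finset.mem_erase.mpr ⟨hjk.symm, Finset.mem_univ k⟩
    have : p j = c k * ∏ i ∈ (Finset.univ.erase j).erase k, c i :=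
      (Finset.mul_prod_erase _ c hk).symm
    rw [this, mul_comm (c k), mul_assoc, hcp k, mul_zero]
  -- the derivative
  have hu : π ((∏ i, (X - C (a i))).derivative.eval a₀) = ∑ j, p j := by
    rw [derivative_prod_finset]
    simp only [derivative_sub, derivative_X, derivative_C, sub_zero, mul_one]
    rw [eval_finsetSum, map_sum]
    refine Finset.sum_congr rfl (fun j _ => ?_)
    rw [eval_prod, map_prod]
    refine Finset.prod_congr rfl (fun i _ => ?_)
    simp [c]
  rw [hu] at hder
  obtain ⟨uinv, huinv⟩ := hder.exists_right_inv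
  let e : Fin n → A ⧸ I := fun j => p j * uinv
  have hee : ∀ j k, j ≠ k → e j * e k = 0 := by
    intro j k hjk
    have := hpp j k hjk
    calc e j * e k = (p j * p k) * (uinv * uinv) := by simp only [e]; ring
      _ = 0 := by rw [this, zero_mul]
  have hesum : ∑ j, e j = 1 := by
    simp only [e]
    rw [← Finset.sum_mul, huinv]
  have heidem : ∀ j, IsIdempotentElem (e j) := by
    intro j
    have : e j = e j * ∑ k, e k := by rw [hesum, mul_one]
    rw [Finset.mul_sum, Finset.sum_eq_single j (fun k _ hk => hee j k hk.symm)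
      (fun h => absurd (Finset.mem_univ j) h)] at this
    exact this.symm
  have hce : ∀ j, c j * e j = 0 := by
    intro j
    simp only [e]
    rw [← mul_assoc, hcp j, zero_mul]
  -- lift the idempotents
  choose E hEidem hEπ using fun j => hidem (e j) (heidem j)
  have hEE : ∀ j k, j ≠ k → E j * E k = 0 := by
    intro j k hjk
    apply idem_eq_zero hI ((hEidem j).mul (hEidem k))
    have : π (E j * E k) = 0 := by rw [map_mul, hEπ, hEπ, hee j k hjk]
    exact Ideal.Quotient.eq_zero_iff_mem.mp this
  have hEsum_idem : IsIdempotentElem (∑ j, E j) := by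
    unfold IsIdempotentElem
    rw [Finset.sum_mul]
    refine Finset.sum_congr rfl (fun j _ => ?_)
    rw [Finset.mul_sum, Finset.sum_eq_single j (fun k _ hk => hEE j k hk.symm)
      (fun h => absurd (Finset.mem_univ j) h)]
    exact hEidem j
  have hEsum : ∑ j, E j = 1 := by
    have h1 : IsIdempotentElem (1 - ∑ j, E j) := hEsum_idem.one_sub
    have h2 : (1 - ∑ j, E j) ∈ I := by
      have : π (1 - ∑ j, E j) = 0 := by
        rw [map_sub, map_one, map_sum]
        simp only [hEπ, hesum, sub_self]
      exact Ideal.Quotient.eq_zero_iff_mem.mp this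
    have := idem_eq_zero hI h1 h2
    exact (sub_eq_zero.mp this).symm
  -- the root
  refine ⟨∑ j, E j * a j, ?_, ?_⟩
  · -- is a root
    set r := ∑ j, E j * a j with hr
    have hEr : ∀ j, E j * r = E j * a j := by
      intro j
      rw [hr, Finset.mul_sum, Finset.sum_eq_single j]
      · rw [← mul_assoc, (hEidem j).eq]
      · intro k _ hk
        rw [← mul_assoc, hEE j k hk.symm, zero_mul]
      · intro h; exact absurd (Finset.mem_univ j) h
    have hev : (∏ i, (X - C (a i))).eval r = ∏ i, (r - a i) := by
      rw [eval_prod]; simp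
    have hEz : ∀ j, E j * ∏ i, (r - a i) = 0 := by
      intro j
      rw [← Finset.mul_prod_erase Finset.univ (fun i => r - a i) (Finset.mem_univ j), ← mul_assoc,
        mul_sub, hEr j, sub_self, zero_mul]
    change (∏ i, (X - C (a i))).eval r = 0
    rw [hev, ← one_mul (∏ i, (r - a i)), ← hEsum, Finset.sum_mul]
    exact Finset.sum_eq_zero (fun j _ => hEz j)
  · -- congruent to a₀
    have : π (∑ j, E j * a j - a₀) = 0 := by
      rw [map_sub, map_sum]
      have h1 : π a₀ = ∑ j, e j * π a₀ := by rw [← Finset.sum_mul, hesum, one_mul]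
      rw [h1, ← Finset.sum_sub_distrib]
      refine Finset.sum_eq_zero (fun j _ => ?_)
      rw [map_mul, hEπ, ← mul_sub, ← neg_sub, ← map_sub, mul_neg, mul_comm]
      change -(c j * e j) = 0
      rw [hce j, neg_zero]
    exact Ideal.Quotient.eq_zero_iff_mem.mp this

end Groth.Agent.S6888
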