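import Groth.Statements.S6897
import Groth.Agent.Lib.Fitting82R
import Groth.Agent.Lib.Fitting82L
import Groth.Agent.Lib.Fitting82M
import Groth.Agent.Lib.Fitting82N
import Groth.Agent.Lib.Fitting82G
import Mathlib.RingTheory.LocalProperties.Projective
import Mathlib.RingTheory.LocalProperties.FinitePresentation
import Mathlib.RingTheory.Flat.TorsionFree
import Mathlib.Algebra.Category.ModuleCat.Projective
import Mathlib.CategoryTheory.Abelian.Projective.Dimension
import Mathlib.Algebra.Homology.ShortComplex.ModuleCat

set_option autoImplicit false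
universe u
open CategoryTheory
open Fitt

namespace Groth.Agent.S6897

open Groth.Agent.Lib.Fitting82

variable {R : Type u} [CommRing R]

/-- A finite module whose Fitting ideals are `0` below `k` and `R` from `k` on is projective. -/
theorem projective_of_ideal (N : Type u) [AddCommGroup N] [Module R N] [Module.Finite R N] (k : ℕ)
    (hbot : ∀ j, j < k → Fitt.ideal R N j = ⊥) (htop : ∀ j, k ≤ j → Fitt.ideal R N j = ⊤) :
    Module.Projective R N := by
  have h4 := (locallyFree_rank_iff (M := N) k).2 ⟨hbot, htop⟩
  have hfp : Module.FinitePresentation R N := by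
    let s : Set R := {g | Module.Free (Localization.Away g) (LocalizedModule (Submonoid.powers g) N)}
    have hs : Ideal.span s = ⊤ := by
      by_contra hne
      obtain ⟨m, hmax, hle⟩ := Ideal.exists_le_maximal _ hne
      haveI := hmax.isPrime
      obtain ⟨g, hgm, hfree, -⟩ := h4 m
      exact hgm (hle (Ideal.subset_span hfree))
    apply Module.FinitePresentation.of_localizationSpan s hs
    intro g
    haveI : Module.Free (Localization.Away g.1) (LocalizedModule (Submonoid.powers g.1) N) := g.2
    exact Module.finitePresentation_of_projective _ _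
  apply Module.projective_of_localization_maximal
  intro I hI
  haveI := hI.isPrime
  have hfree : Module.Free (Localization.AtPrime I) (LocalizedModule I.primeCompl N) := by
    apply free_of_ideal_eq_bot_of_eq_top (LocalizedModule I.primeCompl N) k
    · rcases Nat.eq_zero_or_pos k with h | h
      · exact Or.inl h
      · right
        rw [ideal_localizedModule, hbot (k - 1) (by omega), Ideal.map_bot]
    · rw [ideal_localizedModule, htop k le_rfl, Ideal.map_top]
  infer_instance


/-- Let `M` be a finitely presented `R`-module and `k ≥ 0` such that `Fit_k(M) = (f)` for a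
nonzerodivisor `f` and `Fit_{k-1}(M) = 0` (no condition when `k = 0`). Let `M' = Ker(f : M → M)`.
Then: the projective dimension of `M` is at most `1`; `M'` coincides with the `f`-power torsion of
`M` and its projective dimension is at most `1`; every prime of `R` has a basic open neighbourhood
over which `M/M'` is free of rank `k`; and `M ≅ M/M' ⊕ M'` (existence of an isomorphism). -/
theorem result {R : Type u} [CommRing R] (M : Type u)
    [AddCommGroup M] [Module R M] [Module.FinitePresentation R M] (k : ℕ) (f : R) (hf0 : f ∈ nonZeroDivisors R)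
    (hf : Fitt.ideal R M k = Ideal.span {f}) (hk : k = 0 ∨ Fitt.ideal R M (k - 1) = ⊥) :
    HasProjectiveDimensionLT (ModuleCat.of R M) 2 ∧
    (∀ x : M, (∃ n : ℕ, f ^ n • x = 0) ↔ f • x = 0) ∧
    HasProjectiveDimensionLT (ModuleCat.of R ↥(LinearMap.ker (f • (LinearMap.id : M →ₗ[R] M)))) 2 ∧
    (∀ (p : Ideal R) [p.IsPrime], ∃ g : R, g ∉ p ∧
      Module.Free (Localization.Away g)
          (LocalizedModule (Submonoid.powers g) (M ⧸ LinearMap.ker (f • (LinearMap.id : M →ₗ[R] M)))) ∧
        Module.finrank (Localization.Away g)
          (LocalizedModule (Submonoid.powers g) (M ⧸ LinearMap.ker (f • (LinearMap.id : M →ₗ[R] M)))) = k) ∧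
    Nonempty (M ≃ₗ[R] (M ⧸ LinearMap.ker (f • (LinearMap.id : M →ₗ[R] M))) ×
      ↥(LinearMap.ker (f • (LinearMap.id : M →ₗ[R] M)))) := by
  classical
  obtain ⟨n, x, hx⟩ := Module.Finite.exists_fin (R := R) (M := M)
  have hfitD : (D k x : Ideal R) = Ideal.span {f} := by rw [← ideal_eq_D k x hx]; exact hf
  have hbotD : k = 0 ∨ (D (k - 1) x : Ideal R) = ⊥ :=
    hk.imp id (fun h => by rw [← ideal_eq_D (k - 1) x hx]; exact h)
  have hKproj : Module.Projective R (rel (R := R) x) := rel_projective k x f hf0 hfitD hbotD
  set M' := LinearMap.ker (f • (LinearMap.id : M →ₗ[R] M)) with hM'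
  have hmemM' : ∀ m : M, m ∈ M' ↔ f • m = 0 := by
    intro m
    rw [hM', LinearMap.mem_ker, LinearMap.smul_apply, LinearMap.id_apply]
  -- Fitting ideals of the quotient
  have hbot : ∀ j, j < k → Fitt.ideal R (M ⧸ M') j = ⊥ := by
    intro j hj
    apply ideal_quotient_eq_bot_of_torsion j f hf0 M'
    · intro t ht
      exact ⟨1, by rw [pow_one]; exact (hmemM' t).mp ht⟩
    · rcases hk with h | h
      · omega
      · rw [eq_bot_iff, ← h]
        exact ideal_mono_index (by omega)
  have htop : ∀ j, k ≤ j → Fitt.ideal R (M ⧸ M') j = ⊤ := by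
    intro j hj
    rw [eq_top_iff, ← ideal_quotient_eq_top_of_ker_smul_le k f hf M' le_rfl]
    exact ideal_mono_index hj
  have h4 := (locallyFree_rank_iff (M := M ⧸ M') k).2 ⟨hbot, htop⟩
  have hNproj : Module.Projective R (M ⧸ M') := projective_of_ideal (M ⧸ M') k hbot htop
  -- a section of the quotient map
  obtain ⟨s, hs⟩ := Module.projective_lifting_property M'.mkQ LinearMap.id
    (Submodule.mkQ_surjective M')
  have hs' : ∀ y, M'.mkQ (s y) = y := fun y => LinearMap.congr_fun hs y
  -- the retraction onto `M'`
  let r : M →ₗ[R] M' :=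
    LinearMap.codRestrict M' (LinearMap.id - s.comp M'.mkQ) (by
      intro m
      rw [← Submodule.Quotient.mk_eq_zero, ← Submodule.mkQ_apply, LinearMap.sub_apply,
        LinearMap.id_apply, LinearMap.comp_apply, map_sub, hs', sub_self])
  have hr : ∀ m : M, ((r m : M') : M) = m - s (M'.mkQ m) := fun m => rfl
  have hri : ∀ z : M', r (z : M) = z := by
    intro z
    apply Subtype.ext
    rw [hr, Submodule.mkQ_apply, (Submodule.Quotient.mk_eq_zero M').mpr z.2, map_zero, sub_zero]
  -- (5)
  let e : M ≃ₗ[R] (M ⧸ M') × M' :=
    LinearEquiv.ofLinear (LinearMap.prod M'.mkQ r)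
      (LinearMap.coprod s M'.subtype)
      (by
        apply LinearMap.ext
        rintro ⟨y, z⟩
        apply Prod.ext
        · change M'.mkQ (s y + (z : M)) = y
          rw [map_add, hs', Submodule.mkQ_apply, (Submodule.Quotient.mk_eq_zero M').mpr z.2,
            add_zero]
        · change r (s y + (z : M)) = z
          apply Subtype.ext
          rw [hr, map_add, hs', Submodule.mkQ_apply M' (z : M),
            (Submodule.Quotient.mk_eq_zero M').mpr z.2, add_zero]
          abel)
      (by
        apply LinearMap.ext
        intro m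
        change s (M'.mkQ m) + ((r m : M') : M) = m
        rw [hr]
        abel)
  -- (2)
  have h2 : ∀ y : M, (∃ n : ℕ, f ^ n • y = 0) ↔ f • y = 0 := by
    intro y
    constructor
    · rintro ⟨m, hm⟩
      rw [← hmemM', ← Submodule.Quotient.mk_eq_zero, ← Submodule.mkQ_apply]
      have hreg : IsSMulRegular (M ⧸ M') (f ^ m) :=
        Module.Flat.isSMulRegular_of_nonZeroDivisors (pow_mem hf0 m)
      apply hreg
      change f ^ m • M'.mkQ y = f ^ m • 0
      rw [← map_smul, hm, map_zero, smul_zero]
    · intro h
      exact ⟨1, by rw [pow_one]; exact h⟩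
  -- (1)
  have h1 : HasProjectiveDimensionLT (ModuleCat.of R M) 2 := by
    let S : ShortComplex (ModuleCat.{u} R) :=
      ModuleCat.shortComplexOfCompEqZero (rel (R := R) x).subtype (Fintype.linearCombination R x)
        (by
          apply LinearMap.ext
          intro v
          exact v.2)
    have hS : S.ShortExact := by
      apply ModuleCat.shortComplex_shortExact
      · exact LinearMap.exact_subtype_ker_map (Fintype.linearCombination R x)
      · exact Subtype.val_injective
      · change Function.Surjective (Fintype.linearCombination R x)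
        rw [← LinearMap.range_eq_top, Fintype.range_linearCombination, hx]
    have hp1 : Projective (ModuleCat.of R (rel (R := R) x)) :=
      (IsProjective.iff_projective _).mp hKproj
    have hp2 : Projective (ModuleCat.of R (Fin n → R)) :=
      (IsProjective.iff_projective _).mp inferInstance
    have h₁ : HasProjectiveDimensionLT S.X₁ 1 := by
      change HasProjectiveDimensionLT (ModuleCat.of R (rel (R := R) x)) 1
      infer_instance
    have h₂ : HasProjectiveDimensionLT S.X₂ 2 := by
      change HasProjectiveDimensionLT (ModuleCat.of R (Fin n → R)) 2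
      exact hasProjectiveDimensionLT_of_ge _ 1 2 (by omega)
    exact hS.hasProjectiveDimensionLT_X₃ 1 h₁ h₂
  -- (3)
  have h3 : HasProjectiveDimensionLT (ModuleCat.of R M') 2 := by
    let ret : Retract (ModuleCat.of R M') (ModuleCat.of R M) :=
      { i := ModuleCat.ofHom M'.subtype
        r := ModuleCat.ofHom r
        retract := by
          apply ModuleCat.hom_ext
          apply LinearMap.ext
          intro z
          exact hri z }
    exact ret.hasProjectiveDimensionLT 2
  exact ⟨h1, h2, h3, h4, ⟨e⟩⟩

end Groth.Agent.S6897
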