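import Groth.Statements.S6898
import Mathlib

set_option autoImplicit false
universe u
open TensorProduct
open CAlg

namespace Groth.Agent.S6898
open IsLocalRing

/-- elementwise independence modulo the maximal ideal -/
def Indep (A : Type*) [CommRing A] [IsLocalRing A] {M : Type*} [AddCommGroup M] [Module A M]
    {r : ℕ} (y : Fin r → M) : Prop :=
  ∀ c : Fin r → A, ∑ i, c i • y i ∈ maximalIdeal A • (⊤ : Submodule A M) → ∀ i, c i ∈ maximalIdeal A

theorem fg_of_isLeast {A : Type*} [CommRing A] {M : Type*} [AddCommGroup M] [Module A M]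
    (x : M) (I : Ideal A)
    (hx : IsLeast {J : Ideal A | x ∈ J • (⊤ : Submodule A M)} I) : I.FG := by
  have key : ∀ z ∈ I • (⊤ : Submodule A M),
      ∃ I' : Ideal A, I' ≤ I ∧ I'.FG ∧ z ∈ I' • (⊤ : Submodule A M) := by
    intro z hz
    refine Submodule.smul_induction_on hz ?_ ?_
    · intro a ha n _
      exact ⟨Ideal.span {a}, (Ideal.span_singleton_le_iff_mem _).mpr ha, ⟨{a}, by simp⟩,
        Submodule.smul_mem_smul (Ideal.mem_span_singleton_self a) trivial⟩
    · rintro z w ⟨I1, h1, f1, m1⟩ ⟨I2, h2, f2, m2⟩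
      exact ⟨I1 ⊔ I2, sup_le h1 h2, Submodule.FG.sup f1 f2,
        add_mem (Submodule.smul_mono_left le_sup_left m1)
          (Submodule.smul_mono_left le_sup_right m2)⟩
  obtain ⟨I', h1, h2, h3⟩ := key x hx.1
  have : I = I' := le_antisymm (hx.2 h3) h1
  rw [this]; exact h2

theorem exists_sum_of_mem {A : Type*} [CommRing A] {M : Type*} [AddCommGroup M] [Module A M]
    {r : ℕ} (f : Fin r → A) (x : M)
    (hx : x ∈ Ideal.span (Set.range f) • (⊤ : Submodule A M)) :
    ∃ xs : Fin r → M, x = ∑ i, f i • xs i := by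
  refine Submodule.smul_induction_on hx ?_ ?_
  · intro a ha n _
    obtain ⟨c, rfl⟩ := (Ideal.mem_span_range_iff_exists_fun).mp ha
    refine ⟨fun i => c i • n, ?_⟩
    rw [Finset.sum_smul]
    refine Finset.sum_congr rfl fun i _ => ?_
    rw [smul_smul, mul_comm]
  · rintro z w ⟨xs, rfl⟩ ⟨ys, rfl⟩
    refine ⟨xs + ys, ?_⟩
    simp [smul_add, Finset.sum_add_distrib]

theorem lemma2 {A : Type*} [CommRing A] [IsLocalRing A] {M : Type*} [AddCommGroup M] [Module A M]
    (x : M) (I : Ideal A)
    (hx : IsLeast {J : Ideal A | x ∈ J • (⊤ : Submodule A M)} I) :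
    ∃ (r : ℕ) (f : Fin r → A) (xs : Fin r → M),
      Ideal.span (Set.range f) = I ∧ x = ∑ i, f i • xs i ∧ Indep A xs := by
  classical
  have hfg := fg_of_isLeast x I hx
  obtain ⟨s, hs1, hs2⟩ := Submodule.FG.exists_span_finset_card_eq_spanFinrank hfg
  let e := s.equivFin
  let f : Fin s.card → A := fun i => (e.symm i : A)
  have hrange : Set.range f = s := by
    ext a
    constructor
    · rintro ⟨i, rfl⟩
      exact (e.symm i).2
    · intro ha
      exact ⟨e ⟨a, ha⟩, by simp [f]⟩
  have hspan : Ideal.span (Set.range f) = I := by rw [hrange]; exact hs2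
  have hfI : ∀ i, f i ∈ I := fun i => hspan ▸ Ideal.subset_span ⟨i, rfl⟩
  have hx1 : x ∈ Ideal.span (Set.range f) • (⊤ : Submodule A M) := by
    rw [hspan]; exact hx.1
  obtain ⟨xs, hxs⟩ := exists_sum_of_mem f x hx1
  refine ⟨s.card, f, xs, hspan, hxs, ?_⟩
  intro c hc
  by_contra hcon
  push Not at hcon
  obtain ⟨i₀, hi₀⟩ := hcon
  have hu : IsUnit (c i₀) := by
    rwa [mem_maximalIdeal, mem_nonunits_iff, not_not] at hi₀
  obtain ⟨d, hd⟩ := hu.exists_left_inv
  let g : Fin s.card → A := fun i => f i - f i₀ * d * c i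
  have hg0 : g i₀ = 0 := by
    simp only [g]
    rw [mul_assoc, hd, mul_one, sub_self]
  let T : Finset A := (Finset.univ.erase i₀).image g
  let I'' : Ideal A := Ideal.span (T : Set A)
  have hgI'' : ∀ i, g i ∈ I'' := by
    intro i
    by_cases hi : i = i₀
    · rw [hi, hg0]; exact zero_mem _
    · exact Ideal.subset_span (Finset.mem_coe.mpr (Finset.mem_image.mpr
        ⟨i, Finset.mem_erase.mpr ⟨hi, Finset.mem_univ _⟩, rfl⟩))
  have hI''I : I'' ≤ I := by
    rw [Ideal.span_le]
    intro a ha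
    obtain ⟨i, -, rfl⟩ := Finset.mem_image.mp (Finset.mem_coe.mp ha)
    exact sub_mem (hfI i) (Ideal.mul_mem_right _ _ (Ideal.mul_mem_right _ _ (hfI i₀)))
  have hxeq : x = ∑ i, g i • xs i + (f i₀ * d) • ∑ i, c i • xs i := by
    rw [hxs, Finset.smul_sum, ← Finset.sum_add_distrib]
    refine Finset.sum_congr rfl fun i _ => ?_
    simp only [g]
    rw [smul_smul, ← add_smul]
    congr 1; ring
  have hxmem : x ∈ (I'' ⊔ maximalIdeal A • I) • (⊤ : Submodule A M) := by
    rw [hxeq]
    refine add_mem ?_ ?_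
    · exact Submodule.smul_mono_left le_sup_left
        (sum_mem fun i _ => Submodule.smul_mem_smul (hgI'' i) trivial)
    · refine Submodule.smul_mono_left (le_sup_right : maximalIdeal A • I ≤ _) ?_
      rw [smul_eq_mul, mul_comm, ← smul_eq_mul, Submodule.smul_assoc]
      exact Submodule.smul_mem_smul (Ideal.mul_mem_right _ _ (hfI i₀)) hc
  have hle : I ≤ I'' ⊔ maximalIdeal A • I := hx.2 hxmem
  have hle2 : I ≤ I'' :=
    Submodule.le_of_le_smul_of_le_jacobson_bot hfg (IsLocalRing.maximalIdeal_le_jacobson ⊥) hle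
  have hI : I = I'' := le_antisymm hle2 hI''I
  have h1 : I''.spanFinrank ≤ (T : Set A).ncard :=
    Submodule.spanFinrank_span_le_ncard_of_finite (Finset.finite_toSet T)
  rw [Set.ncard_coe_finset] at h1
  have h2 : T.card ≤ s.card - 1 := by
    refine Finset.card_image_le.trans ?_
    rw [Finset.card_erase_of_mem (Finset.mem_univ _), Finset.card_univ, Fintype.card_fin]
  have h3 : 0 < s.card := Fin.pos i₀
  rw [← hI, ← hs1] at h1
  omega

theorem lemma4 {A : Type*} [CommRing A] [IsLocalRing A] {N : Type*} [AddCommGroup N] [Module A N]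
    [Module.Flat A N] {r : ℕ} (y : Fin r → N) (hy : Indep A y) (f : Fin r → A) (J : Ideal A)
    (hJ : J ≠ ⊤)
    (h : ∑ i, f i • y i ∈ J • (⊤ : Submodule A N)) : ∀ i, f i ∈ J := by
  have hJm : J ≤ maximalIdeal A := IsLocalRing.le_maximalIdeal hJ
  haveI : Nontrivial (A ⧸ J) := Ideal.Quotient.nontrivial_iff.mpr hJ
  haveI : IsLocalRing (A ⧸ J) :=
    IsLocalRing.of_surjective' (Ideal.Quotient.mk J) Ideal.Quotient.mk_surjective
  haveI : IsLocalHom (Ideal.Quotient.mk J) :=
    IsLocalHom.of_surjective _ Ideal.Quotient.mk_surjective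
  haveI : Module.Flat (A ⧸ J) (N ⧸ J • (⊤ : Submodule A N)) :=
    Module.Flat.of_linearEquiv
      ((TensorProduct.quotTensorEquivQuotSMul N J).extendScalarsOfSurjective
        Ideal.Quotient.mk_surjective).symm
  let v' : Fin r → (N ⧸ J • (⊤ : Submodule A N)) := fun i => Submodule.Quotient.mk (y i)
  -- the map N/JN → N/mN
  let φ : (N ⧸ J • (⊤ : Submodule A N)) →ₗ[A] (N ⧸ maximalIdeal A • (⊤ : Submodule A N)) :=
    Submodule.mapQ _ _ LinearMap.id (by
      rw [Submodule.comap_id]; exact Submodule.smul_mono_left hJm)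
  have hφ : ∀ z ∈ maximalIdeal (A ⧸ J) • (⊤ : Submodule (A ⧸ J) (N ⧸ J • (⊤ : Submodule A N))),
      φ z = 0 := by
    intro z hz
    refine Submodule.smul_induction_on hz ?_ ?_
    · intro a ha n _
      obtain ⟨a, rfl⟩ := Ideal.Quotient.mk_surjective a
      obtain ⟨n, rfl⟩ := Submodule.Quotient.mk_surjective _ n
      have ha' : a ∈ maximalIdeal A := by
        rw [mem_maximalIdeal, mem_nonunits_iff] at ha ⊢
        exact fun h => ha (h.map _)
      change φ (Submodule.Quotient.mk (a • n)) = 0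
      change Submodule.Quotient.mk (a • n) = 0
      rw [Submodule.Quotient.mk_eq_zero]
      exact Submodule.smul_mem_smul ha' trivial
    · intro x y hx hy
      rw [map_add, hx, hy, add_zero]
  have hli : LinearIndependent (ResidueField (A ⧸ J))
      (TensorProduct.mk (A ⧸ J) (ResidueField (A ⧸ J)) (N ⧸ J • (⊤ : Submodule A N)) 1 ∘ v') := by
    rw [Fintype.linearIndependent_iff]
    intro g hg i
    have hsurj : Function.Surjective (fun a : A => residue (A ⧸ J) (Ideal.Quotient.mk J a)) :=
      (residue_surjective).comp Ideal.Quotient.mk_surjective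
    choose c hc using fun i => hsurj (g i)
    replace hc : ∀ i, residue (A ⧸ J) (Ideal.Quotient.mk J (c i)) = g i := hc
    have h1 : ∑ i, g i • (TensorProduct.mk (A ⧸ J) (ResidueField (A ⧸ J))
        (N ⧸ J • (⊤ : Submodule A N)) 1 ∘ v') i =
        TensorProduct.mk (A ⧸ J) (ResidueField (A ⧸ J)) (N ⧸ J • (⊤ : Submodule A N)) 1
          ((J • (⊤ : Submodule A N)).mkQ (∑ i, c i • y i)) := by
      rw [map_sum, map_sum]
      refine Finset.sum_congr rfl fun i _ => ?_
      simp only [Function.comp_apply, TensorProduct.mk_apply, v']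
      rw [TensorProduct.smul_tmul', smul_eq_mul, mul_one, ← hc i]
      have : residue (A ⧸ J) (Ideal.Quotient.mk J (c i)) =
          (Ideal.Quotient.mk J (c i)) • (1 : ResidueField (A ⧸ J)) := by
        rw [Algebra.smul_def, mul_one]; rfl
      rw [this, TensorProduct.smul_tmul]
      rfl
    rw [h1] at hg
    have h2 : (Submodule.Quotient.mk (∑ i, c i • y i) : N ⧸ J • (⊤ : Submodule A N)) ∈
        maximalIdeal (A ⧸ J) • (⊤ : Submodule (A ⧸ J) (N ⧸ J • (⊤ : Submodule A N))) := by
      have hk := LinearMap.ker_tensorProductMk (R := A ⧸ J) (Q := N ⧸ J • (⊤ : Submodule A N))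
        (I := maximalIdeal (A ⧸ J))
      rw [← hk]
      exact hg
    have h3 := hφ _ h2
    have h4 : ∑ i, c i • y i ∈ maximalIdeal A • (⊤ : Submodule A N) := by
      rw [← Submodule.Quotient.mk_eq_zero]
      exact h3
    have h5 := hy c h4 i
    rw [← hc i]
    change residue (A ⧸ J) (Ideal.Quotient.mk J (c i)) = 0
    rw [residue_eq_zero_iff]
    rw [mem_maximalIdeal, mem_nonunits_iff] at h5 ⊢
    intro hu
    exact h5 (isUnit_of_map_unit (Ideal.Quotient.mk J) _ hu)
  have hli' := Module.IsLocalRing.linearIndependent_of_flat v' hli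
  rw [Fintype.linearIndependent_iff] at hli'
  intro i
  have := hli' (fun i => Ideal.Quotient.mk J (f i)) (by
    have : ∑ i, (Ideal.Quotient.mk J (f i)) • v' i =
        (J • (⊤ : Submodule A N)).mkQ (∑ i, f i • y i) := by
      rw [map_sum]
      rfl
    rw [Submodule.mkQ_apply] at this
    rw [this, Submodule.Quotient.mk_eq_zero]
    exact h) i
  exact Ideal.Quotient.eq_zero_iff_mem.mp this


theorem mem_iff {A : Type*} [CommRing A] [IsLocalRing A] {Q : Type*} [AddCommGroup Q] [Module A Q]
    (z : Q) : z ∈ maximalIdeal A • (⊤ : Submodule A Q) ↔ (1 : ResidueField A) ⊗ₜ[A] z = 0 := by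
  rw [← LinearMap.ker_tensorProductMk (R := A) (Q := Q) (I := maximalIdeal A), LinearMap.mem_ker]
  exact Iff.rfl

theorem lemma3 {A : Type*} [CommRing A] [IsLocalRing A] {M N : Type*} [AddCommGroup M] [Module A M]
    [AddCommGroup N] [Module A N] (u : M →ₗ[A] N)
    (hu : Function.Injective (u.baseChange (ResidueField A))) {r : ℕ} (xs : Fin r → M)
    (h : Indep A xs) : Indep A (fun i => u (xs i)) := by
  intro c hc
  apply h c
  have h1 : ∑ i, c i • u (xs i) = u (∑ i, c i • xs i) := by simp [map_sum]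
  rw [h1, mem_iff] at hc
  rw [mem_iff]
  apply hu
  rw [map_zero, LinearMap.baseChange_tmul]
  exact hc


/-- Let `(A, 𝔪)` be a local ring and `u : M → N` a linear map between flat `A`-modules whose reduction
`M/𝔪M → N/𝔪N` is injective. If `I` is the content ideal of some `x ∈ M` (the least ideal `I` with `x
∈ IM`), then `I` is also the least ideal `J` with `u(x) ∈ J·N`. -/
theorem result {A : Type u} [CommRing A] [IsLocalRing A] {M N : Type u}
    [AddCommGroup M] [Module A M] [Module.Flat A M] [AddCommGroup N] [Module A N] [Module.Flat A N] (u : M →ₗ[A] N)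
    (hu : Function.Injective (u.baseChange (IsLocalRing.ResidueField A))) (x : M) (I : Ideal A)
    (hx : IsLeast {J : Ideal A | x ∈ J • (⊤ : Submodule A M)} I) :
    IsLeast {J : Ideal A | u x ∈ J • (⊤ : Submodule A N)} I := by
  obtain ⟨r, f, xs, hspan, hxs, hind⟩ := lemma2 x I hx
  have hux : u x = ∑ i, f i • u (xs i) := by rw [hxs]; simp [map_sum]
  refine ⟨?_, ?_⟩
  · change u x ∈ I • (⊤ : Submodule A N)
    rw [hux]
    refine sum_mem fun i _ => Submodule.smul_mem_smul ?_ trivial
    rw [← hspan]; exact Ideal.subset_span ⟨i, rfl⟩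
  · intro J hJ
    change u x ∈ J • (⊤ : Submodule A N) at hJ
    by_cases hJt : J = ⊤
    · rw [hJt]; exact le_top
    rw [hux] at hJ
    have := lemma4 (fun i => u (xs i)) (lemma3 u hu xs hind) f J hJt hJ
    rw [← hspan, Ideal.span_le]
    rintro _ ⟨i, rfl⟩
    exact this i

end Groth.Agent.S6898
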