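import Groth.Statements.S6899
import Mathlib.LinearAlgebra.TensorProduct.RightExactness

set_option autoImplicit false
universe u
open TensorProduct
open EtAlg

namespace Groth.Agent.S6899

/-- Let `B' = B ×_A A'` be a fibre square of rings with `A' → A` surjective, and let `(N₁, M₁', φ₁) →
(N₂, M₂', φ₂)` be a morphism of glueing data (a `B`-linear `u : N₁ → N₂` and an `A'`-linear `v : M₁'
→ M₂'` compatible with the `φ_i`) with `u` and `v` surjective. Then the induced map of glued modules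
`N₁ ×_{φ₁} M₁' → N₂ ×_{φ₂} M₂'` is surjective. -/
theorem result (B' B A' A : Type u) [CommRing B'] [CommRing B] [CommRing A'] [CommRing A]
    [Algebra B' B] [Algebra B' A'] [Algebra B A] [Algebra A' A] [Algebra B' A] [IsScalarTower B' B A] [IsScalarTower B' A' A]
    (hsq : EtMil.IsFibreSquare B' B A' A)
    {N₁ N₂ M₁' M₂' : Type u} [AddCommGroup N₁] [Module B N₁] [Module B' N₁] [IsScalarTower B' B N₁]
    [AddCommGroup N₂] [Module B N₂] [Module B' N₂] [IsScalarTower B' B N₂]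
    [AddCommGroup M₁'] [Module A' M₁'] [Module B' M₁'] [IsScalarTower B' A' M₁']
    [AddCommGroup M₂'] [Module A' M₂'] [Module B' M₂'] [IsScalarTower B' A' M₂']
    (φ₁ : A ⊗[B] N₁ ≃ₗ[A] A ⊗[A'] M₁') (φ₂ : A ⊗[B] N₂ ≃ₗ[A] A ⊗[A'] M₂') (u : N₁ →ₗ[B] N₂) (v : M₁' →ₗ[A'] M₂')
    (hc : (v.baseChange A).comp φ₁.toLinearMap = φ₂.toLinearMap.comp (u.baseChange A))
    (hu : Function.Surjective u) (hv : Function.Surjective v) :
    ∀ y : N₂ × M₂', y ∈ EtMil.glue B' φ₂ → ∃ x : N₁ × M₁', x ∈ EtMil.glue B' φ₁ ∧ u x.1 = y.1 ∧ v x.2 = y.2 := by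
  classical
  rintro ⟨n₂, m₂⟩ hy
  have hy' : φ₂ ((1 : A) ⊗ₜ[B] n₂) = (1 : A) ⊗ₜ[A'] m₂ := hy
  obtain ⟨n₁, rfl⟩ := hu n₂
  obtain ⟨m₀, rfl⟩ := hv m₂
  -- every element of `A ⊗[A'] K` is of the form `1 ⊗ k`
  have hone : ∀ (K : Type u) [AddCommGroup K] [Module A' K] (w : A ⊗[A'] K),
      ∃ k : K, w = (1 : A) ⊗ₜ[A'] k := by
    intro K _ _ w
    induction w using TensorProduct.induction_on with
    | zero => exact ⟨0, by simp⟩
    | tmul a k =>
      obtain ⟨a', rfl⟩ := hsq.1 a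
      refine ⟨a' • k, ?_⟩
      rw [← TensorProduct.smul_tmul, Algebra.smul_def, mul_one]
    | add w₁ w₂ h₁ h₂ =>
      obtain ⟨k₁, rfl⟩ := h₁
      obtain ⟨k₂, rfl⟩ := h₂
      exact ⟨k₁ + k₂, by rw [TensorProduct.tmul_add]⟩
  -- the defect
  set δ : A ⊗[A'] M₁' := φ₁ ((1 : A) ⊗ₜ[B] n₁) - (1 : A) ⊗ₜ[A'] m₀ with hδ
  have hδ0 : v.lTensor A δ = 0 := by
    have h1 := congrArg (fun f => f ((1 : A) ⊗ₜ[B] n₁)) hc
    simp only [LinearMap.coe_comp, LinearEquiv.coe_coe, Function.comp_apply,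
      LinearMap.baseChange_tmul] at h1
    rw [hδ, map_sub, LinearMap.lTensor_tmul]
    have h2 : v.lTensor A (φ₁ ((1 : A) ⊗ₜ[B] n₁)) = v.baseChange A (φ₁ ((1 : A) ⊗ₜ[B] n₁)) := rfl
    rw [h2, h1, hy', sub_self]
  have hex : Function.Exact (LinearMap.lTensor A (LinearMap.ker v).subtype) (LinearMap.lTensor A v) :=
    lTensor_exact A (LinearMap.exact_subtype_ker_map v) hv
  obtain ⟨w, hw⟩ := (hex δ).mp hδ0
  obtain ⟨k, rfl⟩ := hone _ w
  rw [LinearMap.lTensor_tmul] at hw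
  refine ⟨(n₁, m₀ + (k : M₁')), ?_, rfl, ?_⟩
  · show φ₁ ((1 : A) ⊗ₜ[B] n₁) = (1 : A) ⊗ₜ[A'] (m₀ + (k : M₁'))
    rw [TensorProduct.tmul_add]
    have : (LinearMap.ker v).subtype k = (k : M₁') := rfl
    rw [this] at hw
    rw [hw, hδ]
    abel
  · show v (m₀ + (k : M₁')) = v m₀
    rw [map_add, LinearMap.mem_ker.mp k.2, add_zero]

end Groth.Agent.S6899
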