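import Groth.Statements.S6900
import Groth.Agent.Lib.MilnorProps24c

set_option autoImplicit false
universe u
open TensorProduct
open EtAlg

namespace Groth.Agent.S6900

open Groth.Agent.Lib.MilnorProps24 Groth.Agent.Lib.MilnorEtale24 Groth.Agent.Lib.RingFibreSq24 in
/-- Let `B' = B ×_A A'` be a fibre square of rings with `A' → A` surjective. Let `D` be a `B`-algebra
and `C'` an `A'`-algebra with a common base change `C = D ⊗_B A = C' ⊗_{A'} A`, and let `D' = D ×_C
C'` be the fibre product ring with its `B'`-algebra structure. Then `B' → D'` is of finite type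
(resp. flat, resp. flat and of finite presentation, resp. smooth, resp. étale) if and only if `B →
D` and `A' → C'` both are. -/
theorem result (B' B A' A : Type u) [CommRing B'] [CommRing B] [CommRing A'] [CommRing A]
    [Algebra B' B] [Algebra B' A'] [Algebra B A] [Algebra A' A] [Algebra B' A] [IsScalarTower B' B A] [IsScalarTower B' A' A]
    (hsq : EtMil.IsFibreSquare B' B A' A)
    (D' D C' C : Type u) [CommRing D'] [CommRing D] [CommRing C'] [CommRing C]
    [Algebra D' D] [Algebra D' C'] [Algebra D C] [Algebra C' C] [Algebra D' C] [IsScalarTower D' D C] [IsScalarTower D' C' C]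
    (hsq' : EtMil.IsFibreSquare D' D C' C)
    [Algebra B' D'] [Algebra B D] [Algebra A' C'] [Algebra A C]
    [Algebra B' D] [IsScalarTower B' B D] [IsScalarTower B' D' D]
    [Algebra B' C'] [IsScalarTower B' A' C'] [IsScalarTower B' D' C']
    [Algebra B C] [IsScalarTower B A C] [IsScalarTower B D C]
    [Algebra A' C] [IsScalarTower A' A C] [IsScalarTower A' C' C]
    [Algebra.IsPushout B D A C] [Algebra.IsPushout A' C' A C] :
    (Algebra.FiniteType B' D' ↔ Algebra.FiniteType B D ∧ Algebra.FiniteType A' C') ∧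
    (Module.Flat B' D' ↔ Module.Flat B D ∧ Module.Flat A' C') ∧
    (Module.Flat B' D' ∧ Algebra.FinitePresentation B' D' ↔
      (Module.Flat B D ∧ Algebra.FinitePresentation B D) ∧ (Module.Flat A' C' ∧ Algebra.FinitePresentation A' C')) ∧
    (Algebra.Smooth B' D' ↔ Algebra.Smooth B D ∧ Algebra.Smooth A' C') ∧
    (Algebra.Etale B' D' ↔ Algebra.Etale B D ∧ Algebra.Etale A' C') := by
  haveI : Algebra.IsPushout B A D C := Algebra.IsPushout.symm inferInstance
  haveI : Algebra.IsPushout A' A C' C := Algebra.IsPushout.symm inferInstance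
  have hcomm : ∀ c : D', algebraMap D C (algebraMap D' D c) =
      algebraMap C' C (algebraMap D' C' c) := by
    intro c
    rw [← IsScalarTower.algebraMap_apply, ← IsScalarTower.algebraMap_apply]
  have hfs := isFibreSq_of_isFibreSquare hsq'
  obtain ⟨hp1, hp2⟩ := isPushout_of_fibreSquares B' B A' A hsq D' D C' C hcomm hfs.inj hfs.surj
  haveI := hp1
  haveI := hp2
  let e₁ : B ⊗[B'] D' ≃ₐ[B] D := Algebra.IsPushout.equiv B' B D' D
  let e₂ : A' ⊗[B'] D' ≃ₐ[A'] C' := Algebra.IsPushout.equiv B' A' D' C'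
  refine ⟨⟨?_, ?_⟩, ⟨?_, ?_⟩, ⟨?_, ?_⟩, ⟨?_, ?_⟩, ⟨?_, ?_⟩⟩
  · intro h
    exact ⟨Algebra.FiniteType.equiv inferInstance e₁, Algebra.FiniteType.equiv inferInstance e₂⟩
  · rintro ⟨h1, h2⟩
    haveI : Algebra.FiniteType B (B ⊗[B'] D') := Algebra.FiniteType.equiv h1 e₁.symm
    haveI : Algebra.FiniteType A' (A' ⊗[B'] D') := Algebra.FiniteType.equiv h2 e₂.symm
    exact finiteType_of_baseChange B' B A' A hsq D'
  · intro h
    exact ⟨Module.Flat.of_linearEquiv e₁.symm.toLinearEquiv,
      Module.Flat.of_linearEquiv e₂.symm.toLinearEquiv⟩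
  · rintro ⟨h1, h2⟩
    haveI : Module.Flat B (B ⊗[B'] D') := Module.Flat.of_linearEquiv e₁.toLinearEquiv
    haveI : Module.Flat A' (A' ⊗[B'] D') := Module.Flat.of_linearEquiv e₂.toLinearEquiv
    exact flat_of_baseChange B' B A' A hsq D'
  · rintro ⟨h1, h2⟩
    exact ⟨⟨Module.Flat.of_linearEquiv e₁.symm.toLinearEquiv, Algebra.FinitePresentation.equiv e₁⟩,
      ⟨Module.Flat.of_linearEquiv e₂.symm.toLinearEquiv, Algebra.FinitePresentation.equiv e₂⟩⟩
  · rintro ⟨⟨h1, h1'⟩, ⟨h2, h2'⟩⟩
    haveI : Module.Flat B (B ⊗[B'] D') := Module.Flat.of_linearEquiv e₁.toLinearEquiv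
    haveI : Module.Flat A' (A' ⊗[B'] D') := Module.Flat.of_linearEquiv e₂.toLinearEquiv
    haveI : Algebra.FinitePresentation B (B ⊗[B'] D') := Algebra.FinitePresentation.equiv e₁.symm
    haveI : Algebra.FinitePresentation A' (A' ⊗[B'] D') :=
      Algebra.FinitePresentation.equiv e₂.symm
    haveI : Module.Flat B' D' := flat_of_baseChange B' B A' A hsq D'
    exact ⟨inferInstance, finitePresentation_of_baseChange B' B A' A hsq D'⟩
  · intro h
    exact ⟨Algebra.Smooth.of_equiv e₁, Algebra.Smooth.of_equiv e₂⟩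
  · rintro ⟨h1, h2⟩
    haveI : Algebra.Smooth B (B ⊗[B'] D') := Algebra.Smooth.of_equiv e₁.symm
    haveI : Algebra.Smooth A' (A' ⊗[B'] D') := Algebra.Smooth.of_equiv e₂.symm
    exact smooth_of_baseChange B' B A' A hsq D'
  · intro h
    exact ⟨Algebra.Etale.of_equiv e₁, Algebra.Etale.of_equiv e₂⟩
  · rintro ⟨h1, h2⟩
    haveI : Algebra.Etale B (B ⊗[B'] D') := Algebra.Etale.of_equiv e₁.symm
    haveI : Algebra.Etale A' (A' ⊗[B'] D') := Algebra.Etale.of_equiv e₂.symm
    exact etale_of_baseChange B' B A' A hsq D'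

end Groth.Agent.S6900
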