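import Groth.Statements.S6903
import Groth.Agent.Lib.BifunctorColim35
import Groth.Agent.Lib.HomologyFilteredColim
import Mathlib.Algebra.Category.ModuleCat.AB

set_option autoImplicit false
universe u
open CategoryTheory CategoryTheory.Limits MonoidalCategory
open DRing

namespace Groth.Agent.S6903

lemma isZero_of_isColimit_of_isZero {J C : Type*} [Category J] [Category C] [HasZeroMorphisms C]
    {D : J ⥤ C} {c : Cocone D} (hc : IsColimit c) (h : ∀ j, IsZero (D.obj j)) : IsZero c.pt := by
  rw [IsZero.iff_id_eq_zero]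
  apply hc.hom_ext
  intro j
  exact (h j).eq_of_src _ _

/-- A filtered colimit of K-flat complexes of `R`-modules is K-flat. -/
theorem result (R : Type u) [CommRing R] (J : Type u) [SmallCategory J] [IsFiltered J]
    (F : J ⥤ DRing.Cx R) (hF : ∀ j : J, (∀ L : DRing.Cx R, (∀ i : ℤ, IsZero (L.homology i)) → ∀ i : ℤ, IsZero ((L ⊗ F.obj j).homology i))) :
    (∀ L : DRing.Cx R, (∀ i : ℤ, IsZero (L.homology i)) → ∀ i : ℤ, IsZero ((L ⊗ colimit F).homology i)) := by
  intro L hL i
  let G := (curriedTensor (ModuleCat.{u} R)).map₂CochainComplex.obj L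
  haveI : ∀ X₁ : ModuleCat.{u} R, PreservesColimitsOfShape J
      ((curriedTensor (ModuleCat.{u} R)).obj X₁) :=
    fun X₁ => inferInstanceAs (PreservesColimitsOfShape J (tensorLeft X₁))
  haveI : PreservesColimitsOfShape J G :=
    Groth.Agent.Lib.BifunctorColim35.preservesColimitsOfShape_map₂ _ J L
  have hc1 : IsColimit (G.mapCocone (colimit.cocone F)) :=
    isColimitOfPreserves G (colimit.isColimit F)
  have hc2 := isColimitOfPreserves
    (HomologicalComplex.homologyFunctor (ModuleCat.{u} R) (ComplexShape.up ℤ) i) hc1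
  exact isZero_of_isColimit_of_isZero hc2 (fun j => hF j L hL i)

end Groth.Agent.S6903
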