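import Groth.Statements.S6904
import Groth.Agent.Lib.TensorCxPure35
import Groth.Agent.Lib.PureExact35

set_option autoImplicit false
universe u
open CategoryTheory CategoryTheory.Limits MonoidalCategory
open DRing

namespace Groth.Agent.S6904

/-- Let `K•` be a complex of `R`-modules such that `K• ⊗_R M` is acyclic for every finitely presented
`R`-module `M`. Then `K•` is K-flat. -/
theorem result (R : Type u) [CommRing R] (K : DRing.Cx R)
    (hK : ∀ (M : Type u) [AddCommGroup M] [Module R M], Module.FinitePresentation R M →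
      (∀ i : ℤ, IsZero ((DRing.tensorCx K (ModuleCat.of R M)).homology i))) :
    (∀ L : DRing.Cx R, (∀ i : ℤ, IsZero (L.homology i)) → ∀ i : ℤ, IsZero ((L ⊗ K).homology i)) := by
  intro L _ i
  -- `K ⊗ M` exact for finitely presented `M`, in `lTensor` form
  have hfp : ∀ (j : ℤ) (X : Type u) [AddCommGroup X] [Module R X],
      Module.FinitePresentation R X →
      Function.Exact ((K.d j (j + 1)).hom.lTensor X) ((K.d (j + 1) (j + 1 + 1)).hom.lTensor X) := by
    intro j X _ _ hX
    have h1 : (DRing.tensorCx K (ModuleCat.of R X)).Acyclic := fun n =>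
      (HomologicalComplex.exactAt_iff_isZero_homology _ n).2 (hK X hX n)
    rw [Groth.Agent.Lib.TensorCxZ35.acyclic_iff_function_exact] at h1
    have h2 := h1 j
    rw [← LinearMap.rTensor_exact_iff_lTensor_exact]
    exact h2
  have hpure : ∀ (X : ModuleCat.{u} R) (j : ℤ),
      Function.Exact ((K.d j (j + 1)).hom.lTensor X) ((K.d (j + 1) (j + 1 + 1)).hom.lTensor X) :=
    fun X j => Groth.Agent.Lib.PureExact35.exact_lTensor_of_finitePresentation _ _
      (fun Y _ _ hY => hfp j Y hY) X
  have h3 : (HomologicalComplex.tensorObj L K).Acyclic :=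
    Groth.Agent.Lib.TensorCxPure35.acyclic_tensorObj_of_pure L K hpure
  exact (HomologicalComplex.exactAt_iff_isZero_homology _ i).1 (h3 i)

end Groth.Agent.S6904
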