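import Groth.Statements.S6905
import Groth.Agent.Lib.SemiFree35

set_option autoImplicit false
universe u
open CategoryTheory CategoryTheory.Limits MonoidalCategory
open DRing

namespace Groth.Agent.S6905

/-- For every complex `M•` of `R`-modules there is a K-flat complex `K•` with flat terms together with a
degreewise surjective quasi-isomorphism `K• → M•`. -/
theorem result (R : Type u) [CommRing R] (M : DRing.Cx R) :
    ∃ (K : DRing.Cx R) (f : K ⟶ M), (∀ L : DRing.Cx R, (∀ i : ℤ, IsZero (L.homology i)) → ∀ i : ℤ, IsZero ((L ⊗ K).homology i)) ∧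
      DRing.TermwiseFlat K ∧ QuasiIso f ∧ ∀ i : ℤ, Function.Surjective (f.f i) := by
  obtain ⟨K, f, hK, hflat, hq, hsurj⟩ := Groth.Agent.Lib.SemiFree35.exists_kflat_resolution M
  exact ⟨K, f, (Groth.Agent.Lib.KFlat35.isKFlat_iff K).1 hK, hflat, hq, hsurj⟩

end Groth.Agent.S6905
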