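import Groth.Statements.S6908
import Groth.Agent.Lib.SemiFree35
import Mathlib.Algebra.Homology.HomotopyCategory.Triangulated
import Mathlib.Algebra.Homology.HomotopyCategory.Acyclic

set_option autoImplicit false
universe u
open CategoryTheory CategoryTheory.Limits MonoidalCategory
open DRing

namespace Groth.Agent.S6908

open Groth.Agent.Lib.KFlat35 in
theorem core (R : Type u) [CommRing R] (K L : CochainComplex (ModuleCat.{u} R) ℤ) (a : K ⟶ L)
    (hK : IsKFlat K) :
    ∃ (N : CochainComplex (ModuleCat.{u} R) ℤ) (b : K ⟶ N) (c : N ⟶ L), IsKFlat N ∧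
      QuasiIso c ∧ Nonempty (Homotopy a (b ≫ c)) ∧
      ((∀ i, Module.Flat R (K.X i)) → ∀ i, Module.Flat R (N.X i)) := by
  let Qh := HomotopyCategory.quotient (ModuleCat.{u} R) (ComplexShape.up ℤ)
  let T2 := (CochainComplex.mappingCone.triangleh a).invRotate
  have hT2 : T2 ∈ distTriang _ :=
    Pretriangulated.inv_rot_of_distTriang _ (HomotopyCategory.mappingCone_triangleh_distinguished a)
  let X : CochainComplex (ModuleCat.{u} R) ℤ := T2.obj₁.as
  obtain ⟨M', p', hM', hM'flat, hp', -⟩ := Groth.Agent.Lib.SemiFree35.exists_kflat_resolution X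
  obtain ⟨φ, hφ⟩ := Qh.map_surjective (X := M') (Y := K) (Qh.map p' ≫ T2.mor₁)
  let T1 := CochainComplex.mappingCone.triangleh φ
  have hT1 : T1 ∈ distTriang _ := HomotopyCategory.mappingCone_triangleh_distinguished φ
  have hW1 : (HomotopyCategory.subcategoryAcyclic (ModuleCat.{u} R)).trW (Qh.map p') := by
    rw [← HomotopyCategory.quasiIso_eq_trW_subcategoryAcyclic,
      HomotopyCategory.quotient_map_mem_quasiIso_iff]
    exact hp'
  have hW2 : (HomotopyCategory.subcategoryAcyclic (ModuleCat.{u} R)).trW (𝟙 (Qh.obj K)) :=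
    MorphismProperty.id_mem _ _
  obtain ⟨c', hc'W, comm2, -⟩ := MorphismProperty.compatible_with_triangulation
    (W := (HomotopyCategory.subcategoryAcyclic (ModuleCat.{u} R)).trW) T1 T2 hT1 hT2
    (Qh.map p') (𝟙 (Qh.obj K)) hW1 hW2 ((Category.comp_id _).trans hφ)
  obtain ⟨c, rfl⟩ := Qh.map_surjective (X := CochainComplex.mappingCone φ) (Y := L) c'
  refine ⟨CochainComplex.mappingCone φ, CochainComplex.mappingCone.inr φ, c,
    isKFlat_mappingCone φ hM' hK, ?_, ⟨?_⟩, fun hflat i =>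
      Groth.Agent.Lib.ConeQuasiIso.flat_mappingCone_X φ hM'flat hflat i⟩
  · have h1 : HomotopyCategory.quasiIso (ModuleCat.{u} R) (ComplexShape.up ℤ) (Qh.map c) := by
      rw [HomotopyCategory.quasiIso_eq_trW_subcategoryAcyclic]
      exact hc'W
    exact (HomotopyCategory.quotient_map_mem_quasiIso_iff c).1 h1
  · refine HomotopyCategory.homotopyOfEq _ _ ?_
    rw [Functor.map_comp]
    exact ((Category.id_comp _).symm.trans comm2.symm)

/-- For a morphism `a : K• → L•` of complexes of `R`-modules with `K•` K-flat, there are a K-flat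
complex `N•`, maps `b : K• → N•` and `c : N• → L•` with `c` a quasi-isomorphism and `a` homotopic to
`c ∘ b`; if the terms of `K•` are flat, `N•` may be chosen with flat terms as well. -/
theorem result (R : Type u) [CommRing R] (K L : DRing.Cx R) (a : K ⟶ L)
    (hK : (∀ L : DRing.Cx R, (∀ i : ℤ, IsZero (L.homology i)) → ∀ i : ℤ, IsZero ((L ⊗ K).homology i))) :
    (∃ (N : DRing.Cx R) (b : K ⟶ N) (c : N ⟶ L), (∀ L : DRing.Cx R, (∀ i : ℤ, IsZero (L.homology i)) → ∀ i : ℤ, IsZero ((L ⊗ N).homology i)) ∧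
      QuasiIso c ∧ Nonempty (Homotopy a (b ≫ c))) ∧
    (DRing.TermwiseFlat K → ∃ (N : DRing.Cx R) (b : K ⟶ N) (c : N ⟶ L), (∀ L : DRing.Cx R, (∀ i : ℤ, IsZero (L.homology i)) → ∀ i : ℤ, IsZero ((L ⊗ N).homology i)) ∧
      DRing.TermwiseFlat N ∧ QuasiIso c ∧ Nonempty (Homotopy a (b ≫ c))) := by
  refine ⟨?_, fun hflat => ?_⟩
  · obtain ⟨N, b, c, hN, hc, hh, -⟩ :=
      core R K L a ((Groth.Agent.Lib.KFlat35.isKFlat_iff K).2 hK)
    exact ⟨N, b, c, (Groth.Agent.Lib.KFlat35.isKFlat_iff N).1 hN, hc, hh⟩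
  · obtain ⟨N, b, c, hN, hc, hh, hfl⟩ :=
      core R K L a ((Groth.Agent.Lib.KFlat35.isKFlat_iff K).2 hK)
    exact ⟨N, b, c, (Groth.Agent.Lib.KFlat35.isKFlat_iff N).1 hN, hfl hflat, hc, hh⟩

end Groth.Agent.S6908
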