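import Groth.Statements.S6909
import Mathlib.RingTheory.Filtration
import Mathlib.Tactic

set_option autoImplicit false
universe u
open CAlg

namespace Groth.Agent.S6909

section aux

variable {A : Type u} [CommRing A] {M N : Type u} [AddCommGroup M] [Module A M]
  [AddCommGroup N] [Module A N]

/-- If `h` maps everything into `J N`, it maps `K M` into `(K J) N`. -/
lemma map_mem_mul_smul_top (h : M →ₗ[A] N) (J K : Ideal A)
    (hh : ∀ x, h x ∈ J • (⊤ : Submodule A N)) {x : M} (hx : x ∈ K • (⊤ : Submodule A M)) :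
    h x ∈ (K * J) • (⊤ : Submodule A N) := by
  refine Submodule.smul_induction_on hx (fun k hk m _ => ?_) (fun x y hx hy => ?_)
  · rw [map_smul, Submodule.mul_smul]
    exact Submodule.smul_mem_smul hk (hh m)
  · rw [map_add]
    exact Submodule.add_mem _ hx hy

lemma map_mem_smul_top (h : M →ₗ[A] N) (K : Ideal A)
    {x : M} (hx : x ∈ K • (⊤ : Submodule A M)) :
    h x ∈ K • (⊤ : Submodule A N) := by
  refine Submodule.smul_induction_on hx (fun k hk m _ => ?_) (fun x y hx hy => ?_)
  · rw [map_smul]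
    exact Submodule.smul_mem_smul hk Submodule.mem_top
  · rw [map_add]
    exact Submodule.add_mem _ hx hy

lemma pow_smul_top_mono (I : Ideal A) {r s : ℕ} (h : r ≤ s) :
    I ^ s • (⊤ : Submodule A M) ≤ I ^ r • (⊤ : Submodule A M) :=
  Submodule.smul_mono_left (Ideal.pow_le_pow_right h)

end aux

theorem result {A : Type u} [CommRing A] [IsNoetherianRing A] (I : Ideal A)
    (hI : I ≤ Ideal.jacobson (⊥ : Ideal A)) {L M N : Type u} [AddCommGroup L] [Module A L] [Module.Finite A L]
    [AddCommGroup M] [Module A M] [Module.Finite A M] [AddCommGroup N] [Module A N] [Module.Finite A N]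
    (f f' : L →ₗ[A] M) (g g' : M →ₗ[A] N) (c : ℕ) (hgf : g.comp f = 0) (hgf' : g'.comp f' = 0)
    (hf : (∀ n : ℕ, c ≤ n → LinearMap.range f ⊓ (I ^ n • (⊤ : Submodule A M)) ≤ Submodule.map f (I ^ (n - c) • (⊤ : Submodule A L))))
    (hg : (∀ n : ℕ, c ≤ n → LinearMap.range g ⊓ (I ^ n • (⊤ : Submodule A N)) ≤ Submodule.map g (I ^ (n - c) • (⊤ : Submodule A M))))
    (hex : Function.Exact f g)
    (hff' : ∀ x : L, f x - f' x ∈ I ^ (c + 1) • (⊤ : Submodule A M))
    (hgg' : ∀ y : M, g y - g' y ∈ I ^ (c + 1) • (⊤ : Submodule A N)) :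
    (∀ n : ℕ, c ≤ n → LinearMap.range g' ⊓ (I ^ n • (⊤ : Submodule A N)) ≤ Submodule.map g' (I ^ (n - c) • (⊤ : Submodule A M))) ∧
    Function.Exact f' g' := by
  have hg'f' : ∀ b, g' (f' b) = 0 := fun b => LinearMap.congr_fun hgf' b
  -- the adjusting step
  have step : ∀ (n r : ℕ), r + c + 1 ≤ n → ∀ a : M, a ∈ I ^ r • (⊤ : Submodule A M) →
      g' a ∈ I ^ n • (⊤ : Submodule A N) →
      ∃ b : L, a - f' b ∈ I ^ (r + 1) • (⊤ : Submodule A M) := by
    intro n r hrn a ha hga
    -- g a ∈ I^(r+c+1) N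
    have h1 : (g - g') a ∈ (I ^ r * I ^ (c + 1)) • (⊤ : Submodule A N) :=
      map_mem_mul_smul_top (g - g') (I ^ (c + 1)) (I ^ r)
        (fun x => by simpa using hgg' x) ha
    rw [← pow_add, ← add_assoc] at h1
    have h2 : g' a ∈ I ^ (r + c + 1) • (⊤ : Submodule A N) := pow_smul_top_mono I hrn hga
    have h3 : g a ∈ I ^ (r + c + 1) • (⊤ : Submodule A N) := by
      have : g a = g' a + (g - g') a := by simp
      rw [this]
      exact Submodule.add_mem _ h2 h1
    have h4 := hg (r + c + 1) (by omega) ⟨LinearMap.mem_range_self g a, h3⟩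
    obtain ⟨a1, ha1, hga1⟩ := h4
    have hrc : r + c + 1 - c = r + 1 := by omega
    rw [hrc] at ha1
    -- a - a1 ∈ ker g = range f
    have h5 : g (a - a1) = 0 := by rw [map_sub, hga1, sub_self]
    obtain ⟨b, hb⟩ := (hex (a - a1)).1 h5
    have ha1' : a1 ∈ I ^ r • (⊤ : Submodule A M) := pow_smul_top_mono I (Nat.le_succ r) ha1
    have hfb : f b ∈ I ^ r • (⊤ : Submodule A M) := by
      rw [hb]; exact Submodule.sub_mem _ ha ha1'
    by_cases hrc' : c ≤ r
    · -- replace b by b' ∈ I^(r-c) L
      obtain ⟨b', hb', hfb'⟩ := hf r hrc' ⟨LinearMap.mem_range_self f b, hfb⟩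
      refine ⟨b', ?_⟩
      have h6 : (f - f') b' ∈ (I ^ (r - c) * I ^ (c + 1)) • (⊤ : Submodule A M) :=
        map_mem_mul_smul_top (f - f') (I ^ (c + 1)) (I ^ (r - c))
          (fun x => by simpa using hff' x) hb'
      rw [← pow_add] at h6
      have e : r - c + (c + 1) = r + 1 := by omega
      rw [e] at h6
      have : a - f' b' = (f - f') b' + a1 := by
        have : a = f b' + a1 := by rw [hfb', hb]; abel
        rw [LinearMap.sub_apply]
        conv_lhs => rw [this]
        abel
      rw [this]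
      exact Submodule.add_mem _ h6 ha1
    · refine ⟨b, ?_⟩
      have h6 : (f - f') b ∈ I ^ (r + 1) • (⊤ : Submodule A M) :=
        pow_smul_top_mono I (show r + 1 ≤ c + 1 by omega) (by simpa using hff' b)
      have : a - f' b = (f - f') b + a1 := by
        have : a = f b + a1 := by rw [hb]; abel
        rw [LinearMap.sub_apply]
        conv_lhs => rw [this]
        abel
      rw [this]
      exact Submodule.add_mem _ h6 ha1
  -- iterate
  have iter : ∀ (n : ℕ), c ≤ n → ∀ r, r ≤ n - c → ∀ a : M, g' a ∈ I ^ n • (⊤ : Submodule A N) →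
      ∃ b : L, a - f' b ∈ I ^ r • (⊤ : Submodule A M) := by
    intro n hn r
    induction r with
    | zero =>
      intro _ a _
      exact ⟨0, by simp⟩
    | succ r ih =>
      intro hr a hga
      obtain ⟨b0, hb0⟩ := ih (by omega) a hga
      have hga' : g' (a - f' b0) ∈ I ^ n • (⊤ : Submodule A N) := by
        rw [map_sub, hg'f', sub_zero]; exact hga
      obtain ⟨b1, hb1⟩ := step n r (by omega) (a - f' b0) hb0 hga'
      refine ⟨b0 + b1, ?_⟩
      have : a - f' (b0 + b1) = a - f' b0 - f' b1 := by rw [map_add]; abel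
      rw [this]
      exact hb1
  constructor
  · intro n hn y hy
    obtain ⟨⟨a, rfl⟩, hy2⟩ := hy
    obtain ⟨b, hb⟩ := iter n hn (n - c) le_rfl a hy2
    refine ⟨a - f' b, hb, ?_⟩
    rw [map_sub, hg'f', sub_zero]
  · intro a
    constructor
    · intro ha
      -- a ∈ ⋂_k (range f' + I^k M)
      let Q := M ⧸ LinearMap.range f'
      have hQ : (Submodule.Quotient.mk a : Q) ∈ (⨅ i : ℕ, I ^ i • ⊤ : Submodule A Q) := by
        rw [Submodule.mem_iInf]
        intro k
        obtain ⟨b, hb⟩ := iter (k + c) (by omega) k (by omega) a (by rw [ha]; exact zero_mem _)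
        have : (Submodule.Quotient.mk a : Q) = (LinearMap.range f').mkQ (a - f' b) := by
          rw [Submodule.mkQ_apply, Submodule.Quotient.mk_sub]
          have : (Submodule.Quotient.mk (f' b) : Q) = 0 := by
            rw [Submodule.Quotient.mk_eq_zero]; exact LinearMap.mem_range_self _ _
          rw [this, sub_zero]
        rw [this]
        exact map_mem_smul_top _ _ hb
      rw [Ideal.iInf_pow_smul_eq_bot_of_le_jacobson I hI, Submodule.mem_bot,
        Submodule.Quotient.mk_eq_zero] at hQ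
      exact hQ
    · rintro ⟨b, rfl⟩
      exact hg'f' b

end Groth.Agent.S6909
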