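import Groth.Statements.S6910
import Groth.Agent.S6909
import Mathlib.RingTheory.Filtration
import Mathlib.Tactic

set_option autoImplicit false
universe u
open CAlg

namespace Groth.Agent.S6910

open Groth.Agent.S6909 in
/-- One inclusion, using only the Artin–Rees bound for `g` and the congruence `g ≡ g'`. -/
lemma half {A : Type u} [CommRing A] (I : Ideal A) {M N : Type u}
    [AddCommGroup M] [Module A M] [AddCommGroup N] [Module A N]
    (g g' : M →ₗ[A] N) (c : ℕ)
    (hg : (∀ n : ℕ, c ≤ n → LinearMap.range g ⊓ (I ^ n • (⊤ : Submodule A N)) ≤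
      Submodule.map g (I ^ (n - c) • (⊤ : Submodule A M))))
    (hgg' : ∀ y : M, g y - g' y ∈ I ^ (c + 1) • (⊤ : Submodule A N)) (n : ℕ) :
    I ^ (n + 1) • (⊤ : Submodule A N) ⊔ (LinearMap.range g ⊓ I ^ n • (⊤ : Submodule A N)) ≤
      I ^ (n + 1) • (⊤ : Submodule A N) ⊔ (LinearMap.range g' ⊓ I ^ n • (⊤ : Submodule A N)) := by
  refine sup_le le_sup_left ?_
  rintro y ⟨⟨a, rfl⟩, hy⟩
  -- find `a1` with `g a1 = g a` and `(g - g') a1 ∈ I^(n+1) N`
  obtain ⟨a1, ha1, hd⟩ : ∃ a1 : M, g a1 = g a ∧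
      (g - g') a1 ∈ I ^ (n + 1) • (⊤ : Submodule A N) := by
    by_cases hcn : c ≤ n
    · obtain ⟨a1, ha1, hga1⟩ := hg n hcn ⟨LinearMap.mem_range_self g a, hy⟩
      refine ⟨a1, hga1, ?_⟩
      have h1 : (g - g') a1 ∈ (I ^ (n - c) * I ^ (c + 1)) • (⊤ : Submodule A N) :=
        map_mem_mul_smul_top (g - g') (I ^ (c + 1)) (I ^ (n - c))
          (fun x => by simpa using hgg' x) ha1
      rw [← pow_add] at h1
      have e : n - c + (c + 1) = n + 1 := by omega
      rwa [e] at h1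
    · refine ⟨a, rfl, ?_⟩
      exact pow_smul_top_mono I (show n + 1 ≤ c + 1 by omega) (by simpa using hgg' a)
  have hg'a1 : g' a1 = g a - (g - g') a1 := by
    rw [LinearMap.sub_apply, ha1]; abel
  have hmem : g' a1 ∈ I ^ n • (⊤ : Submodule A N) := by
    rw [hg'a1]
    exact Submodule.sub_mem _ hy (pow_smul_top_mono I (Nat.le_succ n) hd)
  have : g a = (g - g') a1 + g' a1 := by rw [hg'a1]; abel
  rw [this]
  exact Submodule.add_mem_sup hd ⟨LinearMap.mem_range_self g' a1, hmem⟩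

theorem result {A : Type u} [CommRing A] [IsNoetherianRing A] (I : Ideal A)
    (hI : I ≤ Ideal.jacobson (⊥ : Ideal A)) {L M N : Type u} [AddCommGroup L] [Module A L] [Module.Finite A L]
    [AddCommGroup M] [Module A M] [Module.Finite A M] [AddCommGroup N] [Module A N] [Module.Finite A N]
    (f f' : L →ₗ[A] M) (g g' : M →ₗ[A] N) (c : ℕ) (hgf : g.comp f = 0) (hgf' : g'.comp f' = 0)
    (hf : (∀ n : ℕ, c ≤ n → LinearMap.range f ⊓ (I ^ n • (⊤ : Submodule A M)) ≤ Submodule.map f (I ^ (n - c) • (⊤ : Submodule A L))))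
    (hg : (∀ n : ℕ, c ≤ n → LinearMap.range g ⊓ (I ^ n • (⊤ : Submodule A N)) ≤ Submodule.map g (I ^ (n - c) • (⊤ : Submodule A M))))
    (hex : Function.Exact f g)
    (hff' : ∀ x : L, f x - f' x ∈ I ^ (c + 1) • (⊤ : Submodule A M))
    (hgg' : ∀ y : M, g y - g' y ∈ I ^ (c + 1) • (⊤ : Submodule A N)) (n : ℕ) :
    I ^ (n + 1) • (⊤ : Submodule A N) ⊔ (LinearMap.range g ⊓ I ^ n • (⊤ : Submodule A N)) =
      I ^ (n + 1) • (⊤ : Submodule A N) ⊔ (LinearMap.range g' ⊓ I ^ n • (⊤ : Submodule A N)) := by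
  have hg' := (Groth.Agent.S6909.result I hI f f' g g' c hgf hgf' hf hg hex hff' hgg').1
  refine le_antisymm (half I g g' c hg hgg' n) (half I g' g c hg' (fun y => ?_) n)
  have : g' y - g y = -(g y - g' y) := by abel
  rw [this]
  exact Submodule.neg_mem _ (hgg' y)

end Groth.Agent.S6910
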