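import Groth.Statements.S6911
import Mathlib.LinearAlgebra.TensorProduct.RightExactness
import Mathlib.RingTheory.Flat.Equalizer
import Mathlib.LinearAlgebra.TensorProduct.Tower

set_option autoImplicit false
universe u
open TensorProduct
open CAlg

namespace Groth.Agent.S6911

open TensorProduct


section general

variable {A : Type*} (B : Type*) [CommRing A] [CommRing B] [Algebra A B]
  {M N : Type*} [AddCommGroup M] [Module A M] [AddCommGroup N] [Module A N]

lemma range_baseChange (f : M →ₗ[A] N) :
    LinearMap.range (f.baseChange B) = (LinearMap.range f).baseChange B := by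
  have hf : f = (LinearMap.range f).subtype ∘ₗ f.rangeRestrict := by
    ext x; rfl
  have hsurj : Function.Surjective (f.rangeRestrict.baseChange B) := by
    rw [LinearMap.baseChange_eq_ltensor]
    exact LinearMap.lTensor_surjective B f.surjective_rangeRestrict
  conv_lhs => rw [hf, LinearMap.baseChange_comp]
  rw [LinearMap.range_comp_of_range_eq_top _ (LinearMap.range_eq_top.mpr hsurj)]
  rfl

lemma map_baseChange (f : M →ₗ[A] N) (Q : Submodule A M) :
    (Q.baseChange B).map (f.baseChange B) = (Q.map f).baseChange B := by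
  rw [Submodule.baseChange_eq_span, Submodule.baseChange_eq_span, Submodule.map_span]
  congr 1
  ext y
  constructor
  · rintro ⟨_, ⟨q, hq, rfl⟩, rfl⟩
    exact ⟨f q, ⟨q, hq, rfl⟩, by simp⟩
  · rintro ⟨_, ⟨q, hq, rfl⟩, rfl⟩
    exact ⟨_, ⟨q, hq, rfl⟩, by simp⟩

lemma smul_top_baseChange (J : Ideal A) :
    (J.map (algebraMap A B)) • (⊤ : Submodule B (B ⊗[A] N)) =
      (J • (⊤ : Submodule A N)).baseChange B := by
  apply le_antisymm
  · rw [Submodule.smul_le]
    intro b hb y _
    suffices h : ∀ b ∈ Submodule.span B (algebraMap A B '' (J : Set A)), ∀ y : B ⊗[A] N,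
        b • y ∈ (J • (⊤ : Submodule A N)).baseChange B from h b hb y
    intro b hb
    induction hb using Submodule.span_induction with
    | mem b h =>
      obtain ⟨a, ha, rfl⟩ := h
      intro y
      induction y using TensorProduct.induction_on with
      | zero => simp
      | tmul b' x =>
        have : algebraMap A B a • (b' ⊗ₜ[A] x) = b' ⊗ₜ[A] (a • x) := by
          rw [TensorProduct.smul_tmul', smul_eq_mul, ← Algebra.smul_def,
            TensorProduct.smul_tmul]
        rw [this]
        exact Submodule.tmul_mem_baseChange_of_mem b'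
          (Submodule.smul_mem_smul ha Submodule.mem_top)
      | add y y' hy hy' => rw [smul_add]; exact add_mem hy hy'
    | zero => intro y; simp
    | add b b' _ _ hb hb' => intro y; rw [add_smul]; exact add_mem (hb y) (hb' y)
    | smul c b _ hb => intro y; rw [smul_assoc]; exact Submodule.smul_mem _ _ (hb y)
  · rw [Submodule.baseChange_eq_span, Submodule.span_le]
    rintro _ ⟨z, hz, rfl⟩
    simp only [TensorProduct.mk_apply, SetLike.mem_coe]
    induction hz using Submodule.smul_induction_on' with
    | smul a ha x _ =>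
      have : (1 : B) ⊗ₜ[A] (a • x) = algebraMap A B a • ((1 : B) ⊗ₜ[A] x) := by
        rw [TensorProduct.smul_tmul', smul_eq_mul, mul_one, ← TensorProduct.smul_tmul,
          Algebra.smul_def, mul_one]
      rw [this]
      exact Submodule.smul_mem_smul (Ideal.mem_map_of_mem _ ha) Submodule.mem_top
    | add x _ y _ hx hy => rw [TensorProduct.tmul_add]; exact add_mem hx hy

lemma ker_mkQ_baseChange (P : Submodule A N) :
    LinearMap.ker (P.mkQ.baseChange B) = P.baseChange B := by
  have hex : Function.Exact (P.subtype.lTensor B) (P.mkQ.lTensor B) :=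
    lTensor_exact B (LinearMap.exact_subtype_mkQ P) (Submodule.mkQ_surjective P)
  ext x
  rw [LinearMap.mem_ker, Submodule.baseChange, LinearMap.mem_range]
  have := hex x
  simp only [← LinearMap.baseChange_eq_ltensor] at this
  rw [Set.mem_range] at this
  exact this

lemma baseChange_inf [Module.Flat A B] (P Q : Submodule A N) :
    (P ⊓ Q).baseChange B = P.baseChange B ⊓ Q.baseChange B := by
  apply le_antisymm
  · exact le_inf (Submodule.baseChange_mono B inf_le_left) (Submodule.baseChange_mono B inf_le_right)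
  · rintro x ⟨hxP, hxQ⟩
    rw [SetLike.mem_coe, ← ker_mkQ_baseChange, LinearMap.mem_ker] at hxP hxQ
    set g : N →ₗ[A] (N ⧸ P) × (N ⧸ Q) := P.mkQ.prod Q.mkQ with hg
    have hgx : g.baseChange B x = 0 := by
      have hid : (LinearMap.id : (N ⧸ P) × (N ⧸ Q) →ₗ[A] (N ⧸ P) × (N ⧸ Q)) =
          LinearMap.inl A _ _ ∘ₗ LinearMap.fst A _ _ + LinearMap.inr A _ _ ∘ₗ LinearMap.snd A _ _ := by
        ext y <;> simp
      have h1 : (LinearMap.fst A (N ⧸ P) (N ⧸ Q)) ∘ₗ g = P.mkQ := by ext; simp [hg]
      have h2 : (LinearMap.snd A (N ⧸ P) (N ⧸ Q)) ∘ₗ g = Q.mkQ := by ext; simp [hg]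
      have : g = LinearMap.inl A _ _ ∘ₗ P.mkQ + LinearMap.inr A _ _ ∘ₗ Q.mkQ := by
        ext y <;> simp [hg]
      rw [this, LinearMap.baseChange_add, LinearMap.baseChange_comp, LinearMap.baseChange_comp,
        LinearMap.add_apply, LinearMap.comp_apply, LinearMap.comp_apply, hxP, hxQ, map_zero,
        map_zero, add_zero]
    have hker : LinearMap.ker g = P ⊓ Q := by
      rw [hg, LinearMap.ker_prod, Submodule.ker_mkQ, Submodule.ker_mkQ]
    have hflat := Module.Flat.ker_lTensor_eq B B g
    have hx : x ∈ LinearMap.ker (AlgebraTensorModule.lTensor B B g) := hgx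
    rw [hflat] at hx
    rw [← hker]
    exact hx

end general

theorem result' {A B : Type u} [CommRing A] [IsNoetherianRing A] [CommRing B]
    [IsNoetherianRing B] [Algebra A B] [Module.Flat A B] (I : Ideal A) {M N : Type u} [AddCommGroup M] [Module A M]
    [Module.Finite A M] [AddCommGroup N] [Module A N] [Module.Finite A N] (f : M →ₗ[A] N) (c : ℕ)
    (hf : (∀ n : ℕ, c ≤ n → LinearMap.range f ⊓ (I ^ n • (⊤ : Submodule A N)) ≤ Submodule.map f (I ^ (n - c) • (⊤ : Submodule A M)))) :
    ∀ n : ℕ, c ≤ n →
      LinearMap.range (f.baseChange B) ⊓ ((I.map (algebraMap A B)) ^ n • (⊤ : Submodule B (B ⊗[A] N))) ≤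
        Submodule.map (f.baseChange B) ((I.map (algebraMap A B)) ^ (n - c) • (⊤ : Submodule B (B ⊗[A] M))) := by
  intro n hn
  rw [← Ideal.map_pow, ← Ideal.map_pow, smul_top_baseChange, smul_top_baseChange, range_baseChange,
    ← baseChange_inf, map_baseChange]
  exact Submodule.baseChange_mono B (hf n hn)


/-- Let `A → B` be a flat map of Noetherian rings, `I ⊆ A` an ideal and `f : M → N` a map of finite
`A`-modules such that `c` works for `f` in the Artin–Rees lemma (`f(M) ∩ IⁿN ⊆ f(I^{n-c}M)` for `n ≥
c`). Then `c` works for `f ⊗ 1 : M ⊗_A B → N ⊗_A B` and the ideal `IB`. -/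
theorem result {A B : Type u} [CommRing A] [IsNoetherianRing A] [CommRing B]
    [IsNoetherianRing B] [Algebra A B] [Module.Flat A B] (I : Ideal A) {M N : Type u} [AddCommGroup M] [Module A M]
    [Module.Finite A M] [AddCommGroup N] [Module A N] [Module.Finite A N] (f : M →ₗ[A] N) (c : ℕ)
    (hf : (∀ n : ℕ, c ≤ n → LinearMap.range f ⊓ (I ^ n • (⊤ : Submodule A N)) ≤ Submodule.map f (I ^ (n - c) • (⊤ : Submodule A M)))) :
    ∀ n : ℕ, c ≤ n →
      LinearMap.range (f.baseChange B) ⊓ ((I.map (algebraMap A B)) ^ n • (⊤ : Submodule B (B ⊗[A] N))) ≤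
        Submodule.map (f.baseChange B) ((I.map (algebraMap A B)) ^ (n - c) • (⊤ : Submodule B (B ⊗[A] M))) := by
  exact result' I f c hf

end Groth.Agent.S6911
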