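import Groth.Statements.S6912
import Mathlib
-- import your own Groth.Agent.* helpers here

set_option autoImplicit false
universe u
open TensorProduct
open CAlg

namespace Groth.Agent.S6912

set_option linter.unusedSectionVars false

open nonZeroDivisors

section
variable (R : Type u) [CommRing R] [IsDomain R] (M N : Type u)
    [AddCommGroup M] [Module R M] [AddCommGroup N] [Module R N]

local notation "K" => FractionRing R

lemma rank_frac : Module.rank K (K ⊗[R] M) = Module.rank R M := by
  rw [IsLocalization.rank_eq K R⁰ le_rfl (R := R) (N := K ⊗[R] M)]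
  exact IsLocalizedModule.rank_eq R⁰ le_rfl (TensorProduct.mk R K M 1)

lemma rank_tensor : Module.rank R (M ⊗[R] N) = Module.rank R M * Module.rank R N := by
  rw [← rank_frac R (M ⊗[R] N), ← rank_frac R M, ← rank_frac R N,
    (AlgebraTensorModule.distribBaseChange R K M N).rank_eq, rank_tensorProduct']

lemma rank_hom [Module.FinitePresentation R M] :
    Module.rank R (M →ₗ[R] N) = Module.rank R M * Module.rank R N := by
  have h1 : Module.rank R ((K ⊗[R] M) →ₗ[K] (K ⊗[R] N)) = Module.rank R (M →ₗ[R] N) :=
    IsLocalizedModule.rank_eq R⁰ le_rfl (M := M →ₗ[R] N) (N := (K ⊗[R] M) →ₗ[K] (K ⊗[R] N))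
      (IsLocalizedModule.mapExtendScalars R⁰ (TensorProduct.mk R K M 1)
        (TensorProduct.mk R K N 1) K)
  have h2 : Module.rank K ((K ⊗[R] M) →ₗ[K] (K ⊗[R] N)) =
      Module.rank R ((K ⊗[R] M) →ₗ[K] (K ⊗[R] N)) :=
    IsLocalization.rank_eq K R⁰ le_rfl (N := (K ⊗[R] M) →ₗ[K] (K ⊗[R] N))
  rw [← h1, ← h2, Module.rank_linearMap, Cardinal.lift_id, Cardinal.lift_id, rank_frac, rank_frac]

end


/-- Let `R` be a domain and `M`, `N` two `R`-modules; rank means dimension over the fraction field after
base change. Then `rank (M ⊗_R N) = rank M · rank N`, and when `M` is finitely presented also `rank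
Hom_R(M, N) = rank M · rank N`. -/
theorem result (R : Type u) [CommRing R] [IsDomain R] (M N : Type u)
    [AddCommGroup M] [Module R M] [AddCommGroup N] [Module R N] :
    Module.rank R (M ⊗[R] N) = Module.rank R M * Module.rank R N ∧
    (Module.FinitePresentation R M → Module.rank R (M →ₗ[R] N) = Module.rank R M * Module.rank R N) := by
  exact ⟨rank_tensor R M N, fun h => rank_hom R M N⟩

end Groth.Agent.S6912
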