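import Groth.Statements.S6913
import Mathlib
-- import your own Groth.Agent.* helpers here

set_option autoImplicit false
universe u
open CAlg

namespace Groth.Agent.S6913

open Module

section
variable (R : Type u) [CommRing R] [IsDomain R] (M : Type u) [AddCommGroup M] [Module R M]
  [Module.Finite R M]

/-- a linearly independent family of size `finrank R M` whose span contains `c • M` for some
nonzero `c`. -/
lemma exists_indep_family :
    ∃ v : Fin (finrank R M) → M, LinearIndependent R v ∧
      ∃ c : R, c ≠ 0 ∧ ∀ x : M, c • x ∈ Submodule.span R (Set.range v) := by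
  classical
  obtain ⟨v, hv⟩ := exists_linearIndependent_of_le_finrank (R := R) (M := M) le_rfl
  refine ⟨v, hv, ?_⟩
  -- each element is torsion modulo the span
  have h1 : ∀ x : M, ∃ c : R, c ≠ 0 ∧ c • x ∈ Submodule.span R (Set.range v) := by
    intro x
    by_contra hcon
    push Not at hcon
    have hli : LinearIndependent R (Fin.cons x v : Fin (finrank R M).succ → M) := by
      refine LinearIndependent.finCons' x v hv fun c y hy hcy => ?_
      by_contra hc
      refine hcon c hc ?_
      have : c • x = -y := eq_neg_of_add_eq_zero_left hcy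
      rw [this]
      exact neg_mem hy
    have := hli.fintype_card_le_finrank
    simp at this
  choose cx hcx0 hcx using h1
  obtain ⟨s, hs⟩ := (Module.Finite.fg_top : (⊤ : Submodule R M).FG)
  refine ⟨∏ x ∈ s, cx x, Finset.prod_ne_zero_iff.2 fun x _ => hcx0 x, fun x => ?_⟩
  have hle : Submodule.span R (s : Set M) ≤
      (Submodule.span R (Set.range v)).comap (LinearMap.lsmul R M (∏ x ∈ s, cx x)) := by
    rw [Submodule.span_le]
    intro y hy
    show (∏ x ∈ s, cx x) • y ∈ Submodule.span R (Set.range v)
    rw [← Finset.mul_prod_erase s cx hy, mul_comm, mul_smul]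
    exact Submodule.smul_mem _ _ (hcx y)
  have hx : x ∈ Submodule.span R (s : Set M) := by rw [hs]; trivial
  exact hle hx

lemma part3 :
    ∃ g : (Fin (finrank R M) → R) →ₗ[R] M, Function.Injective g ∧
      ∃ c : R, c ≠ 0 ∧ ∀ x : M, c • x ∈ LinearMap.range g := by
  obtain ⟨v, hv, c, hc, hcv⟩ := exists_indep_family R M
  refine ⟨Fintype.linearCombination R v,
    linearIndependent_iff_injective_fintypeLinearCombination.1 hv, c, hc, fun x => ?_⟩
  rw [Fintype.range_linearCombination]
  exact hcv x

lemma part1 :
    ∃ h : M →ₗ[R] (Fin (finrank R M) → R),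
      (∀ x : M, h x = 0 → ∃ c : R, c ≠ 0 ∧ c • x = 0) ∧
      (∀ y : Fin (finrank R M) → R, ∃ c : R, c ≠ 0 ∧ c • y ∈ LinearMap.range h) := by
  obtain ⟨g, hg, c, hc, hcg⟩ := part3 R M
  let e := LinearEquiv.ofInjective g hg
  let m : M →ₗ[R] LinearMap.range g :=
    LinearMap.codRestrict (LinearMap.range g) (LinearMap.lsmul R M c) hcg
  refine ⟨e.symm.toLinearMap ∘ₗ m, fun x hx => ⟨c, hc, ?_⟩, fun y => ⟨c, hc, g y, ?_⟩⟩
  · have h1 : m x = 0 := by
      have : e.symm (m x) = 0 := hx
      simpa using this
    exact congrArg Subtype.val h1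
  · show e.symm (m (g y)) = c • y
    apply e.injective
    rw [e.apply_symm_apply]
    apply Subtype.ext
    show c • g y = g (c • y)
    rw [map_smul]

lemma part2 :
    ∃ f : R, f ≠ 0 ∧ Module.Free (Localization.Away f) (LocalizedModule (Submonoid.powers f) M) ∧
      finrank (Localization.Away f) (LocalizedModule (Submonoid.powers f) M) = finrank R M := by
  obtain ⟨v, hv, c, hc, hcv⟩ := exists_indep_family R M
  refine ⟨c, hc, ?_⟩
  set S := Submonoid.powers c with hS
  set ι := LocalizedModule.mkLinearMap S M with hι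
  have hli : LinearIndependent (Localization.Away c) (ι ∘ v) :=
    hv.of_isLocalizedModule (Localization.Away c) S ι
  have hspan : ⊤ ≤ Submodule.span (Localization.Away c) (Set.range (ι ∘ v)) := by
    intro y _
    obtain ⟨⟨m, s⟩, h⟩ := IsLocalizedModule.surj S ι y
    have h1 : ι (c • m) ∈ Submodule.span (Localization.Away c) (Set.range (ι ∘ v)) := by
      have h2 : ι (c • m) ∈ (Submodule.span R (Set.range v)).map ι := ⟨_, hcv m, rfl⟩
      rw [Submodule.map_span, ← Set.range_comp] at h2
      exact Submodule.span_subset_span R (Localization.Away c) _ h2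
    have hu : IsUnit (algebraMap R (Localization.Away c) (c * s)) :=
      IsLocalization.map_units (Localization.Away c)
        (⟨c * s, S.mul_mem (Submonoid.mem_powers c) s.2⟩ : S)
    have h3 : algebraMap R (Localization.Away c) (c * s) • y = ι (c • m) := by
      rw [algebraMap_smul, mul_smul, map_smul, ← h]; rfl
    rw [← h3] at h1
    obtain ⟨u, hu'⟩ := hu
    rw [← hu'] at h1
    have := Submodule.smul_mem _ (u⁻¹ : (Localization.Away c)ˣ).1 h1
    rwa [← mul_smul, Units.inv_mul, one_smul] at this
  have : IsDomain (Localization.Away c) :=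
    IsLocalization.isDomain_localization (powers_le_nonZeroDivisors_of_noZeroDivisors hc)
  let b := Basis.mk hli hspan
  exact ⟨Module.Free.of_basis b, by rw [Module.finrank_eq_card_basis b, Fintype.card_fin]⟩

end


/-- Let `R` be a domain and `M` a finite `R`-module, of (finite) rank `r`. Then: some linear map `M →
R^r` has torsion kernel and torsion cokernel; some nonzero `f ∈ R` makes `M_f` free of rank `r` over
`R_f`; and some injective linear map `R^r → M` has torsion cokernel. -/
theorem result (R : Type u) [CommRing R] [IsDomain R] (M : Type u) [AddCommGroup M]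
    [Module R M] [Module.Finite R M] :
    (∃ h : M →ₗ[R] (Fin (Module.finrank R M) → R),
      (∀ x : M, h x = 0 → ∃ c : R, c ≠ 0 ∧ c • x = 0) ∧
      (∀ y : Fin (Module.finrank R M) → R, ∃ c : R, c ≠ 0 ∧ c • y ∈ LinearMap.range h)) ∧
    (∃ f : R, f ≠ 0 ∧ Module.Free (Localization.Away f) (LocalizedModule (Submonoid.powers f) M) ∧
      Module.finrank (Localization.Away f) (LocalizedModule (Submonoid.powers f) M) = Module.finrank R M) ∧
    (∃ g : (Fin (Module.finrank R M) → R) →ₗ[R] M, Function.Injective g ∧
      ∀ x : M, ∃ c : R, c ≠ 0 ∧ c • x ∈ LinearMap.range g) := by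
  refine ⟨part1 R M, part2 R M, ?_⟩
  obtain ⟨g, hg, c, hc, hcg⟩ := part3 R M
  exact ⟨g, hg, fun x => ⟨c, hc, hcg x⟩⟩

end Groth.Agent.S6913
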