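import Groth.Statements.S6914
import Groth.Agent.Lib.Fitting82L
import Groth.Agent.Lib.Fitting82D

set_option autoImplicit false
universe u
open TensorProduct
open Fitt

namespace Groth.Agent.S6914

/-- Let `M` be a finite `R`-module, `k ≥ 0`, `I = Fit_k(M)` and `a ∈ I`; let `R₁ ≅ R[I/a]` be (a copy
of) the affine blow-up algebra and `M' = (M ⊗_R R₁)/(a-power torsion)` the strict transform. Then
`Fit_k(M') = R₁`. -/
theorem result {R : Type u} [CommRing R] (M : Type u) [AddCommGroup M] [Module R M]
    [Module.Finite R M] (k : ℕ) (a : R) (ha : a ∈ Fitt.ideal R M k)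
    (R₁ : Type u) [CommRing R₁] [Algebra R R₁] (e : R₁ ≃ₐ[R] ↥(BlowUp.affineAlgebra R (Fitt.ideal R M k) a)) :
    Fitt.ideal R₁ ((R₁ ⊗[R] M) ⧸ FlatCA.powTorsion R₁ (algebraMap R R₁ a) (R₁ ⊗[R] M)) k = ⊤ := by
  classical
  set a' := algebraMap R R₁ a with ha'
  -- the inverse image ideal is principal
  have hmap : (Fitt.ideal R M k).map (algebraMap R R₁) = Ideal.span {a'} := by
    apply le_antisymm
    · rw [Ideal.map_le_iff_le_comap]
      intro x hx
      rw [Ideal.mem_comap, Ideal.mem_span_singleton']
      let q : ↥(BlowUp.affineAlgebra R (Fitt.ideal R M k) a) :=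
        ⟨IsLocalization.mk' (Localization.Away a) x ⟨a, Submonoid.mem_powers a⟩,
          Algebra.subset_adjoin ⟨x, hx, rfl⟩⟩
      have hq : algebraMap R ↥(BlowUp.affineAlgebra R (Fitt.ideal R M k) a) x =
          q * algebraMap R ↥(BlowUp.affineAlgebra R (Fitt.ideal R M k) a) a := by
        apply Subtype.ext
        change algebraMap R (Localization.Away a) x =
          IsLocalization.mk' (Localization.Away a) x ⟨a, Submonoid.mem_powers a⟩ *
            algebraMap R (Localization.Away a) a
        rw [mul_comm]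
        exact (IsLocalization.mk'_spec' (Localization.Away a) x ⟨a, Submonoid.mem_powers a⟩).symm
      refine ⟨e.symm q, ?_⟩
      have h1 : algebraMap R R₁ x = e.symm (algebraMap R _ x) := (e.symm.commutes x).symm
      have h2 : a' = e.symm (algebraMap R _ a) := (e.symm.commutes a).symm
      rw [h1, h2, hq, map_mul]
    · rw [Ideal.span_le, Set.singleton_subset_iff]
      exact Ideal.mem_map_of_mem _ ha
  have hfit : Fitt.ideal R₁ (R₁ ⊗[R] M) k = Ideal.span {a'} := by
    rw [Groth.Agent.Lib.Fitting82.ideal_baseChange R₁ k, hmap]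
  apply Groth.Agent.Lib.Fitting82.ideal_quotient_eq_top_of_ker_smul_le k a' hfit
  intro m hm
  rw [LinearMap.mem_ker, LinearMap.smul_apply, LinearMap.id_apply] at hm
  apply Submodule.mem_iSup_of_mem 1
  rw [Submodule.mem_torsionBy_iff, pow_one]
  exact hm

end Groth.Agent.S6914
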