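import Groth.Statements.S6915
import Groth.Agent.Lib.Fitting82M
import Groth.Agent.Lib.Fitting82D
import Groth.Agent.S6914

set_option autoImplicit false
universe u
open TensorProduct
open Fitt

namespace Groth.Agent.S6915

/-- Let `M` be a finite `R`-module, `k ≥ 0` and `I = Fit_k(M)`, and assume `M_𝔭` is free of rank `k` for
every prime `𝔭` not containing `I`. Then for every `a ∈ I` and (a copy `R₁` of) the affine blow-up
algebra `R[I/a]`, the strict transform `M' = (M ⊗_R R₁)/(a-power torsion)` is finite locally free of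
rank `k`: every prime of `R₁` has a basic open neighbourhood over which `M'` is free of rank `k`. -/
theorem result {R : Type u} [CommRing R] (M : Type u) [AddCommGroup M]
    [Module R M] [Module.Finite R M] (k : ℕ)
    (hfree : ∀ (p : Ideal R) [p.IsPrime], ¬ Fitt.ideal R M k ≤ p →
      Module.Free (Localization.AtPrime p) (LocalizedModule p.primeCompl M) ∧
        Module.finrank (Localization.AtPrime p) (LocalizedModule p.primeCompl M) = k)
    (a : R) (ha : a ∈ Fitt.ideal R M k) (R₁ : Type u) [CommRing R₁] [Algebra R R₁] (e : R₁ ≃ₐ[R] ↥(BlowUp.affineAlgebra R (Fitt.ideal R M k) a)) :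
    ∀ (p' : Ideal R₁) [p'.IsPrime], ∃ g : R₁, g ∉ p' ∧
      Module.Free (Localization.Away g) (LocalizedModule (Submonoid.powers g) ((R₁ ⊗[R] M) ⧸ FlatCA.powTorsion R₁ (algebraMap R R₁ a) (R₁ ⊗[R] M))) ∧
      Module.finrank (Localization.Away g) (LocalizedModule (Submonoid.powers g) ((R₁ ⊗[R] M) ⧸ FlatCA.powTorsion R₁ (algebraMap R R₁ a) (R₁ ⊗[R] M))) = k := by
  classical
  set a' := algebraMap R R₁ a with ha'
  -- (i) `a'` is a nonzerodivisor
  have ha'nzd : a' ∈ nonZeroDivisors R₁ := by
    rw [mem_nonZeroDivisors_iff_right]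
    intro b hb
    have h1 : e b * algebraMap R ↥(BlowUp.affineAlgebra R (Fitt.ideal R M k) a) a = 0 := by
      rw [← e.commutes a, ← map_mul, hb, map_zero]
    have h2 : ((e b : ↥(BlowUp.affineAlgebra R (Fitt.ideal R M k) a)) : Localization.Away a) *
        algebraMap R (Localization.Away a) a = 0 := congrArg Subtype.val h1
    have hunit : IsUnit (algebraMap R (Localization.Away a) a) :=
      IsLocalization.Away.algebraMap_isUnit a
    have h3 : ((e b : ↥(BlowUp.affineAlgebra R (Fitt.ideal R M k) a)) : Localization.Away a) = 0 :=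
      (hunit.mul_left_eq_zero).1 h2
    have h4 : e b = 0 := Subtype.ext h3
    exact e.injective (by rw [h4, map_zero])
  -- (ii) low Fitting ideals of the base change vanish
  have hbotM₁ : ∀ j, j < k → Fitt.ideal R₁ (R₁ ⊗[R] M) j = ⊥ := by
    intro j hj
    rw [Groth.Agent.Lib.Fitting82.ideal_baseChange R₁ j, eq_bot_iff, Ideal.map_le_iff_le_comap]
    intro x hx
    obtain ⟨n, hn⟩ := Groth.Agent.Lib.Fitting82.exists_pow_mul_eq_zero_of_free_atPrime k j hj a
      (fun p _ hap => hfree p (fun hle => hap (hle ha))) x hx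
    rw [Ideal.mem_comap, Ideal.mem_bot]
    have : a' ^ n * algebraMap R R₁ x = 0 := by rw [ha', ← map_pow, ← map_mul, hn, map_zero]
    exact (mul_left_mem_nonZeroDivisors_eq_zero_iff (pow_mem ha'nzd n)).1 this
  -- (iii) the same for the strict transform
  have hbot : ∀ j, j < k → Fitt.ideal R₁
      ((R₁ ⊗[R] M) ⧸ FlatCA.powTorsion R₁ a' (R₁ ⊗[R] M)) j = ⊥ := by
    intro j hj
    apply Groth.Agent.Lib.Fitting82.ideal_quotient_eq_bot_of_torsion j a' ha'nzd _ _ (hbotM₁ j hj)
    intro t ht
    have hdir : Directed (· ≤ ·)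
        (fun n : ℕ => Submodule.torsionBy R₁ (R₁ ⊗[R] M) (a' ^ n)) := by
      apply Monotone.directed_le
      intro n m hnm
      exact Submodule.torsionBy_le_torsionBy_of_dvd _ _ (pow_dvd_pow a' hnm)
    obtain ⟨n, hn⟩ := (Submodule.mem_iSup_of_directed _ hdir).1 ht
    exact ⟨n, (Submodule.mem_torsionBy_iff _ _).1 hn⟩
  -- (iv) high Fitting ideals are everything
  have htop : ∀ j, k ≤ j → Fitt.ideal R₁
      ((R₁ ⊗[R] M) ⧸ FlatCA.powTorsion R₁ a' (R₁ ⊗[R] M)) j = ⊤ := by
    intro j hj
    rw [eq_top_iff, ← Groth.Agent.S6914.result M k a ha R₁ e]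
    exact Groth.Agent.Lib.Fitting82.ideal_mono_index hj
  exact (Groth.Agent.Lib.Fitting82.locallyFree_rank_iff k).2 ⟨hbot, htop⟩

end Groth.Agent.S6915
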