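import Groth.Statements.S6920
import Mathlib.Algebra.Category.Ring.Epi
import Mathlib.Algebra.Algebra.Epi
import Mathlib.Algebra.Category.ModuleCat.ChangeOfRings
-- import your own Groth.Agent.* helpers here

set_option autoImplicit false
universe u
open CategoryTheory CategoryTheory.Limits MonoidalCategory
open DRing

namespace Groth.Agent.S6920

open TensorProduct in
/-- For an epimorphism of commutative rings `R → S`, every `R`-linear map between `S`-modules is
`S`-linear. -/
theorem smul_of_isEpi {R S : Type u} [CommRing R] [CommRing S] [Algebra R S] [Algebra.IsEpi R S]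
    {M N : Type u} [AddCommGroup M] [AddCommGroup N] [Module S M] [Module S N] [Module R M]
    [Module R N] [IsScalarTower R S M] [IsScalarTower R S N] (g : M →ₗ[R] N) (s : S) (m : M) :
    g (s • m) = s • g m := by
  let β : S ⊗[R] S →ₗ[R] N := TensorProduct.lift
    (LinearMap.mk₂ R (fun a b : S => a • g (b • m))
      (fun a a' b => by rw [add_smul])
      (fun r a b => by rw [smul_assoc])
      (fun a b b' => by rw [add_smul, map_add, smul_add])
      (fun r a b => by rw [smul_assoc, map_smul, smul_comm]))
  have h := (Algebra.isEpi_iff_forall_one_tmul_eq R S).1 inferInstance s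
  have h2 := congrArg β h
  simpa [β] using h2

/-- Restriction of scalars along a ring epimorphism is full. -/
theorem exists_preimage {R S : Type u} [CommRing R] [CommRing S] (φ : R →+* S)
    (hφ : Epi (CommRingCat.ofHom φ)) {M N : ModuleCat.{u} S}
    (g : (ModuleCat.restrictScalars φ).obj M ⟶ (ModuleCat.restrictScalars φ).obj N) :
    ∃ g' : M ⟶ N, (ModuleCat.restrictScalars φ).map g' = g := by
  let _ : Algebra R S := φ.toAlgebra
  have hepi : Algebra.IsEpi R S := CommRingCat.epi_iff_epi.mp hφ
  let _ : Module R M := Module.compHom M φ
  let _ : Module R N := Module.compHom N φ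
  have : IsScalarTower R S M := ⟨fun r s m => mul_smul (φ r) s m⟩
  have : IsScalarTower R S N := ⟨fun r s n => mul_smul (φ r) s n⟩
  let g₀ : M →ₗ[R] N := g.hom
  refine ⟨ModuleCat.ofHom
    { toFun := fun m => g₀ m
      map_add' := fun a b => map_add g₀ a b
      map_smul' := fun s m => smul_of_isEpi g₀ s m }, ?_⟩
  ext x
  rfl

/-- For an epimorphism of rings `φ : R → S` and a complex `I•` of `S`-modules, if the underlying complex
of `R`-modules of `I•` is K-injective, then `I•` itself is K-injective over `S`. -/
theorem result (R S : Type u) [CommRing R] [CommRing S] (φ : R →+* S)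
    (hφ : Epi (CommRingCat.ofHom φ)) (I : DRing.Cx S)
    [CochainComplex.IsKInjective ((DRing.restrictCx φ).obj I)] : CochainComplex.IsKInjective I := by
  refine ⟨fun {K} f hK => ?_⟩
  have hFK : ((DRing.restrictCx φ).obj K).Acyclic := by
    intro i
    have := hK i
    rw [HomologicalComplex.exactAt_iff] at this ⊢
    exact this.map (ModuleCat.restrictScalars.{u} φ)
  have h : Homotopy ((DRing.restrictCx φ).map f) 0 :=
    CochainComplex.IsKInjective.homotopyZero _ hFK
  choose h' hh' using fun (i j : ℤ) => exists_preimage φ hφ (M := K.X i) (N := I.X j) (h.hom i j)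
  refine ⟨{ hom := h', zero := ?_, comm := ?_ }⟩
  · intro i j hij
    apply (ModuleCat.restrictScalars.{u} φ).map_injective
    rw [hh', h.zero i j hij]
    exact ((ModuleCat.restrictScalars.{u} φ).map_zero _ _).symm
  · intro i
    apply (ModuleCat.restrictScalars.{u} φ).map_injective
    have := h.comm i
    simp only [dNext, prevD, AddMonoidHom.mk'_apply, HomologicalComplex.zero_f, add_zero,
      Functor.map_add, Functor.map_comp, hh'] at this ⊢
    exact this

end Groth.Agent.S6920
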