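import Groth.Statements.S6921
import Mathlib

set_option autoImplicit false
universe u
open TensorProduct
open EtAlg

namespace Groth.Agent.S6921


theorem mem_smul_top_of_tmul_eq_zero {R S M : Type*} [CommRing R] [CommRing S] [Algebra R S]
    [AddCommGroup M] [Module R M] (hs : Function.Surjective (algebraMap R S)) (m : M)
    (h : (1 : S) ⊗ₜ[R] m = 0) : m ∈ (RingHom.ker (algebraMap R S)) • (⊤ : Submodule R M) := by
  set g : R →ₗ[R] S := Algebra.linearMap R S with hg
  have hex : Function.Exact (LinearMap.ker g).subtype g := LinearMap.exact_subtype_ker_map g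
  have hex2 := rTensor_exact M hex hs
  have h1 : (g.rTensor M) ((1 : R) ⊗ₜ m) = 0 := by
    rw [LinearMap.rTensor_tmul]
    simp only [hg, Algebra.linearMap_apply, map_one]
    exact h
  obtain ⟨s, hs'⟩ := (hex2 _).mp h1
  have key : ∀ s : (LinearMap.ker g) ⊗[R] M,
      TensorProduct.lid R M ((LinearMap.ker g).subtype.rTensor M s) ∈
        (RingHom.ker (algebraMap R S)) • (⊤ : Submodule R M) := by
    intro s
    induction s with
    | zero => simp
    | tmul k m =>
      rw [LinearMap.rTensor_tmul, TensorProduct.lid_tmul]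
      refine Submodule.smul_mem_smul ?_ trivial
      have := k.2
      rw [LinearMap.mem_ker] at this
      rw [RingHom.mem_ker]
      exact this
    | add x y hx hy => simp only [map_add]; exact add_mem hx hy
  have := key s
  rw [hs'] at this
  simpa using this

theorem result' (B' B A' A : Type u) [CommRing B'] [CommRing B] [CommRing A'] [CommRing A]
    [Algebra B' B] [Algebra B' A'] [Algebra B A] [Algebra A' A] [Algebra B' A] [IsScalarTower B' B A] [IsScalarTower B' A' A]
    (hsq : EtMil.IsFibreSquare B' B A' A)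
    (D' D C' C : Type u) [CommRing D'] [CommRing D] [CommRing C'] [CommRing C]
    [Algebra B' D'] [Algebra B D] [Algebra A' C'] [Algebra A C]
    [Algebra D' D] [Algebra B' D] [IsScalarTower B' B D] [IsScalarTower B' D' D] [Algebra.IsPushout B' B D' D]
    [Algebra D' C'] [Algebra B' C'] [IsScalarTower B' A' C'] [IsScalarTower B' D' C'] [Algebra.IsPushout B' A' D' C']
    [Algebra D' C] [Algebra B' C] [IsScalarTower B' A C] [IsScalarTower B' D' C] [Algebra.IsPushout B' A D' C]
    [Algebra D C] [IsScalarTower D' D C] [Algebra B C] [IsScalarTower B A C] [IsScalarTower B D C]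
    [Algebra C' C] [IsScalarTower D' C' C] [Algebra A' C] [IsScalarTower A' A C] [IsScalarTower A' C' C]
    {N M' : Type u} [AddCommGroup N] [Module D N] [Module D' N] [IsScalarTower D' D N]
    [AddCommGroup M'] [Module C' M'] [Module D' M'] [IsScalarTower D' C' M'] (φ : C ⊗[D] N ≃ₗ[C] C ⊗[C'] M')
    [Module.Finite D N] [Module.Finite C' M'] : Module.Finite D' ↥(EtMil.glue D' φ) := by
  classical
  obtain ⟨hsurjA, hfib⟩ := hsq
  -- (0) B' → B surjective
  have hB : Function.Surjective (algebraMap B' B) := by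
    intro b
    obtain ⟨a', ha'⟩ := hsurjA (algebraMap B A b)
    obtain ⟨b', ⟨hb', _⟩, _⟩ := hfib b a' ha'.symm
    exact ⟨b', hb'⟩
  have hD : IsBaseChange B (IsScalarTower.toAlgHom B' D' D).toLinearMap := Algebra.IsPushout.out
  have hC' : IsBaseChange A' (IsScalarTower.toAlgHom B' D' C').toLinearMap := Algebra.IsPushout.out
  have hC : IsBaseChange A (IsScalarTower.toAlgHom B' D' C).toLinearMap := Algebra.IsPushout.out
  -- (2) D' → D surjective
  have hDsurj : Function.Surjective (algebraMap D' D) := by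
    intro x
    refine hD.inductionOn x (fun x => ∃ d, algebraMap D' D d = x) ⟨0, map_zero _⟩ ?_ ?_ ?_
    · intro d; exact ⟨d, rfl⟩
    · rintro b _ ⟨d, rfl⟩
      obtain ⟨b', rfl⟩ := hB b
      refine ⟨algebraMap B' D' b' * d, ?_⟩
      rw [map_mul, ← IsScalarTower.algebraMap_apply, Algebra.smul_def,
        ← IsScalarTower.algebraMap_apply]
    · rintro _ _ ⟨d1, rfl⟩ ⟨d2, rfl⟩; exact ⟨d1 + d2, map_add _ _ _⟩
  -- (1) C' → C surjective
  have hCsurj : Function.Surjective (algebraMap C' C) := by
    intro x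
    refine hC.inductionOn x (fun x => ∃ c, algebraMap C' C c = x) ⟨0, map_zero _⟩ ?_ ?_ ?_
    · intro d
      refine ⟨algebraMap D' C' d, ?_⟩
      rw [← IsScalarTower.algebraMap_apply]; rfl
    · rintro a _ ⟨c, rfl⟩
      obtain ⟨a', rfl⟩ := hsurjA a
      refine ⟨algebraMap A' C' a' * c, ?_⟩
      rw [map_mul, ← IsScalarTower.algebraMap_apply, Algebra.smul_def,
        ← IsScalarTower.algebraMap_apply]
    · rintro _ _ ⟨d1, rfl⟩ ⟨d2, rfl⟩; exact ⟨d1 + d2, map_add _ _ _⟩
  -- (3)
  have h3 : ∀ ι : C', algebraMap C' C ι = 0 →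
      ∃ d : D', algebraMap D' D d = 0 ∧ algebraMap D' C' d = ι := by
    intro ι hι
    let f : A' →ₗ[B'] A := (IsScalarTower.toAlgHom B' A' A).toLinearMap
    have hf : Function.Surjective f := hsurjA
    have hex := rTensor_exact D' (LinearMap.exact_subtype_ker_map f) hf
    have hcomm : ∀ t : A' ⊗[B'] D', hC.equiv (f.rTensor D' t) = algebraMap C' C (hC'.equiv t) := by
      intro t
      induction t with
      | zero => simp
      | tmul a d =>
        rw [LinearMap.rTensor_tmul, IsBaseChange.equiv_tmul, IsBaseChange.equiv_tmul]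
        simp only [f, AlgHom.toLinearMap_apply, IsScalarTower.coe_toAlgHom']
        rw [Algebra.smul_def, Algebra.smul_def, map_mul, ← IsScalarTower.algebraMap_apply A' A C,
          ← IsScalarTower.algebraMap_apply A' C' C, ← IsScalarTower.algebraMap_apply D' C' C]
      | add x y hx hy => simp only [map_add, hx, hy]
    have h0 : f.rTensor D' (hC'.equiv.symm ι) = 0 := by
      apply hC.equiv.injective
      rw [hcomm, LinearEquiv.apply_symm_apply, hι, map_zero]
    obtain ⟨s, hs⟩ := (hex _).mp h0
    have key : ∀ s : (LinearMap.ker f) ⊗[B'] D', ∃ d : D', algebraMap D' D d = 0 ∧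
        algebraMap D' C' d = hC'.equiv ((LinearMap.ker f).subtype.rTensor D' s) := by
      intro s
      induction s with
      | zero => exact ⟨0, map_zero _, by simp⟩
      | tmul k d =>
        have hk : algebraMap A' A k.1 = 0 := by
          have := k.2
          rw [LinearMap.mem_ker] at this
          exact this
        obtain ⟨β, ⟨hβ1, hβ2⟩, _⟩ := hfib 0 k.1 (by rw [map_zero, hk])
        refine ⟨algebraMap B' D' β * d, ?_, ?_⟩
        · rw [map_mul, ← IsScalarTower.algebraMap_apply, IsScalarTower.algebraMap_apply B' B D,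
            hβ1, map_zero, zero_mul]
        · rw [map_mul, ← IsScalarTower.algebraMap_apply, IsScalarTower.algebraMap_apply B' A' C',
            hβ2, LinearMap.rTensor_tmul, IsBaseChange.equiv_tmul, Algebra.smul_def]
          rfl
      | add x y hx hy =>
        obtain ⟨d1, h11, h12⟩ := hx
        obtain ⟨d2, h21, h22⟩ := hy
        exact ⟨d1 + d2, by rw [map_add, h11, h21, add_zero],
          by rw [map_add, h12, h22, map_add, map_add]⟩
    obtain ⟨d, hd1, hd2⟩ := key s
    exact ⟨d, hd1, by rw [hd2, hs, LinearEquiv.apply_symm_apply]⟩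
  -- membership unfolding
  have hmem : ∀ x : N × M', x ∈ EtMil.glue D' φ ↔ φ ((1 : C) ⊗ₜ[D] x.1) = (1 : C) ⊗ₜ[C'] x.2 :=
    fun x => Iff.rfl
  -- lifts
  have hlift : ∀ n : N, ∃ m' : M', (n, m') ∈ EtMil.glue D' φ := by
    intro n
    obtain ⟨m', hm'⟩ := TensorProduct.mk_surjective C' M' C hCsurj (φ (1 ⊗ₜ n))
    exact ⟨m', (hmem _).mpr hm'.symm⟩
  choose lift hliftmem using hlift
  set IC : Ideal C' := RingHom.ker (algebraMap C' C) with hIC
  -- elements (0, ι • m) are in G
  have hzero : ∀ (ι : C') (_ : ι ∈ IC) (m : M'), ((0 : N), ι • m) ∈ EtMil.glue D' φ := by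
    intro ι hι m
    rw [hmem]
    simp only
    rw [TensorProduct.tmul_zero, map_zero, ← TensorProduct.smul_tmul, Algebra.smul_def, mul_one,
      (RingHom.mem_ker).mp hι, TensorProduct.zero_tmul]
  -- second coordinates span M'
  set SS : Submodule C' M' :=
    Submodule.span C' ((fun x : N × M' => x.2) '' ((EtMil.glue D' φ : Submodule D' (N × M')) : Set (N × M')))
    with hSS
  have hIsub : IC • (⊤ : Submodule C' M') ≤ SS := by
    rw [Submodule.smul_le]
    intro ι hι m _
    exact Submodule.subset_span ⟨(0, ι • m), hzero ι hι m, rfl⟩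
  have hspan : SS = ⊤ := by
    rw [eq_top_iff]
    intro m' _
    have claim : ∀ z : C ⊗[D] N, ∃ w ∈ SS, φ z = (1 : C) ⊗ₜ[C'] w := by
      intro z
      induction z with
      | zero => exact ⟨0, zero_mem _, by simp⟩
      | tmul c n =>
        obtain ⟨c', rfl⟩ := hCsurj c
        refine ⟨c' • lift n, Submodule.smul_mem _ _ (Submodule.subset_span ⟨_, hliftmem n, rfl⟩), ?_⟩
        have h1 : (algebraMap C' C c' ⊗ₜ[D] n : C ⊗[D] N) = algebraMap C' C c' • ((1 : C) ⊗ₜ[D] n) := by
          rw [TensorProduct.smul_tmul', smul_eq_mul, mul_one]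
        rw [h1, map_smul, (hmem _).mp (hliftmem n)]
        simp only
        rw [TensorProduct.smul_tmul', smul_eq_mul, mul_one, ← TensorProduct.smul_tmul,
          Algebra.smul_def, mul_one]
      | add x y hx hy =>
        obtain ⟨w1, hw1, h1⟩ := hx
        obtain ⟨w2, hw2, h2⟩ := hy
        exact ⟨w1 + w2, add_mem hw1 hw2, by rw [map_add, h1, h2, TensorProduct.tmul_add]⟩
    obtain ⟨w, hw, hw2⟩ := claim (φ.symm ((1 : C) ⊗ₜ[C'] m'))
    rw [LinearEquiv.apply_symm_apply] at hw2
    have h0 : (1 : C) ⊗ₜ[C'] (m' - w) = 0 := by rw [TensorProduct.tmul_sub, hw2, sub_self]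
    have h1 := hIsub (mem_smul_top_of_tmul_eq_zero hCsurj _ h0)
    have : m' = w + (m' - w) := by abel
    rw [this]
    exact add_mem hw h1
  -- finite subset
  have hfgM : (⊤ : Submodule C' M').FG := Module.Finite.fg_top
  rw [← hspan, hSS, Submodule.fg_span_iff_fg_span_finset_subset] at hfgM
  obtain ⟨T, hTsub, hTspan⟩ := hfgM
  have hTtop : Submodule.span C' (T : Set M') = ⊤ := by rw [← hTspan, ← hSS, hspan]
  have hTsub' : ∀ t ∈ T, ∃ x : N × M', x ∈ EtMil.glue D' φ ∧ x.2 = t := fun t ht => hTsub ht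
  choose! gT hgT using hTsub'
  -- generators of N
  obtain ⟨sN, hsN⟩ := (Module.Finite.fg_top : (⊤ : Submodule D N).FG)
  let gens : Set (N × M') := (fun y => (y, lift y)) '' (sN : Set N) ∪ gT '' (T : Set M')
  have hgensfin : gens.Finite := (sN.finite_toSet.image _).union (T.finite_toSet.image _)
  have hgensG : gens ⊆ ((EtMil.glue D' φ : Submodule D' (N × M')) : Set (N × M')) := by
    rintro x (⟨y, _, rfl⟩ | ⟨t, ht, rfl⟩)
    · exact hliftmem y
    · exact (hgT t ht).1
  set W : Submodule D' (N × M') := Submodule.span D' gens with hW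
  have hWG : W ≤ EtMil.glue D' φ := Submodule.span_le.mpr hgensG
  -- Claim A
  have claimA : ∀ n ∈ Submodule.span D (sN : Set N), ∃ w ∈ W, w.1 = n := by
    intro n hn
    induction hn using Submodule.span_induction with
    | mem y hy => exact ⟨(y, lift y), Submodule.subset_span (Or.inl ⟨y, hy, rfl⟩), rfl⟩
    | zero => exact ⟨0, zero_mem _, rfl⟩
    | add x y _ _ hx hy =>
      obtain ⟨w1, hw1, h1⟩ := hx
      obtain ⟨w2, hw2, h2⟩ := hy
      exact ⟨w1 + w2, add_mem hw1 hw2, by rw [Prod.fst_add, h1, h2]⟩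
    | smul d x _ hx =>
      obtain ⟨w1, hw1, h1⟩ := hx
      obtain ⟨d', rfl⟩ := hDsurj d
      exact ⟨d' • w1, Submodule.smul_mem _ _ hw1, by rw [Prod.smul_fst, h1, algebraMap_smul]⟩
  -- Claim B'
  have claimB' : ∀ m ∈ Submodule.span C' (T : Set M'), ∀ ι ∈ IC, ((0 : N), ι • m) ∈ W := by
    intro m hm
    induction hm using Submodule.span_induction with
    | mem t ht =>
      intro ι hι
      obtain ⟨d', hd1, hd2⟩ := h3 ι ((RingHom.mem_ker).mp hι)
      have hg := hgT t ht
      have : ((0 : N), ι • t) = d' • gT t := by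
        ext
        · rw [Prod.smul_fst, ← algebraMap_smul D d' (gT t).1, hd1, zero_smul]
        · rw [Prod.smul_snd, ← algebraMap_smul C' d' (gT t).2, hd2, hg.2]
      rw [this]
      exact Submodule.smul_mem _ _ (Submodule.subset_span (Or.inr ⟨t, ht, rfl⟩))
    | zero => intro ι _; rw [smul_zero]; exact zero_mem _
    | add x y _ _ hx hy =>
      intro ι hι
      have : ((0 : N), ι • (x + y)) = (0, ι • x) + (0, ι • y) := by
        ext <;> simp [smul_add]
      rw [this]
      exact add_mem (hx ι hι) (hy ι hι)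
    | smul c x _ hx =>
      intro ι hι
      rw [smul_smul]
      exact hx (ι * c) (IC.mul_mem_right c hι)
  have claimB : ∀ m ∈ IC • (⊤ : Submodule C' M'), ((0 : N), m) ∈ W := by
    intro m hm
    refine Submodule.smul_induction_on hm ?_ ?_
    · intro ι hι m _
      exact claimB' m (by rw [hTtop]; trivial) ι hι
    · intro x y hx hy
      have : ((0 : N), x + y) = (0, x) + (0, y) := by ext <;> simp
      rw [this]
      exact add_mem hx hy
  have hGW : EtMil.glue D' φ ≤ W := by
    intro ξ hξ
    obtain ⟨w, hw, hw1⟩ := claimA ξ.1 (by rw [hsN]; trivial)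
    have hdiff : ξ - w ∈ EtMil.glue D' φ := sub_mem hξ (hWG hw)
    have h0 : (1 : C) ⊗ₜ[C'] (ξ - w).2 = 0 := by
      rw [← (hmem _).mp hdiff, Prod.fst_sub, hw1, sub_self, TensorProduct.tmul_zero, map_zero]
    have h1 := claimB _ (mem_smul_top_of_tmul_eq_zero hCsurj _ h0)
    have : ξ = w + (0, (ξ - w).2) := by
      ext
      · simp [hw1]
      · simp
    rw [this]
    exact add_mem hw h1
  have hEq : EtMil.glue D' φ = W := le_antisymm hGW hWG
  rw [Module.Finite.iff_fg, hEq]
  exact Submodule.fg_span hgensfin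


/-- Let `B' = B ×_A A'` be a fibre square of rings with `A' → A` surjective, `B' → D'` a ring map, and
`D = D' ⊗_{B'} B`, `C' = D' ⊗_{B'} A'`, `C = D' ⊗_{B'} A`. Let `N` be a finite `D`-module, `M'` a
finite `C'`-module and `φ : N ⊗_D C ≅ M' ⊗_{C'} C` a `C`-linear isomorphism. Then the glued module
`N ×_φ M'` is a finite `D'`-module. -/
theorem result (B' B A' A : Type u) [CommRing B'] [CommRing B] [CommRing A'] [CommRing A]
    [Algebra B' B] [Algebra B' A'] [Algebra B A] [Algebra A' A] [Algebra B' A] [IsScalarTower B' B A] [IsScalarTower B' A' A]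
    (hsq : EtMil.IsFibreSquare B' B A' A)
    (D' D C' C : Type u) [CommRing D'] [CommRing D] [CommRing C'] [CommRing C]
    [Algebra B' D'] [Algebra B D] [Algebra A' C'] [Algebra A C]
    [Algebra D' D] [Algebra B' D] [IsScalarTower B' B D] [IsScalarTower B' D' D] [Algebra.IsPushout B' B D' D]
    [Algebra D' C'] [Algebra B' C'] [IsScalarTower B' A' C'] [IsScalarTower B' D' C'] [Algebra.IsPushout B' A' D' C']
    [Algebra D' C] [Algebra B' C] [IsScalarTower B' A C] [IsScalarTower B' D' C] [Algebra.IsPushout B' A D' C]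
    [Algebra D C] [IsScalarTower D' D C] [Algebra B C] [IsScalarTower B A C] [IsScalarTower B D C]
    [Algebra C' C] [IsScalarTower D' C' C] [Algebra A' C] [IsScalarTower A' A C] [IsScalarTower A' C' C]
    {N M' : Type u} [AddCommGroup N] [Module D N] [Module D' N] [IsScalarTower D' D N]
    [AddCommGroup M'] [Module C' M'] [Module D' M'] [IsScalarTower D' C' M'] (φ : C ⊗[D] N ≃ₗ[C] C ⊗[C'] M')
    [Module.Finite D N] [Module.Finite C' M'] : Module.Finite D' ↥(EtMil.glue D' φ) := by
  exact result' B' B A' A hsq D' D C' C φ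

end Groth.Agent.S6921
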