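import Groth.Statements.S6924
import Groth.Agent.Lib.Fitting82M
import Groth.Agent.Lib.Fitting82D
import Groth.Agent.Lib.Fitting82G
import Groth.Agent.Lib.Fitting82C

set_option autoImplicit false
universe u
open TensorProduct
open Fitt

namespace Groth.Agent.S6924

open Groth.Agent.Lib.Fitting82

variable {R : Type u} [CommRing R]

/-- (A) `f` lies in the radical of `Fit_r(M)`. -/
theorem mem_radical_ideal (M : Type u) [AddCommGroup M] [Module R M] [Module.Finite R M]
    (f : R) (r : ℕ)
    (hf : ∀ (p : Ideal R) [p.IsPrime], f ∉ p → ∃ g : R, g ∉ p ∧ g ∈ (Ideal.span {f}).radical ∧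
      Module.Free (Localization.Away g) (LocalizedModule (Submonoid.powers g) M) ∧
        Module.finrank (Localization.Away g) (LocalizedModule (Submonoid.powers g) M) = r) :
    f ∈ (Fitt.ideal R M r).radical := by
  rw [Ideal.radical_eq_sInf, Ideal.mem_sInf]
  rintro p ⟨hp, hpprime⟩
  by_contra hfp
  obtain ⟨g, hgp, -, hfree, hrank⟩ := hf p hfp
  haveI : Nontrivial (Localization.Away g) := nontrivial_away_of_notMem p g hgp
  haveI : Module.Finite (Localization.Away g) (LocalizedModule (Submonoid.powers g) M) :=
    inferInstance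
  have b : Module.Basis (Fin r) (Localization.Away g) (LocalizedModule (Submonoid.powers g) M) :=
    Module.finBasisOfFinrankEq _ _ hrank
  refine not_le_of_span_localizedModule r p (Submonoid.powers g) ?_ b b.span_eq hp
  rintro _ ⟨m, rfl⟩ hmem
  exact hgp (hpprime.mem_of_pow_mem m hmem)

/-- (B) low Fitting ideals are `f`-power torsion. -/
theorem exists_pow_mul_eq_zero (M : Type u) [AddCommGroup M] [Module R M] [Module.Finite R M]
    (f : R) (r : ℕ)
    (hf : ∀ (p : Ideal R) [p.IsPrime], f ∉ p → ∃ g : R, g ∉ p ∧ g ∈ (Ideal.span {f}).radical ∧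
      Module.Free (Localization.Away g) (LocalizedModule (Submonoid.powers g) M) ∧
        Module.finrank (Localization.Away g) (LocalizedModule (Submonoid.powers g) M) = r)
    (j : ℕ) (hj : j < r) (x : R) (hx : x ∈ Fitt.ideal R M j) : ∃ n : ℕ, f ^ n * x = 0 := by
  have hrad : f ∈ (Submodule.annihilator (Ideal.span {x})).radical := by
    rw [Ideal.radical_eq_sInf, Ideal.mem_sInf]
    rintro p ⟨hp, hpprime⟩
    by_contra hfp
    obtain ⟨g, hgp, -, hfree, hrank⟩ := hf p hfp
    haveI : Nontrivial (Localization.Away g) := nontrivial_away_of_notMem p g hgp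
    have b : Module.Basis (Fin r) (Localization.Away g)
        (LocalizedModule (Submonoid.powers g) M) := Module.finBasisOfFinrankEq _ _ hrank
    have h1 := ideal_localizedModule (M := M) (Submonoid.powers g) j
    rw [ideal_eq_bot_of_basis b j hj] at h1
    have h2 : algebraMap R (Localization.Away g) x = 0 := by
      have : algebraMap R (Localization.Away g) x ∈
          (Fitt.ideal R M j).map (algebraMap R (Localization.Away g)) :=
        Ideal.mem_map_of_mem _ hx
      rw [← h1] at this
      exact this
    rw [IsLocalization.map_eq_zero_iff (Submonoid.powers g)] at h2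
    obtain ⟨⟨_, m, rfl⟩, hm⟩ := h2
    have h3 : g ^ m ∈ Submodule.annihilator (Ideal.span {x}) := by
      rw [Submodule.mem_annihilator_span_singleton]
      exact hm
    exact hgp (hpprime.mem_of_pow_mem m (hp h3))
  obtain ⟨n, hn⟩ := hrad
  refine ⟨n, ?_⟩
  rw [Submodule.mem_annihilator] at hn
  exact hn x (Ideal.mem_span_singleton_self x)

/-- A finite presentation approximating `M` whose `r`-th Fitting ideal contains a given element of
`Fit_r(M)`. -/
theorem exists_fp_approx (M : Type u) [AddCommGroup M] [Module R M] [Module.Finite R M]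
    (r : ℕ) (z : R) (hz : z ∈ Fitt.ideal R M r) :
    ∃ (P : Type u) (_ : AddCommGroup P) (_ : Module R P) (_ : Module.FinitePresentation R P)
      (π : P →ₗ[R] M), Function.Surjective π ∧ z ∈ Fitt.ideal R P r := by
  classical
  obtain ⟨n, x, hx⟩ := Module.Finite.exists_fin (R := R) (M := M)
  rw [ideal_eq_D r x hx, D] at hz
  obtain ⟨T, hTS, hzT⟩ := Submodule.mem_span_finite_of_mem_span hz
  have hT : ∀ t ∈ T, ∃ a : Matrix (Fin n) (Fin n) R,
      (∀ i : Fin n, (i : ℕ) < n - r → ∑ j, a i j • x j = 0) ∧ t = a.det := fun t ht => hTS ht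
  choose! A hArows hAdet using hT
  let G : Finset (Fin n → R) := T.biUnion fun t =>
    (Finset.univ.filter fun i : Fin n => (i : ℕ) < n - r).image fun i => A t i
  let K₀ : Submodule R (Fin n → R) := Submodule.span R (G : Set (Fin n → R))
  have hK₀ : K₀ ≤ LinearMap.ker (Fintype.linearCombination R x) := by
    rw [Submodule.span_le]
    intro v hv
    rw [Finset.mem_coe, Finset.mem_biUnion] at hv
    obtain ⟨t, ht, hv⟩ := hv
    rw [Finset.mem_image] at hv
    obtain ⟨i, hi, rfl⟩ := hv
    rw [Finset.mem_filter] at hi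
    rw [SetLike.mem_coe, LinearMap.mem_ker, Fintype.linearCombination_apply]
    exact hArows t ht i hi.2
  have hfp : Module.FinitePresentation R ((Fin n → R) ⧸ K₀) := by
    apply Module.finitePresentation_of_surjective K₀.mkQ (Submodule.mkQ_surjective K₀)
    rw [Submodule.ker_mkQ]
    exact Submodule.fg_span (Finset.finite_toSet G)
  refine ⟨(Fin n → R) ⧸ K₀, inferInstance, inferInstance, hfp,
    K₀.liftQ (Fintype.linearCombination R x) hK₀, ?_, ?_⟩
  · have hsurj : Function.Surjective (Fintype.linearCombination R x) := by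
      rw [← LinearMap.range_eq_top, Fintype.range_linearCombination, hx]
    intro m
    obtain ⟨v, rfl⟩ := hsurj m
    exact ⟨K₀.mkQ v, by simp⟩
  · -- the generators
    let y : Fin n → (Fin n → R) ⧸ K₀ := fun j => K₀.mkQ (Pi.single j 1)
    have hy : Submodule.span R (Set.range y) = ⊤ := by
      have h1 : Set.range y = K₀.mkQ '' Set.range fun j : Fin n => (Pi.single j 1 : Fin n → R) := by
        rw [← Set.range_comp]
        rfl
      rw [h1, Submodule.span_image, span_single_eq_top, Submodule.map_top, Submodule.range_mkQ]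
    have hsum : ∀ v : Fin n → R, ∑ j, v j • y j = K₀.mkQ v := by
      intro v
      simp only [y, ← map_smul, ← map_sum]
      congr 1
      exact (pi_eq_sum_univ' v).symm
    have hsub : Submodule.span R (T : Set R) ≤ Fitt.ideal R ((Fin n → R) ⧸ K₀) r := by
      rw [Submodule.span_le]
      intro t ht
      rw [SetLike.mem_coe, ideal_eq_D r y hy, hAdet t ht]
      apply det_mem_D
      intro i hi
      rw [hsum, Submodule.mkQ_apply, Submodule.Quotient.mk_eq_zero]
      apply Submodule.subset_span
      rw [Finset.mem_coe, Finset.mem_biUnion]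
      refine ⟨t, ht, ?_⟩
      rw [Finset.mem_image]
      exact ⟨i, by simp [hi], rfl⟩
    exact hsub hzT


/-- Let `M` be a finite `R`-module and `f ∈ R` such that every prime of `D(f)` has a basic open
neighbourhood `D(g) ⊆ D(f)` with `M_g` free of rank `r` (in other words `M_f` is, locally on `D(f)`,
free of rank `r`). Then there is a finitely generated ideal `I ⊆ R` with `V(I) = V(f)` such that for
every `a ∈ I` and (a copy `R₁` of) the affine blow-up algebra `R[I/a]`, the strict transform `(M ⊗_R
R₁)/(a-power torsion)` is finite locally free of rank `r` over `R₁`. -/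
theorem result {R : Type u} [CommRing R] (M : Type u) [AddCommGroup M]
    [Module R M] [Module.Finite R M] (f : R) (r : ℕ)
    (hf : ∀ (p : Ideal R) [p.IsPrime], f ∉ p → ∃ g : R, g ∉ p ∧ g ∈ (Ideal.span {f}).radical ∧
      Module.Free (Localization.Away g) (LocalizedModule (Submonoid.powers g) M) ∧
        Module.finrank (Localization.Away g) (LocalizedModule (Submonoid.powers g) M) = r) :
    ∃ I : Ideal R, I.FG ∧ I.radical = (Ideal.span {f}).radical ∧ ∀ a ∈ I, ∀ (R₁ : Type u) [CommRing R₁] [Algebra R R₁] (e : R₁ ≃ₐ[R] ↥(BlowUp.affineAlgebra R I a)),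
      ∀ (p' : Ideal R₁) [p'.IsPrime], ∃ g : R₁, g ∉ p' ∧
        Module.Free (Localization.Away g) (LocalizedModule (Submonoid.powers g) ((R₁ ⊗[R] M) ⧸ FlatCA.powTorsion R₁ (algebraMap R R₁ a) (R₁ ⊗[R] M))) ∧
        Module.finrank (Localization.Away g) (LocalizedModule (Submonoid.powers g) ((R₁ ⊗[R] M) ⧸ FlatCA.powTorsion R₁ (algebraMap R R₁ a) (R₁ ⊗[R] M))) = r := by
  classical
  obtain ⟨N, hN⟩ := mem_radical_ideal M f r hf
  obtain ⟨P, _, _, hPfp, π, hπ, hNP⟩ := exists_fp_approx M r (f ^ N) hN
  set J : Ideal R := Fitt.ideal R P r with hJ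
  have hJfg : J.FG := ideal_fg_of_finitePresentation r
  refine ⟨Ideal.span {f} * J, ?_, ?_, ?_⟩
  · exact Ideal.FG.mul ⟨{f}, by simp⟩ hJfg
  · rw [Ideal.radical_mul, inf_eq_left]
    have h1 : Ideal.span {f} ≤ J.radical := by
      rw [Ideal.span_le, Set.singleton_subset_iff]
      exact ⟨N, hNP⟩
    calc (Ideal.span {f}).radical ≤ J.radical.radical := Ideal.radical_mono h1
      _ = J.radical := Ideal.radical_idem J
  · intro a ha R₁ _ _ e
    obtain ⟨b, hbJ, rfl⟩ := Ideal.mem_span_singleton_mul.mp ha
    set I : Ideal R := Ideal.span {f} * J with hI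
    set a' := algebraMap R R₁ (f * b) with ha'
    set f' := algebraMap R R₁ f with hf'
    set b' := algebraMap R R₁ b with hb'
    have hab : a' = f' * b' := by rw [ha', map_mul]
    -- (i) `a'` is a nonzerodivisor
    have ha'nzd : a' ∈ nonZeroDivisors R₁ := by
      rw [mem_nonZeroDivisors_iff_right]
      intro c hc
      have h1 : e c * algebraMap R ↥(BlowUp.affineAlgebra R I (f * b)) (f * b) = 0 := by
        rw [← e.commutes (f * b), ← map_mul, hc, map_zero]
      have h2 : ((e c : ↥(BlowUp.affineAlgebra R I (f * b))) : Localization.Away (f * b)) *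
          algebraMap R (Localization.Away (f * b)) (f * b) = 0 := congrArg Subtype.val h1
      have hunit : IsUnit (algebraMap R (Localization.Away (f * b)) (f * b)) :=
        IsLocalization.Away.algebraMap_isUnit (f * b)
      have h3 : ((e c : ↥(BlowUp.affineAlgebra R I (f * b))) : Localization.Away (f * b)) = 0 :=
        (hunit.mul_left_eq_zero).1 h2
      have h4 : e c = 0 := Subtype.ext h3
      exact e.injective (by rw [h4, map_zero])
    have hf'nzd : f' ∈ nonZeroDivisors R₁ := by
      rw [hab] at ha'nzd
      exact (mul_mem_nonZeroDivisors.mp ha'nzd).1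
    -- (ii) the inverse image of `J` is generated by `b'`
    have hmap : J.map (algebraMap R R₁) = Ideal.span {b'} := by
      apply le_antisymm
      · rw [Ideal.map_le_iff_le_comap]
        intro x hx
        rw [Ideal.mem_comap, Ideal.mem_span_singleton']
        have hfx : f * x ∈ I := Ideal.mul_mem_mul (Ideal.mem_span_singleton_self f) hx
        let q : ↥(BlowUp.affineAlgebra R I (f * b)) :=
          ⟨IsLocalization.mk' (Localization.Away (f * b)) (f * x)
            ⟨f * b, Submonoid.mem_powers (f * b)⟩, Algebra.subset_adjoin ⟨f * x, hfx, rfl⟩⟩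
        have hq : algebraMap R ↥(BlowUp.affineAlgebra R I (f * b)) x =
            q * algebraMap R ↥(BlowUp.affineAlgebra R I (f * b)) b := by
          apply Subtype.ext
          change algebraMap R (Localization.Away (f * b)) x =
            IsLocalization.mk' (Localization.Away (f * b)) (f * x)
              ⟨f * b, Submonoid.mem_powers (f * b)⟩ * algebraMap R (Localization.Away (f * b)) b
          have hunit : IsUnit (algebraMap R (Localization.Away (f * b)) (f * b)) :=
            IsLocalization.Away.algebraMap_isUnit (f * b)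
          have hspec : IsLocalization.mk' (Localization.Away (f * b)) (f * x)
              ⟨f * b, Submonoid.mem_powers (f * b)⟩ *
                algebraMap R (Localization.Away (f * b)) (f * b) =
              algebraMap R (Localization.Away (f * b)) (f * x) :=
            IsLocalization.mk'_spec _ _ _
          apply hunit.mul_left_injective
          change algebraMap R (Localization.Away (f * b)) x *
              algebraMap R (Localization.Away (f * b)) (f * b) =
            IsLocalization.mk' (Localization.Away (f * b)) (f * x)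
              ⟨f * b, Submonoid.mem_powers (f * b)⟩ * algebraMap R (Localization.Away (f * b)) b *
              algebraMap R (Localization.Away (f * b)) (f * b)
          rw [mul_assoc, mul_comm (algebraMap R (Localization.Away (f * b)) b), ← mul_assoc, hspec,
            ← map_mul, ← map_mul]
          congr 1
          ring
        refine ⟨e.symm q, ?_⟩
        have h1 : algebraMap R R₁ x = e.symm (algebraMap R _ x) := (e.symm.commutes x).symm
        have h2 : b' = e.symm (algebraMap R _ b) := (e.symm.commutes b).symm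
        rw [h1, h2, hq, map_mul]
      · rw [Ideal.span_le, Set.singleton_subset_iff]
        exact Ideal.mem_map_of_mem _ hbJ
    have hfitP : Fitt.ideal R₁ (R₁ ⊗[R] P) r = Ideal.span {b'} := by
      rw [ideal_baseChange R₁ r, hmap]
    -- (iii) the strict transform of `P` has unit `r`-th Fitting ideal
    have htopP : Fitt.ideal R₁
        ((R₁ ⊗[R] P) ⧸ FlatCA.powTorsion R₁ a' (R₁ ⊗[R] P)) r = ⊤ := by
      apply ideal_quotient_eq_top_of_ker_smul_le r b' hfitP
      intro m hm
      rw [LinearMap.mem_ker, LinearMap.smul_apply, LinearMap.id_apply] at hm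
      apply Submodule.mem_iSup_of_mem 1
      rw [Submodule.mem_torsionBy_iff, pow_one, hab, mul_smul, hm, smul_zero]
    -- (iv) the comparison map of strict transforms
    have hdirP : ∀ (Q : Type u) [AddCommGroup Q] [Module R₁ Q] (t : Q),
        t ∈ FlatCA.powTorsion R₁ a' Q → ∃ n : ℕ, a' ^ n • t = 0 := by
      intro Q _ _ t ht
      have hdir : Directed (· ≤ ·) (fun n : ℕ => Submodule.torsionBy R₁ Q (a' ^ n)) := by
        apply Monotone.directed_le
        intro n m hnm
        exact Submodule.torsionBy_le_torsionBy_of_dvd _ _ (pow_dvd_pow a' hnm)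
      obtain ⟨n, hn⟩ := (Submodule.mem_iSup_of_directed _ hdir).1 ht
      exact ⟨n, (Submodule.mem_torsionBy_iff _ _).1 hn⟩
    let φ : R₁ ⊗[R] P →ₗ[R₁] R₁ ⊗[R] M := LinearMap.baseChange R₁ π
    have hφ : Function.Surjective φ := by
      have : (φ : R₁ ⊗[R] P → R₁ ⊗[R] M) = LinearMap.lTensor R₁ π := by
        ext t
        rfl
      rw [this]
      exact LinearMap.lTensor_surjective R₁ hπ
    have hle : FlatCA.powTorsion R₁ a' (R₁ ⊗[R] P) ≤
        (FlatCA.powTorsion R₁ a' (R₁ ⊗[R] M)).comap φ := by
      intro t ht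
      obtain ⟨n, hn⟩ := hdirP _ t ht
      rw [Submodule.mem_comap]
      apply Submodule.mem_iSup_of_mem n
      rw [Submodule.mem_torsionBy_iff, ← map_smul, hn, map_zero]
    let ψ := Submodule.mapQ _ _ φ hle
    have hψ : Function.Surjective ψ := by
      intro t
      obtain ⟨t, rfl⟩ := Submodule.Quotient.mk_surjective _ t
      obtain ⟨s, rfl⟩ := hφ t
      exact ⟨Submodule.Quotient.mk s, rfl⟩
    have htop : ∀ j, r ≤ j → Fitt.ideal R₁
        ((R₁ ⊗[R] M) ⧸ FlatCA.powTorsion R₁ a' (R₁ ⊗[R] M)) j = ⊤ := by
      intro j hj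
      rw [eq_top_iff, ← htopP]
      exact (ideal_mono_of_surjective ψ hψ r).trans (ideal_mono_index hj)
    -- (v) low Fitting ideals vanish
    have hbotM₁ : ∀ j, j < r → Fitt.ideal R₁ (R₁ ⊗[R] M) j = ⊥ := by
      intro j hj
      rw [ideal_baseChange R₁ j, eq_bot_iff, Ideal.map_le_iff_le_comap]
      intro x hx
      obtain ⟨n, hn⟩ := exists_pow_mul_eq_zero M f r hf j hj x hx
      rw [Ideal.mem_comap, Ideal.mem_bot]
      have : f' ^ n * algebraMap R R₁ x = 0 := by rw [hf', ← map_pow, ← map_mul, hn, map_zero]
      exact (mul_left_mem_nonZeroDivisors_eq_zero_iff (pow_mem hf'nzd n)).1 this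
    have hbot : ∀ j, j < r → Fitt.ideal R₁
        ((R₁ ⊗[R] M) ⧸ FlatCA.powTorsion R₁ a' (R₁ ⊗[R] M)) j = ⊥ := by
      intro j hj
      exact ideal_quotient_eq_bot_of_torsion j a' ha'nzd _ (hdirP _) (hbotM₁ j hj)
    exact (locallyFree_rank_iff r).2 ⟨hbot, htop⟩

end Groth.Agent.S6924
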