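import Groth.Statements.S6929
import Mathlib.RingTheory.Adjoin.Tower
-- import your own Groth.Agent.* helpers here

set_option autoImplicit false
universe u
open EtAlg

namespace Groth.Agent.S6929

/-- A finite product of algebras of finite type is of finite type. -/
theorem finiteType_pi (R : Type u) [CommRing R] {ι : Type u} [Fintype ι] (A : ι → Type u)
    [∀ i, CommRing (A i)] [∀ i, Algebra R (A i)] (hA : ∀ i, Algebra.FiniteType R (A i)) :
    Algebra.FiniteType R (∀ i, A i) := by
  classical
  choose s hs using fun i => (hA i).out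
  refine ⟨⟨(Finset.univ.image fun i => Pi.single i (1 : A i)) ∪
    Finset.univ.biUnion (fun i => (s i).image (Pi.single i)), ?_⟩⟩
  rw [eq_top_iff]
  rintro x -
  rw [← Finset.univ_sum_single x]
  refine Subalgebra.sum_mem _ fun i _ => ?_
  have hx : x i ∈ Algebra.adjoin R (s i : Set (A i)) := by rw [hs i]; trivial
  generalize x i = a at hx
  induction hx using Algebra.adjoin_induction with
  | mem a ha =>
    refine Algebra.subset_adjoin ?_
    simp only [Finset.coe_union, Finset.coe_image, Finset.coe_univ, Set.image_univ,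
      Finset.coe_biUnion, Set.mem_univ, Set.iUnion_true, Set.mem_union, Set.mem_range,
      Set.mem_iUnion, Set.mem_image, Finset.mem_coe]
    exact Or.inr ⟨i, a, ha, rfl⟩
  | algebraMap r =>
    have h1 : (Pi.single i (algebraMap R (A i) r) : ∀ i, A i) = r • Pi.single i (1 : A i) := by
      rw [← Pi.single_smul, Algebra.smul_def, mul_one]
    rw [h1]
    refine Subalgebra.smul_mem _ (Algebra.subset_adjoin ?_) r
    simp only [Finset.coe_union, Finset.coe_image, Finset.coe_univ, Set.image_univ,
      Finset.coe_biUnion, Set.mem_univ, Set.iUnion_true, Set.mem_union, Set.mem_range,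
      Set.mem_iUnion, Set.mem_image, Finset.mem_coe]
    exact Or.inl ⟨i, rfl⟩
  | add a b _ _ ha hb => rw [Pi.single_add]; exact add_mem ha hb
  | mul a b _ _ ha hb => rw [Pi.single_mul]; exact mul_mem ha hb

/-- Let `R` be a Noetherian ring, `ι` a finite index type, and `φ_i : A_i → B_i`, `ψ_i : Q → B_i`
surjective `R`-algebra maps, where `Q` and all `A_i`, `B_i` are `R`-algebras of finite type. Then
the fibre product ring `P = Q ×_{∏ B_i} ∏ A_i` (pairs `(q, a)` with `ψ_i(q) = φ_i(a_i)` for all `i`)
is an `R`-algebra of finite type. -/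
theorem result (R : Type u) [CommRing R] [IsNoetherianRing R] {ι : Type u} [Fintype ι]
    (Q : Type u) [CommRing Q] [Algebra R Q] [Algebra.FiniteType R Q] (A B : ι → Type u) [∀ i, CommRing (A i)]
    [∀ i, CommRing (B i)] [∀ i, Algebra R (A i)] [∀ i, Algebra R (B i)] (hA : ∀ i, Algebra.FiniteType R (A i))
    (hB : ∀ i, Algebra.FiniteType R (B i)) (φ : ∀ i, A i →ₐ[R] B i) (ψ : ∀ i, Q →ₐ[R] B i)
    (hφ : ∀ i, Function.Surjective (φ i)) (hψ : ∀ i, Function.Surjective (ψ i)) :
    Algebra.FiniteType R ↥(AlgHom.equalizer ((AlgHom.pi ψ).comp (AlgHom.fst R Q (∀ i, A i)))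
      ((AlgHom.pi fun i => (φ i).comp (Pi.evalAlgHom R A i)).comp (AlgHom.snd R Q (∀ i, A i)))) := by
  classical
  set P := AlgHom.equalizer ((AlgHom.pi ψ).comp (AlgHom.fst R Q (∀ i, A i)))
      ((AlgHom.pi fun i => (φ i).comp (Pi.evalAlgHom R A i)).comp (AlgHom.snd R Q (∀ i, A i)))
    with hP
  have hmem : ∀ t : Q × (∀ i, A i), t ∈ P ↔ ∀ i, ψ i t.1 = φ i (t.2 i) := by
    intro t
    rw [hP, AlgHom.mem_equalizer]
    constructor
    · intro h i
      exact congrFun h i
    · intro h
      funext i
      exact h i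
  have hT : Algebra.FiniteType R (Q × (∀ i, A i)) := by
    have := finiteType_pi R A hA
    infer_instance
  -- lifts
  have hlift : ∀ q : Q, ∃ a : ∀ i, A i, ∀ i, ψ i q = φ i (a i) := by
    intro q
    choose a ha using fun i => hφ i (ψ i q)
    exact ⟨a, fun i => (ha i).symm⟩
  have hlift' : ∀ (i : ι) (b : A i), ∃ p : P, (p : Q × (∀ i, A i)) * (0, Pi.single i 1) =
      (0, Pi.single i b) := by
    intro i b
    obtain ⟨q, hq⟩ := hψ i (φ i b)
    obtain ⟨a, ha⟩ := hlift q
    refine ⟨⟨(q, Function.update a i b), (hmem _).2 fun j => ?_⟩, ?_⟩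
    · by_cases hj : j = i
      · subst hj
        simp [hq]
      · simp [Function.update_of_ne hj, ha j]
    · ext j
      · simp
      · by_cases hj : j = i
        · subst hj
          simp
        · simp [Pi.single_eq_of_ne hj]
  have hfin : (⊤ : Submodule P (Q × (∀ i, A i))).FG := by
    refine ⟨insert 1 (Finset.univ.image fun i => ((0 : Q), (Pi.single i 1 : ∀ i, A i))), ?_⟩
    rw [eq_top_iff]
    rintro ⟨q, a⟩ -
    obtain ⟨a', ha'⟩ := hlift q
    have h1 : ((q, a) : Q × (∀ i, A i)) = (q, a') + ∑ i, ((0 : Q), (Pi.single i (a i - a' i) : ∀ i, A i)) := by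
      ext j
      · simp [Prod.fst_sum]
      · simp [Prod.snd_sum, Finset.sum_apply]
    rw [h1]
    refine add_mem ?_ (sum_mem fun i _ => ?_)
    · have : ((q, a') : Q × (∀ i, A i)) = (⟨(q, a'), (hmem _).2 ha'⟩ : P) • (1 : Q × (∀ i, A i)) := by
        rw [Algebra.smul_def, mul_one]
        rfl
      rw [this]
      exact Submodule.smul_mem _ _ (Submodule.subset_span (by simp))
    · obtain ⟨p, hp⟩ := hlift' i (a i - a' i)
      rw [← hp]
      have : (p : Q × (∀ i, A i)) * (0, Pi.single i 1) = p • ((0 : Q), (Pi.single i 1 : ∀ i, A i)) := by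
        rw [Algebra.smul_def]
        rfl
      rw [this]
      refine Submodule.smul_mem _ _ (Submodule.subset_span ?_)
      simp
  exact ⟨fg_of_fg_of_fg R P (Q × (∀ i, A i)) hT.out hfin Subtype.val_injective⟩

end Groth.Agent.S6929
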