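import Groth.Statements.S6932
import Groth.Agent.Lib.ValFP76C
set_option linter.style.haveILetI false

set_option autoImplicit false
universe u
open CAlg

namespace Groth.Agent.S6932

/-- Let `R → S` be a ring map of finite type with `S` flat over `R`, such that `R → ∏_j R_{𝔭_j}` is
injective for some finite set of primes `𝔭_j` and each localization `S_𝔭` (at a prime `𝔭` of `R`) is
a finitely presented `R_𝔭`-algebra. Then `S` is a finitely presented `R`-algebra. -/
theorem result {R S : Type u} [CommRing R] [CommRing S]
    [Algebra R S] [Algebra.FiniteType R S] [Module.Flat R S] (s : Finset (PrimeSpectrum R))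
    (hs : Function.Injective fun r : R => fun p : s => algebraMap R (Localization.AtPrime p.1.asIdeal) r)
    (hloc : ∀ (p : Ideal R) [p.IsPrime],
      Algebra.FinitePresentation (Localization.AtPrime p) (Localization (Algebra.algebraMapSubmonoid S p.primeCompl))) :
    Algebra.FinitePresentation R S := by
  classical
  obtain ⟨n, φ, hφ⟩ := Algebra.FiniteType.iff_quotient_mvPolynomial''.mp
    (inferInstance : Algebra.FiniteType R S)
  letI : Algebra (MvPolynomial (Fin n) R) S := φ.toRingHom.toAlgebra
  haveI : IsScalarTower R (MvPolynomial (Fin n) R) S :=
    IsScalarTower.of_algebraMap_eq' (by ext r; exact (φ.commutes r).symm)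
  have hsurj : Function.Surjective (algebraMap (MvPolynomial (Fin n) R) S) := hφ
  haveI : Module.Finite (MvPolynomial (Fin n) R) S := Module.Finite.of_surjective
    (Algebra.linearMap (MvPolynomial (Fin n) R) S) hsurj
  suffices h : Module.FinitePresentation (MvPolynomial (Fin n) R) S by
    have hk := Module.FinitePresentation.fg_ker (Algebra.linearMap (MvPolynomial (Fin n) R) S)
      hsurj
    refine Algebra.FinitePresentation.of_surjective (f := φ) hφ ?_
    have e : RingHom.ker φ.toRingHom =
        LinearMap.ker (Algebra.linearMap (MvPolynomial (Fin n) R) S) := by
      ext x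
      rfl
    rw [e]
    exact hk
  refine Groth.Agent.Lib.ValFP76.finitePresentation_of_forall_localization
    (MvPolynomial (Fin n) R) s hs (fun p hp => ?_)
  haveI := hloc p
  -- notation
  let W : Submonoid (MvPolynomial (Fin n) R) :=
    Algebra.algebraMapSubmonoid (MvPolynomial (Fin n) R) p.primeCompl
  have hW' : Algebra.algebraMapSubmonoid S W = Algebra.algebraMapSubmonoid S p.primeCompl := by
    exact Algebra.algebraMapSubmonoid_map_map p.primeCompl
  haveI hloc1 : IsLocalization (Algebra.algebraMapSubmonoid S W)
      (Localization (Algebra.algebraMapSubmonoid S p.primeCompl)) := by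
    rw [hW']
    infer_instance
  haveI hloc2 : IsLocalization (W.map (algebraMap (MvPolynomial (Fin n) R) S))
      (Localization (Algebra.algebraMapSubmonoid S p.primeCompl)) := hloc1
  -- the ring map on localizations
  let ψ : Localization W →+* Localization (Algebra.algebraMapSubmonoid S p.primeCompl) :=
    IsLocalization.map (M := W) (T := W.map (algebraMap (MvPolynomial (Fin n) R) S))
      (Localization (Algebra.algebraMapSubmonoid S p.primeCompl))
      (algebraMap (MvPolynomial (Fin n) R) S) (Submonoid.le_comap_map W)
  have hψsurj : Function.Surjective ψ :=
    IsLocalization.map_surjective_of_surjective (M := W) (S := Localization W)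
      (Localization (Algebra.algebraMapSubmonoid S p.primeCompl)) hsurj
  letI : Algebra (Localization W) (Localization (Algebra.algebraMapSubmonoid S p.primeCompl)) :=
    ψ.toAlgebra
  haveI : IsScalarTower (MvPolynomial (Fin n) R) (Localization W)
      (Localization (Algebra.algebraMapSubmonoid S p.primeCompl)) :=
    IsScalarTower.of_algebraMap_eq' (by
      ext x
      change algebraMap (MvPolynomial (Fin n) R)
        (Localization (Algebra.algebraMapSubmonoid S p.primeCompl)) x =
        ψ (algebraMap (MvPolynomial (Fin n) R) (Localization W) x)
      rw [IsLocalization.map_eq, ← IsScalarTower.algebraMap_apply])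
  -- the localized module is the localized ring
  let e₀ : LocalizedModule W S ≃ₗ[MvPolynomial (Fin n) R]
      Localization (Algebra.algebraMapSubmonoid S p.primeCompl) :=
    IsLocalizedModule.iso W (IsScalarTower.toAlgHom (MvPolynomial (Fin n) R) S
      (Localization (Algebra.algebraMapSubmonoid S p.primeCompl))).toLinearMap
  let e : LocalizedModule W S ≃ₗ[Localization W]
      Localization (Algebra.algebraMapSubmonoid S p.primeCompl) :=
    LinearEquiv.extendScalarsOfIsLocalization W (Localization W) e₀
  suffices h : Module.FinitePresentation (Localization W)
      (Localization (Algebra.algebraMapSubmonoid S p.primeCompl)) from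
    Module.FinitePresentation.of_equiv e.symm
  haveI : Algebra.FinitePresentation (Localization.AtPrime p) (Localization W) := by
    have h1 : (algebraMap R (MvPolynomial (Fin n) R)).FinitePresentation := by
      rw [RingHom.finitePresentation_algebraMap]
      infer_instance
    haveI : IsLocalization (p.primeCompl.map (algebraMap R (MvPolynomial (Fin n) R)))
        (Localization W) := (inferInstance : IsLocalization W (Localization W))
    exact RingHom.finitePresentation_localizationPreserves
      (algebraMap R (MvPolynomial (Fin n) R)) p.primeCompl (Localization.AtPrime p)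
      (Localization W) h1
  have hcomm : ψ.comp (algebraMap (Localization.AtPrime p) (Localization W)) =
      algebraMap (Localization.AtPrime p)
        (Localization (Algebra.algebraMapSubmonoid S p.primeCompl)) := by
    apply IsLocalization.ringHom_ext p.primeCompl
    ext r
    simp only [RingHom.comp_apply]
    rw [← IsScalarTower.algebraMap_apply R (Localization.AtPrime p) (Localization W),
      ← IsScalarTower.algebraMap_apply R (Localization.AtPrime p)
        (Localization (Algebra.algebraMapSubmonoid S p.primeCompl)),
      IsScalarTower.algebraMap_apply R (MvPolynomial (Fin n) R) (Localization W),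
      IsLocalization.map_eq, ← IsScalarTower.algebraMap_apply,
      ← IsScalarTower.algebraMap_apply]
  let ψa : Localization W →ₐ[Localization.AtPrime p]
      Localization (Algebra.algebraMapSubmonoid S p.primeCompl) :=
    { ψ with commutes' := fun r => RingHom.congr_fun hcomm r }
  have hker : (RingHom.ker ψa.toRingHom).FG :=
    Algebra.FinitePresentation.ker_fG_of_surjective ψa hψsurj
  refine Module.finitePresentation_of_surjective
    (Algebra.linearMap (Localization W)
      (Localization (Algebra.algebraMapSubmonoid S p.primeCompl))) hψsurj ?_
  have e2 : LinearMap.ker (Algebra.linearMap (Localization W)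
      (Localization (Algebra.algebraMapSubmonoid S p.primeCompl))) = RingHom.ker ψa.toRingHom := by
    ext x
    rfl
  rw [e2]
  exact hker

end Groth.Agent.S6932
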