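import Groth.Statements.S6934
import Mathlib.RingTheory.Localization.Away.Basic
-- import your own Groth.Agent.* helpers here

set_option autoImplicit false
universe u
open EtAlg

namespace Groth.Agent.S6934

/-- Let `s : B → R`, `t : R' → R` be ring maps and `B' = B ×_R R'` the fibre product ring, i.e. a ring
`B'` with maps `p : B' → B`, `q : B' → R'`, `s ∘ p = t ∘ q`, such that `(p, q)` is injective with
image the pairs `(b, r')` with `s(b) = t(r')`. Let `h ∈ B'` with images `g = p(h)`, `f = q(h)`. Then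
the square of localizations `B'_h → B_g`, `B'_h → R'_f`, `B_g → R_{s(g)}`, `R'_f → R_{t(f)} =
R_{s(g)}` (the induced maps) is cartesian as well: `B'_h = B_g ×_{R_{s(g)}} R'_f`. -/
theorem result {B R R' B' : Type u} [CommRing B] [CommRing R] [CommRing R'] [CommRing B']
    (s : B →+* R) (t : R' →+* R) (p : B' →+* B) (q : B' →+* R') (hc : s.comp p = t.comp q)
    (hinj : ∀ x y : B', p x = p y → q x = q y → x = y) (hsurj : ∀ (b : B) (r' : R'), s b = t r' → ∃ x : B', p x = b ∧ q x = r')
    (h : B') (Bh Bg Rf Rsg : Type u) [CommRing Bh] [CommRing Bg] [CommRing Rf] [CommRing Rsg]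
    [Algebra B' Bh] [IsLocalization.Away h Bh] [Algebra B Bg] [IsLocalization.Away (p h) Bg]
    [Algebra R' Rf] [IsLocalization.Away (q h) Rf] [Algebra R Rsg] [IsLocalization.Away (s (p h)) Rsg]
    (pL : Bh →+* Bg) (qL : Bh →+* Rf) (sL : Bg →+* Rsg) (tL : Rf →+* Rsg)
    (hp : pL.comp (algebraMap B' Bh) = (algebraMap B Bg).comp p) (hq : qL.comp (algebraMap B' Bh) = (algebraMap R' Rf).comp q)
    (hs : sL.comp (algebraMap B Bg) = (algebraMap R Rsg).comp s) (ht : tL.comp (algebraMap R' Rf) = (algebraMap R Rsg).comp t) :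
    (∀ x y : Bh, pL x = pL y → qL x = qL y → x = y) ∧
    (∀ (b : Bg) (r : Rf), sL b = tL r → ∃ x : Bh, pL x = b ∧ qL x = r) := by
  have hpa : ∀ z, pL (algebraMap B' Bh z) = algebraMap B Bg (p z) := fun z => RingHom.congr_fun hp z
  have hqa : ∀ z, qL (algebraMap B' Bh z) = algebraMap R' Rf (q z) := fun z => RingHom.congr_fun hq z
  have hsa : ∀ z, sL (algebraMap B Bg z) = algebraMap R Rsg (s z) := fun z => RingHom.congr_fun hs z
  have hta : ∀ z, tL (algebraMap R' Rf z) = algebraMap R Rsg (t z) := fun z => RingHom.congr_fun ht z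
  have hcc : ∀ z, s (p z) = t (q z) := fun z => RingHom.congr_fun hc z
  have hu : IsUnit (algebraMap B' Bh h) := IsLocalization.Away.algebraMap_isUnit h
  have hug : IsUnit (algebraMap B Bg (p h)) := IsLocalization.Away.algebraMap_isUnit (p h)
  have huf : IsUnit (algebraMap R' Rf (q h)) := IsLocalization.Away.algebraMap_isUnit (q h)
  constructor
  · intro x y hxy1 hxy2
    obtain ⟨n, a, ha⟩ := IsLocalization.Away.surj h x
    obtain ⟨n', a', ha'⟩ := IsLocalization.Away.surj h y
    have hx0 : x * algebraMap B' Bh h ^ (n + n') = algebraMap B' Bh (a * h ^ n') := by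
      rw [pow_add, ← mul_assoc, ha, map_mul, map_pow]
    have hy0 : y * algebraMap B' Bh h ^ (n + n') = algebraMap B' Bh (a' * h ^ n) := by
      rw [pow_add, mul_comm (algebraMap B' Bh h ^ n), ← mul_assoc, ha', map_mul, map_pow]
    have h1 : algebraMap B Bg (p (a * h ^ n')) = algebraMap B Bg (p (a' * h ^ n)) := by
      rw [← hpa, ← hpa, ← hx0, ← hy0, map_mul, map_mul, hxy1]
    have h2 : algebraMap R' Rf (q (a * h ^ n')) = algebraMap R' Rf (q (a' * h ^ n)) := by
      rw [← hqa, ← hqa, ← hx0, ← hy0, map_mul, map_mul, hxy2]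
    obtain ⟨k, hk⟩ := IsLocalization.Away.exists_of_eq (p h) h1
    obtain ⟨l, hl⟩ := IsLocalization.Away.exists_of_eq (q h) h2
    have h3 : h ^ (k + l) * (a * h ^ n') = h ^ (k + l) * (a' * h ^ n) := by
      apply hinj
      · have e1 : ∀ Z, p (h ^ (k + l) * Z) = p h ^ l * (p h ^ k * p Z) := fun Z => by
          rw [map_mul, map_pow, pow_add]; ring
        rw [e1, e1, hk]
      · have e1 : ∀ Z, q (h ^ (k + l) * Z) = q h ^ k * (q h ^ l * q Z) := fun Z => by
          rw [map_mul, map_pow, pow_add]; ring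
        rw [e1, e1, hl]
    have h4 : algebraMap B' Bh (a * h ^ n') = algebraMap B' Bh (a' * h ^ n) := by
      have e2 : ∀ Z, algebraMap B' Bh (h ^ (k + l) * Z) =
          algebraMap B' Bh h ^ (k + l) * algebraMap B' Bh Z := fun Z => by
        rw [map_mul, map_pow]
      have := congrArg (algebraMap B' Bh) h3
      rw [e2, e2] at this
      exact (hu.pow (k + l)).mul_left_cancel this
    rw [← hx0, ← hy0] at h4
    exact (hu.pow (n + n')).mul_right_cancel h4
  · intro b r hbr
    obtain ⟨n, b₀, hb₀⟩ := IsLocalization.Away.surj (p h) b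
    obtain ⟨n', r₀, hr₀⟩ := IsLocalization.Away.surj (q h) r
    have hb1 : b * algebraMap B Bg (p h) ^ (n + n') = algebraMap B Bg (b₀ * p h ^ n') := by
      rw [pow_add, ← mul_assoc, hb₀, map_mul, map_pow]
    have hr1 : r * algebraMap R' Rf (q h) ^ (n + n') = algebraMap R' Rf (r₀ * q h ^ n) := by
      rw [pow_add, mul_comm (algebraMap R' Rf (q h) ^ n), ← mul_assoc, hr₀, map_mul, map_pow]
    have h1 : algebraMap R Rsg (s (b₀ * p h ^ n')) = algebraMap R Rsg (t (r₀ * q h ^ n)) := by
      rw [← hsa, ← hta, ← hb1, ← hr1, map_mul, map_mul, map_pow, map_pow, hsa, hta, hbr, hcc]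
    obtain ⟨k, hk⟩ := IsLocalization.Away.exists_of_eq (s (p h)) h1
    have h2 : s (p h ^ k * (b₀ * p h ^ n')) = t (q h ^ k * (r₀ * q h ^ n)) := by
      rw [map_mul, map_mul t, map_pow, map_pow, hk, hcc]
    obtain ⟨x₀, hx₀p, hx₀q⟩ := hsurj _ _ h2
    let x : Bh := IsLocalization.mk' Bh x₀ (⟨h ^ (n + n' + k), ⟨_, rfl⟩⟩ : Submonoid.powers h)
    have hx : x * algebraMap B' Bh h ^ (n + n' + k) = algebraMap B' Bh x₀ := by
      have := IsLocalization.mk'_spec Bh x₀ (⟨h ^ (n + n' + k), ⟨_, rfl⟩⟩ : Submonoid.powers h)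
      rw [← map_pow]; exact this
    refine ⟨x, ?_, ?_⟩
    · apply (hug.pow (n + n' + k)).mul_right_cancel
      have : pL x * algebraMap B Bg (p h) ^ (n + n' + k) = algebraMap B Bg (p x₀) := by
        rw [← hpa, ← hpa, ← map_pow, ← map_mul, hx]
      rw [this, hx₀p, map_mul, map_pow, pow_add _ (n + n') k, ← mul_assoc, hb1, mul_comm]
    · apply (huf.pow (n + n' + k)).mul_right_cancel
      have : qL x * algebraMap R' Rf (q h) ^ (n + n' + k) = algebraMap R' Rf (q x₀) := by
        rw [← hqa, ← hqa, ← map_pow, ← map_mul, hx]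
      rw [this, hx₀q, map_mul, map_pow, pow_add _ (n + n') k, ← mul_assoc, hr1, mul_comm]

end Groth.Agent.S6934
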