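import Groth.Statements.S6936
import Groth.Agent.Lib.DRingPCoh21C
import Groth.Agent.S5604

set_option autoImplicit false
universe u
open CategoryTheory CategoryTheory.Limits
attribute [local instance] HasDerivedCategory.standard
open DRing

namespace Groth.Agent.S6936

/-- Let R be a commutative ring, m an integer and K an object of D(R). If H^i(K) = 0 for every i > m +
1, H^(m+1)(K) is a finitely presented R-module and H^m(K) is a finitely generated R-module, then K
is m-pseudo-coherent. -/
theorem result (R : Type u) [CommRing R]
    (m : ℤ) (K : Dual.D R) (hvan : ∀ i : ℤ, m + 1 < i → Subsingleton (Dual.HD R K i))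
    (hfp : Module.FinitePresentation R (Dual.HD R K (m + 1))) (hfin : Module.Finite R (Dual.HD R K m)) :
    DRing.IsPseudoCoherent R m K := by
  rw [Groth.Agent.Lib.DRingPCoh21.isPseudoCoherent_iff]
  refine Groth.Agent.S5604.result (Groth.Agent.Lib.DRingPCoh21.FF R)
    (Groth.Agent.Lib.DRingPCoh21.ff_prod R) (Groth.Agent.Lib.DRingPCoh21.fp_quasiStable R)
    (Groth.Agent.Lib.DRingPCoh21.ff_quasiLiftable R) m K (m + 1)
    (fun i hi => by
      have := hvan i hi
      exact ModuleCat.isZero_of_subsingleton _) (fun i hi => ?_)
  rw [← Groth.Agent.Lib.DRingPCoh21.isPseudoCoherent_iff]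
  rcases hi.lt_or_eq with h | h
  · rcases (show m + 1 ≤ i from h).lt_or_eq with h' | h'
    · have := hvan i h'
      exact Groth.Agent.Lib.DRingPCoh21.isPseudoCoherent_single_of_subsingleton R _ _
    · subst h'
      have h1 : m - (m + 1) = -1 := by ring
      rw [h1]
      exact (Groth.Agent.Lib.DRingPCoh21.isPseudoCoherent_single_neg_one_iff R _).2 hfp
  · subst h
    rw [sub_self]
    exact (Groth.Agent.Lib.DRingPCoh21.isPseudoCoherent_single_zero_iff R _).2 hfin

end Groth.Agent.S6936
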