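import Groth.Statements.S6937
import Groth.Agent.Lib.DRingPCoh21
import Groth.Agent.Lib.PCohD2
import Groth.Agent.S5599

set_option autoImplicit false
universe u
open CategoryTheory CategoryTheory.Limits
attribute [local instance] HasDerivedCategory.standard
open DRing

namespace Groth.Agent.S6937

/-- Let R be a commutative ring, m an integer and K, L objects of D(R). If K ⊕ L is m-pseudo-coherent
then K and L are m-pseudo-coherent; if K ⊕ L is pseudo-coherent (isomorphic in D(R) to a bounded
above complex of finite free modules) then so are K and L. -/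
theorem result (R : Type u) [CommRing R] (m : ℤ) (K L : Dual.D R)
    [HasBinaryBiproduct K L] :
    (DRing.IsPseudoCoherent R m (K ⊞ L) → DRing.IsPseudoCoherent R m K ∧ DRing.IsPseudoCoherent R m L) ∧
      (DRing.IsPseudoCoherent' R (K ⊞ L) → DRing.IsPseudoCoherent' R K ∧ DRing.IsPseudoCoherent' R L) := by
  have h23 : Groth.Agent.Lib.PCohD.TwoOfThree (Groth.Agent.Lib.DRingPCoh21.FF R) := fun n T hT =>
    Groth.Agent.S5599.result (Groth.Agent.Lib.DRingPCoh21.FF R)
      (Groth.Agent.Lib.DRingPCoh21.ff_prod R) (Groth.Agent.Lib.DRingPCoh21.fp_quasiStable R)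
      (Groth.Agent.Lib.DRingPCoh21.ff_quasiLiftable R) n T hT
  have key : ∀ m : ℤ, DRing.IsPseudoCoherent R m (K ⊞ L) →
      DRing.IsPseudoCoherent R m K ∧ DRing.IsPseudoCoherent R m L := by
    intro m h
    simp only [Groth.Agent.Lib.DRingPCoh21.isPseudoCoherent_iff] at h ⊢
    exact ⟨Groth.Agent.Lib.PCohD.of_biprod_left h23 K L h,
      Groth.Agent.Lib.PCohD.of_biprod_right h23 K L h⟩
  refine ⟨key m, fun h => ?_⟩
  simp only [Groth.Agent.Lib.DRingPCoh21.isPseudoCoherent'_iff_forall] at h ⊢
  exact ⟨fun m => (key m (h m)).1, fun m => (key m (h m)).2⟩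

end Groth.Agent.S6937
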