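import Groth.Statements.S6940
import Groth.Agent.Lib.PCohRestrict

set_option autoImplicit false
universe u
open CategoryTheory CategoryTheory.Limits
attribute [local instance] HasDerivedCategory.standard
open DRing

namespace Groth.Agent.S6940

/-- Let A → B be a homomorphism of commutative rings making B a pseudo-coherent A-module; let K be an
object of D(B) and m an integer. Then m-pseudo-coherence of K over B is equivalent to
m-pseudo-coherence over A of K with its scalars restricted to A, and likewise pseudo-coherence of K
over B is equivalent to pseudo-coherence over A of its restriction. -/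
theorem result {A B : Type u} [CommRing A]
    [CommRing B] [Algebra A B] (hB : DRing.IsPseudoCoherentModule' A B) (K : Dual.D B) (m : ℤ) :
    (DRing.IsPseudoCoherent B m K ↔ DRing.IsPseudoCoherent A m ((DRing.restrictD (algebraMap A B)).obj K)) ∧
      (DRing.IsPseudoCoherent' B K ↔ DRing.IsPseudoCoherent' A ((DRing.restrictD (algebraMap A B)).obj K)) := by
  have hB' : ∀ a : ℤ, Groth.Agent.S5599.NPC (Groth.Agent.Lib.DRingPCoh21.FF A) a
      ((Groth.Agent.Lib.PCohRestrict.Φ (algebraMap A B)).obj (ModuleCat.of B B)) := by
    intro a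
    have h1 := (Groth.Agent.Lib.DRingPCoh21.isPseudoCoherent'_iff_forall A _).1 hB a
    rw [Groth.Agent.Lib.DRingPCoh21.isPseudoCoherent_iff] at h1
    exact Groth.Agent.S5599.NPC.of_iso h1
      ((DerivedCategory.singleFunctor (ModuleCat.{u} A) 0).mapIso
        (Groth.Agent.Lib.FlatBaseChangeD.restrictEquiv (A := A) (B := B)).toModuleIso.symm)
  have key : ∀ m : ℤ, DRing.IsPseudoCoherent B m K ↔
      DRing.IsPseudoCoherent A m ((DRing.restrictD (algebraMap A B)).obj K) := by
    intro m
    rw [Groth.Agent.Lib.DRingPCoh21.isPseudoCoherent_iff,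
      Groth.Agent.Lib.DRingPCoh21.isPseudoCoherent_iff]
    exact Groth.Agent.Lib.PCohRestrict.npc_restrict_iff (algebraMap A B) hB' m K
  refine ⟨key m, ?_⟩
  rw [Groth.Agent.Lib.DRingPCoh21.isPseudoCoherent'_iff_forall,
    Groth.Agent.Lib.DRingPCoh21.isPseudoCoherent'_iff_forall]
  exact forall_congr' key

end Groth.Agent.S6940
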