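import Groth.Statements.S6941
import Groth.Agent.Lib.DRingFFlat21

set_option autoImplicit false
universe u
open CategoryTheory CategoryTheory.Limits
attribute [local instance] HasDerivedCategory.standard
open DRing

namespace Groth.Agent.S6941

/-- Let R → R' be a faithfully flat homomorphism of commutative rings, K a cochain complex of R-modules
and m an integer. If the termwise base change K ⊗_R R' is m-pseudo-coherent in D(R'), then K is
m-pseudo-coherent in D(R); if K ⊗_R R' is pseudo-coherent, then K is pseudo-coherent. -/
theorem result {R R' : Type u} [CommRing R] [CommRing R']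
    [Algebra R R'] [Module.FaithfullyFlat R R'] (K : DRing.Cx R) (m : ℤ) :
    (DRing.IsPseudoCoherent R' m (DRing.toD (((ModuleCat.extendScalars (algebraMap R R')).mapHomologicalComplex
        (ComplexShape.up ℤ)).obj K)) → DRing.IsPseudoCoherent R m (DRing.toD K)) ∧
      (DRing.IsPseudoCoherent' R' (DRing.toD (((ModuleCat.extendScalars (algebraMap R R')).mapHomologicalComplex
        (ComplexShape.up ℤ)).obj K)) → DRing.IsPseudoCoherent' R (DRing.toD K)) := by
  have key : ∀ m : ℤ, DRing.IsPseudoCoherent R' m (DRing.toD
      (((ModuleCat.extendScalars (algebraMap R R')).mapHomologicalComplex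
        (ComplexShape.up ℤ)).obj K)) → DRing.IsPseudoCoherent R m (DRing.toD K) := by
    intro m h
    refine Groth.Agent.Lib.DRingFFlat21.isPseudoCoherent_of_faithfullyFlat R R' m (DRing.toD K) ?_
    exact Groth.Agent.Lib.FlatBaseChangeD.isPseudoCoherent_of_iso R'
      (Groth.Agent.Lib.FlatBaseChangeD.toDIso (A := R) (B := R') K).symm h
  refine ⟨key m, fun h => ?_⟩
  rw [Groth.Agent.Lib.DRingPCoh21.isPseudoCoherent'_iff_forall] at h ⊢
  exact fun m => key m (h m)

end Groth.Agent.S6941
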