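import Groth.Statements.S6945
import Groth.Agent.Lib.LTensorUnit
import Groth.Agent.Lib.FlatAmp3
import Groth.Agent.Lib.TFunOpcycles

set_option autoImplicit false
universe u
open CategoryTheory CategoryTheory.Limits
attribute [local instance] HasDerivedCategory.standard
open DRing

namespace Groth.Agent.S6945

/-- With the definition of tor amplitude: let R be a commutative ring, K an object of D(R) and a, b
integers, and assume the derived tensor product - ⊗^L_R M exists on D(R) for every R-module M. Then
K is isomorphic in D(R) to a complex of flat R-modules vanishing outside [a, b] if and only if H^i(K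
⊗^L_R M) = 0 for every R-module M and every integer i outside [a, b]. -/
theorem result (R : Type u) [CommRing R]
    [∀ M : ModuleCat.{u} R, DRing.HasLTensor R M] (K : Dual.D R) (a b : ℤ) :
    DRing.HasTorAmplitudeIn R a b K ↔
      ∀ (M : ModuleCat.{u} R) (i : ℤ), (i < a ∨ b < i) → Subsingleton (Dual.HD R ((DRing.LTensor R M).obj K) i) := by
  constructor
  · rintro ⟨E, hE, hfl, ⟨e⟩⟩ M i hi
    let j := (DRing.LTensor R M).mapIso e.symm ≪≫
      Groth.Agent.Lib.LBaseChangeFlat.ltIsoOfFlat R M E hfl b (fun i hi => hE i (Or.inr hi))
    have hz : IsZero ((((MonoidalCategory.tensorRight M).mapHomologicalComplex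
        (ComplexShape.up ℤ)).obj E).X i) :=
      (MonoidalCategory.tensorRight M).map_isZero (hE i hi)
    have h0 : IsZero ((((MonoidalCategory.tensorRight M).mapHomologicalComplex
        (ComplexShape.up ℤ)).obj E).homology i) :=
      ShortComplex.isZero_homology_of_isZero_X₂ _ hz
    have h1 := h0.of_iso ((DerivedCategory.homologyFunctorFactors (ModuleCat.{u} R) i).app _)
    have h2 := h1.of_iso ((DerivedCategory.homologyFunctor (ModuleCat.{u} R) i).mapIso j)
    exact ModuleCat.subsingleton_of_isZero h2
  · intro h
    have hK : ∀ i : ℤ, (i < a ∨ b < i) → Subsingleton (Dual.HD R K i) := fun i hi => by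
      have h1 := h (ModuleCat.of R R) i hi
      have h2 : IsZero ((DerivedCategory.homologyFunctor (ModuleCat.{u} R) i).obj
          ((DRing.LTensor R (ModuleCat.of R R)).obj K)) := ModuleCat.isZero_of_subsingleton _
      have h3 := h2.of_iso ((DerivedCategory.homologyFunctor (ModuleCat.{u} R) i).mapIso
        (Groth.Agent.Lib.LTensorUnit.ltUnitIso R K).symm)
      exact ModuleCat.subsingleton_of_isZero h3
    rw [Groth.Agent.Lib.FlatAmp.hasTorAmplitudeIn_iff_pa]
    by_cases hab : a ≤ b
    swap
    · have h1 := Groth.Agent.Lib.ProjResolution.isLE_of_subsingleton R K b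
        (fun i hi => hK i (Or.inr hi))
      have h2 := Groth.Agent.Lib.ProjResolution.isGE_of_subsingleton R K a
        (fun i hi => hK i (Or.inl hi))
      have hz : IsZero K := DerivedCategory.TStructure.t.isZero K b a (by lia)
      exact Groth.Agent.Lib.FlatAmp.pa_of_isZero R a b hz
    obtain ⟨P, hPb, hPp, ⟨e⟩⟩ := Groth.Agent.Lib.ProjResolution.exists_projective_rep R K b
      (fun i hi => hK i (Or.inr hi))
    have hPfl : ∀ i, Module.Flat R (P.X i) := fun i => by
      have := hPp i
      infer_instance
    have hPle : P.IsStrictlyLE b := by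
      rw [CochainComplex.isStrictlyLE_iff]
      exact hPb
    have hPproj : ∀ i, Projective (P.X i) := fun i => by
      have := hPp i
      exact ModuleCat.projective_of_categoryTheory_projective (P.X i)
    have hT : ∀ (M : ModuleCat.{u} R) (i : ℤ), i < a → IsZero ((CohIII.TFun P i).obj M) := by
      intro M i hi
      have h1 := h M i (Or.inl hi)
      let j := (DRing.LTensor R M).mapIso e.symm ≪≫
        Groth.Agent.Lib.LBaseChangeKProj.ltIsoOfBdd R M P b
      have h2 : IsZero ((DerivedCategory.homologyFunctor (ModuleCat.{u} R) i).obj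
          ((DRing.LTensor R M).obj K)) := ModuleCat.isZero_of_subsingleton _
      have h3 := h2.of_iso ((DerivedCategory.homologyFunctor (ModuleCat.{u} R) i).mapIso j.symm)
      exact h3.of_iso ((DerivedCategory.homologyFunctorFactors (ModuleCat.{u} R) i).app _).symm
    have hmono : (CohIII.TFun P a).PreservesMonomorphisms := by
      refine ⟨fun {M N} g hg => ?_⟩
      let S : ShortComplex (ModuleCat.{u} R) := ShortComplex.mk g (cokernel.π g) (cokernel.condition g)
      have hS : S.ShortExact :=
        { exact := ShortComplex.exact_cokernel g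
          mono_f := hg
          epi_g := by dsimp [S]; infer_instance }
      have hex := Groth.Agent.Lib.TFun.exact₁ P hPfl S hS (a - 1) a (by simp)
      exact hex.mono_g ((hT S.X₃ (a - 1) (by lia)).eq_of_src _ _)
    have hop : Module.Flat R (P.opcycles a) :=
      (Groth.Agent.Lib.TFun.preservesMono_iff_flat_opcycles P a (hPfl _)).mp hmono
    have hlow : ∀ i : ℤ, i < a → P.ExactAt i := fun i hi => by
      have h1 := hK i (Or.inl hi)
      have h2 : IsZero ((DerivedCategory.homologyFunctor (ModuleCat.{u} R) i).obj K) :=
        ModuleCat.isZero_of_subsingleton _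
      have h3 := h2.of_iso ((DerivedCategory.homologyFunctor (ModuleCat.{u} R) i).mapIso e)
      rw [HomologicalComplex.exactAt_iff_isZero_homology]
      exact h3.of_iso ((DerivedCategory.homologyFunctorFactors (ModuleCat.{u} R) i).app _).symm
    have hpa := Groth.Agent.Lib.FlatAmp.pa_fl_of_opcycles R P a b b hab (fun i _ => hPfl i) hPb hop
      hlow (fun i hi => HomologicalComplex.ExactAt.of_isZero (hPb i hi))
    exact Groth.Agent.Lib.PCohAmp.pa_of_iso e hpa

end Groth.Agent.S6945
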