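import Groth.Statements.S6952
import Groth.Agent.S6948
import Groth.Agent.Lib.SemiFreeKProj35
import Groth.Agent.Lib.LBaseChangeKProj
import Groth.Agent.Lib.LBaseChangeFlat
import Groth.Agent.Lib.KProjBC21
import Groth.Agent.Lib.TorAmpTFun21

set_option autoImplicit false
universe u
open CategoryTheory CategoryTheory.Limits
attribute [local instance] HasDerivedCategory.standard
open DRing

namespace Groth.Agent.S6952

/-- Let R' → R be a surjective homomorphism of commutative rings whose kernel is a nilpotent ideal, such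
that the derived base change D(R') → D(R) exists. Let K' be an object of D(R') and a, b integers.
Then K' ⊗^L R has tor amplitude in [a, b] over R if and only if K' has tor amplitude in [a, b] over
R'. -/
theorem result {R' R : Type u} [CommRing R']
    [CommRing R] (φ : R' →+* R) (hφ : Function.Surjective φ) (hnil : IsNilpotent (RingHom.ker φ))
    [DRing.HasLBaseChange φ] (K' : Dual.D R') (a b : ℤ) :
    DRing.HasTorAmplitudeIn R a b ((DRing.LBaseChange φ).obj K') ↔ DRing.HasTorAmplitudeIn R' a b K' := by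
  constructor
  swap
  · exact fun h => Groth.Agent.S6948.result φ K' a b h
  intro h
  let _ : Algebra R' R := φ.toAlgebra
  -- a K-projective, termwise flat representative of `K'`
  let M₀ := (DerivedCategory.Q (C := ModuleCat.{u} R')).objPreimage K'
  let e₀ : DerivedCategory.Q.obj M₀ ≅ K' := (DerivedCategory.Q (C := ModuleCat.{u} R')).objObjPreimageIso K'
  obtain ⟨F, f, hFp, -, hfl, hq, -⟩ :=
    Groth.Agent.Lib.SemiFreeKProj35.exists_kprojective_resolution M₀
  have hf : IsIso (DerivedCategory.Q.map f) := by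
    rw [DerivedCategory.isIso_Q_map_iff_quasiIso]
    exact hq
  let eF : DerivedCategory.Q.obj F ≅ K' := asIso (DerivedCategory.Q.map f) ≪≫ e₀
  have hrep : ∀ (T : CochainComplex (ModuleCat.{u} R) ℤ),
      Groth.Agent.Lib.LBaseChangeKProj.HasKProjRep (DerivedCategory.Q.obj T) := fun T => by
    obtain ⟨K'', f', hK', -, -, hq', -⟩ :=
      Groth.Agent.Lib.SemiFreeKProj35.exists_kprojective_resolution T
    have : IsIso (DerivedCategory.Q.map f') := by
      rw [DerivedCategory.isIso_Q_map_iff_quasiIso]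
      exact hq'
    exact ⟨K'', hK', ⟨(asIso (DerivedCategory.Q.map f')).symm⟩⟩
  let j : (DRing.LBaseChange φ).obj K' ≅ DerivedCategory.Q.obj (CohIII.bcCx φ F) :=
    (DRing.LBaseChange φ).mapIso eF.symm ≪≫ Groth.Agent.Lib.LBaseChangeKProj.lbcIso φ F (hrep _)
  obtain ⟨E, hE, hEfl, ⟨eE⟩⟩ := h
  have hEb : ∀ i : ℤ, b < i → IsZero (E.X i) := fun i hi => hE i (Or.inr hi)
  have hEle : E.IsStrictlyLE b := by
    rw [CochainComplex.isStrictlyLE_iff]
    exact hEb
  obtain ⟨P₁, p, hp, hP₁, hP₁b⟩ := Groth.Agent.Lib.ProjResolution.exists_quasiIso_projective E b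
  have := CochainComplex.isKProjective_of_projective P₁ b
  have hp' : IsIso (DerivedCategory.Q.map p) := by
    rw [DerivedCategory.isIso_Q_map_iff_quasiIso]
    exact hp
  have hP₁fl : ∀ i, Module.Flat R (P₁.X i) := fun i => by
    have := hP₁ i
    have : Module.Projective R (P₁.X i) := ModuleCat.projective_of_module_projective (P₁.X i)
    infer_instance
  let e : DerivedCategory.Q.obj (CohIII.bcCx (algebraMap R' R) F) ≅ DerivedCategory.Q.obj P₁ :=
    j.symm ≪≫ eE.symm ≪≫ (asIso (DerivedCategory.Q.map p)).symm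
  -- vanishing for `P₁`
  have h3 : ∀ i : ℤ, (i < a ∨ b < i) → ∀ M' : ModuleCat.{u} R,
      IsZero ((CohIII.TFun P₁ i).obj M') := by
    intro i hi M'
    have hqi := Groth.Agent.Lib.LBaseChangeFlat.quasiIso_map_of_flat
      (Groth.Agent.Lib.LBaseChangeFlat.killsFlatAcyclic_tensorRight M') p hP₁fl hEfl b
      (fun i hi => P₁.isZero_of_isStrictlyLE b i hi) hEb
    have hz : IsZero ((((MonoidalCategory.tensorRight M').mapHomologicalComplex
        (ComplexShape.up ℤ)).obj E).homology i) :=
      ShortComplex.isZero_homology_of_isZero_X₂ _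
        ((MonoidalCategory.tensorRight M').map_isZero (hE i hi))
    have hat := hqi.quasiIsoAt i
    have hiso : IsIso (HomologicalComplex.homologyMap
        (((MonoidalCategory.tensorRight M').mapHomologicalComplex (ComplexShape.up ℤ)).map p) i) :=
      (quasiIsoAt_iff_isIso_homologyMap _ i).mp hat
    exact hz.of_iso (@asIso _ _ _ _ _ hiso)
  have h4 : ∀ i : ℤ, (i < a ∨ b < i) → ∀ M' : ModuleCat.{u} R,
      IsZero ((CohIII.TFun F i).obj ((Groth.Agent.Lib.TFunCompare.RB (A := R') R).obj M')) :=
    fun i hi M' => Groth.Agent.Lib.KProjBC21.isZero_TFun_restrict_of_iso F P₁ e M' i (h3 i hi M')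
  obtain ⟨n, hn⟩ := hnil
  have h5 : ∀ (N : ModuleCat.{u} R') (i : ℤ), (i < a ∨ b < i) → IsZero ((CohIII.TFun F i).obj N) := by
    intro N i hi
    exact Groth.Agent.Lib.KProjBC21.isZero_TFun_of_ker_pow R hφ F hfl i (h4 i hi) n N (by
      have : RingHom.ker (algebraMap R' R) = RingHom.ker φ := rfl
      rw [this, hn, Ideal.zero_eq_bot, Submodule.bot_smul])
  rw [Groth.Agent.Lib.FlatAmp.hasTorAmplitudeIn_iff_pa]
  exact Groth.Agent.Lib.PCohAmp.pa_of_iso eF
    (Groth.Agent.Lib.TorAmpTFun21.pa_fl_of_TFun_kproj R' F a b h5)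

end Groth.Agent.S6952
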