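import Groth.Statements.S6953
import Groth.Agent.Lib.TorAmpTensor81

set_option autoImplicit false
universe u
open CategoryTheory CategoryTheory.Limits
attribute [local instance] HasDerivedCategory.standard
open DRing

namespace Groth.Agent.S6953

/-- Let A → B be a homomorphism of commutative rings, K an object of D(B) with tor amplitude in [a, b]
over B, and L a cochain complex of B-modules whose restriction of scalars to A lies in D(A) with tor
amplitude contained in [c, d]. Assume the derived tensor product - ⊗^L_B L exists on D(B). Then K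
⊗^L_B L, with scalars restricted to A, has tor amplitude in [a + c, b + d] over A. -/
theorem result {A B : Type u} [CommRing A] [CommRing B] [Algebra A B]
    (K : Dual.D B) (a b c d : ℤ) (hK : DRing.HasTorAmplitudeIn B a b K) (L : DRing.Cx B)
    (hL : DRing.HasTorAmplitudeIn A c d (DRing.toD ((DRing.restrictCx (algebraMap A B)).obj L)))
    [DRing.HasLTensorCx B L] :
    DRing.HasTorAmplitudeIn A (a + c) (b + d)
      ((DRing.restrictD (algebraMap A B)).obj ((DRing.LTensorCx B L).obj K)) := by
  open Groth.Agent.Lib.PCohAmp Groth.Agent.Lib.DRingPerfAmp Groth.Agent.Lib.TorAmpTensor81 in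
  obtain ⟨F, hFv, hFf, ⟨e⟩⟩ := hK
  have hFK : Groth.Agent.Lib.KFlat35.IsKFlat F :=
    Groth.Agent.Lib.TorAmpKFlat35.isKFlat_of_flat_of_bddAbove F hFf b (fun j hj => hFv j (Or.inr hj))
  obtain ⟨j⟩ := Groth.Agent.Lib.TorAmpTensor81.nonempty_ltc_iso_of_isKFlat L F hFK
  rw [Groth.Agent.Lib.FlatAmp.hasTorAmplitudeIn_iff_pa] at hL ⊢
  have hL' : Groth.Agent.Lib.PCohAmp.PA (Groth.Agent.Lib.DRingPerfAmp.FL A) c d
      ((DRing.restrictD (algebraMap A B)).obj (DerivedCategory.Q.obj L)) :=
    Groth.Agent.Lib.PCohAmp.pa_of_iso ((DTen.resFactors (algebraMap A B)).app L).symm hL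
  have h := Groth.Agent.Lib.TorAmpTensor81.pa_tensor_flat L c d a b hL' F hFv hFf
  have iso : (DRing.restrictD (algebraMap A B)).obj ((DRing.LTensorCx B L).obj K) ≅
      (Groth.Agent.Lib.TensorTorAmp54.Ψ (R := A) L).obj F :=
    (DRing.restrictD (algebraMap A B)).mapIso
      ((DRing.LTensorCx B L).mapIso e.symm ≪≫ j ≪≫ DerivedCategory.Q.mapIso (DTen.braidCx F L))
  exact Groth.Agent.Lib.PCohAmp.pa_of_iso iso.symm
    (Groth.Agent.Lib.PCohAmp.pa_mono (by lia) (by lia) h)

end Groth.Agent.S6953
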