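import Groth.Statements.S6957
import Groth.Agent.Lib.LBaseChangeKProj
import Groth.Agent.Lib.FlatBaseChangeD

set_option autoImplicit false
universe u
open CategoryTheory CategoryTheory.Limits
attribute [local instance] HasDerivedCategory.standard
open DRing

namespace Groth.Agent.S6957

/-- Let A → B be a homomorphism of commutative rings such that the derived base change D(A) → D(B)
exists, and let K be a perfect object of D(A). Then K ⊗^L_A B is a perfect object of D(B). -/
theorem result {A B : Type u} [CommRing A] [CommRing B] (φ : A →+* B)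
    [DRing.HasLBaseChange φ] (K : Dual.D A) (hK : DRing.IsPerfect A K) :
    DRing.IsPerfect B ((DRing.LBaseChange φ).obj K) := by
  obtain ⟨E, a, b, hE, hfp, ⟨e⟩⟩ := hK
  let _ := φ.toAlgebra
  have hEb : E.IsStrictlyLE b := by
    rw [CochainComplex.isStrictlyLE_iff]
    intro i hi
    exact hE i (Or.inr hi)
  have hEp : ∀ i, Projective (E.X i) := fun i => by
    have := (hfp i).2
    exact ModuleCat.projective_of_categoryTheory_projective (E.X i)
  refine ⟨Groth.Agent.Lib.FlatBaseChangeD.bcCx B E, a, b,
    Groth.Agent.Lib.FlatBaseChangeD.vanishesOutside_bcCx hE,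
    Groth.Agent.Lib.FlatBaseChangeD.termwiseFiniteProjective_bcCx hfp, ⟨?_⟩⟩
  exact (Groth.Agent.Lib.LBaseChangeKProj.lbcIsoOfBdd φ E b).symm ≪≫
    (DRing.LBaseChange φ).mapIso e

end Groth.Agent.S6957
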