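import Groth.Statements.S6959
import Groth.Agent.Lib.LTensorCxBdd

set_option autoImplicit false
universe u
open CategoryTheory CategoryTheory.Limits
attribute [local instance] HasDerivedCategory.standard
open DRing

namespace Groth.Agent.S6959

/-- Let R be a commutative ring, K a perfect object of D(R) and L a cochain complex of R-modules
defining a perfect object of D(R); assume the derived tensor product - ⊗^L_R L exists on D(R). Then
K ⊗^L_R L is a perfect object of D(R). -/
theorem result (R : Type u) [CommRing R] (K : Dual.D R) (hK : DRing.IsPerfect R K)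
    (L : DRing.Cx R) (hL : DRing.IsPerfect R (DRing.toD L)) [DRing.HasLTensorCx R L] :
    DRing.IsPerfect R ((DRing.LTensorCx R L).obj K) := by
  obtain ⟨P, a, b, vP, hP, ⟨e⟩⟩ := hK
  obtain ⟨P', a', b', vP', hP', ⟨e'⟩⟩ := hL
  have : P'.IsKProjective := Groth.Agent.Lib.LTensorCxBdd.isKProjective_of_vanishesAbove
    (b := b') (fun i hi => vP' i (Or.inr hi)) (fun i => (hP' i).2)
  obtain ⟨i⟩ := Groth.Agent.Lib.LTensorCxBdd.nonempty_ltc_iso L K P P' b
    (fun i hi => vP i (Or.inr hi)) (fun i => (hP i).2) e e'
  exact ⟨HomologicalComplex.tensorObj P P', a + a', b + b',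
    Groth.Agent.Lib.LTensorCxBdd.vanishesOutside_tensorObj P P' vP vP',
    Groth.Agent.Lib.LTensorCxBdd.termwiseFiniteProjective_tensorObj P P' vP hP hP', ⟨i.symm⟩⟩

end Groth.Agent.S6959
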