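import Groth.Statements.S6963
import Groth.Agent.Lib.DualPerf57c
-- import your own Groth.Agent.* helpers here

set_option autoImplicit false
universe u
open CategoryTheory CategoryTheory.Limits
attribute [local instance] HasDerivedCategory.standard
open DRing

namespace Groth.Agent.S6963

section
open CochainComplex HomComplex
open Groth.Agent.Lib.DualPerf57 Groth.Agent.Lib.RHomCx25 Groth.Agent.Lib.HomTensor25

theorem isKProjective_of_vo {A : Type u} [CommRing A] (P : DRing.Cx A) (a b : ℤ)
    (h : DRing.VanishesOutside P a b) (hp : DRing.TermwiseFiniteProjective P) :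
    P.IsKProjective :=
  isKProjective_of_vanishesAbove P b (fun i hi => h i (Or.inr hi)) (fun i => (hp i).2)

theorem dual_main (A : Type u) [CommRing A] (K : Dual.D A) (hK : DRing.IsPerfect A K)
    (E : DRing.Cx A) (eK : DRing.toD E ≅ K) [DRing.HasRHomCx E] :
    DRing.IsPerfect A ((DRing.RHomCx E).obj (Dual.inD A A)) ∧
      ∀ (E' : DRing.Cx A) (eK' : DRing.toD E' ≅ (DRing.RHomCx E).obj (Dual.inD A A))
        [DRing.HasRHomCx E'],
        Nonempty ((DRing.RHomCx E').obj (Dual.inD A A) ≅ K) := by
  obtain ⟨P, a, b, hvo, hfp, ⟨eP⟩⟩ := hK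
  have : P.IsKProjective := isKProjective_of_vo P a b hvo hfp
  let e1 : DerivedCategory.Q.obj P ≅ DerivedCategory.Q.obj E := eP ≪≫ eK.symm
  obtain ⟨i1⟩ := nonempty_rhom_iso_of_kproj E P e1 (A0 A)
  have hinD : Dual.inD A A = DerivedCategory.Q.obj (A0 A) := rfl
  rw [hinD]
  refine ⟨⟨dualCx P, -b, -a, vanishesOutside_dualCx P a b hvo,
    termwiseFiniteProjective_dualCx P hfp, ⟨i1.symm⟩⟩, ?_⟩
  intro E' eK' _
  have : (dualCx P).IsKProjective := isKProjective_of_vo (dualCx P) (-b) (-a)
    (vanishesOutside_dualCx P a b hvo) (termwiseFiniteProjective_dualCx P hfp)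
  let e2 : DerivedCategory.Q.obj (dualCx P) ≅ DerivedCategory.Q.obj E' := i1.symm ≪≫ eK'.symm
  obtain ⟨i2⟩ := nonempty_rhom_iso_of_kproj E' (dualCx P) e2 (A0 A)
  have : ∀ n, Module.Finite A (P.X n) := fun n => (hfp n).1
  have : ∀ n, Module.Projective A (P.X n) := fun n => (hfp n).2
  exact ⟨i2 ≪≫ (DerivedCategory.Q.mapIso (asIso (theta P))).symm ≪≫ eP⟩

end

/-- Let A be a commutative ring and K a perfect object of D(A), represented by a cochain complex E for
which RHom_A(E, -) exists; write K^∨ = RHom_A(E, A). Then K^∨ is a perfect object of D(A), and for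
every cochain complex E' representing K^∨ for which RHom_A(E', -) exists, RHom_A(E', A) is
isomorphic to K in D(A) (existence of an isomorphism only; the canonical one is the double-duality
map). -/
theorem result (A : Type u) [CommRing A] (K : Dual.D A) (hK : DRing.IsPerfect A K)
    (E : DRing.Cx A) (eK : DRing.toD E ≅ K) [DRing.HasRHomCx E] :
    DRing.IsPerfect A ((DRing.RHomCx E).obj (Dual.inD A A)) ∧
      ∀ (E' : DRing.Cx A) (eK' : DRing.toD E' ≅ (DRing.RHomCx E).obj (Dual.inD A A)) [DRing.HasRHomCx E'],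
        Nonempty ((DRing.RHomCx E').obj (Dual.inD A A) ≅ K) := by
  exact dual_main A K hK E eK
  

end Groth.Agent.S6963
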