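import Groth.Statements.S6964
import Groth.Agent.Lib.DSingleHom

set_option autoImplicit false
universe u
open CategoryTheory CategoryTheory.Limits
attribute [local instance] HasDerivedCategory.standard
open DRing

namespace Groth.Agent.S6964

open Groth.Agent.Lib.DSplit Groth.Agent.Lib.ProjResolution

/-- If `Hom(K, N[i]) = 0` for all modules `N` then `H^n(K) = 0` for `n = -i`. -/
theorem subsingleton_HD_of_hom (R : Type u) [CommRing R] (K : Dual.D R) (i n : ℤ) (hin : i + n = 0)
    (h : ∀ (N : Type u) [AddCommGroup N] [Module R N],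
      Subsingleton (K ⟶ (shiftFunctor (Dual.D R) i).obj (Dual.inD R N))) :
    Subsingleton (Dual.HD R K n) := by
  let L := DerivedCategory.Q.objPreimage K
  let e : DerivedCategory.Q.obj L ≅ K := DerivedCategory.Q.objObjPreimageIso K
  have hq : L.d (n - 1) n ≫ L.pOpcycles n = 0 := by simp
  let θ : DerivedCategory.Q.obj ((HomologicalComplex.single (ModuleCat.{u} R)
      (ComplexShape.up ℤ) n).obj (L.opcycles n)) ≅
      (shiftFunctor (Dual.D R) i).obj (Dual.inD R (L.opcycles n)) :=
    ((shiftSingleIso (C := ModuleCat.{u} R) i n hin).app (L.opcycles n)).symm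
  have hzero : DerivedCategory.Q.map (toSingle L n (L.pOpcycles n) hq) = 0 := by
    have h0 := (h (L.opcycles n)).elim
      (e.inv ≫ DerivedCategory.Q.map (toSingle L n (L.pOpcycles n) hq) ≫ θ.hom) 0
    have h1 : DerivedCategory.Q.map (toSingle L n (L.pOpcycles n) hq) =
        e.hom ≫ (e.inv ≫ DerivedCategory.Q.map (toSingle L n (L.pOpcycles n) hq) ≫ θ.hom) ≫
          θ.inv := by
      simp
    rw [h1, h0, zero_comp, comp_zero]
  have hz : IsZero (L.homology n) := isZero_homology_of_Q_map_toSingle_eq_zero L n hzero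
  have hz' : IsZero ((DerivedCategory.homologyFunctor (ModuleCat.{u} R) n).obj K) :=
    hz.of_iso ((DerivedCategory.homologyFunctor (ModuleCat.{u} R) n).mapIso e.symm ≪≫
      (DerivedCategory.homologyFunctorFactors (ModuleCat.{u} R) n).app L)
  exact ModuleCat.subsingleton_of_isZero hz'

/-- (1) ⇒ (2). -/
theorem hom_eq_zero_of_rep (R : Type u) [CommRing R] (K : Dual.D R) (a b : ℤ)
    (P : DRing.Cx R) (hv : DRing.VanishesOutside P a b)
    (hP : ∀ i : ℤ, Module.Projective R (P.X i)) (e : DRing.toD P ≅ K)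
    (N : Type u) [AddCommGroup N] [Module R N] (i : ℤ) (hi : i < -b ∨ -a < i)
    (f : K ⟶ (shiftFunctor (Dual.D R) i).obj (Dual.inD R N)) : f = 0 := by
  have : P.IsStrictlyLE b := by
    rw [CochainComplex.isStrictlyLE_iff]
    exact fun j hj => hv j (Or.inr hj)
  have : ∀ n : ℤ, Projective (P.X n) := fun n =>
    have := hP n
    ModuleCat.projective_of_categoryTheory_projective (P.X n)
  have hkp : P.IsKProjective := CochainComplex.isKProjective_of_projective P b
  have hz : IsZero (P.X (-i)) := hv (-i) (by lia)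
  let θ := (shiftSingleIso (C := ModuleCat.{u} R) i (-i) (by simp)).app (ModuleCat.of R N)
  have h0 := hom_single_eq_zero_of_isZero P (-i) hz (ModuleCat.of R N) (e.hom ≫ f ≫ θ.hom)
  have h1 : f = e.inv ≫ (e.hom ≫ f ≫ θ.hom) ≫ θ.inv := by simp
  rw [h1, h0, zero_comp, comp_zero]

/-- Let R be a commutative ring, K an object of D(R) and a, b integers. These four conditions are
equivalent: (1) the projective amplitude of K lies in [a, b], meaning K is isomorphic in D(R) to a
complex of projective R-modules vanishing outside [a, b]; (2) Hom(K, N[i]) = 0 in D(R) for every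
R-module N and every integer i outside [-b, -a]; (3) H^n(K) = 0 for all n > b and Hom(K, N[i]) = 0
for every R-module N and every i > -a; (4) H^n(K) = 0 for all n outside [a - 1, b] and Hom(K, N[-a +
1]) = 0 for every R-module N. -/
theorem result (R : Type u) [CommRing R] (K : Dual.D R) (a b : ℤ) :
    [∃ P : DRing.Cx R, DRing.VanishesOutside P a b ∧ (∀ i : ℤ, Module.Projective R (P.X i)) ∧
        Nonempty (DRing.toD P ≅ K),
      ∀ (N : Type u) [AddCommGroup N] [Module R N] (i : ℤ), (i < -b ∨ -a < i) →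
        Subsingleton (DRing.ExtD R K (Dual.inD R N) i),
      (∀ n : ℤ, b < n → Subsingleton (Dual.HD R K n)) ∧
        ∀ (N : Type u) [AddCommGroup N] [Module R N] (i : ℤ), -a < i → Subsingleton (DRing.ExtD R K (Dual.inD R N) i),
      (∀ n : ℤ, (n < a - 1 ∨ b < n) → Subsingleton (Dual.HD R K n)) ∧
        ∀ (N : Type u) [AddCommGroup N] [Module R N], Subsingleton (DRing.ExtD R K (Dual.inD R N) (-a + 1))].TFAE := by
  tfae_have 1 → 2 := by
    rintro ⟨P, hv, hP, ⟨e⟩⟩ N _ _ i hi
    exact ⟨fun f g => by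
      rw [hom_eq_zero_of_rep R K a b P hv hP e N i hi f,
        hom_eq_zero_of_rep R K a b P hv hP e N i hi g]⟩
  tfae_have 2 → 3 := by
    intro h
    refine ⟨fun n hn => ?_, fun N _ _ i hi => h N i (Or.inr hi)⟩
    exact subsingleton_HD_of_hom R K (-n) n (by simp) (fun N _ _ => h N (-n) (Or.inl (by lia)))
  tfae_have 3 → 4 := by
    rintro ⟨h1, h2⟩
    refine ⟨?_, fun N _ _ => h2 N (-a + 1) (by lia)⟩
    rintro n (hn | hn)
    · exact subsingleton_HD_of_hom R K (-n) n (by simp) (fun N _ _ => h2 N (-n) (by lia))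
    · exact h1 n hn
  tfae_have 4 → 1 := by
    rintro ⟨h1, h2⟩
    obtain ⟨a', rfl⟩ : ∃ a', a = a' + 1 := ⟨a - 1, by ring⟩
    have hle := isLE_of_subsingleton R K b (fun n hn => h1 n (Or.inr hn))
    obtain ⟨P, hPb, hP, ⟨e₀⟩⟩ := exists_iso_Q_projective K b
    have hkp : P.IsKProjective := CochainComplex.isKProjective_of_projective P b
    have hq : P.d (a' - 1) a' ≫ P.pOpcycles a' = 0 := by simp
    let θ : DerivedCategory.Q.obj ((HomologicalComplex.single (ModuleCat.{u} R)
        (ComplexShape.up ℤ) a').obj (P.opcycles a')) ≅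
        (shiftFunctor (Dual.D R) (-(a' + 1) + 1)).obj (Dual.inD R (P.opcycles a')) :=
      ((shiftSingleIso (C := ModuleCat.{u} R) (-(a' + 1) + 1) a' (by ring)).app
        (P.opcycles a')).symm
    have hzero : DerivedCategory.Q.map (toSingle P a' (P.pOpcycles a') hq) = 0 := by
      have h0 := (h2 (P.opcycles a')).elim
        (e₀.inv ≫ DerivedCategory.Q.map (toSingle P a' (P.pOpcycles a') hq) ≫ θ.hom) 0
      have h1 : DerivedCategory.Q.map (toSingle P a' (P.pOpcycles a') hq) =
          e₀.hom ≫ (e₀.inv ≫ DerivedCategory.Q.map (toSingle P a' (P.pOpcycles a') hq) ≫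
            θ.hom) ≫ θ.inv := by
        simp
      rw [h1, h0, zero_comp, comp_zero]
    obtain ⟨s, hs⟩ := exists_factor_of_Q_map_eq_zero P a' _ hq hzero
    have : Projective (P.opcycles (a' + 1)) :=
      projective_opcycles P a' (P.pOpcycles a') (P.fromOpcycles a' (a' + 1)) (by simp) s hs
    obtain ⟨-, ⟨β⟩⟩ := split_of_projective_opcycles K P e₀ a' b
    have hge : DerivedCategory.IsGE K (a' + 1) := by
      apply isGE_of_subsingleton R K (a' + 1)
      intro n hn
      obtain h | rfl : n < a' ∨ n = a' := by lia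
      · exact h1 n (Or.inl (by lia))
      · exact subsingleton_HD_of_hom R K (-(n + 1) + 1) n (by ring) (fun N _ _ => h2 N)
    have hiso : IsIso ((Groth.Agent.Lib.DSplit.t.truncGEπ (a' + 1)).app K) := inferInstance
    have hstr := isStrictlyLE_truncGE P (a' + 1) b
    have hproj := projective_truncGE_X P (a' + 1)
    refine ⟨P.truncGE (a' + 1), ?_, ?_,
      ⟨β ≪≫ (asIso ((Groth.Agent.Lib.DSplit.t.truncGEπ (a' + 1)).app K)).symm⟩⟩
    · rintro i (hi | hi)
      · exact (P.truncGE (a' + 1)).isZero_of_isStrictlyGE (a' + 1) i hi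
      · exact (P.truncGE (a' + 1)).isZero_of_isStrictlyLE b i hi
    · intro i
      have := hproj i
      exact ModuleCat.projective_of_module_projective ((P.truncGE (a' + 1)).X i)
  tfae_finish

end Groth.Agent.S6964
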