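import Groth.Statements.S6966
import Mathlib.Algebra.Category.ModuleCat.Ext.DimensionShifting
import Mathlib.Algebra.Homology.DerivedCategory.Ext.Linear
import Mathlib.Algebra.Homology.DerivedCategory.Ext.EnoughProjectives
import Mathlib.Algebra.Homology.DerivedCategory.Ext.ExactSequences

set_option autoImplicit false
universe u
open CategoryTheory CategoryTheory.Limits
attribute [local instance] HasDerivedCategory.standard
open CAlg

namespace Groth.Agent.S6966

/-- Let R be a commutative ring, I an ideal of R and M an R-module. Then the following two conditions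
coincide: for each a ∈ I, the endomorphism of M given by multiplication by a can be written as a
composite M → P → M with P some projective R-module; and for every R-module N and every a ∈ I, a
annihilates Ext^1_R(M, N) = Hom(M[0], N[1]) in D(R). -/
theorem result (R : Type u) [CommRing R] (I : Ideal R) (M : Type u)
    [AddCommGroup M] [Module R M] :
    (∀ a ∈ I, ∃ (P : Type u) (_ : AddCommGroup P) (_ : Module R P) (_ : Module.Projective R P)
        (f : M →ₗ[R] P) (g : P →ₗ[R] M), g ∘ₗ f = a • LinearMap.id) ↔
      ∀ (N : Type u) [AddCommGroup N] [Module R N], ∀ a ∈ I,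
        ∀ x : DRing.ExtD R (Dual.inD R M) (Dual.inD R N) 1, a • x = 0 := by
  constructor
  · intro h N _ _ a ha x
    obtain ⟨P, _, _, hP, f, g, hgf⟩ := h a ha
    let e : Abelian.Ext (ModuleCat.of R M) (ModuleCat.of R N) 1 :=
      (Abelian.Ext.homLinearEquiv (R := R) (X := ModuleCat.of R M) (Y := ModuleCat.of R N)
        (n := 1)).symm x
    have hx : x = Abelian.Ext.homLinearEquiv (R := R) e :=
      ((Abelian.Ext.homLinearEquiv (R := R) (X := ModuleCat.of R M) (Y := ModuleCat.of R N)
        (n := 1)).apply_symm_apply x).symm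
    have he : a • e = 0 := by
      have h1 : a • e = (Abelian.Ext.mk₀ (a • 𝟙 (ModuleCat.of R M))).comp e (zero_add 1) := by
        rw [Abelian.Ext.mk₀_smul, Abelian.Ext.smul_comp, Abelian.Ext.mk₀_id_comp]
      have h2 : a • 𝟙 (ModuleCat.of R M) = ModuleCat.ofHom f ≫ ModuleCat.ofHom g := by
        rw [← ModuleCat.ofHom_comp, hgf]
        rfl
      rw [h1, h2, ← Abelian.Ext.mk₀_comp_mk₀_assoc]
      have h3 : (Abelian.Ext.mk₀ (ModuleCat.ofHom g)).comp e (zero_add 1) = 0 :=
        Abelian.Ext.eq_zero_of_projective _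
      rw [h3, Abelian.Ext.comp_zero]
    rw [hx, ← map_smul, he, map_zero]
  · intro h a ha
    let Mc : ModuleCat.{u} R := ModuleCat.of R M
    let S := Mc.projectiveShortComplex
    have hS : S.ShortExact := ModuleCat.shortExact_projectiveShortComplex Mc
    have h0 : a • hS.extClass = 0 := by
      have := h S.X₁ a ha (Abelian.Ext.homLinearEquiv (R := R) hS.extClass)
      rw [← map_smul] at this
      exact (Abelian.Ext.homLinearEquiv (R := R)).injective (by rw [this, map_zero])
    have h1 : (Abelian.Ext.mk₀ (a • 𝟙 Mc)).comp hS.extClass (zero_add 1) = 0 := by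
      rw [Abelian.Ext.mk₀_smul, Abelian.Ext.smul_comp, Abelian.Ext.mk₀_id_comp, h0]
    obtain ⟨x₂, hx₂⟩ := Abelian.Ext.covariant_sequence_exact₃ Mc hS
      (Abelian.Ext.mk₀ (a • 𝟙 Mc)) (zero_add 1) h1
    obtain ⟨s, rfl⟩ := (Abelian.Ext.mk₀_bijective _ _).2 x₂
    rw [Abelian.Ext.mk₀_comp_mk₀] at hx₂
    have hsg : s ≫ S.g = a • 𝟙 Mc := (Abelian.Ext.mk₀_bijective _ _).1 hx₂
    refine ⟨S.X₂, inferInstance, inferInstance, inferInstance, s.hom, S.g.hom, ?_⟩
    have := congrArg ModuleCat.Hom.hom hsg
    simpa using this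

end Groth.Agent.S6966
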