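import Groth.Statements.S6967
-- import your own Groth.Agent.* helpers here

set_option autoImplicit false
universe u
open CAlg

namespace Groth.Agent.S6967

/-- Let R be a commutative ring, I an ideal of R and 0 → K → P → M → 0 a short exact sequence of
R-modules with P projective. If multiplication by a on M factors through a projective R-module for
every a ∈ I, then multiplication by a on K factors through a projective R-module for every a ∈ I. -/
theorem result (R : Type u) [CommRing R] (I : Ideal R)
    {K P M : Type u} [AddCommGroup K] [Module R K] [AddCommGroup P] [Module R P] [Module.Projective R P]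
    [AddCommGroup M] [Module R M] (f : K →ₗ[R] P) (g : P →ₗ[R] M) (hf : Function.Injective f)
    (hg : Function.Surjective g) (hfg : LinearMap.range f = LinearMap.ker g)
    (hM : ∀ a ∈ I, ∃ (P : Type u) (_ : AddCommGroup P) (_ : Module R P) (_ : Module.Projective R P)
        (f : M →ₗ[R] P) (g : P →ₗ[R] M), g ∘ₗ f = a • LinearMap.id) :
    ∀ a ∈ I, ∃ (P : Type u) (_ : AddCommGroup P) (_ : Module R P) (_ : Module.Projective R P)
        (f : K →ₗ[R] P) (g : P →ₗ[R] K), g ∘ₗ f = a • LinearMap.id := by
  intro a ha
  obtain ⟨Q, _, _, hQ, u, v, hvu⟩ := hM a ha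
  -- lift v : Q → M along the surjection g
  obtain ⟨v', hv'⟩ := Module.projective_lifting_property g v hg
  -- the endomorphism a - v' u g of P lands in ker g = range f
  let e : P →ₗ[R] P := a • LinearMap.id - v' ∘ₗ u ∘ₗ g
  have he : ∀ x, e x ∈ LinearMap.range f := by
    intro x
    rw [hfg, LinearMap.mem_ker]
    have h1 : g (v' (u (g x))) = v (u (g x)) := by
      rw [← LinearMap.comp_apply g v', hv']
    have h2 : v (u (g x)) = a • g x := by
      have := congrArg (fun t => t (g x)) hvu
      simpa using this
    simp only [e, LinearMap.sub_apply, LinearMap.smul_apply, LinearMap.id_apply,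
      LinearMap.comp_apply, map_sub, map_smul, h1, h2, sub_self]
  -- so e factors through f
  let fe : K ≃ₗ[R] LinearMap.range f := LinearEquiv.ofInjective f hf
  let h : P →ₗ[R] K := fe.symm.toLinearMap ∘ₗ (e.codRestrict (LinearMap.range f) he)
  have hfh : ∀ x, f (h x) = e x := by
    intro x
    have : (fe (h x) : P) = e x := by
      simp [h]
    simpa [fe] using this
  refine ⟨P, inferInstance, inferInstance, inferInstance, f, h, ?_⟩
  ext k
  apply hf
  rw [LinearMap.comp_apply, hfh]
  have hgf : g (f k) = 0 := by
    rw [← LinearMap.mem_ker, ← hfg]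
    exact LinearMap.mem_range_self f k
  simp [e, hgf]

end Groth.Agent.S6967
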