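import Groth.Statements.S6969
import Mathlib.Algebra.Module.Projective
import Mathlib.LinearAlgebra.Finsupp.Supported
import Mathlib.LinearAlgebra.Finsupp.LinearCombination
import Mathlib.RingTheory.Finiteness.Finsupp
import Mathlib.LinearAlgebra.FreeModule.Basic

set_option autoImplicit false
universe u
open CAlg

namespace Groth.Agent.S6969

/-- Let R be a commutative ring and φ : M → N an R-linear map which factors through a projective
R-module. If M is finitely generated, then φ factors through a finitely generated projective
R-module. -/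
theorem result (R : Type u) [CommRing R] {M N : Type u} [AddCommGroup M]
    [Module R M] [Module.Finite R M] [AddCommGroup N] [Module R N] (φ : M →ₗ[R] N)
    (h : ∃ (P : Type u) (_ : AddCommGroup P) (_ : Module R P) (_ : Module.Projective R P) (f : M →ₗ[R] P)
      (g : P →ₗ[R] N), g ∘ₗ f = φ) :
    ∃ (P : Type u) (_ : AddCommGroup P) (_ : Module R P) (_ : Module.Projective R P) (_ : Module.Finite R P)
      (f : M →ₗ[R] P) (g : P →ₗ[R] N), g ∘ₗ f = φ := by
  classical
  obtain ⟨P, _, _, hP, f, g, rfl⟩ := h
  obtain ⟨s, hs⟩ := Module.projective_def'.mp hP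
  -- s : P →ₗ[R] (P →₀ R) is a section of the canonical surjection
  obtain ⟨T, hT⟩ := (Module.Finite.fg_top : (⊤ : Submodule R M).FG)
  let S : Finset P := T.biUnion (fun m => (s (f m)).support)
  have hsupp : ∀ m : M, s (f m) ∈ Finsupp.supported R R (S : Set P) := by
    intro m
    have hm : m ∈ Submodule.span R (T : Set M) := by rw [hT]; trivial
    have hle : Submodule.span R (T : Set M) ≤
        (Finsupp.supported R R (S : Set P)).comap (s ∘ₗ f) := by
      rw [Submodule.span_le]
      intro t ht
      rw [SetLike.mem_coe, Submodule.mem_comap, LinearMap.comp_apply, Finsupp.mem_supported]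
      intro x hx
      exact Finset.mem_coe.mpr (Finset.mem_biUnion.mpr ⟨t, ht, hx⟩)
    exact hle hm
  let f' : M →ₗ[R] (S →₀ R) :=
    (Finsupp.supportedEquivFinsupp (S : Set P)).toLinearMap ∘ₗ
      (s ∘ₗ f).codRestrict (Finsupp.supported R R (S : Set P)) hsupp
  let g' : (S →₀ R) →ₗ[R] N :=
    g ∘ₗ Finsupp.linearCombination R id ∘ₗ (Finsupp.supported R R (S : Set P)).subtype ∘ₗ
      (Finsupp.supportedEquivFinsupp (S : Set P)).symm.toLinearMap
  refine ⟨S →₀ R, inferInstance, inferInstance, inferInstance, inferInstance, f', g', ?_⟩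
  ext m
  simp only [f', g', LinearMap.comp_apply, LinearEquiv.coe_coe, LinearEquiv.symm_apply_apply,
    Submodule.subtype_apply, LinearMap.codRestrict_apply]
  have := congrArg (fun t => t (f m)) hs
  simp only [LinearMap.comp_apply, LinearMap.id_apply] at this
  rw [this]

end Groth.Agent.S6969
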