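import Groth.Statements.S6968
import Groth.Agent.S6969
import Mathlib.LinearAlgebra.Dual.Lemmas

set_option autoImplicit false
universe u
open CAlg

namespace Groth.Agent.S6968

/-- Let R be a commutative ring, I an ideal of R and M a finitely generated R-module such that
multiplication by a on M factors through a projective R-module for every a ∈ I. Then multiplication
by a on the dual module Hom_R(M, R) factors through a projective R-module for every a ∈ I. -/
theorem result (R : Type u) [CommRing R] (I : Ideal R) (M : Type u) [AddCommGroup M]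
    [Module R M] [Module.Finite R M]
    (hM : ∀ a ∈ I, ∃ (P : Type u) (_ : AddCommGroup P) (_ : Module R P) (_ : Module.Projective R P)
        (f : M →ₗ[R] P) (g : P →ₗ[R] M), g ∘ₗ f = a • LinearMap.id) :
    ∀ a ∈ I, ∃ (P : Type u) (_ : AddCommGroup P) (_ : Module R P) (_ : Module.Projective R P)
        (f : Module.Dual R M →ₗ[R] P) (g : P →ₗ[R] Module.Dual R M), g ∘ₗ f = a • LinearMap.id := by
  intro a ha
  obtain ⟨P, iP1, iP2, hP, f, g, hgf⟩ := hM a ha
  obtain ⟨Q, _, _, hQ, hQf, f', g', hgf'⟩ :=
    Groth.Agent.S6969.result R (a • LinearMap.id : M →ₗ[R] M) ⟨P, iP1, iP2, hP, f, g, hgf⟩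
  refine ⟨Module.Dual R Q, inferInstance, inferInstance, inferInstance, g'.dualMap, f'.dualMap, ?_⟩
  rw [LinearMap.dualMap_comp_dualMap, hgf']
  ext φ m
  simp

end Groth.Agent.S6968
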