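import Groth.Statements.S6971
import Mathlib
import Groth.Agent.Lib.H47NilRep
import Groth.Agent.Lib.DRingPCoh21B
import Groth.Agent.Lib.FlatBaseChangeD
-- import your own Groth.Agent.* helpers here

set_option autoImplicit false
universe u
open CategoryTheory CategoryTheory.Limits
attribute [local instance] HasDerivedCategory.standard
open DRing

namespace Groth.Agent.S6971

section
set_option linter.style.haveILetI false
set_option linter.unusedSectionVars false
set_option backward.isDefEq.respectTransparency.types false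
open DRing TensorProduct MonoidalCategory

/-- derived Nakayama for a surjection with nilpotent kernel. -/
lemma isZero_homology_of_nilpotent' {A B : Type u} [CommRing A] [CommRing B] [Algebra A B]
    (hsurj : Function.Surjective (algebraMap A B))
    (hI : IsNilpotent (RingHom.ker (algebraMap A B)))
    (F : CochainComplex (ModuleCat.{u} A) ℤ) [F.IsKProjective] (hfl : ∀ i, Module.Flat A (F.X i))
    (E : CochainComplex (ModuleCat.{u} B) ℤ) (b : ℤ) [E.IsStrictlyLE b]
    [∀ i, Projective (E.X i)]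
    (e : DerivedCategory.Q.obj (CohIII.bcCx (algebraMap A B) F) ≅ DerivedCategory.Q.obj E)
    (q : ℤ) (hq : b < q) : IsZero (F.homology q) := by
  have : E.IsKProjective := CochainComplex.isKProjective_of_projective E b
  have h0 : ∀ M' : ModuleCat.{u} B, IsZero ((CohIII.TFun F q).obj
      ((ModuleCat.restrictScalars (algebraMap A B)).obj M')) := by
    intro M'
    refine Groth.Agent.Lib.KProjBC21.isZero_TFun_restrict_of_iso F E e M' q ?_
    have hz : IsZero ((CohIII.tensorObj E M').X q) :=
      (tensorRight M').map_isZero (E.isZero_of_isStrictlyLE b q hq)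
    exact (HomologicalComplex.exactAt_iff_isZero_homology _ _).mp
      (HomologicalComplex.ExactAt.of_isZero hz)
  obtain ⟨n, hn⟩ := hI
  have h1 := Groth.Agent.Lib.KProjBC21.isZero_TFun_of_ker_pow B hsurj F hfl q h0 n A (by
    rw [hn]
    exact Submodule.bot_smul _)
  exact h1.of_iso ((HomologicalComplex.homologyFunctor _ _ q).mapIso
    (Groth.Agent.Lib.H47NilRep.tensorUnitIso F)).symm

/-- If `K ⊗^L B` is represented by a complex of projectives vanishing above `b` and the kernel
of the surjection `A → B` is nilpotent, then so is `K`. -/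
lemma exists_projective_rep' {A B : Type u} [CommRing A] [CommRing B] (φ : A →+* B)
    (hφ : Function.Surjective φ) (hI : IsNilpotent (RingHom.ker φ))
    [DRing.HasLBaseChange φ] (K : Dual.D A)
    (E : CochainComplex (ModuleCat.{u} B) ℤ) (b : ℤ) [E.IsStrictlyLE b]
    [∀ i, Projective (E.X i)]
    (eE : DerivedCategory.Q.obj E ≅ (DRing.LBaseChange φ).obj K) :
    ∃ (Q₀ : CochainComplex (ModuleCat.{u} A) ℤ) (_ : Q₀.IsStrictlyLE b)
      (_ : ∀ n : ℤ, Projective (Q₀.X n)), Nonempty (DerivedCategory.Q.obj Q₀ ≅ K) := by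
  letI : Algebra A B := φ.toAlgebra
  obtain ⟨F, r, hFK, -, hFfl, hr, -⟩ :=
    Groth.Agent.Lib.SemiFreeKProj35.exists_kprojective_resolution (DerivedCategory.Q.objPreimage K)
  haveI := hFK
  haveI := hr
  let eF : DerivedCategory.Q.obj F ≅ K :=
    asIso (DerivedCategory.Q.map r) ≪≫ DerivedCategory.Q.objObjPreimageIso K
  haveI : CochainComplex.IsKProjective
      (((ModuleCat.extendScalars φ).mapHomologicalComplex
        (ComplexShape.up ℤ)).obj F) :=
    Groth.Agent.Lib.KProjBC21.isKProjective_bcCx φ F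
  let eBC : (DRing.LBaseChange φ).obj K ≅
      DerivedCategory.Q.obj (CohIII.bcCx φ F) :=
    (DRing.LBaseChange φ).mapIso eF.symm ≪≫
      Groth.Agent.Lib.LBaseChangeKProj.lbcIso φ F
        (Groth.Agent.Lib.LBaseChangeKProj.hasKProjRep_Q _)
  have hz : ∀ q : ℤ, b < q → IsZero (F.homology q) := fun q hq =>
    isZero_homology_of_nilpotent' (A := A) (B := B) hφ hI F hFfl E b (eBC.symm ≪≫ eE.symm) q hq
  haveI : K.IsLE b := by
    rw [DerivedCategory.isLE_iff]
    intro q hq
    exact (hz q hq).of_iso ((DerivedCategory.homologyFunctor _ q).mapIso eF.symm ≪≫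
      (DerivedCategory.homologyFunctorFactors _ q).app F)
  exact Groth.Agent.Lib.ProjResolution.exists_iso_Q_projective K b

/-- comparison of extension of scalars along a surjection `φ` and along `A → A/ker φ`. -/
noncomputable def nuIso {A B : Type u} [CommRing A] [CommRing B] (φ : A →+* B)
    (hφ : Function.Surjective φ) :
    ModuleCat.extendScalars.{u,u,u} φ ⋙
      ModuleCat.restrictScalars (RingHom.quotientKerEquivOfSurjective hφ).toRingHom ≅
    ModuleCat.extendScalars.{u,u,u} (Ideal.Quotient.mk (RingHom.ker φ)) := by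
  let ψ := RingHom.quotientKerEquivOfSurjective hφ
  let adj1 := ModuleCat.extendRestrictScalarsAdj.{u,u,u} φ
  let eqv := ModuleCat.restrictScalarsEquivalenceOfRingEquiv ψ
  let adj2 := eqv.toAdjunction
  have h : Ideal.Quotient.mk (RingHom.ker φ) = ψ.symm.toRingHom.comp φ := by
    ext x
    change _ = ψ.symm (φ x)
    rw [RingEquiv.eq_symm_apply]
    rfl
  let i := ModuleCat.restrictScalarsComp'.{u} φ ψ.symm.toRingHom _ h
  exact ((adj1.comp adj2).ofNatIsoRight i.symm).leftAdjointUniq (ModuleCat.extendRestrictScalarsAdj _)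

/-- the key implication: pseudo-coherence descends along a surjection with nilpotent kernel. -/
theorem pc_of_pc_bc {R' R : Type u} [CommRing R'] [CommRing R] (φ : R' →+* R)
    (hφ : Function.Surjective φ) (hnil : IsNilpotent (RingHom.ker φ))
    [DRing.HasLBaseChange φ] (K' : Dual.D R')
    (h : DRing.IsPseudoCoherent' R ((DRing.LBaseChange φ).obj K')) :
    DRing.IsPseudoCoherent' R' K' := by
  obtain ⟨E, b, hEb, hEf, ⟨eE⟩⟩ := h
  let ψ := RingHom.quotientKerEquivOfSurjective hφ
  haveI hEle : E.IsStrictlyLE b := by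
    rw [CochainComplex.isStrictlyLE_iff]
    exact hEb
  haveI hEproj : ∀ i, Projective (E.X i) := fun i => by
    have := (hEf i).2
    exact ModuleCat.projective_of_categoryTheory_projective (E.X i)
  obtain ⟨Q₀, hQb, hQp, ⟨eQ⟩⟩ := exists_projective_rep' φ hφ hnil K' E b eE
  haveI := hQb
  haveI := hQp
  let α : DerivedCategory.Q.obj E ≅ DerivedCategory.Q.obj
      (((ModuleCat.extendScalars.{u, u, u} φ).mapHomologicalComplex (ComplexShape.up ℤ)).obj Q₀) :=
    eE ≪≫ (DRing.LBaseChange φ).mapIso eQ.symm ≪≫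
      Groth.Agent.Lib.LBaseChangeKProj.lbcIsoOfBdd φ Q₀ b
  haveI hEK : E.IsKProjective := CochainComplex.isKProjective_of_projective _ b
  obtain ⟨f, hf⟩ := Groth.Agent.Lib.H93ConeRep.exists_map_eq α.hom
  have hq : QuasiIso f := by
    rw [← DerivedCategory.isIso_Q_map_iff_quasiIso, hf]
    infer_instance
  let T : ModuleCat.{u} R ⥤ ModuleCat.{u} (R' ⧸ RingHom.ker φ) :=
    ModuleCat.restrictScalars ψ.toRingHom
  let Tc := T.mapHomologicalComplex (ComplexShape.up ℤ)
  let ν : Tc.obj (((ModuleCat.extendScalars.{u, u, u} φ).mapHomologicalComplex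
      (ComplexShape.up ℤ)).obj Q₀) ≅ (Groth.Agent.Lib.H47LiftCx.Gc (RingHom.ker φ)).obj Q₀ :=
    HomologicalComplex.Hom.isoOfComponents (fun n => (nuIso φ hφ).app (Q₀.X n)) (by
      intro i j _
      exact ((nuIso φ hφ).hom.naturality (Q₀.d i j)).symm)
  let f' := Tc.map f ≫ ν.hom
  have hq' : QuasiIso f' := by
    haveI : QuasiIso (Tc.map f) := inferInstance
    infer_instance
  have hfree : ∀ i, Module.Free (R' ⧸ RingHom.ker φ) (T.obj (E.X i)) ∧
      Module.Finite (R' ⧸ RingHom.ker φ) (T.obj (E.X i)) := by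
    intro i
    have h1 := (hEf i).1
    have h2 := (hEf i).2
    let bs := Module.Free.chooseBasis R (E.X i)
    letI : Module (R' ⧸ RingHom.ker φ) (E.X i) := Module.compHom (E.X i) ψ.toRingHom
    let bs' : Module.Basis _ (R' ⧸ RingHom.ker φ) (E.X i) :=
      bs.mapCoeffs ψ.symm (fun c x => by
        change ψ (ψ.symm c) • x = c • x
        rw [RingEquiv.apply_symm_apply])
    exact ⟨Module.Free.of_basis bs', Module.Finite.of_basis bs'⟩
  have hEt : ∀ i : ℤ, ∃ X : ModuleCat.{u} R', Groth.Agent.Lib.H47NilRep.PcProj R' X ∧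
      Nonempty (TensorProduct R' (R' ⧸ RingHom.ker φ) X ≃ₗ[R' ⧸ RingHom.ker φ] (Tc.obj E).X i) := by
    intro i
    have := (hfree i).1
    obtain ⟨M, _, _, hM1, hM2⟩ :=
      Groth.Agent.Lib.NilLiftProj.exists_projective_lift hnil (T.obj (E.X i))
    exact ⟨ModuleCat.of R' M, hM1, hM2⟩
  obtain ⟨P, b', hPb, hPP, ⟨e1⟩, ⟨θ⟩⟩ :=
    Groth.Agent.Lib.H47LiftCx.exists_lift_cx (RingHom.ker φ) (Groth.Agent.Lib.H47NilRep.PcProj R')
      Groth.Agent.Lib.H47NilRep.pcProj_h1 Groth.Agent.Lib.H47NilRep.pcProj_h2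
      (Groth.Agent.Lib.H47NilRep.pcProj_h3 _ hnil) Q₀ b
      (fun i hi => Q₀.isZero_of_isStrictlyLE b i hi)
      (fun i => by have := hQp i; exact ModuleCat.projective_of_module_projective (Q₀.X i))
      (Tc.obj E) b (fun i hi => T.map_isZero (hEb i hi))
      hEt f' hq'
  have hred : ∀ n : ℤ, (R' ⧸ RingHom.ker φ) ⊗[R'] (P.X n) ≃ₗ[R' ⧸ RingHom.ker φ] (Tc.obj E).X n :=
    fun n => (Groth.Agent.Lib.LiftAcyclic.ese (RingHom.ker φ) (P.X n)).symm ≪≫ₗ
      ((HomologicalComplex.eval _ _ n).mapIso θ).toLinearEquiv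
  have hfin : ∀ n, Module.Finite R' (P.X n) := fun n => by
    have : Module.Finite (R' ⧸ RingHom.ker φ) ((Tc.obj E).X n) := (hfree n).2
    exact Groth.Agent.Lib.H47NilRep.finite_of_finite_baseChange (RingHom.ker φ) hnil (P.X n)
      (Module.Finite.equiv (hred n).symm)
  rw [Groth.Agent.Lib.DRingPCoh21.isPseudoCoherent'_iff_forall]
  intro m
  exact (Groth.Agent.Lib.DRingPCoh21.isStrictPC_fp_iff R' m K').mp
    ⟨P, ⟨⟨b', hPb⟩, fun i _ => ⟨hfin i, hPP i⟩⟩, ⟨e1 ≪≫ eQ⟩⟩

end

/-- Let R' → R be a surjective homomorphism of commutative rings whose kernel is a nilpotent ideal, such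
that the derived base change D(R') → D(R) exists, and let K' be an object of D(R'). Then K' ⊗^L R is
pseudo-coherent over R (isomorphic in D(R) to a bounded above complex of finite free modules) if and
only if K' is pseudo-coherent over R'. -/
theorem result {R' R : Type u} [CommRing R'] [CommRing R]
    (φ : R' →+* R) (hφ : Function.Surjective φ) (hnil : IsNilpotent (RingHom.ker φ))
    [DRing.HasLBaseChange φ] (K' : Dual.D R') :
    DRing.IsPseudoCoherent' R ((DRing.LBaseChange φ).obj K') ↔ DRing.IsPseudoCoherent' R' K' := by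
  constructor
  · exact pc_of_pc_bc φ hφ hnil K'
  · rintro ⟨E, b, hEb, hEf, ⟨e⟩⟩
    let _ := φ.toAlgebra
    have : E.IsStrictlyLE b := by
      rw [CochainComplex.isStrictlyLE_iff]
      exact hEb
    have : ∀ i, Projective (E.X i) := fun i => by
      have := (hEf i).2
      exact ModuleCat.projective_of_categoryTheory_projective (E.X i)
    exact ⟨Groth.Agent.Lib.FlatBaseChangeD.bcCx R E, b,
      Groth.Agent.Lib.FlatBaseChangeD.vanishesAbove_bcCx hEb,
      Groth.Agent.Lib.FlatBaseChangeD.termwiseFiniteFree_bcCx hEf,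
      ⟨(Groth.Agent.Lib.LBaseChangeKProj.lbcIsoOfBdd φ E b).symm ≪≫
        (DRing.LBaseChange φ).mapIso e⟩⟩

end Groth.Agent.S6971
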