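import Groth.Statements.S6973
import Mathlib
import Groth.Agent.Lib.H47LiftCx
import Groth.Agent.S0534

set_option autoImplicit false
universe u
open CategoryTheory CategoryTheory.Limits
attribute [local instance] HasDerivedCategory.standard
open DRing

namespace Groth.Agent.S6973
set_option backward.isDefEq.respectTransparency.types false
set_option linter.unusedSectionVars false
attribute [local instance] HasDerivedCategory.standard

open Groth.Agent.Lib.H47LiftCx Groth.Agent.Lib.LiftAcyclic TensorProduct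

variable {R : Type u} [CommRing R]

/-- finitely generated projective modules -/
def Pc (R : Type u) [CommRing R] : ObjectProperty (ModuleCat.{u} R) :=
  fun X => Module.Finite R X ∧ Module.Projective R X

instance : (Pc R).IsClosedUnderIsomorphisms where
  of_iso {X Y} e h := by
    obtain ⟨h1, h2⟩ := h
    exact ⟨Module.Finite.equiv e.toLinearEquiv, Module.Projective.of_equiv e.toLinearEquiv⟩

lemma pc_h1 (X : ModuleCat.{u} R) (hX : Pc R X) : Module.Projective R X := hX.2

lemma pc_h2 (X Y : ModuleCat.{u} R) (hX : Pc R X) :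
    Pc R (ModuleCat.of R (X × Y)) ↔ Pc R Y := by
  obtain ⟨hXf, hXs⟩ := hX
  constructor
  · rintro ⟨hf, hs⟩
    have hYf : Module.Finite R Y :=
      Module.Finite.of_surjective (LinearMap.snd R X Y) LinearMap.snd_surjective
    have hs' : Module.Projective R (X × Y) := hs
    exact ⟨hYf, Module.Projective.of_split (LinearMap.inr R X Y) (LinearMap.snd R X Y)
      (LinearMap.ext fun _ => rfl)⟩
  · rintro ⟨hf, hs⟩
    exact ⟨inferInstanceAs (Module.Finite R (X × Y)),
      inferInstanceAs (Module.Projective R (X × Y))⟩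

lemma pc_h3 (I : Ideal R) (hI : I ≤ Ideal.jacobson (⊥ : Ideal R))
    (X Y : ModuleCat.{u} R) (f : X ⟶ Y) (_ : Pc R X) (hY : Pc R Y)
    (h : LinearMap.range f.hom ⊔ I • (⊤ : Submodule R Y) = ⊤) : Function.Surjective f.hom := by
  have := hY.1
  rw [← LinearMap.range_eq_top, eq_top_iff]
  apply Submodule.le_of_le_smul_of_le_jacobson_bot Module.Finite.fg_top hI
  rw [h]

lemma free_of_free_red (I : Ideal R) (hI : I ≤ Ideal.jacobson (⊥ : Ideal R))
    (X : ModuleCat.{u} R) (hX : Pc R X) (hfree : Module.Free (R ⧸ I) ((G I).obj X)) :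
    Module.Free R X := by
  classical
  have := hX.1
  have hfin : Module.Finite (R ⧸ I) ((G I).obj X) :=
    Module.Finite.equiv (ese I X).symm
  let ι := Module.Free.ChooseBasisIndex (R ⧸ I) ((G I).obj X)
  let bs := Module.Free.chooseBasis (R ⧸ I) ((G I).obj X)
  let Y : ModuleCat.{u} R := ModuleCat.of R (ι → R)
  have hY : Pc R Y := ⟨inferInstanceAs (Module.Finite R (ι → R)),
    inferInstanceAs (Module.Projective R (ι → R))⟩
  let e : (G I).obj Y ≅ (G I).obj X :=
    ((ese I Y) ≪≫ₗ TensorProduct.piScalarRight R (R ⧸ I) (R ⧸ I) ι ≪≫ₗ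
      bs.equivFun.symm).toModuleIso
  obtain ⟨i⟩ := nonempty_iso_of_map_iso I (Pc R) pc_h1 (pc_h3 I hI) hY hX e
  exact Module.Free.of_equiv i.toLinearEquiv


/-- Let (R, I) be a henselian pair such that the derived base change D(R) → D(R/I) exists, K a
pseudo-coherent object of D(R), and E a bounded above cochain complex of finite projective
R/I-modules which is isomorphic in D(R/I) to K ⊗^L_R R/I. Then there is a bounded above cochain
complex P of finite projective R-modules, isomorphic to K in D(R), whose termwise reduction P ⊗_R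
R/I is isomorphic to E as a complex, and such that P^i is free for every i for which E^i is free. -/
theorem result (R : Type u) [CommRing R]
    (I : Ideal R) [HenselianRing R I] [DRing.HasLBaseChange (Ideal.Quotient.mk I)] (K : Dual.D R)
    (hK : DRing.IsPseudoCoherent' R K) (E : DRing.Cx (R ⧸ I)) (b : ℤ) (hEb : DRing.VanishesAbove E b)
    (hEp : DRing.TermwiseFiniteProjective E)
    (hE : Nonempty (DRing.toD E ≅ (DRing.LBaseChange (Ideal.Quotient.mk I)).obj K)) :
    ∃ (P : DRing.Cx R) (b' : ℤ), DRing.VanishesAbove P b' ∧ DRing.TermwiseFiniteProjective P ∧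
      Nonempty (DRing.toD P ≅ K) ∧ Nonempty ((((ModuleCat.extendScalars (Ideal.Quotient.mk I)).mapHomologicalComplex (ComplexShape.up ℤ)).obj P) ≅ E) ∧
      ∀ i : ℤ, Module.Free (R ⧸ I) (E.X i) → Module.Free R (P.X i) := by
  have hI : I ≤ Ideal.jacobson (⊥ : Ideal R) := HenselianRing.jac
  have hmain := Groth.Agent.Lib.H47LiftCx.main I (Pc R) pc_h1 pc_h2 (pc_h3 I hI) K
    (by
      obtain ⟨E0, b0, h0, h1, h2⟩ := hK
      refine ⟨E0, b0, h0, fun i => ⟨(h1 i).1, ?_⟩, h2⟩
      have := (h1 i).2
      infer_instance)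
    E b hEb
    (by
      intro i
      have := (hEp i).1
      have := (hEp i).2
      obtain ⟨M, _, _, hM1, hM2, hM3⟩ := Groth.Agent.S0534.result R I (E.X i)
      exact ⟨ModuleCat.of R M, ⟨hM1, hM2⟩, hM3⟩)
    hE
  obtain ⟨P, b', h1', h2', h3', ⟨h4'⟩⟩ := hmain
  refine ⟨P, b', h1', h2', h3', ⟨h4'⟩, ?_⟩
  intro i hfree
  apply free_of_free_red I hI (P.X i) (h2' i)
  have : Module.Free (R ⧸ I)
      ((HomologicalComplex.eval (ModuleCat.{u} (R ⧸ I)) (ComplexShape.up ℤ) i).obj E) := hfree
  exact Module.Free.of_equiv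
    ((HomologicalComplex.eval _ _ i).mapIso h4').symm.toLinearEquiv

end Groth.Agent.S6973
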