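import Groth.Statements.S6975
import Groth.Agent.Lib.FibreNakD21

set_option autoImplicit false
universe u
open CategoryTheory CategoryTheory.Limits
attribute [local instance] HasDerivedCategory.standard
open DRing

namespace Groth.Agent.S6975

/-- Let R be a local commutative ring with residue field κ such that the derived base change D(R) → D(κ)
exists, and let K be a pseudo-coherent object of D(R). If there is an integer a with H^i(K ⊗^L_R κ)
= 0 for all i < a, then K is perfect. -/
theorem result (R : Type u) [CommRing R] [IsLocalRing R]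
    [DRing.HasLBaseChange (IsLocalRing.residue R)] (K : Dual.D R) (hK : DRing.IsPseudoCoherent' R K) (a : ℤ)
    (h : ∀ i : ℤ, i < a → Subsingleton (Dual.HD (IsLocalRing.ResidueField R)
      ((DRing.LBaseChange (IsLocalRing.residue R)).obj K) i)) :
    DRing.IsPerfect R K := by
  have hI : IsLocalRing.maximalIdeal R ≤ Ideal.jacobson ⊥ := by
    rw [IsLocalRing.jacobson_eq_maximalIdeal ⊥ bot_ne_top]
  obtain ⟨E, c, hc, hE, ⟨eK⟩⟩ := hK
  have h1 : E.IsStrictlyLE c := by
    rw [CochainComplex.isStrictlyLE_iff]
    exact hc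
  have h2 : ∀ i, Projective (E.X i) := fun i => by
    have := (hE i).1
    have := (hE i).2
    exact ModuleCat.projective_of_categoryTheory_projective _
  let Ebar : CochainComplex (ModuleCat.{u} (IsLocalRing.ResidueField R)) ℤ :=
    ((ModuleCat.extendScalars.{u, u, u} (IsLocalRing.residue R)).mapHomologicalComplex
      (ComplexShape.up ℤ)).obj E
  let j : DerivedCategory.Q.obj Ebar ≅ (DRing.LBaseChange (IsLocalRing.residue R)).obj K :=
    (Groth.Agent.Lib.LBaseChangeKProj.lbcIsoOfBdd (IsLocalRing.residue R) E c).symm ≪≫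
      (DRing.LBaseChange (IsLocalRing.residue R)).mapIso eK
  have hcbar : ∀ i, c < i → IsZero (Ebar.X i) := fun i hi =>
    (ModuleCat.extendScalars.{u, u, u} (IsLocalRing.residue R)).map_isZero (hc i hi)
  have hlow : ∀ i : ℤ, i < a → Ebar.ExactAt i := fun i hi => by
    have h3 := h i hi
    have h4 : IsZero ((DerivedCategory.homologyFunctor (ModuleCat.{u} (IsLocalRing.ResidueField R)) i).obj
        ((DRing.LBaseChange (IsLocalRing.residue R)).obj K)) := ModuleCat.isZero_of_subsingleton _
    have h5 := h4.of_iso ((DerivedCategory.homologyFunctor _ i).mapIso j)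
    rw [HomologicalComplex.exactAt_iff_isZero_homology]
    exact h5.of_iso ((DerivedCategory.homologyFunctorFactors _ i).app _).symm
  have hpa : Groth.Agent.Lib.PCohAmp.PA (Groth.Agent.Lib.DRingPerfAmp.FL (IsLocalRing.ResidueField R))
      a (max c a) (DerivedCategory.Q.obj Ebar) :=
    Groth.Agent.Lib.FlatAmp.pa_fl_of_opcycles (IsLocalRing.ResidueField R) Ebar a (max c a) c
      (le_max_right _ _) (fun i _ => (inferInstance : Module.Flat _ _)) hcbar
      (inferInstance : Module.Flat _ _) hlow
      (fun i hi => HomologicalComplex.ExactAt.of_isZero (hcbar i (lt_of_le_of_lt (le_max_left _ _) hi)))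
  obtain ⟨E', h5, h6, ⟨e'⟩⟩ := Groth.Agent.Lib.FibreNakD21.pa_of_pa_bc hI E c hc hE a (max c a) hpa
  exact ⟨E', a, max c a, h6, h5, ⟨e' ≪≫ eK⟩⟩

end Groth.Agent.S6975
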