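import Groth.Statements.S6976
import Groth.Agent.Lib.DRingPerfAmp
import Groth.Agent.S6954

set_option autoImplicit false
universe u
open CategoryTheory CategoryTheory.Limits
attribute [local instance] HasDerivedCategory.standard
open DRing

namespace Groth.Agent.S6976

/-- Let R be a commutative ring, K a pseudo-coherent object of D(R) and a, b integers. Then K is
isomorphic in D(R) to a complex of projective R-modules vanishing outside [a, b] if and only if K is
perfect with tor amplitude in [a, b]. -/
theorem result (R : Type u) [CommRing R]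
    (K : Dual.D R) (hK : DRing.IsPseudoCoherent' R K) (a b : ℤ) :
    (∃ P : DRing.Cx R, DRing.VanishesOutside P a b ∧ (∀ i : ℤ, Module.Projective R (P.X i)) ∧
        Nonempty (DRing.toD P ≅ K)) ↔ DRing.IsPerfect R K ∧ DRing.HasTorAmplitudeIn R a b K := by
  constructor
  · rintro ⟨P, hP1, hP2, hP3⟩
    have htor : DRing.HasTorAmplitudeIn R a b K := ⟨P, hP1, fun i => by
      have := hP2 i
      infer_instance, hP3⟩
    exact ⟨(Groth.Agent.S6954.result R K).2 ⟨hK, a, b, htor⟩, htor⟩
  · rintro ⟨-, F, hF1, hF2, hF3⟩
    by_cases hab : a ≤ b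
    · rw [Groth.Agent.Lib.DRingPCoh21.isPseudoCoherent'_iff_forall] at hK
      have h1 := (Groth.Agent.Lib.DRingPCoh21.isPseudoCoherent_iff R (a - 1) K).1 (hK (a - 1))
      obtain ⟨E', h1', h2', h3'⟩ := Groth.Agent.Lib.DRingPerfAmp.pa_fp_of_pc_of_flat R K a b hab h1
        ⟨F, hF2, hF1, hF3⟩
      exact ⟨E', h2', fun i => (h1' i).2, h3'⟩
    · refine ⟨F, hF1, fun i => ?_, hF3⟩
      have h0 : IsZero (F.X i) := hF1 i (by lia)
      have : Subsingleton (F.X i) := ModuleCat.subsingleton_of_isZero h0
      exact Module.Projective.of_free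

end Groth.Agent.S6976
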