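import Groth.Statements.S6977
import Mathlib
import Groth.Agent.Lib.H47LiftCx
import Groth.Agent.Lib.CompleteFlat89
import Groth.Agent.Lib.LBaseChangeFlat
import Groth.Agent.Lib.H87GlDim2
import Groth.Agent.Lib.DGlDim
import Groth.Agent.Lib.PCohAmp2
import Groth.Agent.Lib.DRingPerfAmp
import Groth.Agent.Lib.FlatAmp2
import Groth.Agent.Lib.H47LocSplit
import Groth.Agent.S7011

set_option autoImplicit false
universe u
open CategoryTheory CategoryTheory.Limits
attribute [local instance] HasDerivedCategory.standard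
open DRing

namespace Groth.Agent.S6977
set_option backward.isDefEq.respectTransparency.types false
set_option linter.unusedSectionVars false
attribute [local instance] HasDerivedCategory.standard
open DRing TensorProduct
open scoped ChangeOfRings
open Groth.Agent.Lib.H47LiftCx Groth.Agent.Lib.LiftAcyclic

section exact

variable {R : Type u} [CommRing R] (I : Ideal R)

lemma one_tmul_G_eq_zero_iff (X : ModuleCat.{u} R) (x : X) :
    ((1 : R ⧸ I) ⊗ₜ[R, Ideal.Quotient.mk I] x : (G I).obj X) = 0 ↔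
      x ∈ I • (⊤ : Submodule R X) := by
  rw [← Groth.Agent.Lib.CompleteFlat89.one_tmul_eq_zero_iff]
  constructor
  · intro h
    exact (congrArg (ese I X) h).trans (map_zero _)
  · intro h
    apply (ese I X).injective
    exact h.trans (map_zero _).symm

lemma G_map_one_tmul {X Y : ModuleCat.{u} R} (g : X ⟶ Y) (x : X) :
    ((G I).map g).hom ((1 : R ⧸ I) ⊗ₜ[R, Ideal.Quotient.mk I] x) =
      (1 : R ⧸ I) ⊗ₜ[R, Ideal.Quotient.mk I] (g.hom x) := rfl

/-- elementwise criterion for exactness of `Y/IY` -/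
lemma exactAt_Gc_iff (Y : CochainComplex (ModuleCat.{u} R) ℤ) (i : ℤ) :
    ((Gc I).obj Y).ExactAt i ↔
      ∀ x : Y.X i, (Y.d i (i + 1)).hom x ∈ I • (⊤ : Submodule R (Y.X (i + 1))) →
        ∃ y : Y.X (i - 1), x - (Y.d (i - 1) i).hom y ∈ I • (⊤ : Submodule R (Y.X i)) := by
  rw [HomologicalComplex.exactAt_iff' _ (i - 1) i (i + 1) (by simp) (by simp),
    ShortComplex.moduleCat_exact_iff]
  constructor
  · intro h x hx
    obtain ⟨z, hz⟩ := h ((1 : R ⧸ I) ⊗ₜ[R, Ideal.Quotient.mk I] x) (by
      change ((G I).map (Y.d i (i + 1))).hom ((1 : R ⧸ I) ⊗ₜ[R, Ideal.Quotient.mk I] x) = 0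
      rw [G_map_one_tmul]
      exact (one_tmul_G_eq_zero_iff I _ _).mpr hx)
    obtain ⟨y, rfl⟩ := exists_one_tmul_eq I _ z
    refine ⟨y, ?_⟩
    refine (one_tmul_G_eq_zero_iff I _ _).mp ?_
    have hz' : ((G I).map (Y.d (i - 1) i)).hom ((1 : R ⧸ I) ⊗ₜ[R, Ideal.Quotient.mk I] y) =
      (1 : R ⧸ I) ⊗ₜ[R, Ideal.Quotient.mk I] x := hz
    rw [G_map_one_tmul] at hz'
    refine (TensorProduct.tmul_sub _ _ _).trans ?_
    exact sub_eq_zero.mpr hz'.symm
  · intro h z hz
    obtain ⟨x, rfl⟩ := exists_one_tmul_eq I _ z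
    have hz' : ((G I).map (Y.d i (i + 1))).hom ((1 : R ⧸ I) ⊗ₜ[R, Ideal.Quotient.mk I] x) = 0 := hz
    rw [G_map_one_tmul] at hz'
    obtain ⟨y, hy⟩ := h x ((one_tmul_G_eq_zero_iff I _ _).mp hz')
    refine ⟨(1 : R ⧸ I) ⊗ₜ[R, Ideal.Quotient.mk I] y, ?_⟩
    change ((G I).map (Y.d (i - 1) i)).hom ((1 : R ⧸ I) ⊗ₜ[R, Ideal.Quotient.mk I] y) = _
    rw [G_map_one_tmul]
    have hy0 := (one_tmul_G_eq_zero_iff I _ _).mpr hy
    have hy' := (TensorProduct.tmul_sub _ _ _).symm.trans hy0
    exact (sub_eq_zero.mp hy').symm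

end exact


section transfer

variable {A B : Type u} [CommRing A] [CommRing B] [Algebra A B] (I : Ideal A)

lemma mem_smul_top_iff_restrict (X : ModuleCat.{u} B) (x : X) :
    x ∈ (I.map (algebraMap A B)) • (⊤ : Submodule B X) ↔
      (show ((ModuleCat.restrictScalars (algebraMap A B)).obj X : Type u) from x) ∈
        I • (⊤ : Submodule A ((ModuleCat.restrictScalars (algebraMap A B)).obj X)) := by
  letI : Module A X := Module.compHom X (algebraMap A B)
  haveI : IsScalarTower A B X := IsScalarTower.of_algebraMap_smul fun r x => rfl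
  have key := Ideal.smul_restrictScalars I (⊤ : Submodule B X)
  rw [Submodule.restrictScalars_top] at key
  have h1 : x ∈ (I.map (algebraMap A B)) • (⊤ : Submodule B X) ↔
      x ∈ ((I.map (algebraMap A B)) • (⊤ : Submodule B X)).restrictScalars A :=
    (Submodule.restrictScalars_mem A _ x).symm
  rw [h1, key]
  exact Iff.rfl

/-- restriction of scalars on complexes -/
noncomputable abbrev resCx (E : CochainComplex (ModuleCat.{u} B) ℤ) : CochainComplex (ModuleCat.{u} A) ℤ :=
  ((ModuleCat.restrictScalars (algebraMap A B)).mapHomologicalComplex (ComplexShape.up ℤ)).obj E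

lemma exactAt_transfer (E : CochainComplex (ModuleCat.{u} B) ℤ) (i : ℤ) :
    ((Gc (I.map (algebraMap A B))).obj E).ExactAt i ↔ ((Gc I).obj (resCx (A := A) E)).ExactAt i := by
  rw [exactAt_Gc_iff, exactAt_Gc_iff]
  constructor
  · intro h x hx
    obtain ⟨y, hy⟩ := h x ((mem_smul_top_iff_restrict I _ _).mpr hx)
    exact ⟨y, (mem_smul_top_iff_restrict I _ _).mp hy⟩
  · intro h x hx
    obtain ⟨y, hy⟩ := h x ((mem_smul_top_iff_restrict I _ _).mp hx)
    exact ⟨y, (mem_smul_top_iff_restrict I _ _).mpr hy⟩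

end transfer


section regular

open Groth.Agent.Lib.PCohAmp Groth.Agent.Lib.DRingPCoh21 Groth.Agent.Lib.DRingPerfAmp

variable (S : Type u) [CommRing S] [IsLocalRing S] [IsRegularLocalRing S]

lemma exists_bounded_rep_of_regular (d : ℕ) (hd : ringKrullDim S = d)
    (C : CochainComplex (ModuleCat.{u} S) ℤ) (b0 : ℤ) (hCb : ∀ i : ℤ, b0 < i → IsZero (C.X i))
    (hCt : ∀ i : ℤ, Module.Finite S (C.X i) ∧ Module.Projective S (C.X i))
    (a b : ℤ) (hex : ∀ i : ℤ, (i < a ∨ b < i) → C.ExactAt i) :
    ∃ F : CochainComplex (ModuleCat.{u} S) ℤ,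
      (∀ i : ℤ, Module.Finite S (F.X i) ∧ Module.Projective S (F.X i)) ∧
      (∀ i : ℤ, i < a - d ∨ b < i → IsZero (F.X i)) ∧ ∃ ψ : F ⟶ C, QuasiIso ψ := by
  have hC : C.IsStrictlyLE b0 := by
    rw [CochainComplex.isStrictlyLE_iff]; exact hCb
  have hproj : ∀ i : ℤ, Projective (C.X i) := fun i => by
    have := (hCt i).2
    exact ModuleCat.projective_of_categoryTheory_projective (C.X i)
  have hop : Projective (C.opcycles (a - d)) :=
    Groth.Agent.Lib.DGlDim.projective_opcycles_of_exactAt C d (a - d) a (by ring)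
      (fun j _ hj => hex j (Or.inl hj))
      (Groth.Agent.Lib.H87GlDim2.hasProjectiveDimensionLT_of_isRegularLocalRing d hd _)
  have hopM : Module.Projective S (C.opcycles (a - d)) :=
    ModuleCat.projective_of_module_projective _
  obtain ⟨hv, ht⟩ := Groth.Agent.Lib.H47LocSplit.truncGE_terms C (a - d) b0
    (fun k => (hCt k).1) (fun k => (hCt k).2) hopM
  have hge : C.IsGE (a - d) := by
    rw [CochainComplex.isGE_iff]
    intro i hi
    exact hex i (Or.inl (by have : (0 : ℤ) ≤ d := Int.natCast_nonneg d; omega))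
  have hqi : QuasiIso (C.πTruncGE (a - d)) := by
    rw [CochainComplex.quasiIso_πTruncGE_iff]; exact hge
  have hiso : IsIso (DerivedCategory.Q.map (C.πTruncGE (a - d))) := by
    rw [DerivedCategory.isIso_Q_map_iff_quasiIso]; exact hqi
  -- PA in [a-d, b0]
  have hPA0 : PA (FP S) (a - d) b0 (DerivedCategory.Q.obj C) :=
    ⟨C.truncGE (a - d), ht, hv, ⟨(asIso (DerivedCategory.Q.map (C.πTruncGE (a - d)))).symm⟩⟩
  have hH : ∀ i : ℤ, b < i →
      IsZero ((DerivedCategory.homologyFunctor (ModuleCat.{u} S) i).obj (DerivedCategory.Q.obj C)) := by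
    intro i hi
    exact ((HomologicalComplex.exactAt_iff_isZero_homology _ _).mp (hex i (Or.inr hi))).of_iso
      ((DerivedCategory.homologyFunctorFactors (ModuleCat.{u} S) i).app C)
  have hPA : PA (FP S) (a - d) b (DerivedCategory.Q.obj C) := by
    by_cases hab : a - d ≤ b
    · exact pa_mono le_rfl (min_le_left _ _) (pa_trunc (fp_kernel S) hab hPA0 hH)
    · -- everything is exact
      have hac : ∀ i : ℤ, C.ExactAt i := fun i => hex i (by
        have : (0 : ℤ) ≤ d := Int.natCast_nonneg d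
        omega)
      have hz : IsZero (DerivedCategory.Q.obj C) :=
        Groth.Agent.Lib.H47LiftCx.isZero_Q_obj_of_acyclic C hac
      exact Groth.Agent.Lib.FlatAmp.pa_of_isZero _ _ _ hz
  obtain ⟨F, hFt, hFv, ⟨e⟩⟩ := hPA
  have hFle : F.IsStrictlyLE b := by
    rw [CochainComplex.isStrictlyLE_iff]; exact fun i hi => hFv i (Or.inr hi)
  have hFproj : ∀ i : ℤ, Projective (F.X i) := fun i => by
    have := (hFt i).2
    exact ModuleCat.projective_of_categoryTheory_projective (F.X i)
  have hFK : F.IsKProjective := CochainComplex.isKProjective_of_projective F b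
  obtain ⟨ψ, hψ⟩ := Groth.Agent.Lib.H93ConeRep.exists_map_eq e.hom
  refine ⟨F, hFt, hFv, ψ, ?_⟩
  rw [← DerivedCategory.isIso_Q_map_iff_quasiIso, hψ]
  infer_instance

end regular


/-- Let A → B be a flat local homomorphism of local commutative rings such that B/m_A B is a regular
local ring of dimension d, and assume the derived base change D(A) → D(κ_A) to the residue field of
A exists. Let a, b be integers and K a pseudo-coherent object of D(B) such that H^i((K regarded in
D(A)) ⊗^L_A κ_A) = 0 for every i outside [a, b]. Then K is perfect as an object of D(B) and has tor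
amplitude in [a - d, b] over B. -/
theorem result {A B : Type u} [CommRing A] [CommRing B] [IsLocalRing A]
    [IsLocalRing B] [Algebra A B] [IsLocalHom (algebraMap A B)] [Module.Flat A B] (d : ℕ)
    [IsRegularLocalRing (B ⧸ (IsLocalRing.maximalIdeal A).map (algebraMap A B))]
    (hd : ringKrullDim (B ⧸ (IsLocalRing.maximalIdeal A).map (algebraMap A B)) = d)
    [DRing.HasLBaseChange (IsLocalRing.residue A)] (a b : ℤ) (K : Dual.D B) (hK : DRing.IsPseudoCoherent' B K)
    (h : ∀ i : ℤ, (i < a ∨ b < i) → Subsingleton (Dual.HD (IsLocalRing.ResidueField A)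
      ((DRing.LBaseChange (IsLocalRing.residue A)).obj ((DRing.restrictD (algebraMap A B)).obj K)) i)) :
    DRing.IsPerfect B K ∧ DRing.HasTorAmplitudeIn B (a - d) b K := by
  obtain ⟨E0, b0, hvan, hff, ⟨iK⟩⟩ := hK
  -- flatness of the restricted terms
  have hflat : ∀ i : ℤ, Module.Flat A ((resCx (A := A) E0).X i) := fun i => by
    have := (hff i).2
    letI : Module A (E0.X i) := Module.compHom _ (algebraMap A B)
    haveI : IsScalarTower A B (E0.X i) := IsScalarTower.of_algebraMap_smul fun r x => rfl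
    exact Module.Flat.trans A B (E0.X i)
  have hvan' : ∀ i : ℤ, b0 < i → IsZero ((resCx (A := A) E0).X i) := fun i hi =>
    (ModuleCat.restrictScalars (algebraMap A B)).map_isZero (hvan i hi)
  let e1 : (DRing.restrictD (algebraMap A B)).obj K ≅ DerivedCategory.Q.obj (resCx (A := A) E0) :=
    (DRing.restrictD (algebraMap A B)).mapIso iK.symm ≪≫
      ((ModuleCat.restrictScalars.{u} (algebraMap A B)).mapDerivedCategoryFactors).app E0
  let e2 := (DRing.LBaseChange (IsLocalRing.residue A)).mapIso e1 ≪≫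
    Groth.Agent.Lib.LBaseChangeFlat.lbcIsoOfFlat (IsLocalRing.residue A) (resCx (A := A) E0) hflat b0 hvan'
  have hexA : ∀ i : ℤ, (i < a ∨ b < i) →
      ((Gc (IsLocalRing.maximalIdeal A)).obj (resCx (A := A) E0)).ExactAt i := fun i hi => by
    have := h i hi
    have hz : IsZero ((DerivedCategory.homologyFunctor (ModuleCat.{u} (IsLocalRing.ResidueField A)) i).obj
        ((DRing.LBaseChange (IsLocalRing.residue A)).obj ((DRing.restrictD (algebraMap A B)).obj K))) :=
      ModuleCat.isZero_of_subsingleton _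
    have hz2 := hz.of_iso ((DerivedCategory.homologyFunctor _ i).mapIso e2.symm)
    have hz3 := hz2.of_iso ((DerivedCategory.homologyFunctorFactors _ i).app _).symm
    exact (HomologicalComplex.exactAt_iff_isZero_homology _ _).mpr hz3
  -- transfer to `B ⧸ m_A B`
  have hexB : ∀ i : ℤ, (i < a ∨ b < i) →
      ((Gc ((IsLocalRing.maximalIdeal A).map (algebraMap A B))).obj E0).ExactAt i := fun i hi =>
    (exactAt_transfer (IsLocalRing.maximalIdeal A) E0 i).mpr (hexA i hi)
  -- the ideal is in the Jacobson radical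
  have hJ : (IsLocalRing.maximalIdeal A).map (algebraMap A B) ≤ Ideal.jacobson (⊥ : Ideal B) := by
    rw [IsLocalRing.jacobson_eq_maximalIdeal _ bot_ne_top]
    exact ((IsLocalRing.local_hom_TFAE (algebraMap A B)).out 0 2).mp ‹IsLocalHom (algebraMap A B)›
  -- bounded representative over the regular local ring
  have hCb : ∀ i : ℤ, b0 < i →
      IsZero (((Gc ((IsLocalRing.maximalIdeal A).map (algebraMap A B))).obj E0).X i) := fun i hi =>
    (G _).map_isZero (hvan i hi)
  have hCt : ∀ i : ℤ, Module.Finite (B ⧸ (IsLocalRing.maximalIdeal A).map (algebraMap A B))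
        (((Gc ((IsLocalRing.maximalIdeal A).map (algebraMap A B))).obj E0).X i) ∧
      Module.Projective (B ⧸ (IsLocalRing.maximalIdeal A).map (algebraMap A B))
        (((Gc ((IsLocalRing.maximalIdeal A).map (algebraMap A B))).obj E0).X i) := fun i => by
    have := (hff i).1
    have := (hff i).2
    exact ⟨Module.Finite.equiv (ese _ (E0.X i)).symm, Module.Projective.of_equiv (ese _ (E0.X i)).symm⟩
  obtain ⟨F, hFt, hFv, ψ, hψ⟩ := exists_bounded_rep_of_regular
    (B ⧸ (IsLocalRing.maximalIdeal A).map (algebraMap A B)) d hd _ b0 hCb hCt a b hexB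
  -- lift
  obtain ⟨P, b', hPb, hPt, ⟨iP⟩, ⟨θ⟩⟩ := exists_lift_cx
    ((IsLocalRing.maximalIdeal A).map (algebraMap A B)) (Groth.Agent.S7011.Pc B)
    Groth.Agent.S7011.pc_h1 Groth.Agent.S7011.pc_h2 (Groth.Agent.S7011.pc_h3 _ hJ)
    E0 b0 hvan (fun i => Groth.Agent.S7011.pc_of_finite_free _ (hff i).1 (hff i).2)
    F b (fun i hi => hFv i (Or.inr hi))
    (by
      intro i
      have := (hFt i).1
      have := (hFt i).2
      have : Module.Free (B ⧸ (IsLocalRing.maximalIdeal A).map (algebraMap A B)) (F.X i) :=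
        Module.free_of_flat_of_isLocalRing
      obtain ⟨M, _, _, hM1, hM2, hM3⟩ := Groth.Agent.S6863.result
        ((IsLocalRing.maximalIdeal A).map (algebraMap A B)) hJ (F.X i)
      exact ⟨ModuleCat.of B M, ⟨hM1, hM2⟩, hM3⟩)
    ψ hψ
  -- vanishing of the terms of `P` outside `[a - d, b]`
  have hPv : ∀ i : ℤ, (i < a - d ∨ b < i) → IsZero (P.X i) := by
    intro i hi
    have hz : IsZero ((G ((IsLocalRing.maximalIdeal A).map (algebraMap A B))).obj (P.X i)) :=
      (hFv i hi).of_iso ((HomologicalComplex.eval _ _ i).mapIso θ)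
    have := (hPt i).1
    have htop : (⊤ : Submodule B (P.X i)) = ⊥ := by
      apply Submodule.eq_bot_of_le_smul_of_le_jacobson_bot _ _ Module.Finite.fg_top _ hJ
      intro x _
      refine (one_tmul_G_eq_zero_iff _ _ x).mp ?_
      exact (ModuleCat.subsingleton_of_isZero hz).elim _ _
    have : Subsingleton (P.X i) := by
      rw [← Submodule.subsingleton_iff B]
      exact ⟨fun x y => by
        have hx : x = ⊥ := by rw [eq_bot_iff, ← htop]; exact le_top
        have hy : y = ⊥ := by rw [eq_bot_iff, ← htop]; exact le_top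
        rw [hx, hy]⟩
    exact ModuleCat.isZero_of_subsingleton _
  have hPproj : ∀ i : ℤ, Module.Projective B (P.X i) := fun i =>
    Groth.Agent.S7011.pc_h1 _ (hPt i)
  refine ⟨⟨P, a - d, b, hPv, fun i => ⟨(hPt i).1, hPproj i⟩, ⟨iP ≪≫ iK⟩⟩,
    ⟨P, hPv, fun i => ?_, ⟨iP ≪≫ iK⟩⟩⟩
  have := hPproj i
  infer_instance

end Groth.Agent.S6977
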