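import Groth.Statements.S7014
import Groth.Agent.Lib.CompactHocolim
import Groth.Agent.Lib.DerivedCoprod
import Groth.Agent.Lib.DerivedHocolim

set_option autoImplicit false
universe u
open CategoryTheory CategoryTheory.Limits
attribute [local instance] HasDerivedCategory.standard
open DRing

namespace Groth.Agent.S7014

/-- Let R be a commutative ring and K an object of D(R) such that for every sequence (E_n) of objects of
D(R) the canonical map from the direct sum of the Hom(K, E_n) to Hom(K, ⊕_n E_n) is bijective. Let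
L_0 → L_1 → L_2 → ... be a sequence of cochain complexes of R-modules with colimit L (computed
termwise). Then every morphism K → L in D(R) factors through L_n → L for some n, and a morphism K →
L_n in D(R) whose composite with L_n → L vanishes already has vanishing composite with L_n → L_m for
some m ≥ n. -/
theorem result (R : Type u) [CommRing R] (K : Dual.D R)
    (hK : ∀ (E : ℕ → Dual.D R) [HasCoproduct fun i : ULift.{u + 1} ℕ => E i.down],
      Function.Bijective (CohDer.homSumToHomCoprod K (fun i : ULift.{u + 1} ℕ => E i.down)))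
    (L : ℕ ⥤ DRing.Cx R) (c : Cocone L) (hc : IsColimit c) :
    (∀ x : K ⟶ DRing.toD c.pt, ∃ (n : ℕ) (y : K ⟶ DRing.toD (L.obj n)),
        y ≫ DerivedCategory.Q.map (c.ι.app n) = x) ∧
      (∀ (n : ℕ) (y : K ⟶ DRing.toD (L.obj n)), y ≫ DerivedCategory.Q.map (c.ι.app n) = 0 →
        ∃ (m : ℕ) (h : n ≤ m), y ≫ DerivedCategory.Q.map (L.map (homOfLE h)) = 0) := by
  classical
  let F : ℕ ⥤ Dual.D R := L ⋙ DerivedCategory.Q
  have hK0 : ∀ (G : ℕ ⥤ Dual.D R) [HasCoproduct G.obj] (z : K ⟶ ∐ G.obj),
      ∃ N, z ≫ Groth.Agent.Lib.CompactHocolim.e G N = z := by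
    intro G _ z
    have : HasCoproduct (fun i : ULift.{u + 1} ℕ => G.obj i.down) :=
      hasCoproduct_of_equiv_of_iso G.obj _ Equiv.ulift (fun _ => Iso.refl _)
    exact Groth.Agent.Lib.CompactHocolim.exists_e_of_surjective G K (hK G.obj).surjective z
  have hL : DerLim.IsHocolim F.obj (Groth.Agent.Lib.CompactHocolim.tr F)
      (DerivedCategory.Q.obj c.pt) (fun n => DerivedCategory.Q.map (c.ι.app n)) :=
    Groth.Agent.Lib.DerivedHocolim.isHocolim_of_isColimit L c hc
  refine ⟨fun x => ?_, fun n y hy => ?_⟩
  · exact Groth.Agent.Lib.CompactHocolim.exists_factor F _ hL K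
      (Groth.Agent.Lib.CompactHocolim.exists_shift_e F K (hK0 (F ⋙ shiftFunctor _ (1 : ℤ))))
      (hK0 F) x
  · exact Groth.Agent.Lib.CompactHocolim.exists_comp_eq_zero F _ hL K (hK0 F) n y hy

end Groth.Agent.S7014
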