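import Groth.Statements.S6978
import Mathlib
import Groth.Agent.S7014
import Groth.Agent.Lib.H47SubSeq
import Groth.Agent.Lib.H47Fac
import Groth.Agent.Lib.ProjResolution

set_option autoImplicit false
universe u
open CategoryTheory CategoryTheory.Limits
attribute [local instance] HasDerivedCategory.standard
open DRing

namespace Groth.Agent.S6978
set_option backward.isDefEq.respectTransparency.types false
attribute [local instance] HasDerivedCategory.standard

open Groth.Agent.Lib.H47Cpt Groth.Agent.Lib.H47Fac Groth.Agent.Lib.H47SubSeq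
open Groth.Agent.Lib.DStupid Groth.Agent.Lib.PCohAmp Groth.Agent.Lib.DRingPCoh21

variable {R : Type u} [CommRing R]

/-- the family of submodules defining the canonical truncation `τ_{≤ n} X` -/
noncomputable def canFamily (X : CochainComplex (ModuleCat.{u} R) ℤ) (n : ℕ) (i : ℤ) :
    Submodule R (X.X i) :=
  if i < (n : ℤ) then ⊤ else if i = (n : ℤ) then LinearMap.ker (X.d i (i + 1)).hom else ⊥

lemma canFamily_of_lt (X : CochainComplex (ModuleCat.{u} R) ℤ) (n : ℕ) (i : ℤ) (hi : i < (n : ℤ)) :
    canFamily X n i = ⊤ := if_pos hi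

lemma canFamily_of_eq (X : CochainComplex (ModuleCat.{u} R) ℤ) (n : ℕ) (i : ℤ) (hi : i = (n : ℤ)) :
    canFamily X n i = LinearMap.ker (X.d i (i + 1)).hom := by
  rw [canFamily, if_neg (by lia), if_pos hi]

lemma canFamily_of_gt (X : CochainComplex (ModuleCat.{u} R) ℤ) (n : ℕ) (i : ℤ) (hi : (n : ℤ) < i) :
    canFamily X n i = ⊥ := by
  rw [canFamily, if_neg (by lia), if_neg (by lia)]

lemma canFamily_le (X : CochainComplex (ModuleCat.{u} R) ℤ) (n : ℕ) (i j : ℤ) :
    canFamily X n i ≤ (canFamily X n j).comap (X.d i j).hom := by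
  intro x hx
  rw [Submodule.mem_comap]
  rcases lt_trichotomy j (n : ℤ) with hj | hj | hj
  · rw [canFamily_of_lt X n j hj]; trivial
  · rw [canFamily_of_eq X n j hj, LinearMap.mem_ker]
    have := congr($(X.d_comp_d i j (j + 1)).hom x)
    rw [ModuleCat.hom_comp] at this
    exact this
  · rw [canFamily_of_gt X n j hj, Submodule.mem_bot]
    by_cases hij : i + 1 = j
    · subst hij
      rcases (show (n : ℤ) = i ∨ (n : ℤ) < i by lia) with hi | hi
      · rw [canFamily_of_eq X n i hi.symm, LinearMap.mem_ker] at hx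
        exact hx
      · rw [canFamily_of_gt X n i hi, Submodule.mem_bot] at hx
        rw [hx, map_zero]
    · have : X.d i j = 0 := X.shape i j hij
      rw [this]
      rfl

lemma canFamily_mono (X : CochainComplex (ModuleCat.{u} R) ℤ) (n m : ℕ) (hnm : n ≤ m) (i : ℤ) :
    canFamily X n i ≤ canFamily X m i := by
  rcases lt_trichotomy i (n : ℤ) with hi | hi | hi
  · rw [canFamily_of_lt X m i (by lia)]; exact le_top
  · rcases hnm.eq_or_lt with rfl | h
    · exact le_rfl
    · rw [canFamily_of_lt X m i (by lia)]; exact le_top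
  · rw [canFamily_of_gt X n i hi]; exact bot_le

lemma canFamily_top (X : CochainComplex (ModuleCat.{u} R) ℤ) (i : ℤ) :
    ∃ n₀ : ℕ, ∀ n, n₀ ≤ n → canFamily X n i = ⊤ :=
  ⟨(i + 1).toNat, fun n hn => canFamily_of_lt X n i (by
    have := Int.self_le_toNat (i + 1)
    lia)⟩

lemma topFamily_mono (P : CochainComplex (ModuleCat.{u} R) ℤ) (b : ℤ) (n m : ℕ) (hnm : n ≤ m)
    (i : ℤ) : topFamily P (b - n) i ≤ topFamily P (b - m) i := by
  by_cases hi : b - (n : ℤ) ≤ i
  · rw [topFamily_of_le P (b - (m : ℤ)) i (by lia)]; exact le_top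
  · rw [topFamily_of_lt P (b - (n : ℤ)) i (by lia)]; exact bot_le

lemma topFamily_top (P : CochainComplex (ModuleCat.{u} R) ℤ) (b : ℤ) (i : ℤ) :
    ∃ n₀ : ℕ, ∀ n, n₀ ≤ n → topFamily P (b - n) i = ⊤ :=
  ⟨(b - i).toNat, fun n hn => topFamily_of_le P _ i (by
    have := Int.self_le_toNat (b - i)
    lia)⟩

/-- the `ℕ`-indexed form of compactness used by `S7014` -/
lemma hK_nat {K : Dual.D R} (hK : Cpt K) :
    ∀ (E : ℕ → Dual.D R) [HasCoproduct fun i : ULift.{u + 1} ℕ => E i.down],
      Function.Bijective (CohDer.homSumToHomCoprod K (fun i : ULift.{u + 1} ℕ => E i.down)) :=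
  fun _ _ => bijective_of_cpt hK (ULift.{u + 1} ℕ) _

/-- a compact object is a retract of any stage of an exhaustive sequence of subcomplexes -/
lemma exists_factor {K : Dual.D R} (hK : Cpt K) (X : CochainComplex (ModuleCat.{u} R) ℤ)
    (e : DerivedCategory.Q.obj X ≅ K)
    (N : ℕ → ∀ i : ℤ, Submodule R (X.X i))
    (h : ∀ (n : ℕ) (i j : ℤ), N n i ≤ (N n j).comap (X.d i j).hom)
    (hmono : ∀ (n m : ℕ), n ≤ m → ∀ i, N n i ≤ N m i)
    (htop : ∀ i : ℤ, ∃ n₀ : ℕ, ∀ n, n₀ ≤ n → N n i = ⊤) :
    ∃ (n : ℕ) (y : K ⟶ DerivedCategory.Q.obj (subCx X (N n) (h n))),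
      y ≫ DerivedCategory.Q.map (subι X (N n) (h n)) ≫ e.hom = 𝟙 K := by
  obtain ⟨hc⟩ := isColimit_cocone X N h hmono htop
  obtain ⟨n, y, hy⟩ := (Groth.Agent.S7014.result R K (hK_nat hK) (seq X N h hmono)
    (cocone X N h hmono) hc).1 e.inv
  refine ⟨n, y, ?_⟩
  rw [← Category.assoc]
  change (y ≫ DerivedCategory.Q.map ((cocone X N h hmono).ι.app n)) ≫ e.hom = 𝟙 K
  rw [hy]
  exact e.inv_hom_id


lemma isZero_homology_subCx (X : CochainComplex (ModuleCat.{u} R) ℤ) (N : ∀ i : ℤ, Submodule R (X.X i))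
    (h : ∀ i j : ℤ, N i ≤ (N j).comap (X.d i j).hom) (i : ℤ) (hi : N i = ⊥) :
    IsZero ((DerivedCategory.homologyFunctor (ModuleCat.{u} R) i).obj
      (DerivedCategory.Q.obj (subCx X N h))) := by
  have hX : IsZero ((subCx X N h).X i) := by
    have : Subsingleton (N i) := by rw [hi]; infer_instance
    exact ModuleCat.isZero_of_subsingleton (ModuleCat.of R (N i))
  have h1 : IsZero ((subCx X N h).homology i) :=
    (HomologicalComplex.exactAt_iff_isZero_homology _ _).mp
      (HomologicalComplex.ExactAt.of_isZero hX)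
  exact h1.of_iso ((DerivedCategory.homologyFunctorFactors _ i).app _)

/-- compact objects are bounded above -/
lemma isLE_of_cpt {K : Dual.D R} (hK : Cpt K) :
    ∃ n : ℤ, DerivedCategory.IsLE (K : DerivedCategory (ModuleCat.{u} R)) n := by
  let X := (DerivedCategory.Q (C := ModuleCat.{u} R)).objPreimage K
  let e : DerivedCategory.Q.obj X ≅ K := (DerivedCategory.Q (C := ModuleCat.{u} R)).objObjPreimageIso K
  obtain ⟨n, y, hy⟩ := exists_factor hK X e (canFamily X) (canFamily_le X) (canFamily_mono X)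
    (canFamily_top X)
  refine ⟨n, ?_⟩
  rw [DerivedCategory.isLE_iff]
  intro i hi
  have hz := isZero_homology_subCx X (canFamily X n) (canFamily_le X n) i
    (canFamily_of_gt X n i hi)
  rw [IsZero.iff_id_eq_zero]
  have := congr((DerivedCategory.homologyFunctor (ModuleCat.{u} R) i).map $hy)
  rw [CategoryTheory.Functor.map_id, Functor.map_comp] at this
  rw [← this, hz.eq_of_tgt ((DerivedCategory.homologyFunctor (ModuleCat.{u} R) i).map y) 0,
    zero_comp]


/-- compact objects are perfect -/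
theorem perfect_of_cpt {K : Dual.D R} (hK : Cpt K) : DRing.IsPerfect R K := by
  obtain ⟨n, hn⟩ := isLE_of_cpt hK
  obtain ⟨P, hP, hproj, ⟨e⟩⟩ := Groth.Agent.Lib.ProjResolution.exists_iso_Q_projective
    (K : DerivedCategory (ModuleCat.{u} R)) n
  obtain ⟨m, y, hy⟩ := exists_factor hK P e (fun m => topFamily P (n - m))
    (fun m => topFamily_le P (n - m)) (topFamily_mono P n) (topFamily_top P n)
  let F : CochainComplex (ModuleCat.{u} R) ℤ := stupidGE P (n - m)
  have hF : ∀ i : ℤ, i < n - m ∨ n < i → IsZero (F.X i) := by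
    rintro i (hi | hi)
    · exact isZero_stupidGE_X_of_lt P _ i hi
    · exact isZero_stupidGE_X_of_isZero P _ i (P.isZero_of_isStrictlyLE n i hi)
  have hFproj : ∀ i : ℤ, Module.Projective R (F.X i) := by
    intro i
    by_cases hi : n - (m : ℤ) ≤ i
    · have : Module.Projective R (P.X i) := (P.X i).projective_of_module_projective
      exact Module.Projective.of_equiv (stupidGEXIso P (n - m) i hi).toLinearEquiv.symm
    · have : Subsingleton (F.X i) :=
        ModuleCat.subsingleton_of_isZero (isZero_stupidGE_X_of_lt P _ i (by lia))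
      infer_instance
  have hW := w_of_bounded_projective F (n - m) n hF hFproj
  obtain ⟨P₀, g, h, ⟨a, b, hP₀⟩, hgh⟩ := hW K hK y
  have hP₀' : PA (FP R) a (max a b) P₀ := pa_mono le_rfl (le_max_right a b) hP₀
  have hretr : g ≫ (h ≫ DerivedCategory.Q.map (subι P (topFamily P (n - m)) (topFamily_le P (n - m)))
      ≫ e.hom) = 𝟙 K := by
    rw [← Category.assoc, hgh]
    exact hy
  obtain ⟨E, h1, h2, h3⟩ := pa_of_retract (P := FP R) (fp_prod R)
    (Groth.Agent.Lib.DRingPerfAmp.fp_lift R) (Groth.Agent.Lib.DRingPerfAmp.fp_kernel R)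
    (Groth.Agent.Lib.DRingPerfAmp.fp_direct_factor R) (max a b - a).toNat a (max a b) (by
      have := le_max_left a b
      lia) P₀ K g _ hretr hP₀'
  exact ⟨E, a, max a b, h2, h1, h3⟩


/-- Let R be a commutative ring and K an object of D(R). Then K is perfect if and only if K is a compact
object of D(R): for every family (E_i) of objects of D(R) indexed by a small type, the canonical map
from the direct sum of the Hom(K, E_i) to Hom(K, ⊕ E_i) is bijective. -/
theorem result (R : Type u) [CommRing R] (K : Dual.D R) :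
    DRing.IsPerfect R K ↔
      ∀ (I : Type u) (E : I → Dual.D R) [HasCoproduct fun i : ULift.{u + 1} I => E i.down],
        Function.Bijective (CohDer.homSumToHomCoprod K (fun i : ULift.{u + 1} I => E i.down)) := by
  constructor
  · rintro ⟨E, a, b, h1, h2, h3⟩ I Y _
    have hK : Cpt (K : DerivedCategory (ModuleCat.{u} R)) :=
      cpt_of_pa (a := a) (b := b) ⟨E, h2, h1, h3⟩
    exact bijective_of_cpt hK (ULift.{u + 1} I) _
  · intro H
    exact perfect_of_cpt (cpt_of_bijective K H)

end Groth.Agent.S6978
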