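import Groth.Statements.S6979
import Mathlib
import Groth.Agent.Lib.H47NilRep

set_option autoImplicit false
universe u
open CategoryTheory CategoryTheory.Limits
attribute [local instance] HasDerivedCategory.standard
open DRing

namespace Groth.Agent.S6979
set_option backward.isDefEq.respectTransparency.types false
attribute [local instance] HasDerivedCategory.standard
open DRing TensorProduct
open Groth.Agent.Lib.H47NilRep Groth.Agent.Lib.LiftAcyclic


/-- Let R be a commutative ring and I a nilpotent ideal of R such that the derived base change D(R) →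
D(R/I) exists, and let K be an object of D(R). If K ⊗^L_R R/I is a perfect object of D(R/I), then K
is a perfect object of D(R). -/
theorem result (R : Type u) [CommRing R] (I : Ideal R)
    (hI : IsNilpotent I) [DRing.HasLBaseChange (Ideal.Quotient.mk I)] (K : Dual.D R)
    (hK : DRing.IsPerfect (R ⧸ I) ((DRing.LBaseChange (Ideal.Quotient.mk I)).obj K)) :
    DRing.IsPerfect R K := by
  obtain ⟨E, a, b, hEv, hEf, ⟨eE⟩⟩ := hK
  obtain ⟨P, b', hPb, hPP, ⟨eP⟩, ⟨θ⟩⟩ := main_nilpotent I hI K E b (fun i hi => hEv i (Or.inr hi))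
    (fun i => (hEf i).2) ⟨eE⟩
  have hred : ∀ n : ℤ, (R ⧸ I) ⊗[R] (P.X n) ≃ₗ[R ⧸ I] E.X n := fun n =>
    (ese I (P.X n)).symm ≪≫ₗ ((HomologicalComplex.eval _ _ n).mapIso θ).toLinearEquiv
  refine ⟨P, a, b, fun n hn => ?_, fun n => ⟨?_, hPP n⟩, ⟨eP⟩⟩
  · have hsub : Subsingleton (E.X n) := ModuleCat.subsingleton_of_isZero (hEv n hn)
    have : Subsingleton ((R ⧸ I) ⊗[R] (P.X n)) := (hred n).toEquiv.subsingleton
    have := subsingleton_of_subsingleton_baseChange I hI (P.X n) this
    exact ModuleCat.isZero_of_subsingleton _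
  · have := (hEf n).1
    exact finite_of_finite_baseChange I hI (P.X n) (Module.Finite.equiv (hred n).symm)

end Groth.Agent.S6979
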