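import Groth.Statements.S6981
import Groth.Agent.Lib.PCohRestrict
import Mathlib.Algebra.Homology.DerivedCategory.SingleTriangle
import Mathlib.Algebra.Polynomial.Div

set_option autoImplicit false
universe u
open CategoryTheory CategoryTheory.Limits
attribute [local instance] HasDerivedCategory.standard
open DRing

namespace Groth.Agent.S6981

open CategoryTheory.Pretriangulated Groth.Agent.S5599 Groth.Agent.Lib.DRingPCoh21
  Groth.Agent.Lib.PCohRestrict Polynomial

section Helpers

variable (R : Type u) [CommRing R]

/-- `R` as an `R[X]`-module through `X ↦ 0` -/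
noncomputable abbrev R0 : ModuleCat.{u} R[X] :=
  (ModuleCat.restrictScalars (Polynomial.evalRingHom (0 : R))).obj (ModuleCat.of R R)

/-- multiplication by `X` on `R[X]` -/
noncomputable def mulX : R[X] →ₗ[R[X]] R[X] := LinearMap.toSpanSingleton R[X] R[X] X

lemma mulX_apply (p : R[X]) : mulX R p = p * X := rfl

/-- evaluation at `0`, as an `R[X]`-linear map `R[X] ⟶ R0` -/
noncomputable def ev0 : R[X] →ₗ[R[X]] R0 R where
  toFun p := (show R from p.eval 0)
  map_add' p q := show ((p + q).eval 0 : R) = p.eval 0 + q.eval 0 from Polynomial.eval_add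
  map_smul' q p := show ((q * p).eval 0 : R) = q.eval 0 * p.eval 0 from Polynomial.eval_mul

lemma ev0_apply (p : R[X]) : (show R from ev0 R p) = p.eval 0 := rfl

/-- the Koszul short complex `R[X] ⟶ R[X] ⟶ R` -/
noncomputable def koszul : ShortComplex (ModuleCat.{u} R[X]) :=
  ShortComplex.mk (ModuleCat.ofHom (mulX R)) (ModuleCat.ofHom (ev0 R)) (by
    ext
    show ((1 * X : R[X]).eval 0 : R) = 0
    simp)

lemma koszul_shortExact : (koszul R).ShortExact := by
  refine ModuleCat.shortComplex_shortExact _ ?_ ?_ ?_
  · intro p
    show (show R[X] from p).eval 0 = (0 : R) ↔ ∃ q : R[X], q * X = (show R[X] from p)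
    constructor
    · intro h
      have : X ∣ (show R[X] from p) := by
        rw [Polynomial.X_dvd_iff, Polynomial.coeff_zero_eq_eval_zero]
        exact h
      obtain ⟨q, hq⟩ := this
      exact ⟨q, by rw [hq, mul_comm]⟩
    · rintro ⟨q, hq⟩
      rw [← hq]
      simp
  · intro p q h
    have h' : (show R[X] from p) * X = (show R[X] from q) * X := h
    exact (Polynomial.isRegular_X (R := R)).right h'
  · intro r
    exact ⟨Polynomial.C (show R from r), show (Polynomial.C (show R from r)).eval 0 = _ by simp⟩

lemma npc_R0 (a : ℤ) :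
    NPC (FF R[X]) a ((Φ (Polynomial.evalRingHom (0 : R))).obj (ModuleCat.of R R)) := by
  have hff : FF R[X] (ModuleCat.of R[X] R[X]) :=
    ⟨inferInstanceAs (Module.Finite R[X] R[X]), inferInstanceAs (Module.Free R[X] R[X])⟩
  exact (Groth.Agent.S5599.result (FF R[X]) (ff_prod R[X]) (fp_quasiStable R[X])
    (ff_quasiLiftable R[X]) a (koszul_shortExact R).singleTriangle
    (koszul_shortExact R).singleTriangle_distinguished).1
    (Groth.Agent.Lib.PCohDescent.npc_singleFunctor _ hff 0 (a + 1))
    (Groth.Agent.Lib.PCohDescent.npc_singleFunctor _ hff 0 a)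

end Helpers

/-- Let R be a commutative ring, K an object of D(R), m an integer, and R[x] → R the R-algebra
homomorphism sending x to 0. Then K is m-pseudo-coherent over R if and only if K, regarded as an
object of D(R[x]) by restriction of scalars along this map, is m-pseudo-coherent over R[x]. -/
theorem result (R : Type u) [CommRing R] (K : Dual.D R)
    (m : ℤ) :
    DRing.IsPseudoCoherent R m K ↔
      DRing.IsPseudoCoherent (Polynomial R) m ((DRing.restrictD (Polynomial.evalRingHom (0 : R))).obj K) := by
  rw [Groth.Agent.Lib.DRingPCoh21.isPseudoCoherent_iff,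
    Groth.Agent.Lib.DRingPCoh21.isPseudoCoherent_iff]
  exact Groth.Agent.Lib.PCohRestrict.npc_restrict_iff (Polynomial.evalRingHom (0 : R))
    (npc_R0 R) m K

end Groth.Agent.S6981
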