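import Groth.Statements.S6982
import Mathlib
import Groth.Agent.Lib.KProjBC21
import Groth.Agent.Lib.SemiFreeKProj35
import Groth.Agent.Lib.LBaseChangeKProj

set_option autoImplicit false
universe u
open CategoryTheory CategoryTheory.Limits
attribute [local instance] HasDerivedCategory.standard
open DRing

namespace Groth.Agent.S6982
set_option backward.isDefEq.respectTransparency.types false
attribute [local instance] HasDerivedCategory.standard
open DRing TensorProduct Polynomial
open scoped ChangeOfRings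

variable (R : Type u) [CommRing R]

noncomputable abbrev ιR : R →+* R[X] := Polynomial.C
noncomputable abbrev φR : R[X] →+* R := Polynomial.evalRingHom (0 : R)

lemma φ_comp_ι : (φR R).comp (ιR R) = RingHom.id R := by
  ext r; simp

/-- `R[X]` as an `R`-module via `C`. -/
noncomputable abbrev S' : ModuleCat.{u} R :=
  (ModuleCat.restrictScalars (ιR R)).obj (ModuleCat.of R[X] R[X])

variable {R}

/-- the underlying identity `M → res_ι res_φ M` -/
noncomputable def α (M : ModuleCat.{u} R) :
    M ⟶ (ModuleCat.restrictScalars (ιR R)).obj ((ModuleCat.restrictScalars (φR R)).obj M) :=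
  ModuleCat.ofHom (Y := (ModuleCat.restrictScalars (ιR R)).obj ((ModuleCat.restrictScalars (φR R)).obj M))
    { toFun := fun m => m
      map_add' := fun _ _ => rfl
      map_smul' := fun r m => by
        change r • m = (φR R) ((ιR R) r) • m
        simp }

/-- `ε : S ⊗_R M → M`, `s ⊗ m ↦ s(0) • m`. -/
noncomputable def ε (M : ModuleCat.{u} R) :
    (ModuleCat.extendScalars (ιR R)).obj M ⟶ (ModuleCat.restrictScalars (φR R)).obj M :=
  ((ModuleCat.extendRestrictScalarsAdj (ιR R)).homEquiv _ _).symm (α M)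

lemma ε_naturality {M N : ModuleCat.{u} R} (f : M ⟶ N) :
    (ModuleCat.extendScalars (ιR R)).map f ≫ ε N = ε M ≫ (ModuleCat.restrictScalars (φR R)).map f := by
  unfold ε
  rw [← Adjunction.homEquiv_naturality_left_symm, ← Adjunction.homEquiv_naturality_right_symm]
  rfl

lemma ε_tmul (M : ModuleCat.{u} R) (s : R[X]) (m : M) :
    (ε M).hom (s ⊗ₜ[R, ιR R] m) = (s.eval 0) • m := by
  rfl

variable (R) in
noncomputable def divXlin : S' R →ₗ[R] S' R where
  toFun := fun s => Polynomial.divX (s : R[X])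
  map_add' := fun a b => Polynomial.divX_add
  map_smul' := fun r s => by
    change divX (C r * (show R[X] from s)) = C r * divX (show R[X] from s)
    exact divX_C_mul

/-- `d : S ⊗ M → S ⊗ M`, `s ⊗ m ↦ divX s ⊗ m` (only `R`-linear). -/
noncomputable def dd (M : ModuleCat.{u} R) : (S' R) ⊗[R] M →ₗ[R] (S' R) ⊗[R] M :=
  TensorProduct.map (divXlin R) LinearMap.id

/-- view an element of the tensor product as an element of the extension of scalars -/
abbrev asE (M : ModuleCat.{u} R) (t : (S' R) ⊗[R] M) : (ModuleCat.extendScalars (ιR R)).obj M := t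

lemma divX_X_mul (s : R[X]) : divX (X * s) = s := by
  ext n; simp [coeff_X_mul]

lemma dd_X_smul (M : ModuleCat.{u} R) (t : (ModuleCat.extendScalars (ιR R)).obj M) :
    dd M ((X : R[X]) • t) = t := by
  refine TensorProduct.induction_on
    (motive := fun t : (ModuleCat.extendScalars (ιR R)).obj M => dd M ((X : R[X]) • t) = t) t ?_ ?_ ?_
  · change dd M ((X : R[X]) • (0 : (ModuleCat.extendScalars (ιR R)).obj M)) = 0
    rw [smul_zero]; exact map_zero _
  · intro s m
    change dd M ((X : R[X]) • asE M (s ⊗ₜ[R, ιR R] m)) = s ⊗ₜ[R, ιR R] m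
    have h : (X : R[X]) • asE M (s ⊗ₜ[R, ιR R] m) =
        asE M (((X : R[X]) * (show R[X] from s)) ⊗ₜ[R, ιR R] m) := rfl
    rw [h]
    change (divX ((X : R[X]) * (show R[X] from s))) ⊗ₜ[R, ιR R] m = _
    rw [divX_X_mul]
    rfl
  · intro x y hx hy
    let x' : (ModuleCat.extendScalars (ιR R)).obj M := x
    let y' : (ModuleCat.extendScalars (ιR R)).obj M := y
    change dd M ((X : R[X]) • (x' + y')) = x' + y'
    rw [smul_add]
    exact (map_add (dd M) _ _).trans (congrArg₂ (· + ·) hx hy)

lemma ε_X_smul (M : ModuleCat.{u} R) (t : (ModuleCat.extendScalars (ιR R)).obj M) :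
    (ε M).hom ((X : R[X]) • t) = 0 := by
  rw [map_smul]
  change ((φR R) X) • (show M from (ε M).hom t) = 0
  simp

lemma ε_one_tmul (M : ModuleCat.{u} R) (m : M) :
    (ε M).hom ((1 : R[X]) ⊗ₜ[R, ιR R] m) = m := by
  rw [ε_tmul]; simp

lemma decomp (M : ModuleCat.{u} R) (t : (ModuleCat.extendScalars (ιR R)).obj M) :
    (X : R[X]) • asE M (dd M t) + asE M ((1 : R[X]) ⊗ₜ[R, ιR R] ((ε M).hom t : M)) = t := by
  refine TensorProduct.induction_on
    (motive := fun t : (ModuleCat.extendScalars (ιR R)).obj M =>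
      (X : R[X]) • asE M (dd M t) + asE M ((1 : R[X]) ⊗ₜ[R, ιR R] ((ε M).hom t : M)) = t) t ?_ ?_ ?_
  · change (X : R[X]) • asE M (dd M 0) + asE M ((1 : R[X]) ⊗ₜ[R, ιR R]
      ((ε M).hom (0 : (ModuleCat.extendScalars (ιR R)).obj M) : M)) = 0
    rw [map_zero, map_zero]
    change (X : R[X]) • (0 : (ModuleCat.extendScalars (ιR R)).obj M) + asE M ((1 : R[X]) ⊗ₜ[R, ιR R] (0 : M)) = 0
    rw [smul_zero, zero_add]
    exact TensorProduct.tmul_zero _ _
  · intro s m
    have h1 : (X : R[X]) • asE M (dd M (s ⊗ₜ[R, ιR R] m)) =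
        asE M (((X : R[X]) * divX (show R[X] from s)) ⊗ₜ[R, ιR R] m) := rfl
    have h2 : asE M ((1 : R[X]) ⊗ₜ[R, ιR R] ((ε M).hom (s ⊗ₜ[R, ιR R] m) : M)) =
        asE M ((C ((show R[X] from s).coeff 0)) ⊗ₜ[R, ιR R] m) := by
      rw [ε_tmul, ← coeff_zero_eq_eval_zero]
      have := TensorProduct.smul_tmul (R := R) (R' := R) (M := S' R) (N := M)
        ((show R[X] from s).coeff 0) (1 : R[X]) m
      refine this.symm.trans ?_
      congr 1
      exact mul_one (C ((show R[X] from s).coeff 0))
    change (X : R[X]) • asE M (dd M (s ⊗ₜ[R, ιR R] m)) +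
      asE M ((1 : R[X]) ⊗ₜ[R, ιR R] ((ε M).hom (s ⊗ₜ[R, ιR R] m) : M)) = s ⊗ₜ[R, ιR R] m
    rw [h1, h2]
    refine (TensorProduct.add_tmul (R := R) (M := S' R) (N := M) _ _ m).symm.trans ?_
    congr 1
    exact X_mul_divX_add _
  · intro x y hx hy
    let x' : (ModuleCat.extendScalars (ιR R)).obj M := x
    let y' : (ModuleCat.extendScalars (ιR R)).obj M := y
    have e2 : dd M (x + y) = dd M x + dd M y := map_add _ _ _
    have e1 : ((ε M).hom (x' + y') : M) = (ε M).hom x' + (ε M).hom y' := map_add _ _ _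
    have h3 : asE M ((1 : R[X]) ⊗ₜ[R, ιR R] (((ε M).hom x' : M) + ((ε M).hom y' : M))) =
        asE M ((1 : R[X]) ⊗ₜ[R, ιR R] ((ε M).hom x' : M)) +
          asE M ((1 : R[X]) ⊗ₜ[R, ιR R] ((ε M).hom y' : M)) := TensorProduct.tmul_add _ _ _
    have h4 : (X : R[X]) • asE M (dd M x' + dd M y') =
        (X : R[X]) • asE M (dd M x') + (X : R[X]) • asE M (dd M y') := smul_add _ _ _
    have key : (X : R[X]) • asE M (dd M x' + dd M y') +
        asE M ((1 : R[X]) ⊗ₜ[R, ιR R] (((ε M).hom x' : M) + ((ε M).hom y' : M))) = x' + y' := by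
      rw [h3, h4, add_add_add_comm]
      exact congrArg₂ (· + ·) hx hy
    change (X : R[X]) • asE M (dd M (x + y)) +
      asE M ((1 : R[X]) ⊗ₜ[R, ιR R] ((ε M).hom (x' + y') : M)) = x' + y'
    rw [e2, e1]
    exact key


section complexes

variable (P : CochainComplex (ModuleCat.{u} R) ℤ)

/-- `P[x] = R[X] ⊗_R P` -/
noncomputable abbrev PS : CochainComplex (ModuleCat.{u} R[X]) ℤ :=
  ((ModuleCat.extendScalars (ιR R)).mapHomologicalComplex (ComplexShape.up ℤ)).obj P

/-- `P` regarded as a complex of `R[X]`-modules via `X ↦ 0` -/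
noncomputable abbrev Pres : CochainComplex (ModuleCat.{u} R[X]) ℤ :=
  ((ModuleCat.restrictScalars (φR R)).mapHomologicalComplex (ComplexShape.up ℤ)).obj P

noncomputable def xP : PS P ⟶ PS P := (X : R[X]) • 𝟙 _

noncomputable def εP : PS P ⟶ Pres P where
  f n := ε (P.X n)
  comm' i j _ := (ε_naturality (P.d i j)).symm

lemma xP_f (n : ℤ) : (xP P).f n = (X : R[X]) • 𝟙 _ := by
  simp [xP]

lemma xP_f_apply (n : ℤ) (t : (ModuleCat.extendScalars (ιR R)).obj (P.X n)) :
    ((xP P).f n).hom t = (X : R[X]) • t := by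
  rw [xP_f]
  rfl

noncomputable def sc : ShortComplex (CochainComplex (ModuleCat.{u} R[X]) ℤ) :=
  ShortComplex.mk (xP P) (εP P) (by
    ext n : 1
    refine ModuleCat.hom_ext (LinearMap.ext fun t => ?_)
    change ((εP P).f n).hom (((xP P).f n).hom t) = 0
    rw [xP_f_apply]
    exact ε_X_smul _ t)

lemma sc_shortExact : (sc P).ShortExact := by
  refine HomologicalComplex.shortExact_of_degreewise_shortExact _ (fun n => ?_)
  have hmono : Mono ((xP P).f n) := by
    rw [ModuleCat.mono_iff_injective]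
    intro a b hab
    have := congrArg (dd (P.X n)) hab
    rw [xP_f_apply, xP_f_apply, dd_X_smul, dd_X_smul] at this
    exact this
  have hepi : Epi ((εP P).f n) := by
    rw [ModuleCat.epi_iff_surjective]
    intro m
    exact ⟨(1 : R[X]) ⊗ₜ[R, ιR R] (m : P.X n), ε_one_tmul (P.X n) m⟩
  refine ShortComplex.ShortExact.mk' ?_ hmono hepi
  rw [ShortComplex.moduleCat_exact_iff]
  intro (t : (ModuleCat.extendScalars (ιR R)).obj (P.X n)) ht
  refine ⟨asE _ (dd (P.X n) t), ?_⟩
  have h1 := decomp (P.X n) t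
  have ht' : (ε (P.X n)).hom t = 0 := ht
  have h0 : asE (P.X n) ((1 : R[X]) ⊗ₜ[R, ιR R] (0 : P.X n)) = 0 := TensorProduct.tmul_zero _ _
  have h2 : asE (P.X n) ((1 : R[X]) ⊗ₜ[R, ιR R] ((ε (P.X n)).hom t : P.X n)) = 0 := by
    rw [ht']; exact h0
  rw [h2, add_zero] at h1
  refine Eq.trans ?_ h1
  exact xP_f_apply P n _

end complexes


section derived

open DerivedCategory

lemma isKProjective_mappingCone {C : Type*} [Category C] [Abelian C] {K L : CochainComplex C ℤ}
    [K.IsKProjective] [L.IsKProjective] (f : K ⟶ L) :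
    (CochainComplex.mappingCone f).IsKProjective := by
  rw [CochainComplex.isKProjective_iff_leftOrthogonal]
  have hK := CochainComplex.IsKProjective.leftOrthogonal K
  have hL := CochainComplex.IsKProjective.leftOrthogonal L
  exact (HomotopyCategory.subcategoryAcyclic C).leftOrthogonal.ext_of_isTriangulatedClosed₃ _
    (HomotopyCategory.mappingCone_triangleh_distinguished f) hK hL

lemma cone_zero_iso {A : Type u} [CommRing A] (Y : CochainComplex (ModuleCat.{u} A) ℤ)
    (f : Y ⟶ Y) (hf : f = 0) :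
    Nonempty (Q.obj (CochainComplex.mappingCone f) ≅
      Q.obj Y ⊞ (shiftFunctor (DerivedCategory (ModuleCat.{u} A)) (1 : ℤ)).obj (Q.obj Y)) := by
  subst hf
  have hT := DerivedCategory.mappingCone_triangle_distinguished (0 : Y ⟶ Y)
  have hT' := Pretriangulated.rot_of_distTriang _ hT
  obtain ⟨e, -, -⟩ := Pretriangulated.exists_iso_binaryBiproduct_of_distTriang _ hT' (by
    change -(shiftFunctor _ (1 : ℤ)).map (Q.map (0 : Y ⟶ Y)) = 0
    rw [Functor.map_zero, Functor.map_zero, neg_zero])
  exact ⟨e⟩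

end derived


section main

open DerivedCategory Groth.Agent.Lib

/-- `ext_ι ⋙ ext_φ ≅ 𝟭`. -/
noncomputable def θ : ModuleCat.extendScalars.{u, u, u} (ιR R) ⋙ ModuleCat.extendScalars.{u, u, u} (φR R) ≅
    𝟭 (ModuleCat.{u} R) :=
  (ModuleCat.extendScalarsComp (ιR R) (φR R)).symm ≪≫
    eqToIso (by rw [φ_comp_ι]) ≪≫ ModuleCat.extendScalarsId R

lemma extφ_map_smul {A B : Type u} [CommRing A] [CommRing B] (f : A →+* B)
    {X Y : ModuleCat.{u} A} (r : A) (g : X ⟶ Y) :
    (ModuleCat.extendScalars f).map (r • g) = f r • (ModuleCat.extendScalars f).map g := by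
  refine ModuleCat.hom_ext (LinearMap.ext fun x => ?_)
  refine TensorProduct.induction_on (motive := fun x : (ModuleCat.extendScalars f).obj X =>
    ((ModuleCat.extendScalars f).map (r • g)).hom x = (f r • (ModuleCat.extendScalars f).map g).hom x) x ?_ ?_ ?_
  · change ((ModuleCat.extendScalars f).map (r • g)).hom (0 : (ModuleCat.extendScalars f).obj X) =
      (f r • (ModuleCat.extendScalars f).map g).hom (0 : (ModuleCat.extendScalars f).obj X)
    rw [map_zero, map_zero]
  · intro s m
    change ((ModuleCat.extendScalars f).map (r • g)).hom (s ⊗ₜ[A, f] m) =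
      f r • ((ModuleCat.extendScalars f).map g).hom (s ⊗ₜ[A, f] m)
    rw [ModuleCat.ExtendScalars.map_tmul, ModuleCat.ExtendScalars.map_tmul]
    refine Eq.trans ?_ (ModuleCat.ExtendScalars.smul_tmul (f := f)
      (f r) s (g.hom m)).symm
    exact (TensorProduct.smul_tmul (R := A) (R' := A)
      (M := (ModuleCat.restrictScalars f).obj (ModuleCat.of B B))
      (N := Y) r s (g.hom m)).symm
  · intro x y hx hy
    let x' : (ModuleCat.extendScalars f).obj X := x
    let y' : (ModuleCat.extendScalars f).obj X := y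
    change ((ModuleCat.extendScalars f).map (r • g)).hom (x' + y') =
      (f r • (ModuleCat.extendScalars f).map g).hom (x' + y')
    rw [map_add, map_add]
    exact congrArg₂ (· + ·) hx hy

variable (P : CochainComplex (ModuleCat.{u} R) ℤ)

/-- `ext_φ (P[x]) ≅ P` -/
noncomputable def YIso :
    ((ModuleCat.extendScalars.{u, u, u} (φR R)).mapHomologicalComplex (ComplexShape.up ℤ)).obj (PS P) ≅ P :=
  HomologicalComplex.Hom.isoOfComponents (fun n => θ.app (P.X n)) (by
    intro i j _
    exact (θ.hom.naturality (P.d i j)).symm)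

lemma map_xP_eq_zero :
    ((ModuleCat.extendScalars.{u, u, u} (φR R)).mapHomologicalComplex (ComplexShape.up ℤ)).map (xP P) = 0 := by
  ext n : 1
  change (ModuleCat.extendScalars.{u, u, u} (φR R)).map ((xP P).f n) = 0
  rw [xP_f, extφ_map_smul]
  simp

theorem main_cx [DRing.HasLBaseChange (φR R)] [P.IsKProjective] :
    Nonempty ((DRing.LBaseChange (φR R)).obj ((DRing.restrictD (φR R)).obj (Q.obj P)) ≅
      Q.obj P ⊞ (shiftFunctor (Dual.D R) (1 : ℤ)).obj (Q.obj P)) := by
  have : CochainComplex.IsKProjective (PS P) := KProjBC21.isKProjective_bcCx (ιR R) P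
  have : CochainComplex.IsKProjective (CochainComplex.mappingCone (xP P)) :=
    isKProjective_mappingCone _
  have : CochainComplex.IsKProjective
      (((ModuleCat.extendScalars.{u, u, u} (φR R)).mapHomologicalComplex (ComplexShape.up ℤ)).obj
        (CochainComplex.mappingCone (xP P))) := KProjBC21.isKProjective_bcCx (φR R) _
  have : QuasiIso (CochainComplex.mappingCone.descShortComplex (sc P)) :=
    CochainComplex.mappingCone.quasiIso_descShortComplex (sc_shortExact P)
  have : IsIso (Q.map (CochainComplex.mappingCone.descShortComplex (sc P))) := by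
    rw [DerivedCategory.isIso_Q_map_iff_quasiIso]; infer_instance
  let e1' := asIso (Q.map (CochainComplex.mappingCone.descShortComplex (sc P)))
  let e1 : Q.obj (CochainComplex.mappingCone (xP P)) ≅ Q.obj (Pres P) := e1'
  let e2 : (DRing.restrictD (φR R)).obj (Q.obj P) ≅ Q.obj (Pres P) :=
    ((ModuleCat.restrictScalars.{u} (φR R)).mapDerivedCategoryFactors).app P
  let e3 := LBaseChangeKProj.lbcIso (φR R) (CochainComplex.mappingCone (xP P))
    (LBaseChangeKProj.hasKProjRep_Q _)
  let e4 := Q.mapIso (CochainComplex.mappingCone.mapHomologicalComplexIso (xP P)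
    (ModuleCat.extendScalars.{u, u, u} (φR R)))
  obtain ⟨e5⟩ := cone_zero_iso _ _ (map_xP_eq_zero P)
  let eY := Q.mapIso (YIso P)
  exact ⟨(DRing.LBaseChange (φR R)).mapIso (e2 ≪≫ e1.symm) ≪≫ e3 ≪≫ e4 ≪≫ e5 ≪≫
    biprod.mapIso eY ((shiftFunctor (Dual.D R) (1 : ℤ)).mapIso eY)⟩

end main


/-- Let R be a commutative ring, K an object of D(R) and φ : R[x] → R the R-algebra homomorphism sending
x to 0; assume the derived base change D(R[x]) → D(R) along φ exists. Then the derived base change
along φ of K (regarded as an object of D(R[x]) via φ) is isomorphic in D(R) to K ⊕ K[1]. -/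
theorem result (R : Type u) [CommRing R]
    [DRing.HasLBaseChange (Polynomial.evalRingHom (0 : R))] (K : Dual.D R)
    [HasBinaryBiproduct K ((shiftFunctor (Dual.D R) (1 : ℤ)).obj K)] :
    Nonempty ((DRing.LBaseChange (Polynomial.evalRingHom (0 : R))).obj
        ((DRing.restrictD (Polynomial.evalRingHom (0 : R))).obj K) ≅
      K ⊞ (shiftFunctor (Dual.D R) (1 : ℤ)).obj K) := by
  obtain ⟨P, r, hP, -, -, hr, -⟩ :=
    Groth.Agent.Lib.SemiFreeKProj35.exists_kprojective_resolution (DerivedCategory.Q.objPreimage K)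
  have : IsIso (DerivedCategory.Q.map r) := by
    rw [DerivedCategory.isIso_Q_map_iff_quasiIso]; exact hr
  let e0 : DerivedCategory.Q.obj P ≅ K :=
    asIso (DerivedCategory.Q.map r) ≪≫ DerivedCategory.Q.objObjPreimageIso K
  obtain ⟨e⟩ := main_cx P
  exact ⟨(DRing.LBaseChange (Polynomial.evalRingHom (0 : R))).mapIso
      ((DRing.restrictD (Polynomial.evalRingHom (0 : R))).mapIso e0.symm) ≪≫ e ≪≫
    biprod.mapIso e0 ((shiftFunctor (Dual.D R) (1 : ℤ)).mapIso e0)⟩

end Groth.Agent.S6982
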