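import Groth.Statements.S6988
import Groth.Agent.Lib.DSingleHom
import Mathlib.Algebra.Module.FinitePresentation
import Mathlib.Algebra.Homology.ShortComplex.ModuleCat

set_option autoImplicit false
universe u
open CategoryTheory CategoryTheory.Limits
attribute [local instance] HasDerivedCategory.standard
open DRing

namespace Groth.Agent.S6988

/-- The cokernel of a differential between finite free modules is finitely presented. -/
theorem finitePresentation_opcycles (R : Type u) [CommRing R] (E : DRing.Cx R)
    (hE : DRing.TermwiseFiniteFree E) (i : ℤ) :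
    Module.FinitePresentation R (E.opcycles i) := by
  have h1 := (hE i).1
  have h2 := (hE i).2
  have h3 := (hE (i - 1)).1
  have : Module.FinitePresentation R (E.X i) := Module.finitePresentation_of_projective _ _
  let S : ShortComplex (ModuleCat.{u} R) :=
    ShortComplex.mk (E.d (i - 1) i) (E.pOpcycles i) (by simp)
  have hS : S.Exact := S.exact_of_g_is_cokernel (E.opcyclesIsCokernel (i - 1) i (by simp))
  rw [ShortComplex.moduleCat_exact_iff_range_eq_ker] at hS
  refine Module.finitePresentation_of_surjective (E.pOpcycles i).hom
    ((ModuleCat.epi_iff_surjective _).1 inferInstance) ?_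
  change (LinearMap.ker S.g.hom).FG
  rw [← hS, LinearMap.range_eq_map]
  exact Submodule.FG.map _ Module.Finite.fg_top

/-- Let R be a commutative ring, K a pseudo-coherent object of D(R) and i an integer. Then some finitely
presented R-module M admits a morphism K → M[-i] in D(R) that is injective on H^i (here H^i(M[-i]) =
M). -/
theorem result (R : Type u) [CommRing R] (K : Dual.D R)
    (hK : DRing.IsPseudoCoherent' R K) (i : ℤ) :
    ∃ (M : Type u) (_ : AddCommGroup M) (_ : Module R M) (_ : Module.FinitePresentation R M)
      (f : K ⟶ (shiftFunctor (Dual.D R) (-i)).obj (Dual.inD R M)),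
      Mono ((DerivedCategory.homologyFunctor (ModuleCat.{u} R) i).map f) := by
  obtain ⟨E, b, hb, hE, ⟨e⟩⟩ := hK
  have hq : E.d (i - 1) i ≫ E.pOpcycles i = 0 := by simp
  have hfp := finitePresentation_opcycles R E hE i
  let θ : DerivedCategory.Q.obj ((HomologicalComplex.single (ModuleCat.{u} R)
      (ComplexShape.up ℤ) i).obj (E.opcycles i)) ≅
      (shiftFunctor (Dual.D R) (-i)).obj (Dual.inD R (E.opcycles i)) :=
    (Groth.Agent.Lib.DSplit.singleShiftIso (C := ModuleCat.{u} R) i).app (E.opcycles i)
  refine ⟨E.opcycles i, inferInstance, inferInstance, hfp,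
    e.inv ≫ DerivedCategory.Q.map (Groth.Agent.Lib.DSplit.toSingle E i (E.pOpcycles i) hq) ≫
      θ.hom, ?_⟩
  have := Groth.Agent.Lib.DSplit.mono_homologyFunctor_map_Q_toSingle E i
  rw [Functor.map_comp, Functor.map_comp]
  exact mono_comp' inferInstance (mono_comp' this inferInstance)

end Groth.Agent.S6988
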