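import Groth.Statements.S6989
import Mathlib
import Groth.Agent.Lib.DSingleHom
import Groth.Agent.Lib.DRingPCoh21D

set_option autoImplicit false
universe u
open CategoryTheory CategoryTheory.Limits
attribute [local instance] HasDerivedCategory.standard
open DRing

namespace Groth.Agent.S6989
set_option backward.isDefEq.respectTransparency.types false
attribute [local instance] HasDerivedCategory.standard

open Groth.Agent.Lib.DSplit HomologicalComplex

/-- if `N ≤ m • N` inside `M` then `m • ⊤ = ⊤` in any module linearly equivalent to `N` -/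
lemma smul_top_eq_top_of_le {A : Type u} [CommRing A] {M H : Type u} [AddCommGroup M] [Module A M]
    [AddCommGroup H] [Module A H] (m : Ideal A) (N : Submodule A M) (g : H ≃ₗ[A] N)
    (h : N ≤ m • N) : m • (⊤ : Submodule A H) = ⊤ := by
  have h1 : m • (⊤ : Submodule A N) = ⊤ := by
    apply Submodule.map_injective_of_injective N.injective_subtype
    rw [Submodule.map_smul'', Submodule.map_subtype_top]
    exact le_antisymm Submodule.smul_le_right h
  have h2 : Submodule.map g.symm.toLinearMap (m • (⊤ : Submodule A N)) = m • ⊤ := by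
    rw [Submodule.map_smul'', Submodule.map_top, LinearEquiv.range]
  rw [← h2, h1, Submodule.map_top, LinearEquiv.range]


/-- Let A be a Noetherian commutative ring, K an object of D(A) whose cohomology vanishes in large
degrees and whose cohomology modules are all finitely generated, m a maximal ideal of A and i an
integer such that m H^i(K) ≠ H^i(K). Then some finitely generated A-module E killed by a power of m
receives a morphism K → E[-i] in D(A) whose induced map H^i(K) → H^i(E[-i]) is nonzero. -/
theorem result (A : Type u) [CommRing A]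
    [IsNoetherianRing A] (K : Dual.D A) (hb : ∃ b : ℤ, ∀ j : ℤ, b < j → Subsingleton (Dual.HD A K j))
    (hfin : ∀ j : ℤ, Module.Finite A (Dual.HD A K j)) (m : Ideal A) [m.IsMaximal] (i : ℤ)
    (hi : m • (⊤ : Submodule A (Dual.HD A K i)) ≠ ⊤) :
    ∃ (E : Type u) (_ : AddCommGroup E) (_ : Module A E) (_ : Module.Finite A E) (n : ℕ)
      (_ : m ^ n • (⊤ : Submodule A E) = ⊥) (f : K ⟶ (shiftFunctor (Dual.D A) (-i)).obj (Dual.inD A E)),
      (DerivedCategory.homologyFunctor (ModuleCat.{u} A) i).map f ≠ 0 := by
  classical
  have hR : ∀ I : Ideal A, I.FG → Module.FinitePresentation A I := fun I _ =>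
    Module.finitePresentation_of_finite A I
  have hpc : DRing.IsPseudoCoherent' A K :=
    (Groth.Agent.Lib.DRingPCoh21.isPseudoCoherent'_iff_of_coherent A hR K hb).2
      (fun j => Module.finitePresentation_of_finite A _)
  obtain ⟨F, b, hFb, hFff, ⟨e⟩⟩ := hpc
  let M : ModuleCat.{u} A := F.opcycles i
  have hsurj : Function.Surjective (F.pOpcycles i).hom :=
    (ModuleCat.epi_iff_surjective _).1 inferInstance
  have : Module.Finite A (F.X i) := (hFff i).1
  have hMfin : Module.Finite A M := Module.Finite.of_surjective (F.pOpcycles i).hom hsurj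
  let N : Submodule A M := LinearMap.range (F.homologyι i).hom
  obtain ⟨k, hk⟩ := Ideal.exists_pow_inf_eq_pow_smul m N
  let T : Submodule A M := m ^ (k + 1) • (⊤ : Submodule A M)
  let E := M ⧸ T
  let q : F.X i ⟶ ModuleCat.of A E := F.pOpcycles i ≫ ModuleCat.ofHom T.mkQ
  have hq : F.d (i - 1) i ≫ q = 0 := by
    dsimp only [q]
    rw [← Category.assoc, d_pOpcycles, zero_comp]
  let φ := toSingle F i q hq
  let σ : DerivedCategory.Q.obj ((single (ModuleCat.{u} A) (ComplexShape.up ℤ) i).obj
      (ModuleCat.of A E)) ≅ (shiftFunctor (Dual.D A) (-i)).obj (Dual.inD A E) :=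
    ((DerivedCategory.singleFunctorIsoCompQ (ModuleCat.{u} A) i).app (ModuleCat.of A E)).symm ≪≫
      ((shiftSingleIso (C := ModuleCat.{u} A) (-i) i (by lia)).app (ModuleCat.of A E)).symm
  refine ⟨E, inferInstance, inferInstance, inferInstance, k + 1, ?_,
    e.inv ≫ DerivedCategory.Q.map φ ≫ σ.hom, ?_⟩
  · have h1 : (⊤ : Submodule A E) = Submodule.map T.mkQ ⊤ := by
      rw [Submodule.map_top, Submodule.range_mkQ]
    rw [h1, ← Submodule.map_smul'']
    exact Submodule.mkQ_map_self T
  · intro h0
    rw [Functor.map_comp, Functor.map_comp] at h0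
    have h1 : (DerivedCategory.homologyFunctor (ModuleCat.{u} A) i).map
        (DerivedCategory.Q.map φ) = 0 := by
      have e1 : IsIso ((DerivedCategory.homologyFunctor (ModuleCat.{u} A) i).map e.inv) :=
        inferInstance
      have e2 : IsIso ((DerivedCategory.homologyFunctor (ModuleCat.{u} A) i).map σ.hom) :=
        inferInstance
      rw [← cancel_epi ((DerivedCategory.homologyFunctor (ModuleCat.{u} A) i).map e.inv),
        ← cancel_mono ((DerivedCategory.homologyFunctor (ModuleCat.{u} A) i).map σ.hom),
        Category.assoc, h0, comp_zero, zero_comp]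
    have h2 : homologyMap φ i = 0 := by
      have := DerivedCategory.homologyFunctorFactors_hom_naturality φ i
      rw [h1, zero_comp] at this
      exact (cancel_epi ((DerivedCategory.homologyFunctorFactors (ModuleCat.{u} A) i).hom.app F)).1
        (this.symm.trans comp_zero.symm)
    have h3 := homologyMap_toSingle F i q hq
    rw [h2, zero_comp] at h3
    have h4 : F.descOpcycles q (i - 1) (by simp) hq = ModuleCat.ofHom T.mkQ := by
      rw [← cancel_epi (F.pOpcycles i), p_descOpcycles]
      rfl
    rw [h4] at h3
    have hNT : N ≤ T := by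
      rintro _ ⟨x, rfl⟩
      have := congr($(h3).hom x)
      rw [ModuleCat.hom_comp] at this
      exact (Submodule.Quotient.mk_eq_zero T).1 this.symm
    have hNm : N ≤ m • N := by
      have h5 := hk (k + 1) (by lia)
      have h6 : T ⊓ N = N := inf_eq_right.2 hNT
      have h7 : k + 1 - k = 1 := by lia
      rw [h7, pow_one] at h5
      calc N = T ⊓ N := h6.symm
        _ = m • (m ^ k • ⊤ ⊓ N) := h5
        _ ≤ m • N := Submodule.smul_mono le_rfl inf_le_right
    have hmono : Function.Injective (F.homologyι i).hom :=
      (ModuleCat.mono_iff_injective _).1 inferInstance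
    let g1 : F.homology i ≃ₗ[A] N := LinearEquiv.ofInjective (F.homologyι i).hom hmono
    let ψ : (DerivedCategory.homologyFunctor (ModuleCat.{u} A) i).obj K ≅ F.homology i :=
      (DerivedCategory.homologyFunctor (ModuleCat.{u} A) i).mapIso e.symm ≪≫
        (DerivedCategory.homologyFunctorFactors (ModuleCat.{u} A) i).app F
    exact hi (smul_top_eq_top_of_le m N (ψ.toLinearEquiv.trans g1) hNm)

end Groth.Agent.S6989
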