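import Groth.Statements.S6990
import Groth.Agent.Lib.H93ConeRep
import Mathlib.Algebra.Homology.DerivedCategory.TStructure

set_option autoImplicit false
universe u
open CategoryTheory CategoryTheory.Limits
attribute [local instance] HasDerivedCategory.standard
open DRing

namespace Groth.Agent.S6990

open Groth.Agent.Lib.H93ConeRep in
/-- Morphisms from a bounded complex of projectives in degrees `≥ a` to an object with no
cohomology in degrees `≥ a` vanish. -/
theorem hom_eq_zero (R : Type u) [CommRing R] (a b : ℤ) (P : DRing.Cx R)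
    (hv : DRing.VanishesOutside P a b) (hP : ∀ i : ℤ, Module.Projective R (P.X i))
    (K : Dual.D R) (hK : ∀ i : ℤ, a ≤ i → Subsingleton (Dual.HD R K i))
    (f : DRing.toD P ⟶ K) : f = 0 := by
  have hle : DerivedCategory.IsLE K (a - 1) := by
    rw [DerivedCategory.isLE_iff]
    intro i hi
    have := hK i (by omega)
    exact ModuleCat.isZero_of_subsingleton _
  obtain ⟨K', hK', ⟨e⟩⟩ := DerivedCategory.exists_iso_Q_obj_of_isLE K (a - 1)
  have hkp : P.IsKProjective :=
    isKProjective_of_bddAbove (P := fun M => Module.Projective R M) (fun M h => h) P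
      ⟨⟨b, fun i hi => hv i (Or.inr hi)⟩, hP⟩
  obtain ⟨φ, hφ⟩ := exists_map_eq (f ≫ e.hom)
  have hφ0 : φ = 0 := by
    ext i : 1
    by_cases hi : i < a
    · exact (hv i (Or.inl hi)).eq_of_src _ _
    · exact (CochainComplex.isZero_of_isStrictlyLE K' (a - 1) i (by omega)).eq_of_tgt _ _
  rw [hφ0, Functor.map_zero] at hφ
  have : f ≫ e.hom = 0 := hφ.symm
  rw [← cancel_mono e.hom, this, zero_comp]

open CategoryTheory.Pretriangulated in
/-- Let R be a commutative ring, a, b integers, L an object of D(R) isomorphic to a complex of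
projective R-modules vanishing outside [a, b], and K an object of D(R). (1) If H^i(K) = 0 for all i
≥ a, then every morphism L → K in D(R) is zero. (2) If H^i(K) = 0 for all i ≥ a + 1, then for every
distinguished triangle K → M → L → K[1] there is an isomorphism M ≅ K ⊕ L carrying K → M to the
first inclusion and whose composite with the second projection is M → L. -/
theorem result (R : Type u) [CommRing R] (a b : ℤ)
    (L : Dual.D R) (hL : ∃ P : DRing.Cx R, DRing.VanishesOutside P a b ∧ (∀ i : ℤ, Module.Projective R (P.X i)) ∧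
      Nonempty (DRing.toD P ≅ L)) (K : Dual.D R) :
    ((∀ i : ℤ, a ≤ i → Subsingleton (Dual.HD R K i)) → Subsingleton (L ⟶ K)) ∧
      ((∀ i : ℤ, a + 1 ≤ i → Subsingleton (Dual.HD R K i)) → ∀ (T : Triangle (Dual.D R)), T ∈ distinguishedTriangles →
        T.obj₁ = K → T.obj₃ = L → ∀ [HasBinaryBiproduct T.obj₁ T.obj₃],
          ∃ e : T.obj₂ ≅ T.obj₁ ⊞ T.obj₃, T.mor₁ ≫ e.hom = biprod.inl ∧ e.hom ≫ biprod.snd = T.mor₂) := by
  obtain ⟨P, hv, hP, ⟨eL⟩⟩ := hL
  have key : ∀ (K' : Dual.D R), (∀ i : ℤ, a ≤ i → Subsingleton (Dual.HD R K' i)) →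
      ∀ g : L ⟶ K', g = 0 := by
    intro K' hK' g
    have := hom_eq_zero R a b P hv hP K' hK' (eL.hom ≫ g)
    rw [← cancel_epi eL.hom, this, comp_zero]
  refine ⟨fun hK => ⟨fun f g => by rw [key K hK f, key K hK g]⟩, ?_⟩
  intro hK T hT h1 h3 inst
  subst h1 h3
  have hz : T.mor₃ = 0 := by
    apply key
    intro i hi
    have e : (DerivedCategory.homologyFunctor (ModuleCat.{u} R) i).obj (T.obj₁⟦(1 : ℤ)⟧) ≅
        (DerivedCategory.homologyFunctor (ModuleCat.{u} R) (i + 1)).obj T.obj₁ :=
      ((DerivedCategory.homologyFunctor (ModuleCat.{u} R) 0).shiftIso 1 i (i + 1) (by omega)).app _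
    have := hK (i + 1) (by omega)
    exact e.toLinearEquiv.toEquiv.subsingleton
  obtain ⟨e, h1, h2⟩ := Pretriangulated.exists_iso_binaryBiproduct_of_distTriang T hT hz
  exact ⟨e, h1, h2.symm⟩

end Groth.Agent.S6990
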