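import Groth.Statements.S6991
import Groth.Agent.Lib.RelFP

set_option autoImplicit false
universe u
open CAlg

namespace Groth.Agent.S6991

open Groth.Agent.Lib.RelFP

/-- One direction of independence of the polynomial presentation. -/
theorem fpVia_swap {R A : Type u} [CommRing R] [CommRing A] [Algebra R A]
    (M : Type u) [AddCommGroup M] [Module A M] {n k : ℕ}
    (α : MvPolynomial (Fin n) R →ₐ[R] A) (hα : Function.Surjective α)
    (β : MvPolynomial (Fin k) R →ₐ[R] A) (hβ : Function.Surjective β)
    (h : FPVia α.toRingHom M) : FPVia β.toRingHom M := by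
  have hX : ∀ i : Fin n, ∃ q : MvPolynomial (Fin k) R, β q = α (MvPolynomial.X i) := fun i => hβ _
  choose g₀ hg₀ using hX
  let g : MvPolynomial (Fin n) R →ₐ[R] MvPolynomial (Fin k) R := MvPolynomial.aeval g₀
  have hg : β.comp g = α := by
    apply MvPolynomial.algHom_ext
    intro i
    simp [g, hg₀]
  refine fpVia_mvPolynomial α.toRingHom hα β.toRingHom g.toRingHom ?_ MvPolynomial.C ?_ M h
  · rw [← hg]
    rfl
  · ext r
    simp [g]

/-- Let R → A be a finite type homomorphism of commutative rings, M an A-module, and α : R[x_1, ...,
x_n] → A, β : R[y_1, ..., y_k] → A surjective R-algebra homomorphisms. Then M is finitely presented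
as an R[x_1, ..., x_n]-module through α if and only if M is finitely presented as an R[y_1, ...,
y_k]-module through β. If this holds, M is a finitely presented A-module. -/
theorem result {R A : Type u} [CommRing R] [CommRing A] [Algebra R A]
    [Algebra.FiniteType R A] (M : Type u) [AddCommGroup M] [Module A M] {n k : ℕ}
    (α : MvPolynomial (Fin n) R →ₐ[R] A) (hα : Function.Surjective α)
    (β : MvPolynomial (Fin k) R →ₐ[R] A) (hβ : Function.Surjective β) :
    (@Module.FinitePresentation (MvPolynomial (Fin n) R) M _ _ (Module.compHom M α.toRingHom) ↔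
      @Module.FinitePresentation (MvPolynomial (Fin k) R) M _ _ (Module.compHom M β.toRingHom)) ∧
      (@Module.FinitePresentation (MvPolynomial (Fin n) R) M _ _ (Module.compHom M α.toRingHom) →
        Module.FinitePresentation A M) := by
  refine ⟨⟨fun h => fpVia_swap M α hα β hβ h, fun h => fpVia_swap M β hβ α hα h⟩, fun h => ?_⟩
  rw [← fpVia_id]
  refine fpVia_of_comp_surjective (RingHom.id A) α.toRingHom M hα ?_
  rw [RingHom.id_comp]
  exact h

end Groth.Agent.S6991
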