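import Groth.Statements.S6993
import Groth.Agent.Lib.RelFP

set_option autoImplicit false
universe u
open CAlg

namespace Groth.Agent.S6993

open Groth.Agent.Lib.RelFP

/-- Let R → A → B be finite type homomorphisms of commutative rings with A of finite presentation over
R, M a B-module, and α : A[x_1, ..., x_n] → B, β : R[y_1, ..., y_k] → B surjective algebra
homomorphisms over A and R respectively. If M is finitely presented as an A[x_1, ..., x_n]-module
through α (finitely presented relative to A), then M is finitely presented as an R[y_1, ...,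
y_k]-module through β (finitely presented relative to R). -/
theorem result {R A B : Type u} [CommRing R] [CommRing A]
    [CommRing B] [Algebra R A] [Algebra A B] [Algebra R B] [IsScalarTower R A B] [Algebra.FinitePresentation R A]
    [Algebra.FiniteType A B] (M : Type u) [AddCommGroup M] [Module B M] {n k : ℕ}
    (α : MvPolynomial (Fin n) A →ₐ[A] B) (hα : Function.Surjective α)
    (β : MvPolynomial (Fin k) R →ₐ[R] B) (hβ : Function.Surjective β)
    (hM : @Module.FinitePresentation (MvPolynomial (Fin n) A) M _ _ (Module.compHom M α.toRingHom)) :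
    @Module.FinitePresentation (MvPolynomial (Fin k) R) M _ _ (Module.compHom M β.toRingHom) := by
  obtain ⟨m, ρ₀, hρ₀, hker₀⟩ := (inferInstance : Algebra.FinitePresentation R A).out
  let ρ' : MvPolynomial (Fin n) (MvPolynomial (Fin m) R) →+* MvPolynomial (Fin n) A :=
    MvPolynomial.map ρ₀.toRingHom
  have hρ' : Function.Surjective ρ' := MvPolynomial.map_surjective ρ₀.toRingHom hρ₀
  have hker' : (RingHom.ker ρ').FG := by
    rw [MvPolynomial.ker_map]
    exact hker₀.map _
  have hM' : FPVia α.toRingHom M := hM
  have stepA : FPVia (α.toRingHom.comp ρ') M := fpVia_of_surjective α.toRingHom ρ' M hρ' hker' hM'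
  have hτ : Function.Surjective (α.toRingHom.comp ρ') := hα.comp hρ'
  -- lift the generators to `R[y]`
  have hz : ∀ l : Fin m, ∃ q : MvPolynomial (Fin k) R,
      β q = α (MvPolynomial.C (ρ₀ (MvPolynomial.X l))) := fun l => hβ _
  choose g₀ hg₀ using hz
  have hx : ∀ i : Fin n, ∃ q : MvPolynomial (Fin k) R, β q = α (MvPolynomial.X i) := fun i => hβ _
  choose h₀ hh₀ using hx
  let g : MvPolynomial (Fin n) (MvPolynomial (Fin m) R) →+* MvPolynomial (Fin k) R :=
    MvPolynomial.eval₂Hom (MvPolynomial.aeval g₀ : MvPolynomial (Fin m) R →ₐ[R] _).toRingHom h₀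
  have hg : β.toRingHom.comp g = α.toRingHom.comp ρ' := by
    apply MvPolynomial.ringHom_ext
    · intro p
      simp only [RingHom.comp_apply, g, ρ', MvPolynomial.coe_eval₂Hom, MvPolynomial.eval₂_C,
        MvPolynomial.map_C]
      induction p using MvPolynomial.induction_on with
      | C r =>
        simp only [AlgHom.toRingHom_eq_coe, RingHom.coe_coe, MvPolynomial.aeval_C,
          MvPolynomial.algebraMap_eq]
        rw [← MvPolynomial.algebraMap_eq, ← MvPolynomial.algebraMap_eq, AlgHom.commutes,
          AlgHom.commutes, ← MvPolynomial.algebraMap_eq, AlgHom.commutes,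
          ← IsScalarTower.algebraMap_apply]
      | add p q hp hq =>
        simp only [map_add] at hp hq ⊢
        rw [hp, hq]
      | mul_X p l hp =>
        simp only [map_mul] at hp ⊢
        rw [hp]
        congr 1
        simp only [AlgHom.toRingHom_eq_coe, RingHom.coe_coe, MvPolynomial.aeval_X]
        exact hg₀ l
    · intro i
      simp only [RingHom.comp_apply, g, ρ', MvPolynomial.coe_eval₂Hom, MvPolynomial.eval₂_X,
        MvPolynomial.map_X]
      exact hh₀ i
  have hι : g.comp ((MvPolynomial.C : MvPolynomial (Fin m) R →+* _).comp MvPolynomial.C) =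
      MvPolynomial.C := by
    ext r
    simp [g]
  exact fpVia_mvPolynomial (α.toRingHom.comp ρ') hτ β.toRingHom g hg _ hι M stepA

end Groth.Agent.S6993
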