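import Groth.Statements.S6995
import Groth.Agent.Lib.DGap

set_option autoImplicit false
universe u
open CategoryTheory CategoryTheory.Limits
attribute [local instance] HasDerivedCategory.standard
open DRing

namespace Groth.Agent.S6995

/-- Let R be a Noetherian regular commutative ring of finite Krull dimension d ≥ 1, K a perfect object
of D(R) and k an integer such that H^i(K) = 0 for every i with k - d + 2 ≤ i ≤ k. Then K splits in
D(R) as the direct sum of its canonical truncations: there is an isomorphism K ≅ τ_(≤ k-d+1) K ⊕
τ_(≥ k+1) K under which the truncation map τ_(≤ k-d+1) K → K becomes the first inclusion and K →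
τ_(≥ k+1) K the second projection. -/
theorem result (R : Type u) [CommRing R] [IsNoetherianRing R]
    (hreg : ∀ p : PrimeSpectrum R, IsRegularLocalRing (Localization.AtPrime p.asIdeal)) (d : ℕ) (hd1 : 1 ≤ d)
    (hd : ringKrullDim R = d) (K : Dual.D R) (hK : DRing.IsPerfect R K) (k : ℤ)
    (hgap : ∀ i : ℤ, k - d + 2 ≤ i → i ≤ k → Subsingleton (Dual.HD R K i))
    [HasBinaryBiproduct
      (((DerivedCategory.TStructure.t : Triangulated.TStructure (Dual.D R)).truncLT (k - d + 2)).obj K)
      (((DerivedCategory.TStructure.t : Triangulated.TStructure (Dual.D R)).truncGE (k + 1)).obj K)] :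
    ∃ e : K ≅
      ((DerivedCategory.TStructure.t : Triangulated.TStructure (Dual.D R)).truncLT (k - d + 2)).obj K ⊞
        ((DerivedCategory.TStructure.t : Triangulated.TStructure (Dual.D R)).truncGE (k + 1)).obj K,
      ((DerivedCategory.TStructure.t : Triangulated.TStructure (Dual.D R)).truncLTι (k - d + 2)).app K ≫ e.hom =
          biprod.inl ∧
        e.hom ≫ biprod.snd =
          ((DerivedCategory.TStructure.t : Triangulated.TStructure (Dual.D R)).truncGEπ (k + 1)).app K := by
  obtain ⟨E, a', b', hE, -, ⟨eE⟩⟩ := hK
  have hgl : ∀ M : ModuleCat.{u} R, HasProjectiveDimensionLT M (d + 1) :=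
    Groth.Agent.Lib.H87GlDim2.hasProjectiveDimensionLT_of_regular
      (fun m => hreg ⟨m.asIdeal, m.isMaximal.isPrime⟩) d hd.le
  have hEb : E.IsStrictlyLE b' := by
    rw [CochainComplex.isStrictlyLE_iff]
    intro i hi
    exact hE i (Or.inr hi)
  have hKb : DerivedCategory.IsLE K b' :=
    DerivedCategory.TStructure.t.isLE_of_iso eE b'
  have hKb' : (DerivedCategory.TStructure.t : Triangulated.TStructure (Dual.D R)).IsLE K b' := hKb
  refine Groth.Agent.Lib.DGap.split_of_gap K (k - d + 2) (k + 1) ?_ (by omega) ?_
  · intro i hi hi'
    have := hgap i hi (by omega)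
    exact ModuleCat.isZero_of_subsingleton _
  · intro f
    have h1 : DerivedCategory.IsLE
        (((DerivedCategory.TStructure.t : Triangulated.TStructure (Dual.D R)).truncGE (k + 1)).obj K) b' := by
      change (DerivedCategory.TStructure.t : Triangulated.TStructure (Dual.D R)).IsLE _ b'
      infer_instance
    have h2 : DerivedCategory.IsGE
        (((DerivedCategory.TStructure.t : Triangulated.TStructure (Dual.D R)).truncGE (k + 1)).obj K) (k + 1) := by
      change (DerivedCategory.TStructure.t : Triangulated.TStructure (Dual.D R)).IsGE _ (k + 1)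
      infer_instance
    have h3 : DerivedCategory.IsLE
        ((((DerivedCategory.TStructure.t : Triangulated.TStructure (Dual.D R)).truncLT (k - d + 2)).obj K)⟦(1 : ℤ)⟧)
        (k - d) := by
      change (DerivedCategory.TStructure.t : Triangulated.TStructure (Dual.D R)).IsLE _ (k - d)
      have : (DerivedCategory.TStructure.t : Triangulated.TStructure (Dual.D R)).IsLE
          (((DerivedCategory.TStructure.t : Triangulated.TStructure (Dual.D R)).truncLT (k - d + 2)).obj K)
          (k - d + 2 - 1) := inferInstance
      exact (DerivedCategory.TStructure.t : Triangulated.TStructure (Dual.D R)).isLE_shift _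
        (k - d + 2 - 1) 1 (k - d) (by omega)
    exact Groth.Agent.Lib.DGlDim.hom_eq_zero_of_gldim d hgl _ _ b' k f

end Groth.Agent.S6995
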