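import Groth.Statements.S7002
import Mathlib
import Groth.Agent.Lib.H47LocSplit

set_option autoImplicit false
universe u
open CategoryTheory CategoryTheory.Limits
attribute [local instance] HasDerivedCategory.standard
open DRing

namespace Groth.Agent.S7002
set_option backward.isDefEq.respectTransparency.types false
attribute [local instance] HasDerivedCategory.standard
open DRing TensorProduct
open Groth.Agent.Lib.FlatBaseChangeD
open Groth.Agent.Lib.H47LocSplit


/-- Let R be a commutative ring, p a prime ideal of R with residue field κ(p), such that the derived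
base change D(R) → D(κ(p)) exists; let i be an integer and K a cochain complex of R-modules which is
pseudo-coherent in D(R) and satisfies H^i(K ⊗^L_R κ(p)) = 0. Then there is an element f ∈ R with f ∉
p such that, for the termwise localization K_f of K over R_f, the truncation τ_(≥ i+1) K_f is
perfect in D(R_f), its tor amplitude lying in [i+1, b] for some integer b, and K_f ≅ τ_(≥ i+1) K_f ⊕
τ_(≤ i-1) K_f in D(R_f) by an isomorphism carrying K_f → τ_(≥ i+1) K_f to the first projection and
τ_(≤ i-1) K_f → K_f to the second inclusion. -/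
theorem result (R : Type u) [CommRing R]
    (p : Ideal R) [p.IsPrime] [DRing.HasLBaseChange (algebraMap R p.ResidueField)] (i : ℤ) (K : DRing.Cx R)
    (hK : DRing.IsPseudoCoherent' R (DRing.toD K))
    (hi : Subsingleton (Dual.HD p.ResidueField ((DRing.LBaseChange (algebraMap R p.ResidueField)).obj (DRing.toD K)) i)) :
    ∃ f : R, f ∉ p ∧
      let Kf := DRing.toD (((ModuleCat.extendScalars (algebraMap R (Localization.Away f))).mapHomologicalComplex
        (ComplexShape.up ℤ)).obj K)
      let t := (DerivedCategory.TStructure.t : Triangulated.TStructure (Dual.D (Localization.Away f)))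
      let Kge := (t.truncGE (i + 1)).obj Kf
      let Klt := (t.truncLT i).obj Kf
      DRing.IsPerfect (Localization.Away f) Kge ∧
        (∃ b : ℤ, DRing.HasTorAmplitudeIn (Localization.Away f) (i + 1) b Kge) ∧
        ∀ [HasBinaryBiproduct Kge Klt], ∃ e : Kf ≅ Kge ⊞ Klt,
          e.hom ≫ biprod.fst = (t.truncGEπ (i + 1)).app Kf ∧ (t.truncLTι i).app Kf ≫ e.hom = biprod.inr := by
  obtain ⟨E, b, hEb, hEf, ⟨eE⟩⟩ := hK
  have : E.IsStrictlyLE b := by
    rw [CochainComplex.isStrictlyLE_iff]
    exact hEb
  have hprojE : ∀ n, Projective (E.X n) := fun n => by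
    have := (hEf n).1
    have := (hEf n).2
    exact ModuleCat.projective_of_categoryTheory_projective (E.X n)
  have hex := exact_baseChange_of_subsingleton (κ := p.ResidueField) i (DRing.toD K) E b eE hi
  have := (hEf i).1
  have := (hEf i).2
  have := (hEf (i + 1)).1
  have := (hEf (i + 1)).2
  obtain ⟨f, M, L, hfp, hML⟩ := global_homotopy p (E.d (i - 1) i).hom (E.d i (i + 1)).hom (by
    ext x
    exact congrArg (fun g => g.hom x) (E.d_comp_d (i - 1) i (i + 1))) hex
  refine ⟨f, hfp, ?_⟩
  intro Kf t Kge Klt
  let B := Localization.Away f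
  let P : DRing.Cx B := bcCx B E
  have hunit : IsUnit (algebraMap R B f) := IsLocalization.Away.algebraMap_isUnit f
  obtain ⟨s, hs⟩ := exists_factor (B := B) E i f hunit (ModuleCat.ofHom M) (ModuleCat.ofHom L) (by
    ext x
    exact LinearMap.congr_fun hML x)
  have hexP : P.ExactAt i := Groth.Agent.Lib.DSplit.exactAt_of_factor P i s hs
  have hfinP : ∀ n, Module.Finite B (P.X n) := fun n =>
    have := (hEf n).1
    finite_obj (E.X n)
  have hprojP : ∀ n, Module.Projective B (P.X n) := fun n =>
    have := (hEf n).2
    projective_obj (E.X n)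
  have hprojP' : ∀ n, Projective (P.X n) := fun n => by
    have := hprojP n
    exact ModuleCat.projective_of_categoryTheory_projective (P.X n)
  have hop : Projective (P.opcycles (i + 1)) :=
    Groth.Agent.Lib.DSplit.projective_opcycles P i (P.pOpcycles i) (P.fromOpcycles i (i + 1))
      (P.p_fromOpcycles i (i + 1)) s hs
  have hPb : P.IsStrictlyLE b := by
    rw [CochainComplex.isStrictlyLE_iff]
    exact vanishesAbove_bcCx hEb
  let e₀ : DerivedCategory.Q.obj P ≅ Kf :=
    (toDIso (B := B) E).symm ≪≫ (FD R B).mapIso eE ≪≫ toDIso (B := B) K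
  obtain ⟨-, ⟨β⟩⟩ := Groth.Agent.Lib.DSplit.split_of_projective_opcycles Kf P e₀ i b
  obtain ⟨e', he1, he2⟩ :=
    Groth.Agent.Lib.DSplit.split_of_projective_opcycles_of_exactAt Kf P e₀ i b hexP
  have hopm : Module.Projective B (P.opcycles (i + 1)) :=
    ModuleCat.projective_of_module_projective (P.opcycles (i + 1))
  obtain ⟨hv, hterm⟩ := truncGE_terms P (i + 1) b hfinP hprojP hopm
  refine ⟨⟨P.truncGE (i + 1), i + 1, b, hv, hterm, ⟨β⟩⟩,
    ⟨b, P.truncGE (i + 1), hv, fun n => ?_, ⟨β⟩⟩, ?_⟩
  · have := (hterm n).2
    infer_instance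
  · intro _
    refine ⟨e' ≪≫ biprod.braiding _ _, ?_, ?_⟩
    · exact (Category.assoc _ _ _).trans
        ((congrArg (fun x => e'.hom ≫ x) (braiding_fst _ _)).trans he2)
    · exact (Category.assoc _ _ _).symm.trans
        ((congrArg (fun x => x ≫ (biprod.braiding _ _).hom) he1).trans (inl_braiding _ _))

end Groth.Agent.S7002
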