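import Groth.Statements.S7003
import Groth.Agent.Lib.DSplitMod

set_option autoImplicit false
universe u
open CategoryTheory CategoryTheory.Limits
attribute [local instance] HasDerivedCategory.standard
open DRing

namespace Groth.Agent.S7003

/-- Let R be a commutative ring, a an integer and K an object of D(R) whose cohomology vanishes in large
degrees. Assume that for every injective R-linear map M → M' the induced map Hom(K, M[-a]) → Hom(K,
M'[-a]) in D(R) is injective. Then K ≅ τ_(≤ a) K ⊕ τ_(≥ a+1) K by an isomorphism carrying τ_(≤ a) K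
→ K to the first inclusion and K → τ_(≥ a+1) K to the second projection, and τ_(≥ a+1) K is
isomorphic in D(R) to a complex of projective modules vanishing outside [a+1, b] for some integer b.
(The published statement also asserts that the decomposition is unique; that part is not restated.) -/
theorem result (R : Type u) [CommRing R] (a : ℤ) (K : Dual.D R)
    (hKb : ∃ b : ℤ, ∀ i : ℤ, b < i → Subsingleton (Dual.HD R K i))
    (h : ∀ (M M' : Type u) [AddCommGroup M] [Module R M] [AddCommGroup M'] [Module R M'] (g : M →ₗ[R] M'),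
      Function.Injective g → Function.Injective (fun x : K ⟶ (shiftFunctor (Dual.D R) (-a)).obj (Dual.inD R M) =>
        x ≫ (shiftFunctor (Dual.D R) (-a)).map
          ((DerivedCategory.singleFunctor (ModuleCat.{u} R) 0).map (ModuleCat.ofHom g))))
    [HasBinaryBiproduct (((DerivedCategory.TStructure.t : Triangulated.TStructure (Dual.D R)).truncLT (a + 1)).obj K) (((DerivedCategory.TStructure.t : Triangulated.TStructure (Dual.D R)).truncGE (a + 1)).obj K)] :
    (∃ e : K ≅ ((DerivedCategory.TStructure.t : Triangulated.TStructure (Dual.D R)).truncLT (a + 1)).obj K ⊞ ((DerivedCategory.TStructure.t : Triangulated.TStructure (Dual.D R)).truncGE (a + 1)).obj K,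
      ((DerivedCategory.TStructure.t : Triangulated.TStructure (Dual.D R)).truncLTι (a + 1)).app K ≫ e.hom = biprod.inl ∧
        e.hom ≫ biprod.snd = ((DerivedCategory.TStructure.t : Triangulated.TStructure (Dual.D R)).truncGEπ (a + 1)).app K) ∧
      ∃ (P : DRing.Cx R) (b : ℤ), DRing.VanishesOutside P (a + 1) b ∧ (∀ i : ℤ, Module.Projective R (P.X i)) ∧
        Nonempty (DRing.toD P ≅ ((DerivedCategory.TStructure.t : Triangulated.TStructure (Dual.D R)).truncGE (a + 1)).obj K) := by
  obtain ⟨b₀, hb₀⟩ := hKb
  have hle := Groth.Agent.Lib.ProjResolution.isLE_of_subsingleton R K b₀ hb₀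
  obtain ⟨P, hPb, hP, ⟨e₀⟩⟩ := Groth.Agent.Lib.ProjResolution.exists_iso_Q_projective K b₀
  have hkp : P.IsKProjective := CochainComplex.isKProjective_of_projective P b₀
  -- the image of `d^a`
  let d := P.d a (a + 1)
  let q : P.X a ⟶ Limits.image d := factorThruImage d
  let ι : Limits.image d ⟶ P.X (a + 1) := Limits.image.ι d
  have hqι : q ≫ ι = d := Limits.image.fac d
  have hq : P.d (a - 1) a ≫ q = 0 := by
    rw [← cancel_mono ι, Category.assoc, hqι, zero_comp]
    exact P.d_comp_d _ _ _
  let θ := Groth.Agent.Lib.DSplit.singleShiftIso (C := ModuleCat.{u} R) a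
  have hinj := h (↑(Limits.image d : ModuleCat.{u} R)) (↑(P.X (a + 1))) ι.hom
    ((ModuleCat.mono_iff_injective ι).1 inferInstance)
  have hzero : DerivedCategory.Q.map (Groth.Agent.Lib.DSplit.toSingle P a q hq) = 0 := by
    have h0 : e₀.inv ≫ DerivedCategory.Q.map (Groth.Agent.Lib.DSplit.toSingle P a q hq) ≫
        θ.hom.app (Limits.image d) = 0 := by
      apply hinj
      dsimp only
      rw [zero_comp, ModuleCat.ofHom_hom]
      have key := Groth.Agent.Lib.DSplit.Q_map_toSingle_comp_shift_eq_zero P a q hq ι hqι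
      exact ((Category.assoc _ _ _).trans (congrArg (e₀.inv ≫ ·)
        ((Category.assoc _ _ _).trans key))).trans comp_zero
    have h1 : DerivedCategory.Q.map (Groth.Agent.Lib.DSplit.toSingle P a q hq) =
        e₀.hom ≫ (e₀.inv ≫ DerivedCategory.Q.map (Groth.Agent.Lib.DSplit.toSingle P a q hq) ≫
          θ.hom.app (Limits.image d)) ≫ θ.inv.app (Limits.image d) := by
      simp
    rw [h1, h0, zero_comp, comp_zero]
    rfl
  obtain ⟨s, hs⟩ := Groth.Agent.Lib.DSplit.exists_factor_of_Q_map_eq_zero P a _ hq hzero
  have : Projective (P.opcycles (a + 1)) :=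
    Groth.Agent.Lib.DSplit.projective_opcycles P a q ι hqι s hs
  obtain ⟨hsplit, ⟨β⟩⟩ := Groth.Agent.Lib.DSplit.split_of_projective_opcycles K P e₀ a b₀
  refine ⟨hsplit, ?_⟩
  have hstr := Groth.Agent.Lib.DSplit.isStrictlyLE_truncGE P (a + 1) b₀
  have hproj := Groth.Agent.Lib.DSplit.projective_truncGE_X P (a + 1)
  refine ⟨P.truncGE (a + 1), b₀, ?_, ?_, ⟨β⟩⟩
  · rintro i (hi | hi)
    · exact (P.truncGE (a + 1)).isZero_of_isStrictlyGE (a + 1) i hi
    · exact (P.truncGE (a + 1)).isZero_of_isStrictlyLE b₀ i hi
  · intro i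
    have := hproj i
    exact ModuleCat.projective_of_module_projective ((P.truncGE (a + 1)).X i)

end Groth.Agent.S7003
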