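import Groth.Statements.S7004
import Groth.Agent.Lib.DSplit
import Groth.Agent.Lib.ProjResolution

set_option autoImplicit false
universe u
open CategoryTheory CategoryTheory.Limits
attribute [local instance] HasDerivedCategory.standard
open DRing

namespace Groth.Agent.S7004

/-- Let R be a commutative ring, a an integer and K an object of D(R) whose cohomology vanishes in large
degrees, such that Hom(K, M[-a]) = 0 in D(R) for every R-module M. Then K ≅ τ_(≤ a-1) K ⊕ τ_(≥ a+1)
K by an isomorphism carrying τ_(≤ a-1) K → K to the first inclusion and K → τ_(≥ a+1) K to the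
second projection, and τ_(≥ a+1) K is isomorphic in D(R) to a complex of projective modules
vanishing outside [a+1, b] for some integer b. (The published statement also asserts that the
decomposition is unique; that part is not restated.) -/
theorem result (R : Type u) [CommRing R] (a : ℤ) (K : Dual.D R)
    (hKb : ∃ b : ℤ, ∀ i : ℤ, b < i → Subsingleton (Dual.HD R K i))
    (h : ∀ (M : Type u) [AddCommGroup M] [Module R M],
      Subsingleton (K ⟶ (shiftFunctor (Dual.D R) (-a)).obj (Dual.inD R M)))
    [HasBinaryBiproduct (((DerivedCategory.TStructure.t : Triangulated.TStructure (Dual.D R)).truncLT a).obj K) (((DerivedCategory.TStructure.t : Triangulated.TStructure (Dual.D R)).truncGE (a + 1)).obj K)] :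
    (∃ e : K ≅ ((DerivedCategory.TStructure.t : Triangulated.TStructure (Dual.D R)).truncLT a).obj K ⊞ ((DerivedCategory.TStructure.t : Triangulated.TStructure (Dual.D R)).truncGE (a + 1)).obj K,
      ((DerivedCategory.TStructure.t : Triangulated.TStructure (Dual.D R)).truncLTι a).app K ≫ e.hom = biprod.inl ∧
        e.hom ≫ biprod.snd = ((DerivedCategory.TStructure.t : Triangulated.TStructure (Dual.D R)).truncGEπ (a + 1)).app K) ∧
      ∃ (P : DRing.Cx R) (b : ℤ), DRing.VanishesOutside P (a + 1) b ∧ (∀ i : ℤ, Module.Projective R (P.X i)) ∧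
        Nonempty (DRing.toD P ≅ ((DerivedCategory.TStructure.t : Triangulated.TStructure (Dual.D R)).truncGE (a + 1)).obj K) := by
  obtain ⟨b₀, hb₀⟩ := hKb
  have hle := Groth.Agent.Lib.ProjResolution.isLE_of_subsingleton R K b₀ hb₀
  obtain ⟨P, hPb, hP, ⟨e₀⟩⟩ := Groth.Agent.Lib.ProjResolution.exists_iso_Q_projective K b₀
  have hkp : P.IsKProjective := CochainComplex.isKProjective_of_projective P b₀
  -- the map to `coker d^{a-1}` placed in degree `a`
  have hq : P.d (a - 1) a ≫ P.pOpcycles a = 0 := by simp
  let θ : DerivedCategory.Q.obj ((HomologicalComplex.single (ModuleCat.{u} R)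
      (ComplexShape.up ℤ) a).obj (P.opcycles a)) ≅
      (shiftFunctor (Dual.D R) (-a)).obj (Dual.inD R (P.opcycles a)) :=
    ((DerivedCategory.singleFunctors (ModuleCat.{u} R)).shiftIso (-a) a 0 (by simp)).symm.app
      (P.opcycles a)
  have hzero : DerivedCategory.Q.map
      (Groth.Agent.Lib.DSplit.toSingle P a (P.pOpcycles a) hq) = 0 := by
    have h0 := (h (P.opcycles a)).elim
      (e₀.inv ≫ DerivedCategory.Q.map
        (Groth.Agent.Lib.DSplit.toSingle P a (P.pOpcycles a) hq) ≫ θ.hom) 0
    have h1 : DerivedCategory.Q.map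
        (Groth.Agent.Lib.DSplit.toSingle P a (P.pOpcycles a) hq) =
        e₀.hom ≫ (e₀.inv ≫ DerivedCategory.Q.map
          (Groth.Agent.Lib.DSplit.toSingle P a (P.pOpcycles a) hq) ≫ θ.hom) ≫ θ.inv := by
      simp
    rw [h1, h0, zero_comp, comp_zero]
  obtain ⟨s, hs⟩ := Groth.Agent.Lib.DSplit.exists_factor_of_Q_map_eq_zero P a _ hq hzero
  have : Projective (P.opcycles (a + 1)) :=
    Groth.Agent.Lib.DSplit.projective_opcycles P a (P.pOpcycles a) (P.fromOpcycles a (a + 1))
      (by simp) s hs
  have hex : P.ExactAt a := Groth.Agent.Lib.DSplit.exactAt_of_factor P a s hs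
  refine ⟨Groth.Agent.Lib.DSplit.split_of_projective_opcycles_of_exactAt K P e₀ a b₀ hex, ?_⟩
  obtain ⟨-, ⟨β⟩⟩ := Groth.Agent.Lib.DSplit.split_of_projective_opcycles K P e₀ a b₀
  have hstr := Groth.Agent.Lib.DSplit.isStrictlyLE_truncGE P (a + 1) b₀
  have hproj := Groth.Agent.Lib.DSplit.projective_truncGE_X P (a + 1)
  refine ⟨P.truncGE (a + 1), b₀, ?_, ?_, ⟨β⟩⟩
  · rintro i (hi | hi)
    · exact (P.truncGE (a + 1)).isZero_of_isStrictlyGE (a + 1) i hi
    · exact (P.truncGE (a + 1)).isZero_of_isStrictlyLE b₀ i hi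
  · intro i
    have := hproj i
    exact ModuleCat.projective_of_module_projective ((P.truncGE (a + 1)).X i)

end Groth.Agent.S7004
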