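import Groth.Statements.S7005
import Groth.Agent.Lib.RelFP81

set_option autoImplicit false
universe u
open CAlg

namespace Groth.Agent.S7005

/-- Let R → A be a finite type homomorphism of commutative rings, α : R[x_1, ..., x_n] → A a surjective
R-algebra homomorphism and M an A-module which is finitely presented as an R[x_1, ..., x_n]-module
through α. Let A → A' be a ring homomorphism of finite presentation and γ : R[z_1, ..., z_k] → A' a
surjective R-algebra homomorphism. Then A' ⊗_A M is finitely presented as an R[z_1, ..., z_k]-module
through γ. -/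
theorem result {R A A' : Type u} [CommRing R] [CommRing A]
    [CommRing A'] [Algebra R A] [Algebra A A'] [Algebra R A'] [IsScalarTower R A A'] [Algebra.FiniteType R A]
    [Algebra.FinitePresentation A A'] (M : Type u) [AddCommGroup M] [Module A M] {n k : ℕ}
    (α : MvPolynomial (Fin n) R →ₐ[R] A) (hα : Function.Surjective α)
    (hM : @Module.FinitePresentation (MvPolynomial (Fin n) R) (M) _ _ (Module.compHom (M) α.toRingHom))
    (γ : MvPolynomial (Fin k) R →ₐ[R] A') (hγ : Function.Surjective γ) :
    @Module.FinitePresentation (MvPolynomial (Fin k) R) (TensorProduct A A' M) _ _ (Module.compHom (TensorProduct A A' M) γ.toRingHom) := by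
  have hM' : Groth.Agent.Lib.RelFP81.FPvia α.toRingHom M := hM
  obtain ⟨m, χ, hχ, hχC, hfp⟩ :=
    Groth.Agent.Lib.RelFP81.FPvia.baseChange_core (A' := A') α.toRingHom hα M hM'
  let χa : MvPolynomial (Fin m) (MvPolynomial (Fin n) R) →ₐ[R] A' :=
    { χ with
      commutes' := fun r => by
        change χ (algebraMap R (MvPolynomial (Fin m) (MvPolynomial (Fin n) R)) r) = _
        rw [MvPolynomial.algebraMap_apply, hχC]
        change algebraMap A A' (α (algebraMap R (MvPolynomial (Fin n) R) r)) = _
        rw [α.commutes, ← IsScalarTower.algebraMap_apply] }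
  exact Groth.Agent.Lib.RelFP81.FPvia.of_finitePresentation χa hχ γ hγ _ hfp

end Groth.Agent.S7005
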