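import Groth.Statements.S7006
import Groth.Agent.Lib.RelFP81

set_option autoImplicit false
universe u
open CAlg

namespace Groth.Agent.S7006

open Groth.Agent.Lib.RelFP81 in
theorem aux {R Rf A : Type u} [CommRing R] [CommRing Rf] [CommRing A] [Algebra R Rf]
    [Algebra.FinitePresentation R Rf]
    [Algebra R A] [Algebra Rf A] [IsScalarTower R Rf A] {n k : ℕ}
    (α : MvPolynomial (Fin n) Rf →ₐ[Rf] A) (hα : Function.Surjective α)
    (M : Type u) [AddCommGroup M] [Module A M] (hM : FPvia α.toRingHom M)
    (A' : Type u) [CommRing A'] [Algebra A A'] [Algebra R A'] [IsScalarTower R A A']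
    [Algebra.FinitePresentation A A']
    (γ : MvPolynomial (Fin k) R →ₐ[R] A') (hγ : Function.Surjective γ) :
    FPvia γ.toRingHom (TensorProduct A A' M) := by
  obtain ⟨m, χ, hχ, hχC, hfp⟩ := FPvia.baseChange_core (A' := A') α.toRingHom hα M hM
  let χa : MvPolynomial (Fin m) (MvPolynomial (Fin n) Rf) →ₐ[R] A' :=
    { χ with
      commutes' := fun r => by
        change χ (algebraMap R (MvPolynomial (Fin m) (MvPolynomial (Fin n) Rf)) r) = _
        rw [MvPolynomial.algebraMap_apply, hχC]
        change algebraMap A A' (α (algebraMap R (MvPolynomial (Fin n) Rf) r)) = _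
        rw [IsScalarTower.algebraMap_apply R Rf (MvPolynomial (Fin n) Rf), α.commutes,
          ← IsScalarTower.algebraMap_apply R Rf A, ← IsScalarTower.algebraMap_apply] }
  exact FPvia.of_finitePresentation χa hχ γ hγ _ hfp

/-- Let R be a commutative ring, f an element of R, A an R_f-algebra with a surjective R_f-algebra
homomorphism α : R_f[x_1, ..., x_n] → A, g an element of A, and M an A-module which is finitely
presented as an R_f[x_1, ..., x_n]-module through α. Then for every surjective R-algebra
homomorphism γ : R[z_1, ..., z_k] → A_g, the localized module M_g is finitely presented as an R[z_1,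
..., z_k]-module through γ. -/
theorem result {R A : Type u} [CommRing R] [CommRing A] (f : R)
    [Algebra R A] [Algebra (Localization.Away f) A] [IsScalarTower R (Localization.Away f) A] {n k : ℕ}
    (α : MvPolynomial (Fin n) (Localization.Away f) →ₐ[Localization.Away f] A) (hα : Function.Surjective α)
    (g : A) (M : Type u) [AddCommGroup M] [Module A M]
    (hM : @Module.FinitePresentation (MvPolynomial (Fin n) (Localization.Away f)) (M) _ _ (Module.compHom (M) α.toRingHom))
    (γ : MvPolynomial (Fin k) R →ₐ[R] Localization.Away g) (hγ : Function.Surjective γ) :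
    @Module.FinitePresentation (MvPolynomial (Fin k) R) (LocalizedModule (Submonoid.powers g) M) _ _ (Module.compHom (LocalizedModule (Submonoid.powers g) M) γ.toRingHom) := by
  have hM' : Groth.Agent.Lib.RelFP81.FPvia α.toRingHom M := hM
  have h1 : Algebra.FinitePresentation A (Localization.Away g) :=
    IsLocalization.Away.finitePresentation g
  have h2 : Algebra.FinitePresentation R (Localization.Away f) :=
    IsLocalization.Away.finitePresentation f
  have h3 := aux α hα M hM' (Localization.Away g) γ hγ
  exact Groth.Agent.Lib.RelFP81.FPvia.of_linearEquiv γ.toRingHom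
    (LocalizedModule.equivTensorProduct (Submonoid.powers g) M).symm h3

end Groth.Agent.S7006
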