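import Groth.Statements.S7007
import Groth.Agent.S7006
import Groth.Agent.Lib.RelFP81b

set_option autoImplicit false
universe u
open CAlg

namespace Groth.Agent.S7007

open Groth.Agent.Lib.RelFP81

theorem aux {R A : Type u} [CommRing R] [CommRing A] [Algebra R A]
    {n : ℕ} (α : MvPolynomial (Fin n) R →ₐ[R] A) (hα : Function.Surjective α) (M : Type u)
    [AddCommGroup M] [Module A M] {r : ℕ} (F : Fin r → MvPolynomial (Fin n) R)
    (hf : Ideal.span (Set.range (fun i => α (F i))) = ⊤) (k : Fin r → ℕ)
    (γ : ∀ i, MvPolynomial (Fin (k i)) R →ₐ[R] Localization.Away (α (F i)))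
    (hγ : ∀ i, Function.Surjective (γ i))
    (h : ∀ i, FPvia (γ i).toRingHom (LocalizedModule (Submonoid.powers (α (F i))) M)) :
    FPvia α.toRingHom M := by
  letI : Algebra (MvPolynomial (Fin n) R) A := α.toRingHom.toAlgebra
  letI : Module (MvPolynomial (Fin n) R) M := Module.compHom M α.toRingHom
  haveI : IsScalarTower (MvPolynomial (Fin n) R) A M := ⟨fun p a m => by
    change (α p * a) • m = α p • (a • m)
    rw [mul_smul]⟩
  refine fp_of_cover (P := MvPolynomial (Fin n) R) (A := A) hα M F hf ?_
  intro i
  have hft : Algebra.FiniteType R (Localization.Away (F i)) := by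
    have h1 : Algebra.FiniteType (MvPolynomial (Fin n) R) (Localization.Away (F i)) :=
      IsLocalization.finiteType_of_monoid_fg (Submonoid.powers (F i)) _
    exact Algebra.FiniteType.trans (inferInstance : Algebra.FiniteType R (MvPolynomial (Fin n) R)) h1
  let θ : Localization.Away (F i) →ₐ[R] Localization.Away (α (F i)) :=
    IsLocalization.Away.mapₐ (Localization.Away (F i)) (Localization.Away (α (F i))) α (F i)
  have hθs : Function.Surjective θ :=
    IsLocalization.Away.mapₐ_surjective_of_surjective (F i) hα
  have h2 : FPvia θ.toRingHom (LocalizedModule (Submonoid.powers (α (F i))) M) :=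
    FPvia.of_polynomial θ hθs (γ i) (hγ i) _ (h i)
  refine fp_localizedModule_of_FPvia (F i) (α (F i)) rfl (Localization.Away (α (F i)))
    θ.toRingHom ?_ M (LocalizedModule (Submonoid.powers (α (F i))) M)
    (LocalizedModule.mkLinearMap (Submonoid.powers (α (F i))) M) h2
  intro p
  change θ (algebraMap _ _ p) = algebraMap A _ (α p)
  simp only [θ, IsLocalization.Away.mapₐ_apply, IsLocalization.Away.map]
  exact IsLocalization.map_eq _ _

/-- Let R → A be a finite type homomorphism of commutative rings with a surjective R-algebra
homomorphism α : R[x_1, ..., x_n] → A, M an A-module, f_1, ..., f_r elements of A generating the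
unit ideal, and for each i a surjective R-algebra homomorphism γ_i : R[z_1, ..., z_(k_i)] → A_(f_i).
Then M is finitely presented as an R[x_1, ..., x_n]-module through α if and only if, for every i,
the localization M_(f_i) is finitely presented as an R[z_1, ..., z_(k_i)]-module through γ_i. -/
theorem result {R A : Type u} [CommRing R] [CommRing A] [Algebra R A]
    {n : ℕ} (α : MvPolynomial (Fin n) R →ₐ[R] A) (hα : Function.Surjective α) (M : Type u) [AddCommGroup M]
    [Module A M] {r : ℕ} (f : Fin r → A) (hf : Ideal.span (Set.range f) = ⊤) (k : Fin r → ℕ)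
    (γ : ∀ i, MvPolynomial (Fin (k i)) R →ₐ[R] Localization.Away (f i)) (hγ : ∀ i, Function.Surjective (γ i)) :
    @Module.FinitePresentation (MvPolynomial (Fin n) R) (M) _ _ (Module.compHom (M) α.toRingHom) ↔
      ∀ i, @Module.FinitePresentation (MvPolynomial (Fin (k i)) R) (LocalizedModule (Submonoid.powers (f i)) M) _ _ (Module.compHom (LocalizedModule (Submonoid.powers (f i)) M) (γ i).toRingHom) := by
  constructor
  · intro hM i
    have hM' : FPvia α.toRingHom M := hM
    have h1 : Algebra.FinitePresentation A (Localization.Away (f i)) :=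
      IsLocalization.Away.finitePresentation (f i)
    have h3 := Groth.Agent.S7006.aux (Rf := R) α hα M hM' (Localization.Away (f i)) (γ i) (hγ i)
    exact FPvia.of_linearEquiv (γ i).toRingHom
      (LocalizedModule.equivTensorProduct (Submonoid.powers (f i)) M).symm h3
  · intro h
    obtain ⟨F, rfl⟩ : ∃ F : Fin r → MvPolynomial (Fin n) R, f = fun i => α (F i) := by
      choose F hF using fun i => hα (f i)
      exact ⟨F, funext fun i => (hF i).symm⟩
    exact aux α hα M F hf k γ hγ h

end Groth.Agent.S7007
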