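import Groth.Statements.S7009
import Mathlib
import Groth.Agent.Lib.H47MatCx
import Groth.Agent.Lib.LBaseChangeKProj

set_option autoImplicit false
universe u
open CategoryTheory CategoryTheory.Limits
attribute [local instance] HasDerivedCategory.standard
open DRing

namespace Groth.Agent.S7009
set_option backward.isDefEq.respectTransparency.types false
attribute [local instance] HasDerivedCategory.standard
open Groth.Agent.Lib.H47MatCx


/-- Let (R_j) be a diagram of commutative rings over a small filtered category with colimit R, such that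
the derived base change D(R_j) → D(R) exists for every j, and let K be a perfect object of D(R).
Then there exist an index j and a perfect object K_j of D(R_j) such that K_j ⊗^L R is isomorphic to
K in D(R). -/
theorem result {J : Type u} [SmallCategory J] [IsFiltered J]
    (F : J ⥤ CommRingCat.{u}) (c : Cocone F) (hc : IsColimit c)
    [∀ j : J, DRing.HasLBaseChange (c.ι.app j).hom] (K : Dual.D c.pt) (hK : DRing.IsPerfect c.pt K) :
    ∃ (j : J) (Kj : Dual.D (F.obj j)), DRing.IsPerfect (F.obj j) Kj ∧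
      Nonempty ((DRing.LBaseChange (c.ι.app j).hom).obj Kj ≅ K) := by
  obtain ⟨E, a, b, hv, hf, ⟨e⟩⟩ := hK
  obtain ⟨r, D, hD, M, hM, i, p, hr, hidem, hip, hpi⟩ := exists_matrix_presentation E a b hv hf
  -- Stage 1: lift the matrices `D n`, `M n` for `n ∈ [a, b]` to a common stage `j0`.
  obtain ⟨j0, hj0⟩ := exists_obj_forall (ι := ↥(Finset.Icc a b)) (fun n j =>
      ∃ (Dj : Matrix (Fin (r ((n : ℤ) + 1))) (Fin (r n)) (F.obj j))
        (Mj : Matrix (Fin (r n)) (Fin (r n)) (F.obj j)),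
        Dj.map (c.ι.app j).hom = D n ∧ Mj.map (c.ι.app j).hom = M n) (by
    rintro n j j' f ⟨Dj, Mj, h1, h2⟩
    exact ⟨Dj.map (F.map f).hom, Mj.map (F.map f).hom, by rw [map_map_ι, h1],
      by rw [map_map_ι, h2]⟩) (by
    intro n
    obtain ⟨j1, Dj, h1⟩ := exists_matrix_lift F c hc (D n)
    obtain ⟨j2, Mj, h2⟩ := exists_matrix_lift F c hc (M n)
    exact ⟨IsFiltered.max j1 j2, Dj.map (F.map (IsFiltered.leftToMax j1 j2)).hom,
      Mj.map (F.map (IsFiltered.rightToMax j1 j2)).hom, by rw [map_map_ι, h1],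
      by rw [map_map_ι, h2]⟩)
  choose Dj0' Mj0' hDj0' hMj0' using hj0
  let Dj0 : ∀ n : ℤ, Matrix (Fin (r (n + 1))) (Fin (r n)) (F.obj j0) := fun n =>
    if h : n ∈ Finset.Icc a b then Dj0' ⟨n, h⟩ else 0
  let Mj0 : ∀ n : ℤ, Matrix (Fin (r n)) (Fin (r n)) (F.obj j0) := fun n =>
    if h : n ∈ Finset.Icc a b then Mj0' ⟨n, h⟩ else 0
  have hr' : ∀ n : ℤ, n ∉ Finset.Icc a b → r n = 0 := by
    intro n hn
    apply hr
    rw [Finset.mem_Icc] at hn
    omega
  have hDj0 : ∀ n, (Dj0 n).map (c.ι.app j0).hom = D n := by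
    intro n
    by_cases h : n ∈ Finset.Icc a b
    · simp only [Dj0, dif_pos h]
      exact hDj0' ⟨n, h⟩
    · exact matrix_eq_of_eq_zero (hr' n h) _ _
  have hMj0 : ∀ n, (Mj0 n).map (c.ι.app j0).hom = M n := by
    intro n
    by_cases h : n ∈ Finset.Icc a b
    · simp only [Mj0, dif_pos h]
      exact hMj0' ⟨n, h⟩
    · exact matrix_eq_of_eq_zero (hr' n h) _ _
  -- Stage 2: the equations hold at a later stage `k`.
  have h1 := exists_eqAt F c hc j0 (Finset.Icc a b) (fun t => Dj0 (t + 1) * Dj0 t) (fun t => 0) (by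
    intro t
    rw [Matrix.map_mul, hDj0, hDj0, hD, Matrix.map_zero _ (map_zero _)])
  have h2 := exists_eqAt F c hc j0 (Finset.Icc a b) (fun t => Dj0 t * Mj0 t)
    (fun t => Mj0 (t + 1) * Dj0 t) (by
    intro t
    rw [Matrix.map_mul, Matrix.map_mul, hDj0, hMj0, hMj0, hM])
  have h3 := exists_eqAt F c hc j0 (Finset.Icc a b) (fun t => Mj0 t * Mj0 t) (fun t => Mj0 t) (by
    intro t
    rw [Matrix.map_mul, hMj0, hidem])
  have h12 := exists_hom_and j0 _ _ (EqAt.mono F) (EqAt.mono F) h1 h2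
  obtain ⟨k, f, ⟨hk1, hk2⟩, hk3⟩ := exists_hom_and j0 _ _
    (fun k k' f g h => ⟨EqAt.mono F k k' f g h.1, EqAt.mono F k k' f g h.2⟩)
    (EqAt.mono F) h12 h3
  -- the data at stage `k`
  let Dk : ∀ n : ℤ, Matrix (Fin (r (n + 1))) (Fin (r n)) (F.obj k) := fun n =>
    (Dj0 n).map (F.map f).hom
  let Mk : ∀ n : ℤ, Matrix (Fin (r n)) (Fin (r n)) (F.obj k) := fun n =>
    (Mj0 n).map (F.map f).hom
  have hDk : ∀ n, Dk (n + 1) * Dk n = 0 := by
    intro n
    by_cases h : n ∈ Finset.Icc a b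
    · have := hk1 n h
      rw [Matrix.map_mul, Matrix.map_zero _ (map_zero _)] at this
      exact this
    · exact matrix_eq_of_eq_zero (hr' n h) _ _
  have hMk : ∀ n, Dk n * Mk n = Mk (n + 1) * Dk n := by
    intro n
    by_cases h : n ∈ Finset.Icc a b
    · have := hk2 n h
      rw [Matrix.map_mul, Matrix.map_mul] at this
      exact this
    · exact matrix_eq_of_eq_zero (hr' n h) _ _
  have hidemk : ∀ n, Mk n * Mk n = Mk n := by
    intro n
    by_cases h : n ∈ Finset.Icc a b
    · have := hk3 n h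
      rw [Matrix.map_mul] at this
      exact this
    · exact matrix_eq_of_eq_zero (hr' n h) _ _
  have hDkD : ∀ n, (Dk n).map (c.ι.app k).hom = D n := fun n => by
    rw [map_map_ι, hDj0]
  have hMkM : ∀ n, (Mk n).map (c.ι.app k).hom = M n := fun n => by
    rw [map_map_ι, hMj0]
  obtain rfl : D = fun n => (Dk n).map (c.ι.app k).hom := funext fun n => (hDkD n).symm
  obtain rfl : M = fun n => (Mk n).map (c.ι.app k).hom := funext fun n => (hMkM n).symm
  obtain ⟨Ej, hfin, hzero, ⟨θ⟩⟩ := key' (c.ι.app k).hom r Dk hDk Mk hMk hidemk hD hM E i p hip hpi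
  have : Ej.IsStrictlyLE b := by
    rw [CochainComplex.isStrictlyLE_iff]
    exact fun n hn => hzero n (hr n (Or.inr hn))
  have : ∀ n, Projective (Ej.X n) := fun n => by
    have := (hfin n).2
    exact ModuleCat.projective_of_categoryTheory_projective (Ej.X n)
  refine ⟨k, DRing.toD Ej, ⟨Ej, a, b, fun n hn => hzero n (hr n hn), hfin, ⟨Iso.refl _⟩⟩, ⟨?_⟩⟩
  exact Groth.Agent.Lib.LBaseChangeKProj.lbcIsoOfBdd (c.ι.app k).hom Ej b ≪≫
    DerivedCategory.Q.mapIso θ ≪≫ e

end Groth.Agent.S7009
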