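import Groth.Statements.S7015
import Mathlib.LinearAlgebra.TensorProduct.Finiteness
import Mathlib.LinearAlgebra.TensorProduct.Associator
import Mathlib.RingTheory.Finiteness.Basic
import Mathlib.LinearAlgebra.Pi
import Mathlib.LinearAlgebra.FreeModule.Basic
import Mathlib.LinearAlgebra.Basis.Defs
import Mathlib.LinearAlgebra.StdBasis

set_option autoImplicit false
universe u
open CategoryTheory MonoidalCategory
open DRing

namespace Groth.Agent.S7015

open TensorProduct

/-- a module which is a retract of a finite free module `ι → R` is finite projective -/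
lemma finite_projective_of_retract {R : Type u} [CommRing R] {M : Type u} [AddCommGroup M] [Module R M]
    {ι : Type u} [Finite ι] (i : M →ₗ[R] (ι → R)) (s : (ι → R) →ₗ[R] M)
    (h : s.comp i = LinearMap.id) : Module.Finite R M ∧ Module.Projective R M := by
  refine ⟨?_, Module.Projective.of_split i s h⟩
  apply Module.Finite.of_surjective s
  intro m
  exact ⟨i m, by rw [← LinearMap.comp_apply, h, LinearMap.id_apply]⟩

/-- the linear algebra behind dualizability: first triangle identity -/
lemma finite_projective_left {R : Type u} [CommRing R] {M N : Type u} [AddCommGroup M] [Module R M]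
    [AddCommGroup N] [Module R N] (η : R →ₗ[R] M ⊗[R] N) (ε : N ⊗[R] M →ₗ[R] R)
    (h : ∀ m : M, TensorProduct.rid R M (ε.lTensor M (TensorProduct.assoc R M N M
      (η.rTensor M ((1 : R) ⊗ₜ[R] m)))) = m) :
    Module.Finite R M ∧ Module.Projective R M := by
  classical
  obtain ⟨S, hS⟩ := TensorProduct.exists_finset (η 1)
  have key : ∀ m : M, m = ∑ p ∈ S, ε (p.2 ⊗ₜ[R] m) • p.1 := by
    intro m
    have := h m
    rw [LinearMap.rTensor_tmul, hS, TensorProduct.sum_tmul, map_sum, map_sum, map_sum] at this
    refine this.symm.trans ?_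
    apply Finset.sum_congr rfl
    intro p _
    simp
  let i : M →ₗ[R] (S → R) := LinearMap.pi fun p => ε ∘ₗ (TensorProduct.mk R N M p.1.2)
  let s : (S → R) →ₗ[R] M :=
    ∑ p : S, (LinearMap.toSpanSingleton R M p.1.1) ∘ₗ (LinearMap.proj p)
  apply finite_projective_of_retract i s
  ext m
  simp only [LinearMap.coe_comp, Function.comp_apply, LinearMap.id_coe, id_eq, s, i,
    LinearMap.sum_apply, LinearMap.proj_apply, LinearMap.pi_apply, TensorProduct.mk_apply,
    LinearMap.toSpanSingleton_apply]
  rw [Finset.sum_coe_sort S (fun p => ε (p.2 ⊗ₜ[R] m) • p.1)]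
  exact (key m).symm

/-- the linear algebra behind dualizability: second triangle identity -/
lemma finite_projective_right {R : Type u} [CommRing R] {M N : Type u} [AddCommGroup M] [Module R M]
    [AddCommGroup N] [Module R N] (η : R →ₗ[R] M ⊗[R] N) (ε : N ⊗[R] M →ₗ[R] R)
    (h : ∀ n : N, TensorProduct.lid R N (ε.rTensor N ((TensorProduct.assoc R N M N).symm
      (η.lTensor N (n ⊗ₜ[R] (1 : R))))) = n) :
    Module.Finite R N ∧ Module.Projective R N := by
  classical
  obtain ⟨S, hS⟩ := TensorProduct.exists_finset (η 1)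
  have key : ∀ n : N, n = ∑ p ∈ S, ε (n ⊗ₜ[R] p.1) • p.2 := by
    intro n
    have := h n
    rw [LinearMap.lTensor_tmul, hS, TensorProduct.tmul_sum, map_sum, map_sum, map_sum] at this
    refine this.symm.trans ?_
    apply Finset.sum_congr rfl
    intro p _
    simp
  let i : N →ₗ[R] (S → R) := LinearMap.pi fun p => ε ∘ₗ ((TensorProduct.mk R N M).flip p.1.1)
  let s : (S → R) →ₗ[R] N :=
    ∑ p : S, (LinearMap.toSpanSingleton R N p.1.2) ∘ₗ (LinearMap.proj p)
  apply finite_projective_of_retract i s
  ext n
  simp only [LinearMap.coe_comp, Function.comp_apply, LinearMap.id_coe, id_eq, s, i,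
    LinearMap.sum_apply, LinearMap.proj_apply, LinearMap.pi_apply, LinearMap.flip_apply,
    TensorProduct.mk_apply, LinearMap.toSpanSingleton_apply]
  rw [Finset.sum_coe_sort S (fun p => ε (n ⊗ₜ[R] p.1) • p.2)]
  exact (key n).symm

theorem result (R : Type u) [CommRing R] (M N : Type u) [AddCommGroup M]
    [Module R M] [AddCommGroup N] [Module R N] [ExactPairing (ModuleCat.of R M) (ModuleCat.of R N)] :
    Module.Finite R M ∧ Module.Projective R M ∧ Module.Finite R N ∧ Module.Projective R N := by
  let X : ModuleCat.{u} R := ModuleCat.of R M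
  let Y : ModuleCat.{u} R := ModuleCat.of R N
  let η : R →ₗ[R] M ⊗[R] N := (η_ X Y).hom
  let ε : N ⊗[R] M →ₗ[R] R := (ε_ X Y).hom
  have h1 : ∀ m : M, TensorProduct.rid R M (ε.lTensor M (TensorProduct.assoc R M N M
      (η.rTensor M ((1 : R) ⊗ₜ[R] m)))) = m := by
    intro m
    have := congrArg (fun f => (ρ_ X).hom.hom (f.hom ((1 : R) ⊗ₜ[R] m)))
      (ExactPairing.evaluation_coevaluation X Y)
    simp only [ModuleCat.hom_comp, LinearMap.comp_apply] at this
    refine Eq.trans ?_ (this.trans ?_)
    · rfl
    · change TensorProduct.rid R M ((TensorProduct.rid R M).symm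
        (TensorProduct.lid R M ((1 : R) ⊗ₜ[R] m))) = m
      simp
  have h2 : ∀ n : N, TensorProduct.lid R N (ε.rTensor N ((TensorProduct.assoc R N M N).symm
      (η.lTensor N (n ⊗ₜ[R] (1 : R))))) = n := by
    intro n
    have := congrArg (fun f => (λ_ Y).hom.hom (f.hom (n ⊗ₜ[R] (1 : R))))
      (ExactPairing.coevaluation_evaluation X Y)
    simp only [ModuleCat.hom_comp, LinearMap.comp_apply] at this
    refine Eq.trans ?_ (this.trans ?_)
    · rfl
    · change TensorProduct.lid R N ((TensorProduct.lid R N).symm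
        (TensorProduct.rid R N (n ⊗ₜ[R] (1 : R)))) = n
      simp
  obtain ⟨a, b⟩ := finite_projective_left η ε h1
  obtain ⟨c, d⟩ := finite_projective_right η ε h2
  exact ⟨a, b, c, d⟩

end Groth.Agent.S7015
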