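import Groth.Statements.S7017
import Groth.Agent.Lib.H93ConeRep
import Mathlib.RingTheory.Finiteness.Prod
import Mathlib.LinearAlgebra.FreeModule.Basic

set_option autoImplicit false
universe u
open CategoryTheory CategoryTheory.Limits
attribute [local instance] HasDerivedCategory.standard
open DRing

namespace Groth.Agent.S7017

open Groth.Agent.Lib.H93ConeRep

/-- finite free modules, as a predicate on `ModuleCat R` -/
def FinFree (R : Type u) [CommRing R] (M : ModuleCat.{u} R) : Prop :=
  Module.Finite R M ∧ Module.Free R M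

lemma isPseudoCoherent'_iff_rep (R : Type u) [CommRing R] (K : Dual.D R) :
    DRing.IsPseudoCoherent' R K ↔ Rep (BddAboveTermwise (FinFree R)) K := by
  constructor
  · rintro ⟨E, b, hb, hE, hiso⟩
    exact ⟨E, ⟨⟨b, hb⟩, hE⟩, hiso⟩
  · rintro ⟨E, ⟨⟨b, hb⟩, hE⟩, hiso⟩
    exact ⟨E, b, hb, hE, hiso⟩

lemma coneClass_finFree (R : Type u) [CommRing R] : ConeClass (BddAboveTermwise (FinFree R)) := by
  apply coneClass_bddAbove
  · intro M hM
    have := hM.2
    infer_instance
  · intro M N e hM
    obtain ⟨h1, h2⟩ := hM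
    exact ⟨Module.Finite.equiv e.toLinearEquiv, Module.Free.of_equiv e.toLinearEquiv⟩
  · intro M N hM hN
    obtain ⟨h1, h2⟩ := hM
    obtain ⟨h3, h4⟩ := hN
    exact ⟨inferInstanceAs (Module.Finite R (M × N)),
      inferInstanceAs (Module.Free R (M × N))⟩

open CategoryTheory.Pretriangulated in
theorem result (R : Type u) [CommRing R] (T : Triangle (Dual.D R))
    (hT : T ∈ distinguishedTriangles) :
    (DRing.IsPseudoCoherent' R T.obj₁ → DRing.IsPseudoCoherent' R T.obj₂ → DRing.IsPseudoCoherent' R T.obj₃) ∧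
      (DRing.IsPseudoCoherent' R T.obj₁ → DRing.IsPseudoCoherent' R T.obj₃ → DRing.IsPseudoCoherent' R T.obj₂) ∧
      (DRing.IsPseudoCoherent' R T.obj₂ → DRing.IsPseudoCoherent' R T.obj₃ → DRing.IsPseudoCoherent' R T.obj₁) := by
  simp only [isPseudoCoherent'_iff_rep]
  exact ⟨rep_obj₃ (coneClass_finFree R) T hT, rep_obj₂ (coneClass_finFree R) T hT,
    rep_obj₁ (coneClass_finFree R) T hT⟩

end Groth.Agent.S7017
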