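import Groth.Statements.S7019
import Groth.Agent.Lib.DRingPerfAmp

set_option autoImplicit false
universe u
open CategoryTheory CategoryTheory.Limits
attribute [local instance] HasDerivedCategory.standard
open DRing

namespace Groth.Agent.S7019

/-- Let R be a commutative ring such that the derived tensor product - ⊗^L_R M exists on D(R) for every
R-module M, and let K, L be objects of D(R). If K ⊕ L is perfect, then K and L are perfect. -/
theorem result (R : Type u) [CommRing R] [∀ M : ModuleCat.{u} R, DRing.HasLTensor R M]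
    (K L : Dual.D R) [HasBinaryBiproduct K L] (h : DRing.IsPerfect R (K ⊞ L)) :
    DRing.IsPerfect R K ∧ DRing.IsPerfect R L := by
  obtain ⟨E, a, b, h1, h2, h3⟩ := h
  have hPA : Groth.Agent.Lib.PCohAmp.PA (Groth.Agent.Lib.DRingPCoh21.FP R) a (max a b) (K ⊞ L) :=
    ⟨E, h2, fun i hi => h1 i (hi.imp id (fun h => lt_of_le_of_lt (le_max_right a b) h)), h3⟩
  have key := Groth.Agent.Lib.PCohAmp.pa_of_retract (P := Groth.Agent.Lib.DRingPCoh21.FP R)
    (Groth.Agent.Lib.DRingPCoh21.fp_prod R) (Groth.Agent.Lib.DRingPerfAmp.fp_lift R)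
    (Groth.Agent.Lib.DRingPerfAmp.fp_kernel R) (Groth.Agent.Lib.DRingPerfAmp.fp_direct_factor R)
    (max a b - a).toNat a (max a b) (by
      have := le_max_left a b
      lia) (K ⊞ L)
  constructor
  · obtain ⟨E', h1', h2', h3'⟩ := key K biprod.inl biprod.fst biprod.inl_fst hPA
    exact ⟨E', a, max a b, h2', h1', h3'⟩
  · obtain ⟨E', h1', h2', h3'⟩ := key L biprod.inr biprod.snd biprod.inr_snd hPA
    exact ⟨E', a, max a b, h2', h1', h3'⟩

end Groth.Agent.S7019
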