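import Groth.Statements.S7021
import Groth.Agent.Lib.PCohRelative3

set_option autoImplicit false
universe u
open CategoryTheory CategoryTheory.Limits
attribute [local instance] HasDerivedCategory.standard
open DerCA

namespace Groth.Agent.S7021

/-- Let R → A be a finite type homomorphism of commutative rings, α : R[x_1, ..., x_n] → A a surjective
R-algebra homomorphism and M an A-module. Then relative 0-pseudo-coherence of M over R amounts to M
being a finitely generated A-module, and relative (-1)-pseudo-coherence of M over R amounts to M
being finitely presented as an R[x_1, ..., x_n]-module through α. -/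
theorem result {R A : Type u} [CommRing R] [CommRing A]
    [Algebra R A] [Algebra.FiniteType R A] {n : ℕ} (α : MvPolynomial (Fin n) R →ₐ[R] A)
    (hα : Function.Surjective α) (M : Type u) [AddCommGroup M] [Module A M] :
    (DerCA.IsRelPseudoCoherentModule R A 0 M ↔ Module.Finite A M) ∧
      (DerCA.IsRelPseudoCoherentModule R A (-1) M ↔
        @Module.FinitePresentation (MvPolynomial (Fin n) R) M _ _ (Module.compHom M α.toRingHom)) := by
  have key : ∀ k : ℤ, DerCA.IsRelPseudoCoherentModule R A k M ↔
      @DRing.IsPseudoCoherentModule (MvPolynomial (Fin n) R) _ k M _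
        (Module.compHom M α.toRingHom) := by
    intro k
    unfold DerCA.IsRelPseudoCoherentModule
    rw [Groth.Agent.Lib.PCohRelative2.rel_iff_via α hα]
    unfold DerCA.IsRelPseudoCoherentVia DRing.IsPseudoCoherentModule
    exact ⟨fun h => Groth.Agent.Lib.PCohRelative3.isPseudoCoherent_of_iso k
        (Groth.Agent.Lib.PCohRelative3.USingleIso α.toRingHom (ModuleCat.of A M)) h,
      fun h => Groth.Agent.Lib.PCohRelative3.isPseudoCoherent_of_iso k
        (Groth.Agent.Lib.PCohRelative3.USingleIso α.toRingHom (ModuleCat.of A M)).symm h⟩
  have h35 := @Groth.Agent.S6935.result (MvPolynomial (Fin n) R) _ M _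
    (Module.compHom M α.toRingHom)
  refine ⟨?_, ?_⟩
  · rw [key 0, h35.1]
    constructor
    · intro h
      exact Groth.Agent.Lib.PCohRestrict.finite_of_restrictScalars α.toRingHom (ModuleCat.of A M) h
    · intro h
      let _ : Algebra (MvPolynomial (Fin n) R) A := α.toRingHom.toAlgebra
      let _ : Module (MvPolynomial (Fin n) R) M := Module.compHom M α.toRingHom
      have : IsScalarTower (MvPolynomial (Fin n) R) A M := ⟨fun a b x => by
        change (α.toRingHom a * b) • x = α.toRingHom a • (b • x)
        exact mul_smul _ _ _⟩
      have : Module.Finite (MvPolynomial (Fin n) R) A :=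
        Module.Finite.of_surjective (Algebra.linearMap (MvPolynomial (Fin n) R) A) hα
      exact Module.Finite.trans A M
  · rw [key (-1), h35.2]

end Groth.Agent.S7021
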