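import Groth.Statements.S7028
import Groth.Agent.Lib.H93ConeRep

set_option autoImplicit false
universe u
open CategoryTheory CategoryTheory.Limits
attribute [local instance] HasDerivedCategory.standard
open DRing

namespace Groth.Agent.S7028

open Groth.Agent.Lib.H93ConeRep

/-- finite projective modules, as a predicate on `ModuleCat R` -/
def FinProj (R : Type u) [CommRing R] (M : ModuleCat.{u} R) : Prop :=
  Module.Finite R M ∧ Module.Projective R M

lemma isPerfect_iff_rep (R : Type u) [CommRing R] (K : Dual.D R) :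
    DRing.IsPerfect R K ↔ Rep (BddTermwise (FinProj R)) K := by
  constructor
  · rintro ⟨E, a, b, hab, hE, hiso⟩
    exact ⟨E, ⟨⟨a, b, hab⟩, hE⟩, hiso⟩
  · rintro ⟨E, ⟨⟨a, b, hab⟩, hE⟩, hiso⟩
    exact ⟨E, a, b, hab, hE, hiso⟩

lemma coneClass_finProj (R : Type u) [CommRing R] : ConeClass (BddTermwise (FinProj R)) := by
  apply coneClass_bdd
  · intro M hM
    exact hM.2
  · intro M N e hM
    obtain ⟨h1, h2⟩ := hM
    exact ⟨Module.Finite.equiv e.toLinearEquiv, Module.Projective.of_equiv e.toLinearEquiv⟩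
  · intro M N hM hN
    obtain ⟨h1, h2⟩ := hM
    obtain ⟨h3, h4⟩ := hN
    exact ⟨inferInstanceAs (Module.Finite R (M × N)),
      inferInstanceAs (Module.Projective R (M × N))⟩

open CategoryTheory.Pretriangulated in
theorem result (R : Type u) [CommRing R] [∀ M : ModuleCat.{u} R, DRing.HasLTensor R M]
    (T : Triangle (Dual.D R)) (hT : T ∈ distinguishedTriangles) :
    (DRing.IsPerfect R T.obj₁ → DRing.IsPerfect R T.obj₂ → DRing.IsPerfect R T.obj₃) ∧
      (DRing.IsPerfect R T.obj₁ → DRing.IsPerfect R T.obj₃ → DRing.IsPerfect R T.obj₂) ∧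
      (DRing.IsPerfect R T.obj₂ → DRing.IsPerfect R T.obj₃ → DRing.IsPerfect R T.obj₁) := by
  simp only [isPerfect_iff_rep]
  exact ⟨rep_obj₃ (coneClass_finProj R) T hT, rep_obj₂ (coneClass_finProj R) T hT,
    rep_obj₁ (coneClass_finProj R) T hT⟩

end Groth.Agent.S7028
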