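import Groth.Statements.S7030
import Groth.Agent.Lib.DPerfBasic

set_option autoImplicit false
universe u
open CategoryTheory CategoryTheory.Limits
attribute [local instance] HasDerivedCategory.standard
open DRing

namespace Groth.Agent.S7030

/-- Let R be a commutative ring such that the derived tensor product - ⊗^L_R M exists on D(R) for every
R-module M, and let K be an object of D(R) whose cohomology vanishes outside a bounded range of
degrees and whose cohomology modules H^i(K) are all perfect R-modules. Then K is a perfect object of
D(R). -/
theorem result (R : Type u) [CommRing R] [∀ M : ModuleCat.{u} R, DRing.HasLTensor R M] (K : Dual.D R)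
    (hb : ∃ a b : ℤ, ∀ i : ℤ, (i < a ∨ b < i) → Subsingleton (Dual.HD R K i))
    (hK : ∀ i : ℤ, DRing.IsPerfectModule R (Dual.HD R K i)) : DRing.IsPerfect R K := by
  obtain ⟨a, b, hab⟩ := hb
  have := Groth.Agent.Lib.ProjResolution.isLE_of_subsingleton R K b (fun i hi => hab i (Or.inr hi))
  have := Groth.Agent.Lib.ProjResolution.isGE_of_subsingleton R K a (fun i hi => hab i (Or.inl hi))
  exact Groth.Agent.Lib.DPerf.isPerfect_of_homology R K a b (fun i _ _ => hK i)

end Groth.Agent.S7030
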