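import Groth.Statements.S7035
import Mathlib
import Groth.Agent.S6974
import Groth.Agent.Lib.RelPerfBC
import Groth.Agent.Lib.LBaseChangeFlat
import Groth.Agent.Lib.DGlDim
import Groth.Agent.Lib.PCohAmp2
import Groth.Agent.Lib.DRingPerfAmp
import Groth.Agent.Lib.FlatAmp2
import Groth.Agent.Lib.H47LocSplit
import Groth.Agent.Lib.H47LiftCx

set_option autoImplicit false
universe u
open CategoryTheory CategoryTheory.Limits
attribute [local instance] HasDerivedCategory.standard
open DRing

namespace Groth.Agent.S7035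
set_option backward.isDefEq.respectTransparency.types false
set_option linter.unusedSectionVars false
attribute [local instance] HasDerivedCategory.standard
open DRing TensorProduct

section gldim

open Groth.Agent.Lib.PCohAmp Groth.Agent.Lib.DRingPCoh21 Groth.Agent.Lib.DRingPerfAmp

variable (S : Type u) [CommRing S]

lemma exists_bounded_rep_of_gldim (d : ℕ)
    (hgl : ∀ M : ModuleCat.{u} S, HasProjectiveDimensionLT M (d + 1))
    (C : CochainComplex (ModuleCat.{u} S) ℤ) (b0 : ℤ) (hCb : ∀ i : ℤ, b0 < i → IsZero (C.X i))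
    (hCt : ∀ i : ℤ, Module.Finite S (C.X i) ∧ Module.Projective S (C.X i))
    (a b : ℤ) (hex : ∀ i : ℤ, (i < a ∨ b < i) → C.ExactAt i) :
    ∃ F : CochainComplex (ModuleCat.{u} S) ℤ,
      (∀ i : ℤ, Module.Finite S (F.X i) ∧ Module.Projective S (F.X i)) ∧
      (∀ i : ℤ, i < a - d ∨ b < i → IsZero (F.X i)) ∧ ∃ ψ : F ⟶ C, QuasiIso ψ := by
  have hC : C.IsStrictlyLE b0 := by
    rw [CochainComplex.isStrictlyLE_iff]; exact hCb
  have hproj : ∀ i : ℤ, Projective (C.X i) := fun i => by
    have := (hCt i).2
    exact ModuleCat.projective_of_categoryTheory_projective (C.X i)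
  have hop : Projective (C.opcycles (a - d)) :=
    Groth.Agent.Lib.DGlDim.projective_opcycles_of_exactAt C d (a - d) a (by ring)
      (fun j _ hj => hex j (Or.inl hj)) (hgl _)
  have hopM : Module.Projective S (C.opcycles (a - d)) :=
    ModuleCat.projective_of_module_projective _
  obtain ⟨hv, ht⟩ := Groth.Agent.Lib.H47LocSplit.truncGE_terms C (a - d) b0
    (fun k => (hCt k).1) (fun k => (hCt k).2) hopM
  have hge : C.IsGE (a - d) := by
    rw [CochainComplex.isGE_iff]
    intro i hi
    exact hex i (Or.inl (by have : (0 : ℤ) ≤ d := Int.natCast_nonneg d; omega))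
  have hqi : QuasiIso (C.πTruncGE (a - d)) := by
    rw [CochainComplex.quasiIso_πTruncGE_iff]; exact hge
  have hiso : IsIso (DerivedCategory.Q.map (C.πTruncGE (a - d))) := by
    rw [DerivedCategory.isIso_Q_map_iff_quasiIso]; exact hqi
  have hPA0 : PA (FP S) (a - d) b0 (DerivedCategory.Q.obj C) :=
    ⟨C.truncGE (a - d), ht, hv, ⟨(asIso (DerivedCategory.Q.map (C.πTruncGE (a - d)))).symm⟩⟩
  have hH : ∀ i : ℤ, b < i →
      IsZero ((DerivedCategory.homologyFunctor (ModuleCat.{u} S) i).obj (DerivedCategory.Q.obj C)) := by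
    intro i hi
    exact ((HomologicalComplex.exactAt_iff_isZero_homology _ _).mp (hex i (Or.inr hi))).of_iso
      ((DerivedCategory.homologyFunctorFactors (ModuleCat.{u} S) i).app C)
  have hPA : PA (FP S) (a - d) b (DerivedCategory.Q.obj C) := by
    by_cases hab : a - d ≤ b
    · exact pa_mono le_rfl (min_le_left _ _) (pa_trunc (fp_kernel S) hab hPA0 hH)
    · have hac : ∀ i : ℤ, C.ExactAt i := fun i => hex i (by
        have : (0 : ℤ) ≤ d := Int.natCast_nonneg d
        omega)
      have hz : IsZero (DerivedCategory.Q.obj C) :=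
        Groth.Agent.Lib.H47LiftCx.isZero_Q_obj_of_acyclic C hac
      exact Groth.Agent.Lib.FlatAmp.pa_of_isZero _ _ _ hz
  obtain ⟨F, hFt, hFv, ⟨e⟩⟩ := hPA
  have hFle : F.IsStrictlyLE b := by
    rw [CochainComplex.isStrictlyLE_iff]; exact fun i hi => hFv i (Or.inr hi)
  have hFproj : ∀ i : ℤ, Projective (F.X i) := fun i => by
    have := (hFt i).2
    exact ModuleCat.projective_of_categoryTheory_projective (F.X i)
  have hFK : F.IsKProjective := CochainComplex.isKProjective_of_projective F b
  obtain ⟨ψ, hψ⟩ := Groth.Agent.Lib.H93ConeRep.exists_map_eq e.hom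
  refine ⟨F, hFt, hFv, ψ, ?_⟩
  rw [← DerivedCategory.isIso_Q_map_iff_quasiIso, hψ]
  infer_instance

end gldim


section fibre

open Groth.Agent.Lib.FlatBaseChangeD Groth.Agent.Lib.RelPerfBC Groth.Agent.Lib.PCohAmp

attribute [local instance] Algebra.TensorProduct.rightAlgebra

variable {A B : Type u} [CommRing A] [CommRing B] [Algebra A B] [Module.Flat A B]
  (S : Type u) [CommRing S] [Algebra A S]

lemma exactAt_fibre (E0 : DRing.Cx B) (b0 : ℤ) (hvan : DRing.VanishesAbove E0 b0)
    (hff : DRing.TermwiseFiniteFree E0) (a b : ℤ)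
    (hKa : DRing.HasTorAmplitudeIn A a b ((DRing.restrictD (algebraMap A B)).obj (DRing.toD E0)))
    (i : ℤ) (hi : i < a ∨ b < i) :
    (bcCx (S ⊗[A] B) E0).ExactAt i := by
  have h1 := hasTorAmplitudeIn_restrict_bcCx (R' := S) E0 b0 hvan hff a b hKa
  rw [Groth.Agent.Lib.FlatAmp.hasTorAmplitudeIn_iff_pa] at h1
  have h2 := isZero_homology_of_pa h1 i hi
  have h3 := h2.of_iso ((mapDerivedCategoryHomologyIso
    (ModuleCat.restrictScalars.{u} (algebraMap S (S ⊗[A] B))) i).app
      (DRing.toD (bcCx (S ⊗[A] B) E0))).symm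
  have h4 : IsZero ((DerivedCategory.homologyFunctor (ModuleCat.{u} (S ⊗[A] B)) i).obj
      (DRing.toD (bcCx (S ⊗[A] B) E0))) := by
    have : Subsingleton ((ModuleCat.restrictScalars.{u} (algebraMap S (S ⊗[A] B))).obj
        ((DerivedCategory.homologyFunctor (ModuleCat.{u} (S ⊗[A] B)) i).obj
          (DRing.toD (bcCx (S ⊗[A] B) E0)))) := ModuleCat.subsingleton_of_isZero h3
    have : Subsingleton ((DerivedCategory.homologyFunctor (ModuleCat.{u} (S ⊗[A] B)) i).obj
        (DRing.toD (bcCx (S ⊗[A] B) E0))) := this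
    exact ModuleCat.isZero_of_subsingleton _
  rw [HomologicalComplex.exactAt_iff_isZero_homology]
  exact h4.of_iso ((DerivedCategory.homologyFunctorFactors _ i).app _).symm

end fibre


section basechange

variable {S' L : Type u} [CommRing S'] [CommRing L] (θ : S' →+* L)

lemma exactAt_extend_of_quasiIso (C F : CochainComplex (ModuleCat.{u} S') ℤ) (b0 : ℤ)
    (hCb : ∀ i : ℤ, b0 < i → IsZero (C.X i))
    (hCt : ∀ i : ℤ, Module.Projective S' (C.X i))
    (hFt : ∀ i : ℤ, Module.Projective S' (F.X i))
    (a' b : ℤ) (hFv : ∀ i : ℤ, i < a' ∨ b < i → IsZero (F.X i))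
    (ψ : F ⟶ C) [QuasiIso ψ] (i : ℤ) (hi : i < a' ∨ b < i) :
    (((ModuleCat.extendScalars.{u, u, u} θ).mapHomologicalComplex (ComplexShape.up ℤ)).obj C).ExactAt i := by
  have hq : QuasiIso (((ModuleCat.extendScalars.{u, u, u} θ).mapHomologicalComplex
      (ComplexShape.up ℤ)).map ψ) :=
    Groth.Agent.Lib.LBaseChangeFlat.quasiIso_map_of_flat
      (Groth.Agent.Lib.LBaseChangeFlat.killsFlatAcyclic_extendScalars' θ) ψ
      (fun i => by have := hFt i; infer_instance) (fun i => by have := hCt i; infer_instance)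
      (max b b0)
      (fun i hi => hFv i (Or.inr (lt_of_le_of_lt (le_max_left _ _) hi)))
      (fun i hi => hCb i (lt_of_le_of_lt (le_max_right _ _) hi))
  have hz : IsZero ((((ModuleCat.extendScalars.{u, u, u} θ).mapHomologicalComplex
      (ComplexShape.up ℤ)).obj F).homology i) := by
    rw [← HomologicalComplex.exactAt_iff_isZero_homology]
    exact ShortComplex.exact_of_isZero_X₂ _ ((ModuleCat.extendScalars.{u, u, u} θ).map_isZero (hFv i hi))
  have i1 : IsIso (HomologicalComplex.homologyMap
      (((ModuleCat.extendScalars.{u, u, u} θ).mapHomologicalComplex (ComplexShape.up ℤ)).map ψ) i) :=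
    (quasiIsoAt_iff_isIso_homologyMap _ i).mp (hq.quasiIsoAt i)
  rw [HomologicalComplex.exactAt_iff_isZero_homology]
  exact hz.of_iso (@asIso _ _ _ _ _ i1).symm

variable {B : Type u} [CommRing B] (f : B →+* S')

/-- transitivity of extension of scalars, for complexes -/
noncomputable def extendCompCx (E : CochainComplex (ModuleCat.{u} B) ℤ) :
    ((ModuleCat.extendScalars.{u, u, u} (θ.comp f)).mapHomologicalComplex (ComplexShape.up ℤ)).obj E ≅
    ((ModuleCat.extendScalars.{u, u, u} θ).mapHomologicalComplex (ComplexShape.up ℤ)).obj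
      (((ModuleCat.extendScalars.{u, u, u} f).mapHomologicalComplex (ComplexShape.up ℤ)).obj E) :=
  HomologicalComplex.Hom.isoOfComponents
    (fun n => (ModuleCat.extendScalarsComp f θ).app (E.X n))
    (fun i j _ => ((ModuleCat.extendScalarsComp f θ).hom.naturality (E.d i j)).symm)

end basechange

section main

open Groth.Agent.Lib.FlatBaseChangeD

attribute [local instance] Algebra.TensorProduct.rightAlgebra

variable {A B : Type u} [CommRing A] [CommRing B] [Algebra A B]

/-- the map `κ(p) ⊗_A B → B/m` for `p = m ∩ A` -/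
noncomputable def thetaHom (m : Ideal B) [m.IsMaximal] :
    (m.comap (algebraMap A B)).ResidueField ⊗[A] B →ₐ[A] B ⧸ m :=
  Algebra.TensorProduct.productMap
    (Ideal.ResidueField.liftₐ (m.comap (algebraMap A B)) (Algebra.ofId A (B ⧸ m))
      (by
        intro x hx
        rw [RingHom.mem_ker]
        change algebraMap A (B ⧸ m) x = 0
        rw [IsScalarTower.algebraMap_apply A B (B ⧸ m), Ideal.Quotient.algebraMap_eq,
          Ideal.Quotient.eq_zero_iff_mem]
        exact hx)
      (by
        intro x hx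
        have hne : algebraMap A (B ⧸ m) x ≠ 0 := by
          rw [IsScalarTower.algebraMap_apply A B (B ⧸ m), Ideal.Quotient.algebraMap_eq, Ne,
            Ideal.Quotient.eq_zero_iff_mem]
          exact hx
        obtain ⟨y, hy⟩ := ((Ideal.Quotient.maximal_ideal_iff_isField_quotient m).mp
          inferInstance).mul_inv_cancel hne
        exact IsUnit.of_mul_eq_one _ hy))
    (IsScalarTower.toAlgHom A B (B ⧸ m))

lemma thetaHom_comp (m : Ideal B) [m.IsMaximal] :
    (thetaHom (A := A) m).toRingHom.comp
      (algebraMap B ((m.comap (algebraMap A B)).ResidueField ⊗[A] B)) = Ideal.Quotient.mk m := by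
  ext x
  change thetaHom (A := A) m ((1 : (m.comap (algebraMap A B)).ResidueField) ⊗ₜ[A] x) = _
  simp [thetaHom]


/-- Let A → B be a flat homomorphism of commutative rings and d a natural number such that for every
prime p of A, with residue field κ(p), every module over κ(p) ⊗_A B has projective dimension at most
d; assume the derived tensor products - ⊗^L M exist on D(κ(p) ⊗_A B) for all p and the derived base
changes D(B) → D(B/m) exist for all ideals m of B. Let a, b be integers and K an object of D(B)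
which is pseudo-coherent over B and, with scalars restricted to A, has tor amplitude in [a, b]. Then
K is perfect over B and has tor amplitude in [a - d, b] over B. -/
theorem result {A B : Type u} [CommRing A] [CommRing B] [Algebra A B]
    [Module.Flat A B] (d : ℕ)
    (hgl : ∀ (p : PrimeSpectrum A) (M : Type u) [AddCommGroup M]
      [Module (TensorProduct A p.asIdeal.ResidueField B) M],
      HasProjectiveDimensionLT (ModuleCat.of (TensorProduct A p.asIdeal.ResidueField B) M) (d + 1))
    [∀ (p : PrimeSpectrum A) (M : ModuleCat.{u} (TensorProduct A p.asIdeal.ResidueField B)),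
      DRing.HasLTensor (TensorProduct A p.asIdeal.ResidueField B) M]
    [∀ m : Ideal B, DRing.HasLBaseChange (Ideal.Quotient.mk m)] (a b : ℤ) (K : Dual.D B)
    (hK : DRing.IsPseudoCoherent' B K)
    (hKa : DRing.HasTorAmplitudeIn A a b ((DRing.restrictD (algebraMap A B)).obj K)) :
    DRing.IsPerfect B K ∧ DRing.HasTorAmplitudeIn B (a - d) b K := by
  have hK0 := hK
  obtain ⟨E0, b0, hvan, hff, ⟨iK⟩⟩ := hK
  have hKa' : DRing.HasTorAmplitudeIn A a b
      ((DRing.restrictD (algebraMap A B)).obj (DRing.toD E0)) :=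
    hasTorAmplitudeIn_of_iso (A := A) ((DRing.restrictD (algebraMap A B)).mapIso iK.symm) hKa
  have hE0le : E0.IsStrictlyLE b0 := by
    rw [CochainComplex.isStrictlyLE_iff]; exact hvan
  have hE0proj : ∀ i : ℤ, Projective (E0.X i) := fun i => by
    have := (hff i).2
    have : Module.Projective B (E0.X i) := Module.Projective.of_free
    exact ModuleCat.projective_of_categoryTheory_projective (E0.X i)
  refine Groth.Agent.S6974.result B K hK0 (a - d) b ?_
  intro m hm i hi
  haveI := hm
  let pS : PrimeSpectrum A := ⟨m.comap (algebraMap A B), inferInstance⟩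
  have hexC : ∀ j : ℤ, (j < a ∨ b < j) →
      (bcCx ((m.comap (algebraMap A B)).ResidueField ⊗[A] B) E0).ExactAt j := fun j hj =>
    exactAt_fibre (m.comap (algebraMap A B)).ResidueField E0 b0 hvan hff a b hKa' j hj
  have hCb : ∀ j : ℤ, b0 < j →
      IsZero ((bcCx ((m.comap (algebraMap A B)).ResidueField ⊗[A] B) E0).X j) :=
    vanishesAbove_bcCx hvan
  have hCt : ∀ j : ℤ,
      Module.Finite ((m.comap (algebraMap A B)).ResidueField ⊗[A] B)
        ((bcCx ((m.comap (algebraMap A B)).ResidueField ⊗[A] B) E0).X j) ∧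
      Module.Projective ((m.comap (algebraMap A B)).ResidueField ⊗[A] B)
        ((bcCx ((m.comap (algebraMap A B)).ResidueField ⊗[A] B) E0).X j) := fun j => by
    have h := termwiseFiniteFree_bcCx (B := (m.comap (algebraMap A B)).ResidueField ⊗[A] B) hff j
    have := h.2
    exact ⟨h.1, Module.Projective.of_free⟩
  obtain ⟨F, hFt, hFv, ψ, hψ⟩ := exists_bounded_rep_of_gldim
    ((m.comap (algebraMap A B)).ResidueField ⊗[A] B) d (fun M => hgl pS M)
    (bcCx ((m.comap (algebraMap A B)).ResidueField ⊗[A] B) E0) b0 hCb hCt a b hexC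
  have hex := exactAt_extend_of_quasiIso (thetaHom (A := A) m).toRingHom
    (bcCx ((m.comap (algebraMap A B)).ResidueField ⊗[A] B) E0) F b0 hCb
    (fun j => (hCt j).2) (fun j => (hFt j).2) (a - d) b hFv ψ i hi
  have hex2 : (((ModuleCat.extendScalars.{u, u, u} (Ideal.Quotient.mk m)).mapHomologicalComplex
      (ComplexShape.up ℤ)).obj E0).ExactAt i := by
    rw [← thetaHom_comp (A := A) m]
    rw [HomologicalComplex.exactAt_iff_isZero_homology] at hex ⊢
    exact hex.of_iso ((HomologicalComplex.homologyFunctor _ _ i).mapIso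
      (extendCompCx (thetaHom (A := A) m).toRingHom
        (algebraMap B ((m.comap (algebraMap A B)).ResidueField ⊗[A] B)) E0))
  have e := (DRing.LBaseChange (Ideal.Quotient.mk m)).mapIso iK.symm ≪≫
    Groth.Agent.Lib.LBaseChangeKProj.lbcIsoOfBdd (Ideal.Quotient.mk m) E0 b0
  have hz : IsZero ((DerivedCategory.homologyFunctor (ModuleCat.{u} (B ⧸ m)) i).obj
      ((DRing.LBaseChange (Ideal.Quotient.mk m)).obj K)) :=
    ((HomologicalComplex.exactAt_iff_isZero_homology _ _).mp hex2).of_iso
      ((DerivedCategory.homologyFunctor _ i).mapIso e ≪≫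
        (DerivedCategory.homologyFunctorFactors _ i).app _)
  exact ModuleCat.subsingleton_of_isZero hz

end main

end Groth.Agent.S7035
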