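-- Statement S7040; proof by helper61.
import Groth.Statements.S7040
import Groth.Agent.Lib.PowerTorsion
import Mathlib.Algebra.Homology.ShortComplex.ModuleCat
import Mathlib.Algebra.Category.ModuleCat.EpiMono

set_option autoImplicit false
universe u
open CategoryTheory
open LocCoh

namespace Groth.Agent.S7040

/-- For a finitely generated ideal I of a commutative ring R, the property of being an I-power torsion
module (every element killed by a power of I) is a Serre class in the category of R-modules: it
holds for 0 and is closed under subobjects, quotients and extensions. -/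
theorem result {R : Type u} [CommRing R] (I : Ideal R) (hI : I.FG) :
    ObjectProperty.IsSerreClass (C := ModuleCat.{u} R) (fun M => LocCoh.IsPowerTorsion I M) := by
  refine { exists_zero := ?_, prop_of_mono := ?_, prop_of_epi := ?_, prop_X₂_of_shortExact := ?_ }
  · refine ⟨ModuleCat.of R PUnit, ModuleCat.isZero_of_subsingleton _, ?_⟩
    intro m
    exact ⟨0, fun a _ => Subsingleton.elim _ _⟩
  · intro X Y f hf hY x
    have hinj : Function.Injective f := (ModuleCat.mono_iff_injective f).mp hf
    obtain ⟨n, hn⟩ := hY (f x)
    refine ⟨n, fun a ha => hinj ?_⟩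
    rw [map_smul, hn a ha, map_zero]
  · intro X Y f hf hX y
    have hsurj : Function.Surjective f := (ModuleCat.epi_iff_surjective f).mp hf
    obtain ⟨x, rfl⟩ := hsurj y
    obtain ⟨n, hn⟩ := hX x
    refine ⟨n, fun a ha => ?_⟩
    rw [← map_smul, hn a ha, map_zero]
  · intro S hS h₁ h₃ m
    have hex := (ShortComplex.moduleCat_exact_iff S).mp hS.exact
    obtain ⟨n, hn⟩ := h₃ (S.g m)
    apply Groth.Agent.Lib.PowerTorsion.exists_pow_smul_eq_zero_of_fg_pow I hI n m
    intro a ha
    have h0 : S.g (a • m) = 0 := by rw [map_smul, hn a ha]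
    obtain ⟨x₁, hx₁⟩ := hex (a • m) h0
    obtain ⟨k, hk⟩ := h₁ x₁
    refine ⟨k, fun b hb => ?_⟩
    rw [← hx₁, ← map_smul, hk b hb, map_zero]

end Groth.Agent.S7040
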