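-- Statement S7041; proof by helper61.
import Groth.Statements.S7041
import Mathlib.Algebra.Colimit.TensorProduct
import Mathlib.Algebra.Module.Torsion.Basic

set_option autoImplicit false
universe u
open TensorProduct
open LocCoh

namespace Groth.Agent.S7041

section Retraction

variable {R R' : Type u} [CommRing R] [CommRing R'] [Algebra R R']

/-- If `R/J → R'/JR'` is bijective and `J` kills `N`, then `x ↦ x ⊗ 1 : N → N ⊗ R'` has an
`R`-linear retraction. -/
theorem exists_retraction (J : Ideal R)
    (hq : Function.Bijective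
      (Ideal.quotientMap (Ideal.map (algebraMap R R') J) (algebraMap R R') Ideal.le_comap_map))
    (N : Type u) [AddCommGroup N] [Module R N] (hN : ∀ a ∈ J, ∀ x : N, a • x = 0) :
    ∃ ρ : N ⊗[R] R' →ₗ[R] N, ∀ x, ρ (x ⊗ₜ 1) = x := by
  have hT : Module.IsTorsionBySet R N (J : Set R) := fun x a => hN a a.2 x
  let _ := hT.module
  let e : R ⧸ J ≃+* R' ⧸ Ideal.map (algebraMap R R') J := RingEquiv.ofBijective _ hq
  let ψ : R' →+* R ⧸ J := e.symm.toRingHom.comp (Ideal.Quotient.mk _)
  have hψ : ∀ r : R, ψ (algebraMap R R' r) = Ideal.Quotient.mk J r := by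
    intro r
    show e.symm (Ideal.Quotient.mk _ (algebraMap R R' r)) = Ideal.Quotient.mk J r
    rw [RingEquiv.symm_apply_eq]
    show _ = Ideal.quotientMap (Ideal.map (algebraMap R R') J) (algebraMap R R')
      Ideal.le_comap_map (Ideal.Quotient.mk J r)
    rw [Ideal.quotientMap_mk]
  have hmk : ∀ (c : R) (x : N), (Ideal.Quotient.mk J c) • x = c • x := fun c x => rfl
  let B : N →ₗ[R] R' →ₗ[R] N := LinearMap.mk₂ R (fun x r' => ψ r' • x)
    (fun x y r' => smul_add _ _ _)
    (fun c x r' => by
      show ψ r' • (c • x) = c • (ψ r' • x)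
      rw [← hmk c x, ← hmk c (ψ r' • x), smul_smul, smul_smul, mul_comm])
    (fun x r' s' => by
      show ψ (r' + s') • x = ψ r' • x + ψ s' • x
      rw [map_add, add_smul])
    (fun c x r' => by
      show ψ (c • r') • x = c • (ψ r' • x)
      rw [Algebra.smul_def, map_mul, hψ, ← smul_smul, hmk])
  refine ⟨TensorProduct.lift B, fun x => ?_⟩
  rw [TensorProduct.lift.tmul]
  show ψ 1 • x = x
  rw [map_one, one_smul]

end Retraction

/-- Let R → R' be a homomorphism of commutative rings and I an ideal of R such that the induced map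
R/I^n → R'/I^n R' is bijective for every n > 0. Then for every R-module M in which every element is
killed by a power of I, the map M → R' ⊗_R M sending m to 1 ⊗ m is bijective. -/
theorem result {R R' : Type u} [CommRing R] [CommRing R'] [Algebra R R']
    (I : Ideal R)
    (hq : ∀ n : ℕ, 0 < n → Function.Bijective
      (Ideal.quotientMap (Ideal.map (algebraMap R R') (I ^ n)) (algebraMap R R') Ideal.le_comap_map))
    (M : Type u) [AddCommGroup M] [Module R M] (hM : LocCoh.IsPowerTorsion I M) :
    Function.Bijective (fun m : M => (1 : R') ⊗ₜ[R] m) := by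
  classical
  constructor
  · -- injectivity
    intro m₁ m₂ h
    have h0 : (1 : R') ⊗ₜ[R] (m₁ - m₂) = 0 := by
      rw [tmul_sub]; exact sub_eq_zero.mpr h
    suffices hm : m₁ - m₂ = 0 from sub_eq_zero.mp hm
    set m := m₁ - m₂ with hm_def
    have h1 : m ⊗ₜ[R] (1 : R') = 0 := by
      have := congrArg (TensorProduct.comm R R' M) h0
      simpa using this
    let N₀ : Submodule R M := Submodule.span R {m}
    have hmN₀ : m ∈ N₀ := Submodule.subset_span rfl
    have heq : N₀.subtype.rTensor R' ((⟨m, hmN₀⟩ : N₀) ⊗ₜ[R] (1 : R')) =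
        N₀.subtype.rTensor R' 0 := by
      rw [map_zero, LinearMap.rTensor_tmul]
      exact h1
    obtain ⟨N', hN'fg, hle, heq'⟩ :=
      (Submodule.fg_span_singleton m).exists_rTensor_fg_inclusion_eq heq
    rw [map_zero, LinearMap.rTensor_tmul] at heq'
    -- a single power of `I` kills `N'`
    obtain ⟨S, hS⟩ := hN'fg
    choose n hn using hM
    have hkill' : ∀ a ∈ I ^ (S.sup n + 1), ∀ x ∈ Submodule.span R (S : Set M), a • x = 0 := by
      intro a ha x hx
      induction hx using Submodule.span_induction with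
      | mem s hs =>
        exact hn s a (Ideal.pow_le_pow_right ((Finset.le_sup hs).trans (Nat.le_succ _)) ha)
      | zero => exact smul_zero a
      | add x y _ _ hx hy => rw [smul_add, hx, hy, add_zero]
      | smul c x _ hx => rw [smul_comm, hx, smul_zero]
    have hkill : ∀ a ∈ I ^ (S.sup n + 1), ∀ x : N', a • x = 0 := by
      intro a ha x
      apply Subtype.ext
      rw [Submodule.coe_smul, Submodule.coe_zero]
      exact hkill' a ha x (hS ▸ x.2)
    obtain ⟨ρ, hρ⟩ := exists_retraction (I ^ (S.sup n + 1)) (hq _ (Nat.succ_pos _)) N' hkill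
    have h2 := hρ (N₀.inclusion hle ⟨m, hmN₀⟩)
    rw [heq', map_zero] at h2
    have h3 := congrArg Subtype.val h2
    simpa using h3.symm
  · -- surjectivity
    intro z
    induction z using TensorProduct.induction_on with
    | zero => exact ⟨0, tmul_zero _ _⟩
    | tmul r' m =>
      obtain ⟨n, hn⟩ := hM m
      have hn' : ∀ a ∈ I ^ (n + 1), a • m = 0 :=
        fun a ha => hn a (Ideal.pow_le_pow_right (Nat.le_succ n) ha)
      obtain ⟨rbar, hr⟩ := (hq (n + 1) (Nat.succ_pos n)).2 (Ideal.Quotient.mk _ r')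
      obtain ⟨r, rfl⟩ := Ideal.Quotient.mk_surjective rbar
      rw [Ideal.quotientMap_mk, Ideal.Quotient.eq] at hr
      have hJ : ∀ y ∈ Ideal.map (algebraMap R R') (I ^ (n + 1)), y ⊗ₜ[R] m = 0 := by
        intro y hy
        rw [Ideal.map] at hy
        induction hy using Submodule.span_induction with
        | mem y hy =>
          obtain ⟨a, ha, rfl⟩ := hy
          rw [Algebra.algebraMap_eq_smul_one, smul_tmul, hn' a ha, tmul_zero]
        | zero => exact zero_tmul _ _
        | add x y _ _ hx hy => rw [add_tmul, hx, hy, add_zero]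
        | smul c x _ hx =>
          rw [smul_eq_mul, ← smul_eq_mul, ← smul_tmul', hx, smul_zero]
      refine ⟨r • m, ?_⟩
      show (1 : R') ⊗ₜ[R] (r • m) = r' ⊗ₜ[R] m
      have h4 : r' = algebraMap R R' r - (algebraMap R R' r - r') := by ring
      rw [h4, sub_tmul, hJ _ hr, sub_zero, Algebra.algebraMap_eq_smul_one, smul_tmul]
    | add x y hx hy =>
      obtain ⟨m₁, hm₁⟩ := hx
      obtain ⟨m₂, hm₂⟩ := hy
      exact ⟨m₁ + m₂, by show (1 : R') ⊗ₜ[R] (m₁ + m₂) = x + y; rw [tmul_add]; exact congrArg₂ _ hm₁ hm₂⟩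

end Groth.Agent.S7041
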