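import Groth.Statements.S7042
-- import your own Groth.Agent.* helpers here
import Groth.Agent.Lib.SeqComplete2

set_option autoImplicit false
universe u
attribute [local instance] HasDerivedCategory.standard
open DRing

namespace Groth.Agent.S7042

/-- Let I be a finitely generated ideal of a commutative ring A and let M be an A-module which, placed
in degree 0, is derived complete with respect to I, and in which every element is killed by a power
of I. Then a single power of I kills M. -/
theorem result {A : Type u} [CommRing A]
    (I : Ideal A) (hI : I.FG) (M : Type u) [AddCommGroup M] [Module A M]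
    (hc : DRing.IsDerivedComplete I (Dual.inD A M)) (ht : LocCoh.IsPowerTorsion I M) :
    ∃ n : ℕ, I ^ n • (⊤ : Submodule A M) = ⊥ := by
  classical
  obtain ⟨s, rfl⟩ := hI
  exact Groth.Agent.Lib.SeqComplete.exists_pow_smul_top_eq_bot s M
    (fun g hg => Groth.Agent.Lib.SeqComplete.of_isDerivedComplete _ hc g
      (Ideal.subset_span hg)) ht

end Groth.Agent.S7042
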