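-- Statement S7043; proof by helper61.
import Groth.Statements.S7043
import Groth.Agent.Lib.DerivedComplete
import Mathlib.Tactic.LinearCombination

set_option autoImplicit false
universe u
attribute [local instance] HasDerivedCategory.standard
open DRing

namespace Groth.Agent.S7043

/-- Let f be an element of a commutative ring A and let M be an A-module which, placed in degree 0, is
derived complete with respect to the ideal (f). Then the ideal J = ⋂ f^n A annihilates the submodule
⋂ f^n M, which is the kernel of M → lim M/f^n M. (The case M = A says that J has square zero when A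
itself is derived complete.) -/
theorem result {A : Type u} [CommRing A] (f : A)
    (M : Type u) [AddCommGroup M] [Module A M]
    (hc : DRing.IsDerivedComplete (Ideal.span {f}) (Dual.inD A M)) :
    (⨅ n : ℕ, Ideal.span {f ^ n}) • (⨅ n : ℕ, (Ideal.span {f ^ n}) • (⊤ : Submodule A M)) = (⊥ : Submodule A M) := by
  rw [eq_bot_iff, Submodule.smul_le]
  intro a ha m hm
  rw [Submodule.mem_bot]
  have ha' : ∀ n : ℕ, ∃ b : A, b * f ^ n = a := fun n =>
    Ideal.mem_span_singleton'.mp ((Submodule.mem_iInf _).mp ha n)
  have hm' : ∀ n : ℕ, ∃ y : M, f ^ n • y = m := by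
    intro n
    have h1 := (Submodule.mem_iInf _).mp hm n
    rw [Submodule.ideal_span_singleton_smul, Submodule.mem_smul_pointwise_iff_exists] at h1
    obtain ⟨y, -, hy⟩ := h1
    exact ⟨y, hy⟩
  choose b hb using ha'
  choose y hy using hm'
  have hu : ∀ n, b n • m = f • (b (n + 1) • m) := by
    intro n
    rw [← sub_eq_zero, smul_smul, ← sub_smul]
    conv_lhs => rw [← hy n]
    rw [smul_smul]
    have : (b n - f * b (n + 1)) * f ^ n = 0 := by
      have h1 := hb n
      have h2 := hb (n + 1)
      rw [pow_succ] at h2
      linear_combination h1 - h2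
    rw [this, zero_smul]
  have h0 := Groth.Agent.Lib.DerivedComplete.seq_eq_zero (Ideal.span {f}) hc f
    (Ideal.subset_span rfl) (fun n => b n • m) hu 0
  have hb0 : b 0 = a := by
    have := hb 0
    rwa [pow_zero, mul_one] at this
  rw [← hb0]
  exact h0

end Groth.Agent.S7043
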