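import Groth.Statements.S7046
-- import your own Groth.Agent.* helpers here
import Groth.Agent.Lib.SeqComplete

set_option autoImplicit false
universe u
attribute [local instance] HasDerivedCategory.standard
open DRing

namespace Groth.Agent.S7046

/-- A reduced commutative ring A which, placed in degree 0 of D(A), is derived complete with respect to
a finitely generated ideal I is I-adically complete, i.e. separated and complete for the I-adic
topology. -/
theorem result {A : Type u} [CommRing A] [IsReduced A]
    (I : Ideal A) (hI : I.FG) (hc : DRing.IsDerivedComplete I (Dual.inD A A)) :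
    IsAdicComplete I A := by
  classical
  obtain ⟨s, rfl⟩ := hI
  have hpre : IsPrecomplete (Ideal.span (s : Set A)) A :=
    Groth.Agent.Lib.SeqComplete.isPrecomplete_of_surj s fun g hg m =>
      Groth.Agent.Lib.DerivedComplete.exists_seq _ hc g (Ideal.subset_span hg) m
  have hJ := Groth.Agent.Lib.SeqComplete.iInf_pow_pow_eq_bot_list s.card A s.toList
    (Finset.length_toList s) (fun g hg =>
      Groth.Agent.Lib.SeqComplete.of_isDerivedComplete _ hc g
        (Ideal.subset_span (Finset.mem_toList.mp hg)))
  have hset : {x | x ∈ s.toList} = (s : Set A) := by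
    ext x
    simp
  rw [hset] at hJ
  have hhaus : IsHausdorff (Ideal.span (s : Set A)) A := by
    refine ⟨fun x hx => ?_⟩
    have hxJ : x ∈ ⨅ n : ℕ, (Ideal.span (s : Set A)) ^ n := by
      rw [Ideal.mem_iInf]
      intro n
      have := hx n
      rw [SModEq.zero, smul_eq_mul, Ideal.mul_top] at this
      exact this
    have hpow : x ^ (2 ^ s.card) ∈ (⨅ n : ℕ, (Ideal.span (s : Set A)) ^ n) ^ (2 ^ s.card) :=
      Ideal.pow_mem_pow hxJ _
    rw [hJ, Ideal.mem_bot] at hpow
    exact (IsReduced.eq_zero x ⟨_, hpow⟩)
  exact { toIsHausdorff := hhaus, toIsPrecomplete := hpre }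

end Groth.Agent.S7046
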