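-- Statement S7052; proof by helper61.
import Groth.Statements.S7052
import Mathlib.Algebra.Homology.DerivedCategory.SingleTriangle
import Mathlib.Algebra.Homology.ShortComplex.ModuleCat
import Mathlib.CategoryTheory.Triangulated.Pretriangulated
import Mathlib.CategoryTheory.Triangulated.TriangleShift

set_option autoImplicit false
universe u
attribute [local instance] HasDerivedCategory.standard
open DRing

namespace Groth.Agent.S7052

open CategoryTheory CategoryTheory.Limits Pretriangulated

/-- In a distinguished triangle, if `Hom(X, -[n])` vanishes on the outer terms, it vanishes on the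
middle one. -/
theorem subsingleton_hom_obj₂ {C : Type*} [Category C] [Preadditive C] [HasZeroObject C]
    [HasShift C ℤ] [∀ n : ℤ, (shiftFunctor C n).Additive] [Pretriangulated C]
    (T : Triangle C) (hT : T ∈ distTriang C) (X : C) (n : ℤ)
    (h₁ : Subsingleton (X ⟶ T.obj₁⟦n⟧)) (h₃ : Subsingleton (X ⟶ T.obj₃⟦n⟧)) :
    Subsingleton (X ⟶ T.obj₂⟦n⟧) := by
  have hT' := Triangle.shift_distinguished T hT n
  suffices H : ∀ g : X ⟶ T.obj₂⟦n⟧, g = 0 from ⟨fun g g' => by rw [H g, H g']⟩
  intro g
  obtain ⟨h, hh⟩ := Triangle.coyoneda_exact₂ _ hT' g (h₃.elim _ _)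
  have h0 : h = 0 := h₁.elim _ _
  rw [hh, h0, zero_comp]
  rfl

/-- For a commutative ring A, an ideal I, an A-module M and a submodule M₁ such that both M₁ and M/M₁
(placed in degree 0) are derived complete with respect to I, the module M is derived complete with
respect to I. -/
theorem result {A : Type u} [CommRing A] (I : Ideal A)
    (M : Type u) [AddCommGroup M] [Module A M] (M₁ : Submodule A M)
    (h1 : DRing.IsDerivedComplete I (Dual.inD A M₁)) (h3 : DRing.IsDerivedComplete I (Dual.inD A (M ⧸ M₁))) :
    DRing.IsDerivedComplete I (Dual.inD A M) := by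
  intro f hf n
  let S : ShortComplex (ModuleCat.{u} A) :=
    ShortComplex.mk (ModuleCat.ofHom M₁.subtype) (ModuleCat.ofHom M₁.mkQ) (by ext x; simp)
  have hS : S.ShortExact := by
    apply ModuleCat.shortComplex_shortExact
    · intro x
      show M₁.mkQ x = 0 ↔ x ∈ Set.range M₁.subtype
      simp
    · exact M₁.injective_subtype
    · exact M₁.mkQ_surjective
  exact subsingleton_hom_obj₂ hS.singleTriangle hS.singleTriangle_distinguished _ n
    (h1 f hf n) (h3 f hf n)

end Groth.Agent.S7052
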