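import Groth.Statements.S7054
import Groth.Agent.Lib.DDerComplete
import Groth.Agent.Lib.SeqCompleteConverse
import Groth.Agent.Lib.SeqComplete2
import Groth.Agent.Lib.TwoTermRepD2

set_option autoImplicit false
universe u
attribute [local instance] HasDerivedCategory.standard
open DRing

namespace Groth.Agent.S7054

/-- For a commutative ring A and an ideal I such that A, placed in degree 0, is derived complete with
respect to I, every object of D(A) isomorphic to a bounded above complex of finite free A-modules is
derived complete with respect to I. -/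
theorem result {A : Type u} [CommRing A] (I : Ideal A)
    (hA : DRing.IsDerivedComplete I (Dual.inD A A)) (K : Dual.D A) (hK : DRing.IsPseudoCoherent' A K) :
    DRing.IsDerivedComplete I K := by
  rw [Groth.Agent.Lib.DDerComplete.isDerivedComplete_iff_homology]
  intro i
  apply Groth.Agent.Lib.SeqComplete.isDerivedComplete_of_isSeqComplete
  intro f hf
  have hAf : Groth.Agent.Lib.SeqComplete.IsSeqComplete f A :=
    Groth.Agent.Lib.SeqComplete.of_isDerivedComplete I hA f hf
  obtain ⟨E, b, hb, hE, ⟨e⟩⟩ := hK
  have hX : ∀ j : ℤ, Groth.Agent.Lib.SeqComplete.IsSeqComplete f (E.X j) := by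
    intro j
    obtain ⟨hfin, hfree⟩ := hE j
    let bas := Module.Free.chooseBasis A (E.X j)
    exact Groth.Agent.Lib.SeqComplete.of_linearEquiv
      (Groth.Agent.Lib.SeqComplete.pi (ι := Module.Free.ChooseBasisIndex A (E.X j)) hAf)
      bas.equivFun.symm
  let φ := Groth.Agent.Lib.TwoTermRep.homologyEquiv K E e.symm (i - 1) i (i + 1) (by simp)
    (by simp)
  refine Groth.Agent.Lib.SeqComplete.of_linearEquiv ?_ φ.symm
  exact Groth.Agent.Lib.SeqComplete.quotient_range (hX (i - 1))
    (Groth.Agent.Lib.SeqComplete.ker (hX i) (hX (i + 1)) _) _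

end Groth.Agent.S7054
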