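import Groth.Statements.S7058
import Groth.Agent.Lib.TKfMod
-- import your own Groth.Agent.* helpers here

set_option autoImplicit false
universe u
attribute [local instance] HasDerivedCategory.standard
open CategoryTheory
open DRing

namespace Groth.Agent.S7058

/-- Let A be a commutative ring, I a finitely generated ideal, and assume the derived completion functor
(left adjoint to the inclusion of derived complete objects of D(A)) exists. If K is a cochain
complex of A-modules and some f in I acts bijectively on every term of K, then the derived
completion of K is zero. -/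
theorem result {A : Type u} [CommRing A] (I : Ideal A) (hI : I.FG)
    [DRing.HasDerivedCompletion I] (K : DRing.Cx A) (f : A) (hf : f ∈ I)
    (hK : ∀ i : ℤ, Function.Bijective (fun x : K.X i => f • x)) :
    Limits.IsZero ((DRing.derivedCompletion I).obj (DRing.toD K)).obj := by
  set X := (DRing.derivedCompletion I).obj (DRing.toD K) with hX
  have hiso := Groth.Agent.Lib.TKfMod.isIso_smul_Q_of_bijective f K hK
  -- all maps from `K` to derived complete objects vanish
  have h1 : ∀ g : DRing.toD K ⟶ (ObjectProperty.ι (DRing.IsDerivedComplete I)).obj X, g = 0 :=
    fun g => Groth.Agent.Lib.TKfMod.hom_eq_zero_of_DC f _ (X.property f hf) _ hiso g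
  have h2 : (𝟙 X : X ⟶ X) = 0 := by
    apply ((DRing.derivedCompletionAdj I).homEquiv (DRing.toD K) X).injective
    rw [h1 (((DRing.derivedCompletionAdj I).homEquiv (DRing.toD K) X) (𝟙 X)),
      h1 (((DRing.derivedCompletionAdj I).homEquiv (DRing.toD K) X) 0)]
  rw [Limits.IsZero.iff_id_eq_zero]
  have h3 := congrArg (fun m => (ObjectProperty.ι (DRing.IsDerivedComplete I)).map m) h2
  simpa using h3

end Groth.Agent.S7058
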