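import Groth.Statements.S7062
import Groth.Agent.Lib.GluePairTor

set_option autoImplicit false
universe u
open EtGlue

namespace Groth.Agent.S7062

/-- For a glueing pair (R → R', f), i.e. R/f^nR → R'/f^nR' is bijective for all n > 0 and the sequence 0
→ R → R' ⊕ R_f → R'_f → 0 is exact, the group Tor_1^R(R', f^n R) vanishes for every n > 0 (Tor
computed by resolving the second argument, the ideal f^n R). -/
theorem result {R R' : Type u} [CommRing R] [CommRing R'] [Algebra R R']
    (f : R) (h : EtGlue.IsGlueingPair R R' f) (n : ℕ) (hn : 0 < n) :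
    Subsingleton (DRing.Tor R 1 R' ↥(Ideal.span ({f ^ n} : Set R))) := by
  let p : R →ₗ[R] ↥(Ideal.span ({f ^ n} : Set R)) :=
    LinearMap.codRestrict (Ideal.span ({f ^ n} : Set R)) (LinearMap.toSpanSingleton R R (f ^ n))
      (fun r => Ideal.mem_span_singleton'.mpr ⟨r, rfl⟩)
  have hp : Function.Surjective p := by
    rintro ⟨x, hx⟩
    obtain ⟨r, rfl⟩ := Ideal.mem_span_singleton'.mp hx
    exact ⟨r, rfl⟩
  refine Groth.Agent.Lib.GluePairTor.subsingleton_tor_one_of_torsion_ker h
    (LinearMap.ker p).subtype p (LinearMap.ker p).injective_subtype hp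
    (LinearMap.exact_subtype_ker_map p) ?_
  rintro ⟨x, hx⟩
  refine ⟨n, ?_⟩
  apply Subtype.ext
  have h1 : p x = 0 := hx
  have h2 : ((p x : ↥(Ideal.span ({f ^ n} : Set R))) : R) = x * f ^ n := rfl
  rw [h1] at h2
  change f ^ n • x = 0
  rw [smul_eq_mul, mul_comm, ← h2]
  rfl

end Groth.Agent.S7062
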