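import Groth.Statements.S7065
import Mathlib.RingTheory.Spectrum.Prime.Topology

set_option autoImplicit false
universe u
open EtGlue

namespace Groth.Agent.S7065

/-- Let R → R' be a homomorphism of commutative rings and f an element of R such that the induced map
R/fR → R'/fR' is bijective. Then Spec(R') ⊔ Spec(R_f) → Spec(R) is surjective: every prime of R is
the contraction of a prime of R' or of a prime of R_f. -/
theorem result {R R' : Type u} [CommRing R] [CommRing R']
    [Algebra R R'] (f : R)
    (hq : Function.Bijective
      (Ideal.quotientMap (Ideal.map (algebraMap R R') (Ideal.span {f})) (algebraMap R R') Ideal.le_comap_map))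
    (p : PrimeSpectrum R) :
    (∃ q : PrimeSpectrum R', PrimeSpectrum.comap (algebraMap R R') q = p) ∨
      ∃ q : PrimeSpectrum (Localization.Away f), PrimeSpectrum.comap (algebraMap R (Localization.Away f)) q = p := by
  by_cases hfp : f ∈ p.asIdeal
  · left
    -- a prime of R ⧸ (f) over p
    have hmem : p ∈ Set.range (PrimeSpectrum.comap (Ideal.Quotient.mk (Ideal.span {f}))) := by
      rw [range_comap_of_surjective _ _ Ideal.Quotient.mk_surjective,
        PrimeSpectrum.mem_zeroLocus, Ideal.mk_ker]
      intro x hx
      obtain ⟨a, rfl⟩ := Ideal.mem_span_singleton'.1 hx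
      exact Ideal.mul_mem_left _ _ hfp
    obtain ⟨pb, hpb⟩ := hmem
    let e := RingEquiv.ofBijective _ hq
    refine ⟨PrimeSpectrum.comap (Ideal.Quotient.mk _)
      (PrimeSpectrum.comap e.symm.toRingHom pb), ?_⟩
    rw [← hpb, ← PrimeSpectrum.comap_comp_apply, ← PrimeSpectrum.comap_comp_apply]
    congr 1
    ext x
    simp only [RingHom.coe_comp, Function.comp_apply, RingEquiv.toRingHom_eq_coe,
      RingHom.coe_coe]
    rw [RingEquiv.symm_apply_eq]
    simp [e]
  · right
    have hmem : p ∈ Set.range (PrimeSpectrum.comap (algebraMap R (Localization.Away f))) := by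
      rw [PrimeSpectrum.localization_comap_range (Localization.Away f) (Submonoid.powers f)]
      show Disjoint _ _
      rw [Set.disjoint_left]
      rintro x ⟨n, rfl⟩ hx
      exact hfp (p.2.mem_of_pow_mem n hx)
    exact hmem

end Groth.Agent.S7065
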