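import Groth.Statements.S7075
import Groth.Agent.Lib.RelPerfBC
import Groth.Agent.Lib.LBaseChangeKProj

set_option autoImplicit false
universe u
attribute [local instance] HasDerivedCategory.standard
open TensorProduct
open Dual2

namespace Groth.Agent.S7075

/-- Let R → A be a flat homomorphism of finite presentation of commutative rings, R → R' any ring map
and A' = R' ⊗_R A. If K in D(A) is R-perfect then its derived base change K ⊗^L_A A' (the total left
derived functor of extension of scalars, assumed to exist) is R'-perfect in D(A'). -/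
theorem result (R A R' : Type u) [CommRing R] [CommRing A] [Algebra R A] [CommRing R'] [Algebra R R']
    [Module.Flat R A] [Algebra.FinitePresentation R A]
    [DRing.HasLBaseChange (Algebra.TensorProduct.includeRight.toRingHom : A →+* R' ⊗[R] A)]
    (K : Dual.D A) (hK : Dual2.IsRelPerfect R A K) :
    Dual2.IsRelPerfect R' (R' ⊗[R] A)
      ((DRing.LBaseChange (Algebra.TensorProduct.includeRight.toRingHom : A →+* R' ⊗[R] A)).obj K) := by
  let _ := Algebra.TensorProduct.rightAlgebra (R := R) (A := R') (B := A)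
  obtain ⟨⟨E, b, vE, hE, ⟨e⟩⟩, ⟨a, c, hTor⟩⟩ := hK
  have hEb : E.IsStrictlyLE b := by
    rw [CochainComplex.isStrictlyLE_iff]
    exact fun i hi => vE i hi
  have hEp : ∀ i, CategoryTheory.Projective (E.X i) := fun i => by
    have := (hE i).1
    have := (hE i).2
    exact ModuleCat.projective_of_categoryTheory_projective (E.X i)
  have e1 : (DRing.LBaseChange
      (Algebra.TensorProduct.includeRight.toRingHom : A →+* R' ⊗[R] A)).obj K ≅
      DRing.toD (Groth.Agent.Lib.FlatBaseChangeD.bcCx (R' ⊗[R] A) E) :=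
    (DRing.LBaseChange _).mapIso e.symm ≪≫
      Groth.Agent.Lib.LBaseChangeKProj.lbcIsoOfBdd
        (Algebra.TensorProduct.includeRight.toRingHom : A →+* R' ⊗[R] A) E b
  refine ⟨⟨Groth.Agent.Lib.FlatBaseChangeD.bcCx (R' ⊗[R] A) E, b,
    Groth.Agent.Lib.FlatBaseChangeD.vanishesAbove_bcCx vE,
    Groth.Agent.Lib.FlatBaseChangeD.termwiseFiniteFree_bcCx hE, ⟨e1.symm⟩⟩, a, c, ?_⟩
  have hTor' : DRing.HasTorAmplitudeIn R a c
      ((DRing.restrictD (algebraMap R A)).obj (DRing.toD E)) :=
    Groth.Agent.Lib.FlatBaseChangeD.hasTorAmplitudeIn_of_iso (A := R)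
      ((DRing.restrictD (algebraMap R A)).mapIso e.symm) hTor
  have h := Groth.Agent.Lib.RelPerfBC.hasTorAmplitudeIn_restrict_bcCx (R' := R') E b vE hE a c hTor'
  exact Groth.Agent.Lib.FlatBaseChangeD.hasTorAmplitudeIn_of_iso (A := R')
    ((DRing.restrictD (algebraMap R' (R' ⊗[R] A))).mapIso e1.symm) h

end Groth.Agent.S7075
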