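import Groth.Statements.S7076
import Mathlib
import Groth.Agent.S6971
import Groth.Agent.Lib.RelPerfBC
import Groth.Agent.Lib.TorAmpTFun21
import Groth.Agent.Lib.KProjBC21
import Groth.Agent.Lib.ProjResolution
import Groth.Agent.Lib.DCopower
import Groth.Agent.Lib.FlatAmp3

set_option autoImplicit false
universe u
attribute [local instance] HasDerivedCategory.standard
open TensorProduct
open Dual2

namespace Groth.Agent.S7076
set_option backward.isDefEq.respectTransparency.types false
set_option linter.unusedSectionVars false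
open CategoryTheory CategoryTheory.Limits MonoidalCategory
attribute [local instance] HasDerivedCategory.standard

section torvanish

open DerivedCategory

variable {R : Type u} [CommRing R]

/-- A bounded above complex of flat modules of tor amplitude in `[a, c]` has `H^q(L ⊗ M) = 0` for
`q ∉ [a, c]`. -/
theorem isZero_TFun_of_hasTorAmplitudeIn (L : DRing.Cx R) (hL : DRing.TermwiseFlat L) (b : ℤ)
    (hb : DRing.VanishesAbove L b) (a c : ℤ) (h : DRing.HasTorAmplitudeIn R a c (DRing.toD L))
    (M : ModuleCat.{u} R) (q : ℤ) (hq : q < a ∨ c < q) :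
    IsZero ((CohIII.TFun L q).obj M) := by
  obtain ⟨Fl, vF, hF, ⟨e⟩⟩ := h
  have hLb : L.IsStrictlyLE (max b c) := by
    rw [CochainComplex.isStrictlyLE_iff]
    exact fun i hi => hb i (lt_of_le_of_lt (le_max_left _ _) hi)
  obtain ⟨P, p, hp, hP, hPb⟩ :=
    Groth.Agent.Lib.ProjResolution.exists_quasiIso_projective L (max b c)
  have hPflat : ∀ i, Module.Flat R (P.X i) := fun i => by
    have := hP i
    have : Module.Projective R (P.X i) := ModuleCat.projective_of_module_projective (P.X i)
    infer_instance
  have := CochainComplex.isKProjective_of_projective P (max b c)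
  obtain ⟨f, hf⟩ := Groth.Agent.Lib.DCopower.exists_Q_map_eq P Fl (Q.map p ≫ e.inv)
  have : IsIso (Q.map p) := by
    rw [DerivedCategory.isIso_Q_map_iff_quasiIso]
    exact hp
  have : IsIso (Q.map f) := by rw [hf]; infer_instance
  have hf' : QuasiIso f := (DerivedCategory.isIso_Q_map_iff_quasiIso (φ := f)).1 this
  have hK := Groth.Agent.Lib.LBaseChangeFlat.killsFlatAcyclic_tensorRight M
  have h1 : QuasiIso (((tensorRight M).mapHomologicalComplex (ComplexShape.up ℤ)).map p) :=
    Groth.Agent.Lib.LBaseChangeFlat.quasiIso_map_of_flat hK p hPflat hL (max b c)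
      (fun i hi => P.isZero_of_isStrictlyLE (max b c) i hi)
      (fun i hi => hb i (lt_of_le_of_lt (le_max_left _ _) hi))
  have h2 : QuasiIso (((tensorRight M).mapHomologicalComplex (ComplexShape.up ℤ)).map f) :=
    Groth.Agent.Lib.LBaseChangeFlat.quasiIso_map_of_flat hK f hPflat hF (max b c)
      (fun i hi => P.isZero_of_isStrictlyLE (max b c) i hi)
      (fun i hi => vF i (Or.inr (lt_of_le_of_lt (le_max_right _ _) hi)))
  have hz : IsZero ((((tensorRight M).mapHomologicalComplex (ComplexShape.up ℤ)).obj Fl).homology q) := by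
    rw [← HomologicalComplex.exactAt_iff_isZero_homology]
    exact ShortComplex.exact_of_isZero_X₂ _ ((tensorRight M).map_isZero (vF q hq))
  have i1 : IsIso (HomologicalComplex.homologyMap
      (((tensorRight M).mapHomologicalComplex (ComplexShape.up ℤ)).map p) q) :=
    (quasiIsoAt_iff_isIso_homologyMap _ q).mp (h1.quasiIsoAt q)
  have i2 : IsIso (HomologicalComplex.homologyMap
      (((tensorRight M).mapHomologicalComplex (ComplexShape.up ℤ)).map f) q) :=
    (quasiIsoAt_iff_isIso_homologyMap _ q).mp (h2.quasiIsoAt q)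
  have e1 := @asIso _ _ _ _ (HomologicalComplex.homologyMap
    (((tensorRight M).mapHomologicalComplex (ComplexShape.up ℤ)).map p) q) i1
  have e2 := @asIso _ _ _ _ (HomologicalComplex.homologyMap
    (((tensorRight M).mapHomologicalComplex (ComplexShape.up ℤ)).map f) q) i2
  exact hz.of_iso (e1.symm ≪≫ e2)

end torvanish


section kernel

variable (R' A' R : Type u) [CommRing R'] [CommRing A'] [Algebra R' A'] [CommRing R] [Algebra R' R]

lemma isNilpotent_ker_includeRight (hs : Function.Surjective (algebraMap R' R))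
    (hn : IsNilpotent (RingHom.ker (algebraMap R' R))) :
    IsNilpotent (RingHom.ker
      (Algebra.TensorProduct.includeRight.toRingHom : A' →+* R ⊗[R'] A')) := by
  obtain ⟨n, hn⟩ := hn
  refine ⟨n, ?_⟩
  rw [Ideal.zero_eq_bot] at hn ⊢
  -- the map `R' ⊗ A' → R ⊗ A'`
  let f : R' →ₐ[R'] R := Algebra.ofId R' R
  have hf : Function.Surjective f := hs
  have hker := Algebra.TensorProduct.rTensor_ker (R := R') (C := A') f hf
  have hfk : RingHom.ker f = RingHom.ker (algebraMap R' R) := rfl
  -- `includeRight_R = (f ⊗ id) ∘ includeRight_{R'}`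
  let ι' : A' →ₐ[R'] R' ⊗[R'] A' := Algebra.TensorProduct.includeRight
  have hι' : Function.Injective ι' := by
    intro x y hxy
    have := congrArg (Algebra.TensorProduct.lid R' A') hxy
    simpa [ι'] using this
  have hcomp : ∀ x : A', (Algebra.TensorProduct.map f (AlgHom.id R' A')) (ι' x) =
      (Algebra.TensorProduct.includeRight : A' →ₐ[R'] R ⊗[R'] A') x := by
    intro x
    simp [ι', f]
  have hle : RingHom.ker (Algebra.TensorProduct.includeRight.toRingHom : A' →+* R ⊗[R'] A') ≤
      Ideal.comap ι' ((RingHom.ker f).map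
        (Algebra.TensorProduct.includeLeft : R' →ₐ[R'] R' ⊗[R'] A')) := by
    intro x hx
    rw [Ideal.mem_comap, ← hker, RingHom.mem_ker]
    exact (hcomp x).trans hx
  rw [eq_bot_iff]
  intro x hx
  have h1 : x ∈ (Ideal.comap ι' ((RingHom.ker f).map
      (Algebra.TensorProduct.includeLeft : R' →ₐ[R'] R' ⊗[R'] A'))) ^ n :=
    Ideal.pow_right_mono hle n hx
  have h2 := Ideal.le_comap_pow (ι' : A' →+* R' ⊗[R'] A') n h1
  rw [← Ideal.map_pow, hfk, hn, Ideal.map_bot, Ideal.mem_comap, Ideal.mem_bot] at h2
  rw [Ideal.mem_bot]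
  exact hι' (h2.trans (map_zero _).symm)

end kernel

section main

open DerivedCategory Groth.Agent.Lib.FlatBaseChangeD Groth.Agent.Lib.RelPerfBC

attribute [local instance] Algebra.TensorProduct.rightAlgebra


/-- Let R' → A' be a flat homomorphism of finite presentation of commutative rings, R' → R a surjective
homomorphism of rings with nilpotent kernel, A = R ⊗_{R'} A', and K' an object of D(A'). If the
derived base change K' ⊗^L_{A'} A (total left derived functor of extension of scalars, assumed to
exist) is R-perfect in D(A), then K' is R'-perfect in D(A'). -/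
theorem result (R' A' R : Type u) [CommRing R'] [CommRing A'] [Algebra R' A']
    [CommRing R] [Algebra R' R] [Module.Flat R' A'] [Algebra.FinitePresentation R' A']
    (hs : Function.Surjective (algebraMap R' R)) (hn : IsNilpotent (RingHom.ker (algebraMap R' R)))
    [DRing.HasLBaseChange (Algebra.TensorProduct.includeRight.toRingHom : A' →+* R ⊗[R'] A')]
    (K' : Dual.D A')
    (hK : Dual2.IsRelPerfect R (R ⊗[R'] A')
      ((DRing.LBaseChange (Algebra.TensorProduct.includeRight.toRingHom : A' →+* R ⊗[R'] A')).obj K')) :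
    Dual2.IsRelPerfect R' A' K' := by
  have hφs : Function.Surjective
      (Algebra.TensorProduct.includeRight.toRingHom : A' →+* R ⊗[R'] A') :=
    Algebra.TensorProduct.includeRight_surjective A' hs
  have hφn := isNilpotent_ker_includeRight R' A' R hs hn
  obtain ⟨hpc, a, c, htor⟩ := hK
  have hpc' : DRing.IsPseudoCoherent' A' K' :=
    (Groth.Agent.S6971.result _ hφs hφn K').mp hpc
  refine ⟨hpc', ?_⟩
  obtain ⟨P, b, hPb, hPff, ⟨iP⟩⟩ := hpc'
  have hPle : P.IsStrictlyLE b := by
    rw [CochainComplex.isStrictlyLE_iff]; exact hPb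
  have hPproj : ∀ i : ℤ, Projective (P.X i) := fun i => by
    have := (hPff i).2
    have : Module.Projective A' (P.X i) := Module.Projective.of_free
    exact ModuleCat.projective_of_categoryTheory_projective (P.X i)
  -- the restricted complex
  let G : DRing.Cx R' := ((ModuleCat.restrictScalars.{u} (algebraMap R' A')).mapHomologicalComplex
    (ComplexShape.up ℤ)).obj P
  have hGflat : DRing.TermwiseFlat G := fun i => by
    have := (hPff i).2
    exact flat_resMod (R := R') (P.X i)
  have hGb : DRing.VanishesAbove G b := fun i hi =>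
    (ModuleCat.restrictScalars.{u} (algebraMap R' A')).map_isZero (hPb i hi)
  -- tor amplitude of the base change of `G`
  have e0 : (DRing.LBaseChange (Algebra.TensorProduct.includeRight.toRingHom : A' →+* R ⊗[R'] A')).obj K' ≅
      Q.obj (bcCx (R ⊗[R'] A') P) :=
    (DRing.LBaseChange _).mapIso iP.symm ≪≫
      Groth.Agent.Lib.LBaseChangeKProj.lbcIsoOfBdd _ P b
  have e1 : (DRing.restrictD (algebraMap R (R ⊗[R'] A'))).obj
      ((DRing.LBaseChange (Algebra.TensorProduct.includeRight.toRingHom : A' →+* R ⊗[R'] A')).obj K') ≅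
      DRing.toD (bcCx R G) :=
    (DRing.restrictD _).mapIso e0 ≪≫
      ((ModuleCat.restrictScalars.{u} (algebraMap R (R ⊗[R'] A'))).mapDerivedCategoryFactors).app _ ≪≫
      Q.mapIso (cmpCx R' R P).symm
  have htor' : DRing.HasTorAmplitudeIn R a c (DRing.toD (bcCx R G)) :=
    hasTorAmplitudeIn_of_iso (A := R) e1 htor
  have hbcfl : DRing.TermwiseFlat (bcCx R G) := termwiseFlat_bcCx hGflat
  have hbcb : DRing.VanishesAbove (bcCx R G) b := vanishesAbove_bcCx hGb
  obtain ⟨n, hn'⟩ := hn
  have hT : ∀ (M : ModuleCat.{u} R') (i : ℤ), i < a → IsZero ((CohIII.TFun G i).obj M) := by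
    intro M i hi
    have h0 : ∀ M' : ModuleCat.{u} R,
        IsZero ((CohIII.TFun G i).obj ((Groth.Agent.Lib.TFunCompare.RB (A := R') R).obj M')) :=
      fun M' => Groth.Agent.Lib.KProjBC21.isZero_TFun_restrict R G M' i
        (isZero_TFun_of_hasTorAmplitudeIn (bcCx R G) hbcfl b hbcb a c htor' M' i (Or.inl hi))
    exact Groth.Agent.Lib.KProjBC21.isZero_TFun_of_ker_pow R hs G hGflat i h0 n M (by
      rw [hn', Ideal.zero_eq_bot, Submodule.bot_smul])
  have hPA := Groth.Agent.Lib.TorAmpTFun21.pa_fl_of_TFun R' G a (max a b) (le_max_left _ _)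
    (fun i hi => hGb i (lt_of_le_of_lt (le_max_right _ _) hi)) hGflat hT
  have e2 : (DRing.restrictD (algebraMap R' A')).obj K' ≅ DRing.toD G :=
    (DRing.restrictD _).mapIso iP.symm ≪≫
      ((ModuleCat.restrictScalars.{u} (algebraMap R' A')).mapDerivedCategoryFactors).app P
  exact ⟨a, max a b, hasTorAmplitudeIn_of_iso (A := R') e2.symm
    ((Groth.Agent.Lib.FlatAmp.hasTorAmplitudeIn_iff_pa _ a (max a b) _).mpr hPA)⟩

end main

end Groth.Agent.S7076
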