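import Groth.Statements.S7077
import Groth.Agent.Lib.TwoTermRepD2

set_option autoImplicit false
universe u
attribute [local instance] HasDerivedCategory.standard
open CategoryTheory
open DRing

namespace Groth.Agent.S7077

/-- (1)⇔(2): let R be a commutative ring and K an object of D(R) whose cohomology modules vanish outside
degrees -1 and 0. Then H^{-1}(K) vanishes and H^0(K) is a projective R-module if and only if
Ext^1_R(K, M) = Hom_{D(R)}(K, M[1]) vanishes for every R-module M. -/
theorem result {R : Type u} [CommRing R] (K : Dual.D R)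
    (hK : ∀ i : ℤ, i ≠ -1 → i ≠ 0 → Subsingleton (Dual.HD R K i)) :
    (Subsingleton (Dual.HD R K (-1)) ∧ Module.Projective R (Dual.HD R K 0)) ↔
      ∀ (M : Type u) [AddCommGroup M] [Module R M], Subsingleton (K ⟶ (Dual.inD R M)⟦(1 : ℤ)⟧) := by
  constructor
  · rintro ⟨hm1, hproj⟩
    have hK0 : ∀ i : ℤ, i ≠ 0 → Subsingleton (Dual.HD R K i) := by
      intro i hi
      by_cases h : i = -1
      · subst h; exact hm1
      · exact hK i h hi
    obtain ⟨Y, ⟨e⟩, ⟨l⟩⟩ := Groth.Agent.Lib.TwoTermRep.exists_single K hK0
    have hY : Module.Projective R Y := Module.Projective.of_equiv l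
    have hYp : Projective Y := (IsProjective.iff_projective (R := R) (P := Y)).1 hY
    intro M _ _
    have hsub := (Groth.Agent.Lib.TwoTermRep.projective_iff_hom_shift Y).1 hYp (ModuleCat.of R M)
    refine ⟨fun f g => ?_⟩
    have : e.inv ≫ f = e.inv ≫ g := Subsingleton.elim _ _
    exact (cancel_epi e.inv).1 this
  · intro h
    obtain ⟨M, hM, ⟨e⟩⟩ := Groth.Agent.Lib.TwoTermRep.exists_strict R K hK
    have hker := Groth.Agent.Lib.TwoTermRep.ker_eq_bot_of_subsingleton_hom K M e
      (hM (-2) (by simp) (by simp)) (h (M.X (-1)))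
    have hm1 : Subsingleton (Dual.HD R K (-1)) := by
      have l := Groth.Agent.Lib.TwoTermRep.homologyEquiv K M e (-2) (-1) 0 (by simp) (by simp)
      have : Subsingleton (LinearMap.ker (M.d (-1) 0).hom) := by
        rw [hker]
        infer_instance
      have : Subsingleton (LinearMap.ker (M.d (-1) 0).hom ⧸
          LinearMap.range (M.sc' (-2) (-1) 0).moduleCatToCycles) :=
        (Submodule.mkQ_surjective _).subsingleton
      exact l.toEquiv.subsingleton
    refine ⟨hm1, ?_⟩
    have hK0 : ∀ i : ℤ, i ≠ 0 → Subsingleton (Dual.HD R K i) := by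
      intro i hi
      by_cases h : i = -1
      · subst h; exact hm1
      · exact hK i h hi
    obtain ⟨Y, ⟨e'⟩, ⟨l⟩⟩ := Groth.Agent.Lib.TwoTermRep.exists_single K hK0
    have hYp : Projective Y := by
      rw [Groth.Agent.Lib.TwoTermRep.projective_iff_hom_shift]
      intro N
      have hN := h N
      refine ⟨fun f g => ?_⟩
      have : e'.hom ≫ f = e'.hom ≫ g := Subsingleton.elim _ _
      exact (cancel_epi e'.hom).1 this
    have hY : Module.Projective R Y := (IsProjective.iff_projective (R := R) (P := Y)).2 hYp
    exact Module.Projective.of_equiv l.symm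

end Groth.Agent.S7077
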