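import Groth.Statements.S7078
import Groth.Agent.Lib.TwoTermRep

set_option autoImplicit false
universe u
attribute [local instance] HasDerivedCategory.standard
open CategoryTheory
open DRing

namespace Groth.Agent.S7078

open CategoryTheory Limits in
lemma exists_strict (R : Type u) [CommRing R] (K : Dual.D R)
    (hK : ∀ i : ℤ, i ≠ -1 → i ≠ 0 → Subsingleton (Dual.HD R K i)) :
    ∃ M : CochainComplex (ModuleCat.{u} R) ℤ, (∀ i : ℤ, i ≠ -1 → i ≠ 0 → IsZero (M.X i)) ∧
      Nonempty (K ≅ DerivedCategory.Q.obj M) := by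
  have hLE : DerivedCategory.IsLE K 0 := by
    rw [DerivedCategory.isLE_iff]
    intro i hi
    have := hK i (by omega) (by omega)
    exact ModuleCat.isZero_of_subsingleton _
  have hGE : DerivedCategory.IsGE K (-1) := by
    rw [DerivedCategory.isGE_iff]
    intro i hi
    have := hK i (by omega) (by omega)
    exact ModuleCat.isZero_of_subsingleton _
  obtain ⟨M, hM1, hM0, ⟨e⟩⟩ := DerivedCategory.exists_iso_Q_obj_of_isGE_of_isLE K (-1) 0
  refine ⟨M, fun i h1 h0 => ?_, ⟨e⟩⟩
  rcases lt_or_gt_of_ne h0 with h | h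
  · exact M.isZero_of_isStrictlyGE (-1) i (by omega)
  · exact M.isZero_of_isStrictlyLE 0 i h


/-- For a commutative ring R and an object K of D(R) whose cohomology modules vanish outside degrees -1
and 0, K is represented by a two-term complex K^{-1} → K^0 with K^0 a free R-module. -/
theorem result {R : Type u} [CommRing R] (K : Dual.D R)
    (hK : ∀ i : ℤ, i ≠ -1 → i ≠ 0 → Subsingleton (Dual.HD R K i)) :
    ∃ E : DRing.Cx R, DRing.VanishesOutside E (-1) 0 ∧ Module.Free R (E.X 0) ∧ Nonempty (DRing.toD E ≅ K) := by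
  obtain ⟨M, hM, ⟨e⟩⟩ := exists_strict R K hK
  let F : ModuleCat.{u} R := ModuleCat.of R (M.X 0 →₀ R)
  let π : F ⟶ M.X 0 := ModuleCat.ofHom (Finsupp.linearCombination R (fun x : M.X 0 => x))
  have h1 : Limits.IsZero (M.X 1) := hM 1 (by simp) (by simp)
  have hπ : ∀ x : M.X 0, ∃ (f : F) (m : M.X (-1)), π.hom f = x + (M.d (-1) 0).hom m := by
    intro x
    refine ⟨Finsupp.single x 1, 0, ?_⟩
    rw [map_zero, add_zero]
    change Finsupp.linearCombination R (fun x : M.X 0 => x) (Finsupp.single x 1) = x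
    rw [Finsupp.linearCombination_single, one_smul]
  have hq := Groth.Agent.Lib.TwoTermRep.quasiIso_pbHom M π h1 hM hπ
  have hiso : IsIso (DerivedCategory.Q.map (Groth.Agent.Lib.TwoTermRep.pbHom M π h1)) := by
    rw [DerivedCategory.isIso_Q_map_iff_quasiIso]
    exact hq
  refine ⟨Groth.Agent.Lib.QuasiIsoElem.twoTerm (Groth.Agent.Lib.TwoTermRep.pbFst M π), ?_, ?_, ?_⟩
  · intro i hi
    exact Groth.Agent.Lib.QuasiIsoElem.twoTerm_isZero _ i (by omega) (by omega)
  · exact inferInstanceAs (Module.Free R (M.X 0 →₀ R))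
  · exact ⟨asIso (DerivedCategory.Q.map (Groth.Agent.Lib.TwoTermRep.pbHom M π h1)) ≪≫ e.symm⟩

end Groth.Agent.S7078
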