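import Groth.Statements.S7079
import Groth.Agent.Lib.TwoTermRepD

set_option autoImplicit false
universe u
attribute [local instance] HasDerivedCategory.standard
open CategoryTheory
open DRing

namespace Groth.Agent.S7079

/-- For a Noetherian commutative ring R and an object K of D(R) whose cohomology modules vanish outside
degrees -1 and 0 and are finite modules in those two degrees, K is represented by a two-term complex
K^{-1} → K^0 with K^0 finite free and K^{-1} finite. -/
theorem result {R : Type u} [CommRing R] [IsNoetherianRing R] (K : Dual.D R)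
    (hK : ∀ i : ℤ, i ≠ -1 → i ≠ 0 → Subsingleton (Dual.HD R K i))
    (h1 : Module.Finite R (Dual.HD R K (-1))) (h0 : Module.Finite R (Dual.HD R K 0)) :
    ∃ E : DRing.Cx R, DRing.VanishesOutside E (-1) 0 ∧ Module.Free R (E.X 0) ∧ Module.Finite R (E.X 0) ∧
      Module.Finite R (E.X (-1)) ∧ Nonempty (DRing.toD E ≅ K) := by
  obtain ⟨M, hM, ⟨e⟩⟩ := Groth.Agent.Lib.TwoTermRep.exists_strict R K hK
  have hker := Groth.Agent.Lib.TwoTermRep.finite_ker_of_finite K M hM e h1
  obtain ⟨n, π, hπ⟩ := Groth.Agent.Lib.TwoTermRep.exists_fin_map K M hM e h0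
  obtain ⟨hV, hiso⟩ := Groth.Agent.Lib.TwoTermRep.exists_rep_of_map K M hM e π hπ
  have hF : Module.Finite R (ModuleCat.of R (Fin n → R)) :=
    inferInstanceAs (Module.Finite R (Fin n → R))
  refine ⟨Groth.Agent.Lib.QuasiIsoElem.twoTerm (Groth.Agent.Lib.TwoTermRep.pbFst M π), hV,
    ?_, ?_, ?_, hiso⟩
  · exact inferInstanceAs (Module.Free R (Fin n → R))
  · exact inferInstanceAs (Module.Finite R (Fin n → R))
  · exact Groth.Agent.Lib.TwoTermRep.finite_pbSub M π hker

end Groth.Agent.S7079
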