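import Groth.Statements.S7084
import Groth.Agent.Lib.SemiFreeKProj35
import Groth.Agent.Lib.LBaseChangeKProj
import Groth.Agent.Lib.TFunCompare
import Groth.Agent.Lib.TFun
import Groth.Agent.Lib.KProjBC21
import Groth.Agent.Lib.ProjResolution

set_option autoImplicit false
universe u
attribute [local instance] HasDerivedCategory.standard
open CategoryTheory
open LocCoh

namespace Groth.Agent.S7084

/-- Parts (1)–(2) in the case of a module killed by a power of the ideal: let R be a commutative ring, I
an ideal and K an object of D(R) such that K ⊗^L_R R/I has no cohomology in positive degrees. Then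
for every R-module N annihilated by some power of I, K ⊗^L_R N has no cohomology in positive
degrees. (The published statement allows any I-power torsion module N; this row takes N annihilated
by a single power of I, the case the published argument carries out in full, which contains the case
N = R/I^n.) The derived tensor products with modules are total left derived functors, assumed to
exist. -/
theorem result {R : Type u} [CommRing R] (I : Ideal R)
    [DRing.HasLTensor R (ModuleCat.of R (R ⧸ I))] (K : Dual.D R)
    (hK : ∀ i : ℤ, 0 < i → Subsingleton (Dual.HD R ((DRing.LTensor R (ModuleCat.of R (R ⧸ I))).obj K) i))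
    (N : Type u) [AddCommGroup N] [Module R N] (n : ℕ) (hN : I ^ n • (⊤ : Submodule R N) = ⊥)
    [DRing.HasLTensor R (ModuleCat.of R N)] (i : ℤ) (hi : 0 < i) :
    Subsingleton (Dual.HD R ((DRing.LTensor R (ModuleCat.of R N)).obj K) i) := by
  -- a K-projective, termwise flat representative of `K`
  let M₀ := (DerivedCategory.Q (C := ModuleCat.{u} R)).objPreimage K
  let e₀ : DerivedCategory.Q.obj M₀ ≅ K := (DerivedCategory.Q (C := ModuleCat.{u} R)).objObjPreimageIso K
  obtain ⟨F, f, hFp, -, hfl, hq, -⟩ :=
    Groth.Agent.Lib.SemiFreeKProj35.exists_kprojective_resolution M₀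
  have hf : IsIso (DerivedCategory.Q.map f) := by
    rw [DerivedCategory.isIso_Q_map_iff_quasiIso]
    exact hq
  let eF : DerivedCategory.Q.obj F ≅ K := asIso (DerivedCategory.Q.map f) ≪≫ e₀
  have hrep : ∀ (T : CochainComplex (ModuleCat.{u} R) ℤ),
      Groth.Agent.Lib.LBaseChangeKProj.HasKProjRep (DerivedCategory.Q.obj T) := fun T => by
    obtain ⟨K', f', hK', -, -, hq', -⟩ :=
      Groth.Agent.Lib.SemiFreeKProj35.exists_kprojective_resolution T
    have : IsIso (DerivedCategory.Q.map f') := by
      rw [DerivedCategory.isIso_Q_map_iff_quasiIso]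
      exact hq'
    exact ⟨K', hK', ⟨(asIso (DerivedCategory.Q.map f')).symm⟩⟩
  -- translation between `LTensor` and `TFun F`
  have trans : ∀ (N : Type u) [AddCommGroup N] [Module R N] [DRing.HasLTensor R (ModuleCat.of R N)] (i : ℤ),
      (DerivedCategory.homologyFunctor (ModuleCat.{u} R) i).obj
        ((DRing.LTensor R (ModuleCat.of R N)).obj K) ≅ (CohIII.TFun F i).obj (ModuleCat.of R N) := by
    intro N _ _ _ i
    let j := (DRing.LTensor R (ModuleCat.of R N)).mapIso eF.symm ≪≫
      Groth.Agent.Lib.LBaseChangeKProj.lgIso (MonoidalCategory.tensorRight (ModuleCat.of R N)) F (hrep _)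
    exact (DerivedCategory.homologyFunctor _ i).mapIso j ≪≫
      (DerivedCategory.homologyFunctorFactors _ i).app _
  -- the base change of `F` to `R/I` has no cohomology in positive degrees
  have h1 : ∀ i : ℤ, 0 < i → Limits.IsZero ((CohIII.bcCx (algebraMap R (R ⧸ I)) F).homology i) := by
    intro i hi
    have := hK i hi
    have h2 : Limits.IsZero ((CohIII.TFun F i).obj (ModuleCat.of R (R ⧸ I))) :=
      (ModuleCat.isZero_of_subsingleton _).of_iso (trans (R ⧸ I) i).symm
    have h3 := h2.of_iso (Groth.Agent.Lib.TFunCompare.homologyCompare (R ⧸ I) F i)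
    have h4 : Subsingleton ((Groth.Agent.Lib.TFunCompare.RB (A := R) (R ⧸ I)).obj
        ((CohIII.bcCx (algebraMap R (R ⧸ I)) F).homology i)) :=
      ModuleCat.subsingleton_of_isZero h3
    have : Subsingleton ((CohIII.bcCx (algebraMap R (R ⧸ I)) F).homology i) := h4
    exact ModuleCat.isZero_of_subsingleton _
  have h2 : (DerivedCategory.Q.obj (CohIII.bcCx (algebraMap R (R ⧸ I)) F)).IsLE 0 := by
    rw [DerivedCategory.isLE_iff]
    intro i hi
    exact (h1 i hi).of_iso ((DerivedCategory.homologyFunctorFactors _ i).app _)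
  obtain ⟨L, hL0, hLp, ⟨e⟩⟩ := Groth.Agent.Lib.ProjResolution.exists_iso_Q_projective
    (DerivedCategory.Q.obj (CohIII.bcCx (algebraMap R (R ⧸ I)) F)) 0
  have := CochainComplex.isKProjective_of_projective L 0
  -- vanishing on `R/I`-modules
  have h3 : ∀ i : ℤ, 0 < i → ∀ M' : ModuleCat.{u} (R ⧸ I),
      Limits.IsZero ((CohIII.TFun F i).obj ((Groth.Agent.Lib.TFunCompare.RB (A := R) (R ⧸ I)).obj M')) := by
    intro i hi M'
    refine Groth.Agent.Lib.KProjBC21.isZero_TFun_restrict_of_iso F L e.symm M' i ?_
    refine ShortComplex.isZero_homology_of_isZero_X₂ _ ?_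
    exact (MonoidalCategory.tensorRight M').map_isZero (L.isZero_of_isStrictlyLE 0 i hi)
  have hker : RingHom.ker (algebraMap R (R ⧸ I)) = I := Ideal.mk_ker
  have h4 := Groth.Agent.Lib.KProjBC21.isZero_TFun_of_ker_pow (R ⧸ I)
    (Ideal.Quotient.mk_surjective (I := I)) F hfl i (h3 i hi) n N (by rw [hker]; exact hN)
  exact ModuleCat.subsingleton_of_isZero (h4.of_iso (trans N i))

end Groth.Agent.S7084
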