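import Groth.Statements.S7085
import Mathlib.Algebra.Module.BigOperators

set_option autoImplicit false
universe u
open LocCoh

namespace Groth.Agent.S7085

section

variable {R : Type u} [CommRing R] {M : Type u} [AddCommGroup M] [Module R M]

lemma torsionBy_eq_bot_iff (I : Ideal R) :
    LocCoh.torsionBy I M = ⊥ ↔ ∀ m : M, (∀ a ∈ I, a • m = 0) → m = 0 := by
  rw [Submodule.eq_bot_iff]
  refine forall_congr' (fun m => ?_)
  rw [Submodule.mem_torsionBySet_iff]
  constructor
  · intro h h2
    exact h (fun a => h2 a.1 a.2)
  · intro h h2
    exact h (fun a ha => h2 ⟨a, ha⟩)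

lemma pow_part (I : Ideal R) (h : ∀ m : M, (∀ a ∈ I, a • m = 0) → m = 0) (n : ℕ) :
    ∀ m : M, (∀ a ∈ I ^ (n + 1), a • m = 0) → m = 0 := by
  induction n with
  | zero =>
    intro m hm
    exact h m (by simpa using hm)
  | succ n ih =>
    intro m hm
    apply h m
    intro a ha
    apply ih
    intro b hb
    rw [← mul_smul]
    apply hm
    rw [pow_succ]
    exact Ideal.mul_mem_mul hb ha

lemma loc_part {t : ℕ} (f : Fin t → R) (h : ∀ m : M, (∀ a ∈ Ideal.span (Set.range f), a • m = 0) → m = 0) :
    ∀ (s : ℕ) (k : Fin t → ℕ) (m : M), ∑ i, k i = s → (∀ i, f i ^ k i • m = 0) → m = 0 := by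
  intro s
  induction s using Nat.strong_induction_on with
  | _ s ih =>
    intro k m hk hm
    apply h m
    intro a ha
    obtain ⟨c, rfl⟩ := (Submodule.mem_span_range_iff_exists_fun R).1 ha
    rw [Finset.sum_smul]
    refine Finset.sum_eq_zero (fun j _ => ?_)
    rw [smul_eq_mul, mul_smul]
    have hj : f j • m = 0 := by
      rcases Nat.eq_zero_or_pos (k j) with h0 | hpos
      · have := hm j
        rw [h0, pow_zero, one_smul] at this
        rw [this, smul_zero]
      · -- decrease the exponent at `j`
        have hlt : ∑ i, Function.update k j (k j - 1) i < s := by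
          rw [← hk]
          apply Finset.sum_lt_sum
          · intro i _
            by_cases hij : i = j
            · subst hij
              simp
            · simp [Function.update_of_ne hij]
          · exact ⟨j, Finset.mem_univ _, by simp; omega⟩
        apply ih _ hlt (Function.update k j (k j - 1)) (f j • m) rfl
        intro i
        by_cases hij : i = j
        · subst hij
          rw [Function.update_self, ← mul_smul, ← pow_succ]
          have : k i - 1 + 1 = k i := by omega
          rw [this]
          exact hm i
        · rw [Function.update_of_ne hij, smul_comm, hm i, smul_zero]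
    rw [hj, smul_zero]

end

/-- Let R be a commutative ring, I an ideal generated by finitely many elements f_1, …, f_t, and M an
R-module. Then: M has no nonzero element killed by I if and only if it has no nonzero element killed
by I^n for every n ≥ 1; and M has no nonzero element killed by I if and only if an element of M
vanishing in every localization M_{f_i} is zero. -/
theorem result {R : Type u} [CommRing R] {t : ℕ} (f : Fin t → R)
    (I : Ideal R) (hI : Ideal.span (Set.range f) = I) (M : Type u) [AddCommGroup M] [Module R M] :
    (LocCoh.torsionBy I M = ⊥ ↔ ∀ n : ℕ, 1 ≤ n → LocCoh.torsionBy (I ^ n) M = ⊥) ∧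
    (LocCoh.torsionBy I M = ⊥ ↔
      ∀ m : M, (∀ i : Fin t, LocalizedModule.mkLinearMap (Submonoid.powers (f i)) M m = 0) → m = 0) := by
  constructor
  · constructor
    · intro h n hn
      rw [torsionBy_eq_bot_iff] at h ⊢
      obtain ⟨n, rfl⟩ : ∃ n', n = n' + 1 := ⟨n - 1, by omega⟩
      exact pow_part I h n
    · intro h
      have := h 1 le_rfl
      rwa [pow_one] at this
  · rw [torsionBy_eq_bot_iff]
    constructor
    · intro h m hm
      subst hI
      have hk : ∀ i, ∃ k : ℕ, f i ^ k • m = 0 := by
        intro i
        obtain ⟨⟨_, k, rfl⟩, hs⟩ :=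
          (IsLocalizedModule.eq_zero_iff (S := Submonoid.powers (f i))
            (LocalizedModule.mkLinearMap (Submonoid.powers (f i)) M)).1 (hm i)
        exact ⟨k, hs⟩
      choose k hk using hk
      exact loc_part f h _ k m rfl hk
    · intro h m hm
      apply h m
      intro i
      rw [IsLocalizedModule.eq_zero_iff (S := Submonoid.powers (f i))]
      refine ⟨⟨f i, Submonoid.mem_powers _⟩, ?_⟩
      apply hm
      rw [← hI]
      exact Ideal.subset_span ⟨i, rfl⟩

end Groth.Agent.S7085
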