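import Groth.Statements.S7089
import Mathlib

set_option autoImplicit false
universe u
open CategoryTheory
open LocCoh

namespace Groth.Agent.S7089
set_option backward.isDefEq.respectTransparency.types false
set_option linter.style.haveILetI false
open CategoryTheory CategoryTheory.Limits LocCoh

variable {R : Type u} [CommRing R] (I : Ideal R)

/-- index type of the canonical cover. -/
abbrev Idx (N : ModuleCat.{u} R) : Type u := {p : N × ℕ // ∀ a ∈ I ^ p.2, a • p.1 = 0}

noncomputable instance (N : ModuleCat.{u} R) : DecidableEq (Idx I N) := Classical.decEq _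

/-- the covering module. -/
noncomputable def cov (N : ModuleCat.{u} R) : ModuleCat.{u} R :=
  ModuleCat.of R (DirectSum (Idx I N) fun j => R ⧸ I ^ j.1.2)

/-- the covering map, as a linear map. -/
noncomputable def covLin (N : ModuleCat.{u} R) :
    (DirectSum (Idx I N) fun j => R ⧸ I ^ j.1.2) →ₗ[R] N :=
  DirectSum.toModule R (Idx I N) N (fun j =>
    Submodule.liftQ (I ^ j.1.2) (LinearMap.toSpanSingleton R N j.1.1) (by
      intro a ha
      rw [LinearMap.mem_ker, LinearMap.toSpanSingleton_apply]
      exact j.2 a ha))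

/-- the covering map. -/
noncomputable def covπ (N : ModuleCat.{u} R) : cov I N ⟶ N := ModuleCat.ofHom (covLin I N)

theorem cov_powerTorsion (N : ModuleCat.{u} R) : IsPowerTorsion I (cov I N) := by
  intro x
  change DirectSum (Idx I N) (fun j => R ⧸ I ^ j.1.2) at x
  induction x using DirectSum.induction_on with
  | zero => exact ⟨0, fun a _ => smul_zero (A := DirectSum (Idx I N) (fun j => R ⧸ I ^ j.1.2)) a⟩
  | of j y =>
    refine ⟨j.1.2, fun a ha => ?_⟩
    obtain ⟨r, rfl⟩ := Ideal.Quotient.mk_surjective y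
    change a • (DirectSum.of (fun j : Idx I N => R ⧸ I ^ j.1.2) j) (Ideal.Quotient.mk _ r) = 0
    have : a • (Ideal.Quotient.mk (I ^ j.1.2) r) = 0 := by
      rw [← Ideal.Quotient.mk_eq_mk, ← Submodule.Quotient.mk_smul]
      rw [Submodule.Quotient.mk_eq_zero]
      exact Ideal.mul_mem_right _ _ ha
    rw [← DirectSum.of_smul, this, map_zero]
  | add x y hx hy =>
    obtain ⟨n1, h1⟩ := hx
    obtain ⟨n2, h2⟩ := hy
    refine ⟨max n1 n2, fun a ha => ?_⟩
    have ha1 : a ∈ I ^ n1 := Ideal.pow_le_pow_right (le_max_left _ _) ha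
    have ha2 : a ∈ I ^ n2 := Ideal.pow_le_pow_right (le_max_right _ _) ha
    have e1 := h1 a ha1
    have e2 := h2 a ha2
    change a • (x + y) = 0
    rw [smul_add]
    change a • x = 0 at e1
    change a • y = 0 at e2
    rw [e1, e2, add_zero]

theorem covπ_epi (N : ModuleCat.{u} R) (hN : IsPowerTorsion I N) : Epi (covπ I N) := by
  rw [ModuleCat.epi_iff_surjective]
  intro m
  obtain ⟨n, hn⟩ := hN m
  let j : Idx I N := ⟨(m, n), hn⟩
  refine ⟨DirectSum.lof R (Idx I N) (fun j : Idx I N => R ⧸ I ^ j.1.2) j (Ideal.Quotient.mk _ 1), ?_⟩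
  change covLin I N _ = m
  rw [covLin, DirectSum.toModule_lof]
  change Submodule.liftQ (I ^ n) (LinearMap.toSpanSingleton R N m) _ (Submodule.Quotient.mk 1) = m
  rw [Submodule.liftQ_apply, LinearMap.toSpanSingleton_apply, one_smul]

theorem kernel_powerTorsion {X Y : ModuleCat.{u} R} (f : X ⟶ Y) (hX : IsPowerTorsion I X) :
    IsPowerTorsion I (kernel f : ModuleCat.{u} R) := by
  intro x
  obtain ⟨n, hn⟩ := hX ((kernel.ι f).hom x)
  refine ⟨n, fun a ha => ?_⟩
  have hinj : Function.Injective (kernel.ι f).hom := (ModuleCat.mono_iff_injective _).mp inferInstance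
  apply hinj
  rw [map_smul, hn a ha, map_zero]

/-- the differential attached to `f`. -/
noncomputable def dd {X Y : ModuleCat.{u} R} (f : X ⟶ Y) : cov I (kernel f) ⟶ X :=
  covπ I (kernel f) ≫ kernel.ι f

@[reassoc (attr := simp)]
theorem dd_comp {X Y : ModuleCat.{u} R} (f : X ⟶ Y) : dd I f ≫ f = 0 := by
  simp [dd]

set_option backward.isDefEq.respectTransparency false in
theorem exact_dd_f {X Y : ModuleCat.{u} R} (f : X ⟶ Y) (hX : IsPowerTorsion I X) :
    (ShortComplex.mk (dd I f) f (dd_comp I f)).Exact := by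
  let α : ShortComplex.mk (dd I f) f (dd_comp I f) ⟶ ShortComplex.mk (kernel.ι f) f (by simp) :=
    { τ₁ := covπ I _
      τ₂ := 𝟙 _
      τ₃ := 𝟙 _
      comm₁₂ := by simp [dd]
      comm₂₃ := by simp }
  haveI : Epi α.τ₁ := covπ_epi I _ (kernel_powerTorsion I f hX)
  haveI : IsIso α.τ₂ := by dsimp [α]; infer_instance
  haveI : Mono α.τ₃ := by dsimp [α]; infer_instance
  rw [ShortComplex.exact_iff_of_epi_of_isIso_of_mono α]
  apply ShortComplex.exact_of_f_is_kernel
  apply kernelIsKernel

variable (M : ModuleCat.{u} R)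

/-- the resolving complex. -/
noncomputable def cx : ChainComplex (ModuleCat.{u} R) ℕ :=
  ChainComplex.mk' (cov I M) (cov I (kernel (covπ I M))) (dd I (covπ I M))
    (fun f => ⟨_, dd I f, by simp⟩)

theorem cx_d_1_0 : (cx I M).d 1 0 = dd I (covπ I M) := by
  simp [cx]

theorem cx_X (n : ℕ) : ∃ N : ModuleCat.{u} R, (cx I M).X n = cov I N := by
  obtain (_ | _ | _ | n) := n <;> exact ⟨_, rfl⟩

theorem aux_X₁ (n : ℕ) : IsPowerTorsion I
    (ChainComplex.mkAux (cov I M) (cov I (kernel (covπ I M))) (cov I (kernel (dd I (covπ I M))))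
      (dd I (covπ I M)) (dd I (dd I (covπ I M))) (dd_comp I _)
      (fun S => ⟨cov I (kernel S.f), ⟨dd I S.f, dd_comp I _⟩⟩) n).X₁ := by
  cases n <;> exact cov_powerTorsion I _

theorem cx_exactAt_succ (n : ℕ) : (cx I M).ExactAt (n + 1) := by
  rw [HomologicalComplex.exactAt_iff' _ (n + 1 + 1) (n + 1) n (by simp) (by simp)]
  simp only [HomologicalComplex.sc', HomologicalComplex.shortComplexFunctor', cx,
    ChainComplex.mk', ChainComplex.mk, ChainComplex.of_d]
  match n with
  | 0 =>
    apply exact_dd_f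
    apply cov_powerTorsion
  | n + 1 =>
    apply exact_dd_f
    exact aux_X₁ I M n

set_option backward.defeqAttrib.useBackward true in
set_option backward.isDefEq.respectTransparency false in
theorem main (hM : IsPowerTorsion I M) :
    ∃ (π : cx I M ⟶ (ChainComplex.single₀ (ModuleCat.{u} R)).obj M), QuasiIso π := by
  haveI : Epi (covπ I M) := covπ_epi I M hM
  refine ⟨(ChainComplex.toSingle₀Equiv _ _).symm ⟨covπ I M, by
    rw [cx_d_1_0, dd_comp]⟩, ?_⟩
  refine ⟨fun n => ?_⟩
  cases n
  · rw [ChainComplex.quasiIsoAt₀_iff, ShortComplex.quasiIso_iff_of_zeros']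
    · dsimp
      refine (ShortComplex.exact_and_epi_g_iff_of_iso ?_).2
        ⟨exact_dd_f I (covπ I M) (cov_powerTorsion I M), by dsimp; infer_instance⟩
      exact ShortComplex.isoMk (Iso.refl _) (Iso.refl _) (Iso.refl _)
        (by simp [cx]) (by simp)
    all_goals rfl
  · rw [quasiIsoAt_iff_exactAt']
    · apply cx_exactAt_succ
    · apply ChainComplex.exactAt_succ_single_obj


/-- Let R be a commutative ring, I an ideal and M an R-module in which every element is killed by a
power of I. Then M has a left resolution by modules each of which is a direct sum of copies of R/I^n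
for varying n: there are a chain complex K of R-modules, a quasi-isomorphism from K to M placed in
degree 0, and for each i an isomorphism of K_i with such a direct sum. -/
theorem result {R : Type u} [CommRing R] (I : Ideal R)
    (M : Type u) [AddCommGroup M] [Module R M] (hM : LocCoh.IsPowerTorsion I M) :
    ∃ (K : ChainComplex (ModuleCat.{u} R) ℕ) (π : K ⟶ (ChainComplex.single₀ (ModuleCat.{u} R)).obj (ModuleCat.of R M)),
      QuasiIso π ∧ ∀ i : ℕ, ∃ (ι : Type u) (n : ι → ℕ),
        Nonempty (K.X i ≅ ModuleCat.of R (DirectSum ι fun j => R ⧸ I ^ n j)) := by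
  obtain ⟨π, hπ⟩ := main I (ModuleCat.of R M) hM
  refine ⟨cx I (ModuleCat.of R M), π, hπ, fun i => ?_⟩
  obtain ⟨N, hN⟩ := cx_X I (ModuleCat.of R M) i
  exact ⟨Idx I N, fun j => j.1.2, ⟨eqToIso hN⟩⟩

end Groth.Agent.S7089
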