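import Groth.Statements.S7091
import Groth.Agent.Lib.TKfTri
-- import your own Groth.Agent.* helpers here

set_option autoImplicit false
universe u
attribute [local instance] HasDerivedCategory.standard
open CategoryTheory
open DRing

namespace Groth.Agent.S7091

/-- Let A be a commutative ring, I a finitely generated ideal, and assume the derived completion functor
(left adjoint to the inclusion of derived complete objects) exists. If a morphism K → L in D(A)
induces isomorphisms on cohomology in degrees ≥ 1 and a surjection in degree 0, then so does the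
induced morphism between the derived completions. -/
theorem result {A : Type u} [CommRing A] (I : Ideal A) (hI : I.FG)
    [DRing.HasDerivedCompletion I] {K L : Dual.D A} (φ : K ⟶ L)
    (hiso : ∀ i : ℤ, 1 ≤ i → IsIso ((DerivedCategory.homologyFunctor (ModuleCat.{u} A) i).map φ))
    (hepi : Epi ((DerivedCategory.homologyFunctor (ModuleCat.{u} A) 0).map φ)) :
    (∀ i : ℤ, 1 ≤ i → IsIso ((DerivedCategory.homologyFunctor (ModuleCat.{u} A) i).map
        ((DRing.derivedCompletion I).map φ).hom)) ∧
      Epi ((DerivedCategory.homologyFunctor (ModuleCat.{u} A) 0).map ((DRing.derivedCompletion I).map φ).hom) := by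
  obtain ⟨s, hs⟩ := hI
  obtain ⟨M, ψ, χ, hT⟩ := CategoryTheory.Pretriangulated.distinguished_cocone_triangle φ
  -- the cone has no cohomology in degrees `≥ 0`
  have hM : ∀ i ∈ {i : ℤ | 0 ≤ i}, CategoryTheory.Limits.IsZero
      ((Groth.Agent.Lib.TKfAmp.H A i).obj M) := by
    intro i hi
    have hi' : (0 : ℤ) ≤ i := hi
    have hepi' : Epi ((Groth.Agent.Lib.TKfAmp.H A i).map φ) := by
      rcases hi'.eq_or_lt with h0 | h0
      · rw [← h0]; exact hepi
      · have := hiso i (by omega)
        infer_instance
    have hmono' : Mono ((Groth.Agent.Lib.TKfAmp.H A (i + 1)).map φ) := by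
      have := hiso (i + 1) (by omega)
      infer_instance
    exact Groth.Agent.Lib.TKfTri.isZero_H_obj₃ _ hT i hepi' hmono'
  have hMc : ∀ i : ℤ, 0 ≤ i → CategoryTheory.Limits.IsZero
      ((Groth.Agent.Lib.TKfAmp.H A i).obj ((DRing.derivedCompletion I).obj M).obj) := fun i hi =>
    Groth.Agent.Lib.TKfTri.isZero_H_derivedCompletion I s hs M _ hM i (fun k _ => by
      change (0 : ℤ) ≤ i + k
      have : (0 : ℤ) ≤ k := Int.natCast_nonneg k
      omega)
  obtain ⟨h, hT'⟩ := Groth.Agent.Lib.TKfTri.exists_triangle I _ hT
  refine ⟨fun i hi => ?_, ?_⟩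
  · have h1 : Epi ((DerivedCategory.homologyFunctor (ModuleCat.{u} A) i).map
        ((DRing.derivedCompletion I).map φ).hom) :=
      Groth.Agent.Lib.TKfTri.epi_H_mor₁ _ hT' i (hMc i (by omega))
    have h2 : Mono ((DerivedCategory.homologyFunctor (ModuleCat.{u} A) i).map
        ((DRing.derivedCompletion I).map φ).hom) :=
      Groth.Agent.Lib.TKfTri.mono_H_mor₁ _ hT' (i - 1) i (by omega) (hMc (i - 1) (by omega))
    exact CategoryTheory.isIso_of_mono_of_epi _
  · exact Groth.Agent.Lib.TKfTri.epi_H_mor₁ _ hT' 0 (hMc 0 le_rfl)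

end Groth.Agent.S7091
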