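import Groth.Statements.S7092
import Groth.Agent.Lib.TKfTri
-- import your own Groth.Agent.* helpers here

set_option autoImplicit false
universe u
attribute [local instance] HasDerivedCategory.standard
open CategoryTheory
open DRing

namespace Groth.Agent.S7092

/-- Let A be a commutative ring, I an ideal generated by a finite set of r elements, and assume the
derived completion functor exists. If a morphism K → L in D(A) induces isomorphisms on cohomology in
degrees ≤ -1 and an injection in degree 0, then the induced morphism of derived completions induces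
isomorphisms on cohomology in degrees ≤ -r-1 and an injection in degree -r. -/
theorem result {A : Type u} [CommRing A] (I : Ideal A) (s : Finset A)
    (hs : Ideal.span (s : Set A) = I) [DRing.HasDerivedCompletion I] {K L : Dual.D A} (φ : K ⟶ L)
    (hiso : ∀ i : ℤ, i ≤ -1 → IsIso ((DerivedCategory.homologyFunctor (ModuleCat.{u} A) i).map φ))
    (hmono : Mono ((DerivedCategory.homologyFunctor (ModuleCat.{u} A) 0).map φ)) :
    (∀ i : ℤ, i ≤ -(s.card : ℤ) - 1 → IsIso ((DerivedCategory.homologyFunctor (ModuleCat.{u} A) i).map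
        ((DRing.derivedCompletion I).map φ).hom)) ∧
      Mono ((DerivedCategory.homologyFunctor (ModuleCat.{u} A) (-(s.card : ℤ))).map
        ((DRing.derivedCompletion I).map φ).hom) := by
  obtain ⟨M, ψ, χ, hT⟩ := CategoryTheory.Pretriangulated.distinguished_cocone_triangle φ
  -- the cone has no cohomology in degrees `≤ -1`
  have hM : ∀ i ∈ {i : ℤ | i ≤ -1}, CategoryTheory.Limits.IsZero
      ((Groth.Agent.Lib.TKfAmp.H A i).obj M) := by
    intro i hi
    have hi' : i ≤ -1 := hi
    have hepi' : Epi ((Groth.Agent.Lib.TKfAmp.H A i).map φ) := by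
      have := hiso i hi'
      infer_instance
    have hmono' : Mono ((Groth.Agent.Lib.TKfAmp.H A (i + 1)).map φ) := by
      rcases hi'.eq_or_lt with h0 | h0
      · have : i + 1 = 0 := by omega
        rw [this]; exact hmono
      · have := hiso (i + 1) (by omega)
        infer_instance
    exact Groth.Agent.Lib.TKfTri.isZero_H_obj₃ _ hT i hepi' hmono'
  have hMc : ∀ i : ℤ, i ≤ -(s.card : ℤ) - 1 → CategoryTheory.Limits.IsZero
      ((Groth.Agent.Lib.TKfAmp.H A i).obj ((DRing.derivedCompletion I).obj M).obj) := fun i hi =>
    Groth.Agent.Lib.TKfTri.isZero_H_derivedCompletion I s hs M _ hM i (fun k hk => by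
      change i + (k : ℤ) ≤ -1
      have : (k : ℤ) ≤ s.card := by exact_mod_cast hk
      omega)
  obtain ⟨h, hT'⟩ := Groth.Agent.Lib.TKfTri.exists_triangle I _ hT
  refine ⟨fun i hi => ?_, ?_⟩
  · have h1 : Epi ((DerivedCategory.homologyFunctor (ModuleCat.{u} A) i).map
        ((DRing.derivedCompletion I).map φ).hom) :=
      Groth.Agent.Lib.TKfTri.epi_H_mor₁ _ hT' i (hMc i hi)
    have h2 : Mono ((DerivedCategory.homologyFunctor (ModuleCat.{u} A) i).map
        ((DRing.derivedCompletion I).map φ).hom) :=
      Groth.Agent.Lib.TKfTri.mono_H_mor₁ _ hT' (i - 1) i (by omega) (hMc (i - 1) (by omega))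
    exact CategoryTheory.isIso_of_mono_of_epi _
  · exact Groth.Agent.Lib.TKfTri.mono_H_mor₁ _ hT' (-(s.card : ℤ) - 1) (-(s.card : ℤ)) (by omega)
      (hMc _ le_rfl)

end Groth.Agent.S7092
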