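import Groth.Statements.S7093
import Groth.Agent.S7017
import Groth.Agent.S6937
import Groth.Agent.Lib.FlatAmp4
import Groth.Agent.Lib.FlatAmp3
import Groth.Agent.Lib.TorAmpBasic21

set_option autoImplicit false
universe u
attribute [local instance] HasDerivedCategory.standard
open CategoryTheory CategoryTheory.Limits
open Dual2

namespace Groth.Agent.S7093

open Groth.Agent.Lib.FlatAmp Groth.Agent.Lib.PCohAmp Groth.Agent.Lib.DRingPerfAmp
  CategoryTheory.Pretriangulated ZeroObject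

section Aux

variable (R : Type u) [CommRing R]

/-- finite tor dimension -/
abbrev FTD (K : Dual.D R) : Prop := DRing.HasFiniteTorDimCx R K

lemma ftd_iff (K : Dual.D R) : FTD R K ↔ ∃ a b : ℤ, PA (FL R) a b K := by
  constructor
  · rintro ⟨a, b, h⟩
    exact ⟨a, b, (hasTorAmplitudeIn_iff_pa R a b K).1 h⟩
  · rintro ⟨a, b, h⟩
    exact ⟨a, b, (hasTorAmplitudeIn_iff_pa R a b K).2 h⟩

variable {R}

lemma ftd_of_isZero {K : Dual.D R} (h : IsZero K) : FTD R K :=
  (ftd_iff R K).2 ⟨0, 0, pa_of_isZero R 0 0 h⟩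

lemma ftd_of_iso {K L : Dual.D R} (e : K ≅ L) (h : FTD R K) : FTD R L := by
  rw [ftd_iff] at h ⊢
  obtain ⟨a, b, h⟩ := h
  exact ⟨a, b, pa_of_iso e h⟩

lemma ftd_shift {K : Dual.D R} (h : FTD R K) (n : ℤ) : FTD R (K⟦n⟧) := by
  rw [ftd_iff] at h ⊢
  obtain ⟨a, b, h⟩ := h
  exact ⟨_, _, pa_shift h n⟩

lemma ftd_ext (T : Triangle (Dual.D R)) (hT : T ∈ distTriang (Dual.D R)) (h₁ : FTD R T.obj₁)
    (h₃ : FTD R T.obj₃) : FTD R T.obj₂ := by
  rw [ftd_iff] at h₁ h₃ ⊢
  obtain ⟨a₁, b₁, h₁⟩ := h₁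
  obtain ⟨a₃, b₃, h₃⟩ := h₃
  exact ⟨min a₁ a₃, max b₁ b₃, pa_fl_ext R _ _ T hT
    (pa_mono (min_le_left _ _) (le_max_left _ _) h₁)
    (pa_mono (min_le_right _ _) (le_max_right _ _) h₃)⟩

lemma ftd_biprod {K L : Dual.D R} [HasBinaryBiproduct K L] (h : FTD R (K ⊞ L)) :
    FTD R K ∧ FTD R L := by
  rw [ftd_iff] at h
  obtain ⟨a, b, h⟩ := h
  exact ⟨(ftd_iff R K).2 ⟨a, b, pa_fl_of_biprod_left R a b K L h⟩,
    (ftd_iff R L).2 ⟨a, b, pa_fl_of_biprod_right R a b K L h⟩⟩

open Groth.Agent.Lib.H93ConeRep Groth.Agent.S7017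

lemma pc_of_isZero {K : Dual.D R} (h : IsZero K) : DRing.IsPseudoCoherent' R K := by
  refine ⟨0, 0, fun i _ => ?_, fun i => ?_, ⟨?_⟩⟩
  · exact (HomologicalComplex.eval _ _ i).map_isZero (isZero_zero _)
  · have h0 : IsZero ((0 : DRing.Cx R).X i) :=
      (HomologicalComplex.eval _ _ i).map_isZero (isZero_zero _)
    have : Subsingleton ((0 : DRing.Cx R).X i) := ModuleCat.subsingleton_of_isZero h0
    exact ⟨inferInstance, inferInstance⟩
  · exact (DerivedCategory.Q.map_isZero (isZero_zero _)).iso h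

lemma pc_of_iso {K L : Dual.D R} (e : K ≅ L) (h : DRing.IsPseudoCoherent' R K) :
    DRing.IsPseudoCoherent' R L := by
  obtain ⟨E, b, h1, h2, ⟨i⟩⟩ := h
  exact ⟨E, b, h1, h2, ⟨i ≪≫ e⟩⟩

lemma pc_shift {K : Dual.D R} (h : DRing.IsPseudoCoherent' R K) (n : ℤ) :
    DRing.IsPseudoCoherent' R (K⟦n⟧) := by
  rw [isPseudoCoherent'_iff_rep] at h ⊢
  exact rep_shift (coneClass_finFree R) n h

end Aux

/-- For a flat homomorphism of finite presentation R → A of commutative rings, the R-perfect objects of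
D(A) (pseudo-coherent over A, finite tor dimension over R) form a strictly full, saturated
triangulated subcategory: the property is a triangulated object property (contains zero, stable
under shifts and under extensions in distinguished triangles), is closed under isomorphisms, and
passes to direct summands. -/
theorem result (R A : Type u) [CommRing R] [CommRing A] [Algebra R A]
    [Module.Flat R A] [Algebra.FinitePresentation R A] :
    ObjectProperty.IsTriangulated (C := Dual.D A) (fun K => Dual2.IsRelPerfect R A K) ∧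
      ObjectProperty.IsClosedUnderIsomorphisms (C := Dual.D A) (fun K => Dual2.IsRelPerfect R A K) ∧
      ∀ X Y : Dual.D A, Dual2.IsRelPerfect R A (X ⊞ Y) → Dual2.IsRelPerfect R A X ∧ Dual2.IsRelPerfect R A Y := by
  let Φ := DRing.restrictD (algebraMap R A)
  have hiso : ∀ {K L : Dual.D A} (e : K ≅ L), Dual2.IsRelPerfect R A K → Dual2.IsRelPerfect R A L :=
    fun e h => ⟨pc_of_iso e h.1, ftd_of_iso (Φ.mapIso e) h.2⟩
  have hcl : ObjectProperty.IsClosedUnderIsomorphisms (C := Dual.D A)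
      (fun K => Dual2.IsRelPerfect R A K) := ⟨fun e h => hiso e h⟩
  refine ⟨?_, hcl, ?_⟩
  · have h0 : ObjectProperty.ContainsZero (C := Dual.D A) (fun K => Dual2.IsRelPerfect R A K) :=
      ⟨⟨0, isZero_zero _, pc_of_isZero (isZero_zero _),
        ftd_of_isZero (Φ.map_isZero (isZero_zero _))⟩⟩
    have h1 : ObjectProperty.IsStableUnderShift (C := Dual.D A)
        (fun K => Dual2.IsRelPerfect R A K) ℤ :=
      ⟨fun n => ⟨fun K hK => ⟨pc_shift hK.1 n,
        ftd_of_iso ((Φ.commShiftIso n).app K).symm (ftd_shift hK.2 n)⟩⟩⟩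
    have h2 : ObjectProperty.IsTriangulatedClosed₂ (C := Dual.D A)
        (fun K => Dual2.IsRelPerfect R A K) :=
      ⟨fun T hT h₁ h₃ => ObjectProperty.le_isoClosure _ _
        ⟨(Groth.Agent.S7017.result A T hT).2.1 h₁.1 h₃.1,
          ftd_ext (Φ.mapTriangle.obj T) (Φ.map_distinguished T hT) h₁.2 h₃.2⟩⟩
    exact { toContainsZero := h0, toIsStableUnderShift := h1, toIsTriangulatedClosed₂ := h2 }
  · intro X Y h
    have h1 := (Groth.Agent.S6937.result A 0 X Y).2 h.1
    have : HasBinaryBiproduct (Φ.obj X) (Φ.obj Y) := inferInstance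
    have : Φ.Additive := inferInstance
    have : PreservesBinaryBiproducts Φ := preservesBinaryBiproducts_of_preservesBiproducts _
    have h2 := ftd_biprod (ftd_of_iso (Φ.mapBiprod X Y) h.2)
    exact ⟨⟨h1.1, h2.1⟩, ⟨h1.2, h2.2⟩⟩

end Groth.Agent.S7093
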