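import Groth.Statements.S7095
import Groth.Agent.Lib.CplTensorMod25

set_option autoImplicit false
universe u
attribute [local instance] HasDerivedCategory.standard
open CategoryTheory
open DRing

namespace Groth.Agent.S7095

/-- Let A be a Noetherian commutative ring and I an ideal, and assume the derived completion functor and
the derived tensor product with a finite A-module M (total left derived functor) exist. For every
object K of D(A) whose cohomology is bounded above, K^∧ ⊗^L_A M is the derived completion of K ⊗^L_A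
M through the map K ⊗^L_A M → K^∧ ⊗^L_A M induced by the canonical morphism K → K^∧ to the derived
completion K^∧ of K: the object K^∧ ⊗^L_A M is derived complete with respect to I, and every
morphism from K ⊗^L_A M to a derived complete object of D(A) factors uniquely through that map. -/
theorem result {A : Type u} [CommRing A] [IsNoetherianRing A] (I : Ideal A)
    [DRing.HasDerivedCompletion I] (M : Type u) [AddCommGroup M] [Module A M] [Module.Finite A M]
    [DRing.HasLTensor A (ModuleCat.of A M)] (K : Dual.D A) (b : ℤ) (hK : ∀ i : ℤ, b < i → Subsingleton (Dual.HD A K i)) :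
    DRing.IsDerivedComplete I ((DRing.LTensor A (ModuleCat.of A M)).obj ((DRing.derivedCompletion I).obj K).obj) ∧
      ∀ E : Dual.D A, DRing.IsDerivedComplete I E →
        Function.Bijective (fun φ : (DRing.LTensor A (ModuleCat.of A M)).obj ((DRing.derivedCompletion I).obj K).obj ⟶ E =>
          (DRing.LTensor A (ModuleCat.of A M)).map (DRing.toDerivedCompletion I K) ≫ φ) := by
  classical
  obtain ⟨s, hs⟩ := (IsNoetherian.noetherian I : I.FG)
  -- a finite free resolution of `M`
  obtain ⟨F, hF0, hFf, ⟨eF⟩⟩ := Groth.Agent.Lib.FinFreeRes.exists_finite_free_rep A M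
  haveI : F.IsKProjective :=
    Groth.Agent.Lib.RHomCx25.isKProjective_of_vanishesAbove F 0 hF0 (fun i => by
      obtain ⟨h1, h2⟩ := hFf i
      infer_instance)
  obtain ⟨ψ, hψ⟩ := Groth.Agent.Lib.RHomModel25.exists_Q_map_eq_of_kproj (X := F)
    (Y := Groth.Agent.Lib.HomTensor25.sg (ModuleCat.of A M)) eF.hom
  haveI : QuasiIso ψ := by
    rw [← DerivedCategory.isIso_Q_map_iff_quasiIso, hψ]
    infer_instance
  have hKc : DRing.IsDerivedComplete I ((DRing.derivedCompletion I).obj K).obj :=
    ((DRing.derivedCompletion I).obj K).property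
  have hamp : ∀ i : ℤ, b < i →
      Subsingleton (Dual.HD A ((DRing.derivedCompletion I).obj K).obj i) := by
    intro i hi
    have hz := Groth.Agent.Lib.TKfTri.isZero_H_derivedCompletion I s hs K {j | b < j}
      (fun j hj => by
        haveI := hK j hj
        exact ModuleCat.isZero_of_subsingleton _) i
      (fun k _ => by
        simp only [Set.mem_setOf_eq]
        omega)
    exact ModuleCat.subsingleton_of_isZero hz
  obtain ⟨P, hPb, hPp, ⟨e⟩⟩ := Groth.Agent.Lib.ProjResolution.exists_projective_rep A K b hK
  obtain ⟨P', hP'b, hP'p, ⟨e'⟩⟩ :=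
    Groth.Agent.Lib.ProjResolution.exists_projective_rep A _ b hamp
  haveI : P.IsKProjective :=
    Groth.Agent.Lib.RHomCx25.isKProjective_of_vanishesAbove P b hPb hPp
  haveI : P'.IsKProjective :=
    Groth.Agent.Lib.RHomCx25.isKProjective_of_vanishesAbove P' b hP'b hP'p
  obtain ⟨φ, hφ⟩ := Groth.Agent.Lib.RHomModel25.exists_Q_map_eq_of_kproj
    (e.hom ≫ DRing.toDerivedCompletion I K ≫ e'.inv)
  have hP'c : DRing.IsDerivedComplete I (DerivedCategory.Q.obj P') :=
    (DRing.IsDerivedComplete I).prop_of_iso e'.symm hKc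
  have h1 := Groth.Agent.Lib.CplTensor25.isDerivedComplete_tensor I P' b hP'b hP'c F 0 hF0 hFf
  refine ⟨(DRing.IsDerivedComplete I).prop_of_iso
    ((DRing.LTensor A (ModuleCat.of A M)).mapIso e'.symm ≪≫
      Groth.Agent.Lib.CplTensor25.ltmIso (ModuleCat.of A M) F ψ P' b hP'b hP'p).symm h1,
    fun E hE => ?_⟩
  exact Groth.Agent.Lib.CplTensor25.bijective_map_toDerivedCompletion_of_iso I
    (DRing.LTensor A (ModuleCat.of A M)) F K E hE P P' e e' φ hφ
    (Groth.Agent.Lib.CplTensor25.ltmIso (ModuleCat.of A M) F ψ P b hPb hPp)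
    (Groth.Agent.Lib.CplTensor25.ltmIso (ModuleCat.of A M) F ψ P' b hP'b hP'p)
    (Groth.Agent.Lib.CplTensor25.ltmIso_hom_naturality (ModuleCat.of A M) F ψ P P' b b hPb hPp
      hP'b hP'p φ)

end Groth.Agent.S7095
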