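import Groth.Statements.S7096
import Groth.Agent.Lib.TKfAdj
-- import your own Groth.Agent.* helpers here

set_option autoImplicit false
universe u
attribute [local instance] HasDerivedCategory.standard
open DRing

namespace Groth.Agent.S7096

/-- For a commutative ring A and a finitely generated ideal I, the inclusion of the full subcategory of
I-derived complete objects into D(A) is a right adjoint, i.e. derived completion with respect to I
exists. -/
theorem result {A : Type u} [CommRing A] (I : Ideal A) (hI : I.FG) :
    DRing.HasDerivedCompletion I :=
  Groth.Agent.Lib.TKfAdj.hasDerivedCompletion_of_fg I hI

end Groth.Agent.S7096
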