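import Groth.Statements.S7100
import Groth.Agent.Lib.FlatFPPerfect
import Groth.Agent.S6940

set_option autoImplicit false
universe u
attribute [local instance] HasDerivedCategory.standard
open DerCA

namespace Groth.Agent.S7100

/-- (1)⇔(4): let R → B → A be homomorphisms of commutative rings with B → A surjective and with R → B
and R → A both flat and of finite presentation. Then an object K of D(A) is pseudo-coherent
(isomorphic in D(A) to a bounded above complex of finite free modules) if and only if its
restriction of scalars to D(B) is pseudo-coherent; and for every integer m, K is m-pseudo-coherent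
if and only if its restriction of scalars to D(B) is m-pseudo-coherent. -/
theorem result (R B A : Type u) [CommRing R] [CommRing B] [CommRing A]
    [Algebra R B] [Algebra R A] [Algebra B A] [IsScalarTower R B A]
    (hφ : Function.Surjective (algebraMap B A))
    [Module.Flat R B] [Algebra.FinitePresentation R B] [Module.Flat R A] [Algebra.FinitePresentation R A]
    (K : Dual.D A) :
    (DRing.IsPseudoCoherent' A K ↔ DRing.IsPseudoCoherent' B ((DRing.restrictD (algebraMap B A)).obj K)) ∧
      ∀ m : ℤ, (DRing.IsPseudoCoherent A m K ↔
        DRing.IsPseudoCoherent B m ((DRing.restrictD (algebraMap B A)).obj K)) := by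
  have hRB := Groth.Agent.Lib.FlatFPPerfect.isPseudoCoherentHom_of_flat_of_finitePresentation R B
  have hRA := Groth.Agent.Lib.FlatFPPerfect.isPseudoCoherentHom_of_flat_of_finitePresentation R A
  have hBA : MoreMor.IsPseudoCoherentHom B A := Groth.Agent.Lib.PCohHomLocal.pcHom_cancel hRB hRA
  have hfin : Module.Finite B A := Module.Finite.of_surjective (Algebra.linearMap B A) hφ
  have hmod : DRing.IsPseudoCoherentModule' B A :=
    (Groth.Agent.Lib.PCohHomLocal.pcHom_iff_module_of_finite (A := B) (B := A)).1 hBA
  exact ⟨(Groth.Agent.S6940.result hmod K 0).2, fun m => (Groth.Agent.S6940.result hmod K m).1⟩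

end Groth.Agent.S7100
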