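import Groth.Statements.S7102
import Groth.Agent.Lib.TensorTorAmp54
import Groth.Agent.Lib.LTensorCxKProj
import Groth.Agent.Lib.LTensorCxBdd
import Groth.Agent.Lib.K0Perf
import Groth.Agent.S6938
import Groth.Agent.Lib.TorAmpBasic21
import Groth.Agent.S6954

set_option autoImplicit false
universe u
attribute [local instance] HasDerivedCategory.standard
open Dual2

namespace Groth.Agent.S7102

/-- Let R → A be a flat homomorphism of finite presentation of commutative rings, E a bounded cochain
complex of finite projective A-modules (a perfect object of D(A)) for which the derived functor −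
⊗^L_A E exists, and M an R-perfect object of D(A). Then M ⊗^L_A E is R-perfect. -/
theorem result (R A : Type u) [CommRing R] [CommRing A] [Algebra R A]
    [Module.Flat R A] [Algebra.FinitePresentation R A] (E : DRing.Cx A) (a b : ℤ)
    (hEb : DRing.VanishesOutside E a b) (hEp : DRing.TermwiseFiniteProjective E) [DRing.HasLTensorCx A E]
    (M : Dual.D A) (hM : Dual2.IsRelPerfect R A M) :
    Dual2.IsRelPerfect R A ((DRing.LTensorCx A E).obj M) := by
  obtain ⟨⟨P, c₀, vP, hPf, ⟨e⟩⟩, ⟨c, d, hTor⟩⟩ := hM
  have hPp : ∀ i, Module.Projective A (P.X i) := fun i => by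
    have := (hPf i).1
    have := (hPf i).2
    infer_instance
  have := Groth.Agent.Lib.LTensorCxBdd.isKProjective_of_vanishesAbove vP hPp
  have e1 : (DRing.LTensorCx A E).obj M ≅ DRing.toD (HomologicalComplex.tensorObj P E) :=
    (DRing.LTensorCx A E).mapIso e.symm ≪≫ Groth.Agent.Lib.LTensorCxKProj.ltcIso A E P
  constructor
  · -- pseudo-coherence
    have hv : DRing.VanishesAbove (HomologicalComplex.tensorObj P E) (c₀ + b) :=
      Groth.Agent.Lib.LTensorCxBdd.vanishesAbove_tensorObj P E vP (fun i hi => hEb i (Or.inr hi))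
    have hterm : DRing.TermwiseFiniteProjective (HomologicalComplex.tensorObj P E) := fun n =>
      Groth.Agent.Lib.TensorCxTerms.prop_tensorObj_X P E Groth.Agent.Lib.LTensorCxBdd.FP
        Groth.Agent.Lib.LTensorCxBdd.fp_pi n (Finset.Icc (n - b) (n - a))
        (fun i hi => Groth.Agent.Lib.TensorCxTerms.isZero_tensor_right _ (hEb (n - i) (by
          rw [Finset.mem_Icc] at hi
          lia)))
        (fun i _ => Groth.Agent.Lib.LTensorCxBdd.fp_tensor ⟨(hPf i).1, hPp i⟩ (hEp (n - i)))
    have hpc := (Groth.Agent.S6938.result A 0 (HomologicalComplex.tensorObj P E) (c₀ + b) hv).2 (fun i => by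
      have hperf : DRing.IsPerfect A (Dual.inD A ((HomologicalComplex.tensorObj P E).X i)) :=
        Groth.Agent.Lib.K0Perf.perf_single (R := A) (M := (HomologicalComplex.tensorObj P E).X i) (hterm i) 0
      exact ((Groth.Agent.S6954.result A _).1 hperf).1)
    obtain ⟨F, bF, h1, h2, ⟨eF⟩⟩ := hpc
    exact ⟨F, bF, h1, h2, ⟨eF ≪≫ e1.symm⟩⟩
  · -- finite tor dimension
    have hTor' : Groth.Agent.Lib.PCohAmp.PA (Groth.Agent.Lib.DRingPerfAmp.FL R) c d
        ((DRing.restrictD (algebraMap R A)).obj (DerivedCategory.Q.obj P)) :=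
      (Groth.Agent.Lib.FlatAmp.hasTorAmplitudeIn_iff_pa R c d _).1
        (Groth.Agent.Lib.TorAmpBasic21.hasTorAmplitudeIn_of_iso R
          ((DRing.restrictD (algebraMap R A)).mapIso e.symm) hTor)
    have h := Groth.Agent.Lib.TensorTorAmp54.pa_tensor (R := R) c d a b hTor' E hEb hEp
    refine ⟨c + a, d + b, ?_⟩
    exact Groth.Agent.Lib.TorAmpBasic21.hasTorAmplitudeIn_of_iso R
      ((DRing.restrictD (algebraMap R A)).mapIso e1.symm)
      ((Groth.Agent.Lib.FlatAmp.hasTorAmplitudeIn_iff_pa R _ _ _).2 h)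

end Groth.Agent.S7102
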