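import Groth.Statements.S7107
import Mathlib.LinearAlgebra.Finsupp.SumProd
import Mathlib.LinearAlgebra.Finsupp.Pi
import Mathlib.LinearAlgebra.Finsupp.LSum
import Mathlib.SetTheory.Cardinal.Arithmetic

set_option autoImplicit false
universe u
open CAlg

namespace Groth.Agent.S7107

/-- Finitely supported functions into a product split as a product. -/
noncomputable def finsuppProdSplit (R : Type*) [CommRing R] (α : Type*) (M N : Type*)
    [AddCommGroup M] [Module R M] [AddCommGroup N] [Module R N] :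
    (α →₀ M × N) ≃ₗ[R] (α →₀ M) × (α →₀ N) :=
  LinearEquiv.ofLinearMap
    ((Finsupp.mapRange.linearMap (LinearMap.fst R M N)).prod
      (Finsupp.mapRange.linearMap (LinearMap.snd R M N)))
    ((Finsupp.mapRange.linearMap (LinearMap.inl R M N)).coprod
      (Finsupp.mapRange.linearMap (LinearMap.inr R M N)))
    (by
      apply LinearMap.ext
      rintro ⟨g, h⟩
      apply Prod.ext
      · ext a
        simp
      · ext a
        simp)
    (by
      apply LinearMap.ext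
      intro f
      ext a
      · simp
      · simp)

/-- `M × (ℕ →₀ M) ≃ (ℕ →₀ M)` (Hilbert hotel). -/
noncomputable def shiftEquiv (R : Type*) [CommRing R] (M : Type*) [AddCommGroup M] [Module R M] :
    (M × (ℕ →₀ M)) ≃ₗ[R] (ℕ →₀ M) :=
  ((Finsupp.uniqueLinearEquiv R M (α := PUnit.{1}) PUnit.unit).symm.prodCongr
      (LinearEquiv.refl R (ℕ →₀ M))).trans
    ((Finsupp.sumFinsuppLEquivProdFinsupp R).symm.trans
      (Finsupp.domLCongr ((Equiv.sumComm _ _).trans Equiv.natSumPUnitEquivNat)))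

/-- Let R be a ring and P, Q modules such that P ⊕ Q is isomorphic to a free module F on an infinite
basis. Then P ⊕ F is isomorphic to F. -/
theorem result (R : Type u) [CommRing R] (P Q : Type u) [AddCommGroup P] [Module R P]
    [AddCommGroup Q] [Module R Q] (ι : Type u) [Infinite ι] (e : (P × Q) ≃ₗ[R] (ι →₀ R)) :
    Nonempty ((P × (ι →₀ R)) ≃ₗ[R] (ι →₀ R)) := by
  -- `ι ≃ ℕ × ι`
  have hcard : Nonempty (ℕ × ι ≃ ι) := by
    rw [← Cardinal.eq]
    rw [Cardinal.mk_prod, Cardinal.mk_nat, Cardinal.lift_aleph0, Cardinal.lift_uzero,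
      Cardinal.aleph0_mul_mk_eq]
  obtain ⟨eι⟩ := hcard
  -- `F ≃ (ℕ →₀ P) × (ℕ →₀ Q)`
  let eF : (ι →₀ R) ≃ₗ[R] (ℕ →₀ P) × (ℕ →₀ Q) :=
    (Finsupp.domLCongr eι.symm).trans
      ((Finsupp.curryLinearEquiv R).trans
        ((Finsupp.mapRange.linearEquiv (α := ℕ) e.symm).trans (finsuppProdSplit R ℕ P Q)))
  have e1 : (P × (ι →₀ R)) ≃ₗ[R] P × ((ℕ →₀ P) × (ℕ →₀ Q)) :=
    (LinearEquiv.refl R P).prodCongr eF
  have e2 : (P × ((ℕ →₀ P) × (ℕ →₀ Q))) ≃ₗ[R] (P × (ℕ →₀ P)) × (ℕ →₀ Q) :=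
    (LinearEquiv.prodAssoc R P (ℕ →₀ P) (ℕ →₀ Q)).symm
  have e3 : ((P × (ℕ →₀ P)) × (ℕ →₀ Q)) ≃ₗ[R] (ℕ →₀ P) × (ℕ →₀ Q) :=
    (shiftEquiv R P).prodCongr (LinearEquiv.refl R (ℕ →₀ Q))
  exact ⟨e1 ≪≫ₗ e2 ≪≫ₗ e3 ≪≫ₗ eF.symm⟩

end Groth.Agent.S7107
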