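import Groth.Statements.S7109
import Groth.Agent.Lib.Swindle
import Mathlib.LinearAlgebra.Pi
import Mathlib.LinearAlgebra.Finsupp.Pi
import Mathlib.LinearAlgebra.FreeModule.Finite.Basic

set_option autoImplicit false
universe u
open CAlg

namespace Groth.Agent.S7109

/-- Let P be a projective module over a ring R and s an element of P. Then there are a finite free
module R^n and a direct summand K of R^n ⊕ P which is finite free and contains (0, s). -/
theorem result (R : Type u) [CommRing R] (P : Type u) [AddCommGroup P]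
    [Module R P] [Module.Projective R P] (s : P) :
    ∃ (n : ℕ) (K K' : Submodule R ((Fin n → R) × P)), IsCompl K K' ∧ Module.Free R K ∧ Module.Finite R K ∧
      ((0, s) : (Fin n → R) × P) ∈ K := by
  classical
  obtain ⟨σ, hσ⟩ := Module.projective_def'.mp (inferInstance : Module.Projective R P)
  set π := Finsupp.linearCombination R (id : P → P) with hπ
  have hπσ : ∀ z, π (σ z) = z := fun z ↦ LinearMap.congr_fun hσ z
  set t := σ s with ht
  set I := t.support with hI
  set n := I.card with hn
  let b : Fin n → P := fun i ↦ ((I.equivFin.symm i : I) : P)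
  have hb : Function.Injective b := fun i j h ↦ I.equivFin.symm.injective (Subtype.ext h)
  have hbI : ∀ a ∈ I, ∃ i, b i = a := fun a ha ↦ ⟨I.equivFin ⟨a, ha⟩, by simp [b]⟩
  let emb : (Fin n → R) →ₗ[R] (P →₀ R) :=
    Fintype.linearCombination R (fun i ↦ Finsupp.single (b i) (1 : R))
  let π' : (P →₀ R) →ₗ[R] (Fin n → R) := LinearMap.pi (fun i ↦ Finsupp.lapply (b i))
  have hemb_apply : ∀ (v : Fin n → R) (i : Fin n), emb v (b i) = v i := by
    intro v i
    simp only [emb, Fintype.linearCombination_apply, Finsupp.coe_finsetSum, Finset.sum_apply,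
      Finsupp.coe_smul, Pi.smul_apply, smul_eq_mul]
    rw [Finset.sum_eq_single i]
    · simp
    · intro j _ hji
      rw [Finsupp.single_apply, if_neg (fun h ↦ hji (hb h)), mul_zero]
    · intro h
      exact absurd (Finset.mem_univ i) h
  have hπ'emb : ∀ v, π' (emb v) = v := by
    intro v
    ext i
    exact hemb_apply v i
  have hembπ' : emb (π' t) = t := by
    ext a
    by_cases ha : a ∈ I
    · obtain ⟨i, rfl⟩ := hbI a ha
      rw [hemb_apply]
      rfl
    · have h0 : t a = 0 := Finsupp.notMem_support_iff.mp ha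
      rw [h0]
      simp only [emb, Fintype.linearCombination_apply, Finsupp.coe_finsetSum, Finset.sum_apply,
        Finsupp.coe_smul, Pi.smul_apply, smul_eq_mul]
      apply Finset.sum_eq_zero
      intro j _
      have hne : b j ≠ a := by
        intro h
        apply ha
        rw [← h]
        exact (I.equivFin.symm j).2
      rw [Finsupp.single_apply, if_neg hne, mul_zero]
  let ψ : (Fin n → R) →ₗ[R] (Fin n → R) × P :=
    (LinearMap.id - π' ∘ₗ σ ∘ₗ π ∘ₗ emb).prod (π ∘ₗ emb)
  let ρ : (Fin n → R) × P →ₗ[R] (Fin n → R) := LinearMap.coprod LinearMap.id (π' ∘ₗ σ)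
  have hρψ' : ∀ v, ρ (ψ v) = v := by
    intro v
    simp [ψ, ρ]
  have hρψ : ρ ∘ₗ ψ = LinearMap.id := LinearMap.ext hρψ'
  have hinj : Function.Injective ψ := fun v w h ↦ by
    rw [← hρψ' v, ← hρψ' w, h]
  refine ⟨n, LinearMap.range ψ, LinearMap.ker ρ,
    Groth.Agent.Lib.Swindle.isCompl_range_ker_of_comp_eq_id R ψ ρ hρψ, ?_, ?_, ?_⟩
  · exact Module.Free.of_equiv (LinearEquiv.ofInjective ψ hinj)
  · exact Module.Finite.equiv (LinearEquiv.ofInjective ψ hinj)
  · refine ⟨π' t, ?_⟩
    change ((π' t - π' (σ (π (emb (π' t)))), π (emb (π' t))) : (Fin n → R) × P) = (0, s)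
    rw [hembπ', ht, hπσ, sub_self]

end Groth.Agent.S7109
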