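import Groth.Statements.S7113
import Groth.Agent.Lib.SerreProp6

set_option autoImplicit false
universe u
open CAlg

namespace Groth.Agent.S7113

open Groth.Agent.Lib.SerreProp6 Groth.Agent.Lib.JSpec6
open Groth.Agent.Lib.BasicElt6 (κ)

/-- a free direct summand of rank `d + 1` of the localization at a maximal ideal gives `d + 1`
elements of `M` which are linearly independent in Serre's `V(x)`. -/
lemma exists_cind {R : Type u} [CommRing R] (d : ℕ) (M : Type u) [AddCommGroup M] [Module R M]
    [Module.FinitePresentation R M] (x : MaximalSpectrum R)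
    (f : (Fin (d + 1) → Localization.AtPrime x.asIdeal) →ₗ[Localization.AtPrime x.asIdeal]
      LocalizedModule x.asIdeal.primeCompl M)
    (g : LocalizedModule x.asIdeal.primeCompl M →ₗ[Localization.AtPrime x.asIdeal]
      (Fin (d + 1) → Localization.AtPrime x.asIdeal))
    (hgf : g ∘ₗ f = LinearMap.id) : ∃ m : Fin (d + 1) → M, CInd x m := by
  classical
  have hgf' : ∀ y, g (f y) = y := fun y => LinearMap.congr_fun hgf y
  choose ms hms using fun i : Fin (d + 1) =>
    IsLocalizedModule.surj x.asIdeal.primeCompl
      (LocalizedModule.mkLinearMap x.asIdeal.primeCompl M) (f (Pi.single i 1))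
  let gt : Fin (d + 1) → (M →ₗ[R] Localization.AtPrime x.asIdeal) := fun l =>
    ((LinearMap.proj l ∘ₗ g).restrictScalars R) ∘ₗ
      LocalizedModule.mkLinearMap x.asIdeal.primeCompl M
  choose φ τ hφ using fun l : Fin (d + 1) =>
    Module.FinitePresentation.exists_lift_of_isLocalizedModule x.asIdeal.primeCompl
      (Algebra.linearMap R (Localization.AtPrime x.asIdeal)) (gt l)
  have key : ∀ l i, algebraMap R (Localization.AtPrime x.asIdeal) (φ l (ms i).1) =
      if l = i then algebraMap R (Localization.AtPrime x.asIdeal) ((τ l : R) * ((ms i).2 : R))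
      else 0 := by
    intro l i
    have h1 := LinearMap.congr_fun (hφ l) (ms i).1
    simp only [LinearMap.coe_comp, Function.comp_apply, Algebra.linearMap_apply,
      LinearMap.smul_apply, gt, LinearMap.coe_restrictScalars, LinearMap.coe_proj,
      Function.eval] at h1
    have h2 : g (LocalizedModule.mkLinearMap x.asIdeal.primeCompl M (ms i).1) =
        algebraMap R (Localization.AtPrime x.asIdeal) ((ms i).2 : R) •
          (Pi.single i 1 : Fin (d + 1) → Localization.AtPrime x.asIdeal) := by
      rw [← hms i, Submonoid.smul_def, ← algebraMap_smul (Localization.AtPrime x.asIdeal),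
        map_smul, hgf']
    rw [h1, h2]
    simp only [Pi.smul_apply, Pi.single_apply]
    split_ifs with h
    · rw [Submonoid.smul_def, Algebra.smul_def, smul_eq_mul, mul_one, map_mul]
    · simp
  refine ⟨fun i => (ms i).1, fun r hr l => ?_⟩
  have h1 := hr (φ l)
  have h2 : algebraMap R (Localization.AtPrime x.asIdeal) (φ l (∑ i, r i • (ms i).1)) =
      algebraMap R (Localization.AtPrime x.asIdeal) (r l * ((τ l : R) * ((ms l).2 : R))) := by
    rw [map_sum, map_sum, Finset.sum_eq_single l]
    · rw [map_smul, smul_eq_mul, map_mul, key l l, if_pos rfl, ← map_mul]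
    · intro i _ hil
      rw [map_smul, smul_eq_mul, map_mul, key l i, if_neg (Ne.symm hil), mul_zero]
    · intro hl; exact absurd (Finset.mem_univ l) hl
  have h3 : r l * ((τ l : R) * ((ms l).2 : R)) ∈ x.asIdeal := by
    rw [← IsLocalization.AtPrime.to_map_mem_maximal_iff (Localization.AtPrime x.asIdeal)
      x.asIdeal, ← h2,
      IsLocalization.AtPrime.to_map_mem_maximal_iff (Localization.AtPrime x.asIdeal) x.asIdeal]
    exact h1
  rcases x.isMaximal.isPrime.mem_or_mem h3 with h | h
  · exact h
  · rcases x.isMaximal.isPrime.mem_or_mem h with h' | h'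
    · exact absurd h' (τ l).2
    · exact absurd h' (ms l).2.2

/-- Let R be a ring whose set of maximal ideals, with the Zariski topology, is a Noetherian topological
space of Krull dimension at most d, and let M be an R-module of finite presentation whose
localization M_m at each maximal ideal m contains a free direct summand of rank d + 1. Then M is
isomorphic to R ⊕ M' for some M': there are s in M and a linear form φ on M with φ(s) = 1. (The
published statement takes the dimension equal to d; a space of smaller dimension satisfies the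
hypothesis for a smaller d, so the bound form is equivalent.) -/
theorem result (R : Type u) [CommRing R] (d : ℕ)
    [TopologicalSpace.NoetherianSpace (MaximalSpectrum R)]
    (hdim : topologicalKrullDim (MaximalSpectrum R) ≤ d)
    (M : Type u) [AddCommGroup M] [Module R M] [Module.FinitePresentation R M]
    (hM : ∀ (m : Ideal R) [m.IsMaximal],
      ∃ (f : (Fin (d + 1) → Localization.AtPrime m) →ₗ[Localization.AtPrime m] LocalizedModule m.primeCompl M)
        (g : LocalizedModule m.primeCompl M →ₗ[Localization.AtPrime m] (Fin (d + 1) → Localization.AtPrime m)),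
        g ∘ₗ f = LinearMap.id) :
    ∃ (s : M) (φ : M →ₗ[R] R), φ s = 1 := by
  classical
  obtain ⟨T, g, hg⟩ := Module.Finite.exists_fin (R := R) (M := M)
  have hrank : ∀ x : MaximalSpectrum R, 0 + (d + 1) ≤
      Groth.Agent.Lib.BasicElt6.rk (κ x.toPrimeSpectrum) (Set.range fun j => ev R M (g j)) := by
    intro x
    have := x.isMaximal
    obtain ⟨f, g', hgf⟩ := hM x.asIdeal
    obtain ⟨m, hm⟩ := exists_cind d M x f g' hgf
    have h1 := (le_rk_iff x m).mpr hm
    rw [zero_add]
    refine h1.trans (rk_le_of_subset_span _ (Set.finite_range _) ?_)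
    rintro _ ⟨i, rfl⟩
    have : m i ∈ Submodule.span R (Set.range g) := by rw [hg]; trivial
    have h2 := Submodule.apply_mem_span_image_of_mem_span (ev R M) this
    rwa [← Set.range_comp] at h2
  obtain ⟨t, F', hF'c, -, hb, hc⟩ := main' R M 0 Fin.elim0 ∅ isClosed_empty 0 Fin.elim0
    (Function.injective_of_subsingleton _) (fun i => i.elim0) (fun i => i.elim0) (d + 1) T g hg
    hrank (fun x hx => absurd (linearIndependent_empty_type) hx)
  -- F' is empty
  have hF'e : F' = ∅ := by
    by_contra hne
    obtain ⟨x, hx⟩ := Set.nonempty_iff_ne_empty.mpr hne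
    have h1 := hc {x} (by simpa using hx)
    have h2 := Order.coheight_le_krullDim ({x} : TopologicalSpace.IrreducibleCloseds (MaximalSpectrum R))
    have h3 : ((Order.coheight ({x} : TopologicalSpace.IrreducibleCloseds (MaximalSpectrum R)) :
        ℕ∞) : WithBot ℕ∞) ≤ (d : WithBot ℕ∞) := h2.trans hdim
    have h4 : Order.coheight ({x} : TopologicalSpace.IrreducibleCloseds (MaximalSpectrum R)) ≤
        (d : ℕ∞) := by exact_mod_cast h3
    have h5 := h1.trans h4
    have : d + 1 ≤ d := by exact_mod_cast h5
    omega
  -- the ideal of values of linear forms at `t`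
  let I : Ideal R := LinearMap.range (LinearMap.applyₗ (R := R) (M := M) (M₂ := R) t)
  have hI : I = ⊤ := by
    by_contra hne
    obtain ⟨mx, hmx, hle⟩ := Ideal.exists_le_maximal I hne
    let x : MaximalSpectrum R := ⟨mx, hmx⟩
    have hli : LinearIndependent (R ⧸ x.asIdeal)
        (Fin.snoc (fun i => img x ((Fin.elim0 : Fin 0 → M) i)) (img x t)) := by
      by_contra hcon
      have := hb x hcon
      rw [hF'e] at this
      simp at this
    have : Nontrivial (R ⧸ x.asIdeal) := Ideal.Quotient.nontrivial_iff.mpr hmx.ne_top
    have hne0 := hli.ne_zero (Fin.last 0)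
    rw [Fin.snoc_last] at hne0
    apply hne0
    rw [img_eq_zero_iff]
    intro φ
    exact hle ⟨φ, rfl⟩
  have h1 : (1 : R) ∈ I := by rw [hI]; trivial
  obtain ⟨φ, hφ⟩ := h1
  exact ⟨t, φ, hφ⟩

end Groth.Agent.S7113
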