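import Groth.Statements.S7114
import Mathlib

set_option autoImplicit false
universe u
open CAlg

namespace Groth.Agent.S7114

theorem step (R : Type*) [CommRing R] (x : R) (n : ℕ) :
    Module.length R (R ⧸ Ideal.span {x ^ (n + 1)}) ≤
        Module.length R (R ⧸ Ideal.span {x}) + Module.length R (R ⧸ Ideal.span {x ^ n}) ∧
      (x ∈ nonZeroDivisors R → Module.length R (R ⧸ Ideal.span {x ^ (n + 1)}) =
        Module.length R (R ⧸ Ideal.span {x}) + Module.length R (R ⧸ Ideal.span {x ^ n})) := by
  have h1 : (Ideal.span {x ^ (n + 1)} : Ideal R) ≤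
      Submodule.comap (LinearMap.id : R →ₗ[R] R) (Ideal.span {x ^ n}) := by
    rw [Submodule.comap_id, Ideal.span_singleton_le_span_singleton]
    exact ⟨x, pow_succ x n⟩
  have h2 : (Ideal.span {x} : Ideal R) ≤
      Submodule.comap (LinearMap.mulLeft R (x ^ n)) (Ideal.span {x ^ (n + 1)}) := by
    rw [Ideal.span, Submodule.span_le, Set.singleton_subset_iff]
    change x ^ n * x ∈ Ideal.span {x ^ (n + 1)}
    rw [← pow_succ]
    exact Ideal.mem_span_singleton_self _
  let g : (R ⧸ Ideal.span {x ^ (n + 1)}) →ₗ[R] (R ⧸ Ideal.span {x ^ n}) :=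
    Submodule.mapQ _ _ LinearMap.id h1
  let f : (R ⧸ Ideal.span {x}) →ₗ[R] (R ⧸ Ideal.span {x ^ (n + 1)}) :=
    Submodule.mapQ _ _ (LinearMap.mulLeft R (x ^ n)) h2
  have hg : Function.Surjective g := by
    intro y
    obtain ⟨r, rfl⟩ := Submodule.Quotient.mk_surjective _ y
    exact ⟨Submodule.Quotient.mk r, rfl⟩
  have hfmk : ∀ c : R, f (Submodule.Quotient.mk c) = Submodule.Quotient.mk (x ^ n * c) :=
    fun c => rfl
  have hgmk : ∀ r : R, g (Submodule.Quotient.mk r) = Submodule.Quotient.mk r := fun r => rfl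
  have hex : Function.Exact f g := by
    intro y
    obtain ⟨r, rfl⟩ := Submodule.Quotient.mk_surjective _ y
    rw [hgmk, Submodule.Quotient.mk_eq_zero]
    constructor
    · intro hr
      obtain ⟨c, rfl⟩ := Ideal.mem_span_singleton'.mp hr
      exact ⟨Submodule.Quotient.mk c, by rw [hfmk, mul_comm]⟩
    · rintro ⟨z, hz⟩
      obtain ⟨c, rfl⟩ := Submodule.Quotient.mk_surjective _ z
      rw [hfmk, Submodule.Quotient.eq] at hz
      obtain ⟨d, hd⟩ := Ideal.mem_span_singleton'.mp hz
      refine Ideal.mem_span_singleton'.mpr ⟨c - d * x, ?_⟩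
      have : r = x ^ n * c - d * x ^ (n + 1) := by rw [hd]; ring
      rw [this]; ring
  have hlen : Module.length R (R ⧸ Ideal.span {x ^ (n + 1)}) =
      Module.length R (LinearMap.range f) + Module.length R (R ⧸ Ideal.span {x ^ n}) := by
    refine Module.length_eq_add_of_exact (LinearMap.range f).subtype g
      (Submodule.subtype_injective _) hg ?_
    intro y
    rw [hex y]
    simp
  constructor
  · rw [hlen]
    gcongr
    exact Module.length_le_of_surjective f.rangeRestrict f.surjective_rangeRestrict
  · intro hx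
    have hf : Function.Injective f := by
      rw [← LinearMap.ker_eq_bot, LinearMap.ker_eq_bot']
      intro z hz
      obtain ⟨c, rfl⟩ := Submodule.Quotient.mk_surjective _ z
      rw [hfmk, Submodule.Quotient.mk_eq_zero] at hz
      obtain ⟨d, hd⟩ := Ideal.mem_span_singleton'.mp hz
      rw [Submodule.Quotient.mk_eq_zero]
      refine Ideal.mem_span_singleton'.mpr ⟨d, ?_⟩
      have hxn : x ^ n ∈ nonZeroDivisors R := pow_mem hx n
      apply (mul_cancel_left_mem_nonZeroDivisors hxn).mp
      rw [← hd]; ring
    rw [hlen, (LinearEquiv.ofInjective f hf).length_eq]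

/-- Let R be a Noetherian local ring of Krull dimension one and x an element of the maximal ideal lying
in no minimal prime of R. Then for every n the length of R/xⁿR is at most n times the length of
R/xR, and equality holds when x is a nonzerodivisor. -/
theorem result (R : Type u) [CommRing R] [IsNoetherianRing R] [IsLocalRing R]
    (hdim : ringKrullDim R = 1) (x : R) (hx : x ∈ IsLocalRing.maximalIdeal R)
    (hmin : ∀ p ∈ minimalPrimes R, x ∉ p) (n : ℕ) :
    Module.length R (R ⧸ Ideal.span {x ^ n}) ≤ (n : ℕ∞) * Module.length R (R ⧸ Ideal.span {x}) ∧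
      (x ∈ nonZeroDivisors R →
        Module.length R (R ⧸ Ideal.span {x ^ n}) = (n : ℕ∞) * Module.length R (R ⧸ Ideal.span {x})) := by
  induction n with
  | zero =>
    have : Subsingleton (R ⧸ Ideal.span {x ^ 0}) := by
      rw [pow_zero, Ideal.span_singleton_one]
      exact Submodule.Quotient.subsingleton_iff.mpr rfl
    rw [Module.length_eq_zero]
    simp
  | succ n ih =>
    obtain ⟨h1, h2⟩ := step R x n
    have hmul : ((n + 1 : ℕ) : ℕ∞) * Module.length R (R ⧸ Ideal.span {x}) =
        Module.length R (R ⧸ Ideal.span {x}) + (n : ℕ∞) * Module.length R (R ⧸ Ideal.span {x}) := by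
      rw [Nat.cast_succ, add_mul, one_mul, add_comm]
    constructor
    · rw [hmul]
      exact h1.trans (by gcongr; exact ih.1)
    · intro hx
      rw [hmul, h2 hx, ih.2 hx]

end Groth.Agent.S7114
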