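import Groth.Statements.S7116
import Groth.Agent.Lib.SOP

set_option autoImplicit false
universe u
open CAlg

namespace Groth.Agent.S7116

/-- Let R be a Noetherian local ring of Krull dimension d with maximal ideal m and let f be an element
of m contained in no minimal prime. Then there are g_1, ..., g_{d-1} in m and a natural number N
such that f, g_1, ..., g_{d-1} is a system of parameters (these d elements of m generate an ideal
with radical m) and, for every h in m^N, the elements f + h, g_1, ..., g_{d-1} again form a system
of parameters and the lengths of R/(f, g_1, ..., g_{d-1}) and R/(f + h, g_1, ..., g_{d-1}) agree. -/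
theorem result (R : Type u) [CommRing R] [IsNoetherianRing R] [IsLocalRing R]
    (d : ℕ) (hd : ringKrullDim R = d) (f : R) (hf : f ∈ IsLocalRing.maximalIdeal R)
    (hmin : ∀ p ∈ minimalPrimes R, f ∉ p) :
    ∃ (g : Fin (d - 1) → R) (N : ℕ), (∀ i, g i ∈ IsLocalRing.maximalIdeal R) ∧
      IsLocalRing.maximalIdeal R ≤ (Ideal.span (insert f (Set.range g))).radical ∧
      ∀ h ∈ IsLocalRing.maximalIdeal R ^ N,
        IsLocalRing.maximalIdeal R ≤ (Ideal.span (insert (f + h) (Set.range g))).radical ∧
        Module.length R (R ⧸ Ideal.span (insert f (Set.range g))) =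
          Module.length R (R ⧸ Ideal.span (insert (f + h) (Set.range g))) := by
  classical
  have h1 : 1 ≤ d := by
    by_contra h
    have hd0 : d = 0 := by omega
    subst hd0
    have hht : (IsLocalRing.maximalIdeal R).height = 0 := by
      have h := IsLocalRing.maximalIdeal_height_eq_ringKrullDim (R := R)
      rw [hd] at h
      exact_mod_cast h
    exact hmin _ (Ideal.height_eq_zero_iff.mp hht) hf
  obtain ⟨g, hg, hrad⟩ := Groth.Agent.Lib.SOP.exists_sop_extending d hd h1 f hmin 0
  obtain ⟨N, hN⟩ := Ideal.exists_pow_le_of_le_radical_of_fg hrad (IsNoetherian.noetherian _)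
  refine ⟨g, N + 1, fun i => by simpa using hg i, hrad, ?_⟩
  intro h hh
  have key : Ideal.span (insert (f + h) (Set.range g)) = Ideal.span (insert f (Set.range g)) := by
    apply le_antisymm
    · rw [Ideal.span_le, Set.insert_subset_iff]
      refine ⟨?_, (Set.subset_insert _ _).trans Ideal.subset_span⟩
      refine Ideal.add_mem _ (Ideal.subset_span (Set.mem_insert _ _)) (hN ?_)
      exact Ideal.pow_le_pow_right (Nat.le_succ N) hh
    · have hjac : IsLocalRing.maximalIdeal R ≤ (⊥ : Ideal R).jacobson := by
        rw [IsLocalRing.jacobson_eq_maximalIdeal ⊥ bot_ne_top]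
      refine Submodule.le_of_le_smul_of_le_jacobson_bot (IsNoetherian.noetherian _) hjac ?_
      rw [Ideal.span_le, Set.insert_subset_iff]
      constructor
      · have hh' : h ∈ IsLocalRing.maximalIdeal R • Ideal.span (insert f (Set.range g)) := by
          rw [smul_eq_mul]
          refine Ideal.mul_mono_right hN ?_
          rwa [← pow_succ']
        have hsum : (f + h) + (-h) ∈ Ideal.span (insert (f + h) (Set.range g)) ⊔
            IsLocalRing.maximalIdeal R • Ideal.span (insert f (Set.range g)) :=
          Submodule.add_mem_sup (Ideal.subset_span (Set.mem_insert _ _))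
            (Submodule.neg_mem _ hh')
        have hfe : (f + h) + (-h) = f := by ring
        rwa [hfe] at hsum
      · exact fun y hy => Submodule.mem_sup_left
          (Ideal.subset_span (Set.mem_insert_of_mem _ hy))
  rw [key]
  exact ⟨hrad, rfl⟩

end Groth.Agent.S7116
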