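import Groth.Statements.S7117
import Groth.Agent.S12212
import Groth.Agent.Lib.H2SamuelAdd
import Groth.Agent.Lib.KoszulEulerJac
import Mathlib

set_option autoImplicit false
universe u
open CAlg

namespace Groth.Agent.S7117

open Groth.Agent.Lib.H2SamuelAdd Filter Topology Pointwise Groth.Agent.Lib.KoszulEuler
  Groth.Agent.Lib.EulerLES Groth.Agent.Lib.HilbertSamuel Groth.Agent.Lib.SamuelPoly

section KLe

variable {A : Type u} [CommRing A] [IsNoetherianRing A]

theorem fl_quot_of_good (M : Type u) [AddCommGroup M] [Module A M] [Module.Finite A M]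
    (l : List A) (h : Good M l) :
    IsFiniteLength A (M ⧸ (Ideal.span {b | b ∈ l} • (⊤ : Submodule A M))) := by
  have := isFiniteLength_quot_pow M l h 1
  rwa [pow_one] at this

/-- `χ(l; M) ≤ length (M/(l)M)` -/
theorem kchi_le_len : ∀ (l : List A) (M : Type u) [AddCommGroup M] [Module A M]
    [Module.Finite A M], Good M l →
    kchi M l ≤ (len A (M ⧸ (Ideal.span {b | b ∈ l} • (⊤ : Submodule A M))) : ℤ)
  | [], M, _, _, _, _ => by
    rw [kchi_nil]
    have h0 : Ideal.span {b : A | b ∈ ([] : List A)} • (⊤ : Submodule A M) = ⊥ := by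
      have : {b : A | b ∈ ([] : List A)} = ∅ := by
        ext b
        simp
      rw [this, Ideal.span_empty, Submodule.bot_smul]
    have e := Submodule.quotEquivOfEqBot _ h0
    unfold len
    rw [e.length_eq]
  | x :: l, M, _, _, _, h => by
    obtain ⟨n, hn⟩ := exists_torsionBy_stable M x
    rw [kchi_cons_eq M x n hn l h]
    refine (kchi_le_len l _ (h.reduction n)).trans ?_
    set Mb := M ⧸ Submodule.torsionBy A M (x ^ n) with hMb
    set π : M →ₗ[A] QuotSMulTop x Mb :=
      (Submodule.mkQ (x • (⊤ : Submodule A Mb))) ∘ₗ (Submodule.mkQ (Submodule.torsionBy A M (x ^ n)))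
      with hπ
    have hπs : Function.Surjective π :=
      (Submodule.mkQ_surjective _).comp (Submodule.mkQ_surjective _)
    have hle : Ideal.span {b | b ∈ x :: l} • (⊤ : Submodule A M) ≤
        (Ideal.span {b | b ∈ l} • (⊤ : Submodule A (QuotSMulTop x Mb))).comap π := by
      rw [Submodule.smul_le]
      intro r hr m _
      rw [Submodule.mem_comap, map_smul]
      induction hr using Submodule.span_induction with
      | mem b hb =>
        rcases List.mem_cons.mp hb with rfl | hb
        · have : b • π m = 0 := by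
            rw [hπ, LinearMap.comp_apply, ← map_smul, Submodule.mkQ_apply,
              Submodule.Quotient.mk_eq_zero]
            exact Submodule.smul_mem_pointwise_smul _ _ _ trivial
          rw [this]
          exact zero_mem _
        · exact Submodule.smul_mem_smul (Ideal.subset_span hb) trivial
      | zero => rw [zero_smul]; exact zero_mem _
      | add a b _ _ ha hb => rw [add_smul]; exact add_mem ha hb
      | smul a b _ hb => rw [smul_eq_mul, mul_smul]; exact Submodule.smul_mem _ _ hb
    set φ := Submodule.mapQ _ _ π hle with hφ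
    have hφs : Function.Surjective φ := by
      intro y
      obtain ⟨y, rfl⟩ := Submodule.Quotient.mk_surjective _ y
      obtain ⟨m, rfl⟩ := hπs y
      exact ⟨Submodule.Quotient.mk m, rfl⟩
    have h1 := Module.length_le_of_surjective φ hφs
    have h2 := Module.length_ne_top_iff.mpr (fl_quot_of_good M (x :: l) h)
    unfold len
    exact_mod_cast ENat.toNat_le_toNat h1 h2

end KLe

section Lim

variable {A : Type u} [CommRing A] [IsNoetherianRing A]

/-- the normalized Samuel function of `(l)` tends to `χ(l; N)` -/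
theorem tendsto_sam_kchi (l : List A) (N : Type u) [AddCommGroup N] [Module A N]
    [Module.Finite A N] (h : Good N l) :
    Tendsto (sam (Ideal.span {b | b ∈ l}) N l.length) atTop (𝓝 ((kchi N l : ℤ) : ℝ)) := by
  obtain ⟨P, hdeg, hcoeff, n₁, hP⟩ := exists_samuel_poly N l h
  have h1 := tendsto_eval_div_pow P l.length hdeg
  have h2 := h1.const_mul (l.length.factorial : ℝ)
  have h3 : (l.length.factorial : ℝ) * ((P.coeff l.length : ℚ) : ℝ) = ((kchi N l : ℤ) : ℝ) := by
    have : (((l.length.factorial : ℚ) * P.coeff l.length : ℚ) : ℝ) = (((kchi N l : ℤ) : ℚ) : ℝ) := by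
      rw [hcoeff]
    push_cast at this
    exact this
  rw [h3] at h2
  refine h2.congr' ?_
  filter_upwards [eventually_ge_atTop n₁] with t ht
  unfold sam
  have := hP t ht
  unfold len at this
  rw [← this, mul_div_assoc]
  simp

end Lim

section Main

variable (R : Type u) [CommRing R] [IsNoetherianRing R] [IsLocalRing R]

open Groth.Agent.S12212 in
theorem card_le (d : ℕ) (hd : ringKrullDim R = d) (g : Fin d → R)
    (hg : ∀ i, g i ∈ IsLocalRing.maximalIdeal R)
    (hsop : IsLocalRing.maximalIdeal R ≤ (Ideal.span (Set.range g)).radical) :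
    (S R d).Finite ∧
      ((S R d).ncard : ℤ) ≤ (len R (R ⧸ (Ideal.span (Set.range g) • (⊤ : Submodule R R))) : ℤ) := by
  classical
  set l : List R := List.ofFn g with hl
  have hset : {b | b ∈ l} = Set.range g := by
    ext b
    simp [hl, List.mem_ofFn]
  have hlen : l.length = d := by rw [hl, List.length_ofFn]
  set I : Ideal R := Ideal.span (Set.range g) with hIdef
  have hI : I ≤ IsLocalRing.maximalIdeal R := by
    rw [hIdef, Ideal.span_le]
    rintro _ ⟨i, rfl⟩
    exact hg i
  obtain ⟨n₀, hn₀⟩ := Ideal.exists_pow_le_of_le_radical_of_fg hsop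
    (IsNoetherian.noetherian (IsLocalRing.maximalIdeal R))
  have : Finite (MaximalSpectrum R) := inferInstance
  have hgood : ∀ (N : Type u) [AddCommGroup N] [Module R N], Good N l := by
    intro N _ _
    apply good_of_pow_le N l n₀
    rw [hset, IsLocalRing.ringJacobson_eq_maximalIdeal]
    exact hn₀
  have hjac : ∀ a ∈ l, a ∈ Ring.jacobson R := by
    intro a ha
    rw [IsLocalRing.ringJacobson_eq_maximalIdeal]
    have : a ∈ {b | b ∈ l} := ha
    rw [hset] at this
    obtain ⟨i, rfl⟩ := this
    exact hg i
  have hlim : ∀ (N : Type u) [AddCommGroup N] [Module R N] [Module.Finite R N],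
      Tendsto (sam I N d) atTop (𝓝 ((kchi N l : ℤ) : ℝ)) := by
    intro N _ _ _
    have := tendsto_sam_kchi l N (hgood N)
    rwa [hset, hlen] at this
  set e : PrimeSpectrum R → ℝ := fun p => ((kchi (R ⧸ p.asIdeal) l : ℤ) : ℝ) with he
  have hsd : Module.supportDim R R ≤ d := by
    rw [Module.supportDim_self_eq_ringKrullDim, hd]
  obtain ⟨hfin, hmain⟩ := main I hI n₀ hn₀ d e (fun p _ => hlim (R ⧸ p.asIdeal)) R hsd
  have huniq := tendsto_nhds_unique (hlim R) hmain
  have hll : ∀ p ∈ S R d, 1 ≤ ll R p := by
    intro p hp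
    have hfl := fl_loc R p (fun q hq hqp => eq_of_le R d hsd p q hp hq hqp)
    have h1 := Module.length_ne_top_iff.mpr hfl
    have h2 : Module.length (Localization.AtPrime p.asIdeal)
        (LocalizedModule p.asIdeal.primeCompl R) ≠ 0 := by
      rw [Ne, Module.length_eq_zero_iff, ← Module.notMem_support_iff, not_not,
        Module.support_eq_zeroLocus, Module.annihilator_eq_bot.mpr inferInstance]
      simp
    unfold ll
    exact ENat.toNat_pos h2 h1
  have hSfin : (S R d).Finite := by
    refine hfin.subset fun p hp => ⟨hp, ?_⟩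
    have := hll p hp
    show ll R p ≠ 0
    omega
  refine ⟨hSfin, ?_⟩
  have hepos : ∀ p ∈ S R d, (1 : ℝ) ≤ e p := by
    intro p hp
    have hpos : 0 < kchi (R ⧸ p.asIdeal) l := by
      apply kchi_pos_of_supportDim_eq_jac l hjac _ (hgood _)
      rw [Module.supportDim_quotient_eq_ringKrullDim, hlen]
      exact hp
    have : (1 : ℤ) ≤ kchi (R ⧸ p.asIdeal) l := hpos
    show (1 : ℝ) ≤ ((kchi (R ⧸ p.asIdeal) l : ℤ) : ℝ)
    exact_mod_cast this
  have hsum : ((S R d).ncard : ℝ) ≤ ∑ᶠ p ∈ S R d, (ll R p : ℝ) * e p := by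
    rw [finsum_mem_eq_finite_toFinset_sum _ hSfin, Set.ncard_eq_toFinset_card _ hSfin,
      Finset.card_eq_sum_ones]
    push_cast
    refine Finset.sum_le_sum fun p hp => ?_
    have hp' : p ∈ S R d := by simpa using hp
    have h1 : (1 : ℝ) ≤ (ll R p : ℝ) := by exact_mod_cast hll p hp'
    have h2 := hepos p hp'
    nlinarith
  rw [← huniq] at hsum
  have hk := kchi_le_len l R (hgood R)
  rw [hset] at hk
  have : ((S R d).ncard : ℤ) ≤ kchi R l := by exact_mod_cast hsum
  exact this.trans hk

end Main

theorem result' (R : Type u) [CommRing R] [IsNoetherianRing R] [IsLocalRing R]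
    (d : ℕ) (hd : ringKrullDim R = d) (g : Fin d → R) (hg : ∀ i, g i ∈ IsLocalRing.maximalIdeal R)
    (hsop : IsLocalRing.maximalIdeal R ≤ (Ideal.span (Set.range g)).radical) :
    (Set.ncard {p : Ideal R | p ∈ minimalPrimes R ∧ ringKrullDim (R ⧸ p) = d} : ℕ∞) ≤
      Module.length R (R ⧸ Ideal.span (Set.range g)) := by
  obtain ⟨hfin, hcard⟩ := card_le R d hd g hg hsop
  have hsub : {p : Ideal R | p ∈ minimalPrimes R ∧ ringKrullDim (R ⧸ p) = d} ⊆
      PrimeSpectrum.asIdeal '' (Groth.Agent.S12212.S R d) := by
    rintro p ⟨hp1, hp2⟩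
    exact ⟨⟨p, hp1.1.1⟩, hp2, rfl⟩
  have h1 : Set.ncard {p : Ideal R | p ∈ minimalPrimes R ∧ ringKrullDim (R ⧸ p) = d} ≤
      (Groth.Agent.S12212.S R d).ncard :=
    (Set.ncard_le_ncard hsub (hfin.image _)).trans (Set.ncard_image_le hfin)
  have heq : Ideal.span (Set.range g) • (⊤ : Submodule R R) = Ideal.span (Set.range g) := by
    rw [smul_eq_mul, Ideal.mul_top]
  have e := Submodule.quotEquivOfEq _ _ heq
  rw [← e.length_eq]
  by_cases htop : Module.length R (R ⧸ (Ideal.span (Set.range g) • (⊤ : Submodule R R))) = ⊤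
  · rw [htop]
    exact le_top
  · rw [← ENat.natCast_toNat htop]
    have h2 : (Groth.Agent.S12212.S R d).ncard ≤
        (Module.length R (R ⧸ (Ideal.span (Set.range g) • (⊤ : Submodule R R)))).toNat := by
      unfold len at hcard
      exact_mod_cast hcard
    exact_mod_cast h1.trans h2


/-- Let R be a Noetherian local ring of Krull dimension d with maximal ideal m, and suppose g_1, ...,
g_d in m form a system of parameters (they generate an ideal with radical m). Then the number of
minimal prime ideals p of R with R/p of Krull dimension d is at most the length of R/(g_1, ...,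
g_d). -/
theorem result (R : Type u) [CommRing R] [IsNoetherianRing R] [IsLocalRing R]
    (d : ℕ) (hd : ringKrullDim R = d) (g : Fin d → R) (hg : ∀ i, g i ∈ IsLocalRing.maximalIdeal R)
    (hsop : IsLocalRing.maximalIdeal R ≤ (Ideal.span (Set.range g)).radical) :
    (Set.ncard {p : Ideal R | p ∈ minimalPrimes R ∧ ringKrullDim (R ⧸ p) = d} : ℕ∞) ≤
      Module.length R (R ⧸ Ideal.span (Set.range g)) := by
  exact result' R d hd g hg hsop

end Groth.Agent.S7117
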