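import Groth.Statements.S7122
import Groth.Agent.Lib.BezoutFree

set_option autoImplicit false
universe u
open CAlg

namespace Groth.Agent.S7122

open Groth.Agent.Lib.BezoutFree in
theorem aux (R : Type u) [CommRing R] [IsDomain R] [IsBezout R]
    (n : ℕ) (f : Fin (n + 1) → R) (hf : Ideal.span (Set.range f) = ⊤) :
    ∃ A : Matrix (Fin (n + 1)) (Fin (n + 1)) R, IsUnit A.det ∧ A 0 = f := by
  classical
  -- the linear form `φ x = ∑ f i * x i`
  let φ : (Fin (n + 1) → R) →ₗ[R] R :=
    { toFun := fun x => f ⬝ᵥ x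
      map_add' := dotProduct_add f
      map_smul' := fun c x => dotProduct_smul c f x }
  have hφ : ∀ x, φ x = f ⬝ᵥ x := fun _ => rfl
  obtain ⟨c, hc⟩ : ∃ c : Fin (n + 1) → R, φ c = 1 := by
    have h1 : (1 : R) ∈ Ideal.span (Set.range f) := by rw [hf]; trivial
    obtain ⟨c, hc⟩ := (Ideal.mem_span_range_iff_exists_fun).mp h1
    refine ⟨c, ?_⟩
    rw [hφ, ← hc]
    simp only [dotProduct]
    exact Finset.sum_congr rfl fun i _ => mul_comm _ _
  have hsurj : Function.Surjective φ := fun r => ⟨r • c, by rw [map_smul, hc, smul_eq_mul, mul_one]⟩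
  -- the projection onto the kernel
  let p : (Fin (n + 1) → R) →ₗ[R] (Fin (n + 1) → R) :=
    LinearMap.id - (LinearMap.toSpanSingleton R _ c) ∘ₗ φ
  have hp : ∀ x, p x = x - φ x • c := fun x => by
    simp [p, LinearMap.toSpanSingleton_apply]
  have hpk : ∀ x, p x ∈ LinearMap.ker φ := fun x => by
    rw [LinearMap.mem_ker, hp, map_sub, map_smul, hc, smul_eq_mul, mul_one, sub_self]
  have hrange : LinearMap.range p = LinearMap.ker φ := by
    apply le_antisymm
    · rintro _ ⟨x, rfl⟩
      exact hpk x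
    · intro x hx
      refine ⟨x, ?_⟩
      rw [hp, LinearMap.mem_ker.mp hx, zero_smul, sub_zero]
  have hKfg : (LinearMap.ker φ).FG := by
    rw [← hrange, LinearMap.range_eq_map]
    exact Module.Finite.fg_top.map p
  have hKfree : Module.Free R (LinearMap.ker φ) := free_of_fg_submodule _ hKfg
  have hKfin : Module.Finite R (LinearMap.ker φ) := Module.Finite.iff_fg.mpr hKfg
  have hrank : Module.finrank R (LinearMap.ker φ) = n := by
    have h := Submodule.finrank_quotient_add_finrank (LinearMap.ker φ)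
    rw [(φ.quotKerEquivOfSurjective hsurj).finrank_eq, Module.finrank_self,
      Module.finrank_fin_fun] at h
    omega
  let ψ : LinearMap.ker φ ≃ₗ[R] (Fin n → R) := (Module.finBasisOfFinrankEq R _ hrank).equivFun
  -- the linear map whose matrix we want
  let E : (Fin (n + 1) → R) →ₗ[R] (Fin (n + 1) → R) :=
    LinearMap.pi (Fin.cons φ fun i => (LinearMap.proj i) ∘ₗ ψ.toLinearMap ∘ₗ p.codRestrict _ hpk)
  let E' : (Fin (n + 1) → R) →ₗ[R] (Fin (n + 1) → R) :=
    (LinearMap.toSpanSingleton R _ c) ∘ₗ (LinearMap.proj 0) +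
      (Submodule.subtype _) ∘ₗ ψ.symm.toLinearMap ∘ₗ
        (LinearMap.pi fun i : Fin n => LinearMap.proj (Fin.succ i))
  have hE0 : ∀ x, E x 0 = φ x := fun x => rfl
  have hEs : ∀ x (i : Fin n), E x i.succ = ψ ⟨p x, hpk x⟩ i := fun x i => rfl
  have hE' : ∀ y, E' y = y 0 • c + (ψ.symm (fun i => y i.succ) : Fin (n + 1) → R) := fun y => by
    simp [E', LinearMap.toSpanSingleton_apply]
    rfl
  have hEE' : E ∘ₗ E' = LinearMap.id := by
    refine LinearMap.ext fun y => ?_
    have hk : φ ((ψ.symm (fun i => y i.succ) : Fin (n + 1) → R)) = 0 :=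
      LinearMap.mem_ker.mp (ψ.symm (fun i => y i.succ)).2
    have h0 : φ (E' y) = y 0 := by
      rw [hE', map_add, map_smul, hc, hk, smul_eq_mul, mul_one, add_zero]
    have hpE : p (E' y) = (ψ.symm (fun i => y i.succ) : Fin (n + 1) → R) := by
      rw [hp, h0, hE']; abel
    funext i
    refine Fin.cases ?_ (fun j => ?_) i
    · rw [LinearMap.comp_apply, hE0, h0]; rfl
    · rw [LinearMap.comp_apply, hEs]
      have : (⟨p (E' y), hpk (E' y)⟩ : LinearMap.ker φ) = ψ.symm (fun i => y i.succ) :=
        Subtype.ext hpE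
      rw [this, LinearEquiv.apply_symm_apply]; rfl
  refine ⟨LinearMap.toMatrix' E, ?_, ?_⟩
  · apply Matrix.isUnit_det_of_right_inverse (B := LinearMap.toMatrix' E')
    rw [← LinearMap.toMatrix'_comp, hEE', LinearMap.toMatrix'_id]
  · funext j
    rw [LinearMap.toMatrix'_apply, hE0, hφ, dotProduct_single_one]

/-- Let R be a Bézout domain, n ≥ 1, and f_1, ..., f_n elements generating the unit ideal. Then some
invertible n × n matrix over R has (f_1, ..., f_n) as its first row. -/
theorem result (R : Type u) [CommRing R] [IsDomain R] [IsBezout R]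
    (n : ℕ) (f : Fin (n + 1) → R) (hf : Ideal.span (Set.range f) = ⊤) :
    ∃ A : Matrix (Fin (n + 1)) (Fin (n + 1)) R, IsUnit A.det ∧ A 0 = f := by
  exact aux R n f hf

end Groth.Agent.S7122
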