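import Groth.Statements.S7123
import Mathlib

set_option autoImplicit false
universe u
open CAlg

namespace Groth.Agent.S7123

theorem liftQ_one {R M : Type*} [CommRing R] [AddCommGroup M] [Module R M] (I : Ideal R) (x : M)
    (h : I ≤ LinearMap.ker (LinearMap.toSpanSingleton R M x)) :
    Submodule.liftQ I (LinearMap.toSpanSingleton R M x) h (1 : R ⧸ I) = x := by
  change Submodule.liftQ I _ h (Submodule.Quotient.mk 1) = x
  rw [Submodule.liftQ_apply]; simp

open DirectSum in
/-- For a module P over a ring R these two conditions are equivalent: (1) P is a retract (direct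
summand) of a direct sum of cyclic modules R/fR, f ranging over R; (2) for every surjection of
R-modules π : B → C whose kernel A satisfies fA = A ∩ fB for every f in R, each linear map P → C
lifts through π. -/
theorem result (R : Type u) [CommRing R] (P : Type u)
    [AddCommGroup P] [Module R P] :
    (∃ (ι : Type u) (f : ι → R) (i : P →ₗ[R] (⨁ j, R ⧸ Ideal.span {f j}))
        (p : (⨁ j, R ⧸ Ideal.span {f j}) →ₗ[R] P), p ∘ₗ i = LinearMap.id) ↔
      ∀ (B C : Type u) [AddCommGroup B] [Module R B] [AddCommGroup C] [Module R C] (π : B →ₗ[R] C),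
        Function.Surjective π →
        (∀ (f : R) (b : B), π (f • b) = 0 → ∃ a : B, π a = 0 ∧ f • a = f • b) →
        ∀ ψ : P →ₗ[R] C, ∃ φ : P →ₗ[R] B, π ∘ₗ φ = ψ := by
  constructor
  · rintro ⟨ι, f, i, p, hpi⟩ B C _ _ _ _ π hπ hpure ψ
    classical
    have key : ∀ j : ι, ∃ b : B, f j • b = 0 ∧
        π b = ψ (p (DirectSum.lof R ι (fun j => R ⧸ Ideal.span {f j}) j
          (Submodule.Quotient.mk 1))) := by
      intro j
      obtain ⟨b, hb⟩ := hπ (ψ (p (DirectSum.lof R ι (fun j => R ⧸ Ideal.span {f j}) j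
          (Submodule.Quotient.mk 1))))
      have h0 : π (f j • b) = 0 := by
        rw [map_smul, hb, ← map_smul, ← map_smul, ← map_smul, ← Submodule.Quotient.mk_smul,
          smul_eq_mul, mul_one]
        have : (Submodule.Quotient.mk (f j) : R ⧸ Ideal.span {f j}) = 0 :=
          (Submodule.Quotient.mk_eq_zero _).mpr (Ideal.mem_span_singleton_self (f j))
        rw [this, map_zero, map_zero, map_zero]
      obtain ⟨a, ha0, ha⟩ := hpure (f j) b h0
      exact ⟨b - a, by rw [smul_sub, ha, sub_self], by rw [map_sub, ha0, sub_zero, hb]⟩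
    choose b hb0 hb using key
    let Φ : (⨁ j, R ⧸ Ideal.span {f j}) →ₗ[R] B :=
      DirectSum.toModule R ι B fun j =>
        Submodule.liftQ _ (LinearMap.toSpanSingleton R B (b j)) (by
          rw [Ideal.span, Submodule.span_le, Set.singleton_subset_iff]
          simp [hb0 j])
    refine ⟨Φ ∘ₗ i, ?_⟩
    have hΦ : π ∘ₗ Φ = ψ ∘ₗ p := by
      apply DirectSum.linearMap_ext
      intro j
      apply Submodule.linearMap_qext
      ext
      simp [Φ, liftQ_one]
      exact hb j
    rw [← LinearMap.comp_assoc, hΦ, LinearMap.comp_assoc, hpi, LinearMap.comp_id]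
  · intro h
    classical
    let ι := {fx : R × P // fx.1 • fx.2 = 0}
    let f : ι → R := fun j => j.1.1
    let π : (⨁ j : ι, R ⧸ Ideal.span {f j}) →ₗ[R] P :=
      DirectSum.toModule R ι P fun j =>
        Submodule.liftQ _ (LinearMap.toSpanSingleton R P j.1.2) (by
          rw [Ideal.span, Submodule.span_le, Set.singleton_subset_iff]
          simp [f, j.2])
    have hπgen : ∀ j : ι, π (DirectSum.lof R ι (fun j => R ⧸ Ideal.span {f j}) j
        (Submodule.Quotient.mk 1)) = j.1.2 := by
      intro j; simp [π, liftQ_one]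
    have hsurj : Function.Surjective π := fun x =>
      ⟨DirectSum.lof R ι (fun j => R ⧸ Ideal.span {f j}) ⟨(0, x), zero_smul _ _⟩
        (Submodule.Quotient.mk 1), hπgen _⟩
    have hpure : ∀ (r : R) (b : ⨁ j : ι, R ⧸ Ideal.span {f j}), π (r • b) = 0 →
        ∃ a, π a = 0 ∧ r • a = r • b := by
      intro r b hb
      rw [map_smul] at hb
      let j : ι := ⟨(r, π b), hb⟩
      have ha' : r • DirectSum.lof R ι (fun j => R ⧸ Ideal.span {f j}) j
          (Submodule.Quotient.mk 1) = 0 := by
        rw [← map_smul, ← Submodule.Quotient.mk_smul, smul_eq_mul, mul_one]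
        have : (Submodule.Quotient.mk r : R ⧸ Ideal.span {f j}) = 0 :=
          (Submodule.Quotient.mk_eq_zero _).mpr (Ideal.mem_span_singleton_self r)
        rw [this, map_zero]
      refine ⟨b - DirectSum.lof R ι (fun j => R ⧸ Ideal.span {f j}) j
          (Submodule.Quotient.mk 1), ?_, ?_⟩
      · rw [map_sub, hπgen]; exact sub_self _
      · rw [smul_sub, ha', sub_zero]
    obtain ⟨φ, hφ⟩ := h _ P π hsurj hpure LinearMap.id
    exact ⟨ι, f, φ, π, hφ⟩

end Groth.Agent.S7123
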