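import Mathlib
import Groth.Statements.S7124

set_option autoImplicit false
universe u
open CAlg

namespace Groth.Agent.S7124

section Helpers

open IsLocalRing

lemma exists_dominant {A K : Type*} [CommRing A] [IsDomain A] [ValuationRing A] [Field K]
    [Algebra A K] [IsFractionRing A K]
    {ι : Type*} [Fintype ι] (c : ι → K) (hc : ∃ i, c i ≠ 0) :
    ∃ i0, c i0 ≠ 0 ∧ ∃ a : ι → A, a i0 = 1 ∧ ∀ i, c i = c i0 * algebraMap A K (a i) := by
  classical
  obtain ⟨i1, hi1⟩ := hc
  let v := ValuationRing.valuation A K
  obtain ⟨i0, -, hmax⟩ := Finset.exists_max_image Finset.univ (fun i => v (c i))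
    ⟨i1, Finset.mem_univ _⟩
  have h0 : c i0 ≠ 0 := by
    intro h
    have := hmax i1 (Finset.mem_univ _)
    rw [h, map_zero] at this
    exact hi1 ((map_eq_zero v).mp (le_antisymm this zero_le))
  have : ∀ i, ∃ a : A, algebraMap A K a = c i / c i0 := by
    intro i
    rw [← ValuationRing.mem_integer_iff]
    show v (c i / c i0) ≤ 1
    rw [map_div₀]
    exact div_le_one_of_le₀ (hmax i (Finset.mem_univ _)) zero_le
  choose a ha using this
  refine ⟨i0, h0, Function.update a i0 1, by simp, fun i => ?_⟩
  by_cases hi : i = i0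
  · subst hi; simp
  · rw [Function.update_of_ne hi, ha]; field_simp

variable (A B K L : Type u) [CommRing A] [IsDomain A]
    [ValuationRing A] [CommRing B] [IsDomain B] [ValuationRing B] [Field K] [Field L]
    [Algebra A K] [IsFractionRing A K] [Algebra B L] [IsFractionRing B L] [Algebra A B] [Algebra K L]
    [Algebra A L] [IsScalarTower A K L] [IsScalarTower A B L]
    [IsLocalHom (algebraMap A B)]

omit [IsFractionRing B L] in
lemma sum_eq_unit_mul {ι : Type*} [Fintype ι] (b : ι → B)
    (hb : LinearIndependent (ResidueField A) (fun i => residue B (b i)))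
    (c : ι → K) (hc : ∃ i, c i ≠ 0) :
    ∃ (c0 : K) (u : Bˣ), c0 ≠ 0 ∧
      ∑ i, algebraMap K L (c i) * algebraMap B L (b i) =
        algebraMap K L c0 * algebraMap B L u := by
  obtain ⟨i0, h0, a, ha0, ha⟩ := exists_dominant (A := A) c hc
  let β : B := ∑ i, algebraMap A B (a i) * b i
  have hβ : IsUnit β := by
    by_contra hnu
    have hres : residue B β = 0 := (residue_eq_zero_iff _).mpr hnu
    have : ∑ i, residue A (a i) • residue B (b i) = 0 := by
      rw [← hres]
      simp only [β, map_sum, map_mul, Algebra.smul_def, ResidueField.algebraMap_residue]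
    have := Fintype.linearIndependent_iff.mp hb _ this i0
    rw [ha0, map_one] at this
    exact one_ne_zero this
  refine ⟨c i0, hβ.unit, h0, ?_⟩
  simp only [IsUnit.unit_spec, β, map_sum, map_mul, Finset.mul_sum]
  refine Finset.sum_congr rfl fun i _ => ?_
  rw [ha i, map_mul, ← IsScalarTower.algebraMap_apply A K L, IsScalarTower.algebraMap_apply A B L]
  ring

lemma val_eq_iff (x y : L) :
    ValuationRing.valuation B L x = ValuationRing.valuation B L y ↔
      ∃ u : Bˣ, algebraMap B L u * y = x := by
  show (Quotient.mk'' x : ValuationRing.ValueGroup B L) = Quotient.mk'' y ↔ _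
  rw [Quotient.eq'']
  show x ∈ MulAction.orbit Bˣ y ↔ _
  rw [MulAction.mem_orbit_iff]
  refine exists_congr fun u => ?_
  rw [Units.smul_def, Algebra.smul_def]

lemma core {ι κ : Type*} [Fintype ι] [Fintype κ] (b : ι → B)
    (hb : LinearIndependent (ResidueField A) (fun i => residue B (b i)))
    (π : κ → Lˣ)
    (hπ : ∀ j j', j ≠ j' → ∀ (c : Kˣ) (u : Bˣ),
      (π j : L) ≠ algebraMap K L c * algebraMap B L u * π j') :
    LinearIndependent K (fun p : ι × κ => algebraMap B L (b p.1) * (π p.2 : L)) := by
  classical
  rw [Fintype.linearIndependent_iff]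
  intro g hg
  set s : κ → L := fun j => ∑ i, algebraMap K L (g (i, j)) * algebraMap B L (b i) with hs
  have hsum : ∑ j, s j * π j = 0 := by
    rw [← hg, Fintype.sum_prod_type_right]
    refine Finset.sum_congr rfl fun j _ => ?_
    rw [Finset.sum_mul]
    refine Finset.sum_congr rfl fun i _ => ?_
    rw [Algebra.smul_def]; ring
  have hdich : ∀ j, (∀ i, g (i, j) = 0) ∨ ∃ (c0 : K) (u : Bˣ), c0 ≠ 0 ∧
      s j = algebraMap K L c0 * algebraMap B L u := by
    intro j
    by_cases h : ∀ i, g (i, j) = 0
    · left; exact h
    · right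
      push Not at h
      exact sum_eq_unit_mul A B K L b hb (fun i => g (i, j)) h
  have hBL : Function.Injective (algebraMap B L) := IsFractionRing.injective B L
  by_contra hne
  push Not at hne
  obtain ⟨⟨i1, j1⟩, hij⟩ := hne
  let v := ValuationRing.valuation B L
  have hj1 : s j1 ≠ 0 := by
    rcases hdich j1 with h | ⟨c0, u, hc0, hsj⟩
    · exact absurd (h i1) hij
    · rw [hsj]
      exact mul_ne_zero ((map_ne_zero _).mpr hc0)
        ((map_ne_zero_iff _ hBL).mpr u.ne_zero)
  obtain ⟨j0, -, hmax⟩ := Finset.exists_max_image Finset.univ (fun j => v (s j * π j))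
    ⟨j1, Finset.mem_univ _⟩
  have hj0 : s j0 ≠ 0 := by
    intro h
    have := hmax j1 (Finset.mem_univ _)
    simp only [h, zero_mul, map_zero] at this
    have h' : v (s j1 * π j1) = 0 := le_antisymm this zero_le
    rw [map_eq_zero] at h'
    exact (mul_ne_zero hj1 (π j1).ne_zero) h'
  have hstrict : ∀ j ∈ Finset.univ \ {j0}, v (s j * π j) < v (s j0 * π j0) := by
    intro j hj
    have hjne : j ≠ j0 := by simpa using hj
    refine lt_of_le_of_ne (hmax j (Finset.mem_univ _)) fun heq => ?_
    have hsj : s j ≠ 0 := by
      intro h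
      rw [h, zero_mul, map_zero] at heq
      exact mul_ne_zero hj0 (π j0).ne_zero ((map_eq_zero v).mp heq.symm)
    obtain ⟨c, u, hc, hcu⟩ := (hdich j).resolve_left (fun h => hsj (by simp [hs, h]))
    obtain ⟨c', u', hc', hcu'⟩ := (hdich j0).resolve_left (fun h => hj0 (by simp [hs, h]))
    obtain ⟨w, hw⟩ := (val_eq_iff B L _ _).mp heq
    refine hπ j j0 hjne (Units.mk0 (c' / c) (div_ne_zero hc' hc)) (w * u' * u⁻¹) ?_
    have hu : algebraMap B L (u : B) * algebraMap B L ((u⁻¹ : Bˣ) : B) = 1 := by
      rw [← map_mul, Units.mul_inv, map_one]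
    have hcne : algebraMap K L c ≠ 0 := (map_ne_zero _).mpr hc
    have hune : algebraMap B L (u : B) ≠ 0 := (map_ne_zero_iff _ hBL).mpr u.ne_zero
    rw [hcu, hcu'] at hw
    simp only [Units.val_mk0, Units.val_mul, map_mul, map_div₀]
    have h1 : algebraMap K L c * algebraMap B L (u : B) * (π j : L) =
        algebraMap K L c * algebraMap B L (u : B) *
        (algebraMap K L c' / algebraMap K L c *
          (algebraMap B L (w : B) * algebraMap B L (u' : B) *
            algebraMap B L ((u⁻¹ : Bˣ) : B)) * (π j0 : L)) := by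
      have hc1 : algebraMap K L c * (algebraMap K L c' / algebraMap K L c) = algebraMap K L c' :=
        mul_div_cancel₀ _ hcne
      linear_combination (-1 : L) * hw + (algebraMap B L (w : B) * algebraMap B L (u' : B) *
        (π j0 : L)) * (-hc1 - (algebraMap K L c * (algebraMap K L c' / algebraMap K L c)) * hu)
    exact mul_left_cancel₀ (mul_ne_zero hcne hune) h1
  have := v.map_sum_eq_of_lt (Finset.mem_univ j0) hstrict
  rw [hsum, map_zero] at this
  exact mul_ne_zero hj0 (π j0).ne_zero ((map_eq_zero v).mp this.symm)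

/-- the image of `Bˣ` in `Lˣ`. -/
abbrev UB : Subgroup Lˣ := (Units.map (algebraMap B L).toMonoidHom).range

/-- the image of `Kˣ` in `Lˣ ⧸ UB`. -/
abbrev GA : Subgroup (Lˣ ⧸ UB B L) :=
  ((QuotientGroup.mk' (UB B L)).comp (Units.map (algebraMap K L).toMonoidHom)).range

lemma bound [FiniteDimensional K L] {ι κ : Type*} [Fintype ι] [Fintype κ]
    (r : ι → ResidueField B) (hr : LinearIndependent (ResidueField A) r)
    (q : κ → (Lˣ ⧸ UB B L) ⧸ GA B K L) (hq : Function.Injective q) :
    Fintype.card ι * Fintype.card κ ≤ Module.finrank K L := by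
  classical
  choose b hb using fun i => residue_surjective (r i)
  choose π' hπ' using fun j => QuotientGroup.mk_surjective (q j)
  choose π hπ using fun j => QuotientGroup.mk_surjective (π' j)
  have hr' : LinearIndependent (ResidueField A) (fun i => residue B (b i)) := by
    simpa only [hb] using hr
  have hlin := core A B K L b hr' π ?_
  · have := hlin.fintype_card_le_finrank
    simpa [Fintype.card_prod] using this
  · intro j j' hjj' c u heq
    apply hjj'
    apply hq
    rw [← hπ' j, ← hπ' j', QuotientGroup.eq, ← hπ j, ← hπ j']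
    refine ⟨c⁻¹, ?_⟩
    show ((Units.map (algebraMap K L).toMonoidHom c⁻¹ : Lˣ) : Lˣ ⧸ UB B L) = _
    rw [← QuotientGroup.mk_inv, ← QuotientGroup.mk_mul, QuotientGroup.eq]
    refine ⟨u⁻¹, ?_⟩
    apply Units.ext
    have hu : algebraMap B L (u : B) * algebraMap B L ((u⁻¹ : Bˣ) : B) = 1 := by
      rw [← map_mul, Units.mul_inv, map_one]
    have hc : algebraMap K L (c : K) * algebraMap K L ((c⁻¹ : Kˣ) : K) = 1 := by
      rw [← map_mul, Units.mul_inv, map_one]
    have hpj : (π j : L) * ((π j)⁻¹ : Lˣ) = 1 := Units.mul_inv _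
    have hcc : ((Units.map (algebraMap K L).toMonoidHom c⁻¹)⁻¹ : Lˣ) =
        Units.map (algebraMap K L).toMonoidHom c := by
      rw [map_inv, inv_inv]
    rw [hcc]
    simp only [Units.val_mul, Units.coe_map, RingHom.toMonoidHom_eq_coe, MonoidHom.coe_coe]
    rw [heq] at hpj
    linear_combination (-algebraMap B L ((u⁻¹ : Bˣ) : B)) * hpj +
      (algebraMap K L (c : K) * ((π j)⁻¹ : Lˣ) * (π j' : L)) * hu

theorem main_aux [FiniteDimensional K L] :
    Module.Finite (ResidueField A) (ResidueField B) ∧ (GA B K L).index ≠ 0 ∧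
      (GA B K L).index * Module.finrank (ResidueField A) (ResidueField B) ≤
        Module.finrank K L := by
  classical
  have hfin : Module.Finite (ResidueField A) (ResidueField B) := by
    rw [← Module.rank_lt_aleph0_iff]
    refine lt_of_le_of_lt (rank_le (n := Module.finrank K L) fun s hs => ?_)
      Cardinal.natCast_lt_aleph0
    have := bound A B K L (ι := s) (κ := Unit) (fun i => (i : ResidueField B)) hs
      (fun _ => ((1 : Lˣ ⧸ UB B L) : (Lˣ ⧸ UB B L) ⧸ GA B K L))
      (Function.injective_of_subsingleton _)
    simpa using this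
  have hidx : (GA B K L).index ≠ 0 := by
    intro h0
    rw [Subgroup.index_eq_zero_iff_infinite] at h0
    let q := Infinite.natEmbedding ((Lˣ ⧸ UB B L) ⧸ GA B K L)
    have := bound A B K L (ι := Unit) (κ := Fin (Module.finrank K L + 1))
      (fun _ => (1 : ResidueField B)) (linearIndependent_unique_iff.mpr one_ne_zero)
      (fun i => q (i : ℕ)) (fun i j h => Fin.val_injective (q.injective h))
    simp at this
  refine ⟨hfin, hidx, ?_⟩
  have : (GA B K L).FiniteIndex := ⟨hidx⟩
  let _ : Fintype ((Lˣ ⧸ UB B L) ⧸ GA B K L) := Fintype.ofFinite _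
  have := bound A B K L (ι := Fin (Module.finrank (ResidueField A) (ResidueField B)))
    (κ := (Lˣ ⧸ UB B L) ⧸ GA B K L)
    (Module.finBasis (ResidueField A) (ResidueField B))
    (Module.finBasis (ResidueField A) (ResidueField B)).linearIndependent id
    Function.injective_id
  rw [Subgroup.index_eq_card, Nat.card_eq_fintype_card]
  simpa [mul_comm] using this

end Helpers

/-- Let A ⊆ B be an extension of valuation rings (both valuation domains, the inclusion injective and
local) with fraction fields K ⊆ L such that L/K is finite. Then the residue field of B is finite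
over that of A, the value group of A has finite index in the value group of B, and (index of value
groups) · (residue degree) ≤ [L : K]. Here the value group of B is written as Lˣ modulo the units of
B, and that of A as the image of Kˣ in it. -/
theorem result (A B K L : Type u) [CommRing A] [IsDomain A]
    [ValuationRing A] [CommRing B] [IsDomain B] [ValuationRing B] [Field K] [Field L]
    [Algebra A K] [IsFractionRing A K] [Algebra B L] [IsFractionRing B L] [Algebra A B] [Algebra K L]
    [Algebra A L] [IsScalarTower A K L] [IsScalarTower A B L] (hinj : Function.Injective (algebraMap A B))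
    [IsLocalHom (algebraMap A B)] [FiniteDimensional K L] :
    let UB : Subgroup Lˣ := (Units.map (algebraMap B L).toMonoidHom).range
    let ΓA : Subgroup (Lˣ ⧸ UB) := ((QuotientGroup.mk' UB).comp (Units.map (algebraMap K L).toMonoidHom)).range
    Module.Finite (IsLocalRing.ResidueField A) (IsLocalRing.ResidueField B) ∧ ΓA.index ≠ 0 ∧
      ΓA.index * Module.finrank (IsLocalRing.ResidueField A) (IsLocalRing.ResidueField B) ≤
        Module.finrank K L := by
  exact main_aux A B K L

end Groth.Agent.S7124
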