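import Groth.Statements.S7130
import Mathlib.RingTheory.Flat.EquationalCriterion
import Mathlib.RingTheory.Flat.Localization
import Mathlib.RingTheory.KrullDimension.Zero
import Mathlib.RingTheory.LocalProperties.Reduced
import Mathlib.RingTheory.LocalProperties.Basic
import Mathlib.Algebra.Module.FinitePresentation

set_option autoImplicit false
universe u
open EtAlg

namespace Groth.Agent.S7130

/-- (2) ⇔ (3) ⇔ (4): for a ring A the following are equivalent: every A-module is flat; A is reduced of
Krull dimension zero, in the sense that every prime ideal of A is maximal; the local ring A_p is a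
field for every prime p. (The further equivalent condition 'A has weak dimension at most zero'
coincides with the first condition by definition and is not listed separately.) -/
theorem vnr_of_flat (A : Type u) [CommRing A]
    (h : ∀ (M : Type u) [AddCommGroup M] [Module A M], Module.Flat A M) (x : A) :
    ∃ b : A, x = b * x ^ 2 := by
  have : Module.Flat A (A ⧸ Ideal.span {x}) := h _
  have : Module.FinitePresentation A (A ⧸ Ideal.span {x}) := by
    apply Module.finitePresentation_of_surjective (Ideal.span {x}).mkQ
      (Submodule.mkQ_surjective _)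
    rw [Submodule.ker_mkQ]
    exact ⟨{x}, by simp [Ideal.submodule_span_eq]⟩
  have : Module.Projective A (A ⧸ Ideal.span {x}) :=
    Module.Flat.projective_of_finitePresentation
  obtain ⟨s, hs⟩ := Module.projective_lifting_property (Ideal.span {x}).mkQ
    (LinearMap.id : (A ⧸ Ideal.span {x}) →ₗ[A] (A ⧸ Ideal.span {x})) (Submodule.mkQ_surjective _)
  obtain ⟨e', he'⟩ : ∃ e' : A, e' = s (Submodule.Quotient.mk 1) := ⟨_, rfl⟩
  have h1 : (Submodule.Quotient.mk e' : A ⧸ Ideal.span {x}) = Submodule.Quotient.mk 1 := by
    rw [he']
    exact LinearMap.congr_fun hs (Submodule.Quotient.mk 1)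
  have h2 : (1 : A) - e' ∈ Ideal.span {x} := by
    have : (Submodule.Quotient.mk (1 - e') : A ⧸ Ideal.span {x}) = 0 := by
      rw [Submodule.Quotient.mk_sub, h1, sub_self]
    exact (Submodule.Quotient.mk_eq_zero _).mp this
  have h3 : x * e' = 0 := by
    have : x • e' = s (x • Submodule.Quotient.mk 1) := by rw [map_smul, he']
    rw [smul_eq_mul] at this
    rw [this]
    have hx0 : (x • Submodule.Quotient.mk 1 : A ⧸ Ideal.span {x}) = 0 := by
      rw [← Submodule.Quotient.mk_smul, smul_eq_mul, mul_one]
      exact (Submodule.Quotient.mk_eq_zero _).mpr (Ideal.subset_span rfl)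
    rw [hx0, map_zero]
  obtain ⟨b, hb⟩ := Ideal.mem_span_singleton'.mp h2
  refine ⟨b, ?_⟩
  have : x = x * (1 - e') + x * e' := by ring
  rw [h3, add_zero, ← hb] at this
  calc x = x * (b * x) := this
    _ = b * x ^ 2 := by ring

theorem result (A : Type u) [CommRing A] :
    List.TFAE [∀ (M : Type u) [AddCommGroup M] [Module A M], Module.Flat A M,
      IsReduced A ∧ ∀ p : Ideal A, p.IsPrime → p.IsMaximal,
      ∀ (p : Ideal A) [p.IsPrime], IsField (Localization.AtPrime p)] := by
  tfae_have 1 → 3 := by
    intro h p hp
    rw [IsLocalRing.isField_iff_maximalIdeal_eq, eq_bot_iff]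
    intro y hy
    obtain ⟨x, s, rfl⟩ := IsLocalization.exists_mk'_eq p.primeCompl y
    have hx : x ∈ p := by
      rw [← IsLocalization.AtPrime.to_map_mem_maximal_iff (Localization.AtPrime p) p x]
      rw [← IsLocalization.mk'_spec (Localization.AtPrime p) x s]
      exact Ideal.mul_mem_right _ _ hy
    obtain ⟨b, hb⟩ := vnr_of_flat A h x
    have hnp : 1 - b * x ∉ p := by
      intro hmem
      have : (1 : A) ∈ p := by
        have h1 : (1 : A) = (1 - b * x) + b * x := by ring
        rw [h1]
        exact Ideal.add_mem _ hmem (Ideal.mul_mem_left _ _ hx)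
      exact hp.ne_top ((Ideal.eq_top_iff_one _).mpr this)
    have h0 : algebraMap A (Localization.AtPrime p) x = 0 := by
      rw [IsLocalization.map_eq_zero_iff p.primeCompl]
      refine ⟨⟨1 - b * x, hnp⟩, ?_⟩
      change (1 - b * x) * x = 0
      have : (1 - b * x) * x = x - b * x ^ 2 := by ring
      rw [this, ← hb, sub_self]
    rw [Ideal.mem_bot, IsLocalization.mk'_eq_zero_iff]
    exact (IsLocalization.map_eq_zero_iff p.primeCompl _ x).mp h0
  tfae_have 3 → 1 := by
    intro h M _ _
    apply Module.flat_of_localized_maximal
    intro P hP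
    have hf := h P
    let _ := hf.toField
    have : Module.Flat (Localization.AtPrime P) (LocalizedModule P.primeCompl M) :=
      inferInstance
    exact Module.Flat.trans A (Localization.AtPrime P) _
  tfae_have 2 → 3 := by
    rintro ⟨hred, hmax⟩ p hp
    have : Ring.KrullDimLE 0 A := Ring.KrullDimLE.mk₀ hmax
    have hmin : p ∈ minimalPrimes A := by
      rw [minimalPrimes, Ideal.mem_minimalPrimes_iff_isPrime]
      exact hp
    have : Ring.KrullDimLE 0 (Localization.AtPrime p) :=
      Ring.KrullDimLE.of_isLocalization p hmin _
    have : IsReduced (Localization.AtPrime p) := inferInstance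
    exact Ring.KrullDimLE.isField_of_isReduced
  tfae_have 3 → 2 := by
    intro h
    have hzero : ∀ (q : Ideal A) [q.IsPrime] (x : A), x ∈ q →
        algebraMap A (Localization.AtPrime q) x = 0 := by
      intro q _ x hx
      have hf := (IsLocalRing.isField_iff_maximalIdeal_eq (R := Localization.AtPrime q)).mp (h q)
      have : algebraMap A (Localization.AtPrime q) x ∈
          IsLocalRing.maximalIdeal (Localization.AtPrime q) :=
        (IsLocalization.AtPrime.to_map_mem_maximal_iff (Localization.AtPrime q) q x).mpr hx
      rw [hf] at this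
      exact this
    refine ⟨⟨fun x hx => ?_⟩, fun p hp => ?_⟩
    · apply eq_zero_of_localization
      intro J hJ
      have hf := h J
      let _ := hf.toField
      have : IsNilpotent (algebraMap A (Localization.AtPrime J) x) := hx.map _
      exact this.eq_zero
    · obtain ⟨q, hq, hpq⟩ := Ideal.exists_le_maximal p hp.ne_top
      have hqp : q ≤ p := by
        intro x hx
        have h0 := hzero q x hx
        rw [IsLocalization.map_eq_zero_iff q.primeCompl] at h0
        obtain ⟨⟨m, hm⟩, hmx⟩ := h0
        change m * x = 0 at hmx
        have : m * x ∈ p := by rw [hmx]; exact p.zero_mem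
        rcases hp.mem_or_mem this with h' | h'
        · exact absurd (hpq h') hm
        · exact h'
      rw [le_antisymm hpq hqp]
      exact hq
  tfae_finish

end Groth.Agent.S7130
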