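import Groth.Statements.S7131
import Groth.Agent.Lib.TorBalance
import Groth.Agent.Lib.TFunBaseChange
import Groth.Agent.Lib.DiagFlat
import Groth.Agent.S6313
-- import your own Groth.Agent.* helpers here

set_option autoImplicit false
universe u
open EtAlg

namespace Groth.Agent.S7131

open CategoryTheory MonoidalCategory Limits TensorProduct
open Groth.Agent.Lib.TorLES Groth.Agent.Lib.TorBalance Groth.Agent.Lib.TFunCompare
  Groth.Agent.Lib.TFunBaseChange

variable {A B : Type u} [CommRing A] [CommRing B] [Algebra A B]

/-- flatness over `A` of the restriction of a flat `B`-module, `B` flat over `A` -/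
lemma flat_RB [Module.Flat A B] (F : ModuleCat.{u} B) [Module.Flat B F] :
    Module.Flat A ((RB (A := A) B).obj F) := by
  letI : Module A F := modA B F
  haveI : IsScalarTower A B F := towerA B F
  exact (Module.Flat.trans A B F : Module.Flat A F)

/-- a `B`-module whose restriction is `A`-flat is `B`-flat (weakly étale) -/
lemma flat_of_flat_RB [Algebra.WeaklyEtale A B] (N : ModuleCat.{u} B)
    (h : Module.Flat A ((RB (A := A) B).obj N)) : Module.Flat B N := by
  letI : Module A N := modA B N
  haveI : IsScalarTower A B N := towerA B N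
  haveI : Module.Flat A N := h
  exact Groth.Agent.Lib.DiagFlat.flat_of_flat_lmul' (Algebra.WeaklyEtale.flat_lmul' A B) N

theorem key [Algebra.WeaklyEtale A B] (d : ℕ) : ∀ (N : ModuleCat.{u} B),
    (∀ (M : ModuleCat.{u} A) (p : ℕ), d < p →
      IsZero (((Tor (ModuleCat.{u} A) p).obj ((RB (A := A) B).obj N)).obj M)) →
    ∀ (N' : ModuleCat.{u} B) (p : ℕ), d < p →
      IsZero (((Tor (ModuleCat.{u} B) p).obj N).obj N') := by
  induction d with
  | zero =>
    intro N h N' p hp
    have hflatA : Module.Flat A ((RB (A := A) B).obj N) := by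
      rw [Groth.Agent.S6313.result]
      intro I _
      exact h _ 1 Nat.one_pos
    have hflatB : Module.Flat B N := flat_of_flat_RB N hflatA
    obtain ⟨m, rfl⟩ : ∃ m, p = m + 1 := ⟨p - 1, by omega⟩
    exact isZero_tor_succ_of_flat_left N N' m
  | succ d ih =>
    intro N h N' p hp
    have hS := projPres_shortExact N
    have hF : Module.Flat B (projPres N).X₂ := flat_of_projective _
    have hSA : ((projPres N).map (RB (A := A) B)).ShortExact := hS.map_of_exact (RB (A := A) B)
    have hFA : Module.Flat A ((projPres N).map (RB (A := A) B)).X₂ := flat_RB (projPres N).X₂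
    have hK : ∀ (M : ModuleCat.{u} A) (q : ℕ), d < q →
        IsZero (((Tor (ModuleCat.{u} A) q).obj ((RB (A := A) B).obj (projPres N).X₁)).obj M) := by
      intro M q hq
      obtain ⟨m, rfl⟩ : ∃ m, q = m + 1 := ⟨q - 1, by omega⟩
      exact (h M (m + 1 + 1) (by omega)).of_iso (δIso hSA M m).symm
    obtain ⟨m, rfl⟩ : ∃ m, p = m + 1 + 1 := ⟨p - 2, by omega⟩
    exact (ih (projPres N).X₁ hK N' (m + 1) (by omega)).of_iso (δIso hS N' m)


/-- Suppose A → B is weakly étale and every A-module has tor dimension at most d. Then every B-module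
has tor dimension at most d over B (weak dimension at most d ascends along weakly étale maps). -/
theorem result (A B : Type u) [CommRing A] [CommRing B] [Algebra A B]
    [Algebra.WeaklyEtale A B] (d : ℕ)
    (hA : ∀ (M : Type u) [AddCommGroup M] [Module A M], DRing.HasTorDimLE A d M)
    (N : Type u) [AddCommGroup N] [Module B N] : DRing.HasTorDimLE B d N := by
  intro N' _ _ p hp
  have := key (A := A) d (ModuleCat.of B N) (fun M q hq => by
    have h := hA ((RB (A := A) B).obj (ModuleCat.of B N)) M q hq
    exact ModuleCat.isZero_of_subsingleton _) (ModuleCat.of B N') p hp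
  exact ModuleCat.subsingleton_of_isZero this

end Groth.Agent.S7131
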