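import Groth.Statements.S7132
import Mathlib
import Groth.Agent.Lib.DVRExt

set_option autoImplicit false
universe u
open EtAlg

namespace Groth.Agent.S7132
set_option linter.style.haveILetI false

lemma dvd_of_sum_eq_zero {B : Type*} [CommRing B] [IsDomain B] (ϱ : B) (hϱ : ϱ ≠ 0) (e : ℕ)
    (c : Fin e → B) (hsum : ∑ j : Fin e, c j * ϱ ^ (j : ℕ) = 0)
    (hc : ∀ j, ϱ ∣ c j → ϱ ^ e ∣ c j) : ∀ j, ϱ ∣ c j := by
  classical
  have main : ∀ n : ℕ, ∀ j : Fin e, (j : ℕ) = n → ϱ ∣ c j := by
    intro n
    induction n using Nat.strong_induction_on with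
    | _ n ih =>
      intro j hj
      have h1 := Finset.add_sum_erase Finset.univ (fun j : Fin e => c j * ϱ ^ (j : ℕ))
        (Finset.mem_univ j)
      rw [hsum] at h1
      have h2 : c j * ϱ ^ (j : ℕ) = -∑ x ∈ Finset.univ.erase j, c x * ϱ ^ (x : ℕ) := by
        rw [eq_neg_iff_add_eq_zero]; exact h1
      have h3 : ϱ ^ ((j : ℕ) + 1) ∣ c j * ϱ ^ (j : ℕ) := by
        rw [h2, dvd_neg]
        apply Finset.dvd_sum
        intro x hx
        have hxj : x ≠ j := Finset.ne_of_mem_erase hx
        rcases lt_or_gt_of_ne (fun h => hxj (Fin.ext h) : (x : ℕ) ≠ (j : ℕ)) with hlt | hgt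
        · have := hc x (ih x (hj ▸ hlt) x rfl)
          exact Dvd.dvd.mul_right ((pow_dvd_pow ϱ (by omega)).trans this) _
        · exact Dvd.dvd.mul_left (pow_dvd_pow ϱ (by omega)) _
      rw [pow_succ, mul_comm (c j)] at h3
      exact (mul_dvd_mul_iff_left (pow_ne_zero _ hϱ)).1 h3
  exact fun j => main j j rfl

section
variable {A B : Type u} [CommRing A] [IsDomain A]
    [IsDiscreteValuationRing A] [CommRing B] [IsDomain B] [IsDiscreteValuationRing B] [Algebra A B]
    [IsLocalHom (algebraMap A B)]

open IsLocalRing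

lemma mem_of_relation {r e : ℕ} (b : Fin r → B)
    (hb : LinearIndependent (ResidueField A) (fun i => residue B (b i)))
    {ϖ : A} (hϖ : Irreducible ϖ) {ϱ : B} (hϱ : Irreducible ϱ) {u : Bˣ}
    (he : algebraMap A B ϖ = u * ϱ ^ e)
    (a : Fin r × Fin e → A)
    (hrel : ∑ p : Fin r × Fin e, algebraMap A B (a p) * (b p.1 * ϱ ^ (p.2 : ℕ)) = 0) :
    ∀ p, ϖ ∣ a p := by
  classical
  let c : Fin e → B := fun j => ∑ i : Fin r, algebraMap A B (a (i, j)) * b i
  have hsum : ∑ j : Fin e, c j * ϱ ^ (j : ℕ) = 0 := by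
    rw [← hrel, Fintype.sum_prod_type_right]
    refine Finset.sum_congr rfl (fun j _ => ?_)
    simp only [c, Finset.sum_mul]
    refine Finset.sum_congr rfl (fun i _ => ?_)
    ring
  have key : ∀ j, ϱ ∣ c j → ∀ i, ϖ ∣ a (i, j) := by
    intro j hj i
    have h1 : residue B (c j) = 0 := by
      rw [residue_eq_zero_iff, hϱ.maximalIdeal_eq, Ideal.mem_span_singleton]; exact hj
    have h2 : ∑ i : Fin r, residue A (a (i, j)) • residue B (b i) = 0 := by
      rw [← h1]
      simp only [c, map_sum, map_mul]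
      refine Finset.sum_congr rfl (fun i _ => ?_)
      rw [Algebra.smul_def]
      rfl
    have h3 := Fintype.linearIndependent_iff.1 hb (fun i => residue A (a (i, j))) h2 i
    rw [residue_eq_zero_iff, hϖ.maximalIdeal_eq, Ideal.mem_span_singleton] at h3
    exact h3
  have hc : ∀ j, ϱ ∣ c j → ϱ ^ e ∣ c j := by
    intro j hj
    apply Finset.dvd_sum
    intro i _
    obtain ⟨a', ha'⟩ := key j hj i
    rw [ha', map_mul, he]
    exact Dvd.dvd.mul_right (Dvd.dvd.mul_right (Dvd.intro_left _ rfl) _) _
  have := dvd_of_sum_eq_zero ϱ hϱ.ne_zero e c hsum hc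
  rintro ⟨i, j⟩
  exact key j (this j) i


lemma pow_dvd_of_relation (hinj : Function.Injective (algebraMap A B)) {r e : ℕ} (b : Fin r → B)
    (hb : LinearIndependent (ResidueField A) (fun i => residue B (b i)))
    {ϖ : A} (hϖ : Irreducible ϖ) {ϱ : B} (hϱ : Irreducible ϱ) {u : Bˣ}
    (he : algebraMap A B ϖ = u * ϱ ^ e) (n : ℕ) :
    ∀ (a : Fin r × Fin e → A),
    (∑ p : Fin r × Fin e, algebraMap A B (a p) * (b p.1 * ϱ ^ (p.2 : ℕ)) = 0) →
    ∀ p, ϖ ^ n ∣ a p := by
  induction n with
  | zero => intro a _ p; simp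
  | succ n ih =>
    intro a hrel p
    have h1 := mem_of_relation b hb hϖ hϱ he a hrel
    choose a' ha' using h1
    have hϖB : algebraMap A B ϖ ≠ 0 := fun h => hϖ.ne_zero (hinj (by rw [h, map_zero]))
    have hrel' : ∑ p : Fin r × Fin e, algebraMap A B (a' p) * (b p.1 * ϱ ^ (p.2 : ℕ)) = 0 := by
      have : algebraMap A B ϖ *
          ∑ p : Fin r × Fin e, algebraMap A B (a' p) * (b p.1 * ϱ ^ (p.2 : ℕ)) = 0 := by
        rw [← hrel, Finset.mul_sum]
        refine Finset.sum_congr rfl (fun p _ => ?_)
        rw [ha' p, map_mul]; ring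
      exact (mul_eq_zero.1 this).resolve_left hϖB
    rw [ha' p, pow_succ']
    exact mul_dvd_mul_left _ (ih a' hrel' p)

lemma eq_zero_of_relation (hinj : Function.Injective (algebraMap A B)) {r e : ℕ} (b : Fin r → B)
    (hb : LinearIndependent (ResidueField A) (fun i => residue B (b i)))
    {ϖ : A} (hϖ : Irreducible ϖ) {ϱ : B} (hϱ : Irreducible ϱ) {u : Bˣ}
    (he : algebraMap A B ϖ = u * ϱ ^ e)
    (a : Fin r × Fin e → A)
    (hrel : ∑ p : Fin r × Fin e, algebraMap A B (a p) * (b p.1 * ϱ ^ (p.2 : ℕ)) = 0) :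
    ∀ p, a p = 0 := by
  intro p
  have h1 : a p ∈ ⨅ i : ℕ, (maximalIdeal A) ^ i := by
    rw [Ideal.mem_iInf]
    intro n
    rw [hϖ.maximalIdeal_eq, Ideal.span_singleton_pow, Ideal.mem_span_singleton]
    exact pow_dvd_of_relation hinj b hb hϖ hϱ he n a hrel p
  rw [Ideal.iInf_pow_eq_bot_of_isLocalRing _ Ideal.IsPrime.ne_top'] at h1
  exact h1

lemma linearIndependent_of_residue (hinj : Function.Injective (algebraMap A B))
    {K L : Type u} [Field K] [Field L] [Algebra A K] [IsFractionRing A K] [Algebra B L]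
    [IsFractionRing B L] [Algebra K L] [Algebra A L] [IsScalarTower A K L] [IsScalarTower A B L]
    {r e : ℕ} (b : Fin r → B)
    (hb : LinearIndependent (ResidueField A) (fun i => residue B (b i)))
    {ϖ : A} (hϖ : Irreducible ϖ) {ϱ : B} (hϱ : Irreducible ϱ) {u : Bˣ}
    (he : algebraMap A B ϖ = u * ϱ ^ e) :
    LinearIndependent K (fun p : Fin r × Fin e => algebraMap B L (b p.1 * ϱ ^ (p.2 : ℕ))) := by
  classical
  rw [Fintype.linearIndependent_iff]
  intro g hg p
  obtain ⟨d, hd⟩ := IsLocalization.exist_integer_multiples (nonZeroDivisors A) Finset.univ g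
  choose a ha using fun p => hd p (Finset.mem_univ p)
  have hrel : ∑ p : Fin r × Fin e, algebraMap A B (a p) * (b p.1 * ϱ ^ (p.2 : ℕ)) = 0 := by
    apply IsFractionRing.injective B L
    rw [map_zero, map_sum]
    have : (d : A) • ∑ p : Fin r × Fin e, g p • algebraMap B L (b p.1 * ϱ ^ (p.2 : ℕ)) = 0 := by
      rw [hg, smul_zero]
    rw [← this, Finset.smul_sum]
    refine Finset.sum_congr rfl (fun p _ => ?_)
    rw [map_mul, ← IsScalarTower.algebraMap_apply A B L, IsScalarTower.algebraMap_apply A K L,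
      ha p, ← smul_assoc, Algebra.smul_def ((d : A) • g p)]
  have h0 := eq_zero_of_relation hinj b hb hϖ hϱ he a hrel p
  have h1 := ha p
  rw [h0, map_zero, Algebra.smul_def] at h1
  have hd0 : algebraMap A K (d : A) ≠ 0 := by
    intro h
    exact nonZeroDivisors.ne_zero d.2 (IsFractionRing.injective A K (by rw [h, map_zero]))
  exact (mul_eq_zero.1 h1.symm).resolve_left hd0

end


/-- For an injective local homomorphism A → B of discrete valuation rings whose fraction fields K ⊆ L
form a finite extension, the residue field of B is finite over that of A, and the ramification index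
e times the residue degree f is at most [L : K]. -/
theorem result (A B K L : Type u) [CommRing A] [IsDomain A]
    [IsDiscreteValuationRing A] [CommRing B] [IsDomain B] [IsDiscreteValuationRing B] [Algebra A B]
    (hinj : Function.Injective (algebraMap A B)) [IsLocalHom (algebraMap A B)]
    [Field K] [Field L] [Algebra A K] [IsFractionRing A K] [Algebra B L] [IsFractionRing B L]
    [Algebra K L] [Algebra A L] [IsScalarTower A K L] [IsScalarTower A B L] [FiniteDimensional K L] :
    Module.Finite (IsLocalRing.ResidueField A) (IsLocalRing.ResidueField B) ∧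
      Ideal.ramificationIdx' (IsLocalRing.maximalIdeal A) (IsLocalRing.maximalIdeal B) *
          Module.finrank (IsLocalRing.ResidueField A) (IsLocalRing.ResidueField B) ≤
        Module.finrank K L := by
  classical
  obtain ⟨ϖ, hϖ⟩ := IsDiscreteValuationRing.exists_irreducible A
  obtain ⟨ϱ, hϱ⟩ := IsDiscreteValuationRing.exists_irreducible B
  obtain ⟨e, u, hepos, he⟩ := Groth.Agent.Lib.DVRExt.exists_map_uniformizer hinj hϖ hϱ
  have hram := Groth.Agent.Lib.DVRExt.ramificationIdx'_eq hϖ hϱ he
  rw [hram]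
  have bound : ∀ (r : ℕ) (v : Fin r → IsLocalRing.ResidueField B),
      LinearIndependent (IsLocalRing.ResidueField A) v → r * e ≤ Module.finrank K L := by
    intro r v hv
    choose b hb using fun i => IsLocalRing.residue_surjective (R := B) (v i)
    have hv' : LinearIndependent (IsLocalRing.ResidueField A) (fun i => IsLocalRing.residue B (b i)) := by
      convert hv using 2
      exact hb _
    have := (linearIndependent_of_residue (K := K) (L := L) hinj b hv' hϖ hϱ he).fintype_card_le_finrank
    simpa using this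
  have hfin : Module.Finite (IsLocalRing.ResidueField A) (IsLocalRing.ResidueField B) := by
    rw [← Module.rank_lt_aleph0_iff]
    refine lt_of_le_of_lt (rank_le (n := Module.finrank K L) ?_) Cardinal.natCast_lt_aleph0
    intro s hs
    have hv : LinearIndependent (IsLocalRing.ResidueField A)
        (fun i : Fin s.card => ((s.equivFin.symm i : s) : IsLocalRing.ResidueField B)) :=
      hs.comp _ s.equivFin.symm.injective
    have := bound s.card _ hv
    nlinarith
  refine ⟨hfin, ?_⟩
  have hb := (Module.finBasis (IsLocalRing.ResidueField A) (IsLocalRing.ResidueField B)).linearIndependent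
  have := bound _ _ hb
  rw [mul_comm]; exact this

end Groth.Agent.S7132
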