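import Groth.Statements.S7133
import Groth.Agent.Lib.DVRExt

set_option autoImplicit false
universe u
open EtAlg

namespace Groth.Agent.S7133

/-- For an injective local homomorphism A → B of discrete valuation rings whose fields of fractions are
K ⊆ L: if K has characteristic p > 0 and L/K is purely inseparable, then the ramification index of B
over A is a power of p. -/
theorem result (A B K L : Type u) [CommRing A] [IsDomain A]
    [IsDiscreteValuationRing A] [CommRing B] [IsDomain B] [IsDiscreteValuationRing B] [Algebra A B]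
    (hinj : Function.Injective (algebraMap A B)) [IsLocalHom (algebraMap A B)]
    [Field K] [Field L] [Algebra A K] [IsFractionRing A K] [Algebra B L] [IsFractionRing B L]
    [Algebra K L] [Algebra A L] [IsScalarTower A K L] [IsScalarTower A B L]
    (p : ℕ) (hp : p.Prime) [CharP K p] [IsPurelyInseparable K L] :
    ∃ k : ℕ, Ideal.ramificationIdx' (IsLocalRing.maximalIdeal A) (IsLocalRing.maximalIdeal B) =
      p ^ k := by
  obtain ⟨ϖ, hϖ⟩ := IsDiscreteValuationRing.exists_irreducible A
  obtain ⟨ϱ, hϱ⟩ := IsDiscreteValuationRing.exists_irreducible B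
  obtain ⟨e, u, hepos, he⟩ := Groth.Agent.Lib.DVRExt.exists_map_uniformizer hinj hϖ hϱ
  rw [Groth.Agent.Lib.DVRExt.ramificationIdx'_eq hϖ hϱ he]
  have : ExpChar K p := ExpChar.prime hp
  obtain ⟨k, y, hy⟩ := IsPurelyInseparable.pow_mem K p (algebraMap B L ϱ)
  obtain ⟨a, b, hb, hab⟩ := IsFractionRing.div_surjective (A := A) y
  have hb0 : b ≠ 0 := nonZeroDivisors.ne_zero hb
  have hbK : algebraMap A K b ≠ 0 := by
    intro h
    exact hb0 ((IsFractionRing.injective A K) (by rw [h, map_zero]))
  have hBL : Function.Injective (algebraMap B L) := IsFractionRing.injective B L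
  -- the key equation in B
  have hkey : algebraMap A B a = algebraMap A B b * ϱ ^ (p ^ k) := by
    apply hBL
    rw [map_mul, map_pow, ← hy, ← hab, ← IsScalarTower.algebraMap_apply,
      ← IsScalarTower.algebraMap_apply, IsScalarTower.algebraMap_apply A K L a,
      IsScalarTower.algebraMap_apply A K L b, map_div₀]
    have hbL : algebraMap K L (algebraMap A K b) ≠ 0 := by
      intro h
      exact hbK ((algebraMap K L).injective (by rw [h, map_zero]))
    rw [mul_div_assoc', mul_comm, mul_div_assoc, div_self hbL, mul_one]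
  have ha0 : a ≠ 0 := by
    rintro rfl
    rw [map_zero] at hkey
    have h1 : algebraMap A B b ≠ 0 := fun h => hb0 (hinj (by rw [h, map_zero]))
    exact (mul_ne_zero h1 (pow_ne_zero _ hϱ.ne_zero)) hkey.symm
  obtain ⟨i, v, rfl⟩ := IsDiscreteValuationRing.eq_unit_mul_pow_irreducible ha0 hϖ
  obtain ⟨j, v', rfl⟩ := IsDiscreteValuationRing.eq_unit_mul_pow_irreducible hb0 hϖ
  obtain ⟨w, hw⟩ := Groth.Agent.Lib.DVRExt.map_eq_unit_mul_pow he v i
  obtain ⟨w', hw'⟩ := Groth.Agent.Lib.DVRExt.map_eq_unit_mul_pow he v' j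
  rw [hw, hw', mul_assoc, ← pow_add] at hkey
  have hexp := IsDiscreteValuationRing.unit_mul_pow_congr_pow hϱ hϱ w w' _ _ hkey
  have hdvd : e ∣ p ^ k := by
    have : p ^ k = e * i - e * j := by omega
    rw [this, ← Nat.mul_sub]
    exact dvd_mul_right _ _
  obtain ⟨l, _, hl⟩ := (Nat.dvd_prime_pow hp).mp hdvd
  exact ⟨l, hl⟩

end Groth.Agent.S7133
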