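import Groth.Statements.S7135
import Groth.Agent.Lib.HomArtinRees
import Groth.Agent.Lib.AdicSys
import Mathlib.RingTheory.AdicCompletion.Functoriality
import Mathlib.RingTheory.Noetherian.Orzech

set_option autoImplicit false
universe u
open CAlg

namespace Groth.Agent.S7135

/-- Let A be a Noetherian ring, I an ideal and M, N finite A-modules. If M/IⁿM and N/IⁿN are isomorphic
for every n, then the I-adic completions of M and N are isomorphic as modules over the I-adic
completion of A. -/
theorem result (A : Type u) [CommRing A] [IsNoetherianRing A] (I : Ideal A)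
    (M N : Type u) [AddCommGroup M] [Module A M] [Module.Finite A M] [AddCommGroup N] [Module A N]
    [Module.Finite A N]
    (h : ∀ n : ℕ, Nonempty ((M ⧸ (I ^ n • ⊤ : Submodule A M)) ≃ₗ[A] (N ⧸ (I ^ n • ⊤ : Submodule A N)))) :
    Nonempty (AdicCompletion I M ≃ₗ[AdicCompletion I A] AdicCompletion I N) := by
  classical
  obtain ⟨c, hc⟩ := Groth.Agent.Lib.HomArtinRees.exists_approx I M N
  obtain ⟨e⟩ := h (c + 1)
  obtain ⟨φ, hφ⟩ := hc (c + 1) (Nat.le_succ c)
    (e.toLinearMap ∘ₗ Submodule.mkQ (I ^ (c + 1) • ⊤ : Submodule A M))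
  -- `φ` is surjective modulo `I`
  have hsurj1 : ∀ y : N, ∃ x : M, φ x - y ∈ (I • ⊤ : Submodule A N) := by
    intro y
    obtain ⟨x, hx⟩ := Submodule.Quotient.mk_surjective _ (e.symm (Submodule.Quotient.mk y))
    refine ⟨x, ?_⟩
    have := hφ x y (by
      simp only [LinearMap.comp_apply, Submodule.mkQ_apply, LinearEquiv.coe_coe]
      rw [hx, LinearEquiv.apply_symm_apply])
    rwa [Nat.add_sub_cancel_left, pow_one] at this
  have hsup : LinearMap.range φ ⊔ (I • ⊤ : Submodule A N) = ⊤ := by
    rw [eq_top_iff]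
    intro y _
    obtain ⟨x, hx⟩ := hsurj1 y
    have : y = φ x - (φ x - y) := by abel
    rw [this]
    exact Submodule.sub_mem _ (Submodule.mem_sup_left ⟨x, rfl⟩) (Submodule.mem_sup_right hx)
  -- `φ` is surjective modulo `I ^ n`
  have hsurjn : ∀ n (y : N), ∃ x : M, φ x - y ∈ (I ^ n • ⊤ : Submodule A N) := by
    intro n y
    have h1 := Groth.Agent.Lib.AdicSys.sup_pow_smul_top_eq_top I _ hsup n
    have hy : y ∈ LinearMap.range φ ⊔ (I ^ n • ⊤ : Submodule A N) := by rw [h1]; trivial
    obtain ⟨y', ⟨x, rfl⟩, w, hw, rfl⟩ := Submodule.mem_sup.mp hy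
    refine ⟨x, ?_⟩
    have : φ x - (φ x + w) = -w := by abel
    rw [this]
    exact Submodule.neg_mem _ hw
  -- `φ` is injective modulo `I ^ n`
  have hinjn : ∀ n (x : M), φ x ∈ (I ^ n • ⊤ : Submodule A N) →
      x ∈ (I ^ n • ⊤ : Submodule A M) := by
    intro n x hx
    obtain ⟨en⟩ := h n
    let φn : (M ⧸ (I ^ n • ⊤ : Submodule A M)) →ₗ[A] (N ⧸ (I ^ n • ⊤ : Submodule A N)) :=
      Submodule.mapQ _ _ φ (by
        rw [← Submodule.map_le_iff_le_comap, Submodule.map_smul'']
        exact Submodule.smul_mono le_rfl le_top)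
    have hφn : Function.Surjective φn := by
      intro y
      obtain ⟨y, rfl⟩ := Submodule.Quotient.mk_surjective _ y
      obtain ⟨x, hx⟩ := hsurjn n y
      exact ⟨Submodule.Quotient.mk x, (Submodule.Quotient.eq _).mpr hx⟩
    have hinj : Function.Injective (en.symm.toLinearMap ∘ₗ φn) :=
      IsNoetherian.injective_of_surjective_endomorphism _
        (en.symm.surjective.comp hφn)
    have h0 : (en.symm.toLinearMap ∘ₗ φn) (Submodule.Quotient.mk x) = 0 := by
      have : φn (Submodule.Quotient.mk x) = 0 := (Submodule.Quotient.mk_eq_zero _).mpr hx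
      rw [LinearMap.comp_apply, this, map_zero]
    have h2 := hinj (h0.trans (map_zero _).symm)
    exact (Submodule.Quotient.mk_eq_zero _).mp h2
  have hbij : Function.Bijective (AdicCompletion.map I φ) := by
    refine ⟨?_, ?_⟩
    · rw [injective_iff_map_eq_zero]
      intro x hx
      apply AdicCompletion.ext
      intro n
      obtain ⟨m, hm⟩ := Submodule.Quotient.mk_surjective _ (x.val n)
      have h1 : (AdicCompletion.map I φ x).val n = 0 := by
        rw [hx]
        rfl
      rw [AdicCompletion.map_val_apply, ← hm, LinearMap.reduceModIdeal_apply,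
        Submodule.Quotient.mk_eq_zero] at h1
      rw [← hm]
      exact (Submodule.Quotient.mk_eq_zero _).mpr (hinjn n m h1)
    · apply AdicCompletion.map_surjective_of_mkQ_comp_surjective
      intro y
      obtain ⟨y, rfl⟩ := Submodule.Quotient.mk_surjective _ y
      obtain ⟨x, hx⟩ := hsurj1 y
      refine ⟨x, ?_⟩
      rw [LinearMap.comp_apply, Submodule.mkQ_apply]
      exact (Submodule.Quotient.eq _).mpr hx
  exact ⟨LinearEquiv.ofBijective (AdicCompletion.map I φ) hbij⟩

end Groth.Agent.S7135
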