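import Groth.Statements.S7136
import Groth.Agent.Lib.HomArtinRees

set_option autoImplicit false
universe u
open CAlg

namespace Groth.Agent.S7136

/-- Let A be a Noetherian ring, I an ideal, and M, N finite A-modules; write N_n = N/IⁿN, so that
Hom_A(M/IⁿM, N_n) = Hom_A(M, N_n). Then (1) the inverse system (Hom_A(M, N_n))_n, with transition
maps induced by the projections N_k → N_n, is Mittag-Leffler; (2) there is c ≥ 0 such that for all n
the kernel and the cokernel of Hom_A(M, N)/IⁿHom_A(M, N) → Hom_A(M, N_n) are annihilated by I^c. -/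
theorem result (A : Type u) [CommRing A] [IsNoetherianRing A]
    (I : Ideal A) (M N : Type u) [AddCommGroup M] [Module A M] [Module.Finite A M] [AddCommGroup N] [Module A N]
    [Module.Finite A N] :
    let Nq : ℕ → Submodule A N := fun n => I ^ n • ⊤
    let pr : ∀ n k : ℕ, n ≤ k → (N ⧸ Nq k) →ₗ[A] (N ⧸ Nq n) :=
      fun n k hnk => Submodule.mapQ (Nq k) (Nq n) (LinearMap.id : N →ₗ[A] N) (Submodule.smul_mono_left (Ideal.pow_le_pow_right hnk))
    let red : ∀ n : ℕ, (M →ₗ[A] N) → (M →ₗ[A] N ⧸ Nq n) := fun n φ => (Nq n).mkQ ∘ₗ φ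
    (∀ n : ℕ, ∃ m : ℕ, n ≤ m ∧ ∀ (k : ℕ) (hmk : m ≤ k) (hnm : n ≤ m) (ψ : M →ₗ[A] N ⧸ Nq m),
        ∃ ψ' : M →ₗ[A] N ⧸ Nq k, pr n k (hnm.trans hmk) ∘ₗ ψ' = pr n m hnm ∘ₗ ψ) ∧
    ∃ c : ℕ, ∀ n : ℕ,
      (∀ φ : M →ₗ[A] N, red n φ = 0 → ∀ a ∈ I ^ c, a • φ ∈ (I ^ n • ⊤ : Submodule A (M →ₗ[A] N))) ∧
      (∀ (ψ : M →ₗ[A] N ⧸ Nq n), ∀ a ∈ I ^ c, ∃ φ : M →ₗ[A] N, red n φ = a • ψ) := by
  intro Nq pr red
  obtain ⟨c₁, hc₁⟩ := Groth.Agent.Lib.HomArtinRees.exists_approx I M N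
  obtain ⟨c₂, hc₂⟩ := Groth.Agent.Lib.HomArtinRees.exists_mem_pow_smul_top I M N
  refine ⟨fun n => ⟨n + c₁, Nat.le_add_right n c₁, fun k hmk hnm ψ => ?_⟩,
    max c₁ c₂, fun n => ⟨fun φ hφ a ha => ?_, fun ψ a ha => ?_⟩⟩
  · -- Mittag-Leffler
    obtain ⟨φ, hφ⟩ := hc₁ (n + c₁) (Nat.le_add_left c₁ n) ψ
    refine ⟨(Nq k).mkQ ∘ₗ φ, ?_⟩
    refine LinearMap.ext fun x => ?_
    obtain ⟨z, hz⟩ := Submodule.Quotient.mk_surjective _ (ψ x)
    have h1 := hφ x z hz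
    rw [Nat.add_sub_cancel] at h1
    simp only [LinearMap.comp_apply, Submodule.mkQ_apply]
    rw [← hz]
    show Submodule.Quotient.mk (φ x) = Submodule.Quotient.mk z
    exact (Submodule.Quotient.eq _).mpr h1
  · -- kernel
    have hval : ∀ x, φ x ∈ (I ^ n • ⊤ : Submodule A N) := by
      intro x
      have := LinearMap.congr_fun hφ x
      simpa [red, Nq] using this
    have ha₂ : a ∈ I ^ c₂ := Ideal.pow_le_pow_right (le_max_right c₁ c₂) ha
    by_cases hn : c₂ ≤ n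
    · have h1 := hc₂ n hn φ hval
      have h2 : a • φ ∈ I ^ c₂ • (I ^ (n - c₂) • ⊤ : Submodule A (M →ₗ[A] N)) :=
        Submodule.smul_mem_smul ha₂ h1
      rwa [← mul_smul, ← pow_add, Nat.add_sub_cancel' hn] at h2
    · have ha₃ : a ∈ I ^ n := Ideal.pow_le_pow_right (by omega) ha₂
      exact Submodule.smul_mem_smul ha₃ Submodule.mem_top
  · -- cokernel
    have ha₁ : a ∈ I ^ c₁ := Ideal.pow_le_pow_right (le_max_left c₁ c₂) ha
    by_cases hn : c₁ ≤ n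
    · obtain ⟨φ, hφ⟩ := hc₁ n hn ψ
      refine ⟨a • φ, LinearMap.ext fun x => ?_⟩
      obtain ⟨z, hz⟩ := Submodule.Quotient.mk_surjective _ (ψ x)
      have h1 := hφ x z hz
      have h2 : a • (φ x - z) ∈ I ^ c₁ • (I ^ (n - c₁) • ⊤ : Submodule A N) :=
        Submodule.smul_mem_smul ha₁ h1
      rw [← mul_smul, ← pow_add, Nat.add_sub_cancel' hn] at h2
      simp only [red, LinearMap.comp_apply, Submodule.mkQ_apply, LinearMap.smul_apply]
      rw [← hz, ← Submodule.Quotient.mk_smul]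
      refine (Submodule.Quotient.eq _).mpr ?_
      rwa [← smul_sub]
    · have ha₃ : a ∈ I ^ n := Ideal.pow_le_pow_right (by omega) ha₁
      refine ⟨0, LinearMap.ext fun x => ?_⟩
      obtain ⟨z, hz⟩ := Submodule.Quotient.mk_surjective _ (ψ x)
      simp only [red, LinearMap.comp_apply, LinearMap.zero_apply, map_zero,
        LinearMap.smul_apply]
      rw [← hz, ← Submodule.Quotient.mk_smul, eq_comm, Submodule.Quotient.mk_eq_zero]
      exact Submodule.smul_mem_smul ha₃ Submodule.mem_top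

end Groth.Agent.S7136
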