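import Groth.Statements.S7138
import Groth.Agent.Lib.KrasnerAlg57
import Groth.Agent.Lib.AdicDim
-- import your own Groth.Agent.* helpers here

set_option autoImplicit false
universe u
open EtAlg

namespace Groth.Agent.S7138

section
open IsLocalRing in
theorem dense_aux (A : Type u) [CommRing A] [IsLocalRing A] [IsNoetherianRing A]
    (x : AdicCompletion (maximalIdeal A) A) (n : ℕ) :
    ∃ a : A, x - algebraMap A (AdicCompletion (maximalIdeal A) A) a ∈
      maximalIdeal (AdicCompletion (maximalIdeal A) A) ^ n := by
  obtain ⟨a, ha⟩ := Submodule.mkQ_surjective _ (AdicCompletion.eval (maximalIdeal A) A n x)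
  refine ⟨a, ?_⟩
  have h1 : x - algebraMap A (AdicCompletion (maximalIdeal A) A) a ∈
      (maximalIdeal A ^ n • ⊤ : Submodule A (AdicCompletion (maximalIdeal A) A)) := by
    rw [AdicCompletion.pow_smul_top_eq_ker_eval (maximalIdeal A).fg_of_isNoetherianRing,
      LinearMap.mem_ker, map_sub, AdicCompletion.algebraMap_apply, Algebra.algebraMap_self,
      RingHom.id_apply, AdicCompletion.eval_of, ha, sub_self]
  rw [Ideal.smul_top_eq_map, Submodule.restrictScalars_mem, Ideal.map_pow,
    ← AdicCompletion.maximalIdeal_eq_map] at h1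
  exact h1
end

open TensorProduct in
/-- Let A be a discrete valuation ring, K its field of fractions, A^ its completion and K^ the fraction
field of A^. Every finite separable extension M of K^ arises by base change: M ≅ K^ ⊗_K L as
K^-algebras for some finite separable extension L/K. -/
theorem result (A K : Type u) [CommRing A] [IsDomain A]
    [IsDiscreteValuationRing A] [Field K] [Algebra A K] [IsFractionRing A K]
    (Kh : Type u) [Field Kh] [Algebra (AdicCompletion (IsLocalRing.maximalIdeal A) A) Kh]
    [IsFractionRing (AdicCompletion (IsLocalRing.maximalIdeal A) A) Kh] [Algebra A Kh] [Algebra K Kh]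
    [IsScalarTower A (AdicCompletion (IsLocalRing.maximalIdeal A) A) Kh] [IsScalarTower A K Kh]
    (M : Type u) [Field M] [Algebra Kh M] [FiniteDimensional Kh M] [Algebra.IsSeparable Kh M] :
    ∃ (L : Type u) (_ : Field L) (_ : Algebra K L), FiniteDimensional K L ∧ Algebra.IsSeparable K L ∧
      Nonempty ((Kh ⊗[K] L) ≃ₐ[Kh] M) := by
  classical
  obtain ⟨hdom, hdvr⟩ := (Groth.Agent.Lib.AdicDim.isDiscreteValuationRing_iff_adicCompletion A).mp
    ⟨inferInstance, inferInstance⟩
  haveI := hdom
  haveI := hdvr
  letI : Algebra (AdicCompletion (IsLocalRing.maximalIdeal A) A) M :=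
    ((algebraMap Kh M).comp (algebraMap (AdicCompletion (IsLocalRing.maximalIdeal A) A) Kh)).toAlgebra
  haveI : IsScalarTower (AdicCompletion (IsLocalRing.maximalIdeal A) A) Kh M :=
    .of_algebraMap_eq (fun _ => rfl)
  obtain ⟨G, β, hGm, hGdeg, hroot, htop⟩ :=
    Groth.Agent.Lib.KrasnerAlg57.exists_approx_poly (A := A)
      (O := AdicCompletion (IsLocalRing.maximalIdeal A) A) (Kh := Kh) (M := M) (dense_aux A)
  refine Groth.Agent.Lib.KrasnerAlg57.exists_descent_of_poly (G.map (algebraMap A K)) β
    (hGm.map _) (by rw [hGm.natDegree_map, hGdeg]) ?_ htop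
  rw [Polynomial.map_map, ← IsScalarTower.algebraMap_eq,
    IsScalarTower.algebraMap_eq A (AdicCompletion (IsLocalRing.maximalIdeal A) A) Kh,
    ← Polynomial.map_map, Polynomial.aeval_map_algebraMap]
  exact hroot

end Groth.Agent.S7138
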