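import Groth.Statements.S7139
import Groth.Agent.Lib.Tame76F
import Groth.Agent.Lib.Tame76G
import Groth.Agent.Lib.Tame76H

set_option autoImplicit false
universe u
open EtAlg

namespace Groth.Agent.S7139

/-- A is a discrete valuation ring, K its field of fractions, and L/K is finite Galois with Galois group
G. Write B for the integral closure of A in L, equipped with the induced G-action, m a maximal ideal
of B and I ⊆ G its inertia group. Denote by B' the integral closure of A inside the fixed field L^I,
with a map to B compatible with L^I ⊆ L. Then the image of B' in B is the ring of invariants B^I,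
and A → B'_{m'} is étale, where m' = m ∩ B'. -/
theorem result (A K L B : Type u) [CommRing A] [IsDomain A]
    [IsDiscreteValuationRing A] [Field K] [Field L] [Algebra A K] [IsFractionRing A K] [Algebra K L]
    [Algebra A L] [IsScalarTower A K L] [FiniteDimensional K L] [IsGalois K L]
    [CommRing B] [Algebra A B] [Algebra B L] [IsScalarTower A B L] [IsIntegralClosure B A L]
    [MulSemiringAction (L ≃ₐ[K] L) B]
    (hact : ∀ (σ : L ≃ₐ[K] L) (b : B), algebraMap B L (σ • b) = σ (algebraMap B L b))
    (m : Ideal B) [m.IsMaximal]
    (B' : Type u) [CommRing B'] [Algebra A B'] [Algebra B' B] [IsScalarTower A B' B] [Algebra B' L]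
    [IsScalarTower B' B L]
    [Algebra B' (IntermediateField.fixedField (m.inertia (L ≃ₐ[K] L)))]
    [IsScalarTower B' (IntermediateField.fixedField (m.inertia (L ≃ₐ[K] L))) L]
    [IsIntegralClosure B' A (IntermediateField.fixedField (m.inertia (L ≃ₐ[K] L)))] :
    (∀ b : B, (∀ σ ∈ m.inertia (L ≃ₐ[K] L), σ • b = b) ↔ b ∈ Set.range (algebraMap B' B)) ∧
      Algebra.Etale A (Localization.AtPrime (m.comap (algebraMap B' B))) := by
  classical
  -- basic structure on B
  have hsepKL : Algebra.IsSeparable K L := inferInstance
  have hinjBL : Function.Injective (algebraMap B L) := IsIntegralClosure.algebraMap_injective B A L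
  have hdomB : IsDomain B := hinjBL.isDomain
  have hfracB : IsFractionRing B L := IsIntegralClosure.isFractionRing_of_finite_extension A K L B
  have hDedB : IsDedekindDomain B := IsIntegralClosure.isDedekindDomain A K L B
  have hfinB : Module.Finite A B := IsIntegralClosure.finite A K L B
  have hintB : Algebra.IsIntegral A B := IsIntegralClosure.isIntegral_algebra A L
  have hdistrib : SMulDistribClass (L ≃ₐ[K] L) B L := ⟨fun σ b l => by
    rw [Algebra.smul_def, Algebra.smul_def, AlgEquiv.smul_def, map_mul, ← hact]; rfl⟩
  have hGal : IsGaloisGroup (L ≃ₐ[K] L) A B := IsGaloisGroup.of_isFractionRing _ _ _ K L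
  -- the inertia field
  have hGalE : IsGaloisGroup (m.inertia (L ≃ₐ[K] L))
      (IntermediateField.fixedField (m.inertia (L ≃ₐ[K] L))) L :=
    IsGaloisGroup.subgroup (L ≃ₐ[K] L) K L (m.inertia (L ≃ₐ[K] L))
  have hsepKE : Algebra.IsSeparable K (IntermediateField.fixedField (m.inertia (L ≃ₐ[K] L))) :=
    inferInstance
  have htowerAEL : IsScalarTower A (IntermediateField.fixedField (m.inertia (L ≃ₐ[K] L))) L :=
    IsScalarTower.of_algebraMap_eq fun a => rfl
  have htowerAB'E : IsScalarTower A B' (IntermediateField.fixedField (m.inertia (L ≃ₐ[K] L))) := by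
    refine IsScalarTower.of_algebraMap_eq fun a => ?_
    apply (algebraMap (IntermediateField.fixedField (m.inertia (L ≃ₐ[K] L))) L).injective
    rw [← IsScalarTower.algebraMap_apply A _ L, ← IsScalarTower.algebraMap_apply B' _ L,
      IsScalarTower.algebraMap_apply B' B L, ← IsScalarTower.algebraMap_apply A B' B,
      ← IsScalarTower.algebraMap_apply A B L]
  have hinjB'E : Function.Injective (algebraMap B'
      (IntermediateField.fixedField (m.inertia (L ≃ₐ[K] L)))) :=
    IsIntegralClosure.algebraMap_injective B' A _
  have hdomB' : IsDomain B' := hinjB'E.isDomain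
  have hfracB' : IsFractionRing B' (IntermediateField.fixedField (m.inertia (L ≃ₐ[K] L))) :=
    IsIntegralClosure.isFractionRing_of_finite_extension A K _ B'
  have hDedB' : IsDedekindDomain B' := IsIntegralClosure.isDedekindDomain A K
    (IntermediateField.fixedField (m.inertia (L ≃ₐ[K] L))) B'
  have hfinB' : Module.Finite A B' := IsIntegralClosure.finite A K
    (IntermediateField.fixedField (m.inertia (L ≃ₐ[K] L))) B'
  have hintB' : Algebra.IsIntegral A B' := IsIntegralClosure.isIntegral_algebra A
    (IntermediateField.fixedField (m.inertia (L ≃ₐ[K] L)))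
  -- B over B'
  have hintB'B : Algebra.IsIntegral B' B := Algebra.IsIntegral.tower_top (R := A)
  have hfinB'B : Module.Finite B' B := Module.Finite.of_restrictScalars_finite A B' B
  have hinjB'B : Function.Injective (algebraMap B' B) := by
    have h1 : Function.Injective (algebraMap B' L) := by
      rw [IsScalarTower.algebraMap_eq B' (IntermediateField.fixedField (m.inertia (L ≃ₐ[K] L))) L]
      exact (algebraMap _ L).injective.comp hinjB'E
    rw [IsScalarTower.algebraMap_eq B' B L] at h1
    exact Function.Injective.of_comp h1
  have hfaithB'B : FaithfulSMul B' B := (faithfulSMul_iff_algebraMap_injective B' B).mpr hinjB'B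
  have htfB'B : Module.IsTorsionFree B' B := inferInstance
  have hflatB'B : Module.Flat B' B := inferInstance
  have hinjAB : Function.Injective (algebraMap A B) := by
    have h1 : Function.Injective (algebraMap A L) := by
      rw [IsScalarTower.algebraMap_eq A K L]
      exact (algebraMap K L).injective.comp (IsFractionRing.injective A K)
    rw [IsScalarTower.algebraMap_eq A B L] at h1
    exact Function.Injective.of_comp h1
  have hfaithAB : FaithfulSMul A B := (faithfulSMul_iff_algebraMap_injective A B).mpr hinjAB
  have htfAB : Module.IsTorsionFree A B := inferInstance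
  have hflatAB : Module.Flat A B := inferInstance
  have hdistribI : SMulDistribClass (m.inertia (L ≃ₐ[K] L)) B L := ⟨fun σ b l =>
    hdistrib.smul_distrib_smul (σ : L ≃ₐ[K] L) b l⟩
  have hGalI : IsGaloisGroup (m.inertia (L ≃ₐ[K] L)) B' B :=
    IsGaloisGroup.of_isFractionRing _ _ _ (IntermediateField.fixedField (m.inertia (L ≃ₐ[K] L))) L
  -- primes
  have hm'max : (m.under B').IsMaximal := inferInstance
  have hpmax : ((m.under B').under A).IsMaximal := inferInstance
  obtain ⟨he1, hsep⟩ := Groth.Agent.Lib.Tame76.inertia_invariants_unramified (G := L ≃ₐ[K] L)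
    ((m.under B').under A) (m.under B') m
  -- unramified
  have hEss : Algebra.EssFiniteType A B' := inferInstance
  have hunr : Algebra.IsUnramifiedAt A (m.under B') :=
    Groth.Agent.Lib.Tame76.isUnramifiedAt_of_ramificationIdx_eq_one (R := A) (m.under B') he1
  -- finite presentation
  have hft : Algebra.FiniteType A B' := inferInstance
  have hfp : Algebra.FinitePresentation A B' := Algebra.FinitePresentation.of_finiteType.mp hft
  have hfinmax : {Q : Ideal B' | Q.IsMaximal}.Finite := by
    refine (Algebra.QuasiFinite.finite_primesOver (S := B') (IsLocalRing.maximalIdeal A)).subset ?_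
    intro Q hQ
    have hQ' : Q.IsMaximal := hQ
    refine ⟨hQ'.isPrime, ⟨?_⟩⟩
    have : (Q.under A).IsMaximal := inferInstance
    exact (IsLocalRing.eq_maximalIdeal this).symm
  have hfpLoc : Algebra.FinitePresentation A (Localization.AtPrime (m.under B')) :=
    Groth.Agent.Lib.Tame76.finitePresentation_localization_atPrime (R := A) (m.under B') hfinmax
  have hfaithAB' : FaithfulSMul A B' := by
    rw [faithfulSMul_iff_algebraMap_injective]
    have h1 := hinjAB
    rw [IsScalarTower.algebraMap_eq A B' B] at h1
    exact Function.Injective.of_comp h1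
  have htfAB' : Module.IsTorsionFree A B' := inferInstance
  have hflatAB' : Module.Flat A B' := inferInstance
  have hflatLoc : Module.Flat A (Localization.AtPrime (m.under B')) :=
    Module.Flat.trans A B' (Localization.AtPrime (m.under B'))
  have hFU : Algebra.FormallyUnramified A (Localization.AtPrime (m.under B')) := hunr
  refine ⟨?_, Algebra.Etale.of_formallyUnramified_of_flat⟩
  intro b
  constructor
  · intro hb
    have hx : algebraMap B L b ∈ IntermediateField.fixedField (m.inertia (L ≃ₐ[K] L)) := by
      rw [IntermediateField.mem_fixedField_iff]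
      intro σ hσ
      rw [← hact, hb σ hσ]
    have hint : IsIntegral A (algebraMap B L b) :=
      (Algebra.IsIntegral.isIntegral (R := A) b).algebraMap
    have hint' : IsIntegral A
        (⟨algebraMap B L b, hx⟩ : IntermediateField.fixedField (m.inertia (L ≃ₐ[K] L))) := by
      rw [← isIntegral_algebraMap_iff
        (algebraMap (IntermediateField.fixedField (m.inertia (L ≃ₐ[K] L))) L).injective]
      exact hint
    obtain ⟨b', hb'⟩ := (IsIntegralClosure.isIntegral_iff (A := B')).mp hint'
    refine ⟨b', hinjBL ?_⟩
    rw [← IsScalarTower.algebraMap_apply B' B L,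
      IsScalarTower.algebraMap_apply B' (IntermediateField.fixedField (m.inertia (L ≃ₐ[K] L))) L,
      hb']
    rfl
  · rintro ⟨b', rfl⟩ σ hσ
    apply hinjBL
    rw [hact, ← IsScalarTower.algebraMap_apply B' B L,
      IsScalarTower.algebraMap_apply B' (IntermediateField.fixedField (m.inertia (L ≃ₐ[K] L))) L]
    exact (IntermediateField.mem_fixedField_iff _ _).mp
      (algebraMap B' (IntermediateField.fixedField (m.inertia (L ≃ₐ[K] L))) b').2 σ hσ

end Groth.Agent.S7139
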