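import Mathlib
import Groth.Statements.S7140

set_option autoImplicit false
universe u
open EtAlg

namespace Groth.Agent.S7140

section Helpers

open Polynomial

/-- the universal ring `ℤ[ζ_p]`. -/
abbrev U (p : ℕ) : Type := AdjoinRoot (cyclotomic p ℤ)

theorem prime_cyclotomic (p : ℕ) (hp : p.Prime) : Prime (cyclotomic p ℤ) :=
  (cyclotomic.irreducible hp.pos).prime

theorem isDomain_U (p : ℕ) (hp : p.Prime) : IsDomain (U p) :=
  AdjoinRoot.isDomain_of_prime (prime_cyclotomic p hp)

theorem of_injective (p : ℕ) (hp : p.Prime) :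
    Function.Injective (AdjoinRoot.of (cyclotomic p ℤ)) := by
  apply AdjoinRoot.of.injective_of_degree_ne_zero
  rw [degree_cyclotomic]
  have := Nat.totient_pos.2 hp.pos
  exact_mod_cast this.ne'

theorem isPrimitiveRoot_root (p : ℕ) (hp : p.Prime) :
    IsPrimitiveRoot (AdjoinRoot.root (cyclotomic p ℤ)) p := by
  have := isDomain_U p hp
  have : NeZero ((p : ℕ) : U p) := by
    constructor
    intro h
    have h' : AdjoinRoot.of (cyclotomic p ℤ) (p : ℤ) = AdjoinRoot.of (cyclotomic p ℤ) 0 := by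
      rw [map_zero, map_natCast]; exact h
    have := of_injective p hp h'
    exact hp.ne_zero (by exact_mod_cast this)
  rw [← isRoot_cyclotomic_iff]
  have := AdjoinRoot.eval₂_root (cyclotomic p ℤ)
  rw [IsRoot.def, ← map_cyclotomic_int p (U p), eval_map]
  have e : Int.castRingHom (U p) = AdjoinRoot.of (cyclotomic p ℤ) := RingHom.ext_int _ _
  rw [e]
  exact this

theorem wilson_dvd (p : ℕ) (hp : p.Prime) : p ∣ (p - 1).factorial + 1 := by
  have : Fact p.Prime := ⟨hp⟩
  rw [← ZMod.natCast_eq_zero_iff]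
  push_cast
  rw [ZMod.wilsons_lemma]
  ring

/-- In a domain with a primitive `p`-th root of unity `μ`, `p = (1-μ)^(p-1) ε` with `ε ≡ -1`. -/
theorem exists_eps {R : Type} [CommRing R] [IsDomain R] (p : ℕ) (hp : p.Prime) (μ : R)
    (hμ : IsPrimitiveRoot μ p) :
    ∃ ε : R, (p : R) = (1 - μ) ^ (p - 1) * ε ∧ ε + 1 ∈ Ideal.span {1 - μ} := by
  obtain ⟨n, rfl⟩ : ∃ n, p = n + 1 := ⟨p - 1, (Nat.succ_pred_eq_of_pos hp.pos).symm⟩
  have hprod := hμ.prod_one_sub_pow_eq_order
  set G : ℕ → R := fun j => ∑ i ∈ Finset.range j, μ ^ i with hG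
  have hfac : ∀ k, (1 - μ ^ (k + 1)) = (1 - μ) * G (k + 1) := fun k =>
    (mul_neg_geom_sum μ (k + 1)).symm
  refine ⟨∏ k ∈ Finset.range n, G (k + 1), ?_, ?_⟩
  · rw [Nat.add_sub_cancel]
    rw [Finset.prod_congr rfl (fun k _ => hfac k), Finset.prod_mul_distrib, Finset.prod_const,
      Finset.card_range] at hprod
    push_cast
    exact hprod.symm
  · have hpw : ((n + 1 : ℕ) : R) ∈ Ideal.span {1 - μ} := by
      rw [Finset.prod_congr rfl (fun k _ => hfac k), Finset.prod_mul_distrib, Finset.prod_const,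
        Finset.card_range] at hprod
      have hn : 1 ≤ n := by
        have := hp.two_le; omega
      obtain ⟨n', rfl⟩ : ∃ n', n = n' + 1 := ⟨n - 1, by omega⟩
      rw [Ideal.mem_span_singleton]
      have hprod' : ((n' + 1 + 1 : ℕ) : R) = (1 - μ) ^ (n' + 1) * ∏ x ∈ Finset.range (n' + 1), G (x + 1) := by
        rw [hprod]; push_cast; ring
      rw [hprod', pow_succ']
      exact Dvd.intro _ (mul_assoc _ _ _).symm
    rw [← Ideal.Quotient.eq_zero_iff_mem] at hpw ⊢
    have hmk : Ideal.Quotient.mk (Ideal.span {1 - μ}) μ = 1 := by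
      have : Ideal.Quotient.mk (Ideal.span {1 - μ}) (1 - μ) = 0 :=
        Ideal.Quotient.eq_zero_iff_mem.2 (Ideal.subset_span rfl)
      rw [map_sub, map_one, sub_eq_zero] at this
      exact this.symm
    have hGmk : ∀ j, Ideal.Quotient.mk (Ideal.span {1 - μ}) (G j) = (j : R ⧸ Ideal.span {1 - μ}) := by
      intro j
      rw [hG]
      simp only [map_sum, map_pow, hmk, one_pow, Finset.sum_const, Finset.card_range, nsmul_eq_mul,
        mul_one]
    rw [map_add, map_prod, map_one]
    rw [Finset.prod_congr rfl (fun k _ => hGmk (k + 1))]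
    have hfact : ∏ k ∈ Finset.range n, (((k + 1 : ℕ) : R ⧸ Ideal.span {1 - μ})) =
        ((n.factorial : ℕ) : R ⧸ Ideal.span {1 - μ}) := by
      rw [← Nat.cast_prod, Finset.prod_range_add_one_eq_factorial]
    rw [hfact]
    obtain ⟨t, ht⟩ := wilson_dvd (n + 1) hp
    rw [Nat.add_sub_cancel] at ht
    have : ((n.factorial : ℕ) : R ⧸ Ideal.span {1 - μ}) + 1 =
        (((n.factorial + 1 : ℕ)) : R ⧸ Ideal.span {1 - μ}) := by push_cast; ring
    rw [this, ht, Nat.cast_mul]
    have hpw' : (((n + 1 : ℕ)) : R ⧸ Ideal.span {1 - μ}) = 0 := by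
      rw [← hpw, map_natCast]
    rw [hpw', zero_mul]

theorem one_add_pow_eq_comp {R : Type*} [CommRing R] (w : R) (p : ℕ) :
    (1 + C w * X : R[X]) ^ p = ((1 + X : R[X]) ^ p).comp (C w * X) := by
  simp

theorem coeff_rhs {R : Type*} [CommRing R] (w : R) (p n : ℕ) :
    ((1 + C w * X : R[X]) ^ p - 1).coeff n =
      (p.choose n : R) * w ^ n - if n = 0 then 1 else 0 := by
  rw [coeff_sub, one_add_pow_eq_comp, comp_C_mul_X_coeff, coeff_one_add_X_pow, coeff_one]

theorem coeff_Q {R : Type*} [CommRing R] (a : ℕ → R) (p n : ℕ) :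
    (X ^ p - X + (Finset.Ioo 0 p).sum (fun i => C (a i) * X ^ i) : R[X]).coeff n =
      (if n = p then 1 else 0) - (if n = 1 then 1 else 0) +
        (if n ∈ Finset.Ioo 0 p then a n else 0) := by
  rw [coeff_add, coeff_sub, coeff_X_pow, coeff_X, finsetSum_coeff]
  congr 1
  · congr 1
    by_cases h : n = 1
    · rw [if_pos h, if_pos h.symm]
    · rw [if_neg h, if_neg (Ne.symm h)]
  · simp only [coeff_C_mul_X_pow]
    rw [Finset.sum_ite_eq (Finset.Ioo 0 p) n a]

/-- construction of the Kummer–Artin–Schreier polynomial from `p = w^(p-1) ε`, `ε ≡ -1`. -/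
theorem exists_poly {R : Type*} [CommRing R] (p : ℕ) (hp : p.Prime) (w ε : R)
    (hpw : (p : R) = w ^ (p - 1) * ε) (hε : ε + 1 ∈ Ideal.span {w}) :
    ∃ a : ℕ → R, (∀ i, a i ∈ Ideal.span {w}) ∧
      C (w ^ p) * (X ^ p - X + (Finset.Ioo 0 p).sum (fun i => C (a i) * X ^ i) : R[X]) =
        (1 + C w * X) ^ p - 1 := by
  have hp2 := hp.two_le
  refine ⟨fun i => if i = 1 then ε + 1 else w ^ (i - 1) * ε * ((p.choose i / p : ℕ) : R), ?_, ?_⟩
  · intro i
    by_cases h1 : i = 1
    · simp only [h1, if_true]; exact hε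
    · simp only [h1, if_false]
      rcases Nat.lt_or_ge i 2 with h | h
      · have : i = 0 := by omega
        subst this
        have : p.choose 0 / p = 0 := by
          rw [Nat.choose_zero_right]; exact Nat.div_eq_of_lt (by omega)
        rw [this]; simp
      · obtain ⟨j, rfl⟩ : ∃ j, i = j + 2 := ⟨i - 2, by omega⟩
        rw [Ideal.mem_span_singleton]
        have : j + 2 - 1 = j + 1 := by omega
        rw [this, pow_succ', mul_assoc, mul_assoc]
        exact Dvd.intro _ rfl
  · ext n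
    rw [coeff_C_mul, coeff_Q, coeff_rhs]
    have hwp : w ^ p = w ^ (p - 1) * w := by
      rw [← pow_succ]; congr 1; omega
    rcases Nat.lt_trichotomy n p with hlt | heq | hgt
    · rcases Nat.eq_zero_or_pos n with h0 | hpos
      · subst h0
        have hnp : (0 : ℕ) ≠ p := by omega
        simp [hnp]
      · have hnp : n ≠ p := by omega
        have hmem : n ∈ Finset.Ioo 0 p := Finset.mem_Ioo.2 ⟨hpos, hlt⟩
        have hn0 : n ≠ 0 := by omega
        rw [if_neg hnp, if_pos hmem, if_neg hn0, sub_zero, zero_sub]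
        have hdvd : p ∣ p.choose n := hp.dvd_choose_self hn0 hlt
        have hc : (p.choose n : R) = (p : R) * ((p.choose n / p : ℕ) : R) := by
          rw [← Nat.cast_mul, Nat.mul_div_cancel' hdvd]
        by_cases h1 : n = 1
        · subst h1
          simp only [if_true]
          rw [Nat.choose_one_right, hpw, hwp]
          ring
        · simp only [h1, if_false]
          rw [hc, hpw]
          have e1 : w ^ p * (-0 + w ^ (n - 1) * ε * ((p.choose n / p : ℕ) : R)) =
              w ^ (p + (n - 1)) * ε * ((p.choose n / p : ℕ) : R) := by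
            rw [pow_add]; ring
          have e2 : w ^ (p - 1) * ε * ((p.choose n / p : ℕ) : R) * w ^ n =
              w ^ ((p - 1) + n) * ε * ((p.choose n / p : ℕ) : R) := by
            rw [pow_add]; ring
          rw [e1, e2]
          congr 3
          omega
    · subst heq
      have h1 : n ≠ 1 := by omega
      have h0 : n ≠ 0 := by omega
      have hmem : n ∉ Finset.Ioo 0 n := by simp
      rw [if_pos rfl, if_neg h1, if_neg hmem, if_neg h0, Nat.choose_self]
      simp
    · have hnp : n ≠ p := by omega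
      have h1 : n ≠ 1 := by omega
      have h0 : n ≠ 0 := by omega
      have hmem : n ∉ Finset.Ioo 0 p := by
        rw [Finset.mem_Ioo]; omega
      rw [if_neg hnp, if_neg h1, if_neg hmem, if_neg h0, Nat.choose_eq_zero_of_lt hgt]
      simp

/-- the functional equation, over a domain where `w ≠ 0`, evaluated in any ring. -/
theorem functional_eq {R : Type} [CommRing R] [IsDomain R] (p : ℕ) (w : R) (hw : w ≠ 0)
    (P : R[X]) (hP : C (w ^ p) * P = (1 + C w * X) ^ p - 1)
    (S : Type u) [CommRing S] (g : R →+* S) (z₁ z₂ : S) :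
    P.eval₂ g (z₁ + z₂ + g w * z₁ * z₂) =
      P.eval₂ g z₁ + P.eval₂ g z₂ + g (w ^ p) * P.eval₂ g z₁ * P.eval₂ g z₂ := by
  set c : R →+* MvPolynomial (Fin 2) R := MvPolynomial.C with hc
  have hZ : ∀ Z : MvPolynomial (Fin 2) R, c (w ^ p) * P.eval₂ c Z = (1 + c w * Z) ^ p - 1 := by
    intro Z
    have := congrArg (Polynomial.eval₂ c Z) hP
    rw [eval₂_mul, eval₂_C] at this
    rw [this]
    simp [eval₂_sub, eval₂_pow, eval₂_add, eval₂_mul, eval₂_C, eval₂_X, eval₂_one]
  have hW : c (w ^ p) ≠ 0 := by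
    intro h
    have : c (w ^ p) = c 0 := by rw [h, map_zero]
    exact pow_ne_zero p hw (MvPolynomial.C_injective (Fin 2) R this)
  have key : P.eval₂ c (MvPolynomial.X 0 + MvPolynomial.X 1 + c w * MvPolynomial.X 0 * MvPolynomial.X 1) =
      P.eval₂ c (MvPolynomial.X 0) + P.eval₂ c (MvPolynomial.X 1) +
        c (w ^ p) * P.eval₂ c (MvPolynomial.X 0) * P.eval₂ c (MvPolynomial.X 1) := by
    apply mul_left_cancel₀ hW
    have h1 := hZ (MvPolynomial.X 0)
    have h2 := hZ (MvPolynomial.X 1)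
    have h3 := hZ (MvPolynomial.X 0 + MvPolynomial.X 1 + c w * MvPolynomial.X 0 * MvPolynomial.X 1)
    have e : (1 + c w * (MvPolynomial.X 0 + MvPolynomial.X 1 + c w * MvPolynomial.X 0 * MvPolynomial.X 1)) =
        (1 + c w * MvPolynomial.X 0) * (1 + c w * MvPolynomial.X 1) := by ring
    rw [e, mul_pow] at h3
    have h1' : (1 + c w * MvPolynomial.X 0) ^ p = c (w ^ p) * P.eval₂ c (MvPolynomial.X 0) + 1 := by
      rw [h1]; ring
    have h2' : (1 + c w * MvPolynomial.X 1) ^ p = c (w ^ p) * P.eval₂ c (MvPolynomial.X 1) + 1 := by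
      rw [h2]; ring
    rw [h3, h1', h2']
    ring
  set ψ : MvPolynomial (Fin 2) R →+* S := MvPolynomial.eval₂Hom g ![z₁, z₂] with hψ
  have hψc : ψ.comp c = g := by
    ext r
    simp [hψ, hc]
  have hψe : ∀ Z, ψ (P.eval₂ c Z) = P.eval₂ g (ψ Z) := by
    intro Z
    rw [Polynomial.hom_eval₂, hψc]
  have hψ0 : ψ (MvPolynomial.X 0) = z₁ := by simp [hψ]
  have hψ1 : ψ (MvPolynomial.X 1) = z₂ := by simp [hψ]
  have hψr : ∀ r, ψ (c r) = g r := fun r => by simp [hψ, hc]
  have := congrArg ψ key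
  simp only [map_add, map_mul, hψe, hψ0, hψ1, hψr] at this
  exact this

end Helpers

open Polynomial in
/-- Let p be a prime and A a ring with an element ζ satisfying 1 + ζ + ... + ζ^(p-1) = 0 (so that A is
an algebra over the ring of integers of the p-th cyclotomic field); set w = 1 - ζ. Then the
polynomial ((1 + wz)^p - 1)/w^p makes sense in A[z]: there is P in A[z] with w^p·P = (1 + wz)^p - 1,
of the form z^p - z + Σ_{0<i<p} a_i z^i with all a_i in the ideal (w), and P(z₁ + z₂ + w z₁ z₂) =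
P(z₁) + P(z₂) + w^p P(z₁)P(z₂) for all z₁, z₂ in any A-algebra. (The published statement asks only
for a primitive p-th root of unity; this row asks that ζ be a root of the p-th cyclotomic
polynomial, the case its proof treats. With ζ only of multiplicative order p the published statement
fails, for example for ζ = (1, e^{2πi/p}) in ℂ × ℂ.) -/
theorem result (p : ℕ) (hp : p.Prime) (A : Type u) [CommRing A] (ζ : A)
    (hζ : aeval ζ (cyclotomic p ℤ) = 0) :
    ∃ P : A[X], C ((1 - ζ) ^ p) * P = (1 + C (1 - ζ) * X) ^ p - 1 ∧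
      (∃ a : ℕ → A, (∀ i, a i ∈ Ideal.span {1 - ζ}) ∧
        P = X ^ p - X + (Finset.Ioo 0 p).sum (fun i => C (a i) * X ^ i)) ∧
      ∀ (S : Type u) [CommRing S] [Algebra A S] (z₁ z₂ : S),
        aeval (z₁ + z₂ + algebraMap A S (1 - ζ) * z₁ * z₂) P =
          aeval z₁ P + aeval z₂ P + algebraMap A S ((1 - ζ) ^ p) * aeval z₁ P * aeval z₂ P := by
  have := isDomain_U p hp
  have hprim := isPrimitiveRoot_root p hp
  set μ : U p := AdjoinRoot.root (cyclotomic p ℤ) with hμ
  have hw : (1 - μ) ≠ 0 := by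
    intro h
    exact hprim.ne_one hp.one_lt (sub_eq_zero.1 h).symm
  obtain ⟨ε, hpw, hε⟩ := exists_eps p hp μ hprim
  obtain ⟨aU, haU, hPU⟩ := exists_poly p hp (1 - μ) ε hpw hε
  have hζ' : (cyclotomic p ℤ).eval₂ (Int.castRingHom A) ζ = 0 := by
    rw [aeval_def, algebraMap_int_eq] at hζ
    exact hζ
  set φ : U p →+* A := AdjoinRoot.lift (Int.castRingHom A) ζ hζ' with hφ
  have hφμ : φ μ = ζ := AdjoinRoot.lift_root hζ'
  have hφw : φ (1 - μ) = 1 - ζ := by rw [map_sub, map_one, hφμ]
  set PU : (U p)[X] := X ^ p - X + (Finset.Ioo 0 p).sum (fun i => C (aU i) * X ^ i) with hPUdef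
  refine ⟨PU.map φ, ?_, ⟨fun i => φ (aU i), ?_, ?_⟩, ?_⟩
  · have := congrArg (Polynomial.map φ) hPU
    rw [Polynomial.map_mul, Polynomial.map_C, map_pow, hφw] at this
    rw [this]
    simp [Polynomial.map_sub, Polynomial.map_pow, Polynomial.map_add, Polynomial.map_mul, hφμ]
  · intro i
    have := haU i
    rw [Ideal.mem_span_singleton'] at this ⊢
    obtain ⟨t, ht⟩ := this
    exact ⟨φ t, by rw [← hφw, ← map_mul, ht]⟩
  · rw [hPUdef]
    simp [Polynomial.map_sub, Polynomial.map_pow, Polynomial.map_add, Polynomial.map_mul,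
      Polynomial.map_sum]
  · intro S _ _ z₁ z₂
    have h := functional_eq p (1 - μ) hw PU hPU S ((algebraMap A S).comp φ) z₁ z₂
    simp only [aeval_def, eval₂_map]
    simp only [RingHom.comp_apply, hφw, map_pow] at h
    rw [map_pow]
    exact h

end Groth.Agent.S7140
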