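import Groth.Statements.S7146
import Mathlib.RingTheory.Length
import Mathlib.Data.Sym.Card
import Mathlib.Data.Nat.Factorial.BigOperators
import Mathlib.Analysis.SpecificLimits.Basic
import Mathlib.Tactic

set_option autoImplicit false
universe u
open Filter

namespace Groth.Agent.S7146

section alg

variable {R : Type u} [CommRing R]

/-- A submodule contained in the span of `card ι` elements killed by `I` has length at most
`card ι * length (R ⧸ I)`. -/
lemma length_le_of_le_span {M : Type*} [AddCommGroup M] [Module R M] {ι : Type*} [Fintype ι]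
    (I : Ideal R) (K : Submodule R M) (x : ι → M) (hK : K ≤ Submodule.span R (Set.range x))
    (hI : ∀ a ∈ I, ∀ i, a • x i = 0) :
    Module.length R K ≤ (Fintype.card ι : ℕ∞) * Module.length R (R ⧸ I) := by
  classical
  let ψ : ι → (R ⧸ I) →ₗ[R] M := fun i =>
    Submodule.liftQ I (LinearMap.toSpanSingleton R M (x i)) (by
      intro a ha
      rw [LinearMap.mem_ker, LinearMap.toSpanSingleton_apply]
      exact hI a ha i)
  let φ : (ι → R ⧸ I) →ₗ[R] M := LinearMap.lsum R (fun _ => R ⧸ I) R ψ
  have hφ : K ≤ LinearMap.range φ := by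
    refine hK.trans ?_
    rw [Submodule.span_le]
    rintro _ ⟨i, rfl⟩
    refine ⟨Pi.single i 1, ?_⟩
    have : φ (Pi.single i 1) = ψ i 1 := by
      simp only [φ, LinearMap.lsum_apply, LinearMap.coe_sum, Finset.sum_apply, LinearMap.comp_apply,
        LinearMap.proj_apply]
      rw [Finset.sum_eq_single i]
      · simp
      · intro j _ hj
        simp [Pi.single_eq_of_ne hj]
      · simp
    rw [this]
    change ψ i (Submodule.Quotient.mk 1) = x i
    simp only [ψ, Submodule.liftQ_apply, LinearMap.toSpanSingleton_apply, one_smul]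
  calc Module.length R K ≤ Module.length R (LinearMap.range φ) :=
        Module.length_le_of_injective (Submodule.inclusion hφ) (Submodule.inclusion_injective hφ)
    _ ≤ Module.length R (ι → R ⧸ I) :=
        Module.length_le_of_surjective φ.rangeRestrict φ.surjective_rangeRestrict
    _ = (Fintype.card ι : ℕ∞) * Module.length R (R ⧸ I) := by
        rw [Module.length_pi, ENat.card_eq_coe_fintype_card]

variable {d : ℕ} (g : Fin d → R)

/-- monomial of degree `n` in the `g i`. -/
def mon (n : ℕ) (s : Sym (Fin d) n) : R := ((s : Multiset (Fin d)).map g).prod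

lemma multiset_prod_mem_pow (t : Multiset (Fin d)) :
    (t.map g).prod ∈ Ideal.span (Set.range g) ^ (Multiset.card t) := by
  induction t using Multiset.induction_on with
  | empty => simp
  | cons a t ih =>
    rw [Multiset.map_cons, Multiset.prod_cons, Multiset.card_cons, pow_succ']
    exact Ideal.mul_mem_mul (Ideal.subset_span ⟨a, rfl⟩) ih

lemma mon_mem (n : ℕ) (s : Sym (Fin d) n) : mon g n s ∈ Ideal.span (Set.range g) ^ n := by
  have := multiset_prod_mem_pow g (s : Multiset (Fin d))
  rwa [Sym.card_coe] at this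

lemma pow_le_span_mon (n : ℕ) :
    Ideal.span (Set.range g) ^ n ≤ Ideal.span (Set.range (mon g n)) := by
  induction n with
  | zero =>
    rw [pow_zero, Ideal.one_eq_top, top_le_iff, Ideal.eq_top_iff_one]
    refine Ideal.subset_span ⟨Sym.nil, ?_⟩
    simp [mon]
  | succ n ih =>
    rw [pow_succ]
    refine (Ideal.mul_mono_left ih).trans ?_
    rw [Ideal.span_mul_span', Ideal.span_le]
    rintro _ ⟨_, ⟨s, rfl⟩, _, ⟨i, rfl⟩, rfl⟩
    refine Ideal.subset_span ⟨i ::ₛ s, ?_⟩
    simp only [mon]
    rw [Sym.coe_cons, Multiset.map_cons, Multiset.prod_cons, mul_comm]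

lemma length_quot_pow_succ_le (n : ℕ) :
    Module.length R (R ⧸ Ideal.span (Set.range g) ^ (n + 1)) ≤
      (Nat.multichoose (d + 1) n : ℕ∞) * Module.length R (R ⧸ Ideal.span (Set.range g)) := by
  induction n with
  | zero =>
    rw [Nat.multichoose_zero_right, Nat.cast_one, one_mul]
    exact le_of_eq (Submodule.quotEquivOfEq _ _ (by simp)).length_eq
  | succ n ih =>
    have hle : Ideal.span (Set.range g) ^ (n + 1 + 1) ≤ Ideal.span (Set.range g) ^ (n + 1) :=
      Ideal.pow_le_pow_right (Nat.le_succ _)
    let gq : (R ⧸ Ideal.span (Set.range g) ^ (n + 1 + 1)) →ₗ[R]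
        (R ⧸ Ideal.span (Set.range g) ^ (n + 1)) := Submodule.factor hle
    have hadd := Module.length_eq_add_of_exact (LinearMap.ker gq).subtype gq
      (Submodule.subtype_injective _) (Submodule.factor_surjective hle)
      (LinearMap.exact_subtype_ker_map gq)
    rw [hadd]
    have hK : Module.length R (LinearMap.ker gq) ≤
        (Nat.multichoose d (n + 1) : ℕ∞) * Module.length R (R ⧸ Ideal.span (Set.range g)) := by
      have := length_le_of_le_span (Ideal.span (Set.range g)) (LinearMap.ker gq)
        (fun s : Sym (Fin d) (n + 1) =>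
          Submodule.mkQ (Ideal.span (Set.range g) ^ (n + 1 + 1)) (mon g (n + 1) s)) ?_ ?_
      · rwa [Sym.card_sym_eq_multichoose, Fintype.card_fin] at this
      · intro y hy
        obtain ⟨r, rfl⟩ := Submodule.mkQ_surjective _ y
        rw [LinearMap.mem_ker, Submodule.factor_mk, Submodule.mkQ_apply,
          Submodule.Quotient.mk_eq_zero] at hy
        have h1 := pow_le_span_mon g (n + 1) hy
        have h2 := Submodule.apply_mem_span_image_of_mem_span
          (Submodule.mkQ (Ideal.span (Set.range g) ^ (n + 1 + 1))) h1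
        rw [← Set.range_comp] at h2
        exact h2
      · intro a ha s
        rw [← map_smul, smul_eq_mul, Submodule.mkQ_apply, Submodule.Quotient.mk_eq_zero,
          pow_succ' _ (n + 1)]
        exact Ideal.mul_mem_mul ha (mon_mem g _ s)
    rw [Nat.multichoose_succ_succ, Nat.cast_add, add_mul]
    exact add_le_add hK ih

end alg

section analysis

lemma tendsto_ascFactorial_div (d : ℕ) :
    Tendsto (fun n : ℕ => ((n.ascFactorial d : ℕ) : ℝ) / (n : ℝ) ^ d) atTop (nhds 1) := by
  have h1 : ∀ i : ℕ, Tendsto (fun n : ℕ => ((n : ℝ) + i) / n) atTop (nhds 1) := by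
    intro i
    have : Tendsto (fun n : ℕ => 1 + (i : ℝ) / n) atTop (nhds (1 + 0)) :=
      tendsto_const_nhds.add (tendsto_const_div_atTop_nhds_zero_nat _)
    rw [add_zero] at this
    refine this.congr' ?_
    filter_upwards [eventually_ne_atTop 0] with n hn
    have : (n : ℝ) ≠ 0 := Nat.cast_ne_zero.2 hn
    field_simp
  have h2 : Tendsto (fun n : ℕ => ∏ i ∈ Finset.range d, ((n : ℝ) + i) / n) atTop
      (nhds (∏ i ∈ Finset.range d, (1 : ℝ))) :=
    tendsto_finsetProd _ (fun i _ => h1 i)
  rw [Finset.prod_const_one] at h2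
  refine h2.congr ?_
  intro n
  rw [Nat.ascFactorial_eq_prod_range, Finset.prod_div_distrib, Finset.prod_const, Finset.card_range]
  push_cast
  rfl

end analysis

/-- Let R be a Noetherian local ring of Krull dimension d and I the ideal generated by a system of
parameters g_1, ..., g_d (d elements of the maximal ideal generating an ideal with radical the
maximal ideal); let e_I be the multiplicity of I, i.e. d! times the top coefficient of the numerical
polynomial n ↦ length(R/I^(n+1)), equivalently the limit of d!·length(R/Iⁿ)/n^d. Then e_I ≤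
length(R/I). (Stated for a natural number e equal to that limit.) -/
theorem result (R : Type u) [CommRing R] [IsNoetherianRing R] [IsLocalRing R]
    (d : ℕ) (hd : ringKrullDim R = d) (g : Fin d → R) (hg : ∀ i, g i ∈ IsLocalRing.maximalIdeal R)
    (hsop : IsLocalRing.maximalIdeal R ≤ (Ideal.span (Set.range g)).radical) (e : ℕ)
    (he : Tendsto (fun n : ℕ => (d.factorial : ℝ) * ((Module.length R (R ⧸ Ideal.span (Set.range g) ^ n)).toNat : ℝ) / (n : ℝ) ^ d)
      atTop (nhds (e : ℝ))) :
    (e : ℕ∞) ≤ Module.length R (R ⧸ Ideal.span (Set.range g)) := by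
  rcases eq_or_ne (Module.length R (R ⧸ Ideal.span (Set.range g))) ⊤ with htop | hfin
  · rw [htop]; exact le_top
  obtain ⟨ℓ, hℓ⟩ := ENat.ne_top_iff_exists.1 hfin
  rw [← hℓ, Nat.cast_le]
  have hbound : ∀ n : ℕ, 1 ≤ n →
      (d.factorial : ℝ) * ((Module.length R (R ⧸ Ideal.span (Set.range g) ^ n)).toNat : ℝ) / (n : ℝ) ^ d ≤
        (ℓ : ℝ) * ((n.ascFactorial d : ℕ) : ℝ) / (n : ℝ) ^ d := by
    intro n hn
    obtain ⟨m, rfl⟩ : ∃ m, n = m + 1 := ⟨n - 1, by omega⟩
    have h1 := length_quot_pow_succ_le g m
    rw [← hℓ] at h1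
    have h2 : (Module.length R (R ⧸ Ideal.span (Set.range g) ^ (m + 1))).toNat ≤
        Nat.multichoose (d + 1) m * ℓ := by
      apply ENat.toNat_le_of_le_natCast
      exact_mod_cast h1
    have h3 : d.factorial * Nat.multichoose (d + 1) m = (m + 1).ascFactorial d := by
      rw [Nat.ascFactorial_eq_factorial_mul_choose, Nat.multichoose_eq]
      congr 1
      rw [show d + 1 + m - 1 = m + d by omega, Nat.choose_symm_add]
    have h4 : (d.factorial : ℝ) *
        ((Module.length R (R ⧸ Ideal.span (Set.range g) ^ (m + 1))).toNat : ℝ) ≤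
        (ℓ : ℝ) * (((m + 1).ascFactorial d : ℕ) : ℝ) := by
      have : (d.factorial : ℝ) *
          ((Module.length R (R ⧸ Ideal.span (Set.range g) ^ (m + 1))).toNat : ℝ) ≤
          (d.factorial : ℝ) * ((Nat.multichoose (d + 1) m * ℓ : ℕ) : ℝ) := by
        gcongr
      refine this.trans (le_of_eq ?_)
      rw [← h3]
      push_cast
      ring
    gcongr
  have hlim : Tendsto (fun n : ℕ => (ℓ : ℝ) * ((n.ascFactorial d : ℕ) : ℝ) / (n : ℝ) ^ d) atTop
      (nhds ((ℓ : ℝ) * 1)) := by
    have := (tendsto_ascFactorial_div d).const_mul (ℓ : ℝ)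
    refine this.congr (fun n => by ring)
  rw [mul_one] at hlim
  have := le_of_tendsto_of_tendsto he hlim (by
    filter_upwards [eventually_ge_atTop 1] with n hn using hbound n hn)
  exact_mod_cast this

end Groth.Agent.S7146
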