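import Groth.Statements.S7147
import Mathlib.LinearAlgebra.Dual.Lemmas
import Mathlib.Algebra.Module.FinitePresentation
import Mathlib.RingTheory.Localization.Module
import Mathlib.LinearAlgebra.Matrix.NonsingularInverse
import Mathlib.LinearAlgebra.Matrix.ToLin
-- import your own Groth.Agent.* helpers here

set_option autoImplicit false
universe u
open CAlg

namespace Groth.Agent.S7147

section aux
variable {R : Type u} [CommRing R] {M : Type u} [AddCommGroup M] [Module R M] (x : Ideal R)

theorem smul_top_le_comap (φ : M →ₗ[R] R) : (x • ⊤ : Submodule R M) ≤ Submodule.comap φ x := by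
  rw [Submodule.smul_le]
  intro a ha m _
  rw [Submodule.mem_comap, map_smul, smul_eq_mul]
  exact Ideal.mul_mem_right _ _ ha

/-- the reduction of a linear form modulo x -/
noncomputable def redForm (φ : M →ₗ[R] R) :
    (M ⧸ (x • ⊤ : Submodule R M)) →ₗ[R ⧸ x] (R ⧸ x) :=
  LinearMap.extendScalarsOfSurjective (Ideal.Quotient.mk_surjective (I := x))
    (Submodule.mapQ (x • ⊤ : Submodule R M) x φ (smul_top_le_comap x φ))

theorem redForm_mk (φ : M →ₗ[R] R) (m : M) :
    redForm x φ (Submodule.Quotient.mk m) = Ideal.Quotient.mk x (φ m) := rfl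

theorem redForm_add (φ₁ φ₂ : M →ₗ[R] R) : redForm x (φ₁ + φ₂) = redForm x φ₁ + redForm x φ₂ := by
  apply LinearMap.ext
  intro v
  obtain ⟨m, rfl⟩ := Submodule.Quotient.mk_surjective _ v
  simp [redForm_mk]

theorem redForm_smul (a : R) (φ : M →ₗ[R] R) :
    redForm x (a • φ) = Ideal.Quotient.mk x a • redForm x φ := by
  apply LinearMap.ext
  intro v
  obtain ⟨m, rfl⟩ := Submodule.Quotient.mk_surjective _ v
  simp [redForm_mk]

theorem redForm_zero : redForm x (0 : M →ₗ[R] R) = 0 := by
  apply LinearMap.ext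
  intro v
  obtain ⟨m, rfl⟩ := Submodule.Quotient.mk_surjective _ v
  simp [redForm_mk]

/-- The subspace `B(x)` of the statement. -/
def Bx : Submodule (R ⧸ x) (M ⧸ (x • ⊤ : Submodule R M)) :=
  Submodule.span (R ⧸ x) ((x • ⊤ : Submodule R M).mkQ '' {m : M | ∀ φ : M →ₗ[R] R, φ m ∈ x})

theorem redForm_eq_zero_of_mem_Bx (φ : M →ₗ[R] R) {v : M ⧸ (x • ⊤ : Submodule R M)}
    (hv : v ∈ Bx x) : redForm x φ v = 0 := by
  have : Bx x ≤ LinearMap.ker (redForm x φ) := by
    rw [Bx, Submodule.span_le]
    rintro _ ⟨m, hm, rfl⟩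
    rw [SetLike.mem_coe, LinearMap.mem_ker]
    change Ideal.Quotient.mk x (φ m) = 0
    exact Ideal.Quotient.eq_zero_iff_mem.mpr (hm φ)
  exact this hv

theorem mk_mem_Bx_iff (m : M) :
    (Submodule.Quotient.mk m : M ⧸ (x • ⊤ : Submodule R M)) ∈ Bx x ↔
      ∀ φ : M →ₗ[R] R, φ m ∈ x := by
  constructor
  · intro h φ
    have := redForm_eq_zero_of_mem_Bx x φ h
    rw [redForm_mk] at this
    exact Ideal.Quotient.eq_zero_iff_mem.mp this
  · intro h
    exact Submodule.subset_span ⟨m, h, rfl⟩

theorem mk_smul_eq (a : R) (v : M ⧸ (x • ⊤ : Submodule R M)) :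
    Ideal.Quotient.mk x a • v = a • v := by
  rw [← Ideal.Quotient.algebraMap_eq, algebraMap_smul]

theorem dir1 [Module.FinitePresentation R M] [x.IsMaximal] (r : ℕ) (s : Fin r → M) (f : R)
    (hf : f ∉ x)
    (g : LocalizedModule (Submonoid.powers f) M →ₗ[Localization.Away f]
      (Fin r → Localization.Away f))
    (hg : g ∘ₗ Fintype.linearCombination (Localization.Away f)
            (fun i => LocalizedModule.mkLinearMap (Submonoid.powers f) M (s i)) = LinearMap.id) :
    LinearIndependent (R ⧸ x) (fun i => (Bx x).mkQ ((x • ⊤ : Submodule R M).mkQ (s i))) := by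
  rw [Fintype.linearIndependent_iff]
  intro c hc j
  choose a ha using fun i => Ideal.Quotient.mk_surjective (c i)
  have h1 : ∑ i, c i • (Bx x).mkQ ((x • ⊤ : Submodule R M).mkQ (s i)) =
      (Bx x).mkQ ((x • ⊤ : Submodule R M).mkQ (∑ i, a i • s i)) := by
    rw [map_sum, map_sum]
    refine Finset.sum_congr rfl fun i _ => ?_
    rw [map_smul, ← mk_smul_eq, map_smul, ha]
  have hm : ∀ φ : M →ₗ[R] R, φ (∑ i, a i • s i) ∈ x := by
    apply (mk_mem_Bx_iff x _).mp
    rw [h1] at hc
    exact (Submodule.Quotient.mk_eq_zero _).mp hc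
  let Rf := Localization.Away f
  let γ : M →ₗ[R] Rf :=
    (((LinearMap.proj j : (Fin r → Rf) →ₗ[Rf] Rf).comp g).restrictScalars R).comp
      (LocalizedModule.mkLinearMap (Submonoid.powers f) M)
  obtain ⟨φ, t, hφ⟩ := Module.FinitePresentation.exists_lift_of_isLocalizedModule
    (Submonoid.powers f) (Algebra.linearMap R Rf) γ
  have hγ : ∀ i, γ (s i) = if i = j then 1 else 0 := by
    intro i
    have h2 := LinearMap.congr_fun hg (Pi.single i 1)
    have h3 : Fintype.linearCombination (Localization.Away f)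
        (fun i => LocalizedModule.mkLinearMap (Submonoid.powers f) M (s i)) (Pi.single i 1) =
        LocalizedModule.mkLinearMap (Submonoid.powers f) M (s i) := by
      rw [Fintype.linearCombination_apply_single, one_smul]
    rw [LinearMap.comp_apply, h3] at h2
    change g (LocalizedModule.mkLinearMap (Submonoid.powers f) M (s i)) j = _
    rw [h2]
    simp [Pi.single_apply, eq_comm]
  have h2 : algebraMap R Rf (φ (∑ i, a i • s i)) = algebraMap R Rf ((t : R) * a j) := by
    have h3 := LinearMap.congr_fun hφ (∑ i, a i • s i)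
    rw [LinearMap.comp_apply, Algebra.linearMap_apply, LinearMap.smul_apply] at h3
    rw [h3, map_sum]
    simp only [map_smul, hγ]
    rw [Finset.sum_eq_single j]
    · simp [Algebra.smul_def, Submonoid.smul_def]
    · intro i _ hij
      simp [hij]
    · intro h; exact absurd (Finset.mem_univ j) h
  obtain ⟨u, hu⟩ := (IsLocalization.eq_iff_exists (Submonoid.powers f) Rf).mp h2
  have h3 : (u : R) * ((t : R) * a j) ∈ x := by
    rw [← hu]
    exact Ideal.mul_mem_left _ _ (hm φ)
  have hpow : ∀ w : Submonoid.powers f, (w : R) ∉ x := by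
    rintro ⟨_, n, rfl⟩ h
    exact hf (Ideal.IsPrime.mem_of_pow_mem inferInstance n h)
  have hprime : x.IsPrime := inferInstance
  have h4 : a j ∈ x := by
    rcases hprime.mem_or_mem h3 with h5 | h5
    · exact absurd h5 (hpow u)
    · rcases hprime.mem_or_mem h5 with h6 | h6
      · exact absurd h6 (hpow t)
      · exact h6
  rw [← ha j]
  exact Ideal.Quotient.eq_zero_iff_mem.mpr h4

/-- Every functional on `M(x)` vanishing on `B(x)` is the reduction of a linear form on `M`. -/
theorem exists_redForm_eq [Module.Finite R M] [x.IsMaximal]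
    (ψ : (M ⧸ (x • ⊤ : Submodule R M)) →ₗ[R ⧸ x] (R ⧸ x)) (hψ : ∀ v ∈ Bx x, ψ v = 0) :
    ∃ φ : M →ₗ[R] R, redForm x φ = ψ := by
  let _ : Field (R ⧸ x) := Ideal.Quotient.field x
  let W : Subspace (R ⧸ x) (Module.Dual (R ⧸ x) (M ⧸ (x • ⊤ : Submodule R M))) :=
    Submodule.span (R ⧸ x) (Set.range (redForm x))
  have hW : W.dualCoannihilator ≤ Bx x := by
    intro v hv
    rw [Submodule.mem_dualCoannihilator] at hv
    obtain ⟨m, rfl⟩ := Submodule.Quotient.mk_surjective _ v
    rw [mk_mem_Bx_iff]
    intro φ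
    have := hv (redForm x φ) (Submodule.subset_span ⟨φ, rfl⟩)
    rw [redForm_mk] at this
    exact Ideal.Quotient.eq_zero_iff_mem.mp this
  have hmem : ψ ∈ W.dualCoannihilator.dualAnnihilator := by
    rw [Submodule.mem_dualAnnihilator]
    intro v hv
    exact hψ v (hW hv)
  rw [Subspace.dualCoannihilator_dualAnnihilator_eq] at hmem
  have key : ∀ ψ' ∈ W, ∃ φ : M →ₗ[R] R, redForm x φ = ψ' := by
    intro ψ' hψ'
    induction hψ' using Submodule.span_induction with
    | mem ψ h => exact h
    | zero => exact ⟨0, redForm_zero x⟩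
    | add ψ₁ ψ₂ _ _ h₁ h₂ =>
      obtain ⟨φ₁, rfl⟩ := h₁
      obtain ⟨φ₂, rfl⟩ := h₂
      exact ⟨φ₁ + φ₂, redForm_add x φ₁ φ₂⟩
    | smul c ψ _ h =>
      obtain ⟨φ, rfl⟩ := h
      obtain ⟨a, rfl⟩ := Ideal.Quotient.mk_surjective c
      exact ⟨a • φ, redForm_smul x a φ⟩
  exact key ψ hmem

theorem dir2 [Module.FinitePresentation R M] [x.IsMaximal] (r : ℕ) (s : Fin r → M)
    (h : LinearIndependent (R ⧸ x) (fun i => (Bx x).mkQ ((x • ⊤ : Submodule R M).mkQ (s i)))) :
    ∃ f : R, f ∉ x ∧
      ∃ g : LocalizedModule (Submonoid.powers f) M →ₗ[Localization.Away f]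
          (Fin r → Localization.Away f),
        g ∘ₗ Fintype.linearCombination (Localization.Away f)
            (fun i => LocalizedModule.mkLinearMap (Submonoid.powers f) M (s i)) =
          LinearMap.id := by
  classical
  let _ : Field (R ⧸ x) := Ideal.Quotient.field x
  rw [linearIndependent_iff_injective_fintypeLinearCombination] at h
  obtain ⟨L, hL⟩ := LinearMap.exists_leftInverse_of_injective _ (LinearMap.ker_eq_bot.mpr h)
  -- linear forms dual to the `s i`
  have hφ : ∀ j : Fin r, ∃ φ : M →ₗ[R] R,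
      ∀ i, Ideal.Quotient.mk x (φ (s i)) = if i = j then 1 else 0 := by
    intro j
    let ψ : (M ⧸ (x • ⊤ : Submodule R M)) →ₗ[R ⧸ x] (R ⧸ x) :=
      ((LinearMap.proj j : (Fin r → R ⧸ x) →ₗ[R ⧸ x] (R ⧸ x)).comp L).comp (Bx x).mkQ
    obtain ⟨φ, hφ⟩ := exists_redForm_eq x ψ (fun v hv => by
      change L ((Bx x).mkQ v) j = 0
      rw [Submodule.mkQ_apply, (Submodule.Quotient.mk_eq_zero _).mpr hv, map_zero]
      rfl)
    refine ⟨φ, fun i => ?_⟩
    rw [← redForm_mk, hφ]
    change L ((Bx x).mkQ ((x • ⊤ : Submodule R M).mkQ (s i))) j = _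
    have h2 := LinearMap.congr_fun hL (Pi.single i 1)
    rw [LinearMap.comp_apply, Fintype.linearCombination_apply_single, one_smul] at h2
    rw [h2]
    simp [Pi.single_apply, eq_comm]
  choose φ hφ using hφ
  let A : Matrix (Fin r) (Fin r) R := fun j i => φ j (s i)
  have hA : A.map (Ideal.Quotient.mk x) = 1 := by
    ext j i
    rw [Matrix.map_apply, Matrix.one_apply]
    change Ideal.Quotient.mk x (φ j (s i)) = _
    rw [hφ j i]
    by_cases hij : i = j
    · simp [hij]
    · simp [hij, Ne.symm hij]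
  have hdet : Ideal.Quotient.mk x A.det = 1 := by
    rw [RingHom.map_det, RingHom.mapMatrix_apply, hA, Matrix.det_one]
  refine ⟨A.det, fun hmem => ?_, ?_⟩
  · rw [Ideal.Quotient.eq_zero_iff_mem.mpr hmem] at hdet
    exact zero_ne_one hdet
  let f := A.det
  let Rf := Localization.Away f
  let A' : Matrix (Fin r) (Fin r) Rf := A.map (algebraMap R Rf)
  have hA'det : IsUnit A'.det := by
    have : A'.det = algebraMap R Rf f := by
      rw [RingHom.map_det, RingHom.mapMatrix_apply]
    rw [this]
    exact IsLocalization.Away.algebraMap_isUnit f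
  let Φ : Fin r → (LocalizedModule (Submonoid.powers f) M →ₗ[Rf] Rf) := fun j =>
    IsLocalizedModule.mapExtendScalars (Submonoid.powers f)
      (LocalizedModule.mkLinearMap (Submonoid.powers f) M) (Algebra.linearMap R Rf) Rf (φ j)
  have hΦ : ∀ j i, Φ j (LocalizedModule.mkLinearMap (Submonoid.powers f) M (s i)) = A' j i := by
    intro j i
    change IsLocalizedModule.map (Submonoid.powers f)
      (LocalizedModule.mkLinearMap (Submonoid.powers f) M) (Algebra.linearMap R Rf) (φ j)
      (LocalizedModule.mkLinearMap (Submonoid.powers f) M (s i)) = _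
    rw [IsLocalizedModule.map_apply]
    rfl
  let Ψ : LocalizedModule (Submonoid.powers f) M →ₗ[Rf] (Fin r → Rf) := LinearMap.pi Φ
  have hΨ : Ψ ∘ₗ Fintype.linearCombination Rf
      (fun i => LocalizedModule.mkLinearMap (Submonoid.powers f) M (s i)) = A'.mulVecLin := by
    apply LinearMap.ext
    intro c
    funext j
    rw [LinearMap.comp_apply, Fintype.linearCombination_apply, map_sum]
    simp only [map_smul, Matrix.mulVecLin_apply]
    rw [Finset.sum_apply, Matrix.mulVec, dotProduct]
    refine Finset.sum_congr rfl fun i _ => ?_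
    change c i • Φ j (LocalizedModule.mkLinearMap (Submonoid.powers f) M (s i)) = _
    rw [hΦ, smul_eq_mul, mul_comm]
  refine ⟨(A'⁻¹).mulVecLin ∘ₗ Ψ, ?_⟩
  rw [LinearMap.comp_assoc, hΨ, ← Matrix.mulVecLin_mul, Matrix.nonsing_inv_mul _ hA'det,
    Matrix.mulVecLin_one]

end aux


/-- Let R be a ring, M a finitely presented R-module and x a maximal ideal of R with residue field κ(x);
write M(x) = M/xM and let B(x) ⊆ M(x) be the orthogonal of the image of Hom_R(M, R) in the dual of
M(x), i.e. the classes of those m in M with φ(m) in x for every linear form φ on M, and V(x) =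
M(x)/B(x). For s_1, ..., s_r in M the following are equivalent: (1) there is f in R, f not in x,
such that the map R_f^r → M_f given by the s_i is the inclusion of a direct summand; (2) the images
of s_1, ..., s_r in V(x) are linearly independent over κ(x). -/
theorem result (R : Type u) [CommRing R] (M : Type u)
    [AddCommGroup M] [Module R M] [Module.FinitePresentation R M] (x : Ideal R) [x.IsMaximal]
    (r : ℕ) (s : Fin r → M) :
    let Mx := M ⧸ (x • ⊤ : Submodule R M)
    let Bx : Submodule (R ⧸ x) Mx :=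
      Submodule.span (R ⧸ x) ((x • ⊤ : Submodule R M).mkQ '' {m : M | ∀ φ : M →ₗ[R] R, φ m ∈ x})
    (∃ f : R, f ∉ x ∧
      ∃ g : LocalizedModule (Submonoid.powers f) M →ₗ[Localization.Away f] (Fin r → Localization.Away f),
        g ∘ₗ Fintype.linearCombination (Localization.Away f)
            (fun i => LocalizedModule.mkLinearMap (Submonoid.powers f) M (s i)) = LinearMap.id) ↔
    LinearIndependent (R ⧸ x) (fun i => Bx.mkQ ((x • ⊤ : Submodule R M).mkQ (s i))) := by
  intro Mx Bx'
  constructor
  · rintro ⟨f, hf, g, hg⟩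
    exact dir1 x r s f hf g hg
  · intro h
    exact dir2 x r s h

end Groth.Agent.S7147
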