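import Groth.Statements.S7149
import Groth.Agent.Lib.H29PCohExt2

set_option autoImplicit false
universe u
open CategoryTheory
attribute [local instance] HasDerivedCategory.standard
open CAlg

namespace Groth.Agent.S7149

/-- Let A be a Noetherian ring, I an ideal, K a pseudo-coherent object of D(A) and M a finite A-module.
For each integer p there is c such that for all n ≥ c the image of Ext^p_A(K, IⁿM) → Ext^p_A(K, M)
is contained in I^(n-c)·Ext^p_A(K, M); here Ext^p(K, X) = Hom_{D(A)}(K, X[p]) with its natural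
A-module structure. -/
theorem result (A : Type u) [CommRing A] [IsNoetherianRing A] (I : Ideal A)
    (K : Dual.D A) (hK : DRing.IsPseudoCoherent' A K) (M : Type u) [AddCommGroup M] [Module A M] [Module.Finite A M]
    (p : ℤ) :
    ∃ c : ℕ, ∀ n : ℕ, c ≤ n →
      ∀ e : K ⟶ (Dual.inD A ↥(I ^ n • ⊤ : Submodule A M))⟦p⟧,
        e ≫ ((DerivedCategory.singleFunctor (ModuleCat.{u} A) 0).map
              (ModuleCat.ofHom (I ^ n • ⊤ : Submodule A M).subtype))⟦p⟧' ∈
          (I ^ (n - c) • ⊤ : Submodule A (K ⟶ (Dual.inD A M)⟦p⟧)) := by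
  classical
  obtain ⟨E, b, hb, hff, ⟨α⟩⟩ := hK
  haveI : E.IsStrictlyLE b := (CochainComplex.isStrictlyLE_iff E b).2 hb
  haveI : ∀ n, Projective (E.X n) := fun n => by
    haveI := (hff n).2
    exact (IsProjective.iff_projective (R := A) (E.X n)).1 inferInstance
  haveI : E.IsKProjective := CochainComplex.isKProjective_of_projective E b
  haveI hfin : ∀ n, Module.Finite A (E.X n) := fun n => (hff n).1
  haveI hfree : ∀ n, Module.Free A (E.X n) := fun n => (hff n).2
  obtain ⟨c, hc⟩ := Groth.Agent.Lib.H29PCohExt.exists_pow_image I E α p (-p) (by simp) M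
  exact ⟨c, fun n hn e => hc n hn _ _ (fun y => y.2) e⟩

end Groth.Agent.S7149
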