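import Groth.Statements.S7150
import Groth.Agent.S2451
import Groth.Agent.Lib.CohenRing

set_option autoImplicit false
universe u
open EtAlg

namespace Groth.Agent.S7150

open IsLocalRing Groth.Agent.Lib.CohenRing Groth.Agent.Lib.MacLane4H44

/-- A section of the residue map relative to a base field, via formal smoothness. -/
theorem exists_section_of_formallySmooth (k : Type u) [Field k] (A : Type u) [CommRing A]
    [IsLocalRing A] [Algebra k A] [Algebra k (ResidueField A)]
    [IsScalarTower k A (ResidueField A)] [Algebra.FormallySmooth k (ResidueField A)]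
    (hnil : ∃ n : ℕ, maximalIdeal A ^ n = ⊥) :
    ∃ σ : ResidueField A →ₐ[k] A, ∀ x, residue A (σ x) = x := by
  let π : A →ₐ[k] ResidueField A := IsScalarTower.toAlgHom k A (ResidueField A)
  have hπ : Function.Surjective π := residue_surjective
  have hker : IsNilpotent (RingHom.ker (π : A →+* ResidueField A)) := by
    have : RingHom.ker (π : A →+* ResidueField A) = maximalIdeal A := ker_residue
    rw [this]
    exact hnil
  refine ⟨Algebra.FormallySmooth.liftOfSurjective (AlgHom.id k (ResidueField A)) π hπ hker,
    fun x => ?_⟩
  exact Algebra.FormallySmooth.liftOfSurjective_apply (AlgHom.id k (ResidueField A)) π hπ hker x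

/-- Suppose p is a prime with p·1 = 0 in the local ring A and some power of the maximal ideal of A is
zero. Then the residue map A → κ_A has a section σ : κ_A → A that is a ring map. If moreover A → A'
is a local homomorphism to another local ring whose maximal ideal has a vanishing power, and the
residue field extension κ_{A'}/κ_A is separable (possibly transcendental, i.e. geometrically
reduced), then for any such σ there is a section σ' : κ_{A'} → A' compatible with σ. -/
theorem result (p : ℕ) (hp : p.Prime) (A : Type u) [CommRing A]
    [IsLocalRing A] [CharP A p] (hnil : ∃ n : ℕ, IsLocalRing.maximalIdeal A ^ n = ⊥) :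
    (∃ σ : IsLocalRing.ResidueField A →+* A, (IsLocalRing.residue A).comp σ = RingHom.id _) ∧
    ∀ (A' : Type u) [CommRing A'] [IsLocalRing A'] [Algebra A A'] [IsLocalHom (algebraMap A A')],
      (∃ n : ℕ, IsLocalRing.maximalIdeal A' ^ n = ⊥) →
      Algebra.IsGeometricallyReduced (IsLocalRing.ResidueField A) (IsLocalRing.ResidueField A') →
      ∀ σ : IsLocalRing.ResidueField A →+* A, (IsLocalRing.residue A).comp σ = RingHom.id _ →
        ∃ σ' : IsLocalRing.ResidueField A' →+* A', (IsLocalRing.residue A').comp σ' = RingHom.id _ ∧
          σ'.comp (IsLocalRing.ResidueField.map (algebraMap A A')) = (algebraMap A A').comp σ := by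
  constructor
  · have hfact : Fact p.Prime := ⟨hp⟩
    have hpA : ((p : ℕ) : A) = 0 := CharP.cast_eq_zero A p
    have hK : CharP (ResidueField A) p := by
      rw [CharP.charP_iff_prime_eq_zero hp, ← map_natCast (residue A), hpA, map_zero]
    let _ : Algebra (PF.{u} p) A := (pfTo p A hpA).toAlgebra
    let _ : Algebra (PF.{u} p) (ResidueField A) := (toField p (ResidueField A)).toAlgebra
    have htower : IsScalarTower (PF.{u} p) A (ResidueField A) :=
      IsScalarTower.of_algebraMap_eq' (pf_ringHom_ext p _ _)
    have hfs : Algebra.FormallySmooth (PF.{u} p) (ResidueField A) :=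
      Groth.Agent.Lib.PBasisField3H44.formallySmooth_of_perfectRing p (PF.{u} p) (ResidueField A)
    obtain ⟨σ, hσ⟩ := exists_section_of_formallySmooth (PF.{u} p) A hnil
    exact ⟨σ.toRingHom, RingHom.ext hσ⟩
  · intro A' _ _ _ _ hnil' hgr σ hσ
    have hfs : Algebra.FormallySmooth (ResidueField A) (ResidueField A') :=
      Groth.Agent.S2451.result.mpr hgr
    let _ : Algebra (ResidueField A) A' := ((algebraMap A A').comp σ).toAlgebra
    have htower : IsScalarTower (ResidueField A) A' (ResidueField A') := by
      refine IsScalarTower.of_algebraMap_eq fun x => ?_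
      show algebraMap (ResidueField A) (ResidueField A') x = residue A' (algebraMap A A' (σ x))
      have h1 : residue A (σ x) = x := RingHom.congr_fun hσ x
      have h2 : residue A' (algebraMap A A' (σ x)) =
          algebraMap (ResidueField A) (ResidueField A') (residue A (σ x)) := rfl
      rw [h2, h1]
    obtain ⟨σ', hσ'⟩ := exists_section_of_formallySmooth (ResidueField A) A' hnil'
    refine ⟨σ'.toRingHom, RingHom.ext hσ', RingHom.ext fun x => ?_⟩
    exact σ'.commutes x

end Groth.Agent.S7150
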