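import Groth.Statements.S7153
import Mathlib.RingTheory.Filtration

set_option autoImplicit false
universe u
open CAlg

namespace Groth.Agent.S7153

/-- Let A be a Noetherian ring, I an ideal and K → L → M a complex of finite A-modules with maps α, β
and homology H = Ker β / Im α; for n ≥ 0 let H_n be the homology of the induced complex K/IⁿK →
L/IⁿL → M/IⁿM, which is β⁻¹(IⁿM)/(Im α + IⁿL). Then there is c > 0 such that for every n: (i) the
image of H_(n+c) → H_n is contained in, hence equal to, the image of H → H_n; (ii) the kernel and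
the cokernel of H/IⁿH → H_n are annihilated by I^c. Everything is phrased with representatives in L. -/
theorem result (A : Type u) [CommRing A] [IsNoetherianRing A] (I : Ideal A)
    (K L M : Type u) [AddCommGroup K] [Module A K] [Module.Finite A K] [AddCommGroup L] [Module A L]
    [Module.Finite A L] [AddCommGroup M] [Module A M] [Module.Finite A M]
    (α : K →ₗ[A] L) (β : L →ₗ[A] M) (hαβ : β ∘ₗ α = 0) :
    ∃ c : ℕ, 0 < c ∧ ∀ n : ℕ,
      (∀ y ∈ (I ^ (n + c) • ⊤ : Submodule A M).comap β,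
        ∃ z ∈ LinearMap.ker β, y - z ∈ LinearMap.range α ⊔ (I ^ n • ⊤ : Submodule A L)) ∧
      (∀ z ∈ LinearMap.ker β, z ∈ LinearMap.range α ⊔ (I ^ n • ⊤ : Submodule A L) →
        ∀ a ∈ I ^ c, a • z ∈ LinearMap.range α ⊔ I ^ n • LinearMap.ker β) ∧
      (∀ y ∈ (I ^ n • ⊤ : Submodule A M).comap β, ∀ a ∈ I ^ c,
        ∃ z ∈ LinearMap.ker β, a • y - z ∈ LinearMap.range α ⊔ (I ^ n • ⊤ : Submodule A L)) := by
  obtain ⟨c1, hc1⟩ := Ideal.exists_pow_inf_eq_pow_smul I (LinearMap.range β)
  obtain ⟨c2, hc2⟩ := Ideal.exists_pow_inf_eq_pow_smul I (LinearMap.ker β)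
  -- first consequence of Artin-Rees
  have keyA : ∀ (n : ℕ) (y : L), β y ∈ (I ^ (n + (c1 + c2 + 1)) • ⊤ : Submodule A M) →
      ∃ l ∈ (I ^ n • ⊤ : Submodule A L), β l = β y := by
    intro n y hy
    have h1 : β y ∈ (I ^ (n + (c1 + c2 + 1)) • ⊤ : Submodule A M) ⊓ LinearMap.range β :=
      ⟨hy, LinearMap.mem_range_self β y⟩
    rw [hc1 (n + (c1 + c2 + 1)) (by omega)] at h1
    have h2 : I ^ (n + (c1 + c2 + 1) - c1) • ((I ^ c1 • ⊤ : Submodule A M) ⊓ LinearMap.range β)
        ≤ I ^ n • LinearMap.range β :=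
      Submodule.smul_mono (Ideal.pow_le_pow_right (by omega)) inf_le_right
    have h3 := h2 h1
    rw [LinearMap.range_eq_map, ← Submodule.map_smul''] at h3
    obtain ⟨l, hl, hl'⟩ := h3
    exact ⟨l, hl, hl'⟩
  -- second consequence of Artin-Rees
  have keyB : ∀ (n : ℕ) (l : L), l ∈ (I ^ n • ⊤ : Submodule A L) → l ∈ LinearMap.ker β →
      ∀ a ∈ I ^ (c1 + c2 + 1), a • l ∈ I ^ n • LinearMap.ker β := by
    intro n l hl hl' a ha
    by_cases hn : c2 ≤ n
    · have h1 : l ∈ (I ^ n • ⊤ : Submodule A L) ⊓ LinearMap.ker β := ⟨hl, hl'⟩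
      rw [hc2 n hn] at h1
      have h2 : I ^ (n - c2) • ((I ^ c2 • ⊤ : Submodule A L) ⊓ LinearMap.ker β)
          ≤ I ^ (n - c2) • LinearMap.ker β := Submodule.smul_mono le_rfl inf_le_right
      have h3 := h2 h1
      have ha' : a ∈ I ^ c2 := Ideal.pow_le_pow_right (by omega) ha
      have h4 := Submodule.smul_mem_smul ha' h3
      rw [← mul_smul, ← pow_add, Nat.add_sub_cancel' hn] at h4
      exact h4
    · have ha' : a ∈ I ^ n := Ideal.pow_le_pow_right (by omega) ha
      exact Submodule.smul_mem_smul ha' hl'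
  refine ⟨c1 + c2 + 1, by omega, fun n => ⟨?_, ?_, ?_⟩⟩
  · intro y hy
    rw [Submodule.mem_comap] at hy
    obtain ⟨l, hl, hl'⟩ := keyA n y hy
    refine ⟨y - l, ?_, ?_⟩
    · rw [LinearMap.mem_ker, map_sub, hl', sub_self]
    · rw [sub_sub_cancel]
      exact Submodule.mem_sup_right hl
  · intro z hz hz' a ha
    obtain ⟨k', hk', l, hl, rfl⟩ := Submodule.mem_sup.mp hz'
    obtain ⟨k, rfl⟩ := hk'
    have hl' : l ∈ LinearMap.ker β := by
      rw [LinearMap.mem_ker] at hz ⊢
      rw [map_add] at hz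
      have : β (α k) = 0 := by
        have := LinearMap.congr_fun hαβ k
        simpa using this
      rw [this, zero_add] at hz
      exact hz
    rw [smul_add]
    apply Submodule.add_mem_sup
    · exact ⟨a • k, by rw [map_smul]⟩
    · exact keyB n l hl hl' a ha
  · intro y hy a ha
    rw [Submodule.mem_comap] at hy
    have h1 : β (a • y) ∈ (I ^ (n + (c1 + c2 + 1)) • ⊤ : Submodule A M) := by
      rw [map_smul, add_comm n, pow_add, mul_smul]
      exact Submodule.smul_mem_smul ha hy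
    obtain ⟨l, hl, hl'⟩ := keyA n (a • y) h1
    refine ⟨a • y - l, ?_, ?_⟩
    · rw [LinearMap.mem_ker, map_sub, hl', sub_self]
    · rw [sub_sub_cancel]
      exact Submodule.mem_sup_right hl

end Groth.Agent.S7153
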