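import Groth.Statements.S7157
import Groth.Agent.Lib.H40TotRamExt

set_option autoImplicit false
universe u
open EtAlg

namespace Groth.Agent.S7157

/-- Let A be a discrete valuation ring, π a uniformizer, K its field of fractions, and suppose the
residue field of A has characteristic p > 0. For every n > 1 and every power q of p there is a
separable degree-q extension L/K that is totally ramified with respect to A and whose ring of
integers B (the integral closure of A in L) contains elements π_B, b, b' with π_B^q = π + πⁿ·b and
π_B^q = π + π_B^(nq)·b' (π_B is then a uniformizer of B and the ramification index is q). -/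
theorem result (p : ℕ) (hp : p.Prime) (A K : Type u)
    [CommRing A] [IsDomain A] [IsDiscreteValuationRing A] [Field K] [Algebra A K] [IsFractionRing A K]
    [CharP (IsLocalRing.ResidueField A) p] (π : A) (hπ : IsLocalRing.maximalIdeal A = Ideal.span {π})
    (n : ℕ) (hn : 1 < n) (k : ℕ) :
    ∃ (L : Type u) (_ : Field L) (_ : Algebra K L) (_ : Algebra A L) (_ : IsScalarTower A K L),
      Module.finrank K L = p ^ k ∧ Algebra.IsSeparable K L ∧ EtRam.IsTotallyRamified A (algebraMap A L) ∧
      ∃ πB b b' : L, πB ∈ integralClosure A L ∧ b ∈ integralClosure A L ∧ b' ∈ integralClosure A L ∧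
        πB ^ (p ^ k) = algebraMap A L π + algebraMap A L π ^ n * b ∧
        πB ^ (p ^ k) = algebraMap A L π + πB ^ (n * p ^ k) * b' := by
  have hπmem : π ∈ IsLocalRing.maximalIdeal A := by rw [hπ]; exact Ideal.mem_span_singleton_self π
  rcases Nat.eq_zero_or_pos k with hk | hk
  · subst hk
    refine ⟨K, inferInstance, Algebra.id K, inferInstance, inferInstance, ?_, ?_, ?_, ?_⟩
    · rw [pow_zero]; exact Module.finrank_self K
    · exact Algebra.isSeparable_self K
    · refine Groth.Agent.Lib.H40TotRamCriterion.isTotallyRamified_of_val_pow_eq (K := K) hπ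
        Nat.one_pos (Module.finrank_self K) (algebraMap A K π) (fun V _ => pow_one _)
    · refine ⟨algebraMap A K π, 0, 0, ?_, ?_, ?_, ?_, ?_⟩
      · exact Subalgebra.algebraMap_mem _ _
      · exact Subalgebra.zero_mem _
      · exact Subalgebra.zero_mem _
      · rw [pow_zero, pow_one, mul_zero, add_zero]
      · rw [pow_zero, pow_one, mul_zero, add_zero]
  · have hq : 2 ≤ p ^ k := by
      calc 2 ≤ p := hp.two_le
        _ = p ^ 1 := (pow_one p).symm
        _ ≤ p ^ k := Nat.pow_le_pow_right hp.pos hk
    exact Groth.Agent.Lib.H40TotRamExt.exists_ext (K := K) hπ hn hq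

end Groth.Agent.S7157
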