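import Groth.Statements.S7160
import Groth.Agent.Lib.DerivedHomologyLinear
-- import your own Groth.Agent.* helpers here

set_option autoImplicit false
universe u
open CategoryTheory CategoryTheory.Pretriangulated
attribute [local instance] HasDerivedCategory.standard
open CAlg

namespace Groth.Agent.S7160

/-- Let R be a ring, f an element of R, M an object of D(R) and C the cone of f : M → M. Suppose that
H^i(M)_f = 0 whenever i < 0 (every element of H^i(M) is killed by a power of f) and that H^i(C) = 0
whenever i < -1. Then H^i(M) vanishes for every i < 0. -/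
theorem result (R : Type u) [CommRing R] (f : R) (M C : Dual.D R)
    (g : M ⟶ C) (h : C ⟶ M⟦(1 : ℤ)⟧) (hT : Triangle.mk (f • 𝟙 M) g h ∈ distinguishedTriangles)
    (hloc : ∀ i : ℤ, i < 0 → ∀ x : Dual.HD R M i, ∃ n : ℕ, f ^ n • x = 0)
    (hC : ∀ i : ℤ, i < -1 → Subsingleton (Dual.HD R C i)) :
    ∀ i : ℤ, i < 0 → Subsingleton (Dual.HD R M i) := by
  intro i hi
  have hzero : Limits.IsZero ((DerivedCategory.homologyFunctor (ModuleCat.{u} R) (i - 1)).obj C) := by
    have := hC (i - 1) (by omega)
    exact ModuleCat.isZero_of_subsingleton _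
  have hδ : DerivedCategory.HomologySequence.δ (Triangle.mk (f • 𝟙 M) g h) (i - 1) i (by omega) = 0 :=
    hzero.eq_of_src _ _
  have hmono : Mono ((DerivedCategory.homologyFunctor (ModuleCat.{u} R) i).map (f • 𝟙 M)) :=
    (DerivedCategory.HomologySequence.mono_homologyMap_mor₁_iff _ hT (i - 1) i (by omega)).mpr hδ
  have hinj : ∀ x : Dual.HD R M i, f • x = 0 → x = 0 := by
    intro x hx
    have h1 := (ModuleCat.mono_iff_injective _).mp hmono
    apply h1
    rw [map_zero, Groth.Agent.Lib.DerivedHomologyLinear.homologyFunctor_map_smul_id_apply]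
    exact hx
  refine ⟨fun x y ↦ ?_⟩
  have key : ∀ z : Dual.HD R M i, z = 0 := by
    intro z
    obtain ⟨n, hn⟩ := hloc i hi z
    induction n with
    | zero => simpa using hn
    | succ n ih =>
      apply ih
      apply hinj
      rw [← mul_smul, ← pow_succ']
      exact hn
  rw [key x, key y]

end Groth.Agent.S7160
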