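import Groth.Statements.S7164
import Groth.Agent.Lib.H29PCohExt

set_option autoImplicit false
universe u
open CategoryTheory
attribute [local instance] HasDerivedCategory.standard
open CAlg

namespace Groth.Agent.S7164

/-- Let A be a Noetherian ring, I an ideal, K a pseudo-coherent object of D(A) and a an integer. Assume
that for every finite A-module M and every i ≥ a the module Ext^i_A(K, M) is I-power torsion. Then
for i ≥ a and M finite the inverse system (Ext^i_A(K, M/IⁿM))_n is essentially constant with value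
Ext^i_A(K, M) (so that Ext^i_A(K, M) = lim Ext^i_A(K, M/IⁿM)): concretely, some comparison map
Ext^i(K, M) → Ext^i(K, M/I^mM) is injective and for every n there is m' ≥ n such that the image of
the transition map Ext^i(K, M/I^(m')M) → Ext^i(K, M/IⁿM) is contained in the image of Ext^i(K, M).
Here Ext^i(K, X) = Hom_{D(A)}(K, X[i]). -/
theorem result (A : Type u) [CommRing A] [IsNoetherianRing A]
    (I : Ideal A) (K : Dual.D A) (hK : DRing.IsPseudoCoherent' A K) (a : ℤ)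
    (htors : ∀ (M : Type u) [AddCommGroup M] [Module A M], Module.Finite A M → ∀ i : ℤ, a ≤ i →
      ∀ e : K ⟶ (Dual.inD A M)⟦i⟧, ∃ n : ℕ, ∀ x ∈ I ^ n, x • e = 0)
    (M : Type u) [AddCommGroup M] [Module A M] [Module.Finite A M] (i : ℤ) (hi : a ≤ i) :
    let Mq : ℕ → Submodule A M := fun n => I ^ n • ⊤
    let c : ∀ n : ℕ, (K ⟶ (Dual.inD A M)⟦i⟧) → (K ⟶ (Dual.inD A (M ⧸ Mq n))⟦i⟧) :=
      fun n e => e ≫ ((DerivedCategory.singleFunctor (ModuleCat.{u} A) 0).map (ModuleCat.ofHom (Mq n).mkQ))⟦i⟧'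
    let t : ∀ n m : ℕ, n ≤ m → (K ⟶ (Dual.inD A (M ⧸ Mq m))⟦i⟧) → (K ⟶ (Dual.inD A (M ⧸ Mq n))⟦i⟧) :=
      fun n m hnm e => e ≫ ((DerivedCategory.singleFunctor (ModuleCat.{u} A) 0).map (ModuleCat.ofHom
        (Submodule.mapQ (Mq m) (Mq n) (LinearMap.id : M →ₗ[A] M) (Submodule.smul_mono_left (Ideal.pow_le_pow_right hnm)))))⟦i⟧'
    (∃ m : ℕ, Function.Injective (c m)) ∧
      ∀ n : ℕ, ∃ (m' : ℕ) (hnm : n ≤ m'), Set.range (t n m' hnm) ⊆ Set.range (c n) := by
  classical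
  intro Mq c t
  obtain ⟨E, b, hb, hff, ⟨α⟩⟩ := hK
  haveI : E.IsStrictlyLE b := (CochainComplex.isStrictlyLE_iff E b).2 hb
  haveI : ∀ n, Projective (E.X n) := fun n => by
    haveI := (hff n).2
    exact (IsProjective.iff_projective (R := A) (E.X n)).1 inferInstance
  haveI : E.IsKProjective := CochainComplex.isKProjective_of_projective E b
  haveI hfin : ∀ n, Module.Finite A (E.X n) := fun n => (hff n).1
  haveI hfree : ∀ n, Module.Free A (E.X n) := fun n => (hff n).2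
  haveI : IsNoetherian A M := isNoetherian_of_isNoetherianRing_of_finite A M
  obtain ⟨k₁, hk₁⟩ := Groth.Agent.Lib.H29PCohExt.exists_pow_vanish I E α i (-i) (by simp) M
    (htors M inferInstance i hi)
  refine ⟨⟨k₁, ?_⟩, ?_⟩
  · intro e₁ e₂ h
    have h0 : (e₁ - e₂) ≫ ((DerivedCategory.singleFunctor (ModuleCat.{u} A) 0).map
        (ModuleCat.ofHom (Mq k₁).mkQ))⟦i⟧' = 0 := by
      rw [Preadditive.sub_comp]
      exact sub_eq_zero.2 h
    obtain ⟨g, hg⟩ := Groth.Agent.Lib.H29PCohExt.exact₂_shift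
      (Groth.Agent.Lib.H29PCohExt.sc_shortExact (Mq k₁)).singleTriangle
      (Groth.Agent.Lib.H29PCohExt.sc_shortExact (Mq k₁)).singleTriangle_distinguished i
      (e₁ - e₂) h0
    have h1 := hk₁ _ (Mq k₁).subtype (fun y => y.2) g
    have h2 : e₁ - e₂ = 0 := hg.trans h1
    exact sub_eq_zero.1 h2
  · intro n
    haveI : Module.Finite A ↥(Mq n) := Module.Finite.iff_fg.2 (IsNoetherian.noetherian _)
    obtain ⟨k₂, hk₂⟩ := Groth.Agent.Lib.H29PCohExt.exists_pow_vanish I E α (i + 1) (-(i + 1))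
      (by simp) ↥(Mq n) (htors ↥(Mq n) inferInstance (i + 1) (by omega))
    have hle : Mq (n + k₂) ≤ Mq n :=
      Submodule.smul_mono_left (Ideal.pow_le_pow_right (Nat.le_add_right n k₂))
    refine ⟨n + k₂, Nat.le_add_right _ _, ?_⟩
    rintro _ ⟨e', rfl⟩
    have hS₁ := Groth.Agent.Lib.H29PCohExt.sc_shortExact (Mq (n + k₂))
    have hS₂ := Groth.Agent.Lib.H29PCohExt.sc_shortExact (Mq n)
    have hcomm := (ShortComplex.ShortExact.singleTriangle.map hS₁ hS₂
      (Groth.Agent.Lib.H29PCohExt.scMap hle)).comm₃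
    have e1 : ((DerivedCategory.singleFunctor (ModuleCat.{u} A) 0).map
          (Groth.Agent.Lib.H29PCohExt.scMap hle).τ₃)⟦i⟧' ≫ (hS₂.singleTriangle.mor₃)⟦i⟧' =
        (hS₁.singleTriangle.mor₃)⟦i⟧' ≫ (((DerivedCategory.singleFunctor (ModuleCat.{u} A) 0).map
          (Groth.Agent.Lib.H29PCohExt.scMap hle).τ₁)⟦(1 : ℤ)⟧')⟦i⟧' := by
      rw [← Functor.map_comp, ← Functor.map_comp]
      exact congrArg _ hcomm.symm
    have e2 : ∀ e'' : K ⟶ ((hS₁.singleTriangle.obj₁)⟦(1 : ℤ)⟧)⟦i⟧,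
        e'' ≫ (((DerivedCategory.singleFunctor (ModuleCat.{u} A) 0).map
          (Groth.Agent.Lib.H29PCohExt.scMap hle).τ₁)⟦(1 : ℤ)⟧')⟦i⟧' = 0 :=
      Groth.Agent.Lib.H29PCohExt.comp_shift_shift_eq_zero _ i
        (hk₂ _ (Submodule.inclusion hle)
          (Groth.Agent.Lib.H29PCohExt.inclusion_mem_smul_top I n k₂))
    have h0 : (t n (n + k₂) (Nat.le_add_right _ _) e') ≫ (hS₂.singleTriangle.mor₃)⟦i⟧' = 0 :=
      calc (t n (n + k₂) (Nat.le_add_right _ _) e') ≫ (hS₂.singleTriangle.mor₃)⟦i⟧'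
          = e' ≫ (((DerivedCategory.singleFunctor (ModuleCat.{u} A) 0).map
              (Groth.Agent.Lib.H29PCohExt.scMap hle).τ₃)⟦i⟧' ≫ (hS₂.singleTriangle.mor₃)⟦i⟧') :=
            Category.assoc _ _ _
        _ = e' ≫ ((hS₁.singleTriangle.mor₃)⟦i⟧' ≫
              (((DerivedCategory.singleFunctor (ModuleCat.{u} A) 0).map
                (Groth.Agent.Lib.H29PCohExt.scMap hle).τ₁)⟦(1 : ℤ)⟧')⟦i⟧') :=
            congrArg (fun z => e' ≫ z) e1
        _ = (e' ≫ (hS₁.singleTriangle.mor₃)⟦i⟧') ≫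
              (((DerivedCategory.singleFunctor (ModuleCat.{u} A) 0).map
                (Groth.Agent.Lib.H29PCohExt.scMap hle).τ₁)⟦(1 : ℤ)⟧')⟦i⟧' :=
            (Category.assoc _ _ _).symm
        _ = 0 := e2 _
    obtain ⟨g, hg⟩ := Groth.Agent.Lib.H29PCohExt.exact₃_shift hS₂.singleTriangle
      hS₂.singleTriangle_distinguished i _ h0
    exact ⟨g, hg.symm⟩

end Groth.Agent.S7164
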