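import Groth.Statements.S7169
import Groth.Agent.Lib.PCohHomLocal

set_option autoImplicit false
universe u
attribute [local instance] HasDerivedCategory.standard
open FlatMor

namespace Groth.Agent.S7169

open AlgebraicGeometry CategoryTheory Limits in
/-- If X and Y are pseudo-coherent over a base scheme S (via g : Y → S and f ≫ g), then any S-morphism f
: X → Y is pseudo-coherent. -/
theorem result {X Y S : Scheme.{u}} (f : X ⟶ Y) (g : Y ⟶ S)
    (hX : MoreMor.IsPseudoCoherentMor (f ≫ g)) (hY : MoreMor.IsPseudoCoherentMor g) : MoreMor.IsPseudoCoherentMor f := by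
  rw [Groth.Agent.Lib.PCohHomLocal.isPseudoCoherentMor_iff_exists]
  intro x
  obtain ⟨W, hW, hxW, -⟩ := TopologicalSpace.Opens.isBasis_iff_nbhd.mp S.isBasis_affineOpens
    (TopologicalSpace.Opens.mem_top (g (f x)))
  obtain ⟨V, hV, hxV, eV⟩ := TopologicalSpace.Opens.isBasis_iff_nbhd.mp Y.isBasis_affineOpens
    (show f x ∈ g ⁻¹ᵁ W from hxW)
  obtain ⟨U, hU, hxU, eU⟩ := TopologicalSpace.Opens.isBasis_iff_nbhd.mp X.isBasis_affineOpens
    (show x ∈ f ⁻¹ᵁ V from hxV)
  refine ⟨⟨V, hV⟩, ⟨U, hU⟩, hxU, eU, ?_⟩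
  have h1 : Groth.Agent.Lib.PCohHomLocal.PCHom (g.appLE W V eV).hom := hY V W hV hW eV
  have h2 := hX U W hU hW (eU.trans ((TopologicalSpace.Opens.map f.base).map (homOfLE eV)).le)
  have h3 : Groth.Agent.Lib.PCohHomLocal.PCHom
      ((f ≫ g).appLE W U (eU.trans ((TopologicalSpace.Opens.map f.base).map (homOfLE eV)).le)).hom :=
    h2
  rw [← Scheme.Hom.appLE_comp_appLE f g W V U eV eU, CommRingCat.hom_comp] at h3
  exact Groth.Agent.Lib.PCohHomLocal.pcHom_of_comp _ _ h1 h3

end Groth.Agent.S7169
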