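import Groth.Statements.S7173
import Groth.Agent.Lib.PerfHomPresentation
import Mathlib.AlgebraicGeometry.Noetherian
import Mathlib.AlgebraicGeometry.Morphisms.FiniteType

set_option autoImplicit false
universe u
attribute [local instance] HasDerivedCategory.standard
open FlatMor

namespace Groth.Agent.S7173

open AlgebraicGeometry CategoryTheory Limits in
/-- sections over an affine open of a locally Noetherian scheme with regular stalks form a regular
ring -/
lemma isRegularRing_of_stalks {S : Scheme.{u}} [IsLocallyNoetherian S]
    (hreg : ∀ s : S, IsRegularLocalRing (S.presheaf.stalk s)) (V : S.Opens) (hV : IsAffineOpen V) :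
    IsRegularRing Γ(S, V) := by
  have : IsNoetherianRing Γ(S, V) := IsLocallyNoetherian.component_noetherian ⟨V, hV⟩
  rw [isRegularRing_iff]
  intro p hp
  let y : PrimeSpectrum Γ(S, V) := ⟨p, hp⟩
  have hy : hV.fromSpec y ∈ V := by
    have h1 : hV.fromSpec y ∈ Set.range hV.fromSpec := Set.mem_range_self y
    rw [hV.range_fromSpec] at h1
    exact h1
  letI := TopCat.Presheaf.algebra_section_stalk S.presheaf ⟨hV.fromSpec y, hy⟩
  have hloc : IsLocalization p.primeCompl (S.presheaf.stalk (hV.fromSpec y)) :=
    hV.isLocalization_stalk' y hy
  have := hreg (hV.fromSpec y)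
  exact IsRegularLocalRing.of_ringEquiv (IsLocalization.algEquiv p.primeCompl
    (S.presheaf.stalk (hV.fromSpec y)) (Localization.AtPrime p)).toRingEquiv

open AlgebraicGeometry CategoryTheory Limits in
/-- A morphism locally of finite type to a regular scheme S (locally Noetherian with all local rings
regular) whose affine opens have finite Krull dimension is perfect. (The published statement carries
no dimension hypothesis; its proof is the ring statement for a finite type algebra over a regular
ring of finite dimension, so finite Krull dimension of the affine opens of S is assumed here.) -/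
theorem result {X S : Scheme.{u}} (f : X ⟶ S) [LocallyOfFiniteType f] [IsLocallyNoetherian S]
    (hreg : ∀ s : S, IsRegularLocalRing (S.presheaf.stalk s))
    (hdim : ∀ V : S.Opens, IsAffineOpen V → ringKrullDim Γ(S, V) < ⊤) :
    MoreMor.IsPerfectMor f := by
  have _ := hdim
  intro U V hU hV hUV
  have hreg' : IsRegularRing Γ(S, V) := isRegularRing_of_stalks hreg V hV
  let _ := (f.appLE V U hUV).hom.toAlgebra
  have hft : Algebra.FiniteType Γ(S, V) Γ(X, U) :=
    HasRingHomProperty.appLE (P := @LocallyOfFiniteType) f inferInstance ⟨V, hV⟩ ⟨U, hU⟩ hUV
  exact Groth.Agent.Lib.PerfHomPresentation.isPerfectHom_of_finiteType_of_isRegularRing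

end Groth.Agent.S7173
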