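import Groth.Statements.S7177
import Groth.Agent.Lib.H59FlatDiag
import Mathlib.AlgebraicGeometry.Morphisms.WeaklyEtale
import Mathlib.AlgebraicGeometry.Morphisms.Constructors
-- import your own Groth.Agent.* helpers here

set_option autoImplicit false
set_option linter.style.haveILetI false
universe u

namespace Groth.Agent.S7177

open AlgebraicGeometry CategoryTheory Limits TensorProduct

/-- Pure algebra: a module over a localization `B` of `S`, flat over a localization `A` of `R`, where
`S ⊗[R] S → S` is flat, is flat over `B`. -/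
theorem flat_of_localizations {R S A B M : Type*} [CommRing R] [CommRing S] [CommRing A] [CommRing B]
    (φ : R →+* S) (a : R →+* A) (b : S →+* B) (ψ : A →+* B) (hcomm : ψ.comp a = b.comp φ)
    (pR : Submonoid R) (hA : @IsLocalization R _ pR A _ a.toAlgebra)
    (pS : Submonoid S) (hB : @IsLocalization S _ pS B _ b.toAlgebra)
    (hdiag : letI := φ.toAlgebra; (Algebra.TensorProduct.lmul' R (S := S)).toRingHom.Flat)
    [AddCommGroup M] [Module B M] (hM : letI := Module.compHom M ψ; Module.Flat A M) :
    Module.Flat B M := by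
  letI : Algebra R S := φ.toAlgebra
  letI : Algebra R A := a.toAlgebra
  letI : Algebra S B := b.toAlgebra
  letI : Algebra A B := ψ.toAlgebra
  letI : Algebra R B := (b.comp φ).toAlgebra
  letI : Module A M := Module.compHom M ψ
  letI : Module S M := Module.compHom M b
  letI : Module R M := Module.compHom M (b.comp φ)
  haveI : IsScalarTower R S M := ⟨fun r s m => by
    change b (φ r * s) • m = b (φ r) • (b s • m)
    rw [map_mul, mul_smul]⟩
  haveI : IsScalarTower R A M := ⟨fun r x m => by
    change ψ (a r * x) • m = b (φ r) • (ψ x • m)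
    rw [map_mul, mul_smul]
    have : ψ (a r) = b (φ r) := RingHom.congr_fun hcomm r
    rw [this]⟩
  haveI : IsScalarTower S B M := ⟨fun s x m => by
    change (b s * x) • m = b s • (x • m)
    rw [mul_smul]⟩
  haveI : Module.Flat R A := IsLocalization.flat A pR
  haveI : Module.Flat A M := hM
  haveI : Module.Flat R M := Module.Flat.trans R A M
  haveI : Module.Flat S M := Lib.H59FlatDiag.flat_of_flat_lmul' (R := R) (S := S) (M := M) hdiag
  exact (Module.flat_iff_of_isLocalization B pS M).2 inferInstance

/-- The diagonal of `Spec S → Spec R` is flat iff the multiplication `S ⊗[R] S → S` is flat. -/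
theorem flat_lmul'_of_flat_diagonal {R S : CommRingCat.{u}} (φ : R ⟶ S)
    (h : Flat (pullback.diagonal (Spec.map φ))) :
    letI := φ.hom.toAlgebra; (Algebra.TensorProduct.lmul' R (S := S)).toRingHom.Flat := by
  letI : Algebra R S := φ.hom.toAlgebra
  have e : φ = CommRingCat.ofHom (algebraMap R S) := rfl
  rw [e, diagonal_SpecMap R S, MorphismProperty.cancel_right_of_respectsIso (P := @Flat)] at h
  exact (HasRingHomProperty.Spec_iff (P := @Flat)).1 h

open AlgebraicGeometry CategoryTheory Limits in
/-- Let f : X → Y have flat diagonal and let F be an O_X-module flat over Y. Then F is flat as an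
O_X-module. -/
theorem result {X Y : Scheme.{u}} (f : X ⟶ Y) [Flat (pullback.diagonal f)] (F : X.Modules)
    (hF : FlatMod.IsFlatOver f F) : FlatMod.IsFlat F := by
  intro x
  -- affine neighbourhoods
  obtain ⟨V, hV, hyV, -⟩ := TopologicalSpace.Opens.isBasis_iff_nbhd.mp Y.isBasis_affineOpens
    (show f x ∈ (⊤ : Y.Opens) from trivial)
  obtain ⟨U, hU, hxU, hUV⟩ := TopologicalSpace.Opens.isBasis_iff_nbhd.mp X.isBasis_affineOpens
    (show x ∈ f ⁻¹ᵁ V from hyV)
  -- the diagonal of the restriction is flat
  have hP : (MorphismProperty.diagonal @Flat) f := ‹Flat (pullback.diagonal f)›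
  have hP' : (MorphismProperty.diagonal @Flat) (f.resLE V U hUV) :=
    IsZariskiLocalAtSource.resLE (P := MorphismProperty.diagonal @Flat) hUV hP
  haveI : IsAffine (↑U : Scheme) := hU
  haveI : IsAffine (↑V : Scheme) := hV
  have hP'' : (MorphismProperty.diagonal @Flat) (Spec.map (f.appLE V U hUV)) := by
    have h1 := (MorphismProperty.arrow_mk_iso_iff (MorphismProperty.diagonal @Flat)
      (arrowIsoSpecΓOfIsAffine (f.resLE V U hUV))).1 hP'
    have hw : (f.resLE V U hUV).appTop = (Scheme.Opens.topIso V).hom ≫ f.appLE V U hUV ≫ (Scheme.Opens.topIso U).inv := by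
      have := (arrowResLEAppIso f V U hUV).hom.w
      simp only [arrowResLEAppIso, Arrow.isoMk_hom_left, Arrow.isoMk_hom_right, Arrow.mk_hom] at this
      rw [← Category.assoc, this, Category.assoc, Iso.hom_inv_id, Category.comp_id]
    rw [hw, Spec.map_comp, Spec.map_comp, Category.assoc,
      MorphismProperty.cancel_left_of_respectsIso (MorphismProperty.diagonal @Flat),
      MorphismProperty.cancel_right_of_respectsIso (MorphismProperty.diagonal @Flat)] at h1
    exact h1
  have hdiag := flat_lmul'_of_flat_diagonal (f.appLE V U hUV) hP''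
  refine flat_of_localizations (f.appLE V U hUV).hom (Y.presheaf.germ V (f x) hyV).hom
    (X.presheaf.germ U x hxU).hom (f.stalkMap x).hom ?_
    (hV.primeIdealOf ⟨f x, hyV⟩).asIdeal.primeCompl (hV.isLocalization_stalk ⟨f x, hyV⟩)
    (hU.primeIdealOf ⟨x, hxU⟩).asIdeal.primeCompl (hU.isLocalization_stalk ⟨x, hxU⟩)
    hdiag (hF x)
  rw [← CommRingCat.hom_comp, ← CommRingCat.hom_comp]
  congr 1
  simp only [Scheme.Hom.appLE, Category.assoc, X.presheaf.germ_res', Scheme.Hom.germ_stalkMap]

end Groth.Agent.S7177
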