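import Groth.Statements.S7179
import Groth.Agent.Lib.AbsFlat
import Mathlib.AlgebraicGeometry.Morphisms.WeaklyEtale
-- import your own Groth.Agent.* helpers here

set_option autoImplicit false
universe u
open FlatMor

namespace Groth.Agent.S7179


set_option backward.isDefEq.respectTransparency.types false in
open AlgebraicGeometry CategoryTheory Limits MorphismProperty in
/-- (copied from helper59's S7178) -/
lemma weaklyEtale_SpecMap_iff {R S : Type u} [CommRing R] [CommRing S] [Algebra R S] :
    WeaklyEtale (Spec.map (CommRingCat.ofHom (algebraMap R S))) ↔ Algebra.WeaklyEtale R S := by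
  rw [weaklyEtale_iff, Algebra.weaklyEtale_iff, Flat.SpecMap_iff, diagonal_SpecMap R S,
    cancel_right_of_respectsIso (P := @Flat), Flat.SpecMap_iff]
  simp only [autoParam, CommRingCat.hom_ofHom, RingHom.flat_algebraMap_iff]


open AlgebraicGeometry CategoryTheory Limits in
/-- The source of a weakly étale morphism with reduced target is reduced. -/
theorem result {X Y : Scheme.{u}} (f : X ⟶ Y) [WeaklyEtale f] [IsReduced Y] : IsReduced X := by
  have hP := HasRingHomProperty.of_isZariskiLocalAtSource_of_isZariskiLocalAtTarget @WeaklyEtale.{u}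
  have key : ∀ (U : X.affineOpens) (V : Y.affineOpens) (e : U.1 ≤ f ⁻¹ᵁ V.1),
      _root_.IsReduced Γ(X, U.1) := by
    intro U V e
    have h1 := (HasRingHomProperty.iff_appLE (P := @WeaklyEtale)).mp ‹WeaklyEtale f› V U e
    letI := (f.appLE V.1 U.1 e).hom.toAlgebra
    have h2 : Algebra.WeaklyEtale Γ(Y, V.1) Γ(X, U.1) := weaklyEtale_SpecMap_iff.mp h1
    exact Groth.Agent.Lib.AbsFlat.isReduced_of_weaklyEtale Γ(Y, V.1) Γ(X, U.1)
  have hst : ∀ x : X, _root_.IsReduced (X.presheaf.stalk x) := by
    intro x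
    obtain ⟨_, ⟨V, hV, rfl⟩, hfxV, -⟩ :=
      Y.isBasis_affineOpens.exists_subset_of_mem_open (Set.mem_univ (f x)) isOpen_univ
    obtain ⟨_, ⟨U, hU, rfl⟩, hxU, hUV⟩ :=
      X.isBasis_affineOpens.exists_subset_of_mem_open
        (show x ∈ ((f ⁻¹ᵁ V : X.Opens) : Set X) from hfxV) (f ⁻¹ᵁ V).isOpen
    have hred := key ⟨U, hU⟩ ⟨V, hV⟩ hUV
    letI : Algebra Γ(X, U) (X.presheaf.stalk x) := (X.presheaf.germ U x hxU).hom.toAlgebra
    have := hU.isLocalization_stalk ⟨x, hxU⟩
    exact isReduced_localizationPreserves (hU.primeIdealOf ⟨x, hxU⟩).asIdeal.primeCompl _ hred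
  exact isReduced_of_isReduced_stalk X

end Groth.Agent.S7179
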