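import Groth.Statements.S7180
import Groth.Agent.Lib.WEtaleNormalLocal22
import Mathlib.AlgebraicGeometry.Morphisms.WeaklyEtale

set_option autoImplicit false
universe u
open FlatMor

namespace Groth.Agent.S7180

set_option backward.isDefEq.respectTransparency.types false in
open AlgebraicGeometry CategoryTheory Limits MorphismProperty in
/-- (copied from helper59's S7178) -/
lemma weaklyEtale_SpecMap_iff {R S : Type u} [CommRing R] [CommRing S] [Algebra R S] :
    WeaklyEtale (Spec.map (CommRingCat.ofHom (algebraMap R S))) ↔ Algebra.WeaklyEtale R S := by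
  rw [weaklyEtale_iff, Algebra.weaklyEtale_iff, Flat.SpecMap_iff, diagonal_SpecMap R S,
    cancel_right_of_respectsIso (P := @Flat), Flat.SpecMap_iff]
  simp only [autoParam, CommRingCat.hom_ofHom, RingHom.flat_algebraMap_iff]


open AlgebraicGeometry CategoryTheory Limits in
/-- The source of a weakly étale morphism with normal target (all local rings integrally closed domains)
is normal. -/
theorem result {X Y : Scheme.{u}} (f : X ⟶ Y) [WeaklyEtale f] (hY : Pi1.IsNormalScheme Y) :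
    Pi1.IsNormalScheme X := by
  intro x
  obtain ⟨_, ⟨V, hV, rfl⟩, hfxV, -⟩ :=
    Y.isBasis_affineOpens.exists_subset_of_mem_open (Set.mem_univ (f x)) isOpen_univ
  obtain ⟨_, ⟨U, hU, rfl⟩, hxU, hUV⟩ :=
    X.isBasis_affineOpens.exists_subset_of_mem_open
      (show x ∈ ((f ⁻¹ᵁ V : X.Opens) : Set X) from hfxV) (f ⁻¹ᵁ V).isOpen
  have hP := HasRingHomProperty.of_isZariskiLocalAtSource_of_isZariskiLocalAtTarget @WeaklyEtale.{u}
  have h1 := (HasRingHomProperty.iff_appLE (P := @WeaklyEtale)).mp ‹WeaklyEtale f›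
    ⟨V, hV⟩ ⟨U, hU⟩ hUV
  letI algRS : Algebra Γ(Y, V) Γ(X, U) := (f.appLE V U hUV).hom.toAlgebra
  have h2 : Algebra.WeaklyEtale Γ(Y, V) Γ(X, U) := weaklyEtale_SpecMap_iff.mp h1
  letI algSB : Algebra Γ(X, U) (X.presheaf.stalk x) := (X.presheaf.germ U x hxU).hom.toAlgebra
  letI algRA : Algebra Γ(Y, V) (Y.presheaf.stalk (f x)) :=
    (Y.presheaf.germ V (f x) hfxV).hom.toAlgebra
  letI algAB : Algebra (Y.presheaf.stalk (f x)) (X.presheaf.stalk x) :=
    (f.stalkMap x).hom.toAlgebra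
  letI algRB : Algebra Γ(Y, V) (X.presheaf.stalk x) :=
    ((algebraMap Γ(X, U) (X.presheaf.stalk x)).comp (algebraMap Γ(Y, V) Γ(X, U))).toAlgebra
  haveI : IsScalarTower Γ(Y, V) Γ(X, U) (X.presheaf.stalk x) :=
    IsScalarTower.of_algebraMap_eq fun _ => rfl
  haveI : IsScalarTower Γ(Y, V) (Y.presheaf.stalk (f x)) (X.presheaf.stalk x) := by
    refine IsScalarTower.of_algebraMap_eq fun r => ?_
    simp only [RingHom.algebraMap_toAlgebra, Scheme.Hom.germ_stalkMap_apply, Scheme.Hom.appLE,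
      homOfLE_leOfHom, CommRingCat.hom_comp, RingHom.coe_comp, Function.comp_apply,
      X.presheaf.germ_res_apply]
  haveI locX := hU.isLocalization_stalk ⟨x, hxU⟩
  haveI locY := hV.isLocalization_stalk ⟨f x, hfxV⟩
  haveI : Algebra.WeaklyEtale (Y.presheaf.stalk (f x)) (X.presheaf.stalk x) :=
    Groth.Agent.Lib.WEtaleNormalLocal22.weaklyEtale_localization_of_weaklyEtale Γ(Y, V) Γ(X, U)
      (Y.presheaf.stalk (f x)) (X.presheaf.stalk x)
      (hV.primeIdealOf ⟨f x, hfxV⟩).asIdeal.primeCompl (hU.primeIdealOf ⟨x, hxU⟩).asIdeal.primeCompl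
  obtain ⟨hd, hic⟩ := hY (f x)
  exact Groth.Agent.Lib.WEtaleNormalLocal22.isDomain_and_isIntegrallyClosed_of_weaklyEtale
    (Y.presheaf.stalk (f x)) (X.presheaf.stalk x)
    (fun e he => Groth.Agent.Lib.WEtaleNormalLocal22.eq_zero_or_eq_one_of_isLocalRing e he)

end Groth.Agent.S7180
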