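import Groth.Statements.S7182
import Groth.Agent.Lib.Ferrand24i

set_option autoImplicit false
universe u
open FlatMor

namespace Groth.Agent.S7182

open Groth.Agent.Lib.Ferrand24 in
open AlgebraicGeometry CategoryTheory Limits in
/-- In the pushout P = Y ⨿_Z X of a closed immersion i : Z → X and an integral morphism j : Z → Y over a
locally Noetherian base S (each fibre of j inside the preimage of an affine open of X), when X, Y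
and Z are each locally of finite type over S, the pushout P is locally of finite type over S as
well. -/
theorem result {X Y Z P S : Scheme.{u}} (i : Z ⟶ X) (j : Z ⟶ Y) [IsClosedImmersion i] [IsIntegralHom j]
    (haff : ∀ y : Y, ∃ U : X.Opens, IsAffineOpen U ∧ j ⁻¹' {y} ⊆ (i ⁻¹ᵁ U : Set ↑Z))
    (a : X ⟶ P) (b : Y ⟶ P) (hP : IsPushout i j a b) (p : X ⟶ S) (q : Y ⟶ S) (r : P ⟶ S)
    (hp : a ≫ r = p) (hq : b ≫ r = q) [IsLocallyNoetherian S]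
    [LocallyOfFiniteType p] [LocallyOfFiniteType q] [LocallyOfFiniteType (j ≫ q)] : LocallyOfFiniteType r := by
  obtain ⟨hX, hY⟩ := exists_charts i j haff
  obtain ⟨-, hb, hjs, -, haint⟩ := props_of_isPushout_of_charts hX hY hP
  haveI : IsClosedImmersion b := hb
  haveI : IsIntegralHom a := haint inferInstance
  apply of_source_charts
  intro w
  obtain ⟨_, ⟨U, hU, rfl⟩, hwU, -⟩ :=
    S.isBasis_affineOpens.exists_subset_of_mem_open (Set.mem_univ (r w)) isOpen_univ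
  obtain ⟨_, ⟨Ω, hΩ, rfl⟩, hwΩ, hΩU⟩ :=
    P.isBasis_affineOpens.exists_subset_of_mem_open (show w ∈ r ⁻¹ᵁ U from hwU) (r ⁻¹ᵁ U).2
  have hk : i ⁻¹ᵁ a ⁻¹ᵁ Ω = j ⁻¹ᵁ b ⁻¹ᵁ Ω := by
    rw [← Scheme.Hom.comp_preimage, ← Scheme.Hom.comp_preimage, hP.w]
  have hG : IsAffineOpen (a ⁻¹ᵁ Ω) := hΩ.preimage a
  have hH : IsAffineOpen (b ⁻¹ᵁ Ω) := hΩ.preimage b
  have hGU : a ⁻¹ᵁ Ω ≤ p ⁻¹ᵁ U := by
    intro x hx
    have h1 : r (a x) ∈ U := hΩU hx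
    have h2 : p x = r (a x) := (congr($hp x)).symm
    show p x ∈ U
    rw [h2]
    exact h1
  have hHU : b ⁻¹ᵁ Ω ≤ q ⁻¹ᵁ U := by
    intro y hy
    have h1 : r (b y) ∈ U := hΩU hy
    have h2 : q y = r (b y) := (congr($hq y)).symm
    show q y ∈ U
    rw [h2]
    exact h1
  obtain ⟨e, he, hae, hbe, hxa, htb⟩ :=
    chart_of_pair hX hY hP (⟨a ⁻¹ᵁ Ω, b ⁻¹ᵁ Ω, hk⟩ : Pair i j) hG hH
  refine ⟨_, e, he, ?_, chart_locallyOfFiniteType p q r hp hq hjs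
    (⟨a ⁻¹ᵁ Ω, b ⁻¹ᵁ Ω, hk⟩ : Pair i j) hG hH U hU hGU hHU e hae hbe hxa htb⟩
  rcases hjs w with ⟨x, rfl⟩ | ⟨y, rfl⟩
  · exact ⟨chartA (⟨a ⁻¹ᵁ Ω, b ⁻¹ᵁ Ω, hk⟩ : Pair i j) hG ⟨x, hwΩ⟩, (congr($hae ⟨x, hwΩ⟩)).symm⟩
  · exact ⟨chartB (⟨a ⁻¹ᵁ Ω, b ⁻¹ᵁ Ω, hk⟩ : Pair i j) hH ⟨y, hwΩ⟩, (congr($hbe ⟨y, hwΩ⟩)).symm⟩

end Groth.Agent.S7182
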