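import Groth.Statements.S7185
-- import your own Groth.Agent.* helpers here

set_option autoImplicit false
universe u
open FlatMor

namespace Groth.Agent.S7185

open AlgebraicGeometry CategoryTheory Limits in
theorem finSep_iso {U U' V : Scheme.{u}} (e : U' ≅ U) (π : U ⟶ V) (u' : U') :
    (letI := ((e.hom ≫ π).residueFieldMap u').hom.toAlgebra;
      Field.finSepDegree (V.residueField ((e.hom ≫ π) u')) (U'.residueField u')) =
    (letI := (π.residueFieldMap (e.hom u')).hom.toAlgebra;
      Field.finSepDegree (V.residueField (π (e.hom u'))) (U.residueField (e.hom u'))) := by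
  let a1 : Algebra (V.residueField (π (e.hom u'))) (U'.residueField u') :=
    ((e.hom ≫ π).residueFieldMap u').hom.toAlgebra
  let a2 : Algebra (V.residueField (π (e.hom u'))) (U.residueField (e.hom u')) :=
    (π.residueFieldMap (e.hom u')).hom.toAlgebra
  have hiso : IsIso (e.hom.residueFieldMap u') := inferInstance
  let φ : U.residueField (e.hom u') ≃+* U'.residueField u' :=
    (asIso (e.hom.residueFieldMap u')).commRingCatIsoToRingEquiv
  let ψ : U.residueField (e.hom u') ≃ₐ[V.residueField (π (e.hom u'))] U'.residueField u' :=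
    { φ with
      commutes' := fun r => by
        change (e.hom.residueFieldMap u') ((π.residueFieldMap (e.hom u')) r) = ((e.hom ≫ π).residueFieldMap u') r
        rw [Scheme.residueFieldMap_comp]
        rfl }
  exact (Field.finSepDegree_eq_of_equiv _ _ _ ψ).symm

open AlgebraicGeometry CategoryTheory Limits in
theorem fibreIntegral_iso {U U' V : Scheme.{u}} (e : U' ≅ U) (π : U ⟶ V) (w : U → ℤ) (v : V) :
    MoreMor.fibreIntegral (e.hom ≫ π) (fun u' => w (e.hom u')) v = MoreMor.fibreIntegral π w v := by
  unfold MoreMor.fibreIntegral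
  let E : {u' : U' // (e.hom ≫ π) u' = v} ≃ {u : U // π u = v} :=
    { toFun := fun u' => ⟨e.hom u'.1, by simpa using u'.2⟩
      invFun := fun u => ⟨e.inv u.1, by simp [u.2]⟩
      left_inv := fun u' => by
        ext
        simp
      right_inv := fun u => by
        ext
        simp }
  rw [← finsum_comp_equiv E]
  refine finsum_congr fun u' => ?_
  congr 1
  exact congrArg _ (finSep_iso e π u'.1)

open AlgebraicGeometry CategoryTheory Limits in
/-- The restriction of a weighting of a locally quasi-finite morphism f : X → Y (locally of finite type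
with discrete fibres) to an open subscheme X' of X is a weighting of X' → Y. -/
theorem result {X Y : Scheme.{u}} (f : X ⟶ Y) [LocallyQuasiFinite f] [LocallyOfFiniteType f] (w : X → ℤ)
    (hw : MoreMor.IsWeighting f w) (X' : X.Opens) : MoreMor.IsWeighting (X'.ι ≫ f) (fun x => w (X'.ι x)) := by
  intro V g _ U' hfin
  -- the open immersion `j : X' ×_Y V ⟶ X ×_Y V`
  let j : pullback (X'.ι ≫ f) g ⟶ pullback f g :=
    pullback.lift (pullback.fst (X'.ι ≫ f) g ≫ X'.ι) (pullback.snd (X'.ι ≫ f) g)
      (by rw [Category.assoc, pullback.condition])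
  have hj1 : j ≫ pullback.fst f g = pullback.fst (X'.ι ≫ f) g ≫ X'.ι := pullback.lift_fst _ _ _
  have hj2 : j ≫ pullback.snd f g = pullback.snd (X'.ι ≫ f) g := pullback.lift_snd _ _ _
  have hpb : IsPullback j (pullback.fst (X'.ι ≫ f) g) (pullback.fst f g) X'.ι := by
    refine IsPullback.of_right ?_ hj1 (IsPullback.of_hasPullback f g).flip
    rw [hj2]
    exact (IsPullback.of_hasPullback (X'.ι ≫ f) g).flip
  have hjo : IsOpenImmersion j := MorphismProperty.of_isPullback hpb.flip inferInstance
  let U : (pullback f g).Opens := j ''ᵁ U'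
  let e : (U' : Scheme.{u}) ≅ (U : Scheme.{u}) := j.isoImage U'
  have he : e.hom ≫ U.ι = U'.ι ≫ j := j.isoImage_hom_ι U'
  have hπ : U'.ι ≫ pullback.snd (X'.ι ≫ f) g = e.hom ≫ (U.ι ≫ pullback.snd f g) := by
    rw [← Category.assoc, he, Category.assoc, hj2]
  have hfin' : IsFinite (U.ι ≫ pullback.snd f g) := by
    have : U.ι ≫ pullback.snd f g = e.inv ≫ (U'.ι ≫ pullback.snd (X'.ι ≫ f) g) := by
      rw [hπ, Iso.inv_hom_id_assoc]
    rw [this]
    infer_instance
  have key := hw V g U hfin'
  have h3 : (U'.ι ≫ pullback.fst (X'.ι ≫ f) g) ≫ X'.ι = e.hom ≫ U.ι ≫ pullback.fst f g := by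
    rw [← Category.assoc e.hom, he, Category.assoc, Category.assoc, hj1]
  have hw' : (fun u : (U' : Scheme.{u}) => w (X'.ι (pullback.fst (X'.ι ≫ f) g (U'.ι u)))) =
      fun u => (fun u : (U : Scheme.{u}) => w (pullback.fst f g (U.ι u))) (e.hom u) := by
    funext u
    simp only
    congr 1
    have := congr($h3 u)
    simpa using this
  rw [hπ]
  change IsLocallyConstant (MoreMor.fibreIntegral (e.hom ≫ U.ι ≫ pullback.snd f g)
    (fun u : (U' : Scheme.{u}) => w (X'.ι (pullback.fst (X'.ι ≫ f) g (U'.ι u)))))
  rw [hw']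
  have : MoreMor.fibreIntegral (e.hom ≫ U.ι ≫ pullback.snd f g)
      (fun u => (fun u : (U : Scheme.{u}) => w (pullback.fst f g (U.ι u))) (e.hom u)) =
      MoreMor.fibreIntegral (U.ι ≫ pullback.snd f g)
        (fun u : (U : Scheme.{u}) => w (pullback.fst f g (U.ι u))) := by
    funext v
    exact fibreIntegral_iso e (U.ι ≫ pullback.snd f g)
      (fun u : (U : Scheme.{u}) => w (pullback.fst f g (U.ι u))) v
  rw [this]
  exact key

end Groth.Agent.S7185
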