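import Groth.Statements.S7190
import Groth.Agent.Lib.PhRefine33b

set_option autoImplicit false
universe w u
open FlatMor

namespace Groth.Agent.S7190

open AlgebraicGeometry CategoryTheory Limits in
/-- An fppf covering {T_i → T} of schemes (flat, locally of finite presentation, jointly surjective) is
a ph covering. -/
theorem result {T : Scheme.{u}} (E : PreZeroHypercover.{w} T)
    (hflat : ∀ i, Flat (E.f i)) (hfp : ∀ i, LocallyOfFinitePresentation (E.f i))
    (hsurj : ∀ t : T, ∃ (i : E.I₀) (x : E.X i), E.f i x = t) : HTop.IsPhCover E := by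
  classical
  refine ⟨fun i => ?_, fun U => ?_⟩
  · have := hfp i
    infer_instance
  · have hUaff : IsAffine (((U : T.Opens)) : Scheme.{u}) := U.2
    obtain ⟨P, p, hp, hps, hloc⟩ :=
      Groth.Agent.Lib.PhRefine33.good_of_fppf hflat hfp hsurj (U : T.Opens).ι
    have hPaff : IsAffine P := isAffine_of_isAffineHom p
    have h' : ∀ y : P, ∃ W : P.Opens, IsAffineOpen W ∧ y ∈ W ∧ ∃ (i : E.I₀)
        (h : (W : Scheme.{u}) ⟶ E.X i), h ≫ E.f i = W.ι ≫ p ≫ (U : T.Opens).ι := by
      intro y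
      obtain ⟨W, i, h, hy, hh⟩ := hloc y
      obtain ⟨W', hW', hyW', hle⟩ := exists_isAffineOpen_mem_and_subset hy
      exact ⟨W', hW', hyW', i, P.homOfLE hle ≫ h, by
        rw [Category.assoc, hh, Scheme.homOfLE_ι_assoc]⟩
    choose W hWaff hyW i h hh using h'
    obtain ⟨t, ht⟩ := isCompact_univ.elim_finite_subcover (fun y => (W y : Set P))
      (fun y => (W y).isOpen) (fun y _ => Set.mem_iUnion.mpr ⟨y, hyW y⟩)
    let F : PreZeroHypercover.{0} (((U : T.Opens)) : Scheme.{u}) :=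
      { I₀ := Fin t.card
        X := fun j => ((W (t.equivFin.symm j).1 : P.Opens) : Scheme.{u})
        f := fun j => (W (t.equivFin.symm j).1).ι ≫ p }
    refine ⟨F, ⟨hUaff, inferInstanceAs (Finite (Fin t.card)), fun j => hWaff _,
      ⟨P, p, fun j => (W (t.equivFin.symm j).1).ι, inferInstance, hps, fun j => inferInstance,
        fun j => rfl, fun x => ?_⟩⟩, fun j => ⟨i _, h _, hh _⟩⟩
    have hx : x ∈ ⋃ y ∈ t, (W y : Set P) := ht (Set.mem_univ x)
    obtain ⟨y, hyt, hxy⟩ := Set.mem_iUnion₂.mp hx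
    refine ⟨t.equivFin ⟨y, hyt⟩, ?_⟩
    change x ∈ Set.range ⇑(W (t.equivFin.symm (t.equivFin ⟨y, hyt⟩)).1).ι
    rw [Equiv.symm_apply_apply]
    exact ⟨⟨x, hxy⟩, rfl⟩

end Groth.Agent.S7190
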