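import Groth.Statements.S7193
import Mathlib
import Groth.Agent.Lib.WeilResGeom37

set_option autoImplicit false
universe u
open CategoryTheory AlgebraicGeometry
open FlatMor

namespace Groth.Agent.S7193

/-- Let Z, X and S be affine schemes with morphisms Z → S and X → S, and suppose Γ(Z, O_Z) is a finite
free Γ(S, O_S)-module; then the functor Mor_S(Z, X) on schemes over S is represented by some scheme
W over S with W affine. -/
theorem result {Z X S : Scheme.{u}} [IsAffine Z] [IsAffine X] [IsAffine S] (g : Z ⟶ S) (f : X ⟶ S)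
    (hfree : letI := (g.appTop).hom.toAlgebra
      Module.Finite Γ(S, ⊤) Γ(Z, ⊤) ∧ Module.Free Γ(S, ⊤) Γ(Z, ⊤)) :
    ∃ W : Over S, IsAffine W.left ∧ Nonempty ((Flatn.morS g f).RepresentableBy W) := by
  letI algZ : Algebra Γ(S, ⊤) Γ(Z, ⊤) := (g.appTop).hom.toAlgebra
  letI algX : Algebra Γ(S, ⊤) Γ(X, ⊤) := (f.appTop).hom.toAlgebra
  obtain ⟨hfin, hfr⟩ := hfree
  haveI := hfin
  haveI := hfr
  exact Groth.Agent.Lib.WeilResGeom37.main g f
    (Module.Free.chooseBasis Γ(S, ⊤) Γ(Z, ⊤)) rfl rfl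

end Groth.Agent.S7193
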