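import Groth.Statements.S7199
import Groth.Agent.Lib.FTDim
import Mathlib.RingTheory.KrullDimension.Polynomial
import Mathlib.RingTheory.Ideal.KrullsHeightTheorem
import Mathlib.RingTheory.AlgebraicIndependent.Basic
import Mathlib.Algebra.MvPolynomial.Equiv
import Mathlib.Algebra.MvPolynomial.Monad
import Mathlib.Algebra.Polynomial.Div

set_option autoImplicit false
universe u
open FlatMor

namespace Groth.Agent.S7199

/-- If a prime is minimal over `(g₀, g₁)` and `g₀, g₁` are algebraically dependent over the field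
`k`, then the prime has height at most one. -/
theorem height_le_one_of_dependent {k A : Type u} [Field k] [CommRing A] [IsDomain A] [Algebra k A]
    [Algebra.FiniteType k A] (g₀ g₁ : A) (p : Ideal A)
    (hp : p ∈ (Ideal.span {g₀, g₁}).minimalPrimes)
    (hdep : ¬ AlgebraicIndependent k ![g₀, g₁]) : p.height ≤ 1 := by
  haveI : IsNoetherianRing A := Algebra.FiniteType.isNoetherianRing k A
  haveI : p.IsPrime := hp.1.1
  have hg₀ : g₀ ∈ p := hp.1.2 (Ideal.subset_span (by simp))
  have hg₁ : g₁ ∈ p := hp.1.2 (Ideal.subset_span (by simp))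
  set θ : MvPolynomial (Fin 2) k →ₐ[k] A := MvPolynomial.aeval ![g₀, g₁] with hθ
  rw [algebraicIndependent_iff] at hdep
  push Not at hdep
  obtain ⟨P, hP0, hPne⟩ := hdep
  -- the image of `θ` has dimension at most one
  have hdimC : ringKrullDim θ.range ≤ 1 := by
    have h1 := ringKrullDim_succ_le_of_surjective (θ.rangeRestrict : MvPolynomial (Fin 2) k →+* θ.range)
      θ.rangeRestrict_surjective (r := P) (mem_nonZeroDivisors_of_ne_zero hPne)
      (Subtype.ext (by simpa using hP0))
    have h2 : ringKrullDim (MvPolynomial (Fin 2) k) = 2 := by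
      rw [MvPolynomial.ringKrullDim_of_isNoetherianRing, ringKrullDim_eq_zero_of_field]
      simp
    rw [h2] at h1
    have h3 : (0 : WithBot ℕ∞) ≤ ringKrullDim θ.range := ringKrullDim_nonneg_of_nontrivial
    revert h1 h3
    generalize ringKrullDim θ.range = d
    intro h1 h3
    induction d with
    | bot => simp at h3
    | coe d =>
      have h5 : ((d + 1 : ℕ∞) : WithBot ℕ∞) ≤ ((2 : ℕ∞) : WithBot ℕ∞) := by
        simpa using h1
      rw [WithBot.coe_le_coe] at h5
      have h4 : d ≤ 1 := by
        have : d + 1 ≤ 1 + 1 := by simpa [one_add_one_eq_two] using h5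
        exact (ENat.add_le_add_iff_right ENat.one_ne_top).mp this
      exact_mod_cast h4
  haveI : Ring.KrullDimLE 1 θ.range := (Ring.krullDimLE_iff).mpr hdimC
  -- the contraction of `p` to the image
  set 𝔬 : Ideal θ.range := p.comap (θ.range.val : θ.range →+* A) with h𝔬
  haveI : 𝔬.IsPrime := Ideal.comap_isPrime _ p
  have hy₀ : (⟨g₀, ⟨MvPolynomial.X 0, by simp [hθ]⟩⟩ : θ.range) ∈ 𝔬 := hg₀
  have hy₁ : (⟨g₁, ⟨MvPolynomial.X 1, by simp [hθ]⟩⟩ : θ.range) ∈ 𝔬 := hg₁
  by_cases hbot : 𝔬 = ⊥
  · -- then `g₀ = g₁ = 0` and `p = ⊥`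
    have e₀ : g₀ = 0 := by
      have := hy₀; rw [hbot, Ideal.mem_bot] at this; exact congrArg Subtype.val this
    have e₁ : g₁ = 0 := by
      have := hy₁; rw [hbot, Ideal.mem_bot] at this; exact congrArg Subtype.val this
    have hspan : Ideal.span {g₀, g₁} = (⊥ : Ideal A) := by
      rw [e₀, e₁]; simp
    have hpbot : p = ⊥ := by
      refine le_antisymm ?_ bot_le
      exact hp.2 ⟨Ideal.isPrime_bot, by rw [hspan]⟩ bot_le
    rw [hpbot, Ideal.height_bot]
    exact zero_le
  · obtain ⟨h, hh𝔬, hh0⟩ := Submodule.exists_mem_ne_zero_of_ne_bot hbot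
    have ha : (h : A) ∈ p := hh𝔬
    refine Ideal.height_le_one_of_isPrincipal_of_mem_minimalPrimes (Ideal.span {(h : A)}) p ?_
    refine ⟨⟨inferInstance, (Ideal.span_singleton_le_iff_mem _).mpr ha⟩, ?_⟩
    rintro p' ⟨hp'prime, hp'le⟩ hp'p
    haveI := hp'prime
    set 𝔬' : Ideal θ.range := p'.comap (θ.range.val : θ.range →+* A) with h𝔬'
    haveI : 𝔬'.IsPrime := Ideal.comap_isPrime _ p'
    have hh' : h ∈ 𝔬' := hp'le (Ideal.mem_span_singleton_self _)
    have h𝔬'ne : 𝔬' ≠ ⊥ := fun hb => hh0 (by rw [hb, Ideal.mem_bot] at hh'; exact hh')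
    have hmax : 𝔬'.IsMaximal := Ideal.IsPrime.isMaximal_of_ne_bot inferInstance h𝔬'ne
    have hle : 𝔬' ≤ 𝔬 := Ideal.comap_mono hp'p
    have heq : 𝔬' = 𝔬 := hmax.eq_of_le (Ideal.IsPrime.ne_top inferInstance) hle
    have hg₀' : g₀ ∈ p' := by
      have : (⟨g₀, ⟨MvPolynomial.X 0, by simp [hθ]⟩⟩ : θ.range) ∈ 𝔬' := heq ▸ hy₀
      exact this
    have hg₁' : g₁ ∈ p' := by
      have : (⟨g₁, ⟨MvPolynomial.X 1, by simp [hθ]⟩⟩ : θ.range) ∈ 𝔬' := heq ▸ hy₁
      exact this
    refine hp.2 ⟨hp'prime, ?_⟩ hp'p
    rw [Ideal.span_le]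
    rintro x (rfl | rfl)
    · exact hg₀'
    · exact hg₁'

theorem algebraicIndependent_of_dim {k A : Type u} [Field k] [CommRing A] [IsDomain A] [Algebra k A]
    [Algebra.FiniteType k A] (g₀ g₁ : A) (p : Ideal A)
    (hp : p ∈ (Ideal.span {g₀, g₁}).minimalPrimes)
    (hdim : ringKrullDim (A ⧸ p) + 2 = ringKrullDim A) : AlgebraicIndependent k ![g₀, g₁] := by
  by_contra hdep
  have h1 := height_le_one_of_dependent g₀ g₁ p hp hdep
  haveI : p.IsPrime := hp.1.1
  have h2 := Groth.Agent.Lib.FTDim.height_add_ringKrullDim_quotient k A p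
  obtain ⟨n, hn, -⟩ := Groth.Agent.Lib.FTDim.exists_ringKrullDim_eq k A
  have hd0 : (0 : WithBot ℕ∞) ≤ ringKrullDim (A ⧸ p) := ringKrullDim_nonneg_of_nontrivial
  rw [hn] at h2 hdim
  have hdne : ringKrullDim (A ⧸ p) ≠ ⊥ := fun h => by rw [h] at hd0; simp at hd0
  obtain ⟨d, hd⟩ := WithBot.ne_bot_iff_exists.mp hdne
  rw [← hd] at h2 hdim
  have e1 : (p.height + d : ℕ∞) = n := by exact_mod_cast h2
  have e2 : (d + 2 : ℕ∞) = n := by
    have : ((d + 2 : ℕ∞) : WithBot ℕ∞) = ((n : ℕ∞) : WithBot ℕ∞) := by
      rw [WithBot.coe_add]; exact hdim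
    exact WithBot.coe_injective this
  have hdtop : d ≠ ⊤ := by
    rintro rfl
    simp at e2
  have hhtop : p.height ≠ ⊤ := ne_top_of_le_ne_top ENat.one_ne_top h1
  lift d to ℕ using hdtop
  generalize p.height = h at *
  lift h to ℕ using hhtop
  norm_cast at e1 e2 h1
  omega

section AI
variable {k : Type*} [Field k]

/-- Variables together with algebraically independent constants are algebraically independent. -/
theorem algebraicIndependent_X_C {A : Type*} [CommRing A] [Algebra k A] {σ ι : Type*}
    (a : ι → A) (ha : AlgebraicIndependent k a) :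
    AlgebraicIndependent k (Sum.elim (MvPolynomial.X : σ → MvPolynomial σ A)
      (fun j => MvPolynomial.C (a j))) := by
  rw [algebraicIndependent_iff_injective_aeval]
  have heq : (MvPolynomial.aeval (Sum.elim (MvPolynomial.X : σ → MvPolynomial σ A)
      (fun j => MvPolynomial.C (a j))) : MvPolynomial (σ ⊕ ι) k →ₐ[k] MvPolynomial σ A) =
      (MvPolynomial.mapAlgHom (MvPolynomial.aeval a : MvPolynomial ι k →ₐ[k] A)).comp
        (MvPolynomial.sumAlgEquiv k σ ι).toAlgHom := by
    apply MvPolynomial.algHom_ext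
    rintro (i | j)
    · simp [MvPolynomial.sumAlgEquiv_X_inl]
    · simp [MvPolynomial.sumAlgEquiv_X_inr]
  rw [heq]
  have h1 : Function.Injective (MvPolynomial.mapAlgHom (σ := σ)
      (MvPolynomial.aeval a : MvPolynomial ι k →ₐ[k] A)) :=
    MvPolynomial.map_injective _ ((algebraicIndependent_iff_injective_aeval).mp ha)
  exact h1.comp (MvPolynomial.sumAlgEquiv k σ ι).injective

/-- One-step lemma: adjoining an element killed by an evaluation map. -/
theorem algebraicIndependent_option_of_eval {R' B : Type*} [CommRing R'] [IsDomain R'] [CommRing B]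
    [Algebra k R'] [Algebra k B] (ev : R' →ₐ[k] B) (t : R') (ht0 : t ≠ 0) (hev : ev t = 0)
    {S : Type*} (v : S → R') (hv : AlgebraicIndependent k (ev ∘ v)) :
    AlgebraicIndependent k (fun o : Option S => o.elim t v) := by
  rw [algebraicIndependent_iff]
  intro p hp
  by_contra hp0
  set q := MvPolynomial.optionEquivLeft k S p with hq
  have hq0 : q ≠ 0 := by
    rw [hq]; exact (map_ne_zero_iff _ (MvPolynomial.optionEquivLeft k S).injective).mpr hp0
  -- the evaluation map in terms of `q`
  have hfac : ∀ p' : MvPolynomial (Option S) k,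
      MvPolynomial.aeval (fun o : Option S => o.elim t v) p' =
        Polynomial.eval₂ (MvPolynomial.aeval v : MvPolynomial S k →ₐ[k] R').toRingHom t
          (MvPolynomial.optionEquivLeft k S p') := by
    intro p'
    induction p' using MvPolynomial.induction_on with
    | C a => simp [MvPolynomial.optionEquivLeft_C, MvPolynomial.algebraMap_eq]
    | add a b ha hb => rw [map_add, map_add, Polynomial.eval₂_add, ha, hb]
    | mul_X a o ha =>
      rw [map_mul, map_mul, Polynomial.eval₂_mul, ha]
      congr 1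
      cases o with
      | none => simp [MvPolynomial.optionEquivLeft_X_none]
      | some s => simp [MvPolynomial.optionEquivLeft_X_some]
  rw [hfac, ← hq] at hp
  obtain ⟨q', hqq', hq'⟩ := Polynomial.exists_eq_pow_rootMultiplicity_mul_and_not_dvd q hq0 0
  simp only [map_zero, sub_zero] at hqq' hq'
  rw [hqq', Polynomial.eval₂_mul, Polynomial.eval₂_pow, Polynomial.eval₂_X] at hp
  have hp' : Polynomial.eval₂ (MvPolynomial.aeval v : MvPolynomial S k →ₐ[k] R').toRingHom t q' = 0 := by
    rcases mul_eq_zero.mp hp with h | h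
    · exact absurd (eq_zero_of_pow_eq_zero h) ht0
    · exact h
  have h2 := congrArg ev hp'
  rw [map_zero] at h2
  have h3 : ev (Polynomial.eval₂ (MvPolynomial.aeval v : MvPolynomial S k →ₐ[k] R').toRingHom t q') =
      MvPolynomial.aeval (ev ∘ v) (q'.coeff 0) := by
    have := Polynomial.hom_eval₂ q' (MvPolynomial.aeval v : MvPolynomial S k →ₐ[k] R').toRingHom
      (ev : R' →+* B) t
    rw [show ev (Polynomial.eval₂ (MvPolynomial.aeval v : MvPolynomial S k →ₐ[k] R').toRingHom t q')
      = (ev : R' →+* B) (Polynomial.eval₂ (MvPolynomial.aeval v : MvPolynomial S k →ₐ[k] R').toRingHom t q')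
      from rfl, this]
    have hev' : (ev : R' →+* B) t = 0 := hev
    rw [hev', Polynomial.eval₂_at_zero]
    simp only [RingHom.coe_comp, Function.comp_apply]
    exact (MvPolynomial.comp_aeval_apply (f := v) ev (q'.coeff 0))
  rw [h3] at h2
  have h4 : q'.coeff 0 = 0 := (algebraicIndependent_iff.mp hv) _ h2
  exact hq' (Polynomial.X_dvd_iff.mpr h4)

open MvPolynomial in
/-- Core: in `A[x]`, the variables, the generic linear form `∑ gᵢ xᵢ` and `g_{i₁}` are algebraically
independent as soon as `g_{i₀}, g_{i₁}` are. -/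
theorem core {A : Type*} [CommRing A] [IsDomain A] [Algebra k A] {σ : Type*} [Fintype σ]
    [DecidableEq σ] (g : σ → A) (i₀ i₁ : σ) (hind : AlgebraicIndependent k ![g i₀, g i₁]) :
    AlgebraicIndependent k (Sum.elim (X : σ → MvPolynomial σ A)
      ![∑ i, C (g i) * X i, C (g i₁)]) := by
  classical
  set G : MvPolynomial σ A := ∑ i, C (g i) * X i with hG
  set pt : σ → k := Pi.single i₀ 1 with hpt
  -- expansion around the point `pt`
  let μ : MvPolynomial σ A →ₐ[A] Polynomial (MvPolynomial σ A) :=
    aeval (fun i => Polynomial.C (C (algebraMap k A (pt i))) + Polynomial.X * Polynomial.C (X i))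
  let μk : MvPolynomial σ A →ₐ[k] Polynomial (MvPolynomial σ A) := μ.restrictScalars k
  let ev : Polynomial (MvPolynomial σ A) →ₐ[k] MvPolynomial σ A :=
    (Polynomial.aeval (0 : MvPolynomial σ A)).restrictScalars k
  let v : σ ⊕ Fin 2 → Polynomial (MvPolynomial σ A) :=
    Sum.elim (fun i => Polynomial.C (X i))
      ![Polynomial.C (C (g i₀)) + Polynomial.X * Polynomial.C G, Polynomial.C (C (g i₁))]
  have hv : AlgebraicIndependent k (ev ∘ v) := by
    have : ev ∘ v = Sum.elim (X : σ → MvPolynomial σ A) (fun j => C (![g i₀, g i₁] j)) := by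
      funext j
      rcases j with i | j
      · simp [ev, v]
      · fin_cases j <;> simp [ev, v]
    rw [this]
    exact algebraicIndependent_X_C _ hind
  have hu := algebraicIndependent_option_of_eval ev Polynomial.X Polynomial.X_ne_zero
    (by simp [ev]) v hv
  set u : Option (σ ⊕ Fin 2) → Polynomial (MvPolynomial σ A) :=
    fun o => o.elim Polynomial.X v with hu_def
  have hμG : μ G = Polynomial.C (C (g i₀)) + Polynomial.X * Polynomial.C G := by
    simp only [hG, map_sum, map_mul, μ, aeval_X]
    have hC : ∀ i, (aeval (fun i => Polynomial.C (C (algebraMap k A (pt i))) +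
        Polynomial.X * Polynomial.C (X i)) : MvPolynomial σ A →ₐ[A] _) (C (g i)) =
        Polynomial.C (C (g i)) := by
      intro i
      rw [← algebraMap_eq, AlgHom.commutes]
      rfl
    simp only [hC, mul_add, Finset.sum_add_distrib]
    congr 1
    · rw [Finset.sum_eq_single i₀]
      · simp [hpt]
      · intro b _ hb
        simp [hpt, Pi.single_eq_of_ne hb]
      · intro h; exact absurd (Finset.mem_univ _) h
    · rw [Finset.mul_sum]
      refine Finset.sum_congr rfl fun i _ => ?_
      ring
  rw [algebraicIndependent_iff]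
  intro P hP
  let F : σ ⊕ Fin 2 → MvPolynomial σ A := Sum.elim X ![G, C (g i₁)]
  let w : σ ⊕ Fin 2 → MvPolynomial (Option (σ ⊕ Fin 2)) k :=
    Sum.elim (fun i => C (pt i) + X none * X (some (Sum.inl i))) (fun j => X (some (Sum.inr j)))
  have h2 : ∀ j, μk (F j) = aeval u (w j) := by
    rintro (i | j)
    · simp [μk, μ, F, w, u, v, Polynomial.algebraMap_apply]
    · fin_cases j
      · simp [μk, F, w, u, v, hμG]
      · simp [μk, μ, F, w, u, v]
  have h1 : aeval (fun j => μk (F j)) P = 0 := by
    rw [← comp_aeval_apply, hP, map_zero]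
  have h3 : aeval u (bind₁ w P) = 0 := by
    rw [aeval_bind₁]
    simp_rw [← h2]
    exact h1
  have h4 : bind₁ w P = 0 := algebraicIndependent_iff.mp hu _ h3
  let ρ : MvPolynomial (Option (σ ⊕ Fin 2)) k →ₐ[k] MvPolynomial (σ ⊕ Fin 2) k :=
    aeval (fun o => o.elim 1 (Sum.elim (fun i => X (Sum.inl i) - C (pt i)) (fun j => X (Sum.inr j))))
  have h5 : ρ (bind₁ w P) = P := by
    rw [show ρ (bind₁ w P) = aeval (fun j => ρ (w j)) P from by
      simp only [ρ]; rw [aeval_bind₁]]
    have : (fun j => ρ (w j)) = X := by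
      funext j
      rcases j with i | j
      · simp [ρ, w]
      · simp [ρ, w]
    rw [this, aeval_X_left_apply]
  rw [h4, map_zero] at h5
  exact h5.symm

end AI


/-- Take a field k, an integral domain A that is a finitely generated k-algebra, n ≥ 2 and g_1, …, g_n ∈
A, and suppose some irreducible component of the common zero locus of g_1 and g_2 in Spec A has
dimension dim A − 2. Then for suitable c_1, …, c_n ∈ k the n + 2 elements x_1, …, x_n, Σ g_i x_i, Σ
c_i g_i of the rational function field Frac(A)(x_1, …, x_n) form an algebraically independent family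
over k. -/
theorem result {k A : Type u} [Field k] [CommRing A] [IsDomain A] [Algebra k A]
    [Algebra.FiniteType k A] (m : ℕ) (g : Fin (m + 2) → A)
    (p : Ideal A) (hp : p ∈ (Ideal.span {g 0, g 1}).minimalPrimes) (hdim : ringKrullDim (A ⧸ p) + 2 = ringKrullDim A) :
    ∃ c : Fin (m + 2) → k,
      AlgebraicIndependent k
        (Sum.elim
          (fun i : Fin (m + 2) => algebraMap (MvPolynomial (Fin (m + 2)) (FractionRing A)) (FractionRing (MvPolynomial (Fin (m + 2)) (FractionRing A))) (MvPolynomial.X i))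
          ![∑ i, algebraMap A (FractionRing (MvPolynomial (Fin (m + 2)) (FractionRing A))) (g i) *
              algebraMap (MvPolynomial (Fin (m + 2)) (FractionRing A)) (FractionRing (MvPolynomial (Fin (m + 2)) (FractionRing A))) (MvPolynomial.X i),
            algebraMap A (FractionRing (MvPolynomial (Fin (m + 2)) (FractionRing A))) (∑ i, c i • g i)]) := by
  classical
  have hind := algebraicIndependent_of_dim (k := k) (g 0) (g 1) p hp hdim
  have hcore := core (k := k) g 0 1 hind
  refine ⟨Pi.single 1 1, ?_⟩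
  set K := FractionRing A
  set L := FractionRing (MvPolynomial (Fin (m + 2)) K)
  let f1 : MvPolynomial (Fin (m + 2)) A →ₐ[k] MvPolynomial (Fin (m + 2)) K :=
    MvPolynomial.mapAlgHom (IsScalarTower.toAlgHom k A K)
  let f2 : MvPolynomial (Fin (m + 2)) K →ₐ[k] L := IsScalarTower.toAlgHom k _ L
  have hf1 : Function.Injective f1 :=
    MvPolynomial.map_injective _ (IsFractionRing.injective A K)
  have hf2 : Function.Injective f2 := IsFractionRing.injective _ L
  have h := hcore.map' (f := f2.comp f1) (hf2.comp hf1)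
  have hA : ∀ a : A, algebraMap A L a =
      algebraMap (MvPolynomial (Fin (m + 2)) K) L (MvPolynomial.C (algebraMap A K a)) := by
    intro a
    rw [IsScalarTower.algebraMap_apply A (MvPolynomial (Fin (m + 2)) K) L,
      IsScalarTower.algebraMap_apply A K (MvPolynomial (Fin (m + 2)) K), MvPolynomial.algebraMap_eq]
  convert h using 1
  funext j
  rcases j with i | j
  · simp [f1, f2]
    rfl
  · fin_cases j
    · simp only [f1, f2, Function.comp_apply]
      simp [hA]
      rfl
    · simp only [f1, f2, Function.comp_apply]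
      simp [hA, Finset.sum_eq_single (1 : Fin (m + 2)), Pi.single_apply]
      rfl

end Groth.Agent.S7199
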