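import Groth.Statements.S7200
import Groth.Agent.Lib.Bertini57e
import Groth.Agent.Lib.H71SepClosedIrr
import Groth.Agent.Lib.H77GeomIrr
-- import your own Groth.Agent.* helpers here

set_option autoImplicit false
universe u
open FlatMor

namespace Groth.Agent.S7200

open AlgebraicGeometry in
/-- Suppose K/k is a finitely generated field extension with K geometrically irreducible over k; let n ≥
1 and g_1, …, g_n ∈ K, and suppose some c ∈ kⁿ makes the n + 2 elements x_1, …, x_n, ξ = Σ g_i x_i,
Σ c_i g_i of Ω = K(x_1, …, x_n) algebraically independent over k. Then Ω remains geometrically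
irreducible over its subfield generated over k by x_1, …, x_n and ξ. -/
theorem result {k K : Type u} [Field k] [Field K] [Algebra k K]
    (hfg : (⊤ : IntermediateField k K).FG)
    [GeometricallyIrreducible (Spec.map (CommRingCat.ofHom (algebraMap k K)))]
    (m : ℕ) (g : Fin (m + 1) → K) (c : Fin (m + 1) → k)
    (hind : AlgebraicIndependent k
      (Sum.elim
        (fun i : Fin (m + 1) => algebraMap (MvPolynomial (Fin (m + 1)) K) (FractionRing (MvPolynomial (Fin (m + 1)) K)) (MvPolynomial.X i))
        ![∑ i, algebraMap K (FractionRing (MvPolynomial (Fin (m + 1)) K)) (g i) * algebraMap (MvPolynomial (Fin (m + 1)) K) (FractionRing (MvPolynomial (Fin (m + 1)) K)) (MvPolynomial.X i),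
          algebraMap K (FractionRing (MvPolynomial (Fin (m + 1)) K)) (∑ i, c i • g i)])) :
    GeometricallyIrreducible (Spec.map (CommRingCat.ofHom (algebraMap
      ↥(IntermediateField.adjoin k
        (Set.range (fun i : Fin (m + 1) => algebraMap (MvPolynomial (Fin (m + 1)) K) (FractionRing (MvPolynomial (Fin (m + 1)) K)) (MvPolynomial.X i)) ∪
          {∑ i, algebraMap K (FractionRing (MvPolynomial (Fin (m + 1)) K)) (g i) * algebraMap (MvPolynomial (Fin (m + 1)) K) (FractionRing (MvPolynomial (Fin (m + 1)) K)) (MvPolynomial.X i)}))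
      (FractionRing (MvPolynomial (Fin (m + 1)) K))))) := by
  classical
  apply Groth.Agent.Lib.H71SepClosedIrr.geometricallyIrreducible_SpecMap_of_sepClosedIn
  intro y hy
  have hgi : ∀ (k' : Type u) [Field k'] [Algebra k k'],
      IrreducibleSpace (PrimeSpectrum (TensorProduct k k' K)) := by
    intro k' _ _
    haveI : IrreducibleSpace ↥(CategoryTheory.Limits.pullback
        (Spec.map (CommRingCat.ofHom (algebraMap k K)))
        (Spec.map (CommRingCat.ofHom (algebraMap k k')))) :=
      GeometricallyIrreducible.geometrically_irreducibleSpace _ _ _ (.of_hasPullback _ _)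
    have h1 : IrreducibleSpace ↥(Spec (CommRingCat.of (TensorProduct k K k'))) :=
      Groth.Agent.Lib.H77GeomIrr.irreducibleSpace_of_iso (pullbackSpecIso k K k')
    have h2 : IrreducibleSpace (PrimeSpectrum (TensorProduct k K k')) := h1
    exact (PrimeSpectrum.homeomorphOfRingEquiv
      (Algebra.TensorProduct.comm k k' K).toRingEquiv).irreducibleSpace_iff.mpr h2
  haveI : Algebra.EssFiniteType k K := IntermediateField.fg_top_iff.mp hfg
  haveI : Algebra.EssFiniteType K (FractionRing (MvPolynomial (Fin (m + 1)) K)) :=
    Algebra.EssFiniteType.comp K (MvPolynomial (Fin (m + 1)) K) _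
  haveI : Algebra.EssFiniteType k (FractionRing (MvPolynomial (Fin (m + 1)) K)) :=
    Algebra.EssFiniteType.comp k K _
  have hmem := Groth.Agent.Lib.Bertini57e.bertini_field (k := k) (K := K) (ι := Fin (m + 1))
    (FractionRing (MvPolynomial (Fin (m + 1)) K)) g c hgi hind y hy
  exact ⟨⟨y, hmem⟩, rfl⟩

end Groth.Agent.S7200
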