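import Groth.Statements.S7201
import Groth.Agent.Lib.ComplRefine57
import Groth.Agent.Lib.ComplMap
-- import your own Groth.Agent.* helpers here

set_option autoImplicit false
universe u
open FlatMor

namespace Groth.Agent.S7201

set_option linter.style.haveILetI false

open AlgebraicGeometry CategoryTheory Limits in
/-- Let h : T → S be a morphism of finite type between Noetherian schemes, t a point of T with image s,
and σ : O_{T,t} → O_{S,s}^∧ a local O_{S,s}-algebra map to the completion. For every N ≥ 1 there is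
a morphism of finite type g : T' → T and a point t' over t such that σ factors through O_{T,t} →
O_{T',t'}, and any local O_{S,s}-algebra map σ' : O_{T,t} → O_{S,s}^∧ factoring through O_{T,t} →
O_{T',t'} agrees with σ modulo m_s^N. -/
theorem result {T S : Scheme.{u}} [IsNoetherian T] [IsNoetherian S]
    (h : T ⟶ S) [LocallyOfFiniteType h] [QuasiCompact h] (t : T)
    (σ : ↑(T.presheaf.stalk t) →+* (AdicCompletion (IsLocalRing.maximalIdeal ↑(S.presheaf.stalk (h t))) ↑(S.presheaf.stalk (h t))))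
    (hσ : σ.comp (h.stalkMap t).hom = algebraMap ↑(S.presheaf.stalk (h t)) (AdicCompletion (IsLocalRing.maximalIdeal ↑(S.presheaf.stalk (h t))) ↑(S.presheaf.stalk (h t))))
    (hloc : ∀ a ∈ IsLocalRing.maximalIdeal ↑(T.presheaf.stalk t),
      σ a ∈ (IsLocalRing.maximalIdeal ↑(S.presheaf.stalk (h t))).map (algebraMap ↑(S.presheaf.stalk (h t)) (AdicCompletion (IsLocalRing.maximalIdeal ↑(S.presheaf.stalk (h t))) ↑(S.presheaf.stalk (h t)))))
    (N : ℕ) (hN : 1 ≤ N) :
    ∃ (T' : Scheme.{u}) (g : T' ⟶ T) (t' : T') (hg : g t' = t) (τ : ↑(T'.presheaf.stalk t') →+* (AdicCompletion (IsLocalRing.maximalIdeal ↑(S.presheaf.stalk (h t))) ↑(S.presheaf.stalk (h t)))),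
      LocallyOfFiniteType g ∧ QuasiCompact g ∧
      τ.comp ((g.stalkMap t').hom.comp (T.presheaf.stalkCongr (Inseparable.of_eq hg)).inv.hom) = σ ∧
      ∀ (σ' : ↑(T.presheaf.stalk t) →+* (AdicCompletion (IsLocalRing.maximalIdeal ↑(S.presheaf.stalk (h t))) ↑(S.presheaf.stalk (h t)))),
        σ'.comp (h.stalkMap t).hom = algebraMap ↑(S.presheaf.stalk (h t)) (AdicCompletion (IsLocalRing.maximalIdeal ↑(S.presheaf.stalk (h t))) ↑(S.presheaf.stalk (h t))) →
        (∀ a ∈ IsLocalRing.maximalIdeal ↑(T.presheaf.stalk t),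
          σ' a ∈ (IsLocalRing.maximalIdeal ↑(S.presheaf.stalk (h t))).map (algebraMap ↑(S.presheaf.stalk (h t)) (AdicCompletion (IsLocalRing.maximalIdeal ↑(S.presheaf.stalk (h t))) ↑(S.presheaf.stalk (h t))))) →
        (∃ τ' : ↑(T'.presheaf.stalk t') →+* (AdicCompletion (IsLocalRing.maximalIdeal ↑(S.presheaf.stalk (h t))) ↑(S.presheaf.stalk (h t))),
          τ'.comp ((g.stalkMap t').hom.comp (T.presheaf.stalkCongr (Inseparable.of_eq hg)).inv.hom) = σ') →
        ∀ a : ↑(T.presheaf.stalk t), σ a - σ' a ∈ (IsLocalRing.maximalIdeal ↑(S.presheaf.stalk (h t)) ^ N).map (algebraMap ↑(S.presheaf.stalk (h t)) (AdicCompletion (IsLocalRing.maximalIdeal ↑(S.presheaf.stalk (h t))) ↑(S.presheaf.stalk (h t)))) := by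
  classical
  -- affine neighbourhoods
  obtain ⟨_, ⟨U, hU0, rfl⟩, hsU, -⟩ := S.isBasis_affineOpens.exists_subset_of_mem_open
    (Set.mem_univ (h t)) isOpen_univ
  obtain ⟨_, ⟨V, hV0, rfl⟩, htV, hVU'⟩ := T.isBasis_affineOpens.exists_subset_of_mem_open
    (show t ∈ ((h ⁻¹ᵁ U : T.Opens) : Set T) from hsU) (h ⁻¹ᵁ U).isOpen
  have hU : IsAffineOpen U := hU0
  have hV : IsAffineOpen V := hV0
  have hVU : V ≤ h ⁻¹ᵁ U := hVU'
  have hφ : (h.appLE U V hVU).hom.FiniteType := h.finiteType_appLE hU hV hVU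
  -- local rings
  have hfg : (IsLocalRing.maximalIdeal ↑(S.presheaf.stalk (h t))).FG :=
    IsNoetherian.noetherian _
  letI algS : Algebra ↑Γ(S, U) ↑(S.presheaf.stalk (h t)) :=
    S.presheaf.algebra_section_stalk ⟨h t, hsU⟩
  letI algT : Algebra ↑Γ(T, V) ↑(T.presheaf.stalk t) :=
    T.presheaf.algebra_section_stalk ⟨t, htV⟩
  haveI hlocS : IsLocalization.AtPrime ↑(S.presheaf.stalk (h t))
      (hU.primeIdealOf ⟨h t, hsU⟩).asIdeal := hU.isLocalization_stalk ⟨h t, hsU⟩
  haveI hlocT : IsLocalization.AtPrime ↑(T.presheaf.stalk t)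
      (hV.primeIdealOf ⟨t, htV⟩).asIdeal := hV.isLocalization_stalk ⟨t, htV⟩
  have hD : ∀ a : ↑(T.presheaf.stalk t), ∃ u c : Γ(T, V),
      IsUnit ((T.presheaf.germ V t htV).hom u) ∧
        a * (T.presheaf.germ V t htV).hom u = (T.presheaf.germ V t htV).hom c := by
    intro a
    obtain ⟨⟨c, u⟩, hcu⟩ := IsLocalization.surj (hV.primeIdealOf ⟨t, htV⟩).asIdeal.primeCompl a
    exact ⟨u, c, IsLocalization.map_units _ u, hcu⟩
  have hψ : ∀ r : Γ(S, U), (h.stalkMap t).hom (algebraMap Γ(S, U) ↑(S.presheaf.stalk (h t)) r) =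
      (T.presheaf.germ V t htV).hom ((h.appLE U V hVU).hom r) := by
    intro r
    change (h.stalkMap t).hom ((S.presheaf.germ U (h t) hsU).hom r) = _
    erw [Scheme.Hom.germ_stalkMap_apply]
    simp only [Scheme.Hom.appLE, CommRingCat.hom_comp, RingHom.comp_apply]
    erw [TopCat.Presheaf.germ_res_apply]
  have hσ' : ∀ x : ↑(S.presheaf.stalk (h t)), σ ((h.stalkMap t).hom x) =
      algebraMap _ _ x := fun x => RingHom.congr_fun hσ x
  obtain ⟨C', _, ι, hι, τ₀, hτ₀, hrest⟩ := Groth.Agent.Lib.ComplRefine57.exists_refinement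
    (IsLocalRing.maximalIdeal ↑(S.presheaf.stalk (h t))) hfg
    (hU.primeIdealOf ⟨h t, hsU⟩).asIdeal.primeCompl
    (h.appLE U V hVU).hom hφ (T.presheaf.germ V t htV).hom hD (h.stalkMap t).hom hψ σ hσ' N
  -- the local ring E
  haveI hE : IsLocalRing (AdicCompletion (IsLocalRing.maximalIdeal ↑(S.presheaf.stalk (h t)))
      ↑(S.presheaf.stalk (h t))) :=
    Groth.Agent.Lib.ComplMap.isLocalRing_adicCompletion _ (IsLocalRing.maximalIdeal.isMaximal _).ne_top
  let E : CommRingCat.{u} := CommRingCat.of (AdicCompletion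
    (IsLocalRing.maximalIdeal ↑(S.presheaf.stalk (h t))) ↑(S.presheaf.stalk (h t)))
  haveI : IsLocalRing ↑E := hE
  let σc : T.presheaf.stalk t ⟶ E := CommRingCat.ofHom σ
  haveI hσloc : IsLocalHom σc.hom := by
    refine ⟨fun a ha => ?_⟩
    by_contra hna
    have ha' : a ∈ IsLocalRing.maximalIdeal ↑(T.presheaf.stalk t) :=
      (IsLocalRing.mem_maximalIdeal a).2 hna
    have h1 := hloc a ha'
    have ha2 : IsUnit (σ a) := ha
    have htop := Ideal.eq_top_of_isUnit_mem _ h1 ha2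
    have h2 : (1 : AdicCompletion (IsLocalRing.maximalIdeal ↑(S.presheaf.stalk (h t)))
        ↑(S.presheaf.stalk (h t))) ∈
        (IsLocalRing.maximalIdeal ↑(S.presheaf.stalk (h t)) ^ 1).map (algebraMap _ _) := by
      rw [pow_one, htop]; trivial
    rw [← Groth.Agent.Lib.ComplRefine57.ker_evalₐ_eq_map _ hfg 1, RingHom.mem_ker] at h2
    have h3 : (1 : ↑(S.presheaf.stalk (h t)) ⧸
        IsLocalRing.maximalIdeal ↑(S.presheaf.stalk (h t)) ^ 1) = 0 := by
      rw [← h2]; exact (map_one _).symm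
    have h4 : IsLocalRing.maximalIdeal ↑(S.presheaf.stalk (h t)) ^ 1 = ⊤ := by
      rw [Ideal.eq_top_iff_one, ← Ideal.Quotient.eq_zero_iff_mem]
      exact h3
    rw [pow_one] at h4
    exact (IsLocalRing.maximalIdeal.isMaximal _).ne_top h4
  let C'c : CommRingCat.{u} := CommRingCat.of C'
  let ιc : Γ(T, V) ⟶ C'c := CommRingCat.ofHom ι
  let τ₀c : C'c ⟶ E := CommRingCat.ofHom τ₀
  have hcomp : ιc ≫ τ₀c = T.presheaf.germ V t htV ≫ σc := by
    apply CommRingCat.hom_ext
    apply RingHom.ext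
    intro c
    exact hτ₀ c
  let f' : Spec E ⟶ Spec C'c := Spec.map τ₀c
  let g : Spec C'c ⟶ T := Spec.map ιc ≫ hV.fromSpec
  have hF : f' ≫ g = Spec.map σc ≫ T.fromSpecStalk t := by
    simp only [f', g]
    rw [← Category.assoc, ← Spec.map_comp, hcomp, Spec.map_comp, Category.assoc]
    rw [← hV.fromSpecStalk_eq_fromSpecStalk htV]
    rfl
  have hgt : g (f' (IsLocalRing.closedPoint ↑E)) = t := by
    have : (f' ≫ g) (IsLocalRing.closedPoint ↑E) = t := by
      rw [hF]
      set_option backward.isDefEq.respectTransparency false in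
      rw [Scheme.Hom.comp_apply, Spec_closedPoint, Scheme.fromSpecStalk_closedPoint]
    exact this
  refine ⟨Spec C'c, g, f' (IsLocalRing.closedPoint ↑E), hgt,
    (Scheme.stalkClosedPointTo f').hom, ?_, ?_, ?_, ?_⟩
  · haveI : LocallyOfFiniteType (Spec.map ιc) :=
      (HasRingHomProperty.Spec_iff (P := @LocallyOfFiniteType)).2 hι
    change LocallyOfFiniteType (Spec.map ιc ≫ IsAffineOpen.fromSpec hV)
    infer_instance
  · change QuasiCompact (Spec.map ιc ≫ IsAffineOpen.fromSpec hV)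
    infer_instance
  · have key : (T.presheaf.stalkCongr (Inseparable.of_eq hgt)).inv ≫
        g.stalkMap (f' (IsLocalRing.closedPoint ↑E)) ≫ Scheme.stalkClosedPointTo f' = σc := by
      rw [← Scheme.stalkClosedPointTo_comp]
      exact Groth.Agent.Lib.ComplRefine57.stalkCongr_inv_stalkClosedPointTo (f' ≫ g) t σc hF hgt
    rw [← RingHom.comp_assoc, ← CommRingCat.hom_comp, ← CommRingCat.hom_comp, key]
    rfl
  · rintro σ' hσ'1 - ⟨τ', hτ'⟩ a
    have hC := Groth.Agent.Lib.ComplRefine57.germ_stalkCongr_stalkMap hV ιc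
      (f' (IsLocalRing.closedPoint ↑E)) t hgt htV
    refine hrest σ' (fun x => RingHom.congr_fun hσ'1 x)
      ⟨τ'.comp (((Spec C'c).presheaf.germ ⊤ (f' (IsLocalRing.closedPoint ↑E)) trivial).hom.comp
        (Scheme.ΓSpecIso C'c).inv.hom), fun c => ?_⟩ a
    have h1 := congrArg (fun φ => τ' (φ.hom c)) hC
    simp only [CommRingCat.hom_comp, RingHom.comp_apply] at h1
    rw [← hτ']
    exact h1.symm

end Groth.Agent.S7201
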