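import Groth.Statements.S7204
import Mathlib.AlgebraicGeometry.Sites.Fpqc

set_option autoImplicit false
universe w u
open FlatMor

namespace Groth.Agent.S7204

section Aux

open AlgebraicGeometry CategoryTheory Limits

theorem isSheafFor_yoneda {X T : Scheme.{u}} {ι : Type w} (U : ι → Scheme.{u}) (π : ∀ i, U i ⟶ X)
    (hπ : Presieve.ofArrows U π ∈ Scheme.fpqcPrecoverage X) :
    Presieve.IsSheafFor (yoneda.obj T) (Presieve.ofArrows U π) := by
  exact (GrothendieckTopology.Subcanonical.isSheaf_of_isRepresentable
    (J := Scheme.fpqcTopology) (yoneda.obj T)).isSheafFor (Presieve.ofArrows U π)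
    (Precoverage.generate_mem_toGrothendieck hπ)

/-- fpqc descent for morphisms. -/
theorem existsUnique_glue {X T : Scheme.{u}} {ι : Type w} (U : ι → Scheme.{u}) (π : ∀ i, U i ⟶ X)
    (hπ : Presieve.ofArrows U π ∈ Scheme.fpqcPrecoverage X)
    (t : ∀ i, U i ⟶ T)
    (ht : ∀ i j, pullback.fst (π i) (π j) ≫ t i = pullback.snd (π i) (π j) ≫ t j) :
    ∃! g : X ⟶ T, ∀ i, π i ≫ g = t i := by
  have hsh := isSheafFor_yoneda (T := T) U π hπ
  rw [Presieve.isSheafFor_arrows_iff_pullbacks] at hsh
  exact hsh t (fun i j => ht i j)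

theorem hom_ext_cover {X T : Scheme.{u}} {ι : Type w} (U : ι → Scheme.{u}) (π : ∀ i, U i ⟶ X)
    (hπ : Presieve.ofArrows U π ∈ Scheme.fpqcPrecoverage X) (g₁ g₂ : X ⟶ T)
    (h : ∀ i, π i ≫ g₁ = π i ≫ g₂) : g₁ = g₂ := by
  have hsh := isSheafFor_yoneda (T := T) U π hπ
  refine hsh.isSeparatedFor.ext ?_
  rintro Y f ⟨i⟩
  exact h i

end Aux

open AlgebraicGeometry CategoryTheory Limits in
/-- Let (X_i)_{i ∈ I} be a diagram of schemes and (W, X_i → W) a cocone under it. If there is an fpqc
covering {W_a → W} such that each W_a is the colimit (in schemes) of the base-changed diagram (X_i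
×_W W_a), and each W_a ×_W W_b is the colimit of (X_i ×_W W_a ×_W W_b), then W is the colimit of
(X_i) in the category of schemes. -/
theorem result {J : Type u} [SmallCategory J] (D : J ⥤ Scheme.{u}) (c : Cocone D)
    (F : PreZeroHypercover.{w} c.pt) (hF : F.presieve₀ ∈ Scheme.fpqcPrecoverage c.pt)
    (h1 : ∀ a : F.I₀, Nonempty (IsColimit ((Over.forgetCocone (F.X a)).whisker
      (D.toOver c.pt (fun j => c.ι.app j) (fun g => c.w g) ⋙ Over.pullback (F.f a)))))
    (h2 : ∀ a b : F.I₀, Nonempty (IsColimit ((Over.forgetCocone (pullback (F.f a) (F.f b))).whisker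
      (D.toOver c.pt (fun j => c.ι.app j) (fun g => c.w g) ⋙ Over.pullback (pullback.fst (F.f a) (F.f b) ≫ F.f a))))) :
    Nonempty (IsColimit c) := by
  refine ⟨IsColimit.ofExistsUnique fun s => ?_⟩
  -- the induced cocones over the base-changed diagrams
  let sa : ∀ a : F.I₀, Cocone ((D.toOver c.pt (fun j => c.ι.app j) (fun g => c.w g) ⋙
      Over.pullback (F.f a)) ⋙ Over.forget (F.X a)) := fun a =>
    { pt := s.pt
      ι :=
        { app := fun j => pullback.fst (c.ι.app j) (F.f a) ≫ s.ι.app j
          naturality := by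
            intro j j' g
            simp only [Functor.comp_obj, Functor.comp_map, Over.forget_map, Functor.const_obj_obj,
              Functor.const_obj_map, Category.comp_id]
            change pullback.lift _ _ _ ≫ pullback.fst (c.ι.app j') (F.f a) ≫ s.ι.app j' = _
            rw [pullback.lift_fst_assoc]
            change (pullback.fst (c.ι.app j) (F.f a) ≫ D.map g) ≫ s.ι.app j' = _
            rw [Category.assoc, s.w]
            rfl } }
  let t : ∀ a : F.I₀, F.X a ⟶ s.pt := fun a => (h1 a).some.desc (sa a)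
  have ht : ∀ (a : F.I₀) (j : J),
      pullback.snd (c.ι.app j) (F.f a) ≫ t a = pullback.fst (c.ι.app j) (F.f a) ≫ s.ι.app j :=
    fun a j => (h1 a).some.fac (sa a) j
  -- compatibility on overlaps
  have hcompat : ∀ a b : F.I₀, pullback.fst (F.f a) (F.f b) ≫ t a =
      pullback.snd (F.f a) (F.f b) ≫ t b := by
    intro a b
    apply (h2 a b).some.hom_ext
    intro j
    change pullback.snd (c.ι.app j) (pullback.fst (F.f a) (F.f b) ≫ F.f a) ≫ _ =
      pullback.snd (c.ι.app j) (pullback.fst (F.f a) (F.f b) ≫ F.f a) ≫ _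
    have e1 : pullback.snd (c.ι.app j) (pullback.fst (F.f a) (F.f b) ≫ F.f a) ≫
        pullback.fst (F.f a) (F.f b) =
        pullback.lift (pullback.fst _ _) (pullback.snd _ _ ≫ pullback.fst (F.f a) (F.f b))
          (by rw [Category.assoc]; exact pullback.condition) ≫
          pullback.snd (c.ι.app j) (F.f a) := by
      rw [pullback.lift_snd]
    have e2 : pullback.snd (c.ι.app j) (pullback.fst (F.f a) (F.f b) ≫ F.f a) ≫
        pullback.snd (F.f a) (F.f b) =
        pullback.lift (pullback.fst _ _) (pullback.snd _ _ ≫ pullback.snd (F.f a) (F.f b))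
          (by rw [Category.assoc, ← pullback.condition (f := F.f a) (g := F.f b)]
              exact pullback.condition) ≫
          pullback.snd (c.ι.app j) (F.f b) := by
      rw [pullback.lift_snd]
    rw [← Category.assoc, e1, Category.assoc, ht, ← Category.assoc, pullback.lift_fst,
      ← Category.assoc, e2, Category.assoc, ht, ← Category.assoc, pullback.lift_fst]
  obtain ⟨m, hm, hmuniq⟩ := existsUnique_glue F.X F.f hF t hcompat
  refine ⟨m, fun j => ?_, fun m' hm' => ?_⟩
  · -- the cocone condition, checked on the base-changed cover of `D.obj j`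
    have hcov : Presieve.ofArrows (fun a => pullback (c.ι.app j) (F.f a))
        (fun a => pullback.fst (c.ι.app j) (F.f a)) ∈ Scheme.fpqcPrecoverage (D.obj j) :=
      Precoverage.mem_coverings_of_isPullback F.f hF (c.ι.app j) _
        (fun a => pullback.snd (c.ι.app j) (F.f a))
        (fun a => IsPullback.of_hasPullback (c.ι.app j) (F.f a))
    apply hom_ext_cover _ _ hcov
    intro a
    rw [← Category.assoc, pullback.condition, Category.assoc, hm a, ht]
  · apply hom_ext_cover F.X F.f hF
    intro a
    rw [hm a]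
    apply (h1 a).some.hom_ext
    intro j
    change pullback.snd (c.ι.app j) (F.f a) ≫ _ = pullback.snd (c.ι.app j) (F.f a) ≫ _
    rw [ht, ← Category.assoc, ← pullback.condition, Category.assoc, hm']

end Groth.Agent.S7204
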