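import Groth.Statements.S7221
import Mathlib

set_option autoImplicit false
universe u
open CategoryTheory CategoryTheory.Limits TensorProduct
attribute [local instance] HasDerivedCategory.standard
open FlatMor

namespace Groth.Agent.S7221
section Helpers
open Algebra Algebra.Extension

variable {R S R' S' : Type u} [CommRing R] [CommRing S] [CommRing R']
    [CommRing S'] [Algebra R S] [Algebra R' S'] [Algebra R R'] [Algebra S S'] [Algebra R S']
    [IsScalarTower R R' S'] [IsScalarTower R S S']

/-- lift an algebra hom along a surjective algebra hom -/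
noncomputable def liftSurj {A B C : Type u} [CommRing A] [CommRing B] [CommRing C] [Algebra R A]
    [Algebra R B] [Algebra R C] (g : A →ₐ[R] B) (hg : Function.Surjective g) (α₀ : A →ₐ[R] C)
    (hk : ∀ x, g x = 0 → α₀ x = 0) : B →ₐ[R] C :=
  (Ideal.Quotient.liftₐ (RingHom.ker g) α₀
    (fun x hx => hk x ((RingHom.mem_ker (f := g)).mp hx))).comp
    (Ideal.quotientKerAlgEquivOfSurjective hg).symm.toAlgHom

theorem liftSurj_apply {A B C : Type u} [CommRing A] [CommRing B] [CommRing C] [Algebra R A]
    [Algebra R B] [Algebra R C] (g : A →ₐ[R] B) (hg : Function.Surjective g) (α₀ : A →ₐ[R] C)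
    (hk : ∀ x, g x = 0 → α₀ x = 0) (x : A) : liftSurj g hg α₀ hk (g x) = α₀ x := by
  unfold liftSurj
  have : (Ideal.quotientKerAlgEquivOfSurjective hg).symm (g x) =
      Ideal.Quotient.mk _ x := by
    rw [AlgEquiv.symm_apply_eq]
    rfl
  rw [AlgHom.comp_apply]
  change (Ideal.Quotient.liftₐ _ α₀ _) ((Ideal.quotientKerAlgEquivOfSurjective hg).symm (g x)) = _
  rw [this]
  rfl


theorem toAlgHom_eq_map {ι : Type u} (G : Algebra.Generators R S ι) (G' : Algebra.Generators R' S' ι)
    (h : ∀ i, G'.val i = algebraMap S S' (G.val i)) (x : MvPolynomial ι R) :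
    (NLCx.sameVarsHom G G' h).toAlgHom x = MvPolynomial.map (algebraMap R R') x := by
  induction x using MvPolynomial.induction_on with
  | C a => rw [Algebra.Generators.Hom.toAlgHom_C, MvPolynomial.map_C]
  | add p q hp hq => rw [map_add, map_add, hp, hq]
  | mul_X p i hp =>
    rw [map_mul, map_mul, hp, Algebra.Generators.Hom.toAlgHom_X, MvPolynomial.map_X]
    rfl

/-- Lemma K: the kernel of the base-changed presentation is the extension of the kernel. -/
theorem ker_le_map [Algebra.IsPushout R R' S S'] {ι : Type u} (G : Algebra.Generators R S ι)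
    (G' : Algebra.Generators R' S' ι) (h : ∀ i, G'.val i = algebraMap S S' (G.val i)) :
    G'.ker ≤ Ideal.map (NLCx.sameVarsHom G G' h).toAlgHom G.ker := by
  set f := NLCx.sameVarsHom G G' h with hf
  set J : Ideal (MvPolynomial ι R') := Ideal.map f.toAlgHom G.ker with hJ
  let Q := MvPolynomial ι R' ⧸ J
  let α₀ : MvPolynomial ι R →ₐ[R] Q := (Ideal.Quotient.mkₐ R J).comp f.toAlgHom
  have hgsurj : Function.Surjective (MvPolynomial.aeval G.val : MvPolynomial ι R →ₐ[R] S) :=
    fun s => ⟨G.σ s, G.aeval_val_σ s⟩
  have hk : ∀ x, (MvPolynomial.aeval G.val : MvPolynomial ι R →ₐ[R] S) x = 0 → α₀ x = 0 := by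
    intro x hx
    change Ideal.Quotient.mk J (f.toAlgHom x) = 0
    rw [Ideal.Quotient.eq_zero_iff_mem]
    refine Ideal.mem_map_of_mem _ ?_
    rw [Algebra.Generators.ker_eq_ker_aeval_val]
    exact hx
  let α : S →ₐ[R] Q := liftSurj _ hgsurj α₀ hk
  let β : R' →ₐ[R] Q := IsScalarTower.toAlgHom R R' Q
  let ψ : S' →ₐ[R] Q := Algebra.pushoutDesc S' β α (fun x y => mul_comm _ _)
  have hψ : ∀ y : MvPolynomial ι R', ψ (MvPolynomial.aeval G'.val y) = Ideal.Quotient.mk J y := by
    intro y
    induction y using MvPolynomial.induction_on with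
    | C a =>
      rw [MvPolynomial.aeval_C, Algebra.pushoutDesc_left]
      rfl
    | add p q hp hq => rw [map_add, map_add, map_add, hp, hq]
    | mul_X p i hp =>
      rw [map_mul, map_mul, map_mul, hp, MvPolynomial.aeval_X, h i, Algebra.pushoutDesc_right]
      congr 1
      have : G.val i = (MvPolynomial.aeval G.val : MvPolynomial ι R →ₐ[R] S) (MvPolynomial.X i) := by
        rw [MvPolynomial.aeval_X]
      rw [this]
      change liftSurj _ hgsurj α₀ hk _ = _
      rw [liftSurj_apply]
      change Ideal.Quotient.mk J (f.toAlgHom (MvPolynomial.X i)) = _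
      rw [Algebra.Generators.Hom.toAlgHom_X]
      rfl
  intro y hy
  rw [Algebra.Generators.ker_eq_ker_aeval_val, RingHom.mem_ker] at hy
  have := hψ y
  rw [hy, map_zero] at this
  exact Ideal.Quotient.eq_zero_iff_mem.mp this.symm

theorem mk_smul_eq' {P : Extension.{u} R' S'} (p : P.Ring) (x : P.ker) :
    Cotangent.mk (p • x) = (algebraMap P.Ring S' p) • Cotangent.mk x := by
  rw [map_smul, algebraMap_smul]

theorem cot_surj_of_ker_le {P : Extension.{u} R S} {P' : Extension.{u} R' S'} (f : P.Hom P')
    (hK : P'.ker ≤ Ideal.map f.toRingHom P.ker) :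
    Function.Surjective (LinearMap.liftBaseChange S' (Cotangent.map f)) := by
  set L := LinearMap.liftBaseChange S' (Cotangent.map f) with hL
  have hmem : ∀ x ∈ P.ker, f.toRingHom x ∈ P'.ker := by
    intro x hx
    rw [Extension.ker, RingHom.mem_ker] at hx ⊢
    rw [f.algebraMap_toRingHom, hx, map_zero]
  have key : ∀ y ∈ Ideal.span (f.toRingHom '' (P.ker : Set P.Ring)),
      ∃ hy : y ∈ P'.ker, (Cotangent.mk ⟨y, hy⟩ : P'.Cotangent) ∈ LinearMap.range L := by
    intro y hy
    induction hy using Submodule.span_induction with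
    | mem z hz =>
      obtain ⟨x, hx, rfl⟩ := hz
      refine ⟨hmem x hx, 1 ⊗ₜ Cotangent.mk ⟨x, hx⟩, ?_⟩
      rw [hL, LinearMap.liftBaseChange_tmul, one_smul, Cotangent.map_mk]
      rfl
    | zero => exact ⟨zero_mem _, 0, by rw [map_zero]; exact (map_zero Cotangent.mk).symm⟩
    | add a b _ _ iha ihb =>
      obtain ⟨ha', u, hu⟩ := iha
      obtain ⟨hb', v, hv⟩ := ihb
      exact ⟨add_mem ha' hb', u + v, by
        rw [map_add, hu, hv]; exact (map_add Cotangent.mk ⟨a, ha'⟩ ⟨b, hb'⟩).symm⟩
    | smul p a _ iha =>
      obtain ⟨ha', u, hu⟩ := iha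
      refine ⟨Ideal.mul_mem_left _ p ha', (algebraMap P'.Ring S' p) • u, ?_⟩
      rw [map_smul, hu, ← mk_smul_eq']
      rfl
  intro c
  obtain ⟨y, rfl⟩ := Cotangent.mk_surjective c
  obtain ⟨y, hy⟩ := y
  obtain ⟨_, u, hu⟩ := key y (hK hy)
  exact ⟨u, hu⟩

theorem cot_surj [Algebra.IsPushout R R' S S'] {ι : Type u} (G : Algebra.Generators R S ι)
    (G' : Algebra.Generators R' S' ι) (h : ∀ i, G'.val i = algebraMap S S' (G.val i)) :
    Function.Surjective (LinearMap.liftBaseChange S'
      (Cotangent.map (NLCx.sameVarsHom G G' h).toExtensionHom)) :=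
  cot_surj_of_ker_le _ (ker_le_map G G' h)

theorem cotSpace_bij {ι : Type u} (G : Algebra.Generators R S ι)
    (G' : Algebra.Generators R' S' ι) (h : ∀ i, G'.val i = algebraMap S S' (G.val i)) :
    Function.Bijective (LinearMap.liftBaseChange S'
      (CotangentSpace.map (NLCx.sameVarsHom G G' h).toExtensionHom)) := by
  let b := G.cotangentSpaceBasis.baseChange S'
  let e := b.equiv G'.cotangentSpaceBasis (Equiv.refl ι)
  have : LinearMap.liftBaseChange S'
      (CotangentSpace.map (NLCx.sameVarsHom G G' h).toExtensionHom) = e.toLinearMap := by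
    apply b.ext
    intro i
    rw [LinearEquiv.coe_coe]
    change _ = (b.equiv G'.cotangentSpaceBasis (Equiv.refl ι)) (b i)
    rw [Module.Basis.equiv_apply, Equiv.refl_apply]
    change LinearMap.liftBaseChange S' _ ((G.cotangentSpaceBasis.baseChange S') i) = _
    rw [Module.Basis.baseChange_apply, LinearMap.liftBaseChange_tmul, one_smul,
      Algebra.Generators.cotangentSpaceBasis_apply, Algebra.Generators.cotangentSpaceBasis_apply]
    erw [CotangentSpace.map_tmul]
    simp only [map_one]
    congr 2
    change (NLCx.sameVarsHom G G' h).toAlgHom (MvPolynomial.X i) = _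
    rw [Algebra.Generators.Hom.toAlgHom_X]
    rfl
  rw [this]
  exact e.bijective

theorem bcH1Map_surj {P : Extension.{u} R S} {P' : Extension.{u} R' S'} (f : P.Hom P')
    (ha : Function.Surjective (LinearMap.liftBaseChange S' (Cotangent.map f)))
    (hb : Function.Injective (LinearMap.liftBaseChange S' (CotangentSpace.map f))) :
    Function.Surjective (NLCx.bcH1Map (S' := S') f) := by
  have key : P'.cotangentComplex ∘ₗ LinearMap.liftBaseChange S' (Cotangent.map f) =
      LinearMap.liftBaseChange S' (CotangentSpace.map f) ∘ₗ P.cotangentComplex.baseChange S' := by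
    ext y
    simpa using (CotangentSpace.map_cotangentComplex f y).symm
  rintro ⟨y, hy⟩
  obtain ⟨x, hx⟩ := ha y
  have hxk : x ∈ NLCx.bcH1 P S' := by
    rw [NLCx.bcH1, LinearMap.mem_ker]
    apply hb
    rw [map_zero]
    have := congr($key x)
    simp only [LinearMap.coe_comp, Function.comp_apply] at this
    rw [← this, hx]
    exact hy
  exact ⟨⟨x, hxk⟩, Subtype.ext hx⟩

theorem part1 [Algebra.IsPushout R R' S S'] {ι : Type u} (G : Algebra.Generators R S ι)
    (G' : Algebra.Generators R' S' ι) (h : ∀ i, G'.val i = algebraMap S S' (G.val i)) :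
    Function.Surjective (NLCx.bcH1Map (S' := S') (NLCx.sameVarsHom G G' h).toExtensionHom) :=
  bcH1Map_surj _ (cot_surj G G' h) (cotSpace_bij G G' h).1

variable (R S R' S') in
theorem aeval_surj [Algebra.IsPushout R R' S S'] :
    Function.Surjective (MvPolynomial.aeval (R := R') (fun s : S => algebraMap S S' s)) := by
  have hbc : IsBaseChange R' (IsScalarTower.toAlgHom R S S').toLinearMap :=
    Algebra.IsPushout.out
  intro x
  refine hbc.inductionOn x (fun x => ∃ p, MvPolynomial.aeval (R := R')
    (fun s : S => algebraMap S S' s) p = x) ⟨0, map_zero _⟩ ?_ ?_ ?_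
  · intro s
    exact ⟨MvPolynomial.X s, by simp⟩
  · rintro r' _ ⟨p, rfl⟩
    exact ⟨r' • p, by rw [map_smul]⟩
  · rintro _ _ ⟨p, rfl⟩ ⟨q, rfl⟩
    exact ⟨p + q, map_add _ _ _⟩

variable (R S R' S') in
/-- the base-changed generators of the self presentation -/
noncomputable def bcGen [Algebra.IsPushout R R' S S'] : Algebra.Generators R' S' S :=
  Algebra.Generators.ofSurjective (fun s : S => algebraMap S S' s) (aeval_surj R S R' S')

variable (R S R' S') in
theorem bcGen_val [Algebra.IsPushout R R' S S'] (s : S) :
    (bcGen R S R' S').val s = algebraMap S S' ((Algebra.Generators.self R S).val s) := rfl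

variable (R S R' S') in
/-- hom from the base-changed generators to the self presentation of `S'` -/
noncomputable def toSelf [Algebra.IsPushout R R' S S'] :
    (bcGen R S R' S').Hom (Algebra.Generators.self R' S') where
  val s := MvPolynomial.X (algebraMap S S' s)
  aeval_val s := by simp [bcGen, Algebra.Generators.ofSurjective]

variable (R S R' S') in
theorem defaultHom_eq [Algebra.IsPushout R R' S S'] :
    (Algebra.Generators.self R S).defaultHom (Algebra.Generators.self R' S') =
      (toSelf R S R' S').comp
        (NLCx.sameVarsHom (Algebra.Generators.self R S) (bcGen R S R' S') (bcGen_val R S R' S')) := by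
  ext s : 2
  simp [toSelf, NLCx.sameVarsHom]

theorem liftBaseChange_comp {P : Extension.{u} R S} {P' P'' : Extension.{u} R' S'} (f : P.Hom P')
    (g : P'.Hom P'') (x : S' ⊗[S] P.Cotangent) :
    LinearMap.liftBaseChange S' (Cotangent.map (g.comp f)) x =
      Cotangent.map g (LinearMap.liftBaseChange S' (Cotangent.map f) x) := by
  induction x using TensorProduct.induction_on with
  | zero => simp
  | tmul s c =>
    rw [LinearMap.liftBaseChange_tmul, LinearMap.liftBaseChange_tmul, map_smul,
      Cotangent.map_comp]
    rfl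
  | add a b ha hb => rw [map_add, map_add, map_add, ha, hb]

variable (R S R' S') in
theorem part2 [Algebra.IsPushout R R' S S'] :
    Function.Surjective (NLCx.bcH1Map (S' := S')
      ((Algebra.Generators.self R S).defaultHom (Algebra.Generators.self R' S')).toExtensionHom) := by
  rw [defaultHom_eq R S R' S', Algebra.Generators.Hom.toExtensionHom_comp]
  set f₁ := (NLCx.sameVarsHom (Algebra.Generators.self R S) (bcGen R S R' S')
    (bcGen_val R S R' S')).toExtensionHom with hf₁
  set g := (toSelf R S R' S').toExtensionHom with hg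
  intro z
  -- H1 map of g is surjective
  let k : (Algebra.Generators.self R' S').toExtension.Hom (bcGen R S R' S').toExtension :=
    ((Algebra.Generators.self R' S').defaultHom (bcGen R S R' S')).toExtensionHom
  obtain ⟨w, hw⟩ := (Extension.H1Cotangent.equiv g k).surjective z
  obtain ⟨x, hx⟩ := part1 (Algebra.Generators.self R S) (bcGen R S R' S') (bcGen_val R S R' S') w
  refine ⟨x, ?_⟩
  apply Subtype.ext
  change LinearMap.liftBaseChange S' (Cotangent.map (g.comp f₁)) x.1 = z.1
  rw [liftBaseChange_comp]
  have h1 : LinearMap.liftBaseChange S' (Cotangent.map f₁) x.1 = w.1 := congrArg Subtype.val hx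
  rw [h1, ← hw]
  rfl

end Helpers


/-- Let R → S and R → R' be ring homomorphisms and let S' be an algebra over R' and over S making the
square cocartesian, S' = S ⊗_R R'. Let G be a presentation of S over R by a polynomial algebra and
G' the presentation of S' over R' on the same set of variables, each variable mapping to the image
of the corresponding generator (the base change of G). Then the canonical map H^{-1}(NL(G) ⊗_S S') →
H^{-1}(NL(G')) is surjective. The same holds for the canonical map H^{-1}(NL_{S/R} ⊗_S S') →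
H^{-1}(NL_{S'/R'}) between the complexes of the presentations on all elements. (In degree 0 the
corresponding map S' ⊗_S Ω_{S/R} → Ω_{S'/R'} is bijective; that part is not restated.) -/
theorem result (R S R' S' : Type u) [CommRing R] [CommRing S] [CommRing R']
    [CommRing S'] [Algebra R S] [Algebra R' S'] [Algebra R R'] [Algebra S S'] [Algebra R S']
    [IsScalarTower R R' S'] [IsScalarTower R S S'] [Algebra.IsPushout R R' S S']
    {ι : Type u} (G : Algebra.Generators R S ι) (G' : Algebra.Generators R' S' ι)
    (h : ∀ i, G'.val i = algebraMap S S' (G.val i)) :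
    Function.Surjective (NLCx.bcH1Map (NLCx.sameVarsHom G G' h).toExtensionHom) ∧
      Function.Surjective (NLCx.bcH1Map
        ((Algebra.Generators.self R S).defaultHom (Algebra.Generators.self R' S')).toExtensionHom) := by
  exact ⟨part1 G G' h, part2 R S R' S'⟩

end Groth.Agent.S7221
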