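import Groth.Statements.S7223
import Groth.Agent.Lib.NLBcH1Ker32
import Groth.Agent.Lib.ConormalKoszul32
import Groth.Agent.S9269

set_option autoImplicit false
universe u
open CategoryTheory CategoryTheory.Limits TensorProduct
attribute [local instance] HasDerivedCategory.standard
open FlatMor

namespace Groth.Agent.S7223

/-- Let A → B and A → A' be ring homomorphisms and B' an algebra over A' and over B making the square
cocartesian, B' = B ⊗_A A'. If A → B and A' → B' are both local complete intersection homomorphisms
(of finite type, with Koszul-regular kernel for a polynomial presentation), then the kernel of the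
canonical map H^{-1}(NL_{B/A} ⊗_B B') → H^{-1}(NL_{B'/A'}) (presentations on all elements) is a
finite projective B'-module. -/
theorem result (A B A' B' : Type u) [CommRing A] [CommRing B]
    [CommRing A'] [CommRing B'] [Algebra A B] [Algebra A' B'] [Algebra A A'] [Algebra B B'] [Algebra A B']
    [IsScalarTower A A' B'] [IsScalarTower A B B'] [Algebra.IsPushout A A' B B']
    (hB : LCI.IsLCI A B) (hB' : LCI.IsLCI A' B') :
    Module.Finite B' (LinearMap.ker (NLCx.bcH1Map
        ((Algebra.Generators.self A B).defaultHom (Algebra.Generators.self A' B')).toExtensionHom)) ∧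
      Module.Projective B' (LinearMap.ker (NLCx.bcH1Map
        ((Algebra.Generators.self A B).defaultHom (Algebra.Generators.self A' B')).toExtensionHom)) := by
  classical
  obtain ⟨_, n, f, hf, hK⟩ := hB
  obtain ⟨_, m, f', hf', hK'⟩ := hB'
  have hfe : MvPolynomial.aeval (fun i : Fin n => f (MvPolynomial.X i)) = f :=
    (MvPolynomial.aeval_unique f).symm
  have hsurj : Function.Surjective
      (MvPolynomial.aeval (R := A) (fun i : Fin n => f (MvPolynomial.X i))) := by
    rw [hfe]
    exact hf
  let G : Algebra.Generators A B (Fin n) := Algebra.Generators.ofSurjective _ hsurj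
  let G' : Algebra.Generators A' B' (Fin n) :=
    Algebra.Generators.ofSurjective (fun i => algebraMap B B' (G.val i))
      (Groth.Agent.Lib.NLBcH1Ker32.aeval_surj_of G)
  let fG : G.Hom G' :=
    { val := fun i => MvPolynomial.X i
      aeval_val := fun i => by
        rw [MvPolynomial.aeval_X]
        rfl }
  have hGker : LCI.IsKoszulRegularIdeal G.toExtension.ker := by
    have h1 : G.toExtension.ker = RingHom.ker f.toRingHom := by
      change G.ker = _
      rw [Algebra.Generators.ker_eq_ker_aeval_val]
      change RingHom.ker (MvPolynomial.aeval (fun i : Fin n => f (MvPolynomial.X i))) = _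
      rw [hfe]
      rfl
    rw [h1]
    exact hK
  have hG'ker : LCI.IsKoszulRegularIdeal G'.toExtension.ker := by
    have h := Groth.Agent.S9269.result A' B' m n f' hf' (MvPolynomial.aeval G'.val)
      (fun s => ⟨G'.σ s, G'.aeval_val_σ s⟩) hK'
    have h1 : G'.toExtension.ker = RingHom.ker (MvPolynomial.aeval G'.val).toRingHom := by
      change G'.ker = _
      rw [Algebra.Generators.ker_eq_ker_aeval_val]
      rfl
    rw [h1]
    exact h
  obtain ⟨hfin, hproj⟩ :=
    Groth.Agent.Lib.ConormalKoszul32.finite_projective_cotangent G.toExtension hGker
  obtain ⟨hfin', hproj'⟩ :=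
    Groth.Agent.Lib.ConormalKoszul32.finite_projective_cotangent G'.toExtension hG'ker
  obtain ⟨h1, h2⟩ := Groth.Agent.Lib.NLBcH1Ker32.finite_projective_kerSub_sameVars G G' fG
    (fun i => rfl)
  let e := (Groth.Agent.Lib.NLBcH1Ker32.kerEquiv (S' := B')
      ((Algebra.Generators.self A B).defaultHom (Algebra.Generators.self A' B')).toExtensionHom).trans
    (Groth.Agent.Lib.NLBcH1Ker32.kerSubEquiv
      ((Algebra.Generators.self A B).defaultHom (Algebra.Generators.self A' B')).toExtensionHom
      fG.toExtensionHom
      ((Algebra.Generators.self A B).defaultHom G).toExtensionHom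
      (G.defaultHom (Algebra.Generators.self A B)).toExtensionHom
      ((Algebra.Generators.self A' B').defaultHom G').toExtensionHom
      (G'.defaultHom (Algebra.Generators.self A' B')).toExtensionHom)
  exact ⟨Module.Finite.equiv e.symm, Module.Projective.of_equiv e.symm⟩

end Groth.Agent.S7223
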