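import Groth.Statements.S7224
import Groth.Agent.Lib.NLHtpy32

set_option autoImplicit false
universe u
open CategoryTheory CategoryTheory.Limits TensorProduct
attribute [local instance] HasDerivedCategory.standard
open FlatMor

namespace Groth.Agent.S7224

/-- Let R → S be a ring homomorphism, R → R' a flat ring homomorphism, and S' an algebra over R' and
over S making the square cocartesian, S' = S ⊗_R R'. Let G be a presentation of S over R by a
polynomial algebra and G' the presentation of S' over R' on the same set of variables (the base
change of G). Then the canonical chain map NL(G) ⊗_S S' → NL(G') is an isomorphism of complexes, and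
the canonical chain map NL_{S/R} ⊗_S S' → NL_{S'/R'} between the complexes of the presentations on
all elements is a homotopy equivalence. -/
theorem result (R S R' S' : Type u) [CommRing R] [CommRing S] [CommRing R']
    [CommRing S'] [Algebra R S] [Algebra R' S'] [Algebra R R'] [Algebra S S'] [Algebra R S']
    [IsScalarTower R R' S'] [IsScalarTower R S S'] [Algebra.IsPushout R R' S S'] [Module.Flat R R']
    {ι : Type u} (G : Algebra.Generators R S ι) (G' : Algebra.Generators R' S' ι)
    (h : ∀ i, G'.val i = algebraMap S S' (G.val i)) :
    IsIso (NLCx.bcMap (S' := S') (NLCx.sameVarsHom G G' h).toExtensionHom) ∧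
      ∃ e : HomotopyEquiv (NLCx.bcCx (Algebra.Generators.self R S).toExtension S')
          (NLCx.cx (Algebra.Generators.self R' S').toExtension),
        e.hom = NLCx.bcMapSelf R S R' S' := by
  refine ⟨?_, ?_⟩
  · exact Groth.Agent.Lib.NLBaseChange32.isIso_bcMap_of_bijective _
      (Groth.Agent.Lib.NLBaseChange32.cot_bij_of_flat' G G' (NLCx.sameVarsHom G G' h) (fun _ => rfl))
      (Groth.Agent.Lib.NLBaseChange32.cotSpace_bij G G' (NLCx.sameVarsHom G G' h) (fun _ => rfl))
  · have hφ : CategoryTheory.IsIso (NLCx.bcMap (S' := S')
        (Groth.Agent.Lib.NLBaseChange32.toBcGen R S R' S').toExtensionHom) :=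
      Groth.Agent.Lib.NLBaseChange32.isIso_bcMap_of_bijective _
        (Groth.Agent.Lib.NLBaseChange32.cot_bij_of_flat' _ _
          (Groth.Agent.Lib.NLBaseChange32.toBcGen R S R' S')
          (Groth.Agent.Lib.NLBaseChange32.toBcGen_val R S R' S'))
        (Groth.Agent.Lib.NLBaseChange32.cotSpace_bij _ _
          (Groth.Agent.Lib.NLBaseChange32.toBcGen R S R' S')
          (Groth.Agent.Lib.NLBaseChange32.toBcGen_val R S R' S'))
    exact ⟨Groth.Agent.Lib.NLHtpy32.bcMapSelfHomotopyEquiv R S R' S' hφ, rfl⟩

end Groth.Agent.S7224
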