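import Groth.Statements.S7225
import Mathlib

set_option autoImplicit false
universe u
open CategoryTheory CategoryTheory.Limits TensorProduct
attribute [local instance] HasDerivedCategory.standard
open FlatMor

namespace Groth.Agent.S7225
attribute [local instance] HasDerivedCategory.standard
section Helpers

open Algebra Algebra.Extension

variable {A A' B : Type u} [CommRing A] [CommRing A'] [CommRing B] [Algebra A A'] [Algebra A' B]
  [Algebra A B] [IsScalarTower A A' B]

theorem isUnit_of_mem (M : Submonoid A) [IsLocalization M A'] {m : A} (hm : m ∈ M) :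
    IsUnit (algebraMap A B m) := by
  rw [IsScalarTower.algebraMap_apply A A' B]
  exact (IsLocalization.map_units A' ⟨m, hm⟩).map _

theorem mem_ker_iff {P : Extension.{u} A B} {P' : Extension.{u} A' B} (f : P.Hom P') (x : P.Ring) :
    f.toRingHom x ∈ P'.ker ↔ x ∈ P.ker := by
  rw [Extension.ker, Extension.ker, RingHom.mem_ker, RingHom.mem_ker, f.algebraMap_toRingHom]
  rfl

theorem mk_smul_eq {P : Extension.{u} A B} (p : P.Ring) (x : P.ker) :
    Cotangent.mk (p • x) = (algebraMap P.Ring B p) • Cotangent.mk x := by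
  rw [map_smul, algebraMap_smul]

theorem cotangent_map_bijective (M : Submonoid A) [IsLocalization M A']
    {P : Extension.{u} A B} {P' : Extension.{u} A' B} (f : P.Hom P')
    (H1 : ∀ y : P'.Ring, ∃ m ∈ M, ∃ x : P.Ring,
      algebraMap A' P'.Ring (algebraMap A A' m) * y = f.toRingHom x)
    (H2 : ∀ x : P.Ring, f.toRingHom x = 0 → ∃ m ∈ M, algebraMap A P.Ring m * x = 0) :
    Function.Bijective (Cotangent.map f) := by
  have hsq : ∀ y ∈ P'.ker ^ 2, ∃ m ∈ M, ∃ z ∈ P.ker ^ 2,
      algebraMap A' P'.Ring (algebraMap A A' m) * y = f.toRingHom z := by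
    intro y hy
    rw [pow_two] at hy
    refine Submodule.mul_induction_on hy ?_ ?_
    · intro a ha b hb
      obtain ⟨m₁, hm₁, x₁, h₁⟩ := H1 a
      obtain ⟨m₂, hm₂, x₂, h₂⟩ := H1 b
      have hx₁ : x₁ ∈ P.ker := (mem_ker_iff f x₁).mp (h₁ ▸ Ideal.mul_mem_left _ _ ha)
      have hx₂ : x₂ ∈ P.ker := (mem_ker_iff f x₂).mp (h₂ ▸ Ideal.mul_mem_left _ _ hb)
      refine ⟨m₁ * m₂, M.mul_mem hm₁ hm₂, x₁ * x₂, ?_, ?_⟩
      · rw [pow_two]; exact Ideal.mul_mem_mul hx₁ hx₂
      · rw [map_mul f.toRingHom, ← h₁, ← h₂, map_mul (algebraMap A A'),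
          map_mul (algebraMap A' P'.Ring)]
        ring
    · rintro y₁ y₂ ⟨m₁, hm₁, z₁, hz₁, h₁⟩ ⟨m₂, hm₂, z₂, hz₂, h₂⟩
      refine ⟨m₁ * m₂, M.mul_mem hm₁ hm₂,
        algebraMap A P.Ring m₂ * z₁ + algebraMap A P.Ring m₁ * z₂,
        add_mem (Ideal.mul_mem_left _ _ hz₁) (Ideal.mul_mem_left _ _ hz₂), ?_⟩
      rw [map_add f.toRingHom, map_mul f.toRingHom, map_mul f.toRingHom, f.toRingHom_algebraMap,
        f.toRingHom_algebraMap, ← h₁, ← h₂, map_mul (algebraMap A A'), map_mul (algebraMap A' P'.Ring)]
      ring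
  constructor
  · rw [injective_iff_map_eq_zero]
    intro c hc
    obtain ⟨x, rfl⟩ := Cotangent.mk_surjective c
    rw [Cotangent.map_mk, Cotangent.mk_eq_zero_iff] at hc
    obtain ⟨m, hm, z, hz, hmz⟩ := hsq _ hc
    have h0 : f.toRingHom (algebraMap A P.Ring m * x.1 - z) = 0 := by
      rw [map_sub, map_mul, f.toRingHom_algebraMap, sub_eq_zero]
      exact hmz
    obtain ⟨m₂, hm₂, h2⟩ := H2 _ h0
    have h3 : (algebraMap A P.Ring (m₂ * m)) • x.1 ∈ P.ker ^ 2 := by
      have : (algebraMap A P.Ring (m₂ * m)) • x.1 = algebraMap A P.Ring m₂ * z := by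
        rw [smul_eq_mul, map_mul]
        linear_combination h2
      rw [this]
      exact Ideal.mul_mem_left _ _ hz
    have h4 : Cotangent.mk ((algebraMap A P.Ring (m₂ * m)) • x) = 0 := by
      rw [Cotangent.mk_eq_zero_iff]
      exact h3
    rw [mk_smul_eq, ← IsScalarTower.algebraMap_apply] at h4
    have hu := isUnit_of_mem (A' := A') (B := B) M (M.mul_mem hm₂ hm)
    have := congrArg (fun t => (↑hu.unit⁻¹ : B) • t) h4
    simpa [smul_smul] using this
  · intro c'
    obtain ⟨y, rfl⟩ := Cotangent.mk_surjective c'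
    obtain ⟨m, hm, x, hx⟩ := H1 y.1
    have hxI : x ∈ P.ker := (mem_ker_iff f x).mp (hx ▸ Ideal.mul_mem_left _ _ y.2)
    have hu := isUnit_of_mem (A' := A') (B := B) M hm
    refine ⟨(↑hu.unit⁻¹ : B) • Cotangent.mk ⟨x, hxI⟩, ?_⟩
    rw [map_smul, Cotangent.map_mk]
    have : (Cotangent.mk ⟨f.toAlgHom x, (mem_ker_iff f x).mpr hxI⟩ : P'.Cotangent) =
        (algebraMap A B m) • Cotangent.mk y := by
      rw [IsScalarTower.algebraMap_apply A A' B, IsScalarTower.algebraMap_apply A' P'.Ring B,
        ← mk_smul_eq]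
      congr 1
      ext
      exact hx.symm
    rw [this, smul_smul]
    simp



theorem toAlgHom_eq_map {ι : Type u} (G : Algebra.Generators A B ι) (G' : Algebra.Generators A' B ι)
    (h : ∀ i, G'.val i = algebraMap B B (G.val i)) (x : MvPolynomial ι A) :
    (NLCx.sameVarsHom (S' := B) G G' h).toAlgHom x = MvPolynomial.map (algebraMap A A') x := by
  induction x using MvPolynomial.induction_on with
  | C a => rw [Algebra.Generators.Hom.toAlgHom_C, MvPolynomial.map_C]
  | add p q hp hq => rw [map_add, map_add, hp, hq]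
  | mul_X p i hp =>
    rw [map_mul, map_mul, hp, Algebra.Generators.Hom.toAlgHom_X, MvPolynomial.map_X]
    rfl

attribute [local instance] MvPolynomial.algebraMvPolynomial in
theorem H1' (M : Submonoid A) [IsLocalization M A'] {ι : Type u}
    (y : MvPolynomial ι A') : ∃ m ∈ M, ∃ x : MvPolynomial ι A,
      MvPolynomial.C (algebraMap A A' m) * y = MvPolynomial.map (algebraMap A A') x := by
  haveI : IsLocalization (M.map (MvPolynomial.C (σ := ι))) (MvPolynomial ι A') :=
    MvPolynomial.isLocalization M A'
  obtain ⟨⟨x, ⟨s, hs⟩⟩, hxs⟩ := IsLocalization.surj (M.map (MvPolynomial.C (σ := ι)))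
    (y : MvPolynomial ι A')
  obtain ⟨m, hm, rfl⟩ := hs
  refine ⟨m, hm, x, ?_⟩
  rw [mul_comm]
  simp only [MvPolynomial.algebraMap_def, MvPolynomial.map_C] at hxs
  exact hxs

attribute [local instance] MvPolynomial.algebraMvPolynomial in
theorem H2' (M : Submonoid A) [IsLocalization M A'] {ι : Type u}
    (x : MvPolynomial ι A)
    (hx : MvPolynomial.map (algebraMap A A') x = 0) :
    ∃ m ∈ M, MvPolynomial.C m * x = 0 := by
  haveI : IsLocalization (M.map (MvPolynomial.C (σ := ι))) (MvPolynomial ι A') :=
    MvPolynomial.isLocalization M A'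
  have hx' : algebraMap (MvPolynomial ι A) (MvPolynomial ι A') x =
      algebraMap (MvPolynomial ι A) (MvPolynomial ι A') 0 := by
    rw [map_zero]; exact hx
  obtain ⟨⟨s, hs⟩, hc⟩ := IsLocalization.exists_of_eq (M := M.map (MvPolynomial.C (σ := ι))) hx'
  obtain ⟨m, hm, rfl⟩ := hs
  refine ⟨m, hm, ?_⟩
  simpa using hc

theorem H1 (M : Submonoid A) [IsLocalization M A'] {ι : Type u} (G : Algebra.Generators A B ι)
    (G' : Algebra.Generators A' B ι) (h : ∀ i, G'.val i = algebraMap B B (G.val i))
    (y : G'.toExtension.Ring) : ∃ m ∈ M, ∃ x : G.toExtension.Ring,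
      algebraMap A' G'.toExtension.Ring (algebraMap A A' m) * y =
        (NLCx.sameVarsHom (S' := B) G G' h).toExtensionHom.toRingHom x := by
  obtain ⟨m, hm, x, hx⟩ := H1' M (y : MvPolynomial ι A')
  exact ⟨m, hm, x, hx.trans (toAlgHom_eq_map G G' h x).symm⟩

theorem H2 (M : Submonoid A) [IsLocalization M A'] {ι : Type u} (G : Algebra.Generators A B ι)
    (G' : Algebra.Generators A' B ι) (h : ∀ i, G'.val i = algebraMap B B (G.val i))
    (x : G.toExtension.Ring)
    (hx : (NLCx.sameVarsHom (S' := B) G G' h).toExtensionHom.toRingHom x = 0) :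
    ∃ m ∈ M, algebraMap A G.toExtension.Ring m * x = 0 := by
  obtain ⟨m, hm, h0⟩ := H2' (A' := A') M (x : MvPolynomial ι A)
    ((toAlgHom_eq_map G G' h x).symm.trans hx)
  exact ⟨m, hm, h0⟩

theorem cotangentSpace_map_bijective {ι : Type u} (G : Algebra.Generators A B ι)
    (G' : Algebra.Generators A' B ι) (h : ∀ i, G'.val i = algebraMap B B (G.val i)) :
    Function.Bijective
      (CotangentSpace.map (NLCx.sameVarsHom (S' := B) G G' h).toExtensionHom) := by
  let e := G.cotangentSpaceBasis.equiv G'.cotangentSpaceBasis (Equiv.refl ι)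
  have : CotangentSpace.map (NLCx.sameVarsHom (S' := B) G G' h).toExtensionHom = e.toLinearMap := by
    apply G.cotangentSpaceBasis.ext
    intro i
    simp only [LinearEquiv.coe_coe, e, Module.Basis.equiv_apply, Equiv.refl_apply]
    rw [Algebra.Generators.cotangentSpaceBasis_apply, Algebra.Generators.cotangentSpaceBasis_apply]
    erw [CotangentSpace.map_tmul]
    simp only [map_one]
    congr 2
    change (NLCx.sameVarsHom (S' := B) G G' h).toAlgHom (MvPolynomial.X i) = _
    rw [Algebra.Generators.Hom.toAlgHom_X]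
    rfl
  rw [this]
  exact e.bijective


open CategoryTheory

theorem isIso_map_of_bijective {R S R' : Type u} [CommRing R] [CommRing S] [Algebra R S]
    [CommRing R'] [Algebra R' S] [Algebra R R'] [IsScalarTower R R' S]
    {P : Algebra.Extension.{u} R S} {P' : Algebra.Extension.{u} R' S} (f : P.Hom P')
    (h1 : Function.Bijective (Algebra.Extension.Cotangent.map f))
    (h2 : Function.Bijective (Algebra.Extension.CotangentSpace.map f)) :
    IsIso (NLCx.map f) := by
  haveI i1 : IsIso (ModuleCat.ofHom (Algebra.Extension.Cotangent.map f)) :=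
    (ConcreteCategory.isIso_iff_bijective _).mpr h1
  haveI i2 : IsIso (ModuleCat.ofHom (Algebra.Extension.CotangentSpace.map f)) :=
    (ConcreteCategory.isIso_iff_bijective _).mpr h2
  haveI : ∀ i, IsIso ((NLCx.map f).f i) := by
    intro i
    by_cases h0 : i = -1
    · subst h0
      dsimp only [NLCx.map]
      erw [HomologicalComplex.mkHomFromDouble_f₀]
      exact IsIso.comp_isIso' (Iso.isIso_hom _) (IsIso.comp_isIso' i1 (Iso.isIso_inv _))
    · by_cases h1 : i = 0
      · subst h1
        dsimp only [NLCx.map]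
        erw [HomologicalComplex.mkHomFromDouble_f₁]
        exact IsIso.comp_isIso' (Iso.isIso_hom _) (IsIso.comp_isIso' i2 (Iso.isIso_inv _))
      · have hZ1 : Limits.IsZero ((NLCx.cx P).X i) :=
          HomologicalComplex.isZero_double_X _ _ i h0 h1
        have hZ2 : Limits.IsZero ((NLCx.cx P').X i) :=
          HomologicalComplex.isZero_double_X _ _ i h0 h1
        have : (NLCx.map f).f i = (hZ1.iso hZ2).hom := hZ1.eq_of_src _ _
        rw [this]
        infer_instance
  exact HomologicalComplex.Hom.isIso_of_components _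


end Helpers


/-- Let A be a ring, M a submonoid of A, A' a localization of A at M and B an A'-algebra, viewed also as
an A-algebra. Let G be a presentation of B over A by a polynomial algebra and G' the presentation of
B over A' with the same generators (G'(i) = G(i), written through the identity algebra map of B).
Then the canonical chain map NL(G) → NL(G') from the naive cotangent complex of the presentation
over A to that of the presentation over A' is an isomorphism of complexes (so that NL_{B/A} →
NL_{B/A'} is a homotopy equivalence). -/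
theorem result (A A' B : Type u) [CommRing A] [CommRing A'] [CommRing B]
    [Algebra A A'] (M : Submonoid A) [IsLocalization M A'] [Algebra A' B] [Algebra A B] [IsScalarTower A A' B]
    {ι : Type u} (G : Algebra.Generators A B ι) (G' : Algebra.Generators A' B ι) (h : ∀ i, G'.val i = algebraMap B B (G.val i)) :
    IsIso (NLCx.map (NLCx.sameVarsHom (S' := B) G G' h).toExtensionHom) := by
  apply isIso_map_of_bijective
  · exact cotangent_map_bijective M _ (H1 M G G' h) (H2 M G G' h)
  · exact cotangentSpace_map_bijective G G' h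

end Groth.Agent.S7225
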