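import Groth.Statements.S7237
import Mathlib.Algebra.TrivSqZeroExt.Basic
-- import your own Groth.Agent.* helpers here

set_option autoImplicit false
universe u
open TensorProduct
open FlatMor

namespace Groth.Agent.S7237

section

variable (A : Type u) [CommRing A] (M : Type u) [AddCommGroup M] [Module A M]

/-- The linear map `m ↦ (ι m, 1 ⊗ m)` into the trivial square-zero extension. -/
noncomputable def symLin :
    M →ₗ[A] TrivSqZeroExt (SymmetricAlgebra A M) (SymmetricAlgebra A M ⊗[A] M) where
  toFun := fun m => (SymmetricAlgebra.ι A M m, (1 : SymmetricAlgebra A M) ⊗ₜ[A] m)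
  map_add' := fun m m' => by
    ext
    · simp
    · simp [TensorProduct.tmul_add]
  map_smul' := fun a m => by
    ext
    · simp
    · simp

/-- The algebra map `Sym(M) → Sym(M) ⊕ ε (Sym(M) ⊗ M)`. -/
noncomputable def symHom : SymmetricAlgebra A M →ₐ[A]
    TrivSqZeroExt (SymmetricAlgebra A M) (SymmetricAlgebra A M ⊗[A] M) :=
  SymmetricAlgebra.lift (symLin A M)

theorem symHom_ι (m : M) :
    symHom A M (SymmetricAlgebra.ι A M m) =
      (SymmetricAlgebra.ι A M m, (1 : SymmetricAlgebra A M) ⊗ₜ[A] m) :=
  SymmetricAlgebra.lift_ι_apply _ _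

theorem symHom_fst (c : SymmetricAlgebra A M) : (symHom A M c).fst = c := by
  have h : (TrivSqZeroExt.fstHom A (SymmetricAlgebra A M) (SymmetricAlgebra A M ⊗[A] M)).comp
      (symHom A M) = AlgHom.id A _ := by
    apply SymmetricAlgebra.algHom_ext
    ext m
    simp [symHom_ι]
  exact congrArg (fun f => f c) h

/-- The derivation `Sym(M) → Sym(M) ⊗ M` with `ι m ↦ 1 ⊗ m`. -/
noncomputable def symDeriv :
    Derivation A (SymmetricAlgebra A M) (SymmetricAlgebra A M ⊗[A] M) where
  toFun := fun c => (symHom A M c).snd
  map_add' := fun a b => by simp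
  map_smul' := fun a b => by simp
  map_one_eq_zero' := by simp
  leibniz' := fun a b => by
    simp only [LinearMap.coe_mk, AddHom.coe_mk, map_mul, TrivSqZeroExt.snd_mul, symHom_fst,
      op_smul_eq_smul]

theorem symDeriv_ι (m : M) :
    symDeriv A M (SymmetricAlgebra.ι A M m) = (1 : SymmetricAlgebra A M) ⊗ₜ[A] m := by
  change (symHom A M (SymmetricAlgebra.ι A M m)).snd = _
  rw [symHom_ι]
  rfl

/-- The map of the statement. -/
noncomputable abbrev phi : (SymmetricAlgebra A M ⊗[A] M) →ₗ[SymmetricAlgebra A M]
    Ω[SymmetricAlgebra A M⁄A] :=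
  LinearMap.liftBaseChange (SymmetricAlgebra A M)
      ((KaehlerDifferential.D A (SymmetricAlgebra A M)).toLinearMap.restrictScalars A ∘ₗ
        SymmetricAlgebra.ι A M)

theorem phi_tmul (c : SymmetricAlgebra A M) (m : M) :
    phi A M (c ⊗ₜ[A] m) = c • KaehlerDifferential.D A (SymmetricAlgebra A M)
      (SymmetricAlgebra.ι A M m) := by
  simp [phi]

theorem lift_phi (x : SymmetricAlgebra A M ⊗[A] M) :
    (symDeriv A M).liftKaehlerDifferential (phi A M x) = x := by
  induction x with
  | zero => simp
  | tmul c m =>
    rw [phi_tmul, map_smul, Derivation.liftKaehlerDifferential_comp_D, symDeriv_ι,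
      TensorProduct.smul_tmul', smul_eq_mul, mul_one]
  | add x y hx hy => rw [map_add, map_add, hx, hy]

theorem phi_symDeriv (c : SymmetricAlgebra A M) :
    phi A M (symDeriv A M c) = KaehlerDifferential.D A (SymmetricAlgebra A M) c := by
  induction c using SymmetricAlgebra.induction with
  | algebraMap r => simp
  | ι m => rw [symDeriv_ι, phi_tmul, one_smul]
  | mul a b ha hb =>
    rw [Derivation.leibniz, Derivation.leibniz, map_add, map_smul, map_smul, ha, hb]
  | add a b ha hb => rw [map_add, map_add, map_add, ha, hb]

theorem phi_lift (ω : Ω[SymmetricAlgebra A M⁄A]) :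
    phi A M ((symDeriv A M).liftKaehlerDifferential ω) = ω := by
  have hω : ω ∈ Submodule.span (SymmetricAlgebra A M)
      (Set.range (KaehlerDifferential.D A (SymmetricAlgebra A M))) := by
    rw [KaehlerDifferential.span_range_derivation]; trivial
  induction hω using Submodule.span_induction with
  | mem x hx =>
    obtain ⟨c, rfl⟩ := hx
    rw [Derivation.liftKaehlerDifferential_comp_D, phi_symDeriv]
  | zero => simp
  | add x y _ _ hx hy => rw [map_add, map_add, hx, hy]
  | smul a x _ hx => rw [map_smul, map_smul, hx]

end

/-- Let A be a ring and M a finitely generated A-module, and let C = Sym_A(M) be the symmetric algebra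
of M with its canonical A-linear map ι : M → C. Then Ω_{C/A} = M ⊗_A C: the C-linear map C ⊗_A M →
Ω_{C/A} obtained by extending scalars in the A-linear map m ↦ d(ι m), d being the universal
A-derivation of C, is bijective. (The published lemma also computes the whole naive cotangent
complex of the presentation of C attached to a surjection A^m → M with kernel K, namely as K ⊗_A C →
⊕_j C dy_j; only its consequence for Ω is asserted here.) -/
theorem result (A : Type u) [CommRing A] (M : Type u)
    [AddCommGroup M] [Module A M] [Module.Finite A M] :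
    Function.Bijective (LinearMap.liftBaseChange (SymmetricAlgebra A M)
      ((KaehlerDifferential.D A (SymmetricAlgebra A M)).toLinearMap.restrictScalars A ∘ₗ SymmetricAlgebra.ι A M)) := by
  refine ⟨?_, ?_⟩
  · intro x y hxy
    have := congrArg (symDeriv A M).liftKaehlerDifferential hxy
    rwa [lift_phi A M x, lift_phi A M y] at this
  · intro ω
    exact ⟨(symDeriv A M).liftKaehlerDifferential ω, phi_lift A M ω⟩

end Groth.Agent.S7237
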