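import Groth.Statements.S7241
import Mathlib
import Groth.Agent.Lib.H90ResApprox
import Groth.Agent.Lib.H90Untwist
import Groth.Agent.Lib.FinGlobGen
import Groth.Agent.Lib.CounitEpi
import Groth.Agent.Lib.H90OXModQcqs
import Groth.Agent.Lib.H78Restrict
import Groth.Agent.Lib.OXModRestrict
import Groth.Agent.Lib.H78AmpleBasis
import Groth.Agent.Lib.H90CohRestrict

set_option autoImplicit false
universe u
open CategoryTheory CategoryTheory.Limits AlgebraicGeometry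
attribute [local instance] HasDerivedCategory.standard
open Perf

namespace Groth.Agent.S7241

open TopologicalSpace
open Groth.Agent.Lib.H90Invertible Groth.Agent.Lib.H78TensorGen Groth.Agent.Lib.OXModTensor
  Groth.Agent.Lib.FreeModStalk Groth.Agent.Lib.FreeModSch Groth.Agent.Lib.FreeLocInv92

/-- a relatively ample module is invertible -/
theorem isInvertible_of_isRelAmple {X Y : Scheme.{u}} (f : X ⟶ Y) (L : X.Modules)
    (hL : RelAmple.IsRelAmple f L) : PicF.IsInvertible L := by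
  rw [isInvertible_iff_exists_isGen]
  intro x
  obtain ⟨_, ⟨V, hV, rfl⟩, hxV, -⟩ :=
    Y.isBasis_affineOpens.exists_subset_of_mem_open (Set.mem_univ (f x)) isOpen_univ
  have h1 := (hL.2 ⟨V, hV⟩).1
  rw [isInvertible_iff_exists_isGen] at h1
  obtain ⟨W, hxW, s, hs⟩ := h1 ⟨x, hxV⟩
  refine ⟨(f ⁻¹ᵁ V).ι ''ᵁ W, ⟨⟨x, hxV⟩, hxW, rfl⟩, s, ?_⟩
  exact (isGen_restrict_iff (f ⁻¹ᵁ V).ι L W s).mp hs

/-- **Serre generation over an affine open of the base**: for `n ≫ 0`, `(M ⊗ L^n)|_{f⁻¹ V}` is generated by finitely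
many sections. -/
theorem exists_generators_twist {X Y : Scheme.{u}} (f : X ⟶ Y) (L : X.Modules)
    (hL : RelAmple.IsRelAmple f L) (M : X.Modules) (hM : Coh.IsCoh M) (V : Y.affineOpens) :
    ∃ n₀ : ℕ, ∀ n, n₀ ≤ n → ∃ (r : ℕ)
      (m : Fin r → Γ((CohB1.tensorMod M (CohB1.tensorPow L n)).restrict (f ⁻¹ᵁ V.1).ι, ⊤)),
      Epi (ofSections ((CohB1.tensorMod M (CohB1.tensorPow L n)).restrict (f ⁻¹ᵁ V.1).ι) m) := by
  have hamp := hL.2 V
  haveI : CompactSpace ↥((f ⁻¹ᵁ V.1 : X.Opens) : Scheme.{u}) := hamp.2.1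
  obtain ⟨n₀, h⟩ := Groth.Agent.Lib.FinGlobGen.exists_finite_epi_twist hamp (M.restrict (f ⁻¹ᵁ V.1).ι)
    (Groth.Agent.Lib.H90CohRestrict.isCoh_restrict (f ⁻¹ᵁ V.1).ι M hM)
  refine ⟨n₀, fun n hn => ?_⟩
  obtain ⟨K, hK, p, hp⟩ := h n hn
  let θ : CohB1.tensorMod (M.restrict (f ⁻¹ᵁ V.1).ι) (CohB1.tensorPow (L.restrict (f ⁻¹ᵁ V.1).ι) n) ≅
      (CohB1.tensorMod M (CohB1.tensorPow L n)).restrict (f ⁻¹ᵁ V.1).ι :=
    (tensorModIso (Iso.refl _)
      (Groth.Agent.Lib.H78Restrict.restrictTensorPowIso (f ⁻¹ᵁ V.1).ι L n)).symm ≪≫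
      (Groth.Agent.Lib.OXModRestrict.restrictTensorIso (f ⁻¹ᵁ V.1).ι M (CohB1.tensorPow L n)).symm
  obtain ⟨r, ⟨ε⟩⟩ := Finite.exists_equiv_fin K
  let ρ : FlatMod.freeMod (↑(f ⁻¹ᵁ V.1) : Scheme.{u}) r ≅
      (SheafOfModules.free K : (↑(f ⁻¹ᵁ V.1) : Scheme.{u}).Modules) :=
    Sigma.reindex ε.symm (fun _ : K => Coh.structureModule (↑(f ⁻¹ᵁ V.1) : Scheme.{u}))
  haveI := hp
  let p' : FlatMod.freeMod (↑(f ⁻¹ᵁ V.1) : Scheme.{u}) r ⟶
      (CohB1.tensorMod M (CohB1.tensorPow L n)).restrict (f ⁻¹ᵁ V.1).ι := ρ.hom ≫ p ≫ θ.hom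
  haveI h3 : IsIso ρ.hom := Iso.isIso_hom ρ
  haveI h4 : IsIso θ.hom := Iso.isIso_hom θ
  haveI h5 : Epi (p ≫ θ.hom) := @epi_comp _ _ _ _ _ p hp θ.hom (@IsIso.epi_of_iso _ _ _ _ θ.hom h4)
  haveI h6 : Epi p' := @epi_comp _ _ _ _ _ ρ.hom (@IsIso.epi_of_iso _ _ _ _ ρ.hom h3) (p ≫ θ.hom) h5
  refine ⟨r, fun k => p'.app ⊤ (basisSec _ r k), ?_⟩
  have h2 : ofSections ((CohB1.tensorMod M (CohB1.tensorPow L n)).restrict (f ⁻¹ᵁ V.1).ι)
      (fun k => p'.app ⊤ (basisSec _ r k)) = p' :=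
    freeMod_hom_ext' _ _ fun k => ofSections_app_basisSec _ k
  rw [h2]
  infer_instance

/-- Let f : X ⟶ Y be a morphism of schemes whose target Y is quasi-compact, quasi-separated, and
satisfies the resolution property (every quasi-coherent O_Y-module of finite type is a quotient of a
finite locally free O_Y-module), and suppose there is an f-ample invertible O_X-module L (f
quasi-compact and L ample on the preimage of every affine open of Y). Then X has the resolution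
property. -/
theorem result {X Y : Scheme.{u}} (f : X ⟶ Y) [CompactSpace ↥Y] [QuasiSeparatedSpace ↥Y]
    (hY : PerfAux.HasResolutionProperty Y) (L : X.Modules) (hL : RelAmple.IsRelAmple f L) :
    PerfAux.HasResolutionProperty X := by
  intro M hMq hMft
  haveI : M.IsQuasicoherent := hMq
  classical
  haveI : QuasiCompact f := hL.1
  haveI : QuasiSeparated f :=
    Groth.Agent.Lib.CounitEpi.quasiSeparated_of_forall_affine f
      (fun U => Groth.Agent.Lib.H78AmpleBasis.quasiSeparatedSpace_of_isAmple (hL.2 U))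
  have hLinv : PicF.IsInvertible L := isInvertible_of_isRelAmple f L hL
  -- a finite affine cover of `Y`
  obtain ⟨S, hS, hcov⟩ := (isCompact_iff_finite_and_eq_biUnion_affineOpens (U := (⊤ : Y.Opens))).mp
    (by simpa using isCompact_univ)
  haveI : Finite S := hS
  obtain ⟨n, ⟨eS⟩⟩ := Finite.exists_equiv_fin S
  let V : Fin n → Y.Opens := fun j => ((eS.symm j : S) : Y.affineOpens).1
  have hV : ∀ j, IsAffineOpen (V j) := fun j => ((eS.symm j : S) : Y.affineOpens).2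
  have hcovV : ∀ y : Y, ∃ j, y ∈ V j := by
    intro y
    have hy : y ∈ (⊤ : Y.Opens) := trivial
    rw [hcov] at hy
    obtain ⟨i, hy⟩ := Opens.mem_iSup.mp hy
    obtain ⟨hi, hy⟩ := Opens.mem_iSup.mp hy
    refine ⟨eS ⟨i, hi⟩, ?_⟩
    have : V (eS ⟨i, hi⟩) = i.1 := by simp [V]
    rw [this]
    exact hy
  -- Serre generation over each `V j`
  have hgen : ∀ j : Fin n, ∃ n₀ : ℕ, ∀ k, n₀ ≤ k → ∃ (r : ℕ)
      (m : Fin r → Γ((CohB1.tensorMod M (CohB1.tensorPow L k)).restrict (f ⁻¹ᵁ V j).ι, ⊤)),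
      Epi (ofSections ((CohB1.tensorMod M (CohB1.tensorPow L k)).restrict (f ⁻¹ᵁ V j).ι) m) :=
    fun j => exists_generators_twist f L hL M ⟨hMq, hMft⟩ ⟨V j, hV j⟩
  choose n₀ hn₀ using hgen
  let N : ℕ := Finset.univ.sup n₀
  have hN : ∀ j, n₀ j ≤ N := fun j => Finset.le_sup (f := n₀) (Finset.mem_univ j)
  have hgenN := fun j => hn₀ j N (hN j)
  choose r m hm using hgenN
  have hAinv : PicF.IsInvertible (CohB1.tensorPow L N) := isInvertible_tensorPow hLinv N
  haveI : (CohB1.tensorPow L N).IsQuasicoherent :=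
    isQuasicoherent_of_isFinLocFree (isFinLocFree_of_isInvertible hAinv)
  haveI : (CohB1.tensorMod M (CohB1.tensorPow L N)).IsQuasicoherent :=
    Groth.Agent.Lib.OXModTensorQCoh.isQuasicoherent_tensorMod M (CohB1.tensorPow L N)
  haveI : ((Scheme.Modules.pushforward f).obj
      (CohB1.tensorMod M (CohB1.tensorPow L N))).IsQuasicoherent :=
    Groth.Agent.Lib.H90OXModQcqs.isQuasicoherent_pushforward_of_qcqs f _
  obtain ⟨E, π, hE, hπ⟩ :=
    Groth.Agent.Lib.H90ResApprox.exists_epi_finLocFree_of_local_generators f hY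
      (CohB1.tensorMod M (CohB1.tensorPow L N)) V hV hcovV r m hm
  haveI := hπ
  exact Groth.Agent.Lib.H90Untwist.exists_untwist hAinv π hE

end Groth.Agent.S7241
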