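import Groth.Statements.S7248
import Groth.Agent.Lib.PerfectIffPC

set_option autoImplicit false
universe u
open CategoryTheory CategoryTheory.Limits AlgebraicGeometry
attribute [local instance] HasDerivedCategory.standard
open Perf

namespace Groth.Agent.S7248

/-- Let f : X ⟶ S be flat and locally of finite presentation. Then a perfect object E of D(O_X) is
S-perfect, that is, E is pseudo-coherent (m-pseudo-coherent for every m) and, locally on X, the tor
dimension of E over the sheaf of rings f⁻¹O_S is finite (locally represented by a bounded complex of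
O_X-modules flat over S). -/
theorem result {X S : Scheme.{u}} (f : X ⟶ S) [Flat f] [LocallyOfFinitePresentation f]
    (E : DCoh.D X) (hE : DCoh.IsPerfect E) :
    (∀ m : ℤ, DCoh.IsPseudoCoherentD m E) ∧ DCoh.LocHasFiniteRelTorDim f E := by
  refine ⟨fun m => Groth.Agent.Lib.PerfectIffPC.isPseudoCoherentD_of_isPerfect m hE, ?_⟩
  intro x
  obtain ⟨V, hxV, P, hP, ⟨a⟩⟩ := (Groth.Agent.Lib.PerfectD.isPerfect_iff_repOn E).1 hE x
  obtain ⟨⟨a', b, hab⟩, hfree⟩ := hP
  refine ⟨V, a', b, hxV, fun F' ⟨iF⟩ => ⟨P, hab, fun i => ?_, ⟨?_⟩⟩⟩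
  · intro y
    have hflat : FlatMod.IsFlatAt (P.X i) y :=
      Groth.Agent.Lib.FlatModClosure.isFlat_of_isFinLocFree (hfree i) y
    have hg : (((V.ι ≫ f)).stalkMap y).hom.Flat := AlgebraicGeometry.Flat.stalkMap (V.ι ≫ f) y
    letI alg : Algebra (S.presheaf.stalk ((V.ι ≫ f) y)) ((V : Scheme.{u}).presheaf.stalk y) :=
      ((V.ι ≫ f).stalkMap y).hom.toAlgebra
    letI modS : Module (S.presheaf.stalk ((V.ι ≫ f) y)) ((P.X i).presheaf.stalk y) :=
      FlatMod.moduleStalkOver (V.ι ≫ f) (P.X i) y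
    haveI : IsScalarTower (S.presheaf.stalk ((V.ι ≫ f) y)) ((V : Scheme.{u}).presheaf.stalk y)
        ((P.X i).presheaf.stalk y) := .of_algebraMap_smul fun r n => rfl
    haveI : Module.Flat (S.presheaf.stalk ((V.ι ≫ f) y)) ((V : Scheme.{u}).presheaf.stalk y) := hg
    haveI : Module.Flat ((V : Scheme.{u}).presheaf.stalk y) ((P.X i).presheaf.stalk y) := hflat
    exact Module.Flat.trans (S.presheaf.stalk ((V.ι ≫ f) y)) ((V : Scheme.{u}).presheaf.stalk y)
      ((P.X i).presheaf.stalk y)
  · exact a.symm ≪≫ (DCoh.restrictD V.ι).mapIso iF.symm ≪≫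
      (Scheme.Modules.restrictFunctor V.ι).mapDerivedCategoryFactors.app F'

end Groth.Agent.S7248
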