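import Groth.Statements.S7251
import Groth.Agent.S1054

set_option autoImplicit false
universe u
open CategoryTheory CategoryTheory.Limits AlgebraicGeometry
attribute [local instance] HasDerivedCategory.standard
open Perf

namespace Groth.Agent.S7251

/-- Let f : X ⟶ Y be a quasi-compact and quasi-separated morphism of schemes. Assume Rf_* exists and
sends D_QCoh(O_X) into D_QCoh(O_Y), let an adjunction Lf^* ⊣ Rf_* be given as data, and assume the
inclusion functors D_QCoh ⥤ D have (chosen) right adjoints DQ_X and DQ_Y. Then Rf_* ∘ DQ_X = DQ_Y ∘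
Rf_*: for every K ∈ D(O_X) the comparison map Rf_*(DQ_X K) ⟶ DQ_Y(Rf_* K) in D_QCoh(O_Y),
corresponding under the adjunction to Rf_* applied to the counit DQ_X K ⟶ K, is an isomorphism. -/
theorem result {X Y : Scheme.{u}} (f : X ⟶ Y) [QuasiCompact f] [QuasiSeparated f]
    [DCoh.HasRpush f] (h : DCoh.RpushPreservesQCoh f) [DCoh.HasLpull f] (adj : DCoh.Lpull f ⊣ DCoh.Rpush f)
    [(ObjectProperty.ι (DCoh.IsQCohD (X := X))).IsLeftAdjoint] [(ObjectProperty.ι (DCoh.IsQCohD (X := Y))).IsLeftAdjoint]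
    (K : DCoh.D X) :
    IsIso ((Adjunction.ofIsLeftAdjoint (ObjectProperty.ι (DCoh.IsQCohD (X := Y)))).homEquiv
      (⟨(DCoh.Rpush f).obj (((ObjectProperty.ι (DCoh.IsQCohD (X := X))).rightAdjoint.obj K).obj),
        h _ (((ObjectProperty.ι (DCoh.IsQCohD (X := X))).rightAdjoint.obj K).property)⟩ : DCoh.DQCoh Y)
      ((DCoh.Rpush f).obj K)
      ((DCoh.Rpush f).map ((Adjunction.ofIsLeftAdjoint (ObjectProperty.ι (DCoh.IsQCohD (X := X)))).counit.app K))) := by
  classical
  let ιX := ObjectProperty.ι (DCoh.IsQCohD (X := X))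
  let ιY := ObjectProperty.ι (DCoh.IsQCohD (X := Y))
  let adjX := Adjunction.ofIsLeftAdjoint ιX
  let adjY := Adjunction.ofIsLeftAdjoint ιY
  let DQK : DCoh.DQCoh X := ιX.rightAdjoint.obj K
  let A : DCoh.DQCoh Y := ⟨(DCoh.Rpush f).obj DQK.obj, h _ DQK.property⟩
  apply isIso_of_yoneda_map_bijective
  intro M
  -- the object `Lf^* M` of `D_QCoh(X)`
  let P : DCoh.DQCoh X := ⟨(DCoh.Lpull f).obj M.obj, Groth.Agent.S1054.result f M.obj M.property⟩
  let e : (M ⟶ A) ≃ (M ⟶ ιY.rightAdjoint.obj ((DCoh.Rpush f).obj K)) :=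
    ((ObjectProperty.fullyFaithfulι (DCoh.IsQCohD (X := Y))).homEquiv (X := M) (Y := A)).trans
      (((adj.homEquiv M.obj DQK.obj).symm).trans
        ((((ObjectProperty.fullyFaithfulι (DCoh.IsQCohD (X := X))).homEquiv
            (X := P) (Y := DQK)).symm).trans
          (((adjX.homEquiv P K).symm).trans
            ((adj.homEquiv M.obj K).trans (adjY.homEquiv M ((DCoh.Rpush f).obj K))))))
  have he : ∀ g : M ⟶ A, e g = g ≫ adjY.homEquiv A ((DCoh.Rpush f).obj K)
      ((DCoh.Rpush f).map (adjX.counit.app K)) := by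
    intro g
    rw [← Adjunction.homEquiv_naturality_left]
    simp only [e, Equiv.trans_apply]
    congr 1
    rw [Adjunction.homEquiv_counit]
    have h1 : ιX.map (((ObjectProperty.fullyFaithfulι (DCoh.IsQCohD (X := X))).homEquiv
          (X := P) (Y := DQK)).symm
        ((adj.homEquiv M.obj DQK.obj).symm
          (((ObjectProperty.fullyFaithfulι (DCoh.IsQCohD (X := Y))).homEquiv (X := M) (Y := A)) g))) =
        (adj.homEquiv M.obj DQK.obj).symm (ιY.map g) :=
      (ObjectProperty.fullyFaithfulι (DCoh.IsQCohD (X := X))).map_preimage (X := P) (Y := DQK) _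
    rw [h1, Adjunction.homEquiv_naturality_right]
    exact congrArg (fun t => t ≫ (DCoh.Rpush f).map (adjX.counit.app K))
      ((adj.homEquiv M.obj DQK.obj).apply_symm_apply (ιY.map g))
  have : (fun g : M ⟶ A => g ≫ adjY.homEquiv A ((DCoh.Rpush f).obj K)
      ((DCoh.Rpush f).map (adjX.counit.app K))) = e := by
    funext g
    exact (he g).symm
  rw [this]
  exact e.bijective

end Groth.Agent.S7251
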