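import Groth.Statements.S7259
import Groth.Agent.Lib.TorAmpLocal81C

set_option autoImplicit false
set_option linter.style.haveILetI false
universe u
open CategoryTheory CategoryTheory.Limits AlgebraicGeometry
attribute [local instance] HasDerivedCategory.standard
open Perf

namespace Groth.Agent.S7259
open Groth.Agent.Lib.TildeStalk81 Groth.Agent.Lib.TorAmpStalk81 Groth.Agent.Lib.TorAmpLocal81
  Groth.Agent.Lib.StalkTensor81 Groth.Agent.Lib.TorAmpTensor81
open DTen (extCx resCx resFactors)

instance (A : Type u) [CommRing A] : (tilde.functor (CommRingCat.of A)).Additive :=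
  tilde_additive (CommRingCat.of A)

instance (A : Type u) [CommRing A] : (tilde.functor (CommRingCat.of A)).IsLeftAdjoint :=
  tilde_isLeftAdjoint (CommRingCat.of A)


/-- Let R → A be a ring map, f : X = Spec A ⟶ S = Spec R the induced morphism, M an object of D(A), and
F a cochain complex of O_X-modules representing the associated object E = M~ of D(O_X) (tilde
recorded as exact). Then, viewed over f⁻¹O_S, the object E is of tor amplitude [a, b], in the
stalkwise form (at every x ∈ X the complex of stalks F_x has tor amplitude in [a, b] over the local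
ring O_{S, f(x)}), precisely when the R-module complex obtained from M is of tor amplitude [a, b]
(its restriction of scalars is isomorphic in D(R) to a complex of flat R-modules vanishing outside
[a, b]). -/
theorem result {R A : Type u} [CommRing R] [CommRing A] (φ : R →+* A)
    [PreservesFiniteLimits (tilde.functor (CommRingCat.of A))] (M : Dual.D A)
    (F : CochainComplex (Spec (CommRingCat.of A)).Modules ℤ)
    (hF : Nonempty (DCoh.toD (Spec (CommRingCat.of A)) F ≅ (DCoh.tildeD (CommRingCat.of A)).obj M)) (a b : ℤ) :
    DerSch.HasTorAmplitude (Spec.map (CommRingCat.ofHom φ)) a b F ↔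
      DRing.HasTorAmplitudeIn R a b ((DRing.restrictD φ).obj M) := by
  obtain ⟨eF⟩ := hF
  let K : DRing.Cx A := DerivedCategory.Q.objPreimage M
  let eK : DerivedCategory.Q.obj K ≅ M := DerivedCategory.Q.objObjPreimageIso M
  let f := Spec.map (CommRingCat.ofHom φ)
  let e0 : DCoh.toD (Spec (CommRingCat.of A)) F ≅ DCoh.toD (Spec (CommRingCat.of A))
      (((tilde.functor (CommRingCat.of A)).mapHomologicalComplex (ComplexShape.up ℤ)).obj K) :=
    eF ≪≫ (DCoh.tildeD (CommRingCat.of A)).mapIso eK.symm ≪≫
      (tilde.functor (CommRingCat.of A)).mapDerivedCategoryFactors.app K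
  have e1 : ∀ x : Spec (CommRingCat.of A), DRing.toD ((DerSch.stalkCxOver f x).obj F) ≅
      DerivedCategory.Q.obj ((resCx (f.stalkMap x).hom).obj
        ((extCx (toStalkHom (CommRingCat.of A) x)).obj K)) := fun x =>
    stalkOverDIso f x F _
      (stalkDIso x e0 ≪≫ DerivedCategory.Q.mapIso (stalkTildeCxIso (CommRingCat.of A) x K))
  have e2 : (DRing.restrictD φ).obj M ≅ DerivedCategory.Q.obj ((resCx φ).obj K) :=
    (DRing.restrictD φ).mapIso eK.symm ≪≫ (resFactors φ).app K
  constructor
  · intro h
    refine Groth.Agent.Lib.TorAmpBasic21.hasTorAmplitudeIn_of_iso R e2.symm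
      (hasTorAmplitudeIn_res_of_forall_maximal φ K a b fun m hm => ?_)
    let x : Spec (CommRingCat.of A) := (⟨m, inferInstance⟩ : PrimeSpectrum A)
    refine ⟨(Spec (CommRingCat.of R)).presheaf.stalk (f.base x),
      (Spec (CommRingCat.of A)).presheaf.stalk x, inferInstance, inferInstance,
      stalkAlg R (f.base x), stalkAlg A x, (f.stalkMap x).hom,
      flat_stalk R (f.base x), isLocalization_stalk A x,
      stalkMap_square (CommRingCat.ofHom φ) x, ?_⟩
    exact Groth.Agent.Lib.TorAmpBasic21.hasTorAmplitudeIn_of_iso _ (e1 x) (h x)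
  · intro h x
    letI := stalkAlg R (f.base x)
    letI := stalkAlg A x
    haveI := isLocalization_stalk R (f.base x)
    haveI := flat_stalk A x
    have h3 := hasTorAmplitudeIn_res_ext_of_square
      (R' := (Spec (CommRingCat.of R)).presheaf.stalk (f.base x))
      (A' := (Spec (CommRingCat.of A)).presheaf.stalk x) (pt R (f.base x)).primeCompl φ
      (f.stalkMap x).hom (stalkMap_square (CommRingCat.ofHom φ) x) K a b
      (Groth.Agent.Lib.TorAmpBasic21.hasTorAmplitudeIn_of_iso R e2 h)
    exact Groth.Agent.Lib.TorAmpBasic21.hasTorAmplitudeIn_of_iso _ (e1 x).symm h3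


end Groth.Agent.S7259
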