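import Groth.Statements.S7264
import Groth.Agent.Lib.RelFlatAmp81
import Groth.Agent.S1004
import Groth.Agent.S7259

set_option autoImplicit false
set_option linter.style.haveILetI false
universe u
open CategoryTheory CategoryTheory.Limits AlgebraicGeometry
attribute [local instance] HasDerivedCategory.standard
open Perf

namespace Groth.Agent.S7264
open Groth.Agent.Lib.TorAmpLocal81 Groth.Agent.Lib.RelFlatAmp81

instance (A : Type u) [CommRing A] : (tilde.functor (CommRingCat.of A)).Additive :=
  tilde_additive (CommRingCat.of A)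

instance (A : Type u) [CommRing A] : (tilde.functor (CommRingCat.of A)).IsLeftAdjoint :=
  tilde_isLeftAdjoint (CommRingCat.of A)

theorem locHasFiniteRelTorDim_of_iso {X S : Scheme.{u}} (f : X ⟶ S) {K L : DCoh.D X} (e : K ≅ L)
    (h : DCoh.LocHasFiniteRelTorDim f K) : DCoh.LocHasFiniteRelTorDim f L := by
  intro x
  obtain ⟨V, a, b, hx, hV⟩ := h x
  exact ⟨V, a, b, hx, fun F' ⟨e'⟩ => hV F' ⟨e' ≪≫ e.symm⟩⟩


/-- (1) ⇔ (2) in the affine case to which the proof reduces: let R → A be flat and of finite
presentation, f : X = Spec A ⟶ S = Spec R, M ∈ D(A) and E = M~ ∈ D(O_X) (tilde recorded as exact),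
so that RΓ(X, E) = M. Then E is S-perfect (pseudo-coherent, and locally on X represented by a
bounded complex of O_X-modules flat over S) if and only if M is R-perfect (pseudo-coherent as a
complex of A-modules and of finite tor dimension as a complex of R-modules). -/
theorem result (R A : Type u) [CommRing R] [CommRing A] [Algebra R A]
    [Module.Flat R A] [Algebra.FinitePresentation R A]
    [PreservesFiniteLimits (tilde.functor (CommRingCat.of A))] (M : Dual.D A) :
    ((∀ m : ℤ, DCoh.IsPseudoCoherentD m ((DCoh.tildeD (CommRingCat.of A)).obj M)) ∧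
      DCoh.LocHasFiniteRelTorDim (Spec.map (CommRingCat.ofHom (algebraMap R A))) ((DCoh.tildeD (CommRingCat.of A)).obj M)) ↔
    Dual2.IsRelPerfect R A M := by
  unfold Dual2.IsRelPerfect
  rw [Groth.Agent.Lib.DRingPCoh21.isPseudoCoherent'_iff_forall]
  refine and_congr (forall_congr' fun m => Groth.Agent.S1004.result A M m) ?_
  haveI : Flat (Spec.map (CommRingCat.ofHom (algebraMap R A))) := by
    rw [Flat.SpecMap_iff]
    exact (RingHom.flat_algebraMap_iff).2 inferInstance
  let K : DRing.Cx A := DerivedCategory.Q.objPreimage M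
  let eK : DerivedCategory.Q.obj K ≅ M := DerivedCategory.Q.objObjPreimageIso M
  let F := ((tilde.functor (CommRingCat.of A)).mapHomologicalComplex (ComplexShape.up ℤ)).obj K
  let e0 : (DCoh.tildeD (CommRingCat.of A)).obj M ≅ DCoh.toD (Spec (CommRingCat.of A)) F :=
    (DCoh.tildeD (CommRingCat.of A)).mapIso eK.symm ≪≫
      (tilde.functor (CommRingCat.of A)).mapDerivedCategoryFactors.app K
  have h1 : DCoh.LocHasFiniteRelTorDim (Spec.map (CommRingCat.ofHom (algebraMap R A)))
        ((DCoh.tildeD (CommRingCat.of A)).obj M) ↔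
      DCoh.LocHasFiniteRelTorDim (Spec.map (CommRingCat.ofHom (algebraMap R A)))
        (DCoh.toD (Spec (CommRingCat.of A)) F) :=
    ⟨locHasFiniteRelTorDim_of_iso _ e0, locHasFiniteRelTorDim_of_iso _ e0.symm⟩
  rw [h1, locHasFiniteRelTorDim_iff, locFiniteTorAmplitude_iff_of_compact]
  unfold DRing.HasFiniteTorDimCx
  exact exists_congr fun a => exists_congr fun b =>
    Groth.Agent.S7259.result (algebraMap R A) M F ⟨e0.symm⟩ a b


end Groth.Agent.S7264
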