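import Groth.Statements.S7287
import Mathlib
import Groth.Agent.Lib.RelCycPts37

set_option autoImplicit false
open CategoryTheory CategoryTheory.Limits AlgebraicGeometry Opposite
universe u
open RelCyc

namespace Groth.Agent.S7287

/-- Let f from X to S be locally of finite type, r a natural number and g from S' to S a surjective
morphism. Let S'' be the fibre product of S' with itself over S (projections p, q), X' the base
change of X along g (structure map f', projection g' to X), and X'' the base change of X along S''
with structure map f'' and the two projections p', q' to X' lying over p and q and compatible with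
the projections to X. Let x be a point of X whose residue field has transcendence degree r over that
of f(x). If x1 and x2 are points of X' mapping to x whose residue fields have transcendence degree r
over those of their images in S', then there is a point of X'' whose residue field has transcendence
degree r over that of its image in S'' and whose two projections are x1 and x2. -/
theorem result {X S S' S'' X' X'' : Scheme.{u}}
    (f : X ⟶ S) [LocallyOfFiniteType f] (r : ℕ) (g : S' ⟶ S) [Surjective g]
    (p q : S'' ⟶ S') (hS : IsPullback p q g g)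
    (f' : X' ⟶ S') (g' : X' ⟶ X) (hX : IsPullback g' f' f g)
    (f'' : X'' ⟶ S'') (p' q' : X'' ⟶ X') (hp : IsPullback p' f'' f' p) (hq : IsPullback q' f'' f' q)
    (hpq : p' ≫ g' = q' ≫ g')
    (x : ↥X) (hx : Dual3.resTrdeg f x = r)
    (x₁ x₂ : ↥X') (h₁ : g'.base x₁ = x) (h₂ : g'.base x₂ = x)
    (hx₁ : Dual3.resTrdeg f' x₁ = r) (hx₂ : Dual3.resTrdeg f' x₂ = r) :
    ∃ x'' : ↥X'', Dual3.resTrdeg f'' x'' = r ∧ p'.base x'' = x₁ ∧ q'.base x'' = x₂ := by
  haveI : LocallyOfFiniteType f' := MorphismProperty.of_isPullback hX inferInstance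
  haveI : LocallyOfFiniteType f'' := MorphismProperty.of_isPullback hp inferInstance
  have e0 : Groth.Agent.Lib.H30DimRel.rt f x = r :=
    Groth.Agent.Lib.H30DimRel.rt_eq_of_trdeg_eq f x r hx
  have e1 : Groth.Agent.Lib.H30DimRel.rt f' x₁ = r :=
    Groth.Agent.Lib.H30DimRel.rt_eq_of_trdeg_eq f' x₁ r hx₁
  have e2 : Groth.Agent.Lib.H30DimRel.rt f' x₂ = r :=
    Groth.Agent.Lib.H30DimRel.rt_eq_of_trdeg_eq f' x₂ r hx₂
  obtain ⟨x'', h, ha, hb⟩ := Groth.Agent.Lib.RelCycPts37.main f g p q hS f' g' hX f'' p' q' hp hq hpq
    x x₁ x₂ h₁ h₂ (e1.trans e0.symm) (e2.trans e0.symm)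
  refine ⟨x'', ?_, ha, hb⟩
  exact (Groth.Agent.Lib.H30DimRel.trdeg_eq_rt f'' x'').trans (by rw [h, e0])

end Groth.Agent.S7287
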