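import Groth.Statements.S7288
import Groth.Agent.Lib.ProEtExtMod22

set_option autoImplicit false
open CategoryTheory CategoryTheory.Limits AlgebraicGeometry Opposite
universe u
open EtModW

namespace Groth.Agent.S7288

open ZeroObject in
instance isWeakSerre_top' {C : Type*} [Category* C] [Abelian C] :
    WSerre.IsWeakSerre (fun _ : C => True) where
  exists_zero := ⟨0, isZero_zero C, trivial⟩
  kernels_le := fun _ _ => trivial
  cokernels_le := fun _ _ => trivial
  prop_X₂_of_shortExact := fun _ _ _ => trivial


/-- Let X be a scheme and Λ a ring. The essential image of the pullback functor from sheaves of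
Λ-modules on the small etale site of X to sheaves of Λ-modules on the small pro-etale site is a weak
Serre subcategory: the kernel and the cokernel of a morphism between objects of the essential image
lie in it, and an extension of two objects of the essential image lies in it. (Continuity of the
inclusion of the etale site into the pro-etale site is carried as a binder.) -/
theorem result (Λ : Type (u + 1)) [CommRing Λ] (X : Scheme.{u})
    [ProEtS.EpsCont X] :
    (∀ (F G : EtModW.ModP Λ X) (φ : F ⟶ G), (EtModW.epsPullMod Λ X).essImage F →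
      (EtModW.epsPullMod Λ X).essImage G →
        (EtModW.epsPullMod Λ X).essImage (kernel φ) ∧ (EtModW.epsPullMod Λ X).essImage (cokernel φ)) ∧
    ∀ (T : ShortComplex (EtModW.ModP Λ X)), T.ShortExact →
      (EtModW.epsPullMod Λ X).essImage T.X₁ → (EtModW.epsPullMod Λ X).essImage T.X₃ →
        (EtModW.epsPullMod Λ X).essImage T.X₂ := by
  have hW := Groth.Agent.Lib.ProEtExtMod22.isWeakSerre_essImage_epsPullMod (Λ := Λ) (X := X)
    (fun _ => True)
  have key : ∀ F : EtModW.ModP Λ X, (EtModW.epsPullMod Λ X).essImage F ↔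
      (∃ G : EtModW.Mod Λ X, True ∧ Nonempty ((EtModW.epsPullMod Λ X).obj G ≅ F)) := by
    intro F
    constructor
    · rintro ⟨G, hG⟩
      exact ⟨G, trivial, hG⟩
    · rintro ⟨G, -, hG⟩
      exact ⟨G, hG⟩
  refine ⟨fun F G φ hF hG => ⟨?_, ?_⟩, fun T hT h₁ h₃ => ?_⟩
  · rw [key] at hF hG ⊢
    exact ObjectProperty.prop_kernel (P := fun F : EtModW.ModP Λ X =>
      ∃ G : EtModW.Mod Λ X, True ∧ Nonempty ((EtModW.epsPullMod Λ X).obj G ≅ F)) φ hF hG
  · rw [key] at hF hG ⊢
    exact ObjectProperty.prop_cokernel (P := fun F : EtModW.ModP Λ X =>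
      ∃ G : EtModW.Mod Λ X, True ∧ Nonempty ((EtModW.epsPullMod Λ X).obj G ≅ F)) φ hF hG
  · rw [key] at h₁ h₃ ⊢
    exact ObjectProperty.prop_X₂_of_shortExact (P := fun F : EtModW.ModP Λ X =>
      ∃ G : EtModW.Mod Λ X, True ∧ Nonempty ((EtModW.epsPullMod Λ X).obj G ≅ F)) hT h₁ h₃

end Groth.Agent.S7288
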