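import Groth.Statements.S7290

set_option autoImplicit false
open CategoryTheory CategoryTheory.Limits AlgebraicGeometry Opposite
universe u
open ProEtW

namespace Groth.Agent.S7290

/-- A constructible subset of a prime spectrum is determined by finitely many elements. -/
theorem exists_finset_of_isConstructible {A : Type u} [CommRing A] {T : Set (PrimeSpectrum A)}
    (hT : Topology.IsConstructible T) :
    ∃ E : Finset A, ∀ y y' : PrimeSpectrum A,
      (∀ f ∈ E, f ∈ y.asIdeal ↔ f ∈ y'.asIdeal) → (y ∈ T ↔ y' ∈ T) := by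
  classical
  induction hT using Topology.IsConstructible.empty_union_induction with
  | open_retrocompact U hUopen hUcomp =>
    obtain ⟨t, rfl⟩ := PrimeSpectrum.isCompact_isOpen_iff.mp ⟨hUcomp.isCompact, hUopen⟩
    refine ⟨t, fun y y' h ↦ ?_⟩
    simp only [Set.mem_compl_iff, PrimeSpectrum.mem_zeroLocus, Set.subset_def, Finset.mem_coe,
      SetLike.mem_coe]
    exact not_congr (forall₂_congr h)
  | union s hs t ht hs' ht' =>
    obtain ⟨E₁, h₁⟩ := hs'
    obtain ⟨E₂, h₂⟩ := ht'
    refine ⟨E₁ ∪ E₂, fun y y' h ↦ ?_⟩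
    simp only [Set.mem_union]
    rw [h₁ y y' fun f hf ↦ h f (Finset.mem_union_left _ hf),
      h₂ y y' fun f hf ↦ h f (Finset.mem_union_right _ hf)]
  | compl s hs hs' =>
    obtain ⟨E, h⟩ := hs'
    exact ⟨E, fun y y' hy ↦ not_congr (h y y' hy)⟩

/-- Let A be a ring and let Spec A be the disjoint union of finitely many constructible subsets T_i.
Then there is a finite subset E of A such that the stratification of Spec A according to which
elements of E vanish at a point refines the given one: each nonempty stratum, consisting of the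
primes whose intersection with E is a prescribed subset, is contained in one of the T_i. -/
theorem result (A : Type u) [CommRing A] {ι : Type u} [Finite ι]
    (T : ι → Set (PrimeSpectrum A)) (hT : ∀ i, Topology.IsConstructible (T i))
    (hcov : ⋃ i, T i = Set.univ) (hdisj : Pairwise fun i j => Disjoint (T i) (T j)) :
    ∃ E : Finset A, ∀ E'' : Finset A, E'' ⊆ E →
      ∀ x : PrimeSpectrum A, (∀ f ∈ E, f ∈ x.asIdeal ↔ f ∈ E'') →
        ∃ i, {y : PrimeSpectrum A | ∀ f ∈ E, f ∈ y.asIdeal ↔ f ∈ E''} ⊆ T i := by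
  classical
  cases nonempty_fintype ι
  choose E hE using fun i ↦ exists_finset_of_isConstructible (hT i)
  refine ⟨Finset.univ.biUnion E, fun E'' _ x hx ↦ ?_⟩
  obtain ⟨i, hi⟩ : ∃ i, x ∈ T i := by
    have : x ∈ ⋃ i, T i := hcov ▸ Set.mem_univ x
    simpa using this
  refine ⟨i, fun y hy ↦ ?_⟩
  refine (hE i x y fun f hf ↦ ?_).mp hi
  have hf' : f ∈ Finset.univ.biUnion E := Finset.mem_biUnion.mpr ⟨i, Finset.mem_univ i, hf⟩
  rw [hx f hf', hy f hf']

end Groth.Agent.S7290
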