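import Groth.Statements.S7291
import Groth.Agent.Lib.H79ValLimit

set_option autoImplicit false
open CategoryTheory CategoryTheory.Limits AlgebraicGeometry Opposite
universe w u
open HTop

namespace Groth.Agent.S7291

/-- Let Y be an affine scheme and let X be the limit (as a scheme) of a cofiltered system of affine
schemes X_i over Y. Then the one-member family X over Y is a standard V covering exactly when, for
every i, the one-member family X_i over Y is a standard V covering. -/
theorem result {Y : Scheme.{u}} [IsAffine Y]
    {I : Type u} [SmallCategory I] [IsCofiltered I] (D : I ⥤ Over Y) [∀ i, IsAffine (D.obj i).left]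
    (c : Cone D) (hc : IsLimit ((Over.forget Y).mapCone c)) :
    HTop.IsStandardV (PreZeroHypercover.singleton.{w} c.pt.hom) ↔
      ∀ i, HTop.IsStandardV (PreZeroHypercover.singleton.{w} (D.obj i).hom) := by
  constructor
  · intro h i
    refine ⟨h.isAffine, inferInstanceAs (Finite PUnit), fun _ => inferInstanceAs (IsAffine (D.obj i).left), ?_⟩
    intro V _ _ g
    obtain ⟨W, hWd, hWv, φ, hφ, j, g', hg'⟩ := h.lift V g
    let g'' : Spec W ⟶ c.pt.left := g'
    have hg'' : g'' ≫ c.pt.hom = Spec.map φ ≫ g := hg'
    refine ⟨W, hWd, hWv, φ, hφ, PUnit.unit, g'' ≫ (c.π.app i).left, ?_⟩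
    change (g'' ≫ (c.π.app i).left) ≫ (D.obj i).hom = Spec.map φ ≫ g
    rw [Category.assoc, Over.w (c.π.app i)]
    exact hg''
  · intro h
    have hXaff : IsAffine c.pt.left := by
      haveI : ∀ i, IsAffine ((D ⋙ Over.forget Y).obj i) := fun i =>
        inferInstanceAs (IsAffine (D.obj i).left)
      exact Scheme.isAffine_of_isLimit _ hc
    exact ⟨inferInstance, inferInstanceAs (Finite PUnit), fun _ => hXaff,
      Groth.Agent.Lib.H79ValLimit.hasValLift_of_isLimit D c hc (fun i => (h i).lift)⟩

end Groth.Agent.S7291
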