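import Groth.Statements.S7318
import Groth.Agent.Lib.NumTypeGraph

set_option autoImplicit false
open Finset
open Models Models.NumericalType

namespace Groth.Agent.S7318

/-- For a numerical type T on n indices with e pairs i < j such that a_ij > 0, the topological genus 1 -
n + e is ≥ 0. -/
theorem result {n : ℕ} (T : Models.NumericalType n) : 0 ≤ T.topGenus := by
  exact Groth.Agent.Lib.NumTypeGraph.topGenus_nonneg T

end Groth.Agent.S7318
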