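import Groth.Statements.S7340
import Groth.Agent.Lib.PthRootTrace
-- import your own Groth.Agent.* helpers here

set_option autoImplicit false
universe u
open Polynomial
open Resolve

namespace Groth.Agent.S7340

open Groth.Agent.PthRootTrace in
/-- Let p be a prime number and R an F_p-algebra, a, b ∈ R, S_a = R[x]/(x^p - a) and S_b = R[y]/(y^p -
b). The trace Tr_x : Ω_{S_a/R} → Ω_R is the R-linear map with x^i dx ↦ 0 for 0 ≤ i ≤ p - 2 and
x^{p-1} dx ↦ da (these determine it, Ω_{S_a/R} being free over R on the x^i dx), and similarly Tr_y.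
Then for every R-algebra homomorphism φ : S_a → S_b one has Tr_x = Tr_y ∘ φ_*: for all s, t ∈ S_a,
Tr_x(s dt) = Tr_y(φ(s) dφ(t)). Here Ω_R is the module of absolute differentials Ω_{R/Z}. -/
theorem result (p : ℕ) [Fact p.Prime] (R : Type u) [CommRing R] [CharP R p] (a b : R)
    (φ : AdjoinRoot (X ^ p - C a : R[X]) →ₐ[R] AdjoinRoot (X ^ p - C b : R[X]))
    (Tx : Ω[AdjoinRoot (X ^ p - C a : R[X])⁄R] →ₗ[R] Ω[R⁄ℤ])
    (Ty : Ω[AdjoinRoot (X ^ p - C b : R[X])⁄R] →ₗ[R] Ω[R⁄ℤ])
    (hTx : ∀ i : ℕ, i + 2 ≤ p →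
      Tx (AdjoinRoot.root (X ^ p - C a) ^ i • KaehlerDifferential.D R _ (AdjoinRoot.root (X ^ p - C a))) = 0)
    (hTx' : Tx (AdjoinRoot.root (X ^ p - C a) ^ (p - 1) • KaehlerDifferential.D R _ (AdjoinRoot.root (X ^ p - C a))) =
      KaehlerDifferential.D ℤ R a)
    (hTy : ∀ i : ℕ, i + 2 ≤ p →
      Ty (AdjoinRoot.root (X ^ p - C b) ^ i • KaehlerDifferential.D R _ (AdjoinRoot.root (X ^ p - C b))) = 0)
    (hTy' : Ty (AdjoinRoot.root (X ^ p - C b) ^ (p - 1) • KaehlerDifferential.D R _ (AdjoinRoot.root (X ^ p - C b))) =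
      KaehlerDifferential.D ℤ R b)
    (s t : AdjoinRoot (X ^ p - C a : R[X])) :
    Tx (s • KaehlerDifferential.D R _ t) = Ty (φ s • KaehlerDifferential.D R _ (φ t)) := by
  have hp : p.Prime := Fact.out
  obtain ⟨F, hF⟩ := AdjoinRoot.mk_surjective (g := (X ^ p - C b : R[X])) (φ (AdjoinRoot.root (X ^ p - C a)))
  -- (φ x)^p = a
  have hφp : (φ (AdjoinRoot.root (X ^ p - C a))) ^ p = algebraMap R _ a := by
    rw [← map_pow, root_pow p a, AlgHom.commutes]
  have ha : a = eval b (F.map (frobenius R p)) := by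
    apply eq_eval_frob p a b F
    rw [hF, hφp, AdjoinRoot.algebraMap_eq]
  -- monomial step
  have hmono : ∀ k : ℕ,
      Tx (AdjoinRoot.root (X ^ p - C a) ^ k • KaehlerDifferential.D R _ (AdjoinRoot.root (X ^ p - C a))) =
      Ty ((φ (AdjoinRoot.root (X ^ p - C a))) ^ k •
        KaehlerDifferential.D R _ (φ (AdjoinRoot.root (X ^ p - C a)))) := by
    intro k
    rw [T_root_pow p a Tx hTx hTx' k, pow_reduce p _ a hφp k, ← hF, D_mk, ← map_pow, mul_smul,
      algebraMap_smul, smul_smul, ← map_mul, map_smul, T_mk p b Ty hTy hTy']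
    have hlt : k % p < p := Nat.mod_lt _ hp.pos
    split_ifs with h
    · rw [h, sec_pow_mul_derivative, ← D_eval_frob, ← ha]
    · rw [sec_pow_mul_derivative_lt p F (k % p) (by omega), eval_zero, zero_smul, smul_zero]
  -- polynomial step
  have hpoly : ∀ G : R[X],
      Tx (aeval (AdjoinRoot.root (X ^ p - C a)) G • KaehlerDifferential.D R _ (AdjoinRoot.root (X ^ p - C a))) =
      Ty (aeval (φ (AdjoinRoot.root (X ^ p - C a))) G •
        KaehlerDifferential.D R _ (φ (AdjoinRoot.root (X ^ p - C a)))) := by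
    intro G
    induction G using Polynomial.induction_on' with
    | add G H hG hH =>
      rw [map_add, add_smul, map_add, hG, hH, map_add, add_smul, map_add]
    | monomial k r =>
      rw [aeval_monomial, aeval_monomial, mul_smul, algebraMap_smul, map_smul, hmono k, mul_smul,
        algebraMap_smul]
      exact (map_smul Ty r _).symm
  induction s using AdjoinRoot.induction_on with
  | ih g =>
  induction t using AdjoinRoot.induction_on with
  | ih h =>
  rw [D_mk, smul_smul, ← map_mul, ← AdjoinRoot.aeval_eq, hpoly, ← AdjoinRoot.aeval_eq, ← AdjoinRoot.aeval_eq,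
    ← Polynomial.aeval_algHom_apply, ← Polynomial.aeval_algHom_apply, Derivation.map_aeval, smul_smul,
    ← map_mul]

end Groth.Agent.S7340
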