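import Groth.Statements.S7341
import Groth.Agent.Lib.NumTypeChain3

set_option autoImplicit false
open Finset
open Models Models.NumericalType

namespace Groth.Agent.S7341

open Groth.Agent.Lib.NumTypeDynkin Groth.Agent.Lib.NumType Groth.Agent.Lib.NumTypeChain3

/-- Embedding of three distinct indices. -/
def emb3 {n : ℕ} {i j k : Fin n} (hij : i ≠ j) (hjk : j ≠ k) (hik : i ≠ k) : Fin 3 ↪ Fin n :=
  ⟨![i, j, k], by
    intro a b h
    fin_cases a <;> fin_cases b <;> simp_all⟩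

/-- Classification of proper subgraphs which are chains of three vertices: let T be a numerical type on
n > 3 indices and i, j, k distinct (-2)-indices with a_ij > 0 and a_jk > 0. Then a_ik = 0 and, up to
reversing the order of i, j, k, one of the following holds for some integer w: (A3) w_i = w_j = w_k
= w, a_ij = a_jk = w, with 2 m_i ≥ m_j, 2 m_j ≥ m_i + m_k, 2 m_k ≥ m_j; (C3) w_i = w_j = w, w_k =
2w, a_ij = w, a_jk = 2w, with 2 m_i ≥ m_j, 2 m_j ≥ m_i + 2 m_k, 2 m_k ≥ m_j; (B3) w_i = w_j = 2w,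
w_k = w, a_ij = a_jk = 2w, with 2 m_i ≥ m_j, 2 m_j ≥ m_i + m_k, m_k ≥ m_j. -/
theorem result {n : ℕ} (T : Models.NumericalType n) (hn : 3 < n) (i j k : Fin n)
    (hij : i ≠ j) (hjk : j ≠ k) (hik : i ≠ k) (hi : T.IsMinusTwo i) (hj : T.IsMinusTwo j) (hk : T.IsMinusTwo k)
    (h1 : 0 < T.a i j) (h2 : 0 < T.a j k) :
    T.a i k = 0 ∧ ∃ (i' k' : Fin n) (w : ℤ), ((i' = i ∧ k' = k) ∨ (i' = k ∧ k' = i)) ∧
      ((T.w i' = w ∧ T.w j = w ∧ T.w k' = w ∧ T.a i' j = w ∧ T.a j k' = w ∧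
          T.m j ≤ 2 * T.m i' ∧ T.m i' + T.m k' ≤ 2 * T.m j ∧ T.m j ≤ 2 * T.m k') ∨
        (T.w i' = w ∧ T.w j = w ∧ T.w k' = 2 * w ∧ T.a i' j = w ∧ T.a j k' = 2 * w ∧
          T.m j ≤ 2 * T.m i' ∧ T.m i' + 2 * T.m k' ≤ 2 * T.m j ∧ T.m j ≤ 2 * T.m k') ∨
        (T.w i' = 2 * w ∧ T.w j = 2 * w ∧ T.w k' = w ∧ T.a i' j = 2 * w ∧ T.a j k' = 2 * w ∧
          T.m j ≤ 2 * T.m i' ∧ T.m i' + T.m k' ≤ 2 * T.m j ∧ T.m j ≤ T.m k')) := by
  have hv : ∀ s, T.IsMinusTwo (emb3 hij hjk hik s) := by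
    intro s
    fin_cases s
    exacts [hi, hj, hk]
  obtain ⟨hz, u, w, hor, hcases⟩ := three_chain T hn (emb3 hij hjk hik) hv
    (ne_of_gt h1 : T.a i j ≠ 0) (ne_of_gt h2 : T.a j k ≠ 0)
  refine ⟨hz, ?_⟩
  rcases hor with hu | hu
  · have e0 : u 0 = i := hu 0
    have e1 : u 1 = j := hu 1
    have e2 : u 2 = k := hu 2
    rw [e0, e1, e2] at hcases
    exact ⟨i, k, w, Or.inl ⟨rfl, rfl⟩, hcases⟩
  · have e0 : u 0 = k := hu 0
    have e1 : u 1 = j := hu 1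
    have e2 : u 2 = i := hu 2
    rw [e0, e1, e2] at hcases
    exact ⟨k, i, w, Or.inr ⟨rfl, rfl⟩, hcases⟩

end Groth.Agent.S7341
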