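import Groth.Statements.S7342
import Groth.Agent.Lib.NumTypeLong

set_option autoImplicit false
open Finset
open Models Models.NumericalType

namespace Groth.Agent.S7342

open Groth.Agent.Lib.NumTypeDynkin Groth.Agent.Lib.NumType Groth.Agent.Lib.NumTypeLong

/-- The test vector `(1, 1, 2, …, 2, 1, 1)`. -/
def cN (t : ℕ) (x : ℕ) : ℤ := if x = 0 ∨ x = 1 ∨ x = t ∨ x = t + 1 then 1 else 2

theorem cN_one {t x : ℕ} (h : x = 0 ∨ x = 1 ∨ x = t ∨ x = t + 1) : cN t x = 1 := by
  unfold cN
  rw [if_pos h]

theorem cN_two {t x : ℕ} (h : ¬ (x = 0 ∨ x = 1 ∨ x = t ∨ x = t + 1)) : cN t x = 2 := by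
  unfold cN
  rw [if_neg h]

/-- Let T be a numerical type on n indices, t ≥ 4 and n > t + 2. Then no t + 2 (-2)-indices of T,
pairwise distinct and numbered i_0, …, i_{t+1}, satisfy: a_{i_j i_{j+1}} > 0 for 1 ≤ j ≤ t - 1,
a_{i_0 i_2} > 0 and a_{i_{t-1} i_{t+1}} > 0. -/
theorem result {n : ℕ} (T : Models.NumericalType n) (t : ℕ) (ht : 4 ≤ t) (hn : t + 2 < n)
    (v : Fin (t + 2) ↪ Fin n) (hv : ∀ j, T.IsMinusTwo (v j))
    (hchain : ∀ j j' : Fin (t + 2), 1 ≤ j.val → j.val + 1 ≤ t → j'.val = j.val + 1 → 0 < T.a (v j) (v j'))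
    (h02 : ∀ j j' : Fin (t + 2), j.val = 0 → j'.val = 2 → 0 < T.a (v j) (v j'))
    (hlast : ∀ j j' : Fin (t + 2), j.val = t - 1 → j'.val = t + 1 → 0 < T.a (v j) (v j')) : False := by
  have hcnn : ∀ j : Fin (t + 2), 0 ≤ cN t j.val := by
    intro j
    unfold cN
    split_ifs <;> norm_num
  have hcpos : ∀ j : Fin (t + 2), 0 < cN t j.val := by
    intro j
    unfold cN
    split_ifs <;> norm_num
  have hP : ∀ s, s + 2 < t + 2 → (mkP (t + 2) 2 s).val = s + 2 := fun s h => mkP_val h
  refine uc T hn v hv (fun j => cN t j.val) hcnn ⟨0, hcpos 0⟩ (t - 3) (mkP (t + 2) 2)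
    ?_ ?_ ?_ ?_ ?_ ?_
  · intro s s' hs hs' e
    have := congrArg Fin.val e
    rw [hP s (by omega), hP s' (by omega)] at this
    omega
  · intro s hs
    refine (hchain _ _ ?_ ?_ ?_).ne'
    · rw [hP s (by omega)]; omega
    · rw [hP s (by omega)]; omega
    · rw [hP s (by omega), hP (s + 1) (by omega)]
  · intro s hs0 hs
    show cN t (mkP (t + 2) 2 s).val = 2
    rw [hP s (by omega)]
    exact cN_two (by omega)
  · intro hr
    show 2 * T.w (v (mkP (t + 2) 2 1)) ≤
      T.a (v (mkP (t + 2) 2 1)) (v (mkP (t + 2) 2 0)) * cN t (mkP (t + 2) 2 0).val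
    rw [hP 0 (by omega), cN_two (by omega)]
    have h := hchain (mkP (t + 2) 2 0) (mkP (t + 2) 2 1) (by rw [hP 0 (by omega)]; omega)
      (by rw [hP 0 (by omega)]; omega) (by rw [hP 0 (by omega), hP 1 (by omega)])
    have := (pos_le h).2.2.1
    linarith
  · intro hr
    show 2 * T.w (v (mkP (t + 2) 2 (t - 3 - 1))) ≤
      T.a (v (mkP (t + 2) 2 (t - 3 - 1))) (v (mkP (t + 2) 2 (t - 3))) *
        cN t (mkP (t + 2) 2 (t - 3)).val
    rw [hP (t - 3) (by omega), cN_two (by omega)]
    have h := hchain (mkP (t + 2) 2 (t - 3 - 1)) (mkP (t + 2) 2 (t - 3))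
      (by rw [hP _ (by omega)]; omega) (by rw [hP _ (by omega)]; omega)
      (by rw [hP _ (by omega), hP _ (by omega)]; omega)
    have := (pos_le h).1
    linarith
  · intro q _ hq
    have hcase : q.val = 0 ∨ q.val = 1 ∨ q.val = 2 ∨ q.val = t - 1 ∨ q.val = t ∨ q.val = t + 1 := by
      by_contra hcon
      push Not at hcon
      have hlt := q.isLt
      refine hq (q.val - 2) (by omega) (by omega) (Fin.ext ?_)
      rw [hP _ (by omega)]
      omega
    obtain ⟨p0, hp0⟩ := exists_fin (k := t + 2) 0 (by omega)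
    obtain ⟨p1, hp1⟩ := exists_fin (k := t + 2) 1 (by omega)
    obtain ⟨p2, hp2⟩ := exists_fin (k := t + 2) 2 (by omega)
    obtain ⟨p3, hp3⟩ := exists_fin (k := t + 2) 3 (by omega)
    obtain ⟨pa, hpa⟩ := exists_fin (k := t + 2) (t - 2) (by omega)
    obtain ⟨pb, hpb⟩ := exists_fin (k := t + 2) (t - 1) (by omega)
    obtain ⟨pc, hpc⟩ := exists_fin (k := t + 2) t (by omega)
    obtain ⟨pd, hpd⟩ := exists_fin (k := t + 2) (t + 1) (by omega)
    have a02 := pos_le (h02 p0 p2 hp0 hp2)
    have a12 := pos_le (hchain p1 p2 (by omega) (by omega) (by omega))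
    have a23 := pos_le (hchain p2 p3 (by omega) (by omega) (by omega))
    have aab := pos_le (hchain pa pb (by omega) (by omega) (by omega))
    have abc := pos_le (hchain pb pc (by omega) (by omega) (by omega))
    have abd := pos_le (hlast pb pd hpb hpd)
    have ne_of_val : ∀ {x y : Fin (t + 2)}, x.val ≠ y.val → x ≠ y := fun h e => h (congrArg _ e)
    rcases hcase with h | h | h | h | h | h
    · have hq0 : p0 = q := Fin.ext (by omega)
      subst hq0
      refine superAt_one p2 (ne_of_val (by omega)) ?_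
      show 2 * cN t p0.val * T.w (v p0) ≤ T.a (v p0) (v p2) * cN t p2.val
      rw [cN_one (by omega), cN_two (x := p2.val) (by omega)]
      linarith [a02.1]
    · have hq0 : p1 = q := Fin.ext (by omega)
      subst hq0
      refine superAt_one p2 (ne_of_val (by omega)) ?_
      show 2 * cN t p1.val * T.w (v p1) ≤ T.a (v p1) (v p2) * cN t p2.val
      rw [cN_one (by omega), cN_two (x := p2.val) (by omega)]
      linarith [a12.1]
    · have hq0 : p2 = q := Fin.ext (by omega)
      subst hq0
      refine superAt_three p0 p1 p3 (ne_of_val (by omega)) (ne_of_val (by omega))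
        (ne_of_val (by omega)) (ne_of_val (by omega)) (ne_of_val (by omega))
        (ne_of_val (by omega)) ?_
      show 2 * cN t p2.val * T.w (v p2) ≤ T.a (v p2) (v p0) * cN t p0.val +
        T.a (v p2) (v p1) * cN t p1.val + T.a (v p2) (v p3) * cN t p3.val
      rw [cN_two (x := p2.val) (by omega), cN_one (x := p0.val) (by omega),
        cN_one (x := p1.val) (by omega), cN_two (x := p3.val) (by omega)]
      linarith [a02.2.2.1, a12.2.2.1, a23.1]
    · have hq0 : pb = q := Fin.ext (by omega)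
      subst hq0
      refine superAt_three pa pc pd (ne_of_val (by omega)) (ne_of_val (by omega))
        (ne_of_val (by omega)) (ne_of_val (by omega)) (ne_of_val (by omega))
        (ne_of_val (by omega)) ?_
      show 2 * cN t pb.val * T.w (v pb) ≤ T.a (v pb) (v pa) * cN t pa.val +
        T.a (v pb) (v pc) * cN t pc.val + T.a (v pb) (v pd) * cN t pd.val
      rw [cN_two (x := pb.val) (by omega), cN_two (x := pa.val) (by omega),
        cN_one (x := pc.val) (by omega), cN_one (x := pd.val) (by omega)]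
      linarith [aab.2.2.1, abc.1, abd.1]
    · have hq0 : pc = q := Fin.ext (by omega)
      subst hq0
      refine superAt_one pb (ne_of_val (by omega)) ?_
      show 2 * cN t pc.val * T.w (v pc) ≤ T.a (v pc) (v pb) * cN t pb.val
      rw [cN_one (by omega), cN_two (x := pb.val) (by omega)]
      linarith [abc.2.2.1]
    · have hq0 : pd = q := Fin.ext (by omega)
      subst hq0
      refine superAt_one pb (ne_of_val (by omega)) ?_
      show 2 * cN t pd.val * T.w (v pd) ≤ T.a (v pd) (v pb) * cN t pb.val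
      rw [cN_one (by omega), cN_two (x := pb.val) (by omega)]
      linarith [abd.2.2.1]

end Groth.Agent.S7342
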