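import Groth.Statements.S7346
import Groth.Agent.Lib.NumTypeDynkin

set_option autoImplicit false
open Finset
open Models Models.NumericalType

namespace Groth.Agent.S7346

open Groth.Agent.Lib.NumTypeDynkin Groth.Agent.Lib.NumType

/-- Classification of proper subgraphs of type D4 (one vertex joined to three others): let T be a
numerical type on n > 4 indices and i_1, …, i_4 distinct (-2)-indices with a_{12}, a_{13}, a_{14}
nonzero. Then for some integer w all w_{i_j} equal w, these intersection numbers equal w, all other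
a_{i_j i_k} (j ≠ k) vanish, and 2 m_1 ≥ m_2 + m_3 + m_4, 2 m_2 ≥ m_1, 2 m_3 ≥ m_1, 2 m_4 ≥ m_1. -/
theorem result {n : ℕ} (T : Models.NumericalType n) (hn : 4 < n)
    (v : Fin 4 ↪ Fin n) (hv : ∀ j, T.IsMinusTwo (v j)) (h01 : T.a (v 0) (v 1) ≠ 0) (h02 : T.a (v 0) (v 2) ≠ 0) (h03 : T.a (v 0) (v 3) ≠ 0) :
    ∃ w : ℤ, (∀ j : Fin 4, T.w (v j) = w) ∧
      T.a (v 0) (v 1) = w ∧
      T.a (v 0) (v 2) = w ∧
      T.a (v 0) (v 3) = w ∧
      T.a (v 1) (v 2) = 0 ∧
      T.a (v 1) (v 3) = 0 ∧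
      T.a (v 2) (v 3) = 0 ∧
      T.m (v 1) + T.m (v 2) + T.m (v 3) ≤ 2 * T.m (v 0) ∧
      T.m (v 0) ≤ 2 * T.m (v 1) ∧
      T.m (v 0) ≤ 2 * T.m (v 2) ∧
      T.m (v 0) ≤ 2 * T.m (v 3) := by
  have n_0_1 : T.a (v 0) (v 1) ≠ 0 := h01
  have n_1_0 : T.a (v 1) (v 0) ≠ 0 := by rw [a_symm T (v 1) (v 0)]; exact h01
  have n_0_2 : T.a (v 0) (v 2) ≠ 0 := h02
  have n_2_0 : T.a (v 2) (v 0) ≠ 0 := by rw [a_symm T (v 2) (v 0)]; exact h02
  have n_0_3 : T.a (v 0) (v 3) ≠ 0 := h03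
  have n_3_0 : T.a (v 3) (v 0) ≠ 0 := by rw [a_symm T (v 3) (v 0)]; exact h03
  have l_0_1 := one_le' T v (p := 0) (q := 1) (by decide) n_0_1
  have l_1_0 := one_le' T v (p := 1) (q := 0) (by decide) n_1_0
  have l_0_2 := one_le' T v (p := 0) (q := 2) (by decide) n_0_2
  have l_2_0 := one_le' T v (p := 2) (q := 0) (by decide) n_2_0
  have l_0_3 := one_le' T v (p := 0) (q := 3) (by decide) n_0_3
  have l_3_0 := one_le' T v (p := 3) (q := 0) (by decide) n_3_0
  have z_1_2 : T.a (v 1) (v 2) = 0 := by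
    by_contra hne
    have hne' : T.a (v 2) (v 1) ≠ 0 := by rw [a_symm T (v 2) (v 1)]; exact hne
    have l_1_2 := one_le' T v (p := 1) (q := 2) (by decide) hne
    have l_2_1 := one_le' T v (p := 2) (q := 1) (by decide) hne'
    refine no_super_list T hn v hv [(0, 1, 1), (1, 0, 1), (0, 2, 1), (2, 0, 1), (0, 3, 1), (3, 0, 1), (1, 2, 1), (2, 1, 1)] ?_
      ![1, 1, 1, 0] (by decide) ⟨0, by decide⟩ (by decide)
    intro e he
    simp only [List.mem_cons, List.not_mem_nil, or_false] at he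
    rcases he with rfl | rfl | rfl | rfl | rfl | rfl | rfl | rfl
    exacts [l_0_1, l_1_0, l_0_2, l_2_0, l_0_3, l_3_0, l_1_2, l_2_1]
  have z_2_1 : T.a (v 2) (v 1) = 0 := by rw [a_symm T (v 2) (v 1)]; exact z_1_2
  have z_1_3 : T.a (v 1) (v 3) = 0 := by
    by_contra hne
    have hne' : T.a (v 3) (v 1) ≠ 0 := by rw [a_symm T (v 3) (v 1)]; exact hne
    have l_1_3 := one_le' T v (p := 1) (q := 3) (by decide) hne
    have l_3_1 := one_le' T v (p := 3) (q := 1) (by decide) hne'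
    refine no_super_list T hn v hv [(0, 1, 1), (1, 0, 1), (0, 2, 1), (2, 0, 1), (0, 3, 1), (3, 0, 1), (1, 3, 1), (3, 1, 1)] ?_
      ![1, 1, 0, 1] (by decide) ⟨0, by decide⟩ (by decide)
    intro e he
    simp only [List.mem_cons, List.not_mem_nil, or_false] at he
    rcases he with rfl | rfl | rfl | rfl | rfl | rfl | rfl | rfl
    exacts [l_0_1, l_1_0, l_0_2, l_2_0, l_0_3, l_3_0, l_1_3, l_3_1]
  have z_3_1 : T.a (v 3) (v 1) = 0 := by rw [a_symm T (v 3) (v 1)]; exact z_1_3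
  have z_2_3 : T.a (v 2) (v 3) = 0 := by
    by_contra hne
    have hne' : T.a (v 3) (v 2) ≠ 0 := by rw [a_symm T (v 3) (v 2)]; exact hne
    have l_2_3 := one_le' T v (p := 2) (q := 3) (by decide) hne
    have l_3_2 := one_le' T v (p := 3) (q := 2) (by decide) hne'
    refine no_super_list T hn v hv [(0, 1, 1), (1, 0, 1), (0, 2, 1), (2, 0, 1), (0, 3, 1), (3, 0, 1), (2, 3, 1), (3, 2, 1)] ?_
      ![1, 0, 1, 1] (by decide) ⟨0, by decide⟩ (by decide)
    intro e he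
    simp only [List.mem_cons, List.not_mem_nil, or_false] at he
    rcases he with rfl | rfl | rfl | rfl | rfl | rfl | rfl | rfl
    exacts [l_0_1, l_1_0, l_0_2, l_2_0, l_0_3, l_3_0, l_2_3, l_3_2]
  have z_3_2 : T.a (v 3) (v 2) = 0 := by rw [a_symm T (v 3) (v 2)]; exact z_2_3
  have e_0_1 : T.a (v 0) (v 1) = T.w (v 0) := by
    by_contra hne
    have b := two_le_of_ne' T v (p := 0) (q := 1) (by decide) n_0_1 hne
    refine no_super_list T hn v hv [(0, 1, 2), (1, 0, 1), (0, 2, 1), (2, 0, 1), (0, 3, 1), (3, 0, 1)] ?_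
      ![2, 1, 1, 1] (by decide) ⟨0, by decide⟩ (by decide)
    intro e he
    simp only [List.mem_cons, List.not_mem_nil, or_false] at he
    rcases he with rfl | rfl | rfl | rfl | rfl | rfl
    exacts [b, l_1_0, l_0_2, l_2_0, l_0_3, l_3_0]
  have e_1_0 : T.a (v 1) (v 0) = T.w (v 1) := by
    by_contra hne
    have b := two_le_of_ne' T v (p := 1) (q := 0) (by decide) n_1_0 hne
    refine no_super_list T hn v hv [(0, 1, 1), (1, 0, 2), (0, 2, 1), (2, 0, 1), (0, 3, 1), (3, 0, 1)] ?_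
      ![2, 2, 1, 1] (by decide) ⟨0, by decide⟩ (by decide)
    intro e he
    simp only [List.mem_cons, List.not_mem_nil, or_false] at he
    rcases he with rfl | rfl | rfl | rfl | rfl | rfl
    exacts [l_0_1, b, l_0_2, l_2_0, l_0_3, l_3_0]
  have e_0_2 : T.a (v 0) (v 2) = T.w (v 0) := by
    by_contra hne
    have b := two_le_of_ne' T v (p := 0) (q := 2) (by decide) n_0_2 hne
    refine no_super_list T hn v hv [(0, 1, 1), (1, 0, 1), (0, 2, 2), (2, 0, 1), (0, 3, 1), (3, 0, 1)] ?_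
      ![2, 1, 1, 1] (by decide) ⟨0, by decide⟩ (by decide)
    intro e he
    simp only [List.mem_cons, List.not_mem_nil, or_false] at he
    rcases he with rfl | rfl | rfl | rfl | rfl | rfl
    exacts [l_0_1, l_1_0, b, l_2_0, l_0_3, l_3_0]
  have e_2_0 : T.a (v 2) (v 0) = T.w (v 2) := by
    by_contra hne
    have b := two_le_of_ne' T v (p := 2) (q := 0) (by decide) n_2_0 hne
    refine no_super_list T hn v hv [(0, 1, 1), (1, 0, 1), (0, 2, 1), (2, 0, 2), (0, 3, 1), (3, 0, 1)] ?_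
      ![2, 1, 2, 1] (by decide) ⟨0, by decide⟩ (by decide)
    intro e he
    simp only [List.mem_cons, List.not_mem_nil, or_false] at he
    rcases he with rfl | rfl | rfl | rfl | rfl | rfl
    exacts [l_0_1, l_1_0, l_0_2, b, l_0_3, l_3_0]
  have e_0_3 : T.a (v 0) (v 3) = T.w (v 0) := by
    by_contra hne
    have b := two_le_of_ne' T v (p := 0) (q := 3) (by decide) n_0_3 hne
    refine no_super_list T hn v hv [(0, 1, 1), (1, 0, 1), (0, 2, 1), (2, 0, 1), (0, 3, 2), (3, 0, 1)] ?_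
      ![2, 1, 1, 1] (by decide) ⟨0, by decide⟩ (by decide)
    intro e he
    simp only [List.mem_cons, List.not_mem_nil, or_false] at he
    rcases he with rfl | rfl | rfl | rfl | rfl | rfl
    exacts [l_0_1, l_1_0, l_0_2, l_2_0, b, l_3_0]
  have e_3_0 : T.a (v 3) (v 0) = T.w (v 3) := by
    by_contra hne
    have b := two_le_of_ne' T v (p := 3) (q := 0) (by decide) n_3_0 hne
    refine no_super_list T hn v hv [(0, 1, 1), (1, 0, 1), (0, 2, 1), (2, 0, 1), (0, 3, 1), (3, 0, 2)] ?_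
      ![2, 1, 1, 2] (by decide) ⟨0, by decide⟩ (by decide)
    intro e he
    simp only [List.mem_cons, List.not_mem_nil, or_false] at he
    rcases he with rfl | rfl | rfl | rfl | rfl | rfl
    exacts [l_0_1, l_1_0, l_0_2, l_2_0, l_0_3, b]
  have w_0 : T.w (v 0) = T.w (v 0) := rfl
  have w_1 : T.w (v 1) = T.w (v 0) := by
    have := a_symm T (v 0) (v 1)
    linarith [e_0_1, e_1_0, w_0]
  have w_2 : T.w (v 2) = T.w (v 0) := by
    have := a_symm T (v 0) (v 2)
    linarith [e_0_2, e_2_0, w_0]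
  have w_3 : T.w (v 3) = T.w (v 0) := by
    have := a_symm T (v 0) (v 3)
    linarith [e_0_3, e_3_0, w_0]
  have hW := T.w_pos (v 0)
  have val_0_0 : T.a (v 0) (v 0) = -2 * T.w (v 0) := by rw [(hv 0).2, w_0]
  have val_0_1 : T.a (v 0) (v 1) = T.w (v 0) := by rw [e_0_1, w_0]
  have val_0_2 : T.a (v 0) (v 2) = T.w (v 0) := by rw [e_0_2, w_0]
  have val_0_3 : T.a (v 0) (v 3) = T.w (v 0) := by rw [e_0_3, w_0]
  have val_1_0 : T.a (v 1) (v 0) = T.w (v 0) := by rw [e_1_0, w_1]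
  have val_1_1 : T.a (v 1) (v 1) = -2 * T.w (v 0) := by rw [(hv 1).2, w_1]
  have val_1_2 : T.a (v 1) (v 2) = 0 := z_1_2
  have val_1_3 : T.a (v 1) (v 3) = 0 := z_1_3
  have val_2_0 : T.a (v 2) (v 0) = T.w (v 0) := by rw [e_2_0, w_2]
  have val_2_1 : T.a (v 2) (v 1) = 0 := z_2_1
  have val_2_2 : T.a (v 2) (v 2) = -2 * T.w (v 0) := by rw [(hv 2).2, w_2]
  have val_2_3 : T.a (v 2) (v 3) = 0 := z_2_3
  have val_3_0 : T.a (v 3) (v 0) = T.w (v 0) := by rw [e_3_0, w_3]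
  have val_3_1 : T.a (v 3) (v 1) = 0 := z_3_1
  have val_3_2 : T.a (v 3) (v 2) = 0 := z_3_2
  have val_3_3 : T.a (v 3) (v 3) = -2 * T.w (v 0) := by rw [(hv 3).2, w_3]
  have m_0 : T.m (v 1) + T.m (v 2) + T.m (v 3) ≤ 2 * T.m (v 0) := by
    have h := row_le T v 0
    simp only [Fin.sum_univ_four, val_0_0, val_0_1, val_0_2, val_0_3] at h
    have h2 := le_of_W hW (X := T.m (v 1) + T.m (v 2) + T.m (v 3) - 2 * T.m (v 0)) (by linarith)
    linarith
  have m_1 : T.m (v 0) ≤ 2 * T.m (v 1) := by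
    have h := row_le T v 1
    simp only [Fin.sum_univ_four, val_1_0, val_1_1, val_1_2, val_1_3] at h
    have h2 := le_of_W hW (X := T.m (v 0) - 2 * T.m (v 1)) (by linarith)
    linarith
  have m_2 : T.m (v 0) ≤ 2 * T.m (v 2) := by
    have h := row_le T v 2
    simp only [Fin.sum_univ_four, val_2_0, val_2_1, val_2_2, val_2_3] at h
    have h2 := le_of_W hW (X := T.m (v 0) - 2 * T.m (v 2)) (by linarith)
    linarith
  have m_3 : T.m (v 0) ≤ 2 * T.m (v 3) := by
    have h := row_le T v 3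
    simp only [Fin.sum_univ_four, val_3_0, val_3_1, val_3_2, val_3_3] at h
    have h2 := le_of_W hW (X := T.m (v 0) - 2 * T.m (v 3)) (by linarith)
    linarith
  refine ⟨T.w (v 0), ?_, val_0_1, val_0_2, val_0_3, z_1_2, z_1_3, z_2_3, m_0, m_1, m_2, m_3⟩
  intro j
  fin_cases j
  exacts [w_0, w_1, w_2, w_3]

end Groth.Agent.S7346
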