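import Groth.Statements.S7347
import Groth.Agent.Lib.NumTypeDynkin

set_option autoImplicit false
open Finset
open Models Models.NumericalType

namespace Groth.Agent.S7347

open Groth.Agent.Lib.NumTypeDynkin Groth.Agent.Lib.NumType

/-- Classification of proper subgraphs of type D5 (a chain i_1 i_2 i_3 with i_4 and i_5 both joined to
i_3): let T be a numerical type on n > 5 indices and i_1, …, i_5 distinct (-2)-indices with a_{12},
a_{23}, a_{34}, a_{35} nonzero. Then for some integer w all w_{i_j} equal w, these intersection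
numbers equal w, all other a_{i_j i_k} (j ≠ k) vanish, and 2 m_1 ≥ m_2, 2 m_2 ≥ m_1 + m_3, 2 m_3 ≥
m_2 + m_4 + m_5, 2 m_4 ≥ m_3, 2 m_5 ≥ m_3. -/
theorem result {n : ℕ} (T : Models.NumericalType n) (hn : 5 < n)
    (v : Fin 5 ↪ Fin n) (hv : ∀ j, T.IsMinusTwo (v j)) (h01 : T.a (v 0) (v 1) ≠ 0) (h12 : T.a (v 1) (v 2) ≠ 0) (h23 : T.a (v 2) (v 3) ≠ 0) (h24 : T.a (v 2) (v 4) ≠ 0) :
    ∃ w : ℤ, (∀ j : Fin 5, T.w (v j) = w) ∧
      T.a (v 0) (v 1) = w ∧
      T.a (v 1) (v 2) = w ∧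
      T.a (v 2) (v 3) = w ∧
      T.a (v 2) (v 4) = w ∧
      T.a (v 0) (v 2) = 0 ∧
      T.a (v 0) (v 3) = 0 ∧
      T.a (v 0) (v 4) = 0 ∧
      T.a (v 1) (v 3) = 0 ∧
      T.a (v 1) (v 4) = 0 ∧
      T.a (v 3) (v 4) = 0 ∧
      T.m (v 1) ≤ 2 * T.m (v 0) ∧
      T.m (v 0) + T.m (v 2) ≤ 2 * T.m (v 1) ∧
      T.m (v 1) + T.m (v 3) + T.m (v 4) ≤ 2 * T.m (v 2) ∧
      T.m (v 2) ≤ 2 * T.m (v 3) ∧
      T.m (v 2) ≤ 2 * T.m (v 4) := by
  have n_0_1 : T.a (v 0) (v 1) ≠ 0 := h01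
  have n_1_0 : T.a (v 1) (v 0) ≠ 0 := by rw [a_symm T (v 1) (v 0)]; exact h01
  have n_1_2 : T.a (v 1) (v 2) ≠ 0 := h12
  have n_2_1 : T.a (v 2) (v 1) ≠ 0 := by rw [a_symm T (v 2) (v 1)]; exact h12
  have n_2_3 : T.a (v 2) (v 3) ≠ 0 := h23
  have n_3_2 : T.a (v 3) (v 2) ≠ 0 := by rw [a_symm T (v 3) (v 2)]; exact h23
  have n_2_4 : T.a (v 2) (v 4) ≠ 0 := h24
  have n_4_2 : T.a (v 4) (v 2) ≠ 0 := by rw [a_symm T (v 4) (v 2)]; exact h24
  have l_0_1 := one_le' T v (p := 0) (q := 1) (by decide) n_0_1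
  have l_1_0 := one_le' T v (p := 1) (q := 0) (by decide) n_1_0
  have l_1_2 := one_le' T v (p := 1) (q := 2) (by decide) n_1_2
  have l_2_1 := one_le' T v (p := 2) (q := 1) (by decide) n_2_1
  have l_2_3 := one_le' T v (p := 2) (q := 3) (by decide) n_2_3
  have l_3_2 := one_le' T v (p := 3) (q := 2) (by decide) n_3_2
  have l_2_4 := one_le' T v (p := 2) (q := 4) (by decide) n_2_4
  have l_4_2 := one_le' T v (p := 4) (q := 2) (by decide) n_4_2
  have z_0_2 : T.a (v 0) (v 2) = 0 := by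
    by_contra hne
    have hne' : T.a (v 2) (v 0) ≠ 0 := by rw [a_symm T (v 2) (v 0)]; exact hne
    have l_0_2 := one_le' T v (p := 0) (q := 2) (by decide) hne
    have l_2_0 := one_le' T v (p := 2) (q := 0) (by decide) hne'
    refine no_super_list T hn v hv [(0, 1, 1), (1, 0, 1), (1, 2, 1), (2, 1, 1), (2, 3, 1), (3, 2, 1), (2, 4, 1), (4, 2, 1), (0, 2, 1), (2, 0, 1)] ?_
      ![1, 1, 1, 0, 0] (by decide) ⟨0, by decide⟩ (by decide)
    intro e he
    simp only [List.mem_cons, List.not_mem_nil, or_false] at he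
    rcases he with rfl | rfl | rfl | rfl | rfl | rfl | rfl | rfl | rfl | rfl
    exacts [l_0_1, l_1_0, l_1_2, l_2_1, l_2_3, l_3_2, l_2_4, l_4_2, l_0_2, l_2_0]
  have z_2_0 : T.a (v 2) (v 0) = 0 := by rw [a_symm T (v 2) (v 0)]; exact z_0_2
  have z_0_3 : T.a (v 0) (v 3) = 0 := by
    by_contra hne
    have hne' : T.a (v 3) (v 0) ≠ 0 := by rw [a_symm T (v 3) (v 0)]; exact hne
    have l_0_3 := one_le' T v (p := 0) (q := 3) (by decide) hne
    have l_3_0 := one_le' T v (p := 3) (q := 0) (by decide) hne'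
    refine no_super_list T hn v hv [(0, 1, 1), (1, 0, 1), (1, 2, 1), (2, 1, 1), (2, 3, 1), (3, 2, 1), (2, 4, 1), (4, 2, 1), (0, 3, 1), (3, 0, 1)] ?_
      ![1, 1, 1, 1, 0] (by decide) ⟨0, by decide⟩ (by decide)
    intro e he
    simp only [List.mem_cons, List.not_mem_nil, or_false] at he
    rcases he with rfl | rfl | rfl | rfl | rfl | rfl | rfl | rfl | rfl | rfl
    exacts [l_0_1, l_1_0, l_1_2, l_2_1, l_2_3, l_3_2, l_2_4, l_4_2, l_0_3, l_3_0]
  have z_3_0 : T.a (v 3) (v 0) = 0 := by rw [a_symm T (v 3) (v 0)]; exact z_0_3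
  have z_0_4 : T.a (v 0) (v 4) = 0 := by
    by_contra hne
    have hne' : T.a (v 4) (v 0) ≠ 0 := by rw [a_symm T (v 4) (v 0)]; exact hne
    have l_0_4 := one_le' T v (p := 0) (q := 4) (by decide) hne
    have l_4_0 := one_le' T v (p := 4) (q := 0) (by decide) hne'
    refine no_super_list T hn v hv [(0, 1, 1), (1, 0, 1), (1, 2, 1), (2, 1, 1), (2, 3, 1), (3, 2, 1), (2, 4, 1), (4, 2, 1), (0, 4, 1), (4, 0, 1)] ?_
      ![1, 1, 1, 0, 1] (by decide) ⟨0, by decide⟩ (by decide)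
    intro e he
    simp only [List.mem_cons, List.not_mem_nil, or_false] at he
    rcases he with rfl | rfl | rfl | rfl | rfl | rfl | rfl | rfl | rfl | rfl
    exacts [l_0_1, l_1_0, l_1_2, l_2_1, l_2_3, l_3_2, l_2_4, l_4_2, l_0_4, l_4_0]
  have z_4_0 : T.a (v 4) (v 0) = 0 := by rw [a_symm T (v 4) (v 0)]; exact z_0_4
  have z_1_3 : T.a (v 1) (v 3) = 0 := by
    by_contra hne
    have hne' : T.a (v 3) (v 1) ≠ 0 := by rw [a_symm T (v 3) (v 1)]; exact hne
    have l_1_3 := one_le' T v (p := 1) (q := 3) (by decide) hne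
    have l_3_1 := one_le' T v (p := 3) (q := 1) (by decide) hne'
    refine no_super_list T hn v hv [(0, 1, 1), (1, 0, 1), (1, 2, 1), (2, 1, 1), (2, 3, 1), (3, 2, 1), (2, 4, 1), (4, 2, 1), (1, 3, 1), (3, 1, 1)] ?_
      ![0, 1, 1, 1, 0] (by decide) ⟨1, by decide⟩ (by decide)
    intro e he
    simp only [List.mem_cons, List.not_mem_nil, or_false] at he
    rcases he with rfl | rfl | rfl | rfl | rfl | rfl | rfl | rfl | rfl | rfl
    exacts [l_0_1, l_1_0, l_1_2, l_2_1, l_2_3, l_3_2, l_2_4, l_4_2, l_1_3, l_3_1]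
  have z_3_1 : T.a (v 3) (v 1) = 0 := by rw [a_symm T (v 3) (v 1)]; exact z_1_3
  have z_1_4 : T.a (v 1) (v 4) = 0 := by
    by_contra hne
    have hne' : T.a (v 4) (v 1) ≠ 0 := by rw [a_symm T (v 4) (v 1)]; exact hne
    have l_1_4 := one_le' T v (p := 1) (q := 4) (by decide) hne
    have l_4_1 := one_le' T v (p := 4) (q := 1) (by decide) hne'
    refine no_super_list T hn v hv [(0, 1, 1), (1, 0, 1), (1, 2, 1), (2, 1, 1), (2, 3, 1), (3, 2, 1), (2, 4, 1), (4, 2, 1), (1, 4, 1), (4, 1, 1)] ?_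
      ![0, 1, 1, 0, 1] (by decide) ⟨1, by decide⟩ (by decide)
    intro e he
    simp only [List.mem_cons, List.not_mem_nil, or_false] at he
    rcases he with rfl | rfl | rfl | rfl | rfl | rfl | rfl | rfl | rfl | rfl
    exacts [l_0_1, l_1_0, l_1_2, l_2_1, l_2_3, l_3_2, l_2_4, l_4_2, l_1_4, l_4_1]
  have z_4_1 : T.a (v 4) (v 1) = 0 := by rw [a_symm T (v 4) (v 1)]; exact z_1_4
  have z_3_4 : T.a (v 3) (v 4) = 0 := by
    by_contra hne
    have hne' : T.a (v 4) (v 3) ≠ 0 := by rw [a_symm T (v 4) (v 3)]; exact hne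
    have l_3_4 := one_le' T v (p := 3) (q := 4) (by decide) hne
    have l_4_3 := one_le' T v (p := 4) (q := 3) (by decide) hne'
    refine no_super_list T hn v hv [(0, 1, 1), (1, 0, 1), (1, 2, 1), (2, 1, 1), (2, 3, 1), (3, 2, 1), (2, 4, 1), (4, 2, 1), (3, 4, 1), (4, 3, 1)] ?_
      ![0, 0, 1, 1, 1] (by decide) ⟨2, by decide⟩ (by decide)
    intro e he
    simp only [List.mem_cons, List.not_mem_nil, or_false] at he
    rcases he with rfl | rfl | rfl | rfl | rfl | rfl | rfl | rfl | rfl | rfl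
    exacts [l_0_1, l_1_0, l_1_2, l_2_1, l_2_3, l_3_2, l_2_4, l_4_2, l_3_4, l_4_3]
  have z_4_3 : T.a (v 4) (v 3) = 0 := by rw [a_symm T (v 4) (v 3)]; exact z_3_4
  have e_0_1 : T.a (v 0) (v 1) = T.w (v 0) := by
    by_contra hne
    have b := two_le_of_ne' T v (p := 0) (q := 1) (by decide) n_0_1 hne
    refine no_super_list T hn v hv [(0, 1, 2), (1, 0, 1), (1, 2, 1), (2, 1, 1), (2, 3, 1), (3, 2, 1), (2, 4, 1), (4, 2, 1)] ?_
      ![2, 2, 2, 1, 1] (by decide) ⟨0, by decide⟩ (by decide)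
    intro e he
    simp only [List.mem_cons, List.not_mem_nil, or_false] at he
    rcases he with rfl | rfl | rfl | rfl | rfl | rfl | rfl | rfl
    exacts [b, l_1_0, l_1_2, l_2_1, l_2_3, l_3_2, l_2_4, l_4_2]
  have e_1_0 : T.a (v 1) (v 0) = T.w (v 1) := by
    by_contra hne
    have b := two_le_of_ne' T v (p := 1) (q := 0) (by decide) n_1_0 hne
    refine no_super_list T hn v hv [(0, 1, 1), (1, 0, 2), (1, 2, 1), (2, 1, 1), (2, 3, 1), (3, 2, 1), (2, 4, 1), (4, 2, 1)] ?_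
      ![1, 2, 2, 1, 1] (by decide) ⟨0, by decide⟩ (by decide)
    intro e he
    simp only [List.mem_cons, List.not_mem_nil, or_false] at he
    rcases he with rfl | rfl | rfl | rfl | rfl | rfl | rfl | rfl
    exacts [l_0_1, b, l_1_2, l_2_1, l_2_3, l_3_2, l_2_4, l_4_2]
  have e_1_2 : T.a (v 1) (v 2) = T.w (v 1) := by
    by_contra hne
    have b := two_le_of_ne' T v (p := 1) (q := 2) (by decide) n_1_2 hne
    refine no_super_list T hn v hv [(0, 1, 1), (1, 0, 1), (1, 2, 2), (2, 1, 1), (2, 3, 1), (3, 2, 1), (2, 4, 1), (4, 2, 1)] ?_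
      ![1, 2, 2, 1, 1] (by decide) ⟨0, by decide⟩ (by decide)
    intro e he
    simp only [List.mem_cons, List.not_mem_nil, or_false] at he
    rcases he with rfl | rfl | rfl | rfl | rfl | rfl | rfl | rfl
    exacts [l_0_1, l_1_0, b, l_2_1, l_2_3, l_3_2, l_2_4, l_4_2]
  have e_2_1 : T.a (v 2) (v 1) = T.w (v 2) := by
    by_contra hne
    have b := two_le_of_ne' T v (p := 2) (q := 1) (by decide) n_2_1 hne
    refine no_super_list T hn v hv [(0, 1, 1), (1, 0, 1), (1, 2, 1), (2, 1, 2), (2, 3, 1), (3, 2, 1), (2, 4, 1), (4, 2, 1)] ?_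
      ![0, 1, 2, 1, 1] (by decide) ⟨1, by decide⟩ (by decide)
    intro e he
    simp only [List.mem_cons, List.not_mem_nil, or_false] at he
    rcases he with rfl | rfl | rfl | rfl | rfl | rfl | rfl | rfl
    exacts [l_0_1, l_1_0, l_1_2, b, l_2_3, l_3_2, l_2_4, l_4_2]
  have e_2_3 : T.a (v 2) (v 3) = T.w (v 2) := by
    by_contra hne
    have b := two_le_of_ne' T v (p := 2) (q := 3) (by decide) n_2_3 hne
    refine no_super_list T hn v hv [(0, 1, 1), (1, 0, 1), (1, 2, 1), (2, 1, 1), (2, 3, 2), (3, 2, 1), (2, 4, 1), (4, 2, 1)] ?_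
      ![0, 1, 2, 1, 1] (by decide) ⟨1, by decide⟩ (by decide)
    intro e he
    simp only [List.mem_cons, List.not_mem_nil, or_false] at he
    rcases he with rfl | rfl | rfl | rfl | rfl | rfl | rfl | rfl
    exacts [l_0_1, l_1_0, l_1_2, l_2_1, b, l_3_2, l_2_4, l_4_2]
  have e_3_2 : T.a (v 3) (v 2) = T.w (v 3) := by
    by_contra hne
    have b := two_le_of_ne' T v (p := 3) (q := 2) (by decide) n_3_2 hne
    refine no_super_list T hn v hv [(0, 1, 1), (1, 0, 1), (1, 2, 1), (2, 1, 1), (2, 3, 1), (3, 2, 2), (2, 4, 1), (4, 2, 1)] ?_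
      ![0, 1, 2, 2, 1] (by decide) ⟨1, by decide⟩ (by decide)
    intro e he
    simp only [List.mem_cons, List.not_mem_nil, or_false] at he
    rcases he with rfl | rfl | rfl | rfl | rfl | rfl | rfl | rfl
    exacts [l_0_1, l_1_0, l_1_2, l_2_1, l_2_3, b, l_2_4, l_4_2]
  have e_2_4 : T.a (v 2) (v 4) = T.w (v 2) := by
    by_contra hne
    have b := two_le_of_ne' T v (p := 2) (q := 4) (by decide) n_2_4 hne
    refine no_super_list T hn v hv [(0, 1, 1), (1, 0, 1), (1, 2, 1), (2, 1, 1), (2, 3, 1), (3, 2, 1), (2, 4, 2), (4, 2, 1)] ?_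
      ![0, 1, 2, 1, 1] (by decide) ⟨1, by decide⟩ (by decide)
    intro e he
    simp only [List.mem_cons, List.not_mem_nil, or_false] at he
    rcases he with rfl | rfl | rfl | rfl | rfl | rfl | rfl | rfl
    exacts [l_0_1, l_1_0, l_1_2, l_2_1, l_2_3, l_3_2, b, l_4_2]
  have e_4_2 : T.a (v 4) (v 2) = T.w (v 4) := by
    by_contra hne
    have b := two_le_of_ne' T v (p := 4) (q := 2) (by decide) n_4_2 hne
    refine no_super_list T hn v hv [(0, 1, 1), (1, 0, 1), (1, 2, 1), (2, 1, 1), (2, 3, 1), (3, 2, 1), (2, 4, 1), (4, 2, 2)] ?_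
      ![0, 1, 2, 1, 2] (by decide) ⟨1, by decide⟩ (by decide)
    intro e he
    simp only [List.mem_cons, List.not_mem_nil, or_false] at he
    rcases he with rfl | rfl | rfl | rfl | rfl | rfl | rfl | rfl
    exacts [l_0_1, l_1_0, l_1_2, l_2_1, l_2_3, l_3_2, l_2_4, b]
  have w_0 : T.w (v 0) = T.w (v 0) := rfl
  have w_1 : T.w (v 1) = T.w (v 0) := by
    have := a_symm T (v 0) (v 1)
    linarith [e_0_1, e_1_0, w_0]
  have w_2 : T.w (v 2) = T.w (v 0) := by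
    have := a_symm T (v 1) (v 2)
    linarith [e_1_2, e_2_1, w_1]
  have w_3 : T.w (v 3) = T.w (v 0) := by
    have := a_symm T (v 2) (v 3)
    linarith [e_2_3, e_3_2, w_2]
  have w_4 : T.w (v 4) = T.w (v 0) := by
    have := a_symm T (v 2) (v 4)
    linarith [e_2_4, e_4_2, w_2]
  have hW := T.w_pos (v 0)
  have val_0_0 : T.a (v 0) (v 0) = -2 * T.w (v 0) := by rw [(hv 0).2, w_0]
  have val_0_1 : T.a (v 0) (v 1) = T.w (v 0) := by rw [e_0_1, w_0]
  have val_0_2 : T.a (v 0) (v 2) = 0 := z_0_2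
  have val_0_3 : T.a (v 0) (v 3) = 0 := z_0_3
  have val_0_4 : T.a (v 0) (v 4) = 0 := z_0_4
  have val_1_0 : T.a (v 1) (v 0) = T.w (v 0) := by rw [e_1_0, w_1]
  have val_1_1 : T.a (v 1) (v 1) = -2 * T.w (v 0) := by rw [(hv 1).2, w_1]
  have val_1_2 : T.a (v 1) (v 2) = T.w (v 0) := by rw [e_1_2, w_1]
  have val_1_3 : T.a (v 1) (v 3) = 0 := z_1_3
  have val_1_4 : T.a (v 1) (v 4) = 0 := z_1_4
  have val_2_0 : T.a (v 2) (v 0) = 0 := z_2_0
  have val_2_1 : T.a (v 2) (v 1) = T.w (v 0) := by rw [e_2_1, w_2]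
  have val_2_2 : T.a (v 2) (v 2) = -2 * T.w (v 0) := by rw [(hv 2).2, w_2]
  have val_2_3 : T.a (v 2) (v 3) = T.w (v 0) := by rw [e_2_3, w_2]
  have val_2_4 : T.a (v 2) (v 4) = T.w (v 0) := by rw [e_2_4, w_2]
  have val_3_0 : T.a (v 3) (v 0) = 0 := z_3_0
  have val_3_1 : T.a (v 3) (v 1) = 0 := z_3_1
  have val_3_2 : T.a (v 3) (v 2) = T.w (v 0) := by rw [e_3_2, w_3]
  have val_3_3 : T.a (v 3) (v 3) = -2 * T.w (v 0) := by rw [(hv 3).2, w_3]
  have val_3_4 : T.a (v 3) (v 4) = 0 := z_3_4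
  have val_4_0 : T.a (v 4) (v 0) = 0 := z_4_0
  have val_4_1 : T.a (v 4) (v 1) = 0 := z_4_1
  have val_4_2 : T.a (v 4) (v 2) = T.w (v 0) := by rw [e_4_2, w_4]
  have val_4_3 : T.a (v 4) (v 3) = 0 := z_4_3
  have val_4_4 : T.a (v 4) (v 4) = -2 * T.w (v 0) := by rw [(hv 4).2, w_4]
  have m_0 : T.m (v 1) ≤ 2 * T.m (v 0) := by
    have h := row_le T v 0
    simp only [Fin.sum_univ_five, val_0_0, val_0_1, val_0_2, val_0_3, val_0_4] at h
    have h2 := le_of_W hW (X := T.m (v 1) - 2 * T.m (v 0)) (by linarith)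
    linarith
  have m_1 : T.m (v 0) + T.m (v 2) ≤ 2 * T.m (v 1) := by
    have h := row_le T v 1
    simp only [Fin.sum_univ_five, val_1_0, val_1_1, val_1_2, val_1_3, val_1_4] at h
    have h2 := le_of_W hW (X := T.m (v 0) + T.m (v 2) - 2 * T.m (v 1)) (by linarith)
    linarith
  have m_2 : T.m (v 1) + T.m (v 3) + T.m (v 4) ≤ 2 * T.m (v 2) := by
    have h := row_le T v 2
    simp only [Fin.sum_univ_five, val_2_0, val_2_1, val_2_2, val_2_3, val_2_4] at h
    have h2 := le_of_W hW (X := T.m (v 1) + T.m (v 3) + T.m (v 4) - 2 * T.m (v 2)) (by linarith)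
    linarith
  have m_3 : T.m (v 2) ≤ 2 * T.m (v 3) := by
    have h := row_le T v 3
    simp only [Fin.sum_univ_five, val_3_0, val_3_1, val_3_2, val_3_3, val_3_4] at h
    have h2 := le_of_W hW (X := T.m (v 2) - 2 * T.m (v 3)) (by linarith)
    linarith
  have m_4 : T.m (v 2) ≤ 2 * T.m (v 4) := by
    have h := row_le T v 4
    simp only [Fin.sum_univ_five, val_4_0, val_4_1, val_4_2, val_4_3, val_4_4] at h
    have h2 := le_of_W hW (X := T.m (v 2) - 2 * T.m (v 4)) (by linarith)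
    linarith
  refine ⟨T.w (v 0), ?_, val_0_1, val_1_2, val_2_3, val_2_4, z_0_2, z_0_3, z_0_4, z_1_3, z_1_4, z_3_4, m_0, m_1, m_2, m_3, m_4⟩
  intro j
  fin_cases j
  exacts [w_0, w_1, w_2, w_3, w_4]

end Groth.Agent.S7347
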