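import Groth.Statements.S7350
import Groth.Agent.Lib.NumTypeDynkin

set_option autoImplicit false
open Finset
open Models Models.NumericalType

namespace Groth.Agent.S7350

open Groth.Agent.Lib.NumTypeDynkin Groth.Agent.Lib.NumType

/-- Classification of proper subgraphs of type E8 (a chain i_1 … i_7 with i_8 joined to i_5): let T be a
numerical type on n > 8 indices and i_1, …, i_8 distinct (-2)-indices with a_{12}, a_{23}, a_{34},
a_{45}, a_{56}, a_{67}, a_{58} nonzero. Then for some integer w all w_{i_j} equal w, these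
intersection numbers equal w, all other a_{i_j i_k} (j ≠ k) vanish, and 2 m_1 ≥ m_2, 2 m_2 ≥ m_1 +
m_3, 2 m_3 ≥ m_2 + m_4, 2 m_4 ≥ m_3 + m_5, 2 m_5 ≥ m_4 + m_6 + m_8, 2 m_6 ≥ m_5 + m_7, 2 m_7 ≥ m_6,
2 m_8 ≥ m_5. (The published statement lists a_{65} and a_{57} among the nonzero entries, which
contradicts its own conclusion a_{57} = 0; this row uses the edges of the E8 graph, a_{67} and
a_{58}, as the pictured graph and the matrix give them.) -/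
theorem result {n : ℕ} (T : Models.NumericalType n) (hn : 8 < n)
    (v : Fin 8 ↪ Fin n) (hv : ∀ j, T.IsMinusTwo (v j)) (h01 : T.a (v 0) (v 1) ≠ 0) (h12 : T.a (v 1) (v 2) ≠ 0) (h23 : T.a (v 2) (v 3) ≠ 0) (h34 : T.a (v 3) (v 4) ≠ 0) (h45 : T.a (v 4) (v 5) ≠ 0) (h56 : T.a (v 5) (v 6) ≠ 0) (h47 : T.a (v 4) (v 7) ≠ 0) :
    ∃ w : ℤ, (∀ j : Fin 8, T.w (v j) = w) ∧
      T.a (v 0) (v 1) = w ∧
      T.a (v 1) (v 2) = w ∧
      T.a (v 2) (v 3) = w ∧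
      T.a (v 3) (v 4) = w ∧
      T.a (v 4) (v 5) = w ∧
      T.a (v 5) (v 6) = w ∧
      T.a (v 4) (v 7) = w ∧
      T.a (v 0) (v 2) = 0 ∧
      T.a (v 0) (v 3) = 0 ∧
      T.a (v 0) (v 4) = 0 ∧
      T.a (v 0) (v 5) = 0 ∧
      T.a (v 0) (v 6) = 0 ∧
      T.a (v 0) (v 7) = 0 ∧
      T.a (v 1) (v 3) = 0 ∧
      T.a (v 1) (v 4) = 0 ∧
      T.a (v 1) (v 5) = 0 ∧
      T.a (v 1) (v 6) = 0 ∧
      T.a (v 1) (v 7) = 0 ∧
      T.a (v 2) (v 4) = 0 ∧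
      T.a (v 2) (v 5) = 0 ∧
      T.a (v 2) (v 6) = 0 ∧
      T.a (v 2) (v 7) = 0 ∧
      T.a (v 3) (v 5) = 0 ∧
      T.a (v 3) (v 6) = 0 ∧
      T.a (v 3) (v 7) = 0 ∧
      T.a (v 4) (v 6) = 0 ∧
      T.a (v 5) (v 7) = 0 ∧
      T.a (v 6) (v 7) = 0 ∧
      T.m (v 1) ≤ 2 * T.m (v 0) ∧
      T.m (v 0) + T.m (v 2) ≤ 2 * T.m (v 1) ∧
      T.m (v 1) + T.m (v 3) ≤ 2 * T.m (v 2) ∧
      T.m (v 2) + T.m (v 4) ≤ 2 * T.m (v 3) ∧
      T.m (v 3) + T.m (v 5) + T.m (v 7) ≤ 2 * T.m (v 4) ∧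
      T.m (v 4) + T.m (v 6) ≤ 2 * T.m (v 5) ∧
      T.m (v 5) ≤ 2 * T.m (v 6) ∧
      T.m (v 4) ≤ 2 * T.m (v 7) := by
  have n_0_1 : T.a (v 0) (v 1) ≠ 0 := h01
  have n_1_0 : T.a (v 1) (v 0) ≠ 0 := by rw [a_symm T (v 1) (v 0)]; exact h01
  have n_1_2 : T.a (v 1) (v 2) ≠ 0 := h12
  have n_2_1 : T.a (v 2) (v 1) ≠ 0 := by rw [a_symm T (v 2) (v 1)]; exact h12
  have n_2_3 : T.a (v 2) (v 3) ≠ 0 := h23
  have n_3_2 : T.a (v 3) (v 2) ≠ 0 := by rw [a_symm T (v 3) (v 2)]; exact h23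
  have n_3_4 : T.a (v 3) (v 4) ≠ 0 := h34
  have n_4_3 : T.a (v 4) (v 3) ≠ 0 := by rw [a_symm T (v 4) (v 3)]; exact h34
  have n_4_5 : T.a (v 4) (v 5) ≠ 0 := h45
  have n_5_4 : T.a (v 5) (v 4) ≠ 0 := by rw [a_symm T (v 5) (v 4)]; exact h45
  have n_5_6 : T.a (v 5) (v 6) ≠ 0 := h56
  have n_6_5 : T.a (v 6) (v 5) ≠ 0 := by rw [a_symm T (v 6) (v 5)]; exact h56
  have n_4_7 : T.a (v 4) (v 7) ≠ 0 := h47
  have n_7_4 : T.a (v 7) (v 4) ≠ 0 := by rw [a_symm T (v 7) (v 4)]; exact h47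
  have l_0_1 := one_le' T v (p := 0) (q := 1) (by decide) n_0_1
  have l_1_0 := one_le' T v (p := 1) (q := 0) (by decide) n_1_0
  have l_1_2 := one_le' T v (p := 1) (q := 2) (by decide) n_1_2
  have l_2_1 := one_le' T v (p := 2) (q := 1) (by decide) n_2_1
  have l_2_3 := one_le' T v (p := 2) (q := 3) (by decide) n_2_3
  have l_3_2 := one_le' T v (p := 3) (q := 2) (by decide) n_3_2
  have l_3_4 := one_le' T v (p := 3) (q := 4) (by decide) n_3_4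
  have l_4_3 := one_le' T v (p := 4) (q := 3) (by decide) n_4_3
  have l_4_5 := one_le' T v (p := 4) (q := 5) (by decide) n_4_5
  have l_5_4 := one_le' T v (p := 5) (q := 4) (by decide) n_5_4
  have l_5_6 := one_le' T v (p := 5) (q := 6) (by decide) n_5_6
  have l_6_5 := one_le' T v (p := 6) (q := 5) (by decide) n_6_5
  have l_4_7 := one_le' T v (p := 4) (q := 7) (by decide) n_4_7
  have l_7_4 := one_le' T v (p := 7) (q := 4) (by decide) n_7_4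
  have z_0_2 : T.a (v 0) (v 2) = 0 := by
    by_contra hne
    have hne' : T.a (v 2) (v 0) ≠ 0 := by rw [a_symm T (v 2) (v 0)]; exact hne
    have l_0_2 := one_le' T v (p := 0) (q := 2) (by decide) hne
    have l_2_0 := one_le' T v (p := 2) (q := 0) (by decide) hne'
    refine no_super_list T hn v hv [(0, 1, 1), (1, 0, 1), (1, 2, 1), (2, 1, 1), (2, 3, 1), (3, 2, 1), (3, 4, 1), (4, 3, 1), (4, 5, 1), (5, 4, 1), (5, 6, 1), (6, 5, 1), (4, 7, 1), (7, 4, 1), (0, 2, 1), (2, 0, 1)] ?_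
      ![1, 1, 1, 0, 0, 0, 0, 0] (by decide) ⟨0, by decide⟩ (by decide)
    intro e he
    simp only [List.mem_cons, List.not_mem_nil, or_false] at he
    rcases he with rfl | rfl | rfl | rfl | rfl | rfl | rfl | rfl | rfl | rfl | rfl | rfl | rfl | rfl | rfl | rfl
    exacts [l_0_1, l_1_0, l_1_2, l_2_1, l_2_3, l_3_2, l_3_4, l_4_3, l_4_5, l_5_4, l_5_6, l_6_5, l_4_7, l_7_4, l_0_2, l_2_0]
  have z_2_0 : T.a (v 2) (v 0) = 0 := by rw [a_symm T (v 2) (v 0)]; exact z_0_2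
  have z_0_3 : T.a (v 0) (v 3) = 0 := by
    by_contra hne
    have hne' : T.a (v 3) (v 0) ≠ 0 := by rw [a_symm T (v 3) (v 0)]; exact hne
    have l_0_3 := one_le' T v (p := 0) (q := 3) (by decide) hne
    have l_3_0 := one_le' T v (p := 3) (q := 0) (by decide) hne'
    refine no_super_list T hn v hv [(0, 1, 1), (1, 0, 1), (1, 2, 1), (2, 1, 1), (2, 3, 1), (3, 2, 1), (3, 4, 1), (4, 3, 1), (4, 5, 1), (5, 4, 1), (5, 6, 1), (6, 5, 1), (4, 7, 1), (7, 4, 1), (0, 3, 1), (3, 0, 1)] ?_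
      ![1, 1, 1, 1, 0, 0, 0, 0] (by decide) ⟨0, by decide⟩ (by decide)
    intro e he
    simp only [List.mem_cons, List.not_mem_nil, or_false] at he
    rcases he with rfl | rfl | rfl | rfl | rfl | rfl | rfl | rfl | rfl | rfl | rfl | rfl | rfl | rfl | rfl | rfl
    exacts [l_0_1, l_1_0, l_1_2, l_2_1, l_2_3, l_3_2, l_3_4, l_4_3, l_4_5, l_5_4, l_5_6, l_6_5, l_4_7, l_7_4, l_0_3, l_3_0]
  have z_3_0 : T.a (v 3) (v 0) = 0 := by rw [a_symm T (v 3) (v 0)]; exact z_0_3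
  have z_0_4 : T.a (v 0) (v 4) = 0 := by
    by_contra hne
    have hne' : T.a (v 4) (v 0) ≠ 0 := by rw [a_symm T (v 4) (v 0)]; exact hne
    have l_0_4 := one_le' T v (p := 0) (q := 4) (by decide) hne
    have l_4_0 := one_le' T v (p := 4) (q := 0) (by decide) hne'
    refine no_super_list T hn v hv [(0, 1, 1), (1, 0, 1), (1, 2, 1), (2, 1, 1), (2, 3, 1), (3, 2, 1), (3, 4, 1), (4, 3, 1), (4, 5, 1), (5, 4, 1), (5, 6, 1), (6, 5, 1), (4, 7, 1), (7, 4, 1), (0, 4, 1), (4, 0, 1)] ?_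
      ![1, 1, 1, 1, 1, 0, 0, 0] (by decide) ⟨0, by decide⟩ (by decide)
    intro e he
    simp only [List.mem_cons, List.not_mem_nil, or_false] at he
    rcases he with rfl | rfl | rfl | rfl | rfl | rfl | rfl | rfl | rfl | rfl | rfl | rfl | rfl | rfl | rfl | rfl
    exacts [l_0_1, l_1_0, l_1_2, l_2_1, l_2_3, l_3_2, l_3_4, l_4_3, l_4_5, l_5_4, l_5_6, l_6_5, l_4_7, l_7_4, l_0_4, l_4_0]
  have z_4_0 : T.a (v 4) (v 0) = 0 := by rw [a_symm T (v 4) (v 0)]; exact z_0_4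
  have z_0_5 : T.a (v 0) (v 5) = 0 := by
    by_contra hne
    have hne' : T.a (v 5) (v 0) ≠ 0 := by rw [a_symm T (v 5) (v 0)]; exact hne
    have l_0_5 := one_le' T v (p := 0) (q := 5) (by decide) hne
    have l_5_0 := one_le' T v (p := 5) (q := 0) (by decide) hne'
    refine no_super_list T hn v hv [(0, 1, 1), (1, 0, 1), (1, 2, 1), (2, 1, 1), (2, 3, 1), (3, 2, 1), (3, 4, 1), (4, 3, 1), (4, 5, 1), (5, 4, 1), (5, 6, 1), (6, 5, 1), (4, 7, 1), (7, 4, 1), (0, 5, 1), (5, 0, 1)] ?_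
      ![1, 1, 1, 1, 1, 1, 0, 0] (by decide) ⟨0, by decide⟩ (by decide)
    intro e he
    simp only [List.mem_cons, List.not_mem_nil, or_false] at he
    rcases he with rfl | rfl | rfl | rfl | rfl | rfl | rfl | rfl | rfl | rfl | rfl | rfl | rfl | rfl | rfl | rfl
    exacts [l_0_1, l_1_0, l_1_2, l_2_1, l_2_3, l_3_2, l_3_4, l_4_3, l_4_5, l_5_4, l_5_6, l_6_5, l_4_7, l_7_4, l_0_5, l_5_0]
  have z_5_0 : T.a (v 5) (v 0) = 0 := by rw [a_symm T (v 5) (v 0)]; exact z_0_5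
  have z_0_6 : T.a (v 0) (v 6) = 0 := by
    by_contra hne
    have hne' : T.a (v 6) (v 0) ≠ 0 := by rw [a_symm T (v 6) (v 0)]; exact hne
    have l_0_6 := one_le' T v (p := 0) (q := 6) (by decide) hne
    have l_6_0 := one_le' T v (p := 6) (q := 0) (by decide) hne'
    refine no_super_list T hn v hv [(0, 1, 1), (1, 0, 1), (1, 2, 1), (2, 1, 1), (2, 3, 1), (3, 2, 1), (3, 4, 1), (4, 3, 1), (4, 5, 1), (5, 4, 1), (5, 6, 1), (6, 5, 1), (4, 7, 1), (7, 4, 1), (0, 6, 1), (6, 0, 1)] ?_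
      ![1, 1, 1, 1, 1, 1, 1, 0] (by decide) ⟨0, by decide⟩ (by decide)
    intro e he
    simp only [List.mem_cons, List.not_mem_nil, or_false] at he
    rcases he with rfl | rfl | rfl | rfl | rfl | rfl | rfl | rfl | rfl | rfl | rfl | rfl | rfl | rfl | rfl | rfl
    exacts [l_0_1, l_1_0, l_1_2, l_2_1, l_2_3, l_3_2, l_3_4, l_4_3, l_4_5, l_5_4, l_5_6, l_6_5, l_4_7, l_7_4, l_0_6, l_6_0]
  have z_6_0 : T.a (v 6) (v 0) = 0 := by rw [a_symm T (v 6) (v 0)]; exact z_0_6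
  have z_0_7 : T.a (v 0) (v 7) = 0 := by
    by_contra hne
    have hne' : T.a (v 7) (v 0) ≠ 0 := by rw [a_symm T (v 7) (v 0)]; exact hne
    have l_0_7 := one_le' T v (p := 0) (q := 7) (by decide) hne
    have l_7_0 := one_le' T v (p := 7) (q := 0) (by decide) hne'
    refine no_super_list T hn v hv [(0, 1, 1), (1, 0, 1), (1, 2, 1), (2, 1, 1), (2, 3, 1), (3, 2, 1), (3, 4, 1), (4, 3, 1), (4, 5, 1), (5, 4, 1), (5, 6, 1), (6, 5, 1), (4, 7, 1), (7, 4, 1), (0, 7, 1), (7, 0, 1)] ?_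
      ![1, 1, 1, 1, 1, 0, 0, 1] (by decide) ⟨0, by decide⟩ (by decide)
    intro e he
    simp only [List.mem_cons, List.not_mem_nil, or_false] at he
    rcases he with rfl | rfl | rfl | rfl | rfl | rfl | rfl | rfl | rfl | rfl | rfl | rfl | rfl | rfl | rfl | rfl
    exacts [l_0_1, l_1_0, l_1_2, l_2_1, l_2_3, l_3_2, l_3_4, l_4_3, l_4_5, l_5_4, l_5_6, l_6_5, l_4_7, l_7_4, l_0_7, l_7_0]
  have z_7_0 : T.a (v 7) (v 0) = 0 := by rw [a_symm T (v 7) (v 0)]; exact z_0_7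
  have z_1_3 : T.a (v 1) (v 3) = 0 := by
    by_contra hne
    have hne' : T.a (v 3) (v 1) ≠ 0 := by rw [a_symm T (v 3) (v 1)]; exact hne
    have l_1_3 := one_le' T v (p := 1) (q := 3) (by decide) hne
    have l_3_1 := one_le' T v (p := 3) (q := 1) (by decide) hne'
    refine no_super_list T hn v hv [(0, 1, 1), (1, 0, 1), (1, 2, 1), (2, 1, 1), (2, 3, 1), (3, 2, 1), (3, 4, 1), (4, 3, 1), (4, 5, 1), (5, 4, 1), (5, 6, 1), (6, 5, 1), (4, 7, 1), (7, 4, 1), (1, 3, 1), (3, 1, 1)] ?_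
      ![0, 1, 1, 1, 0, 0, 0, 0] (by decide) ⟨1, by decide⟩ (by decide)
    intro e he
    simp only [List.mem_cons, List.not_mem_nil, or_false] at he
    rcases he with rfl | rfl | rfl | rfl | rfl | rfl | rfl | rfl | rfl | rfl | rfl | rfl | rfl | rfl | rfl | rfl
    exacts [l_0_1, l_1_0, l_1_2, l_2_1, l_2_3, l_3_2, l_3_4, l_4_3, l_4_5, l_5_4, l_5_6, l_6_5, l_4_7, l_7_4, l_1_3, l_3_1]
  have z_3_1 : T.a (v 3) (v 1) = 0 := by rw [a_symm T (v 3) (v 1)]; exact z_1_3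
  have z_1_4 : T.a (v 1) (v 4) = 0 := by
    by_contra hne
    have hne' : T.a (v 4) (v 1) ≠ 0 := by rw [a_symm T (v 4) (v 1)]; exact hne
    have l_1_4 := one_le' T v (p := 1) (q := 4) (by decide) hne
    have l_4_1 := one_le' T v (p := 4) (q := 1) (by decide) hne'
    refine no_super_list T hn v hv [(0, 1, 1), (1, 0, 1), (1, 2, 1), (2, 1, 1), (2, 3, 1), (3, 2, 1), (3, 4, 1), (4, 3, 1), (4, 5, 1), (5, 4, 1), (5, 6, 1), (6, 5, 1), (4, 7, 1), (7, 4, 1), (1, 4, 1), (4, 1, 1)] ?_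
      ![0, 1, 1, 1, 1, 0, 0, 0] (by decide) ⟨1, by decide⟩ (by decide)
    intro e he
    simp only [List.mem_cons, List.not_mem_nil, or_false] at he
    rcases he with rfl | rfl | rfl | rfl | rfl | rfl | rfl | rfl | rfl | rfl | rfl | rfl | rfl | rfl | rfl | rfl
    exacts [l_0_1, l_1_0, l_1_2, l_2_1, l_2_3, l_3_2, l_3_4, l_4_3, l_4_5, l_5_4, l_5_6, l_6_5, l_4_7, l_7_4, l_1_4, l_4_1]
  have z_4_1 : T.a (v 4) (v 1) = 0 := by rw [a_symm T (v 4) (v 1)]; exact z_1_4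
  have z_1_5 : T.a (v 1) (v 5) = 0 := by
    by_contra hne
    have hne' : T.a (v 5) (v 1) ≠ 0 := by rw [a_symm T (v 5) (v 1)]; exact hne
    have l_1_5 := one_le' T v (p := 1) (q := 5) (by decide) hne
    have l_5_1 := one_le' T v (p := 5) (q := 1) (by decide) hne'
    refine no_super_list T hn v hv [(0, 1, 1), (1, 0, 1), (1, 2, 1), (2, 1, 1), (2, 3, 1), (3, 2, 1), (3, 4, 1), (4, 3, 1), (4, 5, 1), (5, 4, 1), (5, 6, 1), (6, 5, 1), (4, 7, 1), (7, 4, 1), (1, 5, 1), (5, 1, 1)] ?_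
      ![0, 1, 1, 1, 1, 1, 0, 0] (by decide) ⟨1, by decide⟩ (by decide)
    intro e he
    simp only [List.mem_cons, List.not_mem_nil, or_false] at he
    rcases he with rfl | rfl | rfl | rfl | rfl | rfl | rfl | rfl | rfl | rfl | rfl | rfl | rfl | rfl | rfl | rfl
    exacts [l_0_1, l_1_0, l_1_2, l_2_1, l_2_3, l_3_2, l_3_4, l_4_3, l_4_5, l_5_4, l_5_6, l_6_5, l_4_7, l_7_4, l_1_5, l_5_1]
  have z_5_1 : T.a (v 5) (v 1) = 0 := by rw [a_symm T (v 5) (v 1)]; exact z_1_5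
  have z_1_6 : T.a (v 1) (v 6) = 0 := by
    by_contra hne
    have hne' : T.a (v 6) (v 1) ≠ 0 := by rw [a_symm T (v 6) (v 1)]; exact hne
    have l_1_6 := one_le' T v (p := 1) (q := 6) (by decide) hne
    have l_6_1 := one_le' T v (p := 6) (q := 1) (by decide) hne'
    refine no_super_list T hn v hv [(0, 1, 1), (1, 0, 1), (1, 2, 1), (2, 1, 1), (2, 3, 1), (3, 2, 1), (3, 4, 1), (4, 3, 1), (4, 5, 1), (5, 4, 1), (5, 6, 1), (6, 5, 1), (4, 7, 1), (7, 4, 1), (1, 6, 1), (6, 1, 1)] ?_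
      ![0, 1, 1, 1, 1, 1, 1, 0] (by decide) ⟨1, by decide⟩ (by decide)
    intro e he
    simp only [List.mem_cons, List.not_mem_nil, or_false] at he
    rcases he with rfl | rfl | rfl | rfl | rfl | rfl | rfl | rfl | rfl | rfl | rfl | rfl | rfl | rfl | rfl | rfl
    exacts [l_0_1, l_1_0, l_1_2, l_2_1, l_2_3, l_3_2, l_3_4, l_4_3, l_4_5, l_5_4, l_5_6, l_6_5, l_4_7, l_7_4, l_1_6, l_6_1]
  have z_6_1 : T.a (v 6) (v 1) = 0 := by rw [a_symm T (v 6) (v 1)]; exact z_1_6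
  have z_1_7 : T.a (v 1) (v 7) = 0 := by
    by_contra hne
    have hne' : T.a (v 7) (v 1) ≠ 0 := by rw [a_symm T (v 7) (v 1)]; exact hne
    have l_1_7 := one_le' T v (p := 1) (q := 7) (by decide) hne
    have l_7_1 := one_le' T v (p := 7) (q := 1) (by decide) hne'
    refine no_super_list T hn v hv [(0, 1, 1), (1, 0, 1), (1, 2, 1), (2, 1, 1), (2, 3, 1), (3, 2, 1), (3, 4, 1), (4, 3, 1), (4, 5, 1), (5, 4, 1), (5, 6, 1), (6, 5, 1), (4, 7, 1), (7, 4, 1), (1, 7, 1), (7, 1, 1)] ?_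
      ![0, 1, 1, 1, 1, 0, 0, 1] (by decide) ⟨1, by decide⟩ (by decide)
    intro e he
    simp only [List.mem_cons, List.not_mem_nil, or_false] at he
    rcases he with rfl | rfl | rfl | rfl | rfl | rfl | rfl | rfl | rfl | rfl | rfl | rfl | rfl | rfl | rfl | rfl
    exacts [l_0_1, l_1_0, l_1_2, l_2_1, l_2_3, l_3_2, l_3_4, l_4_3, l_4_5, l_5_4, l_5_6, l_6_5, l_4_7, l_7_4, l_1_7, l_7_1]
  have z_7_1 : T.a (v 7) (v 1) = 0 := by rw [a_symm T (v 7) (v 1)]; exact z_1_7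
  have z_2_4 : T.a (v 2) (v 4) = 0 := by
    by_contra hne
    have hne' : T.a (v 4) (v 2) ≠ 0 := by rw [a_symm T (v 4) (v 2)]; exact hne
    have l_2_4 := one_le' T v (p := 2) (q := 4) (by decide) hne
    have l_4_2 := one_le' T v (p := 4) (q := 2) (by decide) hne'
    refine no_super_list T hn v hv [(0, 1, 1), (1, 0, 1), (1, 2, 1), (2, 1, 1), (2, 3, 1), (3, 2, 1), (3, 4, 1), (4, 3, 1), (4, 5, 1), (5, 4, 1), (5, 6, 1), (6, 5, 1), (4, 7, 1), (7, 4, 1), (2, 4, 1), (4, 2, 1)] ?_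
      ![0, 0, 1, 1, 1, 0, 0, 0] (by decide) ⟨2, by decide⟩ (by decide)
    intro e he
    simp only [List.mem_cons, List.not_mem_nil, or_false] at he
    rcases he with rfl | rfl | rfl | rfl | rfl | rfl | rfl | rfl | rfl | rfl | rfl | rfl | rfl | rfl | rfl | rfl
    exacts [l_0_1, l_1_0, l_1_2, l_2_1, l_2_3, l_3_2, l_3_4, l_4_3, l_4_5, l_5_4, l_5_6, l_6_5, l_4_7, l_7_4, l_2_4, l_4_2]
  have z_4_2 : T.a (v 4) (v 2) = 0 := by rw [a_symm T (v 4) (v 2)]; exact z_2_4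
  have z_2_5 : T.a (v 2) (v 5) = 0 := by
    by_contra hne
    have hne' : T.a (v 5) (v 2) ≠ 0 := by rw [a_symm T (v 5) (v 2)]; exact hne
    have l_2_5 := one_le' T v (p := 2) (q := 5) (by decide) hne
    have l_5_2 := one_le' T v (p := 5) (q := 2) (by decide) hne'
    refine no_super_list T hn v hv [(0, 1, 1), (1, 0, 1), (1, 2, 1), (2, 1, 1), (2, 3, 1), (3, 2, 1), (3, 4, 1), (4, 3, 1), (4, 5, 1), (5, 4, 1), (5, 6, 1), (6, 5, 1), (4, 7, 1), (7, 4, 1), (2, 5, 1), (5, 2, 1)] ?_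
      ![0, 0, 1, 1, 1, 1, 0, 0] (by decide) ⟨2, by decide⟩ (by decide)
    intro e he
    simp only [List.mem_cons, List.not_mem_nil, or_false] at he
    rcases he with rfl | rfl | rfl | rfl | rfl | rfl | rfl | rfl | rfl | rfl | rfl | rfl | rfl | rfl | rfl | rfl
    exacts [l_0_1, l_1_0, l_1_2, l_2_1, l_2_3, l_3_2, l_3_4, l_4_3, l_4_5, l_5_4, l_5_6, l_6_5, l_4_7, l_7_4, l_2_5, l_5_2]
  have z_5_2 : T.a (v 5) (v 2) = 0 := by rw [a_symm T (v 5) (v 2)]; exact z_2_5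
  have z_2_6 : T.a (v 2) (v 6) = 0 := by
    by_contra hne
    have hne' : T.a (v 6) (v 2) ≠ 0 := by rw [a_symm T (v 6) (v 2)]; exact hne
    have l_2_6 := one_le' T v (p := 2) (q := 6) (by decide) hne
    have l_6_2 := one_le' T v (p := 6) (q := 2) (by decide) hne'
    refine no_super_list T hn v hv [(0, 1, 1), (1, 0, 1), (1, 2, 1), (2, 1, 1), (2, 3, 1), (3, 2, 1), (3, 4, 1), (4, 3, 1), (4, 5, 1), (5, 4, 1), (5, 6, 1), (6, 5, 1), (4, 7, 1), (7, 4, 1), (2, 6, 1), (6, 2, 1)] ?_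
      ![0, 0, 1, 1, 1, 1, 1, 0] (by decide) ⟨2, by decide⟩ (by decide)
    intro e he
    simp only [List.mem_cons, List.not_mem_nil, or_false] at he
    rcases he with rfl | rfl | rfl | rfl | rfl | rfl | rfl | rfl | rfl | rfl | rfl | rfl | rfl | rfl | rfl | rfl
    exacts [l_0_1, l_1_0, l_1_2, l_2_1, l_2_3, l_3_2, l_3_4, l_4_3, l_4_5, l_5_4, l_5_6, l_6_5, l_4_7, l_7_4, l_2_6, l_6_2]
  have z_6_2 : T.a (v 6) (v 2) = 0 := by rw [a_symm T (v 6) (v 2)]; exact z_2_6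
  have z_2_7 : T.a (v 2) (v 7) = 0 := by
    by_contra hne
    have hne' : T.a (v 7) (v 2) ≠ 0 := by rw [a_symm T (v 7) (v 2)]; exact hne
    have l_2_7 := one_le' T v (p := 2) (q := 7) (by decide) hne
    have l_7_2 := one_le' T v (p := 7) (q := 2) (by decide) hne'
    refine no_super_list T hn v hv [(0, 1, 1), (1, 0, 1), (1, 2, 1), (2, 1, 1), (2, 3, 1), (3, 2, 1), (3, 4, 1), (4, 3, 1), (4, 5, 1), (5, 4, 1), (5, 6, 1), (6, 5, 1), (4, 7, 1), (7, 4, 1), (2, 7, 1), (7, 2, 1)] ?_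
      ![0, 0, 1, 1, 1, 0, 0, 1] (by decide) ⟨2, by decide⟩ (by decide)
    intro e he
    simp only [List.mem_cons, List.not_mem_nil, or_false] at he
    rcases he with rfl | rfl | rfl | rfl | rfl | rfl | rfl | rfl | rfl | rfl | rfl | rfl | rfl | rfl | rfl | rfl
    exacts [l_0_1, l_1_0, l_1_2, l_2_1, l_2_3, l_3_2, l_3_4, l_4_3, l_4_5, l_5_4, l_5_6, l_6_5, l_4_7, l_7_4, l_2_7, l_7_2]
  have z_7_2 : T.a (v 7) (v 2) = 0 := by rw [a_symm T (v 7) (v 2)]; exact z_2_7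
  have z_3_5 : T.a (v 3) (v 5) = 0 := by
    by_contra hne
    have hne' : T.a (v 5) (v 3) ≠ 0 := by rw [a_symm T (v 5) (v 3)]; exact hne
    have l_3_5 := one_le' T v (p := 3) (q := 5) (by decide) hne
    have l_5_3 := one_le' T v (p := 5) (q := 3) (by decide) hne'
    refine no_super_list T hn v hv [(0, 1, 1), (1, 0, 1), (1, 2, 1), (2, 1, 1), (2, 3, 1), (3, 2, 1), (3, 4, 1), (4, 3, 1), (4, 5, 1), (5, 4, 1), (5, 6, 1), (6, 5, 1), (4, 7, 1), (7, 4, 1), (3, 5, 1), (5, 3, 1)] ?_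
      ![0, 0, 0, 1, 1, 1, 0, 0] (by decide) ⟨3, by decide⟩ (by decide)
    intro e he
    simp only [List.mem_cons, List.not_mem_nil, or_false] at he
    rcases he with rfl | rfl | rfl | rfl | rfl | rfl | rfl | rfl | rfl | rfl | rfl | rfl | rfl | rfl | rfl | rfl
    exacts [l_0_1, l_1_0, l_1_2, l_2_1, l_2_3, l_3_2, l_3_4, l_4_3, l_4_5, l_5_4, l_5_6, l_6_5, l_4_7, l_7_4, l_3_5, l_5_3]
  have z_5_3 : T.a (v 5) (v 3) = 0 := by rw [a_symm T (v 5) (v 3)]; exact z_3_5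
  have z_3_6 : T.a (v 3) (v 6) = 0 := by
    by_contra hne
    have hne' : T.a (v 6) (v 3) ≠ 0 := by rw [a_symm T (v 6) (v 3)]; exact hne
    have l_3_6 := one_le' T v (p := 3) (q := 6) (by decide) hne
    have l_6_3 := one_le' T v (p := 6) (q := 3) (by decide) hne'
    refine no_super_list T hn v hv [(0, 1, 1), (1, 0, 1), (1, 2, 1), (2, 1, 1), (2, 3, 1), (3, 2, 1), (3, 4, 1), (4, 3, 1), (4, 5, 1), (5, 4, 1), (5, 6, 1), (6, 5, 1), (4, 7, 1), (7, 4, 1), (3, 6, 1), (6, 3, 1)] ?_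
      ![0, 0, 0, 1, 1, 1, 1, 0] (by decide) ⟨3, by decide⟩ (by decide)
    intro e he
    simp only [List.mem_cons, List.not_mem_nil, or_false] at he
    rcases he with rfl | rfl | rfl | rfl | rfl | rfl | rfl | rfl | rfl | rfl | rfl | rfl | rfl | rfl | rfl | rfl
    exacts [l_0_1, l_1_0, l_1_2, l_2_1, l_2_3, l_3_2, l_3_4, l_4_3, l_4_5, l_5_4, l_5_6, l_6_5, l_4_7, l_7_4, l_3_6, l_6_3]
  have z_6_3 : T.a (v 6) (v 3) = 0 := by rw [a_symm T (v 6) (v 3)]; exact z_3_6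
  have z_3_7 : T.a (v 3) (v 7) = 0 := by
    by_contra hne
    have hne' : T.a (v 7) (v 3) ≠ 0 := by rw [a_symm T (v 7) (v 3)]; exact hne
    have l_3_7 := one_le' T v (p := 3) (q := 7) (by decide) hne
    have l_7_3 := one_le' T v (p := 7) (q := 3) (by decide) hne'
    refine no_super_list T hn v hv [(0, 1, 1), (1, 0, 1), (1, 2, 1), (2, 1, 1), (2, 3, 1), (3, 2, 1), (3, 4, 1), (4, 3, 1), (4, 5, 1), (5, 4, 1), (5, 6, 1), (6, 5, 1), (4, 7, 1), (7, 4, 1), (3, 7, 1), (7, 3, 1)] ?_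
      ![0, 0, 0, 1, 1, 0, 0, 1] (by decide) ⟨3, by decide⟩ (by decide)
    intro e he
    simp only [List.mem_cons, List.not_mem_nil, or_false] at he
    rcases he with rfl | rfl | rfl | rfl | rfl | rfl | rfl | rfl | rfl | rfl | rfl | rfl | rfl | rfl | rfl | rfl
    exacts [l_0_1, l_1_0, l_1_2, l_2_1, l_2_3, l_3_2, l_3_4, l_4_3, l_4_5, l_5_4, l_5_6, l_6_5, l_4_7, l_7_4, l_3_7, l_7_3]
  have z_7_3 : T.a (v 7) (v 3) = 0 := by rw [a_symm T (v 7) (v 3)]; exact z_3_7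
  have z_4_6 : T.a (v 4) (v 6) = 0 := by
    by_contra hne
    have hne' : T.a (v 6) (v 4) ≠ 0 := by rw [a_symm T (v 6) (v 4)]; exact hne
    have l_4_6 := one_le' T v (p := 4) (q := 6) (by decide) hne
    have l_6_4 := one_le' T v (p := 6) (q := 4) (by decide) hne'
    refine no_super_list T hn v hv [(0, 1, 1), (1, 0, 1), (1, 2, 1), (2, 1, 1), (2, 3, 1), (3, 2, 1), (3, 4, 1), (4, 3, 1), (4, 5, 1), (5, 4, 1), (5, 6, 1), (6, 5, 1), (4, 7, 1), (7, 4, 1), (4, 6, 1), (6, 4, 1)] ?_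
      ![0, 0, 0, 0, 1, 1, 1, 0] (by decide) ⟨4, by decide⟩ (by decide)
    intro e he
    simp only [List.mem_cons, List.not_mem_nil, or_false] at he
    rcases he with rfl | rfl | rfl | rfl | rfl | rfl | rfl | rfl | rfl | rfl | rfl | rfl | rfl | rfl | rfl | rfl
    exacts [l_0_1, l_1_0, l_1_2, l_2_1, l_2_3, l_3_2, l_3_4, l_4_3, l_4_5, l_5_4, l_5_6, l_6_5, l_4_7, l_7_4, l_4_6, l_6_4]
  have z_6_4 : T.a (v 6) (v 4) = 0 := by rw [a_symm T (v 6) (v 4)]; exact z_4_6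
  have z_5_7 : T.a (v 5) (v 7) = 0 := by
    by_contra hne
    have hne' : T.a (v 7) (v 5) ≠ 0 := by rw [a_symm T (v 7) (v 5)]; exact hne
    have l_5_7 := one_le' T v (p := 5) (q := 7) (by decide) hne
    have l_7_5 := one_le' T v (p := 7) (q := 5) (by decide) hne'
    refine no_super_list T hn v hv [(0, 1, 1), (1, 0, 1), (1, 2, 1), (2, 1, 1), (2, 3, 1), (3, 2, 1), (3, 4, 1), (4, 3, 1), (4, 5, 1), (5, 4, 1), (5, 6, 1), (6, 5, 1), (4, 7, 1), (7, 4, 1), (5, 7, 1), (7, 5, 1)] ?_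
      ![0, 0, 0, 0, 1, 1, 0, 1] (by decide) ⟨4, by decide⟩ (by decide)
    intro e he
    simp only [List.mem_cons, List.not_mem_nil, or_false] at he
    rcases he with rfl | rfl | rfl | rfl | rfl | rfl | rfl | rfl | rfl | rfl | rfl | rfl | rfl | rfl | rfl | rfl
    exacts [l_0_1, l_1_0, l_1_2, l_2_1, l_2_3, l_3_2, l_3_4, l_4_3, l_4_5, l_5_4, l_5_6, l_6_5, l_4_7, l_7_4, l_5_7, l_7_5]
  have z_7_5 : T.a (v 7) (v 5) = 0 := by rw [a_symm T (v 7) (v 5)]; exact z_5_7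
  have z_6_7 : T.a (v 6) (v 7) = 0 := by
    by_contra hne
    have hne' : T.a (v 7) (v 6) ≠ 0 := by rw [a_symm T (v 7) (v 6)]; exact hne
    have l_6_7 := one_le' T v (p := 6) (q := 7) (by decide) hne
    have l_7_6 := one_le' T v (p := 7) (q := 6) (by decide) hne'
    refine no_super_list T hn v hv [(0, 1, 1), (1, 0, 1), (1, 2, 1), (2, 1, 1), (2, 3, 1), (3, 2, 1), (3, 4, 1), (4, 3, 1), (4, 5, 1), (5, 4, 1), (5, 6, 1), (6, 5, 1), (4, 7, 1), (7, 4, 1), (6, 7, 1), (7, 6, 1)] ?_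
      ![0, 0, 0, 0, 1, 1, 1, 1] (by decide) ⟨4, by decide⟩ (by decide)
    intro e he
    simp only [List.mem_cons, List.not_mem_nil, or_false] at he
    rcases he with rfl | rfl | rfl | rfl | rfl | rfl | rfl | rfl | rfl | rfl | rfl | rfl | rfl | rfl | rfl | rfl
    exacts [l_0_1, l_1_0, l_1_2, l_2_1, l_2_3, l_3_2, l_3_4, l_4_3, l_4_5, l_5_4, l_5_6, l_6_5, l_4_7, l_7_4, l_6_7, l_7_6]
  have z_7_6 : T.a (v 7) (v 6) = 0 := by rw [a_symm T (v 7) (v 6)]; exact z_6_7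
  have e_0_1 : T.a (v 0) (v 1) = T.w (v 0) := by
    by_contra hne
    have b := two_le_of_ne' T v (p := 0) (q := 1) (by decide) n_0_1 hne
    refine no_super_list T hn v hv [(0, 1, 2), (1, 0, 1), (1, 2, 1), (2, 1, 1), (2, 3, 1), (3, 2, 1), (3, 4, 1), (4, 3, 1), (4, 5, 1), (5, 4, 1), (5, 6, 1), (6, 5, 1), (4, 7, 1), (7, 4, 1)] ?_
      ![2, 2, 2, 2, 2, 1, 0, 1] (by decide) ⟨0, by decide⟩ (by decide)
    intro e he
    simp only [List.mem_cons, List.not_mem_nil, or_false] at he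
    rcases he with rfl | rfl | rfl | rfl | rfl | rfl | rfl | rfl | rfl | rfl | rfl | rfl | rfl | rfl
    exacts [b, l_1_0, l_1_2, l_2_1, l_2_3, l_3_2, l_3_4, l_4_3, l_4_5, l_5_4, l_5_6, l_6_5, l_4_7, l_7_4]
  have e_1_0 : T.a (v 1) (v 0) = T.w (v 1) := by
    by_contra hne
    have b := two_le_of_ne' T v (p := 1) (q := 0) (by decide) n_1_0 hne
    refine no_super_list T hn v hv [(0, 1, 1), (1, 0, 2), (1, 2, 1), (2, 1, 1), (2, 3, 1), (3, 2, 1), (3, 4, 1), (4, 3, 1), (4, 5, 1), (5, 4, 1), (5, 6, 1), (6, 5, 1), (4, 7, 1), (7, 4, 1)] ?_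
      ![1, 2, 2, 2, 2, 1, 0, 1] (by decide) ⟨0, by decide⟩ (by decide)
    intro e he
    simp only [List.mem_cons, List.not_mem_nil, or_false] at he
    rcases he with rfl | rfl | rfl | rfl | rfl | rfl | rfl | rfl | rfl | rfl | rfl | rfl | rfl | rfl
    exacts [l_0_1, b, l_1_2, l_2_1, l_2_3, l_3_2, l_3_4, l_4_3, l_4_5, l_5_4, l_5_6, l_6_5, l_4_7, l_7_4]
  have e_1_2 : T.a (v 1) (v 2) = T.w (v 1) := by
    by_contra hne
    have b := two_le_of_ne' T v (p := 1) (q := 2) (by decide) n_1_2 hne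
    refine no_super_list T hn v hv [(0, 1, 1), (1, 0, 1), (1, 2, 2), (2, 1, 1), (2, 3, 1), (3, 2, 1), (3, 4, 1), (4, 3, 1), (4, 5, 1), (5, 4, 1), (5, 6, 1), (6, 5, 1), (4, 7, 1), (7, 4, 1)] ?_
      ![1, 2, 2, 2, 2, 1, 0, 1] (by decide) ⟨0, by decide⟩ (by decide)
    intro e he
    simp only [List.mem_cons, List.not_mem_nil, or_false] at he
    rcases he with rfl | rfl | rfl | rfl | rfl | rfl | rfl | rfl | rfl | rfl | rfl | rfl | rfl | rfl
    exacts [l_0_1, l_1_0, b, l_2_1, l_2_3, l_3_2, l_3_4, l_4_3, l_4_5, l_5_4, l_5_6, l_6_5, l_4_7, l_7_4]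
  have e_2_1 : T.a (v 2) (v 1) = T.w (v 2) := by
    by_contra hne
    have b := two_le_of_ne' T v (p := 2) (q := 1) (by decide) n_2_1 hne
    refine no_super_list T hn v hv [(0, 1, 1), (1, 0, 1), (1, 2, 1), (2, 1, 2), (2, 3, 1), (3, 2, 1), (3, 4, 1), (4, 3, 1), (4, 5, 1), (5, 4, 1), (5, 6, 1), (6, 5, 1), (4, 7, 1), (7, 4, 1)] ?_
      ![0, 1, 2, 2, 2, 1, 0, 1] (by decide) ⟨1, by decide⟩ (by decide)
    intro e he
    simp only [List.mem_cons, List.not_mem_nil, or_false] at he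
    rcases he with rfl | rfl | rfl | rfl | rfl | rfl | rfl | rfl | rfl | rfl | rfl | rfl | rfl | rfl
    exacts [l_0_1, l_1_0, l_1_2, b, l_2_3, l_3_2, l_3_4, l_4_3, l_4_5, l_5_4, l_5_6, l_6_5, l_4_7, l_7_4]
  have e_2_3 : T.a (v 2) (v 3) = T.w (v 2) := by
    by_contra hne
    have b := two_le_of_ne' T v (p := 2) (q := 3) (by decide) n_2_3 hne
    refine no_super_list T hn v hv [(0, 1, 1), (1, 0, 1), (1, 2, 1), (2, 1, 1), (2, 3, 2), (3, 2, 1), (3, 4, 1), (4, 3, 1), (4, 5, 1), (5, 4, 1), (5, 6, 1), (6, 5, 1), (4, 7, 1), (7, 4, 1)] ?_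
      ![0, 1, 2, 2, 2, 1, 0, 1] (by decide) ⟨1, by decide⟩ (by decide)
    intro e he
    simp only [List.mem_cons, List.not_mem_nil, or_false] at he
    rcases he with rfl | rfl | rfl | rfl | rfl | rfl | rfl | rfl | rfl | rfl | rfl | rfl | rfl | rfl
    exacts [l_0_1, l_1_0, l_1_2, l_2_1, b, l_3_2, l_3_4, l_4_3, l_4_5, l_5_4, l_5_6, l_6_5, l_4_7, l_7_4]
  have e_3_2 : T.a (v 3) (v 2) = T.w (v 3) := by
    by_contra hne
    have b := two_le_of_ne' T v (p := 3) (q := 2) (by decide) n_3_2 hne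
    refine no_super_list T hn v hv [(0, 1, 1), (1, 0, 1), (1, 2, 1), (2, 1, 1), (2, 3, 1), (3, 2, 2), (3, 4, 1), (4, 3, 1), (4, 5, 1), (5, 4, 1), (5, 6, 1), (6, 5, 1), (4, 7, 1), (7, 4, 1)] ?_
      ![0, 0, 1, 2, 2, 1, 0, 1] (by decide) ⟨2, by decide⟩ (by decide)
    intro e he
    simp only [List.mem_cons, List.not_mem_nil, or_false] at he
    rcases he with rfl | rfl | rfl | rfl | rfl | rfl | rfl | rfl | rfl | rfl | rfl | rfl | rfl | rfl
    exacts [l_0_1, l_1_0, l_1_2, l_2_1, l_2_3, b, l_3_4, l_4_3, l_4_5, l_5_4, l_5_6, l_6_5, l_4_7, l_7_4]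
  have e_3_4 : T.a (v 3) (v 4) = T.w (v 3) := by
    by_contra hne
    have b := two_le_of_ne' T v (p := 3) (q := 4) (by decide) n_3_4 hne
    refine no_super_list T hn v hv [(0, 1, 1), (1, 0, 1), (1, 2, 1), (2, 1, 1), (2, 3, 1), (3, 2, 1), (3, 4, 2), (4, 3, 1), (4, 5, 1), (5, 4, 1), (5, 6, 1), (6, 5, 1), (4, 7, 1), (7, 4, 1)] ?_
      ![0, 0, 1, 2, 2, 1, 0, 1] (by decide) ⟨2, by decide⟩ (by decide)
    intro e he
    simp only [List.mem_cons, List.not_mem_nil, or_false] at he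
    rcases he with rfl | rfl | rfl | rfl | rfl | rfl | rfl | rfl | rfl | rfl | rfl | rfl | rfl | rfl
    exacts [l_0_1, l_1_0, l_1_2, l_2_1, l_2_3, l_3_2, b, l_4_3, l_4_5, l_5_4, l_5_6, l_6_5, l_4_7, l_7_4]
  have e_4_3 : T.a (v 4) (v 3) = T.w (v 4) := by
    by_contra hne
    have b := two_le_of_ne' T v (p := 4) (q := 3) (by decide) n_4_3 hne
    refine no_super_list T hn v hv [(0, 1, 1), (1, 0, 1), (1, 2, 1), (2, 1, 1), (2, 3, 1), (3, 2, 1), (3, 4, 1), (4, 3, 2), (4, 5, 1), (5, 4, 1), (5, 6, 1), (6, 5, 1), (4, 7, 1), (7, 4, 1)] ?_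
      ![0, 0, 0, 1, 2, 1, 0, 1] (by decide) ⟨3, by decide⟩ (by decide)
    intro e he
    simp only [List.mem_cons, List.not_mem_nil, or_false] at he
    rcases he with rfl | rfl | rfl | rfl | rfl | rfl | rfl | rfl | rfl | rfl | rfl | rfl | rfl | rfl
    exacts [l_0_1, l_1_0, l_1_2, l_2_1, l_2_3, l_3_2, l_3_4, b, l_4_5, l_5_4, l_5_6, l_6_5, l_4_7, l_7_4]
  have e_4_5 : T.a (v 4) (v 5) = T.w (v 4) := by
    by_contra hne
    have b := two_le_of_ne' T v (p := 4) (q := 5) (by decide) n_4_5 hne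
    refine no_super_list T hn v hv [(0, 1, 1), (1, 0, 1), (1, 2, 1), (2, 1, 1), (2, 3, 1), (3, 2, 1), (3, 4, 1), (4, 3, 1), (4, 5, 2), (5, 4, 1), (5, 6, 1), (6, 5, 1), (4, 7, 1), (7, 4, 1)] ?_
      ![0, 0, 0, 1, 2, 1, 0, 1] (by decide) ⟨3, by decide⟩ (by decide)
    intro e he
    simp only [List.mem_cons, List.not_mem_nil, or_false] at he
    rcases he with rfl | rfl | rfl | rfl | rfl | rfl | rfl | rfl | rfl | rfl | rfl | rfl | rfl | rfl
    exacts [l_0_1, l_1_0, l_1_2, l_2_1, l_2_3, l_3_2, l_3_4, l_4_3, b, l_5_4, l_5_6, l_6_5, l_4_7, l_7_4]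
  have e_5_4 : T.a (v 5) (v 4) = T.w (v 5) := by
    by_contra hne
    have b := two_le_of_ne' T v (p := 5) (q := 4) (by decide) n_5_4 hne
    refine no_super_list T hn v hv [(0, 1, 1), (1, 0, 1), (1, 2, 1), (2, 1, 1), (2, 3, 1), (3, 2, 1), (3, 4, 1), (4, 3, 1), (4, 5, 1), (5, 4, 2), (5, 6, 1), (6, 5, 1), (4, 7, 1), (7, 4, 1)] ?_
      ![0, 0, 0, 1, 2, 2, 1, 1] (by decide) ⟨3, by decide⟩ (by decide)
    intro e he
    simp only [List.mem_cons, List.not_mem_nil, or_false] at he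
    rcases he with rfl | rfl | rfl | rfl | rfl | rfl | rfl | rfl | rfl | rfl | rfl | rfl | rfl | rfl
    exacts [l_0_1, l_1_0, l_1_2, l_2_1, l_2_3, l_3_2, l_3_4, l_4_3, l_4_5, b, l_5_6, l_6_5, l_4_7, l_7_4]
  have e_5_6 : T.a (v 5) (v 6) = T.w (v 5) := by
    by_contra hne
    have b := two_le_of_ne' T v (p := 5) (q := 6) (by decide) n_5_6 hne
    refine no_super_list T hn v hv [(0, 1, 1), (1, 0, 1), (1, 2, 1), (2, 1, 1), (2, 3, 1), (3, 2, 1), (3, 4, 1), (4, 3, 1), (4, 5, 1), (5, 4, 1), (5, 6, 2), (6, 5, 1), (4, 7, 1), (7, 4, 1)] ?_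
      ![0, 0, 0, 1, 2, 2, 1, 1] (by decide) ⟨3, by decide⟩ (by decide)
    intro e he
    simp only [List.mem_cons, List.not_mem_nil, or_false] at he
    rcases he with rfl | rfl | rfl | rfl | rfl | rfl | rfl | rfl | rfl | rfl | rfl | rfl | rfl | rfl
    exacts [l_0_1, l_1_0, l_1_2, l_2_1, l_2_3, l_3_2, l_3_4, l_4_3, l_4_5, l_5_4, b, l_6_5, l_4_7, l_7_4]
  have e_6_5 : T.a (v 6) (v 5) = T.w (v 6) := by
    by_contra hne
    have b := two_le_of_ne' T v (p := 6) (q := 5) (by decide) n_6_5 hne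
    refine no_super_list T hn v hv [(0, 1, 1), (1, 0, 1), (1, 2, 1), (2, 1, 1), (2, 3, 1), (3, 2, 1), (3, 4, 1), (4, 3, 1), (4, 5, 1), (5, 4, 1), (5, 6, 1), (6, 5, 2), (4, 7, 1), (7, 4, 1)] ?_
      ![0, 0, 0, 1, 2, 2, 2, 1] (by decide) ⟨3, by decide⟩ (by decide)
    intro e he
    simp only [List.mem_cons, List.not_mem_nil, or_false] at he
    rcases he with rfl | rfl | rfl | rfl | rfl | rfl | rfl | rfl | rfl | rfl | rfl | rfl | rfl | rfl
    exacts [l_0_1, l_1_0, l_1_2, l_2_1, l_2_3, l_3_2, l_3_4, l_4_3, l_4_5, l_5_4, l_5_6, b, l_4_7, l_7_4]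
  have e_4_7 : T.a (v 4) (v 7) = T.w (v 4) := by
    by_contra hne
    have b := two_le_of_ne' T v (p := 4) (q := 7) (by decide) n_4_7 hne
    refine no_super_list T hn v hv [(0, 1, 1), (1, 0, 1), (1, 2, 1), (2, 1, 1), (2, 3, 1), (3, 2, 1), (3, 4, 1), (4, 3, 1), (4, 5, 1), (5, 4, 1), (5, 6, 1), (6, 5, 1), (4, 7, 2), (7, 4, 1)] ?_
      ![0, 0, 0, 1, 2, 1, 0, 1] (by decide) ⟨3, by decide⟩ (by decide)
    intro e he
    simp only [List.mem_cons, List.not_mem_nil, or_false] at he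
    rcases he with rfl | rfl | rfl | rfl | rfl | rfl | rfl | rfl | rfl | rfl | rfl | rfl | rfl | rfl
    exacts [l_0_1, l_1_0, l_1_2, l_2_1, l_2_3, l_3_2, l_3_4, l_4_3, l_4_5, l_5_4, l_5_6, l_6_5, b, l_7_4]
  have e_7_4 : T.a (v 7) (v 4) = T.w (v 7) := by
    by_contra hne
    have b := two_le_of_ne' T v (p := 7) (q := 4) (by decide) n_7_4 hne
    refine no_super_list T hn v hv [(0, 1, 1), (1, 0, 1), (1, 2, 1), (2, 1, 1), (2, 3, 1), (3, 2, 1), (3, 4, 1), (4, 3, 1), (4, 5, 1), (5, 4, 1), (5, 6, 1), (6, 5, 1), (4, 7, 1), (7, 4, 2)] ?_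
      ![0, 0, 0, 1, 2, 1, 0, 2] (by decide) ⟨3, by decide⟩ (by decide)
    intro e he
    simp only [List.mem_cons, List.not_mem_nil, or_false] at he
    rcases he with rfl | rfl | rfl | rfl | rfl | rfl | rfl | rfl | rfl | rfl | rfl | rfl | rfl | rfl
    exacts [l_0_1, l_1_0, l_1_2, l_2_1, l_2_3, l_3_2, l_3_4, l_4_3, l_4_5, l_5_4, l_5_6, l_6_5, l_4_7, b]
  have w_0 : T.w (v 0) = T.w (v 0) := rfl
  have w_1 : T.w (v 1) = T.w (v 0) := by
    have := a_symm T (v 0) (v 1)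
    linarith [e_0_1, e_1_0, w_0]
  have w_2 : T.w (v 2) = T.w (v 0) := by
    have := a_symm T (v 1) (v 2)
    linarith [e_1_2, e_2_1, w_1]
  have w_3 : T.w (v 3) = T.w (v 0) := by
    have := a_symm T (v 2) (v 3)
    linarith [e_2_3, e_3_2, w_2]
  have w_4 : T.w (v 4) = T.w (v 0) := by
    have := a_symm T (v 3) (v 4)
    linarith [e_3_4, e_4_3, w_3]
  have w_5 : T.w (v 5) = T.w (v 0) := by
    have := a_symm T (v 4) (v 5)
    linarith [e_4_5, e_5_4, w_4]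
  have w_7 : T.w (v 7) = T.w (v 0) := by
    have := a_symm T (v 4) (v 7)
    linarith [e_4_7, e_7_4, w_4]
  have w_6 : T.w (v 6) = T.w (v 0) := by
    have := a_symm T (v 5) (v 6)
    linarith [e_5_6, e_6_5, w_5]
  have hW := T.w_pos (v 0)
  have val_0_0 : T.a (v 0) (v 0) = -2 * T.w (v 0) := by rw [(hv 0).2, w_0]
  have val_0_1 : T.a (v 0) (v 1) = T.w (v 0) := by rw [e_0_1, w_0]
  have val_0_2 : T.a (v 0) (v 2) = 0 := z_0_2
  have val_0_3 : T.a (v 0) (v 3) = 0 := z_0_3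
  have val_0_4 : T.a (v 0) (v 4) = 0 := z_0_4
  have val_0_5 : T.a (v 0) (v 5) = 0 := z_0_5
  have val_0_6 : T.a (v 0) (v 6) = 0 := z_0_6
  have val_0_7 : T.a (v 0) (v 7) = 0 := z_0_7
  have val_1_0 : T.a (v 1) (v 0) = T.w (v 0) := by rw [e_1_0, w_1]
  have val_1_1 : T.a (v 1) (v 1) = -2 * T.w (v 0) := by rw [(hv 1).2, w_1]
  have val_1_2 : T.a (v 1) (v 2) = T.w (v 0) := by rw [e_1_2, w_1]
  have val_1_3 : T.a (v 1) (v 3) = 0 := z_1_3
  have val_1_4 : T.a (v 1) (v 4) = 0 := z_1_4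
  have val_1_5 : T.a (v 1) (v 5) = 0 := z_1_5
  have val_1_6 : T.a (v 1) (v 6) = 0 := z_1_6
  have val_1_7 : T.a (v 1) (v 7) = 0 := z_1_7
  have val_2_0 : T.a (v 2) (v 0) = 0 := z_2_0
  have val_2_1 : T.a (v 2) (v 1) = T.w (v 0) := by rw [e_2_1, w_2]
  have val_2_2 : T.a (v 2) (v 2) = -2 * T.w (v 0) := by rw [(hv 2).2, w_2]
  have val_2_3 : T.a (v 2) (v 3) = T.w (v 0) := by rw [e_2_3, w_2]
  have val_2_4 : T.a (v 2) (v 4) = 0 := z_2_4
  have val_2_5 : T.a (v 2) (v 5) = 0 := z_2_5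
  have val_2_6 : T.a (v 2) (v 6) = 0 := z_2_6
  have val_2_7 : T.a (v 2) (v 7) = 0 := z_2_7
  have val_3_0 : T.a (v 3) (v 0) = 0 := z_3_0
  have val_3_1 : T.a (v 3) (v 1) = 0 := z_3_1
  have val_3_2 : T.a (v 3) (v 2) = T.w (v 0) := by rw [e_3_2, w_3]
  have val_3_3 : T.a (v 3) (v 3) = -2 * T.w (v 0) := by rw [(hv 3).2, w_3]
  have val_3_4 : T.a (v 3) (v 4) = T.w (v 0) := by rw [e_3_4, w_3]
  have val_3_5 : T.a (v 3) (v 5) = 0 := z_3_5
  have val_3_6 : T.a (v 3) (v 6) = 0 := z_3_6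
  have val_3_7 : T.a (v 3) (v 7) = 0 := z_3_7
  have val_4_0 : T.a (v 4) (v 0) = 0 := z_4_0
  have val_4_1 : T.a (v 4) (v 1) = 0 := z_4_1
  have val_4_2 : T.a (v 4) (v 2) = 0 := z_4_2
  have val_4_3 : T.a (v 4) (v 3) = T.w (v 0) := by rw [e_4_3, w_4]
  have val_4_4 : T.a (v 4) (v 4) = -2 * T.w (v 0) := by rw [(hv 4).2, w_4]
  have val_4_5 : T.a (v 4) (v 5) = T.w (v 0) := by rw [e_4_5, w_4]
  have val_4_6 : T.a (v 4) (v 6) = 0 := z_4_6
  have val_4_7 : T.a (v 4) (v 7) = T.w (v 0) := by rw [e_4_7, w_4]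
  have val_5_0 : T.a (v 5) (v 0) = 0 := z_5_0
  have val_5_1 : T.a (v 5) (v 1) = 0 := z_5_1
  have val_5_2 : T.a (v 5) (v 2) = 0 := z_5_2
  have val_5_3 : T.a (v 5) (v 3) = 0 := z_5_3
  have val_5_4 : T.a (v 5) (v 4) = T.w (v 0) := by rw [e_5_4, w_5]
  have val_5_5 : T.a (v 5) (v 5) = -2 * T.w (v 0) := by rw [(hv 5).2, w_5]
  have val_5_6 : T.a (v 5) (v 6) = T.w (v 0) := by rw [e_5_6, w_5]
  have val_5_7 : T.a (v 5) (v 7) = 0 := z_5_7
  have val_6_0 : T.a (v 6) (v 0) = 0 := z_6_0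
  have val_6_1 : T.a (v 6) (v 1) = 0 := z_6_1
  have val_6_2 : T.a (v 6) (v 2) = 0 := z_6_2
  have val_6_3 : T.a (v 6) (v 3) = 0 := z_6_3
  have val_6_4 : T.a (v 6) (v 4) = 0 := z_6_4
  have val_6_5 : T.a (v 6) (v 5) = T.w (v 0) := by rw [e_6_5, w_6]
  have val_6_6 : T.a (v 6) (v 6) = -2 * T.w (v 0) := by rw [(hv 6).2, w_6]
  have val_6_7 : T.a (v 6) (v 7) = 0 := z_6_7
  have val_7_0 : T.a (v 7) (v 0) = 0 := z_7_0
  have val_7_1 : T.a (v 7) (v 1) = 0 := z_7_1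
  have val_7_2 : T.a (v 7) (v 2) = 0 := z_7_2
  have val_7_3 : T.a (v 7) (v 3) = 0 := z_7_3
  have val_7_4 : T.a (v 7) (v 4) = T.w (v 0) := by rw [e_7_4, w_7]
  have val_7_5 : T.a (v 7) (v 5) = 0 := z_7_5
  have val_7_6 : T.a (v 7) (v 6) = 0 := z_7_6
  have val_7_7 : T.a (v 7) (v 7) = -2 * T.w (v 0) := by rw [(hv 7).2, w_7]
  have m_0 : T.m (v 1) ≤ 2 * T.m (v 0) := by
    have h := row_le T v 0
    simp only [Fin.sum_univ_eight, val_0_0, val_0_1, val_0_2, val_0_3, val_0_4, val_0_5, val_0_6, val_0_7] at h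
    have h2 := le_of_W hW (X := T.m (v 1) - 2 * T.m (v 0)) (by linarith)
    linarith
  have m_1 : T.m (v 0) + T.m (v 2) ≤ 2 * T.m (v 1) := by
    have h := row_le T v 1
    simp only [Fin.sum_univ_eight, val_1_0, val_1_1, val_1_2, val_1_3, val_1_4, val_1_5, val_1_6, val_1_7] at h
    have h2 := le_of_W hW (X := T.m (v 0) + T.m (v 2) - 2 * T.m (v 1)) (by linarith)
    linarith
  have m_2 : T.m (v 1) + T.m (v 3) ≤ 2 * T.m (v 2) := by
    have h := row_le T v 2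
    simp only [Fin.sum_univ_eight, val_2_0, val_2_1, val_2_2, val_2_3, val_2_4, val_2_5, val_2_6, val_2_7] at h
    have h2 := le_of_W hW (X := T.m (v 1) + T.m (v 3) - 2 * T.m (v 2)) (by linarith)
    linarith
  have m_3 : T.m (v 2) + T.m (v 4) ≤ 2 * T.m (v 3) := by
    have h := row_le T v 3
    simp only [Fin.sum_univ_eight, val_3_0, val_3_1, val_3_2, val_3_3, val_3_4, val_3_5, val_3_6, val_3_7] at h
    have h2 := le_of_W hW (X := T.m (v 2) + T.m (v 4) - 2 * T.m (v 3)) (by linarith)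
    linarith
  have m_4 : T.m (v 3) + T.m (v 5) + T.m (v 7) ≤ 2 * T.m (v 4) := by
    have h := row_le T v 4
    simp only [Fin.sum_univ_eight, val_4_0, val_4_1, val_4_2, val_4_3, val_4_4, val_4_5, val_4_6, val_4_7] at h
    have h2 := le_of_W hW (X := T.m (v 3) + T.m (v 5) + T.m (v 7) - 2 * T.m (v 4)) (by linarith)
    linarith
  have m_5 : T.m (v 4) + T.m (v 6) ≤ 2 * T.m (v 5) := by
    have h := row_le T v 5
    simp only [Fin.sum_univ_eight, val_5_0, val_5_1, val_5_2, val_5_3, val_5_4, val_5_5, val_5_6, val_5_7] at h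
    have h2 := le_of_W hW (X := T.m (v 4) + T.m (v 6) - 2 * T.m (v 5)) (by linarith)
    linarith
  have m_6 : T.m (v 5) ≤ 2 * T.m (v 6) := by
    have h := row_le T v 6
    simp only [Fin.sum_univ_eight, val_6_0, val_6_1, val_6_2, val_6_3, val_6_4, val_6_5, val_6_6, val_6_7] at h
    have h2 := le_of_W hW (X := T.m (v 5) - 2 * T.m (v 6)) (by linarith)
    linarith
  have m_7 : T.m (v 4) ≤ 2 * T.m (v 7) := by
    have h := row_le T v 7
    simp only [Fin.sum_univ_eight, val_7_0, val_7_1, val_7_2, val_7_3, val_7_4, val_7_5, val_7_6, val_7_7] at h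
    have h2 := le_of_W hW (X := T.m (v 4) - 2 * T.m (v 7)) (by linarith)
    linarith
  refine ⟨T.w (v 0), ?_, val_0_1, val_1_2, val_2_3, val_3_4, val_4_5, val_5_6, val_4_7, z_0_2, z_0_3, z_0_4, z_0_5, z_0_6, z_0_7, z_1_3, z_1_4, z_1_5, z_1_6, z_1_7, z_2_4, z_2_5, z_2_6, z_2_7, z_3_5, z_3_6, z_3_7, z_4_6, z_5_7, z_6_7, m_0, m_1, m_2, m_3, m_4, m_5, m_6, m_7⟩
  intro j
  fin_cases j
  exacts [w_0, w_1, w_2, w_3, w_4, w_5, w_6, w_7]

end Groth.Agent.S7350
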