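import Groth.Statements.S7351
import Groth.Agent.Lib.NumTypeDynkin

set_option autoImplicit false
open Finset
open Models Models.NumericalType

namespace Groth.Agent.S7351

open Groth.Agent.Lib.NumType Groth.Agent.Lib.NumTypeDynkin

/-- Let T be a numerical type on n > 5 indices. There do not exist five distinct (-2)-indices h, i, j,
k, l with a_hi > 0, a_hj > 0, a_hk > 0 and a_hl > 0. -/
theorem result {n : ℕ} (T : Models.NumericalType n) (hn : 5 < n)
    (v : Fin 5 ↪ Fin n) (hv : ∀ j, T.IsMinusTwo (v j))
    (h01 : 0 < T.a (v 0) (v 1)) (h02 : 0 < T.a (v 0) (v 2)) (h03 : 0 < T.a (v 0) (v 3)) (h04 : 0 < T.a (v 0) (v 4)) : False := by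
  obtain ⟨i, hci, hlt⟩ := key T hn v ![2, 1, 1, 1, 1] (by intro j; fin_cases j <;> simp)
    ⟨0, by simp⟩
  have d := fun j => (hv j).2
  have s := fun p q => a_symm T (v p) (v q)
  have nn := offDiag_nonneg' T v
  have wl := fun p q (hpq : p ≠ q) => w_le_left' T v hpq
  have wr := fun p q (hpq : p ≠ q) => w_le_right' T v hpq
  have e1 := wl 0 1 (by decide) h01.ne'
  have e2 := wl 0 2 (by decide) h02.ne'
  have e3 := wl 0 3 (by decide) h03.ne'
  have e4 := wl 0 4 (by decide) h04.ne'
  have f1 := wr 0 1 (by decide) h01.ne'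
  have f2 := wr 0 2 (by decide) h02.ne'
  have f3 := wr 0 3 (by decide) h03.ne'
  have f4 := wr 0 4 (by decide) h04.ne'
  fin_cases i <;> simp [Fin.sum_univ_five] at hlt
  · have := d 0
    linarith
  · have := d 1
    have := s 1 0
    have := nn 1 2 (by decide)
    have := nn 1 3 (by decide)
    have := nn 1 4 (by decide)
    linarith
  · have := d 2
    have := s 2 0
    have := nn 2 1 (by decide)
    have := nn 2 3 (by decide)
    have := nn 2 4 (by decide)
    linarith
  · have := d 3
    have := s 3 0
    have := nn 3 1 (by decide)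
    have := nn 3 2 (by decide)
    have := nn 3 4 (by decide)
    linarith
  · have := d 4
    have := s 4 0
    have := nn 4 1 (by decide)
    have := nn 4 2 (by decide)
    have := nn 4 3 (by decide)
    linarith

end Groth.Agent.S7351
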