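import Groth.Statements.S7352
import Groth.Agent.Lib.NumTypeDynkin

set_option autoImplicit false
open Finset
open Models Models.NumericalType

namespace Groth.Agent.S7352

open Groth.Agent.Lib.NumTypeDynkin Groth.Agent.Lib.NumType

/-- Classification of proper subgraphs which are chains of four vertices: let T be a numerical type on n
> 4 indices and i_1, …, i_4 distinct (-2)-indices with a_{i_j i_{j+1}} nonzero for j < 4. Then
a_{i_j i_l} = 0 for |j - l| ≥ 2 and, after possibly reversing the order of the indices, for some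
integer w one of the following holds: (A4) w = (w, w, w, w), consecutive a = (w, w, w), with 2m_1 ≥
m_2, 2m_2 ≥ m_1 + m_3, 2m_3 ≥ m_2 + m_4, 2m_4 ≥ m_3; (C4) w = (w, w, w, 2w), consecutive a = (w, w,
2w), with 2m_1 ≥ m_2, 2m_2 ≥ m_1 + m_3, 2m_3 ≥ m_2 + 2m_4, 2m_4 ≥ m_3; (B4) w = (2w, 2w, 2w, w),
consecutive a = (2w, 2w, 2w), with 2m_1 ≥ m_2, 2m_2 ≥ m_1 + m_3, 2m_3 ≥ m_2 + m_4, m_4 ≥ m_3; (F4) w
= (w, w, 2w, 2w), consecutive a = (w, 2w, 2w), with 2m_1 ≥ m_2, 2m_2 ≥ m_1 + 2m_3, 2m_3 ≥ m_2 + m_4,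
2m_4 ≥ m_3. -/
theorem result {n : ℕ} (T : Models.NumericalType n) (hn : 4 < n)
    (v : Fin 4 ↪ Fin n) (hv : ∀ j, T.IsMinusTwo (v j)) (h01 : T.a (v 0) (v 1) ≠ 0) (h12 : T.a (v 1) (v 2) ≠ 0) (h23 : T.a (v 2) (v 3) ≠ 0) :
    (T.a (v 0) (v 2) = 0 ∧ T.a (v 0) (v 3) = 0 ∧ T.a (v 1) (v 3) = 0) ∧
    ∃ (u : Fin 4 → Fin n) (w : ℤ), ((∀ j, u j = v j) ∨ (∀ j, u j = v (Fin.rev j))) ∧
      ((T.w (u 0) = w ∧ T.w (u 1) = w ∧ T.w (u 2) = w ∧ T.w (u 3) = w ∧ T.a (u 0) (u 1) = w ∧ T.a (u 1) (u 2) = w ∧ T.a (u 2) (u 3) = w ∧ T.m (u 1) ≤ 2 * T.m (u 0) ∧ T.m (u 0) + T.m (u 2) ≤ 2 * T.m (u 1) ∧ T.m (u 1) + T.m (u 3) ≤ 2 * T.m (u 2) ∧ T.m (u 2) ≤ 2 * T.m (u 3)) ∨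
      (T.w (u 0) = w ∧ T.w (u 1) = w ∧ T.w (u 2) = w ∧ T.w (u 3) = 2 * w ∧ T.a (u 0) (u 1) = w ∧ T.a (u 1) (u 2) = w ∧ T.a (u 2) (u 3) = 2 * w ∧ T.m (u 1) ≤ 2 * T.m (u 0) ∧ T.m (u 0) + T.m (u 2) ≤ 2 * T.m (u 1) ∧ T.m (u 1) + 2 * T.m (u 3) ≤ 2 * T.m (u 2) ∧ T.m (u 2) ≤ 2 * T.m (u 3)) ∨
      (T.w (u 0) = 2 * w ∧ T.w (u 1) = 2 * w ∧ T.w (u 2) = 2 * w ∧ T.w (u 3) = w ∧ T.a (u 0) (u 1) = 2 * w ∧ T.a (u 1) (u 2) = 2 * w ∧ T.a (u 2) (u 3) = 2 * w ∧ T.m (u 1) ≤ 2 * T.m (u 0) ∧ T.m (u 0) + T.m (u 2) ≤ 2 * T.m (u 1) ∧ T.m (u 1) + T.m (u 3) ≤ 2 * T.m (u 2) ∧ T.m (u 2) ≤ T.m (u 3)) ∨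
      (T.w (u 0) = w ∧ T.w (u 1) = w ∧ T.w (u 2) = 2 * w ∧ T.w (u 3) = 2 * w ∧ T.a (u 0) (u 1) = w ∧ T.a (u 1) (u 2) = 2 * w ∧ T.a (u 2) (u 3) = 2 * w ∧ T.m (u 1) ≤ 2 * T.m (u 0) ∧ T.m (u 0) + 2 * T.m (u 2) ≤ 2 * T.m (u 1) ∧ T.m (u 1) + T.m (u 3) ≤ 2 * T.m (u 2) ∧ T.m (u 2) ≤ 2 * T.m (u 3))) := by
  have n_0_1 : T.a (v 0) (v 1) ≠ 0 := h01
  have n_1_0 : T.a (v 1) (v 0) ≠ 0 := by rw [a_symm T (v 1) (v 0)]; exact h01
  have n_1_2 : T.a (v 1) (v 2) ≠ 0 := h12
  have n_2_1 : T.a (v 2) (v 1) ≠ 0 := by rw [a_symm T (v 2) (v 1)]; exact h12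
  have n_2_3 : T.a (v 2) (v 3) ≠ 0 := h23
  have n_3_2 : T.a (v 3) (v 2) ≠ 0 := by rw [a_symm T (v 3) (v 2)]; exact h23
  have l_0_1 := one_le' T v (p := 0) (q := 1) (by decide) n_0_1
  have l_1_0 := one_le' T v (p := 1) (q := 0) (by decide) n_1_0
  have l_1_2 := one_le' T v (p := 1) (q := 2) (by decide) n_1_2
  have l_2_1 := one_le' T v (p := 2) (q := 1) (by decide) n_2_1
  have l_2_3 := one_le' T v (p := 2) (q := 3) (by decide) n_2_3
  have l_3_2 := one_le' T v (p := 3) (q := 2) (by decide) n_3_2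
  have z_0_2 : T.a (v 0) (v 2) = 0 := by
    by_contra hne
    have hne' : T.a (v 2) (v 0) ≠ 0 := by rw [a_symm T (v 2) (v 0)]; exact hne
    have l_0_2 := one_le' T v (p := 0) (q := 2) (by decide) hne
    have l_2_0 := one_le' T v (p := 2) (q := 0) (by decide) hne'
    refine no_super_list T hn v hv [(0, 1, 1), (1, 0, 1), (1, 2, 1), (2, 1, 1), (2, 3, 1), (3, 2, 1), (0, 2, 1), (2, 0, 1)] ?_
      ![1, 1, 1, 0] (by decide) ⟨0, by decide⟩ (by decide)
    intro e he
    simp only [List.mem_cons, List.not_mem_nil, or_false] at he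
    rcases he with rfl | rfl | rfl | rfl | rfl | rfl | rfl | rfl
    exacts [l_0_1, l_1_0, l_1_2, l_2_1, l_2_3, l_3_2, l_0_2, l_2_0]
  have z_2_0 : T.a (v 2) (v 0) = 0 := by rw [a_symm T (v 2) (v 0)]; exact z_0_2
  have z_0_3 : T.a (v 0) (v 3) = 0 := by
    by_contra hne
    have hne' : T.a (v 3) (v 0) ≠ 0 := by rw [a_symm T (v 3) (v 0)]; exact hne
    have l_0_3 := one_le' T v (p := 0) (q := 3) (by decide) hne
    have l_3_0 := one_le' T v (p := 3) (q := 0) (by decide) hne'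
    refine no_super_list T hn v hv [(0, 1, 1), (1, 0, 1), (1, 2, 1), (2, 1, 1), (2, 3, 1), (3, 2, 1), (0, 3, 1), (3, 0, 1)] ?_
      ![1, 1, 1, 1] (by decide) ⟨0, by decide⟩ (by decide)
    intro e he
    simp only [List.mem_cons, List.not_mem_nil, or_false] at he
    rcases he with rfl | rfl | rfl | rfl | rfl | rfl | rfl | rfl
    exacts [l_0_1, l_1_0, l_1_2, l_2_1, l_2_3, l_3_2, l_0_3, l_3_0]
  have z_3_0 : T.a (v 3) (v 0) = 0 := by rw [a_symm T (v 3) (v 0)]; exact z_0_3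
  have z_1_3 : T.a (v 1) (v 3) = 0 := by
    by_contra hne
    have hne' : T.a (v 3) (v 1) ≠ 0 := by rw [a_symm T (v 3) (v 1)]; exact hne
    have l_1_3 := one_le' T v (p := 1) (q := 3) (by decide) hne
    have l_3_1 := one_le' T v (p := 3) (q := 1) (by decide) hne'
    refine no_super_list T hn v hv [(0, 1, 1), (1, 0, 1), (1, 2, 1), (2, 1, 1), (2, 3, 1), (3, 2, 1), (1, 3, 1), (3, 1, 1)] ?_
      ![0, 1, 1, 1] (by decide) ⟨1, by decide⟩ (by decide)
    intro e he
    simp only [List.mem_cons, List.not_mem_nil, or_false] at he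
    rcases he with rfl | rfl | rfl | rfl | rfl | rfl | rfl | rfl
    exacts [l_0_1, l_1_0, l_1_2, l_2_1, l_2_3, l_3_2, l_1_3, l_3_1]
  have z_3_1 : T.a (v 3) (v 1) = 0 := by rw [a_symm T (v 3) (v 1)]; exact z_1_3
  have T_0_P : ¬ (3 * T.w (v 0) ≤ T.a (v 0) (v 1)) := by
    intro b
    refine no_super_list T hn v hv [(0, 1, 3), (1, 0, 1), (1, 2, 1), (2, 1, 1), (2, 3, 1), (3, 2, 1)] ?_
      ![3, 2, 1, 0] (by decide) ⟨0, by decide⟩ (by decide)
    intro e he
    simp only [List.mem_cons, List.not_mem_nil, or_false] at he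
    rcases he with rfl | rfl | rfl | rfl | rfl | rfl
    exacts [b, l_1_0, l_1_2, l_2_1, l_2_3, l_3_2]
  have T_0_Q : ¬ (3 * T.w (v 1) ≤ T.a (v 1) (v 0)) := by
    intro b
    refine no_super_list T hn v hv [(0, 1, 1), (1, 0, 3), (1, 2, 1), (2, 1, 1), (2, 3, 1), (3, 2, 1)] ?_
      ![1, 2, 1, 0] (by decide) ⟨0, by decide⟩ (by decide)
    intro e he
    simp only [List.mem_cons, List.not_mem_nil, or_false] at he
    rcases he with rfl | rfl | rfl | rfl | rfl | rfl
    exacts [l_0_1, b, l_1_2, l_2_1, l_2_3, l_3_2]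
  have T_1_P : ¬ (3 * T.w (v 1) ≤ T.a (v 1) (v 2)) := by
    intro b
    refine no_super_list T hn v hv [(0, 1, 1), (1, 0, 1), (1, 2, 3), (2, 1, 1), (2, 3, 1), (3, 2, 1)] ?_
      ![1, 2, 1, 0] (by decide) ⟨0, by decide⟩ (by decide)
    intro e he
    simp only [List.mem_cons, List.not_mem_nil, or_false] at he
    rcases he with rfl | rfl | rfl | rfl | rfl | rfl
    exacts [l_0_1, l_1_0, b, l_2_1, l_2_3, l_3_2]
  have T_1_Q : ¬ (3 * T.w (v 2) ≤ T.a (v 2) (v 1)) := by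
    intro b
    refine no_super_list T hn v hv [(0, 1, 1), (1, 0, 1), (1, 2, 1), (2, 1, 3), (2, 3, 1), (3, 2, 1)] ?_
      ![0, 1, 2, 1] (by decide) ⟨1, by decide⟩ (by decide)
    intro e he
    simp only [List.mem_cons, List.not_mem_nil, or_false] at he
    rcases he with rfl | rfl | rfl | rfl | rfl | rfl
    exacts [l_0_1, l_1_0, l_1_2, b, l_2_3, l_3_2]
  have T_2_P : ¬ (3 * T.w (v 2) ≤ T.a (v 2) (v 3)) := by
    intro b
    refine no_super_list T hn v hv [(0, 1, 1), (1, 0, 1), (1, 2, 1), (2, 1, 1), (2, 3, 3), (3, 2, 1)] ?_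
      ![0, 1, 2, 1] (by decide) ⟨1, by decide⟩ (by decide)
    intro e he
    simp only [List.mem_cons, List.not_mem_nil, or_false] at he
    rcases he with rfl | rfl | rfl | rfl | rfl | rfl
    exacts [l_0_1, l_1_0, l_1_2, l_2_1, b, l_3_2]
  have T_2_Q : ¬ (3 * T.w (v 3) ≤ T.a (v 3) (v 2)) := by
    intro b
    refine no_super_list T hn v hv [(0, 1, 1), (1, 0, 1), (1, 2, 1), (2, 1, 1), (2, 3, 1), (3, 2, 3)] ?_
      ![0, 1, 2, 3] (by decide) ⟨1, by decide⟩ (by decide)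
    intro e he
    simp only [List.mem_cons, List.not_mem_nil, or_false] at he
    rcases he with rfl | rfl | rfl | rfl | rfl | rfl
    exacts [l_0_1, l_1_0, l_1_2, l_2_1, l_2_3, b]
  have D_0_1_PP : 2 * T.w (v 0) ≤ T.a (v 0) (v 1) → 2 * T.w (v 1) ≤ T.a (v 1) (v 2) → False := by
    intro b1 b2
    refine no_super_list T hn v hv [(0, 1, 2), (1, 0, 1), (1, 2, 2), (2, 1, 1), (2, 3, 1), (3, 2, 1)] ?_
      ![2, 2, 1, 0] (by decide) ⟨0, by decide⟩ (by decide)
    intro e he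
    simp only [List.mem_cons, List.not_mem_nil, or_false] at he
    rcases he with rfl | rfl | rfl | rfl | rfl | rfl
    exacts [b1, l_1_0, b2, l_2_1, l_2_3, l_3_2]
  have D_0_1_PQ : 2 * T.w (v 0) ≤ T.a (v 0) (v 1) → 2 * T.w (v 2) ≤ T.a (v 2) (v 1) → False := by
    intro b1 b2
    refine no_super_list T hn v hv [(0, 1, 2), (1, 0, 1), (1, 2, 1), (2, 1, 2), (2, 3, 1), (3, 2, 1)] ?_
      ![1, 1, 1, 0] (by decide) ⟨0, by decide⟩ (by decide)
    intro e he
    simp only [List.mem_cons, List.not_mem_nil, or_false] at he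
    rcases he with rfl | rfl | rfl | rfl | rfl | rfl
    exacts [b1, l_1_0, l_1_2, b2, l_2_3, l_3_2]
  have D_0_1_QP : 2 * T.w (v 1) ≤ T.a (v 1) (v 0) → 2 * T.w (v 1) ≤ T.a (v 1) (v 2) → False := by
    intro b1 b2
    refine no_super_list T hn v hv [(0, 1, 1), (1, 0, 2), (1, 2, 2), (2, 1, 1), (2, 3, 1), (3, 2, 1)] ?_
      ![1, 2, 1, 0] (by decide) ⟨0, by decide⟩ (by decide)
    intro e he
    simp only [List.mem_cons, List.not_mem_nil, or_false] at he
    rcases he with rfl | rfl | rfl | rfl | rfl | rfl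
    exacts [l_0_1, b1, b2, l_2_1, l_2_3, l_3_2]
  have D_0_1_QQ : 2 * T.w (v 1) ≤ T.a (v 1) (v 0) → 2 * T.w (v 2) ≤ T.a (v 2) (v 1) → False := by
    intro b1 b2
    refine no_super_list T hn v hv [(0, 1, 1), (1, 0, 2), (1, 2, 1), (2, 1, 2), (2, 3, 1), (3, 2, 1)] ?_
      ![1, 2, 2, 1] (by decide) ⟨0, by decide⟩ (by decide)
    intro e he
    simp only [List.mem_cons, List.not_mem_nil, or_false] at he
    rcases he with rfl | rfl | rfl | rfl | rfl | rfl
    exacts [l_0_1, b1, l_1_2, b2, l_2_3, l_3_2]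
  have D_0_2_PP : 2 * T.w (v 0) ≤ T.a (v 0) (v 1) → 2 * T.w (v 2) ≤ T.a (v 2) (v 3) → False := by
    intro b1 b2
    refine no_super_list T hn v hv [(0, 1, 2), (1, 0, 1), (1, 2, 1), (2, 1, 1), (2, 3, 2), (3, 2, 1)] ?_
      ![2, 2, 2, 1] (by decide) ⟨0, by decide⟩ (by decide)
    intro e he
    simp only [List.mem_cons, List.not_mem_nil, or_false] at he
    rcases he with rfl | rfl | rfl | rfl | rfl | rfl
    exacts [b1, l_1_0, l_1_2, l_2_1, b2, l_3_2]
  have D_0_2_PQ : 2 * T.w (v 0) ≤ T.a (v 0) (v 1) → 2 * T.w (v 3) ≤ T.a (v 3) (v 2) → False := by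
    intro b1 b2
    refine no_super_list T hn v hv [(0, 1, 2), (1, 0, 1), (1, 2, 1), (2, 1, 1), (2, 3, 1), (3, 2, 2)] ?_
      ![1, 1, 1, 1] (by decide) ⟨0, by decide⟩ (by decide)
    intro e he
    simp only [List.mem_cons, List.not_mem_nil, or_false] at he
    rcases he with rfl | rfl | rfl | rfl | rfl | rfl
    exacts [b1, l_1_0, l_1_2, l_2_1, l_2_3, b2]
  have D_0_2_QP : 2 * T.w (v 1) ≤ T.a (v 1) (v 0) → 2 * T.w (v 2) ≤ T.a (v 2) (v 3) → False := by
    intro b1 b2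
    refine no_super_list T hn v hv [(0, 1, 1), (1, 0, 2), (1, 2, 1), (2, 1, 1), (2, 3, 2), (3, 2, 1)] ?_
      ![1, 2, 2, 1] (by decide) ⟨0, by decide⟩ (by decide)
    intro e he
    simp only [List.mem_cons, List.not_mem_nil, or_false] at he
    rcases he with rfl | rfl | rfl | rfl | rfl | rfl
    exacts [l_0_1, b1, l_1_2, l_2_1, b2, l_3_2]
  have D_0_2_QQ : 2 * T.w (v 1) ≤ T.a (v 1) (v 0) → 2 * T.w (v 3) ≤ T.a (v 3) (v 2) → False := by
    intro b1 b2
    refine no_super_list T hn v hv [(0, 1, 1), (1, 0, 2), (1, 2, 1), (2, 1, 1), (2, 3, 1), (3, 2, 2)] ?_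
      ![1, 2, 2, 2] (by decide) ⟨0, by decide⟩ (by decide)
    intro e he
    simp only [List.mem_cons, List.not_mem_nil, or_false] at he
    rcases he with rfl | rfl | rfl | rfl | rfl | rfl
    exacts [l_0_1, b1, l_1_2, l_2_1, l_2_3, b2]
  have D_1_2_PP : 2 * T.w (v 1) ≤ T.a (v 1) (v 2) → 2 * T.w (v 2) ≤ T.a (v 2) (v 3) → False := by
    intro b1 b2
    refine no_super_list T hn v hv [(0, 1, 1), (1, 0, 1), (1, 2, 2), (2, 1, 1), (2, 3, 2), (3, 2, 1)] ?_
      ![1, 2, 2, 1] (by decide) ⟨0, by decide⟩ (by decide)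
    intro e he
    simp only [List.mem_cons, List.not_mem_nil, or_false] at he
    rcases he with rfl | rfl | rfl | rfl | rfl | rfl
    exacts [l_0_1, l_1_0, b1, l_2_1, b2, l_3_2]
  have D_1_2_PQ : 2 * T.w (v 1) ≤ T.a (v 1) (v 2) → 2 * T.w (v 3) ≤ T.a (v 3) (v 2) → False := by
    intro b1 b2
    refine no_super_list T hn v hv [(0, 1, 1), (1, 0, 1), (1, 2, 2), (2, 1, 1), (2, 3, 1), (3, 2, 2)] ?_
      ![0, 1, 1, 1] (by decide) ⟨1, by decide⟩ (by decide)
    intro e he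
    simp only [List.mem_cons, List.not_mem_nil, or_false] at he
    rcases he with rfl | rfl | rfl | rfl | rfl | rfl
    exacts [l_0_1, l_1_0, b1, l_2_1, l_2_3, b2]
  have D_1_2_QP : 2 * T.w (v 2) ≤ T.a (v 2) (v 1) → 2 * T.w (v 2) ≤ T.a (v 2) (v 3) → False := by
    intro b1 b2
    refine no_super_list T hn v hv [(0, 1, 1), (1, 0, 1), (1, 2, 1), (2, 1, 2), (2, 3, 2), (3, 2, 1)] ?_
      ![0, 1, 2, 1] (by decide) ⟨1, by decide⟩ (by decide)
    intro e he
    simp only [List.mem_cons, List.not_mem_nil, or_false] at he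
    rcases he with rfl | rfl | rfl | rfl | rfl | rfl
    exacts [l_0_1, l_1_0, l_1_2, b1, b2, l_3_2]
  have D_1_2_QQ : 2 * T.w (v 2) ≤ T.a (v 2) (v 1) → 2 * T.w (v 3) ≤ T.a (v 3) (v 2) → False := by
    intro b1 b2
    refine no_super_list T hn v hv [(0, 1, 1), (1, 0, 1), (1, 2, 1), (2, 1, 2), (2, 3, 1), (3, 2, 2)] ?_
      ![0, 1, 2, 2] (by decide) ⟨1, by decide⟩ (by decide)
    intro e he
    simp only [List.mem_cons, List.not_mem_nil, or_false] at he
    rcases he with rfl | rfl | rfl | rfl | rfl | rfl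
    exacts [l_0_1, l_1_0, l_1_2, b1, l_2_3, b2]
  obtain ⟨x0, y0, hx0, hy0, hxy0⟩ := bond' T (by omega) v (p := 0) (q := 1) (by decide) (hv 0) (hv 1) n_0_1
  have hy0' : T.a (v 1) (v 0) = y0 * T.w (v 1) := by rw [a_symm T (v 1) (v 0)]; exact hy0
  have b0 : (x0 = 1 ∧ y0 = 1) ∨ (x0 = 2 ∧ y0 = 1) ∨ (x0 = 1 ∧ y0 = 2) := by
    rcases hxy0 with h | h | h | ⟨rfl, rfl⟩ | ⟨rfl, rfl⟩
    · exact Or.inl h
    · exact Or.inr (Or.inl h)
    · exact Or.inr (Or.inr h)
    · exact absurd hx0.symm.le T_0_P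
    · exact absurd hy0'.symm.le T_0_Q
  obtain ⟨x1, y1, hx1, hy1, hxy1⟩ := bond' T (by omega) v (p := 1) (q := 2) (by decide) (hv 1) (hv 2) n_1_2
  have hy1' : T.a (v 2) (v 1) = y1 * T.w (v 2) := by rw [a_symm T (v 2) (v 1)]; exact hy1
  have b1 : (x1 = 1 ∧ y1 = 1) ∨ (x1 = 2 ∧ y1 = 1) ∨ (x1 = 1 ∧ y1 = 2) := by
    rcases hxy1 with h | h | h | ⟨rfl, rfl⟩ | ⟨rfl, rfl⟩
    · exact Or.inl h
    · exact Or.inr (Or.inl h)
    · exact Or.inr (Or.inr h)
    · exact absurd hx1.symm.le T_1_P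
    · exact absurd hy1'.symm.le T_1_Q
  obtain ⟨x2, y2, hx2, hy2, hxy2⟩ := bond' T (by omega) v (p := 2) (q := 3) (by decide) (hv 2) (hv 3) n_2_3
  have hy2' : T.a (v 3) (v 2) = y2 * T.w (v 3) := by rw [a_symm T (v 3) (v 2)]; exact hy2
  have b2 : (x2 = 1 ∧ y2 = 1) ∨ (x2 = 2 ∧ y2 = 1) ∨ (x2 = 1 ∧ y2 = 2) := by
    rcases hxy2 with h | h | h | ⟨rfl, rfl⟩ | ⟨rfl, rfl⟩
    · exact Or.inl h
    · exact Or.inr (Or.inl h)
    · exact Or.inr (Or.inr h)
    · exact absurd hx2.symm.le T_2_P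
    · exact absurd hy2'.symm.le T_2_Q
  refine ⟨⟨z_0_2, z_0_3, z_1_3⟩, ?_⟩
  rcases b0 with ⟨rfl, rfl⟩ | ⟨rfl, rfl⟩ | ⟨rfl, rfl⟩
  · rcases b1 with ⟨rfl, rfl⟩ | ⟨rfl, rfl⟩ | ⟨rfl, rfl⟩
    · rcases b2 with ⟨rfl, rfl⟩ | ⟨rfl, rfl⟩ | ⟨rfl, rfl⟩
      · have hW := T.w_pos (v 0)
        have w_0 : T.w (v 0) = 1 * T.w (v 0) := by linarith
        have w_1 : T.w (v 1) = 1 * T.w (v 0) := by linarith
        have w_2 : T.w (v 2) = 1 * T.w (v 0) := by linarith
        have w_3 : T.w (v 3) = 1 * T.w (v 0) := by linarith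
        have val_0_0 : T.a (v 0) (v 0) = -2 * T.w (v 0) := by have := (hv 0).2; linarith
        have val_0_1 : T.a (v 0) (v 1) = 1 * T.w (v 0) := by linarith
        have val_0_2 : T.a (v 0) (v 2) = 0 * T.w (v 0) := by rw [z_0_2]; ring
        have val_0_3 : T.a (v 0) (v 3) = 0 * T.w (v 0) := by rw [z_0_3]; ring
        have val_1_0 : T.a (v 1) (v 0) = 1 * T.w (v 0) := by linarith
        have val_1_1 : T.a (v 1) (v 1) = -2 * T.w (v 0) := by have := (hv 1).2; linarith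
        have val_1_2 : T.a (v 1) (v 2) = 1 * T.w (v 0) := by linarith
        have val_1_3 : T.a (v 1) (v 3) = 0 * T.w (v 0) := by rw [z_1_3]; ring
        have val_2_0 : T.a (v 2) (v 0) = 0 * T.w (v 0) := by rw [z_2_0]; ring
        have val_2_1 : T.a (v 2) (v 1) = 1 * T.w (v 0) := by linarith
        have val_2_2 : T.a (v 2) (v 2) = -2 * T.w (v 0) := by have := (hv 2).2; linarith
        have val_2_3 : T.a (v 2) (v 3) = 1 * T.w (v 0) := by linarith
        have val_3_0 : T.a (v 3) (v 0) = 0 * T.w (v 0) := by rw [z_3_0]; ring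
        have val_3_1 : T.a (v 3) (v 1) = 0 * T.w (v 0) := by rw [z_3_1]; ring
        have val_3_2 : T.a (v 3) (v 2) = 1 * T.w (v 0) := by linarith
        have val_3_3 : T.a (v 3) (v 3) = -2 * T.w (v 0) := by have := (hv 3).2; linarith
        have m_0 : T.m (v 1) ≤ 2 * T.m (v 0) := by
          have h := row_le T v 0
          simp only [Fin.sum_univ_four, val_0_0, val_0_1, val_0_2, val_0_3] at h
          have h2 := le_of_W hW (X := (-2) * T.m (v 0) + (1) * T.m (v 1) + (0) * T.m (v 2) + (0) * T.m (v 3)) (by linarith)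
          linarith
        have m_1 : T.m (v 0) + T.m (v 2) ≤ 2 * T.m (v 1) := by
          have h := row_le T v 1
          simp only [Fin.sum_univ_four, val_1_0, val_1_1, val_1_2, val_1_3] at h
          have h2 := le_of_W hW (X := (1) * T.m (v 0) + (-2) * T.m (v 1) + (1) * T.m (v 2) + (0) * T.m (v 3)) (by linarith)
          linarith
        have m_2 : T.m (v 1) + T.m (v 3) ≤ 2 * T.m (v 2) := by
          have h := row_le T v 2
          simp only [Fin.sum_univ_four, val_2_0, val_2_1, val_2_2, val_2_3] at h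
          have h2 := le_of_W hW (X := (0) * T.m (v 0) + (1) * T.m (v 1) + (-2) * T.m (v 2) + (1) * T.m (v 3)) (by linarith)
          linarith
        have m_3 : T.m (v 2) ≤ 2 * T.m (v 3) := by
          have h := row_le T v 3
          simp only [Fin.sum_univ_four, val_3_0, val_3_1, val_3_2, val_3_3] at h
          have h2 := le_of_W hW (X := (0) * T.m (v 0) + (0) * T.m (v 1) + (1) * T.m (v 2) + (-2) * T.m (v 3)) (by linarith)
          linarith
        have goal : T.w (v 0) = T.w (v 0) ∧ T.w (v 1) = T.w (v 0) ∧ T.w (v 2) = T.w (v 0) ∧ T.w (v 3) = T.w (v 0) ∧ T.a (v 0) (v 1) = T.w (v 0) ∧ T.a (v 1) (v 2) = T.w (v 0) ∧ T.a (v 2) (v 3) = T.w (v 0) ∧ T.m (v 1) ≤ 2 * T.m (v 0) ∧ T.m (v 0) + T.m (v 2) ≤ 2 * T.m (v 1) ∧ T.m (v 1) + T.m (v 3) ≤ 2 * T.m (v 2) ∧ T.m (v 2) ≤ 2 * T.m (v 3) :=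
          ⟨by linarith, by linarith, by linarith, by linarith, by linarith, by linarith, by linarith, m_0, m_1, m_2, m_3⟩
        exact ⟨v, T.w (v 0), Or.inl (fun j => rfl), Or.inl goal⟩
      · have hW := T.w_pos (v 0)
        have w_0 : T.w (v 0) = 1 * T.w (v 0) := by linarith
        have w_1 : T.w (v 1) = 1 * T.w (v 0) := by linarith
        have w_2 : T.w (v 2) = 1 * T.w (v 0) := by linarith
        have w_3 : T.w (v 3) = 2 * T.w (v 0) := by linarith
        have val_0_0 : T.a (v 0) (v 0) = -2 * T.w (v 0) := by have := (hv 0).2; linarith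
        have val_0_1 : T.a (v 0) (v 1) = 1 * T.w (v 0) := by linarith
        have val_0_2 : T.a (v 0) (v 2) = 0 * T.w (v 0) := by rw [z_0_2]; ring
        have val_0_3 : T.a (v 0) (v 3) = 0 * T.w (v 0) := by rw [z_0_3]; ring
        have val_1_0 : T.a (v 1) (v 0) = 1 * T.w (v 0) := by linarith
        have val_1_1 : T.a (v 1) (v 1) = -2 * T.w (v 0) := by have := (hv 1).2; linarith
        have val_1_2 : T.a (v 1) (v 2) = 1 * T.w (v 0) := by linarith
        have val_1_3 : T.a (v 1) (v 3) = 0 * T.w (v 0) := by rw [z_1_3]; ring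
        have val_2_0 : T.a (v 2) (v 0) = 0 * T.w (v 0) := by rw [z_2_0]; ring
        have val_2_1 : T.a (v 2) (v 1) = 1 * T.w (v 0) := by linarith
        have val_2_2 : T.a (v 2) (v 2) = -2 * T.w (v 0) := by have := (hv 2).2; linarith
        have val_2_3 : T.a (v 2) (v 3) = 2 * T.w (v 0) := by linarith
        have val_3_0 : T.a (v 3) (v 0) = 0 * T.w (v 0) := by rw [z_3_0]; ring
        have val_3_1 : T.a (v 3) (v 1) = 0 * T.w (v 0) := by rw [z_3_1]; ring
        have val_3_2 : T.a (v 3) (v 2) = 2 * T.w (v 0) := by linarith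
        have val_3_3 : T.a (v 3) (v 3) = -4 * T.w (v 0) := by have := (hv 3).2; linarith
        have m_0 : T.m (v 1) ≤ 2 * T.m (v 0) := by
          have h := row_le T v 0
          simp only [Fin.sum_univ_four, val_0_0, val_0_1, val_0_2, val_0_3] at h
          have h2 := le_of_W hW (X := (-2) * T.m (v 0) + (1) * T.m (v 1) + (0) * T.m (v 2) + (0) * T.m (v 3)) (by linarith)
          linarith
        have m_1 : T.m (v 0) + T.m (v 2) ≤ 2 * T.m (v 1) := by
          have h := row_le T v 1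
          simp only [Fin.sum_univ_four, val_1_0, val_1_1, val_1_2, val_1_3] at h
          have h2 := le_of_W hW (X := (1) * T.m (v 0) + (-2) * T.m (v 1) + (1) * T.m (v 2) + (0) * T.m (v 3)) (by linarith)
          linarith
        have m_2 : T.m (v 1) + 2 * T.m (v 3) ≤ 2 * T.m (v 2) := by
          have h := row_le T v 2
          simp only [Fin.sum_univ_four, val_2_0, val_2_1, val_2_2, val_2_3] at h
          have h2 := le_of_W hW (X := (0) * T.m (v 0) + (1) * T.m (v 1) + (-2) * T.m (v 2) + (2) * T.m (v 3)) (by linarith)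
          linarith
        have m_3 : T.m (v 2) ≤ 2 * T.m (v 3) := by
          have h := row_le T v 3
          simp only [Fin.sum_univ_four, val_3_0, val_3_1, val_3_2, val_3_3] at h
          have h2 := le_of_W hW (X := (0) * T.m (v 0) + (0) * T.m (v 1) + (2) * T.m (v 2) + (-4) * T.m (v 3)) (by linarith)
          linarith
        have goal : T.w (v 0) = T.w (v 0) ∧ T.w (v 1) = T.w (v 0) ∧ T.w (v 2) = T.w (v 0) ∧ T.w (v 3) = 2 * T.w (v 0) ∧ T.a (v 0) (v 1) = T.w (v 0) ∧ T.a (v 1) (v 2) = T.w (v 0) ∧ T.a (v 2) (v 3) = 2 * T.w (v 0) ∧ T.m (v 1) ≤ 2 * T.m (v 0) ∧ T.m (v 0) + T.m (v 2) ≤ 2 * T.m (v 1) ∧ T.m (v 1) + 2 * T.m (v 3) ≤ 2 * T.m (v 2) ∧ T.m (v 2) ≤ 2 * T.m (v 3) :=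
          ⟨by linarith, by linarith, by linarith, by linarith, by linarith, by linarith, by linarith, m_0, m_1, m_2, m_3⟩
        exact ⟨v, T.w (v 0), Or.inl (fun j => rfl), Or.inr (Or.inl goal)⟩
      · have hW := T.w_pos (v 3)
        have w_0 : T.w (v 0) = 2 * T.w (v 3) := by linarith
        have w_1 : T.w (v 1) = 2 * T.w (v 3) := by linarith
        have w_2 : T.w (v 2) = 2 * T.w (v 3) := by linarith
        have w_3 : T.w (v 3) = 1 * T.w (v 3) := by linarith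
        have val_0_0 : T.a (v 0) (v 0) = -4 * T.w (v 3) := by have := (hv 0).2; linarith
        have val_0_1 : T.a (v 0) (v 1) = 2 * T.w (v 3) := by linarith
        have val_0_2 : T.a (v 0) (v 2) = 0 * T.w (v 3) := by rw [z_0_2]; ring
        have val_0_3 : T.a (v 0) (v 3) = 0 * T.w (v 3) := by rw [z_0_3]; ring
        have val_1_0 : T.a (v 1) (v 0) = 2 * T.w (v 3) := by linarith
        have val_1_1 : T.a (v 1) (v 1) = -4 * T.w (v 3) := by have := (hv 1).2; linarith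
        have val_1_2 : T.a (v 1) (v 2) = 2 * T.w (v 3) := by linarith
        have val_1_3 : T.a (v 1) (v 3) = 0 * T.w (v 3) := by rw [z_1_3]; ring
        have val_2_0 : T.a (v 2) (v 0) = 0 * T.w (v 3) := by rw [z_2_0]; ring
        have val_2_1 : T.a (v 2) (v 1) = 2 * T.w (v 3) := by linarith
        have val_2_2 : T.a (v 2) (v 2) = -4 * T.w (v 3) := by have := (hv 2).2; linarith
        have val_2_3 : T.a (v 2) (v 3) = 2 * T.w (v 3) := by linarith
        have val_3_0 : T.a (v 3) (v 0) = 0 * T.w (v 3) := by rw [z_3_0]; ring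
        have val_3_1 : T.a (v 3) (v 1) = 0 * T.w (v 3) := by rw [z_3_1]; ring
        have val_3_2 : T.a (v 3) (v 2) = 2 * T.w (v 3) := by linarith
        have val_3_3 : T.a (v 3) (v 3) = -2 * T.w (v 3) := by have := (hv 3).2; linarith
        have m_0 : T.m (v 1) ≤ 2 * T.m (v 0) := by
          have h := row_le T v 0
          simp only [Fin.sum_univ_four, val_0_0, val_0_1, val_0_2, val_0_3] at h
          have h2 := le_of_W hW (X := (-4) * T.m (v 0) + (2) * T.m (v 1) + (0) * T.m (v 2) + (0) * T.m (v 3)) (by linarith)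
          linarith
        have m_1 : T.m (v 0) + T.m (v 2) ≤ 2 * T.m (v 1) := by
          have h := row_le T v 1
          simp only [Fin.sum_univ_four, val_1_0, val_1_1, val_1_2, val_1_3] at h
          have h2 := le_of_W hW (X := (2) * T.m (v 0) + (-4) * T.m (v 1) + (2) * T.m (v 2) + (0) * T.m (v 3)) (by linarith)
          linarith
        have m_2 : T.m (v 1) + T.m (v 3) ≤ 2 * T.m (v 2) := by
          have h := row_le T v 2
          simp only [Fin.sum_univ_four, val_2_0, val_2_1, val_2_2, val_2_3] at h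
          have h2 := le_of_W hW (X := (0) * T.m (v 0) + (2) * T.m (v 1) + (-4) * T.m (v 2) + (2) * T.m (v 3)) (by linarith)
          linarith
        have m_3 : T.m (v 2) ≤ T.m (v 3) := by
          have h := row_le T v 3
          simp only [Fin.sum_univ_four, val_3_0, val_3_1, val_3_2, val_3_3] at h
          have h2 := le_of_W hW (X := (0) * T.m (v 0) + (0) * T.m (v 1) + (2) * T.m (v 2) + (-2) * T.m (v 3)) (by linarith)
          linarith
        have goal : T.w (v 0) = 2 * T.w (v 3) ∧ T.w (v 1) = 2 * T.w (v 3) ∧ T.w (v 2) = 2 * T.w (v 3) ∧ T.w (v 3) = T.w (v 3) ∧ T.a (v 0) (v 1) = 2 * T.w (v 3) ∧ T.a (v 1) (v 2) = 2 * T.w (v 3) ∧ T.a (v 2) (v 3) = 2 * T.w (v 3) ∧ T.m (v 1) ≤ 2 * T.m (v 0) ∧ T.m (v 0) + T.m (v 2) ≤ 2 * T.m (v 1) ∧ T.m (v 1) + T.m (v 3) ≤ 2 * T.m (v 2) ∧ T.m (v 2) ≤ T.m (v 3) :=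
          ⟨by linarith, by linarith, by linarith, by linarith, by linarith, by linarith, by linarith, m_0, m_1, m_2, m_3⟩
        exact ⟨v, T.w (v 3), Or.inl (fun j => rfl), Or.inr (Or.inr (Or.inl goal))⟩
    · rcases b2 with ⟨rfl, rfl⟩ | ⟨rfl, rfl⟩ | ⟨rfl, rfl⟩
      · have hW := T.w_pos (v 0)
        have w_0 : T.w (v 0) = 1 * T.w (v 0) := by linarith
        have w_1 : T.w (v 1) = 1 * T.w (v 0) := by linarith
        have w_2 : T.w (v 2) = 2 * T.w (v 0) := by linarith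
        have w_3 : T.w (v 3) = 2 * T.w (v 0) := by linarith
        have val_0_0 : T.a (v 0) (v 0) = -2 * T.w (v 0) := by have := (hv 0).2; linarith
        have val_0_1 : T.a (v 0) (v 1) = 1 * T.w (v 0) := by linarith
        have val_0_2 : T.a (v 0) (v 2) = 0 * T.w (v 0) := by rw [z_0_2]; ring
        have val_0_3 : T.a (v 0) (v 3) = 0 * T.w (v 0) := by rw [z_0_3]; ring
        have val_1_0 : T.a (v 1) (v 0) = 1 * T.w (v 0) := by linarith
        have val_1_1 : T.a (v 1) (v 1) = -2 * T.w (v 0) := by have := (hv 1).2; linarith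
        have val_1_2 : T.a (v 1) (v 2) = 2 * T.w (v 0) := by linarith
        have val_1_3 : T.a (v 1) (v 3) = 0 * T.w (v 0) := by rw [z_1_3]; ring
        have val_2_0 : T.a (v 2) (v 0) = 0 * T.w (v 0) := by rw [z_2_0]; ring
        have val_2_1 : T.a (v 2) (v 1) = 2 * T.w (v 0) := by linarith
        have val_2_2 : T.a (v 2) (v 2) = -4 * T.w (v 0) := by have := (hv 2).2; linarith
        have val_2_3 : T.a (v 2) (v 3) = 2 * T.w (v 0) := by linarith
        have val_3_0 : T.a (v 3) (v 0) = 0 * T.w (v 0) := by rw [z_3_0]; ring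
        have val_3_1 : T.a (v 3) (v 1) = 0 * T.w (v 0) := by rw [z_3_1]; ring
        have val_3_2 : T.a (v 3) (v 2) = 2 * T.w (v 0) := by linarith
        have val_3_3 : T.a (v 3) (v 3) = -4 * T.w (v 0) := by have := (hv 3).2; linarith
        have m_0 : T.m (v 1) ≤ 2 * T.m (v 0) := by
          have h := row_le T v 0
          simp only [Fin.sum_univ_four, val_0_0, val_0_1, val_0_2, val_0_3] at h
          have h2 := le_of_W hW (X := (-2) * T.m (v 0) + (1) * T.m (v 1) + (0) * T.m (v 2) + (0) * T.m (v 3)) (by linarith)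
          linarith
        have m_1 : T.m (v 0) + 2 * T.m (v 2) ≤ 2 * T.m (v 1) := by
          have h := row_le T v 1
          simp only [Fin.sum_univ_four, val_1_0, val_1_1, val_1_2, val_1_3] at h
          have h2 := le_of_W hW (X := (1) * T.m (v 0) + (-2) * T.m (v 1) + (2) * T.m (v 2) + (0) * T.m (v 3)) (by linarith)
          linarith
        have m_2 : T.m (v 1) + T.m (v 3) ≤ 2 * T.m (v 2) := by
          have h := row_le T v 2
          simp only [Fin.sum_univ_four, val_2_0, val_2_1, val_2_2, val_2_3] at h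
          have h2 := le_of_W hW (X := (0) * T.m (v 0) + (2) * T.m (v 1) + (-4) * T.m (v 2) + (2) * T.m (v 3)) (by linarith)
          linarith
        have m_3 : T.m (v 2) ≤ 2 * T.m (v 3) := by
          have h := row_le T v 3
          simp only [Fin.sum_univ_four, val_3_0, val_3_1, val_3_2, val_3_3] at h
          have h2 := le_of_W hW (X := (0) * T.m (v 0) + (0) * T.m (v 1) + (2) * T.m (v 2) + (-4) * T.m (v 3)) (by linarith)
          linarith
        have goal : T.w (v 0) = T.w (v 0) ∧ T.w (v 1) = T.w (v 0) ∧ T.w (v 2) = 2 * T.w (v 0) ∧ T.w (v 3) = 2 * T.w (v 0) ∧ T.a (v 0) (v 1) = T.w (v 0) ∧ T.a (v 1) (v 2) = 2 * T.w (v 0) ∧ T.a (v 2) (v 3) = 2 * T.w (v 0) ∧ T.m (v 1) ≤ 2 * T.m (v 0) ∧ T.m (v 0) + 2 * T.m (v 2) ≤ 2 * T.m (v 1) ∧ T.m (v 1) + T.m (v 3) ≤ 2 * T.m (v 2) ∧ T.m (v 2) ≤ 2 * T.m (v 3) :=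
          ⟨by linarith, by linarith, by linarith, by linarith, by linarith, by linarith, by linarith, m_0, m_1, m_2, m_3⟩
        exact ⟨v, T.w (v 0), Or.inl (fun j => rfl), Or.inr (Or.inr (Or.inr goal))⟩
      · exact (D_1_2_PP hx1.symm.le hx2.symm.le).elim
      · exact (D_1_2_PQ hx1.symm.le hy2'.symm.le).elim
    · rcases b2 with ⟨rfl, rfl⟩ | ⟨rfl, rfl⟩ | ⟨rfl, rfl⟩
      · have hW := T.w_pos (v 2)
        have w_0 : T.w (v 0) = 2 * T.w (v 2) := by linarith
        have w_1 : T.w (v 1) = 2 * T.w (v 2) := by linarith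
        have w_2 : T.w (v 2) = 1 * T.w (v 2) := by linarith
        have w_3 : T.w (v 3) = 1 * T.w (v 2) := by linarith
        have val_0_0 : T.a (v 0) (v 0) = -4 * T.w (v 2) := by have := (hv 0).2; linarith
        have val_0_1 : T.a (v 0) (v 1) = 2 * T.w (v 2) := by linarith
        have val_0_2 : T.a (v 0) (v 2) = 0 * T.w (v 2) := by rw [z_0_2]; ring
        have val_0_3 : T.a (v 0) (v 3) = 0 * T.w (v 2) := by rw [z_0_3]; ring
        have val_1_0 : T.a (v 1) (v 0) = 2 * T.w (v 2) := by linarith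
        have val_1_1 : T.a (v 1) (v 1) = -4 * T.w (v 2) := by have := (hv 1).2; linarith
        have val_1_2 : T.a (v 1) (v 2) = 2 * T.w (v 2) := by linarith
        have val_1_3 : T.a (v 1) (v 3) = 0 * T.w (v 2) := by rw [z_1_3]; ring
        have val_2_0 : T.a (v 2) (v 0) = 0 * T.w (v 2) := by rw [z_2_0]; ring
        have val_2_1 : T.a (v 2) (v 1) = 2 * T.w (v 2) := by linarith
        have val_2_2 : T.a (v 2) (v 2) = -2 * T.w (v 2) := by have := (hv 2).2; linarith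
        have val_2_3 : T.a (v 2) (v 3) = 1 * T.w (v 2) := by linarith
        have val_3_0 : T.a (v 3) (v 0) = 0 * T.w (v 2) := by rw [z_3_0]; ring
        have val_3_1 : T.a (v 3) (v 1) = 0 * T.w (v 2) := by rw [z_3_1]; ring
        have val_3_2 : T.a (v 3) (v 2) = 1 * T.w (v 2) := by linarith
        have val_3_3 : T.a (v 3) (v 3) = -2 * T.w (v 2) := by have := (hv 3).2; linarith
        have m_3 : T.m (v 2) ≤ 2 * T.m (v 3) := by
          have h := row_le T v 3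
          simp only [Fin.sum_univ_four, val_3_0, val_3_1, val_3_2, val_3_3] at h
          have h2 := le_of_W hW (X := (0) * T.m (v 0) + (0) * T.m (v 1) + (1) * T.m (v 2) + (-2) * T.m (v 3)) (by linarith)
          linarith
        have m_2 : T.m (v 3) + 2 * T.m (v 1) ≤ 2 * T.m (v 2) := by
          have h := row_le T v 2
          simp only [Fin.sum_univ_four, val_2_0, val_2_1, val_2_2, val_2_3] at h
          have h2 := le_of_W hW (X := (0) * T.m (v 0) + (2) * T.m (v 1) + (-2) * T.m (v 2) + (1) * T.m (v 3)) (by linarith)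
          linarith
        have m_1 : T.m (v 2) + T.m (v 0) ≤ 2 * T.m (v 1) := by
          have h := row_le T v 1
          simp only [Fin.sum_univ_four, val_1_0, val_1_1, val_1_2, val_1_3] at h
          have h2 := le_of_W hW (X := (2) * T.m (v 0) + (-4) * T.m (v 1) + (2) * T.m (v 2) + (0) * T.m (v 3)) (by linarith)
          linarith
        have m_0 : T.m (v 1) ≤ 2 * T.m (v 0) := by
          have h := row_le T v 0
          simp only [Fin.sum_univ_four, val_0_0, val_0_1, val_0_2, val_0_3] at h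
          have h2 := le_of_W hW (X := (-4) * T.m (v 0) + (2) * T.m (v 1) + (0) * T.m (v 2) + (0) * T.m (v 3)) (by linarith)
          linarith
        have goal : T.w (v 3) = T.w (v 2) ∧ T.w (v 2) = T.w (v 2) ∧ T.w (v 1) = 2 * T.w (v 2) ∧ T.w (v 0) = 2 * T.w (v 2) ∧ T.a (v 3) (v 2) = T.w (v 2) ∧ T.a (v 2) (v 1) = 2 * T.w (v 2) ∧ T.a (v 1) (v 0) = 2 * T.w (v 2) ∧ T.m (v 2) ≤ 2 * T.m (v 3) ∧ T.m (v 3) + 2 * T.m (v 1) ≤ 2 * T.m (v 2) ∧ T.m (v 2) + T.m (v 0) ≤ 2 * T.m (v 1) ∧ T.m (v 1) ≤ 2 * T.m (v 0) :=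
          ⟨by linarith, by linarith, by linarith, by linarith, by linarith, by linarith, by linarith, m_3, m_2, m_1, m_0⟩
        exact ⟨(fun j => v (Fin.rev j)), T.w (v 2), Or.inr (fun j => rfl), Or.inr (Or.inr (Or.inr goal))⟩
      · exact (D_1_2_QP hy1'.symm.le hx2.symm.le).elim
      · exact (D_1_2_QQ hy1'.symm.le hy2'.symm.le).elim
  · rcases b1 with ⟨rfl, rfl⟩ | ⟨rfl, rfl⟩ | ⟨rfl, rfl⟩
    · rcases b2 with ⟨rfl, rfl⟩ | ⟨rfl, rfl⟩ | ⟨rfl, rfl⟩
      · have hW := T.w_pos (v 0)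
        have w_0 : T.w (v 0) = 1 * T.w (v 0) := by linarith
        have w_1 : T.w (v 1) = 2 * T.w (v 0) := by linarith
        have w_2 : T.w (v 2) = 2 * T.w (v 0) := by linarith
        have w_3 : T.w (v 3) = 2 * T.w (v 0) := by linarith
        have val_0_0 : T.a (v 0) (v 0) = -2 * T.w (v 0) := by have := (hv 0).2; linarith
        have val_0_1 : T.a (v 0) (v 1) = 2 * T.w (v 0) := by linarith
        have val_0_2 : T.a (v 0) (v 2) = 0 * T.w (v 0) := by rw [z_0_2]; ring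
        have val_0_3 : T.a (v 0) (v 3) = 0 * T.w (v 0) := by rw [z_0_3]; ring
        have val_1_0 : T.a (v 1) (v 0) = 2 * T.w (v 0) := by linarith
        have val_1_1 : T.a (v 1) (v 1) = -4 * T.w (v 0) := by have := (hv 1).2; linarith
        have val_1_2 : T.a (v 1) (v 2) = 2 * T.w (v 0) := by linarith
        have val_1_3 : T.a (v 1) (v 3) = 0 * T.w (v 0) := by rw [z_1_3]; ring
        have val_2_0 : T.a (v 2) (v 0) = 0 * T.w (v 0) := by rw [z_2_0]; ring
        have val_2_1 : T.a (v 2) (v 1) = 2 * T.w (v 0) := by linarith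
        have val_2_2 : T.a (v 2) (v 2) = -4 * T.w (v 0) := by have := (hv 2).2; linarith
        have val_2_3 : T.a (v 2) (v 3) = 2 * T.w (v 0) := by linarith
        have val_3_0 : T.a (v 3) (v 0) = 0 * T.w (v 0) := by rw [z_3_0]; ring
        have val_3_1 : T.a (v 3) (v 1) = 0 * T.w (v 0) := by rw [z_3_1]; ring
        have val_3_2 : T.a (v 3) (v 2) = 2 * T.w (v 0) := by linarith
        have val_3_3 : T.a (v 3) (v 3) = -4 * T.w (v 0) := by have := (hv 3).2; linarith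
        have m_3 : T.m (v 2) ≤ 2 * T.m (v 3) := by
          have h := row_le T v 3
          simp only [Fin.sum_univ_four, val_3_0, val_3_1, val_3_2, val_3_3] at h
          have h2 := le_of_W hW (X := (0) * T.m (v 0) + (0) * T.m (v 1) + (2) * T.m (v 2) + (-4) * T.m (v 3)) (by linarith)
          linarith
        have m_2 : T.m (v 3) + T.m (v 1) ≤ 2 * T.m (v 2) := by
          have h := row_le T v 2
          simp only [Fin.sum_univ_four, val_2_0, val_2_1, val_2_2, val_2_3] at h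
          have h2 := le_of_W hW (X := (0) * T.m (v 0) + (2) * T.m (v 1) + (-4) * T.m (v 2) + (2) * T.m (v 3)) (by linarith)
          linarith
        have m_1 : T.m (v 2) + T.m (v 0) ≤ 2 * T.m (v 1) := by
          have h := row_le T v 1
          simp only [Fin.sum_univ_four, val_1_0, val_1_1, val_1_2, val_1_3] at h
          have h2 := le_of_W hW (X := (2) * T.m (v 0) + (-4) * T.m (v 1) + (2) * T.m (v 2) + (0) * T.m (v 3)) (by linarith)
          linarith
        have m_0 : T.m (v 1) ≤ T.m (v 0) := by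
          have h := row_le T v 0
          simp only [Fin.sum_univ_four, val_0_0, val_0_1, val_0_2, val_0_3] at h
          have h2 := le_of_W hW (X := (-2) * T.m (v 0) + (2) * T.m (v 1) + (0) * T.m (v 2) + (0) * T.m (v 3)) (by linarith)
          linarith
        have goal : T.w (v 3) = 2 * T.w (v 0) ∧ T.w (v 2) = 2 * T.w (v 0) ∧ T.w (v 1) = 2 * T.w (v 0) ∧ T.w (v 0) = T.w (v 0) ∧ T.a (v 3) (v 2) = 2 * T.w (v 0) ∧ T.a (v 2) (v 1) = 2 * T.w (v 0) ∧ T.a (v 1) (v 0) = 2 * T.w (v 0) ∧ T.m (v 2) ≤ 2 * T.m (v 3) ∧ T.m (v 3) + T.m (v 1) ≤ 2 * T.m (v 2) ∧ T.m (v 2) + T.m (v 0) ≤ 2 * T.m (v 1) ∧ T.m (v 1) ≤ T.m (v 0) :=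
          ⟨by linarith, by linarith, by linarith, by linarith, by linarith, by linarith, by linarith, m_3, m_2, m_1, m_0⟩
        exact ⟨(fun j => v (Fin.rev j)), T.w (v 0), Or.inr (fun j => rfl), Or.inr (Or.inr (Or.inl goal))⟩
      · exact (D_0_2_PP hx0.symm.le hx2.symm.le).elim
      · exact (D_0_2_PQ hx0.symm.le hy2'.symm.le).elim
    · exact (D_0_1_PP hx0.symm.le hx1.symm.le).elim
    · exact (D_0_1_PQ hx0.symm.le hy1'.symm.le).elim
  · rcases b1 with ⟨rfl, rfl⟩ | ⟨rfl, rfl⟩ | ⟨rfl, rfl⟩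
    · rcases b2 with ⟨rfl, rfl⟩ | ⟨rfl, rfl⟩ | ⟨rfl, rfl⟩
      · have hW := T.w_pos (v 1)
        have w_0 : T.w (v 0) = 2 * T.w (v 1) := by linarith
        have w_1 : T.w (v 1) = 1 * T.w (v 1) := by linarith
        have w_2 : T.w (v 2) = 1 * T.w (v 1) := by linarith
        have w_3 : T.w (v 3) = 1 * T.w (v 1) := by linarith
        have val_0_0 : T.a (v 0) (v 0) = -4 * T.w (v 1) := by have := (hv 0).2; linarith
        have val_0_1 : T.a (v 0) (v 1) = 2 * T.w (v 1) := by linarith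
        have val_0_2 : T.a (v 0) (v 2) = 0 * T.w (v 1) := by rw [z_0_2]; ring
        have val_0_3 : T.a (v 0) (v 3) = 0 * T.w (v 1) := by rw [z_0_3]; ring
        have val_1_0 : T.a (v 1) (v 0) = 2 * T.w (v 1) := by linarith
        have val_1_1 : T.a (v 1) (v 1) = -2 * T.w (v 1) := by have := (hv 1).2; linarith
        have val_1_2 : T.a (v 1) (v 2) = 1 * T.w (v 1) := by linarith
        have val_1_3 : T.a (v 1) (v 3) = 0 * T.w (v 1) := by rw [z_1_3]; ring
        have val_2_0 : T.a (v 2) (v 0) = 0 * T.w (v 1) := by rw [z_2_0]; ring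
        have val_2_1 : T.a (v 2) (v 1) = 1 * T.w (v 1) := by linarith
        have val_2_2 : T.a (v 2) (v 2) = -2 * T.w (v 1) := by have := (hv 2).2; linarith
        have val_2_3 : T.a (v 2) (v 3) = 1 * T.w (v 1) := by linarith
        have val_3_0 : T.a (v 3) (v 0) = 0 * T.w (v 1) := by rw [z_3_0]; ring
        have val_3_1 : T.a (v 3) (v 1) = 0 * T.w (v 1) := by rw [z_3_1]; ring
        have val_3_2 : T.a (v 3) (v 2) = 1 * T.w (v 1) := by linarith
        have val_3_3 : T.a (v 3) (v 3) = -2 * T.w (v 1) := by have := (hv 3).2; linarith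
        have m_3 : T.m (v 2) ≤ 2 * T.m (v 3) := by
          have h := row_le T v 3
          simp only [Fin.sum_univ_four, val_3_0, val_3_1, val_3_2, val_3_3] at h
          have h2 := le_of_W hW (X := (0) * T.m (v 0) + (0) * T.m (v 1) + (1) * T.m (v 2) + (-2) * T.m (v 3)) (by linarith)
          linarith
        have m_2 : T.m (v 3) + T.m (v 1) ≤ 2 * T.m (v 2) := by
          have h := row_le T v 2
          simp only [Fin.sum_univ_four, val_2_0, val_2_1, val_2_2, val_2_3] at h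
          have h2 := le_of_W hW (X := (0) * T.m (v 0) + (1) * T.m (v 1) + (-2) * T.m (v 2) + (1) * T.m (v 3)) (by linarith)
          linarith
        have m_1 : T.m (v 2) + 2 * T.m (v 0) ≤ 2 * T.m (v 1) := by
          have h := row_le T v 1
          simp only [Fin.sum_univ_four, val_1_0, val_1_1, val_1_2, val_1_3] at h
          have h2 := le_of_W hW (X := (2) * T.m (v 0) + (-2) * T.m (v 1) + (1) * T.m (v 2) + (0) * T.m (v 3)) (by linarith)
          linarith
        have m_0 : T.m (v 1) ≤ 2 * T.m (v 0) := by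
          have h := row_le T v 0
          simp only [Fin.sum_univ_four, val_0_0, val_0_1, val_0_2, val_0_3] at h
          have h2 := le_of_W hW (X := (-4) * T.m (v 0) + (2) * T.m (v 1) + (0) * T.m (v 2) + (0) * T.m (v 3)) (by linarith)
          linarith
        have goal : T.w (v 3) = T.w (v 1) ∧ T.w (v 2) = T.w (v 1) ∧ T.w (v 1) = T.w (v 1) ∧ T.w (v 0) = 2 * T.w (v 1) ∧ T.a (v 3) (v 2) = T.w (v 1) ∧ T.a (v 2) (v 1) = T.w (v 1) ∧ T.a (v 1) (v 0) = 2 * T.w (v 1) ∧ T.m (v 2) ≤ 2 * T.m (v 3) ∧ T.m (v 3) + T.m (v 1) ≤ 2 * T.m (v 2) ∧ T.m (v 2) + 2 * T.m (v 0) ≤ 2 * T.m (v 1) ∧ T.m (v 1) ≤ 2 * T.m (v 0) :=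
          ⟨by linarith, by linarith, by linarith, by linarith, by linarith, by linarith, by linarith, m_3, m_2, m_1, m_0⟩
        exact ⟨(fun j => v (Fin.rev j)), T.w (v 1), Or.inr (fun j => rfl), Or.inr (Or.inl goal)⟩
      · exact (D_0_2_QP hy0'.symm.le hx2.symm.le).elim
      · exact (D_0_2_QQ hy0'.symm.le hy2'.symm.le).elim
    · exact (D_0_1_QP hy0'.symm.le hx1.symm.le).elim
    · exact (D_0_1_QQ hy0'.symm.le hy1'.symm.le).elim

end Groth.Agent.S7352
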