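import Groth.Statements.S7354
import Groth.Agent.Lib.NumTypeChainLong

set_option autoImplicit false
open Finset
open Models Models.NumericalType

namespace Groth.Agent.S7354

open Groth.Agent.Lib.NumTypeDynkin Groth.Agent.Lib.NumType Groth.Agent.Lib.NumTypeLong
open Groth.Agent.Lib.NumTypeChainLong

/-- Let T be a numerical type on n indices, t > 5 with n > t, and i_1, …, i_t distinct (-2)-indices with
a_{i_j i_{j+1}} nonzero for j = 1, …, t - 1. Then, after possibly reversing the order of the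
indices, for some integer w either (A) w_{i_1} = … = w_{i_t} = w and a_{i_j i_{j+1}} = w for all j;
or (C) w_{i_1} = … = w_{i_{t-1}} = w, w_{i_t} = 2w, a_{i_j i_{j+1}} = w for j < t - 1 and a_{i_{t-1}
i_t} = 2w; or (B) w_{i_1} = … = w_{i_{t-1}} = 2w, w_{i_t} = w and a_{i_j i_{j+1}} = 2w for all j;
and in every case a_{i_j i_k} = 0 whenever k > j + 1. -/
theorem result {n : ℕ} (T : Models.NumericalType n) (t : ℕ) (ht : 5 < t) (hn : t < n)
    (v : Fin t ↪ Fin n) (hv : ∀ j, T.IsMinusTwo (v j))
    (hchain : ∀ j j' : Fin t, j'.val = j.val + 1 → T.a (v j) (v j') ≠ 0) :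
    ∃ (u : Fin t → Fin n) (w : ℤ), ((∀ j, u j = v j) ∨ (∀ j, u j = v (Fin.rev j))) ∧
      (∀ j k : Fin t, j.val + 1 < k.val → T.a (u j) (u k) = 0) ∧
      ((∀ j : Fin t, T.w (u j) = w) ∧ (∀ j j' : Fin t, j'.val = j.val + 1 → T.a (u j) (u j') = w) ∨
        ((∀ j : Fin t, j.val + 1 < t → T.w (u j) = w) ∧ (∀ j : Fin t, j.val + 1 = t → T.w (u j) = 2 * w) ∧
          (∀ j j' : Fin t, j'.val = j.val + 1 → j'.val + 1 < t → T.a (u j) (u j') = w) ∧
          (∀ j j' : Fin t, j'.val = j.val + 1 → j'.val + 1 = t → T.a (u j) (u j') = 2 * w)) ∨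
        ((∀ j : Fin t, j.val + 1 < t → T.w (u j) = 2 * w) ∧ (∀ j : Fin t, j.val + 1 = t → T.w (u j) = w) ∧
          (∀ j j' : Fin t, j'.val = j.val + 1 → T.a (u j) (u j') = 2 * w))) := by
  have ht3 : 3 ≤ t := by omega
  have ht5 : 5 ≤ t := by omega
  let v' : Fin t ↪ Fin n :=
    ⟨fun j => v (Fin.rev j), fun a b e => Fin.rev_injective (v.injective e)⟩
  have hv' : ∀ j, T.IsMinusTwo (v' j) := fun j => hv _
  have hrev : ∀ j : Fin t, (Fin.rev j).val = t - 1 - j.val := by
    intro j
    rw [Fin.val_rev]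
    omega
  have hchain' : ∀ j j' : Fin t, j'.val = j.val + 1 → T.a (v' j) (v' j') ≠ 0 := by
    intro j j' hjj
    show T.a (v (Fin.rev j)) (v (Fin.rev j')) ≠ 0
    rw [a_symm T]
    exact hchain _ _ (by rw [hrev, hrev]; have := j'.isLt; omega)
  obtain ⟨j0, hj0⟩ := exists_fin (k := t) 0 (by omega)
  obtain ⟨j1, hj1⟩ := exists_fin (k := t) 1 (by omega)
  obtain ⟨ja, hja⟩ := exists_fin (k := t) (t - 2) (by omega)
  obtain ⟨jb, hjb⟩ := exists_fin (k := t) (t - 1) (by omega)
  by_cases hb0 : T.a (v j0) (v j1) = T.w (v j0) ∧ T.a (v j0) (v j1) = T.w (v j1)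
  · have hsimple : ∀ j j' : Fin t, j'.val = j.val + 1 → j'.val + 1 < t →
        T.a (v j) (v j') = T.w (v j) ∧ T.a (v j) (v j') = T.w (v j') := by
      intro j j' hjj hj'
      by_cases h0 : j.val = 0
      · have e1 : j = j0 := Fin.ext (by omega)
        have e2 : j' = j1 := Fin.ext (by omega)
        rw [e1, e2]
        exact hb0
      · exact mid_simple T ht5 hn v hv hchain j j' hjj (by omega) hj'
    obtain ⟨w, hw⟩ := final_form T ht3 hn v hv hchain hsimple
    exact ⟨v, w, Or.inl (fun j => rfl), chain_nonadj T hn v hv hchain, hw⟩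
  · have hbl : T.a (v ja) (v jb) = T.w (v ja) ∧ T.a (v ja) (v jb) = T.w (v jb) := by
      have hw0 := T.w_pos (v j0)
      have hw1 := T.w_pos (v j1)
      have hwa := T.w_pos (v ja)
      have hwb := T.w_pos (v jb)
      have hlo : 2 * T.w (v j0) ≤ T.a (v j0) (v j1) ∨ 2 * T.w (v j1) ≤ T.a (v j1) (v j0) := by
        have hs := a_symm T (v j1) (v j0)
        rcases bond_type T ht3 hn v hv hchain j0 j1 (by omega) with h | h | h
        · exact absurd h hb0
        · exact Or.inl (by linarith [h.1])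
        · exact Or.inr (by linarith [h.2])
      rcases bond_type T ht3 hn v hv hchain ja jb (by omega) with h | h | h
      · exact h
      · exfalso
        exact chain_two_double T hn v hv hchain j0 j1 ja jb (by omega) (by omega) (by omega) hlo
          (Or.inr (by linarith [h.1]))
      · exfalso
        have hs := a_symm T (v jb) (v ja)
        exact chain_two_double T hn v hv hchain j0 j1 ja jb (by omega) (by omega) (by omega) hlo
          (Or.inl (by linarith [h.2]))
    have hsimple' : ∀ j j' : Fin t, j'.val = j.val + 1 → j'.val + 1 < t →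
        T.a (v' j) (v' j') = T.w (v' j) ∧ T.a (v' j) (v' j') = T.w (v' j') := by
      intro j j' hjj hj'
      have key : T.a (v (Fin.rev j')) (v (Fin.rev j)) = T.w (v (Fin.rev j')) ∧
          T.a (v (Fin.rev j')) (v (Fin.rev j)) = T.w (v (Fin.rev j)) := by
        by_cases h0 : j.val = 0
        · have e1 : Fin.rev j = jb := Fin.ext (by rw [hrev]; omega)
          have e2 : Fin.rev j' = ja := Fin.ext (by rw [hrev]; omega)
          rw [e1, e2]
          exact hbl
        · exact mid_simple T ht5 hn v hv hchain (Fin.rev j') (Fin.rev j)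
            (by rw [hrev, hrev]; omega) (by rw [hrev]; omega) (by rw [hrev]; omega)
      show T.a (v (Fin.rev j)) (v (Fin.rev j')) = T.w (v (Fin.rev j)) ∧
        T.a (v (Fin.rev j)) (v (Fin.rev j')) = T.w (v (Fin.rev j'))
      rw [a_symm T (v (Fin.rev j)) (v (Fin.rev j'))]
      exact ⟨key.2, key.1⟩
    obtain ⟨w, hw⟩ := final_form T ht3 hn v' hv' hchain' hsimple'
    exact ⟨fun j => v (Fin.rev j), w, Or.inr (fun j => rfl),
      chain_nonadj T hn v' hv' hchain', hw⟩

end Groth.Agent.S7354
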