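import Groth.Statements.S7355
import Groth.Agent.Lib.NumTypeChainLong
import Groth.Agent.S7346

set_option autoImplicit false
open Finset
open Models Models.NumericalType

namespace Groth.Agent.S7355

open Groth.Agent.Lib.NumTypeDynkin Groth.Agent.Lib.NumType Groth.Agent.Lib.NumTypeLong
open Groth.Agent.Lib.NumTypeChainLong

/-- The test vector `(0, …, 0, cl, 2, …, 2, 1, 1)`. -/
def cF (s t : ℕ) (cl : ℤ) (x : ℕ) : ℤ :=
  if x < s then 0 else if x = s then cl else if x + 2 ≤ t then 2 else 1

theorem cF_lt {s t x : ℕ} (cl : ℤ) (h : x < s) : cF s t cl x = 0 := by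
  unfold cF
  rw [if_pos h]

theorem cF_s (s t : ℕ) (cl : ℤ) : cF s t cl s = cl := by
  unfold cF
  rw [if_neg (by omega), if_pos rfl]

theorem cF_two {s t x : ℕ} (cl : ℤ) (h1 : s < x) (h2 : x + 2 ≤ t) : cF s t cl x = 2 := by
  unfold cF
  rw [if_neg (by omega), if_neg (by omega), if_pos h2]

theorem cF_one {s t x : ℕ} (cl : ℤ) (h1 : s < x) (h2 : t < x + 2) : cF s t cl x = 1 := by
  unfold cF
  rw [if_neg (by omega), if_neg (by omega), if_neg (by omega)]

theorem cF_nonneg {s t : ℕ} {cl : ℤ} (hcl : 0 < cl) (x : ℕ) : 0 ≤ cF s t cl x := by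
  unfold cF
  split_ifs <;> omega

/-- A multiple bond in the tail of a `D`-shaped configuration is impossible. -/
theorem fork_dbl {n : ℕ} (T : Models.NumericalType n) (t : ℕ) (hn : t + 1 < n)
    (v : Fin (t + 1) ↪ Fin n) (hv : ∀ j, T.IsMinusTwo (v j))
    (hchain : ∀ j j' : Fin (t + 1), j'.val = j.val + 1 → j'.val < t → T.a (v j) (v j') ≠ 0)
    (hbranch : ∀ j j' : Fin (t + 1), j.val + 2 = t → j'.val = t → T.a (v j) (v j') ≠ 0)
    (s : ℕ) (hs : s + 4 ≤ t) (js js1 : Fin (t + 1)) (hjs : js.val = s) (hjs1 : js1.val = s + 1)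
    (cl : ℤ) (hcl : 0 < cl) (hl1 : cl * T.w (v js) ≤ T.a (v js) (v js1))
    (hl2 : 2 * T.w (v js1) ≤ T.a (v js1) (v js) * cl) : False := by
  have hP : ∀ x, x + s < t + 1 → (mkP (t + 1) s x).val = x + s := fun x h => mkP_val h
  obtain ⟨pa, hpa⟩ := exists_fin (k := t + 1) (t - 3) (by omega)
  obtain ⟨pb, hpb⟩ := exists_fin (k := t + 1) (t - 2) (by omega)
  obtain ⟨pc, hpc⟩ := exists_fin (k := t + 1) (t - 1) (by omega)
  obtain ⟨pd, hpd⟩ := exists_fin (k := t + 1) t (by omega)
  have nab : pa ≠ pb := ne_of_val_ne (by omega)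
  have nbc : pb ≠ pc := ne_of_val_ne (by omega)
  have nbd : pb ≠ pd := ne_of_val_ne (by omega)
  obtain ⟨ab1, ab2, ab3, ab4⟩ := ne_le T v nab (hchain pa pb (by omega) (by omega))
  obtain ⟨bc1, bc2, bc3, bc4⟩ := ne_le T v nbc (hchain pb pc (by omega) (by omega))
  obtain ⟨bd1, bd2, bd3, bd4⟩ := ne_le T v nbd (hbranch pb pd (by omega) (by omega))
  have hadj : ∀ x, x < t - 2 - s →
      T.a (v (mkP (t + 1) s x)) (v (mkP (t + 1) s (x + 1))) ≠ 0 := by
    intro x hx
    refine hchain _ _ ?_ ?_
    · rw [hP x (by omega), hP (x + 1) (by omega)]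
      omega
    · rw [hP (x + 1) (by omega)]
      omega
  have hP0 : mkP (t + 1) s 0 = js := Fin.ext (by rw [hP 0 (by omega)]; omega)
  have hP1 : mkP (t + 1) s 1 = js1 := Fin.ext (by rw [hP 1 (by omega)]; omega)
  have hPr : mkP (t + 1) s (t - 2 - s) = pb := Fin.ext (by rw [hP _ (by omega)]; omega)
  have hPr1 : mkP (t + 1) s (t - 2 - s - 1) = pa := Fin.ext (by rw [hP _ (by omega)]; omega)
  refine uc T hn v hv (fun i => cF s t cl i.val) (fun i => cF_nonneg hcl _)
    ⟨js, by show 0 < cF s t cl js.val; rw [hjs, cF_s]; exact hcl⟩ (t - 2 - s)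
    (mkP (t + 1) s) ?_ hadj ?_ ?_ ?_ ?_
  · intro x x' hx hx' e
    have := congrArg Fin.val e
    rw [hP x (by omega), hP x' (by omega)] at this
    omega
  · intro x hx0 hx
    show cF s t cl (mkP (t + 1) s x).val = 2
    rw [hP x (by omega)]
    exact cF_two _ (by omega) (by omega)
  · intro _
    show 2 * T.w (v (mkP (t + 1) s 1)) ≤
      T.a (v (mkP (t + 1) s 1)) (v (mkP (t + 1) s 0)) * cF s t cl (mkP (t + 1) s 0).val
    rw [hP0, hP1, hjs, cF_s]
    exact hl2
  · intro _
    show 2 * T.w (v (mkP (t + 1) s (t - 2 - s - 1))) ≤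
      T.a (v (mkP (t + 1) s (t - 2 - s - 1))) (v (mkP (t + 1) s (t - 2 - s))) *
        cF s t cl (mkP (t + 1) s (t - 2 - s)).val
    rw [hPr, hPr1, hpb, cF_two _ (by omega) (by omega)]
    linarith
  · intro q hq hnot
    have hq' : 0 < cF s t cl q.val := hq
    have hqlt := q.isLt
    have hqs : s ≤ q.val := by
      by_contra hcon
      rw [cF_lt _ (by omega)] at hq'
      exact absurd hq' (lt_irrefl 0)
    have hcase : q = js ∨ q = pb ∨ q = pc ∨ q = pd := by
      by_contra hcon
      push Not at hcon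
      have h1 : q.val ≠ s := fun e => hcon.1 (Fin.ext (by omega))
      have h2 : q.val ≠ t - 2 := fun e => hcon.2.1 (Fin.ext (by omega))
      have h3 : q.val ≠ t - 1 := fun e => hcon.2.2.1 (Fin.ext (by omega))
      have h4 : q.val ≠ t := fun e => hcon.2.2.2 (Fin.ext (by omega))
      refine hnot (q.val - s) (by omega) (by omega) (Fin.ext ?_)
      rw [hP _ (by omega)]
      omega
    rcases hcase with rfl | rfl | rfl | rfl
    · refine superAt_one js1 (ne_of_val_ne (by omega)) ?_
      show 2 * cF s t cl q.val * T.w (v q) ≤ T.a (v q) (v js1) * cF s t cl js1.val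
      rw [hjs, cF_s, hjs1, cF_two _ (by omega) (by omega)]
      linarith
    · refine superAt_three pa pc pd nab (Ne.symm nbc) (Ne.symm nbd) (ne_of_val_ne (by omega))
        (ne_of_val_ne (by omega)) (ne_of_val_ne (by omega)) ?_
      show 2 * cF s t cl q.val * T.w (v q) ≤ T.a (v q) (v pa) * cF s t cl pa.val +
        T.a (v q) (v pc) * cF s t cl pc.val + T.a (v q) (v pd) * cF s t cl pd.val
      rw [hpb, hpa, hpc, hpd, cF_two _ (by omega) (by omega), cF_two _ (by omega) (by omega),
        cF_one _ (by omega) (by omega), cF_one _ (by omega) (by omega)]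
      linarith
    · refine superAt_one pb nbc ?_
      show 2 * cF s t cl q.val * T.w (v q) ≤ T.a (v q) (v pb) * cF s t cl pb.val
      rw [hpc, hpb, cF_one _ (by omega) (by omega), cF_two _ (by omega) (by omega)]
      linarith
    · refine superAt_one pb nbd ?_
      show 2 * cF s t cl q.val * T.w (v q) ≤ T.a (v q) (v pb) * cF s t cl pb.val
      rw [hpd, hpb, cF_one _ (by omega) (by omega), cF_two _ (by omega) (by omega)]
      linarith

/-- Embedding of four distinct indices. -/
def emb4 {n : ℕ} {a b c d : Fin n} (hab : a ≠ b) (hac : a ≠ c) (had : a ≠ d) (hbc : b ≠ c)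
    (hbd : b ≠ d) (hcd : c ≠ d) : Fin 4 ↪ Fin n :=
  ⟨![a, b, c, d], by
    intro x y h
    fin_cases x <;> fin_cases y <;> simp_all⟩

/-- Classification of proper subgraphs of type D: let T be a numerical type on n indices, t > 4 with n >
t + 1, and i_1, …, i_{t+1} distinct (-2)-indices such that a_{i_j i_{j+1}} is nonzero for j = 1, …,
t - 1 and a_{i_{t-1} i_{t+1}} is nonzero. Then for some integer w one has w_{i_1} = … = w_{i_{t+1}}
= w, a_{i_j i_{j+1}} = w for j < t, a_{i_{t-1} i_{t+1}} = w, and a_{i_j i_k} = 0 for all other pairs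
j ≠ k. -/
theorem result {n : ℕ} (T : Models.NumericalType n) (t : ℕ) (ht : 4 < t) (hn : t + 1 < n)
    (v : Fin (t + 1) ↪ Fin n) (hv : ∀ j, T.IsMinusTwo (v j))
    (hchain : ∀ j j' : Fin (t + 1), j'.val = j.val + 1 → j'.val < t → T.a (v j) (v j') ≠ 0)
    (hbranch : ∀ j j' : Fin (t + 1), j.val + 2 = t → j'.val = t → T.a (v j) (v j') ≠ 0) :
    ∃ w : ℤ, (∀ j : Fin (t + 1), T.w (v j) = w) ∧
      (∀ j j' : Fin (t + 1), j'.val = j.val + 1 → j'.val < t → T.a (v j) (v j') = w) ∧
      (∀ j j' : Fin (t + 1), j.val + 2 = t → j'.val = t → T.a (v j) (v j') = w) ∧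
      (∀ j k : Fin (t + 1), j.val < k.val → ¬ (k.val = j.val + 1 ∧ k.val < t) → ¬ (j.val + 2 = t ∧ k.val = t) →
        T.a (v j) (v k) = 0) := by
  have htn : t < n := by omega
  have ht3 : 3 ≤ t := by omega
  obtain ⟨pa, hpa⟩ := exists_fin (k := t + 1) (t - 3) (by omega)
  obtain ⟨pb, hpb⟩ := exists_fin (k := t + 1) (t - 2) (by omega)
  obtain ⟨pc, hpc⟩ := exists_fin (k := t + 1) (t - 1) (by omega)
  obtain ⟨pd, hpd⟩ := exists_fin (k := t + 1) t (by omega)
  have vne : ∀ {x y : Fin (t + 1)}, x.val ≠ y.val → v x ≠ v y :=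
    fun h e => h (congrArg Fin.val (v.injective e))
  -- the D4 configuration around the branch vertex
  have hD4 := Groth.Agent.S7346.result T (by omega)
    (emb4 (a := v pb) (b := v pa) (c := v pc) (d := v pd) (vne (by omega)) (vne (by omega))
      (vne (by omega)) (vne (by omega)) (vne (by omega)) (vne (by omega)))
    (by intro j; fin_cases j <;> exact hv _)
    (by
      show T.a (v pb) (v pa) ≠ 0
      rw [a_symm T]
      exact hchain pa pb (by omega) (by omega))
    (hchain pb pc (by omega) (by omega))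
    (hbranch pb pd (by omega) (by omega))
  obtain ⟨W, hW, e01, e02, e03, z12, z13, z23, -⟩ := hD4
  have wb : T.w (v pb) = W := hW 0
  have wa : T.w (v pa) = W := hW 1
  have wc : T.w (v pc) = W := hW 2
  have wd : T.w (v pd) = W := hW 3
  have eba : T.a (v pb) (v pa) = W := e01
  have ebc : T.a (v pb) (v pc) = W := e02
  have ebd : T.a (v pb) (v pd) = W := e03
  have zcd : T.a (v pc) (v pd) = 0 := z23
  -- the two chains
  let v1 : Fin t ↪ Fin n := ⟨fun j => v ⟨j.val, by omega⟩, fun a b e => by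
    have := v.injective e
    simp only [Fin.mk.injEq] at this
    exact Fin.ext this⟩
  have hv1 : ∀ j, T.IsMinusTwo (v1 j) := fun j => hv _
  have hchain1 : ∀ j j' : Fin t, j'.val = j.val + 1 → T.a (v1 j) (v1 j') ≠ 0 :=
    fun j j' h => hchain _ _ h j'.isLt
  let v2 : Fin t ↪ Fin n :=
    ⟨fun j => v ⟨if j.val + 1 < t then j.val else t, by split_ifs <;> omega⟩, fun a b e => by
      have := v.injective e
      simp only [Fin.mk.injEq] at this
      have ha := a.isLt
      have hb := b.isLt
      apply Fin.ext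
      split_ifs at this <;> omega⟩
  have hv2 : ∀ j, T.IsMinusTwo (v2 j) := fun j => hv _
  have v2_lt : ∀ (j : Fin t) (x : Fin (t + 1)), j.val + 1 < t → x.val = j.val → v2 j = v x := by
    intro j x h hx
    show v ⟨if j.val + 1 < t then j.val else t, _⟩ = v x
    congr 1
    apply Fin.ext
    show (if j.val + 1 < t then j.val else t) = x.val
    rw [if_pos h, hx]
  have v2_last : ∀ (j : Fin t), j.val + 1 = t → v2 j = v pd := by
    intro j h
    show v ⟨if j.val + 1 < t then j.val else t, _⟩ = v pd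
    congr 1
    apply Fin.ext
    show (if j.val + 1 < t then j.val else t) = pd.val
    rw [if_neg (by omega), hpd]
  have hchain2 : ∀ j j' : Fin t, j'.val = j.val + 1 → T.a (v2 j) (v2 j') ≠ 0 := by
    intro j j' h
    have hj' := j'.isLt
    by_cases hl : j'.val + 1 < t
    · rw [v2_lt j ⟨j.val, by omega⟩ (by omega) rfl, v2_lt j' ⟨j'.val, by omega⟩ hl rfl]
      exact hchain _ _ h (by show j'.val < t; omega)
    · rw [v2_lt j pb (by omega) (by omega), v2_last j' (by omega)]
      exact hbranch pb pd (by omega) (by omega)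
  -- all chain bonds are simple
  have hsimple : ∀ j j' : Fin (t + 1), j'.val = j.val + 1 → j'.val < t →
      T.a (v j) (v j') = T.w (v j) ∧ T.a (v j) (v j') = T.w (v j') := by
    intro j j' hjj hj'
    by_cases h1 : j'.val = t - 1
    · have e1 : j = pb := Fin.ext (by omega)
      have e2 : j' = pc := Fin.ext (by omega)
      rw [e1, e2, ebc, wb, wc]
      exact ⟨rfl, rfl⟩
    by_cases h2 : j'.val = t - 2
    · have e1 : j = pa := Fin.ext (by omega)
      have e2 : j' = pb := Fin.ext (by omega)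
      rw [e1, e2, a_symm T (v pa) (v pb), eba, wa, wb]
      exact ⟨rfl, rfl⟩
    have hne : j ≠ j' := ne_of_val_ne (by omega)
    obtain ⟨b1, b2, b3, b4⟩ := ne_le T v hne (hchain j j' hjj hj')
    have hwj := T.w_pos (v j)
    have hwj' := T.w_pos (v j')
    have hs := a_symm T (v j') (v j)
    rcases bond_type T ht3 htn v1 hv1 hchain1 ⟨j.val, by omega⟩ ⟨j'.val, by omega⟩ hjj
      with h | h | h
    · exact h
    · exfalso
      have h' : T.a (v j) (v j') = 2 * T.w (v j) := h.1
      exact fork_dbl T t hn v hv hchain hbranch j.val (by omega) j j' rfl hjj 2 (by norm_num)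
        (by linarith) (by linarith)
    · exfalso
      have h' : T.a (v j) (v j') = 2 * T.w (v j') := h.2
      exact fork_dbl T t hn v hv hchain hbranch j.val (by omega) j j' rfl hjj 1 (by norm_num)
        (by linarith) (by linarith)
  -- all weights on the chain equal W
  have hwd : ∀ d s (hs : s + d = t - 2), T.w (v ⟨s, by omega⟩) = W := by
    intro d
    induction d with
    | zero =>
      intro s hs
      have : (⟨s, by omega⟩ : Fin (t + 1)) = pb := Fin.ext (by show s = pb.val; omega)
      rw [this, wb]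
    | succ d ih =>
      intro s hs
      have h := hsimple ⟨s, by omega⟩ ⟨s + 1, by omega⟩ rfl (by show s + 1 < t; omega)
      rw [← h.1, h.2]
      exact ih (s + 1) (by omega)
  have hwall : ∀ j : Fin (t + 1), T.w (v j) = W := by
    intro j
    have hj := j.isLt
    by_cases h1 : j.val = t
    · rw [Fin.ext (by omega : j.val = pd.val), wd]
    by_cases h2 : j.val = t - 1
    · rw [Fin.ext (by omega : j.val = pc.val), wc]
    exact hwd (t - 2 - j.val) j.val (by omega)
  refine ⟨W, hwall, ?_, ?_, ?_⟩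
  · intro j j' hjj hj'
    rw [(hsimple j j' hjj hj').1, hwall]
  · intro j j' hj hj'
    rw [Fin.ext (by omega : j.val = pb.val), Fin.ext (by omega : j'.val = pd.val), ebd]
  · intro j k hjk hnc hnb
    have hk := k.isLt
    by_cases hkt : k.val < t
    · exact chain_nonadj T htn v1 hv1 hchain1 ⟨j.val, by omega⟩ ⟨k.val, hkt⟩
        (by show j.val + 1 < k.val; omega)
    · have ek : k = pd := Fin.ext (by omega)
      by_cases hj1 : j.val = t - 1
      · rw [ek, Fin.ext (by omega : j.val = pc.val), zcd]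
      · have h := chain_nonadj T htn v2 hv2 hchain2 ⟨j.val, by omega⟩ ⟨t - 1, by omega⟩
          (by show j.val + 1 < t - 1; omega)
        rw [v2_lt ⟨j.val, by omega⟩ j (by show j.val + 1 < t; omega) rfl,
          v2_last ⟨t - 1, by omega⟩ (by show t - 1 + 1 = t; omega)] at h
        rw [ek]
        exact h

end Groth.Agent.S7355
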