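import Groth.Statements.S7362
import Mathlib.Tactic

set_option autoImplicit false
open Finset
open Models Models.NumericalType

namespace Groth.Agent.S7362

/-- Genus one classification: case n = 2: let T be a minimal numerical type of genus 1 on two indices.
Then for some ordering i, j of the indices and some integers m, w, either m_i = m_j = m, a_ii = a_jj
= -2w, a_ij = 2w, w_i = w_j = w, g_i = g_j = 0; or m_i = 2m, m_j = m, a_ii = -2w, a_ij = 4w, a_jj =
-8w, w_i = w, w_j = 4w, g_i = g_j = 0. Only the classification direction is stated. -/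
theorem result (T : Models.NumericalType 2) (hmin : T.IsMinimal) (hg : T.genus = 1) :
    ∃ (i j : Fin 2) (m w : ℤ), i ≠ j ∧ T.g i = 0 ∧ T.g j = 0 ∧
      ((T.m i = m ∧ T.m j = m ∧ T.a i i = -2 * w ∧ T.a i j = 2 * w ∧ T.a j j = -2 * w ∧ T.w i = w ∧ T.w j = w) ∨
        (T.m i = 2 * m ∧ T.m j = m ∧ T.a i i = -2 * w ∧ T.a i j = 4 * w ∧ T.a j j = -8 * w ∧ T.w i = w ∧ T.w j = 4 * w)) := by
  have hsymm : T.a 1 0 = T.a 0 1 := by
    have := T.symm.apply 0 1
    exact this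
  have hmv := T.mulVec_m
  have e0 : T.a 0 0 * T.m 0 + T.a 0 1 * T.m 1 = 0 := by
    have := congrFun hmv 0
    simpa [Matrix.mulVec, dotProduct, Fin.sum_univ_two] using this
  have e1 : T.a 0 1 * T.m 0 + T.a 1 1 * T.m 1 = 0 := by
    have := congrFun hmv 1
    rw [← hsymm]
    simpa [Matrix.mulVec, dotProduct, Fin.sum_univ_two] using this
  have ha01 : 0 < T.a 0 1 := by
    obtain ⟨i, hi, j, hj, hij⟩ := T.connected {0} (by simp) (by decide)
    have hi0 : i = 0 := by simpa using hi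
    have hj1 : j = 1 := by
      fin_cases j
      · simp at hj
      · rfl
    subst hi0; subst hj1
    exact lt_of_le_of_ne (T.offDiag_nonneg 0 1 (by decide)) (Ne.symm hij)
  have hm0 := T.m_pos 0
  have hm1 := T.m_pos 1
  have hw0 := T.w_pos 0
  have hw1 := T.w_pos 1
  have hg0 := T.g_nonneg 0
  have hg1 := T.g_nonneg 1
  obtain ⟨c0, hc0⟩ := T.w_dvd 0 0
  obtain ⟨c1, hc1⟩ := T.w_dvd 1 1
  obtain ⟨p, hp⟩ := T.w_dvd 0 1
  obtain ⟨q, hq⟩ := T.w_dvd 1 0
  rw [hsymm] at hq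
  have ha00 : T.a 0 0 < 0 := by
    by_contra h
    simp only [not_lt, not_le] at h
    have : 0 ≤ T.a 0 0 * T.m 0 := mul_nonneg h hm0.le
    have : 0 < T.a 0 1 * T.m 1 := mul_pos ha01 hm1
    linarith
  have ha11 : T.a 1 1 < 0 := by
    by_contra h
    simp only [not_lt, not_le] at h
    have : 0 ≤ T.a 1 1 * T.m 1 := mul_nonneg h hm1.le
    have : 0 < T.a 0 1 * T.m 0 := mul_pos ha01 hm0
    linarith
  have hc0neg : c0 < 0 := by
    by_contra h
    simp only [not_lt, not_le] at h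
    have : 0 ≤ T.w 0 * c0 := mul_nonneg hw0.le h
    linarith
  have hc1neg : c1 < 0 := by
    by_contra h
    simp only [not_lt, not_le] at h
    have : 0 ≤ T.w 1 * c1 := mul_nonneg hw1.le h
    linarith
  have hppos : 0 < p := by
    by_contra h
    simp only [not_lt, not_le] at h
    have : T.w 0 * p ≤ 0 := mul_nonpos_of_nonneg_of_nonpos hw0.le h
    linarith
  have hqpos : 0 < q := by
    by_contra h
    simp only [not_lt, not_le] at h
    have : T.w 1 * q ≤ 0 := mul_nonpos_of_nonneg_of_nonpos hw1.le h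
    linarith
  -- minimality
  have hmin0 : 0 ≤ -c0 + 2 * T.g 0 - 2 := by
    by_contra h
    simp only [not_lt, not_le] at h
    have hg00 : T.g 0 = 0 := by omega
    have hc : c0 = -1 := by omega
    exact hmin 0 ⟨hg00, by rw [hc0, hc]; ring⟩
  have hmin1 : 0 ≤ -c1 + 2 * T.g 1 - 2 := by
    by_contra h
    simp only [not_lt, not_le] at h
    have hg10 : T.g 1 = 0 := by omega
    have hc : c1 = -1 := by omega
    exact hmin 1 ⟨hg10, by rw [hc1, hc]; ring⟩
  -- genus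
  have hgen : (T.m 0 * T.a 0 0 + T.m 1 * T.a 1 1) / 2 =
      T.m 0 * T.w 0 * (T.g 0 - 1) + T.m 1 * T.w 1 * (T.g 1 - 1) := by
    have := hg
    unfold Models.NumericalType.genus at this
    simp only [Fin.sum_univ_two] at this
    linarith
  have hD : T.m 0 * T.a 0 0 + T.m 1 * T.a 1 1 =
      2 * (T.m 0 * T.w 0 * (T.g 0 - 1) + T.m 1 * T.w 1 * (T.g 1 - 1)) -
        (T.m 0 * T.w 0 * (-c0 + 2 * T.g 0 - 2) + T.m 1 * T.w 1 * (-c1 + 2 * T.g 1 - 2)) := by
    rw [hc0, hc1]; ring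
  have hpos0 : 0 < T.m 0 * T.w 0 := mul_pos hm0 hw0
  have hpos1 : 0 < T.m 1 * T.w 1 := mul_pos hm1 hw1
  have ht0 : 0 ≤ T.m 0 * T.w 0 * (-c0 + 2 * T.g 0 - 2) := mul_nonneg hpos0.le hmin0
  have ht1 : 0 ≤ T.m 1 * T.w 1 * (-c1 + 2 * T.g 1 - 2) := mul_nonneg hpos1.le hmin1
  have hsum : T.m 0 * T.w 0 * (-c0 + 2 * T.g 0 - 2) + T.m 1 * T.w 1 * (-c1 + 2 * T.g 1 - 2) = 0 := by
    generalize T.m 0 * T.a 0 0 + T.m 1 * T.a 1 1 = D at hgen hD
    generalize T.m 0 * T.w 0 * (T.g 0 - 1) + T.m 1 * T.w 1 * (T.g 1 - 1) = S at hgen hD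
    generalize T.m 0 * T.w 0 * (-c0 + 2 * T.g 0 - 2) = t0 at ht0 hD ⊢
    generalize T.m 1 * T.w 1 * (-c1 + 2 * T.g 1 - 2) = t1 at ht1 hD ⊢
    omega
  have hz0 : -c0 + 2 * T.g 0 - 2 = 0 := by
    have : T.m 0 * T.w 0 * (-c0 + 2 * T.g 0 - 2) = 0 := by linarith
    rcases mul_eq_zero.mp this with h | h
    · exact absurd h hpos0.ne'
    · exact h
  have hz1 : -c1 + 2 * T.g 1 - 2 = 0 := by
    have : T.m 1 * T.w 1 * (-c1 + 2 * T.g 1 - 2) = 0 := by linarith
    rcases mul_eq_zero.mp this with h | h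
    · exact absurd h hpos1.ne'
    · exact h
  have hg00 : T.g 0 = 0 := by omega
  have hg10 : T.g 1 = 0 := by omega
  have hc0' : c0 = -2 := by omega
  have hc1' : c1 = -2 := by omega
  have hA00 : T.a 0 0 = -2 * T.w 0 := by rw [hc0, hc0']; ring
  have hA11 : T.a 1 1 = -2 * T.w 1 := by rw [hc1, hc1']; ring
  -- relations between multiplicities
  have h1 : p * T.m 1 = 2 * T.m 0 := by
    have : T.w 0 * (p * T.m 1 - 2 * T.m 0) = 0 := by
      have := e0
      rw [hA00, hp] at this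
      linarith
    rcases mul_eq_zero.mp this with h | h
    · exact absurd h hw0.ne'
    · linarith
  have h2 : q * T.m 0 = 2 * T.m 1 := by
    have : T.w 1 * (q * T.m 0 - 2 * T.m 1) = 0 := by
      have := e1
      rw [hA11, hq] at this
      linarith
    rcases mul_eq_zero.mp this with h | h
    · exact absurd h hw1.ne'
    · linarith
  have hpq : p * q = 4 := by
    have : (p * q - 4) * (T.m 0 * T.m 1) = 0 := by
      calc (p * q - 4) * (T.m 0 * T.m 1) = (p * T.m 1) * (q * T.m 0) - 4 * (T.m 0 * T.m 1) := by ring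
        _ = (2 * T.m 0) * (2 * T.m 1) - 4 * (T.m 0 * T.m 1) := by rw [h1, h2]
        _ = 0 := by ring
    rcases mul_eq_zero.mp this with h | h
    · linarith
    · exact absurd h (mul_pos hm0 hm1).ne'
  have hple : p ≤ 4 := by nlinarith
  have hcases : (p = 2 ∧ q = 2) ∨ (p = 4 ∧ q = 1) ∨ (p = 1 ∧ q = 4) := by
    interval_cases p <;> omega
  rcases hcases with ⟨hp2, hq2⟩ | ⟨hp4, hq1⟩ | ⟨hp1, hq4⟩
  · refine ⟨0, 1, T.m 0, T.w 0, by decide, hg00, hg10, Or.inl ?_⟩
    have hm : T.m 1 = T.m 0 := by rw [hp2] at h1; linarith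
    have hw : T.w 1 = T.w 0 := by
      have : T.w 0 * p = T.w 1 * q := by rw [← hp, ← hq]
      rw [hp2, hq2] at this
      linarith
    refine ⟨rfl, hm, hA00, ?_, ?_, rfl, hw⟩
    · rw [hp, hp2]; ring
    · rw [hA11, hw]
  · refine ⟨0, 1, T.m 1, T.w 0, by decide, hg00, hg10, Or.inr ?_⟩
    have hm : T.m 0 = 2 * T.m 1 := by rw [hp4] at h1; linarith
    have hw : T.w 1 = 4 * T.w 0 := by
      have : T.w 0 * p = T.w 1 * q := by rw [← hp, ← hq]
      rw [hp4, hq1] at this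
      linarith
    refine ⟨hm, rfl, hA00, ?_, ?_, rfl, hw⟩
    · rw [hp, hp4]; ring
    · rw [hA11, hw]; ring
  · refine ⟨1, 0, T.m 0, T.w 1, by decide, hg10, hg00, Or.inr ?_⟩
    have hm : T.m 1 = 2 * T.m 0 := by rw [hq4] at h2; linarith
    have hw : T.w 0 = 4 * T.w 1 := by
      have : T.w 0 * p = T.w 1 * q := by rw [← hp, ← hq]
      rw [hp1, hq4] at this
      linarith
    refine ⟨hm, rfl, hA11, ?_, ?_, rfl, hw⟩
    · rw [hsymm, hq, hq4]; ring
    · rw [hA00, hw]; ring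

end Groth.Agent.S7362
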