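import Groth.Statements.S7363
import Mathlib
import Groth.Agent.Lib.NumType97
-- import your own Groth.Agent.* helpers here

set_option autoImplicit false
open Finset
open Models Models.NumericalType

namespace Groth.Agent.S7363

open Groth.Agent.Lib.NumType97

/-- The possible pairs of Cartan integers on an edge. -/
lemma pair_cases (x y m n w v : ℤ) (hx : 0 ≤ x) (hy : 0 ≤ y) (hm : 0 < m) (hn : 0 < n)
    (hw : 0 < w) (hv : 0 < v) (hs : w * x = v * y) (h1 : x * n ≤ 2 * m) (h2 : y * m ≤ 2 * n) :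
    (x = 0 ∧ y = 0) ∨ (x = 1 ∧ y = 1) ∨ (x = 1 ∧ y = 2) ∨ (x = 2 ∧ y = 1) ∨ (x = 1 ∧ y = 3) ∨
      (x = 3 ∧ y = 1) ∨ (x = 1 ∧ y = 4) ∨ (x = 4 ∧ y = 1) ∨ (x = 2 ∧ y = 2) := by
  rcases eq_or_lt_of_le hx with hx0 | hx0
  · left
    refine ⟨hx0.symm, ?_⟩
    rw [← hx0, mul_zero] at hs
    rcases mul_eq_zero.mp hs.symm with h | h
    · exact absurd h hv.ne'
    · exact h
  rcases eq_or_lt_of_le hy with hy0 | hy0
  · exfalso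
    rw [← hy0, mul_zero] at hs
    rcases mul_eq_zero.mp hs with h | h
    · exact absurd h hw.ne'
    · exact absurd h hx0.ne'
  right
  have hxy : x * y ≤ 4 := by
    have hmn : 0 < m * n := mul_pos hm hn
    have h3 : (x * n) * (y * m) ≤ (2 * m) * (2 * n) :=
      mul_le_mul h1 h2 (mul_nonneg hy hm.le) (by linarith)
    have h4 : (x * y) * (m * n) ≤ 4 * (m * n) := by nlinarith
    exact le_of_mul_le_mul_right h4 hmn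
  have hx4 : x ≤ 4 := by nlinarith
  have hy4 : y ≤ 4 := by nlinarith
  interval_cases x <;> interval_cases y <;> simp_all

/-- Genus one classification: case n = 3: let T be a minimal numerical type of genus 1 on three indices.
Then all g = 0 and, for some ordering i, j, k of the indices and some integers m, w, the data (m; a;
w) is one of: (m,m,m; a_ii = a_jj = a_kk = -2w, a_ij = a_ik = a_jk = w; w,w,w); (m,2m,m; a_ii = -2w,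
a_ij = w, a_ik = 0, a_jj = -2w, a_jk = 3w, a_kk = -6w; w,w,3w); (m,2m,3m; a_ii = -6w, a_ij = 3w,
a_ik = 0, a_jj = -6w, a_jk = 3w, a_kk = -2w; 3w,3w,w); (2m,2m,m; a_ii = -2w, a_ij = 2w, a_ik = 0,
a_jj = -4w, a_jk = 4w, a_kk = -8w; w,2w,4w); (m,m,m; a_ii = -2w, a_ij = 2w, a_ik = 0, a_jj = -4w,
a_jk = 2w, a_kk = -2w; w,2w,w); (m,2m,m; a_ii = -4w, a_ij = 2w, a_ik = 0, a_jj = -2w, a_jk = 2w,
a_kk = -4w; 2w,w,2w). Only the classification direction is stated. -/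
theorem result (T : Models.NumericalType 3) (hmin : T.IsMinimal) (hg : T.genus = 1) :
    ∃ (i j k : Fin 3) (m w : ℤ), i ≠ j ∧ j ≠ k ∧ i ≠ k ∧ T.g i = 0 ∧ T.g j = 0 ∧ T.g k = 0 ∧
      ((T.m i = m ∧ T.m j = m ∧ T.m k = m ∧ T.a i i = -2 * w ∧ T.a j j = -2 * w ∧ T.a k k = -2 * w ∧
          T.a i j = w ∧ T.a i k = w ∧ T.a j k = w ∧ T.w i = w ∧ T.w j = w ∧ T.w k = w) ∨
        (T.m i = m ∧ T.m j = 2 * m ∧ T.m k = m ∧ T.a i i = -2 * w ∧ T.a i j = w ∧ T.a i k = 0 ∧ T.a j j = -2 * w ∧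
          T.a j k = 3 * w ∧ T.a k k = -6 * w ∧ T.w i = w ∧ T.w j = w ∧ T.w k = 3 * w) ∨
        (T.m i = m ∧ T.m j = 2 * m ∧ T.m k = 3 * m ∧ T.a i i = -6 * w ∧ T.a i j = 3 * w ∧ T.a i k = 0 ∧ T.a j j = -6 * w ∧
          T.a j k = 3 * w ∧ T.a k k = -2 * w ∧ T.w i = 3 * w ∧ T.w j = 3 * w ∧ T.w k = w) ∨
        (T.m i = 2 * m ∧ T.m j = 2 * m ∧ T.m k = m ∧ T.a i i = -2 * w ∧ T.a i j = 2 * w ∧ T.a i k = 0 ∧ T.a j j = -4 * w ∧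
          T.a j k = 4 * w ∧ T.a k k = -8 * w ∧ T.w i = w ∧ T.w j = 2 * w ∧ T.w k = 4 * w) ∨
        (T.m i = m ∧ T.m j = m ∧ T.m k = m ∧ T.a i i = -2 * w ∧ T.a i j = 2 * w ∧ T.a i k = 0 ∧ T.a j j = -4 * w ∧
          T.a j k = 2 * w ∧ T.a k k = -2 * w ∧ T.w i = w ∧ T.w j = 2 * w ∧ T.w k = w) ∨
        (T.m i = m ∧ T.m j = 2 * m ∧ T.m k = m ∧ T.a i i = -4 * w ∧ T.a i j = 2 * w ∧ T.a i k = 0 ∧ T.a j j = -2 * w ∧
          T.a j k = 2 * w ∧ T.a k k = -4 * w ∧ T.w i = 2 * w ∧ T.w j = w ∧ T.w k = 2 * w)) := by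
  have hga := genus_one_minimal T (by norm_num) hmin hg
  suffices h : ∃ (i j k : Fin 3) (m w : ℤ), i ≠ j ∧ j ≠ k ∧ i ≠ k ∧
      ((T.m i = m ∧ T.m j = m ∧ T.m k = m ∧ T.a i i = -2 * w ∧ T.a j j = -2 * w ∧ T.a k k = -2 * w ∧
          T.a i j = w ∧ T.a i k = w ∧ T.a j k = w ∧ T.w i = w ∧ T.w j = w ∧ T.w k = w) ∨
        (T.m i = m ∧ T.m j = 2 * m ∧ T.m k = m ∧ T.a i i = -2 * w ∧ T.a i j = w ∧ T.a i k = 0 ∧ T.a j j = -2 * w ∧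
          T.a j k = 3 * w ∧ T.a k k = -6 * w ∧ T.w i = w ∧ T.w j = w ∧ T.w k = 3 * w) ∨
        (T.m i = m ∧ T.m j = 2 * m ∧ T.m k = 3 * m ∧ T.a i i = -6 * w ∧ T.a i j = 3 * w ∧ T.a i k = 0 ∧ T.a j j = -6 * w ∧
          T.a j k = 3 * w ∧ T.a k k = -2 * w ∧ T.w i = 3 * w ∧ T.w j = 3 * w ∧ T.w k = w) ∨
        (T.m i = 2 * m ∧ T.m j = 2 * m ∧ T.m k = m ∧ T.a i i = -2 * w ∧ T.a i j = 2 * w ∧ T.a i k = 0 ∧ T.a j j = -4 * w ∧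
          T.a j k = 4 * w ∧ T.a k k = -8 * w ∧ T.w i = w ∧ T.w j = 2 * w ∧ T.w k = 4 * w) ∨
        (T.m i = m ∧ T.m j = m ∧ T.m k = m ∧ T.a i i = -2 * w ∧ T.a i j = 2 * w ∧ T.a i k = 0 ∧ T.a j j = -4 * w ∧
          T.a j k = 2 * w ∧ T.a k k = -2 * w ∧ T.w i = w ∧ T.w j = 2 * w ∧ T.w k = w) ∨
        (T.m i = m ∧ T.m j = 2 * m ∧ T.m k = m ∧ T.a i i = -4 * w ∧ T.a i j = 2 * w ∧ T.a i k = 0 ∧ T.a j j = -2 * w ∧
          T.a j k = 2 * w ∧ T.a k k = -4 * w ∧ T.w i = 2 * w ∧ T.w j = w ∧ T.w k = 2 * w)) by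
    obtain ⟨i, j, k, m, w, h1, h2, h3, h⟩ := h
    exact ⟨i, j, k, m, w, h1, h2, h3, (hga i).1, (hga j).1, (hga k).1, h⟩
  have d0 := (hga 0).2
  have d1 := (hga 1).2
  have d2 := (hga 2).2
  obtain ⟨c01, h01⟩ := T.w_dvd 0 1
  obtain ⟨c10, h10⟩ := T.w_dvd 1 0
  obtain ⟨c02, h02⟩ := T.w_dvd 0 2
  obtain ⟨c20, h20⟩ := T.w_dvd 2 0
  obtain ⟨c12, h12⟩ := T.w_dvd 1 2
  obtain ⟨c21, h21⟩ := T.w_dvd 2 1
  have y10 : T.a 1 0 = T.a 0 1 := a_symm T 1 0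
  have y20 : T.a 2 0 = T.a 0 2 := a_symm T 2 0
  have y21 : T.a 2 1 = T.a 1 2 := a_symm T 2 1
  have hm0 := T.m_pos 0
  have hm1 := T.m_pos 1
  have hm2 := T.m_pos 2
  have hw0 := T.w_pos 0
  have hw1 := T.w_pos 1
  have hw2 := T.w_pos 2
  have n01 : 0 ≤ c01 := nonneg_of_mul_nonneg_right (h01 ▸ T.offDiag_nonneg 0 1 (by decide)) hw0
  have n10 : 0 ≤ c10 := nonneg_of_mul_nonneg_right (h10 ▸ T.offDiag_nonneg 1 0 (by decide)) hw1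
  have n02 : 0 ≤ c02 := nonneg_of_mul_nonneg_right (h02 ▸ T.offDiag_nonneg 0 2 (by decide)) hw0
  have n20 : 0 ≤ c20 := nonneg_of_mul_nonneg_right (h20 ▸ T.offDiag_nonneg 2 0 (by decide)) hw2
  have n12 : 0 ≤ c12 := nonneg_of_mul_nonneg_right (h12 ▸ T.offDiag_nonneg 1 2 (by decide)) hw1
  have n21 : 0 ≤ c21 := nonneg_of_mul_nonneg_right (h21 ▸ T.offDiag_nonneg 2 1 (by decide)) hw2
  have s01 : T.w 0 * c01 = T.w 1 * c10 := by rw [← h01, ← h10, y10]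
  have s02 : T.w 0 * c02 = T.w 2 * c20 := by rw [← h02, ← h20, y20]
  have s12 : T.w 1 * c12 = T.w 2 * c21 := by rw [← h12, ← h21, y21]
  have r0 : c01 * T.m 1 + c02 * T.m 2 = 2 * T.m 0 := by
    have := row_eq T 0
    rw [Fin.sum_univ_three, d0, h01, h02] at this
    have h' : T.w 0 * (c01 * T.m 1 + c02 * T.m 2 - 2 * T.m 0) = 0 := by rw [← this]; ring
    rcases mul_eq_zero.mp h' with h | h
    · exact absurd h hw0.ne'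
    · linarith
  have r1 : c10 * T.m 0 + c12 * T.m 2 = 2 * T.m 1 := by
    have := row_eq T 1
    rw [Fin.sum_univ_three, d1, h10, h12] at this
    have h' : T.w 1 * (c10 * T.m 0 + c12 * T.m 2 - 2 * T.m 1) = 0 := by rw [← this]; ring
    rcases mul_eq_zero.mp h' with h | h
    · exact absurd h hw1.ne'
    · linarith
  have r2 : c20 * T.m 0 + c21 * T.m 1 = 2 * T.m 2 := by
    have := row_eq T 2
    rw [Fin.sum_univ_three, d2, h20, h21] at this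
    have h' : T.w 2 * (c20 * T.m 0 + c21 * T.m 1 - 2 * T.m 2) = 0 := by rw [← this]; ring
    rcases mul_eq_zero.mp h' with h | h
    · exact absurd h hw2.ne'
    · linarith
  have p01 := pair_cases c01 c10 (T.m 0) (T.m 1) (T.w 0) (T.w 1) n01 n10 hm0 hm1 hw0 hw1 s01
    (by nlinarith [mul_nonneg n02 hm2.le]) (by nlinarith [mul_nonneg n12 hm2.le])
  have p02 := pair_cases c02 c20 (T.m 0) (T.m 2) (T.w 0) (T.w 2) n02 n20 hm0 hm2 hw0 hw2 s02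
    (by nlinarith [mul_nonneg n01 hm1.le]) (by nlinarith [mul_nonneg n21 hm1.le])
  have p12 := pair_cases c12 c21 (T.m 1) (T.m 2) (T.w 1) (T.w 2) n12 n21 hm1 hm2 hw1 hw2 s12
    (by nlinarith [mul_nonneg n10 hm0.le]) (by nlinarith [mul_nonneg n20 hm0.le])
  clear hga hmin hg n01 n10 n02 n20 n12 n21
  rcases p01 with ⟨e1, e2⟩ | ⟨e1, e2⟩ | ⟨e1, e2⟩ | ⟨e1, e2⟩ | ⟨e1, e2⟩ | ⟨e1, e2⟩ | ⟨e1, e2⟩ | ⟨e1, e2⟩ | ⟨e1, e2⟩ <;>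
  rcases p02 with ⟨e3, e4⟩ | ⟨e3, e4⟩ | ⟨e3, e4⟩ | ⟨e3, e4⟩ | ⟨e3, e4⟩ | ⟨e3, e4⟩ | ⟨e3, e4⟩ | ⟨e3, e4⟩ | ⟨e3, e4⟩ <;>
  rcases p12 with ⟨e5, e6⟩ | ⟨e5, e6⟩ | ⟨e5, e6⟩ | ⟨e5, e6⟩ | ⟨e5, e6⟩ | ⟨e5, e6⟩ | ⟨e5, e6⟩ | ⟨e5, e6⟩ | ⟨e5, e6⟩ <;>
  subst e1 e2 e3 e4 e5 e6 <;> try (exfalso; omega)
  · exact ⟨0, 2, 1, T.m 0, T.w 0, by decide, by decide, by decide, Or.inr (Or.inl (by omega))⟩  -- C=[[0, 0, 1], [0, 0, 1], [1, 3, 0]] m=[1, 1, 2] w=[1, 3, 1]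
  · exact ⟨0, 2, 1, T.m 0, T.w 1, by decide, by decide, by decide, Or.inr (Or.inr (Or.inl (by omega)))⟩  -- C=[[0, 0, 1], [0, 0, 3], [1, 1, 0]] m=[1, 3, 2] w=[3, 1, 3]
  · exact ⟨0, 2, 1, T.m 0, T.w 2, by decide, by decide, by decide, Or.inr (Or.inr (Or.inr (Or.inr (Or.inr ((by omega))))))⟩  -- C=[[0, 0, 1], [0, 0, 1], [2, 2, 0]] m=[1, 1, 2] w=[2, 2, 1]
  · exact ⟨1, 2, 0, T.m 0, T.w 1, by decide, by decide, by decide, Or.inr (Or.inr (Or.inr (Or.inl (by omega))))⟩  -- C=[[0, 0, 1], [0, 0, 2], [2, 1, 0]] m=[1, 2, 2] w=[4, 1, 2]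
  · exact ⟨0, 2, 1, T.m 1, T.w 0, by decide, by decide, by decide, Or.inr (Or.inr (Or.inr (Or.inl (by omega))))⟩  -- C=[[0, 0, 2], [0, 0, 1], [1, 2, 0]] m=[2, 1, 2] w=[1, 4, 2]
  · exact ⟨0, 2, 1, T.m 0, T.w 0, by decide, by decide, by decide, Or.inr (Or.inr (Or.inr (Or.inr (Or.inl (by omega)))))⟩  -- C=[[0, 0, 2], [0, 0, 2], [1, 1, 0]] m=[1, 1, 1] w=[1, 1, 2]
  · exact ⟨1, 2, 0, T.m 1, T.w 1, by decide, by decide, by decide, Or.inr (Or.inl (by omega))⟩  -- C=[[0, 0, 1], [0, 0, 1], [3, 1, 0]] m=[1, 1, 2] w=[3, 1, 1]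
  · exact ⟨1, 2, 0, T.m 1, T.w 0, by decide, by decide, by decide, Or.inr (Or.inr (Or.inl (by omega)))⟩  -- C=[[0, 0, 3], [0, 0, 1], [1, 1, 0]] m=[3, 1, 2] w=[1, 3, 3]
  · exact ⟨0, 1, 2, T.m 0, T.w 2, by decide, by decide, by decide, Or.inr (Or.inr (Or.inl (by omega)))⟩  -- C=[[0, 1, 0], [1, 0, 1], [0, 3, 0]] m=[1, 2, 3] w=[3, 3, 1]
  · exact ⟨0, 1, 2, T.m 0, T.w 0, by decide, by decide, by decide, Or.inr (Or.inl (by omega))⟩  -- C=[[0, 1, 0], [1, 0, 3], [0, 1, 0]] m=[1, 2, 1] w=[1, 1, 3]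
  · exact ⟨0, 1, 2, T.m 0, T.w 0, by decide, by decide, by decide, Or.inl (by omega)⟩  -- C=[[0, 1, 1], [1, 0, 1], [1, 1, 0]] m=[1, 1, 1] w=[1, 1, 1]
  · exact ⟨1, 0, 2, T.m 1, T.w 2, by decide, by decide, by decide, Or.inr (Or.inr (Or.inl (by omega)))⟩  -- C=[[0, 1, 1], [1, 0, 0], [3, 0, 0]] m=[2, 1, 3] w=[3, 3, 1]
  · exact ⟨1, 0, 2, T.m 1, T.w 1, by decide, by decide, by decide, Or.inr (Or.inl (by omega))⟩  -- C=[[0, 1, 3], [1, 0, 0], [1, 0, 0]] m=[2, 1, 1] w=[1, 1, 3]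
  · exact ⟨2, 1, 0, T.m 0, T.w 2, by decide, by decide, by decide, Or.inr (Or.inr (Or.inr (Or.inl (by omega))))⟩  -- C=[[0, 1, 0], [2, 0, 1], [0, 2, 0]] m=[1, 2, 2] w=[4, 2, 1]
  · exact ⟨0, 1, 2, T.m 0, T.w 1, by decide, by decide, by decide, Or.inr (Or.inr (Or.inr (Or.inr (Or.inr ((by omega))))))⟩  -- C=[[0, 1, 0], [2, 0, 2], [0, 1, 0]] m=[1, 2, 1] w=[2, 1, 2]
  · exact ⟨1, 0, 2, T.m 1, T.w 1, by decide, by decide, by decide, Or.inr (Or.inr (Or.inr (Or.inr (Or.inl (by omega)))))⟩  -- C=[[0, 1, 1], [2, 0, 0], [2, 0, 0]] m=[1, 1, 1] w=[2, 1, 1]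
  · exact ⟨1, 0, 2, T.m 2, T.w 1, by decide, by decide, by decide, Or.inr (Or.inr (Or.inr (Or.inl (by omega))))⟩  -- C=[[0, 1, 2], [2, 0, 0], [1, 0, 0]] m=[2, 2, 1] w=[2, 1, 4]
  · exact ⟨0, 1, 2, T.m 0, T.w 0, by decide, by decide, by decide, Or.inr (Or.inr (Or.inr (Or.inr (Or.inl (by omega)))))⟩  -- C=[[0, 2, 0], [1, 0, 1], [0, 2, 0]] m=[1, 1, 1] w=[1, 2, 1]
  · exact ⟨0, 1, 2, T.m 2, T.w 0, by decide, by decide, by decide, Or.inr (Or.inr (Or.inr (Or.inl (by omega))))⟩  -- C=[[0, 2, 0], [1, 0, 2], [0, 1, 0]] m=[2, 2, 1] w=[1, 2, 4]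
  · exact ⟨2, 0, 1, T.m 1, T.w 2, by decide, by decide, by decide, Or.inr (Or.inr (Or.inr (Or.inl (by omega))))⟩  -- C=[[0, 2, 1], [1, 0, 0], [2, 0, 0]] m=[2, 1, 2] w=[2, 4, 1]
  · exact ⟨1, 0, 2, T.m 1, T.w 0, by decide, by decide, by decide, Or.inr (Or.inr (Or.inr (Or.inr (Or.inr ((by omega))))))⟩  -- C=[[0, 2, 2], [1, 0, 0], [1, 0, 0]] m=[2, 1, 1] w=[1, 2, 2]
  · exact ⟨2, 1, 0, T.m 2, T.w 2, by decide, by decide, by decide, Or.inr (Or.inl (by omega))⟩  -- C=[[0, 1, 0], [3, 0, 1], [0, 1, 0]] m=[1, 2, 1] w=[3, 1, 1]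
  · exact ⟨2, 0, 1, T.m 2, T.w 1, by decide, by decide, by decide, Or.inr (Or.inr (Or.inl (by omega)))⟩  -- C=[[0, 1, 1], [3, 0, 0], [1, 0, 0]] m=[2, 3, 1] w=[3, 1, 3]
  · exact ⟨2, 1, 0, T.m 2, T.w 0, by decide, by decide, by decide, Or.inr (Or.inr (Or.inl (by omega)))⟩  -- C=[[0, 3, 0], [1, 0, 1], [0, 1, 0]] m=[3, 2, 1] w=[1, 3, 3]
  · exact ⟨2, 0, 1, T.m 2, T.w 2, by decide, by decide, by decide, Or.inr (Or.inl (by omega))⟩  -- C=[[0, 3, 1], [1, 0, 0], [1, 0, 0]] m=[2, 1, 1] w=[1, 3, 1]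

end Groth.Agent.S7363
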