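import Groth.Statements.S7364
import Mathlib
import Groth.Agent.Lib.NumType97
import Groth.Agent.Lib.NumTypePerm97
-- import your own Groth.Agent.* helpers here

set_option autoImplicit false
open Finset
open Models Models.NumericalType

namespace Groth.Agent.S7364

open Groth.Agent.Lib.NumType97 Groth.Agent.Lib.NumTypePerm97

theorem core (T : Models.NumericalType 4) (hmin : T.IsMinimal) (hg : T.genus = 1)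
    (hmono : Monotone T.m) :
    ∃ (i0 i1 i2 i3 : Fin 4) (m w : ℤ), (i0 ≠ i1 ∧ i0 ≠ i2 ∧ i0 ≠ i3 ∧ i1 ≠ i2 ∧ i1 ≠ i3 ∧ i2 ≠ i3) ∧
     
      ((T.m i0 = m ∧ T.m i1 = m ∧ T.m i2 = m ∧ T.m i3 = m ∧ T.w i0 = w ∧ T.w i1 = w ∧ T.w i2 = w ∧ T.w i3 = w ∧ T.a i0 i0 = -2 * w ∧ T.a i0 i1 = w ∧ T.a i0 i2 = 0 ∧ T.a i0 i3 = w ∧ T.a i1 i1 = -2 * w ∧ T.a i1 i2 = w ∧ T.a i1 i3 = 0 ∧ T.a i2 i2 = -2 * w ∧ T.a i2 i3 = w ∧ T.a i3 i3 = -2 * w) ∨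
      (T.m i0 = 2 * m ∧ T.m i1 = 2 * m ∧ T.m i2 = 2 * m ∧ T.m i3 = m ∧ T.w i0 = w ∧ T.w i1 = 2 * w ∧ T.w i2 = 2 * w ∧ T.w i3 = 4 * w ∧ T.a i0 i0 = -2 * w ∧ T.a i0 i1 = 2 * w ∧ T.a i0 i2 = 0 ∧ T.a i0 i3 = 0 ∧ T.a i1 i1 = -4 * w ∧ T.a i1 i2 = 2 * w ∧ T.a i1 i3 = 0 ∧ T.a i2 i2 = -4 * w ∧ T.a i2 i3 = 4 * w ∧ T.a i3 i3 = -8 * w) ∨
      (T.m i0 = m ∧ T.m i1 = m ∧ T.m i2 = m ∧ T.m i3 = m ∧ T.w i0 = w ∧ T.w i1 = 2 * w ∧ T.w i2 = 2 * w ∧ T.w i3 = w ∧ T.a i0 i0 = -2 * w ∧ T.a i0 i1 = 2 * w ∧ T.a i0 i2 = 0 ∧ T.a i0 i3 = 0 ∧ T.a i1 i1 = -4 * w ∧ T.a i1 i2 = 2 * w ∧ T.a i1 i3 = 0 ∧ T.a i2 i2 = -4 * w ∧ T.a i2 i3 = 2 * w ∧ T.a i3 i3 = -2 * w) ∨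
      (T.m i0 = m ∧ T.m i1 = 2 * m ∧ T.m i2 = 2 * m ∧ T.m i3 = m ∧ T.w i0 = 2 * w ∧ T.w i1 = w ∧ T.w i2 = w ∧ T.w i3 = 2 * w ∧ T.a i0 i0 = -4 * w ∧ T.a i0 i1 = 2 * w ∧ T.a i0 i2 = 0 ∧ T.a i0 i3 = 0 ∧ T.a i1 i1 = -2 * w ∧ T.a i1 i2 = w ∧ T.a i1 i3 = 0 ∧ T.a i2 i2 = -2 * w ∧ T.a i2 i3 = 2 * w ∧ T.a i3 i3 = -4 * w) ∨
      (T.m i0 = 2 * m ∧ T.m i1 = m ∧ T.m i2 = m ∧ T.m i3 = m ∧ T.w i0 = w ∧ T.w i1 = w ∧ T.w i2 = w ∧ T.w i3 = 2 * w ∧ T.a i0 i0 = -2 * w ∧ T.a i0 i1 = w ∧ T.a i0 i2 = w ∧ T.a i0 i3 = 2 * w ∧ T.a i1 i1 = -2 * w ∧ T.a i1 i2 = 0 ∧ T.a i1 i3 = 0 ∧ T.a i2 i2 = -2 * w ∧ T.a i2 i3 = 0 ∧ T.a i3 i3 = -4 * w) ∨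
      (T.m i0 = 2 * m ∧ T.m i1 = m ∧ T.m i2 = m ∧ T.m i3 = 2 * m ∧ T.w i0 = 2 * w ∧ T.w i1 = 2 * w ∧ T.w i2 = 2 * w ∧ T.w i3 = w ∧ T.a i0 i0 = -4 * w ∧ T.a i0 i1 = 2 * w ∧ T.a i0 i2 = 2 * w ∧ T.a i0 i3 = 2 * w ∧ T.a i1 i1 = -4 * w ∧ T.a i1 i2 = 0 ∧ T.a i1 i3 = 0 ∧ T.a i2 i2 = -4 * w ∧ T.a i2 i3 = 0 ∧ T.a i3 i3 = -2 * w)) := by
  have hga := genus_one_minimal T (by norm_num) hmin hg
  have d0 := (hga 0).2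
  have d1 := (hga 1).2
  have d2 := (hga 2).2
  have d3 := (hga 3).2
  obtain ⟨c01, h01⟩ := T.w_dvd 0 1
  obtain ⟨c02, h02⟩ := T.w_dvd 0 2
  obtain ⟨c03, h03⟩ := T.w_dvd 0 3
  obtain ⟨c10, h10⟩ := T.w_dvd 1 0
  obtain ⟨c12, h12⟩ := T.w_dvd 1 2
  obtain ⟨c13, h13⟩ := T.w_dvd 1 3
  obtain ⟨c20, h20⟩ := T.w_dvd 2 0
  obtain ⟨c21, h21⟩ := T.w_dvd 2 1
  obtain ⟨c23, h23⟩ := T.w_dvd 2 3
  obtain ⟨c30, h30⟩ := T.w_dvd 3 0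
  obtain ⟨c31, h31⟩ := T.w_dvd 3 1
  obtain ⟨c32, h32⟩ := T.w_dvd 3 2
  have y10 : T.a 1 0 = T.a 0 1 := a_symm T 1 0
  have y20 : T.a 2 0 = T.a 0 2 := a_symm T 2 0
  have y21 : T.a 2 1 = T.a 1 2 := a_symm T 2 1
  have y30 : T.a 3 0 = T.a 0 3 := a_symm T 3 0
  have y31 : T.a 3 1 = T.a 1 3 := a_symm T 3 1
  have y32 : T.a 3 2 = T.a 2 3 := a_symm T 3 2
  have hm0 := T.m_pos 0
  have hw0 := T.w_pos 0
  have hm1 := T.m_pos 1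
  have hw1 := T.w_pos 1
  have hm2 := T.m_pos 2
  have hw2 := T.w_pos 2
  have hm3 := T.m_pos 3
  have hw3 := T.w_pos 3
  have o0 : T.m 0 ≤ T.m 1 := hmono (by decide)
  have o1 : T.m 1 ≤ T.m 2 := hmono (by decide)
  have o2 : T.m 2 ≤ T.m 3 := hmono (by decide)
  have n01 : 0 ≤ c01 := nonneg_of_mul_nonneg_right (h01 ▸ T.offDiag_nonneg 0 1 (by decide)) hw0
  have n02 : 0 ≤ c02 := nonneg_of_mul_nonneg_right (h02 ▸ T.offDiag_nonneg 0 2 (by decide)) hw0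
  have n03 : 0 ≤ c03 := nonneg_of_mul_nonneg_right (h03 ▸ T.offDiag_nonneg 0 3 (by decide)) hw0
  have n10 : 0 ≤ c10 := nonneg_of_mul_nonneg_right (h10 ▸ T.offDiag_nonneg 1 0 (by decide)) hw1
  have n12 : 0 ≤ c12 := nonneg_of_mul_nonneg_right (h12 ▸ T.offDiag_nonneg 1 2 (by decide)) hw1
  have n13 : 0 ≤ c13 := nonneg_of_mul_nonneg_right (h13 ▸ T.offDiag_nonneg 1 3 (by decide)) hw1
  have n20 : 0 ≤ c20 := nonneg_of_mul_nonneg_right (h20 ▸ T.offDiag_nonneg 2 0 (by decide)) hw2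
  have n21 : 0 ≤ c21 := nonneg_of_mul_nonneg_right (h21 ▸ T.offDiag_nonneg 2 1 (by decide)) hw2
  have n23 : 0 ≤ c23 := nonneg_of_mul_nonneg_right (h23 ▸ T.offDiag_nonneg 2 3 (by decide)) hw2
  have n30 : 0 ≤ c30 := nonneg_of_mul_nonneg_right (h30 ▸ T.offDiag_nonneg 3 0 (by decide)) hw3
  have n31 : 0 ≤ c31 := nonneg_of_mul_nonneg_right (h31 ▸ T.offDiag_nonneg 3 1 (by decide)) hw3
  have n32 : 0 ≤ c32 := nonneg_of_mul_nonneg_right (h32 ▸ T.offDiag_nonneg 3 2 (by decide)) hw3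
  have z01 : 0 ≤ c01 * T.m 1 := mul_nonneg n01 hm1.le
  have z02 : 0 ≤ c02 * T.m 2 := mul_nonneg n02 hm2.le
  have z03 : 0 ≤ c03 * T.m 3 := mul_nonneg n03 hm3.le
  have z10 : 0 ≤ c10 * T.m 0 := mul_nonneg n10 hm0.le
  have z12 : 0 ≤ c12 * T.m 2 := mul_nonneg n12 hm2.le
  have z13 : 0 ≤ c13 * T.m 3 := mul_nonneg n13 hm3.le
  have z20 : 0 ≤ c20 * T.m 0 := mul_nonneg n20 hm0.le
  have z21 : 0 ≤ c21 * T.m 1 := mul_nonneg n21 hm1.le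
  have z23 : 0 ≤ c23 * T.m 3 := mul_nonneg n23 hm3.le
  have z30 : 0 ≤ c30 * T.m 0 := mul_nonneg n30 hm0.le
  have z31 : 0 ≤ c31 * T.m 1 := mul_nonneg n31 hm1.le
  have z32 : 0 ≤ c32 * T.m 2 := mul_nonneg n32 hm2.le
  have k01 : Hid (1 ≤ c02 + c03 + c12 + c13) := by
    refine Hid.mk ?_
    by_contra hcon
    have a02 : T.a 0 2 = 0 := by rw [h02, (by omega : c02 = 0), mul_zero]
    have a03 : T.a 0 3 = 0 := by rw [h03, (by omega : c03 = 0), mul_zero]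
    have a12 : T.a 1 2 = 0 := by rw [h12, (by omega : c12 = 0), mul_zero]
    have a13 : T.a 1 3 = 0 := by rw [h13, (by omega : c13 = 0), mul_zero]
    refine connected_false T {0, 1} (by decide) (by decide) ?_
    intro i hi j hj
    fin_cases i <;> fin_cases j <;> first | exact a02 | exact a03 | exact a12 | exact a13 | (exfalso; simp at hi; done) | (exfalso; simp at hj; done)
  have k02 : Hid (1 ≤ c01 + c03 + c21 + c23) := by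
    refine Hid.mk ?_
    by_contra hcon
    have a01 : T.a 0 1 = 0 := by rw [h01, (by omega : c01 = 0), mul_zero]
    have a03 : T.a 0 3 = 0 := by rw [h03, (by omega : c03 = 0), mul_zero]
    have a21 : T.a 2 1 = 0 := by rw [h21, (by omega : c21 = 0), mul_zero]
    have a23 : T.a 2 3 = 0 := by rw [h23, (by omega : c23 = 0), mul_zero]
    refine connected_false T {0, 2} (by decide) (by decide) ?_
    intro i hi j hj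
    fin_cases i <;> fin_cases j <;> first | exact a01 | exact a03 | exact a21 | exact a23 | (exfalso; simp at hi; done) | (exfalso; simp at hj; done)
  have k03 : Hid (1 ≤ c01 + c02 + c31 + c32) := by
    refine Hid.mk ?_
    by_contra hcon
    have a01 : T.a 0 1 = 0 := by rw [h01, (by omega : c01 = 0), mul_zero]
    have a02 : T.a 0 2 = 0 := by rw [h02, (by omega : c02 = 0), mul_zero]
    have a31 : T.a 3 1 = 0 := by rw [h31, (by omega : c31 = 0), mul_zero]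
    have a32 : T.a 3 2 = 0 := by rw [h32, (by omega : c32 = 0), mul_zero]
    refine connected_false T {0, 3} (by decide) (by decide) ?_
    intro i hi j hj
    fin_cases i <;> fin_cases j <;> first | exact a01 | exact a02 | exact a31 | exact a32 | (exfalso; simp at hi; done) | (exfalso; simp at hj; done)
  have s01 : T.w 0 * c01 = T.w 1 * c10 := by rw [← h01, ← h10, y10]
  have s02 : T.w 0 * c02 = T.w 2 * c20 := by rw [← h02, ← h20, y20]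
  have s03 : T.w 0 * c03 = T.w 3 * c30 := by rw [← h03, ← h30, y30]
  have s12 : T.w 1 * c12 = T.w 2 * c21 := by rw [← h12, ← h21, y21]
  have s13 : T.w 1 * c13 = T.w 3 * c31 := by rw [← h13, ← h31, y31]
  have s23 : T.w 2 * c23 = T.w 3 * c32 := by rw [← h23, ← h32, y32]
  have r0 : c01 * T.m 1 + c02 * T.m 2 + c03 * T.m 3 = 2 * T.m 0 := by
    have := row_eq T 0
    rw [Fin.sum_univ_four, d0, h01, h02, h03] at this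
    have h' : T.w 0 * (c01 * T.m 1 + c02 * T.m 2 + c03 * T.m 3 - 2 * T.m 0) = 0 := by rw [← this]; ring
    rcases mul_eq_zero.mp h' with h | h
    · exact absurd h hw0.ne'
    · linarith
  have r1 : c10 * T.m 0 + c12 * T.m 2 + c13 * T.m 3 = 2 * T.m 1 := by
    have := row_eq T 1
    rw [Fin.sum_univ_four, d1, h10, h12, h13] at this
    have h' : T.w 1 * (c10 * T.m 0 + c12 * T.m 2 + c13 * T.m 3 - 2 * T.m 1) = 0 := by rw [← this]; ring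
    rcases mul_eq_zero.mp h' with h | h
    · exact absurd h hw1.ne'
    · linarith
  have r2 : c20 * T.m 0 + c21 * T.m 1 + c23 * T.m 3 = 2 * T.m 2 := by
    have := row_eq T 2
    rw [Fin.sum_univ_four, d2, h20, h21, h23] at this
    have h' : T.w 2 * (c20 * T.m 0 + c21 * T.m 1 + c23 * T.m 3 - 2 * T.m 2) = 0 := by rw [← this]; ring
    rcases mul_eq_zero.mp h' with h | h
    · exact absurd h hw2.ne'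
    · linarith
  have r3 : c30 * T.m 0 + c31 * T.m 1 + c32 * T.m 2 = 2 * T.m 3 := by
    have := row_eq T 3
    rw [Fin.sum_univ_four, d3, h30, h31, h32] at this
    have h' : T.w 3 * (c30 * T.m 0 + c31 * T.m 1 + c32 * T.m 2 - 2 * T.m 3) = 0 := by rw [← this]; ring
    rcases mul_eq_zero.mp h' with h | h
    · exact absurd h hw3.ne'
    · linarith
  have p01 := pair_cases c01 c10 (T.m 0) (T.m 1) (T.w 0) (T.w 1) n01 n10 hm0 hm1 hw0 hw1 s01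
    (by linarith) (by linarith)
  have p02 := pair_cases c02 c20 (T.m 0) (T.m 2) (T.w 0) (T.w 2) n02 n20 hm0 hm2 hw0 hw2 s02
    (by linarith) (by linarith)
  have p03 := pair_cases c03 c30 (T.m 0) (T.m 3) (T.w 0) (T.w 3) n03 n30 hm0 hm3 hw0 hw3 s03
    (by linarith) (by linarith)
  have p12 := pair_cases c12 c21 (T.m 1) (T.m 2) (T.w 1) (T.w 2) n12 n21 hm1 hm2 hw1 hw2 s12
    (by linarith) (by linarith)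
  have p13 := pair_cases c13 c31 (T.m 1) (T.m 3) (T.w 1) (T.w 3) n13 n31 hm1 hm3 hw1 hw3 s13
    (by linarith) (by linarith)
  have p23 := pair_cases c23 c32 (T.m 2) (T.m 3) (T.w 2) (T.w 3) n23 n32 hm2 hm3 hw2 hw3 s23
    (by linarith) (by linarith)
  clear hga hmin hg hmono n01 n02 n03 n10 n12 n13 n20 n21 n23 n30 n31 n32
  rcases p01 with ⟨e1, e2⟩ | ⟨e1, e2⟩ | ⟨e1, e2⟩ | ⟨e1, e2⟩ | ⟨e1, e2⟩ | ⟨e1, e2⟩ | ⟨e1, e2⟩ | ⟨e1, e2⟩ | ⟨e1, e2⟩ <;> subst e1 e2 <;> try (exfalso; omega)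
  all_goals (rcases p02 with ⟨e1, e2⟩ | ⟨e1, e2⟩ | ⟨e1, e2⟩ | ⟨e1, e2⟩ | ⟨e1, e2⟩ | ⟨e1, e2⟩ | ⟨e1, e2⟩ | ⟨e1, e2⟩ | ⟨e1, e2⟩ <;> subst e1 e2 <;> try (exfalso; omega))
  all_goals (rcases p03 with ⟨e1, e2⟩ | ⟨e1, e2⟩ | ⟨e1, e2⟩ | ⟨e1, e2⟩ | ⟨e1, e2⟩ | ⟨e1, e2⟩ | ⟨e1, e2⟩ | ⟨e1, e2⟩ | ⟨e1, e2⟩ <;> subst e1 e2 <;> try (exfalso; omega))
  all_goals (rcases p12 with ⟨e1, e2⟩ | ⟨e1, e2⟩ | ⟨e1, e2⟩ | ⟨e1, e2⟩ | ⟨e1, e2⟩ | ⟨e1, e2⟩ | ⟨e1, e2⟩ | ⟨e1, e2⟩ | ⟨e1, e2⟩ <;> subst e1 e2 <;> try (exfalso; omega))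
  all_goals (rcases p13 with ⟨e1, e2⟩ | ⟨e1, e2⟩ | ⟨e1, e2⟩ | ⟨e1, e2⟩ | ⟨e1, e2⟩ | ⟨e1, e2⟩ | ⟨e1, e2⟩ | ⟨e1, e2⟩ | ⟨e1, e2⟩ <;> subst e1 e2 <;> try (exfalso; omega))
  all_goals (rcases p23 with ⟨e1, e2⟩ | ⟨e1, e2⟩ | ⟨e1, e2⟩ | ⟨e1, e2⟩ | ⟨e1, e2⟩ | ⟨e1, e2⟩ | ⟨e1, e2⟩ | ⟨e1, e2⟩ | ⟨e1, e2⟩ <;> subst e1 e2 <;> try (exfalso; have k01' := k01.out; have k02' := k02.out; have k03' := k03.out; omega))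
  · exact ⟨3, 0, 1, 2, T.m 0, T.w 3, by decide, Or.inr (Or.inr (Or.inr (Or.inr (Or.inl (by omega)))))⟩
  · exact ⟨3, 0, 1, 2, T.m 0, T.w 2, by decide, Or.inr (Or.inr (Or.inr (Or.inr (Or.inr ((by omega))))))⟩
  · exact ⟨3, 0, 2, 1, T.m 0, T.w 3, by decide, Or.inr (Or.inr (Or.inr (Or.inr (Or.inl (by omega)))))⟩
  · exact ⟨3, 1, 2, 0, T.m 1, T.w 3, by decide, Or.inr (Or.inr (Or.inr (Or.inr (Or.inl (by omega)))))⟩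
  · exact ⟨0, 3, 2, 1, T.m 0, T.w 3, by decide, Or.inr (Or.inr (Or.inr (Or.inl (by omega))))⟩
  · exact ⟨2, 1, 3, 0, T.m 0, T.w 2, by decide, Or.inr (Or.inl (by omega))⟩
  · exact ⟨1, 2, 3, 0, T.m 0, T.w 1, by decide, Or.inr (Or.inl (by omega))⟩
  · exact ⟨0, 3, 1, 2, T.m 0, T.w 0, by decide, Or.inr (Or.inr (Or.inl (by omega)))⟩
  · exact ⟨0, 3, 2, 1, T.m 0, T.w 0, by decide, Or.inr (Or.inr (Or.inl (by omega)))⟩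
  · exact ⟨2, 0, 1, 3, T.m 0, T.w 3, by decide, Or.inr (Or.inr (Or.inr (Or.inr (Or.inr ((by omega))))))⟩
  · exact ⟨0, 2, 1, 3, T.m 0, T.w 0, by decide, Or.inl (by omega)⟩
  · exact ⟨1, 2, 0, 3, T.m 1, T.w 1, by decide, Or.inr (Or.inr (Or.inl (by omega)))⟩
  · exact ⟨0, 2, 3, 1, T.m 0, T.w 2, by decide, Or.inr (Or.inr (Or.inr (Or.inl (by omega))))⟩
  · exact ⟨1, 3, 2, 0, T.m 0, T.w 1, by decide, Or.inr (Or.inl (by omega))⟩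
  · exact ⟨3, 1, 2, 0, T.m 0, T.w 3, by decide, Or.inr (Or.inl (by omega))⟩
  · exact ⟨1, 3, 0, 2, T.m 1, T.w 1, by decide, Or.inr (Or.inr (Or.inl (by omega)))⟩
  · exact ⟨0, 2, 3, 1, T.m 0, T.w 0, by decide, Or.inr (Or.inr (Or.inl (by omega)))⟩
  · exact ⟨0, 2, 1, 3, T.m 0, T.w 0, by decide, Or.inr (Or.inr (Or.inl (by omega)))⟩
  · exact ⟨0, 1, 2, 3, T.m 0, T.w 0, by decide, Or.inl (by omega)⟩
  · exact ⟨2, 1, 0, 3, T.m 2, T.w 2, by decide, Or.inr (Or.inr (Or.inl (by omega)))⟩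
  · exact ⟨0, 1, 3, 2, T.m 0, T.w 0, by decide, Or.inl (by omega)⟩
  · exact ⟨2, 0, 1, 3, T.m 2, T.w 2, by decide, Or.inr (Or.inr (Or.inl (by omega)))⟩
  · exact ⟨2, 3, 1, 0, T.m 0, T.w 2, by decide, Or.inr (Or.inl (by omega))⟩
  · exact ⟨3, 2, 1, 0, T.m 0, T.w 3, by decide, Or.inr (Or.inl (by omega))⟩
  · exact ⟨1, 0, 3, 2, T.m 1, T.w 1, by decide, Or.inr (Or.inr (Or.inl (by omega)))⟩
  · exact ⟨1, 0, 2, 3, T.m 1, T.w 1, by decide, Or.inr (Or.inr (Or.inl (by omega)))⟩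
  · exact ⟨0, 1, 3, 2, T.m 0, T.w 0, by decide, Or.inr (Or.inr (Or.inl (by omega)))⟩
  · exact ⟨0, 1, 2, 3, T.m 0, T.w 0, by decide, Or.inr (Or.inr (Or.inl (by omega)))⟩

/-- Genus one classification: case n = 4: let T be a minimal numerical type of genus 1 on 4 indices.
Then all g_i = 0 and, for some permutation σ of the indices and some integers m, w, the
multiplicities, weights and intersection matrix (m_{σ(i)}, w_{σ(i)}, a_{σ(i)σ(j)}) are those of one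
of the following 6 types: [four cycle] m = (m, m, m, m), w = (w, w, w, w), a = (-2 * w w 0 w / w -2
* w w 0 / 0 w -2 * w w / w 0 w -2 * w); [up equal up] m = (2 * m, 2 * m, 2 * m, m), w = (w, 2 * w, 2
* w, 4 * w), a = (-2 * w 2 * w 0 0 / 2 * w -4 * w 2 * w 0 / 0 2 * w -4 * w 4 * w / 0 0 4 * w -8 *
w); [up equal down] m = (m, m, m, m), w = (w, 2 * w, 2 * w, w), a = (-2 * w 2 * w 0 0 / 2 * w -4 * w
2 * w 0 / 0 2 * w -4 * w 2 * w / 0 0 2 * w -2 * w); [down equal up] m = (m, 2 * m, 2 * m, m), w = (2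
* w, w, w, 2 * w), a = (-4 * w 2 * w 0 0 / 2 * w -2 * w w 0 / 0 w -2 * w 2 * w / 0 0 2 * w -4 * w);
[triple with up] m = (2 * m, m, m, m), w = (w, w, w, 2 * w), a = (-2 * w w w 2 * w / w -2 * w 0 0 /
w 0 -2 * w 0 / 2 * w 0 0 -4 * w); [triple with down] m = (2 * m, m, m, 2 * m), w = (2 * w, 2 * w, 2
* w, w), a = (-4 * w 2 * w 2 * w 2 * w / 2 * w -4 * w 0 0 / 2 * w 0 -4 * w 0 / 2 * w 0 0 -2 * w).
Only the classification direction is stated. -/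
theorem result (T : Models.NumericalType 4) (hmin : T.IsMinimal) (hg : T.genus = 1) :
    (∀ i, T.g i = 0) ∧ ∃ (σ : Equiv.Perm (Fin 4)) (m w : ℤ),
      ((T.m (σ 0) = m ∧ T.m (σ 1) = m ∧ T.m (σ 2) = m ∧ T.m (σ 3) = m ∧ T.w (σ 0) = w ∧ T.w (σ 1) = w ∧ T.w (σ 2) = w ∧ T.w (σ 3) = w ∧ T.a (σ 0) (σ 0) = -2 * w ∧ T.a (σ 0) (σ 1) = w ∧ T.a (σ 0) (σ 2) = 0 ∧ T.a (σ 0) (σ 3) = w ∧ T.a (σ 1) (σ 1) = -2 * w ∧ T.a (σ 1) (σ 2) = w ∧ T.a (σ 1) (σ 3) = 0 ∧ T.a (σ 2) (σ 2) = -2 * w ∧ T.a (σ 2) (σ 3) = w ∧ T.a (σ 3) (σ 3) = -2 * w) ∨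
      (T.m (σ 0) = 2 * m ∧ T.m (σ 1) = 2 * m ∧ T.m (σ 2) = 2 * m ∧ T.m (σ 3) = m ∧ T.w (σ 0) = w ∧ T.w (σ 1) = 2 * w ∧ T.w (σ 2) = 2 * w ∧ T.w (σ 3) = 4 * w ∧ T.a (σ 0) (σ 0) = -2 * w ∧ T.a (σ 0) (σ 1) = 2 * w ∧ T.a (σ 0) (σ 2) = 0 ∧ T.a (σ 0) (σ 3) = 0 ∧ T.a (σ 1) (σ 1) = -4 * w ∧ T.a (σ 1) (σ 2) = 2 * w ∧ T.a (σ 1) (σ 3) = 0 ∧ T.a (σ 2) (σ 2) = -4 * w ∧ T.a (σ 2) (σ 3) = 4 * w ∧ T.a (σ 3) (σ 3) = -8 * w) ∨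
      (T.m (σ 0) = m ∧ T.m (σ 1) = m ∧ T.m (σ 2) = m ∧ T.m (σ 3) = m ∧ T.w (σ 0) = w ∧ T.w (σ 1) = 2 * w ∧ T.w (σ 2) = 2 * w ∧ T.w (σ 3) = w ∧ T.a (σ 0) (σ 0) = -2 * w ∧ T.a (σ 0) (σ 1) = 2 * w ∧ T.a (σ 0) (σ 2) = 0 ∧ T.a (σ 0) (σ 3) = 0 ∧ T.a (σ 1) (σ 1) = -4 * w ∧ T.a (σ 1) (σ 2) = 2 * w ∧ T.a (σ 1) (σ 3) = 0 ∧ T.a (σ 2) (σ 2) = -4 * w ∧ T.a (σ 2) (σ 3) = 2 * w ∧ T.a (σ 3) (σ 3) = -2 * w) ∨
      (T.m (σ 0) = m ∧ T.m (σ 1) = 2 * m ∧ T.m (σ 2) = 2 * m ∧ T.m (σ 3) = m ∧ T.w (σ 0) = 2 * w ∧ T.w (σ 1) = w ∧ T.w (σ 2) = w ∧ T.w (σ 3) = 2 * w ∧ T.a (σ 0) (σ 0) = -4 * w ∧ T.a (σ 0) (σ 1) = 2 * w ∧ T.a (σ 0) (σ 2) = 0 ∧ T.a (σ 0) (σ 3) = 0 ∧ T.a (σ 1) (σ 1) = -2 * w ∧ T.a (σ 1) (σ 2) = w ∧ T.a (σ 1) (σ 3) = 0 ∧ T.a (σ 2) (σ 2) = -2 * w ∧ T.a (σ 2) (σ 3) = 2 * w ∧ T.a (σ 3) (σ 3) = -4 * w) ∨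
      (T.m (σ 0) = 2 * m ∧ T.m (σ 1) = m ∧ T.m (σ 2) = m ∧ T.m (σ 3) = m ∧ T.w (σ 0) = w ∧ T.w (σ 1) = w ∧ T.w (σ 2) = w ∧ T.w (σ 3) = 2 * w ∧ T.a (σ 0) (σ 0) = -2 * w ∧ T.a (σ 0) (σ 1) = w ∧ T.a (σ 0) (σ 2) = w ∧ T.a (σ 0) (σ 3) = 2 * w ∧ T.a (σ 1) (σ 1) = -2 * w ∧ T.a (σ 1) (σ 2) = 0 ∧ T.a (σ 1) (σ 3) = 0 ∧ T.a (σ 2) (σ 2) = -2 * w ∧ T.a (σ 2) (σ 3) = 0 ∧ T.a (σ 3) (σ 3) = -4 * w) ∨
      (T.m (σ 0) = 2 * m ∧ T.m (σ 1) = m ∧ T.m (σ 2) = m ∧ T.m (σ 3) = 2 * m ∧ T.w (σ 0) = 2 * w ∧ T.w (σ 1) = 2 * w ∧ T.w (σ 2) = 2 * w ∧ T.w (σ 3) = w ∧ T.a (σ 0) (σ 0) = -4 * w ∧ T.a (σ 0) (σ 1) = 2 * w ∧ T.a (σ 0) (σ 2) = 2 * w ∧ T.a (σ 0) (σ 3) = 2 * w ∧ T.a (σ 1) (σ 1) = -4 * w ∧ T.a (σ 1) (σ 2) = 0 ∧ T.a (σ 1) (σ 3) = 0 ∧ T.a (σ 2) (σ 2) = -4 * w ∧ T.a (σ 2) (σ 3) = 0 ∧ T.a (σ 3) (σ 3) = -2 * w)) := by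
  have hga := genus_one_minimal T (by norm_num) hmin hg
  refine ⟨fun i => (hga i).1, ?_⟩
  obtain ⟨τ, hτ⟩ := exists_sorted T
  obtain ⟨i0, i1, i2, i3, m, w, hd, h⟩ := core (perm T τ) (perm_isMinimal T τ hmin) ((perm_genus T τ).trans hg) hτ
  obtain ⟨σ, hσ⟩ := exists_perm_eq ![τ i0, τ i1, τ i2, τ i3] (by
    intro x y hxy
    fin_cases x <;> fin_cases y <;> simp_all)
  have e0 : σ 0 = τ i0 := hσ 0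
  have e1 : σ 1 = τ i1 := hσ 1
  have e2 : σ 2 = τ i2 := hσ 2
  have e3 : σ 3 = τ i3 := hσ 3
  refine ⟨σ, m, w, ?_⟩
  rw [e0, e1, e2, e3]
  exact h

end Groth.Agent.S7364
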