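import Groth.Statements.S7369
import Mathlib
import Groth.Agent.Lib.NumType97
import Groth.Agent.Lib.NumTypeAff67I
-- import your own Groth.Agent.* helpers here

set_option autoImplicit false
open Finset
open Models Models.NumericalType

namespace Groth.Agent.S7369

open Groth.Agent.Lib.NumTypeAff67


/-- Genus one classification: case n = 8: let T be a minimal numerical type of genus 1 on 8 indices.
Then all g_i = 0 and, for some permutation σ of the indices and some integers m, w, the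
multiplicities, weights and intersection matrix (m_{σ(i)}, w_{σ(i)}, a_{σ(i)σ(j)}) are those of one
of the following 8 types: [cycle] m = (m, m, m, m, m, m, m, m), w = (w, w, w, w, w, w, w, w), a =
(-2 * w w 0 0 0 0 0 w / w -2 * w w 0 0 0 0 0 / 0 w -2 * w w 0 0 0 0 / 0 0 w -2 * w w 0 0 0 / 0 0 0 w
-2 * w w 0 0 / 0 0 0 0 w -2 * w w 0 / 0 0 0 0 0 w -2 * w w / w 0 0 0 0 0 w -2 * w); [up chain equal
up] m = (2 * m, 2 * m, 2 * m, 2 * m, 2 * m, 2 * m, 2 * m, m), w = (w, 2 * w, 2 * w, 2 * w, 2 * w, 2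
* w, 2 * w, 4 * w), a = (-2 * w 2 * w 0 0 0 0 0 0 / 2 * w -4 * w 2 * w 0 0 0 0 0 / 0 2 * w -4 * w 2
* w 0 0 0 0 / 0 0 2 * w -4 * w 2 * w 0 0 0 / 0 0 0 2 * w -4 * w 2 * w 0 0 / 0 0 0 0 2 * w -4 * w 2 *
w 0 / 0 0 0 0 0 2 * w -4 * w 4 * w / 0 0 0 0 0 0 4 * w -8 * w); [up chain equal down] m = (m, m, m,
m, m, m, m, m), w = (w, 2 * w, 2 * w, 2 * w, 2 * w, 2 * w, 2 * w, w), a = (-2 * w 2 * w 0 0 0 0 0 0
/ 2 * w -4 * w 2 * w 0 0 0 0 0 / 0 2 * w -4 * w 2 * w 0 0 0 0 / 0 0 2 * w -4 * w 2 * w 0 0 0 / 0 0 0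
2 * w -4 * w 2 * w 0 0 / 0 0 0 0 2 * w -4 * w 2 * w 0 / 0 0 0 0 0 2 * w -4 * w 2 * w / 0 0 0 0 0 0 2
* w -2 * w); [down chain equal up] m = (m, 2 * m, 2 * m, 2 * m, 2 * m, 2 * m, 2 * m, m), w = (2 * w,
w, w, w, w, w, w, 2 * w), a = (-4 * w 2 * w 0 0 0 0 0 0 / 2 * w -2 * w w 0 0 0 0 0 / 0 w -2 * w w 0
0 0 0 / 0 0 w -2 * w w 0 0 0 / 0 0 0 w -2 * w w 0 0 / 0 0 0 0 w -2 * w w 0 / 0 0 0 0 0 w -2 * w 2 *
w / 0 0 0 0 0 0 2 * w -4 * w); [D extended up] m = (m, 2 * m, 2 * m, 2 * m, 2 * m, 2 * m, m, m), w =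
(2 * w, w, w, w, w, w, w, w), a = (-4 * w 2 * w 0 0 0 0 0 0 / 2 * w -2 * w w 0 0 0 0 0 / 0 w -2 * w
w 0 0 0 0 / 0 0 w -2 * w w 0 0 0 / 0 0 0 w -2 * w w 0 0 / 0 0 0 0 w -2 * w w w / 0 0 0 0 0 w -2 * w
0 / 0 0 0 0 0 w 0 -2 * w); [D extended down] m = (2 * m, 2 * m, 2 * m, 2 * m, 2 * m, 2 * m, m, m), w
= (w, 2 * w, 2 * w, 2 * w, 2 * w, 2 * w, 2 * w, 2 * w), a = (-2 * w 2 * w 0 0 0 0 0 0 / 2 * w -4 * w
2 * w 0 0 0 0 0 / 0 2 * w -4 * w 2 * w 0 0 0 0 / 0 0 2 * w -4 * w 2 * w 0 0 0 / 0 0 0 2 * w -4 * w 2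
* w 0 0 / 0 0 0 0 2 * w -4 * w 2 * w 2 * w / 0 0 0 0 0 2 * w -4 * w 0 / 0 0 0 0 0 2 * w 0 -4 * w);
[double triple] m = (m, m, 2 * m, 2 * m, 2 * m, 2 * m, m, m), w = (w, w, w, w, w, w, w, w), a = (-2
* w 0 w 0 0 0 0 0 / 0 -2 * w w 0 0 0 0 0 / w w -2 * w w 0 0 0 0 / 0 0 w -2 * w w 0 0 0 / 0 0 0 w -2
* w w 0 0 / 0 0 0 0 w -2 * w w w / 0 0 0 0 0 w -2 * w 0 / 0 0 0 0 0 w 0 -2 * w); [E7 completed] m =
(m, 2 * m, 3 * m, 4 * m, 3 * m, 2 * m, m, 2 * m), w = (w, w, w, w, w, w, w, w), a = (-2 * w w 0 0 0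
0 0 0 / w -2 * w w 0 0 0 0 0 / 0 w -2 * w w 0 0 0 0 / 0 0 w -2 * w w 0 0 w / 0 0 0 w -2 * w w 0 0 /
0 0 0 0 w -2 * w w 0 / 0 0 0 0 0 w -2 * w 0 / 0 0 0 w 0 0 0 -2 * w). Only the classification
direction is stated. (In the family with weights (w, 2w, …, 2w, w) the consecutive intersection
numbers are 2w, as divisibility by the weights forces; the published list prints w there, and omits
m_{n-2} = 2m in the two D-type families.) -/
theorem result (T : Models.NumericalType 8) (hmin : T.IsMinimal) (hg : T.genus = 1) :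
    (∀ i, T.g i = 0) ∧ ∃ (σ : Equiv.Perm (Fin 8)) (m w : ℤ),
      ((T.m (σ 0) = m ∧ T.m (σ 1) = m ∧ T.m (σ 2) = m ∧ T.m (σ 3) = m ∧ T.m (σ 4) = m ∧ T.m (σ 5) = m ∧ T.m (σ 6) = m ∧ T.m (σ 7) = m ∧ T.w (σ 0) = w ∧ T.w (σ 1) = w ∧ T.w (σ 2) = w ∧ T.w (σ 3) = w ∧ T.w (σ 4) = w ∧ T.w (σ 5) = w ∧ T.w (σ 6) = w ∧ T.w (σ 7) = w ∧ T.a (σ 0) (σ 0) = -2 * w ∧ T.a (σ 0) (σ 1) = w ∧ T.a (σ 0) (σ 2) = 0 ∧ T.a (σ 0) (σ 3) = 0 ∧ T.a (σ 0) (σ 4) = 0 ∧ T.a (σ 0) (σ 5) = 0 ∧ T.a (σ 0) (σ 6) = 0 ∧ T.a (σ 0) (σ 7) = w ∧ T.a (σ 1) (σ 1) = -2 * w ∧ T.a (σ 1) (σ 2) = w ∧ T.a (σ 1) (σ 3) = 0 ∧ T.a (σ 1) (σ 4) = 0 ∧ T.a (σ 1) (σ 5) = 0 ∧ T.a (σ 1) (σ 6) = 0 ∧ T.a (σ 1) (σ 7) = 0 ∧ T.a (σ 2) (σ 2) = -2 * w ∧ T.a (σ 2) (σ 3) = w ∧ T.a (σ 2) (σ 4) = 0 ∧ T.a (σ 2) (σ 5) = 0 ∧ T.a (σ 2) (σ 6) = 0 ∧ T.a (σ 2) (σ 7) = 0 ∧ T.a (σ 3) (σ 3) = -2 * w ∧ T.a (σ 3) (σ 4) = w ∧ T.a (σ 3) (σ 5) = 0 ∧ T.a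 (σ 3) (σ 6) = 0 ∧ T.a (σ 3) (σ 7) = 0 ∧ T.a (σ 4) (σ 4) = -2 * w ∧ T.a (σ 4) (σ 5) = w ∧ T.a (σ 4) (σ 6) = 0 ∧ T.a (σ 4) (σ 7) = 0 ∧ T.a (σ 5) (σ 5) = -2 * w ∧ T.a (σ 5) (σ 6) = w ∧ T.a (σ 5) (σ 7) = 0 ∧ T.a (σ 6) (σ 6) = -2 * w ∧ T.a (σ 6) (σ 7) = w ∧ T.a (σ 7) (σ 7) = -2 * w) ∨
      (T.m (σ 0) = 2 * m ∧ T.m (σ 1) = 2 * m ∧ T.m (σ 2) = 2 * m ∧ T.m (σ 3) = 2 * m ∧ T.m (σ 4) = 2 * m ∧ T.m (σ 5) = 2 * m ∧ T.m (σ 6) = 2 * m ∧ T.m (σ 7) = m ∧ T.w (σ 0) = w ∧ T.w (σ 1) = 2 * w ∧ T.w (σ 2) = 2 * w ∧ T.w (σ 3) = 2 * w ∧ T.w (σ 4) = 2 * w ∧ T.w (σ 5) = 2 * w ∧ T.w (σ 6) = 2 * w ∧ T.w (σ 7) = 4 * w ∧ T.a (σ 0) (σ 0) = -2 * w ∧ T.a (σ 0) (σ 1) = 2 * w ∧ T.a (σ 0) (σ 2) = 0 ∧ T.a (σ 0) (σ 3) = 0 ∧ T.a (σ 0) (σ 4) = 0 ∧ T.a (σ 0) (σ 5) = 0 ∧ T.a (σ 0) (σ 6) = 0 ∧ T.a (σ 0) (σ 7) = 0 ∧ T.a (σ 1) (σ 1) = -4 * w ∧ T.a (σ 1) (σ 2) = 2 * w ∧ T.a (σ 1) (σ 3) = 0 ∧ T.a (σ 1) (σ 4)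 = 0 ∧ T.a (σ 1) (σ 5) = 0 ∧ T.a (σ 1) (σ 6) = 0 ∧ T.a (σ 1) (σ 7) = 0 ∧ T.a (σ 2) (σ 2) = -4 * w ∧ T.a (σ 2) (σ 3) = 2 * w ∧ T.a (σ 2) (σ 4) = 0 ∧ T.a (σ 2) (σ 5) = 0 ∧ T.a (σ 2) (σ 6) = 0 ∧ T.a (σ 2) (σ 7) = 0 ∧ T.a (σ 3) (σ 3) = -4 * w ∧ T.a (σ 3) (σ 4) = 2 * w ∧ T.a (σ 3) (σ 5) = 0 ∧ T.a (σ 3) (σ 6) = 0 ∧ T.a (σ 3) (σ 7) = 0 ∧ T.a (σ 4) (σ 4) = -4 * w ∧ T.a (σ 4) (σ 5) = 2 * w ∧ T.a (σ 4) (σ 6) = 0 ∧ T.a (σ 4) (σ 7) = 0 ∧ T.a (σ 5) (σ 5) = -4 * w ∧ T.a (σ 5) (σ 6) = 2 * w ∧ T.a (σ 5) (σ 7) = 0 ∧ T.a (σ 6) (σ 6) = -4 * w ∧ T.a (σ 6) (σ 7) = 4 * w ∧ T.a (σ 7) (σ 7) = -8 * w) ∨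
      (T.m (σ 0) = m ∧ T.m (σ 1) = m ∧ T.m (σ 2) = m ∧ T.m (σ 3) = m ∧ T.m (σ 4) = m ∧ T.m (σ 5) = m ∧ T.m (σ 6) = m ∧ T.m (σ 7) = m ∧ T.w (σ 0) = w ∧ T.w (σ 1) = 2 * w ∧ T.w (σ 2) = 2 * w ∧ T.w (σ 3) = 2 * w ∧ T.w (σ 4) = 2 * w ∧ T.w (σ 5) = 2 * w ∧ T.w (σ 6) = 2 * w ∧ T.w (σ 7) = w ∧ T.a (σ 0) (σ 0) = -2 * w ∧ T.a (σ 0) (σ 1) = 2 * w ∧ T.a (σ 0) (σ 2) = 0 ∧ T.a (σ 0) (σ 3) = 0 ∧ T.a (σ 0) (σ 4) = 0 ∧ T.a (σ 0) (σ 5) = 0 ∧ T.a (σ 0) (σ 6) = 0 ∧ T.a (σ 0) (σ 7) = 0 ∧ T.a (σ 1) (σ 1) = -4 * w ∧ T.a (σ 1) (σ 2) = 2 * w ∧ T.a (σ 1) (σ 3) = 0 ∧ T.a (σ 1) (σ 4) = 0 ∧ T.a (σ 1) (σ 5) = 0 ∧ T.a (σ 1) (σ 6) = 0 ∧ T.a (σ 1) (σ 7) = 0 ∧ T.a (σ 2) (σ 2) = -4 * w ∧ T.a (σ 2) (σ 3) = 2 * w ∧ T.a (σ 2) (σ 4) = 0 ∧ T.a (σ 2) (σ 5) = 0 ∧ T.a (σ 2) (σ 6) = 0 ∧ T.a (σ 2) (σ 7) = 0 ∧ T.a (σ 3) (σ 3) = -4 * w ∧ T.a (σ 3) (σ 4) = 2 * w ∧ T.a (σ 3) (σ 5) = 0 ∧ T.a (σ 3) (σ 6) = 0 ∧ T.a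 (σ 3) (σ 7) = 0 ∧ T.a (σ 4) (σ 4) = -4 * w ∧ T.a (σ 4) (σ 5) = 2 * w ∧ T.a (σ 4) (σ 6) = 0 ∧ T.a (σ 4) (σ 7) = 0 ∧ T.a (σ 5) (σ 5) = -4 * w ∧ T.a (σ 5) (σ 6) = 2 * w ∧ T.a (σ 5) (σ 7) = 0 ∧ T.a (σ 6) (σ 6) = -4 * w ∧ T.a (σ 6) (σ 7) = 2 * w ∧ T.a (σ 7) (σ 7) = -2 * w) ∨
      (T.m (σ 0) = m ∧ T.m (σ 1) = 2 * m ∧ T.m (σ 2) = 2 * m ∧ T.m (σ 3) = 2 * m ∧ T.m (σ 4) = 2 * m ∧ T.m (σ 5) = 2 * m ∧ T.m (σ 6) = 2 * m ∧ T.m (σ 7) = m ∧ T.w (σ 0) = 2 * w ∧ T.w (σ 1) = w ∧ T.w (σ 2) = w ∧ T.w (σ 3) = w ∧ T.w (σ 4) = w ∧ T.w (σ 5) = w ∧ T.w (σ 6) = w ∧ T.w (σ 7) = 2 * w ∧ T.a (σ 0) (σ 0) = -4 * w ∧ T.a (σ 0) (σ 1) = 2 * w ∧ T.a (σ 0) (σ 2) = 0 ∧ T.a (σ 0) (σ 3) = 0 ∧ T.a (σ 0) (σ 4) = 0 ∧ T.a (σ 0) (σ 5) = 0 ∧ T.a (σ 0) (σ 6) = 0 ∧ T.a (σ 0) (σ 7) = 0 ∧ T.a (σ 1) (σ 1) = -2 * w ∧ T.a (σ 1) (σ 2) = w ∧ T.a (σ 1) (σ 3) = 0 ∧ T.a (σ 1) (σ 4) = 0 ∧ T.a (σ 1) (σ 5) = 0 ∧ T.a (σ 1)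 (σ 6) = 0 ∧ T.a (σ 1) (σ 7) = 0 ∧ T.a (σ 2) (σ 2) = -2 * w ∧ T.a (σ 2) (σ 3) = w ∧ T.a (σ 2) (σ 4) = 0 ∧ T.a (σ 2) (σ 5) = 0 ∧ T.a (σ 2) (σ 6) = 0 ∧ T.a (σ 2) (σ 7) = 0 ∧ T.a (σ 3) (σ 3) = -2 * w ∧ T.a (σ 3) (σ 4) = w ∧ T.a (σ 3) (σ 5) = 0 ∧ T.a (σ 3) (σ 6) = 0 ∧ T.a (σ 3) (σ 7) = 0 ∧ T.a (σ 4) (σ 4) = -2 * w ∧ T.a (σ 4) (σ 5) = w ∧ T.a (σ 4) (σ 6) = 0 ∧ T.a (σ 4) (σ 7) = 0 ∧ T.a (σ 5) (σ 5) = -2 * w ∧ T.a (σ 5) (σ 6) = w ∧ T.a (σ 5) (σ 7) = 0 ∧ T.a (σ 6) (σ 6) = -2 * w ∧ T.a (σ 6) (σ 7) = 2 * w ∧ T.a (σ 7) (σ 7) = -4 * w) ∨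
      (T.m (σ 0) = m ∧ T.m (σ 1) = 2 * m ∧ T.m (σ 2) = 2 * m ∧ T.m (σ 3) = 2 * m ∧ T.m (σ 4) = 2 * m ∧ T.m (σ 5) = 2 * m ∧ T.m (σ 6) = m ∧ T.m (σ 7) = m ∧ T.w (σ 0) = 2 * w ∧ T.w (σ 1) = w ∧ T.w (σ 2) = w ∧ T.w (σ 3) = w ∧ T.w (σ 4) = w ∧ T.w (σ 5) = w ∧ T.w (σ 6) = w ∧ T.w (σ 7) = w ∧ T.a (σ 0) (σ 0) = -4 * w ∧ T.a (σ 0) (σ 1) = 2 * w ∧ T.a (σ 0) (σ 2) = 0 ∧ T.a (σ 0) (σ 3) = 0 ∧ T.a (σ 0) (σ 4) = 0 ∧ T.a (σ 0) (σ 5) = 0 ∧ T.a (σ 0) (σ 6) = 0 ∧ T.a (σ 0) (σ 7) = 0 ∧ T.a (σ 1) (σ 1) = -2 * w ∧ T.a (σ 1) (σ 2) = w ∧ T.a (σ 1) (σ 3) = 0 ∧ T.a (σ 1) (σ 4) = 0 ∧ T.a (σ 1) (σ 5) = 0 ∧ T.a (σ 1) (σ 6) = 0 ∧ T.a (σ 1) (σ 7) = 0 ∧ T.a (σ 2) (σ 2) = -2 * w ∧ T.a (σ 2) (σ 3) = w ∧ T.a (σ 2) (σ 4) = 0 ∧ T.a (σ 2) (σ 5) = 0 ∧ T.a (σ 2) (σ 6) = 0 ∧ T.a (σ 2) (σ 7) = 0 ∧ T.a (σ 3) (σ 3) = -2 * w ∧ T.a (σ 3) (σ 4) = w ∧ T.a (σ 3) (σ 5) = 0 ∧ T.a (σ 3) (σ 6) = 0 ∧ T.a (σ 3) (σ 7)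 = 0 ∧ T.a (σ 4) (σ 4) = -2 * w ∧ T.a (σ 4) (σ 5) = w ∧ T.a (σ 4) (σ 6) = 0 ∧ T.a (σ 4) (σ 7) = 0 ∧ T.a (σ 5) (σ 5) = -2 * w ∧ T.a (σ 5) (σ 6) = w ∧ T.a (σ 5) (σ 7) = w ∧ T.a (σ 6) (σ 6) = -2 * w ∧ T.a (σ 6) (σ 7) = 0 ∧ T.a (σ 7) (σ 7) = -2 * w) ∨
      (T.m (σ 0) = 2 * m ∧ T.m (σ 1) = 2 * m ∧ T.m (σ 2) = 2 * m ∧ T.m (σ 3) = 2 * m ∧ T.m (σ 4) = 2 * m ∧ T.m (σ 5) = 2 * m ∧ T.m (σ 6) = m ∧ T.m (σ 7) = m ∧ T.w (σ 0) = w ∧ T.w (σ 1) = 2 * w ∧ T.w (σ 2) = 2 * w ∧ T.w (σ 3) = 2 * w ∧ T.w (σ 4) = 2 * w ∧ T.w (σ 5) = 2 * w ∧ T.w (σ 6) = 2 * w ∧ T.w (σ 7) = 2 * w ∧ T.a (σ 0) (σ 0) = -2 * w ∧ T.a (σ 0) (σ 1) = 2 * w ∧ T.a (σ 0) (σ 2) = 0 ∧ T.a (σ 0) (σ 3) = 0 ∧ T.a (σ 0) (σ 4) = 0 ∧ T.a (σ 0) (σ 5) = 0 ∧ T.a (σ 0) (σ 6) = 0 ∧ T.a (σ 0) (σ 7) = 0 ∧ T.a (σ 1) (σ 1) = -4 * w ∧ T.a (σ 1) (σ 2) = 2 * w ∧ T.a (σ 1) (σ 3) = 0 ∧ T.a (σ 1) (σ 4) = 0 ∧ T.a (σ 1) (σ 5) = 0 ∧ T.a (σ 1)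 (σ 6) = 0 ∧ T.a (σ 1) (σ 7) = 0 ∧ T.a (σ 2) (σ 2) = -4 * w ∧ T.a (σ 2) (σ 3) = 2 * w ∧ T.a (σ 2) (σ 4) = 0 ∧ T.a (σ 2) (σ 5) = 0 ∧ T.a (σ 2) (σ 6) = 0 ∧ T.a (σ 2) (σ 7) = 0 ∧ T.a (σ 3) (σ 3) = -4 * w ∧ T.a (σ 3) (σ 4) = 2 * w ∧ T.a (σ 3) (σ 5) = 0 ∧ T.a (σ 3) (σ 6) = 0 ∧ T.a (σ 3) (σ 7) = 0 ∧ T.a (σ 4) (σ 4) = -4 * w ∧ T.a (σ 4) (σ 5) = 2 * w ∧ T.a (σ 4) (σ 6) = 0 ∧ T.a (σ 4) (σ 7) = 0 ∧ T.a (σ 5) (σ 5) = -4 * w ∧ T.a (σ 5) (σ 6) = 2 * w ∧ T.a (σ 5) (σ 7) = 2 * w ∧ T.a (σ 6) (σ 6) = -4 * w ∧ T.a (σ 6) (σ 7) = 0 ∧ T.a (σ 7) (σ 7) = -4 * w) ∨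
      (T.m (σ 0) = m ∧ T.m (σ 1) = m ∧ T.m (σ 2) = 2 * m ∧ T.m (σ 3) = 2 * m ∧ T.m (σ 4) = 2 * m ∧ T.m (σ 5) = 2 * m ∧ T.m (σ 6) = m ∧ T.m (σ 7) = m ∧ T.w (σ 0) = w ∧ T.w (σ 1) = w ∧ T.w (σ 2) = w ∧ T.w (σ 3) = w ∧ T.w (σ 4) = w ∧ T.w (σ 5) = w ∧ T.w (σ 6) = w ∧ T.w (σ 7) = w ∧ T.a (σ 0) (σ 0) = -2 * w ∧ T.a (σ 0) (σ 1) = 0 ∧ T.a (σ 0) (σ 2) = w ∧ T.a (σ 0) (σ 3) = 0 ∧ T.a (σ 0) (σ 4) = 0 ∧ T.a (σ 0) (σ 5) = 0 ∧ T.a (σ 0) (σ 6) = 0 ∧ T.a (σ 0) (σ 7) = 0 ∧ T.a (σ 1) (σ 1) = -2 * w ∧ T.a (σ 1) (σ 2) = w ∧ T.a (σ 1) (σ 3) = 0 ∧ T.a (σ 1) (σ 4) = 0 ∧ T.a (σ 1) (σ 5) = 0 ∧ T.a (σ 1) (σ 6) = 0 ∧ T.a (σ 1) (σ 7) = 0 ∧ T.a (σ 2) (σ 2) = -2 * w ∧ T.a (σ 2) (σ 3) = w ∧ T.a (σ 2) (σ 4) = 0 ∧ T.a (σ 2) (σ 5) = 0 ∧ T.a (σ 2) (σ 6) = 0 ∧ T.a (σ 2) (σ 7) = 0 ∧ T.a (σ 3) (σ 3) = -2 * w ∧ T.a (σ 3) (σ 4) = w ∧ T.a (σ 3) (σ 5) = 0 ∧ T.a (σ 3) (σ 6) = 0 ∧ T.a (σ 3) (σ 7) = 0 ∧ T.a (σ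 4) (σ 4) = -2 * w ∧ T.a (σ 4) (σ 5) = w ∧ T.a (σ 4) (σ 6) = 0 ∧ T.a (σ 4) (σ 7) = 0 ∧ T.a (σ 5) (σ 5) = -2 * w ∧ T.a (σ 5) (σ 6) = w ∧ T.a (σ 5) (σ 7) = w ∧ T.a (σ 6) (σ 6) = -2 * w ∧ T.a (σ 6) (σ 7) = 0 ∧ T.a (σ 7) (σ 7) = -2 * w) ∨
      (T.m (σ 0) = m ∧ T.m (σ 1) = 2 * m ∧ T.m (σ 2) = 3 * m ∧ T.m (σ 3) = 4 * m ∧ T.m (σ 4) = 3 * m ∧ T.m (σ 5) = 2 * m ∧ T.m (σ 6) = m ∧ T.m (σ 7) = 2 * m ∧ T.w (σ 0) = w ∧ T.w (σ 1) = w ∧ T.w (σ 2) = w ∧ T.w (σ 3) = w ∧ T.w (σ 4) = w ∧ T.w (σ 5) = w ∧ T.w (σ 6) = w ∧ T.w (σ 7) = w ∧ T.a (σ 0) (σ 0) = -2 * w ∧ T.a (σ 0) (σ 1) = w ∧ T.a (σ 0) (σ 2) = 0 ∧ T.a (σ 0) (σ 3) = 0 ∧ T.a (σ 0) (σ 4) = 0 ∧ T.a (σ 0) (σ 5) = 0 ∧ T.a (σ 0) (σ 6) = 0 ∧ T.a (σ 0) (σ 7) = 0 ∧ T.a (σ 1) (σ 1) = -2 * w ∧ T.a (σ 1) (σ 2) = w ∧ T.a (σ 1) (σ 3) = 0 ∧ T.a (σ 1) (σ 4) = 0 ∧ T.a (σ 1) (σ 5) = 0 ∧ T.a (σ 1) (σ 6) = 0 ∧ T.a (σ 1) (σ 7) = 0 ∧ T.a (σ 2) (σ 2)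 = -2 * w ∧ T.a (σ 2) (σ 3) = w ∧ T.a (σ 2) (σ 4) = 0 ∧ T.a (σ 2) (σ 5) = 0 ∧ T.a (σ 2) (σ 6) = 0 ∧ T.a (σ 2) (σ 7) = 0 ∧ T.a (σ 3) (σ 3) = -2 * w ∧ T.a (σ 3) (σ 4) = w ∧ T.a (σ 3) (σ 5) = 0 ∧ T.a (σ 3) (σ 6) = 0 ∧ T.a (σ 3) (σ 7) = w ∧ T.a (σ 4) (σ 4) = -2 * w ∧ T.a (σ 4) (σ 5) = w ∧ T.a (σ 4) (σ 6) = 0 ∧ T.a (σ 4) (σ 7) = 0 ∧ T.a (σ 5) (σ 5) = -2 * w ∧ T.a (σ 5) (σ 6) = w ∧ T.a (σ 5) (σ 7) = 0 ∧ T.a (σ 6) (σ 6) = -2 * w ∧ T.a (σ 6) (σ 7) = 0 ∧ T.a (σ 7) (σ 7) = -2 * w)) := by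
  have h0 := fun i => Groth.Agent.Lib.NumType97.genus_one_minimal T (by norm_num) hmin hg i
  have h2 : ∀ i, T.a i i = -2 * T.w i := fun i => (h0 i).2
  refine ⟨fun i => (h0 i).1, ?_⟩
  rcases classify h2 (by norm_num) with hR | hR | hR | hR | ⟨hn5, hR | hR⟩ | ⟨hn6, hR⟩ | ⟨hn4, hR | hR⟩ | ⟨hn5e, hR | hR | hR⟩ | ⟨hn7, hR⟩ | ⟨hn8, hR⟩ | ⟨hn9, hR⟩
  · -- cyc -> disjunct 0
    obtain ⟨σ, m, w, hM, hW, hA⟩ := hR.toPerm
    exact ⟨σ, m, w, Or.inl ⟨eval_one (hM 0) (by decide),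
      eval_one (hM 1) (by decide),
      eval_one (hM 2) (by decide),
      eval_one (hM 3) (by decide),
      eval_one (hM 4) (by decide),
      eval_one (hM 5) (by decide),
      eval_one (hM 6) (by decide),
      eval_one (hM 7) (by decide),
      eval_one (hW 0) (by decide),
      eval_one (hW 1) (by decide),
      eval_one (hW 2) (by decide),
      eval_one (hW 3) (by decide),
      eval_one (hW 4) (by decide),
      eval_one (hW 5) (by decide),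
      eval_one (hW 6) (by decide),
      eval_one (hW 7) (by decide),
      eval_diag (h2 (σ 0)) (hW 0) (by decide),
      eval_one (hA 0 1 (by decide)) (by decide),
      eval_zero (hA 0 2 (by decide)) (by decide),
      eval_zero (hA 0 3 (by decide)) (by decide),
      eval_zero (hA 0 4 (by decide)) (by decide),
      eval_zero (hA 0 5 (by decide)) (by decide),
      eval_zero (hA 0 6 (by decide)) (by decide),
      eval_one (hA 0 7 (by decide)) (by decide),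
      eval_diag (h2 (σ 1)) (hW 1) (by decide),
      eval_one (hA 1 2 (by decide)) (by decide),
      eval_zero (hA 1 3 (by decide)) (by decide),
      eval_zero (hA 1 4 (by decide)) (by decide),
      eval_zero (hA 1 5 (by decide)) (by decide),
      eval_zero (hA 1 6 (by decide)) (by decide),
      eval_zero (hA 1 7 (by decide)) (by decide),
      eval_diag (h2 (σ 2)) (hW 2) (by decide),
      eval_one (hA 2 3 (by decide)) (by decide),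
      eval_zero (hA 2 4 (by decide)) (by decide),
      eval_zero (hA 2 5 (by decide)) (by decide),
      eval_zero (hA 2 6 (by decide)) (by decide),
      eval_zero (hA 2 7 (by decide)) (by decide),
      eval_diag (h2 (σ 3)) (hW 3) (by decide),
      eval_one (hA 3 4 (by decide)) (by decide),
      eval_zero (hA 3 5 (by decide)) (by decide),
      eval_zero (hA 3 6 (by decide)) (by decide),
      eval_zero (hA 3 7 (by decide)) (by decide),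
      eval_diag (h2 (σ 4)) (hW 4) (by decide),
      eval_one (hA 4 5 (by decide)) (by decide),
      eval_zero (hA 4 6 (by decide)) (by decide),
      eval_zero (hA 4 7 (by decide)) (by decide),
      eval_diag (h2 (σ 5)) (hW 5) (by decide),
      eval_one (hA 5 6 (by decide)) (by decide),
      eval_zero (hA 5 7 (by decide)) (by decide),
      eval_diag (h2 (σ 6)) (hW 6) (by decide),
      eval_one (hA 6 7 (by decide)) (by decide),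
      eval_diag (h2 (σ 7)) (hW 7) (by decide)⟩⟩
  · -- chUD -> disjunct 2
    obtain ⟨σ, m, w, hM, hW, hA⟩ := hR.toPerm
    exact ⟨σ, m, w, Or.inr (Or.inr (Or.inl ⟨eval_one (hM 0) (by decide),
      eval_one (hM 1) (by decide),
      eval_one (hM 2) (by decide),
      eval_one (hM 3) (by decide),
      eval_one (hM 4) (by decide),
      eval_one (hM 5) (by decide),
      eval_one (hM 6) (by decide),
      eval_one (hM 7) (by decide),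
      eval_one (hW 0) (by decide),
      eval_mul (hW 1) (by decide),
      eval_mul (hW 2) (by decide),
      eval_mul (hW 3) (by decide),
      eval_mul (hW 4) (by decide),
      eval_mul (hW 5) (by decide),
      eval_mul (hW 6) (by decide),
      eval_one (hW 7) (by decide),
      eval_diag (h2 (σ 0)) (hW 0) (by decide),
      eval_mul (hA 0 1 (by decide)) (by decide),
      eval_zero (hA 0 2 (by decide)) (by decide),
      eval_zero (hA 0 3 (by decide)) (by decide),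
      eval_zero (hA 0 4 (by decide)) (by decide),
      eval_zero (hA 0 5 (by decide)) (by decide),
      eval_zero (hA 0 6 (by decide)) (by decide),
      eval_zero (hA 0 7 (by decide)) (by decide),
      eval_diag (h2 (σ 1)) (hW 1) (by decide),
      eval_mul (hA 1 2 (by decide)) (by decide),
      eval_zero (hA 1 3 (by decide)) (by decide),
      eval_zero (hA 1 4 (by decide)) (by decide),
      eval_zero (hA 1 5 (by decide)) (by decide),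
      eval_zero (hA 1 6 (by decide)) (by decide),
      eval_zero (hA 1 7 (by decide)) (by decide),
      eval_diag (h2 (σ 2)) (hW 2) (by decide),
      eval_mul (hA 2 3 (by decide)) (by decide),
      eval_zero (hA 2 4 (by decide)) (by decide),
      eval_zero (hA 2 5 (by decide)) (by decide),
      eval_zero (hA 2 6 (by decide)) (by decide),
      eval_zero (hA 2 7 (by decide)) (by decide),
      eval_diag (h2 (σ 3)) (hW 3) (by decide),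
      eval_mul (hA 3 4 (by decide)) (by decide),
      eval_zero (hA 3 5 (by decide)) (by decide),
      eval_zero (hA 3 6 (by decide)) (by decide),
      eval_zero (hA 3 7 (by decide)) (by decide),
      eval_diag (h2 (σ 4)) (hW 4) (by decide),
      eval_mul (hA 4 5 (by decide)) (by decide),
      eval_zero (hA 4 6 (by decide)) (by decide),
      eval_zero (hA 4 7 (by decide)) (by decide),
      eval_diag (h2 (σ 5)) (hW 5) (by decide),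
      eval_mul (hA 5 6 (by decide)) (by decide),
      eval_zero (hA 5 7 (by decide)) (by decide),
      eval_diag (h2 (σ 6)) (hW 6) (by decide),
      eval_mul (hA 6 7 (by decide)) (by decide),
      eval_diag (h2 (σ 7)) (hW 7) (by decide)⟩))⟩
  · -- chUU -> disjunct 1
    obtain ⟨σ, m, w, hM, hW, hA⟩ := hR.toPerm
    exact ⟨σ, m, w, Or.inr (Or.inl ⟨eval_mul (hM 0) (by decide),
      eval_mul (hM 1) (by decide),
      eval_mul (hM 2) (by decide),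
      eval_mul (hM 3) (by decide),
      eval_mul (hM 4) (by decide),
      eval_mul (hM 5) (by decide),
      eval_mul (hM 6) (by decide),
      eval_one (hM 7) (by decide),
      eval_one (hW 0) (by decide),
      eval_mul (hW 1) (by decide),
      eval_mul (hW 2) (by decide),
      eval_mul (hW 3) (by decide),
      eval_mul (hW 4) (by decide),
      eval_mul (hW 5) (by decide),
      eval_mul (hW 6) (by decide),
      eval_mul (hW 7) (by decide),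
      eval_diag (h2 (σ 0)) (hW 0) (by decide),
      eval_mul (hA 0 1 (by decide)) (by decide),
      eval_zero (hA 0 2 (by decide)) (by decide),
      eval_zero (hA 0 3 (by decide)) (by decide),
      eval_zero (hA 0 4 (by decide)) (by decide),
      eval_zero (hA 0 5 (by decide)) (by decide),
      eval_zero (hA 0 6 (by decide)) (by decide),
      eval_zero (hA 0 7 (by decide)) (by decide),
      eval_diag (h2 (σ 1)) (hW 1) (by decide),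
      eval_mul (hA 1 2 (by decide)) (by decide),
      eval_zero (hA 1 3 (by decide)) (by decide),
      eval_zero (hA 1 4 (by decide)) (by decide),
      eval_zero (hA 1 5 (by decide)) (by decide),
      eval_zero (hA 1 6 (by decide)) (by decide),
      eval_zero (hA 1 7 (by decide)) (by decide),
      eval_diag (h2 (σ 2)) (hW 2) (by decide),
      eval_mul (hA 2 3 (by decide)) (by decide),
      eval_zero (hA 2 4 (by decide)) (by decide),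
      eval_zero (hA 2 5 (by decide)) (by decide),
      eval_zero (hA 2 6 (by decide)) (by decide),
      eval_zero (hA 2 7 (by decide)) (by decide),
      eval_diag (h2 (σ 3)) (hW 3) (by decide),
      eval_mul (hA 3 4 (by decide)) (by decide),
      eval_zero (hA 3 5 (by decide)) (by decide),
      eval_zero (hA 3 6 (by decide)) (by decide),
      eval_zero (hA 3 7 (by decide)) (by decide),
      eval_diag (h2 (σ 4)) (hW 4) (by decide),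
      eval_mul (hA 4 5 (by decide)) (by decide),
      eval_zero (hA 4 6 (by decide)) (by decide),
      eval_zero (hA 4 7 (by decide)) (by decide),
      eval_diag (h2 (σ 5)) (hW 5) (by decide),
      eval_mul (hA 5 6 (by decide)) (by decide),
      eval_zero (hA 5 7 (by decide)) (by decide),
      eval_diag (h2 (σ 6)) (hW 6) (by decide),
      eval_mul (hA 6 7 (by decide)) (by decide),
      eval_diag (h2 (σ 7)) (hW 7) (by decide)⟩)⟩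
  · -- chDU -> disjunct 3
    obtain ⟨σ, m, w, hM, hW, hA⟩ := hR.toPerm
    exact ⟨σ, m, w, Or.inr (Or.inr (Or.inr (Or.inl ⟨eval_one (hM 0) (by decide),
      eval_mul (hM 1) (by decide),
      eval_mul (hM 2) (by decide),
      eval_mul (hM 3) (by decide),
      eval_mul (hM 4) (by decide),
      eval_mul (hM 5) (by decide),
      eval_mul (hM 6) (by decide),
      eval_one (hM 7) (by decide),
      eval_mul (hW 0) (by decide),
      eval_one (hW 1) (by decide),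
      eval_one (hW 2) (by decide),
      eval_one (hW 3) (by decide),
      eval_one (hW 4) (by decide),
      eval_one (hW 5) (by decide),
      eval_one (hW 6) (by decide),
      eval_mul (hW 7) (by decide),
      eval_diag (h2 (σ 0)) (hW 0) (by decide),
      eval_mul (hA 0 1 (by decide)) (by decide),
      eval_zero (hA 0 2 (by decide)) (by decide),
      eval_zero (hA 0 3 (by decide)) (by decide),
      eval_zero (hA 0 4 (by decide)) (by decide),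
      eval_zero (hA 0 5 (by decide)) (by decide),
      eval_zero (hA 0 6 (by decide)) (by decide),
      eval_zero (hA 0 7 (by decide)) (by decide),
      eval_diag (h2 (σ 1)) (hW 1) (by decide),
      eval_one (hA 1 2 (by decide)) (by decide),
      eval_zero (hA 1 3 (by decide)) (by decide),
      eval_zero (hA 1 4 (by decide)) (by decide),
      eval_zero (hA 1 5 (by decide)) (by decide),
      eval_zero (hA 1 6 (by decide)) (by decide),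
      eval_zero (hA 1 7 (by decide)) (by decide),
      eval_diag (h2 (σ 2)) (hW 2) (by decide),
      eval_one (hA 2 3 (by decide)) (by decide),
      eval_zero (hA 2 4 (by decide)) (by decide),
      eval_zero (hA 2 5 (by decide)) (by decide),
      eval_zero (hA 2 6 (by decide)) (by decide),
      eval_zero (hA 2 7 (by decide)) (by decide),
      eval_diag (h2 (σ 3)) (hW 3) (by decide),
      eval_one (hA 3 4 (by decide)) (by decide),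
      eval_zero (hA 3 5 (by decide)) (by decide),
      eval_zero (hA 3 6 (by decide)) (by decide),
      eval_zero (hA 3 7 (by decide)) (by decide),
      eval_diag (h2 (σ 4)) (hW 4) (by decide),
      eval_one (hA 4 5 (by decide)) (by decide),
      eval_zero (hA 4 6 (by decide)) (by decide),
      eval_zero (hA 4 7 (by decide)) (by decide),
      eval_diag (h2 (σ 5)) (hW 5) (by decide),
      eval_one (hA 5 6 (by decide)) (by decide),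
      eval_zero (hA 5 7 (by decide)) (by decide),
      eval_diag (h2 (σ 6)) (hW 6) (by decide),
      eval_mul (hA 6 7 (by decide)) (by decide),
      eval_diag (h2 (σ 7)) (hW 7) (by decide)⟩)))⟩
  · -- dU -> disjunct 4
    obtain ⟨σ, m, w, hM, hW, hA⟩ := hR.toPerm
    exact ⟨σ, m, w, Or.inr (Or.inr (Or.inr (Or.inr (Or.inl ⟨eval_one (hM 0) (by decide),
      eval_mul (hM 1) (by decide),
      eval_mul (hM 2) (by decide),
      eval_mul (hM 3) (by decide),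
      eval_mul (hM 4) (by decide),
      eval_mul (hM 5) (by decide),
      eval_one (hM 6) (by decide),
      eval_one (hM 7) (by decide),
      eval_mul (hW 0) (by decide),
      eval_one (hW 1) (by decide),
      eval_one (hW 2) (by decide),
      eval_one (hW 3) (by decide),
      eval_one (hW 4) (by decide),
      eval_one (hW 5) (by decide),
      eval_one (hW 6) (by decide),
      eval_one (hW 7) (by decide),
      eval_diag (h2 (σ 0)) (hW 0) (by decide),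
      eval_mul (hA 0 1 (by decide)) (by decide),
      eval_zero (hA 0 2 (by decide)) (by decide),
      eval_zero (hA 0 3 (by decide)) (by decide),
      eval_zero (hA 0 4 (by decide)) (by decide),
      eval_zero (hA 0 5 (by decide)) (by decide),
      eval_zero (hA 0 6 (by decide)) (by decide),
      eval_zero (hA 0 7 (by decide)) (by decide),
      eval_diag (h2 (σ 1)) (hW 1) (by decide),
      eval_one (hA 1 2 (by decide)) (by decide),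
      eval_zero (hA 1 3 (by decide)) (by decide),
      eval_zero (hA 1 4 (by decide)) (by decide),
      eval_zero (hA 1 5 (by decide)) (by decide),
      eval_zero (hA 1 6 (by decide)) (by decide),
      eval_zero (hA 1 7 (by decide)) (by decide),
      eval_diag (h2 (σ 2)) (hW 2) (by decide),
      eval_one (hA 2 3 (by decide)) (by decide),
      eval_zero (hA 2 4 (by decide)) (by decide),
      eval_zero (hA 2 5 (by decide)) (by decide),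
      eval_zero (hA 2 6 (by decide)) (by decide),
      eval_zero (hA 2 7 (by decide)) (by decide),
      eval_diag (h2 (σ 3)) (hW 3) (by decide),
      eval_one (hA 3 4 (by decide)) (by decide),
      eval_zero (hA 3 5 (by decide)) (by decide),
      eval_zero (hA 3 6 (by decide)) (by decide),
      eval_zero (hA 3 7 (by decide)) (by decide),
      eval_diag (h2 (σ 4)) (hW 4) (by decide),
      eval_one (hA 4 5 (by decide)) (by decide),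
      eval_zero (hA 4 6 (by decide)) (by decide),
      eval_zero (hA 4 7 (by decide)) (by decide),
      eval_diag (h2 (σ 5)) (hW 5) (by decide),
      eval_one (hA 5 6 (by decide)) (by decide),
      eval_one (hA 5 7 (by decide)) (by decide),
      eval_diag (h2 (σ 6)) (hW 6) (by decide),
      eval_zero (hA 6 7 (by decide)) (by decide),
      eval_diag (h2 (σ 7)) (hW 7) (by decide)⟩))))⟩
  · -- dD -> disjunct 5
    obtain ⟨σ, m, w, hM, hW, hA⟩ := hR.toPerm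
    exact ⟨σ, m, w, Or.inr (Or.inr (Or.inr (Or.inr (Or.inr (Or.inl ⟨eval_mul (hM 0) (by decide),
      eval_mul (hM 1) (by decide),
      eval_mul (hM 2) (by decide),
      eval_mul (hM 3) (by decide),
      eval_mul (hM 4) (by decide),
      eval_mul (hM 5) (by decide),
      eval_one (hM 6) (by decide),
      eval_one (hM 7) (by decide),
      eval_one (hW 0) (by decide),
      eval_mul (hW 1) (by decide),
      eval_mul (hW 2) (by decide),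
      eval_mul (hW 3) (by decide),
      eval_mul (hW 4) (by decide),
      eval_mul (hW 5) (by decide),
      eval_mul (hW 6) (by decide),
      eval_mul (hW 7) (by decide),
      eval_diag (h2 (σ 0)) (hW 0) (by decide),
      eval_mul (hA 0 1 (by decide)) (by decide),
      eval_zero (hA 0 2 (by decide)) (by decide),
      eval_zero (hA 0 3 (by decide)) (by decide),
      eval_zero (hA 0 4 (by decide)) (by decide),
      eval_zero (hA 0 5 (by decide)) (by decide),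
      eval_zero (hA 0 6 (by decide)) (by decide),
      eval_zero (hA 0 7 (by decide)) (by decide),
      eval_diag (h2 (σ 1)) (hW 1) (by decide),
      eval_mul (hA 1 2 (by decide)) (by decide),
      eval_zero (hA 1 3 (by decide)) (by decide),
      eval_zero (hA 1 4 (by decide)) (by decide),
      eval_zero (hA 1 5 (by decide)) (by decide),
      eval_zero (hA 1 6 (by decide)) (by decide),
      eval_zero (hA 1 7 (by decide)) (by decide),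
      eval_diag (h2 (σ 2)) (hW 2) (by decide),
      eval_mul (hA 2 3 (by decide)) (by decide),
      eval_zero (hA 2 4 (by decide)) (by decide),
      eval_zero (hA 2 5 (by decide)) (by decide),
      eval_zero (hA 2 6 (by decide)) (by decide),
      eval_zero (hA 2 7 (by decide)) (by decide),
      eval_diag (h2 (σ 3)) (hW 3) (by decide),
      eval_mul (hA 3 4 (by decide)) (by decide),
      eval_zero (hA 3 5 (by decide)) (by decide),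
      eval_zero (hA 3 6 (by decide)) (by decide),
      eval_zero (hA 3 7 (by decide)) (by decide),
      eval_diag (h2 (σ 4)) (hW 4) (by decide),
      eval_mul (hA 4 5 (by decide)) (by decide),
      eval_zero (hA 4 6 (by decide)) (by decide),
      eval_zero (hA 4 7 (by decide)) (by decide),
      eval_diag (h2 (σ 5)) (hW 5) (by decide),
      eval_mul (hA 5 6 (by decide)) (by decide),
      eval_mul (hA 5 7 (by decide)) (by decide),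
      eval_diag (h2 (σ 6)) (hW 6) (by decide),
      eval_zero (hA 6 7 (by decide)) (by decide),
      eval_diag (h2 (σ 7)) (hW 7) (by decide)⟩)))))⟩
  · -- dF -> disjunct 6
    obtain ⟨σ, m, w, hM, hW, hA⟩ := hR.toPerm
    exact ⟨σ, m, w, Or.inr (Or.inr (Or.inr (Or.inr (Or.inr (Or.inr (Or.inl ⟨eval_one (hM 0) (by decide),
      eval_one (hM 1) (by decide),
      eval_mul (hM 2) (by decide),
      eval_mul (hM 3) (by decide),
      eval_mul (hM 4) (by decide),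
      eval_mul (hM 5) (by decide),
      eval_one (hM 6) (by decide),
      eval_one (hM 7) (by decide),
      eval_one (hW 0) (by decide),
      eval_one (hW 1) (by decide),
      eval_one (hW 2) (by decide),
      eval_one (hW 3) (by decide),
      eval_one (hW 4) (by decide),
      eval_one (hW 5) (by decide),
      eval_one (hW 6) (by decide),
      eval_one (hW 7) (by decide),
      eval_diag (h2 (σ 0)) (hW 0) (by decide),
      eval_zero (hA 0 1 (by decide)) (by decide),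
      eval_one (hA 0 2 (by decide)) (by decide),
      eval_zero (hA 0 3 (by decide)) (by decide),
      eval_zero (hA 0 4 (by decide)) (by decide),
      eval_zero (hA 0 5 (by decide)) (by decide),
      eval_zero (hA 0 6 (by decide)) (by decide),
      eval_zero (hA 0 7 (by decide)) (by decide),
      eval_diag (h2 (σ 1)) (hW 1) (by decide),
      eval_one (hA 1 2 (by decide)) (by decide),
      eval_zero (hA 1 3 (by decide)) (by decide),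
      eval_zero (hA 1 4 (by decide)) (by decide),
      eval_zero (hA 1 5 (by decide)) (by decide),
      eval_zero (hA 1 6 (by decide)) (by decide),
      eval_zero (hA 1 7 (by decide)) (by decide),
      eval_diag (h2 (σ 2)) (hW 2) (by decide),
      eval_one (hA 2 3 (by decide)) (by decide),
      eval_zero (hA 2 4 (by decide)) (by decide),
      eval_zero (hA 2 5 (by decide)) (by decide),
      eval_zero (hA 2 6 (by decide)) (by decide),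
      eval_zero (hA 2 7 (by decide)) (by decide),
      eval_diag (h2 (σ 3)) (hW 3) (by decide),
      eval_one (hA 3 4 (by decide)) (by decide),
      eval_zero (hA 3 5 (by decide)) (by decide),
      eval_zero (hA 3 6 (by decide)) (by decide),
      eval_zero (hA 3 7 (by decide)) (by decide),
      eval_diag (h2 (σ 4)) (hW 4) (by decide),
      eval_one (hA 4 5 (by decide)) (by decide),
      eval_zero (hA 4 6 (by decide)) (by decide),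
      eval_zero (hA 4 7 (by decide)) (by decide),
      eval_diag (h2 (σ 5)) (hW 5) (by decide),
      eval_one (hA 5 6 (by decide)) (by decide),
      eval_one (hA 5 7 (by decide)) (by decide),
      eval_diag (h2 (σ 6)) (hW 6) (by decide),
      eval_zero (hA 6 7 (by decide)) (by decide),
      eval_diag (h2 (σ 7)) (hW 7) (by decide)⟩))))))⟩
  · exfalso; omega  -- tripU
  · exfalso; omega  -- tripD
  · exfalso; omega  -- star5
  · exfalso; omega  -- f4U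
  · exfalso; omega  -- f4D
  · exfalso; omega  -- e6
  · -- e7 -> disjunct 7
    obtain ⟨σ, m, w, hM, hW, hA⟩ := hR.toPerm
    exact ⟨σ, m, w, Or.inr (Or.inr (Or.inr (Or.inr (Or.inr (Or.inr (Or.inr (⟨eval_one (hM 0) (by decide),
      eval_mul (hM 1) (by decide),
      eval_mul (hM 2) (by decide),
      eval_mul (hM 3) (by decide),
      eval_mul (hM 4) (by decide),
      eval_mul (hM 5) (by decide),
      eval_one (hM 6) (by decide),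
      eval_mul (hM 7) (by decide),
      eval_one (hW 0) (by decide),
      eval_one (hW 1) (by decide),
      eval_one (hW 2) (by decide),
      eval_one (hW 3) (by decide),
      eval_one (hW 4) (by decide),
      eval_one (hW 5) (by decide),
      eval_one (hW 6) (by decide),
      eval_one (hW 7) (by decide),
      eval_diag (h2 (σ 0)) (hW 0) (by decide),
      eval_one (hA 0 1 (by decide)) (by decide),
      eval_zero (hA 0 2 (by decide)) (by decide),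
      eval_zero (hA 0 3 (by decide)) (by decide),
      eval_zero (hA 0 4 (by decide)) (by decide),
      eval_zero (hA 0 5 (by decide)) (by decide),
      eval_zero (hA 0 6 (by decide)) (by decide),
      eval_zero (hA 0 7 (by decide)) (by decide),
      eval_diag (h2 (σ 1)) (hW 1) (by decide),
      eval_one (hA 1 2 (by decide)) (by decide),
      eval_zero (hA 1 3 (by decide)) (by decide),
      eval_zero (hA 1 4 (by decide)) (by decide),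
      eval_zero (hA 1 5 (by decide)) (by decide),
      eval_zero (hA 1 6 (by decide)) (by decide),
      eval_zero (hA 1 7 (by decide)) (by decide),
      eval_diag (h2 (σ 2)) (hW 2) (by decide),
      eval_one (hA 2 3 (by decide)) (by decide),
      eval_zero (hA 2 4 (by decide)) (by decide),
      eval_zero (hA 2 5 (by decide)) (by decide),
      eval_zero (hA 2 6 (by decide)) (by decide),
      eval_zero (hA 2 7 (by decide)) (by decide),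
      eval_diag (h2 (σ 3)) (hW 3) (by decide),
      eval_one (hA 3 4 (by decide)) (by decide),
      eval_zero (hA 3 5 (by decide)) (by decide),
      eval_zero (hA 3 6 (by decide)) (by decide),
      eval_one (hA 3 7 (by decide)) (by decide),
      eval_diag (h2 (σ 4)) (hW 4) (by decide),
      eval_one (hA 4 5 (by decide)) (by decide),
      eval_zero (hA 4 6 (by decide)) (by decide),
      eval_zero (hA 4 7 (by decide)) (by decide),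
      eval_diag (h2 (σ 5)) (hW 5) (by decide),
      eval_one (hA 5 6 (by decide)) (by decide),
      eval_zero (hA 5 7 (by decide)) (by decide),
      eval_diag (h2 (σ 6)) (hW 6) (by decide),
      eval_zero (hA 6 7 (by decide)) (by decide),
      eval_diag (h2 (σ 7)) (hW 7) (by decide)⟩)))))))⟩
  · exfalso; omega  -- e8

end Groth.Agent.S7369
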