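import Groth.Statements.S7371
import Mathlib
import Groth.Agent.Lib.NumType97
import Groth.Agent.Lib.NumTypeAff67I
-- import your own Groth.Agent.* helpers here

set_option autoImplicit false
open Finset
open Models Models.NumericalType

namespace Groth.Agent.S7371

open Groth.Agent.Lib.NumTypeAff67

lemma lookup_nil (q : ℕ) : lookup [] q = 0 := rfl

lemma lookup_cons (a : ℕ) (c : ℤ) (l : List (ℕ × ℤ)) (q : ℕ) :
    lookup ((a, c) :: l) q = if a = q then c else lookup l q := by
  unfold lookup
  by_cases h : a = q
  · simp [h]
  · simp [h]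

set_option maxHeartbeats 4000000


/-- Genus one classification: cases n ≥ 10: let T be a minimal numerical type of genus 1 on n ≥ 10
indices. Then all g_i = 0, a_{ii} = -2 w_i, and for some permutation σ of the indices and integers
m, w the type is one of: the n-cycle (all m_i = m, all w_i = w, a_{i,i+1} = a_{1n} = w); the chain
with m = (2m,…,2m,m), w = (w,2w,…,2w,4w), a_{i,i+1} = 2w except a_{n-1,n} = 4w; the chain with all
m_i = m, w = (w,2w,…,2w,w), a_{i,i+1} = 2w; the chain with m = (m,2m,…,2m,m), w = (2w,w,…,w,2w),
a_{12} = a_{n-1,n} = 2w and a_{i,i+1} = w otherwise; the D-type graph (chain 1 … n-1 with n attached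
to n-2) with m = (m,2m,…,2m,m,m), w = (2w,w,…,w), a_{12} = 2w, other edges w; the same D-type graph
with m = (2m,…,2m,m,m), w = (w,2w,…,2w), all edges 2w; the double fork (1, 2 attached to 3; chain 3
… n-2; n-1, n attached to n-2) with m = (m,m,2m,…,2m,m,m), all w_i = w, all edges w; all
intersection numbers not listed are zero. (Indices are written 0, …, n-1 in the formal statement.
For n ≥ 10 the exceptional completed E6, E7, E8 types do not occur, so only the infinite families
remain. In the family with weights (w,2w,…,2w,w) the consecutive intersection numbers are 2w, as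
divisibility by the weights forces; the published list prints w there, and omits m_{n-2} = 2m in the
two D-type families.) Only the classification direction is stated. -/
theorem result {n : ℕ} (T : Models.NumericalType n) (hn : 10 ≤ n) (hmin : T.IsMinimal) (hg : T.genus = 1) :
    (∀ i, T.g i = 0) ∧ (∀ i, T.a i i = -2 * T.w i) ∧ ∃ (σ : Equiv.Perm (Fin n)) (m w : ℤ),
      (((∀ i : Fin n, T.m (σ i) = m) ∧
        (∀ i : Fin n, T.w (σ i) = w) ∧
        (∀ i j : Fin n, i.val < j.val → j.val = i.val + 1 → T.a (σ i) (σ j) = w) ∧
        (∀ i j : Fin n, i.val < j.val → i.val = 0 ∧ j.val + 1 = n → T.a (σ i) (σ j) = w) ∧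
        (∀ i j : Fin n, i.val < j.val → ¬ (j.val = i.val + 1) → ¬ (i.val = 0 ∧ j.val + 1 = n) → T.a (σ i) (σ j) = 0)) ∨
      ((∀ i : Fin n, i.val + 1 < n → T.m (σ i) = 2 * m) ∧
        (∀ i : Fin n, i.val + 1 = n → T.m (σ i) = m) ∧
        (∀ i : Fin n, i.val = 0 → T.w (σ i) = w) ∧
        (∀ i : Fin n, 0 < i.val ∧ i.val + 1 < n → T.w (σ i) = 2 * w) ∧
        (∀ i : Fin n, i.val + 1 = n → T.w (σ i) = 4 * w) ∧
        (∀ i j : Fin n, i.val < j.val → j.val = i.val + 1 ∧ j.val + 1 < n → T.a (σ i) (σ j) = 2 * w) ∧
        (∀ i j : Fin n, i.val < j.val → j.val = i.val + 1 ∧ j.val + 1 = n → T.a (σ i) (σ j) = 4 * w) ∧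
        (∀ i j : Fin n, i.val < j.val → ¬ (j.val = i.val + 1 ∧ j.val + 1 < n) → ¬ (j.val = i.val + 1 ∧ j.val + 1 = n) → T.a (σ i) (σ j) = 0)) ∨
      ((∀ i : Fin n, T.m (σ i) = m) ∧
        (∀ i : Fin n, i.val = 0 → T.w (σ i) = w) ∧
        (∀ i : Fin n, 0 < i.val ∧ i.val + 1 < n → T.w (σ i) = 2 * w) ∧
        (∀ i : Fin n, i.val + 1 = n → T.w (σ i) = w) ∧
        (∀ i j : Fin n, i.val < j.val → j.val = i.val + 1 → T.a (σ i) (σ j) = 2 * w) ∧
        (∀ i j : Fin n, i.val < j.val → ¬ (j.val = i.val + 1) → T.a (σ i) (σ j) = 0)) ∨
      ((∀ i : Fin n, i.val = 0 → T.m (σ i) = m) ∧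
        (∀ i : Fin n, 0 < i.val ∧ i.val + 1 < n → T.m (σ i) = 2 * m) ∧
        (∀ i : Fin n, i.val + 1 = n → T.m (σ i) = m) ∧
        (∀ i : Fin n, i.val = 0 → T.w (σ i) = 2 * w) ∧
        (∀ i : Fin n, 0 < i.val ∧ i.val + 1 < n → T.w (σ i) = w) ∧
        (∀ i : Fin n, i.val + 1 = n → T.w (σ i) = 2 * w) ∧
        (∀ i j : Fin n, i.val < j.val → i.val = 0 ∧ j.val = 1 → T.a (σ i) (σ j) = 2 * w) ∧
        (∀ i j : Fin n, i.val < j.val → j.val = i.val + 1 ∧ 1 ≤ i.val ∧ j.val + 2 ≤ n → T.a (σ i) (σ j) = w) ∧
        (∀ i j : Fin n, i.val < j.val → j.val = i.val + 1 ∧ j.val + 1 = n → T.a (σ i) (σ j) = 2 * w) ∧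
        (∀ i j : Fin n, i.val < j.val → ¬ (i.val = 0 ∧ j.val = 1) → ¬ (j.val = i.val + 1 ∧ 1 ≤ i.val ∧ j.val + 2 ≤ n) → ¬ (j.val = i.val + 1 ∧ j.val + 1 = n) → T.a (σ i) (σ j) = 0)) ∨
      ((∀ i : Fin n, i.val = 0 → T.m (σ i) = m) ∧
        (∀ i : Fin n, 1 ≤ i.val ∧ i.val + 2 < n → T.m (σ i) = 2 * m) ∧
        (∀ i : Fin n, n ≤ i.val + 2 → T.m (σ i) = m) ∧
        (∀ i : Fin n, i.val = 0 → T.w (σ i) = 2 * w) ∧
        (∀ i : Fin n, 0 < i.val → T.w (σ i) = w) ∧
        (∀ i j : Fin n, i.val < j.val → i.val = 0 ∧ j.val = 1 → T.a (σ i) (σ j) = 2 * w) ∧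
        (∀ i j : Fin n, i.val < j.val → j.val = i.val + 1 ∧ 1 ≤ i.val ∧ j.val + 2 ≤ n → T.a (σ i) (σ j) = w) ∧
        (∀ i j : Fin n, i.val < j.val → i.val + 3 = n ∧ j.val + 1 = n → T.a (σ i) (σ j) = w) ∧
        (∀ i j : Fin n, i.val < j.val → ¬ (i.val = 0 ∧ j.val = 1) → ¬ (j.val = i.val + 1 ∧ 1 ≤ i.val ∧ j.val + 2 ≤ n) → ¬ (i.val + 3 = n ∧ j.val + 1 = n) → T.a (σ i) (σ j) = 0)) ∨
      ((∀ i : Fin n, i.val + 2 < n → T.m (σ i) = 2 * m) ∧
        (∀ i : Fin n, n ≤ i.val + 2 → T.m (σ i) = m) ∧
        (∀ i : Fin n, i.val = 0 → T.w (σ i) = w) ∧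
        (∀ i : Fin n, 0 < i.val → T.w (σ i) = 2 * w) ∧
        (∀ i j : Fin n, i.val < j.val → j.val = i.val + 1 ∧ j.val + 2 ≤ n → T.a (σ i) (σ j) = 2 * w) ∧
        (∀ i j : Fin n, i.val < j.val → i.val + 3 = n ∧ j.val + 1 = n → T.a (σ i) (σ j) = 2 * w) ∧
        (∀ i j : Fin n, i.val < j.val → ¬ (j.val = i.val + 1 ∧ j.val + 2 ≤ n) → ¬ (i.val + 3 = n ∧ j.val + 1 = n) → T.a (σ i) (σ j) = 0)) ∨
      ((∀ i : Fin n, i.val ≤ 1 → T.m (σ i) = m) ∧
        (∀ i : Fin n, 2 ≤ i.val ∧ i.val + 2 < n → T.m (σ i) = 2 * m) ∧
        (∀ i : Fin n, n ≤ i.val + 2 → T.m (σ i) = m) ∧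
        (∀ i : Fin n, T.w (σ i) = w) ∧
        (∀ i j : Fin n, i.val < j.val → i.val = 0 ∧ j.val = 2 → T.a (σ i) (σ j) = w) ∧
        (∀ i j : Fin n, i.val < j.val → i.val = 1 ∧ j.val = 2 → T.a (σ i) (σ j) = w) ∧
        (∀ i j : Fin n, i.val < j.val → j.val = i.val + 1 ∧ 2 ≤ i.val ∧ j.val + 2 ≤ n → T.a (σ i) (σ j) = w) ∧
        (∀ i j : Fin n, i.val < j.val → i.val + 3 = n ∧ j.val + 1 = n → T.a (σ i) (σ j) = w) ∧
        (∀ i j : Fin n, i.val < j.val → ¬ (i.val = 0 ∧ j.val = 2) → ¬ (i.val = 1 ∧ j.val = 2) → ¬ (j.val = i.val + 1 ∧ 2 ≤ i.val ∧ j.val + 2 ≤ n) → ¬ (i.val + 3 = n ∧ j.val + 1 = n) → T.a (σ i) (σ j) = 0))) := by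
  have h0 := fun i => Groth.Agent.Lib.NumType97.genus_one_minimal T (by omega) hmin hg i
  have h2 : ∀ i, T.a i i = -2 * T.w i := fun i => (h0 i).2
  refine ⟨fun i => (h0 i).1, h2, ?_⟩
  rcases classify h2 (by omega) with hR | hR | hR | hR | ⟨hn5, hR | hR⟩ | ⟨hn6, hR⟩ | ⟨hn4, hR⟩ |
    ⟨hn5e, hR⟩ | ⟨hn7, hR⟩ | ⟨hn8, hR⟩ | ⟨hn9, hR⟩
  · -- cyc
    obtain ⟨σ, m, w, hM, hW, hA⟩ := hR.toPerm
    refine ⟨σ, m, w, Or.inl ⟨?_, ?_, ?_, ?_, ?_⟩⟩
    · intro i
      have hi' := i.isLt
      rw [hM i]
      simp only [cyc]
      (try split_ifs) <;> first | contradiction | omega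
    · intro i
      have hi' := i.isLt
      rw [hW i]
      simp only [cyc]
      (try split_ifs) <;> first | contradiction | omega
    · intro i j hij hc0
      have hi' := i.isLt
      have hj' := j.isLt
      rw [hA i j (by rintro rfl; omega)]
      simp only [cyc]
      unfold nbCyc
      split_ifs <;> simp only [lookup_cons, lookup_nil] <;> (try split_ifs) <;>
        first | contradiction | omega
    · intro i j hij hc0
      have hi' := i.isLt
      have hj' := j.isLt
      rw [hA i j (by rintro rfl; omega)]
      simp only [cyc]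
      unfold nbCyc
      split_ifs <;> simp only [lookup_cons, lookup_nil] <;> (try split_ifs) <;>
        first | contradiction | omega
    · intro i j hij hc0 hc1
      have hi' := i.isLt
      have hj' := j.isLt
      rw [hA i j (by rintro rfl; omega)]
      simp only [cyc]
      unfold nbCyc
      split_ifs <;> simp only [lookup_cons, lookup_nil] <;> (try split_ifs) <;>
        first | contradiction | omega
  · -- chUD
    obtain ⟨σ, m, w, hM, hW, hA⟩ := hR.toPerm
    refine ⟨σ, m, w, Or.inr (Or.inr (Or.inl ⟨?_, ?_, ?_, ?_, ?_, ?_⟩))⟩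
    · intro i
      have hi' := i.isLt
      rw [hM i]
      simp only [chUD]
      (try split_ifs) <;> first | contradiction | omega
    · intro i hc
      have hi' := i.isLt
      rw [hW i]
      simp only [chUD]
      (try split_ifs) <;> first | contradiction | omega
    · intro i hc
      have hi' := i.isLt
      rw [hW i]
      simp only [chUD]
      (try split_ifs) <;> first | contradiction | omega
    · intro i hc
      have hi' := i.isLt
      rw [hW i]
      simp only [chUD]
      (try split_ifs) <;> first | contradiction | omega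
    · intro i j hij hc0
      have hi' := i.isLt
      have hj' := j.isLt
      rw [hA i j (by rintro rfl; omega)]
      simp only [chUD]
      unfold nbDD
      split_ifs <;> simp only [lookup_cons, lookup_nil] <;> (try split_ifs) <;>
        first | contradiction | omega
    · intro i j hij hc0
      have hi' := i.isLt
      have hj' := j.isLt
      rw [hA i j (by rintro rfl; omega)]
      simp only [chUD]
      unfold nbDD
      split_ifs <;> simp only [lookup_cons, lookup_nil] <;> (try split_ifs) <;>
        first | contradiction | omega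
  · -- chUU
    obtain ⟨σ, m, w, hM, hW, hA⟩ := hR.toPerm
    refine ⟨σ, m, w, Or.inr (Or.inl ⟨?_, ?_, ?_, ?_, ?_, ?_, ?_, ?_⟩)⟩
    · intro i hc
      have hi' := i.isLt
      rw [hM i]
      simp only [chUU]
      (try split_ifs) <;> first | contradiction | omega
    · intro i hc
      have hi' := i.isLt
      rw [hM i]
      simp only [chUU]
      (try split_ifs) <;> first | contradiction | omega
    · intro i hc
      have hi' := i.isLt
      rw [hW i]
      simp only [chUU]
      (try split_ifs) <;> first | contradiction | omega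
    · intro i hc
      have hi' := i.isLt
      rw [hW i]
      simp only [chUU]
      (try split_ifs) <;> first | contradiction | omega
    · intro i hc
      have hi' := i.isLt
      rw [hW i]
      simp only [chUU]
      (try split_ifs) <;> first | contradiction | omega
    · intro i j hij hc0
      have hi' := i.isLt
      have hj' := j.isLt
      rw [hA i j (by rintro rfl; omega)]
      simp only [chUU]
      unfold nbDD
      split_ifs <;> simp only [lookup_cons, lookup_nil] <;> (try split_ifs) <;>
        first | contradiction | omega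
    · intro i j hij hc0
      have hi' := i.isLt
      have hj' := j.isLt
      rw [hA i j (by rintro rfl; omega)]
      simp only [chUU]
      unfold nbDD
      split_ifs <;> simp only [lookup_cons, lookup_nil] <;> (try split_ifs) <;>
        first | contradiction | omega
    · intro i j hij hc0 hc1
      have hi' := i.isLt
      have hj' := j.isLt
      rw [hA i j (by rintro rfl; omega)]
      simp only [chUU]
      unfold nbDD
      split_ifs <;> simp only [lookup_cons, lookup_nil] <;> (try split_ifs) <;>
        first | contradiction | omega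
  · -- chDU
    obtain ⟨σ, m, w, hM, hW, hA⟩ := hR.toPerm
    refine ⟨σ, m, w, Or.inr (Or.inr (Or.inr (Or.inl ⟨?_, ?_, ?_, ?_, ?_, ?_, ?_, ?_, ?_, ?_⟩)))⟩
    · intro i hc
      have hi' := i.isLt
      rw [hM i]
      simp only [chDU]
      (try split_ifs) <;> first | contradiction | omega
    · intro i hc
      have hi' := i.isLt
      rw [hM i]
      simp only [chDU]
      (try split_ifs) <;> first | contradiction | omega
    · intro i hc
      have hi' := i.isLt
      rw [hM i]
      simp only [chDU]
      (try split_ifs) <;> first | contradiction | omega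
    · intro i hc
      have hi' := i.isLt
      rw [hW i]
      simp only [chDU]
      (try split_ifs) <;> first | contradiction | omega
    · intro i hc
      have hi' := i.isLt
      rw [hW i]
      simp only [chDU]
      (try split_ifs) <;> first | contradiction | omega
    · intro i hc
      have hi' := i.isLt
      rw [hW i]
      simp only [chDU]
      (try split_ifs) <;> first | contradiction | omega
    · intro i j hij hc0
      have hi' := i.isLt
      have hj' := j.isLt
      rw [hA i j (by rintro rfl; omega)]
      simp only [chDU]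
      unfold nbDD
      split_ifs <;> simp only [lookup_cons, lookup_nil] <;> (try split_ifs) <;>
        first | contradiction | omega
    · intro i j hij hc0
      have hi' := i.isLt
      have hj' := j.isLt
      rw [hA i j (by rintro rfl; omega)]
      simp only [chDU]
      unfold nbDD
      split_ifs <;> simp only [lookup_cons, lookup_nil] <;> (try split_ifs) <;>
        first | contradiction | omega
    · intro i j hij hc0
      have hi' := i.isLt
      have hj' := j.isLt
      rw [hA i j (by rintro rfl; omega)]
      simp only [chDU]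
      unfold nbDD
      split_ifs <;> simp only [lookup_cons, lookup_nil] <;> (try split_ifs) <;>
        first | contradiction | omega
    · intro i j hij hc0 hc1 hc2
      have hi' := i.isLt
      have hj' := j.isLt
      rw [hA i j (by rintro rfl; omega)]
      simp only [chDU]
      unfold nbDD
      split_ifs <;> simp only [lookup_cons, lookup_nil] <;> (try split_ifs) <;>
        first | contradiction | omega
  · -- dU
    obtain ⟨σ, m, w, hM, hW, hA⟩ := hR.toPerm
    refine ⟨σ, m, w, Or.inr (Or.inr (Or.inr (Or.inr (Or.inl ⟨?_, ?_, ?_, ?_, ?_, ?_, ?_, ?_, ?_⟩))))⟩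
    · intro i hc
      have hi' := i.isLt
      rw [hM i]
      simp only [dU]
      (try split_ifs) <;> first | contradiction | omega
    · intro i hc
      have hi' := i.isLt
      rw [hM i]
      simp only [dU]
      (try split_ifs) <;> first | contradiction | omega
    · intro i hc
      have hi' := i.isLt
      rw [hM i]
      simp only [dU]
      (try split_ifs) <;> first | contradiction | omega
    · intro i hc
      have hi' := i.isLt
      rw [hW i]
      simp only [dU]
      (try split_ifs) <;> first | contradiction | omega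
    · intro i hc
      have hi' := i.isLt
      rw [hW i]
      simp only [dU]
      (try split_ifs) <;> first | contradiction | omega
    · intro i j hij hc0
      have hi' := i.isLt
      have hj' := j.isLt
      rw [hA i j (by rintro rfl; omega)]
      simp only [dU]
      unfold nbDF
      split_ifs <;> simp only [lookup_cons, lookup_nil] <;> (try split_ifs) <;>
        first | contradiction | omega
    · intro i j hij hc0
      have hi' := i.isLt
      have hj' := j.isLt
      rw [hA i j (by rintro rfl; omega)]
      simp only [dU]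
      unfold nbDF
      split_ifs <;> simp only [lookup_cons, lookup_nil] <;> (try split_ifs) <;>
        first | contradiction | omega
    · intro i j hij hc0
      have hi' := i.isLt
      have hj' := j.isLt
      rw [hA i j (by rintro rfl; omega)]
      simp only [dU]
      unfold nbDF
      split_ifs <;> simp only [lookup_cons, lookup_nil] <;> (try split_ifs) <;>
        first | contradiction | omega
    · intro i j hij hc0 hc1 hc2
      have hi' := i.isLt
      have hj' := j.isLt
      rw [hA i j (by rintro rfl; omega)]
      simp only [dU]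
      unfold nbDF
      split_ifs <;> simp only [lookup_cons, lookup_nil] <;> (try split_ifs) <;>
        first | contradiction | omega
  · -- dD
    obtain ⟨σ, m, w, hM, hW, hA⟩ := hR.toPerm
    refine ⟨σ, m, w, Or.inr (Or.inr (Or.inr (Or.inr (Or.inr (Or.inl ⟨?_, ?_, ?_, ?_, ?_, ?_, ?_⟩)))))⟩
    · intro i hc
      have hi' := i.isLt
      rw [hM i]
      simp only [dD]
      (try split_ifs) <;> first | contradiction | omega
    · intro i hc
      have hi' := i.isLt
      rw [hM i]
      simp only [dD]
      (try split_ifs) <;> first | contradiction | omega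
    · intro i hc
      have hi' := i.isLt
      rw [hW i]
      simp only [dD]
      (try split_ifs) <;> first | contradiction | omega
    · intro i hc
      have hi' := i.isLt
      rw [hW i]
      simp only [dD]
      (try split_ifs) <;> first | contradiction | omega
    · intro i j hij hc0
      have hi' := i.isLt
      have hj' := j.isLt
      rw [hA i j (by rintro rfl; omega)]
      simp only [dD]
      unfold nbDF
      split_ifs <;> simp only [lookup_cons, lookup_nil] <;> (try split_ifs) <;>
        first | contradiction | omega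
    · intro i j hij hc0
      have hi' := i.isLt
      have hj' := j.isLt
      rw [hA i j (by rintro rfl; omega)]
      simp only [dD]
      unfold nbDF
      split_ifs <;> simp only [lookup_cons, lookup_nil] <;> (try split_ifs) <;>
        first | contradiction | omega
    · intro i j hij hc0 hc1
      have hi' := i.isLt
      have hj' := j.isLt
      rw [hA i j (by rintro rfl; omega)]
      simp only [dD]
      unfold nbDF
      split_ifs <;> simp only [lookup_cons, lookup_nil] <;> (try split_ifs) <;>
        first | contradiction | omega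
  · -- dF
    obtain ⟨σ, m, w, hM, hW, hA⟩ := hR.toPerm
    refine ⟨σ, m, w, Or.inr (Or.inr (Or.inr (Or.inr (Or.inr (Or.inr (⟨?_, ?_, ?_, ?_, ?_, ?_, ?_, ?_, ?_⟩))))))⟩
    · intro i hc
      have hi' := i.isLt
      rw [hM i]
      simp only [dF, uFF]
      (try split_ifs) <;> first | contradiction | omega
    · intro i hc
      have hi' := i.isLt
      rw [hM i]
      simp only [dF, uFF]
      (try split_ifs) <;> first | contradiction | omega
    · intro i hc
      have hi' := i.isLt
      rw [hM i]
      simp only [dF, uFF]
      (try split_ifs) <;> first | contradiction | omega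
    · intro i
      have hi' := i.isLt
      rw [hW i]
      simp only [dF, uFF]
      (try split_ifs) <;> first | contradiction | omega
    · intro i j hij hc0
      have hi' := i.isLt
      have hj' := j.isLt
      rw [hA i j (by rintro rfl; omega)]
      simp only [dF, uFF]
      unfold nbFF
      split_ifs <;> simp only [lookup_cons, lookup_nil] <;> (try split_ifs) <;>
        first | contradiction | omega
    · intro i j hij hc0
      have hi' := i.isLt
      have hj' := j.isLt
      rw [hA i j (by rintro rfl; omega)]
      simp only [dF, uFF]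
      unfold nbFF
      split_ifs <;> simp only [lookup_cons, lookup_nil] <;> (try split_ifs) <;>
        first | contradiction | omega
    · intro i j hij hc0
      have hi' := i.isLt
      have hj' := j.isLt
      rw [hA i j (by rintro rfl; omega)]
      simp only [dF, uFF]
      unfold nbFF
      split_ifs <;> simp only [lookup_cons, lookup_nil] <;> (try split_ifs) <;>
        first | contradiction | omega
    · intro i j hij hc0
      have hi' := i.isLt
      have hj' := j.isLt
      rw [hA i j (by rintro rfl; omega)]
      simp only [dF, uFF]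
      unfold nbFF
      split_ifs <;> simp only [lookup_cons, lookup_nil] <;> (try split_ifs) <;>
        first | contradiction | omega
    · intro i j hij hc0 hc1 hc2 hc3
      have hi' := i.isLt
      have hj' := j.isLt
      rw [hA i j (by rintro rfl; omega)]
      simp only [dF, uFF]
      unfold nbFF
      split_ifs <;> simp only [lookup_cons, lookup_nil] <;> (try split_ifs) <;>
        first | contradiction | omega
  · exfalso; omega
  · exfalso; omega
  · exfalso; omega
  · exfalso; omega
  · exfalso; omega

end Groth.Agent.S7371
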