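import Groth.Statements.S7385
import Groth.Agent.Lib.GenPts45

set_option autoImplicit false
universe u
open CategoryTheory AlgebraicGeometry
open Mor

namespace Groth.Agent.S7385

/-- Let `X` be a quasi-separated scheme and `η_1, …, η_n` pairwise distinct points, each the generic
point of an irreducible component of `X`. Then there are affine open neighbourhoods `U_i ∋ η_i`
which are pairwise disjoint, and their union is an affine open containing all the `η_i`. -/
theorem result (X : Scheme.{u}) [QuasiSeparatedSpace X] {n : ℕ}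
    (η : Fin n → X) (hη : ∀ i, closure ({η i} : Set X) ∈ irreducibleComponents (X : Type u))
    (hinj : Function.Injective η) :
    ∃ U : Fin n → X.Opens, (∀ i, IsAffineOpen (U i) ∧ η i ∈ U i) ∧
      (∀ i j, i ≠ j → Disjoint (U i) (U j)) ∧ IsAffineOpen (⨆ i, U i) := by
  classical
  have hgen : ∀ i, ∀ x : X, x ⤳ η i → x = η i := fun i x hx =>
    Groth.Agent.Lib.GenFin45.eq_of_specializes_of_mem_irreducibleComponents (hη i) hx
  have hqs : IsQuasiSeparated ((⊤ : X.Opens) : Set X) := by
    rw [TopologicalSpace.Opens.coe_top]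
    exact isQuasiSeparated_univ
  obtain ⟨W, hW, -, hFW⟩ := Groth.Agent.Lib.GenFin45.exists_isAffineOpen_of_finite
    (⊤ : X.Opens) hqs (Set.range η) (Set.finite_range η) (fun _ _ => trivial)
    (by rintro _ ⟨i, rfl⟩; exact hgen i)
  obtain ⟨a, ha, hdisj⟩ := Groth.Agent.Lib.GenPts45.exists_pairwise_disjoint_basicOpen hW η
    (fun i => hFW ⟨i, rfl⟩) hgen hinj
  refine ⟨fun i => X.basicOpen (a i), fun i => ⟨hW.basicOpen (a i), ha i⟩, hdisj, ?_⟩
  exact IsAffineOpen.iSup_of_disjoint (fun i => hW.basicOpen (a i)) (fun i j hij => hdisj i j hij)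

end Groth.Agent.S7385
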