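import Groth.Statements.S7386
import Groth.Agent.Lib.GenPts45

set_option autoImplicit false
universe u
open CategoryTheory AlgebraicGeometry
open Mor

namespace Groth.Agent.S7386

/-- Let `X` be a quasi-separated scheme, `η_1, …, η_n` generic points of irreducible components of `X`
and `x` any point of `X`. Then some affine open of `X` contains `x` and all the `η_i`. -/
theorem result (X : Scheme.{u}) [QuasiSeparatedSpace X] {n : ℕ}
    (η : Fin n → X) (hη : ∀ i, closure ({η i} : Set X) ∈ irreducibleComponents (X : Type u)) (x : X) :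
    ∃ U : X.Opens, IsAffineOpen U ∧ x ∈ U ∧ ∀ i, η i ∈ U := by
  classical
  have hgen : ∀ i, ∀ y : X, y ⤳ η i → y = η i := fun i y hy =>
    Groth.Agent.Lib.GenFin45.eq_of_specializes_of_mem_irreducibleComponents (hη i) hy
  have hqs : IsQuasiSeparated ((⊤ : X.Opens) : Set X) := by
    rw [TopologicalSpace.Opens.coe_top]
    exact isQuasiSeparated_univ
  obtain ⟨_, ⟨U, hU, rfl⟩, hxU, -⟩ := X.isBasis_affineOpens.exists_subset_of_mem_open
    (Set.mem_univ x) isOpen_univ
  replace hU : IsAffineOpen U := hU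
  obtain ⟨U, rfl⟩ : ∃ U' : X.Opens, U' = U := ⟨U, rfl⟩
  obtain ⟨V, hV, -, hFV, hVU⟩ := Groth.Agent.Lib.GenPts45.exists_isAffineOpen_of_finite_disjoint
    (⊤ : X.Opens) hqs U le_top hU.isCompact ((Set.range η) \ (U : Set X))
    ((Set.finite_range η).sdiff) (fun _ _ => trivial) (fun ξ hξ => hξ.2)
    (by rintro _ ⟨⟨i, rfl⟩, -⟩; exact hgen i)
  refine ⟨U ⊔ V, hU.sup_of_disjoint hV hVU.symm, Or.inl hxU, fun i => ?_⟩
  by_cases hi : η i ∈ U
  · exact Or.inl hi
  · exact Or.inr (hFV ⟨⟨i, rfl⟩, hi⟩)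

end Groth.Agent.S7386
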