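import Groth.Statements.S7387
import Groth.Agent.Lib.SepDisj45
import Mathlib.AlgebraicGeometry.Morphisms.QuasiCompact

set_option autoImplicit false
universe u
open CategoryTheory AlgebraicGeometry
open Mor

namespace Groth.Agent.S7387

/-- A quasi-compact scheme has a dense open subscheme which is separated. -/
theorem result (X : Scheme.{u}) [CompactSpace X] :
    ∃ V : X.Opens, Dense (V : Set X) ∧ (V : Scheme.{u}).IsSeparated := by
  classical
  have hc : IsCompact (X := X) ((⊤ : X.Opens) : Set X) := by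
    rw [TopologicalSpace.Opens.coe_top]; exact isCompact_univ
  obtain ⟨s, hsfin, hs⟩ := isCompact_iff_finite_and_eq_biUnion_affineOpens.mp hc
  have : Finite s := hsfin.to_subtype
  obtain ⟨n, ⟨e⟩⟩ := Finite.exists_equiv_fin s
  let U : Fin n → X.Opens := fun k => ((e.symm k : s) : X.affineOpens)
  have hUaff : ∀ k, IsAffineOpen (U k) := fun k => (e.symm k).1.2
  have hUcov : ∀ x : X, ∃ k, x ∈ U k := by
    intro x
    have hx : x ∈ (⊤ : X.Opens) := trivial
    rw [hs] at hx
    simp only [TopologicalSpace.Opens.mem_iSup] at hx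
    obtain ⟨i, hi, hx⟩ := hx
    refine ⟨e ⟨i, hi⟩, ?_⟩
    simpa [U] using hx
  let C : Fin n → Set X := fun k => closure (⋃ j, ⋃ (_ : j < k), (U j : Set X))
  let W : Fin n → X.Opens := fun k =>
    ⟨(U k : Set X) ∩ (C k)ᶜ, (U k).isOpen.inter isClosed_closure.isOpen_compl⟩
  have hWU : ∀ k, W k ≤ U k := fun k x hx => hx.1
  have hdisj : Pairwise (Function.onFun Disjoint W) := by
    intro j k hjk
    rw [Function.onFun, ← TopologicalSpace.Opens.coe_disjoint, Set.disjoint_left]
    intro x hxj hxk
    rcases lt_or_gt_of_ne hjk with h | h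
    · exact hxk.2 (subset_closure (Set.mem_iUnion₂.mpr ⟨j, h, hxj.1⟩))
    · exact hxj.2 (subset_closure (Set.mem_iUnion₂.mpr ⟨k, h, hxk.1⟩))
  refine ⟨⨆ k, W k, ?_,
    Groth.Agent.Lib.SepDisj45.isSeparated_iSup_of_disjoint W U hUaff hWU hdisj⟩
  have key : ∀ k, (U k : Set X) ⊆ closure (⋃ j, (W j : Set X)) := by
    intro k
    induction k using WellFoundedLT.induction with
    | ind k ih =>
      intro x hxU
      by_cases hx : x ∈ C k
      · refine closure_minimal ?_ isClosed_closure hx
        intro y hy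
        obtain ⟨j, hj, hyj⟩ := Set.mem_iUnion₂.mp hy
        exact ih j hj hyj
      · exact subset_closure (Set.mem_iUnion.mpr ⟨k, ⟨hxU, hx⟩⟩)
  intro x
  obtain ⟨k, hk⟩ := hUcov x
  rw [TopologicalSpace.Opens.coe_iSup]
  exact key k hk

end Groth.Agent.S7387
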