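import Groth.Statements.S7388
import Groth.Agent.Lib.GradedAvoid
import Groth.Agent.Lib.H60FinitePointsAffine
import Groth.Agent.Lib.GrModVal

set_option autoImplicit false
universe u
open CategoryTheory AlgebraicGeometry
open Mor

namespace Groth.Agent.S7388

theorem result' {R A : Type u} [CommRing R] [CommRing A] [Algebra R A]
    (𝒜 : ℕ → Submodule R A) [GradedAlgebra 𝒜] {X : Scheme.{u}} (ι : X ⟶ Proj 𝒜) [IsImmersion ι]
    (E : Set X) (hE : E.Finite) :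
    ∃ U : X.Opens, IsAffineOpen U ∧ E ⊆ U := by
  classical
  let P : Finset (Ideal A) :=
    hE.toFinset.image (fun x => (ι.base x).asHomogeneousIdeal.toIdeal)
  obtain ⟨f, d, hd, hfd, -, hf⟩ := Groth.Agent.Lib.GradedAvoid.gpa 𝒜 ⊤ _ P rfl (by
    intro p hp
    obtain ⟨x, -, rfl⟩ := Finset.mem_image.1 hp
    refine ⟨(ι.base x).isPrime, ?_⟩
    obtain ⟨d, hd, z, hz⟩ := Groth.Agent.Lib.GrModVal.exists_pos_notMem (ι.base x)
    exact ⟨z.1, d, hd, z.2, trivial, hz⟩)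
  have hV : IsAffineOpen (Proj.basicOpen 𝒜 f) := Proj.isAffineOpen_basicOpen 𝒜 f hfd hd
  haveI : IsAffine (Proj.basicOpen 𝒜 f : Scheme.{u}) := hV
  have hEV : ∀ x ∈ E, x ∈ ι ⁻¹ᵁ Proj.basicOpen 𝒜 f := by
    intro x hx
    exact hf _ (Finset.mem_image.2 ⟨x, hE.mem_toFinset.2 hx, rfl⟩)
  obtain ⟨U', hU', hEU'⟩ :=
    Groth.Agent.Lib.H60FinitePointsAffine.exists_isAffineOpen_of_finite_of_isImmersion
      (ι ∣_ Proj.basicOpen 𝒜 f) ((ι ⁻¹ᵁ Proj.basicOpen 𝒜 f).ι.base ⁻¹' E)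
      (hE.preimage (Set.injOn_of_injective (ι ⁻¹ᵁ Proj.basicOpen 𝒜 f).ι.isOpenEmbedding.injective))
  refine ⟨(ι ⁻¹ᵁ Proj.basicOpen 𝒜 f).ι ''ᵁ U', hU'.image_of_isOpenImmersion _, ?_⟩
  intro x hx
  exact ⟨⟨x, hEV x hx⟩, hEU' (show (ι ⁻¹ᵁ Proj.basicOpen 𝒜 f).ι.base ⟨x, hEV x hx⟩ ∈ E from hx), rfl⟩


/-- Let `X` be a scheme admitting an immersion into `Proj S` for some graded ring `S`. Then any finite
set of points of `X` is contained in an affine open of `X`. -/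
theorem result {R A : Type u} [CommRing R] [CommRing A] [Algebra R A]
    (𝒜 : ℕ → Submodule R A) [GradedAlgebra 𝒜] {X : Scheme.{u}} (ι : X ⟶ Proj 𝒜) [IsImmersion ι]
    (E : Set X) (hE : E.Finite) :
    ∃ U : X.Opens, IsAffineOpen U ∧ E ⊆ U := by
  exact result' 𝒜 ι E hE

end Groth.Agent.S7388
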