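import Groth.Statements.S7392
import Groth.Agent.Lib.LocProjective

set_option autoImplicit false
universe u
open CategoryTheory AlgebraicGeometry
open Opposite
open Mor

namespace Groth.Agent.S7392

/-- Projectivity is invariant under changing the base ring along a ring isomorphism. -/
theorem projective_compHom_iff {R S : Type*} [CommRing R] [CommRing S] (e : R ≃+* S)
    (N : Type*) [AddCommGroup N] [Module S N] :
    letI : Module R N := Module.compHom N (e : R →+* S)
    Module.Projective R N ↔ Module.Projective S N := by
  letI : Module R N := Module.compHom N (e : R →+* S)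
  letI := RingHomInvPair.of_ringEquiv e
  letI := RingHomInvPair.symm (e : R →+* S) (e.symm : S →+* R)
  let l : N ≃ₛₗ[(e : R →+* S)] N :=
    { toFun := id, invFun := id, map_add' := fun _ _ => rfl, map_smul' := fun _ _ => rfl,
      left_inv := fun _ => rfl, right_inv := fun _ => rfl }
  constructor
  · intro h
    exact Module.Projective.of_equiv l
  · intro h
    exact Module.Projective.of_equiv l.symm

/-- The canonical ring isomorphism `A ≃ Γ(Spec A, ⊤)` in the form used by the `A`-module
structure on sections of modules over `Spec A`. -/
noncomputable def topEquiv (A : CommRingCat.{u}) : A ≃+* Γ(Spec A, ⊤) :=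
  RingEquiv.ofBijective
    ((Scheme.ΓSpecIso A).inv ≫ (Spec A).presheaf.map (⊤ : (Spec A).Opens).leTop.op).hom (by
      have : IsIso ((Scheme.ΓSpecIso A).inv ≫
          (Spec A).presheaf.map (⊤ : (Spec A).Opens).leTop.op) := by
        have : (⊤ : (Spec A).Opens).leTop = 𝟙 _ := Subsingleton.elim _ _
        rw [this, op_id, (Spec A).presheaf.map_id]
        infer_instance
      exact (ConcreteCategory.isIso_iff_bijective _).mp this)

theorem projective_top_iff (A : CommRingCat.{u}) (N : (Spec A).Modules) :
    Module.Projective Γ(Spec A, ⊤) Γ(N, ⊤) ↔ Module.Projective A Γ(N, ⊤) :=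
  (projective_compHom_iff (topEquiv A) Γ(N, ⊤)).symm

/-- For a ring `A` and an `A`-module `M`, the module `M~` on `Spec A` is locally projective (projective
sections over every affine open) if and only if `M` is a projective `A`-module. -/
theorem result (A : CommRingCat.{u}) (M : ModuleCat.{u} A) :
    (∀ U : (Spec A).Opens, IsAffineOpen U →
      Module.Projective ((Spec A).ringCatSheaf.obj.obj (op U)) ((tilde M).val.obj (op U))) ↔
      Module.Projective A M := by
  have key : Module.Projective Γ(Spec A, ⊤) Γ(tilde M, ⊤) ↔ Module.Projective A M := by
    rw [projective_top_iff]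
    let e : M ≃ₗ[A] Γ(tilde M, ⊤) := (tilde.isoTop M).toLinearEquiv
    exact ⟨fun h => Module.Projective.of_equiv' e.symm, fun h => Module.Projective.of_equiv' e⟩
  constructor
  · intro h
    exact key.mp (h ⊤ (isAffineOpen_top (Spec A)))
  · intro h U hU
    exact Groth.Agent.Lib.LocProjective.projective_of_affine_cover (tilde M)
      (fun _ : PUnit.{1} => (⊤ : (Spec A).Opens)) (by simp) (fun _ => isAffineOpen_top (Spec A))
      (fun _ => key.mpr h) U hU

end Groth.Agent.S7392
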