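import Groth.Statements.S7394
import Mathlib

set_option autoImplicit false
universe u
open CategoryTheory AlgebraicGeometry
open Lim

namespace Groth.Agent.S7394
set_option linter.style.haveILetI false
open AlgebraicGeometry
open CategoryTheory CategoryTheory.Limits

section Helpers

/-- Any family of field extensions of `k` has a common overfield. -/
lemma exists_common_overfield (k : Type u) [Field k] {I : Type u} (L : I → Type u)
    [∀ i, Field (L i)] [∀ i, Algebra k (L i)] :
    ∃ (K : Type u) (_ : Field K) (_ : Algebra k K), ∀ i, Nonempty (L i →ₐ[k] K) := by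
  choose B x hx using fun i => exists_isTranscendenceBasis' k (L i)
  let P := MvPolynomial (Σ i, B i) k
  let K := AlgebraicClosure (FractionRing P)
  refine ⟨K, inferInstance, inferInstance, fun i => ?_⟩
  let R := Algebra.adjoin k (Set.range (x i))
  let g : R →ₐ[k] K := (IsScalarTower.toAlgHom k P K).comp
    ((MvPolynomial.rename (Sigma.mk i)).comp (hx i).1.aevalEquiv.symm.toAlgHom)
  have hg : Function.Injective g := by
    have h1 : Function.Injective (IsScalarTower.toAlgHom k P K) := by
      have : Function.Injective (algebraMap P K) := by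
        rw [IsScalarTower.algebraMap_eq P (FractionRing P) K]
        exact (algebraMap (FractionRing P) K).injective.comp (IsFractionRing.injective P _)
      exact this
    have h2 : Function.Injective (MvPolynomial.rename (Sigma.mk i) :
        MvPolynomial (B i) k →ₐ[k] P) :=
      MvPolynomial.rename_injective _ sigma_mk_injective
    exact h1.comp (h2.comp (hx i).1.aevalEquiv.symm.injective)
  letI : Algebra R K := g.toRingHom.toAlgebra
  haveI : IsScalarTower k R K := IsScalarTower.of_algebraMap_eq' g.comp_algebraMap.symm
  haveI : Algebra.IsAlgebraic R (L i) := (hx i).isAlgebraic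
  haveI : Module.IsTorsionFree R K := Module.isTorsionFree_iff_algebraMap_injective.mpr hg
  let φ : L i →ₐ[R] K := IsAlgClosed.lift
  exact ⟨φ.restrictScalars k⟩

end Helpers


/-- Let `S` be a scheme and `T_i → S`, `i ∈ I`, surjective affine morphisms. Then any product of the
`T_i` in the category of schemes over `S` maps surjectively onto `S`. -/
theorem result {S : Scheme.{u}} {I : Type u} (T : I → Over S)
    (hT : ∀ i, IsAffineHom (T i).hom ∧ Surjective (T i).hom) (c : Limits.Fan T) (hc : Limits.IsLimit c) :
    Surjective c.pt.hom := by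
  refine ⟨fun s => ?_⟩
  choose t ht using fun i => (hT i).2.surj s
  -- the residue field maps
  let ρ : ∀ i, S.residueField s ⟶ (T i).left.residueField (t i) := fun i =>
    (S.residueFieldCongr (ht i)).inv ≫ (T i).hom.residueFieldMap (t i)
  have hρ : ∀ i, Spec.map (ρ i) ≫ S.fromSpecResidueField s =
      (T i).left.fromSpecResidueField (t i) ≫ (T i).hom := by
    intro i
    rw [Spec.map_comp, Category.assoc, Scheme.residueFieldCongr_inv,
      Scheme.residueFieldCongr_fromSpecResidueField,
      Scheme.Hom.SpecMap_residueFieldMap_fromSpecResidueField]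
  letI : ∀ i, Algebra (S.residueField s) ((T i).left.residueField (t i)) :=
    fun i => (ρ i).hom.toAlgebra
  obtain ⟨K, _, _, hφ⟩ := exists_common_overfield (S.residueField s)
    (fun i => (T i).left.residueField (t i))
  choose φ _ using fun i => (⟨(hφ i).some, trivial⟩ :
    ∃ _ : ((T i).left.residueField (t i)) →ₐ[S.residueField s] K, True)
  let σ : Spec (CommRingCat.of K) ⟶ S :=
    Spec.map (CommRingCat.ofHom (algebraMap (S.residueField s) K)) ≫ S.fromSpecResidueField s
  let x : ∀ i, Spec (CommRingCat.of K) ⟶ (T i).left := fun i =>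
    Spec.map (CommRingCat.ofHom (φ i).toRingHom) ≫ (T i).left.fromSpecResidueField (t i)
  have hx : ∀ i, x i ≫ (T i).hom = σ := by
    intro i
    show (Spec.map (CommRingCat.ofHom (φ i).toRingHom) ≫
      (T i).left.fromSpecResidueField (t i)) ≫ (T i).hom = _
    rw [Category.assoc, ← hρ i, ← Category.assoc, ← Spec.map_comp]
    congr 2
    ext r
    exact (φ i).commutes r
  let fan : Fan T := Fan.mk (Over.mk σ) (fun i => Over.homMk (x i) (hx i))
  let l : Over.mk σ ⟶ c.pt := hc.lift fan
  have hl : l.left ≫ c.pt.hom = σ := Over.w l
  obtain ⟨pt⟩ : Nonempty ↥(Spec (CommRingCat.of K)) := inferInstance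
  refine ⟨l.left pt, ?_⟩
  rw [← Scheme.Hom.comp_apply, hl]
  show (S.fromSpecResidueField s) _ = s
  exact Scheme.fromSpecResidueField_apply s _

end Groth.Agent.S7394
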