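import Groth.Statements.S7397
import Mathlib.Order.Interval.Finset.Nat
import Mathlib.Algebra.Ring.Subring.Basic

set_option autoImplicit false
universe u
open Mor

namespace Groth.Agent.S7397

/-- Let `A ⊆ B` be a ring extension and `b ∈ B`, `b ∉ A`, with `b^n, b^(n+1) ∈ A` for some `n ≥ 2`. Then
some `b' ∈ B` with `b' ∉ A` has `b'^2 ∈ A` and `b'^3 ∈ A`. -/
theorem result {B : Type u} [CommRing B] (A : Subring B) (b : B) (hb : b ∉ A)
    (n : ℕ) (hn : 2 ≤ n) (h1 : b ^ n ∈ A) (h2 : b ^ (n + 1) ∈ A) :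
    ∃ b' : B, b' ∉ A ∧ b' ^ 2 ∈ A ∧ b' ^ 3 ∈ A := by
  have hn0 : 0 < n := by omega
  have h1le : 1 ≤ n * n := Nat.mul_pos hn0 hn0
  -- all sufficiently large powers of b lie in A
  have hlarge : ∀ m, n * n ≤ m → b ^ m ∈ A := by
    intro m hm
    have hdecomp : m = (m / n - m % n) * n + (m % n) * (n + 1) := by
      have h1 : m % n < n := Nat.mod_lt _ hn0
      have h2 : n ≤ m / n := by
        rw [Nat.le_div_iff_mul_le hn0]; exact hm
      have h3 : n * (m / n) + m % n = m := Nat.div_add_mod m n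
      have h4 : m % n ≤ m / n := by omega
      have h5 : (m / n - m % n) * n = (m / n) * n - (m % n) * n := Nat.sub_mul _ _ _
      have h6 : (m % n) * n ≤ (m / n) * n := Nat.mul_le_mul_right _ h4
      have h7 : (m / n) * n = n * (m / n) := Nat.mul_comm _ _
      rw [h5, Nat.mul_add, Nat.mul_one]
      omega
    rw [hdecomp, pow_add, pow_mul', pow_mul']
    exact A.mul_mem (A.pow_mem h1 _) (A.pow_mem h2 _)
  classical
  have hb1 : b ^ 1 ∉ A := by simpa using hb
  obtain ⟨m, hmdef⟩ : ∃ m, m = Nat.findGreatest (fun k => b ^ k ∉ A) (n * n) := ⟨_, rfl⟩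
  have hm1 : b ^ m ∉ A := by
    rw [hmdef]
    exact Nat.findGreatest_spec (P := fun k => b ^ k ∉ A) (m := 1) h1le hb1
  have hm0 : 1 ≤ m := by
    rw [hmdef]
    exact Nat.le_findGreatest (P := fun k => b ^ k ∉ A) h1le hb1
  have hgt : ∀ k, m < k → b ^ k ∈ A := by
    intro k hk
    by_cases hkN : k ≤ n * n
    · by_contra hkA
      rw [hmdef] at hk
      exact (Nat.findGreatest_is_greatest (P := fun k => b ^ k ∉ A) hk hkN) hkA
    · exact hlarge k (by omega)
  refine ⟨b ^ m, hm1, ?_, ?_⟩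
  · rw [← pow_mul]; exact hgt _ (by omega)
  · rw [← pow_mul]; exact hgt _ (by omega)

end Groth.Agent.S7397
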