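import Groth.Statements.S7400
-- import your own Groth.Agent.* helpers here
import Groth.Agent.Lib.UHTowerH52

set_option autoImplicit false
universe u
open CategoryTheory AlgebraicGeometry
open Mor

namespace Groth.Agent.S7400

/-- Let `A ⊆ B` be a ring extension. The morphism `Spec B → Spec A` is a universal homeomorphism with
all residue field extensions trivial exactly when each finite subset of `B` is contained in some
`A[b_1, …, b_n] ⊆ B` such that `b_i^2` and `b_i^3` lie in `A[b_1, …, b_{i-1}]` for every `i`. (Here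
`A → B` is an injective ring map and `A[b_1, …, b_{i-1}]` is the `A`-subalgebra generated by the
earlier entries.) -/
theorem result {A B : Type u} [CommRing A] [CommRing B] [Algebra A B]
    (hinj : Function.Injective (algebraMap A B)) :
    (FlatMor.IsUnivHomeo (Spec.map (CommRingCat.ofHom (algebraMap A B))) ∧
      ∀ x : Spec (CommRingCat.of B),
        Function.Surjective ((Spec.map (CommRingCat.ofHom (algebraMap A B))).residueFieldMap x)) ↔
    ∀ E : Finset B, ∃ l : List B, (↑E : Set B) ⊆ Algebra.adjoin A {b : B | b ∈ l} ∧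
      ∀ i : Fin l.length, l.get i ^ 2 ∈ Algebra.adjoin A {b : B | ∃ j : Fin l.length, j < i ∧ b = l.get j} ∧
        l.get i ^ 3 ∈ Algebra.adjoin A {b : B | ∃ j : Fin l.length, j < i ∧ b = l.get j} := by
  rw [Groth.Agent.Lib.UHRingH52.isUnivHomeo_iff, Groth.Agent.Lib.UHRingH52.resSurj_iff]
  constructor
  · rintro ⟨hU, hres⟩ E
    have htop := Groth.Agent.Lib.UHTowerH52.towerSub_eq_top_of_isUH_resTriv hU hres
    obtain ⟨l, hl, hE⟩ := Groth.Agent.Lib.UHTowerH52.exists_tower_of_finset
      Groth.Agent.Lib.UHTowerH52.step23_mono E (fun b _ => by rw [htop]; exact Algebra.mem_top)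
    exact ⟨l, hE, fun i => hl i⟩
  · intro h
    have hex : Groth.Agent.Lib.UHTowerH52.Exhausts A B Groth.Agent.Lib.UHTowerH52.Step23 := by
      apply Groth.Agent.Lib.UHTowerH52.exhausts_of_towers Groth.Agent.Lib.UHTowerH52.step23_mono
      intro b
      obtain ⟨l, hE, hl⟩ := h {b}
      exact ⟨l, fun i => hl i, hE (by simp)⟩
    exact ⟨Groth.Agent.Lib.UHTowerH52.isUH_of_exhausts hinj
      (Groth.Agent.Lib.UHTowerH52.exhausts_of_le (fun C b hb => Or.inl hb) hex),
      Groth.Agent.Lib.UHTowerH52.resTriv_of_exhausts hex⟩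

end Groth.Agent.S7400
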