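import Groth.Statements.S7404
-- import your own Groth.Agent.* helpers here
import Groth.Agent.Lib.UHFactorH52

set_option autoImplicit false
universe u
open CategoryTheory AlgebraicGeometry
open Mor

namespace Groth.Agent.S7404

/-- Let `A → B` be a ring map and `B' ⊆ B` an `A`-subalgebra, with `f : Spec B → Spec A` and `f' : Spec
B' → Spec A` the induced morphisms. Each of the following properties passes from `f` to `f'`: being
a universal homeomorphism; being a universal homeomorphism with trivial residue field extensions;
being universally closed; being both universally closed and universally injective. -/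
theorem result {A B : Type u} [CommRing A] [CommRing B] [Algebra A B]
    (B' : Subalgebra A B) :
    (FlatMor.IsUnivHomeo (Spec.map (CommRingCat.ofHom (algebraMap A B))) →
      FlatMor.IsUnivHomeo (Spec.map (CommRingCat.ofHom (algebraMap A B')))) ∧
    ((FlatMor.IsUnivHomeo (Spec.map (CommRingCat.ofHom (algebraMap A B))) ∧
      ∀ x : Spec (CommRingCat.of B),
        Function.Surjective ((Spec.map (CommRingCat.ofHom (algebraMap A B))).residueFieldMap x)) →
      FlatMor.IsUnivHomeo (Spec.map (CommRingCat.ofHom (algebraMap A B'))) ∧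
      ∀ x : Spec (CommRingCat.of B'),
        Function.Surjective ((Spec.map (CommRingCat.ofHom (algebraMap A B'))).residueFieldMap x)) ∧
    (UniversallyClosed (Spec.map (CommRingCat.ofHom (algebraMap A B))) →
      UniversallyClosed (Spec.map (CommRingCat.ofHom (algebraMap A B')))) ∧
    (UniversallyClosed (Spec.map (CommRingCat.ofHom (algebraMap A B))) →
      UniversallyInjective (Spec.map (CommRingCat.ofHom (algebraMap A B))) →
      UniversallyClosed (Spec.map (CommRingCat.ofHom (algebraMap A B'))) ∧
      UniversallyInjective (Spec.map (CommRingCat.ofHom (algebraMap A B')))) := by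
  have hψ : Function.Injective (algebraMap B' B) := Subtype.val_injective
  have hcomp : algebraMap A B = (algebraMap B' B).comp (algebraMap A B') := rfl
  refine ⟨?_, ?_, ?_, ?_⟩
  · intro h
    rw [Groth.Agent.Lib.UHRingH52.isUnivHomeo_iff] at h ⊢
    rw [hcomp] at h
    exact Groth.Agent.Lib.UHFactorH52.IsUH.left _ _ hψ h
  · rintro ⟨h, hres⟩
    rw [Groth.Agent.Lib.UHRingH52.isUnivHomeo_iff] at h ⊢
    rw [Groth.Agent.Lib.UHRingH52.resSurj_iff] at hres ⊢
    rw [hcomp] at h hres
    exact ⟨Groth.Agent.Lib.UHFactorH52.IsUH.left _ _ hψ h,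
      Groth.Agent.Lib.UHFactorH52.ResTriv.left _ _ hψ h.1 hres⟩
  · intro h
    rw [Groth.Agent.Lib.UHRingH52.universallyClosed_Spec_iff] at h ⊢
    rw [hcomp] at h
    exact RingHom.IsIntegral.tower_bot _ _ hψ h
  · intro h hui
    rw [Groth.Agent.Lib.UHRingH52.universallyClosed_Spec_iff] at h ⊢
    rw [Groth.Agent.Lib.UnivInjRingH52.universallyInjective_Spec_iff] at hui ⊢
    rw [hcomp] at h hui
    exact ⟨RingHom.IsIntegral.tower_bot _ _ hψ h,
      Groth.Agent.Lib.UHFactorH52.uniq_left _ _ hψ h hui⟩

end Groth.Agent.S7404
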