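import Groth.Statements.S7405
-- import your own Groth.Agent.* helpers here
import Groth.Agent.Lib.UHColimH52
import Mathlib.CategoryTheory.Limits.Types.Filtered
import Mathlib.Algebra.Category.Ring.FilteredColimits
import Mathlib.CategoryTheory.Limits.Constructions.Over.Connected

set_option autoImplicit false
universe u
open CategoryTheory AlgebraicGeometry
open Mor

namespace Groth.Agent.S7405

/-- Let `A` be a ring and `B` the colimit of a filtered diagram `j ↦ B_j` of `A`-algebras. Each of the
following properties, when it holds for every `Spec B_j → Spec A`, holds for `Spec B → Spec A`: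
being a universal homeomorphism; being a universal homeomorphism with trivial residue field
extensions; being universally closed; being both universally closed and universally injective. -/
theorem result (A : CommRingCat.{u}) {J : Type u} [SmallCategory J]
    [IsFiltered J] (F : J ⥤ Under A) (c : Limits.Cocone F) (hc : Limits.IsColimit c) :
    ((∀ j, FlatMor.IsUnivHomeo (Spec.map (F.obj j).hom)) → FlatMor.IsUnivHomeo (Spec.map c.pt.hom)) ∧
    ((∀ j, FlatMor.IsUnivHomeo (Spec.map (F.obj j).hom) ∧
        ∀ x : Spec (F.obj j).right, Function.Surjective ((Spec.map (F.obj j).hom).residueFieldMap x)) →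
      FlatMor.IsUnivHomeo (Spec.map c.pt.hom) ∧
        ∀ x : Spec c.pt.right, Function.Surjective ((Spec.map c.pt.hom).residueFieldMap x)) ∧
    ((∀ j, UniversallyClosed (Spec.map (F.obj j).hom)) → UniversallyClosed (Spec.map c.pt.hom)) ∧
    ((∀ j, UniversallyClosed (Spec.map (F.obj j).hom) ∧ UniversallyInjective (Spec.map (F.obj j).hom)) →
      UniversallyClosed (Spec.map c.pt.hom) ∧ UniversallyInjective (Spec.map c.pt.hom)) := by
  have : IsConnected J := IsFiltered.isConnected J
  let G : Under A ⥤ Type u := Under.forget _ ⋙ forget CommRingCat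
  have hG : Limits.IsColimit (G.mapCocone c) := Limits.isColimitOfPreserves G hc
  let φ : A →+* c.pt.right := c.pt.hom.hom
  let φj : ∀ j, A →+* (F.obj j).right := fun j => (F.obj j).hom.hom
  let ι : ∀ j, (F.obj j).right →+* c.pt.right := fun j => (c.ι.app j).right.hom
  have hι : ∀ j, (ι j).comp (φj j) = φ := fun j => by
    have := Under.w (c.ι.app j)
    exact congrArg CommRingCat.Hom.hom this
  have hsurj : ∀ b : c.pt.right, ∃ (j : J) (y : (F.obj j).right), ι j y = b := fun b => by
    obtain ⟨j, y, hy⟩ := Limits.Types.jointly_surjective_of_isColimit hG b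
    exact ⟨j, y, hy⟩
  have hker : ∀ a : A, φ a = 0 → ∃ j, φj j a = 0 := by
    intro a ha
    obtain ⟨j0⟩ := IsFiltered.nonempty (C := J)
    have h0 : ι j0 (φj j0 a) = 0 := by
      have := congrArg (fun f : A →+* c.pt.right => f a) (hι j0)
      exact this.trans ha
    have h3 : (G.mapCocone c).ι.app j0 (φj j0 a) =
        (G.mapCocone c).ι.app j0 (0 : (F.obj j0).right) := by
      change ι j0 (φj j0 a) = ι j0 0
      rw [h0, map_zero]
    obtain ⟨k, f, hf⟩ := (Limits.Types.FilteredColimit.isColimit_eq_iff' hG _ _).1 h3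
    refine ⟨k, ?_⟩
    have hf' : (F.map f).right.hom (φj j0 a) = (F.map f).right.hom 0 := hf
    have hw := Under.w (F.map f)
    have h4 : (F.map f).right.hom (φj j0 a) = φj k a := congrArg (fun g => g.hom a) hw
    rw [← h4, hf', map_zero]
  have e0 : ∀ j, Spec.map (F.obj j).hom = Spec.map (CommRingCat.ofHom (φj j)) := fun j => rfl
  have e1 : Spec.map c.pt.hom = Spec.map (CommRingCat.ofHom φ) := rfl
  refine ⟨?_, ?_, ?_, ?_⟩
  · intro h
    rw [e1, Groth.Agent.Lib.UHRingH52.isUnivHomeo_iff]
    refine Groth.Agent.Lib.UHColimH52.isUH_of_forall φ _ φj ι hι hsurj hker (fun j => ?_)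
    have := h j
    rwa [e0, Groth.Agent.Lib.UHRingH52.isUnivHomeo_iff] at this
  · intro h
    have hU : ∀ j, Groth.Agent.Lib.UHRingH52.IsUH (φj j) := fun j => by
      have := (h j).1
      rwa [e0, Groth.Agent.Lib.UHRingH52.isUnivHomeo_iff] at this
    have hR : ∀ j, Groth.Agent.Lib.UHRingH52.ResTriv (φj j) := fun j =>
      (Groth.Agent.Lib.UHRingH52.resSurj_iff (φj j)).mp (h j).2
    refine ⟨?_, ?_⟩
    · rw [e1, Groth.Agent.Lib.UHRingH52.isUnivHomeo_iff]
      exact Groth.Agent.Lib.UHColimH52.isUH_of_forall φ _ φj ι hι hsurj hker hU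
    · exact (Groth.Agent.Lib.UHRingH52.resSurj_iff φ).mpr
        (Groth.Agent.Lib.UHColimH52.resTriv_of_forall φ _ φj ι hι hsurj hR)
  · intro h
    rw [e1, Groth.Agent.Lib.UHRingH52.universallyClosed_Spec_iff]
    refine Groth.Agent.Lib.UHColimH52.isIntegral_of_forall φ _ φj ι hι hsurj (fun j => ?_)
    have := h j
    rwa [e0, Groth.Agent.Lib.UHRingH52.universallyClosed_Spec_iff] at this
  · intro h
    refine ⟨?_, ?_⟩
    · rw [e1, Groth.Agent.Lib.UHRingH52.universallyClosed_Spec_iff]
      refine Groth.Agent.Lib.UHColimH52.isIntegral_of_forall φ _ φj ι hι hsurj (fun j => ?_)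
      have := (h j).1
      rwa [e0, Groth.Agent.Lib.UHRingH52.universallyClosed_Spec_iff] at this
    · rw [e1, Groth.Agent.Lib.UnivInjRingH52.universallyInjective_Spec_iff]
      refine Groth.Agent.Lib.UHColimH52.uniq_of_forall φ _ φj ι hι hsurj (fun j => ?_)
      have := (h j).2
      rwa [e0, Groth.Agent.Lib.UnivInjRingH52.universallyInjective_Spec_iff] at this

end Groth.Agent.S7405
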