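import Groth.Statements.S7407
import Mathlib.AlgebraicGeometry.Morphisms.FormallyUnramified
import Mathlib.AlgebraicGeometry.Morphisms.Etale
import Mathlib.RingTheory.AlgebraicIndependent.TranscendenceBasis
import Mathlib.RingTheory.AlgebraicIndependent.Transcendental

set_option autoImplicit false
universe u
open CategoryTheory AlgebraicGeometry
open Desc

namespace Groth.Agent.S7407

/-- Field-level statement. -/
lemma trdeg_square {F K0 K1 K1' K0' : Type u} [Field F] [Field K0] [Field K1] [Field K1']
    [Field K0'] (i : F →+* K0) (hi : Function.Surjective i) (φ : K0 →+* K1) (α : K1 →+* K1')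
    (β : F →+* K0') (φ' : K0' →+* K1') (hcomm : φ'.comp β = α.comp (φ.comp i))
    (hα : @Algebra.IsAlgebraic K1 K1' _ _ α.toAlgebra)
    (hβ : @Algebra.IsAlgebraic F K0' _ _ β.toAlgebra) :
    @Algebra.trdeg K0 K1 _ _ φ.toAlgebra = @Algebra.trdeg K0' K1' _ _ φ'.toAlgebra := by
  let _ : Algebra F K0 := i.toAlgebra
  let _ : Algebra K0 K1 := φ.toAlgebra
  let _ : Algebra K1 K1' := α.toAlgebra
  let _ : Algebra F K0' := β.toAlgebra
  let _ : Algebra K0' K1' := φ'.toAlgebra
  let _ : Algebra F K1 := (φ.comp i).toAlgebra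
  let _ : Algebra F K1' := (α.comp (φ.comp i)).toAlgebra
  have : IsScalarTower F K0 K1 := IsScalarTower.of_algebraMap_eq (fun _ => rfl)
  have : IsScalarTower F K1 K1' := IsScalarTower.of_algebraMap_eq (fun _ => rfl)
  have : IsScalarTower F K0' K1' := IsScalarTower.of_algebraMap_eq (fun x => by
    change (α.comp (φ.comp i)) x = (φ'.comp β) x
    rw [hcomm])
  have : Algebra.IsAlgebraic F K0 := by
    refine ⟨fun x => ?_⟩
    obtain ⟨y, rfl⟩ := hi x
    exact isAlgebraic_algebraMap y
  have e1 : Algebra.trdeg F K0 + Algebra.trdeg K0 K1 = Algebra.trdeg F K1 :=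
    trdeg_add_eq F K0 (A := K1)
  have e2 : Algebra.trdeg F K1 + Algebra.trdeg K1 K1' = Algebra.trdeg F K1' :=
    trdeg_add_eq F K1 (A := K1')
  have e3 : Algebra.trdeg F K0' + Algebra.trdeg K0' K1' = Algebra.trdeg F K1' :=
    trdeg_add_eq F K0' (A := K1')
  have z1 : Algebra.trdeg F K0 = 0 := trdeg_eq_zero
  have z2 : Algebra.trdeg K1 K1' = 0 := trdeg_eq_zero
  have z3 : Algebra.trdeg F K0' = 0 := trdeg_eq_zero
  rw [z1, zero_add] at e1
  rw [z3, zero_add] at e3
  rw [z2, add_zero] at e2
  rw [e1, e2, ← e3]

/-- The transcendence degree of the residue field extension `κ(x)/κ(s)` of a morphism of germs `(X, x) →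
(S, s)` is étale local on the source-and-target: for a commutative square with horizontal maps `h' :
U' → V'`, `h : U → V`, étale vertical maps `a : U' → U`, `b : V' → V` and `u' ∈ U'` with `u =
a(u')`, the transcendence degree of `κ(u)` over `κ(h(u))` equals that of `κ(u')` over `κ(h'(u'))`. -/
theorem result {U U' V V' : Scheme.{u}} (h : U ⟶ V) (h' : U' ⟶ V') (a : U' ⟶ U)
    (b : V' ⟶ V) [Etale a] [Etale b] (comm : h' ≫ b = a ≫ h) (u' : U') :
    @Algebra.trdeg (V.residueField (h (a u'))) (U.residueField (a u')) _ _ (h.residueFieldMap (a u')).hom.toAlgebra =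
      @Algebra.trdeg (V'.residueField (h' u')) (U'.residueField u') _ _ (h'.residueFieldMap u').hom.toAlgebra := by
  have hc := Scheme.Hom.residueFieldMap_congr comm u'
  rw [Scheme.residueFieldMap_comp, Scheme.residueFieldMap_comp] at hc
  refine trdeg_square (F := V.residueField (b (h' u')))
    (V.residueFieldCongr (by rw [← Scheme.Hom.comp_apply, comm]; rfl)).hom.hom ?_
    (h.residueFieldMap (a u')).hom (a.residueFieldMap u').hom
    (b.residueFieldMap (h' u')).hom (h'.residueFieldMap u').hom ?_ ?_ ?_
  · exact (ConcreteCategory.bijective_of_isIso _).2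
  · have := congrArg CommRingCat.Hom.hom hc
    simpa [← CommRingCat.hom_comp, Category.assoc] using this
  · let _ : Algebra (U.residueField (a u')) (U'.residueField u') :=
      (a.residueFieldMap u').hom.toAlgebra
    have : Algebra.IsSeparable (U.residueField (a u')) (U'.residueField u') := inferInstance
    exact Algebra.IsSeparable.isAlgebraic _ _
  · let _ : Algebra (V.residueField (b (h' u'))) (V'.residueField (h' u')) :=
      (b.residueFieldMap (h' u')).hom.toAlgebra
    have : Algebra.IsSeparable (V.residueField (b (h' u'))) (V'.residueField (h' u')) :=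
      inferInstance
    exact Algebra.IsSeparable.isAlgebraic _ _

end Groth.Agent.S7407
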