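import Groth.Statements.S7412

set_option autoImplicit false
universe u
open Desc

namespace Groth.Agent.S7412

open TensorProduct

/-- Let `R` be a ring and `f : M → N` a map of `R`-modules. Then `f` is universally injective (`f ⊗ 1_P`
is injective for every `R`-module `P`; here `P` ranges over modules in the same universe, which
suffices) if and only if the map of character modules `C(N) → C(M)`, `C(-) = Hom_ℤ(-, ℚ/ℤ)`, is a
split surjection of `R`-modules. -/
theorem result {R : Type u} [CommRing R] {M N : Type u}
    [AddCommGroup M] [Module R M] [AddCommGroup N] [Module R N] (f : M →ₗ[R] N) :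
    (∀ (P : Type u) [AddCommGroup P] [Module R P], Function.Injective (f.lTensor P)) ↔
      ∃ g : CharacterModule M →ₗ[R] CharacterModule N, (CharacterModule.dual f).comp g = LinearMap.id := by
  have key : ∀ (P : Type u) [AddCommGroup P] [Module R P] (g : P →ₗ[R] CharacterModule N),
      CharacterModule.dual (f.lTensor P) (CharacterModule.uncurry g) =
        CharacterModule.uncurry ((CharacterModule.dual f).comp g) := by
    intro P _ _ g
    ext z
    induction z using TensorProduct.induction_on with
    | zero => simp
    | tmul p m =>
      simp only [CharacterModule.dual_apply, CharacterModule.uncurry_apply]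
      rfl
    | add x y hx hy => simp only [map_add, hx, hy]
  constructor
  · intro h
    have hs : Function.Surjective (CharacterModule.dual (f.lTensor (CharacterModule M))) :=
      CharacterModule.dual_surjective_of_injective _ (h (CharacterModule M))
    obtain ⟨c, hc⟩ := hs (CharacterModule.uncurry LinearMap.id)
    refine ⟨CharacterModule.curry c, ?_⟩
    have h2 := key (CharacterModule M) (CharacterModule.curry c)
    have h3 : CharacterModule.uncurry (CharacterModule.curry c) = c :=
      CharacterModule.homEquiv.apply_symm_apply c
    rw [h3, hc] at h2
    exact (CharacterModule.homEquiv.injective h2).symm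
  · rintro ⟨g, hg⟩ P _ _
    rw [← CharacterModule.dual_surjective_iff_injective]
    intro c
    refine ⟨CharacterModule.uncurry (g.comp (CharacterModule.curry c)), ?_⟩
    rw [key, ← LinearMap.comp_assoc, hg, LinearMap.id_comp]
    exact CharacterModule.homEquiv.apply_symm_apply c

end Groth.Agent.S7412
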