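import Groth.Statements.S7413
import Groth.Agent.Lib.LocProjective
import Groth.Agent.Lib.PullbackAffine

set_option autoImplicit false
universe u
open CategoryTheory AlgebraicGeometry
open Opposite
open Mor

namespace Groth.Agent.S7413

open TensorProduct

theorem projective_pullback_of_le {X Y : Scheme.{u}} (f : X ⟶ Y) (G : Y.Modules) [G.IsQuasicoherent]
    {W : X.Opens} {V : Y.Opens} (hW : IsAffineOpen W) (hV : IsAffineOpen V) (e : W ≤ f ⁻¹ᵁ V)
    (hG : Module.Projective Γ(Y, V) Γ(G, V)) :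
    Module.Projective Γ(X, W) Γ((Scheme.Modules.pullback f).obj G, W) := by
  letI := (f.appLE V W e).hom.toAlgebra
  have : Module.Projective Γ(X, W) (Γ(X, W) ⊗[Γ(Y, V)] Γ(G, V)) := inferInstance
  exact Module.Projective.of_equiv'
    (Groth.Agent.Lib.PullbackAffine.sectionsPullbackEquiv f G hW hV e).symm

/-- Let `f : X → Y` be a morphism of schemes and `G` a quasi-coherent, locally projective `O_Y`-module
(projective sections over every affine open). Then `f^* G` is locally projective on `X`. -/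
theorem result {X Y : Scheme.{u}} (f : X ⟶ Y) (G : Y.Modules) [Coh.IsQCoh G]
    (hG : ∀ V : Y.Opens, IsAffineOpen V → Module.Projective (Y.ringCatSheaf.obj.obj (op V)) (G.val.obj (op V)))
    (U : X.Opens) (hU : IsAffineOpen U) :
    Module.Projective (X.ringCatSheaf.obj.obj (op U)) (((Scheme.Modules.pullback f).obj G).val.obj (op U)) := by
  have : G.IsQuasicoherent := ‹Coh.IsQCoh G›
  let ι : Type u := {W : X.Opens // IsAffineOpen W ∧ ∃ V : Y.Opens, IsAffineOpen V ∧ W ≤ f ⁻¹ᵁ V}
  refine Groth.Agent.Lib.LocProjective.projective_of_affine_cover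
    ((Scheme.Modules.pullback f).obj G) (fun W : ι => W.1) ?_ (fun W => W.2.1) (fun W => ?_) U hU
  · rw [eq_top_iff]
    intro x _
    obtain ⟨V, hV, hxV⟩ : ∃ V : Y.Opens, IsAffineOpen V ∧ f.base x ∈ V := by
      obtain ⟨V, hV⟩ := TopologicalSpace.Opens.mem_iSup.mp
        ((iSup_affineOpens_eq_top Y).ge (Set.mem_univ (f.base x)))
      exact ⟨V.1, V.2, hV⟩
    have hx : x ∈ f ⁻¹ᵁ V := hxV
    obtain ⟨W, hWa, hxW, hWV⟩ := TopologicalSpace.Opens.isBasis_iff_nbhd.mp X.isBasis_affineOpens hx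
    exact TopologicalSpace.Opens.mem_iSup.mpr ⟨⟨W, hWa, V, hV, hWV⟩, hxW⟩
  · obtain ⟨W, hW, V, hV, e⟩ := W
    exact projective_pullback_of_le f G hW hV e (hG V hV)

end Groth.Agent.S7413
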