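import Groth.Statements.S7415
import Mathlib.AlgebraicGeometry.SpreadingOut
import Mathlib.AlgebraicGeometry.Properties

set_option autoImplicit false
universe u
open CategoryTheory AlgebraicGeometry
open Mor

namespace Groth.Agent.S7415

/-- Let `X` be a reduced scheme with finitely many irreducible components and `x ∈ X`. Then `x` has an
affine open neighbourhood `U` such that `O_X(U) → O_{X,x}` is injective. -/
theorem result (X : Scheme.{u}) [AlgebraicGeometry.IsReduced X]
    (hirr : (irreducibleComponents (X : Type u)).Finite) (x : X) : X.IsGermInjectiveAt x := by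
  classical
  let T : Set (Set X) := {Z ∈ irreducibleComponents X | x ∉ Z}
  have hTfin : T.Finite := hirr.subset (fun Z hZ => hZ.1)
  have hclosed : IsClosed (⋃₀ T) := by
    rw [Set.sUnion_eq_biUnion]
    exact hTfin.isClosed_biUnion (fun Z hZ => isClosed_of_mem_irreducibleComponents Z hZ.1)
  let W : X.Opens := ⟨(⋃₀ T)ᶜ, hclosed.isOpen_compl⟩
  have hxW : x ∈ W := by
    change x ∈ (⋃₀ T)ᶜ
    rw [Set.mem_compl_iff, Set.mem_sUnion]
    rintro ⟨Z, hZ, hxZ⟩
    exact hZ.2 hxZ
  obtain ⟨U, hU, hxU, hUW⟩ := exists_isAffineOpen_mem_and_subset hxW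
  refine ⟨⟨U, hxU, hU, ?_⟩⟩
  rw [injective_iff_map_eq_zero]
  intro a ha
  rw [← map_zero (X.presheaf.germ U x hxU).hom] at ha
  obtain ⟨V, hxV, iU, iV, hres⟩ := X.presheaf.germ_eq x hxU hxU a 0 ha
  rw [map_zero] at hres
  rw [← basicOpen_eq_bot_iff]
  by_contra hne
  obtain ⟨y, hy⟩ : ∃ y, y ∈ X.basicOpen a := by
    by_contra hnone
    apply hne
    ext y
    simp only [TopologicalSpace.Opens.coe_bot, Set.mem_empty_iff_false, iff_false]
    exact fun hy => hnone ⟨y, hy⟩
  have hyU : y ∈ U := X.basicOpen_le a hy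
  let Z := irreducibleComponent y
  have hZ : Z ∈ irreducibleComponents X := irreducibleComponent_mem_irreducibleComponents y
  have hyZ : y ∈ Z := mem_irreducibleComponent
  have hxZ : x ∈ Z := by
    by_contra hxZ
    have : y ∈ ⋃₀ T := Set.mem_sUnion.mpr ⟨Z, ⟨hZ, hxZ⟩, hyZ⟩
    exact hUW hyU this
  have hirrZ : IsIrreducible Z := isIrreducible_irreducibleComponent
  obtain ⟨z, hzZ, hzV, hza⟩ := hirrZ.isPreirreducible (V : Set X) (X.basicOpen a : Set X)
    V.2 (X.basicOpen a).2 ⟨x, hxZ, hxV⟩ ⟨y, hyZ, hy⟩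
  have hb : X.basicOpen (X.presheaf.map iU.op a) = V ⊓ X.basicOpen a := X.basicOpen_res a iU.op
  rw [hres, Scheme.basicOpen_zero] at hb
  have : z ∈ (V ⊓ X.basicOpen a : X.Opens) := ⟨hzV, hza⟩
  rw [← hb] at this
  exact this

end Groth.Agent.S7415
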