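import Groth.Statements.S7416
import Mathlib.AlgebraicGeometry.AffineScheme

set_option autoImplicit false
universe u
open CategoryTheory AlgebraicGeometry
open Mor

namespace Groth.Agent.S7416

lemma aux {X : Scheme.{u}} {D D' : X.Opens} (hD : IsAffineOpen D) (f : Γ(X, D))
    (h : D' = X.basicOpen f) (g : Γ(X, D')) : ∃ f' : Γ(X, D), X.basicOpen f' = X.basicOpen g := by
  subst h
  exact hD.basicOpen_basicOpen_is_basicOpen f g

/-- one side: an open immersion into an affine scheme, a point, gives an affine open of the source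
containing the point whose image is a basic open, and every basic open of it has basic open image. -/
lemma one_side {U W : Scheme.{u}} [IsAffine U] (i : W ⟶ U) [IsOpenImmersion i] (w : W) :
    ∃ W₁ : W.Opens, IsAffineOpen W₁ ∧ w ∈ W₁ ∧
      ∀ s : Γ(W, W₁), ∃ f : Γ(U, ⊤), i ''ᵁ W.basicOpen s = U.basicOpen f := by
  obtain ⟨f₁, hf₁, hwf₁⟩ := (isAffineOpen_top U).exists_basicOpen_le
    (V := i.opensRange) ⟨i w, ⟨w, rfl⟩⟩ (by trivial)
  have haff : IsAffineOpen (U.basicOpen f₁) := (isAffineOpen_top U).basicOpen f₁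
  refine ⟨i ⁻¹ᵁ U.basicOpen f₁, haff.preimage_of_isOpenImmersion i hf₁, hwf₁, ?_⟩
  intro s
  have himg : i ''ᵁ i ⁻¹ᵁ U.basicOpen f₁ = U.basicOpen f₁ := by
    rw [i.image_preimage_eq_opensRange_inf, inf_eq_right.mpr hf₁]
  obtain ⟨f', hf'⟩ := aux (isAffineOpen_top U) f₁ himg ((i.appIso _).inv s)
  exact ⟨f', by rw [hf', Scheme.image_basicOpen]⟩

/-- Let `U`, `V` be affine schemes and `W → U`, `W → V` open immersions. Then every `w ∈ W` has an open
neighbourhood `W' ⊆ W` whose images in `U` and in `V` are standard opens `D(f) ⊆ U`, `D(g) ⊆ V` (in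
particular `W'` is affine). -/
theorem result {U V W : Scheme.{u}} [IsAffine U]
    [IsAffine V] (i : W ⟶ U) (j : W ⟶ V) [IsOpenImmersion i] [IsOpenImmersion j] (w : W) :
    ∃ (W' : W.Opens) (f : Γ(U, ⊤)) (g : Γ(V, ⊤)), w ∈ W' ∧ i ''ᵁ W' = U.basicOpen f ∧ j ''ᵁ W' = V.basicOpen g := by
  obtain ⟨W₁, hW₁, hw₁, H₁⟩ := one_side i w
  obtain ⟨W₂, hW₂, hw₂, H₂⟩ := one_side j w
  obtain ⟨s, t, hst, hws⟩ := exists_basicOpen_le_affine_inter hW₁ hW₂ w ⟨hw₁, hw₂⟩
  obtain ⟨f, hf⟩ := H₁ s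
  obtain ⟨g, hg⟩ := H₂ t
  exact ⟨W.basicOpen s, f, g, hws, hf, by rw [hst, hg]⟩

end Groth.Agent.S7416
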