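import Groth.Statements.S7423
-- import your own Groth.Agent.* helpers here
import Groth.Agent.Lib.UHAwnCharH52

set_option autoImplicit false
universe u
open CategoryTheory AlgebraicGeometry
open HTop

namespace Groth.Agent.S7423

/-- Let `φ : A → A^awn` be an absolute weak normalization and `ψ : A → B` a ring map inducing a
universal homeomorphism on spectra. Then `B` is absolutely weakly normal exactly when the induced
map `χ : B → A^awn` with `χ ∘ ψ = φ` is an isomorphism. -/
theorem result {A B W : Type u} [CommRing A] [CommRing B] [CommRing W]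
    (φ : A →+* W) (hφ : HTop.IsRingAWN φ) (ψ : A →+* B)
    (hψ : FlatMor.IsUnivHomeo (Spec.map (CommRingCat.ofHom ψ))) (χ : B →+* W) (hχ : χ.comp ψ = φ) :
    Function.Bijective χ ↔ HTop.IsAWNRing B := by
  rw [Groth.Agent.Lib.UHRingH52.isUnivHomeo_iff] at hψ
  exact ⟨Groth.Agent.Lib.UHAwnCharH52.isAWNRing_of_bijective φ hφ χ,
    Groth.Agent.Lib.UHAwnCharH52.bijective_of_isAWNRing φ hφ ψ hψ χ hχ⟩

end Groth.Agent.S7423
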