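import Groth.Statements.S7425
-- import your own Groth.Agent.* helpers here
import Groth.Agent.Lib.UHAwnSchemeH52

set_option autoImplicit false
universe u
open CategoryTheory AlgebraicGeometry
open HTop

namespace Groth.Agent.S7425

/-- Let `ν : X^awn → X` be an absolute weak normalization and `π : Y → X` a universal homeomorphism.
Then `Y` is absolutely weakly normal exactly when the induced morphism `h : X^awn → Y` over `X` is
an isomorphism. -/
theorem result {X X' Y : Scheme.{u}} (ν : X' ⟶ X)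
    (hν : HTop.IsAWNormalization ν) (π : Y ⟶ X) (hπ : FlatMor.IsUnivHomeo π) (h : X' ⟶ Y) (hh : h ≫ π = ν) :
    IsIso h ↔ HTop.IsAWN Y := by
  obtain ⟨X'', ν'', hν'', hX''⟩ := Groth.Agent.Lib.UHAwnSchemeH52.exists_awn X
  obtain ⟨e, -⟩ := Groth.Agent.Lib.UHAwnSchemeH52.isAWNormalization_unique ν ν'' hν hν''
  have hX' : HTop.IsAWN X' := Groth.Agent.Lib.UHAwnSchemeH52.isAWN_of_iso e hX''
  constructor
  · intro hiso
    exact Groth.Agent.Lib.UHAwnSchemeH52.isAWN_of_iso (asIso h).symm hX'
  · intro hY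
    have hUH : FlatMor.IsUnivHomeo h :=
      Groth.Agent.Lib.UnivHomeo.of_comp_right (hh ▸ hν.1) hπ
    have : IsReduced X' := Groth.Agent.Lib.UHAwnSchemeH52.isReduced_of_isAWN hX'
    exact Groth.Agent.Lib.UHAwnSchemeH52.isIso_of_isAWN hY h hUH

end Groth.Agent.S7425
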