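import Groth.Statements.S7426
-- import your own Groth.Agent.* helpers here
import Groth.Agent.Lib.UHAwnSchemeH52

set_option autoImplicit false
universe u
open CategoryTheory AlgebraicGeometry
open HTop

namespace Groth.Agent.S7426

/-- For a scheme `X` the following are equivalent: `X` is absolutely weakly normal; `X^awn → X` is an
isomorphism (equivalently, the identity of `X` is an absolute weak normalization); every universal
homeomorphism `Y → X` with `Y` reduced is an isomorphism. -/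
theorem result (X : Scheme.{u}) :
    (HTop.IsAWN X ↔ HTop.IsAWNormalization (𝟙 X)) ∧
    (HTop.IsAWN X ↔ ∀ (Y : Scheme.{u}) (π : Y ⟶ X), FlatMor.IsUnivHomeo π → AlgebraicGeometry.IsReduced Y → IsIso π) := by
  obtain ⟨X'', ν'', hν'', hX''⟩ := Groth.Agent.Lib.UHAwnSchemeH52.exists_awn X
  refine ⟨⟨fun hX => ?_, fun hid => ?_⟩, ⟨fun hX Y π hπ hY => ?_, fun hall => ?_⟩⟩
  · exact Groth.Agent.Lib.UHAwnSchemeH52.isAWNormalization_of_isAWN (𝟙 X)
      (Groth.Agent.Lib.UnivHomeo.of_isIso _) hX
  · obtain ⟨e, -⟩ := Groth.Agent.Lib.UHAwnSchemeH52.isAWNormalization_unique (𝟙 X) ν'' hid hν''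
    exact Groth.Agent.Lib.UHAwnSchemeH52.isAWN_of_iso e hX''
  · exact Groth.Agent.Lib.UHAwnSchemeH52.isIso_of_isAWN hX π hπ
  · have : IsReduced X'' := Groth.Agent.Lib.UHAwnSchemeH52.isReduced_of_isAWN hX''
    have hiso : IsIso ν'' := hall X'' ν'' hν''.1 inferInstance
    exact Groth.Agent.Lib.UHAwnSchemeH52.isAWN_of_iso (asIso ν'').symm hX''

end Groth.Agent.S7426
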