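import Groth.Statements.S7429
import Mathlib.AlgebraicGeometry.Morphisms.UniversallyOpen
import Mathlib.AlgebraicGeometry.Morphisms.Smooth

set_option autoImplicit false
universe u
open CategoryTheory AlgebraicGeometry
open Desc

namespace Groth.Agent.S7429

variable (P : MorphismProperty Scheme.{u}) [P.IsLocalAtSource Scheme.etalePrecoverage]

include P in
lemma comp_etale {U X Y : Scheme.{u}} (g : U ⟶ X) [Etale g] (f : X ⟶ Y) (hf : P f) :
    P (g ≫ f) := by
  let Xs : Bool → Scheme.{u} := fun b => cond b U X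
  let fs : ∀ b, Xs b ⟶ X := fun b => Bool.rec (motive := fun b => Xs b ⟶ X) (𝟙 X) g b
  have hR : Presieve.ofArrows Xs fs ∈ Scheme.etalePrecoverage X := by
    rw [Scheme.etalePrecoverage, Scheme.ofArrows_mem_precoverage_iff]
    refine ⟨fun x => ⟨false, x, rfl⟩, ?_⟩
    intro b
    cases b
    · exact inferInstanceAs (Etale (𝟙 X))
    · exact inferInstanceAs (Etale g)
  exact MorphismProperty.IsLocalAtSource.comp hR g (Presieve.ofArrows.mk true) hf

include P in
lemma of_comp_surj_etale {U X Y : Scheme.{u}} (g : U ⟶ X) [Etale g]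
    (hs : Function.Surjective g.base) (f : X ⟶ Y) (h : P (g ≫ f)) : P f := by
  have hR : Presieve.singleton g ∈ Scheme.etalePrecoverage X := by
    rw [Scheme.etalePrecoverage, Scheme.singleton_mem_precoverage_iff]
    exact ⟨hs, inferInstance⟩
  apply MorphismProperty.IsLocalAtSource.of_forall_comp (P := P) hR
  intro U' g' hg'
  cases hg'
  exact h

include P in
lemma of_sSup {X Y : Scheme.{u}} (f : X ⟶ Y) (S : Set X.Opens)
    (hS : ∀ W' ∈ S, P (W'.ι ≫ f)) : P ((sSup S).ι ≫ f) := by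
  let Xs : S → Scheme.{u} := fun W' => (W' : X.Opens).toScheme
  let fs : ∀ W' : S, Xs W' ⟶ (sSup S).toScheme := fun W' => X.homOfLE (le_sSup W'.2)
  have hR : Presieve.ofArrows Xs fs ∈ Scheme.etalePrecoverage (sSup S).toScheme := by
    rw [Scheme.etalePrecoverage, Scheme.ofArrows_mem_precoverage_iff]
    refine ⟨?_, fun W' => inferInstance⟩
    rintro ⟨x, hx⟩
    obtain ⟨W', hW', hxW'⟩ := TopologicalSpace.Opens.mem_sSup.mp hx
    refine ⟨⟨W', hW'⟩, ⟨x, hxW'⟩, ?_⟩
    exact Scheme.homOfLE_apply' (le_sSup hW') x hxW'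
  apply MorphismProperty.IsLocalAtSource.of_forall_comp (P := P) hR
  intro U' g' hg'
  obtain ⟨W'⟩ := hg'
  have : fs W' ≫ (sSup S).ι ≫ f = (W' : X.Opens).ι ≫ f := by
    rw [← Category.assoc, Scheme.homOfLE_ι]
  rw [this]
  exact hS W' W'.2

/-- Suppose `P` is a property of scheme morphisms that is local on the source for the étale topology.
For every morphism `f : X → Y` there is a largest open `W(f) ⊆ X` such that `f|_{W(f)}` has `P`;
moreover for `g : X' → X` étale and `f' = f ∘ g` one has `W(f') = g⁻¹(W(f))`. -/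
theorem result (P : MorphismProperty Scheme.{u})
    [P.IsLocalAtSource Scheme.etalePrecoverage] {X Y : Scheme.{u}} (f : X ⟶ Y) :
    ∃ W : X.Opens, (P (W.ι ≫ f) ∧ ∀ W' : X.Opens, P (W'.ι ≫ f) → W' ≤ W) ∧
      ∀ (X' : Scheme.{u}) (g : X' ⟶ X) [Etale g] (V : X'.Opens),
        (P (V.ι ≫ g ≫ f) ∧ ∀ V' : X'.Opens, P (V'.ι ≫ g ≫ f) → V' ≤ V) → V = g ⁻¹ᵁ W := by
  let S : Set X.Opens := {W' | P (W'.ι ≫ f)}
  have hW : P ((sSup S).ι ≫ f) := of_sSup P f S (fun W' h => h)
  refine ⟨sSup S, ⟨hW, fun W' h => le_sSup h⟩, ?_⟩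
  intro X' g _ V ⟨hV1, hV2⟩
  apply le_antisymm
  · -- V ≤ g⁻¹ W
    let gV : V.toScheme ⟶ X := V.ι ≫ g
    have hopen : IsOpen (Set.range gV.base) := gV.isOpenMap.isOpen_range
    let W'' : X.Opens := ⟨Set.range gV.base, hopen⟩
    have hsub : Set.range gV.base ⊆ Set.range W''.ι.base := by
      intro x hx
      exact ⟨⟨x, hx⟩, rfl⟩
    let l : V.toScheme ⟶ W''.toScheme := IsOpenImmersion.lift W''.ι gV hsub
    have hl : l ≫ W''.ι = gV := IsOpenImmersion.lift_fac _ _ _
    have hle : Etale l := by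
      apply MorphismProperty.of_postcomp (W := @Etale) (W' := @Etale) l W''.ι inferInstance
      rw [hl]
      infer_instance
    have hlsurj : Function.Surjective l.base := by
      rintro ⟨x, v, hv⟩
      refine ⟨v, ?_⟩
      apply Subtype.ext
      have := congr($(hl).base v)
      simpa [hv] using this
    have hP : P (W''.ι ≫ f) := by
      apply of_comp_surj_etale P l hlsurj
      rw [← Category.assoc, hl]
      simpa [gV] using hV1
    have hW'' : W'' ≤ sSup S := le_sSup hP
    intro x hx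
    apply hW''
    exact ⟨⟨x, hx⟩, rfl⟩
  · -- g⁻¹ W ≤ V
    apply hV2
    have : (g ⁻¹ᵁ sSup S).ι ≫ g ≫ f = (g ∣_ sSup S) ≫ (sSup S).ι ≫ f := by
      rw [← Category.assoc, ← morphismRestrict_ι, Category.assoc]
    rw [this]
    exact comp_etale P _ _ hW

end Groth.Agent.S7429
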