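import Groth.Statements.S7430
import Mathlib.AlgebraicGeometry.Morphisms.UniversallyOpen

set_option autoImplicit false
universe u
open CategoryTheory AlgebraicGeometry
open Desc

namespace Groth.Agent.S7430

variable (P : MorphismProperty Scheme.{u}) [P.IsLocalAtSource Scheme.fppfPrecoverage]

/-- Lemma C: precomposition with any flat lfp morphism preserves `P`. -/
theorem comp_of_flat {X' X Y : Scheme.{u}} (h : X' ⟶ X) [Flat h] [LocallyOfFinitePresentation h]
    (f : X ⟶ Y) (hf : P f) : P (h ≫ f) := by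
  let Xs : Bool → Scheme.{u} := fun b => if b then X' else X
  let fs : ∀ b, Xs b ⟶ X := fun b => match b with
    | true => h
    | false => 𝟙 X
  have hR : Presieve.ofArrows Xs fs ∈ Scheme.fppfPrecoverage X := by
    rw [Scheme.fppfPrecoverage, Scheme.ofArrows_mem_precoverage_iff]
    refine ⟨fun x => ⟨false, x, rfl⟩, fun b => ?_⟩
    cases b
    · exact ⟨inferInstanceAs (Flat (𝟙 X)), inferInstanceAs (LocallyOfFinitePresentation (𝟙 X))⟩
    · exact ⟨inferInstanceAs (Flat h), inferInstanceAs (LocallyOfFinitePresentation h)⟩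
  exact MorphismProperty.IsLocalAtSource.comp hR h (Presieve.ofArrows.mk (ι := Bool) true) hf

/-- Lemma A: descent along a flat lfp surjective morphism. -/
theorem of_comp_of_flat_surjective {X' X Y : Scheme.{u}} (h : X' ⟶ X) [Flat h]
    [LocallyOfFinitePresentation h] [Surjective h] (f : X ⟶ Y) (hf : P (h ≫ f)) : P f := by
  refine MorphismProperty.IsLocalAtSource.of_forall_comp (h.singleton_mem_fppfPrecoverage) ?_
  rintro U g ⟨⟩
  exact hf

/-- Zariski locality: `P` holds on the supremum of the opens on which it holds. -/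
theorem prop_sSup {X Y : Scheme.{u}} (f : X ⟶ Y) (S : Set X.Opens)
    (hS : ∀ W' ∈ S, P (W'.ι ≫ f)) : P ((sSup S).ι ≫ f) := by
  let W : X.Opens := sSup S
  have hR : Presieve.ofArrows (fun W' : S => (W'.1 : X.Opens).toScheme)
      (fun W' : S => X.homOfLE (le_sSup W'.2 : W'.1 ≤ W)) ∈ Scheme.fppfPrecoverage W.toScheme := by
    rw [Scheme.fppfPrecoverage, Scheme.ofArrows_mem_precoverage_iff]
    refine ⟨fun x => ?_, fun W' => ⟨inferInstance, inferInstance⟩⟩
    obtain ⟨W', hW', hx⟩ := TopologicalSpace.Opens.mem_sSup.mp x.2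
    refine ⟨⟨W', hW'⟩, ⟨x.1, hx⟩, ?_⟩
    apply W.ι.isOpenEmbedding.injective
    rw [← Scheme.Hom.comp_apply, Scheme.homOfLE_ι]
    rfl
  refine MorphismProperty.IsLocalAtSource.of_forall_comp hR ?_
  rintro U g ⟨W'⟩
  rw [Scheme.homOfLE_ι_assoc]
  exact hS W'.1 W'.2

/-- Let `P` be a property of morphisms of schemes which is fppf local on the source. For every morphism
`f : X → Y` there is a largest open `W(f) ⊆ X` such that `f|_{W(f)}` has `P`; moreover for `g : X' →
X` flat and locally of finite presentation and `f' = f ∘ g` one has `W(f') = g⁻¹(W(f))`. -/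
theorem result (P : MorphismProperty Scheme.{u})
    [P.IsLocalAtSource Scheme.fppfPrecoverage] {X Y : Scheme.{u}} (f : X ⟶ Y) :
    ∃ W : X.Opens, (P (W.ι ≫ f) ∧ ∀ W' : X.Opens, P (W'.ι ≫ f) → W' ≤ W) ∧
      ∀ (X' : Scheme.{u}) (g : X' ⟶ X) [Flat g] [LocallyOfFinitePresentation g] (V : X'.Opens),
        (P (V.ι ≫ g ≫ f) ∧ ∀ V' : X'.Opens, P (V'.ι ≫ g ≫ f) → V' ≤ V) → V = g ⁻¹ᵁ W := by
  let S : Set X.Opens := {W' | P (W'.ι ≫ f)}
  have hW : P ((sSup S).ι ≫ f) := prop_sSup P f S (fun W' h => h)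
  have hmax : ∀ W' : X.Opens, P (W'.ι ≫ f) → W' ≤ sSup S := fun W' h => le_sSup h
  refine ⟨sSup S, ⟨hW, hmax⟩, ?_⟩
  intro X' g _ _ V ⟨hV, hVmax⟩
  apply le_antisymm
  · -- `V ≤ g⁻¹ W`
    let O : X.Opens := ⟨g '' (V : Set X'), g.isOpenMap _ V.2⟩
    have hle : V ≤ g ⁻¹ᵁ O := fun v hv => ⟨v, hv, rfl⟩
    let gV : V.toScheme ⟶ O.toScheme := X'.homOfLE hle ≫ g ∣_ O
    have hgV : gV ≫ O.ι = V.ι ≫ g := by
      simp only [gV, Category.assoc, morphismRestrict_ι, Scheme.homOfLE_ι_assoc]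
    haveI : Surjective gV := by
      constructor
      rintro ⟨o, v, hv, rfl⟩
      refine ⟨⟨v, hv⟩, ?_⟩
      apply O.ι.isOpenEmbedding.injective
      rw [← Scheme.Hom.comp_apply, hgV]
      rfl
    have hPO : P (O.ι ≫ f) := by
      apply of_comp_of_flat_surjective P gV
      rw [← Category.assoc, hgV, Category.assoc]
      exact hV
    exact hle.trans (g.preimage_mono (hmax O hPO))
  · -- `g⁻¹ W ≤ V`
    apply hVmax
    rw [← Category.assoc, ← morphismRestrict_ι, Category.assoc]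
    exact comp_of_flat P (g ∣_ sSup S) _ hW

end Groth.Agent.S7430
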