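import Groth.Statements.S7434
import Groth.Agent.S7433
import Mathlib.RingTheory.Artinian.Ring
import Mathlib.RingTheory.Ideal.Quotient.Operations
import Mathlib.LinearAlgebra.Dimension.Constructions

set_option autoImplicit false
universe u
open CategoryTheory AlgebraicGeometry
open BddFib

namespace Groth.Agent.S7434

/-- A finite algebra over a field has at most `finrank` many primes. -/
theorem card_primeSpectrum_le_finrank (k B : Type*) [Field k] [CommRing B] [Algebra k B]
    [Module.Finite k B] :
    Finite (PrimeSpectrum B) ∧ Nat.card (PrimeSpectrum B) ≤ Module.finrank k B := by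
  haveI : IsArtinianRing B := IsArtinianRing.of_finite k B
  haveI : Finite (PrimeSpectrum B) := inferInstance
  refine ⟨inferInstance, ?_⟩
  haveI := Fintype.ofFinite (PrimeSpectrum B)
  let f : PrimeSpectrum B → Ideal B := fun p => p.asIdeal
  have hcop : Pairwise (fun i j => IsCoprime (f i) (f j)) := by
    intro i j hij
    have hi : (f i).IsMaximal := IsArtinianRing.isMaximal_of_isPrime (f i)
    have hj : (f j).IsMaximal := IsArtinianRing.isMaximal_of_isPrime (f j)
    rw [Ideal.isCoprime_iff_sup_eq]
    exact Ideal.IsMaximal.coprime_of_ne hi hj (fun h => hij (PrimeSpectrum.ext h))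
  have hsurj := Ideal.quotientInfToPiQuotient_surj hcop
  let g : B →ₗ[k] (∀ i, B ⧸ f i) :=
    LinearMap.pi (fun i => (Ideal.Quotient.mkₐ k (f i)).toLinearMap)
  have gsurj : Function.Surjective g := by
    intro y
    obtain ⟨x, hx⟩ := hsurj y
    obtain ⟨b, rfl⟩ := Ideal.Quotient.mk_surjective x
    refine ⟨b, ?_⟩
    rw [← hx]
    rfl
  calc Nat.card (PrimeSpectrum B) = Fintype.card (PrimeSpectrum B) := Nat.card_eq_fintype_card
    _ = ∑ _i : PrimeSpectrum B, 1 := by simp
    _ ≤ ∑ i : PrimeSpectrum B, Module.finrank k (B ⧸ f i) := by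
        refine Finset.sum_le_sum (fun i _ => ?_)
        haveI : Nontrivial (B ⧸ f i) := Ideal.Quotient.nontrivial_iff.mpr i.isPrime.ne_top
        exact Module.finrank_pos
    _ = Module.finrank k (∀ i, B ⧸ f i) := (Module.finrank_pi_fintype k).symm
    _ ≤ Module.finrank k B := LinearMap.finrank_le_finrank_of_surjective gsurj

/-- When every fibre of `f : X → Y` has degree at most `n`, then for every field `k` and `Spec k → Y`
the scheme `X_k = Spec k ×_Y X` has at most `n` points. (The published statement also bounds the sum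
of the residue degrees `[κ(x_i) : k]` by `n`; that sharper bound is a separate row, and this row
states only the count of points.) -/
theorem result {X Y : Scheme.{u}} (f : X ⟶ Y) (n : ℕ) (hf : BddFib.FibreDegLE f n)
    (k : Type u) [Field k] (g : Spec (CommRingCat.of k) ⟶ Y) :
    Finite ↥(Limits.pullback f g) ∧ Nat.card ↥(Limits.pullback f g) ≤ n := by
  obtain ⟨hA, hfin, hrk⟩ := Groth.Agent.S7433.forward f n hf k g
  letI : Algebra k Γ(Limits.pullback f g, ⊤) :=
    BddFib.secAlgebra (CommRingCat.of k) (Limits.pullback.snd f g)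
  haveI : Module.Finite k Γ(Limits.pullback f g, ⊤) := hfin
  obtain ⟨h1, h2⟩ := card_primeSpectrum_le_finrank k Γ(Limits.pullback f g, ⊤)
  let e : ↥(Limits.pullback f g) ≃ PrimeSpectrum Γ(Limits.pullback f g, ⊤) :=
    (Scheme.homeoOfIso (Limits.pullback f g).isoSpec).toEquiv
  refine ⟨Finite.of_equiv _ e.symm, ?_⟩
  rw [Nat.card_congr e]
  exact h2.trans hrk

end Groth.Agent.S7434
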