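import Groth.Statements.S7435
import Mathlib.AlgebraicGeometry.Morphisms.FlatRank
import Mathlib.AlgebraicGeometry.Fiber

set_option autoImplicit false
universe u
open CategoryTheory AlgebraicGeometry
open BddFib

namespace Groth.Agent.S7435

theorem eq_isoSpec_comp {T : Scheme.{u}} [IsAffine T] (K : CommRingCat.{u}) (p : T ⟶ Spec K) :
    p = T.isoSpec.hom ≫ Spec.map ((Scheme.ΓSpecIso K).inv ≫ p.appTop) := by
  rw [Spec.map_comp, ← Category.assoc, Scheme.isoSpec_hom, ← Scheme.toSpecΓ_naturality]
  simp

theorem finite_hom {T : Scheme.{u}} [IsAffine T] (K : CommRingCat.{u}) (p : T ⟶ Spec K)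
    [IsFinite p] : ((Scheme.ΓSpecIso K).inv ≫ p.appTop).hom.Finite := by
  have := p.finite_appTop
  rw [CommRingCat.hom_comp]
  exact this.comp (.of_surjective _ (ConcreteCategory.bijective_of_isIso _).surjective)

theorem flat_hom {T : Scheme.{u}} [IsAffine T] (K : CommRingCat.{u}) (p : T ⟶ Spec K) [Flat p] :
    ((Scheme.ΓSpecIso K).inv ≫ p.appTop).hom.Flat := by
  have := p.flat_appTop
  rw [CommRingCat.hom_comp]
  exact .comp (.of_bijective (ConcreteCategory.bijective_of_isIso _)) this

set_option backward.isDefEq.respectTransparency.types false in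
/-- If `f` is finite locally free of degree `d`, then `d` bounds the degrees of the fibres of `f`. -/
theorem result {X Y : Scheme.{u}} (f : X ⟶ Y) (d : ℕ) (hf : Mor2.IsFinLocFreeOfDeg d f) :
    BddFib.FibreDegLE f d := by
  obtain ⟨⟨hfin, hflat, hfp⟩, hd⟩ := hf
  intro y
  have hpfin : IsFinite (f.fiberToSpecResidueField y) :=
    MorphismProperty.pullback_snd _ _ hfin
  have hpflat : Flat (f.fiberToSpecResidueField y) :=
    MorphismProperty.pullback_snd _ _ hflat
  have hA : IsAffine (f.fiber y) := isAffine_of_isAffineHom (f.fiberToSpecResidueField y)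
  let φ : Y.residueField y ⟶ Γ(f.fiber y, ⊤) :=
    (Scheme.ΓSpecIso (Y.residueField y)).inv ≫ (f.fiberToSpecResidueField y).appTop
  have hp : f.fiberToSpecResidueField y = (f.fiber y).isoSpec.hom ≫ Spec.map φ :=
    eq_isoSpec_comp _ _
  have hφfin : φ.hom.Finite := finite_hom _ _
  have hφflat : φ.hom.Flat := flat_hom _ _
  refine ⟨hA, hφfin, ?_⟩
  let pt : Spec (Y.residueField y) := IsLocalRing.closedPoint (Y.residueField y)
  have h1 : (f.fiberToSpecResidueField y).finrank pt = d := by
    have := Scheme.Hom.finrank_pullback_snd f (Y.fromSpecResidueField y) pt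
    rw [Scheme.fromSpecResidueField_apply] at this
    rw [← hd y, ← this]
    rfl
  have : IsFinite (Spec.map φ) := (IsFinite.SpecMap_iff _).mpr hφfin
  have : Flat (Spec.map φ) := Flat.SpecMap_iff.mpr hφflat
  rw [hp, Scheme.Hom.finrank_comp_left_of_isIso,
    Scheme.Hom.finrank_SpecMap_eq_finrank hφfin hφflat] at h1
  letI : Algebra (Y.residueField y) Γ(f.fiber y, ⊤) := φ.hom.toAlgebra
  have h2 : φ.hom.finrank pt = Module.finrank (Y.residueField y) Γ(f.fiber y, ⊤) := by
    rw [RingHom.finrank]
    exact congrFun (Module.rankAtStalk_eq_finrank_of_free) pt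
  rw [h2] at h1
  exact h1.le

end Groth.Agent.S7435
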