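import Groth.Statements.S7438
import Groth.Agent.Lib.BddFibDescent
import Mathlib.AlgebraicGeometry.Fiber

set_option autoImplicit false
universe u
open CategoryTheory AlgebraicGeometry
open BddFib

namespace Groth.Agent.S7438

/-- Let `f' : X' → Y'` be the base change of `f : X → Y` along a surjective morphism `Y' → Y`. If `n`
bounds the degrees of the fibres of `f'`, then `n` bounds the degrees of the fibres of `f`. -/
theorem result {X Y X' Y' : Scheme.{u}} (f : X ⟶ Y) (g : Y' ⟶ Y) [Surjective g]
    (f' : X' ⟶ Y') (g' : X' ⟶ X) (h : IsPullback g' f' f g) (n : ℕ) (hf' : BddFib.FibreDegLE f' n) :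
    BddFib.FibreDegLE f n := by
  intro y
  obtain ⟨y', rfl⟩ := g.surjective y
  exact Groth.Agent.Lib.BddFibDescent.finiteOfDegLE_descend
    (Field.toIsField _) (Field.toIsField _) _ _ (g.residueFieldMap y') _
    (isPullback_fiberToSpecResidueField_of_isPullback h y') n (hf' y')

end Groth.Agent.S7438
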