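import Groth.Statements.S7440
import Groth.Agent.Lib.BddFibBase
import Groth.Agent.Lib.BddFibDescent
import Groth.Agent.S7435
import Mathlib.AlgebraicGeometry.Fiber
import Mathlib.AlgebraicGeometry.Artinian
import Mathlib.AlgebraicGeometry.Morphisms.QuasiFinite
import Mathlib.AlgebraicGeometry.Morphisms.QuasiSeparated
import Mathlib.RingTheory.Etale.Field
import Mathlib.RingTheory.RingHom.Etale
import Mathlib.FieldTheory.IsAlgClosed.AlgebraicClosure

set_option autoImplicit false
set_option linter.style.haveILetI false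
universe u
open CategoryTheory AlgebraicGeometry
open BddFib

namespace Groth.Agent.S7440

/-- core: étale over a separably closed field with at most `n` points. -/
theorem core (k : Type u) [Field k] [IsSepClosed k] {T : Scheme.{u}}
    (p : T ⟶ Spec (CommRingCat.of k)) [Etale p] [Finite T] (n : ℕ) (hn : Nat.card T ≤ n) :
    BddFib.FiniteOfDegLE (CommRingCat.of k) p n := by
  haveI : CompactSpace T := inferInstance
  haveI : QuasiCompact p := (quasiCompact_iff_compactSpace p).mpr inferInstance
  haveI : LocallyQuasiFinite p := .of_finite_preimage_singleton p (fun x => Set.toFinite _)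
  haveI : IsLocallyArtinian (Spec (CommRingCat.of k)) :=
    Scheme.isLocallyArtinianScheme_Spec.mpr (inferInstanceAs (IsArtinianRing k))
  haveI : IsFinite p := .of_locallyQuasiFinite p
  haveI hA : IsAffine T := isAffine_of_isAffineHom p
  let φ : CommRingCat.of k ⟶ Γ(T, ⊤) := (Scheme.ΓSpecIso (CommRingCat.of k)).inv ≫ p.appTop
  have hp : p = T.isoSpec.hom ≫ Spec.map φ := Groth.Agent.S7435.eq_isoSpec_comp _ _
  have hφfin : φ.hom.Finite := Groth.Agent.S7435.finite_hom _ _
  have hφet : φ.hom.Etale := by
    have : Etale (Spec.map φ) := by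
      have : Spec.map φ = T.isoSpec.inv ≫ p := by rw [hp, Iso.inv_hom_id_assoc]
      rw [this]; infer_instance
    exact (HasRingHomProperty.Spec_iff (P := @Etale)).mp this
  letI alg : Algebra k Γ(T, ⊤) := φ.hom.toAlgebra
  have hfin : Module.Finite k Γ(T, ⊤) := hφfin
  have het : Algebra.Etale k Γ(T, ⊤) := RingHom.etale_algebraMap.mp hφet
  refine ⟨hA, hfin, ?_⟩
  let e := Algebra.FormallyEtale.equivPiOfIsSepClosed k Γ(T, ⊤)
  haveI : Finite (PrimeSpectrum Γ(T, ⊤)) := Finite.of_equiv _ T.isoSpec.hom.homeomorph.toEquiv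
  haveI : Fintype (PrimeSpectrum Γ(T, ⊤)) := Fintype.ofFinite _
  change Module.finrank k Γ(T, ⊤) ≤ n
  rw [e.toLinearEquiv.finrank_eq, Module.finrank_fintype_fun_eq_card, ← Nat.card_eq_fintype_card]
  have hc : Nat.card T = Nat.card (PrimeSpectrum Γ(T, ⊤)) :=
    Nat.card_congr T.isoSpec.hom.homeomorph.toEquiv
  rw [← hc]
  exact hn

/-- Let `f : X → Y` be étale and `n ≥ 0`. If for every field `k` and every `Spec k → Y` the base change
`X_k = Spec k ×_Y X` has finitely many, and at most `n`, points, then `n` bounds the degrees of the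
fibres of `f`. (The converse implication holds for every morphism of schemes, étale or not, and is
not restated here.) -/
theorem result {X Y : Scheme.{u}} (f : X ⟶ Y) [Etale f] (n : ℕ)
    (h : ∀ (k : Type u) [Field k] (g : Spec (CommRingCat.of k) ⟶ Y),
      Finite ↥(Limits.pullback f g) ∧ Nat.card ↥(Limits.pullback f g) ≤ n) :
    BddFib.FibreDegLE f n := by
  intro y
  let k : Type u := AlgebraicClosure (Y.residueField y)
  let ψ : Y.residueField y ⟶ CommRingCat.of k :=
    CommRingCat.ofHom (algebraMap (Y.residueField y) k)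
  obtain ⟨hfin, hcard⟩ := h k (Spec.map ψ ≫ Y.fromSpecResidueField y)
  haveI := hfin
  have hcore := core k (Limits.pullback.snd f (Spec.map ψ ≫ Y.fromSpecResidueField y)) n hcard
  let g'' : Limits.pullback f (Spec.map ψ ≫ Y.fromSpecResidueField y) ⟶ f.fiber y :=
    Limits.pullback.lift (Limits.pullback.fst _ _) (Limits.pullback.snd _ _ ≫ Spec.map ψ)
      (by rw [Limits.pullback.condition, Category.assoc])
  have h1 : g'' ≫ f.fiberι y = Limits.pullback.fst _ _ := Limits.pullback.lift_fst _ _ _
  have h2 : g'' ≫ f.fiberToSpecResidueField y = Limits.pullback.snd _ _ ≫ Spec.map ψ :=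
    Limits.pullback.lift_snd _ _ _
  have big : IsPullback (g'' ≫ f.fiberι y) (Limits.pullback.snd f
      (Spec.map ψ ≫ Y.fromSpecResidueField y)) f (Spec.map ψ ≫ Y.fromSpecResidueField y) := by
    rw [h1]; exact IsPullback.of_hasPullback _ _
  have right : IsPullback (f.fiberι y) (f.fiberToSpecResidueField y) f
      (Y.fromSpecResidueField y) := IsPullback.of_hasPullback _ _
  have left := IsPullback.of_right big h2 right
  exact Groth.Agent.Lib.BddFibDescent.finiteOfDegLE_descend
    (Field.toIsField _) (Field.toIsField k) _ _ ψ g'' left n hcore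

end Groth.Agent.S7440
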