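import Groth.Statements.S7446
import Groth.Agent.S7433
import Mathlib.RingTheory.Artinian.Ring
import Mathlib.RingTheory.Ideal.Quotient.Operations
import Mathlib.LinearAlgebra.Dimension.Constructions
import Mathlib.AlgebraicGeometry.ResidueField
import Mathlib.AlgebraicGeometry.AffineScheme

set_option autoImplicit false
set_option linter.style.haveILetI false
universe u
open CategoryTheory AlgebraicGeometry
open BddFib

namespace Groth.Agent.S7446

/-- On an affine scheme with Artinian ring of global sections, evaluation at any point is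
surjective. -/
theorem Γevaluation_surjective (T : Scheme.{u}) [IsAffine T] [IsArtinianRing Γ(T, ⊤)] (x : T) :
    Function.Surjective (T.Γevaluation x) := by
  have hT : IsAffineOpen (⊤ : T.Opens) := isAffineOpen_top T
  letI := T.presheaf.algebra_section_stalk (U := ⊤) ⟨x, trivial⟩
  haveI := hT.isLocalization_stalk ⟨x, trivial⟩
  have h1 : Function.Surjective (algebraMap Γ(T, ⊤) (T.presheaf.stalk x)) :=
    IsArtinianRing.localization_surjective (hT.primeIdealOf ⟨x, trivial⟩).asIdeal.primeCompl _
  have h2 : Function.Surjective (T.residue x) := IsLocalRing.residue_surjective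
  exact h2.comp h1

/-- kernels of evaluation at distinct points of an affine scheme are distinct. -/
theorem ker_Γevaluation_injective (T : Scheme.{u}) [IsAffine T] (x y : T)
    (h : RingHom.ker (T.Γevaluation x).hom = RingHom.ker (T.Γevaluation y).hom) : x = y := by
  have hb := isBasis_basicOpen T
  apply Inseparable.eq
  rw [hb.inseparable_iff]
  rintro _ ⟨_, ⟨f, rfl⟩, rfl⟩
  have hx : x ∈ T.basicOpen f ↔ f ∉ RingHom.ker (T.Γevaluation x).hom := by
    rw [RingHom.mem_ker]
    exact (T.evaluation_ne_zero_iff_mem_basicOpen (U := ⊤) x trivial f).symm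
  have hy : y ∈ T.basicOpen f ↔ f ∉ RingHom.ker (T.Γevaluation y).hom := by
    rw [RingHom.mem_ker]
    exact (T.evaluation_ne_zero_iff_mem_basicOpen (U := ⊤) y trivial f).symm
  change x ∈ T.basicOpen f ↔ y ∈ T.basicOpen f
  rw [hx, hy, h]

/-- main lemma over a field -/
theorem sum_residueDegree_le (k : Type u) [Field k] {T : Scheme.{u}}
    (p : T ⟶ Spec (CommRingCat.of k)) (n : ℕ)
    (h : BddFib.FiniteOfDegLE (CommRingCat.of k) p n) :
    Finite T ∧ ∑ᶠ x : T, p.residueDegree x ≤ n := by
  obtain ⟨hA, hfin, hrk⟩ := h
  letI algB : Algebra k Γ(T, ⊤) := BddFib.secAlgebra (CommRingCat.of k) p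
  haveI : Module.Finite k Γ(T, ⊤) := hfin
  haveI : IsArtinianRing Γ(T, ⊤) := IsArtinianRing.of_finite k Γ(T, ⊤)
  haveI : Finite (PrimeSpectrum Γ(T, ⊤)) := inferInstance
  haveI hTfin : Finite T := Finite.of_equiv _ T.isoSpec.hom.homeomorph.symm.toEquiv
  refine ⟨hTfin, ?_⟩
  haveI := Fintype.ofFinite T
  rw [finsum_eq_sum_of_fintype]
  -- algebra structures on residue fields
  letI algκ : ∀ x : T, Algebra k (T.residueField x) := fun x =>
    ((T.Γevaluation x).hom.comp (algebraMap k Γ(T, ⊤))).toAlgebra
  have hsurj : ∀ x : T, Function.Surjective (T.Γevaluation x) := fun x =>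
    Γevaluation_surjective T x
  -- identification of residue degrees
  have hdeg : ∀ x : T, p.residueDegree x = Module.finrank k (T.residueField x) := by
    intro x
    let K' := (Spec (CommRingCat.of k)).residueField (p x)
    let j₀ : CommRingCat.of k ⟶ K' :=
      (Scheme.ΓSpecIso (CommRingCat.of k)).inv ≫ (Spec (CommRingCat.of k)).Γevaluation (p x)
    haveI : IsArtinianRing Γ(Spec (CommRingCat.of k), ⊤) :=
      Function.Surjective.isArtinianRing (R := k)
        (f := (Scheme.ΓSpecIso (CommRingCat.of k)).inv.hom)
        (ConcreteCategory.bijective_of_isIso (Scheme.ΓSpecIso (CommRingCat.of k)).inv).2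
    have hj₀ : Function.Bijective j₀.hom := by
      refine ⟨RingHom.injective (f := (j₀.hom : k →+* K')), ?_⟩
      change Function.Surjective
        (((Spec (CommRingCat.of k)).Γevaluation (p x)).hom.comp
          (Scheme.ΓSpecIso (CommRingCat.of k)).inv.hom)
      rw [RingHom.coe_comp]
      exact (Γevaluation_surjective _ _).comp
        (ConcreteCategory.bijective_of_isIso (Scheme.ΓSpecIso (CommRingCat.of k)).inv).2
    let i : k ≃+* K' := RingEquiv.ofBijective j₀.hom hj₀
    letI algK' : Algebra K' (T.residueField x) := (p.residueFieldMap x).hom.toAlgebra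
    have := Algebra.finrank_eq_of_equiv_equiv (R₀ := k) (S₀ := T.residueField x)
      (R₁ := K') (S₁ := T.residueField x) i (RingEquiv.refl _) (by
        ext c
        change (p.residueFieldMap x).hom (j₀.hom c) =
          (T.Γevaluation x).hom (algebraMap k Γ(T, ⊤) c)
        have hnat := Scheme.Γevaluation_naturality p x
        change (p.residueFieldMap x).hom (((Spec (CommRingCat.of k)).Γevaluation (p x)).hom
          ((Scheme.ΓSpecIso (CommRingCat.of k)).inv.hom c)) = _
        have h3 := congrArg (fun q => q.hom ((Scheme.ΓSpecIso (CommRingCat.of k)).inv.hom c)) hnat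
        exact h3)
    exact this.symm
  simp_rw [hdeg]
  -- the evaluation map
  let Ex : ∀ x : T, Γ(T, ⊤) →ₗ[k] T.residueField x := fun x =>
    { toFun := (T.Γevaluation x).hom
      map_add' := map_add _
      map_smul' := by
        intro c b
        rw [Algebra.smul_def, map_mul, RingHom.id_apply, Algebra.smul_def]
        rfl }
  let E : Γ(T, ⊤) →ₗ[k] (∀ x : T, T.residueField x) := LinearMap.pi Ex
  haveI hκfin : ∀ x : T, Module.Finite k (T.residueField x) := fun x =>
    Module.Finite.of_surjective (Ex x) (hsurj x)
  have Esurj : Function.Surjective E := by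
    intro c
    choose b hb using fun x => hsurj x (c x)
    have hmax : ∀ x : T, (RingHom.ker (T.Γevaluation x).hom).IsMaximal := fun x =>
      RingHom.ker_isMaximal_of_surjective _ (hsurj x)
    have hcop : Pairwise (Function.onFun IsCoprime fun x : T => RingHom.ker (T.Γevaluation x).hom) := by
      intro x y hxy
      change IsCoprime _ _
      rw [Ideal.isCoprime_iff_sup_eq]
      exact Ideal.IsMaximal.coprime_of_ne (hmax x) (hmax y)
        (fun h => hxy (ker_Γevaluation_injective T x y h))
    obtain ⟨r, hr⟩ := Ideal.exists_forall_sub_mem_ideal hcop b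
    refine ⟨r, ?_⟩
    ext x
    have := hr x
    rw [RingHom.mem_ker, map_sub, sub_eq_zero] at this
    change (T.Γevaluation x).hom r = c x
    rw [this]
    exact hb x
  calc ∑ x : T, Module.finrank k (T.residueField x)
      = Module.finrank k (∀ x : T, T.residueField x) := (Module.finrank_pi_fintype k).symm
    _ ≤ Module.finrank k Γ(T, ⊤) := LinearMap.finrank_le_finrank_of_surjective Esurj
    _ ≤ n := hrk

/-- When every fibre of `f : X → Y` has degree at most `n`, then for every field `k` and every `Spec k →
Y`, writing `X_k = {x_1, …, x_t}`, one has `Σ_i [κ(x_i) : k] ≤ n`. (Residue degrees are taken along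
`X_k → Spec k`; `X_k` is finite, so the sum is a finite sum.) -/
theorem result {X Y : Scheme.{u}} (f : X ⟶ Y) (n : ℕ) (hf : BddFib.FibreDegLE f n)
    (k : Type u) [Field k] (g : Spec (CommRingCat.of k) ⟶ Y) :
    Finite ↥(Limits.pullback f g) ∧
      ∑ᶠ x : ↥(Limits.pullback f g), (Limits.pullback.snd f g).residueDegree x ≤ n :=
  sum_residueDegree_le k _ n (Groth.Agent.S7433.forward f n hf k g)

end Groth.Agent.S7446
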