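import Groth.Statements.S7448
import Groth.Agent.S0012
import Groth.Agent.S0032
import Groth.Agent.S0854
import Groth.Agent.S0463
import Groth.Agent.Lib.RpushRestrict
import Groth.Agent.Lib.BasisAcyclic
import Groth.Agent.Lib.PullbackRestrict
import Groth.Agent.Lib.H90OXModQcqs

set_option autoImplicit false
universe u
open Lim

namespace Groth.Agent.S7448

open AlgebraicGeometry CategoryTheory in
/-- Let `f : X → Y` be a morphism with `X`, `Y` quasi-compact and quasi-separated, and `d ≥ 0` such that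
`R^i f_* F = 0` for all `i > d` and all quasi-coherent `F`. Then for every cartesian square with
base change `f' : X' → Y'` of `f`, `R^i f'_* F' = 0` for all `i > d` and all quasi-coherent
`O_{X'}`-modules `F'`. -/
theorem result {X Y X' Y' : Scheme.{u}} (f : X ⟶ Y) [CompactSpace X]
    [QuasiSeparatedSpace X] [CompactSpace Y] [QuasiSeparatedSpace Y] (d : ℕ)
    (hvan : ∀ (M : X.Modules) (i : ℕ), Coh.IsQCoh M → d < i → Limits.IsZero ((Coh.RpushAb f i).obj (Coh.toAb M)))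
    (g : Y' ⟶ Y) (f' : X' ⟶ Y') (g' : X' ⟶ X) (sq : IsPullback g' f' f g) (M' : X'.Modules) [Coh.IsQCoh M']
    (i : ℕ) (hi : d < i) : Limits.IsZero ((Coh.RpushAb f' i).obj (Coh.toAb M')) := by
  obtain ⟨q, rfl⟩ : ∃ q, i = q + 1 := ⟨i - 1, by omega⟩
  have hq : d ≤ q := by omega
  have hM'q : M'.IsQuasicoherent := inferInstance
  have hqsf : QuasiSeparated f := QuasiSeparated.of_quasiSeparatedSpace _
  -- the basis of affine opens of `Y'` mapping into affine opens of `Y`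
  let B : Set Y'.Opens := {W' | IsAffineOpen W' ∧ ∃ V : Y.Opens, IsAffineOpen V ∧ W' ≤ g ⁻¹ᵁ V}
  have hB : TopologicalSpace.Opens.IsBasis B := by
    rw [TopologicalSpace.Opens.isBasis_iff_nbhd]
    intro U' x hxU'
    obtain ⟨V, hV, hxV, -⟩ := TopologicalSpace.Opens.isBasis_iff_nbhd.1 Y.isBasis_affineOpens
      (show g x ∈ (⊤ : Y.Opens) from trivial)
    obtain ⟨W', hW', hxW', hW'le⟩ := TopologicalSpace.Opens.isBasis_iff_nbhd.1
      Y'.isBasis_affineOpens (show x ∈ U' ⊓ g ⁻¹ᵁ V from ⟨hxU', hxV⟩)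
    exact ⟨W', ⟨hW', V, hV, hW'le.trans inf_le_right⟩, hxW', hW'le.trans inf_le_left⟩
  refine Groth.Agent.Lib.BasisAcyclic.isZero_Rpush_succ (f := f'.base) hB (Coh.toAb M') d ?_ q hq
  rintro W' ⟨hW', V, hV, e⟩ n hn α
  -- the affine morphism `f'⁻¹W' ⟶ f⁻¹V`
  have hh : IsAffineHom (g'.resLE (f ⁻¹ᵁ V) (f' ⁻¹ᵁ W')
      (Groth.Agent.Lib.PullbackRestrict.preimage_le sq V W' e)) :=
    Groth.Agent.Lib.PullbackRestrict.isAffineHom_resLE sq V W' e hV hW'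
  have hM'' : (M'.restrict (f' ⁻¹ᵁ W').ι).IsQuasicoherent := inferInstance
  obtain ⟨e12⟩ := Groth.Agent.S0012.result (g'.resLE (f ⁻¹ᵁ V) (f' ⁻¹ᵁ W')
      (Groth.Agent.Lib.PullbackRestrict.preimage_le sq V W' e)) (M'.restrict (f' ⁻¹ᵁ W').ι) (n + 1)
  have hN : ((Coh.push (g'.resLE (f ⁻¹ᵁ V) (f' ⁻¹ᵁ W')
      (Groth.Agent.Lib.PullbackRestrict.preimage_le sq V W' e))).obj
        (M'.restrict (f' ⁻¹ᵁ W').ι)).IsQuasicoherent :=
    Groth.Agent.Lib.H90OXModQcqs.isQuasicoherent_pushforward_of_qcqs _ _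
  -- extend to `X`
  have hVa : IsAffine V.toScheme := hV
  have hcU : CompactSpace ↥(f ⁻¹ᵁ V).toScheme :=
    isCompact_iff_compactSpace.mp
      (QuasiCompact.isCompact_preimage (f := f) (V : Set Y) V.2 hV.isCompact)
  have hqcι : QuasiCompact (f ⁻¹ᵁ V).ι := inferInstance
  have hNt : ((Scheme.Modules.pushforward (f ⁻¹ᵁ V).ι).obj ((Coh.push (g'.resLE (f ⁻¹ᵁ V)
      (f' ⁻¹ᵁ W') (Groth.Agent.Lib.PullbackRestrict.preimage_le sq V W' e))).obj
        (M'.restrict (f' ⁻¹ᵁ W').ι))).IsQuasicoherent :=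
    Groth.Agent.Lib.H90OXModQcqs.isQuasicoherent_pushforward_of_qcqs _ _
  have hz := hvan _ (n + 1) hNt (by omega)
  have hz2 : Limits.IsZero ((Coh.RpushAb (f ∣_ V) (n + 1)).obj (Coh.toAb
      (((Scheme.Modules.pushforward (f ⁻¹ᵁ V).ι).obj ((Coh.push (g'.resLE (f ⁻¹ᵁ V)
      (f' ⁻¹ᵁ W') (Groth.Agent.Lib.PullbackRestrict.preimage_le sq V W' e))).obj
        (M'.restrict (f' ⁻¹ᵁ W').ι))).restrict (f ⁻¹ᵁ V).ι))) := by
    obtain ⟨e'⟩ := Groth.Agent.S0854.result f.base (Coh.toAb ((Scheme.Modules.pushforward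
      (f ⁻¹ᵁ V).ι).obj ((Coh.push (g'.resLE (f ⁻¹ᵁ V)
      (f' ⁻¹ᵁ W') (Groth.Agent.Lib.PullbackRestrict.preimage_le sq V W' e))).obj
        (M'.restrict (f' ⁻¹ᵁ W').ι)))) V (n + 1)
    have h2 := (CohTop.restrFunctor V).map_isZero hz
    have h3 := Limits.IsZero.of_iso h2 e'.symm
    change Limits.IsZero ((CohTop.Rpush (f ∣_ V).base (n + 1)).obj _)
    rw [Groth.Agent.Lib.RpushRestrict.base_eq]
    exact h3
  have hz3 : Limits.IsZero ((Coh.RpushAb (f ∣_ V) (n + 1)).obj (Coh.toAb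
      ((Coh.push (g'.resLE (f ⁻¹ᵁ V)
      (f' ⁻¹ᵁ W') (Groth.Agent.Lib.PullbackRestrict.preimage_le sq V W' e))).obj
        (M'.restrict (f' ⁻¹ᵁ W').ι)))) :=
    hz2.of_iso ((Coh.RpushAb (f ∣_ V) (n + 1)).mapIso ((SheafOfModules.toSheaf _).mapIso
      ((Scheme.Modules.restrictFunctorAdjCounitIso (f ⁻¹ᵁ V).ι).app _))).symm
  obtain ⟨E⟩ := Groth.Agent.S0032.result (f ∣_ V) ((Coh.push (g'.resLE (f ⁻¹ᵁ V)
      (f' ⁻¹ᵁ W') (Groth.Agent.Lib.PullbackRestrict.preimage_le sq V W' e))).obj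
        (M'.restrict (f' ⁻¹ᵁ W').ι)) (n + 1)
  have hs : Subsingleton ↑(((Coh.RpushAb (f ∣_ V) (n + 1)).obj (Coh.toAb ((Coh.push (g'.resLE
      (f ⁻¹ᵁ V) (f' ⁻¹ᵁ W') (Groth.Agent.Lib.PullbackRestrict.preimage_le sq V W' e))).obj
        (M'.restrict (f' ⁻¹ᵁ W').ι)))).obj.obj (Opposite.op ⊤)) := by
    have h4 := (sheafToPresheaf _ _ ⋙ (evaluation _ _).obj (Opposite.op ⊤)).map_isZero hz3
    exact AddCommGrpCat.subsingleton_of_isZero h4
  have hsub : Subsingleton (Coh.HH (f' ⁻¹ᵁ W') (M'.restrict (f' ⁻¹ᵁ W').ι) (n + 1)) :=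
    (e12.trans E).toEquiv.subsingleton
  obtain ⟨E'⟩ := Groth.Agent.S0463.result (Coh.toAb M')
    ((TopologicalSpace.Opens.map f'.base).obj W') (n + 1)
  exact E'.injective (@Subsingleton.elim _ hsub _ _)

end Groth.Agent.S7448
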