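import Groth.Statements.S7451
import Groth.Agent.Lib.ElemInv

set_option autoImplicit false
universe u
open CategoryTheory AlgebraicGeometry
open Desc

namespace Groth.Agent.S7451

/-- Let `k` be a field and `n ≥ 2`. For `i ≠ j` and `d ≥ 0` let `T_{i,j,d}` be the automorphism of
`𝔸^n_k` given by `x_i ↦ x_i + x_j^d` and fixing the other coordinates. Let `W ⊆ 𝔸^n_k` be a nonempty
open subscheme with `T_{i,j,d}⁻¹(W) = W` for all `i, j, d`. Then either `W = 𝔸^n_k`, or `k` has
prime characteristic `p` and the complement `𝔸^n_k ∖ W` consists of finitely many closed points,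
each of whose coordinates `a` in the residue field satisfies `a^(p^m) = a` for some `m ≥ 1`
(equivalently, is algebraic over `𝔽_p`). -/
theorem result (k : Type u) [Field k] (n : ℕ) (hn : 2 ≤ n)
    (W : (Spec (CommRingCat.of (MvPolynomial (Fin n) k))).Opens)
    (hW : (W : Set ↥(Spec (CommRingCat.of (MvPolynomial (Fin n) k)))).Nonempty)
    (hinv : ∀ (i j : Fin n), i ≠ j → ∀ d : ℕ,
      (Spec.map (CommRingCat.ofHom (MvPolynomial.aeval (R := k)
        (Function.update MvPolynomial.X i (MvPolynomial.X i + MvPolynomial.X j ^ d) :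
          Fin n → MvPolynomial (Fin n) k)).toRingHom)) ⁻¹ᵁ W = W) :
    W = ⊤ ∨ ∃ p : ℕ, p.Prime ∧ CharP k p ∧ ((W : Set ↥(Spec (CommRingCat.of (MvPolynomial (Fin n) k))))ᶜ).Finite ∧
      ∀ x : ↥(Spec (CommRingCat.of (MvPolynomial (Fin n) k))),
        x ∉ (W : Set ↥(Spec (CommRingCat.of (MvPolynomial (Fin n) k)))) →
        IsClosed ({x} : Set ↥(Spec (CommRingCat.of (MvPolynomial (Fin n) k)))) ∧ ∀ i : Fin n, ∃ m : ℕ, 0 < m ∧
          (algebraMap (MvPolynomial (Fin n) k) x.asIdeal.ResidueField (MvPolynomial.X i)) ^ (p ^ m) =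
            algebraMap (MvPolynomial (Fin n) k) x.asIdeal.ResidueField (MvPolynomial.X i) := by
  classical
  let Z : Set (PrimeSpectrum (MvPolynomial (Fin n) k)) :=
    (W : Set ↥(Spec (CommRingCat.of (MvPolynomial (Fin n) k))))ᶜ
  have hZc : IsClosed Z := W.isOpen.isClosed_compl
  let J : Ideal (MvPolynomial (Fin n) k) := PrimeSpectrum.vanishingIdeal Z
  have hZJ : PrimeSpectrum.zeroLocus (J : Set (MvPolynomial (Fin n) k)) = Z := by
    rw [PrimeSpectrum.zeroLocus_vanishingIdeal_eq_closure, hZc.closure_eq]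
  have hstab : ∀ i j : Fin n, i ≠ j → ∀ d : ℕ, ∀ f ∈ J,
      Groth.Agent.Lib.ElemInv.phi i j d f ∈ J := by
    intro i j hij d f hf
    rw [PrimeSpectrum.mem_vanishingIdeal] at hf ⊢
    intro x hx
    have hx' : PrimeSpectrum.comap (Groth.Agent.Lib.ElemInv.phi (k := k) i j d).toRingHom x ∈ Z := by
      intro hmem
      apply hx
      have h2 : x ∈ (Spec.map (CommRingCat.ofHom (MvPolynomial.aeval (R := k)
        (Function.update MvPolynomial.X i (MvPolynomial.X i + MvPolynomial.X j ^ d) :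
          Fin n → MvPolynomial (Fin n) k)).toRingHom)) ⁻¹ᵁ W := hmem
      rw [hinv i j hij d] at h2
      exact h2
    exact hf _ hx'
  have hJ0 : J ≠ ⊥ := by
    intro h
    obtain ⟨w, hw⟩ := hW
    have : (w : PrimeSpectrum (MvPolynomial (Fin n) k)) ∈ Z := by
      rw [← hZJ, h]; simp only [Submodule.bot_coe, PrimeSpectrum.zeroLocus_singleton_zero]
      exact Set.mem_univ _
    exact this hw
  by_cases hJ1 : J = ⊤
  · left
    ext x
    simp only [TopologicalSpace.Opens.coe_top, Set.mem_univ, iff_true]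
    by_contra hx
    have : (x : PrimeSpectrum (MvPolynomial (Fin n) k)) ∈ Z := hx
    rw [← hZJ, hJ1] at this
    simp only [Submodule.top_coe, PrimeSpectrum.zeroLocus_univ] at this
    exact this
  · right
    obtain ⟨p, hp, hkp, hco⟩ := Groth.Agent.Lib.ElemInv.main_alg hn hJ0 hJ1 hstab
    have hmax : ∀ Q : Ideal (MvPolynomial (Fin n) k), Q.IsPrime → J ≤ Q → Q.IsMaximal := by
      intro Q hQ hJQ
      exact Groth.Agent.Lib.ElemInv.isMaximal_of_coords p hp Q (hco Q hQ hJQ)
    refine ⟨p, hp, hkp, ?_, ?_⟩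
    · have := Groth.Agent.Lib.ElemInv.finite_zeroLocus J hmax
      rw [hZJ] at this
      exact this
    · intro x hx
      have hxZ : (x : PrimeSpectrum (MvPolynomial (Fin n) k)) ∈
          PrimeSpectrum.zeroLocus (J : Set (MvPolynomial (Fin n) k)) := by
        rw [hZJ]; exact hx
      have hJx : J ≤ x.asIdeal := (PrimeSpectrum.mem_zeroLocus x _).mp hxZ
      refine ⟨?_, ?_⟩
      · exact (PrimeSpectrum.isClosed_singleton_iff_isMaximal x).mpr (hmax _ x.isPrime hJx)
      · intro i
        obtain ⟨m, hm, hmem⟩ := hco x.asIdeal x.isPrime hJx i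
        refine ⟨m, hm, ?_⟩
        rw [← sub_eq_zero, ← map_pow, ← map_sub, Ideal.algebraMap_residueField_eq_zero]
        exact hmem

end Groth.Agent.S7451
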