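import Groth.Statements.S7452
import Mathlib.AlgebraicGeometry.Morphisms.UniversallyOpen

set_option autoImplicit false
set_option linter.style.haveILetI false
universe u
open CategoryTheory CategoryTheory.Limits AlgebraicGeometry
open Grpd

namespace Groth.Agent.S7452

variable {S : Scheme.{u}} (G : Grpd.GroupoidScheme S)

/-- composition of `T`-points -/
noncomputable def comp {T : Scheme.{u}} (α β : T ⟶ G.R) (h : α ≫ G.s = β ≫ G.t) : T ⟶ G.R :=
  pullback.lift α β h ≫ G.c

theorem comp_congr {T : Scheme.{u}} {α α' β β' : T ⟶ G.R} (h : α ≫ G.s = β ≫ G.t)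
    (hα : α = α') (hβ : β = β') :
    comp G α β h = comp G α' β' (by rw [← hα, ← hβ]; exact h) := by
  subst hα hβ
  rfl

theorem precomp_comp {T T' : Scheme.{u}} (u : T' ⟶ T) (α β : T ⟶ G.R)
    (h : α ≫ G.s = β ≫ G.t) :
    u ≫ comp G α β h = comp G (u ≫ α) (u ≫ β) (by rw [Category.assoc, Category.assoc, h]) := by
  unfold comp
  rw [← Category.assoc]
  congr 1
  apply pullback.hom_ext
  · rw [Category.assoc, pullback.lift_fst, pullback.lift_fst]
  · rw [Category.assoc, pullback.lift_snd, pullback.lift_snd]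

theorem c_eq : G.c = comp G (pullback.fst G.s G.t) (pullback.snd G.s G.t) pullback.condition := by
  unfold comp
  have : pullback.lift (pullback.fst G.s G.t) (pullback.snd G.s G.t) pullback.condition = 𝟙 _ := by
    apply pullback.hom_ext <;> simp
  rw [this, Category.id_comp]

theorem comp_s' {T : Scheme.{u}} (α β : T ⟶ G.R) (h : α ≫ G.s = β ≫ G.t) :
    comp G α β h ≫ G.s = β ≫ G.s := G.comp_s α β h

theorem comp_t' {T : Scheme.{u}} (α β : T ⟶ G.R) (h : α ≫ G.s = β ≫ G.t) :
    comp G α β h ≫ G.t = α ≫ G.t := G.comp_t α β h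

theorem assoc' {T : Scheme.{u}} (α β γ : T ⟶ G.R) (h₁ : α ≫ G.s = β ≫ G.t)
    (h₂ : β ≫ G.s = γ ≫ G.t) :
    comp G (comp G α β h₁) γ ((comp_s' G α β h₁).trans h₂) =
      comp G α (comp G β γ h₂) (h₁.trans (comp_t' G β γ h₂).symm) := G.assoc α β γ h₁ h₂

theorem comp_i' {T : Scheme.{u}} (α : T ⟶ G.R) :
    comp G α (α ≫ G.i) (by rw [Category.assoc, G.i_t]) = α ≫ G.t ≫ G.e := G.comp_i α

theorem i_comp' {T : Scheme.{u}} (α : T ⟶ G.R) :
    comp G (α ≫ G.i) α (by rw [Category.assoc, G.i_s]) = α ≫ G.s ≫ G.e := G.i_comp α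

theorem comp_e' {T : Scheme.{u}} (α : T ⟶ G.R) :
    comp G α (α ≫ G.s ≫ G.e)
      (by rw [Category.assoc, Category.assoc, G.e_t, Category.comp_id]) = α := G.comp_e α

/-- the shear map `(a, b) ↦ (a ∘ b, b)` -/
noncomputable def shear : pullback G.s G.t ⟶ pullback G.s G.s :=
  pullback.lift G.c (pullback.snd G.s G.t) (by
    rw [c_eq G]
    exact comp_s' G _ _ _)

/-- `(a', b) ↦ a' ∘ b⁻¹` -/
noncomputable def d : pullback G.s G.s ⟶ G.R :=
  comp G (pullback.fst G.s G.s) (pullback.snd G.s G.s ≫ G.i) (by
    rw [Category.assoc, G.i_t]; exact pullback.condition)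

theorem d_s : d G ≫ G.s = pullback.snd G.s G.s ≫ G.t := by
  unfold d
  rw [comp_s', Category.assoc, G.i_s]

/-- the inverse shear map `(a', b) ↦ (a' ∘ b⁻¹, b)` -/
noncomputable def unshear : pullback G.s G.s ⟶ pullback G.s G.t :=
  pullback.lift (d G) (pullback.snd G.s G.s) (d_s G)

theorem shear_unshear : shear G ≫ unshear G = 𝟙 _ := by
  apply pullback.hom_ext
  · rw [Category.assoc, unshear, pullback.lift_fst, Category.id_comp, d, precomp_comp]
    have h1 : shear G ≫ pullback.fst G.s G.s = G.c := pullback.lift_fst _ _ _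
    have h2 : shear G ≫ pullback.snd G.s G.s = pullback.snd G.s G.t := pullback.lift_snd _ _ _
    rw [comp_congr G _ (h1.trans (c_eq G))
      (show shear G ≫ pullback.snd G.s G.s ≫ G.i = pullback.snd G.s G.t ≫ G.i by
        rw [← Category.assoc, h2])]
    rw [assoc' G (pullback.fst G.s G.t) (pullback.snd G.s G.t) (pullback.snd G.s G.t ≫ G.i)
      pullback.condition (by rw [Category.assoc, G.i_t])]
    rw [comp_congr G _ rfl (comp_i' G (pullback.snd G.s G.t))]
    rw [comp_congr G _ rfl
      (show pullback.snd G.s G.t ≫ G.t ≫ G.e = pullback.fst G.s G.t ≫ G.s ≫ G.e by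
        rw [← Category.assoc, ← pullback.condition, Category.assoc])]
    exact comp_e' G _
  · rw [Category.assoc, unshear, pullback.lift_snd, Category.id_comp, shear, pullback.lift_snd]

theorem unshear_shear : unshear G ≫ shear G = 𝟙 _ := by
  apply pullback.hom_ext
  · rw [Category.assoc, shear, pullback.lift_fst, Category.id_comp, c_eq G, precomp_comp]
    have h1 : unshear G ≫ pullback.fst G.s G.t = d G := pullback.lift_fst _ _ _
    have h2 : unshear G ≫ pullback.snd G.s G.t = pullback.snd G.s G.s := pullback.lift_snd _ _ _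
    rw [comp_congr G _ h1 h2]
    unfold d
    rw [assoc' G (pullback.fst G.s G.s) (pullback.snd G.s G.s ≫ G.i) (pullback.snd G.s G.s)
      (by rw [Category.assoc, G.i_t]; exact pullback.condition) (by rw [Category.assoc, G.i_s])]
    rw [comp_congr G _ rfl (i_comp' G (pullback.snd G.s G.s))]
    rw [comp_congr G _ rfl
      (show pullback.snd G.s G.s ≫ G.s ≫ G.e = pullback.fst G.s G.s ≫ G.s ≫ G.e by
        rw [← Category.assoc, ← pullback.condition, Category.assoc])]
    exact comp_e' G _
  · rw [Category.assoc, shear, pullback.lift_snd, Category.id_comp, unshear, pullback.lift_snd]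

/-- Let (U, R, s, t, c) be a groupoid scheme over S with U the spectrum of a field. Then the composition
c : R x_(s,U,t) R -> R is an open map of topological spaces. (A groupoid scheme carries U, R, s, t,
c, e, i over S with the groupoid axioms on T-points; c is defined on the fibre product of s and t
and sends a pair (a, b) with s(a) = t(b) to a composed with b.) -/
theorem result (S : Scheme.{u}) (G : Grpd.GroupoidScheme S) (k : Type u) [Field k] (eU : G.U ≅ Spec (CommRingCat.of k)) : IsOpenMap ⇑G.c := by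
  haveI : Nonempty G.U := ⟨eU.inv (IsLocalRing.closedPoint k)⟩
  haveI : IsIntegral G.U := isIntegral_of_isOpenImmersion eU.hom
  haveI : Subsingleton G.U := eU.hom.homeomorph.subsingleton
  haveI : UniversallyOpen G.s := inferInstance
  haveI : UniversallyOpen (pullback.fst G.s G.s) := inferInstance
  have hc : G.c = shear G ≫ pullback.fst G.s G.s := (pullback.lift_fst _ _ _).symm
  haveI : IsIso (shear G) := ⟨unshear G, shear_unshear G, unshear_shear G⟩
  rw [hc]
  have h1 : IsOpenMap (shear G) := (shear G).homeomorph.isOpenMap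
  have h2 : IsOpenMap (pullback.fst G.s G.s) := (pullback.fst G.s G.s).isOpenMap
  simpa using h2.comp h1

end Groth.Agent.S7452
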