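import Groth.Statements.S7453
import Groth.Agent.S1886
import Groth.Agent.Lib.H8GrpdDim

set_option autoImplicit false
universe u
open CategoryTheory CategoryTheory.Limits AlgebraicGeometry
open Grpd

namespace Groth.Agent.S7453


/-- Let (U, R, s, t, c) be a groupoid scheme over S with U the spectrum of a field. Then R is a
separated scheme. (A groupoid scheme carries U, R, s, t, c, e, i over S with the groupoid axioms on
T-points; c is defined on the fibre product of s and t and sends a pair (a, b) with s(a) = t(b) to a
composed with b.) -/
theorem result (S : Scheme.{u}) (G : Grpd.GroupoidScheme S) (k : Type u) [Field k] (eU : G.U ≅ Spec (CommRingCat.of k)) : G.R.IsSeparated := by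
  have hsub : Subsingleton ↥G.U := Groth.Agent.Lib.H8GrpdDim.subsingleton_U G k eU
  -- the identity section of the stabilizer is a closed immersion
  have h1 : IsClosedImmersion G.eStab :=
    isClosedImmersion_of_comp_eq_id G.stabilizerToU G.eStab (pullback.lift_snd _ _ _)
  obtain ⟨⟨hA, hB⟩, -⟩ := Groth.Agent.S1886.result S G
  have h2 : IsSeparated G.j := hA.2 (hB.2 h1)
  -- `U → S` is separated
  have h3 : IsClosedImmersion (pullback.diagonal G.pU) :=
    isClosedImmersion_of_comp_eq_id (pullback.fst G.pU G.pU) (pullback.diagonal G.pU)
      (pullback.diagonal_fst _)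
  have h4 : IsSeparated G.pU := ⟨h3⟩
  have h5 : IsSeparated (pullback.fst G.pU G.pU) := inferInstance
  have h6 : IsSeparated eU.hom := inferInstance
  have h7 : IsSeparated (terminal.from (Spec (CommRingCat.of k))) := inferInstance
  have h8 : IsSeparated (G.j ≫ pullback.fst G.pU G.pU ≫ eU.hom ≫
      terminal.from (Spec (CommRingCat.of k))) := inferInstance
  have h9 : terminal.from G.R = G.j ≫ pullback.fst G.pU G.pU ≫ eU.hom ≫
      terminal.from (Spec (CommRingCat.of k)) := Subsingleton.elim _ _
  exact ⟨h9 ▸ h8⟩

end Groth.Agent.S7453
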