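import Groth.Statements.S7455
import Groth.Agent.Lib.GrpdPts
import Groth.Agent.Lib.GrpdBasic
import Groth.Agent.Lib.SmoothLocusBC

set_option autoImplicit false
universe u
open CategoryTheory CategoryTheory.Limits AlgebraicGeometry
open Grpd

namespace Groth.Agent.S7455

open Groth.Agent.Lib.GrpdPts Groth.Agent.Lib.SmoothLocusBC

lemma isPullback_comp_mono {C : Type*} [Category C] {P X Y W W' : C} {fst : P ⟶ X} {snd : P ⟶ Y}
    {f : X ⟶ W} {g : Y ⟶ W} (H : IsPullback fst snd f g) (i : W ⟶ W') [Mono i] :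
    IsPullback fst snd (f ≫ i) (g ≫ i) :=
  ⟨⟨by rw [← Category.assoc, H.w, Category.assoc]⟩,
    ⟨PullbackCone.isLimitOfCompMono f g i _ H.isLimit⟩⟩

theorem smooth_s_comp (S : Scheme.{u}) (G : Grpd.GroupoidScheme S) (k : Type u) [Field k]
    [PerfectField k] (eU : G.U ≅ Spec (CommRingCat.of k)) [LocallyOfFiniteType G.s]
    [IsReduced G.R] : Smooth (G.s ≫ eU.hom) := by
  have hlft : LocallyOfFiniteType (G.s ≫ eU.hom) := inferInstance
  rw [← Scheme.Hom.smoothLocus_eq_top_iff]
  have hdense : Dense ((G.s ≫ eU.hom).smoothLocus : Set G.R) :=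
    (G.s ≫ eU.hom).dense_smoothLocus_of_perfectField
  refine top_unique fun r _ => ?_
  have : Nonempty G.R := ⟨r⟩
  obtain ⟨w, hw⟩ := hdense.nonempty
  have h3 : IsPullback G.c (pullback.fst G.s G.t) (G.t ≫ eU.hom) (G.t ≫ eU.hom) :=
    isPullback_comp_mono (isPullback_c_fst G) eU.hom
  obtain ⟨z, hz1, hz2⟩ : ∃ z : ↥(pullback G.s G.t), G.c z = r ∧ pullback.fst G.s G.t z = w := by
    obtain ⟨z', h1, h2⟩ := Scheme.Pullback.exists_preimage_pullback
      (f := G.t ≫ eU.hom) (g := G.t ≫ eU.hom) r w (Subsingleton.elim _ _)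
    refine ⟨h3.isoPullback.inv z', ?_, ?_⟩
    · rw [← Scheme.Hom.comp_apply, h3.isoPullback_inv_fst, h1]
    · rw [← Scheme.Hom.comp_apply, h3.isoPullback_inv_snd, h2]
  have h1 : IsPullback (pullback.fst G.s G.t) (pullback.snd G.s G.t) (G.s ≫ eU.hom)
      (G.t ≫ eU.hom) := isPullback_comp_mono (IsPullback.of_hasPullback _ _) eU.hom
  have h2 : IsPullback G.c (pullback.snd G.s G.t) (G.s ≫ eU.hom) (G.s ≫ eU.hom) :=
    isPullback_comp_mono (isPullback_c_snd G) eU.hom
  have hsnd : ((pullback.snd G.s G.t).stalkMap z).hom.FormallySmooth :=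
    formallySmooth_stalkMap_snd_of_isPullback h1 z ((formallySmooth_stalkMap_congr hz2).mpr hw)
  have hr := formallySmooth_stalkMap_of_isPullback_of_flat h2 z hsnd
  exact (formallySmooth_stalkMap_congr hz1).mp hr

/-- Let (U, R, s, t, c) be a groupoid scheme over S with U the spectrum of a perfect field, s and t
locally of finite type, and R reduced. Then s and t are smooth. (A groupoid scheme carries U, R, s,
t, c, e, i over S with the groupoid axioms on T-points; c is defined on the fibre product of s and t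
and sends a pair (a, b) with s(a) = t(b) to a composed with b.) -/
theorem result (S : Scheme.{u}) (G : Grpd.GroupoidScheme S) (k : Type u) [Field k] [PerfectField k] (eU : G.U ≅ Spec (CommRingCat.of k)) [LocallyOfFiniteType G.s] [LocallyOfFiniteType G.t] [IsReduced G.R] : Smooth G.s ∧ Smooth G.t := by
  have h0 : Smooth (G.s ≫ eU.hom) := smooth_s_comp S G k eU
  have hs : Smooth G.s := by
    have h1 : Smooth ((G.s ≫ eU.hom) ≫ eU.inv) := inferInstance
    rwa [Category.assoc, eU.hom_inv_id, Category.comp_id] at h1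
  refine ⟨hs, ?_⟩
  rw [← G.i_s]
  have : IsIso G.i := Groth.Agent.Lib.GrpdBasic.isIso_i G
  infer_instance

end Groth.Agent.S7455
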