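import Groth.Statements.S7456
import Mathlib.AlgebraicGeometry.PullbackCarrier

set_option autoImplicit false
universe u
open CategoryTheory CategoryTheory.Limits AlgebraicGeometry
open Grpd

namespace Groth.Agent.S7456

open CategoryTheory CategoryTheory.Limits AlgebraicGeometry in
theorem key (S : Scheme.{u}) (G : Grpd.GroupoidScheme S) (r r' : G.R) (h : G.s r = G.t r') :
    ∃ r'' : G.R, G.t r'' = G.t r ∧ G.s r'' = G.s r' := by
  obtain ⟨z, hz1, hz2⟩ := Scheme.Pullback.exists_preimage_pullback (f := G.s) (g := G.t) r r' h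
  have hid : pullback.lift (pullback.fst G.s G.t) (pullback.snd G.s G.t) pullback.condition =
      𝟙 (pullback G.s G.t) := by
    apply pullback.hom_ext <;> simp
  have ht := G.comp_t (pullback.fst G.s G.t) (pullback.snd G.s G.t) pullback.condition
  have hs := G.comp_s (pullback.fst G.s G.t) (pullback.snd G.s G.t) pullback.condition
  rw [hid, Category.id_comp] at ht hs
  refine ⟨G.c z, ?_, ?_⟩
  · have := congrArg (fun φ : pullback G.s G.t ⟶ G.U => φ z) ht
    simpa [hz1] using this
  · have := congrArg (fun φ : pullback G.s G.t ⟶ G.U => φ z) hs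
    simpa [hz2] using this

/-- Let (U, R, s, t, c) be a groupoid scheme over S. For every subset W of U, the subset t(s^{-1}(W)) is
set-theoretically R-invariant: its preimages under s and t coincide. If moreover s and t are open
maps and quasi-compact, then U is covered by R-invariant quasi-compact open subsets. (The published
statement also asserts that this set is open when W is open and s, t are open maps; this row omits
that clause.) (A groupoid scheme carries U, R, s, t, c, e, i over S with the groupoid axioms on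
T-points; c is defined on the fibre product of s and t and sends a pair (a, b) with s(a) = t(b) to a
composed with b.) -/
theorem result (S : Scheme.{u}) (G : Grpd.GroupoidScheme S) : (∀ W : Set G.U, ⇑G.s ⁻¹' (⇑G.t '' (⇑G.s ⁻¹' W)) = ⇑G.t ⁻¹' (⇑G.t '' (⇑G.s ⁻¹' W))) ∧ (IsOpenMap ⇑G.s → IsOpenMap ⇑G.t → QuasiCompact G.s → QuasiCompact G.t → ∀ u : G.U, ∃ W : G.U.Opens, IsCompact (W : Set G.U) ∧ u ∈ W ∧ G.s ⁻¹ᵁ W = G.t ⁻¹ᵁ W) := by
  have part1 : ∀ W : Set G.U, ⇑G.s ⁻¹' (⇑G.t '' (⇑G.s ⁻¹' W)) = ⇑G.t ⁻¹' (⇑G.t '' (⇑G.s ⁻¹' W)) := by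
    intro W
    ext r
    simp only [Set.mem_preimage, Set.mem_image]
    constructor
    · rintro ⟨r', hr'W, hr'⟩
      obtain ⟨r'', h1, h2⟩ := key S G r r' hr'.symm
      exact ⟨r'', by rw [h2]; exact hr'W, h1⟩
    · rintro ⟨r', hr'W, hr'⟩
      have hi_s : G.s (G.i r) = G.t r := by
        have := congrArg (fun φ : G.R ⟶ G.U => φ r) G.i_s
        simpa using this
      have hi_t : G.t (G.i r) = G.s r := by
        have := congrArg (fun φ : G.R ⟶ G.U => φ r) G.i_t
        simpa using this
      obtain ⟨r'', h1, h2⟩ := key S G (G.i r) r' (by rw [hi_s, hr'])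
      exact ⟨r'', by rw [h2]; exact hr'W, by rw [h1, hi_t]⟩
  refine ⟨part1, ?_⟩
  intro hs_open ht_open hs_qc ht_qc u
  obtain ⟨W₀, hW₀aff, huW₀, -⟩ :=
    AlgebraicGeometry.exists_isAffineOpen_mem_and_subset (X := G.U) (x := u) (U := ⊤) trivial
  have hW₀c : IsCompact (W₀ : Set G.U) := AlgebraicGeometry.IsAffineOpen.isCompact hW₀aff
  have hopen : IsOpen (⇑G.t '' (⇑G.s ⁻¹' (W₀ : Set G.U))) :=
    ht_open _ (W₀.2.preimage G.s.continuous)
  refine ⟨⟨_, hopen⟩, ?_, ?_, ?_⟩
  · exact (hs_qc.isCompact_preimage _ W₀.2 hW₀c).image G.t.continuous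
  · have he_s : G.s (G.e u) = u := by
      have := congrArg (fun φ : G.U ⟶ G.U => φ u) G.e_s
      simpa using this
    have he_t : G.t (G.e u) = u := by
      have := congrArg (fun φ : G.U ⟶ G.U => φ u) G.e_t
      simpa using this
    exact ⟨G.e u, by simpa [he_s] using huW₀, he_t⟩
  · apply TopologicalSpace.Opens.ext
    exact part1 _

end Groth.Agent.S7456
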