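import Groth.Statements.S7457
import Groth.Agent.Lib.GrpdBasic

set_option autoImplicit false
universe u
open CategoryTheory CategoryTheory.Limits AlgebraicGeometry
open Grpd

namespace Groth.Agent.S7457

/-- Let (U, R, s, t, c) be a groupoid scheme over S. Let φ : R x_(t,U,t) R -> R x_(s,U,t) R be the
morphism sending a pair (a, b) with the same target to (a, a^{-1} composed with b), that is, the
morphism whose first component is the first projection and whose second component is c applied to (i
composed after the first projection, second projection). Then φ is an isomorphism and composed with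
c it gives the second projection. Moreover the square with sides c, the second projection R
x_(s,U,t) R -> R, s and s is cartesian. (A groupoid scheme carries U, R, s, t, c, e, i over S with
the groupoid axioms on T-points; c is defined on the fibre product of s and t and sends a pair (a,
b) with s(a) = t(b) to a composed with b.) -/
theorem result (S : Scheme.{u}) (G : Grpd.GroupoidScheme S) : (∀ φ : pullback G.t G.t ⟶ pullback G.s G.t, φ ≫ pullback.fst G.s G.t = pullback.fst G.t G.t → φ ≫ pullback.snd G.s G.t = pullback.lift (pullback.fst G.t G.t ≫ G.i) (pullback.snd G.t G.t) ((Category.assoc _ _ _).trans ((congrArg (fun x => pullback.fst G.t G.t ≫ x) G.i_s).trans pullback.condition)) ≫ G.c → IsIso φ ∧ φ ≫ G.c = pullback.snd G.t G.t) ∧ IsPullback G.c (pullback.snd G.s G.t) G.s G.s := by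
  open Groth.Agent.Lib.GrpdBasic in
  refine ⟨?_, ?_⟩
  · intro φ h1 h2
    -- abbreviations on pullback t t
    set a := pullback.fst G.t G.t with ha
    set b := pullback.snd G.t G.t with hb
    have hab : a ≫ G.t = b ≫ G.t := pullback.condition
    have hai : (a ≫ G.i) ≫ G.s = b ≫ G.t := by rw [Category.assoc, G.i_s, hab]
    have h2' : φ ≫ pullback.snd G.s G.t = comp G (a ≫ G.i) b hai := h2
    have hφc : φ ≫ G.c = b := by
      rw [precomp_c]
      rw [comp_congr G h1 h2']
      exact comp_inv_comp G a b hab
    refine ⟨?_, hφc⟩
    -- the inverse
    have hψ : pullback.fst G.s G.t ≫ G.t = G.c ≫ G.t := by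
      rw [c_eq G, comp_t]
    refine ⟨pullback.lift (pullback.fst G.s G.t) G.c hψ, ?_, ?_⟩
    · apply pullback.hom_ext
      · rw [Category.assoc, pullback.lift_fst, h1, Category.id_comp]
      · rw [Category.assoc, pullback.lift_snd, hφc, Category.id_comp]
    · apply pullback.hom_ext
      · rw [Category.assoc, h1, pullback.lift_fst, Category.id_comp]
      · rw [Category.assoc, h2', precomp, Category.id_comp]
        have e1 : pullback.lift (pullback.fst G.s G.t) G.c hψ ≫ a ≫ G.i =
            pullback.fst G.s G.t ≫ G.i := by
          rw [← Category.assoc, pullback.lift_fst]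
        have e2 : pullback.lift (pullback.fst G.s G.t) G.c hψ ≫ b =
            comp G (pullback.fst G.s G.t) (pullback.snd G.s G.t) pullback.condition := by
          rw [pullback.lift_snd]; exact c_eq G
        rw [comp_congr G e1 e2]
        exact inv_comp_comp G _ _ _
  · have w : G.c ≫ G.s = pullback.snd G.s G.t ≫ G.s := by
      rw [c_eq G, comp_s]
    refine IsPullback.mk ⟨w⟩ ⟨PullbackCone.IsLimit.mk w
      (fun k => pullback.lift
        (comp G k.fst (k.snd ≫ G.i) (by rw [Category.assoc, G.i_t]; exact k.condition)) k.snd
        (by rw [comp_s, Category.assoc, G.i_s])) ?_ ?_ ?_⟩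
    · intro k
      rw [precomp_c]
      rw [comp_congr G (pullback.lift_fst _ _ _) (pullback.lift_snd _ _ _)]
      exact comp_inv_comp' G k.fst k.snd k.condition
    · intro k
      exact pullback.lift_snd _ _ _
    · intro k m hm1 hm2
      apply pullback.hom_ext
      · rw [pullback.lift_fst]
        have hm1' := hm1
        rw [precomp_c] at hm1'
        have hcond : (m ≫ pullback.fst G.s G.t) ≫ G.s = (m ≫ pullback.snd G.s G.t) ≫ G.t := by
          simp only [Category.assoc, pullback.condition]
        have := comp_comp_inv G (m ≫ pullback.fst G.s G.t) (m ≫ pullback.snd G.s G.t) hcond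
        rw [← this]
        exact comp_congr G hm1' (by rw [hm2]) _
      · rw [pullback.lift_snd, hm2]

end Groth.Agent.S7457
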