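import Groth.Statements.S7459
import Groth.Agent.Lib.GrpTranslate
import Mathlib.AlgebraicGeometry.Morphisms.UniversallyOpen

set_option autoImplicit false
universe u
open CategoryTheory MonoidalCategory CartesianMonoidalCategory MonObj GrpObj AlgebraicGeometry
open GrpSch

namespace Groth.Agent.S7459

/-- Let G be a group scheme over a field k, W an open subscheme of G and f : T -> G a morphism of
schemes (T becomes a k-scheme through f). Then the image of the composition T x_k W -> G x_k G -> G,
the second map being the multiplication, is open. -/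
theorem result (K : Type u) [Field K] (G : Over (Spec (CommRingCat.of K))) [GrpObj G] (W : G.left.Opens) (T : Scheme.{u}) (f : T ⟶ G.left) : IsOpen (Set.range ⇑(((Over.homMk f rfl : Over.mk (f ≫ G.hom) ⟶ G) ⊗ₘ (Over.homMk W.ι rfl : Over.mk (W.ι ≫ G.hom) ⟶ G)) ≫ μ[G]).left) := by
  open Groth.Agent.Lib.GrpTranslate in
  set T' : Over (Spec (CommRingCat.of K)) := Over.mk (f ≫ G.hom) with hT'
  set W' : Over (Spec (CommRingCat.of K)) := Over.mk (W.ι ≫ G.hom) with hW'
  set ψ : T' ⟶ G := Over.homMk f rfl with hψ
  set w : W' ⟶ G := Over.homMk W.ι rfl with hw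
  have h : (ψ ⊗ₘ w) ≫ μ[G] = (T' ◁ w) ≫ (translateIso G T' ψ).hom ≫ snd T' G := by
    rw [translateIso_hom_snd, ← Category.assoc, ← tensorHom_def']
  rw [h, Over.comp_left, Over.comp_left]
  have h1 : IsOpenImmersion (T' ◁ w).left := by
    rw [Over.whiskerLeft_left]
    have : IsOpenImmersion w.left := by
      show IsOpenImmersion W.ι
      infer_instance
    infer_instance
  have h2 : UniversallyOpen (snd T' G).left := by
    rw [Over.snd_left]
    have : UniversallyOpen T'.hom := inferInstance
    infer_instance
  have h3 : UniversallyOpen ((T' ◁ w).left ≫ (translateIso G T' ψ).hom.left ≫ (snd T' G).left) :=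
    inferInstance
  exact (Scheme.Hom.isOpenMap _).isOpen_range

end Groth.Agent.S7459
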