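import Groth.Statements.S7461
import Groth.Agent.Lib.GrpdBasic
import Mathlib.AlgebraicGeometry.Morphisms.FlatRank

set_option autoImplicit false
universe u
open CategoryTheory CategoryTheory.Limits AlgebraicGeometry
open Grpd

namespace Groth.Agent.S7461

open Groth.Agent.Lib.GrpdBasic in
theorem finrank_s_invariant (S : Scheme.{u}) (G : Grpd.GroupoidScheme S) [IsFinite G.s] [Flat G.s]
    (x : G.R) : G.s.finrank (G.s x) = G.s.finrank (G.t x) := by
  rw [← Scheme.Hom.finrank_of_isPullback _ _ _ _ (isPullback_c_snd G) x,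
    ← Scheme.Hom.finrank_of_isPullback _ _ _ _ (IsPullback.of_hasPullback G.s G.t) x]

open Groth.Agent.Lib.GrpdBasic in
theorem finrank_t_eq (S : Scheme.{u}) (G : Grpd.GroupoidScheme S) [IsFinite G.s] [Flat G.s] :
    G.t.finrank = G.s.finrank := by
  have : G.t = G.i ≫ G.s := G.i_s.symm
  have h1 : IsFinite (G.i ≫ G.s) := inferInstance
  have h2 : Flat (G.i ≫ G.s) := inferInstance
  simp only [this]
  exact Scheme.Hom.finrank_comp_left_of_isIso G.i G.s

theorem finrank_restrict {X Y : Scheme.{u}} (f : X ⟶ Y) [IsFinite f] [Flat f] (V : Y.Opens)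
    (y : V) : (f ∣_ V).finrank y = f.finrank y.1 :=
  Scheme.Hom.finrank_of_isPullback _ _ _ _ (isPullback_morphismRestrict f V).flip y


/-- Let (U, R, s, t, c) be a groupoid scheme over S with s and t finite locally free. Then U is a
disjoint union of R-invariant open subschemes U_r, r = 1, 2, 3, ..., such that s and t restricted
over U_r are finite locally free of rank r. Here the decomposition is indexed by all natural numbers
with U_0 empty, R-invariance of U_r means s^{-1}(U_r) = t^{-1}(U_r), and 'finite locally free of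
rank r' means finite, flat, locally of finite presentation with rank function constant equal to r.
(A groupoid scheme carries U, R, s, t, c, e, i over S with the groupoid axioms on T-points; c is
defined on the fibre product of s and t and sends a pair (a, b) with s(a) = t(b) to a composed with
b.) -/
theorem result (S : Scheme.{u}) (G : Grpd.GroupoidScheme S) [IsFinite G.s] [Flat G.s] [LocallyOfFinitePresentation G.s] [IsFinite G.t] [Flat G.t] [LocallyOfFinitePresentation G.t] : ∃ V : ℕ → G.U.Opens, V 0 = ⊥ ∧ (∀ r r', r ≠ r' → Disjoint (V r) (V r')) ∧ (⨆ r, V r) = ⊤ ∧ ∀ r, G.s ⁻¹ᵁ V r = G.t ⁻¹ᵁ V r ∧ Mor2.IsFinLocFreeOfDeg r (G.s ∣_ V r) ∧ Mor2.IsFinLocFreeOfDeg r (G.t ∣_ V r) := by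
  open Groth.Agent.Lib.GrpdBasic in
  have hlc := Scheme.Hom.isLocallyConstant_finrank G.s
  refine ⟨fun r => ⟨G.s.finrank ⁻¹' {r}, hlc.isOpen_fiber r⟩, ?_, ?_, ?_, ?_⟩
  · -- V 0 = ⊥
    ext u
    simp only [TopologicalSpace.Opens.coe_mk, Set.mem_preimage, Set.mem_singleton_iff,
      TopologicalSpace.Opens.coe_bot, Set.mem_empty_iff_false, iff_false]
    have h1 := Scheme.Hom.one_le_finrank_map G.s (G.e u)
    rw [e_s_pt] at h1
    omega
  · intro r r' hrr'
    rw [disjoint_iff]
    ext u
    simp only [TopologicalSpace.Opens.coe_inf, TopologicalSpace.Opens.coe_mk, Set.mem_inter_iff,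
      Set.mem_preimage, Set.mem_singleton_iff, TopologicalSpace.Opens.coe_bot,
      Set.mem_empty_iff_false, iff_false, not_and]
    intro h1 h2
    exact hrr' (h1.symm.trans h2)
  · rw [eq_top_iff]
    intro u _
    simp only [TopologicalSpace.Opens.mem_iSup]
    exact ⟨G.s.finrank u, rfl⟩
  · intro r
    refine ⟨?_, ⟨⟨inferInstance, inferInstance, inferInstance⟩, ?_⟩,
      ⟨⟨inferInstance, inferInstance, inferInstance⟩, ?_⟩⟩
    · ext x
      show G.s.finrank (G.s x) = r ↔ G.s.finrank (G.t x) = r
      rw [finrank_s_invariant S G x]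
    · intro y
      rw [finrank_restrict]
      exact y.2
    · intro y
      rw [finrank_restrict, finrank_t_eq S G]
      exact y.2

end Groth.Agent.S7461
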