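import Groth.Statements.S7462
import Groth.Agent.Lib.FieldProdClosure
import Groth.Agent.Lib.GrpdBasic

set_option autoImplicit false
universe u
open CategoryTheory CategoryTheory.Limits AlgebraicGeometry
open Grpd

namespace Groth.Agent.S7462

/-- Consider two groupoid schemes (U, R_1, s_1, t_1, c_1) and (U, R_2, s_2, t_2, c_2) over S, where U is
the spectrum of a field, together with a map a : R_1 -> R_2 respecting source, target and
composition (in the Lean: a morphism of groupoid schemes whose object-scheme component is an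
isomorphism). Write Z for the closure in R_2 of the image of a. Then, as a map of sets, c_2 sends Z
x_(s_2,U,t_2) Z into Z: any point of R_2 x_(s_2,U,t_2) R_2 with both projections in Z has its
c_2-image in Z. (Here a groupoid scheme over S consists of U, R, s, t, c, e, i satisfying the
groupoid axioms on T-points; c lives on the fibre product of s and t and takes a pair (a, b) with
s(a) = t(b) to the composite of a with b.) -/
theorem result (S : Scheme.{u}) (G₁ G₂ : Grpd.GroupoidScheme S) (f : Grpd.GroupoidScheme.Hom G₁ G₂) [IsIso f.fU] (k : Type u) [Field k] (eU : G₂.U ≅ Spec (CommRingCat.of k)) (p : ↑(pullback G₂.s G₂.t)) (h₁ : pullback.fst G₂.s G₂.t p ∈ closure (Set.range ⇑f.fR)) (h₂ : pullback.snd G₂.s G₂.t p ∈ closure (Set.range ⇑f.fR)) : G₂.c p ∈ closure (Set.range ⇑f.fR) := by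
  open Groth.Agent.Lib.FieldProdClosure Groth.Agent.Lib.GrpdBasic in
  -- `G₂.U` is integral with a single point
  have hint : IsIntegral G₂.U := by
    have : IsIntegral (Spec (CommRingCat.of k)) := inferInstance
    exact IsIntegral.of_isIso eU.inv
  have hsub : Subsingleton G₂.U := eU.hom.homeomorph.subsingleton
  have hcl := mem_closure_pullback (f := G₂.s) (g := G₂.t) (Set.range ⇑f.fR) (Set.range ⇑f.fR)
    p h₁ h₂
  have hc : Continuous G₂.c := G₂.c.continuous
  refine closure_mono ?_ (image_closure_subset_closure_image hc ⟨p, hcl, rfl⟩)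
  rintro _ ⟨q, ⟨hq₁, hq₂⟩, rfl⟩
  obtain ⟨Q, z, q', x₁, x₂, hz, hx₁, hx₂⟩ :=
    exists_lift_two f.fR f.fR (pullback.fst G₂.s G₂.t) (pullback.snd G₂.s G₂.t) q hq₁ hq₂
  have hcond : x₁ ≫ G₁.s = x₂ ≫ G₁.t := by
    rw [← cancel_mono f.fU]
    rw [Category.assoc, Category.assoc, ← f.comm_s, ← f.comm_t, ← Category.assoc, ← Category.assoc,
      hx₁, hx₂, Category.assoc, Category.assoc, pullback.condition]
  have key := f.comm_c x₁ x₂ hcond
  have e : pullback.lift (x₁ ≫ f.fR) (x₂ ≫ f.fR)
      (by rw [Category.assoc, Category.assoc, f.comm_s, f.comm_t, ← Category.assoc,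
        ← Category.assoc, hcond]) = q' := by
    apply pullback.hom_ext
    · rw [pullback.lift_fst, hx₁]
    · rw [pullback.lift_snd, hx₂]
  rw [e] at key
  refine ⟨(pullback.lift x₁ x₂ hcond ≫ G₁.c) z, ?_⟩
  have := congrArg (fun φ : Q ⟶ G₂.R => φ z) key
  simpa [hz] using this

end Groth.Agent.S7462
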