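import Groth.Statements.S7463
import Groth.Agent.Lib.FieldProdClosure
import Groth.Agent.Lib.GrpdBasic

set_option autoImplicit false
universe u
open CategoryTheory CategoryTheory.Limits AlgebraicGeometry
open Grpd

namespace Groth.Agent.S7463

/-- Consider a groupoid scheme (U, R, s, t, c) over S in which U is the spectrum of a field, and write Z
for the closure of the image of the morphism j = (t, s) : R -> U x_S U. Then, set-theoretically,
pr_02 carries Z x_(pr_1,U,pr_0) Z into Z: given the morphism pr_02 from (U x_S U) x_(pr_1,U,pr_0) (U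
x_S U) to U x_S U, whose components are pr_0 of the first factor and pr_1 of the second, any point
both of whose projections land in Z is mapped to a point of Z. (A groupoid scheme consists of U, R,
s, t, c, e, i over S satisfying the groupoid axioms on T-points; c is defined on the fibre product
of s and t and takes a pair (a, b) with s(a) = t(b) to the composite of a with b.) -/
theorem result (S : Scheme.{u}) (G : Grpd.GroupoidScheme S) (k : Type u) [Field k] (eU : G.U ≅ Spec (CommRingCat.of k)) (pr02 : pullback (pullback.snd G.pU G.pU) (pullback.fst G.pU G.pU) ⟶ pullback G.pU G.pU) (h0 : pr02 ≫ pullback.fst G.pU G.pU = pullback.fst (pullback.snd G.pU G.pU) (pullback.fst G.pU G.pU) ≫ pullback.fst G.pU G.pU) (h1 : pr02 ≫ pullback.snd G.pU G.pU = pullback.snd (pullback.snd G.pU G.pU) (pullback.fst G.pU G.pU) ≫ pullback.snd G.pU G.pU) (p : ↑(pullback (pullback.snd G.pU G.pU) (pullback.fst G.pU G.pU))) (h₁ : pullback.fst (pullback.snd G.pU G.pU) (pullback.fst G.pU G.pU) p ∈ closure (Set.range ⇑G.j)) (h₂ : pullback.snd (pullback.snd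 G.pU G.pU) (pullback.fst G.pU G.pU) p ∈ closure (Set.range ⇑G.j)) : pr02 p ∈ closure (Set.range ⇑G.j) := by
  open Groth.Agent.Lib.FieldProdClosure Groth.Agent.Lib.GrpdBasic in
  have hint : IsIntegral G.U := by
    have : IsIntegral (Spec (CommRingCat.of k)) := inferInstance
    exact IsIntegral.of_isIso eU.inv
  have hsub : Subsingleton G.U := eU.hom.homeomorph.subsingleton
  have hcl := mem_closure_pullback (f := pullback.snd G.pU G.pU) (g := pullback.fst G.pU G.pU)
    (Set.range ⇑G.j) (Set.range ⇑G.j) p h₁ h₂
  have hc : Continuous pr02 := pr02.continuous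
  refine closure_mono ?_ (image_closure_subset_closure_image hc ⟨p, hcl, rfl⟩)
  rintro _ ⟨q, ⟨hq₁, hq₂⟩, rfl⟩
  obtain ⟨Q, z, q', x₁, x₂, hz, hx₁, hx₂⟩ :=
    exists_lift_two G.j G.j (pullback.fst (pullback.snd G.pU G.pU) (pullback.fst G.pU G.pU))
      (pullback.snd (pullback.snd G.pU G.pU) (pullback.fst G.pU G.pU)) q hq₁ hq₂
  have hjt : G.j ≫ pullback.fst G.pU G.pU = G.t := pullback.lift_fst _ _ _
  have hjs : G.j ≫ pullback.snd G.pU G.pU = G.s := pullback.lift_snd _ _ _
  have hcond : x₁ ≫ G.s = x₂ ≫ G.t := by
    rw [← hjs, ← hjt, ← Category.assoc, ← Category.assoc, hx₁, hx₂, Category.assoc,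
      Category.assoc, pullback.condition]
  have key : comp G x₁ x₂ hcond ≫ G.j = q' ≫ pr02 := by
    apply pullback.hom_ext
    · rw [Category.assoc, hjt, comp_t, Category.assoc, h0, ← hjt, ← Category.assoc, hx₁,
        Category.assoc]
    · rw [Category.assoc, hjs, comp_s, Category.assoc, h1, ← hjs, ← Category.assoc, hx₂,
        Category.assoc]
  refine ⟨(comp G x₁ x₂ hcond) z, ?_⟩
  have := congrArg (fun φ : Q ⟶ pullback G.pU G.pU => φ z) key
  simpa [hz] using this

end Groth.Agent.S7463
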