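import Groth.Statements.S7464
import Groth.Agent.Lib.GrpdBasic
import Mathlib.AlgebraicGeometry.Morphisms.QuasiFinite

set_option autoImplicit false
universe u
open CategoryTheory CategoryTheory.Limits AlgebraicGeometry
open Grpd

namespace Groth.Agent.S7464

/-- Let (U, R, s, t, c) be a groupoid scheme over S with s and t finite, and let u, u' be distinct
points of U in the same orbit, say u = s(r) and u' = t(r). Then u' does not lie in the closure of u.
(The published statement calls u, u' points of R; this row takes them to be points of U, as the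
orbit condition and the proof require.) (A groupoid scheme carries U, R, s, t, c, e, i over S with
the groupoid axioms on T-points; c is defined on the fibre product of s and t and sends a pair (a,
b) with s(a) = t(b) to a composed with b.) -/
theorem result (S : Scheme.{u}) (G : Grpd.GroupoidScheme S) [IsFinite G.s] [IsFinite G.t] (r : G.R) (hne : G.s r ≠ G.t r) : ¬ (G.s r ⤳ G.t r) := by
  open Groth.Agent.Lib.GrpdBasic in
  intro hspec
  -- closed maps
  have hs_closed : IsClosedMap G.s := G.s.isClosedMap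
  have ht_cont : Continuous G.t := G.t.continuous
  have hs_cont : Continuous G.s := G.s.continuous
  -- finite orbit
  set u := G.s r with hu
  set u' := G.t r with hu'
  let O : Set G.U := ⇑G.t '' (⇑G.s ⁻¹' {u})
  have hO : O.Finite := (G.s.finite_preimage_singleton u).image _
  let A : Set G.U := {v ∈ O | u' ⤳ v}
  have hA : A.Finite := hO.subset (fun v hv => hv.1)
  have hAne : A.Nonempty := ⟨u', ⟨r, rfl, rfl⟩, specializes_rfl⟩
  let _ : Preorder G.U := specializationPreorder G.U
  obtain ⟨v₀, ⟨hv₀O, hv₀u'⟩, hmin⟩ := hA.exists_minimal hAne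
  have huv₀ : u ⤳ v₀ := hspec.trans hv₀u'
  have hne' : u ≠ v₀ := by
    intro h
    exact hne ((hspec.antisymm (h ▸ hv₀u')).eq)
  obtain ⟨r₀, hr₀s, hr₀t⟩ := hv₀O
  have hr₀s' : G.s r₀ = u := hr₀s
  -- lift the specialization along s
  obtain ⟨r₁, hr₀r₁, hr₁s⟩ := hs_closed.specializingMap (show G.s r₀ ⤳ v₀ from hr₀s' ▸ huv₀)
  have hr₀r₁' : r₀ ⤳ r₁ := hr₀r₁
  have hw : v₀ ⤳ G.t r₁ := hr₀t ▸ hr₀r₁'.map ht_cont
  -- w = t r₁ is in the orbit
  obtain ⟨r₂, hr₂t, hr₂s⟩ := exists_comp_pt G r₁ r₀ (by rw [hr₁s, hr₀t])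
  have hwA : G.t r₁ ∈ A := ⟨⟨r₂, by simpa [hr₂s] using hr₀s', hr₂t⟩, hv₀u'.trans hw⟩
  have hback : G.t r₁ ⤳ v₀ := hmin hwA hw
  have heq : G.t r₁ = G.t r₀ := by rw [hr₀t]; exact (hback.antisymm hw).eq
  -- r₀ and r₁ are in the same fibre of t, which is discrete
  have hdisc := G.t.isDiscrete_preimage_singleton (G.t r₀)
  have : r₀ = r₁ := by
    have hdt : DiscreteTopology (⇑G.t ⁻¹' {G.t r₀}) := hdisc.to_subtype
    have h1 : (⟨r₀, rfl⟩ : ⇑G.t ⁻¹' {G.t r₀}) ⤳ ⟨r₁, heq⟩ :=
      Topology.IsInducing.subtypeVal.specializes_iff.mp hr₀r₁'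
    have := h1.eq
    exact congrArg Subtype.val this
  apply hne'
  rw [← hr₀s', this, hr₁s]

end Groth.Agent.S7464
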