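import Groth.Statements.S7468
import Groth.Agent.Lib.ValSpecialize
import Groth.Agent.Lib.HTopBasic

set_option autoImplicit false
universe w u
open HTop

namespace Groth.Agent.S7468

open CategoryTheory CategoryTheory.Limits AlgebraicGeometry in
/-- If T is affine and a finite family is obtained by restricting one proper surjective morphism U -> T
to the pieces of a finite affine open cover of U, then the family is a standard V covering. -/
theorem result {T : Scheme.{u}} (E : PreZeroHypercover.{w} T) (hE : HTop.IsStandardPh E) : HTop.IsStandardV E := by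
  open Groth.Agent.Lib.ValSpecialize Groth.Agent.Lib.HTopBasic in
  have hT : IsAffine T := hE.isAffine
  obtain ⟨U, f, ι, hprop, hsurj, hopen, hfac, hcov⟩ := hE.exists_proper
  refine ⟨hT, hE.finite_index, hE.isAffine_obj, ?_⟩
  intro V _ _ g
  have hex : ValuativeCriterion.Existence f := by
    have huc : UniversallyClosed f := inferInstance
    rw [UniversallyClosed.eq_valuativeCriterion] at huc
    exact huc.1
  obtain ⟨W, hWd, hWv, φ, hφ, l, hl⟩ := exists_lift_of_existence f hex V g
  have hloc : IsLocalRing W := inferInstance
  obtain ⟨j, hj⟩ := hcov (l (IsLocalRing.closedPoint W))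
  have := hopen j
  have hsub : Set.range l ⊆ Set.range (ι j) :=
    range_subset_of_closedPoint_mem W l _ (ι j).isOpenEmbedding.isOpen_range hj
  refine ⟨W, hWd, hWv, φ, hφ, j, IsOpenImmersion.lift (ι j) l hsub, ?_⟩
  rw [← hfac j, ← Category.assoc, IsOpenImmersion.lift_fac, hl]

end Groth.Agent.S7468
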