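import Groth.Statements.S7472
import Groth.Agent.Lib.HTopBasic

set_option autoImplicit false
universe w u
open HTop

namespace Groth.Agent.S7472

open CategoryTheory CategoryTheory.Limits AlgebraicGeometry in
/-- Let E be a V covering of a scheme T and, for every member T_i of E, let F_i be a V covering of T_i.
Then the composite family of all T_ij -> T is a V covering of T. -/
theorem result {T : Scheme.{u}} (E : PreZeroHypercover.{w} T) (hE : HTop.IsVCover E) (F : ∀ i, PreZeroHypercover.{w} (E.X i)) (hF : ∀ i, HTop.IsVCover (F i)) : HTop.IsVCover (E.bind F) := by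
  open Groth.Agent.Lib.HTopBasic in
  intro U
  obtain ⟨G, hG, href⟩ := hE U
  -- for each member of `G` choose the index and the factorization
  choose idx h hh using href
  have h1 : ∀ j : G.I₀, ∃ H : PreZeroHypercover.{0} (G.X j),
      HTop.IsStandardV H ∧ HTop.RefinesOver (h j) H (F (idx j)) := fun j => by
    have : IsAffine (G.X j) := hG.isAffine_obj j
    exact exists_standardV_refinesOver (h j) (F (idx j)) (hF (idx j))
  choose H hH hHref using h1
  refine ⟨G.bind H, isStandardV_bind G hG H hH, ?_⟩
  rintro ⟨j, l⟩
  obtain ⟨i', h', hh'⟩ := hHref j l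
  refine ⟨⟨idx j, i'⟩, h', ?_⟩
  show h' ≫ (F (idx j)).f i' ≫ E.f (idx j) = ((H j).f l ≫ G.f j) ≫ (U : T.Opens).ι
  rw [← Category.assoc, hh', Category.assoc, hh j, Category.assoc]

end Groth.Agent.S7472
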