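import Groth.Statements.S7473
import Groth.Agent.Lib.ValSpecialize
import Mathlib.AlgebraicGeometry.Sites.Fpqc

set_option autoImplicit false
universe u
open HTop

namespace Groth.Agent.S7473

open CategoryTheory CategoryTheory.Limits AlgebraicGeometry in
/-- An fpqc covering of a scheme T is a V covering. (Here an fpqc covering is a family in Mathlib's fpqc
precoverage: flat, jointly surjective, and every affine open of T is the union of the images of
finitely many quasi-compact opens of the members. The further clauses for fppf, syntomic, smooth,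
étale and Zariski coverings follow because those coverings are fpqc coverings; the clause for ph
coverings is the standard ph statement applied over each affine open.) -/
theorem result {T : Scheme.{u}} : ∀ 𝒰 : Scheme.Cover Scheme.fpqcPrecoverage T, HTop.IsVCover 𝒰.toPreZeroHypercover := by
  open Groth.Agent.Lib.ValSpecialize in
  intro 𝒰 U
  have hUaff : IsAffineOpen (U : T.Opens) := U.2
  have hqc : QuasiCompactCover 𝒰.toPreZeroHypercover := inferInstance
  obtain ⟨n, a, V, hV, hcov⟩ :=
    QuasiCompactCover.exists_isAffineOpen_of_isCompact 𝒰.toPreZeroHypercover hUaff.isCompact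
  have hle : ∀ i, V i ≤ (𝒰.f (a i)) ⁻¹ᵁ (U : T.Opens) := fun i x hx => by
    have : 𝒰.f (a i) x ∈ ((U : T.Opens) : Set T) := by
      rw [← hcov]
      exact Set.mem_iUnion.mpr ⟨i, x, hx, rfl⟩
    exact this
  let F : PreZeroHypercover.{0} ((U : T.Opens) : Scheme.{u}) :=
    { I₀ := Fin n
      X := fun i => ((V i : (𝒰.X (a i)).Opens) : Scheme.{u})
      f := fun i => (𝒰.f (a i)).resLE (U : T.Opens) (V i) (hle i) }
  have hFι : ∀ i, F.f i ≫ (U : T.Opens).ι = (V i).ι ≫ 𝒰.f (a i) := fun i =>
    Scheme.Hom.resLE_comp_ι _ _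
  refine ⟨F, ?_, ?_⟩
  · have hUa : IsAffine ((U : T.Opens) : Scheme.{u}) := hUaff
    refine ⟨hUa, inferInstanceAs (Finite (Fin n)), fun i => hV i, ?_⟩
    intro W _ _ g
    -- the closed point lifts
    obtain ⟨i, x, hxV, hx⟩ : ∃ i, ∃ x ∈ V i, 𝒰.f (a i) x = (g (IsLocalRing.closedPoint W)).1 := by
      have : (g (IsLocalRing.closedPoint W)).1 ∈ ((U : T.Opens) : Set T) :=
        (g (IsLocalRing.closedPoint W)).2
      rw [← hcov] at this
      obtain ⟨i, x, hxV, hx⟩ := Set.mem_iUnion.mp this
      exact ⟨i, x, hxV, hx⟩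
    have hflat : Flat (F.f i) := by
      have : Flat (𝒰.f (a i)) := (Scheme.Cover.forgetQc (P := @Flat) 𝒰).map_prop (a i)
      show Flat ((𝒰.f (a i)).resLE (U : T.Opens) (V i) (hle i))
      delta Scheme.Hom.resLE
      infer_instance
    have hmem : g (IsLocalRing.closedPoint W) ∈ Set.range (F.f i) := by
      refine ⟨⟨x, hxV⟩, ?_⟩
      apply Subtype.ext
      have := congrArg (fun φ : F.X i ⟶ T => φ ⟨x, hxV⟩) (hFι i)
      simp only [Scheme.Hom.comp_apply] at this
      exact this.trans hx
    obtain ⟨W', hWd, hWv, φ, hφ, g', hg'⟩ := exists_lift_of_flat (F.f i) W g hmem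
    exact ⟨W', hWd, hWv, φ, hφ, i, g', hg'⟩
  · intro i
    exact ⟨a i, (V i).ι, (hFι i).symm⟩

end Groth.Agent.S7473
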