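import Groth.Statements.S7478
import Mathlib.AlgebraicGeometry.PullbackCarrier

set_option autoImplicit false
universe w u
open HTop

namespace Groth.Agent.S7478

open CategoryTheory CategoryTheory.Limits AlgebraicGeometry in
/-- The base change of a standard ph covering along a morphism of affine schemes T' -> T is a standard
ph covering of T'. -/
theorem result {T T' : Scheme.{u}} [IsAffine T'] (g : T' ⟶ T) (E : PreZeroHypercover.{w} T) (hE : HTop.IsStandardPh E) : HTop.IsStandardPh (E.pullback₁ g) := by
  have hT : IsAffine T := hE.isAffine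
  have hfin : Finite E.I₀ := hE.finite_index
  have haff : ∀ j, IsAffine (E.X j) := hE.isAffine_obj
  obtain ⟨U, f, ι, hprop, hsurj, hopen, hfac, hcov⟩ := hE.exists_proper
  let ι' : ∀ j : E.I₀, pullback g (E.f j) ⟶ pullback g f := fun j =>
    pullback.map g (E.f j) g f (𝟙 _) (ι j) (𝟙 _) (by simp) (by simp [hfac j])
  have h1 : ∀ j : E.I₀, IsOpenImmersion (ι' j) := fun j => by
    have := hopen j
    show IsOpenImmersion (pullback.map g (E.f j) g f (𝟙 _) (ι j) (𝟙 _) _ _)
    infer_instance
  have h2 : ∀ j : E.I₀, ι' j ≫ pullback.fst g f = pullback.fst g (E.f j) := fun j => by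
    show pullback.map g (E.f j) g f (𝟙 _) (ι j) (𝟙 _) _ _ ≫ pullback.fst g f = pullback.fst _ _
    rw [pullback.lift_fst, Category.comp_id]
  have h3 : ∀ x : ↑(pullback g f), ∃ j : E.I₀, x ∈ Set.range (ι' j).base := fun x => by
    obtain ⟨j, hj⟩ := hcov (pullback.snd g f x)
    refine ⟨j, ?_⟩
    show x ∈ Set.range ⇑(pullback.map g (E.f j) g f (𝟙 _) (ι j) (𝟙 _) _ _)
    rw [Scheme.Pullback.range_map]
    refine ⟨?_, hj⟩
    simp
  refine ⟨inferInstance, hfin, fun j => ?_, ?_⟩
  · show IsAffine (pullback g (E.f j))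
    infer_instance
  · exact ⟨pullback g f, pullback.fst g f, ι', inferInstance, inferInstance, h1, h2, h3⟩

end Groth.Agent.S7478
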