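import Groth.Statements.S7486
import Groth.Agent.Lib.GrpdBasis13
import Groth.Agent.Lib.GrpdPts
import Mathlib.AlgebraicGeometry.Morphisms.Affine

set_option autoImplicit false
universe u
open CategoryTheory CategoryTheory.Limits AlgebraicGeometry
open Grpd

namespace Groth.Agent.S7486

/-- Let (U, R, s, t, c) be a groupoid scheme over S with U = Spec A and R = Spec B affine (A, B the
rings of global functions), and let x_i, i in I, be elements of A such that B is free as an A-module
through s^# with basis the elements t^#(x_i). Let C be the subring of R-invariant functions (those a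
with s^#(a) = t^#(a)). Then the x_i form a basis of A as a C-module, and the C-linear map A (x)_C A
-> B sending a (x) a' to t^#(a) s^#(a') is bijective (B carries the C-module structure through s^#).
(A groupoid scheme carries U, R, s, t, c, e, i over S with the groupoid axioms on T-points; c is
defined on the fibre product of s and t and sends a pair (a, b) with s(a) = t(b) to a composed with
b.) -/
theorem result (S : Scheme.{u}) (G : Grpd.GroupoidScheme S) [IsAffine G.U] [IsAffine G.R] (I : Type u) (x : I → Γ(G.U, ⊤)) (hB : letI := G.s.appTop.hom.toAlgebra; ∃ b : Module.Basis I Γ(G.U, ⊤) Γ(G.R, ⊤), ∀ i, b i = G.t.appTop.hom (x i)) : (∃ b : Module.Basis I G.invariants Γ(G.U, ⊤), ∀ i, b i = x i) ∧ (letI := (G.s.appTop.hom.comp G.invariants.subtype).toAlgebra; ∀ φ : TensorProduct G.invariants Γ(G.U, ⊤) Γ(G.U, ⊤) →ₗ[G.invariants] Γ(G.R, ⊤), (∀ a a' : Γ(G.U, ⊤), φ (a ⊗ₜ[G.invariants] a') = G.t.appTop.hom a * G.s.appTop.hom a') → Function.Bijective φ) := by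
  have het : G.t.appTop ≫ G.e.appTop = 𝟙 _ := by
    rw [← Scheme.Hom.comp_appTop, G.e_t]; rfl
  have hes : G.s.appTop ≫ G.e.appTop = 𝟙 _ := by
    rw [← Scheme.Hom.comp_appTop, G.e_s]; rfl
  have h1 : G.s.appTop ≫ (pullback.fst G.s G.t).appTop = G.t.appTop ≫ (pullback.snd G.s G.t).appTop := by
    rw [← Scheme.Hom.comp_appTop, ← Scheme.Hom.comp_appTop, pullback.condition]
  have hcs : G.c ≫ G.s = pullback.snd G.s G.t ≫ G.s := by
    rw [Lib.GrpdPts.c_eq_cmp, Lib.GrpdPts.cmp_s pullback.condition]
  have hct : G.c ≫ G.t = pullback.fst G.s G.t ≫ G.t := by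
    rw [Lib.GrpdPts.c_eq_cmp, Lib.GrpdPts.cmp_t pullback.condition]
  have h2 : G.s.appTop ≫ G.c.appTop = G.s.appTop ≫ (pullback.snd G.s G.t).appTop := by
    rw [← Scheme.Hom.comp_appTop, ← Scheme.Hom.comp_appTop, hcs]
  have h3 : G.t.appTop ≫ G.c.appTop = G.t.appTop ≫ (pullback.fst G.s G.t).appTop := by
    rw [← Scheme.Hom.comp_appTop, ← Scheme.Hom.comp_appTop, hct]
  have sq1 : IsPushout G.s.appTop G.t.appTop (pullback.fst G.s G.t).appTop
      (pullback.snd G.s G.t).appTop :=
    isPushout_appTop_of_isPullback (IsPullback.of_hasPullback G.s G.t)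
  have sq2 : IsPushout G.s.appTop G.s.appTop G.c.appTop (pullback.snd G.s G.t).appTop :=
    isPushout_appTop_of_isPullback (Lib.GrpdPts.isPullback_c_snd G)
  exact Lib.GrpdBasis13.main G.s.appTop G.t.appTop G.e.appTop (pullback.fst G.s G.t).appTop
    (pullback.snd G.s G.t).appTop G.c.appTop het hes h1 h2 h3 sq1 sq2 I x hB

end Groth.Agent.S7486
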