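import Groth.Statements.S7488
import Groth.Agent.Lib.AffGrpd13f
import Groth.Agent.S7490
import Groth.Agent.Lib.H69QuotPres
import Groth.Agent.Lib.H69DescentAffine

set_option autoImplicit false
universe u
open CategoryTheory CategoryTheory.Limits AlgebraicGeometry
open Grpd

namespace Groth.Agent.S7488

/-- Let (U, R, s, t, c) be a groupoid scheme over S with U and R affine, s and t finite locally free,
and j = (t, s) : R -> U x_S U a monomorphism. Let C be the ring of R-invariant functions on U and M
= Spec C. Then the structure morphism U -> S factors uniquely through U -> M, and for the resulting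
structure of scheme over S on M, the morphism U -> M represents the quotient sheaf U/R in the fppf
topology: it coequalizes s and t and the induced map from the coequalizer of h_R => h_U (sheaves of
sets on the big fppf site of S) to h_M is an isomorphism. (The published statement also asserts that
U -> M is finite locally free and that R = U x_M U; this row states only the quotient-sheaf clause.)
(A groupoid scheme carries U, R, s, t, c, e, i over S with the groupoid axioms on T-points; c is
defined on the fibre product of s and t and sends a pair (a, b) with s(a) = t(b) to a composed with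
b.) -/
theorem result (S : Scheme.{u}) (G : Grpd.GroupoidScheme S) [IsAffine G.U] [IsAffine G.R] [IsFinite G.s] [Flat G.s] [LocallyOfFinitePresentation G.s] [IsFinite G.t] [Flat G.t] [LocallyOfFinitePresentation G.t] [Mono G.j] : ∃! m : Spec (CommRingCat.of G.invariants) ⟶ S, ∃ h : G.toQuot ≫ m = G.pU, QuotSh.IsQuotient Scheme.fppfPrecoverage (Over.homMk G.s G.s_over : Over.mk G.pR ⟶ Over.mk G.pU) (Over.homMk G.t G.t_over : Over.mk G.pR ⟶ Over.mk G.pU) (Over.homMk G.toQuot h : Over.mk G.pU ⟶ Over.mk m) := by
  obtain ⟨hfin, hflat, hfp⟩ := Lib.AffGrpd13.toQuot_finite_flat_fp G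
  have hsurj : Surjective G.toQuot := by
    have h1 : Surjective (Spec.map (CommRingCat.ofHom G.invariants.subtype)) := by
      constructor
      have hint : (G.invariants.subtype : G.invariants →+* Γ(G.U, ⊤)).IsIntegral := by
        have hfin' : IsFinite (Spec.map (CommRingCat.ofHom G.invariants.subtype)) := by
          have e : Spec.map (CommRingCat.ofHom G.invariants.subtype) =
              G.U.isoSpec.inv ≫ G.toQuot := by
            unfold Grpd.GroupoidScheme.toQuot
            rw [← Category.assoc]
            have : G.U.isoSpec.inv ≫ G.U.toSpecΓ = 𝟙 _ := G.U.isoSpec.inv_hom_id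
            rw [this, Category.id_comp]
          rw [e]
          infer_instance
        rw [IsFinite.SpecMap_iff] at hfin'
        exact RingHom.Finite.to_isIntegral hfin'
      exact RingHom.IsIntegral.comap_surjective hint Subtype.val_injective
    unfold Grpd.GroupoidScheme.toQuot
    infer_instance
  have hkp : IsKernelPair G.toQuot G.t G.s := Lib.AffGrpd13.isPullback_toQuot G
  have : IsRegularEpi G.toQuot :=
    AlgebraicGeometry.isRegularEpi_of_flat_of_surjective_of_isAffine G.toQuot
  have hcoeq : G.t ≫ G.pU = G.s ≫ G.pU := by rw [G.t_over, G.s_over]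
  obtain ⟨m, hm⟩ := IsRegularEpi.exists_of_isKernelPair G.toQuot hkp G.pU hcoeq
  refine ⟨m, ⟨hm, ?_⟩, ?_⟩
  · -- the quotient sheaf clause
    have w : (Over.homMk G.s G.s_over : Over.mk G.pR ⟶ Over.mk G.pU) ≫
        (Over.homMk G.toQuot hm : Over.mk G.pU ⟶ Over.mk m) =
        (Over.homMk G.t G.t_over : Over.mk G.pR ⟶ Over.mk G.pU) ≫
        (Over.homMk G.toQuot hm : Over.mk G.pU ⟶ Over.mk m) :=
      Over.OverMorphism.ext (Lib.AffGrpd13.toQuot_comm G).symm
    refine ⟨w, ?_⟩
    have hP : IsPullback (Over.homMk G.t G.t_over : Over.mk G.pR ⟶ Over.mk G.pU)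
        (Over.homMk G.s G.s_over : Over.mk G.pR ⟶ Over.mk G.pU)
        (Over.homMk G.toQuot hm : Over.mk G.pU ⟶ Over.mk m)
        (Over.homMk G.toQuot hm : Over.mk G.pU ⟶ Over.mk m) := by
      apply IsPullback.of_map (Over.forget S) (Over.OverMorphism.ext (Lib.AffGrpd13.toQuot_comm G))
      exact hkp
    have : Flat (Over.homMk G.toQuot hm : Over.mk G.pU ⟶ Over.mk m).left := hflat
    have : LocallyOfFinitePresentation
        (Over.homMk G.toQuot hm : Over.mk G.pU ⟶ Over.mk m).left := hfp
    have : Surjective (Over.homMk G.toQuot hm : Over.mk G.pU ⟶ Over.mk m).left := hsurj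
    have hepi : Epi (QuotSh.repMap Scheme.fppfPrecoverage
        (Over.homMk G.toQuot hm : Over.mk G.pU ⟶ Over.mk m)) := by
      have hloc := Groth.Agent.Lib.H69DescentAffine.isLocallySurjective_yon_map
        (Over.homMk G.toQuot hm : Over.mk G.pU ⟶ Over.mk m)
      have hepi0 : Epi ((AlgSp.yon S).map (Over.homMk G.toQuot hm : Over.mk G.pU ⟶ Over.mk m)) :=
        (Sheaf.isLocallySurjective_iff_epi _).1 hloc
      have h1 : QuotSh.repMap Scheme.fppfPrecoverage
          (Over.homMk G.toQuot hm : Over.mk G.pU ⟶ Over.mk m) =
          (Groth.Agent.Lib.H69QuotPres.rIso _).hom ≫ (AlgSp.yon S).map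
            (Over.homMk G.toQuot hm : Over.mk G.pU ⟶ Over.mk m) ≫
            (Groth.Agent.Lib.H69QuotPres.rIso _).inv := by
        rw [← Category.assoc, ← Groth.Agent.Lib.H69QuotPres.rIso_naturality, Category.assoc,
          Iso.hom_inv_id, Category.comp_id]
      rw [h1]
      infer_instance
    have hid : Epi (QuotSh.repMap Scheme.fppfPrecoverage (𝟙 (Over.mk G.pR))) := by
      have : QuotSh.repMap Scheme.fppfPrecoverage (𝟙 (Over.mk G.pR)) = 𝟙 _ := by
        change (Groth.Agent.S7490.repF Scheme.fppfPrecoverage).map (𝟙 (Over.mk G.pR)) = 𝟙 _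
        exact (Groth.Agent.S7490.repF Scheme.fppfPrecoverage).map_id _
      rw [this]
      infer_instance
    exact Groth.Agent.S7490.main Scheme.fppfPrecoverage _ _ _ w _ _ hP (𝟙 _)
      (Category.id_comp _) (Category.id_comp _) hepi hid
  · rintro m' ⟨h', -⟩
    have : Epi G.toQuot := inferInstance
    exact (cancel_epi G.toQuot).1 (h'.trans hm.symm)

end Groth.Agent.S7488
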