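import Groth.Statements.S7493
import Groth.Agent.Lib.H8AlgClosedExt

set_option autoImplicit false
universe u
open CategoryTheory CategoryTheory.Limits AlgebraicGeometry
open Grpd

namespace Groth.Agent.S7493


theorem isIso_residueFieldMap_of_isIso_comp {Y Z : Scheme.{u}} {Ω : Type u} [Field Ω]
    (h : Spec (CommRingCat.of Ω) ⟶ Y) (f : Y ⟶ Z) [IsIso (h ≫ f)]
    (pt : ↥(Spec (CommRingCat.of Ω))) : IsIso (f.residueFieldMap (h pt)) := by
  have hcomp : (h ≫ f).residueFieldMap pt = f.residueFieldMap (h pt) ≫ h.residueFieldMap pt :=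
    Scheme.residueFieldMap_comp h f pt
  have hiso : IsIso ((h ≫ f).residueFieldMap pt) := inferInstance
  rw [hcomp] at hiso
  have hbij := (ConcreteCategory.isIso_iff_bijective _).mp hiso
  rw [ConcreteCategory.isIso_iff_bijective]
  have hψinj : Function.Injective (h.residueFieldMap pt).hom :=
    (h.residueFieldMap pt).hom.injective
  have hψsurj : Function.Surjective (h.residueFieldMap pt).hom := by
    intro z
    obtain ⟨y, hy⟩ := hbij.2 z
    exact ⟨(f.residueFieldMap (h pt)).hom y, hy⟩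
  constructor
  · intro a b hab
    apply hbij.1
    show (h.residueFieldMap pt).hom ((f.residueFieldMap (h pt)).hom a) =
      (h.residueFieldMap pt).hom ((f.residueFieldMap (h pt)).hom b)
    rw [show (f.residueFieldMap (h pt)).hom a = (f.residueFieldMap (h pt)).hom b from hab]
  · intro y
    obtain ⟨x, hx⟩ := hbij.2 ((h.residueFieldMap pt).hom y)
    exact ⟨x, hψinj hx⟩


/-- Let (U, R, s, t, c) be a groupoid scheme over S with U = Spec k for a field k, and let r be a point
of R. Then there exist a field extension k -> k' with k' algebraically closed and a point r' of the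
restriction R' of R along g : U' = Spec k' -> U, that is R' = (U' x_(g,U,t) R) x_(s pr, U, g) U'
with t' the projection to the first factor U' and s' the projection to the last factor U', such that
r' maps to r under R' -> R and both s' and t' induce isomorphisms on residue fields at r' (k' ->
κ(r') bijective). (A groupoid scheme carries U, R, s, t, c, e, i over S with the groupoid axioms on
T-points; c is defined on the fibre product of s and t and sends a pair (a, b) with s(a) = t(b) to a
composed with b.) -/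
theorem result (S : Scheme.{u}) (G : Grpd.GroupoidScheme S) (k : Type u) [Field k] (eU : G.U ≅ Spec (CommRingCat.of k)) (r : G.R) : ∃ (k' : Type u) (_ : Field k') (_ : IsAlgClosed k') (_ : Algebra k k'), ∃ r' : ↑(pullback (pullback.snd (Spec.map (CommRingCat.ofHom (algebraMap k k')) ≫ eU.inv) G.t ≫ G.s) (Spec.map (CommRingCat.ofHom (algebraMap k k')) ≫ eU.inv)), (pullback.fst (pullback.snd (Spec.map (CommRingCat.ofHom (algebraMap k k')) ≫ eU.inv) G.t ≫ G.s) (Spec.map (CommRingCat.ofHom (algebraMap k k')) ≫ eU.inv) ≫ pullback.snd (Spec.map (CommRingCat.ofHom (algebraMap k k')) ≫ eU.inv) G.t) r' = r ∧ IsIso ((pullback.snd (pullback.snd (Spec.map (CommRingCat.ofHom (algebraMap k k')) ≫ eU.inv) G.t ≫ G.s) (Spec.map (CommRingCat.ofHom (algebraMap k k')) ≫ eU.inv)).residueFieldMap r') ∧ IsIso ((pullback.fst (pullback.snd (Spec.map (CommRingCat.ofHom (algebraMap k k')) ≫ eU.inv) G.t ≫ G.s) (Spec.map (CommRingCat.ofHom (algebraMap k k')) ≫ eU.inv) ≫ pullback.fst (Spec.map (CommRingCat.ofHom (algebraMap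 k k')) ≫ eU.inv) G.t).residueFieldMap r') := by
  let K : Type u := G.R.residueField r
  let ρ₀ : Spec (CommRingCat.of K) ⟶ G.R := G.R.fromSpecResidueField r
  let τ : k →+* K := (Spec.preimage (ρ₀ ≫ G.t ≫ eU.hom)).hom
  let σ : k →+* K := (Spec.preimage (ρ₀ ≫ G.s ≫ eU.hom)).hom
  have hτ : Spec.map (CommRingCat.ofHom τ) = ρ₀ ≫ G.t ≫ eU.hom := Spec.map_preimage _
  have hσ : Spec.map (CommRingCat.ofHom σ) = ρ₀ ≫ G.s ≫ eU.hom := Spec.map_preimage _
  obtain ⟨Ω, _, _, ι, β, hβ⟩ := Groth.Agent.Lib.H8AlgClosedExt.exists_algClosed_aut σ τ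
  letI : Algebra k Ω := (ι.comp τ).toAlgebra
  refine ⟨Ω, inferInstance, inferInstance, inferInstance, ?_⟩
  have hg : Spec.map (CommRingCat.ofHom (algebraMap k Ω)) ≫ eU.inv =
      Spec.map (CommRingCat.ofHom ι) ≫ ρ₀ ≫ G.t := by
    have e1 : CommRingCat.ofHom (algebraMap k Ω) = CommRingCat.ofHom τ ≫ CommRingCat.ofHom ι := rfl
    rw [e1, Spec.map_comp, Category.assoc, hτ]
    simp
  let ρ : Spec (CommRingCat.of Ω) ⟶ G.R := Spec.map (CommRingCat.ofHom ι) ≫ ρ₀
  have h1 : 𝟙 (Spec (CommRingCat.of Ω)) ≫ (Spec.map (CommRingCat.ofHom (algebraMap k Ω)) ≫ eU.inv) =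
      ρ ≫ G.t := by
    rw [Category.id_comp, hg, Category.assoc]
  let l₁ : Spec (CommRingCat.of Ω) ⟶
      pullback (Spec.map (CommRingCat.ofHom (algebraMap k Ω)) ≫ eU.inv) G.t :=
    pullback.lift (𝟙 _) ρ h1
  let b : Spec (CommRingCat.of Ω) ⟶ Spec (CommRingCat.of Ω) := Spec.map β.toCommRingCatIso.hom
  have h2 : l₁ ≫ (pullback.snd (Spec.map (CommRingCat.ofHom (algebraMap k Ω)) ≫ eU.inv) G.t ≫ G.s) =
      b ≫ (Spec.map (CommRingCat.ofHom (algebraMap k Ω)) ≫ eU.inv) := by
    rw [← Category.assoc, pullback.lift_snd]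
    have e2 : β.toCommRingCatIso.hom = CommRingCat.ofHom β.toRingHom := rfl
    have e3 : CommRingCat.ofHom (algebraMap k Ω) ≫ CommRingCat.ofHom β.toRingHom =
        CommRingCat.ofHom σ ≫ CommRingCat.ofHom ι := by
      ext c
      exact hβ c
    simp only [b, ρ]
    rw [e2, ← Category.assoc, ← Spec.map_comp, e3, Spec.map_comp, Category.assoc, Category.assoc,
      hσ]
    simp
  let l₂ := pullback.lift l₁ b h2
  let pt : ↥(Spec (CommRingCat.of Ω)) := IsLocalRing.closedPoint Ω
  refine ⟨l₂ pt, ?_, ?_, ?_⟩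
  · have e4 : l₂ ≫ pullback.fst _ _ ≫ pullback.snd _ _ = ρ := by
      rw [← Category.assoc, pullback.lift_fst, pullback.lift_snd]
    have e5 := congrArg (fun φ : Spec (CommRingCat.of Ω) ⟶ G.R => φ pt) e4
    simp only [Scheme.Hom.comp_apply] at e5
    rw [Scheme.Hom.comp_apply, e5]
    exact Scheme.fromSpecResidueField_apply r _
  · haveI : IsIso (l₂ ≫ pullback.snd _ _) := by
      rw [pullback.lift_snd]; infer_instance
    exact isIso_residueFieldMap_of_isIso_comp l₂ _ pt
  · haveI : IsIso (l₂ ≫ (pullback.fst _ _ ≫ pullback.fst _ _)) := by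
      rw [← Category.assoc, pullback.lift_fst, pullback.lift_fst]; infer_instance
    exact isIso_residueFieldMap_of_isIso_comp l₂ _ pt

end Groth.Agent.S7493
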