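import Groth.Statements.S7494

set_option autoImplicit false
universe u
open CategoryTheory MonoidalCategory CartesianMonoidalCategory MonObj GrpObj AlgebraicGeometry
open AlgGrp

namespace Groth.Agent.S7494

section cat

variable {C : Type*} [Category C] [CartesianMonoidalCategory C] {G X : C} [GrpObj G]
  (act : G ⊗ X ⟶ X)

theorem one_smul_pt (one_act : (η[G] ▷ X) ≫ act = (λ_ X).hom) {T : C} (x : T ⟶ X) :
    lift (1 : T ⟶ G) x ≫ act = x := by
  have h : lift (1 : T ⟶ G) x = lift (toUnit T) x ≫ (η[G] ▷ X) := by
    rw [lift_whiskerRight, Hom.one_def]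
  rw [h, Category.assoc, one_act]
  simp

theorem mul_smul_pt (mul_act : (μ[G] ▷ X) ≫ act = (α_ G G X).hom ≫ (G ◁ act) ≫ act) {T : C}
    (g h : T ⟶ G) (x : T ⟶ X) :
    lift (g * h) x ≫ act = lift g (lift h x ≫ act) ≫ act := by
  have h1 : lift (g * h) x = lift (lift g h) x ≫ (μ[G] ▷ X) := by
    rw [lift_whiskerRight, Hom.mul_def]
  rw [h1, Category.assoc, mul_act]
  simp

theorem free_iff_mono (one_act : (η[G] ▷ X) ≫ act = (λ_ X).hom)
    (mul_act : (μ[G] ▷ X) ≫ act = (α_ G G X).hom ≫ (G ◁ act) ≫ act) :
    (∀ (T : C) (g : T ⟶ G) (x : T ⟶ X), lift g x ≫ act = x → g = toUnit T ≫ η[G]) ↔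
      Mono (lift act (snd G X)) := by
  constructor
  · intro hfree
    refine ⟨fun {T} p q hpq => ?_⟩
    have h1 : p ≫ act = q ≫ act := by
      simpa using hpq =≫ fst _ _
    have h2 : p ≫ snd _ _ = q ≫ snd _ _ := by
      simpa using hpq =≫ snd _ _
    set g := p ≫ fst _ _ with hg
    set g' := q ≫ fst _ _ with hg'
    set x := p ≫ snd _ _ with hx
    have hp : p = lift g x := by
      apply CartesianMonoidalCategory.hom_ext <;> simp [hg, hx]
    have hq : q = lift g' x := by
      apply CartesianMonoidalCategory.hom_ext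
      · simp [hg']
      · simpa using h2.symm
    rw [hp, hq] at h1
    have h3 : lift (g'⁻¹ * g) x ≫ act = x := by
      rw [mul_smul_pt act mul_act, h1, ← mul_smul_pt act mul_act, inv_mul_cancel,
        one_smul_pt act one_act]
    have h4 := hfree T _ x h3
    rw [← Hom.one_def, inv_mul_eq_one] at h4
    rw [hp, hq, h4]
  · intro hmono T g x hgx
    have h1 : lift g x ≫ lift act (snd G X) = lift (1 : T ⟶ G) x ≫ lift act (snd G X) := by
      apply CartesianMonoidalCategory.hom_ext
      · simp [hgx, one_smul_pt act one_act]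
      · simp
    have h2 := (cancel_mono _).mp h1
    have h3 := h2 =≫ fst _ _
    simpa [Hom.one_def] using h3

end cat

/-- Let G be a group scheme over S acting on a scheme X over S by a. The action is free, meaning that
for every scheme T over S and all T-points g of G and x of X with g · x = x one has g = 1, if and
only if the morphism G x_S X -> X x_S X, (g, x) ↦ (a(g, x), x), is a monomorphism of schemes. -/
theorem result {S : Scheme.{u}} (G X : Over S) [GrpObj G] (a : AlgGrp.Action G X) : (∀ (T : Over S) (g : T ⟶ G) (x : T ⟶ X), lift g x ≫ a.act = x → g = toUnit T ≫ η[G]) ↔ Mono (lift a.act (snd G X)).left := by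
  rw [free_iff_mono a.act a.one_act a.mul_act]
  constructor
  · intro h; infer_instance
  · intro h; exact Over.mono_of_mono_left _

end Groth.Agent.S7494
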