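import Groth.Statements.S7496

set_option autoImplicit false
universe w u
open CategoryTheory CategoryTheory.Limits AlgebraicGeometry
open HTop

namespace Groth.Agent.S7496

/-- On a quasi-separated target, the part of a compact open lying over a compact open is compact. -/
theorem isCompact_inf_preimage {X T : Scheme.{u}} [QuasiSeparatedSpace T] (f : X ⟶ T)
    (V : X.Opens) (hV : IsCompact (V : Set X)) (W : T.Opens) (hW : IsCompact (W : Set T)) :
    IsCompact ((V : Set X) ∩ f ⁻¹' (W : Set T)) := by
  have : CompactSpace (V.toScheme) := isCompact_iff_compactSpace.mp hV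
  have hqc : QuasiCompact (V.ι ≫ f) := quasiCompact_of_compactSpace _
  have h1 : IsCompact ((V.ι ≫ f) ⁻¹' (W : Set T)) :=
    hqc.isCompact_preimage _ W.2 hW
  have h2 : (V : Set X) ∩ f ⁻¹' (W : Set T) = V.ι '' ((V.ι ≫ f) ⁻¹' (W : Set T)) := by
    rw [Scheme.Hom.comp_base, TopCat.coe_comp, Set.preimage_comp,
      Set.image_preimage_eq_range_inter, Scheme.Opens.range_ι]
  rw [h2]
  exact h1.image V.ι.continuous

/-- Let T be a quasi-separated scheme and {f_i : T_i -> T} a family of morphisms. Then every affine open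
of T is the union of the images of finitely many quasi-compact opens of the T_i if and only if for every
point t of T there are finitely many quasi-compact opens U_j of members T_(i_j) such that the union of the
f_(i_j)(U_j) is a neighbourhood of t. -/
theorem result {T : Scheme.{u}} [QuasiSeparatedSpace T] (E : PreZeroHypercover.{w} T) : QuasiCompactCover E ↔ ∀ t : T, ∃ (n : ℕ) (i : Fin n → E.I₀) (V : ∀ j, (E.X (i j)).Opens), (∀ j, IsCompact (V j : Set (E.X (i j)))) ∧ (⋃ j, ⇑(E.f (i j)) '' (V j : Set (E.X (i j)))) ∈ nhds t := by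
  constructor
  · intro hE t
    obtain ⟨U, hU, htU, -⟩ :=
      TopologicalSpace.Opens.isBasis_iff_nbhd.mp T.isBasis_affineOpens
        (TopologicalSpace.Opens.mem_top t)
    obtain ⟨n, f, V, hV, h⟩ := QuasiCompactCover.exists_isAffineOpen_of_isCompact E hU.isCompact
    refine ⟨n, f, V, fun j => (hV j).isCompact, ?_⟩
    rw [h]
    exact U.2.mem_nhds htU
  · intro h
    refine ⟨fun {U} hU => ?_⟩
    refine IsCompactOpenCovered.of_isCompact_of_forall_exists_isCompactOpenCovered hU.isCompact
      fun x hxU => ?_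
    obtain ⟨n, i, V, hV, hN⟩ := h x
    obtain ⟨O, hON, hO, hxO⟩ := mem_nhds_iff.mp hN
    obtain ⟨W, hW, hxW, hWle⟩ :=
      TopologicalSpace.Opens.isBasis_iff_nbhd.mp T.isBasis_affineOpens
        (show x ∈ (⟨O, hO⟩ : T.Opens) ⊓ U from ⟨hxO, hxU⟩)
    refine ⟨W, fun y hy => (hWle hy).2, hxW, W.2, ?_⟩
    refine IsCompactOpenCovered.of_finite (κ := Fin n) i
      (fun j => V j ⊓ (E.f (i j)) ⁻¹ᵁ W) (fun j => ?_) ?_
    · exact isCompact_inf_preimage (E.f (i j)) (V j) (hV j) W hW.isCompact
    · apply Set.Subset.antisymm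
      · intro y hy
        simp only [Set.mem_iUnion] at hy
        obtain ⟨j, v, hv, rfl⟩ := hy
        exact hv.2
      · intro y hy
        have hyN : y ∈ ⋃ j, ⇑(E.f (i j)) '' (V j : Set (E.X (i j))) := hON (hWle hy).1
        simp only [Set.mem_iUnion] at hyN ⊢
        obtain ⟨j, v, hv, rfl⟩ := hyN
        exact ⟨j, v, ⟨hv, hy⟩, rfl⟩

end Groth.Agent.S7496
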