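import Groth.Statements.S7497

set_option autoImplicit false
universe u
open CategoryTheory CategoryTheory.Limits AlgebraicGeometry
open HTop

namespace Groth.Agent.S7497

universe w w'

/-- Universe-heterogeneous version of the Mathlib instance on `bind`. -/
theorem quasiCompactCover_bind {X : Scheme.{u}} (𝒰 : PreZeroHypercover.{w} X) [QuasiCompactCover 𝒰]
    (f : ∀ (x : 𝒰.I₀), PreZeroHypercover.{w'} (𝒰.X x)) [∀ x, QuasiCompactCover (f x)] :
    QuasiCompactCover (𝒰.bind f) where
  isCompactOpenCovered_of_isAffineOpen {U} hU := by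
    obtain ⟨s, hs, V, hcV, hU⟩ := hU.isCompactOpenCovered 𝒰
    have (i) (hi) : IsCompactOpenCovered ((f i).f ·) (V i hi) :=
      QuasiCompactCover.isCompactOpenCovered_of_isCompact (f i) (hcV i hi)
    choose t ht W hcW hV using this
    have : Finite s := hs
    have (i) (hi) : Finite (t i hi) := ht i hi
    refine .of_finite (κ := Σ (i : s), t i.1 i.2) (fun p ↦ ⟨p.1, p.2⟩) (fun p ↦ W _ p.1.2 _ p.2.2)
      (fun p ↦ hcW ..) ?_
    simpa [← hV, Set.iUnion_sigma, Set.iUnion_subtype, Set.image_iUnion, Set.image_image] using! hU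

/-- Let {f_i : T_i -> T} be a family of flat morphisms of schemes and {g_j : S_j -> T} an fpqc covering
such that for every j the family of base changes {S_j x_T T_i -> S_j} is an fpqc covering. Then {f_i
: T_i -> T} is an fpqc covering. (fpqc coverings are Mathlib's: flat, jointly surjective, every
affine open of the target covered by images of finitely many quasi-compact opens.) -/
theorem result {T : Scheme.{u}} (E : PreZeroHypercover.{u} T) (hflat : ∀ i, Flat (E.f i)) (𝒱 : Scheme.Cover Scheme.fpqcPrecoverage T) (hloc : ∀ j, (E.pullback₁ (𝒱.f j)).presieve₀ ∈ Scheme.fpqcPrecoverage (𝒱.X j)) : E.presieve₀ ∈ Scheme.fpqcPrecoverage T := by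
  have h𝒱 : QuasiCompactCover 𝒱.toPreZeroHypercover :=
    Scheme.presieve₀_mem_qcPrecoverage_iff.mp 𝒱.mem₀.1
  have hq : ∀ j, QuasiCompactCover (E.pullback₁ (𝒱.f j)) := fun j =>
    Scheme.presieve₀_mem_qcPrecoverage_iff.mp (hloc j).1
  have hs : ∀ j, ∀ x : 𝒱.X j, ∃ (i : E.I₀) (w : ↥(pullback (𝒱.f j) (E.f i))),
      pullback.fst (𝒱.f j) (E.f i) w = x := fun j x => by
    obtain ⟨i, w, hw⟩ := ((Scheme.presieve₀_mem_precoverage_iff _).mp (hloc j).2).1 x
    exact ⟨i, w, hw⟩
  have h𝒱s : ∀ x : T, ∃ j, x ∈ Set.range (𝒱.f j) :=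
    ((Scheme.presieve₀_mem_precoverage_iff _).mp 𝒱.mem₀.2).1
  refine ⟨?_, ?_⟩
  · rw [Scheme.presieve₀_mem_qcPrecoverage_iff]
    have hB : QuasiCompactCover
        (𝒱.toPreZeroHypercover.bind (fun j => E.pullback₁ (𝒱.f j))) :=
      quasiCompactCover_bind _ _
    let φ : (𝒱.toPreZeroHypercover.bind (fun j => E.pullback₁ (𝒱.f j))).Hom E :=
      { s₀ := fun ji => ji.2
        h₀ := fun ji => pullback.snd (𝒱.f ji.1) (E.f ji.2)
        w₀ := fun ji => by
          simp only [PreZeroHypercover.bind_f, PreZeroHypercover.pullback₁_f]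
          exact pullback.condition.symm }
    exact QuasiCompactCover.of_hom φ
  · rw [Scheme.presieve₀_mem_precoverage_iff]
    refine ⟨fun x => ?_, hflat⟩
    obtain ⟨j, v, rfl⟩ := h𝒱s x
    obtain ⟨i, w, rfl⟩ := hs j v
    refine ⟨i, pullback.snd (𝒱.f j) (E.f i) w, ?_⟩
    rw [← Scheme.Hom.comp_apply, ← Scheme.Hom.comp_apply, pullback.condition]

end Groth.Agent.S7497
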