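import Groth.Statements.S7498
import Groth.Agent.Lib.GrpdPts

set_option autoImplicit false
universe u
open CategoryTheory CategoryTheory.Limits AlgebraicGeometry
open Grpd

namespace Groth.Agent.S7498

open Groth.Agent.Lib.GrpdPts

section aux

variable {S : Scheme.{u}} {G : Grpd.GroupoidScheme S} {K T : Scheme.{u}}

/-- `((x ∘ σ₁⁻¹) ∘ σ₂) ∘ σ₂⁻¹) ∘ σ₁ = x`. -/
theorem roundtrip (x σ₁ σ₂ : T ⟶ G.R) (hx : x ≫ G.s = σ₁ ≫ G.s) (h : σ₁ ≫ G.t = σ₂ ≫ G.t) :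
    cmp G (cmp G (cmp G (cmp G x (σ₁ ≫ G.i)) σ₂) (σ₂ ≫ G.i)) σ₁ = x := by
  have hA : x ≫ G.s = (σ₁ ≫ G.i) ≫ G.t := by rw [Category.assoc, G.i_t, hx]
  have hB : cmp G x (σ₁ ≫ G.i) ≫ G.s = σ₂ ≫ G.t := by
    rw [cmp_s hA, Category.assoc, G.i_s, h]
  rw [cmp_cmp_i hB, cmp_i_cmp hx]

theorem trans_s (x σ₁ σ₂ : T ⟶ G.R) (hx : x ≫ G.s = σ₁ ≫ G.s) (h : σ₁ ≫ G.t = σ₂ ≫ G.t) :
    cmp G (cmp G x (σ₁ ≫ G.i)) σ₂ ≫ G.s = σ₂ ≫ G.s := by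
  have hA : x ≫ G.s = (σ₁ ≫ G.i) ≫ G.t := by rw [Category.assoc, G.i_t, hx]
  have hB : cmp G x (σ₁ ≫ G.i) ≫ G.s = σ₂ ≫ G.t := by
    rw [cmp_s hA, Category.assoc, G.i_s, h]
  exact cmp_s hB

theorem precomp_trans {T' : Scheme.{u}} (f : T' ⟶ T) (x σ₁ σ₂ : T ⟶ G.R)
    (hx : x ≫ G.s = σ₁ ≫ G.s) (h : σ₁ ≫ G.t = σ₂ ≫ G.t) :
    f ≫ cmp G (cmp G x (σ₁ ≫ G.i)) σ₂ = cmp G (cmp G (f ≫ x) ((f ≫ σ₁) ≫ G.i)) (f ≫ σ₂) := by
  have hA : x ≫ G.s = (σ₁ ≫ G.i) ≫ G.t := by rw [Category.assoc, G.i_t, hx]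
  have hB : cmp G x (σ₁ ≫ G.i) ≫ G.s = σ₂ ≫ G.t := by
    rw [cmp_s hA, Category.assoc, G.i_s, h]
  rw [precomp_cmp f hB, precomp_cmp f hA, Category.assoc]

/-- Right translation by `ρ₁⁻¹ ∘ ρ₂` on the fibres of `s`. -/
noncomputable def trans (ρ₁ ρ₂ : K ⟶ G.R) (h : ρ₁ ≫ G.t = ρ₂ ≫ G.t) :
    pullback G.s (ρ₁ ≫ G.s) ⟶ pullback G.s (ρ₂ ≫ G.s) :=
  pullback.lift
    (cmp G (cmp G (pullback.fst G.s (ρ₁ ≫ G.s)) ((pullback.snd G.s (ρ₁ ≫ G.s) ≫ ρ₁) ≫ G.i))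
      (pullback.snd G.s (ρ₁ ≫ G.s) ≫ ρ₂))
    (pullback.snd G.s (ρ₁ ≫ G.s)) (by
      rw [trans_s, Category.assoc]
      · rw [pullback.condition, Category.assoc]
      · rw [Category.assoc, Category.assoc, h])

theorem trans_fst (ρ₁ ρ₂ : K ⟶ G.R) (h : ρ₁ ≫ G.t = ρ₂ ≫ G.t) :
    trans ρ₁ ρ₂ h ≫ pullback.fst G.s (ρ₂ ≫ G.s) =
    cmp G (cmp G (pullback.fst G.s (ρ₁ ≫ G.s)) ((pullback.snd G.s (ρ₁ ≫ G.s) ≫ ρ₁) ≫ G.i))
      (pullback.snd G.s (ρ₁ ≫ G.s) ≫ ρ₂) := pullback.lift_fst _ _ _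

theorem trans_snd (ρ₁ ρ₂ : K ⟶ G.R) (h : ρ₁ ≫ G.t = ρ₂ ≫ G.t) :
    trans ρ₁ ρ₂ h ≫ pullback.snd G.s (ρ₂ ≫ G.s) = pullback.snd G.s (ρ₁ ≫ G.s) :=
  pullback.lift_snd _ _ _

theorem trans_trans (ρ₁ ρ₂ : K ⟶ G.R) (h : ρ₁ ≫ G.t = ρ₂ ≫ G.t) :
    trans ρ₁ ρ₂ h ≫ trans ρ₂ ρ₁ h.symm = 𝟙 _ := by
  have hx : pullback.fst G.s (ρ₁ ≫ G.s) ≫ G.s = (pullback.snd G.s (ρ₁ ≫ G.s) ≫ ρ₁) ≫ G.s := by
    rw [pullback.condition, Category.assoc]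
  have hx' : pullback.fst G.s (ρ₂ ≫ G.s) ≫ G.s = (pullback.snd G.s (ρ₂ ≫ G.s) ≫ ρ₂) ≫ G.s := by
    rw [pullback.condition, Category.assoc]
  have ht : (pullback.snd G.s (ρ₁ ≫ G.s) ≫ ρ₁) ≫ G.t = (pullback.snd G.s (ρ₁ ≫ G.s) ≫ ρ₂) ≫ G.t := by
    rw [Category.assoc, Category.assoc, h]
  have ht' : (pullback.snd G.s (ρ₂ ≫ G.s) ≫ ρ₂) ≫ G.t = (pullback.snd G.s (ρ₂ ≫ G.s) ≫ ρ₁) ≫ G.t := by
    rw [Category.assoc, Category.assoc, h]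
  apply pullback.hom_ext
  · rw [Category.assoc, trans_fst, precomp_trans _ _ _ _ hx' ht', trans_fst,
      ← Category.assoc, ← Category.assoc, trans_snd, Category.id_comp]
    exact roundtrip _ _ _ hx ht
  · rw [Category.assoc, trans_snd, trans_snd, Category.id_comp]

/-- The translation isomorphism. -/
noncomputable def transIso (ρ₁ ρ₂ : K ⟶ G.R) (h : ρ₁ ≫ G.t = ρ₂ ≫ G.t) :
    pullback G.s (ρ₁ ≫ G.s) ≅ pullback G.s (ρ₂ ≫ G.s) where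
  hom := trans ρ₁ ρ₂ h
  inv := trans ρ₂ ρ₁ h.symm
  hom_inv_id := trans_trans ρ₁ ρ₂ h
  inv_hom_id := trans_trans ρ₂ ρ₁ h.symm

/-- The tautological section of the fibre. -/
noncomputable def sec (ρ₁ : K ⟶ G.R) : K ⟶ pullback G.s (ρ₁ ≫ G.s) :=
  pullback.lift ρ₁ (𝟙 K) (by rw [Category.id_comp])

theorem sec_fst (ρ₁ : K ⟶ G.R) : sec ρ₁ ≫ pullback.fst G.s (ρ₁ ≫ G.s) = ρ₁ :=
  pullback.lift_fst _ _ _

theorem sec_snd (ρ₁ : K ⟶ G.R) : sec ρ₁ ≫ pullback.snd G.s (ρ₁ ≫ G.s) = 𝟙 K :=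
  pullback.lift_snd _ _ _

theorem sec_trans_fst (ρ₁ ρ₂ : K ⟶ G.R) (h : ρ₁ ≫ G.t = ρ₂ ≫ G.t) :
    sec ρ₁ ≫ trans ρ₁ ρ₂ h ≫ pullback.fst G.s (ρ₂ ≫ G.s) = ρ₂ := by
  have hx : pullback.fst G.s (ρ₁ ≫ G.s) ≫ G.s = (pullback.snd G.s (ρ₁ ≫ G.s) ≫ ρ₁) ≫ G.s := by
    rw [pullback.condition, Category.assoc]
  have ht : (pullback.snd G.s (ρ₁ ≫ G.s) ≫ ρ₁) ≫ G.t = (pullback.snd G.s (ρ₁ ≫ G.s) ≫ ρ₂) ≫ G.t := by
    rw [Category.assoc, Category.assoc, h]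
  rw [trans_fst, precomp_trans _ _ _ _ hx ht, sec_fst, ← Category.assoc, ← Category.assoc, sec_snd,
    Category.id_comp, Category.id_comp, cmp_i]
  apply e_cmp'
  rw [← Category.assoc, ← Category.assoc, h]

end aux

/-- Let (U, R, s, t, c) be a groupoid scheme over S and r, r' points of R with t(r) = t(r'); put u =
s(r), u' = s(r') and let F_u, F_u' be the scheme-theoretic fibres of s. Then there are a field k
which is a common extension of κ(u) and κ(u') (morphisms a, b : Spec k -> U with images u, u') and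
an isomorphism of the base changes (F_u)_k and (F_u')_k over Spec k, which moreover can be chosen to
send some point lying over r to a point lying over r'. (The published statement also compares the
germs of s at r and at r' when s and t are flat or flat of finite presentation; this row omits
that.) (A groupoid scheme carries U, R, s, t, c, e, i over S with the groupoid axioms on T-points; c
is defined on the fibre product of s and t and sends a pair (a, b) with s(a) = t(b) to a composed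
with b.) -/
theorem result (S : Scheme.{u}) (G : Grpd.GroupoidScheme S) (r r' : G.R) (h : G.t r = G.t r') : ∃ (k : Type u) (_ : Field k) (a b : Spec (CommRingCat.of k) ⟶ G.U) (φ : pullback G.s a ≅ pullback G.s b) (p : ↑(pullback G.s a)), a (IsLocalRing.closedPoint k) = G.s r ∧ b (IsLocalRing.closedPoint k) = G.s r' ∧ φ.hom ≫ pullback.snd G.s b = pullback.snd G.s a ∧ pullback.fst G.s a p = r ∧ pullback.fst G.s b (φ.hom p) = r' := by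
  obtain ⟨z, hz₁, hz₂⟩ := Scheme.Pullback.exists_preimage_pullback r r' h
  let X : Scheme.{u} := pullback G.t G.t
  let ρ₁ : Spec (CommRingCat.of (X.residueField z)) ⟶ G.R :=
    X.fromSpecResidueField z ≫ pullback.fst G.t G.t
  let ρ₂ : Spec (CommRingCat.of (X.residueField z)) ⟶ G.R :=
    X.fromSpecResidueField z ≫ pullback.snd G.t G.t
  have hρ : ρ₁ ≫ G.t = ρ₂ ≫ G.t := by
    simp only [ρ₁, ρ₂, Category.assoc, pullback.condition]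
  have h₁ : ∀ y, ρ₁ y = r := fun y => by
    rw [Scheme.Hom.comp_apply, Scheme.fromSpecResidueField_apply, hz₁]
  have h₂ : ∀ y, ρ₂ y = r' := fun y => by
    rw [Scheme.Hom.comp_apply, Scheme.fromSpecResidueField_apply, hz₂]
  refine ⟨X.residueField z, inferInstance, ρ₁ ≫ G.s, ρ₂ ≫ G.s, transIso ρ₁ ρ₂ hρ,
    sec ρ₁ (IsLocalRing.closedPoint _), ?_, ?_, ?_, ?_, ?_⟩
  · rw [Scheme.Hom.comp_apply, h₁]
  · rw [Scheme.Hom.comp_apply, h₂]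
  · exact trans_snd ρ₁ ρ₂ hρ
  · rw [← Scheme.Hom.comp_apply, sec_fst, h₁]
  · show pullback.fst G.s (ρ₂ ≫ G.s) ((trans ρ₁ ρ₂ hρ) (sec ρ₁ _)) = r'
    rw [← Scheme.Hom.comp_apply, ← Scheme.Hom.comp_apply]
    have e := sec_trans_fst ρ₁ ρ₂ hρ
    exact (congrArg (fun f : Spec (CommRingCat.of (X.residueField z)) ⟶ G.R =>
      f (IsLocalRing.closedPoint (X.residueField z))) e).trans (h₂ _)

end Groth.Agent.S7498
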