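import Groth.Statements.S7502
import Mathlib
import Groth.Agent.Lib.ZClos5T
import Groth.Agent.Lib.H72PullbackDescent
import Groth.Agent.Lib.H90QCohLimits
import Groth.Agent.Lib.H90OXModQcqs

set_option autoImplicit false
universe u
open CategoryTheory CategoryTheory.Limits AlgebraicGeometry
open Coh

namespace Groth.Agent.S7502


/-- On a locally Noetherian scheme, a quasi-coherent subobject of a coherent module is coherent. -/
theorem isCoh_of_mono {X : Scheme.{u}} [IsLocallyNoetherian X] {M N : X.Modules} (φ : M ⟶ N) [Mono φ]
    [M.IsQuasicoherent] (hN : Coh.IsCoh N) : Coh.IsCoh M := by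
  haveI : N.IsQuasicoherent := hN.1
  rw [Groth.Agent.Lib.H90OXModAffineFT.isCoh_iff_forall_affine]
  refine ⟨inferInstance, fun U => ?_⟩
  haveI : IsNoetherianRing Γ(X, U.1) := IsLocallyNoetherian.component_noetherian U
  haveI : Module.Finite Γ(X, U.1) Γ(N, U.1) :=
    Groth.Agent.Lib.CohFinite.finite_sections_of_isCoh N hN U.2
  haveI : _root_.IsNoetherian Γ(X, U.1) Γ(N, U.1) := isNoetherian_of_isNoetherianRing_of_finite _ _
  exact Module.Finite.of_injective (Groth.Agent.Lib.H90OXModSections.appLin φ U.1)
    (Groth.Agent.Lib.H90OXModSections.injective_appLin_of_mono φ U.1)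

/-- Let f : Y -> X be a morphism of schemes which is quasi-compact, quasi-separated, flat and
surjective, with X and Y locally Noetherian. Let F be a quasi-coherent O_X-module, G a coherent
O_Y-module and φ : G -> f^*F an injective map of O_Y-modules. Then the O_X-module F ∩ f_*G, defined
as the fibre product of the adjunction unit F -> f_*f^*F with f_*φ : f_*G -> f_*f^*F, is coherent.
('Coherent' is quasi-coherent of finite type, the usual notion on locally Noetherian schemes.) -/
theorem result {X Y : Scheme.{u}} (f : Y ⟶ X) [QuasiCompact f] [QuasiSeparated f] [Flat f] [Surjective f] [IsLocallyNoetherian X] [IsLocallyNoetherian Y] (F : X.Modules) (hF : Coh.IsQCoh F) (G : Y.Modules) (hG : Coh.IsCoh G) (φ : G ⟶ (Scheme.Modules.pullback f).obj F) [Mono φ] : Coh.IsCoh (Limits.pullback ((Scheme.Modules.pullbackPushforwardAdjunction f).unit.app F) ((Scheme.Modules.pushforward f).map φ)) := by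
  haveI : F.IsQuasicoherent := hF
  haveI : G.IsQuasicoherent := hG.1
  let adj := Scheme.Modules.pullbackPushforwardAdjunction f
  haveI : ((Scheme.Modules.pullback f).obj F).IsQuasicoherent := inferInstance
  haveI : ((Scheme.Modules.pushforward f).obj G).IsQuasicoherent :=
    Groth.Agent.Lib.H90OXModQcqs.isQuasicoherent_pushforward_of_qcqs f G
  haveI : ((Scheme.Modules.pushforward f).obj ((Scheme.Modules.pullback f).obj F)).IsQuasicoherent :=
    Groth.Agent.Lib.H90OXModQcqs.isQuasicoherent_pushforward_of_qcqs f _
  let u : F ⟶ (Scheme.Modules.pushforward f).obj ((Scheme.Modules.pullback f).obj F) := adj.unit.app F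
  let v := (Scheme.Modules.pushforward f).map φ
  change Coh.IsCoh (Limits.pullback u v)
  haveI hP : (Limits.pullback u v).IsQuasicoherent :=
    Groth.Agent.Lib.H90QCohLimits.isQuasicoherent_pullback u v
  -- `f_* φ` is a monomorphism, hence so is the first projection
  haveI : (Scheme.Modules.pushforward f).IsRightAdjoint := adj.isRightAdjoint
  haveI : Mono v := inferInstance
  haveI : Mono (pullback.fst u v) := inferInstance
  -- the adjoint of the second projection
  let ι : (Scheme.Modules.pullback f).obj (Limits.pullback u v) ⟶ G :=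
    (Scheme.Modules.pullback f).map (pullback.snd u v) ≫ adj.counit.app G
  have hι : ι ≫ φ = (Scheme.Modules.pullback f).map (pullback.fst u v) := by
    have h1 : adj.counit.app G ≫ φ =
        (Scheme.Modules.pullback f).map ((Scheme.Modules.pushforward f).map φ) ≫
          adj.counit.app ((Scheme.Modules.pullback f).obj F) := (adj.counit.naturality φ).symm
    change ((Scheme.Modules.pullback f).map (pullback.snd u v) ≫ adj.counit.app G) ≫ φ = _
    rw [Category.assoc, h1, ← Category.assoc, ← Functor.map_comp]
    change (Scheme.Modules.pullback f).map (pullback.snd u v ≫ v) ≫ _ = _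
    rw [← pullback.condition, Functor.map_comp, Category.assoc]
    have h2 : (Scheme.Modules.pullback f).map u ≫ adj.counit.app ((Scheme.Modules.pullback f).obj F) = 𝟙 _ :=
      adj.left_triangle_components F
    rw [h2, Category.comp_id]
  haveI : Mono ((Scheme.Modules.pullback f).map (pullback.fst u v)) :=
    Groth.Agent.Lib.H72PullbackDescent.mono_pullback_of_flat f (pullback.fst u v)
  haveI : Mono ι := by
    have : Mono (ι ≫ φ) := by rw [hι]; infer_instance
    exact mono_of_mono ι φ
  haveI : ((Scheme.Modules.pullback f).obj (Limits.pullback u v)).IsQuasicoherent := inferInstance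
  exact Groth.Agent.Lib.ZClos5.isCoh_of_isCoh_pullback f _ (isCoh_of_mono ι hG)

end Groth.Agent.S7502
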