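import Groth.Statements.S7504
import Groth.Agent.Lib.GrpdPts

set_option autoImplicit false
universe u
open CategoryTheory CategoryTheory.Limits AlgebraicGeometry
open Grpd

namespace Groth.Agent.S7504

open Groth.Agent.Lib.GrpdPts

section general

/-- Restricting a cartesian square to opens `W'' ≤ g⁻¹ V` of the bases gives a cartesian square. -/
theorem isPullback_resLE {X X' Y Y' : Scheme.{u}} {g : X' ⟶ X} {f : Y ⟶ X} {f' : Y' ⟶ X'}
    {g' : Y' ⟶ Y} (h : IsPullback g' f' f g) (V : X.Opens) (W'' : X'.Opens) (hle : W'' ≤ g ⁻¹ᵁ V)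
    (hle' : f' ⁻¹ᵁ W'' ≤ g' ⁻¹ᵁ (f ⁻¹ᵁ V)) :
    IsPullback (g'.resLE (f ⁻¹ᵁ V) (f' ⁻¹ᵁ W'') hle') (f' ∣_ W'') (f ∣_ V)
      (g.resLE V W'' hle) := by
  have h1 : IsPullback (f' ⁻¹ᵁ W'').ι (f' ∣_ W'') f' W''.ι := (isPullback_morphismRestrict f' W'').flip
  have h3 : IsPullback (f ⁻¹ᵁ V).ι (f ∣_ V) f V.ι := (isPullback_morphismRestrict f V).flip
  have h12 := h1.paste_horiz h
  refine IsPullback.of_right ?_ ?_ h3
  · rw [Scheme.Hom.resLE_comp_ι, Scheme.Hom.resLE_comp_ι]
    exact h12
  · rw [← cancel_mono V.ι]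
    simp only [Category.assoc, Scheme.Hom.resLE_comp_ι, morphismRestrict_ι,
      Scheme.Hom.resLE_comp_ι_assoc, morphismRestrict_ι_assoc, h.w]

variable (Q : MorphismProperty Scheme.{u})
  (hQ1 : ∀ {X Y : Scheme.{u}} (f : X ⟶ Y), IsOpenImmersion f → Q f)
  [Q.IsStableUnderComposition] [Q.IsStableUnderBaseChange]
  (hQ4 : ∀ {X Y : Scheme.{u}} (f : X ⟶ Y), Q f → IsOpenMap f)
  (P : MorphismProperty Scheme.{u}) [P.IsLocalAtTarget (Scheme.precoverage Q)]

include hQ1 in
theorem Q_resLE {X' X : Scheme.{u}} (g : X' ⟶ X) (hg : Q g) (V : X.Opens) (W'' : X'.Opens)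
    (hle : W'' ≤ g ⁻¹ᵁ V) : Q (g.resLE V W'' hle) := by
  unfold Scheme.Hom.resLE
  refine Q.comp_mem _ _ (hQ1 _ inferInstance) ?_
  exact Q.of_isPullback (isPullback_morphismRestrict g V).flip hg

include hQ1 hQ4 in
/-- The maximal open over which `f` has `P` pulls back to the maximal open for a base change along
a covering morphism. -/
theorem maximal_open_descent {X X' Y Y' : Scheme.{u}} {g : X' ⟶ X} {f : Y ⟶ X} {f' : Y' ⟶ X'}
    {g' : Y' ⟶ Y} (h : IsPullback g' f' f g) (hg : Q g)
    (W : X.Opens) (hW : P (f ∣_ W)) (hmax : ∀ W' : X.Opens, P (f ∣_ W') → W' ≤ W)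
    (W'' : X'.Opens) : P (f' ∣_ W'') ↔ W'' ≤ g ⁻¹ᵁ W := by
  constructor
  · intro hP
    let V : X.Opens := ⟨g '' (W'' : Set X'), hQ4 g hg _ W''.2⟩
    have hleV : W'' ≤ g ⁻¹ᵁ V := fun x hx => ⟨x, hx, rfl⟩
    have hle' : f' ⁻¹ᵁ W'' ≤ g' ⁻¹ᵁ (f ⁻¹ᵁ V) := by
      intro y hy
      change f (g' y) ∈ g '' (W'' : Set X')
      refine ⟨f' y, hy, ?_⟩
      rw [← Scheme.Hom.comp_apply, ← Scheme.Hom.comp_apply, h.w]
    have hpb := isPullback_resLE h V W'' hleV hle'
    have hQj : Q (g.resLE V W'' hleV) := Q_resLE Q hQ1 g hg V W'' hleV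
    have hsurj : Function.Surjective (g.resLE V W'' hleV).base := by
      rintro ⟨v, w, hw, rfl⟩
      refine ⟨⟨w, hw⟩, ?_⟩
      apply Subtype.ext
      change (g.resLE V W'' hleV ≫ V.ι) ⟨w, hw⟩ = _
      rw [Scheme.Hom.resLE_comp_ι]
      rfl
    have hPV : P (f ∣_ V) := by
      refine MorphismProperty.IsLocalAtTarget.of_forall_pullbackSnd
        (K := Scheme.precoverage Q) (R := Presieve.singleton (g.resLE V W'' hleV)) ?_ ?_
      · rw [Scheme.singleton_mem_precoverage_iff]
        exact ⟨hsurj, hQj⟩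
      · rintro U k _ ⟨⟩
        rw [← hpb.isoPullback_inv_snd, P.cancel_left_of_respectsIso]
        exact hP
    exact hleV.trans (fun x hx => hmax V hPV hx)
  · intro hle
    have hle' : f' ⁻¹ᵁ W'' ≤ g' ⁻¹ᵁ (f ⁻¹ᵁ W) := by
      intro y hy
      change f (g' y) ∈ W
      have : g (f' y) ∈ W := hle hy
      rwa [← Scheme.Hom.comp_apply, ← h.w, Scheme.Hom.comp_apply] at this
    have hpb := isPullback_resLE h W W'' hle hle'
    have hQj : Q (g.resLE W W'' hle) := Q_resLE Q hQ1 g hg W W'' hle
    let R : Presieve (W : Scheme.{u}) :=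
      Presieve.ofArrows (fun b : Bool => cond b (W'' : Scheme.{u}) (W : Scheme.{u}))
        (fun b => match b with
          | true => g.resLE W W'' hle
          | false => 𝟙 _)
    have hR : R ∈ Scheme.precoverage Q (W : Scheme.{u}) := by
      rw [Scheme.ofArrows_mem_precoverage_iff]
      refine ⟨fun x => ⟨false, x, rfl⟩, fun b => ?_⟩
      match b with
      | true => exact hQj
      | false => exact hQ1 _ inferInstance
    have hRj : R (g.resLE W W'' hle) := Presieve.ofArrows.mk true
    have := hpb.hasPullback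
    have h1 := MorphismProperty.IsLocalAtTarget.pullbackSnd (P := P) hR hRj hW
    rwa [← hpb.isoPullback_inv_snd, P.cancel_left_of_respectsIso] at h1

include hQ1 hQ4 in
theorem main {S : Scheme.{u}} (G : Grpd.GroupoidScheme S)
    (hs : Presieve.singleton G.s ∈ Scheme.precoverage Q G.U)
    (ht : Presieve.singleton G.t ∈ Scheme.precoverage Q G.U) (W : G.U.Opens)
    (hW : P (G.s ∣_ W)) (hmax : ∀ W' : G.U.Opens, P (G.s ∣_ W') → W' ≤ W) :
    G.s ⁻¹ᵁ W = G.t ⁻¹ᵁ W := by
  rw [Scheme.singleton_mem_precoverage_iff] at hs ht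
  have hA : IsPullback (pullback.fst G.s G.t) (pullback.snd G.s G.t) G.s G.t :=
    IsPullback.of_hasPullback _ _
  have hC := isPullback_c_snd G
  have h1 := maximal_open_descent Q hQ1 hQ4 P hA ht.2 W hW hmax
  have h2 := maximal_open_descent Q hQ1 hQ4 P hC hs.2 W hW hmax
  apply le_antisymm
  · exact (h1 _).mp ((h2 _).mpr le_rfl)
  · exact (h2 _).mp ((h1 _).mpr le_rfl)

end general

/-- Let (U, R, s, t, c) be a groupoid scheme over S, let τ be the Zariski, étale, smooth or fppf
topology (given as the corresponding precoverage K on schemes), and let P be a property of scheme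
morphisms that is τ-local on the target. (The published statement also allows the syntomic topology,
which has no precoverage here; this row omits it.) Assume the one-arrow families {s : R -> U} and {t
: R -> U} are τ-coverings. If W is the largest open subscheme of U such that the restriction
s^{-1}(W) -> W of s has P (W has the property and contains every open with the property), then W is
R-invariant: s^{-1}(W) = t^{-1}(W). (A groupoid scheme carries U, R, s, t, c, e, i over S with the
groupoid axioms on T-points; c is defined on the fibre product of s and t and sends a pair (a, b)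
with s(a) = t(b) to a composed with b.) -/
theorem result (S : Scheme.{u}) (G : Grpd.GroupoidScheme S) (K : Precoverage Scheme.{u}) (hK : K = Scheme.zariskiPrecoverage ∨ K = Scheme.etalePrecoverage ∨ K = Scheme.precoverage @Smooth ∨ K = Scheme.fppfPrecoverage) (P : MorphismProperty Scheme.{u}) [P.IsLocalAtTarget K] (hs : Presieve.singleton G.s ∈ K G.U) (ht : Presieve.singleton G.t ∈ K G.U) (W : G.U.Opens) (hW : P (G.s ∣_ W)) (hmax : ∀ W' : G.U.Opens, P (G.s ∣_ W') → W' ≤ W) : G.s ⁻¹ᵁ W = G.t ⁻¹ᵁ W := by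
  rcases hK with rfl | rfl | rfl | rfl
  · exact main (@IsOpenImmersion) (fun f hf => hf)
      (fun f hf => by have : IsOpenImmersion f := hf; exact f.isOpenEmbedding.isOpenMap) P G
      hs ht W hW hmax
  · have : P.IsLocalAtTarget (Scheme.precoverage @Etale) :=
      ‹P.IsLocalAtTarget Scheme.etalePrecoverage›
    exact main (@Etale) (fun f hf => by have : IsOpenImmersion f := hf; infer_instance)
      (fun f hf => by have : Etale f := hf; exact f.isOpenMap) P G hs ht W hW hmax
  · exact main (@Smooth) (fun f hf => by have : IsOpenImmersion f := hf; infer_instance)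
      (fun f hf => by have : Smooth f := hf; exact f.isOpenMap) P G hs ht W hW hmax
  · have : P.IsLocalAtTarget (Scheme.precoverage (@Flat ⊓ @LocallyOfFinitePresentation)) :=
      ‹P.IsLocalAtTarget Scheme.fppfPrecoverage›
    exact main (@Flat ⊓ @LocallyOfFinitePresentation)
      (fun f hf => by have : IsOpenImmersion f := hf; exact ⟨inferInstance, inferInstance⟩)
      (fun f hf => by
        have : Flat f := hf.1
        have : LocallyOfFinitePresentation f := hf.2
        exact f.isOpenMap) P G hs ht W hW hmax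

end Groth.Agent.S7504
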