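import Groth.Statements.S7510
import Groth.Agent.Lib.GrpdPts

set_option autoImplicit false
universe u
open CategoryTheory CategoryTheory.Limits AlgebraicGeometry
open Grpd

namespace Groth.Agent.S7510
open Groth.Agent.Lib.GrpdPts

section LargestOpen

variable (P Q : MorphismProperty Scheme.{u}) [P.RespectsIso]
  (W : ∀ {X Y : Scheme.{u}} (f : X ⟶ Y), Q f → X.Opens)
  (hWP : ∀ {X Y : Scheme.{u}} (f : X ⟶ Y) (hf : Q f), P ((W f hf).ι ≫ f))
  (hWmax : ∀ {X Y : Scheme.{u}} (f : X ⟶ Y) (hf : Q f) (V : X.Opens), P (V.ι ≫ f) → V ≤ W f hf)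

omit [P.RespectsIso] in
theorem W_congr {Z Y : Scheme.{u}} {f f' : Z ⟶ Y} (h : f = f') (hf : Q f) (hf' : Q f') :
    W f hf = W f' hf' := by
  subst h; rfl

include hWP hWmax in
theorem W_iso_comp_le {Z Z' Y : Scheme.{u}} (φ : Z ⟶ Z') [IsIso φ] (f : Z' ⟶ Y) (hf : Q f)
    (hf' : Q (φ ≫ f)) : φ ⁻¹ᵁ W f hf ≤ W (φ ≫ f) hf' := by
  apply hWmax
  have h : (φ ⁻¹ᵁ W f hf).ι ≫ φ ≫ f = (φ ∣_ W f hf) ≫ (W f hf).ι ≫ f := by
    rw [← Category.assoc, ← morphismRestrict_ι, Category.assoc]
  rw [h, P.cancel_left_of_respectsIso]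
  exact hWP f hf

include hWP hWmax in
/-- The largest open is compatible with precomposition by an isomorphism. -/
theorem W_iso_comp {Z Z' Y : Scheme.{u}} (φ : Z ⟶ Z') [IsIso φ] (f : Z' ⟶ Y) (hf : Q f)
    (hf' : Q (φ ≫ f)) : W (φ ≫ f) hf' = φ ⁻¹ᵁ W f hf := by
  apply le_antisymm
  · have hf'' : Q (inv φ ≫ φ ≫ f) := by rw [IsIso.inv_hom_id_assoc]; exact hf
    have h1 := W_iso_comp_le P Q W hWP hWmax (inv φ) (φ ≫ f) hf' hf''
    have h2 : W (inv φ ≫ φ ≫ f) hf'' = W f hf := W_congr Q W (IsIso.inv_hom_id_assoc φ f) _ _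
    rw [h2] at h1
    intro x hx
    have : (inv φ) (φ x) ∈ W (φ ≫ f) hf' := by
      have e : (inv φ) (φ x) = x := by
        rw [← Scheme.Hom.comp_apply, IsIso.hom_inv_id]; rfl
      rw [e]; exact hx
    exact h1 this
  · exact W_iso_comp_le P Q W hWP hWmax φ f hf hf'

end LargestOpen


section Main

variable {S : Scheme.{u}} (G : Grpd.GroupoidScheme S) {U' : Scheme.{u}} (g : U' ⟶ G.U)

/-- `X = U' ×_{g,U,t} R`, `h = pr₁ ≫ s`. -/
noncomputable abbrev hh : pullback g G.t ⟶ G.U := pullback.snd g G.t ≫ G.s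

/-- `m : X ×_{h,U,t} R ⟶ R ×_{s,U,t} R`, `(u', r, r') ↦ (r, r')`. -/
noncomputable def mm : pullback (hh G g) G.t ⟶ pullback G.s G.t :=
  pullback.lift (pullback.fst (hh G g) G.t ≫ pullback.snd g G.t) (pullback.snd (hh G g) G.t)
    (by rw [Category.assoc]; exact pullback.condition)

/-- the action `a : X ×_{h,U,t} R ⟶ X`, `(u', r, r') ↦ (u', r ∘ r')`. -/
noncomputable def aa : pullback (hh G g) G.t ⟶ pullback g G.t :=
  pullback.lift (pullback.fst (hh G g) G.t ≫ pullback.fst g G.t) (mm G g ≫ G.c) (by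
    have hc : (mm G g ≫ pullback.fst G.s G.t) ≫ G.s = (mm G g ≫ pullback.snd G.s G.t) ≫ G.t := by
      rw [Category.assoc, Category.assoc, pullback.condition]
    rw [Category.assoc, pullback.condition, comp_c, cmp_t hc]
    simp only [mm, pullback.lift_fst, Category.assoc])

theorem mm_fst : mm G g ≫ pullback.fst G.s G.t = pullback.fst (hh G g) G.t ≫ pullback.snd g G.t :=
  pullback.lift_fst _ _ _

theorem mm_snd : mm G g ≫ pullback.snd G.s G.t = pullback.snd (hh G g) G.t :=
  pullback.lift_snd _ _ _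

theorem isPullback_p1_mm :
    IsPullback (mm G g) (pullback.fst (hh G g) G.t) (pullback.fst G.s G.t) (pullback.snd g G.t) := by
  have hbig : IsPullback (mm G g ≫ pullback.snd G.s G.t) (pullback.fst (hh G g) G.t) G.t
      (pullback.snd g G.t ≫ G.s) := by
    rw [mm_snd]
    exact (IsPullback.of_hasPullback (hh G g) G.t).flip
  exact IsPullback.of_right hbig (mm_fst G g) (IsPullback.of_hasPullback G.s G.t).flip

theorem aa_fst : aa G g ≫ pullback.fst g G.t = pullback.fst (hh G g) G.t ≫ pullback.fst g G.t :=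
  pullback.lift_fst _ _ _

theorem aa_snd : aa G g ≫ pullback.snd g G.t = mm G g ≫ G.c :=
  pullback.lift_snd _ _ _

theorem isPullback_aa_mm :
    IsPullback (mm G g) (aa G g) G.c (pullback.snd g G.t) := by
  -- vertical pasting over the defining square of `X`
  have hbot : IsPullback (pullback.snd g G.t) (pullback.fst g G.t) G.t g :=
    (IsPullback.of_hasPullback g G.t).flip
  have hbig1 : IsPullback (mm G g) (pullback.fst (hh G g) G.t ≫ pullback.fst g G.t)
      (pullback.fst G.s G.t ≫ G.t) g := (isPullback_p1_mm G g).paste_vert hbot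
  have hct : G.c ≫ G.t = pullback.fst G.s G.t ≫ G.t := by
    rw [c_eq_cmp, cmp_t pullback.condition]
  have hbig2 : IsPullback (mm G g) (aa G g ≫ pullback.fst g G.t) (G.c ≫ G.t) g := by
    rw [aa_fst, hct]; exact hbig1
  exact IsPullback.of_bot hbig2 (aa_snd G g).symm hbot

theorem isPullback_aa :
    IsPullback (aa G g) (pullback.snd (hh G g) G.t) (hh G g) G.s := by
  have h1 := ((isPullback_aa_mm G g).paste_horiz (isPullback_c_snd G).flip).flip
  rw [mm_snd] at h1
  exact h1

/-- the section `σ : U' ⟶ X`, `u' ↦ (u', e (g u'))`. -/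
noncomputable def sg : U' ⟶ pullback g G.t :=
  pullback.lift (𝟙 U') (g ≫ G.e) (by rw [Category.id_comp, Category.assoc, G.e_t, Category.comp_id])

/-- `τ : X ⟶ X ×_{h,U,t} R`, `(u', r) ↦ (u', e (g u'), r)`. -/
noncomputable def tt : pullback g G.t ⟶ pullback (hh G g) G.t :=
  pullback.lift (pullback.fst g G.t ≫ sg G g) (pullback.snd g G.t) (by
    simp only [sg, hh, Category.assoc, pullback.lift_snd_assoc, G.e_s, Category.comp_id]
    exact pullback.condition)

theorem tt_fst : tt G g ≫ pullback.fst (hh G g) G.t = pullback.fst g G.t ≫ sg G g :=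
  pullback.lift_fst _ _ _

theorem tt_snd : tt G g ≫ pullback.snd (hh G g) G.t = pullback.snd g G.t :=
  pullback.lift_snd _ _ _

theorem tt_aa : tt G g ≫ aa G g = 𝟙 _ := by
  apply pullback.hom_ext
  · rw [Category.assoc, aa_fst, ← Category.assoc, tt_fst, Category.assoc, Category.id_comp]
    have : sg G g ≫ pullback.fst g G.t = 𝟙 _ := pullback.lift_fst _ _ _
    rw [this, Category.comp_id]
  · rw [Category.assoc, aa_snd, Category.id_comp, ← Category.assoc, comp_c, Category.assoc, mm_fst,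
      Category.assoc, mm_snd, ← Category.assoc, tt_fst, tt_snd]
    apply e_cmp'
    simp only [sg, Category.assoc, pullback.lift_snd]
    rw [← Category.assoc, pullback.condition, Category.assoc]


end Main


/-- Let (U, R, s, t, c, e, i) be a groupoid scheme over S and g : U' -> U a morphism; write h = s ∘ pr_1
: U' x_(g,U,t) R -> U. Let P, Q, R be properties of morphisms of schemes, with P invariant under
composition with isomorphisms, such that (1) R implies Q, (2) Q is stable under base change and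
composition, (3) every morphism f : X -> Y with Q has a largest open W(P, f) of X on which the
restriction of f has P (given here as a function W with these two properties), and (4) for f with Q
and a base change along Y' -> Y with R, the preimage of W(P, f) in X x_Y Y' is W(P, f') for the base
change f'. If s, t have R and g has Q, then there is an open W of U' whose preimage in U' x_(g,U,t)
R equals W(P, h). (The published statement speaks of arbitrary properties of morphisms; this row
asks P to be invariant under composition with isomorphisms, which the proof uses to identify the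
largest opens on the two isomorphic fibre products of h with t and with s.) (A groupoid scheme
carries U, R, s, t, c, e, i over S with the groupoid axioms on T-points; c is defined on the fibre
product of s and t and sends a pair (a, b) with s(a) = t(b) to a composed with b.) -/
theorem result (S : Scheme.{u}) (G : Grpd.GroupoidScheme S) {U' : Scheme.{u}} (g : U' ⟶ G.U) (P Q R : MorphismProperty Scheme.{u}) [P.RespectsIso] (hRQ : R ≤ Q) [Q.IsStableUnderBaseChange] [Q.IsStableUnderComposition] (W : ∀ {X Y : Scheme.{u}} (f : X ⟶ Y), Q f → X.Opens) (hWP : ∀ {X Y : Scheme.{u}} (f : X ⟶ Y) (hf : Q f), P ((W f hf).ι ≫ f)) (hWmax : ∀ {X Y : Scheme.{u}} (f : X ⟶ Y) (hf : Q f) (V : X.Opens), P (V.ι ≫ f) → V ≤ W f hf) (hWbc : ∀ {X Y Y' : Scheme.{u}} (f : X ⟶ Y) (hf : Q f) (b : Y' ⟶ Y), R b → ∀ hf' : Q (pullback.snd f b), pullback.fst f b ⁻¹ᵁ W f hf = W (pullback.snd f b) hf') (hs : R G.s) (ht : R G.t) (hg : Q g) (hh : Q (pullback.snd g G.t ≫ G.s)) : ∃ V : U'.Opens, pullback.fst g G.t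 ⁻¹ᵁ V = W (pullback.snd g G.t ≫ G.s) hh := by
  set h := pullback.snd g G.t ≫ G.s with hdef
  have hqt : Q (pullback.snd h G.t) := MorphismProperty.pullback_snd _ _ hh
  have hqs : Q (pullback.snd h G.s) := MorphismProperty.pullback_snd _ _ hh
  -- base change along `t`
  have hA : pullback.fst h G.t ⁻¹ᵁ W h hh = W (pullback.snd h G.t) hqt := hWbc h hh G.t ht hqt
  -- base change along `s`
  have hB : pullback.fst h G.s ⁻¹ᵁ W h hh = W (pullback.snd h G.s) hqs := hWbc h hh G.s hs hqs
  -- the comparison isomorphism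
  have sq : IsPullback (aa G g) (pullback.snd h G.t) h G.s := isPullback_aa G g
  let φ := sq.isoPullback
  have hφ1 : φ.hom ≫ pullback.fst h G.s = aa G g := sq.isoPullback_hom_fst
  have hφ2 : φ.hom ≫ pullback.snd h G.s = pullback.snd h G.t := sq.isoPullback_hom_snd
  have hq' : Q (φ.hom ≫ pullback.snd h G.s) := by rw [hφ2]; exact hqt
  have hC : W (pullback.snd h G.t) hqt = φ.hom ⁻¹ᵁ W (pullback.snd h G.s) hqs := by
    rw [← W_iso_comp P Q W hWP hWmax φ.hom (pullback.snd h G.s) hqs hq']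
    exact W_congr Q W hφ2.symm _ _
  have hD : aa G g ⁻¹ᵁ W h hh = pullback.fst h G.t ⁻¹ᵁ W h hh := by
    rw [hA, hC, ← hB, ← hφ1]
    rfl
  refine ⟨sg G g ⁻¹ᵁ W h hh, ?_⟩
  have h1 : pullback.fst g G.t ⁻¹ᵁ (sg G g ⁻¹ᵁ W h hh) = (pullback.fst g G.t ≫ sg G g) ⁻¹ᵁ W h hh := rfl
  rw [h1, ← tt_fst]
  have h2 : (tt G g ≫ pullback.fst h G.t) ⁻¹ᵁ W h hh = tt G g ⁻¹ᵁ (pullback.fst h G.t ⁻¹ᵁ W h hh) := rfl
  rw [h2, ← hD]
  have h3 : tt G g ⁻¹ᵁ (aa G g ⁻¹ᵁ W h hh) = (tt G g ≫ aa G g) ⁻¹ᵁ W h hh := rfl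
  rw [h3, tt_aa]
  rfl

end Groth.Agent.S7510
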