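import Groth.Statements.S7511
import Mathlib.AlgebraicGeometry.Limits

set_option autoImplicit false
universe u
open CategoryTheory CategoryTheory.Limits AlgebraicGeometry
open HTop

namespace Groth.Agent.S7511

/-- Let {f_i : T_i -> T} be a family of morphisms of schemes (indexed by a type in the universe of T, so
that the coproduct exists). Then it is an fpqc covering if and only if the one-arrow family
consisting of the induced morphism from the coproduct of the T_i to T is an fpqc covering. -/
theorem result {T : Scheme.{u}} (E : PreZeroHypercover.{u} T) : E.presieve₀ ∈ Scheme.fpqcPrecoverage T ↔ Presieve.singleton (Sigma.desc E.f) ∈ Scheme.fpqcPrecoverage T := by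
  have hcover : ∀ z : (∐ E.X : Scheme.{u}), ∃ (i : E.I₀) (x : E.X i), Sigma.ι E.X i x = z := by
    intro z
    obtain ⟨x, hx⟩ := (sigmaOpenCover E.X).covers z
    exact ⟨_, x, hx⟩
  constructor
  · rintro ⟨hqc, hfl⟩
    rw [Scheme.presieve₀_mem_qcPrecoverage_iff] at hqc
    rw [Scheme.presieve₀_mem_precoverage_iff] at hfl
    refine ⟨?_, ?_⟩
    · rw [← PreZeroHypercover.presieve₀_singleton.{_, _, u}, Scheme.presieve₀_mem_qcPrecoverage_iff]
      exact QuasiCompactCover.of_hom (𝒱 := E)
        ⟨fun _ => PUnit.unit, fun i => Sigma.ι E.X i, fun i => by simp [PreZeroHypercover.singleton]⟩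
    · rw [Scheme.singleton_mem_precoverage_iff]
      refine ⟨?_, IsZariskiLocalAtSource.sigmaDesc hfl.2⟩
      intro t
      obtain ⟨i, x, hx⟩ := hfl.1 t
      refine ⟨Sigma.ι E.X i x, ?_⟩
      rw [← hx, ← Scheme.Hom.comp_apply, Sigma.ι_desc]
  · rintro ⟨hqc, hfl⟩
    rw [← PreZeroHypercover.presieve₀_singleton.{_, _, u}, Scheme.presieve₀_mem_qcPrecoverage_iff] at hqc
    rw [Scheme.singleton_mem_precoverage_iff] at hfl
    obtain ⟨hsurj, hflat⟩ := hfl
    refine ⟨?_, ?_⟩
    · rw [Scheme.presieve₀_mem_qcPrecoverage_iff]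
      let F : ∀ i : (PreZeroHypercover.singleton.{u} (Sigma.desc E.f)).I₀,
          PreZeroHypercover.{u} ((PreZeroHypercover.singleton.{u} (Sigma.desc E.f)).X i) :=
        fun _ => (sigmaOpenCover E.X).toPreZeroHypercover
      have hF : ∀ i, QuasiCompactCover (F i) := fun _ =>
        (inferInstance : QuasiCompactCover (sigmaOpenCover E.X).toPreZeroHypercover)
      let B := (PreZeroHypercover.singleton.{u} (Sigma.desc E.f)).bind F
      have hB : QuasiCompactCover B := inferInstance
      exact QuasiCompactCover.of_hom (𝒱 := B)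
        ⟨fun p => p.2, fun p => 𝟙 _, fun p =>
          (Category.id_comp _).trans (Sigma.ι_desc _ _).symm⟩
    · rw [Scheme.presieve₀_mem_precoverage_iff]
      refine ⟨?_, ?_⟩
      · intro t
        obtain ⟨z, hz⟩ := hsurj t
        obtain ⟨i, x, hx⟩ := hcover z
        refine ⟨i, x, ?_⟩
        rw [← hz, ← hx, ← Scheme.Hom.comp_apply, Sigma.ι_desc]
      · intro i
        have : E.f i = Sigma.ι E.X i ≫ Sigma.desc E.f := by rw [Sigma.ι_desc]
        rw [this]
        infer_instance

end Groth.Agent.S7511
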