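import Groth.Statements.S7512
import Mathlib.AlgebraicGeometry.ResidueField

set_option autoImplicit false
universe w u
open HTop

namespace Groth.Agent.S7512

open CategoryTheory CategoryTheory.Limits AlgebraicGeometry in
/-- Let {f_i : T_i -> T} be a family of flat morphisms of schemes. Assume that for every affine scheme Z
and every morphism h : Z -> T there is a standard fpqc covering of Z (a finite family of flat
morphisms Z_j -> Z with Z_j affine whose images cover Z) refining the family of base changes {T_i
x_T Z -> Z} (every Z_j -> Z factors through some T_i compatibly with h). Then {f_i : T_i -> T} is an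
fpqc covering (in Mathlib's sense). -/
theorem result {T : Scheme.{u}} (E : PreZeroHypercover.{w} T) (hflat : ∀ i, Flat (E.f i)) (href : ∀ (Z : Scheme.{u}) [IsAffine Z] (h : Z ⟶ T), ∃ F : PreZeroHypercover.{0} Z, Finite F.I₀ ∧ (∀ j, IsAffine (F.X j)) ∧ (∀ j, Flat (F.f j)) ∧ (∀ z : Z, ∃ (j : F.I₀) (x : F.X j), F.f j x = z) ∧ HTop.RefinesOver h F E) : E.presieve₀ ∈ Scheme.fpqcPrecoverage T := by
  refine ⟨?_, ?_⟩
  · rw [Scheme.presieve₀_mem_qcPrecoverage_iff]
    refine ⟨fun {U} hU => ?_⟩
    have hUaff : IsAffine (U : Scheme.{u}) := hU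
    obtain ⟨F, hfin, haff, -, hcov, hrefine⟩ := href (U : Scheme.{u}) U.ι
    choose a t ht using hrefine
    have hg : IsCompactOpenCovered (fun j => ⇑(F.f j ≫ U.ι)) (U : Set T) := by
      refine IsCompactOpenCovered.of_finite (κ := F.I₀) (fun j => j) (fun _ => ⊤)
        (fun j => ?_) ?_
      · have := haff j
        exact isCompact_univ
      · apply subset_antisymm
        · intro x hx
          simp only [Set.mem_iUnion] at hx
          obtain ⟨j, y, -, rfl⟩ := hx
          change (F.f j ≫ U.ι) y ∈ (U : Set T)
          rw [Scheme.Hom.comp_apply]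
          exact (F.f j y).2
        · intro x hx
          obtain ⟨j, y, hy⟩ := hcov ⟨x, hx⟩
          simp only [Set.mem_iUnion]
          refine ⟨j, y, trivial, ?_⟩
          change (F.f j ≫ U.ι) y = x
          rw [Scheme.Hom.comp_apply, hy]
          rfl
    refine IsCompactOpenCovered.of_comp (fun j => ⇑(F.f j ≫ U.ι)) (a := a) (fun j => ⇑(t j))
      (fun j => (t j).continuous) (fun j => ?_) (fun i => (E.f i).continuous) U.2 hg
    rw [← ht j]
    ext x
    simp
  · rw [Scheme.presieve₀_mem_precoverage_iff]
    refine ⟨fun x => ?_, hflat⟩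
    obtain ⟨F, -, -, -, hcov, hrefine⟩ := href (Spec (T.residueField x)) (T.fromSpecResidueField x)
    obtain ⟨j, y, -⟩ := hcov default
    obtain ⟨i, h, hh⟩ := hrefine j
    refine ⟨i, h y, ?_⟩
    rw [← Scheme.Hom.comp_apply, hh, Scheme.Hom.comp_apply, Scheme.fromSpecResidueField_apply]

end Groth.Agent.S7512
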