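import Groth.Statements.S7514
import Mathlib.AlgebraicGeometry.Morphisms.UniversallyInjective
import Mathlib.AlgebraicGeometry.Morphisms.FormallyUnramified

set_option autoImplicit false
universe u
open CategoryTheory CategoryTheory.Limits AlgebraicGeometry
open Grpd

namespace Groth.Agent.S7514

/-- The morphism `Spec K̄ ⟶ Spec K` is an epimorphism of schemes. -/
theorem epi_spec_algebraicClosure (K : Type u) [Field K] :
    Epi (Spec.map (CommRingCat.ofHom (algebraMap K (AlgebraicClosure K)))) := by
  have h1 : Flat (Spec.map (CommRingCat.ofHom (algebraMap K (AlgebraicClosure K)))) := by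
    rw [HasRingHomProperty.Spec_iff (P := @Flat)]
    change (algebraMap K (AlgebraicClosure K)).Flat
    rw [RingHom.flat_algebraMap_iff]
    infer_instance
  have h2 : Surjective (Spec.map (CommRingCat.ofHom (algebraMap K (AlgebraicClosure K)))) := by
    constructor
    intro x
    exact ⟨IsLocalRing.closedPoint _, Subsingleton.elim _ _⟩
  exact Flat.epi_of_flat_of_surjective _

/-- An unramified morphism that is injective on geometric points is a monomorphism. -/
theorem mono_of_unramified_of_injective_geometric {X Y : Scheme.{u}} (f : X ⟶ Y)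
    [FormallyUnramified f] [LocallyOfFiniteType f]
    (h : ∀ (k : Type u) [Field k] [IsAlgClosed k],
      Function.Injective (fun r : Spec (CommRingCat.of k) ⟶ X => r ≫ f)) : Mono f := by
  rw [← pullback.isIso_diagonal_iff]
  have hs : Surjective (pullback.diagonal f) := by
    refine ((tfae_universallyInjective f).out 1 3).1 ?_
    intro K _ g₁ g₂ hg
    have := epi_spec_algebraicClosure K
    rw [← cancel_epi (Spec.map (CommRingCat.ofHom (algebraMap K (AlgebraicClosure K))))]
    apply h (AlgebraicClosure K)
    change (_ ≫ g₁) ≫ f = (_ ≫ g₂) ≫ f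
    rw [Category.assoc, Category.assoc]
    exact congrArg _ hg
  have : Epi (pullback.diagonal f).base := by
    rw [TopCat.epi_iff_surjective]
    exact hs.surj
  exact IsOpenImmersion.isIso _



/-- Let S be a scheme, U a scheme over S and j : R -> U x_S U a pre-relation, with t = pr_0 ∘ j and s =
pr_1 ∘ j. Assume (1) s and t are unramified (formally unramified and locally of finite type), (2)
for every algebraically closed field k, the map from k-points of R to pairs of k-points of U is
injective with image an equivalence relation, and (3) there are morphisms e : U -> R, i : R -> R and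
c : R x_(s,U,t) R -> R such that j ∘ e is the diagonal, j ∘ i is j followed by the flip of the two
factors, and j ∘ c is pr_02 ∘ (j x j) (the arrow c(a, b) has target t(a) and source s(b)). Then j is
an equivalence relation: j is a monomorphism and, for every scheme T, the relation 'there is a
T-point r of R with t ∘ r = a and s ∘ r = b' on T-points a, b of U is an equivalence relation. -/
theorem result {S U R : Scheme.{u}} (pU : U ⟶ S) (j : R ⟶ pullback pU pU) [FormallyUnramified (j ≫ pullback.fst pU pU)] [LocallyOfFiniteType (j ≫ pullback.fst pU pU)] [FormallyUnramified (j ≫ pullback.snd pU pU)] [LocallyOfFiniteType (j ≫ pullback.snd pU pU)] (h₂ : ∀ (k : Type u) [Field k] [IsAlgClosed k], Function.Injective (fun r : Spec (CommRingCat.of k) ⟶ R => r ≫ j) ∧ Equivalence (fun a b : Spec (CommRingCat.of k) ⟶ U => ∃ r : Spec (CommRingCat.of k) ⟶ R, r ≫ j ≫ pullback.fst pU pU = a ∧ r ≫ j ≫ pullback.snd pU pU = b)) (e : U ⟶ R) (he : e ≫ j = pullback.lift (𝟙 U) (𝟙 U) rfl) (i : R ⟶ R) (hi : i ≫ j = j ≫ (pullbackSymmetry pU pU).hom) (c : pullback (j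 ≫ pullback.snd pU pU) (j ≫ pullback.fst pU pU) ⟶ R) (hc₁ : c ≫ j ≫ pullback.fst pU pU = pullback.fst (j ≫ pullback.snd pU pU) (j ≫ pullback.fst pU pU) ≫ j ≫ pullback.fst pU pU) (hc₂ : c ≫ j ≫ pullback.snd pU pU = pullback.snd (j ≫ pullback.snd pU pU) (j ≫ pullback.fst pU pU) ≫ j ≫ pullback.snd pU pU) : Mono j ∧ ∀ T : Scheme.{u}, Equivalence (fun a b : T ⟶ U => ∃ r : T ⟶ R, r ≫ j ≫ pullback.fst pU pU = a ∧ r ≫ j ≫ pullback.snd pU pU = b) := by
  have hj1 : FormallyUnramified j := FormallyUnramified.of_comp j (pullback.fst pU pU)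
  have hj2 : LocallyOfFiniteType j := locallyOfFiniteType_of_comp j (pullback.fst pU pU)
  refine ⟨mono_of_unramified_of_injective_geometric j fun k _ _ => (h₂ k).1, fun T => ⟨?_, ?_, ?_⟩⟩
  · intro a
    refine ⟨a ≫ e, ?_, ?_⟩
    · rw [Category.assoc, ← Category.assoc e, he, pullback.lift_fst, Category.comp_id]
    · rw [Category.assoc, ← Category.assoc e, he, pullback.lift_snd, Category.comp_id]
  · rintro a b ⟨r, hr1, hr2⟩
    refine ⟨r ≫ i, ?_, ?_⟩
    · rw [Category.assoc, ← Category.assoc i, hi, Category.assoc, pullbackSymmetry_hom_comp_fst]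
      exact hr2
    · rw [Category.assoc, ← Category.assoc i, hi, Category.assoc, pullbackSymmetry_hom_comp_snd]
      exact hr1
  · rintro a b d ⟨r, hr1, hr2⟩ ⟨r', hr1', hr2'⟩
    refine ⟨pullback.lift r r' (by rw [hr2, hr1']) ≫ c, ?_, ?_⟩
    · rw [Category.assoc, hc₁, pullback.lift_fst_assoc]
      exact hr1
    · rw [Category.assoc, hc₂, pullback.lift_snd_assoc]
      exact hr2'

end Groth.Agent.S7514
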