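import Mathlib
import Groth.Agent.Lib.ClosedCond27
import Groth.Agent.S5331
import Groth.Statements.S7519

set_option autoImplicit false
universe u
open CategoryTheory MonoidalCategory CartesianMonoidalCategory MonObj GrpObj AlgebraicGeometry
open GrpSch

namespace Groth.Agent.S7519

section Helpers

variable {C : Type*} [Category C] [CartesianMonoidalCategory C] {G : C} [MonObj G]

theorem whiskerLeft_mul {T : C} (g : T ⟶ G) :
    (G ◁ g) ≫ μ[G] = fst G T * (snd G T ≫ g) := by
  rw [Hom.mul_def]
  congr 1
  apply CartesianMonoidalCategory.hom_ext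
  · rw [whiskerLeft_fst, lift_fst]
  · rw [whiskerLeft_snd, lift_snd]

variable [BraidedCategory C]

theorem whiskerLeft_braiding_mul {T : C} (g : T ⟶ G) :
    (G ◁ g) ≫ (β_ G G).hom ≫ μ[G] = (snd G T ≫ g) * fst G T := by
  rw [Hom.mul_def, ← Category.assoc]
  congr 1
  apply CartesianMonoidalCategory.hom_ext
  · rw [Category.assoc, braiding_hom_fst, whiskerLeft_snd, lift_fst]
  · rw [Category.assoc, braiding_hom_snd, whiskerLeft_fst, lift_snd]

/-- centrality of a point, in terms of the universal test point. -/
theorem central_iff {T : C} (g : T ⟶ G) :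
    (G ◁ g) ≫ μ[G] = (G ◁ g) ≫ (β_ G G).hom ≫ μ[G] ↔
      ∀ (T' : C) (h : T' ⟶ T) (g' : T' ⟶ G), (h ≫ g) * g' = g' * (h ≫ g) := by
  constructor
  · intro H T' h g'
    have h1 := congrArg (fun k => lift g' h ≫ k) H
    simp only [whiskerLeft_mul, whiskerLeft_braiding_mul, MonObj.comp_mul, lift_fst,
      lift_snd_assoc] at h1
    exact h1.symm
  · intro H
    rw [whiskerLeft_mul, whiskerLeft_braiding_mul]
    exact (H (G ⊗ T) (snd G T) (fst G T)).symm

end Helpers

/-- Let G be a group scheme locally of finite type over a field k. Then the centre of G is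
(representable by) a closed subgroup scheme of G: there are a scheme Z over k and a closed immersion
Z -> G over k such that for every scheme T over k, a T-valued point g of G factors through Z if and
only if g is central, i.e. for every T' -> T over k and every T'-valued point g' of G, the
restriction of g to T' commutes with g' in the group G(T'). -/
theorem result (K : Type u) [Field K] (G : Over (Spec (CommRingCat.of K))) [GrpObj G] [LocallyOfFiniteType G.hom] : ∃ (Z : Over (Spec (CommRingCat.of K))) (incl : Z ⟶ G), IsClosedImmersion incl.left ∧ ∀ (T : Over (Spec (CommRingCat.of K))) (g : T ⟶ G), (∃ z : T ⟶ Z, z ≫ incl = g) ↔ ∀ (T' : Over (Spec (CommRingCat.of K))) (h : T' ⟶ T) (g' : T' ⟶ G), (h ≫ g) * g' = g' * (h ≫ g) := by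
  have hsep : IsSeparated G.hom := by
    have : DiscreteTopology ↥(Spec (CommRingCat.of K)) := inferInstance
    exact Groth.Agent.S5331.result (Spec (CommRingCat.of K)) G
  obtain ⟨Z, i, hi, h⟩ := Groth.Agent.Lib.ClosedCond27.exists_closedImmersion_of_eq G G G
    (Groth.Agent.Lib.ClosedCond27.essFree_of_field K G) μ[G] ((β_ G G).hom ≫ μ[G])
  refine ⟨Z, i, hi, fun T g => ?_⟩
  rw [h T g]
  exact Groth.Agent.S7519.central_iff g

end Groth.Agent.S7519
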