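import Groth.Statements.S7521
-- import your own Groth.Agent.* helpers here
import Groth.Agent.Lib.EffDescFiniteH52
import Groth.Agent.Lib.H78SecAdd

set_option autoImplicit false
open CategoryTheory CategoryTheory.Limits AlgebraicGeometry
universe u
open Desc

namespace Groth.Agent.S7521

/-- Let p : X -> Y be a surjective finite locally free morphism and V a scheme over X which has an
invertible module ample relative to V -> X. Then every descent datum on V relative to p is
effective. (A quasi-projective morphism V -> X, in particular a projective one, carries such a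
module.) (Descent data are taken in functor-of-points form.) -/
theorem result {X Y : Scheme.{u}} (p : X ⟶ Y) [Surjective p] [IsFinite p] [Flat p] [LocallyOfFinitePresentation p] (D : Desc.SchDD p) (L : D.obj.left.Modules) (hL : RelAmple.IsRelAmple D.obj.hom L) : ∃ W : Over Y, Nonempty ((Desc.toDD p).obj W ≅ D) := by
  obtain ⟨hqc, hamp⟩ := hL
  apply Groth.Agent.Lib.EffDescH52.exists_iso_of_finite_of_finset_affine p D
  intro y s hs
  obtain ⟨_, ⟨Y₀, hY₀, rfl⟩, hyY₀, -⟩ :=
    (AlgebraicGeometry.Scheme.isBasis_affineOpens Y).exists_subset_of_mem_open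
      (Set.mem_univ y) isOpen_univ
  have hX₀ : IsAffineOpen (p ⁻¹ᵁ Y₀) := IsAffineOpen.preimage hY₀ p
  let X₀ : X.affineOpens := ⟨p ⁻¹ᵁ Y₀, hX₀⟩
  let W : D.obj.left.Opens := D.obj.hom ⁻¹ᵁ X₀.1
  have hW : CohB1.IsAmple (L.restrict W.ι) := hamp X₀
  haveI : CompactSpace (W : Scheme.{u}) := hW.2.1
  have hsW : ∀ v ∈ s, v ∈ W := by
    intro v hv
    change p (D.obj.hom v) ∈ Y₀
    rw [hs v hv]
    exact hyY₀
  let s' : Set (W : Scheme.{u}) := W.ι ⁻¹' (s : Set D.obj.left)
  have hs' : s'.Finite := Set.Finite.preimage (W.ι.isOpenEmbedding.injective.injOn) s.finite_toSet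
  obtain ⟨n, σ, hZ, -, haff⟩ := Groth.Agent.Lib.H78SecAdd.exists_sec_finite hW s' hs' ⊤
    (fun _ _ => trivial)
  refine ⟨W.ι ''ᵁ (CohB1.genLocus _ σ), haff.image_of_isOpenImmersion W.ι, fun v hv => ?_⟩
  refine ⟨⟨v, hsW v hv⟩, hZ ?_, rfl⟩
  change W.ι ⟨v, hsW v hv⟩ ∈ (s : Set D.obj.left)
  exact Finset.mem_coe.mpr hv

end Groth.Agent.S7521
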