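import Groth.Statements.S7522
import Mathlib.AlgebraicGeometry.ResidueField
import Mathlib.AlgebraicGeometry.PullbackCarrier

set_option autoImplicit false
universe u
open CategoryTheory CategoryTheory.Limits AlgebraicGeometry
open Grpd

namespace Groth.Agent.S7522

/-- Let S be a scheme, U a scheme over S and j : R -> U x_S U a pre-equivalence relation, that is a
morphism such that for every scheme T the image of the T-points of R in pairs of T-points of U is an
equivalence relation; write t = pr_0 ∘ j and s = pr_1 ∘ j. Then the relation on the points of U in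
which x ∼ y when some point r of R has t(r) = x and s(r) = y is an equivalence relation. -/
theorem result {S U R : Scheme.{u}} (pU : U ⟶ S) (j : R ⟶ pullback pU pU) (hj : ∀ T : Scheme.{u}, Equivalence (fun a b : T ⟶ U => ∃ r : T ⟶ R, r ≫ j ≫ pullback.fst pU pU = a ∧ r ≫ j ≫ pullback.snd pU pU = b)) : Equivalence (fun x y : ↥U => ∃ r : R, (j ≫ pullback.fst pU pU) r = x ∧ (j ≫ pullback.snd pU pU) r = y) := by
  refine ⟨?_, ?_, ?_⟩
  · intro x
    obtain ⟨r, hr1, hr2⟩ := (hj (Spec (U.residueField x))).refl (U.fromSpecResidueField x)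
    refine ⟨r default, ?_, ?_⟩
    · rw [← Scheme.Hom.comp_apply, hr1, Scheme.fromSpecResidueField_apply]
    · rw [← Scheme.Hom.comp_apply, hr2, Scheme.fromSpecResidueField_apply]
  · rintro x y ⟨r, hrx, hry⟩
    have h0 : ∃ r' : Spec (R.residueField r) ⟶ R,
        r' ≫ j ≫ pullback.fst pU pU = R.fromSpecResidueField r ≫ j ≫ pullback.fst pU pU ∧
        r' ≫ j ≫ pullback.snd pU pU = R.fromSpecResidueField r ≫ j ≫ pullback.snd pU pU :=
      ⟨R.fromSpecResidueField r, rfl, rfl⟩
    obtain ⟨r'', h1, h2⟩ := (hj (Spec (R.residueField r))).symm h0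
    refine ⟨r'' default, ?_, ?_⟩
    · rw [← Scheme.Hom.comp_apply, h1, Scheme.Hom.comp_apply, Scheme.fromSpecResidueField_apply, hry]
    · rw [← Scheme.Hom.comp_apply, h2, Scheme.Hom.comp_apply, Scheme.fromSpecResidueField_apply, hrx]
  · rintro x y z ⟨r1, h1x, h1y⟩ ⟨r2, h2y, h2z⟩
    obtain ⟨w, hw1, hw2⟩ := Scheme.Pullback.exists_preimage_pullback
      (f := j ≫ pullback.snd pU pU) (g := j ≫ pullback.fst pU pU) r1 r2 (h1y.trans h2y.symm)
    let P := pullback (j ≫ pullback.snd pU pU) (j ≫ pullback.fst pU pU)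
    let T := Spec (P.residueField w)
    let ρ1 : T ⟶ R := P.fromSpecResidueField w ≫ pullback.fst _ _
    let ρ2 : T ⟶ R := P.fromSpecResidueField w ≫ pullback.snd _ _
    have hcond : ρ1 ≫ j ≫ pullback.snd pU pU = ρ2 ≫ j ≫ pullback.fst pU pU := by
      simp only [ρ1, ρ2, Category.assoc]
      rw [pullback.condition]
    have hab : ∃ r : T ⟶ R, r ≫ j ≫ pullback.fst pU pU = ρ1 ≫ j ≫ pullback.fst pU pU ∧
        r ≫ j ≫ pullback.snd pU pU = ρ1 ≫ j ≫ pullback.snd pU pU := ⟨ρ1, rfl, rfl⟩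
    have hbc : ∃ r : T ⟶ R, r ≫ j ≫ pullback.fst pU pU = ρ1 ≫ j ≫ pullback.snd pU pU ∧
        r ≫ j ≫ pullback.snd pU pU = ρ2 ≫ j ≫ pullback.snd pU pU := ⟨ρ2, hcond.symm, rfl⟩
    obtain ⟨ρ, hρ1, hρ2⟩ := (hj T).trans hab hbc
    have hρ1pt : ρ1 default = r1 := by
      simp only [ρ1, Scheme.Hom.comp_apply]
      rw [Scheme.fromSpecResidueField_apply]
      exact hw1
    have hρ2pt : ρ2 default = r2 := by
      simp only [ρ2, Scheme.Hom.comp_apply]
      rw [Scheme.fromSpecResidueField_apply]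
      exact hw2
    refine ⟨ρ default, ?_, ?_⟩
    · rw [← Scheme.Hom.comp_apply, hρ1, Scheme.Hom.comp_apply, hρ1pt, h1x]
    · rw [← Scheme.Hom.comp_apply, hρ2, Scheme.Hom.comp_apply, hρ2pt, h2z]

end Groth.Agent.S7522
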