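import Groth.Statements.S7527
import Groth.Agent.Lib.SpectralCons

set_option autoImplicit false
universe u
open SpecSp

namespace Groth.Agent.S7527

open Groth.Agent.Lib.SpectralCons Topology

/-- Let X be a spectral space and x, y ∈ X. Then either there is a third point specializing to both x
and y, or there are disjoint open neighbourhoods of x and of y. -/
theorem result {X : Type u} [TopologicalSpace X] [SpectralSpace X] (x y : X) :
    (∃ z : X, z ⤳ x ∧ z ⤳ y) ∨
    (∃ U V : Set X, IsOpen U ∧ IsOpen V ∧ x ∈ U ∧ y ∈ V ∧ Disjoint U V) := by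
  by_cases h : ∃ U V : Set X, IsOpen U ∧ IsOpen V ∧ x ∈ U ∧ y ∈ V ∧ Disjoint U V
  · exact Or.inr h
  left
  push Not at h
  let ι := {p : Set X × Set X // (IsOpen p.1 ∧ IsCompact p.1 ∧ x ∈ p.1) ∧
    (IsOpen p.2 ∧ IsCompact p.2 ∧ y ∈ p.2)}
  have hXc : @CompactSpace X (constructibleTopology X) := compactSpace_cons
  have hne := @IsCompact.inter_iInter_nonempty X (constructibleTopology X) Set.univ ι
    (@isCompact_univ X (constructibleTopology X) hXc)
    (fun p => (p.1.1 ∩ p.1.2 : Set X))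
    (fun p => @IsClosed.inter X _ _ (constructibleTopology X)
      (isClosed_cons_of_isCompact_isOpen p.2.1.2.1 p.2.1.1)
      (isClosed_cons_of_isCompact_isOpen p.2.2.2.1 p.2.2.1)) ?_
  · obtain ⟨z, -, hz⟩ := hne
    rw [Set.mem_iInter] at hz
    refine ⟨z, ?_, ?_⟩
    · rw [specializes_iff_forall_open]
      intro s hs hxs
      obtain ⟨V, ⟨hV1, hV2⟩, hxV, hVs⟩ :=
        PrespectralSpace.isTopologicalBasis.exists_subset_of_mem_open hxs hs
      exact hVs (hz ⟨(V, Set.univ), ⟨hV1, hV2, hxV⟩, ⟨isOpen_univ, isCompact_univ, trivial⟩⟩).1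
    · rw [specializes_iff_forall_open]
      intro s hs hys
      obtain ⟨V, ⟨hV1, hV2⟩, hyV, hVs⟩ :=
        PrespectralSpace.isTopologicalBasis.exists_subset_of_mem_open hys hs
      exact hVs (hz ⟨(Set.univ, V), ⟨isOpen_univ, isCompact_univ, trivial⟩, ⟨hV1, hV2, hyV⟩⟩).2
  · intro u
    have hU : IsOpen (⋂ p ∈ u, (p.1.1 : Set X)) := isOpen_biInter_finset fun p _ => p.2.1.1
    have hV : IsOpen (⋂ p ∈ u, (p.1.2 : Set X)) := isOpen_biInter_finset fun p _ => p.2.2.1
    have hx : x ∈ ⋂ p ∈ u, (p.1.1 : Set X) := by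
      simp only [Set.mem_iInter]; exact fun p _ => p.2.1.2.2
    have hy : y ∈ ⋂ p ∈ u, (p.1.2 : Set X) := by
      simp only [Set.mem_iInter]; exact fun p _ => p.2.2.2.2
    have hnd := h _ _ hU hV hx hy
    rw [Set.not_disjoint_iff] at hnd
    obtain ⟨z, hz1, hz2⟩ := hnd
    refine ⟨z, trivial, ?_⟩
    simp only [Set.mem_iInter] at hz1 hz2 ⊢
    exact fun p hp => ⟨hz1 p hp, hz2 p hp⟩

end Groth.Agent.S7527
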