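import Groth.Statements.S7528
import Groth.Agent.Lib.SpectralCons
import Mathlib.Tactic.TFAE

set_option autoImplicit false
universe u
open SpecSp

namespace Groth.Agent.S7528

open Groth.Agent.Lib.SpectralCons Topology

/-- For a spectral space X the following are equivalent: (1) X is profinite, i.e. quasi-compact,
Hausdorff and totally disconnected (quasi-compactness being automatic); (2) X is Hausdorff; (3) X is
totally disconnected; (4) every quasi-compact open subset is closed; (5) there are no nontrivial
specializations between points; (6) every point is closed; (7) every point is the generic point of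
an irreducible component; (8) the constructible topology coincides with the topology of X. -/
theorem result (X : Type u) [tX : TopologicalSpace X] [SpectralSpace X] :
    List.TFAE [
      T2Space X ∧ TotallyDisconnectedSpace X,
      T2Space X,
      TotallyDisconnectedSpace X,
      ∀ U : Set X, IsOpen U → IsCompact U → IsClosed U,
      ∀ x y : X, x ⤳ y → x = y,
      ∀ x : X, IsClosed ({x} : Set X),
      ∀ x : X, closure ({x} : Set X) ∈ irreducibleComponents X,
      constructibleTopology X = tX] := by
  tfae_have 1 → 2 := fun h => h.1
  tfae_have 1 → 3 := fun h => h.2
  tfae_have 2 → 6 := fun h x => isClosed_singleton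
  tfae_have 3 → 6 := by
    intro h x
    have hpre : IsPreconnected (closure ({x} : Set X)) := isPreconnected_singleton.closure
    have hsub := h.isTotallyDisconnected_univ _ (Set.subset_univ _) hpre
    have : closure ({x} : Set X) = {x} :=
      subset_antisymm (fun y hy => hsub hy (subset_closure rfl)) subset_closure
    rw [← this]
    exact isClosed_closure
  tfae_have 6 → 5 := by
    intro h x y hxy
    have := hxy.mem_closure
    rw [(h x).closure_eq] at this
    exact this.symm
  tfae_have 5 → 4 := by
    intro h U hU hUc
    apply isClosed_of_isClosed_cons_of_stableUnderSpecialization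
      (isClosed_cons_of_isCompact_isOpen hUc hU)
    intro a b hab ha
    rwa [← h a b hab]
  tfae_have 4 → 8 := by
    intro h
    apply le_antisymm cons_le
    apply le_generateFrom
    rintro s (⟨hs1, hs2⟩ | ⟨hs1, hs2⟩)
    · exact hs1
    · have := h sᶜ hs1.isOpen_compl hs2
      simpa using this.isOpen_compl
  tfae_have 8 → 1 := by
    intro h
    have h2 : @T2Space X (constructibleTopology X) := t2Space_cons
    have h2' : T2Space X := h ▸ h2
    exact ⟨h2', inferInstance⟩
  tfae_have 5 → 7 := by
    intro h x
    refine ⟨isIrreducible_singleton.closure, ?_⟩
    intro t ht hxt
    have hgen := ht.closure.isGenericPoint_genericPoint isClosed_closure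
    have hx : x ∈ closure t := subset_closure (hxt (subset_closure rfl))
    have hsp : ht.closure.genericPoint ⤳ x := by
      rw [specializes_iff_mem_closure, hgen.def]
      exact hx
    have := h _ _ hsp
    intro z hz
    rw [← this, hgen.def]
    exact subset_closure hz
  tfae_have 7 → 5 := by
    intro h x y hxy
    have h1 : closure ({y} : Set X) ⊆ closure {x} := specializes_iff_closure_subset.mp hxy
    have h2 : closure ({x} : Set X) ⊆ closure {y} :=
      (h y).2 isIrreducible_singleton.closure h1
    have : Inseparable x y := inseparable_iff_closure_eq.mpr (subset_antisymm h2 h1)
    exact this.eq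
  tfae_finish

end Groth.Agent.S7528
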