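import Groth.Statements.S7530
import Groth.Agent.Lib.SpectralCons33

set_option autoImplicit false
universe u
open SpecSp

namespace Groth.Agent.S7530

open Groth.Agent.Lib Topology

/-- Let f : X → Y be a map of spectral spaces which is spectral and bijective, and assume that
generalizations lift along f or that specializations lift along f. Then f is a homeomorphism. -/
theorem result {X Y : Type u} [TopologicalSpace X] [TopologicalSpace Y]
    [SpectralSpace X] [SpectralSpace Y] (f : X → Y) (hf : IsSpectralMap f) (hb : Function.Bijective f)
    (hlift : GeneralizingMap f ∨ SpecializingMap f) :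
    IsHomeomorph f := by
  have hcX := SpectralCons33.compactSpace_cons (X := X)
  have hT2Y := SpectralCons33.t2Space_cons (X := Y)
  have hcont := SpectralCons33.continuous_cons_of_isSpectralMap hf
  have hclosedmap : ∀ Z : Set X, IsClosed[constructibleTopology X] Z →
      IsClosed[constructibleTopology Y] (f '' Z) := fun Z hZ =>
    (@Continuous.isClosedMap X Y (constructibleTopology X) (constructibleTopology Y) hcX hT2Y f
      hcont) Z hZ
  rcases hlift with hg | hs
  · refine ⟨hf.continuous, ?_, hb⟩
    rw [(PrespectralSpace.isTopologicalBasis (X := X)).isOpenMap_iff]
    rintro U ⟨hUo, hUc⟩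
    apply SpectralCons33.isOpen_of_isOpen_cons_of_stableUnderGeneralization
    · rw [← compl_compl (f '' U), ← Set.image_compl_eq hb]
      exact (@isOpen_compl_iff _ _ (constructibleTopology Y)).mpr
        (hclosedmap _ (SpectralCons33.isClosed_cons_of_isClosed hUo.isClosed_compl))
    · exact hg.stableUnderGeneralization_image hUo.stableUnderGeneralization
  · rw [isHomeomorph_iff_continuous_isClosedMap_bijective]
    refine ⟨hf.continuous, ?_, hb⟩
    intro Z hZ
    apply SpectralCons33.isClosed_of_isClosed_cons_of_stableUnderSpecialization
    · exact hclosedmap Z (SpectralCons33.isClosed_cons_of_isClosed hZ)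
    · exact hs.stableUnderSpecialization_image hZ.stableUnderSpecialization

end Groth.Agent.S7530
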