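import Groth.Statements.S7531
import Groth.Agent.Lib.SpectralLim33

set_option autoImplicit false
universe u
open CategoryTheory CategoryTheory.Limits
open SpecSp

namespace Groth.Agent.S7531

open Groth.Agent.Lib

/-- A finite sober Kolmogorov space is spectral. -/
theorem spectralSpace_of_finite (X : Type u) [TopologicalSpace X] [Finite X] [T0Space X]
    [QuasiSober X] : SpectralSpace X :=
  { toT0Space := inferInstance
    toCompactSpace := inferInstance
    toQuasiSober := inferInstance
    toQuasiSeparatedSpace := ⟨fun U V _ _ _ _ => (Set.toFinite (U ∩ V)).isCompact⟩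
    toPrespectralSpace := inferInstance }

/-- Let J be a nonempty directed preordered set and let (X_j) be an inverse system of finite sober
topological spaces indexed by J (a functor from the opposite of J to topological spaces). Then any
limit of this system in the category of topological spaces is a spectral space. -/
theorem result {J : Type u} [Preorder J] [Nonempty J] [IsDirected J (· ≤ ·)]
    (F : Jᵒᵖ ⥤ TopCat.{u})
    (hF : ∀ j : Jᵒᵖ, Finite (F.obj j) ∧ T0Space (F.obj j) ∧ QuasiSober (F.obj j))
    (c : Cone F) (hc : IsLimit c) :
    SpectralSpace c.pt := by
  have hspec : ∀ j, SpectralSpace (F.obj j) := fun j => by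
    obtain ⟨h1, h2, h3⟩ := hF j
    exact spectralSpace_of_finite (F.obj j)
  refine SpectralLim33.spectralSpace_of_isLimit c hc hspec ?_
  intro i j a
  have : Finite (F.obj i) := (hF i).1
  exact ⟨(F.map a).hom.continuous, fun s _ _ => (Set.toFinite _).isCompact⟩

end Groth.Agent.S7531
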