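import Groth.Statements.S7532
import Groth.Agent.Lib.SierpinskiPow33
import Groth.Agent.Lib.SpectralCons

set_option autoImplicit false
universe u
open SpecSp

namespace Groth.Agent.S7532

open Groth.Agent.Lib

/-- Let W be the two-point space with one closed and one non-closed point (here the Sierpiński topology
on Prop). A topological space X is spectral exactly when, for some index type I, X admits a
topological embedding into the power W^I whose image is a closed set for the constructible topology
on W^I. -/
theorem result (X : Type u) [TopologicalSpace X] :
    SpectralSpace X ↔ ∃ (I : Type u) (f : X → (I → Prop)),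
      Topology.IsEmbedding f ∧ @IsClosed (I → Prop) (constructibleTopology (I → Prop)) (Set.range f) := by
  constructor
  · intro h
    exact ⟨{U : Set X // IsOpen U ∧ IsCompact U}, SierpinskiPow33.toPow X,
      SierpinskiPow33.isEmbedding_toPow X, SierpinskiPow33.isClosed_cons_range_toPow X⟩
  · rintro ⟨I, f, hf, hcl⟩
    have : SpectralSpace (Set.range f) := SpectralCons.spectralSpace_of_isClosed_cons hcl
    let e := hf.toHomeomorph
    have : CompactSpace X := e.symm.compactSpace
    exact e.isOpenEmbedding.spectralSpace

end Groth.Agent.S7532
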