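import Groth.Statements.S7538
import Groth.Agent.Lib.SpectralLim33

set_option autoImplicit false
universe u
open CategoryTheory CategoryTheory.Limits
open SpecSp

namespace Groth.Agent.S7538

open Groth.Agent.Lib

/-- Let j ↦ X_j be a cofiltered diagram of spectral spaces with spectral transition maps f_a and X its
limit with projections p_j. (1) Any quasi-compact open U ⊆ X is p_i⁻¹(U_i) for some i and some
quasi-compact open U_i ⊆ X_i. (2) If U_i ⊆ X_i and U_j ⊆ X_j are quasi-compact opens with p_i⁻¹(U_i)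
⊆ p_j⁻¹(U_j), there are k and a : k → i, b : k → j with f_a⁻¹(U_i) ⊆ f_b⁻¹(U_j). (3) If U_i and
finitely many U_{l,i} are quasi-compact opens of X_i with p_i⁻¹(U_i) = ⋃_l p_i⁻¹(U_{l,i}), then
f_a⁻¹(U_i) = ⋃_l f_a⁻¹(U_{l,i}) for some a : j → i. (4) The same with intersections. -/
theorem result {J : Type u} [SmallCategory J] [IsCofiltered J] (F : J ⥤ TopCat.{u})
    (hF : ∀ j, SpectralSpace (F.obj j))
    (hFm : ∀ {i j : J} (a : i ⟶ j), IsSpectralMap (F.map a : F.obj i → F.obj j))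
    (c : Cone F) (hc : IsLimit c) :
    (∀ U : Set c.pt, IsOpen U → IsCompact U →
      ∃ (i : J) (Ui : Set (F.obj i)), IsOpen Ui ∧ IsCompact Ui ∧ c.π.app i ⁻¹' Ui = U) ∧
    (∀ (i j : J) (Ui : Set (F.obj i)) (Uj : Set (F.obj j)),
      IsOpen Ui → IsCompact Ui → IsOpen Uj → IsCompact Uj →
      c.π.app i ⁻¹' Ui ⊆ c.π.app j ⁻¹' Uj →
      ∃ (k : J) (a : k ⟶ i) (b : k ⟶ j), F.map a ⁻¹' Ui ⊆ F.map b ⁻¹' Uj) ∧
    (∀ (i : J) (n : ℕ) (Ui : Set (F.obj i)) (V : Fin n → Set (F.obj i)),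
      IsOpen Ui → IsCompact Ui → (∀ l, IsOpen (V l) ∧ IsCompact (V l)) →
      (c.π.app i ⁻¹' Ui = ⋃ l, c.π.app i ⁻¹' V l →
        ∃ (j : J) (a : j ⟶ i), F.map a ⁻¹' Ui = ⋃ l, F.map a ⁻¹' V l) ∧
      (c.π.app i ⁻¹' Ui = ⋂ l, c.π.app i ⁻¹' V l →
        ∃ (j : J) (a : j ⟶ i), F.map a ⁻¹' Ui = ⋂ l, F.map a ⁻¹' V l)) := by
  refine ⟨fun U hUo hUc => SpectralLim33.isStage_of_isOpen_isCompact c hc hF hFm hUo hUc, ?_, ?_⟩
  · intro i j Ui Uj hUio hUic hUjo hUjc hsub
    set m := IsCofiltered.min i j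
    set a := IsCofiltered.minToLeft i j
    set b := IsCofiltered.minToRight i j
    have hsub' : c.π.app m ⁻¹' (F.map a ⁻¹' Ui) ⊆ c.π.app m ⁻¹' (F.map b ⁻¹' Uj) := by
      rw [SpectralLim33.preimage_π_map, SpectralLim33.preimage_π_map]; exact hsub
    obtain ⟨k, d, hd⟩ := (SpectralLim33.preimage_subset_preimage_iff c hc hF hFm m _ _
      (SpectralCons33.isClosed_cons_of_isOpen_isCompact (hUio.preimage (hFm a).continuous)
        ((hFm a).isCompact_preimage_of_isOpen hUio hUic))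
      (SpectralCons33.isOpen_cons_of_isOpen (hUjo.preimage (hFm b).continuous))).mp hsub'
    refine ⟨k, d ≫ a, d ≫ b, ?_⟩
    intro z hz
    have h1 : z ∈ F.map d ⁻¹' (F.map a ⁻¹' Ui) := by
      simp only [Set.mem_preimage] at hz ⊢
      rw [F.map_comp] at hz
      exact hz
    have h2 := hd h1
    simp only [Set.mem_preimage] at h2 ⊢
    rw [F.map_comp]
    exact h2
  · intro i n Ui V hUio hUic hV
    have hUc := SpectralCons33.isClosed_cons_of_isOpen_isCompact hUio hUic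
    have hUo := SpectralCons33.isOpen_cons_of_isOpen hUio
    have hVc := fun l => SpectralCons33.isClosed_cons_of_isOpen_isCompact (hV l).1 (hV l).2
    have hVo := fun l => SpectralCons33.isOpen_cons_of_isOpen (hV l).1
    constructor
    · intro h
      have h' : c.π.app i ⁻¹' Ui = c.π.app i ⁻¹' (⋃ l, V l) := by
        rw [h, Set.preimage_iUnion]
      obtain ⟨j, a, ha⟩ := SpectralLim33.exists_preimage_eq_preimage c hc hF hFm i Ui (⋃ l, V l)
        hUc hUo (@isClosed_iUnion_of_finite _ _ (constructibleTopology (F.obj i)) _ _ hVc)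
        (@isOpen_iUnion _ _ (constructibleTopology (F.obj i)) _ hVo) h'
      exact ⟨j, a, by rw [ha, Set.preimage_iUnion]⟩
    · intro h
      have h' : c.π.app i ⁻¹' Ui = c.π.app i ⁻¹' (⋂ l, V l) := by
        rw [h, Set.preimage_iInter]
      obtain ⟨j, a, ha⟩ := SpectralLim33.exists_preimage_eq_preimage c hc hF hFm i Ui (⋂ l, V l)
        hUc hUo (@isClosed_iInter _ _ (constructibleTopology (F.obj i)) _ hVc)
        (@isOpen_iInter_of_finite _ _ (constructibleTopology (F.obj i)) _ _ hVo) h'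
      exact ⟨j, a, by rw [ha, Set.preimage_iInter]⟩

end Groth.Agent.S7538
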