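import Groth.Statements.S7541
import Groth.Agent.Lib.SpectralCons
import Groth.Agent.Lib.SpectralCons33

set_option autoImplicit false
universe u
open SpecSp

namespace Groth.Agent.S7541

open Groth.Agent.Lib Topology Set

/-- The set of generalizations of points of a quasi-compact set `E` in a prespectral space is the
intersection of the quasi-compact opens containing `E`. -/
theorem generalizations_eq_sInter {X : Type u} [TopologicalSpace X] [PrespectralSpace X]
    (E : Set X) (hE : IsCompact E) :
    {x : X | ∃ e ∈ E, x ⤳ e} = ⋂₀ {U : Set X | IsOpen U ∧ IsCompact U ∧ E ⊆ U} := by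
  ext x
  constructor
  · rintro ⟨e, he, hxe⟩ U ⟨hUo, -, hEU⟩
    exact hxe.mem_open hUo (hEU he)
  · intro hx
    by_contra hcon
    simp only [mem_ofPred_eq, not_exists, not_and] at hcon
    have hsub : E ⊆ (closure {x})ᶜ := by
      intro e he hmem
      exact hcon e he (specializes_iff_mem_closure.mpr hmem)
    obtain ⟨W, hWc, hWo, hEW, hWx⟩ :=
      PrespectralSpace.exists_isCompact_and_isOpen_between hE isClosed_closure.isOpen_compl hsub
    exact hWx (hx W ⟨hWo, hWc, hEW⟩) (subset_closure rfl)

/-- Let X be a spectral space, E ⊆ X a constructible subset and W the set of points of X that specialize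
to a point of E. Then the subspace W minus E is a spectral space. (The description of W minus E as a
limit of the U_i minus E is not recorded here.) -/
theorem result {X : Type u} [TopologicalSpace X] [SpectralSpace X]
    (E : Set X) (hE : Topology.IsConstructible E) :
    SpectralSpace ↥({x : X | ∃ e ∈ E, x ⤳ e} \ E) := by
  have hclopen := SpectralCons33.isClopen_cons_of_isConstructible hE
  have hEc : IsCompact E := SpectralCons33.isCompact_of_isClosed_cons hclopen.1
  apply SpectralCons.spectralSpace_of_isClosed_cons
  rw [generalizations_eq_sInter E hEc, sdiff_eq]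
  refine @IsClosed.inter _ _ _ (constructibleTopology X) ?_ ?_
  · refine @isClosed_sInter _ (constructibleTopology X) _ fun U hU => ?_
    exact SpectralCons33.isClosed_cons_of_isOpen_isCompact hU.1 hU.2.1
  · exact (@isClosed_compl_iff _ (constructibleTopology X) _).mpr hclopen.2

end Groth.Agent.S7541
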