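import Groth.Statements.S7540
import Groth.Agent.Lib.SpectralCons33

set_option autoImplicit false
universe u
open SpecSp

namespace Groth.Agent.S7540

open Groth.Agent.Lib Topology Set

/-- Let X be a spectral space, I a nonempty index set and U_i ⊆ X quasi-compact opens such that for all
i, j some U_k lies in U_i ∩ U_j; put W = ⋂ U_i. Then every open subset of X containing W contains
some U_i. The published statement also asserts that W is spectral and is the limit of the U_i; this
row states the neighbourhood property. -/
theorem result {X : Type u} [TopologicalSpace X] [SpectralSpace X]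
    {I : Type u} [Nonempty I] (U : I → Set X) (hU : ∀ i, IsOpen (U i) ∧ IsCompact (U i))
    (hdir : ∀ i j, ∃ k, U k ⊆ U i ∩ U j) :
    ∀ V : Set X, IsOpen V → (⋂ i, U i) ⊆ V → ∃ i, U i ⊆ V := by
  intro V hV hWV
  have hc := SpectralCons33.compactSpace_cons (X := X)
  let t : I → Set X := fun i => U i ∩ Vᶜ
  have htc : ∀ i, IsClosed[constructibleTopology X] (t i) := fun i =>
    @IsClosed.inter _ _ _ (constructibleTopology X)
      (SpectralCons33.isClosed_cons_of_isOpen_isCompact (hU i).1 (hU i).2)
      (SpectralCons33.isClosed_cons_of_isClosed hV.isClosed_compl)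
  have hempty : univ ∩ ⋂ i, t i = ∅ := by
    rw [univ_inter, eq_empty_iff_forall_notMem]
    intro x hx
    rw [mem_iInter] at hx
    exact (hx (Classical.arbitrary I)).2 (hWV (mem_iInter.mpr fun i => (hx i).1))
  obtain ⟨u, hu⟩ := @IsCompact.elim_finite_subfamily_closed X (constructibleTopology X) univ I
    (@isCompact_univ _ (constructibleTopology X) hc) t htc hempty
  -- some `U k` is contained in all `U i`, `i ∈ u`
  have hk : ∀ u : Finset I, ∃ k, ∀ i ∈ u, U k ⊆ U i := by
    classical
    intro u
    induction u using Finset.induction_on with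
    | empty => exact ⟨Classical.arbitrary I, by simp⟩
    | insert a s _ ih =>
      obtain ⟨k, hk⟩ := ih
      obtain ⟨k', hk'⟩ := hdir k a
      refine ⟨k', fun i hi => ?_⟩
      rcases Finset.mem_insert.mp hi with rfl | hi
      · exact hk'.trans inter_subset_right
      · exact (hk'.trans inter_subset_left).trans (hk i hi)
  obtain ⟨k, hk⟩ := hk u
  refine ⟨k, fun x hx => ?_⟩
  by_contra hxV
  have : x ∈ univ ∩ ⋂ i ∈ u, t i := by
    refine ⟨mem_univ _, ?_⟩
    simp only [mem_iInter]
    exact fun i hi => ⟨hk i hi hx, hxV⟩
  rw [hu] at this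
  exact this

end Groth.Agent.S7540
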