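import Groth.Statements.S7542

set_option autoImplicit false
universe u
open ConstrTop

namespace Groth.Agent.S7542

/-- In a prespectral space, a compact open subset of a subspace `T` is the trace of a compact open
subset of the ambient space. -/
theorem exists_compact_open_preimage {X : Type u} [TopologicalSpace X] [PrespectralSpace X]
    (T : Set X) (U' : Set T) (hU'o : IsOpen U') (hU'c : IsCompact U') :
    ∃ W : Set X, IsOpen W ∧ IsCompact W ∧ (Subtype.val : T → X) ⁻¹' W = U' := by
  obtain ⟨V, hV, rfl⟩ := isOpen_induced_iff.mp hU'o
  have hK : IsCompact ((Subtype.val : T → X) '' (Subtype.val ⁻¹' V)) :=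
    hU'c.image continuous_subtype_val
  obtain ⟨W, hWc, hWo, hKW, hWV⟩ :=
    PrespectralSpace.exists_isCompact_and_isOpen_between hK hV (by
      rintro _ ⟨y, hy, rfl⟩; exact hy)
  refine ⟨W, hWo, hWc, ?_⟩
  ext y
  constructor
  · intro hy; exact hWV hy
  · intro hy; exact hKW ⟨y, hy, rfl⟩

/-- Let X be a topological space such that the quasi-compact opens form a basis for the topology, and
let T ⊆ X be retrocompact in X. Then for any constructible subset E ⊆ X, the intersection E ∩ T is
constructible in T (with the induced topology). -/
theorem result {X : Type u} [TopologicalSpace X] [PrespectralSpace X]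
    (T : Set X) (hT : IsRetrocompact T) (E : Set X) (hE : Topology.IsConstructible E) :
    Topology.IsConstructible ((Subtype.val : T → X) ⁻¹' E) := by
  refine hE.preimage continuous_subtype_val ?_
  intro s hso hsr U' hU'c hU'o
  obtain ⟨W, hWo, hWc, rfl⟩ := exists_compact_open_preimage T U' hU'o hU'c
  rw [← Set.preimage_inter, Topology.IsEmbedding.subtypeVal.isCompact_iff,
    Subtype.image_preimage_coe]
  exact hT (hsr hWc hWo) (hso.inter hWo)

end Groth.Agent.S7542
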