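import Groth.Statements.S7544

set_option autoImplicit false
universe u
open ConstrTop

namespace Groth.Agent.S7544

/-- Let X be a quasi-compact topological space whose quasi-compact opens form a basis and are closed
under pairwise intersection. Take T ⊆ X to be locally closed, quasi-compact, and with retrocompact
complement. Then T is constructible in X. -/
theorem result {X : Type u} [TopologicalSpace X]
    [CompactSpace X] [PrespectralSpace X] [QuasiSeparatedSpace X]
    (T : Set X) (hT : IsLocallyClosed T) (hTc : IsCompact T) (hTr : IsRetrocompact Tᶜ) :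
    Topology.IsConstructible T := by
  obtain ⟨U, Z, hU, hZ, rfl⟩ := hT
  obtain ⟨W, hWc, hWo, hTW, hWU⟩ :=
    PrespectralSpace.exists_isCompact_and_isOpen_between hTc hU Set.inter_subset_left
  have hA : (U ∩ Z)ᶜ ∩ W = W ∩ Zᶜ := by
    ext w
    constructor
    · rintro ⟨h1, h2⟩
      exact ⟨h2, fun hz => h1 ⟨hWU h2, hz⟩⟩
    · rintro ⟨h1, h2⟩
      exact ⟨fun h => h2 h.2, h1⟩
  have hAc : IsCompact (W ∩ Zᶜ) := hA ▸ hTr hWc hWo
  have hAo : IsOpen (W ∩ Zᶜ) := hWo.inter hZ.isOpen_compl
  have hEq : U ∩ Z = W \ (W ∩ Zᶜ) := by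
    ext w
    constructor
    · intro h
      exact ⟨hTW h, fun h' => h'.2 h.2⟩
    · rintro ⟨h1, h2⟩
      refine ⟨hWU h1, ?_⟩
      by_contra hz
      exact h2 ⟨h1, hz⟩
  rw [hEq]
  exact (hWc.isConstructible hWo).sdiff (hAc.isConstructible hAo)

end Groth.Agent.S7544
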