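import Groth.Statements.S7546

set_option autoImplicit false
universe u
open ConstrTop

namespace Groth.Agent.S7546

open Topology Set

/-- Let X be a topological space, Z ⊆ X irreducible and E ⊆ X a finite union of locally closed subsets
(for instance a constructible set). Then E ∩ Z is dense in Z if and only if E ∩ Z contains a subset
of the form U ∩ Z, U open in X, which is dense in Z. If moreover ξ ∈ Z is a generic point of Z,
these conditions are equivalent to ξ ∈ E. -/
theorem result {X : Type u} [TopologicalSpace X] (Z : Set X) (hZ : IsIrreducible Z)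
    {n : ℕ} (L : Fin n → Set X) (hL : ∀ i, IsLocallyClosed (L i)) (E : Set X) (hE : E = ⋃ i, L i) :
    (Z ⊆ closure (E ∩ Z) ↔ ∃ U : Set X, IsOpen U ∧ U ∩ Z ⊆ E ∧ Z ⊆ closure (U ∩ Z)) ∧
    (∀ ξ : X, ξ ∈ Z → Z ⊆ closure {ξ} → (Z ⊆ closure (E ∩ Z) ↔ ξ ∈ E)) := by
  classical
  have part1 : Z ⊆ closure (E ∩ Z) ↔
      ∃ U : Set X, IsOpen U ∧ U ∩ Z ⊆ E ∧ Z ⊆ closure (U ∩ Z) := by
    constructor
    · intro h
      have hcl : closure (E ∩ Z) = ⋃ i, closure (L i ∩ Z) := by
        rw [hE, iUnion_inter, closure_iUnion_of_finite]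
      rw [hcl] at h
      have h' : Z ⊆ ⋃₀ ↑(Finset.univ.image fun i => closure (L i ∩ Z)) := by
        intro z hz
        obtain ⟨i, hi⟩ := mem_iUnion.mp (h hz)
        exact ⟨closure (L i ∩ Z), by simp, hi⟩
      obtain ⟨C, hC, hZC⟩ := (isIrreducible_iff_sUnion_isClosed.mp hZ) _ (by
        intro z hz
        simp only [Finset.mem_image, Finset.mem_univ, true_and] at hz
        obtain ⟨i, rfl⟩ := hz
        exact isClosed_closure) h'
      simp only [Finset.mem_image, Finset.mem_univ, true_and] at hC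
      obtain ⟨i, rfl⟩ := hC
      obtain ⟨U, C, hU, hCc, hLi⟩ := hL i
      have hZsubC : Z ⊆ C := by
        refine hZC.trans (hCc.closure_subset_iff.mpr ?_)
        rw [hLi]
        exact fun x hx => hx.1.2
      refine ⟨U, hU, ?_, ?_⟩
      · intro x hx
        rw [hE]
        refine mem_iUnion.mpr ⟨i, ?_⟩
        rw [hLi]
        exact ⟨hx.1, hZsubC hx.2⟩
      · refine hZC.trans (closure_mono ?_)
        rw [hLi]
        exact fun x hx => ⟨hx.1.1, hx.2⟩
    · rintro ⟨U, -, hUE, hZU⟩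
      exact hZU.trans (closure_mono fun x hx => ⟨hUE hx, hx.2⟩)
  refine ⟨part1, fun ξ hξZ hξ => ⟨fun h => ?_, fun h => ?_⟩⟩
  · obtain ⟨U, hU, hUE, hZU⟩ := part1.mp h
    have hne : (U ∩ Z).Nonempty := by
      by_contra hempty
      rw [not_nonempty_iff_eq_empty] at hempty
      rw [hempty, closure_empty] at hZU
      exact hZU hξZ
    obtain ⟨z, hzU, hzZ⟩ := hne
    have hz : z ∈ closure {ξ} := hξ hzZ
    obtain ⟨w, hwU, hw⟩ := mem_closure_iff.mp hz U hU hzU
    rw [mem_singleton_iff] at hw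
    subst hw
    exact hUE ⟨hwU, hξZ⟩
  · exact hξ.trans (closure_mono (singleton_subset_iff.mpr ⟨h, hξZ⟩))

end Groth.Agent.S7546
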