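import Groth.Statements.S7547

set_option autoImplicit false
universe u
open PtTop

namespace Groth.Agent.S7547

/-- Let X be a Kolmogorov topological space whose quasi-compact opens form a basis for the topology. If
X is not Jacobson, there is a point x ∈ X which is not closed but such that {x} is locally closed. -/
theorem result {X : Type u} [TopologicalSpace X]
    [T0Space X] [PrespectralSpace X] (hX : ¬ JacobsonSpace X) :
    ∃ x : X, ¬ IsClosed ({x} : Set X) ∧ IsLocallyClosed ({x} : Set X) := by
  rw [jacobsonSpace_iff_locallyClosed] at hX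
  push Not at hX
  obtain ⟨Z, ⟨z, hz⟩, hZlc, hZ⟩ := hX
  obtain ⟨Uo, C, hUo, hC, rfl⟩ := hZlc
  -- a quasi-compact open neighbourhood of `z` inside `Uo`
  obtain ⟨V, ⟨hVo, hVc⟩, hzV, hVU⟩ :=
    (PrespectralSpace.isTopologicalBasis (X := X)).exists_subset_of_mem_open hz.1 hUo
  have : CompactSpace V := isCompact_iff_compactSpace.mp hVc
  have hS : IsClosed ((Subtype.val : V → X) ⁻¹' C) := hC.preimage continuous_subtype_val
  obtain ⟨x, hxS, hxcl⟩ := hS.exists_closed_singleton ⟨⟨z, hzV⟩, hz.2⟩
  refine ⟨x.1, fun hcl => ?_, ?_⟩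
  · have : x.1 ∈ Uo ∩ C ∩ closedPoints X := ⟨⟨hVU x.2, hxS⟩, hcl⟩
    rw [hZ] at this
    exact this
  · obtain ⟨K, hK, hKx⟩ := isClosed_induced_iff.mp hxcl
    have : ({x.1} : Set X) = V ∩ K := by
      ext y
      constructor
      · rintro rfl
        refine ⟨x.2, ?_⟩
        have : x ∈ (Subtype.val : V → X) ⁻¹' K := by rw [hKx]; rfl
        exact this
      · rintro ⟨hyV, hyK⟩
        have : (⟨y, hyV⟩ : V) ∈ (Subtype.val : V → X) ⁻¹' K := hyK
        rw [hKx] at this
        have := Set.mem_singleton_iff.mp this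
        rw [← this]
        rfl
    rw [this]
    exact hVo.isLocallyClosed.inter hK.isLocallyClosed

end Groth.Agent.S7547
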