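import Groth.Statements.S7548

set_option autoImplicit false
universe u
open PtTop

namespace Groth.Agent.S7548

open Topology Set

/-- Let X be a Jacobson space and let T = ⋃ T_i be a union of subsets T_i ⊆ X each locally closed in X
(open, closed, locally closed and constructible subsets are of this form). Then T is Jacobson and
every point of T closed in T is closed in X. -/
theorem result {X : Type u} [TopologicalSpace X] [JacobsonSpace X]
    {ι : Type u} (T : ι → Set X) (hT : ∀ i, IsLocallyClosed (T i)) :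
    JacobsonSpace ↥(⋃ i, T i) ∧
      closedPoints ↥(⋃ i, T i) ⊆ (Subtype.val : ↥(⋃ i, T i) → X) ⁻¹' closedPoints X := by
  constructor
  · rw [jacobsonSpace_iff_locallyClosed]
    rintro Z ⟨z, hz⟩ hZ
    obtain ⟨U, C, hU, hC, rfl⟩ := hZ
    obtain ⟨U', hU', rfl⟩ := isOpen_induced_iff.mp hU
    obtain ⟨C', hC', rfl⟩ := isClosed_induced_iff.mp hC
    obtain ⟨i, hi⟩ := mem_iUnion.mp z.2
    have hloc : IsLocallyClosed ((U' ∩ C') ∩ T i) :=
      (hU'.isLocallyClosed.inter hC'.isLocallyClosed).inter (hT i)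
    have hne : ((U' ∩ C') ∩ T i).Nonempty := ⟨z.1, ⟨hz.1, hz.2⟩, hi⟩
    obtain ⟨x, ⟨⟨hxU, hxC⟩, hxT⟩, hxcl⟩ := nonempty_inter_closedPoints hne hloc
    refine ⟨⟨x, mem_iUnion.mpr ⟨i, hxT⟩⟩, ⟨hxU, hxC⟩, ?_⟩
    rw [mem_closedPoints_iff] at hxcl ⊢
    have := hxcl.preimage (continuous_subtype_val (p := fun y => y ∈ ⋃ i, T i))
    convert this using 1
    ext y
    simp only [mem_singleton_iff, mem_preimage]
    exact ⟨fun h => by rw [h], fun h => Subtype.ext h⟩
  · intro t ht
    rw [mem_closedPoints_iff] at ht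
    rw [mem_preimage, mem_closedPoints_iff]
    obtain ⟨C, hC, hCt⟩ := isClosed_induced_iff.mp ht
    obtain ⟨i, hi⟩ := mem_iUnion.mp t.2
    apply isClosed_singleton_of_isLocallyClosed_singleton
    have : ({t.1} : Set X) = T i ∩ C := by
      ext x
      simp only [mem_singleton_iff, mem_inter_iff]
      constructor
      · rintro rfl
        refine ⟨hi, ?_⟩
        have : t ∈ Subtype.val ⁻¹' C := by rw [hCt]; rfl
        exact this
      · rintro ⟨hxT, hxC⟩
        have : (⟨x, mem_iUnion.mpr ⟨i, hxT⟩⟩ : ↥(⋃ i, T i)) ∈ Subtype.val ⁻¹' C := hxC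
        rw [hCt, mem_singleton_iff] at this
        rw [← this]
    rw [this]
    exact (hT i).inter hC.isLocallyClosed

end Groth.Agent.S7548
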