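import Groth.Statements.S7549
import Groth.Agent.Lib.ConstrSub33

set_option autoImplicit false
universe u
open PtTop

namespace Groth.Agent.S7549

open Groth.Agent.Lib Topology Set

section aux

variable {X : Type u} [TopologicalSpace X] [JacobsonSpace X]

/-- A nonempty constructible subset of a Jacobson space contains a closed point. -/
theorem nonempty_inter_closedPoints_of_isConstructible {E : Set X} (hE : IsConstructible E)
    (hne : E.Nonempty) : (E ∩ closedPoints X).Nonempty := by
  induction hE using ConstrSub33.isConstructible_sdiff_union_induction with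
  | sdiff U V hUo _ hVo _ =>
    exact nonempty_inter_closedPoints hne (hUo.isLocallyClosed.inter hVo.isClosed_compl.isLocallyClosed)
  | union s t _ _ ihs iht =>
    rcases hne with ⟨x, hx | hx⟩
    · obtain ⟨y, hy, hy'⟩ := ihs ⟨x, hx⟩
      exact ⟨y, Or.inl hy, hy'⟩
    · obtain ⟨y, hy, hy'⟩ := iht ⟨x, hx⟩
      exact ⟨y, Or.inr hy, hy'⟩

/-- Inclusions of constructible sets can be tested on closed points. -/
theorem subset_of_preimage_subset {E E' : Set X} (hE : IsConstructible E)
    (hE' : IsConstructible E')
    (h : (Subtype.val : closedPoints X → X) ⁻¹' E ⊆ Subtype.val ⁻¹' E') : E ⊆ E' := by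
  by_contra hcon
  rw [← sdiff_eq_empty, ← Set.not_nonempty_iff_eq_empty, not_not] at hcon
  obtain ⟨x, ⟨hxE, hxE'⟩, hx⟩ := nonempty_inter_closedPoints_of_isConstructible (hE.sdiff hE') hcon
  exact hxE' (h (a := ⟨x, hx⟩) hxE)

/-- Inclusions of open sets can be tested on closed points. -/
theorem subset_of_preimage_subset_of_isOpen {U V : Set X} (hU : IsOpen U) (hV : IsOpen V)
    (h : (Subtype.val : closedPoints X → X) ⁻¹' U ⊆ Subtype.val ⁻¹' V) : U ⊆ V := by
  by_contra hcon
  rw [← sdiff_eq_empty, ← Set.not_nonempty_iff_eq_empty, not_not] at hcon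
  obtain ⟨x, ⟨hxE, hxE'⟩, hx⟩ := nonempty_inter_closedPoints hcon
    (hU.isLocallyClosed.inter hV.isClosed_compl.isLocallyClosed)
  exact hxE' (h (a := ⟨x, hx⟩) hxE)

theorem isCompact_iff_preimage {U : Set X} (hU : IsOpen U) :
    IsCompact U ↔ IsCompact ((Subtype.val : closedPoints X → X) ⁻¹' U) := by
  constructor
  · intro hc
    rw [isCompact_iff_finite_subcover]
    intro ι W hW hcov
    choose V hVo hV using fun i => isOpen_induced_iff.mp (hW i)
    have hsub : U ⊆ ⋃ i, V i := by
      refine subset_of_preimage_subset_of_isOpen hU (isOpen_iUnion hVo) ?_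
      rw [preimage_iUnion]
      simpa only [hV] using hcov
    obtain ⟨t, ht⟩ := hc.elim_finite_subcover V hVo hsub
    refine ⟨t, ?_⟩
    have := preimage_mono (f := (Subtype.val : closedPoints X → X)) ht
    simpa only [preimage_iUnion, hV] using this
  · intro hc
    rw [isCompact_iff_finite_subcover]
    intro ι V hVo hcov
    obtain ⟨t, ht⟩ := hc.elim_finite_subcover
      (fun i => (Subtype.val : closedPoints X → X) ⁻¹' V i)
      (fun i => (hVo i).preimage continuous_subtype_val)
      (by rw [← preimage_iUnion]; exact preimage_mono hcov)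
    refine ⟨t, subset_of_preimage_subset_of_isOpen hU
      (isOpen_biUnion fun i _ => hVo i) ?_⟩
    simpa only [preimage_iUnion] using ht

theorem isRetrocompact_iff_preimage {U : Set X} (hU : IsOpen U) :
    IsRetrocompact U ↔ IsRetrocompact ((Subtype.val : closedPoints X → X) ⁻¹' U) := by
  constructor
  · intro hr W hWc hWo
    obtain ⟨V, hVo, rfl⟩ := isOpen_induced_iff.mp hWo
    have hVc : IsCompact V := (isCompact_iff_preimage hVo).mpr hWc
    rw [← preimage_inter]
    exact (isCompact_iff_preimage (hU.inter hVo)).mp (hr hVc hVo)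
  · intro hr V hVc hVo
    rw [isCompact_iff_preimage (hU.inter hVo), preimage_inter]
    exact hr ((isCompact_iff_preimage hVo).mp hVc) (hVo.preimage continuous_subtype_val)

end aux

/-- Let X be a Jacobson space and X₀ ⊆ X the subspace of closed points. (a) For U ⊆ X open, U is
quasi-compact if and only if U ∩ X₀ is quasi-compact, and U is retrocompact in X if and only if U ∩
X₀ is retrocompact in X₀. (b) The rule E ↦ E ∩ X₀ is an inclusion-preserving and
inclusion-reflecting bijection between the constructible subsets of X and the constructible subsets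
of X₀. -/
theorem result {X : Type u} [TopologicalSpace X] [JacobsonSpace X] :
    (∀ U : Set X, IsOpen U →
      (IsCompact U ↔ IsCompact ((Subtype.val : closedPoints X → X) ⁻¹' U)) ∧
      (IsRetrocompact U ↔ IsRetrocompact ((Subtype.val : closedPoints X → X) ⁻¹' U))) ∧
    (∀ E : Set X, Topology.IsConstructible E →
      Topology.IsConstructible ((Subtype.val : closedPoints X → X) ⁻¹' E)) ∧
    (∀ E E' : Set X, Topology.IsConstructible E → Topology.IsConstructible E' →
      ((Subtype.val : closedPoints X → X) ⁻¹' E ⊆ Subtype.val ⁻¹' E' ↔ E ⊆ E')) ∧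
    (∀ F : Set (closedPoints X), Topology.IsConstructible F →
      ∃ E : Set X, Topology.IsConstructible E ∧ (Subtype.val : closedPoints X → X) ⁻¹' E = F) := by
  refine ⟨fun U hU => ⟨isCompact_iff_preimage hU, isRetrocompact_iff_preimage hU⟩, ?_, ?_, ?_⟩
  · intro E hE
    exact hE.preimage continuous_subtype_val fun s hso hsr => (isRetrocompact_iff_preimage hso).mp hsr
  · intro E E' hE hE'
    exact ⟨subset_of_preimage_subset hE hE', fun h => preimage_mono h⟩
  · intro F hF
    induction hF using IsConstructible.empty_union_induction with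
    | open_retrocompact W hWo hWr =>
      obtain ⟨V, hVo, rfl⟩ := isOpen_induced_iff.mp hWo
      exact ⟨V, ((isRetrocompact_iff_preimage hVo).mpr hWr).isConstructible hVo, rfl⟩
    | union s _ t _ hs ht =>
      obtain ⟨Es, hEs, rfl⟩ := hs
      obtain ⟨Et, hEt, rfl⟩ := ht
      exact ⟨Es ∪ Et, hEs.union hEt, preimage_union⟩
    | compl s _ hs =>
      obtain ⟨Es, hEs, rfl⟩ := hs
      exact ⟨Esᶜ, hEs.compl, preimage_compl⟩

end Groth.Agent.S7549
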