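import Groth.Statements.S7550

set_option autoImplicit false
universe u
open PtTop

namespace Groth.Agent.S7550

open Topology Set TopologicalSpace

/-- Let f : X → Y be a continuous and open map of topological spaces, with X Noetherian, every
irreducible closed subset of X having a generic point, and Y Kolmogorov. Then generalizations lift
along f. (Part (1), closed maps are specializing, is a library fact.) -/
theorem result {X Y : Type u} [TopologicalSpace X] [TopologicalSpace Y]
    [TopologicalSpace.NoetherianSpace X] [QuasiSober X] [T0Space Y]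
    (f : X → Y) (hf : Continuous f) (hfo : IsOpenMap f) :
    GeneralizingMap f := by
  intro x y' hy'
  set T : Set X := f ⁻¹' {y'} with hT
  have hxT : x ∈ closure T := by
    rw [mem_closure_iff]
    intro U hU hxU
    have : y' ∈ f '' U := hy'.mem_open (hfo U hU) ⟨x, hxU, rfl⟩
    obtain ⟨u, huU, hu⟩ := this
    exact ⟨u, huU, hu⟩
  have hfin : (irreducibleComponents T).Finite := NoetherianSpace.finite_irreducibleComponents
  have hcover : T = ⋃ C ∈ irreducibleComponents T, (Subtype.val : T → X) '' C := by
    ext z
    simp only [mem_iUnion, mem_image, exists_prop]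
    constructor
    · intro hz
      have : (⟨z, hz⟩ : T) ∈ ⋃₀ irreducibleComponents T := by
        rw [sUnion_irreducibleComponents]; exact mem_univ _
      obtain ⟨C, hC, hzC⟩ := this
      exact ⟨C, hC, ⟨z, hz⟩, hzC, rfl⟩
    · rintro ⟨C, -, c, -, rfl⟩
      exact c.2
  rw [hcover, hfin.closure_biUnion, mem_iUnion₂] at hxT
  obtain ⟨C, hC, hxC⟩ := hxT
  have hCirr : IsIrreducible C := hC.1
  have hZirr : IsIrreducible (closure ((Subtype.val : T → X) '' C)) :=
    (hCirr.image _ continuous_subtype_val.continuousOn).closure
  have hgen := hZirr.isGenericPoint_genericPoint isClosed_closure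
  set ξ := hZirr.genericPoint with hξ
  refine ⟨ξ, ?_, ?_⟩
  · show ξ ⤳ x
    rw [specializes_iff_mem_closure, hgen.def]
    exact hxC
  · have h1 : y' ⤳ f ξ := by
      rw [specializes_iff_mem_closure]
      have hmem : ξ ∈ closure ((Subtype.val : T → X) '' C) := hgen.mem
      have := image_closure_subset_closure_image hf (mem_image_of_mem f hmem)
      refine closure_mono ?_ this
      rintro _ ⟨_, ⟨c, -, rfl⟩, rfl⟩
      exact c.2
    have h2 : f ξ ⤳ y' := by
      obtain ⟨c, hc⟩ := hCirr.nonempty
      have hcZ : c.1 ∈ closure ((Subtype.val : T → X) '' C) :=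
        subset_closure (mem_image_of_mem _ hc)
      have : ξ ⤳ c.1 := by
        rw [specializes_iff_mem_closure, hgen.def]
        exact hcZ
      have := this.map hf
      rwa [show f c.1 = y' from c.2] at this
    exact (h2.antisymm h1).eq

end Groth.Agent.S7550
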