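import Groth.Statements.S7551

set_option autoImplicit false
universe u
open PtTop

namespace Groth.Agent.S7551

/-- Let s, t : R → U and π : U → X be continuous maps between topological spaces satisfying: (1) π is an
open map, (2) U is a sober space, (3) s and t have finite fibres, (4) generalizations lift along s
and along t, and (5) the image of (t, s) : R → U × U is an equivalence relation on U and π
identifies X, as a set, with the quotient of U by it. Then X is Kolmogorov. -/
theorem result {R U X : Type u}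
    [TopologicalSpace R] [TopologicalSpace U] [TopologicalSpace X] [QuasiSober U] [T0Space U]
    (s t : R → U) (π : U → X) (hs : Continuous s) (ht : Continuous t) (hπ : Continuous π)
    (hπo : IsOpenMap π) (hsf : ∀ u, (s ⁻¹' {u}).Finite) (htf : ∀ u, (t ⁻¹' {u}).Finite)
    (hsg : GeneralizingMap s) (htg : GeneralizingMap t)
    (hE : Equivalence fun u u' : U => ∃ r, t r = u ∧ s r = u')
    (hπs : Function.Surjective π) (hπq : ∀ u u' : U, π u = π u' ↔ ∃ r, t r = u ∧ s r = u') :
    T0Space X := by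
  classical
  -- the equivalence class of `u₀` is finite
  have hfin : ∀ u₀ : U, {u : U | ∃ r, t r = u₀ ∧ s r = u}.Finite := by
    intro u₀
    refine ((htf u₀).image s).subset ?_
    rintro u ⟨r, hr, rfl⟩
    exact ⟨r, hr, rfl⟩
  -- L1 : specializations can be transported along the equivalence relation
  have L1 : ∀ u v v' : U, u ⤳ v → (∃ r, t r = v ∧ s r = v') →
      ∃ u', (∃ r, t r = u ∧ s r = u') ∧ u' ⤳ v' := by
    rintro u v v' huv ⟨r', rfl, rfl⟩
    obtain ⟨r, hr, rfl⟩ := htg huv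
    exact ⟨s r, ⟨r, rfl, rfl⟩, hr.map hs⟩
  -- L2 : specializations downstairs lift
  have L2 : ∀ u₀ u' : U, π u₀ ⤳ π u' → ∃ u, (∃ r, t r = u₀ ∧ s r = u) ∧ u ⤳ u' := by
    intro u₀ u' hspec
    set A : Set U := {u : U | ∃ r, t r = u₀ ∧ s r = u} with hA
    set C : Set U := ⋃ u ∈ A, closure {u} with hC
    have hCcl : IsClosed C := (hfin u₀).isClosed_biUnion fun _ _ => isClosed_closure
    have hCsat : ∀ v v', v ∈ C → (∃ r, t r = v ∧ s r = v') → v' ∈ C := by
      intro v v' hv hvv'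
      simp only [hC, Set.mem_iUnion, exists_prop] at hv ⊢
      obtain ⟨u, huA, huv⟩ := hv
      obtain ⟨w, huw, hwv'⟩ := L1 u v v' (specializes_iff_mem_closure.mpr huv) hvv'
      exact ⟨w, hE.trans huA huw, specializes_iff_mem_closure.mp hwv'⟩
    have himg : π '' C = (π '' Cᶜ)ᶜ := by
      ext y
      constructor
      · rintro ⟨v, hv, rfl⟩ ⟨w, hw, hwv⟩
        exact hw (hCsat v w hv ((hπq v w).mp hwv.symm))
      · intro hy
        obtain ⟨v, rfl⟩ := hπs y
        by_cases hv : v ∈ C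
        · exact ⟨v, hv, rfl⟩
        · exact absurd ⟨v, hv, rfl⟩ hy
    have hcl : IsClosed (π '' C) := by
      rw [himg, isClosed_compl_iff]
      exact hπo _ hCcl.isOpen_compl
    have hu₀ : u₀ ∈ C := by
      simp only [hC, Set.mem_iUnion, exists_prop]
      exact ⟨u₀, hE.refl u₀, subset_closure rfl⟩
    have hmem : π u' ∈ π '' C :=
      hcl.closure_subset_iff.mpr (Set.singleton_subset_iff.mpr ⟨u₀, hu₀, rfl⟩)
        (specializes_iff_mem_closure.mp hspec)
    obtain ⟨v, hv, hvu'⟩ := hmem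
    have hu' : u' ∈ C := hCsat v u' hv ((hπq v u').mp hvu')
    simp only [hC, Set.mem_iUnion, exists_prop] at hu'
    obtain ⟨u, huA, huu'⟩ := hu'
    exact ⟨u, huA, specializes_iff_mem_closure.mpr huu'⟩
  -- key symmetric step
  have key : ∀ u₀ u₀' : U, π u₀ ⤳ π u₀' → π u₀' ⤳ π u₀ → ∀ m : U,
      (∃ r, t r = u₀ ∧ s r = m) →
      (∀ y, ((∃ r, t r = u₀ ∧ s r = y) ∨ (∃ r, t r = u₀' ∧ s r = y)) → y ⤳ m → m ⤳ y) →
      π u₀ = π u₀' := by
    intro u₀ u₀' _ h21 m hm hmax
    have hπm : π u₀ = π m := (hπq u₀ m).mpr hm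
    obtain ⟨u, huB, hum⟩ := L2 u₀' m (hπm ▸ h21)
    have hmu : m ⤳ u := hmax u (Or.inr huB) hum
    have : m = u := (hmu.antisymm hum).eq
    rw [hπm, this]
    exact ((hπq u₀' u).mpr huB).symm
  refine ⟨fun x x' hxx' => ?_⟩
  obtain ⟨u₀, rfl⟩ := hπs x
  obtain ⟨u₀', rfl⟩ := hπs x'
  have h12 : π u₀ ⤳ π u₀' := hxx'.specializes
  have h21 : π u₀' ⤳ π u₀ := hxx'.specializes'
  let _ := specializationPreorder U
  set A : Set U := {u : U | ∃ r, t r = u₀ ∧ s r = u}
  set B : Set U := {u : U | ∃ r, t r = u₀' ∧ s r = u}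
  obtain ⟨m, hmAB, hmmax⟩ := ((hfin u₀).union (hfin u₀')).exists_maximal ⟨u₀, Or.inl (hE.refl u₀)⟩
  rcases hmAB with hmA | hmB
  · exact key u₀ u₀' h12 h21 m hmA fun y hy hym => hmmax hy hym
  · exact (key u₀' u₀ h21 h12 m hmB fun y hy hym => hmmax hy.symm hym).symm

end Groth.Agent.S7551
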