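import Groth.Statements.S7552

set_option autoImplicit false
universe u
open PtTop

namespace Groth.Agent.S7552

open Topology Set TopologicalSpace Order

variable {X Y : Type u} [TopologicalSpace X] [TopologicalSpace Y]

/-- The irreducible closed set `closure {x}`. -/
def ptClosure (x : X) : IrreducibleCloseds X :=
  ⟨closure {x}, isIrreducible_singleton.closure, isClosed_closure⟩

lemma ptClosure_le_iff {x x' : X} : ptClosure x' ≤ ptClosure x ↔ x ⤳ x' := by
  rw [specializes_iff_closure_subset]
  exact Iff.rfl

lemma height_lift_of_specializingMap (f : X → Y) (hf : Continuous f) (hs : SpecializingMap f)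
    [QuasiSober Y] (n : ℕ) :
    ∀ (Z : IrreducibleCloseds Y) (x : X), closure {f x} = (Z : Set Y) → (n : ℕ∞) ≤ height Z →
      (n : ℕ∞) ≤ height (ptClosure x) := by
  induction n with
  | zero => intro Z x _ _; simp
  | succ n ih =>
    intro Z x hZ hn
    have hlt : ¬ height Z ≤ (n : ℕ∞) := by
      intro h
      have := hn.trans h
      norm_cast at this
      omega
    rw [height_le_coe_iff] at hlt
    push Not at hlt
    obtain ⟨Z', hZ'lt, hZ'⟩ := hlt
    have hgen := Z'.isIrreducible.isGenericPoint_genericPoint Z'.isClosed
    set y' := Z'.isIrreducible.genericPoint with hy'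
    have hy'Z : y' ∈ (Z : Set Y) := hZ'lt.le hgen.mem
    have hspec : f x ⤳ y' := by
      rw [specializes_iff_mem_closure, hZ]; exact hy'Z
    obtain ⟨x', hxx', hfx'⟩ := hs hspec
    have hxx'' : x ⤳ x' := hxx'
    have hcl : closure {f x'} = (Z' : Set Y) := by rw [hfx']; exact hgen.def
    have ih' := ih Z' x' hcl hZ'
    have hlt' : ptClosure x' < ptClosure x := by
      refine lt_of_le_of_ne (ptClosure_le_iff.mpr hxx'') fun heq => ?_
      have : x' ⤳ x := ptClosure_le_iff.mp heq.ge
      have h2 : f x' ⤳ f x := this.map hf
      rw [hfx', specializes_iff_mem_closure, hgen.def] at h2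
      have : (Z : Set Y) ⊆ (Z' : Set Y) := by
        rw [← hZ]; exact Z'.isClosed.closure_subset_iff.mpr (singleton_subset_iff.mpr h2)
      exact hZ'lt.not_ge this
    have := height_add_one_le hlt'
    refine le_trans ?_ this
    push_cast
    gcongr

lemma coheight_lift_of_generalizingMap (f : X → Y) (hf : Continuous f) (hg : GeneralizingMap f)
    [QuasiSober Y] (n : ℕ) :
    ∀ (Z : IrreducibleCloseds Y) (x : X), closure {f x} = (Z : Set Y) → (n : ℕ∞) ≤ coheight Z →
      (n : ℕ∞) ≤ coheight (ptClosure x) := by
  induction n with
  | zero => intro Z x _ _; simp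
  | succ n ih =>
    intro Z x hZ hn
    have hlt : ¬ coheight Z ≤ (n : ℕ∞) := by
      intro h
      have := hn.trans h
      norm_cast at this
      omega
    rw [coheight_le_coe_iff] at hlt
    push Not at hlt
    obtain ⟨Z', hZ'lt, hZ'⟩ := hlt
    have hgen := Z'.isIrreducible.isGenericPoint_genericPoint Z'.isClosed
    set y' := Z'.isIrreducible.genericPoint with hy'
    have hfxZ : f x ∈ (Z : Set Y) := by rw [← hZ]; exact subset_closure rfl
    have hfxZ' : f x ∈ (Z' : Set Y) := hZ'lt.le hfxZ
    have hspec : y' ⤳ f x := by
      rw [specializes_iff_mem_closure, hgen.def]; exact hfxZ'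
    obtain ⟨x', hxx', hfx'⟩ := hg hspec
    have hxx'' : x' ⤳ x := hxx'
    have hcl : closure {f x'} = (Z' : Set Y) := by rw [hfx']; exact hgen.def
    have ih' := ih Z' x' hcl hZ'
    have hlt' : ptClosure x < ptClosure x' := by
      refine lt_of_le_of_ne (ptClosure_le_iff.mpr hxx'') fun heq => ?_
      have : x ⤳ x' := ptClosure_le_iff.mp heq.ge
      have h2 : f x ⤳ f x' := this.map hf
      rw [hfx', specializes_iff_mem_closure, hZ] at h2
      have : (Z' : Set Y) ⊆ (Z : Set Y) := by
        rw [← hgen.def]; exact Z.isClosed.closure_subset_iff.mpr (singleton_subset_iff.mpr h2)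
      exact hZ'lt.not_ge this
    have := coheight_add_one_le hlt'
    refine le_trans ?_ this
    push_cast
    gcongr

/-- Let f : X → Y be a continuous surjective map of topological spaces with Y sober, and assume that
specializations lift along f or that generalizations lift along f. Then dim X ≥ dim Y (Krull
dimensions as suprema of lengths of chains of irreducible closed subsets). -/
theorem result {X Y : Type u}
    [TopologicalSpace X] [TopologicalSpace Y] [QuasiSober Y] [T0Space Y]
    (f : X → Y) (hf : Continuous f) (hsurj : Function.Surjective f)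
    (hlift : SpecializingMap f ∨ GeneralizingMap f) :
    topologicalKrullDim Y ≤ topologicalKrullDim X := by
  unfold topologicalKrullDim
  rcases hlift with hs | hg
  · rw [krullDim_eq_iSup_height]
    refine iSup_le fun Z => ?_
    have hgen := Z.isIrreducible.isGenericPoint_genericPoint Z.isClosed
    obtain ⟨x, hx⟩ := hsurj Z.isIrreducible.genericPoint
    have hcl : closure {f x} = (Z : Set Y) := by rw [hx]; exact hgen.def
    have : height Z ≤ height (ptClosure x) :=
      ENat.forall_natCast_le_iff_le.mp fun n hn =>
        height_lift_of_specializingMap f hf hs n Z x hcl hn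
    exact (WithBot.coe_le_coe.mpr this).trans (height_le_krullDim _)
  · rw [krullDim_eq_iSup_coheight]
    refine iSup_le fun Z => ?_
    have hgen := Z.isIrreducible.isGenericPoint_genericPoint Z.isClosed
    obtain ⟨x, hx⟩ := hsurj Z.isIrreducible.genericPoint
    have hcl : closure {f x} = (Z : Set Y) := by rw [hx]; exact hgen.def
    have : coheight Z ≤ coheight (ptClosure x) :=
      ENat.forall_natCast_le_iff_le.mp fun n hn =>
        coheight_lift_of_generalizingMap f hf hg n Z x hcl hn
    exact (WithBot.coe_le_coe.mpr this).trans (coheight_le_krullDim _)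

end Groth.Agent.S7552
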