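import Groth.Statements.S7556
import Groth.Agent.S7555
import Mathlib.Topology.Compactification.StoneCech

set_option autoImplicit false
universe u
open PtTop

namespace Groth.Agent.S7556

/-- Rigidity of irreducible covers: a continuous self-map over the base is the identity. -/
lemma eq_id_of_irreducible {E X : Type u} [TopologicalSpace E] [TopologicalSpace X]
    [CompactSpace E] [T2Space E] (ρ : E → X) (hsurj : Function.Surjective ρ)
    (hirr : ∀ E₀ : Set E, IsClosed E₀ → E₀ ≠ Set.univ → ρ '' E₀ ≠ Set.univ)
    (r : E → E) (hr : Continuous r) (hρr : ρ ∘ r = ρ) : r = id := by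
  have hrs : Function.Surjective r := by
    rw [← Set.range_eq_univ]
    by_contra h
    apply hirr (Set.range r) (isCompact_range hr).isClosed h
    rw [← Set.range_comp, hρr, hsurj.range_eq]
  by_contra hne
  obtain ⟨E₁, hE₁c, hE₁ne, hE₁u⟩ := Groth.Agent.S7555.result r hr hrs hne
  apply hirr E₁ hE₁c hE₁ne
  have : ρ '' (E₁ ∪ r '' E₁) = Set.univ := by rw [hE₁u, Set.image_univ, hsurj.range_eq]
  rw [Set.image_union, ← Set.image_comp, hρr, Set.union_self] at this
  exact this

lemma ultrafilter_projective (X : Type u) : CompactT2.Projective (Ultrafilter X) := by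
  intro Y Z _ _ _ _ _ _ f g hf hg g_sur
  let s : Z → Y := fun z => Classical.choose (g_sur z)
  have hs : g ∘ s = id := funext fun z => Classical.choose_spec (g_sur z)
  let t := s ∘ f ∘ (pure : X → Ultrafilter X)
  let h : Ultrafilter X → Y := Ultrafilter.extend t
  have hh : Continuous h := continuous_ultrafilter_extend t
  refine ⟨h, hh, denseRange_pure.equalizer (hg.comp hh) hf ?_⟩
  rw [Function.comp_assoc, ultrafilter_extend_extends, ← Function.comp_assoc, hs,
    Function.id_comp]

lemma exists_cover (X : Type u) [TopologicalSpace X] [CompactSpace X] [T2Space X] :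
    ∃ (X' : Type u) (_ : TopologicalSpace X') (_ : CompactSpace X') (_ : T2Space X')
      (_ : ExtremallyDisconnected X') (p : X' → X), Continuous p ∧ Function.Surjective p ∧
      ∀ E : Set X', IsClosed E → E ≠ Set.univ → p '' E ≠ Set.univ := by
  let π : Ultrafilter X → X := Ultrafilter.extend id
  have hπ : Continuous π := continuous_ultrafilter_extend id
  have hπs : Function.Surjective π := fun x => ⟨pure x, ultrafilter_extend_pure id x⟩
  obtain ⟨E, hEc, hEonto, hEmin⟩ := exists_compact_surjective_zorn_subset hπ hπs
  let ρ : E → X := E.domRestrict π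
  have hρ : Continuous ρ := hπ.continuousOn.domRestrict
  have hρs : Function.Surjective ρ := fun a => by
    rcases (hEonto ▸ Set.mem_univ a : a ∈ π '' E) with ⟨d, hd, rfl⟩
    exact ⟨⟨d, hd⟩, rfl⟩
  have hirr : ∀ E₀ : Set E, IsClosed E₀ → E₀ ≠ Set.univ → ρ '' E₀ ≠ Set.univ :=
    fun E₀ h1 h2 => hEmin E₀ h2 h1
  -- a retraction of `Ultrafilter X` onto `E`
  obtain ⟨r, hr, hρr⟩ := ultrafilter_projective X hπ hρ hρs
  have hret : r ∘ (Subtype.val : E → Ultrafilter X) = id := by
    apply eq_id_of_irreducible ρ hρs hirr _ (hr.comp continuous_subtype_val)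
    rw [← Function.comp_assoc, hρr]
    rfl
  have hproj : CompactT2.Projective E := by
    intro Y Z _ _ _ _ _ _ f g hf hg g_sur
    obtain ⟨h, hh, hgh⟩ := ultrafilter_projective X (hf.comp hr) hg g_sur
    refine ⟨h ∘ Subtype.val, hh.comp continuous_subtype_val, ?_⟩
    rw [← Function.comp_assoc, hgh, Function.comp_assoc, hret, Function.comp_id]
  exact ⟨E, inferInstance, hEc, inferInstance, hproj.extremallyDisconnected, ρ, hρ, hρs, hirr⟩

/-- Let X be a quasi-compact Hausdorff space. There is a continuous surjection p : X' → X with X'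
quasi-compact, Hausdorff and extremally disconnected such that no proper closed subset of X' maps
onto X; and if q : X'' → X is a second cover with the same properties, there is a homeomorphism X' ≃
X'' compatible with p and q. -/
theorem result (X : Type u) [TopologicalSpace X] [CompactSpace X] [T2Space X] :
    (∃ (X' : Type u) (_ : TopologicalSpace X') (_ : CompactSpace X') (_ : T2Space X') (_ : ExtremallyDisconnected X')
        (p : X' → X), Continuous p ∧ Function.Surjective p ∧
        ∀ E : Set X', IsClosed E → E ≠ Set.univ → p '' E ≠ Set.univ) ∧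
    (∀ (X' X'' : Type u) [TopologicalSpace X'] [CompactSpace X'] [T2Space X'] [ExtremallyDisconnected X']
        [TopologicalSpace X''] [CompactSpace X''] [T2Space X''] [ExtremallyDisconnected X'']
        (p : X' → X) (q : X'' → X),
        Continuous p → Function.Surjective p → (∀ E : Set X', IsClosed E → E ≠ Set.univ → p '' E ≠ Set.univ) →
        Continuous q → Function.Surjective q → (∀ E : Set X'', IsClosed E → E ≠ Set.univ → q '' E ≠ Set.univ) →
        ∃ h : X' ≃ₜ X'', q ∘ h = p) := by
  refine ⟨exists_cover X, ?_⟩
  intro X' X'' _ _ _ _ _ _ _ _ p q hp hps hpirr hq hqs hqirr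
  obtain ⟨h, hh, hqh⟩ := (CompactT2.ExtremallyDisconnected.projective (A := X')) hp hq hqs
  obtain ⟨k, hk, hpk⟩ := (CompactT2.ExtremallyDisconnected.projective (A := X'')) hq hp hps
  have hkh : k ∘ h = id := by
    apply eq_id_of_irreducible p hps hpirr _ (hk.comp hh)
    rw [← Function.comp_assoc, hpk, hqh]
  have hhk : h ∘ k = id := by
    apply eq_id_of_irreducible q hqs hqirr _ (hh.comp hk)
    rw [← Function.comp_assoc, hqh, hpk]
  exact ⟨{ toFun := h, invFun := k, left_inv := congr_fun hkh, right_inv := congr_fun hhk,
           continuous_toFun := hh, continuous_invFun := hk }, hqh⟩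

end Groth.Agent.S7556
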