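import Groth.Statements.S7557
import Mathlib.Topology.Category.TopCommRingCat
import Mathlib.Topology.Algebra.Ring.Basic
import Mathlib.Algebra.Category.Ring.Limits
import Mathlib.Topology.Category.TopCat.Limits.Basic
-- import your own Groth.Agent.* helpers here

set_option autoImplicit false
universe u
open CategoryTheory CategoryTheory.Limits
open PtTop

namespace Groth.Agent.S7557

section

variable {J : Type u} [Category.{u} J] (F : J ⥤ TopCommRingCat.{u})

/-- The subring of compatible families in the product. -/
def sec : Subring (∀ j, F.obj j) where
  carrier := {x | ∀ (j j' : J) (f : j ⟶ j'), (F.map f).1 (x j) = x j'}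
  mul_mem' := by
    intro a b ha hb j j' f
    simp only [Pi.mul_apply, map_mul, ha j j' f, hb j j' f]
  one_mem' := by
    intro j j' f
    simp only [Pi.one_apply, map_one]
  add_mem' := by
    intro a b ha hb j j' f
    simp only [Pi.add_apply, map_add, ha j j' f, hb j j' f]
  zero_mem' := by
    intro j j' f
    simp only [Pi.zero_apply, map_zero]
  neg_mem' := by
    intro a ha j j' f
    simp only [Pi.neg_apply, map_neg, ha j j' f]

/-- The limit cone. -/
def cone : Cone F where
  pt := TopCommRingCat.of (sec F)
  π :=
    { app := fun j => ⟨(Pi.evalRingHom (fun j => F.obj j) j).comp (sec F).subtype,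
        (continuous_apply j).comp continuous_subtype_val⟩
      naturality := fun j j' f => by
        apply Subtype.ext
        ext x
        exact (x.2 j j' f).symm }

/-- The cone is a limit cone. -/
def isLimit : IsLimit (cone F) where
  lift s := ⟨RingHom.codRestrict (RingHom.pi fun j => (s.π.app j).1) (sec F) (fun x j j' f => by
      have h := s.π.naturality f
      have h2 := congrArg (fun g => g.1 x) h
      exact h2.symm),
    by
      apply Continuous.subtype_mk
      apply continuous_pi
      intro j
      exact (s.π.app j).2⟩
  fac s j := Subtype.ext (RingHom.ext fun x => rfl)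
  uniq s m hm := Subtype.ext (RingHom.ext fun x => Subtype.ext (funext fun j => by
    have h := congrArg (fun g => g.1 x) (hm j)
    exact h))

/-- The image cone in `TopCat` is a limit. -/
def isLimitTop : IsLimit ((forget₂ TopCommRingCat.{u} TopCat.{u}).mapCone (cone F)) where
  lift s := TopCat.ofHom ⟨fun x => (⟨fun j => (s.π.app j).hom x, fun j j' f => by
        have h := s.π.naturality f
        have h2 := congrArg (fun g => g.hom x) h
        exact h2.symm⟩ : sec F), by
      apply Continuous.subtype_mk
      apply continuous_pi
      intro j
      exact (s.π.app j).hom.continuous⟩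
  fac s j := by
    ext x
    rfl
  uniq s m hm := by
    ext x
    apply Subtype.ext
    funext j
    have h := congrArg (fun g => g.hom x) (hm j)
    exact h

/-- The image cone in `CommRingCat` is a limit. -/
def isLimitRing : IsLimit ((forget₂ TopCommRingCat.{u} CommRingCat.{u}).mapCone (cone F)) where
  lift s := CommRingCat.ofHom (RingHom.codRestrict (RingHom.pi fun j => (s.π.app j).hom) (sec F)
    (fun x j j' f => by
      have h := s.π.naturality f
      have h2 := congrArg (fun g => g.hom x) h
      exact h2.symm))
  fac s j := by
    ext x
    rfl
  uniq s m hm := by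
    ext x
    apply Subtype.ext
    funext j
    have h := congrArg (fun g => g.hom x) (hm j)
    exact h

end

/-- The category of topological rings (commutative, with continuous ring homomorphisms) has limits, and
limits commute with the forgetful functors to topological spaces and to rings. -/
theorem result :
    HasLimits TopCommRingCat.{u} ∧
    PreservesLimits (forget₂ TopCommRingCat.{u} TopCat.{u}) ∧
    PreservesLimits (forget₂ TopCommRingCat.{u} CommRingCat.{u}) := by
  refine ⟨⟨fun J _ => ⟨fun F => HasLimit.mk ⟨cone F, isLimit F⟩⟩⟩, ⟨fun {J} _ => ⟨fun {F} => ?_⟩⟩,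
    ⟨fun {J} _ => ⟨fun {F} => ?_⟩⟩⟩
  · exact preservesLimit_of_preserves_limit_cone (isLimit F) (isLimitTop F)
  · exact preservesLimit_of_preserves_limit_cone (isLimit F) (isLimitRing F)

end Groth.Agent.S7557
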