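import Groth.Statements.S7558
import Mathlib.Topology.Category.TopCommRingCat
import Mathlib.Topology.Algebra.Ring.Basic
import Mathlib.Algebra.Category.Ring.Colimits
-- import your own Groth.Agent.* helpers here

set_option autoImplicit false
universe u
open CategoryTheory CategoryTheory.Limits
open PtTop

namespace Groth.Agent.S7558

section

lemma ringTop_induced {R S : Type u} [Ring R] [Ring S] [tS : TopologicalSpace S]
    [IsTopologicalRing S] (f : R →+* S) :
    @IsTopologicalRing R (TopologicalSpace.induced f tS) _ := by
  let _ := TopologicalSpace.induced f tS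
  have hf : Topology.IsInducing f := ⟨rfl⟩
  have := hf.continuousMul f
  have := hf.continuousAdd f
  have := hf.continuousNeg (map_neg f)
  exact {}

variable {J : Type u} [Category.{u} J] {F : J ⥤ TopCommRingCat.{u}}
  (c : Cocone (F ⋙ forget₂ TopCommRingCat.{u} CommRingCat.{u}))

/-- The finest ring topology on the cocone point making all the cocone maps continuous. -/
def ringTop : RingTopology c.pt :=
  sInf {b : RingTopology c.pt |
    ∀ j, (F.obj j).isTopologicalSpace.coinduced (c.ι.app j).hom ≤ b.toTopologicalSpace}

/-- The cocone point as a topological ring. -/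
def pt : TopCommRingCat.{u} :=
  @TopCommRingCat.of c.pt _ (ringTop c).toTopologicalSpace (ringTop c).toIsTopologicalRing

lemma continuous_ι (j : J) :
    @Continuous _ _ (F.obj j).isTopologicalSpace (ringTop c).toTopologicalSpace (c.ι.app j).hom :=
  continuous_sInf_rng.2 <| Set.forall_mem_image.2 fun _ hb => continuous_iff_coinduced_le.2 (hb j)

/-- The cocone of topological rings. -/
def cocone : Cocone F where
  pt := pt c
  ι :=
    { app := fun j => (⟨(c.ι.app j).hom, continuous_ι c j⟩ : F.obj j ⟶ pt c)
      naturality := fun j j' f => by
        apply Subtype.ext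
        ext x
        exact congrArg (fun g => g.hom x) (c.ι.naturality f) }

/-- The cocone is a colimit when the underlying cocone of rings is. -/
def isColimit (hc : IsColimit c) : IsColimit (cocone c) where
  desc s := (⟨(hc.desc ((forget₂ _ _).mapCocone s)).hom, by
    rw [continuous_iff_le_induced]
    let b : RingTopology c.pt :=
      { toTopologicalSpace := TopologicalSpace.induced
          (hc.desc ((forget₂ _ _).mapCocone s)).hom s.pt.isTopologicalSpace
        toIsTopologicalRing := ringTop_induced (S := s.pt) _ }
    have hb : ringTop c ≤ b := by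
      apply sInf_le
      intro j
      show _ ≤ TopologicalSpace.induced _ _
      rw [coinduced_le_iff_le_induced, induced_compose]
      have h := hc.fac ((forget₂ _ _).mapCocone s) j
      have h2 : (hc.desc ((forget₂ _ _).mapCocone s)).hom ∘ (c.ι.app j).hom = (s.ι.app j).1 := by
        funext x
        exact congrArg (fun g => g.hom x) h
      have hcont : @Continuous (F.obj j) s.pt (F.obj j).isTopologicalSpace s.pt.isTopologicalSpace
          ((hc.desc ((forget₂ _ _).mapCocone s)).hom ∘ (c.ι.app j).hom) :=
        (congrArg (fun g : F.obj j → s.pt => @Continuous (F.obj j) s.pt (F.obj j).isTopologicalSpace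
          s.pt.isTopologicalSpace g) h2).mpr (s.ι.app j).2
      exact continuous_iff_le_induced.mp hcont
    exact hb⟩ : pt c ⟶ s.pt)
  fac s j := by
    apply Subtype.ext
    ext x
    exact congrArg (fun g => g.hom x) (hc.fac ((forget₂ _ _).mapCocone s) j)
  uniq s m hm := by
    apply Subtype.ext
    ext x
    refine congrArg (fun g => g.hom x)
      (hc.uniq ((forget₂ _ _).mapCocone s) ((forget₂ _ _).map m) fun j => ?_)
    ext y
    exact congrArg (fun g => g.1 y) (hm j)

/-- The image cocone of rings is a colimit. -/
def isColimitRing (hc : IsColimit c) :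
    IsColimit ((forget₂ TopCommRingCat.{u} CommRingCat.{u}).mapCocone (cocone c)) :=
  IsColimit.ofIsoColimit hc (Cocone.ext (Iso.refl _) (fun j => by
    ext x
    rfl))

end

/-- The category of topological rings (commutative, with continuous ring homomorphisms) has colimits,
and colimits commute with the forgetful functor to rings. -/
theorem result :
    HasColimits TopCommRingCat.{u} ∧
    PreservesColimits (forget₂ TopCommRingCat.{u} CommRingCat.{u}) := by
  refine ⟨⟨fun J _ => ⟨fun F => HasColimit.mk ⟨cocone (colimit.cocone _),
    isColimit _ (colimit.isColimit (F ⋙ forget₂ TopCommRingCat.{u} CommRingCat.{u}))⟩⟩⟩,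
    ⟨fun {J} _ => ⟨fun {F} => ?_⟩⟩⟩
  exact preservesColimit_of_preserves_colimit_cocone
    (isColimit _ (colimit.isColimit (F ⋙ forget₂ TopCommRingCat.{u} CommRingCat.{u})))
    (isColimitRing _ (colimit.isColimit (F ⋙ forget₂ TopCommRingCat.{u} CommRingCat.{u})))

end Groth.Agent.S7558
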