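import Groth.Statements.S7559
import Mathlib.Order.OrderDual
import Mathlib.Data.Fintype.Powerset
import Mathlib.Data.Fintype.Prod

set_option autoImplicit false
universe u
open PtTop

namespace Groth.Agent.S7559

/-- Let X be a topological space and X = ∐ P_k a finite partition into locally closed parts. Then there
is a finite stratification of X refining it: a finite partially ordered index set I and pairwise
disjoint locally closed strata S_i covering X with closure(S_j) ⊆ ⋃_{i ≤ j} S_i, such that every
part P_k is a union of strata. -/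
theorem result {X : Type u} [TopologicalSpace X]
    {n : ℕ} (P : Fin n → Set X) (hP : ∀ k, IsLocallyClosed (P k)) (hcov : ⋃ k, P k = Set.univ)
    (hdisj : ∀ k k', k ≠ k' → Disjoint (P k) (P k')) :
    ∃ (I : Type) (_ : Fintype I) (_ : PartialOrder I) (S : I → Set X),
      (∀ i, IsLocallyClosed (S i)) ∧ (⋃ i, S i = Set.univ) ∧ (∀ i j, i ≠ j → Disjoint (S i) (S j)) ∧
      (∀ j, closure (S j) ⊆ ⋃ i ∈ Set.Iic j, S i) ∧
      (∀ i k, (S i ∩ P k).Nonempty → S i ⊆ P k) := by
  classical
  -- the finite family of closed sets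
  let c : Fin n × Bool → Set X := fun a => if a.2 then closure (P a.1) \ P a.1 else closure (P a.1)
  have hc : ∀ a, IsClosed (c a) := by
    rintro ⟨k, b⟩
    cases b
    · exact isClosed_closure
    · have := (hP k).isOpen_coborder
      rw [coborder, isOpen_compl_iff] at this
      exact this
  let ty : X → Finset (Fin n × Bool) := fun x => Finset.univ.filter fun a => x ∈ c a
  have hty : ∀ x a, a ∈ ty x ↔ x ∈ c a := fun x a => by simp [ty]
  refine ⟨(Finset (Fin n × Bool))ᵒᵈ, inferInstance, inferInstance,
    fun E => {x | ty x = OrderDual.ofDual E}, ?_, ?_, ?_, ?_, ?_⟩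
  · intro E
    have : {x | ty x = OrderDual.ofDual E} =
        (⋂ a ∈ OrderDual.ofDual E, c a) ∩ (⋃ a ∈ (OrderDual.ofDual E)ᶜ, c a)ᶜ := by
      ext x
      simp only [Set.mem_ofPred_eq, Set.mem_inter_iff, Set.mem_iInter, Set.mem_compl_iff,
        Set.mem_iUnion, Finset.mem_compl, not_exists]
      constructor
      · rintro rfl
        exact ⟨fun a ha => (hty x a).mp ha, fun a ha hx => ha ((hty x a).mpr hx)⟩
      · rintro ⟨h1, h2⟩
        ext a
        rw [hty]
        exact ⟨fun hx => by_contra fun ha => h2 a ha hx, fun ha => h1 a ha⟩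
    change IsLocallyClosed {x | ty x = OrderDual.ofDual E}
    rw [this]
    refine IsLocallyClosed.inter (IsClosed.isLocallyClosed ?_) (IsOpen.isLocallyClosed ?_)
    · exact isClosed_biInter fun a _ => hc a
    · rw [isOpen_compl_iff]
      exact Set.Finite.isClosed_biUnion (Finset.finite_toSet _) fun a _ => hc a
  · rw [Set.eq_univ_iff_forall]
    intro x
    exact Set.mem_iUnion.mpr ⟨OrderDual.toDual (ty x), rfl⟩
  · intro E E' hne
    rw [Set.disjoint_left]
    intro x hx hx'
    apply hne
    have h1 : ty x = OrderDual.ofDual E := hx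
    have h2 : ty x = OrderDual.ofDual E' := hx'
    exact OrderDual.ofDual.injective (h1.symm.trans h2)
  · intro E
    have hsub : closure {x | ty x = OrderDual.ofDual E} ⊆ ⋂ a ∈ OrderDual.ofDual E, c a := by
      apply closure_minimal _ (isClosed_biInter fun a _ => hc a)
      intro x hx
      have hx' : ty x = OrderDual.ofDual E := hx
      exact Set.mem_iInter₂.mpr fun a ha => (hty x a).mp (hx' ▸ ha)
    intro y hy
    have hy' := Set.mem_iInter₂.mp (hsub hy)
    refine Set.mem_iUnion₂.mpr ⟨OrderDual.toDual (ty y), ?_, rfl⟩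
    change OrderDual.ofDual E ≤ ty y
    intro a ha
    exact (hty y a).mpr (hy' a ha)
  · rintro E k ⟨x, hx, hxP⟩ y hy
    have hx' : ty x = OrderDual.ofDual E := hx
    have hy' : ty y = OrderDual.ofDual E := hy
    have h1 : (k, false) ∈ ty x := (hty x _).mpr (subset_closure hxP)
    have h2 : (k, true) ∉ ty x := fun h => ((hty x _).mp h).2 hxP
    rw [hx', ← hy'] at h1 h2
    have h3 : y ∈ closure (P k) := (hty y _).mp h1
    by_contra hyP
    exact h2 ((hty y _).mpr ⟨h3, hyP⟩)

end Groth.Agent.S7559
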