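import Groth.Statements.S7560
import Mathlib.Data.Fintype.Powerset
import Mathlib.Data.Fintype.Sigma
import Mathlib.Data.Fintype.Sum

set_option autoImplicit false
universe u
open ConstrTop

namespace Groth.Agent.S7560

open Topology

/-- A constructible set is a union of "types" with respect to finitely many retrocompact opens. -/
lemma exists_finite_retrocompact {X : Type u} [TopologicalSpace X] {s : Set X}
    (hs : IsConstructible s) :
    ∃ (ι : Type) (_ : Fintype ι) (v : ι → Set X), (∀ i, IsOpen (v i) ∧ IsRetrocompact (v i)) ∧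
      ∀ x y, (∀ i, x ∈ v i ↔ y ∈ v i) → (x ∈ s ↔ y ∈ s) := by
  induction hs using IsConstructible.empty_union_induction with
  | open_retrocompact U hUopen hUcomp =>
    exact ⟨Unit, inferInstance, fun _ => U, fun _ => ⟨hUopen, hUcomp⟩, fun x y h => h ()⟩
  | union s hs t ht hs' ht' =>
    obtain ⟨ι₁, _, v₁, hv₁, h₁⟩ := hs'
    obtain ⟨ι₂, _, v₂, hv₂, h₂⟩ := ht'
    refine ⟨ι₁ ⊕ ι₂, inferInstance, Sum.elim v₁ v₂, ?_, ?_⟩
    · rintro (i | i)
      · exact hv₁ i
      · exact hv₂ i
    · intro x y h
      have e₁ := h₁ x y fun i => h (Sum.inl i)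
      have e₂ := h₂ x y fun i => h (Sum.inr i)
      simp only [Set.mem_union, e₁, e₂]
  | compl s hs hs' =>
    obtain ⟨ι, _, v, hv, h⟩ := hs'
    exact ⟨ι, inferInstance, v, hv, fun x y hxy => not_congr (h x y hxy)⟩

/-- Let X be a topological space written as a finite union X = T_1 ∪ … ∪ T_n of constructible subsets.
Then there is a finite stratification X = ∐ S_i (pairwise disjoint locally closed strata indexed by
a finite partially ordered set, with closure(S_j) ⊆ ⋃_{i ≤ j} S_i) whose strata are constructible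
and such that every T_k is a union of strata. -/
theorem result {X : Type u} [TopologicalSpace X]
    {n : ℕ} (T : Fin n → Set X) (hT : ∀ k, Topology.IsConstructible (T k)) (hcov : ⋃ k, T k = Set.univ) :
    ∃ (I : Type) (_ : Fintype I) (_ : PartialOrder I) (S : I → Set X),
      (∀ i, IsLocallyClosed (S i) ∧ Topology.IsConstructible (S i)) ∧ (⋃ i, S i = Set.univ) ∧
      (∀ i j, i ≠ j → Disjoint (S i) (S j)) ∧
      (∀ j, closure (S j) ⊆ ⋃ i ∈ Set.Iic j, S i) ∧
      (∀ i k, (S i ∩ T k).Nonempty → S i ⊆ T k) := by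
  classical
  choose ι hι v hv hvT using fun k => exists_finite_retrocompact (hT k)
  let U : (Σ k, ι k) → Set X := fun a => v a.1 a.2
  have hUo : ∀ a, IsOpen (U a) := fun a => (hv a.1 a.2).1
  have hUc : ∀ a, IsConstructible (U a) := fun a => (hv a.1 a.2).2.isConstructible (hv a.1 a.2).1
  let ty : X → Finset (Σ k, ι k) := fun x => Finset.univ.filter fun a => x ∈ U a
  have hty : ∀ x a, a ∈ ty x ↔ x ∈ U a := fun x a => by simp [ty]
  have hS : ∀ E : Finset (Σ k, ι k), {x | ty x = E} = (⋂ a ∈ E, U a) ∩ (⋃ a ∈ Eᶜ, U a)ᶜ := by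
    intro E
    ext x
    simp only [Set.mem_ofPred_eq, Set.mem_inter_iff, Set.mem_iInter, Set.mem_compl_iff,
      Set.mem_iUnion, Finset.mem_compl, not_exists]
    constructor
    · rintro rfl
      exact ⟨fun a ha => (hty x a).mp ha, fun a ha hx => ha ((hty x a).mpr hx)⟩
    · rintro ⟨h1, h2⟩
      ext a
      rw [hty]
      exact ⟨fun hx => by_contra fun ha => h2 a ha hx, fun ha => h1 a ha⟩
  refine ⟨Finset (Σ k, ι k), inferInstance, inferInstance, fun E => {x | ty x = E},
    ?_, ?_, ?_, ?_, ?_⟩
  · intro E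
    change IsLocallyClosed {x | ty x = E} ∧ IsConstructible {x | ty x = E}
    rw [hS E]
    refine ⟨IsLocallyClosed.inter (IsOpen.isLocallyClosed ?_) (IsClosed.isLocallyClosed ?_), ?_⟩
    · exact isOpen_biInter_finset fun a _ => hUo a
    · rw [isClosed_compl_iff]
      exact isOpen_biUnion fun a _ => hUo a
    · exact (IsConstructible.biInter (Finset.finite_toSet E) fun a _ => hUc a).inter
        (IsConstructible.biUnion (Finset.finite_toSet Eᶜ) fun a _ => hUc a).compl
  · rw [Set.eq_univ_iff_forall]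
    intro x
    exact Set.mem_iUnion.mpr ⟨ty x, rfl⟩
  · intro E E' hne
    rw [Set.disjoint_left]
    intro x hx hx'
    exact hne ((show ty x = E from hx).symm.trans hx')
  · intro E
    have hcl : IsClosed (⋃ a ∈ Eᶜ, U a)ᶜ := by
      rw [isClosed_compl_iff]
      exact isOpen_biUnion fun a _ => hUo a
    have hsub : closure {x | ty x = E} ⊆ (⋃ a ∈ Eᶜ, U a)ᶜ := by
      apply closure_minimal _ hcl
      rw [hS E]
      exact Set.inter_subset_right
    intro y hy
    have hy' := hsub hy
    refine Set.mem_iUnion₂.mpr ⟨ty y, ?_, rfl⟩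
    change ty y ≤ E
    intro a ha
    by_contra haE
    exact hy' (Set.mem_iUnion₂.mpr ⟨a, Finset.mem_compl.mpr haE, (hty y a).mp ha⟩)
  · rintro E k ⟨x, hx, hxT⟩ y hy
    have hx' : ty x = E := hx
    have hy' : ty y = E := hy
    refine (hvT k x y fun i => ?_).mp hxT
    have := hty x ⟨k, i⟩
    have h2 := hty y ⟨k, i⟩
    rw [hx'] at this
    rw [hy'] at h2
    exact this.symm.trans h2

end Groth.Agent.S7560
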