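import Groth.Statements.S7561
import Mathlib.Data.Fintype.Option
import Mathlib.Data.Fintype.Prod
import Mathlib.Data.Fintype.EquivFin

set_option autoImplicit false
universe u
open PtTop

namespace Groth.Agent.S7561

/-- If a nonempty relatively open part `Y ∩ O` of `Y` is covered by finitely many locally closed
sets, then some smaller nonempty relatively open part lies in one of them. -/
lemma exists_open_subset_part {X : Type u} [TopologicalSpace X] (Y : Set X) :
    ∀ (n : ℕ) (P : Fin n → Set X), (∀ k, IsLocallyClosed (P k)) → ∀ O : Set X, IsOpen O →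
      (Y ∩ O).Nonempty → Y ∩ O ⊆ ⋃ k, P k →
      ∃ O' : Set X, IsOpen O' ∧ (Y ∩ O').Nonempty ∧ ∃ k, Y ∩ O' ⊆ P k := by
  intro n
  induction n with
  | zero =>
    intro P _ O _ hne hcov
    obtain ⟨x, hx⟩ := hne
    obtain ⟨k, -⟩ := Set.mem_iUnion.mp (hcov hx)
    exact k.elim0
  | succ n ih =>
    intro P hP O hO hne hcov
    obtain ⟨A, C, hA, hC, hAC⟩ := hP 0
    -- a helper: if `Y ∩ O₁` avoids `P 0`, use the induction hypothesis
    have htail : ∀ O₁ : Set X, IsOpen O₁ → (Y ∩ O₁).Nonempty → O₁ ⊆ O → Disjoint (Y ∩ O₁) (P 0) →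
        ∃ O' : Set X, IsOpen O' ∧ (Y ∩ O').Nonempty ∧ ∃ k, Y ∩ O' ⊆ P k := by
      intro O₁ hO₁ hne₁ hsub hdis
      obtain ⟨O', hO', hne', k, hk⟩ := ih (fun k => P k.succ) (fun k => hP k.succ) O₁ hO₁ hne₁ (by
        intro x hx
        obtain ⟨k, hk⟩ := Set.mem_iUnion.mp (hcov ⟨hx.1, hsub hx.2⟩)
        refine Fin.cases (fun h0 => ?_) (fun k hk => Set.mem_iUnion.mpr ⟨k, hk⟩) k hk
        exact absurd h0 (Set.disjoint_left.mp hdis hx))
      exact ⟨O', hO', hne', k.succ, hk⟩
    by_cases h1 : (Y ∩ (O ∩ Cᶜ)).Nonempty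
    · refine htail (O ∩ Cᶜ) (hO.inter hC.isOpen_compl) h1 Set.inter_subset_left ?_
      rw [Set.disjoint_left]
      rintro x ⟨-, -, hxC⟩ hx0
      rw [hAC] at hx0
      exact hxC hx0.2
    · by_cases h2 : (Y ∩ (O ∩ A)).Nonempty
      · refine ⟨O ∩ A, hO.inter hA, h2, 0, ?_⟩
        rintro x ⟨hxY, hxO, hxA⟩
        rw [hAC]
        refine ⟨hxA, ?_⟩
        by_contra hxC
        exact h1 ⟨x, hxY, hxO, hxC⟩
      · refine htail O hO hne subset_rfl ?_
        rw [Set.disjoint_left]
        rintro x ⟨hxY, hxO⟩ hx0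
        rw [hAC] at hx0
        exact h2 ⟨x, hxY, hxO, hx0.1⟩

/-- The statement proved by Noetherian induction on the closed set `Y`. -/
def Good {X : Type u} [TopologicalSpace X] (Y : Set X) : Prop :=
  ∀ (κ : Type) [Fintype κ] (P : κ → Set X), (∀ k, IsLocallyClosed (P k)) → (⋃ k, P k = Y) →
    (∀ k k', k ≠ k' → Disjoint (P k) (P k')) →
    ∃ (ι : Type) (_ : Fintype ι) (S : ι → Set X),
      (∀ i, IsLocallyClosed (S i)) ∧ (⋃ i, S i = Y) ∧ (∀ i j, i ≠ j → Disjoint (S i) (S j)) ∧
      (∀ i j, (S i ∩ closure (S j)).Nonempty → S i ⊆ closure (S j)) ∧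
      (∀ i k, (S i ∩ P k).Nonempty → S i ⊆ P k)

lemma good_step {X : Type u} [TopologicalSpace X] (Y : Set X) (hY : IsClosed Y)
    (ih : ∀ Y' : Set X, IsClosed Y' → Y' ⊂ Y → Good Y') : Good Y := by
  classical
  intro κ _ P hP hcov hdisj
  by_cases hYe : Y = ∅
  · refine ⟨Empty, inferInstance, fun e => e.elim, fun e => e.elim, ?_, fun e => e.elim,
      fun e => e.elim, fun e => e.elim⟩
    rw [hYe]
    exact Set.iUnion_of_empty _
  -- enumerate the parts to apply `exists_open_subset_part`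
  obtain ⟨O', hO', hne, k₀, hk₀⟩ : ∃ O' : Set X, IsOpen O' ∧ (Y ∩ O').Nonempty ∧
      ∃ k, Y ∩ O' ⊆ P k := by
    let e := Fintype.equivFin κ
    obtain ⟨O', hO', hne, k, hk⟩ := exists_open_subset_part Y (Fintype.card κ)
      (fun j => P (e.symm j)) (fun j => hP _) Set.univ isOpen_univ
      (by rw [Set.inter_univ]; exact Set.nonempty_iff_ne_empty.mpr hYe)
      (by
        rw [Set.inter_univ, ← hcov]
        intro x hx
        obtain ⟨k, hk⟩ := Set.mem_iUnion.mp hx
        exact Set.mem_iUnion.mpr ⟨e k, by simpa using hk⟩)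
    exact ⟨O', hO', hne, e.symm k, hk⟩
  set U := Y ∩ O' with hU
  set Y' := Y ∩ O'ᶜ with hY'
  have hY'c : IsClosed Y' := hY.inter hO'.isClosed_compl
  have hY'lt : Y' ⊂ Y := by
    refine ⟨Set.inter_subset_left, fun h => ?_⟩
    obtain ⟨x, hx⟩ := hne
    exact (h hx.1).2 hx.2
  -- the new partition of `Y'`
  let P' : κ × Bool → Set X := fun a =>
    if a.2 then P a.1 ∩ O'ᶜ ∩ closure U else P a.1 ∩ O'ᶜ ∩ (closure U)ᶜ
  have hP'sub : ∀ a, P' a ⊆ P a.1 ∩ O'ᶜ := by
    rintro ⟨l, b⟩
    cases b <;> exact Set.inter_subset_left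
  have hP'true : ∀ l, P' (l, true) ⊆ closure U := fun l => Set.inter_subset_right
  have hP'false : ∀ l, P' (l, false) ⊆ (closure U)ᶜ := fun l => Set.inter_subset_right
  have hP'mem : ∀ x l, x ∈ P l → x ∈ O'ᶜ → x ∈ P' (l, decide (x ∈ closure U)) := by
    intro x l hxl hxO
    by_cases hx : x ∈ closure U
    · simp only [hx, decide_true]
      exact ⟨⟨hxl, hxO⟩, hx⟩
    · simp only [hx, decide_false]
      exact ⟨⟨hxl, hxO⟩, hx⟩
  obtain ⟨ι, _, S, hSlc, hScov, hSdisj, hSgood, hSref⟩ := ih Y' hY'c hY'lt (κ × Bool) P'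
    (by
      rintro ⟨l, b⟩
      cases b
      · exact ((hP l).inter hO'.isClosed_compl.isLocallyClosed).inter
          isClosed_closure.isOpen_compl.isLocallyClosed
      · exact ((hP l).inter hO'.isClosed_compl.isLocallyClosed).inter
          isClosed_closure.isLocallyClosed)
    (by
      apply Set.Subset.antisymm
      · refine Set.iUnion_subset fun a x hx => ?_
        have := hP'sub a hx
        exact ⟨hcov ▸ Set.mem_iUnion.mpr ⟨a.1, this.1⟩, this.2⟩
      · rintro x ⟨hxY, hxO⟩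
        rw [← hcov] at hxY
        obtain ⟨l, hl⟩ := Set.mem_iUnion.mp hxY
        exact Set.mem_iUnion.mpr ⟨_, hP'mem x l hl hxO⟩)
    (by
      rintro ⟨l, b⟩ ⟨l', b'⟩ hne
      by_cases hll : l = l'
      · subst hll
        have hbb : b ≠ b' := fun h => hne (by rw [h])
        rw [Set.disjoint_left]
        intro x hx hx'
        cases b <;> cases b'
        · exact hbb rfl
        · exact hP'false l hx (hP'true l hx')
        · exact hP'false l hx' (hP'true l hx)
        · exact hbb rfl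
      · exact (hdisj l l' hll).mono (fun x hx => (hP'sub _ hx).1) (fun x hx => (hP'sub _ hx).1))
  have hSY' : ∀ i, S i ⊆ Y' := fun i => hScov ▸ Set.subset_iUnion S i
  have hUY' : Disjoint U Y' := by
    rw [Set.disjoint_left]
    rintro x ⟨-, hx⟩ ⟨-, hx'⟩
    exact hx' hx
  refine ⟨Option ι, inferInstance, fun a => a.elim U S, ?_, ?_, ?_, ?_, ?_⟩
  · rintro (_ | i)
    · exact hY.isLocallyClosed.inter hO'.isLocallyClosed
    · exact hSlc i
  · apply Set.Subset.antisymm
    · refine Set.iUnion_subset ?_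
      rintro (_ | i)
      · exact Set.inter_subset_left
      · exact (hSY' i).trans Set.inter_subset_left
    · intro x hx
      by_cases hxO : x ∈ O'
      · exact Set.mem_iUnion.mpr ⟨none, hx, hxO⟩
      · have : x ∈ Y' := ⟨hx, hxO⟩
        rw [← hScov] at this
        obtain ⟨i, hi⟩ := Set.mem_iUnion.mp this
        exact Set.mem_iUnion.mpr ⟨some i, hi⟩
  · rintro (_ | i) (_ | j) hne
    · exact absurd rfl hne
    · exact hUY'.mono_right (hSY' j)
    · exact (hUY'.mono_right (hSY' i)).symm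
    · exact hSdisj i j fun h => hne (by rw [h])
  · rintro (_ | i) (_ | j)
    · intro _
      exact subset_closure
    · rintro ⟨x, hxU, hxS⟩
      have : closure (S j) ⊆ Y' := closure_minimal (hSY' j) hY'c
      exact absurd (this hxS) (Set.disjoint_left.mp hUY' hxU)
    · rintro ⟨x, hxS, hxU⟩
      have hxY' := hSY' i hxS
      have hxY : x ∈ ⋃ k, P k := hcov ▸ hxY'.1
      obtain ⟨l, hl⟩ := Set.mem_iUnion.mp hxY
      have h1 := hP'mem x l hl hxY'.2
      have hdec : decide (x ∈ closure U) = true := by simpa using hxU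
      rw [hdec] at h1
      exact (hSref i (l, true) ⟨x, hxS, h1⟩).trans (hP'true l)
    · exact hSgood i j
  · rintro (_ | i) k
    · rintro ⟨x, hxU, hxk⟩
      have : k = k₀ := by
        by_contra hne
        exact Set.disjoint_left.mp (hdisj k k₀ hne) hxk (hk₀ hxU)
      exact this ▸ hk₀
    · rintro ⟨x, hxS, hxk⟩
      have hxY' := hSY' i hxS
      have h1 := hP'mem x k hxk hxY'.2
      exact (hSref i _ ⟨x, hxS, h1⟩).trans ((hP'sub _).trans Set.inter_subset_left)

lemma good_all {X : Type u} [TopologicalSpace X] [TopologicalSpace.NoetherianSpace X]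
    (Y : TopologicalSpace.Closeds X) : Good (Y : Set X) := by
  induction Y using WellFoundedLT.induction with
  | ind Y ih =>
    refine good_step (Y : Set X) Y.isClosed fun Y' hY' hlt => ?_
    exact ih ⟨Y', hY'⟩ hlt

/-- Let X be a Noetherian topological space and X = ∐ P_k a finite partition into locally closed parts.
Then it is refined by a finite good stratification: a finite partition X = ∐ S_i into locally closed
strata such that S_i ∩ closure(S_j) ≠ ∅ implies S_i ⊆ closure(S_j), with every P_k a union of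
strata. -/
theorem result {X : Type u} [TopologicalSpace X]
    [TopologicalSpace.NoetherianSpace X]
    {n : ℕ} (P : Fin n → Set X) (hP : ∀ k, IsLocallyClosed (P k)) (hcov : ⋃ k, P k = Set.univ)
    (hdisj : ∀ k k', k ≠ k' → Disjoint (P k) (P k')) :
    ∃ (m : ℕ) (S : Fin m → Set X),
      (∀ i, IsLocallyClosed (S i)) ∧ (⋃ i, S i = Set.univ) ∧ (∀ i j, i ≠ j → Disjoint (S i) (S j)) ∧
      (∀ i j, (S i ∩ closure (S j)).Nonempty → S i ⊆ closure (S j)) ∧
      (∀ i k, (S i ∩ P k).Nonempty → S i ⊆ P k) := by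
  obtain ⟨ι, _, S, h1, h2, h3, h4, h5⟩ := good_all (⊤ : TopologicalSpace.Closeds X) (Fin n) P hP
    (by simpa using hcov) hdisj
  let e := Fintype.equivFin ι
  refine ⟨Fintype.card ι, fun i => S (e.symm i), fun i => h1 _, ?_, ?_, fun i j => h4 _ _,
    fun i k => h5 _ k⟩
  · rw [Set.eq_univ_iff_forall]
    intro x
    have : x ∈ ⋃ i, S i := by rw [h2]; trivial
    obtain ⟨i, hi⟩ := Set.mem_iUnion.mp this
    exact Set.mem_iUnion.mpr ⟨e i, by simpa using hi⟩
  · intro i j hij
    exact h3 _ _ fun h => hij (e.symm.injective h)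

end Groth.Agent.S7561
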