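import Groth.Statements.S7564
-- import your own Groth.Agent.* helpers here

set_option autoImplicit false
universe u
open PtTop

namespace Groth.Agent.S7564

/-- For a continuous surjection f : X → Y, if X has finitely many irreducible components, say n of them,
then Y has at most n irreducible components. -/
theorem result {X Y : Type u} [TopologicalSpace X] [TopologicalSpace Y]
    (f : X → Y) (hf : Continuous f) (hs : Function.Surjective f) (hfin : (irreducibleComponents X).Finite) :
    (irreducibleComponents Y).Finite ∧ (irreducibleComponents Y).ncard ≤ (irreducibleComponents X).ncard := by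
  have hsub : irreducibleComponents Y ⊆ (fun C => closure (f '' C)) '' irreducibleComponents X := by
    intro W hW
    have hcov : W ⊆ ⋃₀ ↑(hfin.toFinset.image fun C => closure (f '' C)) := by
      intro y _
      obtain ⟨x, rfl⟩ := hs y
      have hx : x ∈ ⋃₀ irreducibleComponents X := sUnion_irreducibleComponents (X := X) ▸ Set.mem_univ x
      obtain ⟨C, hC, hxC⟩ := hx
      refine ⟨closure (f '' C), ?_, subset_closure ⟨x, hxC, rfl⟩⟩
      simp only [Finset.coe_image, Set.Finite.coe_toFinset]
      exact ⟨C, hC, rfl⟩
    obtain ⟨z, hz, hWz⟩ := isIrreducible_iff_sUnion_isClosed.mp hW.1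
      (hfin.toFinset.image fun C => closure (f '' C))
      (fun z hz => by
        obtain ⟨C, -, rfl⟩ := Finset.mem_image.mp hz
        exact isClosed_closure) hcov
    obtain ⟨C, hC, rfl⟩ := Finset.mem_image.mp hz
    rw [Set.Finite.mem_toFinset] at hC
    refine ⟨C, hC, ?_⟩
    have hirr : IsIrreducible (closure (f '' C)) := (hC.1.image f hf.continuousOn).closure
    exact Set.Subset.antisymm (hW.2 hirr hWz) hWz
  have hfin' : ((fun C => closure (f '' C)) '' irreducibleComponents X).Finite := hfin.image _
  refine ⟨hfin'.subset hsub, ?_⟩
  exact (Set.ncard_le_ncard hsub hfin').trans (Set.ncard_image_le hfin)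

end Groth.Agent.S7564
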