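import Groth.Statements.S7567
import Groth.Agent.S7566

set_option autoImplicit false
universe u
open PtTop

namespace Groth.Agent.S7567

/-- Let X be a quasi-compact topological space whose quasi-compact opens form a basis, any two of them
meeting in a quasi-compact set. For a subset T ⊆ X these two conditions are equivalent: (a) T can be
written as an intersection of clopen subsets of X; (b) T is closed and is a union of connected
components of X. -/
theorem result {X : Type u} [TopologicalSpace X]
    [CompactSpace X] [PrespectralSpace X] [QuasiSeparatedSpace X] (T : Set X) :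
    (∃ S : Set (Set X), (∀ Z ∈ S, IsClopen Z) ∧ T = ⋂₀ S) ↔
      (IsClosed T ∧ ∀ x ∈ T, connectedComponent x ⊆ T) := by
  constructor
  · rintro ⟨S, hS, rfl⟩
    refine ⟨isClosed_sInter fun Z hZ => (hS Z hZ).1, fun x hx => ?_⟩
    exact Set.subset_sInter fun Z hZ => (hS Z hZ).connectedComponent_subset (hx Z hZ)
  · rintro ⟨hT, hcc⟩
    refine ⟨{Z | IsClopen Z ∧ T ⊆ Z}, fun Z hZ => hZ.1, ?_⟩
    apply Set.Subset.antisymm
    · exact Set.subset_sInter fun Z hZ => hZ.2
    · intro y hy
      by_contra hyT
      -- for every `x ∈ T` a clopen neighbourhood of `x` avoiding `y`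
      have key : ∀ x ∈ T, ∃ Z : Set X, IsClopen Z ∧ x ∈ Z ∧ y ∉ Z := by
        intro x hx
        have hyx : y ∉ connectedComponent x := fun h => hyT (hcc x hx h)
        rw [Groth.Agent.S7566.result x, Set.mem_sInter] at hyx
        push Not at hyx
        obtain ⟨Z, ⟨hZ, hxZ⟩, hyZ⟩ := hyx
        exact ⟨Z, hZ, hxZ, hyZ⟩
      choose Z hZ hxZ hyZ using key
      obtain ⟨t, ht⟩ := hT.isCompact.elim_finite_subcover (fun x : T => Z x.1 x.2)
        (fun x => (hZ x.1 x.2).2) (fun x hx => Set.mem_iUnion.mpr ⟨⟨x, hx⟩, hxZ x hx⟩)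
      have hclopen : IsClopen (⋃ x ∈ t, Z x.1 x.2) :=
        t.finite_toSet.isClopen_biUnion fun x _ => hZ x.1 x.2
      have := hy _ ⟨hclopen, ht⟩
      obtain ⟨x, hx, hyx⟩ := Set.mem_iUnion₂.mp this
      exact hyZ x.1 x.2 hyx

end Groth.Agent.S7567
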