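import Groth.Statements.S7568
import Mathlib.Topology.Compactness.LocallyCompact
import Mathlib.Topology.Separation.Hausdorff
import Mathlib.Data.Fintype.Pi

set_option autoImplicit false
universe u
open PtTop

namespace Groth.Agent.S7568

/-- Let X be a Hausdorff quasi-compact space, X = ⋃ U_i an open covering, p ≥ 0 an integer, and for
every (p+1)-tuple (i_0, …, i_p) an open covering of U_{i_0} ∩ … ∩ U_{i_p} by opens W_{i_0…i_p,k}.
Then there are an open covering X = ⋃_{j ∈ J} V_j and a map α : J → I with closure(V_j) ⊆ U_{α(j)}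
such that each V_{j_0} ∩ … ∩ V_{j_p} is contained in W_{α(j_0)…α(j_p),k} for some k. The published
statement allows a covering of an empty intersection to have no members; this row requires every
covering W_{i_0…i_p} to have at least one member (possibly empty), without which the conclusion
fails. -/
theorem result {X : Type u} [TopologicalSpace X] [CompactSpace X] [T2Space X]
    {ι : Type u} (U : ι → Set X) (hU : ∀ i, IsOpen (U i)) (hcov : ⋃ i, U i = Set.univ) (p : ℕ)
    (W : (Fin (p + 1) → ι) → Set (Set X)) (hWo : ∀ t, ∀ w ∈ W t, IsOpen w)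
    (hWc : ∀ t, ⋃₀ W t = ⋂ l, U (t l)) (hWne : ∀ t, (W t).Nonempty) :
    ∃ (J : Type u) (V : J → Set X) (α : J → ι), (∀ j, IsOpen (V j)) ∧ (⋃ j, V j = Set.univ) ∧
      (∀ j, closure (V j) ⊆ U (α j)) ∧
      (∀ t : Fin (p + 1) → J, ∃ w ∈ W (α ∘ t), (⋂ l, V (t l)) ⊆ w) := by
  classical
  have hpt : ∀ y : X, ∃ (i : ι) (A : Set X), IsOpen A ∧ y ∈ A ∧ closure A ⊆ U i := by
    intro y
    obtain ⟨i, hi⟩ := Set.mem_iUnion.mp (hcov ▸ Set.mem_univ y)
    obtain ⟨K, hK, hyK, hKU⟩ := exists_compact_subset (hU i) hi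
    exact ⟨i, interior K, isOpen_interior, hyK,
      (closure_minimal interior_subset hK.isClosed).trans hKU⟩
  choose i A hAo hyA hAcl using hpt
  obtain ⟨T, hT⟩ := isCompact_univ.elim_finite_subcover A hAo
    (fun y _ => Set.mem_iUnion.mpr ⟨y, hyA y⟩)
  have hk : ∀ y : X, ∃ k ∈ T, y ∈ A k := by
    intro y
    obtain ⟨k, hk, hyk⟩ := Set.mem_iUnion₂.mp (hT (Set.mem_univ y))
    exact ⟨k, hk, hyk⟩
  choose k hkT hyk using hk
  have hw : ∀ (x : X) (s : Fin (p + 1) → X), ∃ w : Set X, IsOpen w ∧ x ∈ w ∧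
      ((∀ l, x ∈ U (i (s l))) → w ∈ W (i ∘ s)) := by
    intro x s
    by_cases h : ∀ l, x ∈ U (i (s l))
    · have hx : x ∈ ⋃₀ W (i ∘ s) := by
        rw [hWc]
        exact Set.mem_iInter.mpr h
      obtain ⟨w, hwW, hxw⟩ := hx
      exact ⟨w, hWo _ w hwW, hxw, fun _ => hwW⟩
    · exact ⟨Set.univ, isOpen_univ, trivial, fun h' => absurd h' h⟩
  choose w hwo hxw hwW using hw
  let S : Set (Fin (p + 1) → X) := {s | ∀ l, s l ∈ T}
  have hS : S.Finite := by
    have : S = Set.pi Set.univ fun _ => (T : Set X) := by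
      ext t
      simp [S, Set.mem_pi]
    rw [this]
    exact Set.Finite.pi fun _ => T.finite_toSet
  let G : X → Set X := fun x => (⋂ s ∈ S, w x s) ∩
    ⋂ y ∈ T.filter (fun y => x ∉ closure (A y)), (closure (A y))ᶜ
  have hGo : ∀ x, IsOpen (G x) := fun x =>
    (hS.isOpen_biInter fun s _ => hwo x s).inter
      (isOpen_biInter_finset fun y _ => isClosed_closure.isOpen_compl)
  have hxG : ∀ x, x ∈ G x := by
    intro x
    refine ⟨Set.mem_iInter₂.mpr fun s _ => hxw x s, Set.mem_iInter₂.mpr fun y hy => ?_⟩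
    exact (Finset.mem_filter.mp hy).2
  refine ⟨X, fun y => G y ∩ A (k y), fun y => i (k y), fun y => (hGo y).inter (hAo _), ?_, ?_, ?_⟩
  · rw [Set.eq_univ_iff_forall]
    intro y
    exact Set.mem_iUnion.mpr ⟨y, hxG y, hyk y⟩
  · intro y
    exact (closure_mono Set.inter_subset_right).trans (hAcl _)
  · intro t
    by_cases hne : (⋂ l, (G (t l) ∩ A (k (t l)))).Nonempty
    · obtain ⟨z, hz⟩ := hne
      rw [Set.mem_iInter] at hz
      have key : ∀ l, t 0 ∈ closure (A (k (t l))) := by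
        intro l
        by_contra hcon
        have h0 := (hz 0).1.2
        rw [Set.mem_iInter₂] at h0
        exact h0 (k (t l)) (Finset.mem_filter.mpr ⟨hkT _, hcon⟩) (subset_closure (hz l).2)
      refine ⟨w (t 0) (fun l => k (t l)), hwW (t 0) _ (fun l => hAcl _ (key l)), ?_⟩
      intro x hx
      have h0 := (Set.mem_iInter.mp hx 0).1.1
      rw [Set.mem_iInter₂] at h0
      exact h0 _ (fun l => hkT _)
    · obtain ⟨w₀, hw₀⟩ := hWne ((fun y => i (k y)) ∘ t)
      refine ⟨w₀, hw₀, ?_⟩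
      rw [Set.not_nonempty_iff_eq_empty] at hne
      rw [hne]
      exact Set.empty_subset _

end Groth.Agent.S7568
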