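import Groth.Statements.S7570
import Mathlib.Topology.Compactness.Compact
import Mathlib.Data.Fintype.Pi

set_option autoImplicit false
universe u
open PtTop

namespace Groth.Agent.S7570

/-- Shrinking an open neighbourhood of `Z` so that all `(p+1)`-fold intersections land in `W`. -/
lemma exists_open_fix {X : Type u} [TopologicalSpace X] (Z : Set X) {ι : Type u} (U : ι → Set X)
    (p : ℕ) (W : (Fin (p + 1) → ι) → Set X) (hWo : ∀ t, IsOpen (W t))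
    (hWZ : ∀ t, W t ∩ Z = (⋂ l, U (t l)) ∩ Z)
    (V : ι → Set X) (I' : Finset ι) (hVe : ∀ i, i ∉ I' → V i = ∅)
    (h3 : ∀ i, closure (V i) ∩ Z ⊆ U i) :
    ∃ O : Set X, IsOpen O ∧ Z ⊆ O ∧ ∀ t : Fin (p + 1) → ι, (⋂ l, (V (t l) ∩ O)) ⊆ W t := by
  classical
  let S : Set (Fin (p + 1) → ι) := {t | ∀ l, t l ∈ I'}
  have hS : S.Finite := by
    have : S = Set.pi Set.univ fun _ => (I' : Set ι) := by
      ext t
      simp [S, Set.mem_pi]
    rw [this]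
    exact Set.Finite.pi fun _ => I'.finite_toSet
  -- the bad locus of a tuple does not meet `Z`
  have hbad : ∀ t : Fin (p + 1) → ι, Disjoint (closure ((⋂ l, V (t l)) \ W t)) Z := by
    intro t
    rw [Set.disjoint_left]
    intro x hx hxZ
    have h1 : x ∈ W t := by
      have : x ∈ (⋂ l, U (t l)) ∩ Z := by
        refine ⟨Set.mem_iInter.mpr fun l => h3 (t l) ⟨?_, hxZ⟩, hxZ⟩
        exact closure_mono (Set.sdiff_subset.trans (Set.iInter_subset _ l)) hx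
      rw [← hWZ t] at this
      exact this.1
    have h2 : Disjoint (W t) (closure ((⋂ l, V (t l)) \ W t)) :=
      Disjoint.closure_right (Set.disjoint_left.mpr fun y hy hy' => hy'.2 hy) (hWo t)
    exact Set.disjoint_left.mp h2 h1 hx
  refine ⟨⋂ t ∈ S, (closure ((⋂ l, V (t l)) \ W t))ᶜ, ?_, ?_, ?_⟩
  · exact hS.isOpen_biInter fun t _ => isClosed_closure.isOpen_compl
  · intro x hx
    refine Set.mem_iInter₂.mpr fun t _ hx' => ?_
    exact Set.disjoint_left.mp (hbad t) hx' hx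
  · intro t x hx
    rw [Set.mem_iInter] at hx
    by_cases ht : t ∈ S
    · by_contra hxW
      have hxO := (hx 0).2
      rw [Set.mem_iInter₂] at hxO
      exact hxO t ht (subset_closure ⟨Set.mem_iInter.mpr fun l => (hx l).1, hxW⟩)
    · have : ∃ l, t l ∉ I' := by
        by_contra h
        push Not at h
        exact ht h
      obtain ⟨l, hl⟩ := this
      have := (hx l).1
      rw [hVe _ hl] at this
      exact absurd this (Set.notMem_empty x)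

/-- Separation of a point of `Z` from a compact subset of `Z` not containing it. -/
lemma exists_disjoint_opens {X : Type u} [TopologicalSpace X] (Z : Set X)
    (hZsep : ∀ z ∈ Z, ∀ z' ∈ Z, z ≠ z' → ∃ A B : Set X, IsOpen A ∧ IsOpen B ∧ z ∈ A ∧ z' ∈ B ∧
      Disjoint A B)
    (z : X) (hz : z ∈ Z) (K : Set X) (hK : IsCompact K) (hKZ : K ⊆ Z) (hzK : z ∉ K) :
    ∃ A B : Set X, IsOpen A ∧ IsOpen B ∧ z ∈ A ∧ K ⊆ B ∧ Disjoint A B := by
  suffices h : ∀ K' : Set X, K' ⊆ K → ∃ A B : Set X, IsOpen A ∧ IsOpen B ∧ z ∈ A ∧ K' ⊆ B ∧ Disjoint A B from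
    h K subset_rfl
  intro K' hK'
  have := hK.induction_on (p := fun K' => ∃ A B : Set X, IsOpen A ∧ IsOpen B ∧ z ∈ A ∧
      K' ⊆ B ∧ Disjoint A B)
    ⟨Set.univ, ∅, isOpen_univ, isOpen_empty, trivial, subset_rfl, Set.disjoint_empty _⟩
    (fun s t hst ⟨A, B, hA, hB, hzA, htB, hAB⟩ => ⟨A, B, hA, hB, hzA, hst.trans htB, hAB⟩)
    (fun s t ⟨A₁, B₁, hA₁, hB₁, hzA₁, hsB₁, hAB₁⟩ ⟨A₂, B₂, hA₂, hB₂, hzA₂, htB₂, hAB₂⟩ =>
      ⟨A₁ ∩ A₂, B₁ ∪ B₂, hA₁.inter hA₂, hB₁.union hB₂, ⟨hzA₁, hzA₂⟩,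
        Set.union_subset_union hsB₁ htB₂,
        Set.disjoint_union_right.mpr ⟨hAB₁.mono_left Set.inter_subset_left,
          hAB₂.mono_left Set.inter_subset_right⟩⟩)
    (fun x hx => by
      obtain ⟨A, B, hA, hB, hzA, hxB, hAB⟩ := hZsep z hz x (hKZ hx) (fun h => hzK (h ▸ hx))
      exact ⟨B, mem_nhdsWithin_of_mem_nhds (hB.mem_nhds hxB), A, B, hA, hB, hzA, subset_rfl, hAB⟩)
  obtain ⟨A, B, hA, hB, hzA, hKB, hAB⟩ := this
  exact ⟨A, B, hA, hB, hzA, hK'.trans hKB, hAB⟩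

/-- Let X be a topological space and Z ⊆ X a quasi-compact subset such that any two distinct points of Z
have disjoint open neighbourhoods in X. Let p ≥ 0, let U_i ⊆ X be opens with Z ⊆ ⋃ U_i, and for
every (p+1)-tuple let W_{i_0…i_p} ⊆ U_{i_0} ∩ … ∩ U_{i_p} be an open with W_{i_0…i_p} ∩ Z = U_{i_0}
∩ … ∩ U_{i_p} ∩ Z. Then there are opens V_i with (1) Z ⊆ ⋃ V_i, (2) V_i ⊆ U_i, (3) closure(V_i) ∩ Z
⊆ U_i, and (4) V_{i_0} ∩ … ∩ V_{i_p} ⊆ W_{i_0…i_p} for all (p+1)-tuples. -/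
theorem result {X : Type u} [TopologicalSpace X]
    (Z : Set X) (hZ : IsCompact Z)
    (hZsep : ∀ z ∈ Z, ∀ z' ∈ Z, z ≠ z' → ∃ A B : Set X, IsOpen A ∧ IsOpen B ∧ z ∈ A ∧ z' ∈ B ∧ Disjoint A B)
    {ι : Type u} (U : ι → Set X) (hU : ∀ i, IsOpen (U i)) (hcov : Z ⊆ ⋃ i, U i) (p : ℕ)
    (W : (Fin (p + 1) → ι) → Set X) (hWo : ∀ t, IsOpen (W t)) (hWU : ∀ t, W t ⊆ ⋂ l, U (t l))
    (hWZ : ∀ t, W t ∩ Z = (⋂ l, U (t l)) ∩ Z) :
    ∃ V : ι → Set X, (∀ i, IsOpen (V i)) ∧ (Z ⊆ ⋃ i, V i) ∧ (∀ i, V i ⊆ U i) ∧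
      (∀ i, closure (V i) ∩ Z ⊆ U i) ∧ (∀ t : Fin (p + 1) → ι, (⋂ l, V (t l)) ⊆ W t) := by
  classical
  -- Step 1: for every point of `Z` a small open neighbourhood
  have hpt : ∀ z : Z, ∃ (i : ι) (A : Set X), IsOpen A ∧ z.1 ∈ A ∧ A ⊆ U i ∧ closure A ∩ Z ⊆ U i := by
    rintro ⟨z, hz⟩
    obtain ⟨i, hi⟩ := Set.mem_iUnion.mp (hcov hz)
    obtain ⟨A, B, hA, hB, hzA, hKB, hAB⟩ := exists_disjoint_opens Z hZsep z hz (Z ∩ (U i)ᶜ)
      (hZ.inter_right (hU i).isClosed_compl) Set.inter_subset_left (fun h => h.2 hi)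
    refine ⟨i, A ∩ U i, hA.inter (hU i), ⟨hzA, hi⟩, Set.inter_subset_right, ?_⟩
    rintro x ⟨hx, hxZ⟩
    by_contra hxU
    have hxB : x ∈ B := hKB ⟨hxZ, hxU⟩
    have : Disjoint (closure A) B := Disjoint.closure_left hAB hB
    exact Set.disjoint_left.mp this (closure_mono Set.inter_subset_left hx) hxB
  choose i A hAo hzA hAU hAcl using hpt
  obtain ⟨T, hT⟩ := hZ.elim_finite_subcover (fun z : Z => A z) hAo
    (fun z hz => Set.mem_iUnion.mpr ⟨⟨z, hz⟩, hzA ⟨z, hz⟩⟩)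
  -- Step 2: the first shrinking
  let V₀ : ι → Set X := fun j => ⋃ z ∈ T.filter (fun z => i z = j), A z
  have hV₀o : ∀ j, IsOpen (V₀ j) := fun j => isOpen_biUnion fun z _ => hAo z
  have hV₀U : ∀ j, V₀ j ⊆ U j := by
    intro j
    refine Set.iUnion₂_subset fun z hz => ?_
    rw [Finset.mem_filter] at hz
    exact hz.2 ▸ hAU z
  have hV₀cl : ∀ j, closure (V₀ j) ∩ Z ⊆ U j := by
    intro j
    have : closure (V₀ j) = ⋃ z ∈ T.filter (fun z => i z = j), closure (A z) :=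
      (Finset.finite_toSet _).closure_biUnion _
    rw [this]
    rintro x ⟨hx, hxZ⟩
    obtain ⟨z, hz, hxz⟩ := Set.mem_iUnion₂.mp hx
    rw [Finset.mem_filter] at hz
    exact hz.2 ▸ hAcl z ⟨hxz, hxZ⟩
  have hV₀cov : Z ⊆ ⋃ j, V₀ j := by
    intro x hx
    obtain ⟨z, hz, hxz⟩ := Set.mem_iUnion₂.mp (hT hx)
    exact Set.mem_iUnion.mpr ⟨i z, Set.mem_iUnion₂.mpr ⟨z, Finset.mem_filter.mpr ⟨hz, rfl⟩, hxz⟩⟩
  have hV₀e : ∀ j, j ∉ T.image i → V₀ j = ∅ := by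
    intro j hj
    rw [Set.eq_empty_iff_forall_notMem]
    intro x hx
    obtain ⟨z, hz, -⟩ := Set.mem_iUnion₂.mp hx
    rw [Finset.mem_filter] at hz
    exact hj (Finset.mem_image.mpr ⟨z, hz.1, hz.2⟩)
  -- Step 3: shrink further
  obtain ⟨O, hO, hZO, hfix⟩ := exists_open_fix Z U p W hWo hWZ V₀ (T.image i) hV₀e hV₀cl
  refine ⟨fun j => V₀ j ∩ O, fun j => (hV₀o j).inter hO, ?_, fun j => Set.inter_subset_left.trans (hV₀U j),
    ?_, hfix⟩
  · intro x hx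
    obtain ⟨j, hj⟩ := Set.mem_iUnion.mp (hV₀cov hx)
    exact Set.mem_iUnion.mpr ⟨j, hj, hZO hx⟩
  · intro j x hx
    exact hV₀cl j ⟨closure_mono Set.inter_subset_left hx.1, hx.2⟩

end Groth.Agent.S7570
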