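import Groth.Statements.S7569
import Groth.Agent.S7570
import Mathlib.Topology.Compactness.LocallyCompact
import Mathlib.Topology.Separation.Hausdorff

set_option autoImplicit false
universe u
open PtTop

namespace Groth.Agent.S7569

/-- Let X be a Hausdorff, locally quasi-compact space and Z ⊆ X a quasi-compact subset. Let p ≥ 0, let
U_i ⊆ X be opens with Z ⊆ ⋃ U_i, and for every (p+1)-tuple (i_0, …, i_p) let W_{i_0…i_p} ⊆ U_{i_0} ∩
… ∩ U_{i_p} be an open with W_{i_0…i_p} ∩ Z = U_{i_0} ∩ … ∩ U_{i_p} ∩ Z. Then there are opens V_i ⊆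
X with Z ⊆ ⋃ V_i, closure(V_i) ⊆ U_i for all i, and V_{i_0} ∩ … ∩ V_{i_p} ⊆ W_{i_0…i_p} for all
(p+1)-tuples. -/
theorem result {X : Type u} [TopologicalSpace X]
    [T2Space X] [LocallyCompactSpace X] (Z : Set X) (hZ : IsCompact Z)
    {ι : Type u} (U : ι → Set X) (hU : ∀ i, IsOpen (U i)) (hcov : Z ⊆ ⋃ i, U i) (p : ℕ)
    (W : (Fin (p + 1) → ι) → Set X) (hWo : ∀ t, IsOpen (W t)) (hWU : ∀ t, W t ⊆ ⋂ l, U (t l))
    (hWZ : ∀ t, W t ∩ Z = (⋂ l, U (t l)) ∩ Z) :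
    ∃ V : ι → Set X, (∀ i, IsOpen (V i)) ∧ (Z ⊆ ⋃ i, V i) ∧ (∀ i, closure (V i) ⊆ U i) ∧
      (∀ t : Fin (p + 1) → ι, (⋂ l, V (t l)) ⊆ W t) := by
  classical
  -- Step 1: for every point of `Z` a small open neighbourhood with closure inside some `U i`
  have hpt : ∀ z : Z, ∃ (i : ι) (A : Set X), IsOpen A ∧ z.1 ∈ A ∧ closure A ⊆ U i := by
    rintro ⟨z, hz⟩
    obtain ⟨i, hi⟩ := Set.mem_iUnion.mp (hcov hz)
    obtain ⟨K, hK, hzK, hKU⟩ := exists_compact_subset (hU i) hi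
    exact ⟨i, interior K, isOpen_interior, hzK,
      (closure_minimal interior_subset hK.isClosed).trans hKU⟩
  choose i A hAo hzA hAcl using hpt
  obtain ⟨T, hT⟩ := hZ.elim_finite_subcover (fun z : Z => A z) hAo
    (fun z hz => Set.mem_iUnion.mpr ⟨⟨z, hz⟩, hzA ⟨z, hz⟩⟩)
  -- Step 2: the first shrinking
  let V₀ : ι → Set X := fun j => ⋃ z ∈ T.filter (fun z => i z = j), A z
  have hV₀o : ∀ j, IsOpen (V₀ j) := fun j => isOpen_biUnion fun z _ => hAo z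
  have hV₀cl : ∀ j, closure (V₀ j) ⊆ U j := by
    intro j
    have : closure (V₀ j) = ⋃ z ∈ T.filter (fun z => i z = j), closure (A z) :=
      (Finset.finite_toSet _).closure_biUnion _
    rw [this]
    intro x hx
    obtain ⟨z, hz, hxz⟩ := Set.mem_iUnion₂.mp hx
    rw [Finset.mem_filter] at hz
    exact hz.2 ▸ hAcl z hxz
  have hV₀cov : Z ⊆ ⋃ j, V₀ j := by
    intro x hx
    obtain ⟨z, hz, hxz⟩ := Set.mem_iUnion₂.mp (hT hx)
    exact Set.mem_iUnion.mpr ⟨i z, Set.mem_iUnion₂.mpr ⟨z, Finset.mem_filter.mpr ⟨hz, rfl⟩, hxz⟩⟩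
  have hV₀e : ∀ j, j ∉ T.image i → V₀ j = ∅ := by
    intro j hj
    rw [Set.eq_empty_iff_forall_notMem]
    intro x hx
    obtain ⟨z, hz, -⟩ := Set.mem_iUnion₂.mp hx
    rw [Finset.mem_filter] at hz
    exact hj (Finset.mem_image.mpr ⟨z, hz.1, hz.2⟩)
  -- Step 3: shrink further
  obtain ⟨O, hO, hZO, hfix⟩ := Groth.Agent.S7570.exists_open_fix Z U p W hWo hWZ V₀ (T.image i) hV₀e
    (fun j => Set.inter_subset_left.trans (hV₀cl j))
  refine ⟨fun j => V₀ j ∩ O, fun j => (hV₀o j).inter hO, ?_, ?_, hfix⟩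
  · intro x hx
    obtain ⟨j, hj⟩ := Set.mem_iUnion.mp (hV₀cov hx)
    exact Set.mem_iUnion.mpr ⟨j, hj, hZO hx⟩
  · intro j
    exact (closure_mono Set.inter_subset_left).trans (hV₀cl j)

end Groth.Agent.S7569
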