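import Groth.Statements.S7571
import Mathlib.Topology.Category.TopCat.Limits.Cofiltered

set_option autoImplicit false
universe u
open CategoryTheory CategoryTheory.Limits
open PtTop

namespace Groth.Agent.S7571

/-- Let j ↦ X_j be a diagram of topological spaces over a cofiltered category with limit X and
projections f_j. (1) Every open of X is a union of subsets of the form f_j⁻¹(U_j) with U_j ⊆ X_j
open. (2) Every quasi-compact open of X equals f_i⁻¹(U_i) for some i and some open U_i ⊆ X_i. -/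
theorem result {J : Type u} [SmallCategory J] [IsCofiltered J]
    (F : J ⥤ TopCat.{u}) (c : Cone F) (hc : IsLimit c) :
    (∀ W : Set c.pt, IsOpen W →
      ∃ S : Set (Σ j, Set (F.obj j)), (∀ s ∈ S, IsOpen s.2) ∧ W = ⋃ s ∈ S, c.π.app s.1 ⁻¹' s.2) ∧
    (∀ W : Set c.pt, IsOpen W → IsCompact W →
      ∃ (i : J) (Ui : Set (F.obj i)), IsOpen Ui ∧ W = c.π.app i ⁻¹' Ui) := by
  classical
  have hB := TopCat.isTopologicalBasis_cofiltered_limit F c hc (fun j => {U | IsOpen U})
    (fun j => TopologicalSpace.isTopologicalBasis_opens) (fun i => isOpen_univ)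
    (fun i U1 U2 h1 h2 => IsOpen.inter h1 h2)
    (fun i j f V hV => hV.preimage (F.map f).hom.continuous)
  -- every point of an open set has a basic neighbourhood inside it
  have key : ∀ W : Set c.pt, IsOpen W → ∀ x ∈ W, ∃ (j : J) (V : Set (F.obj j)), IsOpen V ∧
      x ∈ c.π.app j ⁻¹' V ∧ c.π.app j ⁻¹' V ⊆ W := by
    intro W hW x hx
    obtain ⟨_, ⟨j, V, hV, rfl⟩, hxV, hVW⟩ := hB.exists_subset_of_mem_open hx hW
    exact ⟨j, V, hV, hxV, hVW⟩
  refine ⟨fun W hW => ?_, fun W hW hWc => ?_⟩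
  · refine ⟨{s | IsOpen s.2 ∧ c.π.app s.1 ⁻¹' s.2 ⊆ W}, fun s hs => hs.1, ?_⟩
    apply Set.Subset.antisymm
    · intro x hx
      obtain ⟨j, V, hV, hxV, hVW⟩ := key W hW x hx
      exact Set.mem_biUnion (show (⟨j, V⟩ : Σ j, Set (F.obj j)) ∈ _ from ⟨hV, hVW⟩) hxV
    · exact Set.iUnion₂_subset fun s hs => hs.2
  · choose j V hV hxV hVW using key W hW
    obtain ⟨t, ht⟩ := hWc.elim_finite_subcover
      (fun x : W => c.π.app (j x.1 x.2) ⁻¹' V x.1 x.2)
      (fun x => (hV x.1 x.2).preimage (c.π.app _).hom.continuous)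
      (fun x hx => Set.mem_iUnion.mpr ⟨⟨x, hx⟩, hxV x hx⟩)
    obtain ⟨i, hi⟩ := IsCofiltered.inf_objs_exists (t.image fun x : W => j x.1 x.2)
    let g : ∀ x : W, x ∈ t → (i ⟶ j x.1 x.2) := fun x hx =>
      (hi (Finset.mem_image_of_mem (fun x : W => j x.1 x.2) hx)).some
    refine ⟨i, ⋃ (x : W) (hx : x ∈ t), F.map (g x hx) ⁻¹' V x.1 x.2, ?_, ?_⟩
    · exact isOpen_iUnion fun x => isOpen_iUnion fun hx =>
        (hV x.1 x.2).preimage (F.map (g x hx)).hom.continuous
    · have hpre : ∀ (x : W) (hx : x ∈ t), c.π.app i ⁻¹' (F.map (g x hx) ⁻¹' V x.1 x.2) =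
          c.π.app (j x.1 x.2) ⁻¹' V x.1 x.2 := by
        intro x hx
        rw [← Set.preimage_comp, ← TopCat.coe_comp, c.w]
      rw [Set.preimage_iUnion₂]
      apply Set.Subset.antisymm
      · intro y hy
        obtain ⟨x, hx, hyx⟩ := Set.mem_iUnion₂.mp (ht hy)
        exact Set.mem_iUnion₂.mpr ⟨x, hx, by rw [hpre x hx]; exact hyx⟩
      · refine Set.iUnion₂_subset fun x hx => ?_
        rw [hpre x hx]
        exact hVW x.1 x.2

end Groth.Agent.S7571
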