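import Groth.Statements.S7572
import Mathlib.Topology.Sheaves.SheafCondition.Sites
import Mathlib.CategoryTheory.Limits.Types.Products
import Mathlib.CategoryTheory.Adjunction.FullyFaithful

set_option autoImplicit false
universe u
open CategoryTheory TopologicalSpace
open ShSp

namespace Groth.Agent.S7572

open Opposite

section

variable {Z X : TopCat.{u}} (i : Z ⟶ X) (hi : Topology.IsClosedEmbedding i)

include hi in
lemma stalk_unique (F : Z.Sheaf (Type u)) (x : X) (hx : x ∉ Set.range i) :
    Nonempty (Unique (((TopCat.Sheaf.pushforward (Type u) i).obj F).presheaf.stalk x)) := by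
  let G := ((TopCat.Sheaf.pushforward (Type u) i).obj F).presheaf
  let V₀ : Opens X := ⟨(Set.range i)ᶜ, hi.isClosed_range.isOpen_compl⟩
  have hxV₀ : x ∈ V₀ := hx
  have huniq : ∀ U : Opens X, U ≤ V₀ → Nonempty (Unique (G.obj (op U))) := by
    intro U hU
    have hbot : (Opens.map i).obj U = ⊥ := by
      ext z
      simp only [Opens.map_coe, Set.mem_preimage, SetLike.mem_coe, Opens.coe_bot,
        Set.mem_empty_iff_false, iff_false]
      intro hz
      exact hU hz ⟨z, rfl⟩
    have hterm : Limits.IsTerminal (F.obj.obj (op ((Opens.map i).obj U))) :=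
      F.isTerminalOfEqEmpty hbot
    exact ⟨(Limits.Types.isTerminalEquivUnique _).toFun hterm⟩
  obtain ⟨u₀⟩ := huniq V₀ le_rfl
  refine ⟨⟨⟨G.germ V₀ x hxV₀ u₀.default⟩, ?_⟩⟩
  intro t
  obtain ⟨U, hU, hxU, s, rfl⟩ := G.exists_le_germ_eq t hxV₀
  obtain ⟨u⟩ := huniq U hU
  refine G.germ_ext U hxU (𝟙 U) (homOfLE hU) ?_
  exact (u.uniq _).trans (u.uniq _).symm

include hi in
/-- The largest open of `X` with a given preimage in `Z`. -/
def gOp (V : Opens Z) : Opens X :=
  ⟨(i '' (V : Set Z)ᶜ)ᶜ, (hi.isClosedMap _ V.isOpen.isClosed_compl).isOpen_compl⟩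

lemma map_gOp (V : Opens Z) : (Opens.map i).obj (gOp i hi V) = V := by
  ext z
  show i z ∉ i '' (V : Set Z)ᶜ ↔ z ∈ V
  constructor
  · intro h
    by_contra hz
    exact h ⟨z, hz, rfl⟩
  · rintro hz ⟨z', hz', he⟩
    exact hz' (hi.injective he ▸ hz)

lemma gOp_mono {V V' : Opens Z} (h : V ≤ V') : gOp i hi V ≤ gOp i hi V' := by
  rintro x hx ⟨z, hz, he⟩
  exact hx ⟨z, fun hzV => hz (h hzV), he⟩

lemma le_gOp_map (U : Opens X) : U ≤ gOp i hi ((Opens.map i).obj U) := by
  rintro x hx ⟨z, hz, rfl⟩
  exact hz hx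

lemma map_eq (P : (Opens Z)ᵒᵖ ⥤ Type u) {V W : (Opens Z)ᵒᵖ} (a b : V ⟶ W) :
    P.map a = P.map b := by
  rw [Subsingleton.elim a b]

lemma map_map_eq (P : (Opens Z)ᵒᵖ ⥤ Type u) {V W W' T : (Opens Z)ᵒᵖ} (a : V ⟶ W) (b : W ⟶ T)
    (c : V ⟶ W') (d : W' ⟶ T) (s : P.obj V) :
    P.map b (P.map a s) = P.map d (P.map c s) := by
  rw [← Functor.map_comp_apply, ← Functor.map_comp_apply, map_eq P (a ≫ b) (c ≫ d)]

/-- The preimage of a morphism between pushforwards. -/
def preimageHom {F G : Z.Sheaf (Type u)}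
    (φ : (TopCat.Sheaf.pushforward (Type u) i).obj F ⟶
      (TopCat.Sheaf.pushforward (Type u) i).obj G) : F ⟶ G :=
  ObjectProperty.homMk
    { app := fun V =>
        F.obj.map (eqToHom (show V = op ((Opens.map i).obj (gOp i hi V.unop)) by
          rw [map_gOp])) ≫
        φ.hom.app (op (gOp i hi V.unop)) ≫
        G.obj.map (eqToHom (show op ((Opens.map i).obj (gOp i hi V.unop)) = V by
          rw [map_gOp]))
      naturality := fun V V' f => by
        ext s
        have hk : gOp i hi V'.unop ≤ gOp i hi V.unop := gOp_mono i hi f.unop.le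
        have hnat := NatTrans.naturality_apply φ.hom (homOfLE hk).op
        have h1 : F.obj.map (eqToHom (show V' = op ((Opens.map i).obj (gOp i hi V'.unop)) by
              rw [map_gOp])) (F.obj.map f s) =
            F.obj.map ((Opens.map i).map (homOfLE hk)).op
              (F.obj.map (eqToHom (show V = op ((Opens.map i).obj (gOp i hi V.unop)) by
                rw [map_gOp])) s) := map_map_eq F.obj _ _ _ _ s
        have h2 := hnat (F.obj.map (eqToHom (show V = op ((Opens.map i).obj (gOp i hi V.unop)) by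
                rw [map_gOp])) s)
        have h3 := (congrArg (fun t => φ.hom.app (op (gOp i hi (unop V'))) t) h1).trans h2
        refine (congrArg (fun t => G.obj.map (eqToHom (show op ((Opens.map i).obj
          (gOp i hi V'.unop)) = V' by rw [map_gOp])) t) h3).trans ?_
        exact map_map_eq G.obj _ _ _ _ _ }

lemma map_apply_eq (P : (Opens Z)ᵒᵖ ⥤ Type u) {V W : (Opens Z)ᵒᵖ} (a b : V ⟶ W) (s : P.obj V) :
    P.map a s = P.map b s := by
  rw [map_eq P a b]

lemma map_map_self (P : (Opens Z)ᵒᵖ ⥤ Type u) {V W : (Opens Z)ᵒᵖ} (a : V ⟶ W) (b : W ⟶ V)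
    (s : P.obj V) : P.map b (P.map a s) = s := by
  rw [← Functor.map_comp_apply, map_eq P (a ≫ b) (𝟙 _), Functor.map_id_apply]

lemma map_preimageHom {F G : Z.Sheaf (Type u)}
    (φ : (TopCat.Sheaf.pushforward (Type u) i).obj F ⟶
      (TopCat.Sheaf.pushforward (Type u) i).obj G) :
    (TopCat.Sheaf.pushforward (Type u) i).map (preimageHom i hi φ) = φ := by
  apply ObjectProperty.hom_ext
  ext U s
  induction U with | op U => ?_
  have hm : U ≤ gOp i hi ((Opens.map i).obj U) := le_gOp_map i hi U
  have hU : op ((Opens.map i).obj U) =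
      op ((Opens.map i).obj (gOp i hi ((Opens.map i).obj U))) := by rw [map_gOp]
  have hnat := NatTrans.naturality_apply φ.hom (homOfLE hm).op (F.obj.map (eqToHom hU) s)
  have e1 : F.obj.map ((Opens.map i).map (homOfLE hm)).op (F.obj.map (eqToHom hU) s) = s :=
    map_map_self F.obj _ _ s
  refine Eq.trans ?_ (hnat.symm.trans (congrArg (fun t => φ.hom.app (op U) t) e1))
  exact map_apply_eq G.obj _ _ _

include hi in
lemma pushforward_faithful : (TopCat.Sheaf.pushforward (Type u) i).Faithful where
  map_injective {F G} ψ ψ' h := by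
    apply ObjectProperty.hom_ext
    ext V s
    induction V with | op V => ?_
    have h1 : ∀ U : Opens X, ψ.hom.app (op ((Opens.map i).obj U)) =
        ψ'.hom.app (op ((Opens.map i).obj U)) :=
      fun U => congrArg (fun m => m.hom.app (op U)) h
    have h2 := h1 (gOp i hi V)
    rw [map_gOp] at h2
    rw [h2]

include hi in
lemma pushforward_full : (TopCat.Sheaf.pushforward (Type u) i).Full where
  map_surjective φ := ⟨preimageHom i hi φ, map_preimageHom i hi φ⟩

end

/-- Let i : Z → X be the inclusion of a closed subset (a closed embedding) and F a sheaf of sets on Z.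
Then (i_* F)_x is a one-point set for x ∉ Z, and the counit i⁻¹ i_* F → F is an isomorphism (whence
(i_* F)_{i(z)} = F_z). -/
theorem result {Z X : TopCat.{u}} (i : Z ⟶ X) (hi : Topology.IsClosedEmbedding i)
    (F : Z.Sheaf (Type u)) :
    (∀ x : X, x ∉ Set.range i →
      Nonempty (Unique (((TopCat.Sheaf.pushforward (Type u) i).obj F).presheaf.stalk x))) ∧
    IsIso ((TopCat.Sheaf.pullbackPushforwardAdjunction (Type u) i).counit.app F) := by
  refine ⟨fun x hx => stalk_unique i hi F x hx, ?_⟩
  have := pushforward_full i hi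
  have := pushforward_faithful i hi
  infer_instance

end Groth.Agent.S7572
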