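import Groth.Statements.S7573
import Groth.Agent.S7572
import Mathlib.Topology.Sheaves.SheafCondition.UniqueGluing

set_option autoImplicit false
universe u
open CategoryTheory TopologicalSpace
open ShSp

namespace Groth.Agent.S7573

open Opposite Groth.Agent.S7572 TopCat.Presheaf

section

variable {X : TopCat.{u}}

lemma map_comp_eq (P : (Opens X)ᵒᵖ ⥤ Type u) {V W T : (Opens X)ᵒᵖ} (a : V ⟶ W) (b : W ⟶ T)
    (c : V ⟶ T) (s : P.obj V) : P.map b (P.map a s) = P.map c s := by
  rw [← Functor.map_comp_apply, map_eq P (a ≫ b) c]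

/-- If all stalks of a sheaf of sets at the points of `W` are one-point sets, then so are the
sets of sections over opens contained in `W`. -/
lemma unique_sections (G : X.Sheaf (Type u)) (W : Opens X)
    (hW : ∀ x ∈ W, Nonempty (Unique (G.presheaf.stalk x))) (W' : Opens X) (hW' : W' ≤ W) :
    Nonempty (Unique (G.presheaf.obj (op W'))) := by
  have hsub : ∀ W'' : Opens X, W'' ≤ W → Subsingleton (G.presheaf.obj (op W'')) := by
    intro W'' h
    refine ⟨fun s t => TopCat.Presheaf.section_ext G W'' s t fun x hx => ?_⟩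
    obtain ⟨u⟩ := hW x (h hx)
    exact (u.uniq _).trans (u.uniq _).symm
  have hex : ∀ x : W', ∃ (U : Opens X), U ≤ W' ∧ ∃ (_ : x.1 ∈ U), Nonempty (G.presheaf.obj (op U)) := by
    intro x
    obtain ⟨u⟩ := hW x.1 (hW' x.2)
    obtain ⟨U, hU, hxU, s, -⟩ := G.presheaf.exists_le_germ_eq u.default x.2
    exact ⟨U, hU, hxU, ⟨s⟩⟩
  choose U hU hxU hs using hex
  have hcompat : IsCompatible G.presheaf U (fun x => (hs x).some) := by
    intro x y
    have := hsub (U x ⊓ U y) (inf_le_left.trans ((hU x).trans hW'))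
    exact Subsingleton.elim _ _
  obtain ⟨s, -, -⟩ := G.existsUnique_gluing' U W' (fun x => homOfLE (hU x))
    (fun x hx => Opens.mem_iSup.mpr ⟨⟨x, hx⟩, hxU ⟨x, hx⟩⟩) _ hcompat
  have := hsub W' hW'
  exact ⟨⟨⟨s⟩, fun t => Subsingleton.elim _ _⟩⟩

/-- Gluing over a cover consisting of one open `W` with uniquely determined sections together
with a family. -/
lemma existsUnique_glue (G : X.Sheaf (Type u)) {ι : Type u} (W : Opens X) (U : ι → Opens X)
    (V : Opens X) (hWV : W ≤ V) (hUV : ∀ a, U a ≤ V) (hcover : V ≤ W ⊔ ⨆ a, U a)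
    (hWu : ∀ W' : Opens X, W' ≤ W → Nonempty (Unique (G.presheaf.obj (op W'))))
    (sf : ∀ a, G.presheaf.obj (op (U a))) (hsf : IsCompatible G.presheaf U sf) :
    ∃! s : G.presheaf.obj (op V), ∀ a, G.presheaf.map (homOfLE (hUV a)).op s = sf a := by
  obtain ⟨uW⟩ := hWu W le_rfl
  have hsub : ∀ W' : Opens X, W' ≤ W → Subsingleton (G.presheaf.obj (op W')) := fun W' h => by
    obtain ⟨u⟩ := hWu W' h
    exact ⟨fun s t => (u.uniq s).trans (u.uniq t).symm⟩
  let U' : Option ι → Opens X := fun o => o.elim W U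
  let sf' : ∀ o, G.presheaf.obj (op (U' o)) := fun o => match o with
    | none => uW.default
    | some a => sf a
  have hcompat : IsCompatible G.presheaf U' sf' := by
    rintro (_ | a) (_ | b)
    · exact (hsub (W ⊓ W) inf_le_left).allEq _ _
    · exact (hsub (W ⊓ U b) inf_le_left).allEq _ _
    · exact (hsub (U a ⊓ W) inf_le_right).allEq _ _
    · exact hsf a b
  have hle : ∀ o, U' o ≤ V := by
    rintro (_ | a)
    · exact hWV
    · exact hUV a
  have hcov' : V ≤ iSup U' :=
    hcover.trans (sup_le (le_iSup U' none) (iSup_le fun a => le_iSup U' (some a)))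
  obtain ⟨s, hs, huniq⟩ := G.existsUnique_gluing' U' V (fun o => homOfLE (hle o)) hcov' sf' hcompat
  refine ⟨s, fun a => hs (some a), fun t ht => huniq t ?_⟩
  rintro (_ | a)
  · exact (hsub W le_rfl).allEq _ _
  · exact ht a

end

section

variable {Z X : TopCat.{u}} (i : Z ⟶ X) (hi : Topology.IsClosedEmbedding i)

lemma gOp_monotone : Monotone (gOp i hi) := fun _ _ h => gOp_mono i hi h

lemma mem_gOp_apply {V : Opens Z} {z : Z} : i z ∈ gOp i hi V ↔ z ∈ V := by
  have h := map_gOp i hi V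
  constructor
  · intro hz
    rw [← h]
    exact hz
  · intro hz
    rw [← h] at hz
    exact hz

lemma mem_gOp_of_not_range {V : Opens Z} {x : X} (hx : x ∉ Set.range i) : x ∈ gOp i hi V := by
  rintro ⟨z, -, he⟩
  exact hx ⟨z, he⟩

lemma not_range_of_mem_gOp_bot {x : X} (hx : x ∈ gOp i hi ⊥) : x ∉ Set.range i := by
  rintro ⟨z, rfl⟩
  exact (mem_gOp_apply i hi).mp hx

lemma gOp_iSup_le {ι : Type u} (V : ι → Opens Z) :
    gOp i hi (iSup V) ≤ gOp i hi ⊥ ⊔ ⨆ a, gOp i hi (V a) := by
  intro x hx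
  rw [Opens.mem_sup]
  by_cases hxr : x ∈ Set.range i
  · obtain ⟨z, rfl⟩ := hxr
    obtain ⟨a, ha⟩ := Opens.mem_iSup.mp ((mem_gOp_apply i hi).mp hx)
    exact Or.inr (Opens.mem_iSup.mpr ⟨a, (mem_gOp_apply i hi).mpr ha⟩)
  · exact Or.inl (mem_gOp_of_not_range i hi hxr)

lemma gOp_map_le (U : Opens X) : gOp i hi ((Opens.map i).obj U) ≤ gOp i hi ⊥ ⊔ U := by
  intro x hx
  rw [Opens.mem_sup]
  by_cases hxr : x ∈ Set.range i
  · obtain ⟨z, rfl⟩ := hxr
    exact Or.inr ((mem_gOp_apply i hi).mp hx)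
  · exact Or.inl (mem_gOp_of_not_range i hi hxr)

lemma gOp_inf (V V' : Opens Z) : gOp i hi V ⊓ gOp i hi V' ≤ gOp i hi (V ⊓ V') := by
  rintro x ⟨h1, h2⟩ ⟨z, hz, rfl⟩
  exact hz ⟨(mem_gOp_apply i hi).mp h1, (mem_gOp_apply i hi).mp h2⟩

/-- The presheaf on `Z` obtained from a presheaf on `X`. -/
def pre (G : X.Presheaf (Type u)) : Z.Presheaf (Type u) :=
  (gOp_monotone i hi).functor.op ⋙ G

lemma pre_isSheaf (G : X.Sheaf (Type u))
    (hG : ∀ x : X, x ∉ Set.range i → Nonempty (Unique (G.presheaf.stalk x))) :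
    (pre i hi G.presheaf).IsSheaf := by
  rw [TopCat.Presheaf.isSheaf_iff_isSheafUniqueGluing]
  intro ι V sf hsf
  have hWu : ∀ W' : Opens X, W' ≤ gOp i hi ⊥ → Nonempty (Unique (G.presheaf.obj (op W'))) :=
    fun W' h => unique_sections G (gOp i hi ⊥)
      (fun x hx => hG x (not_range_of_mem_gOp_bot i hi hx)) W' h
  have hcompat : IsCompatible G.presheaf (fun a => gOp i hi (V a)) sf := by
    intro a b
    have h := hsf a b
    have h' := congrArg (fun t => G.presheaf.map (homOfLE (gOp_inf i hi (V a) (V b))).op t) h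
    refine Eq.trans ?_ (h'.trans ?_)
    · exact (map_comp_eq G.presheaf _ _ _ _).symm
    · exact map_comp_eq G.presheaf _ _ _ _
  obtain ⟨s, hs, huniq⟩ := existsUnique_glue G (gOp i hi ⊥) (fun a => gOp i hi (V a))
    (gOp i hi (iSup V)) (gOp_mono i hi bot_le) (fun a => gOp_mono i hi (le_iSup V a))
    (gOp_iSup_le i hi V) hWu sf hcompat
  refine ⟨s, fun a => ?_, fun t ht => huniq t fun a => ?_⟩
  · exact (map_apply_eq G.presheaf _ _ _).trans (hs a)
  · exact (map_apply_eq G.presheaf _ _ _).trans (ht a)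

/-- The comparison morphism from the pushforward of `pre G` to `G`. -/
def theta (G : X.Presheaf (Type u)) : (Opens.map i).op ⋙ pre i hi G ⟶ G where
  app U := G.map (homOfLE (le_gOp_map i hi U.unop)).op
  naturality U U' f := by
    ext s
    exact map_map_eq G _ _ _ _ s

lemma theta_bijective (G : X.Sheaf (Type u))
    (hG : ∀ x : X, x ∉ Set.range i → Nonempty (Unique (G.presheaf.stalk x)))
    (U : (Opens X)ᵒᵖ) : Function.Bijective ((theta i hi G.presheaf).app U) := by
  induction U with | op U => ?_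
  rw [Function.bijective_iff_existsUnique]
  intro t
  have hWu : ∀ W' : Opens X, W' ≤ gOp i hi ⊥ → Nonempty (Unique (G.presheaf.obj (op W'))) :=
    fun W' h => unique_sections G (gOp i hi ⊥)
      (fun x hx => hG x (not_range_of_mem_gOp_bot i hi hx)) W' h
  obtain ⟨s, hs, huniq⟩ := existsUnique_glue G (gOp i hi ⊥) (fun _ : PUnit.{u + 1} => U)
    (gOp i hi ((Opens.map i).obj U)) (gOp_mono i hi bot_le) (fun _ => le_gOp_map i hi U)
    ((gOp_map_le i hi U).trans (sup_le_sup_left (le_iSup (fun _ : PUnit.{u + 1} => U) PUnit.unit) _))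
    hWu (fun _ => t) (fun _ _ => map_apply_eq G.presheaf _ _ _)
  exact ⟨s, hs PUnit.unit, fun s' hs' => huniq s' (fun _ => hs')⟩

end

/-- Let i : Z → X be the inclusion of a closed subset (a closed embedding). Then i_* : Sh(Z) → Sh(X) on
sheaves of sets is fully faithful, and its essential image consists exactly of the sheaves G whose
stalk G_x is a one-point set for every x ∈ X not in Z. -/
theorem result {Z X : TopCat.{u}} (i : Z ⟶ X) (hi : Topology.IsClosedEmbedding i) :
    (TopCat.Sheaf.pushforward (Type u) i).Full ∧ (TopCat.Sheaf.pushforward (Type u) i).Faithful ∧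
    ∀ G : X.Sheaf (Type u), (TopCat.Sheaf.pushforward (Type u) i).essImage G ↔
      ∀ x : X, x ∉ Set.range i → Nonempty (Unique (G.presheaf.stalk x)) := by
  refine ⟨pushforward_full i hi, pushforward_faithful i hi, fun G => ⟨?_, ?_⟩⟩
  · rintro ⟨F, ⟨e⟩⟩ x hx
    obtain ⟨u⟩ := stalk_unique i hi F x hx
    let e' := (TopCat.Presheaf.stalkFunctor (Type u) x).mapIso
      ((TopCat.Sheaf.forget (Type u) X).mapIso e)
    exact ⟨@Equiv.unique _ _ u e'.toEquiv.symm⟩
  · intro hG
    have h1 : ∀ U, IsIso ((theta i hi G.presheaf).app U) := fun U =>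
      (isIso_iff_bijective _).mpr (theta_bijective i hi G hG U)
    have h2 : IsIso (theta i hi G.presheaf) := NatIso.isIso_of_isIso_app _
    exact ⟨⟨pre i hi G.presheaf, pre_isSheaf i hi G hG⟩,
      ⟨ObjectProperty.isoMk _ (@asIso _ _ _ _ (theta i hi G.presheaf) h2)⟩⟩

end Groth.Agent.S7573
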