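import Groth.Statements.S7574
import Groth.Agent.S7572
import Mathlib.Topology.Sheaves.Functors
import Mathlib.CategoryTheory.Adjunction.Triple
import Mathlib.CategoryTheory.Adjunction.FullyFaithful
import Mathlib.Topology.Sheaves.SheafCondition.UniqueGluing

set_option autoImplicit false
universe u
open CategoryTheory TopologicalSpace
open ShSp

namespace Groth.Agent.S7574

open Opposite Groth.Agent.S7572

section

variable {X : TopCat.{u}} (U : Opens X)

/-- The inclusion of the open subspace. -/
abbrev incl : TopCat.of U ⟶ X := TopCat.ofHom ⟨_, continuous_subtype_val⟩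

lemma incl_isOpenEmbedding : Topology.IsOpenEmbedding (incl U) := U.isOpenEmbedding

/-- Restriction to `U` is left adjoint to the pushforward along the inclusion. -/
noncomputable def adj₂ :
    U.sheafRestrict (C := Type u) ⊣ TopCat.Sheaf.pushforward (Type u) (incl U) :=
  (TopCat.Sheaf.pullbackPushforwardAdjunction (Type u) (incl U)).ofNatIsoLeft
    ((incl_isOpenEmbedding U).sheafPullbackIso (Type u))

end

section ff

variable {Z X : TopCat.{u}} (i : Z ⟶ X) (g : Opens Z → Opens X) (hmono : Monotone g)
  (hg : ∀ V, (Opens.map i).obj (g V) = V) (hle : ∀ W, g ((Opens.map i).obj W) ≤ W)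

include hmono in
/-- The preimage of a morphism between pushforwards. -/
def preHom {F G : Z.Sheaf (Type u)}
    (φ : (TopCat.Sheaf.pushforward (Type u) i).obj F ⟶
      (TopCat.Sheaf.pushforward (Type u) i).obj G) : F ⟶ G :=
  ObjectProperty.homMk
    { app := fun V =>
        F.obj.map (eqToHom (show V = op ((Opens.map i).obj (g V.unop)) by rw [hg])) ≫
        φ.hom.app (op (g V.unop)) ≫
        G.obj.map (eqToHom (show op ((Opens.map i).obj (g V.unop)) = V by rw [hg]))
      naturality := fun V V' f => by
        ext s
        have hk : g V'.unop ≤ g V.unop := hmono f.unop.le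
        have hnat := NatTrans.naturality_apply φ.hom (homOfLE hk).op
        have h1 : F.obj.map (eqToHom (show V' = op ((Opens.map i).obj (g V'.unop)) by
              rw [hg])) (F.obj.map f s) =
            F.obj.map ((Opens.map i).map (homOfLE hk)).op
              (F.obj.map (eqToHom (show V = op ((Opens.map i).obj (g V.unop)) by
                rw [hg])) s) := map_map_eq F.obj _ _ _ _ s
        have h2 := hnat (F.obj.map (eqToHom (show V = op ((Opens.map i).obj (g V.unop)) by
                rw [hg])) s)
        have h3 := (congrArg (fun t => φ.hom.app (op (g (unop V'))) t) h1).trans h2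
        refine (congrArg (fun t => G.obj.map (eqToHom (show op ((Opens.map i).obj
          (g V'.unop)) = V' by rw [hg])) t) h3).trans ?_
        exact map_map_eq G.obj _ _ _ _ _ }

include hle in
lemma map_preHom {F G : Z.Sheaf (Type u)}
    (φ : (TopCat.Sheaf.pushforward (Type u) i).obj F ⟶
      (TopCat.Sheaf.pushforward (Type u) i).obj G) :
    (TopCat.Sheaf.pushforward (Type u) i).map (preHom i g hmono hg φ) = φ := by
  apply ObjectProperty.hom_ext
  ext W s
  induction W with | op W => ?_
  have hm : g ((Opens.map i).obj W) ≤ W := hle W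
  have hW : op ((Opens.map i).obj W) = op ((Opens.map i).obj (g ((Opens.map i).obj W))) := by
    rw [hg]
  have hnat := NatTrans.naturality_apply φ.hom (homOfLE hm).op s
  have e1 : F.obj.map (eqToHom hW) s = F.obj.map ((Opens.map i).map (homOfLE hm)).op s :=
    map_apply_eq F.obj _ _ s
  have e2 := (congrArg (fun t => φ.hom.app (op (g ((Opens.map i).obj W))) t) e1).trans hnat
  refine (congrArg (fun t => G.obj.map (eqToHom hW.symm) t) e2).trans ?_
  exact map_map_self G.obj _ _ _

include hg in
lemma pushforward_faithful' : (TopCat.Sheaf.pushforward (Type u) i).Faithful where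
  map_injective {F G} ψ ψ' h := by
    apply ObjectProperty.hom_ext
    ext V s
    induction V with | op V => ?_
    have h1 : ∀ W : Opens X, ψ.hom.app (op ((Opens.map i).obj W)) =
        ψ'.hom.app (op ((Opens.map i).obj W)) :=
      fun W => congrArg (fun m => m.hom.app (op W)) h
    have h2 := h1 (g V)
    rw [hg] at h2
    rw [h2]

include hmono hg hle in
lemma pushforward_full' : (TopCat.Sheaf.pushforward (Type u) i).Full where
  map_surjective φ := ⟨preHom i g hmono hg φ, map_preHom i g hmono hg hle φ⟩

end ff

section

variable {X : TopCat.{u}} (U : Opens X)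

/-- The image of an open of `U` in `X`. -/
abbrev img (V : Opens (TopCat.of U)) : Opens X := (incl_isOpenEmbedding U).functor.obj V

lemma img_mono : Monotone (img U) := fun _ _ h => ((incl_isOpenEmbedding U).functor.map (homOfLE h)).le

lemma map_img (V : Opens (TopCat.of U)) : (Opens.map (incl U)).obj (img U V) = V :=
  Opens.map_functor_eq' _ (incl_isOpenEmbedding U) V

lemma img_map_le (W : Opens X) : img U ((Opens.map (incl U)).obj W) ≤ W := by
  rintro _ ⟨z, hz, rfl⟩
  exact hz

lemma img_le (V : Opens (TopCat.of U)) : img U V ≤ U := by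
  rintro _ ⟨z, -, rfl⟩
  exact z.2

lemma L_ff (L : (TopCat.of U).Sheaf (Type u) ⥤ X.Sheaf (Type u))
    (adj : L ⊣ U.sheafRestrict (C := Type u)) : L.Full ∧ L.Faithful := by
  let t : Adjunction.Triple L (U.sheafRestrict (C := Type u))
    (TopCat.Sheaf.pushforward (Type u) (incl U)) := ⟨adj, adj₂ U⟩
  have h1 := pushforward_full' (incl U) (img U) (img_mono U) (map_img U) (img_map_le U)
  have h2 := pushforward_faithful' (incl U) (img U) (map_img U)
  have hH : (TopCat.Sheaf.pushforward (Type u) (incl U)).FullyFaithful :=
    Functor.FullyFaithful.ofFullyFaithful _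
  have hL := t.fullyFaithfulEquiv.symm hH
  exact ⟨hL.full, hL.faithful⟩

end

section

variable {X : TopCat.{u}} (U : Opens X)

/-- The sheaf `W ↦ (W ≤ U)`. -/
def E : X.Presheaf (Type u) := yoneda.obj U

lemma E_sub (W : Opens X) : Subsingleton ((E U).obj (op W)) :=
  inferInstanceAs (Subsingleton (W ⟶ U))

lemma E_isSheaf : (E U).IsSheaf := by
  rw [TopCat.Presheaf.isSheaf_iff_isSheafUniqueGluing]
  intro ι V sf _
  refine ⟨(homOfLE (iSup_le fun a => (show V a ⟶ U from sf a).le) : iSup V ⟶ U),
    fun a => (E_sub U _).allEq _ _, fun t _ => (E_sub U _).allEq _ _⟩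

/-- The sheaf `W ↦ (W ≤ U)`. -/
def ES : X.Sheaf (Type u) := ⟨E U, E_isSheaf U⟩

/-- Every sheaf on `U` maps to the restriction of `ES`. -/
def toRestrE (F : (TopCat.of U).Sheaf (Type u)) : F ⟶ (U.sheafRestrict (C := Type u)).obj (ES U) :=
  ObjectProperty.homMk
    { app := fun V => TypeCat.ofHom fun _ => (homOfLE (img_le U V.unop) : img U V.unop ⟶ U)
      naturality := fun V V' f => by
        ext s
        exact (E_sub U (img U V'.unop)).allEq _ _ }

lemma stalk_isEmpty_of_essImage (L : (TopCat.of U).Sheaf (Type u) ⥤ X.Sheaf (Type u))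
    (adj : L ⊣ U.sheafRestrict (C := Type u)) (G : X.Sheaf (Type u)) (hG : L.essImage G)
    (x : X) (hx : x ∉ U) : IsEmpty (G.presheaf.stalk x) := by
  obtain ⟨F, ⟨e⟩⟩ := hG
  let m : G ⟶ ES U := e.inv ≫ (adj.homEquiv F (ES U)).symm (toRestrE U F)
  refine ⟨fun g => ?_⟩
  obtain ⟨W, hxW, s, -⟩ := G.presheaf.exists_germ_eq g
  have h : W ⟶ U := m.hom.app (op W) s
  exact hx (h.le hxW)

end

section

variable {X : TopCat.{u}} (U : Opens X)

lemma img_map_eq (W : Opens X) (hW : W ≤ U) : img U ((Opens.map (incl U)).obj W) = W := by
  apply le_antisymm (img_map_le U W)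
  intro x hx
  exact ⟨⟨x, hW hx⟩, hx, rfl⟩

lemma empty_sections (G : X.Sheaf (Type u)) (hG : ∀ x : X, x ∉ U → IsEmpty (G.presheaf.stalk x))
    (W : Opens X) (hW : ¬ W ≤ U) : IsEmpty (G.presheaf.obj (op W)) := by
  obtain ⟨x, hxW, hxU⟩ := SetLike.not_le_iff_exists.mp hW
  exact ⟨fun s => (hG x hxU).false (G.presheaf.germ W x hxW s)⟩

variable (G H : X.Sheaf (Type u)) (hG : ∀ x : X, x ∉ U → IsEmpty (G.presheaf.stalk x))

include hG in
lemma restr_injective :
    Function.Injective (fun m : G ⟶ H => (U.sheafRestrict (C := Type u)).map m) := by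
  intro m m' h
  apply ObjectProperty.hom_ext
  ext W s
  induction W with | op W => ?_
  by_cases hW : W ≤ U
  · have h1 : ∀ V : Opens (TopCat.of U), m.hom.app (op (img U V)) = m'.hom.app (op (img U V)) :=
      fun V => congrArg (fun k => k.hom.app (op V)) h
    have h2 := h1 ((Opens.map (incl U)).obj W)
    rw [img_map_eq U W hW] at h2
    rw [h2]
  · exact ((empty_sections U G hG W hW).false s).elim

open Classical in
include hG in
/-- Components of the extension of a morphism between restrictions. -/
noncomputable def extApp
    (n : (U.sheafRestrict (C := Type u)).obj G ⟶ (U.sheafRestrict (C := Type u)).obj H)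
    (W : (Opens X)ᵒᵖ) : G.presheaf.obj W ⟶ H.presheaf.obj W :=
  if hW : W.unop ≤ U then
    G.presheaf.map (eqToHom (show W = op (img U ((Opens.map (incl U)).obj W.unop)) by
      rw [img_map_eq U _ hW])) ≫
    n.hom.app (op ((Opens.map (incl U)).obj W.unop)) ≫
    H.presheaf.map (eqToHom (show op (img U ((Opens.map (incl U)).obj W.unop)) = W by
      rw [img_map_eq U _ hW]))
  else TypeCat.ofHom fun s => ((empty_sections U G hG W.unop hW).false s).elim

open Classical in
lemma extApp_pos
    (n : (U.sheafRestrict (C := Type u)).obj G ⟶ (U.sheafRestrict (C := Type u)).obj H)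
    (W : (Opens X)ᵒᵖ) (hW : W.unop ≤ U) : extApp U G H hG n W =
    G.presheaf.map (eqToHom (show W = op (img U ((Opens.map (incl U)).obj W.unop)) by
      rw [img_map_eq U _ hW])) ≫
    n.hom.app (op ((Opens.map (incl U)).obj W.unop)) ≫
    H.presheaf.map (eqToHom (show op (img U ((Opens.map (incl U)).obj W.unop)) = W by
      rw [img_map_eq U _ hW])) :=
  dif_pos hW

end

section

variable {X : TopCat.{u}} (U : Opens X)
variable (G H : X.Sheaf (Type u)) (hG : ∀ x : X, x ∉ U → IsEmpty (G.presheaf.stalk x))

/-- The extension of a morphism between restrictions. -/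
noncomputable def extHom
    (n : (U.sheafRestrict (C := Type u)).obj G ⟶ (U.sheafRestrict (C := Type u)).obj H) :
    G ⟶ H :=
  ObjectProperty.homMk
    { app := extApp U G H hG n
      naturality := fun W W' f => by
        ext s
        by_cases hW : W.unop ≤ U
        · have hW' : W'.unop ≤ U := f.unop.le.trans hW
          show extApp U G H hG n W' (G.presheaf.map f s) =
            H.presheaf.map f (extApp U G H hG n W s)
          rw [extApp_pos U G H hG n W hW, extApp_pos U G H hG n W' hW']
          have hnat := NatTrans.naturality_apply n.hom ((Opens.map (incl U)).map f.unop).op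
          have h1 : G.presheaf.map (eqToHom (show W' = op (img U ((Opens.map (incl U)).obj
                W'.unop)) by rw [img_map_eq U _ hW'])) (G.presheaf.map f s) =
              G.presheaf.map ((incl_isOpenEmbedding U).functor.map
                ((Opens.map (incl U)).map f.unop)).op
              (G.presheaf.map (eqToHom (show W = op (img U ((Opens.map (incl U)).obj W.unop)) by
                rw [img_map_eq U _ hW])) s) := map_map_eq G.presheaf _ _ _ _ s
          have h2 := hnat (G.presheaf.map (eqToHom (show W = op (img U ((Opens.map (incl U)).obj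
            W.unop)) by rw [img_map_eq U _ hW])) s)
          have h3 := (congrArg (fun t => n.hom.app (op ((Opens.map (incl U)).obj W'.unop)) t)
            h1).trans h2
          refine (congrArg (fun t => H.presheaf.map (eqToHom (show op (img U
            ((Opens.map (incl U)).obj W'.unop)) = W' by rw [img_map_eq U _ hW'])) t) h3).trans ?_
          exact map_map_eq H.presheaf _ _ _ _ _
        · exact ((empty_sections U G hG W.unop hW).false s).elim }

lemma restr_extHom
    (n : (U.sheafRestrict (C := Type u)).obj G ⟶ (U.sheafRestrict (C := Type u)).obj H) :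
    (U.sheafRestrict (C := Type u)).map (extHom U G H hG n) = n := by
  apply ObjectProperty.hom_ext
  ext V s
  induction V with | op V => ?_
  have hV : img U V ≤ U := img_le U V
  show extApp U G H hG n (op (img U V)) s = n.hom.app (op V) s
  rw [extApp_pos U G H hG n (op (img U V)) hV]
  have hVV : op V = op ((Opens.map (incl U)).obj (img U V)) := by rw [map_img]
  have hnat := NatTrans.naturality_apply n.hom (eqToHom hVV) s
  have e1 : G.presheaf.map (eqToHom (show op (img U V) = op (img U ((Opens.map (incl U)).obj
        (img U V))) by rw [map_img])) s =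
      ((U.sheafRestrict (C := Type u)).obj G).obj.map (eqToHom hVV) s :=
    map_apply_eq G.presheaf _ _ s
  have e2 := (congrArg (fun t => n.hom.app (op ((Opens.map (incl U)).obj (img U V))) t)
    e1).trans hnat
  refine (congrArg (fun t => H.presheaf.map (eqToHom (show op (img U ((Opens.map (incl U)).obj
    (img U V))) = op (img U V) by rw [map_img])) t) e2).trans ?_
  exact map_map_self H.presheaf _ _ _

end

section

variable {X : TopCat.{u}} (U : Opens X)

lemma counit_isIso (L : (TopCat.of U).Sheaf (Type u) ⥤ X.Sheaf (Type u))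
    (adj : L ⊣ U.sheafRestrict (C := Type u)) (G : X.Sheaf (Type u))
    (hG : ∀ x : X, x ∉ U → IsEmpty (G.presheaf.stalk x)) : IsIso (adj.counit.app G) := by
  rw [isIso_iff_coyoneda_map_bijective]
  intro H
  have hbij : Function.Bijective (fun m : G ⟶ H => (U.sheafRestrict (C := Type u)).map m) :=
    ⟨restr_injective U G H hG, fun n => ⟨extHom U G H hG n, restr_extHom U G H hG n⟩⟩
  have key : ∀ m : G ⟶ H, adj.homEquiv _ _ (adj.counit.app G ≫ m) =
      (U.sheafRestrict (C := Type u)).map m := by
    intro m
    rw [Adjunction.homEquiv_unit, Functor.map_comp, ← Category.assoc,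
      adj.right_triangle_components, Category.id_comp]
  have hfun : (fun m : G ⟶ H => adj.counit.app G ≫ m) =
      (adj.homEquiv _ _).symm ∘ (fun m : G ⟶ H => (U.sheafRestrict (C := Type u)).map m) := by
    funext m
    rw [Function.comp, ← key m, Equiv.symm_apply_apply]
  have hb := (Equiv.bijective (adj.homEquiv ((U.sheafRestrict (C := Type u)).obj G) H).symm).comp hbij
  exact (congrArg Function.Bijective hfun).mpr hb

end

/-- Let X be a topological space, U ⊆ X open and j_! : Sh(U) → Sh(X) a left adjoint of restriction of
sheaves of sets to U. Then j_! is fully faithful, and a sheaf G on X lies in its essential image if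
and only if G_x = ∅ for all x ∈ X not in U. -/
theorem result {X : TopCat.{u}} (U : Opens X)
    (L : (TopCat.of U).Sheaf (Type u) ⥤ X.Sheaf (Type u)) (adj : L ⊣ U.sheafRestrict (C := Type u)) :
    L.Full ∧ L.Faithful ∧
    ∀ G : X.Sheaf (Type u), L.essImage G ↔ ∀ x : X, x ∉ U → IsEmpty (G.presheaf.stalk x) := by
  obtain ⟨hfull, hfaith⟩ := L_ff U L adj
  refine ⟨hfull, hfaith, fun G => ⟨fun hG x hx => stalk_isEmpty_of_essImage U L adj G hG x hx,
    fun hG => ?_⟩⟩
  have := counit_isIso U L adj G hG
  exact adj.mem_essImage_of_counit_isIso G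

end Groth.Agent.S7574
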