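import Groth.Statements.S7575
import Mathlib.CategoryTheory.Sites.LocallyBijective
import Mathlib.CategoryTheory.Limits.Types.Filtered
import Mathlib.Topology.Sheaves.SheafCondition.UniqueGluing
import Mathlib.Data.Fintype.Order
import Mathlib.CategoryTheory.Limits.FunctorCategory.Basic

set_option autoImplicit false
universe u
open CategoryTheory CategoryTheory.Limits TopologicalSpace Opposite
open ShSp

namespace Groth.Agent.S7575

set_option linter.unusedSectionVars false

section

variable {X : TopCat.{u}} {J : Type u} [Preorder J] [Nonempty J] [IsDirected J (· ≤ ·)]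
  (F : J ⥤ X.Sheaf (Type u)) (c : Cocone F) (hc : IsColimit c)

/-- The diagram of underlying presheaves. -/
noncomputable abbrev D : J ⥤ X.Presheaf (Type u) := F ⋙ TopCat.Sheaf.forget (Type u) X

/-- The comparison from the presheaf colimit. -/
noncomputable def γ : colimit (D F) ⟶ c.pt.presheaf :=
  colimit.desc (D F) ((TopCat.Sheaf.forget (Type u) X).mapCocone c)

omit [Nonempty J] [IsDirected J (· ≤ ·)] in
@[reassoc]
lemma ι_γ (i : J) : colimit.ι (D F) i ≫ γ F c = (c.ι.app i).hom :=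
  colimit.ι_desc _ _

include hc in
lemma W_γ : (Opens.grothendieckTopology X).W (γ F c) := by
  intro H hH
  constructor
  · intro a b hab
    have hab' : γ F c ≫ a = γ F c ≫ b := hab
    have h : (ObjectProperty.homMk a : c.pt ⟶ ⟨H, hH⟩) = ObjectProperty.homMk b := by
      apply hc.hom_ext
      intro i
      apply ObjectProperty.hom_ext
      have e := congrArg (fun m => colimit.ι (D F) i ≫ m) hab'
      exact (ι_γ_assoc F c i a).symm.trans (e.trans (ι_γ_assoc F c i b))
    exact congrArg (fun m => m.hom) h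
  · intro g
    let s : Cocone F :=
      { pt := ⟨H, hH⟩
        ι :=
          { app := fun i => ObjectProperty.homMk (colimit.ι (D F) i ≫ g)
            naturality := fun i j f => by
              apply ObjectProperty.hom_ext
              show (F.map f).hom ≫ colimit.ι (D F) j ≫ g = (colimit.ι (D F) i ≫ g) ≫ 𝟙 _
              rw [Category.comp_id, ← Category.assoc]
              congr 1
              exact colimit.w (D F) f } }
    refine ⟨(hc.desc s).hom, ?_⟩
    apply colimit.hom_ext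
    intro i
    exact (ι_γ_assoc F c i (hc.desc s).hom).trans (congrArg (fun m => m.hom) (hc.fac s i))

include hc in
lemma loc_inj (V : Opens X) (i : J) (s s' : (F.obj i).presheaf.obj (op V))
    (h : (c.ι.app i).hom.app (op V) s = (c.ι.app i).hom.app (op V) s') :
    ∀ x ∈ V, ∃ (V' : Opens X) (f : V' ⟶ V), x ∈ V' ∧ ∃ (k : J) (hk : i ≤ k),
      (F.map (homOfLE hk)).hom.app (op V') ((F.obj i).presheaf.map f.op s) =
      (F.map (homOfLE hk)).hom.app (op V') ((F.obj i).presheaf.map f.op s') := by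
  have hW := W_γ F c hc
  have hinj : Presheaf.IsLocallyInjective (Opens.grothendieckTopology X) (γ F c) :=
    hW.isLocallyInjective
  have hγ : ∀ t : (F.obj i).presheaf.obj (op V),
      (γ F c).app (op V) ((colimit.ι (D F) i).app (op V) t) = (c.ι.app i).hom.app (op V) t :=
    fun t => congrArg (fun m => m.app (op V) t) (ι_γ F c i)
  have hab : (γ F c).app (op V) ((colimit.ι (D F) i).app (op V) s) =
      (γ F c).app (op V) ((colimit.ι (D F) i).app (op V) s') := by
    rw [hγ, hγ, h]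
  have hmem := Presheaf.equalizerSieve_mem (Opens.grothendieckTopology X) (γ F c) _ _ hab
  intro x hx
  obtain ⟨V', f, hf, hxV'⟩ := hmem x hx
  have hn := fun t => NatTrans.naturality_apply (colimit.ι (D F) i) f.op t
  have hf' : (colimit.ι (D F) i).app (op V') ((F.obj i).presheaf.map f.op s) =
      (colimit.ι (D F) i).app (op V') ((F.obj i).presheaf.map f.op s') :=
    (hn s).trans (hf.trans (hn s').symm)
  have hev := isColimitOfPreserves ((evaluation (Opens X)ᵒᵖ (Type u)).obj (op V'))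
    (colimit.isColimit (D F))
  obtain ⟨k, g, hk⟩ := (Types.FilteredColimit.isColimit_eq_iff' hev _ _).mp hf'
  refine ⟨V', f, hxV', k, leOfHom g, ?_⟩
  rw [Subsingleton.elim (homOfLE (leOfHom g)) g]
  exact hk

include hc in
lemma loc_surj (V : Opens X) (t : c.pt.presheaf.obj (op V)) :
    ∀ x ∈ V, ∃ (V' : Opens X) (f : V' ⟶ V), x ∈ V' ∧
      ∃ (i : J) (s : (F.obj i).presheaf.obj (op V')),
        (c.ι.app i).hom.app (op V') s = c.pt.presheaf.map f.op t := by
  have hW := W_γ F c hc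
  have hsurj : Presheaf.IsLocallySurjective (Opens.grothendieckTopology X) (γ F c) :=
    hW.isLocallySurjective
  have hmem := Presheaf.imageSieve_mem (Opens.grothendieckTopology X) (γ F c) (U := op V) t
  intro x hx
  obtain ⟨V', f, ⟨a, ha⟩, hxV'⟩ := hmem x hx
  have hev := isColimitOfPreserves ((evaluation (Opens X)ᵒᵖ (Type u)).obj (op V'))
    (colimit.isColimit (D F))
  obtain ⟨i, s, rfl⟩ := Types.jointly_surjective_of_isColimit hev a
  refine ⟨V', f, hxV', i, s, ?_⟩
  rw [← ha]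
  exact (congrArg (fun m => m.app (op V') s) (ι_γ F c i)).symm

/-- Transition maps on sections. -/
noncomputable def τ {i k : J} (h : i ≤ k) (V : Opens X) (s : (F.obj i).presheaf.obj (op V)) :
    (F.obj k).presheaf.obj (op V) :=
  (F.map (homOfLE h)).hom.app (op V) s

/-- Cocone maps on sections. -/
noncomputable def lam (i : J) (V : Opens X) (s : (F.obj i).presheaf.obj (op V)) :
    c.pt.presheaf.obj (op V) :=
  (c.ι.app i).hom.app (op V) s

lemma lam_τ {i k : J} (h : i ≤ k) (V : Opens X) (s : (F.obj i).presheaf.obj (op V)) :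
    lam F c k V (τ F h V s) = lam F c i V s :=
  congrArg (fun m => m.hom.app (op V) s) (c.w (homOfLE h))

lemma τ_τ {i k l : J} (h : i ≤ k) (h' : k ≤ l) (V : Opens X)
    (s : (F.obj i).presheaf.obj (op V)) :
    τ F h' V (τ F h V s) = τ F (h.trans h') V s := by
  have e : F.map (homOfLE h) ≫ F.map (homOfLE h') = F.map (homOfLE (h.trans h')) := by
    rw [← F.map_comp]
    rfl
  exact congrArg (fun m => m.hom.app (op V) s) e

lemma τ_res {i k : J} (h : i ≤ k) {V V' : Opens X} (f : V' ⟶ V)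
    (s : (F.obj i).presheaf.obj (op V)) :
    τ F h V' ((F.obj i).presheaf.map f.op s) = (F.obj k).presheaf.map f.op (τ F h V s) :=
  NatTrans.naturality_apply (F.map (homOfLE h)).hom f.op s

lemma lam_res (i : J) {V V' : Opens X} (f : V' ⟶ V) (s : (F.obj i).presheaf.obj (op V)) :
    lam F c i V' ((F.obj i).presheaf.map f.op s) = c.pt.presheaf.map f.op (lam F c i V s) :=
  NatTrans.naturality_apply (c.ι.app i).hom f.op s

include hc in
lemma compact_inj (V : Opens X) (hV : IsCompact (V : Set X)) (k : J)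
    (s s' : (F.obj k).presheaf.obj (op V)) (h : lam F c k V s = lam F c k V s') :
    ∃ (k' : J) (hk : k ≤ k'), τ F hk V s = τ F hk V s' := by
  have hloc := loc_inj F c hc V k s s' h
  choose V' f hxV' kx hkx hτ using hloc
  obtain ⟨t, ht⟩ := hV.elim_finite_subcover (fun x : V => (V' x.1 x.2 : Set X))
    (fun x => (V' x.1 x.2).isOpen) (fun x hx => Set.mem_iUnion.mpr ⟨⟨x, hx⟩, hxV' x hx⟩)
  obtain ⟨k', hk'⟩ := Finite.exists_le (fun o : Option t => o.elim k (fun x => kx x.1.1 x.1.2))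
  have hkk' : k ≤ k' := hk' none
  refine ⟨k', hkk', ?_⟩
  apply TopCat.Sheaf.eq_of_locally_eq' (F.obj k') (fun x : t => V' x.1.1 x.1.2) V
    (fun x => f x.1.1 x.1.2)
  · intro y hy
    obtain ⟨x, hxt, hyx⟩ := Set.mem_iUnion₂.mp (ht hy)
    exact Opens.mem_iSup.mpr ⟨⟨x, hxt⟩, hyx⟩
  · intro x
    have hx' : kx x.1.1 x.1.2 ≤ k' := hk' (some x)
    have e1 := τ_res F hkk' (f x.1.1 x.1.2) s
    have e2 := τ_res F hkk' (f x.1.1 x.1.2) s'
    have e3 := τ_τ F (hkx x.1.1 x.1.2) hx' _ ((F.obj k).presheaf.map (f x.1.1 x.1.2).op s)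
    have e4 := τ_τ F (hkx x.1.1 x.1.2) hx' _ ((F.obj k).presheaf.map (f x.1.1 x.1.2).op s')
    exact e1.symm.trans (e3.symm.trans ((congrArg _ (hτ x.1.1 x.1.2)).trans (e4.trans e2)))

include hc in
lemma inj_of_inj
    (hinj : ∀ (i j : J) (h : i ⟶ j) (V : Opens X), Function.Injective ((F.map h).1.app (op V)))
    (V : Opens X) (k : J) (s s' : (F.obj k).presheaf.obj (op V))
    (h : lam F c k V s = lam F c k V s') : s = s' := by
  have hloc := loc_inj F c hc V k s s' h
  choose V' f hxV' kx hkx hτ using hloc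
  apply TopCat.Sheaf.eq_of_locally_eq' (F.obj k) (fun x : V => V' x.1 x.2) V
    (fun x => f x.1 x.2)
  · intro y hy
    exact Opens.mem_iSup.mpr ⟨⟨y, hy⟩, hxV' y hy⟩
  · intro x
    exact hinj k (kx x.1 x.2) (homOfLE (hkx x.1 x.2)) _ (hτ x.1 x.2)

/-- The functor of sections over `U`. -/
noncomputable abbrev ev (U : Opens X) : X.Sheaf (Type u) ⥤ Type u :=
  TopCat.Sheaf.forget (Type u) X ⋙ (evaluation (Opens X)ᵒᵖ (Type u)).obj (op U)

/-- The canonical comparison map on sections over `U`. -/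
noncomputable abbrev Ψ (U : Opens X) : colimit (F ⋙ ev U) → (ev U).obj c.pt :=
  colimit.desc (F ⋙ ev U) ((ev U).mapCocone c)

lemma Ψ_ι (U : Opens X) (i : J) (s : (F.obj i).presheaf.obj (op U)) :
    Ψ F c U (colimit.ι (F ⋙ ev U) i s) = lam F c i U s :=
  congrArg (fun m => (ConcreteCategory.hom m) s) (colimit.ι_desc ((ev U).mapCocone c) i)

lemma ι_τ (U : Opens X) {i k : J} (h : i ≤ k) (s : (F.obj i).presheaf.obj (op U)) :
    colimit.ι (F ⋙ ev U) k (τ F h U s) = colimit.ι (F ⋙ ev U) i s :=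
  congrArg (fun m => (ConcreteCategory.hom m) s) (colimit.w (F ⋙ ev U) (homOfLE h))

lemma Ψ_inj_of (U : Opens X)
    (H : ∀ (k : J) (s s' : (F.obj k).presheaf.obj (op U)), lam F c k U s = lam F c k U s' →
      ∃ (k' : J) (hk : k ≤ k'), τ F hk U s = τ F hk U s') :
    Function.Injective (Ψ F c U) := by
  intro a b hab
  obtain ⟨i, s, rfl⟩ := Types.jointly_surjective' a
  obtain ⟨j, s', rfl⟩ := Types.jointly_surjective' b
  obtain ⟨k, hik, hjk⟩ := directed_of (· ≤ ·) i j
  have e1 := ι_τ F U hik s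
  have e2 := ι_τ F U hjk s'
  rw [← e1, ← e2] at hab ⊢
  rw [Ψ_ι, Ψ_ι] at hab
  obtain ⟨k', hk, e⟩ := H k _ _ hab
  rw [← ι_τ F U hk (τ F hik U s), ← ι_τ F U hk (τ F hjk U s'), e]

lemma Ψ_surj_of (U : Opens X)
    (H : ∀ t : c.pt.presheaf.obj (op U), ∃ (k : J) (s : (F.obj k).presheaf.obj (op U)),
      lam F c k U s = t) :
    Function.Surjective (Ψ F c U) := by
  intro t
  obtain ⟨k, s, rfl⟩ := H t
  exact ⟨colimit.ι (F ⋙ ev U) k s, Ψ_ι F c U k s⟩

lemma surj_core (U : Opens X) (t : c.pt.presheaf.obj (op U)) {ι' : Type u} [Finite ι']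
    (W : ι' → Opens X) (hWU : ∀ a, W a ≤ U) (hcov : U ≤ ⨆ a, W a)
    (hloc : ∀ a, ∃ (i : J) (s : (F.obj i).presheaf.obj (op (W a))),
      lam F c i (W a) s = c.pt.presheaf.map (homOfLE (hWU a)).op t)
    (H : ∀ (a b : ι') (k : J) (s s' : (F.obj k).presheaf.obj (op (W a ⊓ W b))),
      lam F c k _ s = lam F c k _ s' → ∃ (k' : J) (hk : k ≤ k'), τ F hk _ s = τ F hk _ s') :
    ∃ (k : J) (s : (F.obj k).presheaf.obj (op U)), lam F c k U s = t := by
  choose i s hs using hloc
  obtain ⟨k, hk⟩ := Finite.exists_le i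
  let s1 : ∀ a, (F.obj k).presheaf.obj (op (W a)) := fun a => τ F (hk a) (W a) (s a)
  have hs1 : ∀ a, lam F c k (W a) (s1 a) = c.pt.presheaf.map (homOfLE (hWU a)).op t :=
    fun a => (lam_τ F c (hk a) _ _).trans (hs a)
  have hov : ∀ a b, lam F c k (W a ⊓ W b)
      ((F.obj k).presheaf.map (Opens.infLELeft (W a) (W b)).op (s1 a)) =
      lam F c k (W a ⊓ W b) ((F.obj k).presheaf.map (Opens.infLERight (W a) (W b)).op (s1 b)) := by
    intro a b
    rw [lam_res, lam_res, hs1, hs1, ← Functor.map_comp_apply, ← Functor.map_comp_apply]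
    rfl
  have hk2 : ∀ ab : ι' × ι', ∃ (k' : J) (hk' : k ≤ k'),
      τ F hk' _ ((F.obj k).presheaf.map (Opens.infLELeft (W ab.1) (W ab.2)).op (s1 ab.1)) =
      τ F hk' _ ((F.obj k).presheaf.map (Opens.infLERight (W ab.1) (W ab.2)).op (s1 ab.2)) :=
    fun ab => H ab.1 ab.2 k _ _ (hov ab.1 ab.2)
  choose k2 hk2le hk2eq using hk2
  obtain ⟨k3, hk3⟩ := Finite.exists_le (fun o : Option (ι' × ι') => o.elim k k2)
  have hkk3 : k ≤ k3 := hk3 none
  let s3 : ∀ a, (F.obj k3).presheaf.obj (op (W a)) := fun a => τ F hkk3 (W a) (s1 a)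
  have hcompat : TopCat.Presheaf.IsCompatible (F.obj k3).presheaf W s3 := by
    intro a b
    have h23 : k2 (a, b) ≤ k3 := hk3 (some (a, b))
    have e1 := τ_res F hkk3 (Opens.infLELeft (W a) (W b)) (s1 a)
    have e2 := τ_res F hkk3 (Opens.infLERight (W a) (W b)) (s1 b)
    have e3 := τ_τ F (hk2le (a, b)) h23 _
      ((F.obj k).presheaf.map (Opens.infLELeft (W a) (W b)).op (s1 a))
    have e4 := τ_τ F (hk2le (a, b)) h23 _
      ((F.obj k).presheaf.map (Opens.infLERight (W a) (W b)).op (s1 b))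
    exact e1.symm.trans (e3.symm.trans ((congrArg _ (hk2eq (a, b))).trans (e4.trans e2)))
  obtain ⟨s, hs, -⟩ := (F.obj k3).existsUnique_gluing' W U (fun a => homOfLE (hWU a)) hcov s3
    hcompat
  refine ⟨k3, s, ?_⟩
  apply TopCat.Sheaf.eq_of_locally_eq' c.pt W U (fun a => homOfLE (hWU a)) hcov
  intro a
  rw [← lam_res, hs a]
  exact (lam_τ F c hkk3 _ _).trans (hs1 a)

end

/-- Let X be a topological space, I a directed set, (F_i) a system of sheaves of sets on X over I with
colimit F (in sheaves), U ⊆ X open, and Ψ : colim_i F_i(U) → F(U) the canonical map. (1) If all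
transition maps F_i → F_{i'} are injective (on all sections) then Ψ is injective. (2)
Quasi-compactness of U alone already makes Ψ injective. (3) When U is quasi-compact and every
transition map is injective, Ψ is bijective. (4) If every open covering of U can be refined by a
finite open covering U = U_1 ∪ … ∪ U_m with all U_j ∩ U_{j'} quasi-compact, then Ψ is bijective. -/
theorem result {X : TopCat.{u}} {J : Type u} [Preorder J] [Nonempty J] [IsDirected J (· ≤ ·)]
    (F : J ⥤ X.Sheaf (Type u)) (c : Cocone F) (hc : IsColimit c) (U : Opens X) :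
    let ev := TopCat.Sheaf.forget (Type u) X ⋙ (evaluation (Opens X)ᵒᵖ (Type u)).obj (op U)
    let Ψ : colimit (F ⋙ ev) → ev.obj c.pt := colimit.desc (F ⋙ ev) (ev.mapCocone c)
    ((∀ (i j : J) (h : i ⟶ j) (V : Opens X), Function.Injective ((F.map h).1.app (op V))) → Function.Injective Ψ) ∧
    (IsCompact (U : Set X) → Function.Injective Ψ) ∧
    (IsCompact (U : Set X) → (∀ (i j : J) (h : i ⟶ j) (V : Opens X), Function.Injective ((F.map h).1.app (op V))) →
      Function.Bijective Ψ) ∧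
    ((∀ 𝒱 : Set (Opens X), (⨆ V ∈ 𝒱, V) = U →
        ∃ (m : ℕ) (W : Fin m → Opens X), (∀ j, ∃ V ∈ 𝒱, W j ≤ V) ∧ (⨆ j, W j) = U ∧
          ∀ j j', IsCompact ((W j ⊓ W j' : Opens X) : Set X)) →
      Function.Bijective Ψ) := by
  intro ev Ψ
  refine ⟨?_, ?_, ?_, ?_⟩
  · intro hinj
    exact Ψ_inj_of F c U (fun k s s' h =>
      ⟨k, le_rfl, congrArg _ (inj_of_inj F c hc hinj U k s s' h)⟩)
  · intro hU
    exact Ψ_inj_of F c U (fun k s s' h => compact_inj F c hc U hU k s s' h)
  · intro hU hinj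
    refine ⟨Ψ_inj_of F c U (fun k s s' h =>
      ⟨k, le_rfl, congrArg _ (inj_of_inj F c hc hinj U k s s' h)⟩),
      Ψ_surj_of F c U (fun t => ?_)⟩
    have hloc := loc_surj F c hc U t
    choose V' f hxV' i s hs using hloc
    obtain ⟨T, hT⟩ := hU.elim_finite_subcover (fun x : U => (V' x.1 x.2 : Set X))
      (fun x => (V' x.1 x.2).isOpen) (fun x hx => Set.mem_iUnion.mpr ⟨⟨x, hx⟩, hxV' x hx⟩)
    refine surj_core F c U t (ι' := T) (fun x => V' x.1.1 x.1.2) (fun x => (f x.1.1 x.1.2).le) ?_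
      (fun x => ⟨i x.1.1 x.1.2, s x.1.1 x.1.2, hs x.1.1 x.1.2⟩)
      (fun a b k s s' h => ⟨k, le_rfl, congrArg _ (inj_of_inj F c hc hinj _ k s s' h)⟩)
    intro y hy
    obtain ⟨x, hxT, hyx⟩ := Set.mem_iUnion₂.mp (hT hy)
    exact Opens.mem_iSup.mpr ⟨⟨x, hxT⟩, hyx⟩
  · intro hfin
    have hUc : IsCompact (U : Set X) := by
      obtain ⟨m, W, -, hW2, hW3⟩ := hfin {U} (by simp)
      rw [← hW2, Opens.coe_iSup]
      refine isCompact_iUnion fun j => ?_
      have := hW3 j j
      rwa [inf_idem] at this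
    refine ⟨Ψ_inj_of F c U (fun k s s' h => compact_inj F c hc U hUc k s s' h),
      Ψ_surj_of F c U (fun t => ?_)⟩
    have hloc := loc_surj F c hc U t
    let 𝒱 : Set (Opens X) := {V | ∃ hV : V ≤ U, ∃ (i : J) (s : (F.obj i).presheaf.obj (op V)),
      lam F c i V s = c.pt.presheaf.map (homOfLE hV).op t}
    have h𝒱 : (⨆ V ∈ 𝒱, V) = U := by
      apply le_antisymm
      · refine iSup₂_le fun V hV => ?_
        obtain ⟨hVU, -⟩ := hV
        exact hVU
      · intro x hx
        obtain ⟨V', f, hxV', i, s, hs⟩ := hloc x hx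
        rw [Opens.mem_iSup]
        refine ⟨V', ?_⟩
        rw [Opens.mem_iSup]
        exact ⟨⟨f.le, i, s, hs⟩, hxV'⟩
    obtain ⟨m, W, hW1, hW2, hW3⟩ := hfin 𝒱 h𝒱
    have hWU : ∀ j, W j ≤ U := fun j => hW2 ▸ le_iSup W j
    refine surj_core F c U t (ι' := ULift.{u} (Fin m)) (fun a => W a.down) (fun a => hWU a.down)
      ((le_of_eq hW2.symm).trans (iSup_le fun j =>
        le_iSup (fun a : ULift.{u} (Fin m) => W a.down) ⟨j⟩))
      (fun a => ?_) (fun a b k s s' h => compact_inj F c hc _ (hW3 a.down b.down) k s s' h)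
    obtain ⟨V, ⟨hVU, i, s, hs⟩, hWV⟩ := hW1 a.down
    refine ⟨i, (F.obj i).presheaf.map (homOfLE hWV).op s, ?_⟩
    rw [lam_res, hs, ← Functor.map_comp_apply]
    rfl

end Groth.Agent.S7575
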