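import Groth.Statements.S7579
import Mathlib.Topology.Connected.Separation

set_option autoImplicit false
universe u
open SpecSp

namespace Groth.Agent.S7579

/-- Let X be a spectral space. Then X with its constructible topology is Hausdorff and totally
disconnected. The published statement also asserts that the constructible topology is quasi-compact;
this row states the Hausdorff and totally disconnected parts. -/
theorem result (X : Type u) [TopologicalSpace X] [SpectralSpace X] :
    T2Space (WithConstructibleTopology X) ∧ TotallyDisconnectedSpace (WithConstructibleTopology X) := by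
  have hts : TotallySeparatedSpace (WithConstructibleTopology X) := by
    rw [totallySeparatedSpace_iff_exists_isClopen]
    intro x y hxy
    have hxy' : x.ofTopology ≠ y.ofTopology := fun h => hxy (WithTopology.ofTopology_injective _ h)
    -- a compact open of `X` containing exactly one of the two points
    have key : ∃ V : Set X, IsOpen V ∧ IsCompact V ∧ Xor (x.ofTopology ∈ V) (y.ofTopology ∈ V) := by
      obtain ⟨U, hU, hxor⟩ := exists_isOpen_xor_mem hxy'
      rcases hxor with ⟨hx, hy⟩ | ⟨hy, hx⟩
      · obtain ⟨V, ⟨hVo, hVc⟩, hxV, hVU⟩ :=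
          PrespectralSpace.isTopologicalBasis.exists_subset_of_mem_open hx hU
        exact ⟨V, hVo, hVc, Or.inl ⟨hxV, fun h => hy (hVU h)⟩⟩
      · obtain ⟨V, ⟨hVo, hVc⟩, hyV, hVU⟩ :=
          PrespectralSpace.isTopologicalBasis.exists_subset_of_mem_open hy hU
        exact ⟨V, hVo, hVc, Or.inr ⟨hyV, fun h => hx (hVU h)⟩⟩
    obtain ⟨V, hVo, hVc, hxor⟩ := key
    have hV1 : IsOpen (WithTopology.ofTopology (t := constructibleTopology X) ⁻¹' V) := by
      rw [WithConstructibleTopology.isOpen_iff]
      exact hVc.isOpen_constructibleTopology_of_isOpen hVo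
    have hV2 : IsOpen (WithTopology.ofTopology (t := constructibleTopology X) ⁻¹' Vᶜ) := by
      rw [WithConstructibleTopology.isOpen_iff]
      have : WithTopology.toTopology (constructibleTopology X) ⁻¹'
          (WithTopology.ofTopology (t := constructibleTopology X) ⁻¹' Vᶜ) = Vᶜ := rfl
      rw [this]
      exact IsCompact.isOpen_constructibleTopology_of_isClosed (by rwa [compl_compl])
        hVo.isClosed_compl
    have hclopen : IsClopen (WithTopology.ofTopology (t := constructibleTopology X) ⁻¹' V) :=
      ⟨by rw [← isOpen_compl_iff]; exact hV2, hV1⟩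
    rcases hxor with ⟨hx, hy⟩ | ⟨hy, hx⟩
    · exact ⟨_, hclopen, hx, hy⟩
    · exact ⟨_, hclopen.compl, hx, by simpa using hy⟩
  have ht2 : T2Space (WithConstructibleTopology X) := TotallySeparatedSpace.t2Space
  exact ⟨ht2, inferInstance⟩

end Groth.Agent.S7579
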