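import Groth.Statements.S7586
import Groth.Agent.Lib.ShBasis

set_option autoImplicit false
universe u
open ShSp

namespace Groth.Agent.S7586

open TopologicalSpace in
/-- Replace the chosen coverings of the intersections by the intersections themselves. -/
def modify {X : Type u} [TopologicalSpace X] {B : Set (Opens X)}
    (hBi : ∀ U ∈ B, ∀ U' ∈ B, ∀ U'' ∈ B, U' ≤ U → U'' ≤ U → U' ⊓ U'' ∈ B)
    (c : ShB.Cover B) : ShB.Cover B where
  U := c.U
  ι := c.ι
  V := c.V
  V_le := c.V_le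
  V_cover := c.V_cover
  κ _ _ := PUnit
  W i j _ := ⟨(c.V i : Opens X) ⊓ c.V j,
    hBi c.U c.U.2 _ (c.V i).2 _ (c.V j).2 (c.V_le i) (c.V_le j)⟩
  W_le_left _ _ _ := inf_le_left
  W_le_right _ _ _ := inf_le_right
  W_cover i j := le_iSup (fun _ : PUnit.{u+1} => (c.V i : Opens X) ⊓ c.V j) PUnit.unit

/-- Let X be a topological space and ℬ a basis for its topology such that for U, U′, U″ ∈ ℬ with U′ ⊆ U
and U″ ⊆ U one has U′ ∩ U″ ∈ ℬ. For each U ∈ ℬ let C(U) be a cofinal system of coverings of U by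
members of ℬ, and let F be a presheaf of sets on ℬ. Then F is a sheaf on ℬ if and only if for every
U ∈ ℬ, every covering U = ⋃ U_i in C(U) and every family of sections s_i ∈ F(U_i) with s_i and s_j
having the same restriction to U_i ∩ U_j, there is a unique s ∈ F(U) restricting to s_i on each U_i. -/
theorem result {X : Type u} [TopologicalSpace X] {B : Set (TopologicalSpace.Opens X)}
    (hB : TopologicalSpace.Opens.IsBasis B)
    (hBi : ∀ U ∈ B, ∀ U' ∈ B, ∀ U'' ∈ B, U' ≤ U → U'' ≤ U → U' ⊓ U'' ∈ B)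
    (F : ShB.Pre B)
    (C : ∀ U : B, Set (ShB.Cover B)) (hCU : ∀ U, ∀ c ∈ C U, c.U = U)
    (hC : ∀ (U : B) (ι : Type u) (V : ι → B), (∀ i, (V i : TopologicalSpace.Opens X) ≤ (U : TopologicalSpace.Opens X)) →
      (U : TopologicalSpace.Opens X) ≤ ⨆ i, (V i : TopologicalSpace.Opens X) →
      ∃ c ∈ C U, ∀ i' : c.ι, ∃ i, (c.V i' : TopologicalSpace.Opens X) ≤ (V i : TopologicalSpace.Opens X)) :
    ShB.IsSheaf F ↔ ∀ (U : B), ∀ c ∈ C U, ∀ s : ∀ i, F.obj (c.V i),
      (∀ i j, F.res (U := c.V i) (V := ⟨(c.V i : TopologicalSpace.Opens X) ⊓ c.V j,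
          hBi c.U c.U.2 _ (c.V i).2 _ (c.V j).2 (c.V_le i) (c.V_le j)⟩) inf_le_left (s i) =
        F.res (U := c.V j) (V := ⟨(c.V i : TopologicalSpace.Opens X) ⊓ c.V j,
          hBi c.U c.U.2 _ (c.V i).2 _ (c.V j).2 (c.V_le i) (c.V_le j)⟩) inf_le_right (s j)) →
      ∃! t : F.obj c.U, ∀ i, F.res (c.V_le i) t = s i := by
  constructor
  · intro hF U c _ s hs
    refine Groth.Agent.Lib.ShBasis.glue_of_isSheaf hB hF c.U c.ι c.V c.V_le c.V_cover s ?_
    intro i j D h1 h2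
    have hD : (D : TopologicalSpace.Opens X) ≤ (c.V i : TopologicalSpace.Opens X) ⊓ c.V j :=
      le_inf h1 h2
    have := congrArg (F.res (U := ⟨(c.V i : TopologicalSpace.Opens X) ⊓ c.V j,
          hBi c.U c.U.2 _ (c.V i).2 _ (c.V j).2 (c.V_le i) (c.V_le j)⟩) (V := D) hD) (hs i j)
    rwa [F.res_comp, F.res_comp] at this
  · intro h
    refine Groth.Agent.Lib.ShBasis.isSheaf_of_cofinal hB
      (C := fun U => {c' | ∃ c ∈ C U, c' = modify hBi c}) ⟨?_, ?_, ?_⟩
    · rintro U c' ⟨c, hc, rfl⟩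
      exact hCU U c hc
    · intro U ι V V_le V_cover
      obtain ⟨c, hc, href⟩ := hC U ι V V_le V_cover
      exact ⟨modify hBi c, ⟨c, hc, rfl⟩, href⟩
    · rintro U c' ⟨c, hc, rfl⟩
      intro s hs
      exact h U c hc s (fun i j => hs i j PUnit.unit)

end Groth.Agent.S7586
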