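import Groth.Statements.S7587
import Groth.Agent.Lib.ShBasis

set_option autoImplicit false
universe u
open ShSp

namespace Groth.Agent.S7587

/-- Let X be a topological space, ℬ a basis for its topology, U ∈ ℬ and F a sheaf of sets on ℬ. Sending
a section over U to its germs at the points of U, a map from F(U) into the product of the stalks F_x
over x ∈ U, puts F(U) in bijection with those germ families (s_x)_{x ∈ U} that satisfy (*): each x ∈
U lies in some V ∈ ℬ contained in U carrying a section σ ∈ F(V) whose germ at every y ∈ V equals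
s_y. That is, the map is injective and its image is exactly the set of such families. -/
theorem result {X : Type u} [TopologicalSpace X] {B : Set (TopologicalSpace.Opens X)}
    (hB : TopologicalSpace.Opens.IsBasis B) (F : ShB.Pre B) (hF : ShB.IsSheaf F) (U : B) :
    Function.Injective (fun (s : F.obj U) (x : (U : TopologicalSpace.Opens X)) => ShB.germ F x.1 x.2 s) ∧
    ∀ f : ∀ x : (U : TopologicalSpace.Opens X), ShB.Stalk F x.1,
      (∃ s : F.obj U, ∀ x, ShB.germ F x.1 x.2 s = f x) ↔
      ∀ x : (U : TopologicalSpace.Opens X), ∃ (V : B) (hxV : x.1 ∈ (V : TopologicalSpace.Opens X))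
        (hVU : (V : TopologicalSpace.Opens X) ≤ (U : TopologicalSpace.Opens X)) (σ : F.obj V),
        ∀ (y : X) (hy : y ∈ (V : TopologicalSpace.Opens X)), ShB.germ F y hy σ = f ⟨y, hVU hy⟩ := by
  have hsep := Groth.Agent.Lib.ShBasis.sep_of_isSheaf hB hF
  refine ⟨?_, ?_⟩
  · intro s s' h
    apply hsep
    intro x hx
    have hx' := congrFun h ⟨x, hx⟩
    obtain ⟨W, hxW, h1, h2, he⟩ :=
      (Groth.Agent.Lib.ShBasis.germ_eq_iff hB F hx hx s s').mp hx'
    exact ⟨W, h1, hxW, he⟩
  · intro f
    constructor
    · rintro ⟨s, hs⟩ x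
      exact ⟨U, x.2, le_rfl, s, fun y hy => hs ⟨y, hy⟩⟩
    · intro h
      choose V hxV hVU σ hσ using h
      obtain ⟨t, ht, -⟩ := Groth.Agent.Lib.ShBasis.glue_of_isSheaf hB hF U
        (U : TopologicalSpace.Opens X) V hVU
        (by
          intro x hx
          exact TopologicalSpace.Opens.mem_iSup.mpr ⟨⟨x, hx⟩, hxV ⟨x, hx⟩⟩)
        σ
        (by
          intro x y D h1 h2
          apply Groth.Agent.Lib.ShBasis.res_eq_of_local hsep
          intro z hz
          have e : ShB.germ F z (h1 hz) (σ x) = ShB.germ F z (h2 hz) (σ y) :=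
            (hσ x z (h1 hz)).trans (hσ y z (h2 hz)).symm
          obtain ⟨W, hzW, hW1, hW2, he⟩ :=
            (Groth.Agent.Lib.ShBasis.germ_eq_iff hB F (h1 hz) (h2 hz) (σ x) (σ y)).mp e
          obtain ⟨D', hzD', hD'⟩ := Groth.Agent.Lib.ShBasis.exists_basis_mem hB
            (show z ∈ (D : TopologicalSpace.Opens X) ⊓ (W : TopologicalSpace.Opens X) from ⟨hz, hzW⟩)
          refine ⟨D', hD'.trans inf_le_left, hzD', ?_⟩
          have hDW : (D' : TopologicalSpace.Opens X) ≤ W := hD'.trans inf_le_right
          have := congrArg (F.res hDW) he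
          rwa [F.res_comp, F.res_comp] at this)
      refine ⟨t, fun x => ?_⟩
      rw [← hσ x x.1 (hxV x), ← ht x]
      exact (Groth.Agent.Lib.ShBasis.germ_res F (hVU x) (hxV x) t).symm

end Groth.Agent.S7587
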