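import Groth.Statements.S7589
import Groth.Agent.Lib.H30FibBC
import Groth.Agent.Lib.CMFlat33

set_option autoImplicit false
universe u
open CategoryTheory CategoryTheory.Limits AlgebraicGeometry
attribute [local instance] Curv2.stalkAlgebra Curv2.resAlgebra
open Variety

namespace Groth.Agent.S7589
open Groth.Agent.Lib.H30DimField

theorem add_cancel_aux (c x y : WithBot ℕ∞) (h0 : 0 ≤ c) (h1 : c < ⊤) (h : c + x = c + y) :
    x = y := by
  lift c to ℕ∞ using (ne_bot_of_le_ne_bot (by simp) h0)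
  have hc : c ≠ ⊤ := by
    rintro rfl
    exact (lt_irrefl _ h1)
  lift c to ℕ using hc
  induction x using WithBot.recBotCoe with
  | bot =>
    induction y using WithBot.recBotCoe with
    | bot => rfl
    | coe y =>
      exfalso
      have h2 : ((c : ℕ∞) : WithBot ℕ∞) + (y : WithBot ℕ∞) = (((c : ℕ∞) + y : ℕ∞) : WithBot ℕ∞) := rfl
      rw [WithBot.add_bot] at h
      change ⊥ = ((c : ℕ∞) : WithBot ℕ∞) + (y : WithBot ℕ∞) at h
      rw [h2] at h
      exact WithBot.bot_ne_coe h
  | coe x =>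
    induction y using WithBot.recBotCoe with
    | bot =>
      exfalso
      have h2 : ((c : ℕ∞) : WithBot ℕ∞) + (x : WithBot ℕ∞) = (((c : ℕ∞) + x : ℕ∞) : WithBot ℕ∞) := rfl
      rw [WithBot.add_bot] at h
      change ((c : ℕ∞) : WithBot ℕ∞) + (x : WithBot ℕ∞) = ⊥ at h
      rw [h2] at h
      exact WithBot.coe_ne_bot h
    | coe y =>
      have h' : ((c : ℕ∞) + x) = ((c : ℕ∞) + y) := by exact_mod_cast h
      have := (ENat.add_right_injective_of_ne_top (ENat.natCast_ne_top c)) h'
      rw [this]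


/-- Let X be locally of finite type over a field k, K an extension field of k, y a point of the base
change X_K and x its image in X; write a = trdeg_k κ(x) and a' = trdeg_K κ(y). Then dim O_{X_K, y} +
a' = dim O_{X, x} + a, and the fibre ring O_{X_K, y} / m_x O_{X_K, y} has Krull dimension a - a' (in
particular a' ≤ a); dimensions in WithBot ℕ∞. -/
theorem result (k : Type u) [Field k] (X : Scheme.{u}) [X.Over (Spec (CommRingCat.of k))] [LocallyOfFiniteType (X ↘ (Spec (CommRingCat.of k)))]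
    (K : Type u) [Field K] [Algebra k K] (y : ↥(Curv2.bc k X K)) (a a' : ℕ)
    (ha : Algebra.trdeg k (X.residueField (Curv2.bcFst k X K y)) = a)
    (ha' : letI : (Curv2.bc k X K).Over (Spec (CommRingCat.of K)) := ⟨Curv2.bcSnd k X K⟩
      Algebra.trdeg K ((Curv2.bc k X K).residueField y) = a') :
    ringKrullDim ((Curv2.bc k X K).presheaf.stalk y) + (a' : WithBot ℕ∞) =
        ringKrullDim (X.presheaf.stalk (Curv2.bcFst k X K y)) + (a : WithBot ℕ∞) ∧
      ringKrullDim (↥((Curv2.bc k X K).presheaf.stalk y) ⧸ Ideal.map ((Curv2.bcFst k X K).stalkMap y).hom (IsLocalRing.maximalIdeal ↥(X.presheaf.stalk (Curv2.bcFst k X K y)))) + (a' : WithBot ℕ∞) =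
        (a : WithBot ℕ∞) := by
  letI iO : (Curv2.bc k X K).Over (Spec (CommRingCat.of K)) := ⟨Curv2.bcSnd k X K⟩
  haveI lft' : LocallyOfFiniteType ((Curv2.bc k X K) ↘ (Spec (CommRingCat.of K))) := by
    change LocallyOfFiniteType (Curv2.bcSnd k X K)
    infer_instance
  have hP : IsPullback (Curv2.bcFst k X K) (Curv2.bcSnd k X K) (X ↘ (Spec (CommRingCat.of k)))
      (Spec.map (CommRingCat.ofHom (algebraMap k K))) := IsPullback.of_hasPullback _ _
  have hloc := Groth.Agent.Lib.H30FibBC.localDim_eq_of_isPullback_field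
    (X ↘ (Spec (CommRingCat.of k))) (Curv2.bcSnd k X K) (Curv2.bcFst k X K)
    (Spec.map (CommRingCat.ofHom (algebraMap k K))) hP y
  rw [localDim_eq K (Curv2.bc k X K) y, localDim_eq k X (Curv2.bcFst k X K y)] at hloc
  have h1 : td k X (Curv2.bcFst k X K y) = a := (trdeg_eq_iff k X _ a).mp ha
  have h2 : td K (Curv2.bc k X K) y = a' := (trdeg_eq_iff K (Curv2.bc k X K) y a').mp ha'
  rw [h1, h2] at hloc
  simp only [Int.toNat_natCast] at hloc
  refine ⟨hloc, ?_⟩
  haveI : IsLocallyNoetherian X := isLocallyNoetherian k X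
  haveI : IsLocallyNoetherian (Curv2.bc k X K) := isLocallyNoetherian K (Curv2.bc k X K)
  haveI : Flat (Curv2.bcFst k X K) := MorphismProperty.of_isPullback hP.flip inferInstance
  have hflat : ((Curv2.bcFst k X K).stalkMap y).hom.Flat := Flat.stalkMap (Curv2.bcFst k X K) y
  have hdim := Groth.Agent.Lib.CMFlat33.ringKrullDim_eq_add' ((Curv2.bcFst k X K).stalkMap y).hom hflat
  rw [hdim] at hloc
  have hfin : ringKrullDim (X.presheaf.stalk (Curv2.bcFst k X K y)) < ⊤ := ringKrullDim_lt_top
  have hnn : 0 ≤ ringKrullDim (X.presheaf.stalk (Curv2.bcFst k X K y)) :=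
    ringKrullDim_nonneg_of_nontrivial
  rw [add_assoc] at hloc
  exact add_cancel_aux _ _ _ hnn hfin hloc

end Groth.Agent.S7589
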