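import Groth.Statements.S7594
import Groth.Agent.Lib.H77GeomIrr

set_option autoImplicit false
universe u
open CategoryTheory CategoryTheory.Limits AlgebraicGeometry
open Variety

namespace Groth.Agent.S7594

/-- A scheme X over a field k is geometrically irreducible over k precisely when the fibre product X ×_k
X of X with itself is an irreducible scheme. -/
theorem result (k : Type u) [Field k] (X : Scheme.{u}) [X.Over (Spec (CommRingCat.of k))] :
    GeometricallyIrreducible (X ↘ (Spec (CommRingCat.of k))) ↔ IrreducibleSpace ↥(pullback (X ↘ (Spec (CommRingCat.of k))) (X ↘ (Spec (CommRingCat.of k)))) := by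
  constructor
  · intro h
    have hX : IrreducibleSpace X :=
      GeometricallyIrreducible.irreducibleSpace_of_subsingleton (X ↘ (Spec (CommRingCat.of k)))
    infer_instance
  · intro h
    exact Groth.Agent.Lib.H77GeomIrr.geometricallyIrreducible_of_irreducibleSpace_pullback_self _

end Groth.Agent.S7594
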