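import Groth.Statements.S7595
import Mathlib.AlgebraicGeometry.Morphisms.UniversallyOpen

set_option autoImplicit false
universe u
open CategoryTheory CategoryTheory.Limits AlgebraicGeometry
open Variety

namespace Groth.Agent.S7595

/-- Let X be a scheme over a field k, K an extension field of k and T an irreducible component of X.
Then each point of the inverse image of T in X_K lies on some irreducible component of X_K that is
contained in this inverse image; so the inverse image of T is the union of the irreducible
components of X_K lying inside it. -/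
theorem result (k : Type u) [Field k] (X : Scheme.{u}) [X.Over (Spec (CommRingCat.of k))] (K : Type u) [Field K] [Algebra k K]
    (T : Set ↥X) (hT : T ∈ irreducibleComponents ↥X) :
    (Curv2.bcFst k X K).base ⁻¹' T = ⋃₀ {Z : Set ↥(Curv2.bc k X K) | Z ∈ irreducibleComponents ↥(Curv2.bc k X K) ∧ Z ⊆ (Curv2.bcFst k X K).base ⁻¹' T} := by
  have hgen : GeneralizingMap (Curv2.bcFst k X K) := Flat.generalizingMap _
  have hcont : Continuous (Curv2.bcFst k X K) := (Curv2.bcFst k X K).continuous
  have hTc : IsClosed T := isClosed_of_mem_irreducibleComponents T hT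
  obtain ⟨η, hη⟩ := QuasiSober.sober hT.1 hTc
  apply Set.Subset.antisymm
  · intro y hy
    have hy' : (Curv2.bcFst k X K) y ∈ T := hy
    have hηy : η ⤳ (Curv2.bcFst k X K) y := by
      rw [specializes_iff_mem_closure, hη.def]
      exact hy'
    obtain ⟨ξ', hξ'y, hξ'η⟩ := hgen hηy
    refine ⟨irreducibleComponent ξ', ⟨irreducibleComponent_mem_irreducibleComponents ξ', ?_⟩,
      hξ'y.mem_closed isClosed_irreducibleComponent mem_irreducibleComponent⟩
    obtain ⟨ξ, hξ⟩ := QuasiSober.sober (isIrreducible_irreducibleComponent (x := ξ'))
      isClosed_irreducibleComponent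
    have hξξ' : ξ ⤳ ξ' := by
      rw [specializes_iff_mem_closure, hξ.def]
      exact mem_irreducibleComponent
    have h1 : (Curv2.bcFst k X K) ξ ⤳ η := hξ'η ▸ hξξ'.map hcont
    have hsub : T ⊆ closure {(Curv2.bcFst k X K) ξ} := by
      rw [← hη.def]
      exact closure_minimal (Set.singleton_subset_iff.mpr h1.mem_closure) isClosed_closure
    have hirr : IsIrreducible (closure {(Curv2.bcFst k X K) ξ}) :=
      isIrreducible_singleton.closure
    have hξT : (Curv2.bcFst k X K) ξ ∈ T := hT.2 hirr hsub (subset_closure rfl)
    intro z hz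
    have hξz : ξ ⤳ z := by
      rw [specializes_iff_mem_closure, hξ.def]
      exact hz
    exact (hξz.map hcont).mem_closed hTc hξT
  · rintro y ⟨Z, ⟨-, hZ⟩, hyZ⟩
    exact hZ hyZ

end Groth.Agent.S7595
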