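-- Statement S7600.
import Groth.Statements.S7600
import Groth.Agent.Lib.GeomFieldExt
import Groth.Agent.Lib.H30NormalSmooth
import Mathlib

set_option autoImplicit false
universe u
open CategoryTheory CategoryTheory.Limits AlgebraicGeometry
open Variety

namespace Groth.Agent.S7600

section Helpers

/-- Normality descends along the stalk map of a flat morphism. -/
theorem normal_stalk_of_flat {W V : Scheme.{u}} (π : W ⟶ V) [Flat π] (w : W)
    (h : IsDomain (W.presheaf.stalk w) ∧ IsIntegrallyClosed (W.presheaf.stalk w)) :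
    IsDomain (V.presheaf.stalk (π w)) ∧ IsIntegrallyClosed (V.presheaf.stalk (π w)) := by
  algebraize [(π.stalkMap w).hom]
  have : Module.FaithfullyFlat (V.presheaf.stalk (π w)) (W.presheaf.stalk w) :=
    @Module.FaithfullyFlat.of_flat_of_isLocalHom _ _ _ _ _ _ _
      (Flat.stalkMap π w) (π.toLRSHom.prop w)
  exact Groth.Agent.Lib.H30NormalSmooth.normal_of_faithfullyFlat _ _ h

theorem normal_stalk_of_eq {W : Scheme.{u}} (a b : W) (hab : a = b)
    (h : IsDomain (W.presheaf.stalk a) ∧ IsIntegrallyClosed (W.presheaf.stalk a)) :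
    IsDomain (W.presheaf.stalk b) ∧ IsIntegrallyClosed (W.presheaf.stalk b) := by
  subst hab; exact h

theorem main (k : Type u) [Field k] (X : Scheme.{u}) [X.Over (Spec (CommRingCat.of k))] (k' : Type u) [Field k'] [Algebra k k'] (x' : ↥(Curv2.bc k X k'))
    (h : letI : (Curv2.bc k X k').Over (Spec (CommRingCat.of k')) := ⟨Curv2.bcSnd k X k'⟩
      ∀ (k'' : Type u) [Field k''] [Algebra k' k''] (x'' : ↥(Curv2.bc k' (Curv2.bc k X k') k'')), Curv2.bcFst k' (Curv2.bc k X k') k'' x'' = x' →
          IsDomain ↥((Curv2.bc k' (Curv2.bc k X k') k'').presheaf.stalk x'') ∧ IsIntegrallyClosed ↥((Curv2.bc k' (Curv2.bc k X k') k'').presheaf.stalk x'')) :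
    ∀ (K : Type u) [Field K] [Algebra k K] (y : ↥(Curv2.bc k X K)), Curv2.bcFst k X K y = (Curv2.bcFst k X k' x') →
          IsDomain ↥((Curv2.bc k X K).presheaf.stalk y) ∧ IsIntegrallyClosed ↥((Curv2.bc k X K).presheaf.stalk y) := by
  intro K _ _ y hy
  letI : (Curv2.bc k X k').Over (Spec (CommRingCat.of k')) := ⟨Curv2.bcSnd k X k'⟩
  -- the point t of X_K ×_X X_{k'}
  obtain ⟨t, ht1, ht2⟩ := Scheme.Pullback.exists_preimage_pullback
    (f := Curv2.bcFst k X K) (g := Curv2.bcFst k X k') y x' hy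
  let L := (pullback (Curv2.bcFst k X K) (Curv2.bcFst k X k')).residueField t
  let ι : Spec (CommRingCat.of L) ⟶ pullback (Curv2.bcFst k X K) (Curv2.bcFst k X k') :=
    (pullback (Curv2.bcFst k X K) (Curv2.bcFst k X k')).fromSpecResidueField t
  let α : Spec (CommRingCat.of L) ⟶ Spec (CommRingCat.of K) :=
    ι ≫ pullback.fst _ _ ≫ Curv2.bcSnd k X K
  let β : Spec (CommRingCat.of L) ⟶ Spec (CommRingCat.of k') :=
    ι ≫ pullback.snd _ _ ≫ Curv2.bcSnd k X k'
  let φK : K →+* L := (Spec.preimage α).hom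
  let φk' : k' →+* L := (Spec.preimage β).hom
  have hα : Spec.map (CommRingCat.ofHom φK) = α := Spec.map_preimage α
  have hβ : Spec.map (CommRingCat.ofHom φk') = β := Spec.map_preimage β
  letI : Algebra k' L := φk'.toAlgebra
  have hcomp : α ≫ Spec.map (CommRingCat.ofHom (algebraMap k K)) =
      β ≫ Spec.map (CommRingCat.ofHom (algebraMap k k')) := by
    simp only [α, β, Category.assoc]
    rw [← pullback.condition, ← pullback.condition, pullback.condition_assoc]
  -- the point x''
  let σ : Spec (CommRingCat.of L) ⟶ Curv2.bc k' (Curv2.bc k X k') L :=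
    pullback.lift (ι ≫ pullback.snd _ _) (𝟙 _) (by
      rw [Category.id_comp]
      exact hβ.symm)
  let pt : ↥(Spec (CommRingCat.of L)) := IsLocalRing.closedPoint L
  have hx'' : Curv2.bcFst k' (Curv2.bc k X k') L (σ pt) = x' := by
    rw [← Scheme.Hom.comp_apply, pullback.lift_fst, Scheme.Hom.comp_apply,
      Scheme.fromSpecResidueField_apply, ht2]
  have hn := h L (σ pt) hx''
  -- the morphism π : (X_{k'})_L ⟶ X_K
  have hαβ : Spec.map (CommRingCat.ofHom (algebraMap k' L)) ≫
      Spec.map (CommRingCat.ofHom (algebraMap k k')) =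
      Spec.map (CommRingCat.ofHom φK) ≫ Spec.map (CommRingCat.ofHom (algebraMap k K)) := by
    rw [hα, hcomp, ← hβ]
  have S1 := IsPullback.of_hasPullback (Curv2.bcSnd k X k')
    (Spec.map (CommRingCat.ofHom (algebraMap k' L)))
  have S2 := IsPullback.of_hasPullback (X ↘ Spec (CommRingCat.of k))
    (Spec.map (CommRingCat.ofHom (algebraMap k k')))
  have S3 := IsPullback.of_hasPullback (X ↘ Spec (CommRingCat.of k))
    (Spec.map (CommRingCat.ofHom (algebraMap k K)))
  have S12 := S1.paste_horiz S2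
  have hw : (pullback.fst (Curv2.bcSnd k X k') (Spec.map (CommRingCat.ofHom (algebraMap k' L))) ≫
      Curv2.bcFst k X k') ≫ (X ↘ Spec (CommRingCat.of k)) =
      (pullback.snd (Curv2.bcSnd k X k') (Spec.map (CommRingCat.ofHom (algebraMap k' L))) ≫
        Spec.map (CommRingCat.ofHom φK)) ≫ Spec.map (CommRingCat.ofHom (algebraMap k K)) := by
    rw [Category.assoc (pullback.snd _ _), ← hαβ]
    exact S12.w
  let π : Curv2.bc k' (Curv2.bc k X k') L ⟶ Curv2.bc k X K := pullback.lift _ _ hw
  have hπ1 : π ≫ Curv2.bcFst k X K = pullback.fst (Curv2.bcSnd k X k')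
      (Spec.map (CommRingCat.ofHom (algebraMap k' L))) ≫ Curv2.bcFst k X k' :=
    pullback.lift_fst _ _ hw
  have hπ2 : π ≫ Curv2.bcSnd k X K = pullback.snd (Curv2.bcSnd k X k')
      (Spec.map (CommRingCat.ofHom (algebraMap k' L))) ≫ Spec.map (CommRingCat.ofHom φK) :=
    pullback.lift_snd _ _ hw
  have Sq : IsPullback π (pullback.snd (Curv2.bcSnd k X k')
      (Spec.map (CommRingCat.ofHom (algebraMap k' L)))) (Curv2.bcSnd k X K)
      (Spec.map (CommRingCat.ofHom φK)) := by
    refine IsPullback.of_right ?_ hπ2 S3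
    rw [hπ1, ← hαβ]
    exact S12
  haveI : Flat π := MorphismProperty.of_isPullback Sq.flip inferInstance
  have hσ1 : σ ≫ pullback.fst (Curv2.bcSnd k X k')
      (Spec.map (CommRingCat.ofHom (algebraMap k' L))) = ι ≫ pullback.snd _ _ :=
    pullback.lift_fst _ _ _
  have hσ2 : σ ≫ pullback.snd (Curv2.bcSnd k X k')
      (Spec.map (CommRingCat.ofHom (algebraMap k' L))) = 𝟙 _ :=
    pullback.lift_snd _ _ _
  have hσπ : σ ≫ π = ι ≫ pullback.fst _ _ := by
    apply pullback.hom_ext
    · calc (σ ≫ π) ≫ Curv2.bcFst k X K = σ ≫ (π ≫ Curv2.bcFst k X K) := Category.assoc _ _ _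
        _ = σ ≫ (pullback.fst (Curv2.bcSnd k X k')
              (Spec.map (CommRingCat.ofHom (algebraMap k' L))) ≫ Curv2.bcFst k X k') :=
            congrArg (fun m => σ ≫ m) hπ1
        _ = (σ ≫ pullback.fst (Curv2.bcSnd k X k')
              (Spec.map (CommRingCat.ofHom (algebraMap k' L)))) ≫ Curv2.bcFst k X k' :=
            (Category.assoc _ _ _).symm
        _ = (ι ≫ pullback.snd _ _) ≫ Curv2.bcFst k X k' :=
            congrArg (fun m => m ≫ Curv2.bcFst k X k') hσ1
        _ = ι ≫ (pullback.snd _ _ ≫ Curv2.bcFst k X k') := Category.assoc _ _ _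
        _ = ι ≫ (pullback.fst _ _ ≫ Curv2.bcFst k X K) :=
            congrArg (fun m => ι ≫ m) pullback.condition.symm
        _ = (ι ≫ pullback.fst _ _) ≫ Curv2.bcFst k X K := (Category.assoc _ _ _).symm
    · calc (σ ≫ π) ≫ Curv2.bcSnd k X K = σ ≫ (π ≫ Curv2.bcSnd k X K) := Category.assoc _ _ _
        _ = σ ≫ (pullback.snd (Curv2.bcSnd k X k')
              (Spec.map (CommRingCat.ofHom (algebraMap k' L))) ≫
                Spec.map (CommRingCat.ofHom φK)) := congrArg (fun m => σ ≫ m) hπ2
        _ = (σ ≫ pullback.snd (Curv2.bcSnd k X k')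
              (Spec.map (CommRingCat.ofHom (algebraMap k' L)))) ≫
                Spec.map (CommRingCat.ofHom φK) := (Category.assoc _ _ _).symm
        _ = 𝟙 _ ≫ Spec.map (CommRingCat.ofHom φK) :=
            congrArg (fun m => m ≫ Spec.map (CommRingCat.ofHom φK)) hσ2
        _ = α := by rw [Category.id_comp, hα]
        _ = (ι ≫ pullback.fst _ _) ≫ Curv2.bcSnd k X K := (Category.assoc _ _ _).symm
  have h1 := normal_stalk_of_flat π (σ pt) hn
  refine normal_stalk_of_eq _ _ ?_ h1
  rw [← Scheme.Hom.comp_apply, hσπ, Scheme.Hom.comp_apply, Scheme.fromSpecResidueField_apply, ht1]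

end Helpers

/-- (2) ⇒ (1): let X be a scheme over a field k, k' an extension field of k and x' a point of X_{k'}
with image x in X. If X_{k'} is geometrically normal at x' over k' (for every extension field k'' of
k' and every point x'' of (X_{k'})_{k''} over x' the local ring at x'' is an integrally closed
domain), then X is geometrically normal at x over k. -/
theorem result (k : Type u) [Field k] (X : Scheme.{u}) [X.Over (Spec (CommRingCat.of k))] (k' : Type u) [Field k'] [Algebra k k'] (x' : ↥(Curv2.bc k X k'))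
    (h : letI : (Curv2.bc k X k').Over (Spec (CommRingCat.of k')) := ⟨Curv2.bcSnd k X k'⟩
      ∀ (k'' : Type u) [Field k''] [Algebra k' k''] (x'' : ↥(Curv2.bc k' (Curv2.bc k X k') k'')), Curv2.bcFst k' (Curv2.bc k X k') k'' x'' = x' →
          IsDomain ↥((Curv2.bc k' (Curv2.bc k X k') k'').presheaf.stalk x'') ∧ IsIntegrallyClosed ↥((Curv2.bc k' (Curv2.bc k X k') k'').presheaf.stalk x'')) :
    ∀ (K : Type u) [Field K] [Algebra k K] (y : ↥(Curv2.bc k X K)), Curv2.bcFst k X K y = (Curv2.bcFst k X k' x') →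
          IsDomain ↥((Curv2.bc k X K).presheaf.stalk y) ∧ IsIntegrallyClosed ↥((Curv2.bc k X K).presheaf.stalk y) := by
  exact main k X k' x' h

end Groth.Agent.S7600
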