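-- Statement S7601.
import Groth.Statements.S7601
import Groth.Agent.S7599
import Groth.Agent.Lib.H30StalkProd
import Groth.Agent.Lib.H30GeomNormalTensor
import Groth.Agent.Lib.H14NormalConn
import Mathlib

set_option autoImplicit false
universe u
open CategoryTheory CategoryTheory.Limits AlgebraicGeometry
open Variety

namespace Groth.Agent.S7601

section Helpers
attribute [local instance] Curv2.stalkAlgebra
open scoped TensorProduct

theorem main (k : Type u) [Field k] (X : Scheme.{u}) [X.Over (Spec (CommRingCat.of k))] (Y : Scheme.{u}) [Y.Over (Spec (CommRingCat.of k))]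
    (hX : ∀ (K : Type u) [Field K] [Algebra k K], Pi1.IsNormalScheme (Curv2.bc k X K)) (hY : Pi1.IsNormalScheme Y) :
    Pi1.IsNormalScheme (pullback (X ↘ (Spec (CommRingCat.of k))) (Y ↘ (Spec (CommRingCat.of k)))) := by
  intro z
  have h3 := Groth.Agent.S7599.tensor_of_pi k X
    (pullback.fst (X ↘ (Spec (CommRingCat.of k))) (Y ↘ (Spec (CommRingCat.of k))) z)
    (fun k' _ _ _ _ x' _ => hX k' x')
  have hG : EGA4.IsGeomNormal k (X.presheaf.stalk
      (pullback.fst (X ↘ (Spec (CommRingCat.of k))) (Y ↘ (Spec (CommRingCat.of k))) z)) :=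
    fun k' _ _ _ => h3 k'
  obtain ⟨hd, hic⟩ := hY (pullback.snd (X ↘ (Spec (CommRingCat.of k))) (Y ↘ (Spec (CommRingCat.of k))) z)
  haveI := hd
  haveI := hic
  have hB : EGA4.IsNormalRing (Y.presheaf.stalk
      (pullback.snd (X ↘ (Spec (CommRingCat.of k))) (Y ↘ (Spec (CommRingCat.of k))) z)) :=
    Groth.Agent.Lib.H14NormalConn.isNormalRing_of_isIntegrallyClosed _
  have hT := Groth.Agent.Lib.H30GeomNormalTensor.isNormalRing_tensor_of_isGeomNormal k _ _ hG hB
  exact Groth.Agent.Lib.H30StalkProd.normal_stalk_pullback k X Y z _ _ rfl rfl hT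

end Helpers

/-- Let X be a geometrically normal scheme over a field k (X_K is a normal scheme for every extension
field K of k) and Y a normal scheme over k. Then X ×_k Y is a normal scheme. -/
theorem result (k : Type u) [Field k] (X : Scheme.{u}) [X.Over (Spec (CommRingCat.of k))] (Y : Scheme.{u}) [Y.Over (Spec (CommRingCat.of k))]
    (hX : ∀ (K : Type u) [Field K] [Algebra k K], Pi1.IsNormalScheme (Curv2.bc k X K)) (hY : Pi1.IsNormalScheme Y) :
    Pi1.IsNormalScheme (pullback (X ↘ (Spec (CommRingCat.of k))) (Y ↘ (Spec (CommRingCat.of k)))) := by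
  exact main k X Y hX hY

end Groth.Agent.S7601
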