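-- Statement S7602.
import Groth.Statements.S7602
import Groth.Agent.S2690
import Groth.Agent.Lib.H30GeomNormalPt
import Groth.Agent.Lib.H14NormalConn
import Mathlib

set_option autoImplicit false
universe u
open CategoryTheory CategoryTheory.Limits AlgebraicGeometry
open Variety

namespace Groth.Agent.S7602

section Helpers
attribute [local instance] Curv2.stalkAlgebra
open scoped TensorProduct
open Groth.Agent.Lib.H71GeomRedAt Groth.Agent.Lib.H30GeomNormalPt

theorem of_tensor_one (k : Type u) [Field k] (X : Scheme.{u}) [X.Over (Spec (CommRingCat.of k))] (x : ↥X)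
    (k' : Type u) [Field k'] [Algebra k k']
    (h3 : EGA4.IsNormalRing (k' ⊗[k] ↥(X.presheaf.stalk x)))
    (x' : ↥(Curv2.bc k X k')) (hx' : Curv2.bcFst k X k' x' = x) :
    IsDomain ↥((Curv2.bc k X k').presheaf.stalk x') ∧
      IsIntegrallyClosed ↥((Curv2.bc k X k').presheaf.stalk x') := by
  have hR : EGA4.IsNormalRing (X.presheaf.stalk x ⊗[k] k') :=
    Groth.Agent.Lib.H30GeomNormal.isNormalRing_of_ringEquiv
      (Algebra.TensorProduct.comm k k' (X.presheaf.stalk x)).toRingEquiv h3
  obtain ⟨w, hw1, hw2⟩ := Scheme.Pullback.exists_preimage_pullback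
    (f := X.fromSpecStalk x) (g := Curv2.bcFst k X k')
    (IsLocalRing.closedPoint (X.presheaf.stalk x)) x'
    (by rw [Scheme.fromSpecStalk_closedPoint, hx'])
  subst hw2
  let p : PrimeSpectrum (X.presheaf.stalk x ⊗[k] k') := (isoSpecTensor k X x k').hom w
  haveI := p.isPrime
  obtain ⟨eq⟩ := nonempty_stalk_equiv k X x k' w p.asIdeal rfl
  exact Groth.Agent.Lib.H30NormalSmooth.normal_of_ringEquiv eq.symm (hR p.asIdeal)

theorem isGeometricallyReduced_of_scheme (k K : Type u) [Field k] [Field K] [Algebra k K]
    [GeometricallyReduced (Spec.map (CommRingCat.ofHom (algebraMap k K)))] :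
    Algebra.IsGeometricallyReduced k K := by
  rw [Algebra.isGeometricallyReduced_field_iff]
  have h1 : IsReduced (pullback (Spec.map (CommRingCat.ofHom (algebraMap k K)))
      (Spec.map (CommRingCat.ofHom (algebraMap k (AlgebraicClosure k))))) :=
    pullback_of_geometrically (GeometricallyReduced.geometrically_isReduced) (AlgebraicClosure k) _
  have h2 : IsReduced (Spec (CommRingCat.of (K ⊗[k] AlgebraicClosure k))) :=
    isReduced_of_isOpenImmersion (pullbackSpecIso k K (AlgebraicClosure k)).inv
  have h3 : _root_.IsReduced (K ⊗[k] AlgebraicClosure k) := (affine_isReduced_iff _).mp h2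
  exact isReduced_of_injective (Algebra.TensorProduct.comm k (AlgebraicClosure k) K).toRingHom
    (Algebra.TensorProduct.comm k (AlgebraicClosure k) K).injective

theorem main (k : Type u) [Field k] (X : Scheme.{u}) [X.Over (Spec (CommRingCat.of k))] (hX : Pi1.IsNormalScheme X)
    (K : Type u) [Field K] [Algebra k K] [GeometricallyReduced (Spec.map (CommRingCat.ofHom (algebraMap k K)))] :
    Pi1.IsNormalScheme (Curv2.bc k X K) := by
  intro y
  haveI : Algebra.IsGeometricallyReduced k K := isGeometricallyReduced_of_scheme k K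
  obtain ⟨hd, hic⟩ := hX (Curv2.bcFst k X K y)
  haveI := hd
  haveI := hic
  have hR : EGA4.IsNormalRing (X.presheaf.stalk (Curv2.bcFst k X K y)) :=
    Groth.Agent.Lib.H14NormalConn.isNormalRing_of_isIntegrallyClosed _
  have h3 : EGA4.IsNormalRing (K ⊗[k] X.presheaf.stalk (Curv2.bcFst k X K y)) :=
    Groth.Agent.S2690.result k _ K hR
  exact of_tensor_one k X _ K h3 y rfl

end Helpers

/-- Let X be a normal scheme over a field k and K an extension field of k which is separable over k in
the sense that Spec K → Spec k is geometrically reduced (K ⊗_k k' reduced for every field k' over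
k). Then X_K is a normal scheme. -/
theorem result (k : Type u) [Field k] (X : Scheme.{u}) [X.Over (Spec (CommRingCat.of k))] (hX : Pi1.IsNormalScheme X)
    (K : Type u) [Field K] [Algebra k K] [GeometricallyReduced (Spec.map (CommRingCat.ofHom (algebraMap k K)))] :
    Pi1.IsNormalScheme (Curv2.bc k X K) := by
  exact main k X hX K

end Groth.Agent.S7602
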