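import Groth.Statements.S7603
import Groth.Agent.Lib.NoethTop
import Mathlib.AlgebraicGeometry.Noetherian

set_option autoImplicit false
universe u
open CategoryTheory CategoryTheory.Limits AlgebraicGeometry
open Variety

namespace Groth.Agent.S7603

/-- If the local ring at `x` is a domain, the irreducible component through `x` is unique. -/
theorem eq_closure_of_mem_irreducibleComponents (X : Scheme.{u}) (x : X)
    [IsDomain (X.presheaf.stalk x)] (Z : Set X) (hZ : Z ∈ irreducibleComponents X) (hxZ : x ∈ Z) :
    Z = closure {X.fromSpecStalk x (⊥ : PrimeSpectrum (X.presheaf.stalk x))} := by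
  have hZc : IsClosed Z := isClosed_of_mem_irreducibleComponents Z hZ
  obtain ⟨η, hη⟩ := QuasiSober.sober hZ.1 hZc
  have hηx : η ⤳ x := by
    rw [specializes_iff_mem_closure, hη.def]
    exact hxZ
  have hmem : η ∈ Set.range (X.fromSpecStalk x) := by
    rw [Scheme.range_fromSpecStalk]
    exact hηx
  obtain ⟨q, hq⟩ := hmem
  have hbq : (⊥ : PrimeSpectrum (X.presheaf.stalk x)) ⤳ (q : PrimeSpectrum (X.presheaf.stalk x)) :=
    (PrimeSpectrum.le_iff_specializes _ _).mp bot_le
  have hsp : X.fromSpecStalk x (⊥ : PrimeSpectrum (X.presheaf.stalk x)) ⤳ η :=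
    hq ▸ hbq.map (X.fromSpecStalk x).continuous
  have hsub : Z ⊆ closure {X.fromSpecStalk x (⊥ : PrimeSpectrum (X.presheaf.stalk x))} := by
    rw [← hη.def]
    exact closure_minimal (Set.singleton_subset_iff.mpr hsp.mem_closure) isClosed_closure
  have hirr : IsIrreducible
      (closure {X.fromSpecStalk x (⊥ : PrimeSpectrum (X.presheaf.stalk x))}) :=
    isIrreducible_singleton.closure
  exact le_antisymm hsub (hZ.2 hirr hsub)

/-- In a scheme all of whose local rings are domains, distinct irreducible components are disjoint. -/
theorem pairwiseDisjoint_irreducibleComponents (X : Scheme.{u})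
    (h : ∀ x : X, IsDomain (X.presheaf.stalk x)) :
    (irreducibleComponents X).PairwiseDisjoint id := by
  intro Z₁ hZ₁ Z₂ hZ₂ hne
  rw [Function.onFun, Set.disjoint_left]
  intro x hx₁ hx₂
  have := h x
  exact hne ((eq_closure_of_mem_irreducibleComponents X x Z₁ hZ₁ hx₁).trans
    (eq_closure_of_mem_irreducibleComponents X x Z₂ hZ₂ hx₂).symm)

/-- A connected locally Noetherian scheme whose local rings are domains is irreducible. -/
theorem irreducibleSpace_of_connected (X : Scheme.{u}) [IsLocallyNoetherian X] [ConnectedSpace X]
    (h : ∀ x : X, IsDomain (X.presheaf.stalk x)) : IrreducibleSpace X := by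
  have hloc : ∀ x : X, ∃ U ∈ nhds x, TopologicalSpace.NoetherianSpace U := by
    intro x
    obtain ⟨U, hU, hxU, -⟩ := TopologicalSpace.Opens.isBasis_iff_nbhd.mp X.isBasis_affineOpens
      (show x ∈ (⊤ : X.Opens) from trivial)
    have : IsNoetherianRing Γ(X, U) := IsLocallyNoetherian.component_noetherian ⟨U, hU⟩
    exact ⟨U, U.2.mem_nhds hxU, noetherianSpace_of_isAffineOpen U hU⟩
  have hd := pairwiseDisjoint_irreducibleComponents X h
  have h3 : ∀ x : X, IsIrreducible (connectedComponent x) :=
    ((Groth.Agent.Lib.NoethTop.tfae_irreducibleComponents_open hloc).out 3 2).mp hd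
  obtain ⟨x⟩ := (inferInstance : Nonempty X)
  have := h3 x
  rw [PreconnectedSpace.connectedComponent_eq_univ] at this
  exact { isPreirreducible_univ := this.2, toNonempty := ⟨x⟩ }


/-- (2) ⇔ (3): let X be a proper scheme over a field k which is geometrically normal (X_K is a normal
scheme for every extension field K of k). Then X is geometrically connected over k exactly when it
is geometrically irreducible over k. (The published statement lists geometric integrality as a
further equivalent condition; given geometric normality it is equivalent to geometric irreducibility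
by a direct argument, so this row omits it.) -/
theorem result (k : Type u) [Field k] (X : Scheme.{u}) [X.Over (Spec (CommRingCat.of k))] [IsProper (X ↘ (Spec (CommRingCat.of k)))]
    (hX : ∀ (K : Type u) [Field K] [Algebra k K], Pi1.IsNormalScheme (Curv2.bc k X K)) :
    GeometricallyConnected (X ↘ (Spec (CommRingCat.of k))) ↔ GeometricallyIrreducible (X ↘ (Spec (CommRingCat.of k))) := by
  rw [geometricallyConnected_iff, geometricallyIrreducible_iff,
    geometrically_iff_of_commRing_of_isClosedUnderIsomorphisms,
    geometrically_iff_of_commRing_of_isClosedUnderIsomorphisms]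
  constructor
  · intro h K _ _
    have := h K
    exact irreducibleSpace_of_connected _ (fun x => (hX K x).1)
  · intro h K _ _
    have := h K
    infer_instance

end Groth.Agent.S7603
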