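-- Statement S7605.
import Groth.Statements.S7605

import Mathlib

set_option autoImplicit false
universe u
open CategoryTheory CategoryTheory.Limits AlgebraicGeometry
open Variety

namespace Groth.Agent.S7605

section Helpers
open TensorProduct

theorem noeth_tensor_iff (k A k' : Type u) [Field k] [CommRing A] [Algebra k A] [Field k']
    [Algebra k k'] (hfg : (⊤ : IntermediateField k k').FG) :
    IsNoetherianRing A ↔ IsNoetherianRing (A ⊗[k] k') := by
  haveI : Algebra.EssFiniteType k k' := IntermediateField.fg_top_iff.mp hfg
  constructor
  · intro _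
    exact Algebra.EssFiniteType.isNoetherianRing A (A ⊗[k] k')
  · intro hN
    haveI : Module.FaithfullyFlat A (A ⊗[k] k') := inferInstance
    rw [isNoetherianRing_iff_ideal_fg]
    intro I
    exact Ideal.FG.of_FG_map_of_faithfullyFlat (S := A ⊗[k] k')
      ((isNoetherianRing_iff_ideal_fg _).mp hN _)

theorem isLocallyNoetherian_iff_of_iso {X Y : Scheme.{u}} (e : X ≅ Y) :
    IsLocallyNoetherian X ↔ IsLocallyNoetherian Y :=
  ⟨fun _ => isLocallyNoetherian_of_isOpenImmersion e.inv,
    fun _ => isLocallyNoetherian_of_isOpenImmersion e.hom⟩

theorem affine_case (k : Type u) [Field k] (R : CommRingCat.{u})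
    (f : Spec R ⟶ Spec (CommRingCat.of k)) (k' : Type u) [Field k'] [Algebra k k']
    (hfg : (⊤ : IntermediateField k k').FG) :
    IsLocallyNoetherian (Spec R) ↔
      IsLocallyNoetherian (pullback f (Spec.map (CommRingCat.ofHom (algebraMap k k')))) := by
  letI : Algebra k R := (Spec.preimage f).hom.toAlgebra
  have hf : Spec.map (CommRingCat.ofHom (algebraMap k R)) = f := Spec.map_preimage f
  have e := pullbackSpecIso k R k'
  rw [hf] at e
  rw [isLocallyNoetherian_iff_of_iso e, isLocallyNoetherian_Spec, isLocallyNoetherian_Spec]
  exact noeth_tensor_iff k R k' hfg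

end Helpers

/-- For a scheme X over a field k and a finitely generated field extension k' of k, local Noetherianity
of X is equivalent to local Noetherianity of its base change X_{k'}. -/
theorem result (k : Type u) [Field k] (X : Scheme.{u}) [X.Over (Spec (CommRingCat.of k))] (k' : Type u) [Field k'] [Algebra k k']
    (hfg : (⊤ : IntermediateField k k').FG) :
    IsLocallyNoetherian X ↔ IsLocallyNoetherian (Curv2.bc k X k') := by
  rw [isLocallyNoetherian_iff_openCover X.affineCover,
    isLocallyNoetherian_iff_openCover (Scheme.Pullback.openCoverOfLeft X.affineCover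
      (X ↘ (Spec (CommRingCat.of k))) (Spec.map (CommRingCat.ofHom (algebraMap k k'))))]
  refine forall_congr' fun i => ?_
  exact affine_case k _ _ k' hfg

end Groth.Agent.S7605
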