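-- Statement S7607.
import Groth.Statements.S7607
import Groth.Agent.Lib.GeomFieldExt
import Groth.Agent.Lib.H87Serre2
import Mathlib

set_option autoImplicit false
universe u
open CategoryTheory CategoryTheory.Limits AlgebraicGeometry
open Variety

namespace Groth.Agent.S7607

/-- Regularity descends along the stalk map of a flat morphism. -/
theorem regular_stalk_of_flat {W V : Scheme.{u}} (π : W ⟶ V) [Flat π] (w : W)
    (h : IsRegularLocalRing (W.presheaf.stalk w)) :
    IsRegularLocalRing (V.presheaf.stalk (π w)) := by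
  algebraize [(π.stalkMap w).hom]
  have hloc : IsLocalHom (algebraMap (V.presheaf.stalk (π w)) (W.presheaf.stalk w)) :=
    π.toLRSHom.prop w
  have hfl : Module.Flat (V.presheaf.stalk (π w)) (W.presheaf.stalk w) := Flat.stalkMap π w
  have : Module.FaithfullyFlat (V.presheaf.stalk (π w)) (W.presheaf.stalk w) :=
    Module.FaithfullyFlat.of_flat_of_isLocalHom
  have hN : IsNoetherianRing (V.presheaf.stalk (π w)) := by
    rw [isNoetherianRing_iff_ideal_fg]
    intro I
    exact Ideal.FG.of_FG_map_of_faithfullyFlat (S := W.presheaf.stalk w)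
      ((isNoetherianRing_iff_ideal_fg _).mp inferInstance _)
  exact Groth.Agent.Lib.H87Serre2.isRegularLocalRing_of_flat _ (W.presheaf.stalk w)

theorem regular_stalk_of_eq {W : Scheme.{u}} (a b : W) (hab : a = b)
    (h : IsRegularLocalRing (W.presheaf.stalk a)) :
    IsRegularLocalRing (W.presheaf.stalk b) := by
  subst hab; exact h

/-- Field-theoretic input: inside a field `L₀` containing `k'` and (via `φ`) a f.g. extension `K` of
`k`, the subfield generated by `k'` and `φ(K)` is f.g. over `k'`. -/
theorem exists_fg_compositum (k K k' L₀ : Type u) [Field k] [Field K] [Field k'] [Field L₀]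
    [Algebra k K] [Algebra k k'] [Algebra k' L₀] (φ : K →+* L₀)
    (hφ : φ.comp (algebraMap k K) = (algebraMap k' L₀).comp (algebraMap k k'))
    (hK : (⊤ : IntermediateField k K).FG) :
    ∃ L : IntermediateField k' L₀, (⊤ : IntermediateField k' L).FG ∧ ∀ x : K, φ x ∈ L := by
  obtain ⟨s, hs⟩ := hK
  letI : Algebra k L₀ := ((algebraMap k' L₀).comp (algebraMap k k')).toAlgebra
  haveI : IsScalarTower k k' L₀ := IsScalarTower.of_algebraMap_eq' rfl
  let φa : K →ₐ[k] L₀ := { φ with commutes' := fun a => RingHom.congr_fun hφ a }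
  refine ⟨IntermediateField.adjoin k' (φ '' (s : Set K)), ?_, ?_⟩
  · have h1 : (IntermediateField.adjoin k' (φ '' (s : Set K))).FG :=
      IntermediateField.fg_adjoin_of_finite (s.finite_toSet.image _)
    haveI : Algebra.EssFiniteType k' (IntermediateField.adjoin k' (φ '' (s : Set K))) :=
      IntermediateField.essFiniteType_iff.mpr h1
    exact IntermediateField.fg_top_iff.mpr inferInstance
  · intro x
    have hx : x ∈ IntermediateField.adjoin k (s : Set K) := by rw [hs]; trivial
    have h2 : φa x ∈ (IntermediateField.adjoin k (s : Set K)).map φa :=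
      ⟨x, hx, rfl⟩
    rw [IntermediateField.adjoin_map] at h2
    have h3 : IntermediateField.adjoin k (φa '' (s : Set K)) ≤
        (IntermediateField.adjoin k' (φ '' (s : Set K))).restrictScalars k := by
      rw [IntermediateField.adjoin_le_iff]
      intro y hy
      exact IntermediateField.subset_adjoin k' _ hy
    exact h3 h2

theorem main (k : Type u) [Field k] (X : Scheme.{u}) [X.Over (Spec (CommRingCat.of k))] (k' : Type u) [Field k'] [Algebra k k']
    (x' : ↥(Curv2.bc k X k'))
    (h : @Curv2.IsGeomRegularAt k' _ (Curv2.bc k X k') ⟨Curv2.bcSnd k X k'⟩ x') :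
    Curv2.IsGeomRegularAt k X (Curv2.bcFst k X k' x') := by
  intro K _ _ hK y hy
  letI : (Curv2.bc k X k').Over (Spec (CommRingCat.of k')) := ⟨Curv2.bcSnd k X k'⟩
  -- the point t of X_K ×_X X_{k'}
  obtain ⟨t, ht1, ht2⟩ := Scheme.Pullback.exists_preimage_pullback
    (f := Curv2.bcFst k X K) (g := Curv2.bcFst k X k') y x' hy
  let L₀ := (pullback (Curv2.bcFst k X K) (Curv2.bcFst k X k')).residueField t
  let ι : Spec (CommRingCat.of L₀) ⟶ pullback (Curv2.bcFst k X K) (Curv2.bcFst k X k') :=
    (pullback (Curv2.bcFst k X K) (Curv2.bcFst k X k')).fromSpecResidueField t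
  let α : Spec (CommRingCat.of L₀) ⟶ Spec (CommRingCat.of K) :=
    ι ≫ pullback.fst _ _ ≫ Curv2.bcSnd k X K
  let β : Spec (CommRingCat.of L₀) ⟶ Spec (CommRingCat.of k') :=
    ι ≫ pullback.snd _ _ ≫ Curv2.bcSnd k X k'
  let φK : K →+* L₀ := (Spec.preimage α).hom
  let φk' : k' →+* L₀ := (Spec.preimage β).hom
  have hα : Spec.map (CommRingCat.ofHom φK) = α := Spec.map_preimage α
  have hβ : Spec.map (CommRingCat.ofHom φk') = β := Spec.map_preimage β
  letI : Algebra k' L₀ := φk'.toAlgebra
  have hcomp : α ≫ Spec.map (CommRingCat.ofHom (algebraMap k K)) =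
      β ≫ Spec.map (CommRingCat.ofHom (algebraMap k k')) := by
    simp only [α, β, Category.assoc]
    rw [← pullback.condition, ← pullback.condition, pullback.condition_assoc]
  have hφ : φK.comp (algebraMap k K) = (algebraMap k' L₀).comp (algebraMap k k') := by
    have h1 : Spec.map (CommRingCat.ofHom (φK.comp (algebraMap k K))) =
        Spec.map (CommRingCat.ofHom ((algebraMap k' L₀).comp (algebraMap k k'))) := by
      rw [CommRingCat.ofHom_comp, CommRingCat.ofHom_comp, Spec.map_comp, Spec.map_comp, hα, hcomp,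
        ← hβ]
    have h2 := Spec.map_injective h1
    exact congrArg CommRingCat.Hom.hom h2
  obtain ⟨L, hLfg, hL⟩ := exists_fg_compositum k K k' L₀ φK hφ hK
  let φL : K →+* L := φK.codRestrict L hL
  let j : (L : Type u) →+* L₀ := algebraMap L L₀
  have hjφ : j.comp φL = φK := rfl
  have hjk' : j.comp (algebraMap k' L) = φk' := rfl
  have hφL : φL.comp (algebraMap k K) = (algebraMap k' L).comp (algebraMap k k') := by
    apply RingHom.ext
    intro a
    apply (algebraMap L L₀).injective
    exact RingHom.congr_fun hφ a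
  -- the point x''
  let σ : Spec (CommRingCat.of L₀) ⟶ Curv2.bc k' (Curv2.bc k X k') L :=
    pullback.lift (ι ≫ pullback.snd _ _) (Spec.map (CommRingCat.ofHom j)) (by
      rw [← Spec.map_comp, ← CommRingCat.ofHom_comp, hjk', hβ, Category.assoc]
      rfl)
  let pt : ↥(Spec (CommRingCat.of L₀)) := IsLocalRing.closedPoint L₀
  have hx'' : Curv2.bcFst k' (Curv2.bc k X k') L (σ pt) = x' := by
    rw [← Scheme.Hom.comp_apply, pullback.lift_fst, Scheme.Hom.comp_apply,
      Scheme.fromSpecResidueField_apply, ht2]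
  have hn := h L hLfg (σ pt) hx''
  -- the morphism π : (X_{k'})_L ⟶ X_K
  have hαβ : Spec.map (CommRingCat.ofHom (algebraMap k' L)) ≫
      Spec.map (CommRingCat.ofHom (algebraMap k k')) =
      Spec.map (CommRingCat.ofHom φL) ≫ Spec.map (CommRingCat.ofHom (algebraMap k K)) := by
    rw [← Spec.map_comp, ← Spec.map_comp, ← CommRingCat.ofHom_comp, ← CommRingCat.ofHom_comp, hφL]
  have S1 := IsPullback.of_hasPullback (Curv2.bcSnd k X k')
    (Spec.map (CommRingCat.ofHom (algebraMap k' L)))
  have S2 := IsPullback.of_hasPullback (X ↘ Spec (CommRingCat.of k))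
    (Spec.map (CommRingCat.ofHom (algebraMap k k')))
  have S3 := IsPullback.of_hasPullback (X ↘ Spec (CommRingCat.of k))
    (Spec.map (CommRingCat.ofHom (algebraMap k K)))
  have S12 := S1.paste_horiz S2
  have hw : (pullback.fst (Curv2.bcSnd k X k') (Spec.map (CommRingCat.ofHom (algebraMap k' L))) ≫
      Curv2.bcFst k X k') ≫ (X ↘ Spec (CommRingCat.of k)) =
      (pullback.snd (Curv2.bcSnd k X k') (Spec.map (CommRingCat.ofHom (algebraMap k' L))) ≫
        Spec.map (CommRingCat.ofHom φL)) ≫ Spec.map (CommRingCat.ofHom (algebraMap k K)) := by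
    rw [Category.assoc (pullback.snd _ _), ← hαβ]
    exact S12.w
  let π : Curv2.bc k' (Curv2.bc k X k') L ⟶ Curv2.bc k X K := pullback.lift _ _ hw
  have hπ1 : π ≫ Curv2.bcFst k X K = pullback.fst (Curv2.bcSnd k X k')
      (Spec.map (CommRingCat.ofHom (algebraMap k' L))) ≫ Curv2.bcFst k X k' :=
    pullback.lift_fst _ _ hw
  have hπ2 : π ≫ Curv2.bcSnd k X K = pullback.snd (Curv2.bcSnd k X k')
      (Spec.map (CommRingCat.ofHom (algebraMap k' L))) ≫ Spec.map (CommRingCat.ofHom φL) :=
    pullback.lift_snd _ _ hw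
  have Sq : IsPullback π (pullback.snd (Curv2.bcSnd k X k')
      (Spec.map (CommRingCat.ofHom (algebraMap k' L)))) (Curv2.bcSnd k X K)
      (Spec.map (CommRingCat.ofHom φL)) := by
    refine IsPullback.of_right ?_ hπ2 S3
    rw [hπ1, ← hαβ]
    exact S12
  haveI : Flat π := MorphismProperty.of_isPullback Sq.flip inferInstance
  have hσ1 : σ ≫ pullback.fst (Curv2.bcSnd k X k')
      (Spec.map (CommRingCat.ofHom (algebraMap k' L))) = ι ≫ pullback.snd _ _ :=
    pullback.lift_fst _ _ _
  have hσ2 : σ ≫ pullback.snd (Curv2.bcSnd k X k')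
      (Spec.map (CommRingCat.ofHom (algebraMap k' L))) = Spec.map (CommRingCat.ofHom j) :=
    pullback.lift_snd _ _ _
  have hσπ : σ ≫ π = ι ≫ pullback.fst _ _ := by
    apply pullback.hom_ext
    · calc (σ ≫ π) ≫ Curv2.bcFst k X K = σ ≫ (π ≫ Curv2.bcFst k X K) := Category.assoc _ _ _
        _ = σ ≫ (pullback.fst (Curv2.bcSnd k X k')
              (Spec.map (CommRingCat.ofHom (algebraMap k' L))) ≫ Curv2.bcFst k X k') :=
            congrArg (fun m => σ ≫ m) hπ1
        _ = (σ ≫ pullback.fst (Curv2.bcSnd k X k')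
              (Spec.map (CommRingCat.ofHom (algebraMap k' L)))) ≫ Curv2.bcFst k X k' :=
            (Category.assoc _ _ _).symm
        _ = (ι ≫ pullback.snd _ _) ≫ Curv2.bcFst k X k' :=
            congrArg (fun m => m ≫ Curv2.bcFst k X k') hσ1
        _ = ι ≫ (pullback.snd _ _ ≫ Curv2.bcFst k X k') := Category.assoc _ _ _
        _ = ι ≫ (pullback.fst _ _ ≫ Curv2.bcFst k X K) :=
            congrArg (fun m => ι ≫ m) pullback.condition.symm
        _ = (ι ≫ pullback.fst _ _) ≫ Curv2.bcFst k X K := (Category.assoc _ _ _).symm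
    · calc (σ ≫ π) ≫ Curv2.bcSnd k X K = σ ≫ (π ≫ Curv2.bcSnd k X K) := Category.assoc _ _ _
        _ = σ ≫ (pullback.snd (Curv2.bcSnd k X k')
              (Spec.map (CommRingCat.ofHom (algebraMap k' L))) ≫
                Spec.map (CommRingCat.ofHom φL)) := congrArg (fun m => σ ≫ m) hπ2
        _ = (σ ≫ pullback.snd (Curv2.bcSnd k X k')
              (Spec.map (CommRingCat.ofHom (algebraMap k' L)))) ≫
                Spec.map (CommRingCat.ofHom φL) := (Category.assoc _ _ _).symm
        _ = Spec.map (CommRingCat.ofHom j) ≫ Spec.map (CommRingCat.ofHom φL) :=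
            congrArg (fun m => m ≫ Spec.map (CommRingCat.ofHom φL)) hσ2
        _ = α := by rw [← Spec.map_comp, ← CommRingCat.ofHom_comp, hjφ, hα]
        _ = (ι ≫ pullback.fst _ _) ≫ Curv2.bcSnd k X K := (Category.assoc _ _ _).symm
  have h1 := regular_stalk_of_flat π (σ pt) hn
  refine regular_stalk_of_eq _ _ ?_ h1
  rw [← Scheme.Hom.comp_apply, hσπ, Scheme.Hom.comp_apply, Scheme.fromSpecResidueField_apply, ht1]

/-- (2) ⇒ (1): let X be a scheme over a field k, k' a finitely generated field extension of k and x' a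
point of X_{k'} with image x in X. If X_{k'} is geometrically regular at x' over k', then X is
geometrically regular at x over k. (The published setting defines geometric regularity only for
locally Noetherian schemes; this row allows any scheme X over k.) -/
theorem result (k : Type u) [Field k] (X : Scheme.{u}) [X.Over (Spec (CommRingCat.of k))] (k' : Type u) [Field k'] [Algebra k k'] (hfg : (⊤ : IntermediateField k k').FG)
    (x' : ↥(Curv2.bc k X k'))
    (h : @Curv2.IsGeomRegularAt k' _ (Curv2.bc k X k') ⟨Curv2.bcSnd k X k'⟩ x') :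
    Curv2.IsGeomRegularAt k X (Curv2.bcFst k X k' x') := by
  exact main k X k' x' h

end Groth.Agent.S7607
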