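import Groth.Statements.S7608
import Groth.Agent.Lib.CMBaseChange33
import Groth.Agent.Lib.CMFlat33

set_option autoImplicit false
universe u
open CategoryTheory CategoryTheory.Limits AlgebraicGeometry
open Variety

namespace Groth.Agent.S7608

/-- Let X be a locally Noetherian scheme over a field k, k' a finitely generated field extension of k
and x' a point of X_{k'} with image x in X. Then the local ring O_{X, x} is Cohen-Macaulay if and
only if O_{X_{k'}, x'} is Cohen-Macaulay. -/
theorem result (k : Type u) [Field k] (X : Scheme.{u}) [X.Over (Spec (CommRingCat.of k))] [IsLocallyNoetherian X] (k' : Type u) [Field k'] [Algebra k k']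
    (hfg : (⊤ : IntermediateField k k').FG) (x' : ↥(Curv2.bc k X k')) :
    LocCoh.IsCohenMacaulayLocalRing ↥(X.presheaf.stalk (Curv2.bcFst k X k' x')) ↔
      LocCoh.IsCohenMacaulayLocalRing ↥((Curv2.bc k X k').presheaf.stalk x') := by
  constructor
  · intro h
    let _ := Curv2.stalkAlgebra k X (Curv2.bcFst k X k' x')
    have hR : LocCoh.IsCohenMacaulayRing ↥(X.presheaf.stalk (Curv2.bcFst k X k' x')) :=
      Groth.Agent.Lib.H8CM.isCMRing_of_isCMLocalRing
    have hP : Groth.Agent.Lib.CMFieldExt33.PreservesCM k k' :=
      (Groth.Agent.Lib.CMFieldExt33.preservesCM_of_fg k k' ⊤ hfg).of_algEquiv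
        IntermediateField.topEquiv
    have h1 := hP _ hR
    have h2 : LocCoh.IsCohenMacaulayRing
        (TensorProduct k ↥(X.presheaf.stalk (Curv2.bcFst k X k' x')) k') :=
      Groth.Agent.Lib.CMRingEquiv96.isCohenMacaulayRing_of_ringEquiv
        (Algebra.TensorProduct.comm k k' _).toRingEquiv
    exact Groth.Agent.Lib.CMBaseChange33.cm_of_tensor k X _ k' h2 x' rfl
  · intro h
    have hfl : Flat (Curv2.bcFst k X k') :=
      MorphismProperty.pullback_fst (P := @Flat) _ _ inferInstance
    have hφ := Flat.stalkMap (Curv2.bcFst k X k') x'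
    have hNB : IsNoetherianRing ((Curv2.bc k X k').presheaf.stalk x') := inferInstance
    exact ((Groth.Agent.Lib.CMFlat33.isCohenMacaulayLocalRing_iff
      ((Curv2.bcFst k X k').stalkMap x').hom hφ).mp h).1

end Groth.Agent.S7608
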