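import Groth.Statements.S7612
import Mathlib.AlgebraicGeometry.Morphisms.UniversallyOpen
import Mathlib.AlgebraicGeometry.Fiber

set_option autoImplicit false
universe u
open CategoryTheory CategoryTheory.Limits AlgebraicGeometry
open Variety

namespace Groth.Agent.S7612

/-- Topological core of the statement. -/
lemma closure_inter_preimage {T X Y : Type*} [TopologicalSpace T] [TopologicalSpace X]
    [TopologicalSpace Y] (p₁ : T → X) (p₂ : T → Y) (h₁ : Continuous p₁) (h₂ : Continuous p₂)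
    (H1 : ∀ (b : Y) (W : Set T), IsOpen W → IsOpen (p₁ '' (W ∩ p₂ ⁻¹' {b})))
    (H2 : ∀ (a : X) (W : Set T), IsOpen W → IsOpen (p₂ '' (W ∩ p₁ ⁻¹' {a})))
    (A : Set X) (B : Set Y) :
    closure (p₁ ⁻¹' A ∩ p₂ ⁻¹' B) = p₁ ⁻¹' closure A ∩ p₂ ⁻¹' closure B := by
  apply subset_antisymm
  · apply closure_minimal
    · exact Set.inter_subset_inter (Set.preimage_mono subset_closure)
        (Set.preimage_mono subset_closure)
    · exact (isClosed_closure.preimage h₁).inter (isClosed_closure.preimage h₂)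
  · rintro z ⟨hz1, hz2⟩
    rw [mem_closure_iff]
    intro W hW hzW
    -- step 1: move the first coordinate into `A`
    obtain ⟨a, ⟨z₁, ⟨hz₁W, hz₁b⟩, rfl⟩, haA⟩ := mem_closure_iff.1 hz1 _ (H1 (p₂ z) W hW)
      ⟨z, ⟨hzW, rfl⟩, rfl⟩
    have hz₁b' : p₂ z₁ = p₂ z := hz₁b
    -- step 2: move the second coordinate into `B`
    have hz2' : p₂ z₁ ∈ closure B := by rw [hz₁b']; exact hz2
    obtain ⟨b, ⟨z₂, ⟨hz₂W, hz₂a⟩, rfl⟩, hbB⟩ := mem_closure_iff.1 hz2' _ (H2 (p₁ z₁) W hW)
      ⟨z₁, ⟨hz₁W, rfl⟩, rfl⟩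
    have hz₂a' : p₁ z₂ = p₁ z₁ := hz₂a
    exact ⟨z₂, hz₂W, by show p₁ z₂ ∈ A; rw [hz₂a']; exact haA, hbB⟩

/-- In a pullback square over a base `S` that is integral with at most one point, the image under
the first projection of an open set intersected with a fibre of the second projection is open. -/
lemma isOpen_image_inter_fibre {P X Y S : Scheme.{u}} [IsIntegral S] [Subsingleton S]
    {fst : P ⟶ X} {snd : P ⟶ Y} {sX : X ⟶ S} {sY : Y ⟶ S} (sq : IsPullback fst snd sX sY)
    (b : Y) (W : Set P) (hW : IsOpen W) : IsOpen (fst.base '' (W ∩ snd.base ⁻¹' {b})) := by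
  have hrange : Set.range (snd.fiberι b).base = snd.base ⁻¹' {b} := snd.range_fiberι b
  have big : IsPullback (snd.fiberι b ≫ fst) (snd.fiberToSpecResidueField b) sX
      (Y.fromSpecResidueField b ≫ sY) :=
    (IsPullback.of_hasPullback snd (Y.fromSpecResidueField b)).paste_horiz sq
  have huo : UniversallyOpen (snd.fiberι b ≫ fst) :=
    MorphismProperty.of_isPullback (P := @UniversallyOpen) big.flip inferInstance
  have heq : fst.base '' (W ∩ snd.base ⁻¹' {b}) =
      (snd.fiberι b ≫ fst).base '' ((snd.fiberι b).base ⁻¹' W) := by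
    rw [← hrange, ← Set.image_preimage_eq_inter_range, ← Set.image_comp]
    rfl
  rw [heq]
  exact (snd.fiberι b ≫ fst).isOpenMap _ (hW.preimage (snd.fiberι b).continuous)

theorem result (k : Type u) [Field k] (X : Scheme.{u}) [X.Over (Spec (CommRingCat.of k))] (Y : Scheme.{u}) [Y.Over (Spec (CommRingCat.of k))] (A : Set ↥X) (B : Set ↥Y) :
    closure ((pullback.fst (X ↘ (Spec (CommRingCat.of k))) (Y ↘ (Spec (CommRingCat.of k)))).base ⁻¹' A ∩ (pullback.snd (X ↘ (Spec (CommRingCat.of k))) (Y ↘ (Spec (CommRingCat.of k)))).base ⁻¹' B) =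
      (pullback.fst (X ↘ (Spec (CommRingCat.of k))) (Y ↘ (Spec (CommRingCat.of k)))).base ⁻¹' closure A ∩ (pullback.snd (X ↘ (Spec (CommRingCat.of k))) (Y ↘ (Spec (CommRingCat.of k)))).base ⁻¹' closure B := by
  have sq := IsPullback.of_hasPullback (X ↘ (Spec (CommRingCat.of k))) (Y ↘ (Spec (CommRingCat.of k)))
  exact closure_inter_preimage _ _ (Scheme.Hom.continuous _) (Scheme.Hom.continuous _)
    (fun b W hW => isOpen_image_inter_fibre sq b W hW)
    (fun a W hW => isOpen_image_inter_fibre sq.flip a W hW) A B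

end Groth.Agent.S7612
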