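import Groth.Statements.S7614
import Groth.Agent.Lib.QuasiAffineDescent

set_option autoImplicit false
set_option linter.style.haveILetI false
universe u
open CategoryTheory CategoryTheory.Limits AlgebraicGeometry
open Variety

namespace Groth.Agent.S7614

/-- Let X be a scheme over a field k and K an extension field of k. If X_K is quasi-affine, then X is
quasi-affine. -/
theorem result (k : Type u) [Field k] (X : Scheme.{u}) [X.Over (Spec (CommRingCat.of k))] (K : Type u) [Field K] [Algebra k K]
    [(Curv2.bc k X K).IsQuasiAffine] : X.IsQuasiAffine := by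
  have hff : (CommRingCat.ofHom (algebraMap k K)).hom.FaithfullyFlat :=
    RingHom.faithfullyFlat_algebraMap_iff.2 inferInstance
  obtain ⟨hflat, hsurj⟩ := (flat_and_surjective_SpecMap_iff (CommRingCat.ofHom (algebraMap k K))).2 hff
  haveI : Surjective (Curv2.bcFst k X K) := inferInstance
  haveI : CompactSpace X := by
    constructor
    rw [← (Curv2.bcFst k X K).surjective.range_eq]
    exact isCompact_range (Curv2.bcFst k X K).continuous
  let 𝒱 : (Spec (CommRingCat.of k)).AffineCover.{0} @Flat :=
    { I₀ := PUnit
      X := fun _ => CommRingCat.of K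
      f := fun _ => Spec.map (CommRingCat.ofHom (algebraMap k K))
      idx := fun _ => PUnit.unit
      covers := fun x => hsurj.surj x
      map_prop := fun _ => hflat }
  haveI : Finite 𝒱.I₀ := inferInstanceAs (Finite PUnit)
  exact Groth.Agent.Lib.QuasiAffineDescent.isQuasiAffine_of_affineCover
    (X ↘ Spec (CommRingCat.of k)) 𝒱 (fun _ => inferInstanceAs (Curv2.bc k X K).IsQuasiAffine)


end Groth.Agent.S7614
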