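import Groth.Statements.S7618
import Mathlib.RingTheory.IntegralClosure.IsIntegralClosure.Basic
import Mathlib.AlgebraicGeometry.Properties

set_option autoImplicit false
universe u
open CategoryTheory CategoryTheory.Limits AlgebraicGeometry
open Variety

namespace Groth.Agent.S7618

/-- A nontrivial reduced integral algebra over a field with only trivial idempotents is a field. -/
lemma isField_of_integral_of_idempotents {k C : Type*} [Field k] [CommRing C] [Algebra k C]
    [Algebra.IsIntegral k C] [IsReduced C] [Nontrivial C]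
    (hidem : ∀ e : C, IsIdempotentElem e → e = 0 ∨ e = 1) : IsField C := by
  refine ⟨exists_pair_ne C, mul_comm, ?_⟩
  intro f hf0
  obtain ⟨P, hPmonic, hP⟩ := Algebra.IsIntegral.isIntegral (R := k) f
  have hP' : Polynomial.aeval f P = 0 := hP
  obtain ⟨Q, hPQ, hQ⟩ := Polynomial.exists_eq_pow_rootMultiplicity_mul_and_not_dvd P hPmonic.ne_zero 0
  set n := Polynomial.rootMultiplicity 0 P with hn
  rw [Polynomial.C_0, sub_zero] at hPQ hQ
  have hc : Q.coeff 0 ≠ 0 := fun h => hQ (Polynomial.X_dvd_iff.2 h)
  set c := Q.coeff 0 with hcdef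
  set q₁ : C := Polynomial.aeval f Q.divX with hq₁
  have hQeval : Polynomial.aeval f Q = f * q₁ + algebraMap k C c := by
    have := congrArg (Polynomial.aeval f) (Polynomial.X_mul_divX_add Q)
    rw [map_add, map_mul, Polynomial.aeval_X, Polynomial.aeval_C] at this
    exact this.symm
  have h1 : f ^ n * (f * q₁ + algebraMap k C c) = 0 := by
    rw [← hQeval, ← hP', hPQ]
    simp
  set g : C := -(algebraMap k C c⁻¹) * q₁ with hg
  have hcc : algebraMap k C c * algebraMap k C c⁻¹ = 1 := by
    rw [← map_mul, mul_inv_cancel₀ hc, map_one]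
  have h2 : f ^ n = f ^ (n + 1) * g := by
    have : f ^ n * algebraMap k C c = -(f ^ (n + 1) * q₁) := by
      have := h1
      rw [mul_add] at this
      rw [pow_succ, mul_assoc]
      exact eq_neg_of_add_eq_zero_right this
    calc f ^ n = f ^ n * (algebraMap k C c * algebraMap k C c⁻¹) := by rw [hcc, mul_one]
      _ = (f ^ n * algebraMap k C c) * algebraMap k C c⁻¹ := by ring
      _ = -(f ^ (n + 1) * q₁) * algebraMap k C c⁻¹ := by rw [this]
      _ = f ^ (n + 1) * g := by rw [hg]; ring
  have h3 : ∀ j : ℕ, f ^ n = f ^ (n + j) * g ^ j := by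
    intro j
    induction j with
    | zero => simp
    | succ j ih =>
      calc f ^ n = f ^ (n + j) * g ^ j := ih
        _ = f ^ j * f ^ n * g ^ j := by rw [pow_add]; ring
        _ = f ^ j * (f ^ (n + 1) * g) * g ^ j := by rw [← h2]
        _ = f ^ (n + (j + 1)) * g ^ (j + 1) := by ring
  set e : C := f ^ n * g ^ n with he
  have hidem_e : IsIdempotentElem e := by
    show e * e = e
    have := h3 n
    calc e * e = (f ^ (n + n) * g ^ n) * g ^ n := by rw [he, pow_add]; ring
      _ = f ^ n * g ^ n := by rw [← this]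
  rcases hidem e hidem_e with h0 | h1'
  · exfalso
    have : f ^ n = 0 := by
      have h4 := h3 n
      calc f ^ n = f ^ (n + n) * g ^ n := h4
        _ = f ^ n * e := by rw [he, pow_add]; ring
        _ = 0 := by rw [h0, mul_zero]
    exact hf0 (IsReduced.eq_zero _ ⟨n, this⟩)
  · refine ⟨f ^ n * g ^ (n + 1), ?_⟩
    calc f * (f ^ n * g ^ (n + 1)) = (f ^ (n + 1) * g) * g ^ n := by ring
      _ = f ^ n * g ^ n := by rw [← h2]
      _ = 1 := h1'

/-- On a connected reduced scheme, idempotent global functions are trivial. -/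
lemma eq_zero_or_one_of_isIdempotentElem (X : Scheme.{u}) [ConnectedSpace ↥X] [IsReduced X]
    (e : Γ(X, ⊤)) (he : IsIdempotentElem e) : e = 0 ∨ e = 1 := by
  have hmul : e * (1 - e) = 0 := by
    rw [mul_sub, mul_one, he.eq, sub_self]
  have hdisj : X.basicOpen e ⊓ X.basicOpen (1 - e) = ⊥ := by
    rw [← Scheme.basicOpen_mul, hmul, Scheme.basicOpen_zero]
  have hcov : (X.basicOpen e : Set X) ∪ (X.basicOpen (1 - e) : Set X) = Set.univ := by
    rw [Set.eq_univ_iff_forall]
    intro x
    have hadd : (X.presheaf.germ ⊤ x trivial).hom e + (X.presheaf.germ ⊤ x trivial).hom (1 - e) = 1 := by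
      rw [← map_add, add_sub_cancel, map_one]
    rcases IsLocalRing.isUnit_or_isUnit_of_add_one hadd with h | h
    · exact Or.inl ((X.mem_basicOpen_top _ x).2 h)
    · exact Or.inr ((X.mem_basicOpen_top _ x).2 h)
  have hclopen : IsClopen (X.basicOpen e : Set X) := by
    refine ⟨?_, (X.basicOpen e).2⟩
    have : (X.basicOpen e : Set X) = ((X.basicOpen (1 - e) : Set X))ᶜ := by
      ext x
      constructor
      · intro hx hx'
        have : x ∈ X.basicOpen e ⊓ X.basicOpen (1 - e) := ⟨hx, hx'⟩
        rw [hdisj] at this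
        exact this
      · intro hx
        have : x ∈ (X.basicOpen e : Set X) ∪ (X.basicOpen (1 - e) : Set X) := by
          rw [hcov]; trivial
        rcases this with h | h
        · exact h
        · exact (hx h).elim
    rw [this]
    exact (X.basicOpen (1 - e)).2.isClosed_compl
  rcases isClopen_iff.1 hclopen with h | h
  · left
    have : X.basicOpen e = ⊥ := TopologicalSpace.Opens.ext h
    exact (basicOpen_eq_bot_iff e).1 this
  · right
    have h' : X.basicOpen (1 - e) = ⊥ := by
      rw [← hdisj]
      have : X.basicOpen e = ⊤ := TopologicalSpace.Opens.ext h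
      rw [this, top_inf_eq]
    have := (basicOpen_eq_bot_iff (1 - e)).1 h'
    exact (sub_eq_zero.1 this).symm

theorem result (k : Type u) [Field k] (X : Scheme.{u}) [X.Over (Spec (CommRingCat.of k))] [ConnectedSpace ↥X] [IsReduced X] :
    letI := ((X ↘ (Spec (CommRingCat.of k))).appTop.hom.comp (Scheme.ΓSpecIso (CommRingCat.of k)).inv.hom : k →+* Γ(X, ⊤)).toAlgebra
    IsField ↥(integralClosure k ↑Γ(X, ⊤)) := by
  let alg : Algebra k ↑Γ(X, ⊤) := ((X ↘ (Spec (CommRingCat.of k))).appTop.hom.comp
    (Scheme.ΓSpecIso (CommRingCat.of k)).inv.hom : k →+* Γ(X, ⊤)).toAlgebra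
  show IsField ↥(integralClosure k ↑Γ(X, ⊤))
  have hne : Nonempty ↥X := inferInstance
  have hne' : Nonempty ((⊤ : X.Opens) : Set X) := ⟨⟨hne.some, trivial⟩⟩
  have hnt : Nontrivial ↑Γ(X, ⊤) := @Scheme.component_nontrivial X ⊤ hne'
  have hred : _root_.IsReduced ↥(integralClosure k ↑Γ(X, ⊤)) :=
    isReduced_of_injective (integralClosure k ↑Γ(X, ⊤)).val Subtype.val_injective
  refine isField_of_integral_of_idempotents (k := k) ?_
  intro e he
  have he' : IsIdempotentElem (e : ↑Γ(X, ⊤)) := by
    have := congrArg Subtype.val he.eq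
    exact this
  rcases eq_zero_or_one_of_isIdempotentElem X (e : ↑Γ(X, ⊤)) he' with h | h
  · left
    exact Subtype.ext h
  · right
    exact Subtype.ext h

end Groth.Agent.S7618
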