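import Groth.Statements.S7619
import Mathlib

set_option autoImplicit false
universe u
open CategoryTheory CategoryTheory.Limits AlgebraicGeometry
open scoped TensorProduct
open Variety

namespace Groth.Agent.S7619
set_option linter.style.haveILetI false

section Helpers

variable {A B : Type u} [CommRing A] [CommRing B] [Algebra A B]

/-- the classes `1 ⊗ db` span `κ ⊗ Ω` -/
lemma span_tmul_D (K : Type u) [Field K] [Algebra B K] :
    Submodule.span K (Set.range fun b : B => (1 : K) ⊗ₜ[B] KaehlerDifferential.D A B b) = ⊤ := by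
  have h1 := KaehlerDifferential.span_range_derivation A B
  have h2 := congrArg (Submodule.baseChange K) h1
  rw [Submodule.baseChange_span, Submodule.baseChange_top] at h2
  rw [← h2]
  congr 1
  ext x
  simp

/-- choose `r` elements whose differentials span `κ ⊗ Ω` -/
lemma exists_fin_span (K : Type u) [Field K] [Algebra B K] [Algebra.FiniteType A B] (r : ℕ)
    (hr : Module.finrank K (K ⊗[B] Ω[B⁄A]) = r) :
    ∃ b : Fin r → B,
      Submodule.span K (Set.range fun i => (1 : K) ⊗ₜ[B] KaehlerDifferential.D A B (b i)) = ⊤ := by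
  have hs : ⊤ ≤ Submodule.span K
      (Set.range fun b : B => (1 : K) ⊗ₜ[B] KaehlerDifferential.D A B b) :=
    (span_tmul_D (A := A) (B := B) K).ge
  let bas := Module.Basis.ofSpan hs
  have hsub := Module.Basis.ofSpan_subset hs
  haveI := Module.Finite.finite_basis bas
  have hcard := Module.finrank_eq_nat_card_basis bas
  rw [hr] at hcard
  let e := (Finite.equivFinOfCardEq hcard.symm).symm
  have : ∀ i : Fin r, ∃ b : B, (1 : K) ⊗ₜ[B] KaehlerDifferential.D A B b = bas (e i) :=
    fun i => hsub ⟨e i, rfl⟩
  choose b hb using this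
  refine ⟨b, ?_⟩
  have : (fun i => (1 : K) ⊗ₜ[B] KaehlerDifferential.D A B (b i)) = bas ∘ e := funext hb
  rw [this, Set.range_comp, e.range_eq_univ, Set.image_univ]
  exact bas.span_eq

end Helpers


/-- Let A → B be a finite type ring map (a finite type morphism of affine schemes), q a prime of B and r
= dim_{κ(q)} Ω_{B/A} ⊗_B κ(q). Then there is an A-algebra homomorphism A[x_1, …, x_r] → B for which
B is unramified over A[x_1, …, x_r] at q. -/
theorem result (A B : Type u) [CommRing A] [CommRing B] [Algebra A B] [Algebra.FiniteType A B]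
    (q : Ideal B) [q.IsPrime] (r : ℕ) (hr : Module.finrank q.ResidueField (q.ResidueField ⊗[B] Ω[B⁄A]) = r) :
    ∃ φ : MvPolynomial (Fin r) A →ₐ[A] B,
      letI := φ.toRingHom.toAlgebra
      Algebra.IsUnramifiedAt (MvPolynomial (Fin r) A) q := by
  obtain ⟨b, hb⟩ := exists_fin_span (A := A) (B := B) q.ResidueField r hr
  refine ⟨MvPolynomial.aeval b, ?_⟩
  letI : Algebra (MvPolynomial (Fin r) A) B :=
    (MvPolynomial.aeval b : MvPolynomial (Fin r) A →ₐ[A] B).toRingHom.toAlgebra
  haveI : IsScalarTower A (MvPolynomial (Fin r) A) B :=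
    IsScalarTower.of_algebraMap_eq'
      (MvPolynomial.aeval b : MvPolynomial (Fin r) A →ₐ[A] B).comp_algebraMap.symm
  haveI : Algebra.FiniteType (MvPolynomial (Fin r) A) B :=
    Algebra.FiniteType.of_restrictScalars_finiteType A (MvPolynomial (Fin r) A) B
  let f : Ω[B⁄A] →ₗ[B] Ω[B⁄MvPolynomial (Fin r) A] :=
    KaehlerDifferential.map A (MvPolynomial (Fin r) A) B B
  have hf : Function.Surjective f := KaehlerDifferential.map_surjective A (MvPolynomial (Fin r) A) B
  let F := f.baseChange q.ResidueField
  have hF : Function.Surjective F := LinearMap.lTensor_surjective _ hf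
  have hF0 : F = 0 := by
    apply LinearMap.ext_on hb
    rintro _ ⟨i, rfl⟩
    show (1 : q.ResidueField) ⊗ₜ[B] f (KaehlerDifferential.D A B (b i)) = 0
    have h1 : f (KaehlerDifferential.D A B (b i)) =
        KaehlerDifferential.D (MvPolynomial (Fin r) A) B (b i) := by
      exact KaehlerDifferential.map_D A (MvPolynomial (Fin r) A) B B (b i)
    have h2 : b i = algebraMap (MvPolynomial (Fin r) A) B (MvPolynomial.X i) := by
      show b i = MvPolynomial.aeval b (MvPolynomial.X i)
      rw [MvPolynomial.aeval_X]
    rw [h1, h2, Derivation.map_algebraMap, TensorProduct.tmul_zero]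
  have hsub : Subsingleton (q.ResidueField ⊗[B] Ω[B⁄MvPolynomial (Fin r) A]) := by
    refine ⟨fun x y => ?_⟩
    obtain ⟨x', rfl⟩ := hF x
    obtain ⟨y', rfl⟩ := hF y
    rw [hF0]; rfl
  have hq : (⟨q, inferInstance⟩ : PrimeSpectrum B) ∈
      Algebra.unramifiedLocus (MvPolynomial (Fin r) A) B := by
    rw [Algebra.unramifiedLocus_eq_compl_support, Set.mem_compl_iff,
      Module.mem_support_iff_nontrivial_residueField_tensorProduct]
    exact not_nontrivial_iff_subsingleton.mpr hsub
  exact hq

end Groth.Agent.S7619
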