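import Groth.Statements.S7620
import Mathlib

set_option autoImplicit false
universe u
open CategoryTheory CategoryTheory.Limits AlgebraicGeometry
open scoped TensorProduct
open Variety

namespace Groth.Agent.S7620
set_option linter.style.haveILetI false

section Integral

variable {R S : Type*} [CommRing R] [CommRing S] [Algebra R S]

/-- An injective integral extension does not lower the dimension. -/
theorem ringKrullDim_le_of_isIntegral_of_injective [Algebra.IsIntegral R S]
    (hinj : Function.Injective (algebraMap R S)) : ringKrullDim R ≤ ringKrullDim S := by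
  rw [ringKrullDim, Order.krullDim]
  refine iSup_le fun l ↦ ?_
  obtain ⟨Q, -, hQ, hQc⟩ := Ideal.exists_ideal_over_prime_of_isIntegral
    (S := S) l.head.asIdeal ⊥ (by
      rw [← RingHom.ker_eq_comap_bot, (RingHom.injective_iff_ker_eq_bot _).mp hinj]
      exact bot_le)
  have : Q.LiesOver l.head.asIdeal := ⟨hQc.symm⟩
  obtain ⟨L, hL, -, -⟩ := Ideal.exists_ltSeries_of_hasGoingUp l Q
  rw [← hL]
  exact Order.LTSeries.length_le_krullDim L

theorem ringKrullDim_eq_of_isIntegral_of_injective [Algebra.IsIntegral R S]
    (hinj : Function.Injective (algebraMap R S)) : ringKrullDim R = ringKrullDim S :=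
  le_antisymm (ringKrullDim_le_of_isIntegral_of_injective hinj)
    (Order.krullDim_le_of_strictMono
      (fun I ↦ ⟨Ideal.comap (algebraMap R S) I.asIdeal, inferInstance⟩)
      (fun I J hIJ ↦ by
        have : I.asIdeal < J.asIdeal := hIJ
        exact Ideal.IsIntegral.comap_lt_comap (R := R) this))

end Integral

section Helpers

variable {A B : Type u} [CommRing A] [CommRing B] [Algebra A B] (p : Ideal A) [p.IsPrime]

lemma exists_inv_smul_tmul (z : p.ResidueField ⊗[A] B) :
    ∃ s : A, s ∉ p ∧ ∃ b : B,
      z = (algebraMap A p.ResidueField s)⁻¹ • ((1 : p.ResidueField) ⊗ₜ[A] b) := by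
  induction z using TensorProduct.induction_on with
  | zero => exact ⟨1, fun h => (Ideal.IsPrime.ne_top inferInstance) ((Ideal.eq_top_iff_one p).mpr h), 0, by simp⟩
  | tmul c b =>
    obtain ⟨x, rfl⟩ := IsLocalRing.residue_surjective (R := Localization.AtPrime p) c
    obtain ⟨a, s, rfl⟩ := IsLocalization.exists_mk'_eq p.primeCompl x
    refine ⟨s, s.2, a • b, ?_⟩
    have hs0 : algebraMap A p.ResidueField (s : A) ≠ 0 := by
      rw [Ne, Ideal.algebraMap_residueField_eq_zero]; exact s.2
    have hc : (IsLocalRing.residue (Localization.AtPrime p)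
        (IsLocalization.mk' (Localization.AtPrime p) a s) : p.ResidueField) =
        (algebraMap A p.ResidueField s)⁻¹ * algebraMap A p.ResidueField a := by
      rw [eq_comm, inv_mul_eq_iff_eq_mul₀ hs0]
      have h1 := IsLocalization.mk'_spec (Localization.AtPrime p) a s
      have h2 := congrArg (IsLocalRing.residue (Localization.AtPrime p)) h1
      rw [map_mul] at h2
      rw [mul_comm]
      exact h2.symm
    rw [hc, ← smul_eq_mul, ← TensorProduct.smul_tmul',
      show algebraMap A p.ResidueField a = a • (1 : p.ResidueField) from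
        Algebra.algebraMap_eq_smul_one a, TensorProduct.smul_tmul]
  | add z₁ z₂ h₁ h₂ =>
    obtain ⟨s₁, hs₁, b₁, rfl⟩ := h₁
    obtain ⟨s₂, hs₂, b₂, rfl⟩ := h₂
    refine ⟨s₁ * s₂, fun h => (Ideal.IsPrime.mem_or_mem inferInstance h).elim hs₁ hs₂,
      s₂ • b₁ + s₁ • b₂, ?_⟩
    have hs1 : algebraMap A p.ResidueField s₁ ≠ 0 := by
      rw [Ne, Ideal.algebraMap_residueField_eq_zero]; exact hs₁
    have hs2 : algebraMap A p.ResidueField s₂ ≠ 0 := by
      rw [Ne, Ideal.algebraMap_residueField_eq_zero]; exact hs₂
    rw [TensorProduct.tmul_add, smul_add, TensorProduct.tmul_smul, TensorProduct.tmul_smul,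
      ← algebraMap_smul p.ResidueField s₂, ← algebraMap_smul p.ResidueField s₁,
      smul_smul, smul_smul, map_mul]
    congr 2
    · field_simp
    · field_simp

end Helpers


/-- Let A → B be a finite type ring map (a finite type morphism of affine schemes X → S), p a prime of A
and suppose the fibre ring κ(p) ⊗_A B has Krull dimension d. Then there is an A-algebra homomorphism
π : A[t_1, …, t_d] → B such that the induced map of fibres κ(p) ⊗_A A[t_1, …, t_d] → κ(p) ⊗_A B is
finite. -/
theorem result (A B : Type u) [CommRing A] [CommRing B] [Algebra A B] [Algebra.FiniteType A B]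
    (p : Ideal A) [p.IsPrime] (d : ℕ) (hd : ringKrullDim (p.ResidueField ⊗[A] B) = d) :
    ∃ π : MvPolynomial (Fin d) A →ₐ[A] B,
      (Algebra.TensorProduct.map (AlgHom.id p.ResidueField p.ResidueField) π).toRingHom.Finite := by
  haveI : Nontrivial (p.ResidueField ⊗[A] B) := by
    by_contra h
    rw [not_nontrivial_iff_subsingleton] at h
    rw [ringKrullDim_eq_bot_of_subsingleton] at hd
    exact WithBot.bot_ne_coe hd
  obtain ⟨s, g, hginj, hgfin⟩ :=
    exists_finite_inj_algHom_of_fg p.ResidueField (p.ResidueField ⊗[A] B)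
  -- `s = d`
  have hsd : s = d := by
    letI := g.toRingHom.toAlgebra
    haveI : Algebra.IsIntegral (MvPolynomial (Fin s) p.ResidueField) (p.ResidueField ⊗[A] B) :=
      ⟨(RingHom.Finite.to_isIntegral hgfin)⟩
    have h1 := ringKrullDim_eq_of_isIntegral_of_injective
      (R := MvPolynomial (Fin s) p.ResidueField) (S := p.ResidueField ⊗[A] B) hginj
    rw [hd, MvPolynomial.ringKrullDim_of_isNoetherianRing, ringKrullDim_eq_zero_of_field] at h1
    simp only [Nat.card_eq_fintype_card, Fintype.card_fin, zero_add] at h1
    exact_mod_cast h1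
  subst hsd
  choose t ht b hb using fun i => exists_inv_smul_tmul (B := B) p (g (MvPolynomial.X i))
  refine ⟨MvPolynomial.aeval b, ?_⟩
  -- the `K`-algebra map `X_i ↦ 1 ⊗ b_i`
  let g' : MvPolynomial (Fin s) p.ResidueField →ₐ[p.ResidueField] p.ResidueField ⊗[A] B :=
    MvPolynomial.aeval (fun i => (1 : p.ResidueField) ⊗ₜ[A] b i)
  let θ : MvPolynomial (Fin s) p.ResidueField →ₐ[p.ResidueField]
      MvPolynomial (Fin s) p.ResidueField :=
    MvPolynomial.aeval (fun i => (algebraMap A p.ResidueField (t i))⁻¹ • MvPolynomial.X i)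
  have hg : g = g'.comp θ := by
    apply MvPolynomial.algHom_ext
    intro i
    simp only [AlgHom.comp_apply, θ, g', MvPolynomial.aeval_X, map_smul]
    exact hb i
  have hg' : g'.toRingHom.Finite := by
    have : (g'.toRingHom.comp θ.toRingHom).Finite := by
      have e : g'.toRingHom.comp θ.toRingHom = g.toRingHom := by rw [hg]; rfl
      rw [e]; exact hgfin
    exact RingHom.Finite.of_comp_finite this
  let e := MvPolynomial.algebraTensorAlgEquiv (σ := Fin s) A p.ResidueField
  have hT : (Algebra.TensorProduct.map (AlgHom.id p.ResidueField p.ResidueField)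
      (MvPolynomial.aeval b : MvPolynomial (Fin s) A →ₐ[A] B)).comp e.symm.toAlgHom = g' := by
    apply MvPolynomial.algHom_ext
    intro i
    simp [e, g', MvPolynomial.algebraTensorAlgEquiv_symm_X]
  have hT' : (Algebra.TensorProduct.map (AlgHom.id p.ResidueField p.ResidueField)
      (MvPolynomial.aeval b : MvPolynomial (Fin s) A →ₐ[A] B)).toRingHom =
      g'.toRingHom.comp e.toAlgHom.toRingHom := by
    rw [← hT]
    refine RingHom.ext fun x => ?_
    show _ = (Algebra.TensorProduct.map (AlgHom.id p.ResidueField p.ResidueField)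
      (MvPolynomial.aeval b : MvPolynomial (Fin s) A →ₐ[A] B)) (e.symm (e x))
    rw [e.symm_apply_apply]
    rfl
  rw [hT']
  exact hg'.comp (RingHom.Finite.of_surjective _ e.surjective)

end Groth.Agent.S7620
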