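import Groth.Statements.S7622
import Groth.Agent.S2452
import Groth.Agent.S11551
import Groth.Agent.Lib.PowerSeriesLift50
import Mathlib

set_option autoImplicit false
universe u
open CategoryTheory CategoryTheory.Limits AlgebraicGeometry
open Variety

namespace Groth.Agent.S7622

/-- Let A be a Noetherian local algebra over a field k (such as the local ring of a locally Noetherian
k-scheme at a point) whose residue field κ is a separable extension of k, meaning geometrically
reduced over k; κ need not be algebraic over k. Then there are n ≥ 0, an ideal I of κ[[x_1, …, x_n]]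
and a k-algebra isomorphism e from κ[[x_1, …, x_n]]/I onto the completion A^∧ of A at its maximal
ideal which induces the identity on residue fields: for every a in A, the value of e on the constant
power series whose value is the residue class of a is congruent to the image of a modulo the
extended maximal ideal of A^∧. -/
theorem result (k A : Type u) [Field k] [CommRing A] [Algebra k A]
    [IsNoetherianRing A] [IsLocalRing A] [Algebra.IsGeometricallyReduced k (IsLocalRing.ResidueField A)] :
    ∃ (n : ℕ) (I : Ideal (MvPowerSeries (Fin n) (IsLocalRing.ResidueField A)))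
      (e : (MvPowerSeries (Fin n) (IsLocalRing.ResidueField A) ⧸ I) ≃ₐ[k]
        AdicCompletion (IsLocalRing.maximalIdeal A) A),
      ∀ a : A, e (Ideal.Quotient.mk I (MvPowerSeries.C (IsLocalRing.residue A a))) -
          algebraMap A (AdicCompletion (IsLocalRing.maximalIdeal A) A) a ∈
        (IsLocalRing.maximalIdeal A).map (algebraMap A (AdicCompletion (IsLocalRing.maximalIdeal A) A)) := by
  classical
  have hNÂ : IsNoetherianRing (AdicCompletion (IsLocalRing.maximalIdeal A) A) :=
    Groth.Agent.Lib.AdicNoeth.isNoetherianRing_adicCompletion _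
  -- the residue fields agree, as `k`-algebras
  have hbij := AdicCompletion.residueField_map_bijective A
  let ρ : IsLocalRing.ResidueField A →ₐ[k]
      IsLocalRing.ResidueField (AdicCompletion (IsLocalRing.maximalIdeal A) A) :=
    { IsLocalRing.ResidueField.map (algebraMap A (AdicCompletion (IsLocalRing.maximalIdeal A) A)) with
      commutes' := fun c => by
        change IsLocalRing.ResidueField.map _ (IsLocalRing.residue A (algebraMap k A c)) = _
        rw [IsLocalRing.ResidueField.map_residue]
        rfl }
  have hρ : ∀ a : A, ρ (IsLocalRing.residue A a) =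
      IsLocalRing.residue _ (algebraMap A (AdicCompletion (IsLocalRing.maximalIdeal A) A) a) :=
    fun a => IsLocalRing.ResidueField.map_residue _ a
  let eρ : IsLocalRing.ResidueField A ≃ₐ[k]
      IsLocalRing.ResidueField (AdicCompletion (IsLocalRing.maximalIdeal A) A) :=
    AlgEquiv.ofBijective ρ hbij
  have hgr : Algebra.IsGeometricallyReduced k
      (IsLocalRing.ResidueField (AdicCompletion (IsLocalRing.maximalIdeal A) A)) :=
    Algebra.IsGeometricallyReduced.of_injective eρ.symm.toAlgHom eρ.symm.injective
  obtain ⟨σ, hσ⟩ := Groth.Agent.S2452.result (k := k)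
    (A := AdicCompletion (IsLocalRing.maximalIdeal A) A)
  let τ : IsLocalRing.ResidueField A →ₐ[k] AdicCompletion (IsLocalRing.maximalIdeal A) A :=
    σ.comp ρ
  have hτ : ∀ a : A, τ (IsLocalRing.residue A a) -
      algebraMap A (AdicCompletion (IsLocalRing.maximalIdeal A) A) a ∈
      IsLocalRing.maximalIdeal (AdicCompletion (IsLocalRing.maximalIdeal A) A) := by
    intro a
    rw [← IsLocalRing.residue_eq_zero_iff, map_sub]
    change IsLocalRing.residue _ (σ (ρ (IsLocalRing.residue A a))) - _ = 0
    rw [hσ, hρ, sub_self]
  -- generators of the maximal ideal of `A`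
  obtain ⟨n, a, ha⟩ := Submodule.fg_iff_exists_fin_generating_family.mp
    (IsNoetherian.noetherian (IsLocalRing.maximalIdeal A))
  have ha' : Ideal.span (Set.range a) = IsLocalRing.maximalIdeal A := ha
  let ι := algebraMap A (AdicCompletion (IsLocalRing.maximalIdeal A) A)
  let algκ : Algebra (IsLocalRing.ResidueField A) (AdicCompletion (IsLocalRing.maximalIdeal A) A) :=
    τ.toRingHom.toAlgebra
  have htower : IsScalarTower k (IsLocalRing.ResidueField A)
      (AdicCompletion (IsLocalRing.maximalIdeal A) A) :=
    IsScalarTower.of_algebraMap_eq (fun c => (τ.commutes c).symm)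
  have hmemb : ∀ i, ι (a i) ∈ IsLocalRing.maximalIdeal (AdicCompletion (IsLocalRing.maximalIdeal A) A) := by
    intro i
    rw [AdicCompletion.maximalIdeal_eq_map]
    apply Ideal.mem_map_of_mem
    rw [← ha']
    exact Ideal.subset_span ⟨i, rfl⟩
  obtain ⟨ψ₀, hψX, -⟩ := Groth.Agent.Lib.PowerSeriesLift50.exists_algHom (σ := Fin n)
    (k := IsLocalRing.ResidueField A)
    (IsLocalRing.maximalIdeal (AdicCompletion (IsLocalRing.maximalIdeal A) A))
    (fun i => ι (a i)) hmemb
  have hψC : ∀ x : IsLocalRing.ResidueField A, ψ₀ (MvPowerSeries.C x) = τ x := by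
    intro x
    have := ψ₀.commutes x
    rw [MvPowerSeries.algebraMap_apply] at this
    have h2 : ψ₀ (MvPowerSeries.C x) =
        algebraMap (IsLocalRing.ResidueField A) (AdicCompletion (IsLocalRing.maximalIdeal A) A) x := by
      simpa using this
    exact h2.trans rfl
  -- surjectivity of ψ₀
  have hmap : (Ideal.span (Set.range (MvPowerSeries.X :
      Fin n → MvPowerSeries (Fin n) (IsLocalRing.ResidueField A)))).map ψ₀.toRingHom =
      IsLocalRing.maximalIdeal (AdicCompletion (IsLocalRing.maximalIdeal A) A) := by
    have hmA : (IsLocalRing.maximalIdeal A).map ι = Ideal.span (Set.range (fun i => ι (a i))) := by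
      have := congrArg (Ideal.map ι) ha'
      rw [Ideal.map_span, ← Set.range_comp] at this
      exact this.symm
    have hmA' : IsLocalRing.maximalIdeal (AdicCompletion (IsLocalRing.maximalIdeal A) A) =
        (IsLocalRing.maximalIdeal A).map ι := AdicCompletion.maximalIdeal_eq_map
    rw [hmA', hmA, Ideal.map_span, ← Set.range_comp]
    congr 2
    ext i
    simp [hψX]
  have haus : IsHausdorff ((Ideal.span (Set.range (MvPowerSeries.X :
      Fin n → MvPowerSeries (Fin n) (IsLocalRing.ResidueField A)))).map ψ₀.toRingHom)
      (AdicCompletion (IsLocalRing.maximalIdeal A) A) := by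
    rw [hmap]
    exact IsAdicComplete.toIsHausdorff
  have hsurj : Function.Surjective ψ₀.toRingHom :=
    surjective_of_mk_map_comp_surjective ψ₀.toRingHom
      (I := Ideal.span (Set.range (MvPowerSeries.X :
        Fin n → MvPowerSeries (Fin n) (IsLocalRing.ResidueField A))))
      (by
        intro y
        obtain ⟨y, rfl⟩ := Ideal.Quotient.mk_surjective y
        obtain ⟨b, hb⟩ := Groth.Agent.S11551.exists_sub_mem_maximalIdeal A y
        refine ⟨MvPowerSeries.C (IsLocalRing.residue A b), ?_⟩
        simp only [RingHom.comp_apply]
        rw [Ideal.Quotient.eq, hmap]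
        have h1 : ψ₀.toRingHom (MvPowerSeries.C (IsLocalRing.residue A b)) =
            τ (IsLocalRing.residue A b) := hψC _
        rw [h1]
        have h2 : τ (IsLocalRing.residue A b) - y =
            (τ (IsLocalRing.residue A b) - ι b) - (y - ι b) := by ring
        rw [h2]
        exact sub_mem (hτ b) hb)
  let ψk : MvPowerSeries (Fin n) (IsLocalRing.ResidueField A) →ₐ[k]
      AdicCompletion (IsLocalRing.maximalIdeal A) A := ψ₀.restrictScalars k
  have hsurjk : Function.Surjective ψk := hsurj
  refine ⟨n, RingHom.ker ψk, Ideal.quotientKerAlgEquivOfSurjective hsurjk, ?_⟩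
  intro a₀
  rw [← AdicCompletion.maximalIdeal_eq_map]
  have h3 : (Ideal.quotientKerAlgEquivOfSurjective hsurjk)
      (Ideal.Quotient.mk (RingHom.ker ψk) (MvPowerSeries.C (IsLocalRing.residue A a₀))) =
      τ (IsLocalRing.residue A a₀) := by
    exact (hψC _)
  rw [h3]
  exact hτ a₀

end Groth.Agent.S7622
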