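import Groth.Statements.S7625
import Mathlib
import Groth.Agent.Lib.H30QFChart

set_option autoImplicit false
universe u
open CategoryTheory CategoryTheory.Limits AlgebraicGeometry
open Variety

namespace Groth.Agent.S7625

/-- Let f : X → S be locally of finite type, x a point of X with image s, V an affine open neighbourhood
of s in S, and suppose dim_x(X_s) = d. Then there is an affine open neighbourhood U of x with f(U) ⊆
V and a factorisation of f|_U as U → 𝔸^d_V → V with U → 𝔸^d_V locally quasi-finite and locally of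
finite type (hence quasi-finite, U being affine). -/
theorem result {X S : Scheme.{u}} (f : X ⟶ S) [LocallyOfFiniteType f] (x : ↥X)
    (V : S.Opens) (hV : IsAffineOpen V) (hxV : f x ∈ V) (d : ℕ) (hd : FlatMor.fibreDimAt f x = d) :
    ∃ (U : X.Opens), IsAffineOpen U ∧ x ∈ U ∧
      ∃ (g : (U : Scheme.{u}) ⟶ (V : Scheme.{u})) (π : (U : Scheme.{u}) ⟶ 𝔸(ULift.{u} (Fin d); (V : Scheme.{u}))),
        g ≫ V.ι = U.ι ≫ f ∧ π ≫ (𝔸(ULift.{u} (Fin d); (V : Scheme.{u})) ↘ (V : Scheme.{u})) = g ∧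
          LocallyQuasiFinite π ∧ LocallyOfFiniteType π := by
  let W : X.Opens := f ⁻¹ᵁ V
  let f' : (W : Scheme.{u}) ⟶ (V : Scheme.{u}) := f ∣_ V
  have hf' : f' ≫ V.ι = W.ι ≫ f := morphismRestrict_ι f V
  let x' : (W : Scheme.{u}) := ⟨x, hxV⟩
  have hx' : FlatMor.fibreDimAt f' x' = d := by
    rw [Groth.Agent.Lib.CMQF33.fibreDimAt_of_comm f' f W.ι V.ι hf' x']
    exact hd
  obtain ⟨U₁, hxU₁, -, g₁, hg₁, hqf⟩ :=
    Groth.Agent.Lib.H30QFChart.exists_chart_le f' x' d hx' ⊤ trivial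
  obtain ⟨_, ⟨U₂', hU₂', rfl⟩, hxU₂, hU₂U₁⟩ :=
    (W : Scheme.{u}).isBasis_affineOpens.exists_subset_of_mem_open hxU₁ U₁.isOpen
  obtain ⟨U₂, rfl⟩ : ∃ U₂ : (W : Scheme.{u}).Opens, U₂ = U₂' := ⟨_, rfl⟩
  have hU₂ : IsAffineOpen U₂ := hU₂'
  have hle : U₂ ≤ U₁ := hU₂U₁
  let U : X.Opens := W.ι ''ᵁ U₂
  let e : (U : Scheme.{u}) ⟶ (U₂ : Scheme.{u}) := (W.ι.isoImage U₂).inv
  have he : e ≫ U₂.ι ≫ W.ι = U.ι := W.ι.isoImage_inv_ι U₂
  refine ⟨U, hU₂.image_of_isOpenImmersion W.ι, ⟨x', hxU₂, rfl⟩, e ≫ U₂.ι ≫ f',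
    e ≫ (W : Scheme.{u}).homOfLE hle ≫ g₁, ?_, ?_, ?_, ?_⟩
  · rw [Category.assoc, Category.assoc, hf', ← Category.assoc U₂.ι, ← Category.assoc e, he]
  · rw [Category.assoc, Category.assoc, hg₁, ← Category.assoc ((W : Scheme.{u}).homOfLE hle),
      Scheme.homOfLE_ι]
  · infer_instance
  · have h1 : LocallyOfFiniteType
        ((e ≫ (W : Scheme.{u}).homOfLE hle ≫ g₁) ≫ (𝔸(ULift.{u} (Fin d); (V : Scheme.{u})) ↘ (V : Scheme.{u}))) := by
      rw [Category.assoc, Category.assoc, hg₁]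
      infer_instance
    exact locallyOfFiniteType_of_comp _ (𝔸(ULift.{u} (Fin d); (V : Scheme.{u})) ↘ (V : Scheme.{u}))

end Groth.Agent.S7625
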