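import Groth.Statements.S7634
import Mathlib
import Groth.Agent.S6841

set_option autoImplicit false
universe u
open CategoryTheory CategoryTheory.Limits AlgebraicGeometry
open scoped TensorProduct
open Variety

namespace Groth.Agent.S7634

section Helpers

set_option autoImplicit false

namespace Q1
open KaehlerDifferential TensorProduct MvPolynomial
open Groth.Agent.S9441 Groth.Agent.S6841

/-- The space of functionals on `Ω[B/A]` with values in a field `K` has dimension at most the
number of generators of `B`. -/
lemma finrank_hom_le {A B K : Type u} [CommRing A] [CommRing B] [Algebra A B] [Field K]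
    [Algebra B K] {N : ℕ} (φ : MvPolynomial (Fin N) A →ₐ[A] B) (hφ : Function.Surjective φ) :
    Module.finrank K (Ω[B⁄A] →ₗ[B] K) ≤ N := by
  let E : (Ω[B⁄A] →ₗ[B] K) →ₗ[K] (Fin N → K) :=
    { toFun := fun ℓ j => ℓ (D A B (φ (X j)))
      map_add' := fun _ _ => rfl
      map_smul' := fun _ _ => rfl }
  have hE : Function.Injective E := by
    rw [← LinearMap.ker_eq_bot, LinearMap.ker_eq_bot']
    intro ℓ hℓ
    have h0 : ∀ j, ℓ (D A B (φ (X j))) = 0 := fun j => congrFun hℓ j
    have h1 : ∀ x : MvPolynomial (Fin N) A, ℓ (D A B (φ x)) = 0 := by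
      intro x
      induction x using MvPolynomial.induction_on with
      | C a => rw [← algebraMap_eq, AlgHom.commutes, Derivation.map_algebraMap, map_zero]
      | add p q hp hq => rw [map_add, map_add, map_add, hp, hq, add_zero]
      | mul_X p j hp =>
        rw [map_mul, Derivation.leibniz, map_add, map_smul, map_smul, hp, h0, smul_zero, smul_zero,
          add_zero]
    refine LinearMap.ext_on_range (KaehlerDifferential.span_range_derivation A B) (fun b => ?_)
    obtain ⟨x, rfl⟩ := hφ b
    rw [h1, LinearMap.zero_apply]
  have := LinearMap.finrank_le_finrank_of_injective hE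
  rwa [Module.finrank_fin_fun] at this

theorem main (A B : Type u) [CommRing A] [CommRing B] [Algebra A B] [Algebra.FiniteType A B]
    (q : Ideal B) [q.IsPrime] (r : ℕ)
    (hr : Module.finrank q.ResidueField (q.ResidueField ⊗[B] Ω[B⁄A]) = r) :
    ∃ g : B, g ∉ q ∧ ∃ (D : Type u) (_ : CommRing D) (_ : Algebra A D),
      Algebra.IsStandardSmoothOfRelativeDimension r A D ∧
        ∃ φ : D →ₐ[A] Localization.Away g, Function.Surjective φ := by
  classical
  set K := q.ResidueField
  obtain ⟨N, φ, hφ⟩ := Algebra.FiniteType.iff_quotient_mvPolynomial''.mp ‹Algebra.FiniteType A B›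
  let e1 : (Ω[B⁄A] →ₗ[B] K) ≃ₗ[K] (K ⊗[B] Ω[B⁄A] →ₗ[K] K) := LinearMap.liftBaseChangeEquiv K
  haveI : Module.Finite K (K ⊗[B] Ω[B⁄A]) := inferInstance
  have h2 : Module.finrank K (K ⊗[B] Ω[B⁄A] →ₗ[K] K) = Module.finrank K (K ⊗[B] Ω[B⁄A]) :=
    Subspace.dual_finrank_eq
  haveI : Module.Finite K (Ω[B⁄A] →ₗ[B] K) := Module.Finite.equiv e1.symm
  have hrk : Module.finrank K (Ω[B⁄A] →ₗ[B] K) = r := by rw [e1.finrank_eq, h2, hr]
  have hrN : r ≤ N := hrk ▸ finrank_hom_le φ hφ
  obtain ⟨f, cols, hf, hminor⟩ := N1.exists_minor (K := K) φ hφ r hrk.le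
  set hP : MvPolynomial (Fin N) A :=
    Matrix.det (Matrix.of fun i j : Fin (N - r) => pderiv (cols j) (f i)) with hhP
  have hPq : φ hP ∉ q := by
    intro hmem
    apply hminor
    exact Ideal.algebraMap_residueField_eq_zero.mpr hmem
  let πₐ : E1.Quot f →ₐ[A] B := Ideal.Quotient.liftₐ (Ideal.span (Set.range f)) φ (by
    intro a ha
    have : Ideal.span (Set.range f) ≤ RingHom.ker φ.toRingHom := by
      rw [Ideal.span_le]
      rintro _ ⟨i, rfl⟩
      exact hf i
    exact this ha)
  have hπₐ : Function.Surjective πₐ := by
    intro a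
    obtain ⟨x, rfl⟩ := hφ a
    exact ⟨Ideal.Quotient.mk _ x, rfl⟩
  set hB : E1.Quot f := Ideal.Quotient.mk _ hP with hhB
  have hπB : πₐ hB = φ hP := rfl
  have hstd : Algebra.IsStandardSmoothOfRelativeDimension (N - (N - r)) A
      (Localization.Away hB) :=
    E1.isStandardSmooth f cols hB (Localization.Away hB)
      (IsLocalization.Away.algebraMap_isUnit hB)
  have hNr : N - (N - r) = r := by omega
  rw [hNr] at hstd
  refine ⟨φ hP, hPq, Localization.Away hB, inferInstance, inferInstance, hstd, ?_⟩
  refine ⟨Localization.awayMapₐ πₐ hB, ?_⟩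
  change Function.Surjective (Localization.awayMap πₐ.toRingHom hB)
  rw [Localization.awayMap_surjective_iff]
  intro a
  obtain ⟨b, rfl⟩ := hπₐ a
  exact ⟨b, 0, by simp⟩

end Q1

end Helpers

/-- Let A → B be a finite type ring map, q a prime of B and r = dim_{κ(q)} Ω_{B/A} ⊗_B κ(q). Then there
are g in B with g not in q, an A-algebra D which is standard smooth of relative dimension r over A,
and a surjective A-algebra homomorphism D → B[1/g]; that is, the principal open D(g) containing q is
a closed subscheme of Spec D with D smooth of relative dimension r over A. (The published statement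
is for a morphism X → S locally of finite type, a point x and an affine open V ⊆ S under it, and
gives an affine open neighbourhood of x with a closed immersion over V into a scheme smooth of
relative dimension r over V; this row states the case X = Spec B, S = Spec A, with the neighbourhood
a principal open D(g) and the smooth scheme standard smooth.) -/
theorem result (A B : Type u) [CommRing A] [CommRing B] [Algebra A B] [Algebra.FiniteType A B]
    (q : Ideal B) [q.IsPrime] (r : ℕ) (hr : Module.finrank q.ResidueField (q.ResidueField ⊗[B] Ω[B⁄A]) = r) :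
    ∃ g : B, g ∉ q ∧ ∃ (D : Type u) (_ : CommRing D) (_ : Algebra A D),
      Algebra.IsStandardSmoothOfRelativeDimension r A D ∧
        ∃ φ : D →ₐ[A] Localization.Away g, Function.Surjective φ := by
  exact Q1.main A B q r hr

end Groth.Agent.S7634
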