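import Groth.Statements.S7636
import Groth.Agent.Lib.EulerBC54
import Groth.Agent.Lib.H90InvertibleFP
import Groth.Agent.S0034

set_option autoImplicit false
universe u
open CategoryTheory CategoryTheory.Limits AlgebraicGeometry
open Variety

namespace Groth.Agent.S7636

/-- Let X be proper of dimension at most one over a field k, let k' be a field extension of k and let E
be a finite locally free module of rank n on X. Then the degree of the pullback of E to the base
change X_{k'}, computed over k', equals the degree of E over k. -/
theorem result (k : Type u) [Field k] (X : Scheme.{u}) [X.Over (Spec (CommRingCat.of k))] [IsProper (X ↘ (Spec (CommRingCat.of k)))]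
    (hdim : topologicalKrullDim X ≤ 1) (k' : Type u) [Field k'] [Algebra k k']
    (n : ℕ) (E : X.Modules) (hE : FlatMod.IsFinLocFreeOfRank n E) :
    @Curv2.deg k' _ (Curv2.bc k X k') ⟨Curv2.bcSnd k X k'⟩
        ((Scheme.Modules.pullback (Curv2.bcFst k X k')).obj E) n = Curv2.deg k X E n := by
  exact Groth.Agent.Lib.EulerBC54.deg_bc_std
    (fun A B _ _ _ _ X X' _ _ _ _ g' h M _ i => Groth.Agent.S0034.result A B X X' g' h M i) k X k' E
    (Groth.Agent.Lib.H90Invertible.isQuasicoherent_of_isFinLocFree (fun x => by
      obtain ⟨U, hxU, h'⟩ := hE x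
      exact ⟨U, n, hxU, h'⟩)) n

end Groth.Agent.S7636
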