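import Groth.Statements.S7642
import Mathlib
import Groth.Agent.S1530
import Groth.Agent.S0051
import Groth.Agent.Lib.H78IrredComp
import Groth.Agent.Lib.H78PullAmple
import Groth.Agent.Lib.GrothVanish
import Groth.Agent.Lib.H90DevAtom

set_option autoImplicit false
universe u
open CategoryTheory CategoryTheory.Limits AlgebraicGeometry
open Variety

namespace Groth.Agent.S7642

/-- Let X be proper of dimension at most one over a field k and let L be an invertible module on X. Then
L is ample if and only if deg(L|_C) > 0 for every irreducible component C of X of dimension one, C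
carrying its reduced induced structure. -/
theorem result (k : Type u) [Field k] (X : Scheme.{u}) [X.Over (Spec (CommRingCat.of k))] [IsProper (X ↘ (Spec (CommRingCat.of k)))] [IsNoetherian X]
    (hdim : topologicalKrullDim X ≤ 1) (L : X.Modules) (hL : PicF.IsInvertible L) :
    CohB1.IsAmple L ↔ ∀ (C : Set X) (hC : C ∈ irreducibleComponents (X : Type u)),
      topologicalKrullDim C = 1 → 0 < @Curv2.deg k _ (X.irreducibleComponentIdeal C hC).radical.subscheme ⟨(X.irreducibleComponentIdeal C hC).radical.subschemeι ≫ (X ↘ (Spec (CommRingCat.of k)))⟩ ((Scheme.Modules.pullback (X.irreducibleComponentIdeal C hC).radical.subschemeι).obj L) 1 := by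
  classical
  have key : ∀ (I : X.IdealSheafData), IsIrreducible (I.support : Set X) → I.radical = I →
      (CohB1.IsAmple ((Scheme.Modules.pullback I.subschemeι).obj L) ↔
        (topologicalKrullDim (I.support : Set X) = 1 →
          0 < @Curv2.deg k _ I.subscheme ⟨I.subschemeι ≫ (X ↘ (Spec (CommRingCat.of k)))⟩
            ((Scheme.Modules.pullback I.subschemeι).obj L) 1)) := by
    intro I hirr hrad
    letI : I.subscheme.Over (Spec (CommRingCat.of k)) :=
      ⟨I.subschemeι ≫ (X ↘ (Spec (CommRingCat.of k)))⟩
    haveI : IsIntegral I.subscheme := by
      have h1 := Groth.Agent.Lib.H90DevAtom.isIntegral_subscheme I.support hirr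
      rw [Scheme.IdealSheafData.vanishingIdeal_support, hrad] at h1
      exact h1
    haveI : IsProper (I.subscheme ↘ (Spec (CommRingCat.of k))) := by
      change IsProper (I.subschemeι ≫ (X ↘ (Spec (CommRingCat.of k))))
      infer_instance
    have hL' : PicF.IsInvertible ((Scheme.Modules.pullback I.subschemeι).obj L) :=
      Groth.Agent.Lib.H90Invertible.isInvertible_pullback I.subschemeι hL
    have hdimeq : topologicalKrullDim I.subscheme = topologicalKrullDim (I.support : Set X) := rfl
    by_cases h1 : topologicalKrullDim (I.support : Set X) = 1
    · have := Groth.Agent.S1530.result k I.subscheme (hdimeq.trans h1) _ hL'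
      exact ⟨fun h _ => this.1 h, fun h => this.2 (h h1)⟩
    · refine ⟨fun _ h => absurd h h1, fun _ => ?_⟩
      have hle : topologicalKrullDim I.subscheme ≤ ((0 : ℕ) : WithBot ℕ∞) := by
        rw [hdimeq]
        have h2 : topologicalKrullDim (I.support : Set X) ≤ 1 :=
          (topologicalKrullDim_subspace_le X _).trans hdim
        have h3 : topologicalKrullDim (I.support : Set X) < 1 := lt_of_le_of_ne h2 h1
        generalize topologicalKrullDim (I.support : Set X) = d at h3
        induction d using WithBot.recBotCoe with
        | bot => exact bot_le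
        | coe d =>
          have : d < 1 := by exact_mod_cast h3
          have : d = 0 := Order.lt_one_iff.1 this
          subst this
          exact le_refl _
      haveI : IsLocallyNoetherian I.subscheme :=
        LocallyOfFiniteType.isLocallyNoetherian (I.subscheme ↘ (Spec (CommRingCat.of k)))
      haveI : CompactSpace I.subscheme :=
        QuasiCompact.compactSpace_of_compactSpace (I.subscheme ↘ (Spec (CommRingCat.of k)))
      haveI : IsNoetherian I.subscheme := {}
      refine (Groth.Agent.S0051.result k I.subscheme (I.subscheme ↘ (Spec (CommRingCat.of k))) _ hL').2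
        (fun M _ => ⟨0, fun n _ p hp => ?_⟩)
      exact Groth.Agent.Lib.GrothVanish.subsingleton_HH_of_dim_lt I.subscheme 0 hle _ p hp
  constructor
  · intro hA C hC hdimC
    have hk := key (X.irreducibleComponentIdeal C hC).radical hC.1 (by
      rw [← Scheme.IdealSheafData.vanishingIdeal_support, Scheme.IdealSheafData.support_radical,
        Scheme.IdealSheafData.vanishingIdeal_support])
    exact hk.1 (Groth.Agent.Lib.H78PullAmple.isAmple_pullback_of_isAffineHom _ hA) hdimC
  · intro h
    refine Groth.Agent.Lib.H78IrredComp.isAmple_of_irreducibleComponents k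
      (X ↘ (Spec (CommRingCat.of k))) hL (fun Z hZ => ?_)
    have e : Scheme.IdealSheafData.vanishingIdeal Z =
        (X.irreducibleComponentIdeal (Z : Set X) hZ).radical := by
      rw [← Scheme.IdealSheafData.vanishingIdeal_support]
      congr 1
    rw [e]
    have hk := key (X.irreducibleComponentIdeal (Z : Set X) hZ).radical hZ.1 (by
      rw [← Scheme.IdealSheafData.vanishingIdeal_support, Scheme.IdealSheafData.support_radical,
        Scheme.IdealSheafData.vanishingIdeal_support])
    exact hk.2 (fun hd => h (Z : Set X) hZ hd)

end Groth.Agent.S7642
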