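import Groth.Statements.S7644

set_option autoImplicit false
universe u
open CategoryTheory CategoryTheory.Limits AlgebraicGeometry TensorProduct Opposite
open Variety

namespace Groth.Agent.S7644

theorem result (k : Type u) [Field k] (X : Scheme.{u}) [X.Over (Spec (CommRingCat.of k))]
    [IsSeparated (X ↘ (Spec (CommRingCat.of k)))] [IrreducibleSpace X] (hdim : 0 < topologicalKrullDim X)
    (x : X) (hx : IsClosed ({x} : Set X)) :
    ¬ IsProper (Scheme.Opens.ι (⟨({x} : Set X)ᶜ, hx.isOpen_compl⟩ : X.Opens) ≫ (X ↘ (Spec (CommRingCat.of k)))) := by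
  intro hprop
  set U : X.Opens := ⟨({x} : Set X)ᶜ, hx.isOpen_compl⟩ with hU
  have h1 : IsProper U.ι := IsProper.of_comp U.ι (X ↘ (Spec (CommRingCat.of k)))
  have h2 : IsClosed (Set.range U.ι) := U.ι.isClosedMap.isClosed_range
  have h3 : Set.range U.ι = ({x} : Set X)ᶜ := by
    rw [Scheme.Opens.range_ι]
    rfl
  rw [h3] at h2
  have hclopen : IsClopen (({x} : Set X)ᶜ) := ⟨h2, hx.isOpen_compl⟩
  rcases isClopen_iff.1 hclopen with h | h
  · -- X = {x}
    have hsub : Subsingleton X := by
      constructor
      intro a b
      have ha : a ∈ ({x} : Set X) := by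
        by_contra hne
        have : a ∈ (({x} : Set X)ᶜ) := hne
        rw [h] at this
        exact this
      have hb : b ∈ ({x} : Set X) := by
        by_contra hne
        have : b ∈ (({x} : Set X)ᶜ) := hne
        rw [h] at this
        exact this
      rw [Set.mem_singleton_iff] at ha hb
      rw [ha, hb]
    have : topologicalKrullDim X ≤ 0 := topologicalKrullDim_zero_of_discreteTopology X
    exact absurd hdim (not_lt.2 this)
  · have : x ∈ (({x} : Set X)ᶜ) := by rw [h]; trivial
    exact this rfl

end Groth.Agent.S7644
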