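import Groth.Statements.S7645
import Groth.Agent.Lib.PoleGlue42
import Groth.Agent.Lib.ProjOfAmpleH3

set_option autoImplicit false
universe u
open CategoryTheory CategoryTheory.Limits AlgebraicGeometry
open Variety

namespace Groth.Agent.S7645

/-- A proper scheme of dimension at most one over a field k is H-projective over k, i.e. admits a closed
immersion into P^n_k over k for some n. -/
theorem result (k : Type u) [Field k] (X : Scheme.{u}) [X.Over (Spec (CommRingCat.of k))] [IsProper (X ↘ (Spec (CommRingCat.of k)))]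
    (hdim : topologicalKrullDim X ≤ 1) :
    ∃ (n : ℕ) (i : X ⟶ CohB1.ProjSpace n k), IsClosedImmersion i ∧
      i ≫ CohB1.ProjSpace.toSpec n k = X ↘ (Spec (CommRingCat.of k)) := by
  have h1 : IsLocallyNoetherian X := LocallyOfFiniteType.isLocallyNoetherian (X ↘ (Spec (CommRingCat.of k)))
  have h2 : CompactSpace X := QuasiCompact.compactSpace_of_compactSpace (X ↘ (Spec (CommRingCat.of k)))
  have h3 : IsNoetherian X := {}
  have h4 : X.IsSeparated := by
    have : IsSeparated (terminal.from X) := by
      rw [← terminal.comp_from (X ↘ (Spec (CommRingCat.of k)))]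
      infer_instance
    exact ⟨this⟩
  obtain ⟨L, hL⟩ := Groth.Agent.Lib.PoleGlue42.exists_isAmple_of_dim_le_one X hdim
  obtain ⟨n₀, hn₀⟩ := Groth.Agent.Lib.VeryAmplePowH3.exists_forall_isRelVeryAmplePn_tensorPow
    (X ↘ (Spec (CommRingCat.of k))) hL
  obtain ⟨N, i, himm, hif, -⟩ := hn₀ n₀ le_rfl
  have hif' : i ≫ Groth.Agent.Lib.VeryAmpleH3.sndP N (Spec (CommRingCat.of k)) = X ↘ (Spec (CommRingCat.of k)) := hif
  have : UniversallyClosed (i ≫ Groth.Agent.Lib.VeryAmpleH3.sndP N (Spec (CommRingCat.of k))) := by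
    rw [hif']; infer_instance
  have : UniversallyClosed i := UniversallyClosed.of_comp_of_isSeparated i (Groth.Agent.Lib.VeryAmpleH3.sndP N _)
  have : IsClosedImmersion i := IsClosedImmersion.of_isPreimmersion i i.isClosedMap.isClosed_range
  refine ⟨N, i ≫ (Groth.Agent.Lib.ProjOfAmpleH3.projSpaceIso N k).inv, ?_, ?_⟩
  · infer_instance
  · rw [Category.assoc, Groth.Agent.Lib.ProjOfAmpleH3.projSpaceIso_inv_toSpec]
    exact hif

end Groth.Agent.S7645
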