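import Groth.Statements.S7646
import Groth.Agent.S1627
import Groth.Agent.S1529
import Groth.Agent.S0021
import Groth.Agent.Lib.H90DevAtom

set_option autoImplicit false
universe u
open CategoryTheory CategoryTheory.Limits AlgebraicGeometry
open Variety

namespace Groth.Agent.S7646

/-- Let X be separated and of finite type over a field k with dim X ≤ 1, and assume that no irreducible
component of X of dimension one, given its reduced induced structure, is proper over k. Then X is
affine. -/
theorem result (k : Type u) [Field k] (X : Scheme.{u}) [X.Over (Spec (CommRingCat.of k))]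
    [IsSeparated (X ↘ (Spec (CommRingCat.of k)))] [LocallyOfFiniteType (X ↘ (Spec (CommRingCat.of k)))]
    [IsNoetherian X] (hdim : topologicalKrullDim X ≤ 1)
    (h : ∀ (C : Set X) (hC : C ∈ irreducibleComponents (X : Type u)), topologicalKrullDim C = 1 →
      ¬ IsProper ((X.irreducibleComponentIdeal C hC).radical.subschemeι ≫ (X ↘ (Spec (CommRingCat.of k))))) :
    IsAffine X := by
  classical
  have hqc : QuasiCompact (X ↘ (Spec (CommRingCat.of k))) := inferInstance
  have hproper : ∀ d : ℕ, IsProper (CohB1.ProjSpace.toSpec d k) := fun d =>
    Groth.Agent.Lib.ProjSpaceProper.isProper_toSpec d k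
  -- each component, with its reduced structure, is affine
  have key : ∀ (C : Set X) (hC : C ∈ irreducibleComponents (X : Type u)),
      IsAffine (X.irreducibleComponentIdeal C hC).radical.subscheme := by
    intro C hC
    have hrad : (X.irreducibleComponentIdeal C hC).radical.radical =
        (X.irreducibleComponentIdeal C hC).radical := by
      rw [← Scheme.IdealSheafData.vanishingIdeal_support, Scheme.IdealSheafData.support_radical,
        Scheme.IdealSheafData.vanishingIdeal_support]
    generalize hI : (X.irreducibleComponentIdeal C hC).radical = I at hrad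
    have hsupp : (I.support : Set X) = C := by rw [← hI]; rfl
    have hproperC : topologicalKrullDim C = 1 →
        ¬ IsProper (I.subschemeι ≫ (X ↘ (Spec (CommRingCat.of k)))) := by
      rw [← hI]; exact h C hC
    let : I.subscheme.Over (Spec (CommRingCat.of k)) :=
      ⟨I.subschemeι ≫ (X ↘ (Spec (CommRingCat.of k)))⟩
    have : IsIntegral I.subscheme := by
      have h1 := Groth.Agent.Lib.H90DevAtom.isIntegral_subscheme I.support (hsupp ▸ hC.1)
      rw [Scheme.IdealSheafData.vanishingIdeal_support, hrad] at h1
      exact h1
    have : IsSeparated (I.subscheme ↘ (Spec (CommRingCat.of k))) := by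
      change IsSeparated (I.subschemeι ≫ (X ↘ (Spec (CommRingCat.of k))))
      infer_instance
    have : LocallyOfFiniteType (I.subscheme ↘ (Spec (CommRingCat.of k))) := by
      change LocallyOfFiniteType (I.subschemeι ≫ (X ↘ (Spec (CommRingCat.of k))))
      infer_instance
    have : QuasiCompact (I.subscheme ↘ (Spec (CommRingCat.of k))) := by
      change QuasiCompact (I.subschemeι ≫ (X ↘ (Spec (CommRingCat.of k))))
      infer_instance
    have hdimeq : topologicalKrullDim I.subscheme = topologicalKrullDim (I.support : Set X) := rfl
    by_cases h1 : topologicalKrullDim C = 1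
    · rcases Groth.Agent.S1627.result k I.subscheme (by rw [hdimeq, hsupp]; exact h1) with
        haff | ⟨d, c, hc, hcomp⟩
      · exact haff
      · exfalso
        apply hproperC h1
        have : IsProper (c ≫ CohB1.ProjSpace.toSpec d k) := inferInstance
        rw [hcomp] at this
        exact this
    · have hle : topologicalKrullDim I.subscheme ≤ 0 := by
        rw [hdimeq, hsupp]
        have h2 : topologicalKrullDim C ≤ 1 := (topologicalKrullDim_subspace_le X _).trans hdim
        have h3 : topologicalKrullDim C < 1 := lt_of_le_of_ne h2 h1
        generalize topologicalKrullDim C = d at h3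
        induction d using WithBot.recBotCoe with
        | bot => exact bot_le
        | coe d =>
          have : d < 1 := by exact_mod_cast h3
          have : d = 0 := Order.lt_one_iff.1 this
          subst this
          exact le_refl _
      exact (Groth.Agent.S1529.result k I.subscheme hle).1
  -- assemble a finite surjection from an affine scheme
  have hfin : (irreducibleComponents (X : Type u)).Finite :=
    TopologicalSpace.NoetherianSpace.finite_irreducibleComponents
  have glue : ∀ s : Finset (Set X), (∀ C ∈ s, C ∈ irreducibleComponents (X : Type u)) →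
      ∃ (Y : Scheme.{u}) (g : Y ⟶ X), IsAffine Y ∧ IsFinite g ∧ ∀ C ∈ s, C ⊆ Set.range g.base := by
    intro s
    induction s using Finset.induction_on with
    | empty =>
      intro _
      refine ⟨(⊤ : X.IdealSheafData).subscheme, (⊤ : X.IdealSheafData).subschemeι, ?_, inferInstance,
        by simp⟩
      have : IsEmpty (⊤ : X.IdealSheafData).subscheme := by
        have : IsEmpty ((⊤ : X.IdealSheafData).support : Set X) := by
          rw [Scheme.IdealSheafData.support_top]
          exact Set.isEmpty_coe_sort.mpr rfl
        exact this
      infer_instance
    | insert C s hCs ih =>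
      intro hs
      obtain ⟨Y, g, hY, hg, hrange⟩ := ih (fun D hD => hs D (Finset.mem_insert_of_mem hD))
      have hC : C ∈ irreducibleComponents (X : Type u) := hs C (Finset.mem_insert_self _ _)
      have := key C hC
      refine ⟨(X.irreducibleComponentIdeal C hC).radical.subscheme ⨿ Y,
        coprod.desc (X.irreducibleComponentIdeal C hC).radical.subschemeι g, inferInstance,
        inferInstance, ?_⟩
      intro D hD x hx
      rcases Finset.mem_insert.1 hD with rfl | hD'
      · have hx' : x ∈ Set.range (X.irreducibleComponentIdeal D hC).radical.subschemeι := by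
          rw [Scheme.IdealSheafData.range_subschemeι]
          exact hx
        obtain ⟨u, rfl⟩ := hx'
        refine ⟨(coprod.inl : _ ⟶ (X.irreducibleComponentIdeal D hC).radical.subscheme ⨿ Y) u, ?_⟩
        rw [← Scheme.Hom.comp_apply, coprod.inl_desc]
      · obtain ⟨u, rfl⟩ := hrange D hD' hx
        refine ⟨(coprod.inr : _ ⟶ (X.irreducibleComponentIdeal C hC).radical.subscheme ⨿ Y) u, ?_⟩
        rw [← Scheme.Hom.comp_apply, coprod.inr_desc]
  obtain ⟨Y, g, hY, hg, hrange⟩ := glue hfin.toFinset (fun C hC => hfin.mem_toFinset.1 hC)
  have : Surjective g := ⟨fun x => by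
    have hx : x ∈ ⋃₀ irreducibleComponents (X : Type u) := by
      rw [sUnion_irreducibleComponents]; trivial
    obtain ⟨C, hC, hxC⟩ := hx
    exact hrange C (hfin.mem_toFinset.2 hC) hxC⟩
  exact Groth.Agent.S0021.result g

end Groth.Agent.S7646
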