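import Groth.Statements.S7647
import Groth.Agent.Lib.H59SnapperCurv

set_option autoImplicit false
universe u
open CategoryTheory CategoryTheory.Limits AlgebraicGeometry
open Variety

namespace Groth.Agent.S7647

/-- Let X be proper over a field k, Z ⊆ X a closed subscheme of dimension ≤ 1 and L an invertible
module. Then the intersection number (L · Z), i.e. the coefficient of n in the polynomial computing
χ(X, O_Z ⊗ L^{⊗n}), equals the degree of L|_Z on Z. -/
theorem result (k : Type u) [Field k] (X : Scheme.{u}) [X.Over (Spec (CommRingCat.of k))] [IsProper (X ↘ (Spec (CommRingCat.of k)))]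
    (D : X.IdealSheafData) (hD : topologicalKrullDim (D.support : Set X) ≤ 1)
    (L : X.Modules) (hL : PicF.IsInvertible L) (P : MvPolynomial (Fin 1) ℚ)
    (hP : ∀ n : Fin 1 → ℕ, (Curv2.euler k X (Curv2.tensorPows (ClSub.quotMod D) 1 (fun _ => L) n) : ℚ) = MvPolynomial.eval (fun i => (n i : ℚ)) P) :
    MvPolynomial.coeff (Finsupp.equivFunOnFinite.symm fun _ : Fin 1 => 1) P =
      (@Curv2.deg k _ D.subscheme ⟨D.subschemeι ≫ (X ↘ (Spec (CommRingCat.of k)))⟩
        ((Scheme.Modules.pullback D.subschemeι).obj L) 1 : ℚ) := by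
  classical
  -- the closed subscheme
  letI instZ : D.subscheme.Over (Spec (CommRingCat.of k)) :=
    ⟨D.subschemeι ≫ (X ↘ (Spec (CommRingCat.of k)))⟩
  haveI : D.subschemeι.IsOver (Spec (CommRingCat.of k)) := ⟨rfl⟩
  haveI hprop : IsProper (D.subscheme ↘ (Spec (CommRingCat.of k))) := by
    change IsProper (D.subschemeι ≫ (X ↘ (Spec (CommRingCat.of k))))
    infer_instance
  haveI : X.IsSeparated :=
    Groth.Agent.Lib.H90ProperFin.isSeparated_of_over_affine (X ↘ (Spec (CommRingCat.of k)))
  -- dimension of the closed subscheme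
  have hdZ : topologicalKrullDim D.subscheme ≤ 1 := by
    have hemb : Topology.IsEmbedding D.subschemeι := D.subschemeι.isEmbedding
    have h1 : topologicalKrullDim D.subscheme = topologicalKrullDim (Set.range D.subschemeι) :=
      IsHomeomorph.topologicalKrullDim_eq _ hemb.toHomeomorph.isHomeomorph
    rw [h1, D.range_subschemeι]
    exact hD
  set L' : D.subscheme.Modules := (Scheme.Modules.pullback D.subschemeι).obj L with hL'def
  have hL' : PicF.IsInvertible L' := Groth.Agent.Lib.H90Invertible.isInvertible_pullback _ hL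
  have hOc : Coh.IsCoh (Coh.structureModule D.subscheme) :=
    Groth.Agent.Lib.CohFinAmple.isCoh_structureModule _
  haveI : (Coh.structureModule D.subscheme).IsQuasicoherent := hOc.1
  -- Snapper on the subscheme
  obtain ⟨P', hP'deg, hP'⟩ := Groth.Agent.Lib.H59SnapperCurv.snapper k D.subscheme 1 hdZ
    (fun _ : Fin 1 => L') (fun _ => hL') (Coh.structureModule D.subscheme) hOc 1
    ((topologicalKrullDim_subspace_le _ _).trans hdZ)
  have hZ : ∀ n : Fin 1 → ℕ, (Curv2.euler k D.subscheme
      (Curv2.tensorPows (Coh.structureModule D.subscheme) 1 (fun _ => L') n) : ℚ) =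
      MvPolynomial.eval (fun i => (n i : ℚ)) P := by
    intro n
    rw [← hP n]
    congr 1
    exact (Groth.Agent.Lib.H59EulerClosed.euler_tensorPows_pushforward k D.subschemeι
      (Coh.structureModule D.subscheme) 1 (fun _ => L) (fun _ => hL) n).symm
  have hPP' : P = P' := Groth.Agent.Lib.H59PolyNat.eq_of_eval_nat_eq P P' fun n => by
    rw [← hZ n, hP' n]
  rw [Groth.Agent.Lib.H59PolyNat.coeff_one_eq_sub P (hPP' ▸ hP'deg)]
  have e1 := hZ (fun _ => 1)
  have e0 := hZ (fun _ => 0)
  simp only [Nat.cast_one, Nat.cast_zero] at e1 e0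
  rw [← e1, ← e0]
  have c1 : Curv2.euler k D.subscheme
      (Curv2.tensorPows (Coh.structureModule D.subscheme) 1 (fun _ => L') (fun _ => 1)) =
      Curv2.euler k D.subscheme L' := by
    refine Groth.Agent.Lib.H59EulerClosed.euler_eq_of_cls_eq k ?_
    rw [Groth.Agent.Lib.H59EulerClosed.cls_tensorPows]
    simp [Groth.Agent.Lib.IsoCls13.cls_one]
  have c0 : Curv2.euler k D.subscheme
      (Curv2.tensorPows (Coh.structureModule D.subscheme) 1 (fun _ => L') (fun _ => 0)) =
      Curv2.euler k D.subscheme (Coh.structureModule D.subscheme) := by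
    refine Groth.Agent.Lib.H59EulerClosed.euler_eq_of_cls_eq k ?_
    rw [Groth.Agent.Lib.H59EulerClosed.cls_tensorPows]
    simp [Groth.Agent.Lib.IsoCls13.cls_one]
  rw [c1, c0]
  unfold Curv2.deg
  push_cast
  ring

end Groth.Agent.S7647
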