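import Groth.Statements.S7653
import Groth.Agent.S4861
import Mathlib.RingTheory.DiscreteValuationRing.TFAE
import Mathlib.RingTheory.Length
import Mathlib.RingTheory.Ideal.MinimalPrime.Noetherian
import Mathlib.RingTheory.KrullDimension.Field

set_option autoImplicit false
set_option maxHeartbeats 400000
universe u

namespace Groth.Agent.S7653

/-- `δ(A) = 0` iff every element of the total ring of fractions integral over `A` comes from `A`. -/
lemma deltaInv_eq_zero_iff (A : Type u) [CommRing A] :
    Curv2.deltaInv A = 0 ↔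
      ∀ x : FractionRing A, IsIntegral A x → ∃ a : A, algebraMap A (FractionRing A) a = x := by
  unfold Curv2.deltaInv
  rw [Module.length_eq_zero_iff, Submodule.Quotient.subsingleton_iff, LinearMap.range_eq_top]
  constructor
  · intro h x hx
    obtain ⟨a, ha⟩ := h ⟨x, hx⟩
    exact ⟨a, congrArg Subtype.val ha⟩
  · rintro h ⟨x, hx⟩
    obtain ⟨a, ha⟩ := h x hx
    exact ⟨a, Subtype.ext ha⟩

lemma idem_calc {K : Type*} [CommRing K] (X Y t : K) (ht : (X + Y) * t = 1) (hXY : X * Y = 0) :
    X * t * (X * t) = X * t ∧ (X * t = 1 → Y = 0) ∧ (X * t = 0 → X = 0) := by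
  refine ⟨?_, fun hXt => ?_, fun hXt => ?_⟩
  · linear_combination (X * t) * ht - (t * t) * hXY
  · linear_combination (-Y) * hXt + t * hXY
  · linear_combination (-X) * ht + (X + Y) * hXt

lemma isIntegral_of_idem {R K : Type*} [CommRing R] [CommRing K] [Algebra R K] (e : K)
    (h : e * e = e) : IsIntegral R e := by
  refine ⟨Polynomial.X * (Polynomial.X - Polynomial.C 1),
    Polynomial.monic_X.mul (Polynomial.monic_X_sub_C 1), ?_⟩
  rw [Polynomial.eval₂_mul, Polynomial.eval₂_sub, Polynomial.eval₂_X, Polynomial.eval₂_C, map_one,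
    mul_sub, h, mul_one, sub_self]

lemma isDomain_of_closed {A : Type u} [CommRing A] [IsLocalRing A] [IsReduced A]
    [IsNoetherianRing A]
    (h : ∀ x : FractionRing A, IsIntegral A x → ∃ a : A, algebraMap A (FractionRing A) a = x) :
    IsDomain A := by
  classical
  have hfin : (minimalPrimes A).Finite := minimalPrimes.finite_of_isNoetherianRing A
  obtain ⟨⟨p, hp⟩⟩ : Nonempty (minimalPrimes A) :=
    Ideal.nonempty_minimalPrimes (I := (⊥ : Ideal A)) (by simp)
  have hpprime : p.IsPrime := hp.1.1
  have hnil : ∀ z : A, (∀ q ∈ minimalPrimes A, z ∈ q) → z = 0 := by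
    intro z hz
    have : z ∈ sInf (minimalPrimes A) := by
      rw [Ideal.mem_sInf]; exact fun {q} hq => hz q hq
    rw [minimalPrimes, Ideal.sInf_minimalPrimes, Ideal.radical_bot_of_isReduced] at this
    simpa using this
  -- it suffices to show `p` is the only minimal prime
  by_cases honly : ∀ q ∈ minimalPrimes A, q = p
  · have hp0 : p = ⊥ := by
      rw [eq_bot_iff]
      intro z hz
      rw [Ideal.mem_bot]
      exact hnil z (fun q hq => (honly q hq) ▸ hz)
    have : (⊥ : Ideal A).IsPrime := hp0 ▸ hpprime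
    exact IsDomain.of_bot_isPrime A
  · exfalso
    push Not at honly
    obtain ⟨q₀, hq₀, hq₀p⟩ := honly
    set T : Finset (Ideal A) := hfin.toFinset.erase p with hT
    have hTmem : ∀ q, q ∈ T ↔ q ∈ minimalPrimes A ∧ q ≠ p := by
      intro q; simp [hT, and_comm]
    have hq₀T : q₀ ∈ T := (hTmem q₀).2 ⟨hq₀, hq₀p⟩
    -- y ∈ p, y ∉ q for q ∈ T
    have hy : ∃ y ∈ p, ∀ q ∈ T, y ∉ q := by
      by_contra hcon
      push Not at hcon
      have hsub : (p : Set A) ⊆ ⋃ q ∈ (T : Set (Ideal A)), (q : Set A) := by
        intro y hy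
        obtain ⟨q, hqT, hyq⟩ := hcon y hy
        exact Set.mem_biUnion hqT hyq
      rw [Ideal.subset_union_prime q₀ q₀ (fun q hq _ _ => ((hTmem q).1 hq).1.1.1)] at hsub
      obtain ⟨q, hqT, hpq⟩ := hsub
      obtain ⟨hqmin, hqp⟩ := (hTmem q).1 hqT
      exact hqp (le_antisymm (hqmin.2 hp.1 hpq) hpq)
    obtain ⟨y, hyp, hyT⟩ := hy
    -- x ∈ ⨅ T, x ∉ p
    have hx : ∃ x, (∀ q ∈ T, x ∈ q) ∧ x ∉ p := by
      by_contra hcon
      push Not at hcon
      have hle : T.inf id ≤ p := by
        intro x hx
        apply hcon x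
        intro q hq
        exact (Finset.inf_le (f := id) hq) hx
      obtain ⟨q, hqT, hqp⟩ := (Ideal.IsPrime.inf_le' hpprime).1 hle
      obtain ⟨hqmin, hqne⟩ := (hTmem q).1 hqT
      exact hqne (le_antisymm hqp (hp.2 hqmin.1 hqp))
    obtain ⟨x, hxT, hxp⟩ := hx
    have hxy : x * y = 0 := by
      apply hnil
      intro q hq
      by_cases hqp : q = p
      · exact hqp ▸ Ideal.mul_mem_left _ _ hyp
      · exact Ideal.mul_mem_right _ _ (hxT q ((hTmem q).2 ⟨hq, hqp⟩))
    have hs : ∀ q ∈ minimalPrimes A, x + y ∉ q := by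
      intro q hq hmem
      by_cases hqp : q = p
      · subst hqp
        exact hxp (by simpa using Ideal.sub_mem _ hmem hyp)
      · have hqT := (hTmem q).2 ⟨hq, hqp⟩
        exact hyT q hqT (by simpa using Ideal.sub_mem _ hmem (hxT q hqT))
    have hsnzd : x + y ∈ nonZeroDivisors A := by
      rw [mem_nonZeroDivisors_iff_right]
      intro z hz
      apply hnil
      intro q hq
      have : z * (x + y) ∈ q := by rw [hz]; exact zero_mem _
      exact (hq.1.1.mem_or_mem this).resolve_right (hs q hq)
    -- the idempotent e = x / (x + y)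
    let K := FractionRing A
    have hinj : Function.Injective (algebraMap A K) := IsFractionRing.injective A K
    obtain ⟨t, ht⟩ : ∃ t : K, (algebraMap A K x + algebraMap A K y) * t = 1 := by
      have hu : IsUnit (algebraMap A K (x + y)) :=
        IsLocalization.map_units K (⟨x + y, hsnzd⟩ : nonZeroDivisors A)
      rw [map_add] at hu
      exact hu.exists_right_inv
    have hXY : algebraMap A K x * algebraMap A K y = 0 := by
      rw [← map_mul, hxy, map_zero]
    set X := algebraMap A K x with hX
    set Y := algebraMap A K y with hY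
    obtain ⟨hee, hone, hzero⟩ := idem_calc X Y t ht hXY
    have hint : IsIntegral A (X * t) := isIntegral_of_idem _ hee
    obtain ⟨a, ha⟩ := h _ hint
    have haa : a * a = a := hinj (by rw [map_mul, ha, hee])
    rcases IsLocalRing.isUnit_or_isUnit_one_sub_self a with hu | hu
    · -- a = 1
      have ha1 : a = 1 := (IsIdempotentElem.iff_eq_one_of_isUnit hu).1 haa
      have hXt : X * t = 1 := by rw [← ha, ha1, map_one]
      have hY0 : Y = 0 := hone hXt
      have : y = 0 := hinj (by rw [← hY, hY0, map_zero])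
      exact hyT q₀ hq₀T (this ▸ zero_mem _)
    · -- a = 0
      have h1a : (1 - a) * (1 - a) = 1 - a := by
        linear_combination haa
      have ha0 : a = 0 := by
        have := (IsIdempotentElem.iff_eq_one_of_isUnit hu).1 h1a
        linear_combination -this
      have hXt : X * t = 0 := by rw [← ha, ha0, map_zero]
      have hX0 : X = 0 := hzero hXt
      have : x = 0 := hinj (by rw [← hX, hX0, map_zero])
      exact hxp (this ▸ zero_mem _)

/-- For a reduced local Nagata ring A of Krull dimension one, the δ-invariant of A is zero exactly when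
A is a DVR (in particular a domain). -/
theorem result (A : Type u) [CommRing A] [IsLocalRing A]
    [IsReduced A] (hN : CAlg.IsNagata A) (hdim : ringKrullDim A = 1) :
    Curv2.deltaInv A = 0 ↔ ∃ _ : IsDomain A, IsDiscreteValuationRing A := by
  have hnoeth : IsNoetherianRing A := hN.1
  rw [deltaInv_eq_zero_iff]
  constructor
  · intro hclosed
    have hdom : IsDomain A := isDomain_of_closed hclosed
    refine ⟨hdom, ?_⟩
    have hnf : ¬ IsField A := by
      intro hf
      rw [ringKrullDim_eq_zero_of_isField hf] at hdim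
      exact zero_ne_one hdim
    have hic : IsIntegrallyClosed A :=
      (isIntegrallyClosed_iff (FractionRing A)).2 (fun {x} hx => hclosed x hx)
    have hm0 : IsLocalRing.maximalIdeal A ≠ ⊥ := by
      intro h0
      exact hnf (IsLocalRing.isField_iff_maximalIdeal_eq.2 h0)
    have huniq : ∃! P : Ideal A, P ≠ ⊥ ∧ P.IsPrime := by
      refine ⟨IsLocalRing.maximalIdeal A, ⟨hm0, inferInstance⟩, ?_⟩
      rintro P ⟨hP0, hP⟩
      have := Groth.Agent.S4861.isMaximal_of_dim_le_one (B := A) hdim.le P hP0
      exact IsLocalRing.eq_maximalIdeal this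
    have htfae := (IsDiscreteValuationRing.TFAE A hnf).out 3 0
    exact htfae.1 ⟨hic, huniq⟩
  · rintro ⟨hdom, hdvr⟩ x hx
    exact (isIntegrallyClosed_iff (FractionRing A)).1 inferInstance hx

end Groth.Agent.S7653
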