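import Groth.Statements.S7654
import Groth.Agent.Lib.DeltaBC98
import Groth.Agent.Lib.HznWeaklyEtale96
import Groth.Agent.Lib.HenselizationNoeth
import Groth.Agent.Lib.HenselizationUP
import Groth.Agent.Lib.StrictHenselizationMax
import Groth.Agent.S0540
import Groth.Agent.Lib.H56WEtalePrimes
import Groth.Agent.Lib.H14AdicLocal
import Groth.Agent.Lib.AdicNoeth

set_option autoImplicit false
universe u
open CategoryTheory CategoryTheory.Limits AlgebraicGeometry
open Variety

namespace Groth.Agent.S7654

open IsLocalRing TensorProduct Groth.Agent.Lib.DeltaBC98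

set_option maxHeartbeats 400000

theorem delta_eq_of (A : Type u) [CommRing A] [IsLocalRing A] [IsReduced A]
    (hN : CAlg.IsNagata A) (hdim : ringKrullDim A = 1)
    (B : Type u) [CommRing B] [IsLocalRing B] [Algebra A B] [IsLocalHom (algebraMap A B)]
    [Module.Flat A B] [IsNoetherianRing B]
    (hm : (maximalIdeal A).map (algebraMap A B) = maximalIdeal B)
    (hram : ∀ (A' : Type u) [CommRing A'] [Algebra A A'] [Algebra.IsIntegral A A']
      (n : Ideal (A' ⊗[A] B)) [n.IsMaximal],
      (n.comap (algebraMap A' (A' ⊗[A] B))).map (algebraMap A' (Localization.AtPrime n)) =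
        maximalIdeal (Localization.AtPrime n)) :
    Curv2.deltaInv B = Curv2.deltaInv A := by
  haveI : IsNoetherianRing A := hN.1
  obtain ⟨hfin, -, -⟩ := Groth.Agent.S7652.result A hN hdim
  haveI := hfin
  unfold Curv2.deltaInv
  exact length_eq A B ↥(integralClosure A (FractionRing A))
    (integralClosure A (FractionRing A)).val Subtype.val_injective (fun a' => a'.2)
    (fun m' _ => dvr_loc A hN hdim m') hm
    (fun n _ => hram ↥(integralClosure A (FractionRing A)) n)


/-- For a reduced local Nagata ring A of Krull dimension one, the δ-invariant does not change on passing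
to a henselization of A, to a strict henselization of A, or to the completion of A. -/
theorem result (A : Type u) [CommRing A] [IsLocalRing A]
    [IsReduced A] (hN : CAlg.IsNagata A) (hdim : ringKrullDim A = 1) :
    (∀ (B : Type u) [CommRing B] [IsLocalRing B] [Algebra A B] [IsLocalHom (algebraMap A B)],
        Hensel.IsHenselization A B → Curv2.deltaInv B = Curv2.deltaInv A) ∧
      (∀ (B : Type u) [CommRing B] [IsLocalRing B] [Algebra A B] [IsLocalHom (algebraMap A B)],
        Hensel.IsStrictHenselization A B → Curv2.deltaInv B = Curv2.deltaInv A) ∧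
      Curv2.deltaInv (Curv2.cpl A) = Curv2.deltaInv A := by
  haveI hNoeth : IsNoetherianRing A := hN.1
  refine ⟨?_, ?_, ?_⟩
  · intro B _ _ _ _ hB
    haveI := hB
    haveI hwe : Algebra.WeaklyEtale A B :=
      Groth.Agent.Lib.HznWeaklyEtale96.weaklyEtale_of_isHenselization A B
    haveI : IsNoetherianRing B :=
      (Groth.Agent.Lib.HenselizationNoeth.isNoetherianRing_iff_of_isHenselization A B).mp hNoeth
    exact delta_eq_of A hN hdim B (Groth.Agent.Lib.HenselizationUP.map_maximalIdeal_eq A B)
      (fun A' _ _ _ n _ => Groth.Agent.Lib.H56WEtalePrimes.map_under_eq_maximalIdeal n)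
  · intro B _ _ _ _ hB
    haveI := hB
    haveI hwe : Algebra.WeaklyEtale A B :=
      Groth.Agent.Lib.HznWeaklyEtale96.weaklyEtale_of_isStrictHenselization A B
    haveI : IsNoetherianRing B := (Groth.Agent.S0540.result A B).mp hNoeth
    exact delta_eq_of A hN hdim B
      (Groth.Agent.Lib.StrictHenselizationMax.map_maximalIdeal_eq A B)
      (fun A' _ _ _ n _ => Groth.Agent.Lib.H56WEtalePrimes.map_under_eq_maximalIdeal n)
  · haveI : IsNoetherianRing (AdicCompletion (maximalIdeal A) A) :=
      Groth.Agent.Lib.AdicNoeth.isNoetherianRing_adicCompletion _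
    haveI : Module.Flat A (AdicCompletion (maximalIdeal A) A) :=
      AdicCompletion.flat_of_isNoetherian (maximalIdeal A)
    exact delta_eq_of A hN hdim (AdicCompletion (maximalIdeal A) A)
      (AdicCompletion.maximalIdeal_eq_map (R := A)).symm
      (fun A' _ _ _ n _ => hram_of_residue_surjective A (AdicCompletion (maximalIdeal A) A) A'
        (fun b => Groth.Agent.Lib.H14AdicLocal.exists_sub_mem_map A (maximalIdeal A)
          (maximalIdeal A).fg_of_isNoetherianRing b) n)

end Groth.Agent.S7654
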