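import Groth.Statements.S7662
import Groth.Agent.Lib.AffComp13c

set_option autoImplicit false
universe u
open CategoryTheory CategoryTheory.Limits AlgebraicGeometry
open Variety

namespace Groth.Agent.S7662

/-- Let X be a scheme with finitely many irreducible components Z_1, …, Z_t and T ⊆ X a finite set of
points such that, for each i, some affine open of Z_i with its reduced closed subscheme structure
contains the points of T on Z_i. Then some affine open of X contains every point of T. -/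
theorem result (X : Scheme.{u})
    (hX : (irreducibleComponents (X : Type u)).Finite) (T : Finset X)
    (h : ∀ (Z : Set X) (hZ : Z ∈ irreducibleComponents (X : Type u)),
      ∃ V : (Scheme.IdealSheafData.vanishingIdeal
          (⟨Z, isClosed_of_mem_irreducibleComponents Z hZ⟩ : TopologicalSpace.Closeds X)).subscheme.Opens,
        IsAffineOpen V ∧ ∀ t ∈ T, t ∈ Z → t ∈ (Scheme.IdealSheafData.vanishingIdeal
          (⟨Z, isClosed_of_mem_irreducibleComponents Z hZ⟩ : TopologicalSpace.Closeds X)).subschemeι.base '' (V : Set _)) :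
    ∃ U : X.Opens, IsAffineOpen U ∧ ∀ t ∈ T, t ∈ U := by
  classical
  -- the finite set of irreducible components, as closed sets
  let s : Finset (TopologicalSpace.Closeds X) := hX.toFinset.attach.image fun Z =>
    ⟨Z.1, isClosed_of_mem_irreducibleComponents Z.1 (hX.mem_toFinset.mp Z.2)⟩
  have hs : ∀ x : X, ∃ C ∈ s, x ∈ C := by
    intro x
    obtain ⟨Z, hZ, hxZ⟩ := exists_mem_irreducibleComponents_subset_of_isIrreducible {x}
      isIrreducible_singleton
    refine ⟨⟨Z, isClosed_of_mem_irreducibleComponents Z hZ⟩, ?_, hxZ rfl⟩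
    exact Finset.mem_image.mpr ⟨⟨Z, hX.mem_toFinset.mpr hZ⟩, Finset.mem_attach _ _, rfl⟩
  have hh : ∀ C ∈ s, ∃ U : X.Opens,
      IsAffineOpen (Groth.Agent.Lib.AffComp13.rι C ⁻¹ᵁ U) ∧ (T : Set X) ∩ C ⊆ U := by
    intro C hC
    obtain ⟨Z, -, rfl⟩ := Finset.mem_image.mp hC
    obtain ⟨V, hV, hTV⟩ := h Z.1 (hX.mem_toFinset.mp Z.2)
    obtain ⟨O, hO, hOV⟩ := (Groth.Agent.Lib.AffComp13.rι
      (⟨Z.1, isClosed_of_mem_irreducibleComponents Z.1 (hX.mem_toFinset.mp Z.2)⟩ :
        TopologicalSpace.Closeds X)).isClosedEmbedding.isInducing.isOpen_iff.mp V.2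
    refine ⟨⟨O, hO⟩, ?_, ?_⟩
    · have : Groth.Agent.Lib.AffComp13.rι
          (⟨Z.1, isClosed_of_mem_irreducibleComponents Z.1 (hX.mem_toFinset.mp Z.2)⟩ :
            TopologicalSpace.Closeds X) ⁻¹ᵁ ⟨O, hO⟩ = V := TopologicalSpace.Opens.ext hOV
      rw [this]
      exact hV
    · rintro t ⟨htT, htZ⟩
      obtain ⟨v, hv, rfl⟩ := hTV t htT htZ
      have : v ∈ (Groth.Agent.Lib.AffComp13.rι
          (⟨Z.1, isClosed_of_mem_irreducibleComponents Z.1 (hX.mem_toFinset.mp Z.2)⟩ :
            TopologicalSpace.Closeds X)) ⁻¹' O := by rw [hOV]; exact hv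
      exact this
  obtain ⟨U, hU, hTU⟩ := Groth.Agent.Lib.AffComp13.exists_isAffineOpen_of_cover (T : Set X)
    T.finite_toSet s hs hh
  exact ⟨U, hU, fun t ht => hTU ht⟩

end Groth.Agent.S7662
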