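import Groth.Statements.S7664
import Groth.Agent.Lib.GlueDimOne

set_option autoImplicit false
universe u
open CategoryTheory CategoryTheory.Limits AlgebraicGeometry
open Variety

namespace Groth.Agent.S7664


open Groth.Agent.Lib.GlueDimOne in
theorem part_a (K : Type u) [Field K]
    (A : Subring K) [IsFractionRing A K] (hdim : ringKrullDim A = 1)
    (hsl : Finite (MaximalSpectrum A))
    (B : ValuationSubring K) [IsDiscreteValuationRing B]
    (u : A) (hu : IsUnit u) (huB : (u : K) ∉ B) :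
    ∃ y z : K, y + z = 1 ∧ y ≠ 0 ∧ z ≠ 0 ∧ y ∈ A ∧ y ∈ B.toSubring ∧ z ∈ A ∧ z ∈ B.toSubring ∧
      y⁻¹ ∈ A ∧ z⁻¹ ∈ B.toSubring ∧ (∀ k : K, ∃ N : ℕ, k * y ^ N ∈ B.toSubring) ∧
      (∀ k : K, ∃ N : ℕ, k * z ^ N ∈ A) := by
  have hK1 : Ring.KrullDimLE 1 A := by rw [Ring.krullDimLE_iff, hdim]; rfl
  have hnf : ¬ IsField A := by
    intro h
    have := ringKrullDim_eq_zero_of_isField h
    rw [hdim] at this
    exact one_ne_zero this
  obtain ⟨t, ht0, htm⟩ := exists_ne_zero_mem_all_maximal hnf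
  have htK : (t : K) ≠ 0 := fun h => ht0 (Subtype.ext h)
  obtain ⟨ui, hui⟩ := hu.exists_right_inv
  have huiK : (u : K) * (ui : K) = 1 := congrArg Subtype.val hui
  have hu0 : (u : K) ≠ 0 := left_ne_zero_of_mul_eq_one huiK
  -- w = u⁻¹ ∈ m_B
  have hw : ((u : K)⁻¹)⁻¹ ∉ B := by rwa [inv_inv]
  obtain ⟨N, hN⟩ := dvr_exists_pow_mul_mem B (u : K)⁻¹ hw (t : K)⁻¹
  -- x = t * u^(N+1)
  obtain ⟨x, hx⟩ : ∃ x : K, x = (t : K) * (u : K) ^ (N + 1) := ⟨_, rfl⟩
  have hx0 : x ≠ 0 := hx ▸ mul_ne_zero htK (pow_ne_zero _ hu0)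
  have hxA : x ∈ A := hx ▸ A.mul_mem t.2 (A.pow_mem u.2 _)
  have hxm : ∀ m : Ideal A, m.IsMaximal → (⟨x, hxA⟩ : A) ∈ m := by
    intro m hm
    have : (⟨x, hxA⟩ : A) = t * u ^ (N + 1) := by ext; simp [hx]
    rw [this]
    exact m.mul_mem_right _ (htm m hm)
  have hxiB : x⁻¹ ∈ B := by
    have : x⁻¹ = ((t : K)⁻¹ * ((u : K)⁻¹) ^ N) * (u : K)⁻¹ := by
      rw [hx, mul_inv, ← inv_pow, pow_succ, mul_assoc]
    rw [this]
    exact B.mul_mem _ _ hN ((B.mem_or_inv_mem (u : K)).resolve_left huB)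
  have hxnB : x ∉ B := by
    intro hxB
    -- then (t⁻¹ u⁻ᴺ) * u⁻¹ is a unit of B, so u⁻¹ is a unit, so u ∈ B
    apply huB
    have key : (u : K) ^ (N + 1) * ((u : K)⁻¹) ^ N = u := by
      rw [pow_succ', mul_assoc, ← mul_pow, mul_inv_cancel₀ hu0, one_pow, mul_one]
    have : (u : K) = x * ((t : K)⁻¹ * ((u : K)⁻¹) ^ N) := by
      rw [hx]
      calc (u : K) = ((t : K) * (t : K)⁻¹) * ((u : K) ^ (N + 1) * ((u : K)⁻¹) ^ N) := by
            rw [mul_inv_cancel₀ htK, one_mul, key]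
        _ = _ := by ring
    rw [this]
    exact B.mul_mem _ _ hxB hN
  -- 1 + x is a unit of A
  have h1x : IsUnit ((1 : A) + ⟨x, hxA⟩) := by
    by_contra hnu
    obtain ⟨m, hm, hmem⟩ := exists_max_ideal_of_mem_nonunits hnu
    have h2 := hxm m hm
    have : (1 : A) ∈ m := by
      have := m.sub_mem hmem h2
      simpa using this
    exact hm.ne_top ((Ideal.eq_top_iff_one _).mpr this)
  obtain ⟨q, hq⟩ := h1x.exists_right_inv
  have hqK : (1 + x) * (q : K) = 1 := congrArg Subtype.val hq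
  have h1x0 : (1 + x) ≠ 0 := left_ne_zero_of_mul_eq_one hqK
  have hqe : (q : K) = (1 + x)⁻¹ := (inv_eq_of_mul_eq_one_right hqK).symm
  -- 1 + x⁻¹ is a unit of B
  have h1xi : IsUnit ((1 : B) + ⟨x⁻¹, hxiB⟩) := by
    have hnu : ¬ IsUnit (⟨x⁻¹, hxiB⟩ : B) := by
      intro h
      obtain ⟨r, hr⟩ := h.exists_right_inv
      have hrK : x⁻¹ * (r : K) = 1 := congrArg Subtype.val hr
      apply hxnB
      have : x = (r : K) := by
        field_simp at hrK
        exact hrK.symm
      rw [this]; exact r.2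
    have := IsLocalRing.isUnit_or_isUnit_of_add_one (a := -(⟨x⁻¹, hxiB⟩ : B))
      (b := (1 : B) + ⟨x⁻¹, hxiB⟩) (by ring)
    rcases this with h | h
    · exact absurd (by simpa using h.neg) hnu
    · exact h
  obtain ⟨r, hr⟩ := h1xi.exists_right_inv
  have hrK : (1 + x⁻¹) * (r : K) = 1 := congrArg Subtype.val hr
  have h1xi0 : (1 + x⁻¹) ≠ 0 := left_ne_zero_of_mul_eq_one hrK
  have hre : (r : K) = (1 + x⁻¹)⁻¹ := (inv_eq_of_mul_eq_one_right hrK).symm
  have e : 1 + x⁻¹ = (1 + x) * x⁻¹ := by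
    rw [add_mul, one_mul, mul_inv_cancel₀ hx0, add_comm]
  refine ⟨(1 + x)⁻¹, x * (1 + x)⁻¹, ?_, inv_ne_zero h1x0, mul_ne_zero hx0 (inv_ne_zero h1x0),
    ?_, ?_, ?_, ?_, ?_, ?_, ?_, ?_⟩
  · field_simp
  · rw [← hqe]; exact q.2
  · -- (1+x)⁻¹ = x⁻¹ * (1 + x⁻¹)⁻¹
    have : (1 + x)⁻¹ = x⁻¹ * (1 + x⁻¹)⁻¹ := by
      rw [e, mul_inv, inv_inv, mul_comm ((1 + x)⁻¹) x, ← mul_assoc, inv_mul_cancel₀ hx0, one_mul]
    rw [this, ← hre]
    exact B.mul_mem _ _ hxiB r.2
  · rw [← hqe]; exact A.mul_mem hxA q.2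
  · have : x * (1 + x)⁻¹ = (1 + x⁻¹)⁻¹ := by
      rw [e, mul_inv, inv_inv, mul_comm]
    rw [this, ← hre]; exact r.2
  · rw [inv_inv]; exact A.add_mem A.one_mem hxA
  · have : (x * (1 + x)⁻¹)⁻¹ = 1 + x⁻¹ := by
      rw [mul_inv, inv_inv, e, mul_comm]
    rw [this]; exact B.add_mem _ _ B.one_mem hxiB
  · intro k
    apply dvr_exists_pow_mul_mem B
    rw [inv_inv]
    intro h
    apply hxnB
    have : x = (1 + x) - 1 := by ring
    rw [this]
    exact B.toSubring.sub_mem h B.toSubring.one_mem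
  · intro k
    have hzA : x * (1 + x)⁻¹ ∈ A := by rw [← hqe]; exact A.mul_mem hxA q.2
    apply dimOne_exists_pow_mul_mem A _ hzA
    intro m hm
    have : (⟨x * (1 + x)⁻¹, hzA⟩ : A) = ⟨x, hxA⟩ * q := by ext; simp [hqe]
    rw [this]
    exact m.mul_mem_right _ (hxm m hm)


open Groth.Agent.Lib.GlueDimOne in
theorem part_b (K : Type u) [Field K]
    (A : Subring K) [IsFractionRing A K] (hdim : ringKrullDim A = 1)
    (hsl : Finite (MaximalSpectrum A))
    (B : ValuationSubring K) [IsDiscreteValuationRing B]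
    (hun : ∀ u : A, IsUnit u → (u : K) ∈ B) :
    (∃ h : A ≤ B.toSubring,
        (Ideal.comap (Subring.inclusion h) (IsLocalRing.maximalIdeal B)).IsMaximal) ∧
      A ⊔ B.toSubring ≠ ⊤ := by
  have hK1 : Ring.KrullDimLE 1 A := by rw [Ring.krullDimLE_iff, hdim]; rfl
  have hnf : ¬ IsField A := by
    intro h
    have := ringKrullDim_eq_zero_of_isField h
    rw [hdim] at this
    exact one_ne_zero this
  obtain ⟨t, ht0, htm⟩ := exists_ne_zero_mem_all_maximal hnf
  have htK : (t : K) ≠ 0 := fun h => ht0 (Subtype.ext h)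
  -- elements of the radical plus one are units
  have hrad : ∀ a : A, (t : K) * (a : K) ∈ B := by
    intro a
    have h1 : IsUnit ((1 : A) + t * a) := by
      by_contra hnu
      obtain ⟨m, hm, hmem⟩ := exists_max_ideal_of_mem_nonunits hnu
      have h2 : t * a ∈ m := m.mul_mem_right _ (htm m hm)
      have : (1 : A) ∈ m := by
        have := m.sub_mem hmem h2
        simpa using this
      exact hm.ne_top ((Ideal.eq_top_iff_one _).mpr this)
    have h3 := hun _ h1
    have : (t : K) * (a : K) = (((1 : A) + t * a : A) : K) - 1 := by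
      push_cast; ring
    rw [this]
    exact B.toSubring.sub_mem h3 B.toSubring.one_mem
  have hAB : A ≤ B.toSubring := by
    intro a ha
    by_contra haB
    have haB' : a ∉ B := haB
    have ha0 : a ≠ 0 := by
      rintro rfl
      exact haB' B.zero_mem
    have hw : (a⁻¹)⁻¹ ∉ B := by rwa [inv_inv]
    obtain ⟨N, hN⟩ := dvr_exists_pow_mul_mem B a⁻¹ hw (t : K)⁻¹
    have h1 := hrad (⟨a, ha⟩ ^ (N + 1))
    apply haB'
    have key : a ^ (N + 1) * (a⁻¹) ^ N = a := by
      rw [pow_succ', mul_assoc, ← mul_pow, mul_inv_cancel₀ ha0, one_pow, mul_one]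
    have : a = ((t : K) * a ^ (N + 1)) * ((t : K)⁻¹ * (a⁻¹) ^ N) := by
      calc a = ((t : K) * (t : K)⁻¹) * (a ^ (N + 1) * (a⁻¹) ^ N) := by
            rw [mul_inv_cancel₀ htK, one_mul, key]
        _ = _ := by ring
    rw [this]
    refine B.mul_mem _ _ ?_ hN
    simpa using h1
  obtain ⟨ϖ, hϖ⟩ := IsDiscreteValuationRing.exists_irreducible B
  have hBtop : B.toSubring ≠ ⊤ := by
    intro htop
    apply hϖ.not_isUnit
    have hmem : (ϖ : K)⁻¹ ∈ B.toSubring := by rw [htop]; trivial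
    have hϖ0 : (ϖ : K) ≠ 0 := fun h => hϖ.ne_zero (Subtype.ext h)
    refine ⟨⟨ϖ, ⟨(ϖ : K)⁻¹, hmem⟩, ?_, ?_⟩, rfl⟩
    · ext; simp [hϖ0]
    · ext; simp [hϖ0]
  refine ⟨⟨hAB, ?_⟩, ?_⟩
  · have hp : (Ideal.comap (Subring.inclusion hAB) (IsLocalRing.maximalIdeal B)).IsPrime :=
      Ideal.comap_isPrime _ _
    apply hp.isMaximal_of_ne_bot
    intro hbot
    apply hϖ.not_isUnit
    obtain ⟨a, s, hs, has⟩ := IsFractionRing.div_surjective (A := A) (ϖ : K)
    have hs0 : s ≠ 0 := nonZeroDivisors.ne_zero hs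
    have hsK : (s : K) ≠ 0 := fun h => hs0 (Subtype.ext h)
    have hϖ0 : (ϖ : K) ≠ 0 := fun h => hϖ.ne_zero (Subtype.ext h)
    have ha0 : a ≠ 0 := by
      rintro rfl
      apply hϖ0
      rw [← has]; simp
    have hunit : ∀ c : A, c ≠ 0 → IsUnit (Subring.inclusion hAB c : B) := by
      intro c hc
      rw [← IsLocalRing.notMem_maximalIdeal]
      intro hmem
      have : c ∈ Ideal.comap (Subring.inclusion hAB) (IsLocalRing.maximalIdeal B) := hmem
      rw [hbot] at this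
      exact hc (by simpa using this)
    obtain ⟨si, hsi⟩ := (hunit s hs0).exists_right_inv
    have hsiK : (s : K) * (si : K) = 1 := congrArg Subtype.val hsi
    have : ϖ = (Subring.inclusion hAB a : B) * si := by
      ext
      show (ϖ : K) = (a : K) * (si : K)
      rw [← has]
      show (a : K) / (s : K) = _
      field_simp
      rw [mul_assoc, hsiK, mul_one]
    rw [this]
    exact (hunit a ha0).mul (IsUnit.of_mul_eq_one _ (by rw [mul_comm]; exact hsi))
  · rw [sup_eq_right.mpr hAB]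
    exact hBtop

/-- Let K be a field, A ⊆ K a Noetherian semi-local domain of dimension one and B ⊆ K a discrete
valuation ring, both with fraction field K, and R = A ∩ B. (a) If some unit of A does not lie in R,
then Spec A and Spec B each map to Spec R by an open immersion, Spec R is the union of the two
images, and the natural map A ⊗_R B → K is an isomorphism. (b) If every unit of A lies in R, then B
dominates the local ring of A at one of its maximal ideals (A ⊆ B and the maximal ideal of B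
contracts to a maximal ideal of A) and A ⊗ B → K is not surjective. -/
theorem result (K : Type u) [Field K]
    (A : Subring K) [IsFractionRing A K] [IsNoetherianRing A] (hdim : ringKrullDim A = 1) (hsl : Finite (MaximalSpectrum A))
    (B : ValuationSubring K) [IsDiscreteValuationRing B] :
    ((∃ u : A, IsUnit u ∧ (u : K) ∉ B) →
      IsOpenImmersion (Spec.map (CommRingCat.ofHom (Subring.inclusion (inf_le_left : A ⊓ B.toSubring ≤ A)))) ∧
      IsOpenImmersion (Spec.map (CommRingCat.ofHom (Subring.inclusion (inf_le_right : A ⊓ B.toSubring ≤ B.toSubring)))) ∧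
      Set.range (Spec.map (CommRingCat.ofHom (Subring.inclusion (inf_le_left : A ⊓ B.toSubring ≤ A)))).base ∪
        Set.range (Spec.map (CommRingCat.ofHom (Subring.inclusion (inf_le_right : A ⊓ B.toSubring ≤ B.toSubring)))).base = Set.univ ∧
      IsPushout (CommRingCat.ofHom (Subring.inclusion (inf_le_left : A ⊓ B.toSubring ≤ A)))
        (CommRingCat.ofHom (Subring.inclusion (inf_le_right : A ⊓ B.toSubring ≤ B.toSubring)))
        (CommRingCat.ofHom A.subtype) (CommRingCat.ofHom B.toSubring.subtype)) ∧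
    ((∀ u : A, IsUnit u → (u : K) ∈ B) →
      (∃ h : A ≤ B.toSubring,
        (Ideal.comap (Subring.inclusion h) (IsLocalRing.maximalIdeal B)).IsMaximal) ∧ A ⊔ B.toSubring ≠ ⊤) := by
  refine ⟨?_, fun hun => part_b K A hdim hsl B hun⟩
  rintro ⟨u, hu, huB⟩
  obtain ⟨y, z, hyz, hy0, hz0, hyA, hyB, hzA, hzB, hyi, hzi, hB, hA⟩ :=
    part_a K A hdim hsl B u hu huB
  exact Groth.Agent.Lib.GlueDimOne.glue A B.toSubring y z hyz hy0 hz0 hyA hyB hzA hzB hyi hzi hB hA

end Groth.Agent.S7664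

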