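import Groth.Statements.S7666
import Mathlib.RingTheory.KrullDimension.Basic
import Mathlib.RingTheory.Ideal.MinimalPrime.Basic
import Mathlib.RingTheory.Finiteness.Ideal
import Mathlib.Algebra.Ring.GeomSum

set_option autoImplicit false
universe u
open CategoryTheory CategoryTheory.Limits AlgebraicGeometry
open Variety

namespace Groth.Agent.S7666

/-- In a one-dimensional local ring, an ideal not contained in any minimal prime has radical
containing the maximal ideal. -/
theorem maximalIdeal_le_radical (A : Type u) [CommRing A] [IsLocalRing A]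
    (hdim : ringKrullDim A = 1) (J : Ideal A)
    (hJ : ∀ p ∈ minimalPrimes A, ¬ J ≤ p) : IsLocalRing.maximalIdeal A ≤ J.radical := by
  have hd : Ring.KrullDimLE 1 A := Ring.krullDimLE_iff.mpr (by rw [hdim]; rfl)
  rw [Ideal.radical_eq_sInf]
  apply le_sInf
  rintro q ⟨hJq, hq⟩
  rcases Ring.krullDimLE_one_iff.mp hd q hq with hmin | hmax
  · exact absurd hJq (hJ q hmin)
  · rw [IsLocalRing.eq_maximalIdeal hmax]

/-- An element of a one-dimensional Noetherian local ring which dies in all the localizations at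
minimal primes is killed by a power of the maximal ideal. -/
theorem exists_pow_le_ker (A : Type u) [CommRing A] [IsLocalRing A] [IsNoetherianRing A]
    (hdim : ringKrullDim A = 1) (x : A)
    (hx : ∀ p : {p : PrimeSpectrum A // p.asIdeal ∈ minimalPrimes A},
      algebraMap A (Localization.AtPrime p.1.asIdeal) x = 0) :
    ∃ N : ℕ, ∀ y ∈ IsLocalRing.maximalIdeal A ^ N, y * x = 0 := by
  let J : Ideal A := LinearMap.ker (LinearMap.toSpanSingleton A A x)
  have hJmem : ∀ y, y ∈ J ↔ y * x = 0 := by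
    intro y
    simp [J, LinearMap.mem_ker]
  have hJ : ∀ p ∈ minimalPrimes A, ¬ J ≤ p := by
    intro p hp hJp
    have hpp : p.IsPrime := hp.1.1
    have h0 := hx ⟨⟨p, hpp⟩, hp⟩
    rw [IsLocalization.map_eq_zero_iff p.primeCompl] at h0
    obtain ⟨s, hs⟩ := h0
    have : (s : A) ∈ J := (hJmem _).mpr hs
    exact s.2 (hJp this)
  have hle := maximalIdeal_le_radical A hdim J hJ
  obtain ⟨N, hN⟩ := Ideal.exists_pow_le_of_le_radical_of_fg hle
    (IsNoetherian.noetherian (IsLocalRing.maximalIdeal A))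
  exact ⟨N, fun y hy => (hJmem y).mp (hN hy)⟩

/-- Let A be a one-dimensional Noetherian local ring and L = ∏ A_p, the product over the minimal primes
of A. If a_1, a_2 ∈ m_A have the same image in L, then a_1 and a_2 have equal n-th powers for some
positive integer n. -/
theorem result (A : Type u) [CommRing A]
    [IsLocalRing A] [IsNoetherianRing A] (hdim : ringKrullDim A = 1)
    (a₁ a₂ : A) (h₁ : a₁ ∈ IsLocalRing.maximalIdeal A) (h₂ : a₂ ∈ IsLocalRing.maximalIdeal A)
    (heq : ∀ p : {p : PrimeSpectrum A // p.asIdeal ∈ minimalPrimes A},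
      algebraMap A (Localization.AtPrime p.1.asIdeal) a₁ = algebraMap A (Localization.AtPrime p.1.asIdeal) a₂) :
    ∃ n : ℕ, 0 < n ∧ a₁ ^ n = a₂ ^ n := by
  obtain ⟨N, hN⟩ := exists_pow_le_ker A hdim (a₁ - a₂) (fun p => by rw [map_sub, heq p, sub_self])
  refine ⟨N + 1, Nat.succ_pos N, ?_⟩
  rw [← sub_eq_zero, ← geom_sum₂_mul a₁ a₂ (N + 1)]
  apply hN
  apply Ideal.sum_mem
  intro i hi
  rw [Finset.mem_range] at hi
  have h3 : N + 1 - 1 - i = N - i := by omega
  rw [h3]
  have h4 : a₁ ^ i * a₂ ^ (N - i) ∈ IsLocalRing.maximalIdeal A ^ i * IsLocalRing.maximalIdeal A ^ (N - i) :=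
    Ideal.mul_mem_mul (Ideal.pow_mem_pow h₁ i) (Ideal.pow_mem_pow h₂ (N - i))
  rw [← pow_add] at h4
  have h5 : i + (N - i) = N := by omega
  rwa [h5] at h4

end Groth.Agent.S7666
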