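import Groth.Statements.S7667
import Groth.Agent.S7666
import Mathlib.RingTheory.KrullDimension.Zero
import Mathlib.RingTheory.Ideal.MinimalPrime.Noetherian
import Mathlib.RingTheory.Noetherian.Nilpotent
import Mathlib.RingTheory.Localization.AtPrime.Basic

set_option autoImplicit false
universe u
open CategoryTheory CategoryTheory.Limits AlgebraicGeometry
open Variety

namespace Groth.Agent.S7667

variable (A : Type u) [CommRing A]

/-- The index type: minimal primes. -/
abbrev Idx : Type u := {p : PrimeSpectrum A // p.asIdeal ∈ minimalPrimes A}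

/-- The product of the localizations at minimal primes. -/
abbrev LL : Type u := ∀ p : Idx A, Localization.AtPrime p.1.asIdeal

theorem idx_finite [IsNoetherianRing A] : Finite (Idx A) := by
  have hfin : (minimalPrimes A).Finite := minimalPrimes.finite_of_isNoetherianRing A
  have : Finite (minimalPrimes A) := hfin.to_subtype
  let g : Idx A → minimalPrimes A := fun p => ⟨p.1.asIdeal, p.2⟩
  apply Finite.of_injective g
  intro p q hpq
  apply Subtype.ext
  apply PrimeSpectrum.ext
  exact congrArg Subtype.val hpq

/-- Elements of a minimal prime become nilpotent in the localization. -/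
theorem isNilpotent_of_mem (q : Idx A) (e : A) (he : e ∈ q.1.asIdeal) :
    IsNilpotent (algebraMap A (Localization.AtPrime q.1.asIdeal) e) := by
  have : Ring.KrullDimLE 0 (Localization.AtPrime q.1.asIdeal) :=
    Ring.KrullDimLE.of_isLocalization q.1.asIdeal q.2 _
  rw [Ring.KrullDimLE.isNilpotent_iff_mem_maximalIdeal]
  exact (IsLocalization.AtPrime.to_map_mem_maximal_iff _ q.1.asIdeal e).mpr he

/-- For each minimal prime `p` there is `E ∉ p` mapping to zero in the localizations at the
other minimal primes. -/
theorem exists_idem [IsNoetherianRing A] (p : Idx A) :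
    ∃ E : A, E ∉ p.1.asIdeal ∧ ∀ q : Idx A, q ≠ p →
      algebraMap A (Localization.AtPrime q.1.asIdeal) E = 0 := by
  classical
  have := idx_finite A
  have : Fintype (Idx A) := Fintype.ofFinite _
  -- prime avoidance
  have h1 : ¬ ((Finset.univ.erase p).inf (fun q : Idx A => q.1.asIdeal) ≤ p.1.asIdeal) := by
    intro hle
    obtain ⟨q, hq, hqp⟩ := (p.1.isPrime.inf_le').mp hle
    rw [Finset.mem_erase] at hq
    apply hq.1
    have hpq : p.1.asIdeal ≤ q.1.asIdeal := p.2.2 ⟨q.1.isPrime, bot_le⟩ hqp
    apply Subtype.ext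
    apply PrimeSpectrum.ext
    exact le_antisymm hqp hpq
  obtain ⟨e, he, hep⟩ := Set.not_subset.mp h1
  have heq : ∀ q : Idx A, q ≠ p → e ∈ q.1.asIdeal := by
    intro q hq
    have : (Finset.univ.erase p).inf (fun q : Idx A => q.1.asIdeal) ≤ q.1.asIdeal :=
      Finset.inf_le (Finset.mem_erase.mpr ⟨hq, Finset.mem_univ q⟩)
    exact this he
  -- a uniform exponent
  have hnil : ∀ q : Idx A, q ≠ p → ∃ n : ℕ,
      algebraMap A (Localization.AtPrime q.1.asIdeal) e ^ n = 0 :=
    fun q hq => isNilpotent_of_mem A q e (heq q hq)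
  choose! n hn using hnil
  refine ⟨e ^ (Finset.univ.sup n), ?_, ?_⟩
  · intro h
    exact hep (p.1.isPrime.mem_of_pow_mem _ h)
  · intro q hq
    rw [map_pow]
    exact pow_eq_zero_of_le (Finset.le_sup (Finset.mem_univ q)) (hn q hq)

/-- For `l` in the product ring, the ideal of `t` with `t • l` in the image of `A`. -/
def conductor (l : LL A) : Ideal A :=
  Submodule.comap (LinearMap.toSpanSingleton A (LL A) l)
    (LinearMap.range (Algebra.linearMap A (LL A)))

theorem mem_conductor (l : LL A) (t : A) :
    t ∈ conductor A l ↔ ∃ b : A, algebraMap A (LL A) b = algebraMap A (LL A) t * l := by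
  simp only [conductor, Submodule.mem_comap, LinearMap.toSpanSingleton_apply, LinearMap.mem_range,
    Algebra.linearMap_apply, Algebra.smul_def]

theorem conductor_not_le [IsNoetherianRing A] (l : LL A) (p : Idx A) :
    ¬ conductor A l ≤ p.1.asIdeal := by
  obtain ⟨E, hEp, hE⟩ := exists_idem A p
  obtain ⟨c, s, hcs⟩ := IsLocalization.exists_mk'_eq p.1.asIdeal.primeCompl (l p)
  intro hle
  have hmem : (s : A) * E ∈ conductor A l := by
    rw [mem_conductor]
    refine ⟨E * c, ?_⟩
    funext q
    simp only [Pi.algebraMap_apply, Pi.mul_apply, map_mul]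
    by_cases hq : q = p
    · subst hq
      rw [← hcs]
      have hspec : algebraMap A (Localization.AtPrime q.1.asIdeal) (s : A) *
          IsLocalization.mk' (Localization.AtPrime q.1.asIdeal) c s =
          algebraMap A (Localization.AtPrime q.1.asIdeal) c := IsLocalization.mk'_spec' _ c s
      rw [mul_right_comm, hspec, mul_comm]
    · rw [hE q hq]
      ring
  have := hle hmem
  rcases p.1.isPrime.mem_or_mem this with h | h
  · exact s.2 h
  · exact hEp h

/-- For `l` in the product ring and `a` in the maximal ideal, a power of `a` multiplies `l` into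
the image of `A`. -/
theorem exists_pow_mul_mem [IsLocalRing A] [IsNoetherianRing A] (hdim : ringKrullDim A = 1)
    (a : A) (ha : a ∈ IsLocalRing.maximalIdeal A) (l : LL A) :
    ∃ k : ℕ, ∀ k' : ℕ, k ≤ k' → algebraMap A (LL A) a ^ k' * l ∈ (algebraMap A (LL A)).range := by
  have hJ : ∀ p ∈ minimalPrimes A, ¬ conductor A l ≤ p := by
    intro p hp
    exact conductor_not_le A l ⟨⟨p, hp.1.1⟩, hp⟩
  have hle := Groth.Agent.S7666.maximalIdeal_le_radical A hdim (conductor A l) hJ
  obtain ⟨k, hk⟩ := (conductor A l).mem_radical_iff.mp (hle ha)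
  refine ⟨k, fun k' hk' => ?_⟩
  have h1 : a ^ k' ∈ conductor A l := by
    obtain ⟨d, rfl⟩ := Nat.exists_eq_add_of_le hk'
    rw [pow_add]
    exact Ideal.mul_mem_right _ _ hk
  obtain ⟨b, hb⟩ := (mem_conductor A l _).mp h1
  exact ⟨b, by rw [hb, map_pow]⟩

/-- Let A be a one-dimensional Noetherian local ring, L the product of the localizations A_p over its
minimal primes p, and I the intersection of those primes (the nilradical of A). If f ∈ L equals i +
a with a in the maximal ideal of A and i ∈ I·L, then for some positive integer n, f^n belongs to the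
subring of L obtained as the image of the structure map from A. -/
theorem result (A : Type u) [CommRing A]
    [IsLocalRing A] [IsNoetherianRing A] (hdim : ringKrullDim A = 1)
    (a : A) (ha : a ∈ IsLocalRing.maximalIdeal A)
    (i : ∀ p : {p : PrimeSpectrum A // p.asIdeal ∈ minimalPrimes A}, Localization.AtPrime p.1.asIdeal)
    (hi : i ∈ (nilradical A).map (algebraMap A (∀ p : {p : PrimeSpectrum A // p.asIdeal ∈ minimalPrimes A}, Localization.AtPrime p.1.asIdeal))) :
    ∃ n : ℕ, 0 < n ∧ (i + algebraMap A (∀ p : {p : PrimeSpectrum A // p.asIdeal ∈ minimalPrimes A}, Localization.AtPrime p.1.asIdeal) a) ^ n ∈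
      (algebraMap A (∀ p : {p : PrimeSpectrum A // p.asIdeal ∈ minimalPrimes A}, Localization.AtPrime p.1.asIdeal)).range := by
  classical
  -- `i` is nilpotent
  obtain ⟨K, hK⟩ := IsNoetherianRing.isNilpotent_nilradical A
  have hiK : i ^ K = 0 := by
    have h1 : i ^ K ∈ ((nilradical A).map (algebraMap A (LL A))) ^ K := Ideal.pow_mem_pow hi K
    rw [← Ideal.map_pow, hK] at h1
    simpa using h1
  -- uniform exponent for the powers of `i`
  choose k hk using fun j : ℕ => exists_pow_mul_mem A hdim a ha (i ^ j)
  let k0 := (Finset.range (K + 1)).sup k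
  refine ⟨K + k0 + 1, Nat.succ_pos _, ?_⟩
  rw [add_pow]
  apply Subring.sum_mem
  intro j hj
  rw [Finset.mem_range] at hj
  by_cases hjK : K ≤ j
  · have : i ^ j = 0 := pow_eq_zero_of_le hjK hiK
    rw [this]
    simp
  · push Not at hjK
    have hkj : k j ≤ K + k0 + 1 - j := by
      have : k j ≤ k0 := Finset.le_sup (f := k) (Finset.mem_range.mpr (by omega))
      omega
    have h2 := hk j (K + k0 + 1 - j) hkj
    have h3 : i ^ j * algebraMap A (LL A) a ^ (K + k0 + 1 - j) * ((K + k0 + 1).choose j : LL A) =
        (algebraMap A (LL A) a ^ (K + k0 + 1 - j) * i ^ j) * ((K + k0 + 1).choose j : LL A) := by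
      ring
    rw [h3]
    exact Subring.mul_mem _ h2 (natCast_mem _ _)

end Groth.Agent.S7667
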