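import Groth.Statements.S7668
import Mathlib.RingTheory.Localization.Ideal
import Mathlib.RingTheory.Ideal.Operations

set_option autoImplicit false
universe u
open CategoryTheory CategoryTheory.Limits AlgebraicGeometry
open Variety

namespace Groth.Agent.S7668

variable {A : Type u} [CommRing A] {r : ℕ} (p : Fin r → PrimeSpectrum A)

/-- The multiplicative set: complement of the union of the primes. -/
abbrev S : Submonoid A := ⨅ i, (p i).asIdeal.primeCompl

theorem mem_S (x : A) : x ∈ S p ↔ ∀ i, x ∉ (p i).asIdeal := by
  simp [S, Submonoid.mem_iInf, Ideal.primeCompl]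

/-- A prime is disjoint from `S` iff it is contained in one of the given primes. -/
theorem disjoint_iff (q : Ideal A) [q.IsPrime] :
    Disjoint (S p : Set A) (q : Set A) ↔ ∃ i, q ≤ (p i).asIdeal := by
  constructor
  · intro hd
    have hsub : (q : Set A) ⊆ ⋃ i ∈ ((Finset.univ : Finset (Fin r)) : Set (Fin r)),
        ((p i).asIdeal : Set A) := by
      intro x hx
      have hxS : x ∉ S p := fun hxS => Set.disjoint_left.mp hd hxS hx
      rw [mem_S] at hxS
      push Not at hxS
      obtain ⟨i, hi⟩ := hxS
      exact Set.mem_biUnion (by simp) hi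
    have hprime : ∀ i ∈ (Finset.univ : Finset (Fin r)), i ≠ i → i ≠ i →
        ((p i).asIdeal).IsPrime := fun i _ _ _ => (p i).isPrime
    by_cases hr : r = 0
    · subst hr
      exfalso
      have h0 : (0 : A) ∈ S p := by
        rw [mem_S]
        intro i
        exact i.elim0
      exact Set.disjoint_left.mp hd h0 q.zero_mem
    · obtain ⟨i0⟩ : Nonempty (Fin r) := ⟨⟨0, Nat.pos_of_ne_zero hr⟩⟩
      obtain ⟨i, _, hi⟩ := (Ideal.subset_union_prime (f := fun i => (p i).asIdeal) i0 i0
        (fun i _ _ _ => (p i).isPrime)).mp hsub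
      exact ⟨i, hi⟩
  · rintro ⟨i, hi⟩
    rw [Set.disjoint_left]
    intro x hxS hxq
    exact (mem_S p x).mp hxS i (hi hxq)


theorem comap_injective :
    Function.Injective (fun m : Ideal (Localization (S p)) =>
      m.comap (algebraMap A (Localization (S p)))) := by
  intro J J' h
  have h1 := IsLocalization.map_under (S p) (Localization (S p)) J
  have h2 := IsLocalization.map_under (S p) (Localization (S p)) J'
  rw [← h1, ← h2]
  exact congrArg (Ideal.map (algebraMap A (Localization (S p)))) h

theorem le_of_comap_le (J J' : Ideal (Localization (S p)))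
    (h : J.comap (algebraMap A (Localization (S p))) ≤ J'.comap (algebraMap A (Localization (S p)))) :
    J ≤ J' :=
  (IsLocalization.under_le_under_iff (S p) (Localization (S p))).mp h

/-- The comap of a maximal ideal is one of the `p i`, maximal among them. -/
theorem comap_maximal (M : Ideal (Localization (S p))) (hM : M.IsMaximal) :
    ∃ i, M.comap (algebraMap A (Localization (S p))) = (p i).asIdeal ∧
      ∀ j, (p i).asIdeal ≤ (p j).asIdeal → (p i).asIdeal = (p j).asIdeal := by
  have hMp : M.IsPrime := hM.isPrime
  obtain ⟨hqp, hqd⟩ := (IsLocalization.isPrime_iff_isPrime_disjoint (S p) (Localization (S p)) M).mp hMp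
  set q := M.comap (algebraMap A (Localization (S p))) with hq
  have : q.IsPrime := hqp
  obtain ⟨i, hi⟩ := (disjoint_iff p q).mp hqd
  -- the prime of `L` corresponding to `p i`
  have hdi : ∀ j, Disjoint (S p : Set A) ((p j).asIdeal : Set A) := fun j =>
    haveI := (p j).isPrime
    (disjoint_iff p (p j).asIdeal).mpr ⟨j, le_rfl⟩
  have hP : ∀ j, (Ideal.map (algebraMap A (Localization (S p))) (p j).asIdeal).IsPrime := fun j =>
    IsLocalization.isPrime_of_isPrime_disjoint (S p) _ _ (p j).isPrime (hdi j)
  have hcP : ∀ j, (Ideal.map (algebraMap A (Localization (S p))) (p j).asIdeal).comap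
      (algebraMap A (Localization (S p))) = (p j).asIdeal := fun j =>
    IsLocalization.under_map_of_isPrime_disjoint (S p) _ (p j).isPrime (hdi j)
  have hMle : M ≤ Ideal.map (algebraMap A (Localization (S p))) (p i).asIdeal := by
    apply le_of_comap_le
    rw [hcP]
    exact hi
  have hMeq : M = Ideal.map (algebraMap A (Localization (S p))) (p i).asIdeal :=
    hM.eq_of_le (hP i).ne_top hMle
  have hqeq : q = (p i).asIdeal := by
    rw [hq, hMeq, hcP]
  refine ⟨i, hqeq, ?_⟩
  intro j hij
  have h1 : M ≤ Ideal.map (algebraMap A (Localization (S p))) (p j).asIdeal := by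
    rw [hMeq]
    exact Ideal.map_mono hij
  have h2 : M = Ideal.map (algebraMap A (Localization (S p))) (p j).asIdeal :=
    hM.eq_of_le (hP j).ne_top h1
  rw [← hcP i, ← hcP j, ← hMeq, ← h2]

/-- Let A be a ring, p_1, …, p_r primes of A and S = A ∖ ⋃ p_i. Then S is a multiplicative subset, S⁻¹A
is semi-local, and contraction to A is a bijection from the maximal ideals of S⁻¹A onto the maximal
elements of {p_1, …, p_r}. -/
theorem result (A : Type u) [CommRing A]
    (r : ℕ) (p : Fin r → PrimeSpectrum A) :
    Finite (MaximalSpectrum (Localization (⨅ i, (p i).asIdeal.primeCompl))) ∧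
      Set.BijOn (fun m : Ideal (Localization (⨅ i, (p i).asIdeal.primeCompl)) =>
          m.comap (algebraMap A (Localization (⨅ i, (p i).asIdeal.primeCompl))))
        {m | m.IsMaximal}
        {q | q ∈ Set.range (fun i => (p i).asIdeal) ∧
          ∀ j, q ≤ (p j).asIdeal → q = (p j).asIdeal} := by
  classical
  refine ⟨?_, ?_, ?_, ?_⟩
  · -- finiteness
    choose f hf using fun M : MaximalSpectrum (Localization (S p)) => comap_maximal p M.asIdeal M.isMaximal
    apply Finite.of_injective f
    intro M M' hMM
    apply MaximalSpectrum.ext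
    apply comap_injective p
    change M.asIdeal.comap _ = M'.asIdeal.comap _
    rw [(hf M).1, (hf M').1, hMM]
  · -- maps to
    intro M hM
    obtain ⟨i, hi, hmax⟩ := comap_maximal p M hM
    refine ⟨⟨i, hi.symm⟩, ?_⟩
    intro j hj
    change M.comap _ ≤ _ at hj
    change M.comap _ = _
    rw [hi] at hj ⊢
    exact hmax j hj
  · -- injective
    exact (comap_injective p).injOn
  · -- surjective
    rintro q ⟨⟨i, rfl⟩, hmax⟩
    have hdi : Disjoint (S p : Set A) ((p i).asIdeal : Set A) :=
      haveI := (p i).isPrime
      (disjoint_iff p (p i).asIdeal).mpr ⟨i, le_rfl⟩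
    have hP : (Ideal.map (algebraMap A (Localization (S p))) (p i).asIdeal).IsPrime :=
      IsLocalization.isPrime_of_isPrime_disjoint (S p) _ _ (p i).isPrime hdi
    have hcP : (Ideal.map (algebraMap A (Localization (S p))) (p i).asIdeal).comap
        (algebraMap A (Localization (S p))) = (p i).asIdeal :=
      IsLocalization.under_map_of_isPrime_disjoint (S p) _ (p i).isPrime hdi
    obtain ⟨M, hM, hPM⟩ := Ideal.exists_le_maximal _ hP.ne_top
    obtain ⟨j, hj, -⟩ := comap_maximal p M hM
    have h1 : (p i).asIdeal ≤ (p j).asIdeal := by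
      rw [← hcP, ← hj]
      exact Ideal.comap_mono hPM
    have h2 : (p i).asIdeal = (p j).asIdeal := hmax j h1
    have h3 : M = Ideal.map (algebraMap A (Localization (S p))) (p i).asIdeal := by
      apply comap_injective p
      change M.comap _ = (Ideal.map _ _).comap _
      rw [hj, hcP, h2]
    refine ⟨M, hM, ?_⟩
    change M.comap _ = (p i).asIdeal
    rw [hj, h2]

end Groth.Agent.S7668
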