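import Groth.Statements.S7674
import Groth.Agent.Lib.H8AffDim
import Groth.Agent.Lib.H8AffTop

set_option autoImplicit false
universe u
open CategoryTheory CategoryTheory.Limits AlgebraicGeometry
open Variety

namespace Groth.Agent.S7674

/-- Let k be a field, n ≥ 0, and X, Y ⊆ A^n_k closed subsets which are equidimensional of dimensions r
and s. Then each irreducible component Z of the intersection X ∩ Y satisfies dim Z ≥ r + s − n. -/
theorem result (k : Type u) [Field k] (n r s : ℕ)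
    (X Y : Set ↥(𝔸(ULift.{u} (Fin n); Spec (CommRingCat.of k)))) (hX : IsClosed X) (hY : IsClosed Y)
    (hXr : ∀ Z ∈ irreducibleComponents X, topologicalKrullDim Z = r)
    (hYs : ∀ Z ∈ irreducibleComponents Y, topologicalKrullDim Z = s)
    (Z : Set ↥(X ∩ Y)) (hZ : Z ∈ irreducibleComponents ↥(X ∩ Y)) :
    ((r + s : ℕ) : WithBot ℕ∞) ≤ topologicalKrullDim Z + (n : WithBot ℕ∞) := by
  classical
  let e1 : ↥(𝔸(ULift.{u} (Fin n); Spec (CommRingCat.of k))) ≃ₜ
      PrimeSpectrum (MvPolynomial (ULift.{u} (Fin n)) k) :=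
    AlgebraicGeometry.Scheme.homeoOfIso
      (AlgebraicGeometry.AffineSpace.SpecIso (ULift.{u} (Fin n)) (CommRingCat.of k))
  let e2 : PrimeSpectrum (MvPolynomial (ULift.{u} (Fin n)) k) ≃ₜ
      PrimeSpectrum (MvPolynomial (Fin n) k) :=
    PrimeSpectrum.homeomorphOfRingEquiv
      (MvPolynomial.renameEquiv k (Equiv.ulift : ULift.{u} (Fin n) ≃ Fin n)).toRingEquiv
  exact Groth.Agent.Lib.H8AffTop.dim_le_of_homeomorph (e1.trans e2) n
    (fun P Q 𝔭 _ _ h𝔭 => Groth.Agent.Lib.H8AffDim.dim_add_dim_le k n P Q 𝔭 h𝔭)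
    r s X Y hX hY hXr hYs Z hZ

end Groth.Agent.S7674
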