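import Groth.Statements.S7675
import Groth.Agent.Lib.H8AffDim
import Groth.Agent.Lib.H8ProjDim2
import Groth.Agent.Lib.H8ProjPoly
import Groth.Agent.Lib.H8DoubleLink

set_option autoImplicit false
universe u
open CategoryTheory CategoryTheory.Limits AlgebraicGeometry
open Variety

namespace Groth.Agent.S7675

open ProjectiveSpectrum in
/-- The projective dimension theorem, stated on the projective spectrum. -/
theorem aux (k : Type u) [Field k] (n r s : ℕ)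
    (X Y : Set (ProjectiveSpectrum (CohB1.polyGrading n k))) (hX : IsClosed X) (hY : IsClosed Y)
    (hXr : topologicalKrullDim X = r) (hYs : topologicalKrullDim Y = s) (hrs : n ≤ r + s) :
    (X ∩ Y).Nonempty ∧ ((r + s : ℕ) : WithBot ℕ∞) ≤ topologicalKrullDim ↥(X ∩ Y) + (n : WithBot ℕ∞) := by
  classical
  have h0 := Groth.Agent.Lib.H8ProjPoly.h0 n k
  rw [Groth.Agent.Lib.H8ProjTop.topologicalKrullDim_eq_krullDim (CohB1.polyGrading n k) hX] at hXr
  rw [Groth.Agent.Lib.H8ProjTop.topologicalKrullDim_eq_krullDim (CohB1.polyGrading n k) hY] at hYs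
  rw [Groth.Agent.Lib.H8ProjTop.topologicalKrullDim_eq_krullDim (CohB1.polyGrading n k)
    (hX.inter hY)]
  obtain ⟨lX, hlX⟩ := Order.le_krullDim_iff.mp hXr.ge
  obtain ⟨lY, hlY⟩ := Order.le_krullDim_iff.mp hYs.ge
  have key : ∀ (Z : Set (ProjectiveSpectrum (CohB1.polyGrading n k))) (t : ℕ) (l : LTSeries ↥Z),
      l.length = t → ∃ x ∈ Z, ∃ m : ℕ, t ≤ m ∧
        ringKrullDim (MvPolynomial (Fin (n + 1)) k ⧸ x.asHomogeneousIdeal.toIdeal) =
          (m + 1 : ℕ) := by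
    intro Z t l hl
    refine ⟨l.head.1, l.head.2, ?_⟩
    obtain ⟨m, hm, hd⟩ := Groth.Agent.Lib.H8ProjDim.exists_coheight_eq
      (CohB1.polyGrading n k) h0 l.head.1
    refine ⟨m, ?_, hd⟩
    let l' : LTSeries (ProjectiveSpectrum (CohB1.polyGrading n k)) :=
      l.map Subtype.val (fun a b h => h)
    have h1 : (l'.length : ℕ∞) ≤ Order.coheight l'.head := Order.length_le_coheight_head
    have h2 : l'.head = l.head.1 := LTSeries.head_map _ _ _
    have h3 : l'.length = t := hl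
    rw [h2, h3, hm] at h1
    exact_mod_cast h1
  obtain ⟨x, hxX, m₁, hm₁, hdx⟩ := key X r lX hlX
  obtain ⟨y, hyY, m₂, hm₂, hdy⟩ := key Y s lY hlY
  set P := x.asHomogeneousIdeal.toIdeal with hP
  set Q := y.asHomogeneousIdeal.toIdeal with hQ
  haveI hPp : P.IsPrime := x.isPrime
  haveI hQp : Q.IsPrime := y.isPrime
  have hPQ𝔪 : P ⊔ Q ≤ (HomogeneousIdeal.irrelevant (CohB1.polyGrading n k)).toIdeal :=
    sup_le (Groth.Agent.Lib.H8ProjDim.le_irrelevant _ h0 x)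
      (Groth.Agent.Lib.H8ProjDim.le_irrelevant _ h0 y)
  haveI hmp : (HomogeneousIdeal.irrelevant (CohB1.polyGrading n k)).toIdeal.IsPrime :=
    (Groth.Agent.Lib.H8GradedFT.irrelevant_isMaximal (CohB1.polyGrading n k) h0).isPrime
  obtain ⟨𝔭, h𝔭min, h𝔭𝔪⟩ := Ideal.exists_minimalPrimes_le hPQ𝔪
  haveI h𝔭p : 𝔭.IsPrime := h𝔭min.1.1
  have hJ : (P ⊔ Q).IsHomogeneous (CohB1.polyGrading n k) :=
    x.asHomogeneousIdeal.isHomogeneous.sup y.asHomogeneousIdeal.isHomogeneous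
  have h𝔭h : 𝔭.IsHomogeneous (CohB1.polyGrading n k) :=
    Groth.Agent.Lib.H8DoubleLink.isHomogeneous_of_mem_minimalPrimes hJ h𝔭min
  have hdim := Groth.Agent.Lib.H8AffDim.dim_add_dim_le k (n + 1) P Q 𝔭 h𝔭min
  obtain ⟨d, hd⟩ := Groth.Agent.Lib.H8ProjDim.exists_dim_eq (CohB1.polyGrading n k) h0 𝔭
  rw [hdx, hdy, hd] at hdim
  have hdim' : (m₁ + 1) + (m₂ + 1) ≤ d + (n + 1) := by exact_mod_cast hdim
  have hd1 : 1 ≤ d := by omega
  have hne : ¬ (HomogeneousIdeal.irrelevant (CohB1.polyGrading n k)).toIdeal ≤ 𝔭 := by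
    apply Groth.Agent.Lib.H8ProjDim.not_irrelevant_le_of_dim_ne_zero _ h0 h𝔭h
    rw [hd]
    have : d ≠ 0 := by omega
    exact_mod_cast this
  set z := Groth.Agent.Lib.H8ProjDim.mkPoint (CohB1.polyGrading n k) 𝔭 h𝔭p h𝔭h hne with hz
  have hxz : x ≤ z := le_sup_left.trans h𝔭min.1.2
  have hyz : y ≤ z := le_sup_right.trans h𝔭min.1.2
  have hzX : z ∈ X := Groth.Agent.Lib.H8ProjDim.mem_of_le_of_isClosed _ hX hxX hxz
  have hzY : z ∈ Y := Groth.Agent.Lib.H8ProjDim.mem_of_le_of_isClosed _ hY hyY hyz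
  refine ⟨⟨z, hzX, hzY⟩, ?_⟩
  obtain ⟨m₃, hm₃, hdz⟩ := Groth.Agent.Lib.H8ProjDim.exists_coheight_eq
    (CohB1.polyGrading n k) h0 z
  have hdz' : ((m₃ + 1 : ℕ) : WithBot ℕ∞) = (d : WithBot ℕ∞) := hdz.symm.trans hd
  have hdz'' : m₃ + 1 = d := by exact_mod_cast hdz'
  obtain ⟨p, hp, hpl⟩ := Order.exists_series_of_coheight_eq_coe z hm₃
  have hpmem : ∀ i, p i ∈ X ∩ Y := by
    intro i
    have hzi : z ≤ p i := hp ▸ LTSeries.head_le p i
    exact ⟨Groth.Agent.Lib.H8ProjDim.mem_of_le_of_isClosed _ hX hzX hzi,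
      Groth.Agent.Lib.H8ProjDim.mem_of_le_of_isClosed _ hY hzY hzi⟩
  let p' : LTSeries ↥(X ∩ Y) :=
    { length := p.length
      toFun := fun i => ⟨p i, hpmem i⟩
      step := fun i => p.step i }
  have hlen : (p'.length : WithBot ℕ∞) ≤ Order.krullDim ↥(X ∩ Y) :=
    Order.LTSeries.length_le_krullDim p'
  have hlen' : p'.length = m₃ := hpl
  rw [hlen'] at hlen
  calc ((r + s : ℕ) : WithBot ℕ∞) ≤ ((m₃ + n : ℕ) : WithBot ℕ∞) := by
        have : r + s ≤ m₃ + n := by omega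
        exact_mod_cast this
    _ = (m₃ : WithBot ℕ∞) + (n : WithBot ℕ∞) := by push_cast; rfl
    _ ≤ Order.krullDim ↥(X ∩ Y) + (n : WithBot ℕ∞) := by gcongr

/-- Let k be a field, n ≥ 0 and X, Y ⊆ P^n_k nonempty closed subsets of dimensions r and s with r + s ≥
n. Then X ∩ Y is nonempty and dim(X ∩ Y) ≥ r + s − n. -/
theorem result (k : Type u) [Field k] (n r s : ℕ)
    (X Y : Set ↥(CohB1.ProjSpace n k)) (hX : IsClosed X) (hY : IsClosed Y)
    (hXne : X.Nonempty) (hYne : Y.Nonempty)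
    (hXr : topologicalKrullDim X = r) (hYs : topologicalKrullDim Y = s) (hrs : n ≤ r + s) :
    (X ∩ Y).Nonempty ∧ ((r + s : ℕ) : WithBot ℕ∞) ≤ topologicalKrullDim ↥(X ∩ Y) + (n : WithBot ℕ∞) := by
  exact (aux k n r s X Y hX hY hXr hYs hrs)

end Groth.Agent.S7675
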