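import Groth.Statements.S7678
import Groth.Agent.Lib.H71FrobTwist
import Groth.Agent.Lib.H71GeomRedAt2

set_option autoImplicit false
universe u
open CategoryTheory CategoryTheory.Limits AlgebraicGeometry
open Variety

namespace Groth.Agent.S7678

/-- For a field k of positive characteristic p and a k-scheme X, the base change of X along the p-th
power map of k is a reduced scheme exactly when X is geometrically reduced over k. -/
theorem result (k : Type u) [Field k] (X : Scheme.{u}) [X.Over (Spec (CommRingCat.of k))]
    (p : ℕ) [Fact p.Prime] [CharP k p] :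
    GeometricallyReduced (X ↘ (Spec (CommRingCat.of k))) ↔
      IsReduced ↑(pullback (X ↘ (Spec (CommRingCat.of k))) (Spec.map (CommRingCat.ofHom (frobenius k p)))) := by
  constructor
  · intro hf
    exact pullback_of_geometrically (GeometricallyReduced.geometrically_isReduced) k _
  · intro h
    apply Groth.Agent.Lib.H71GeomRedAt.geometricallyReduced_of_forall_isGeomReducedAt
    intro x
    letI := Curv2.stalkAlgebra k X x
    haveI : IsReduced (Curv2.bc k X (Groth.Agent.Lib.H71FrobTwist.FrobTwist k p)) := h
    have h2 : _root_.IsReduced (TensorProduct k (X.presheaf.stalk x)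
        (Groth.Agent.Lib.H71FrobTwist.FrobTwist k p)) :=
      Groth.Agent.Lib.H71GeomRedAt.isReduced_stalk_tensor_of_isReduced_bc k X x
        (Groth.Agent.Lib.H71FrobTwist.FrobTwist k p)
    haveI : Algebra.IsGeometricallyReduced k (X.presheaf.stalk x) :=
      Groth.Agent.Lib.H71FrobTwist.isGeometricallyReduced_of_isReduced_tensor_frobTwist k p _ h2
    exact Groth.Agent.Lib.H71GeomRedAt.isGeomReducedAt_of_isGeometricallyReduced k X x

end Groth.Agent.S7678
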