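import Groth.Statements.S7686
import Groth.Agent.Lib.H59SnapComp
import Groth.Agent.Lib.SnapCoeff13

set_option autoImplicit false
universe u
open CategoryTheory CategoryTheory.Limits AlgebraicGeometry
open Variety

namespace Groth.Agent.S7686

/-- Let X be proper over a field k, Z ⊆ X a closed subscheme of dimension d with irreducible components
Z_i of dimension d (reduced induced structure, generic points ξ_i, multiplicities m_i = length of
O_{Z,ξ_i} over O_{X,ξ_i}) and L_1, …, L_d invertible modules. Then (L_1 ⋯ L_d · Z) = Σ m_i (L_1 ⋯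
L_d · Z_i). Intersection numbers are the n_1⋯n_d-coefficients of the polynomials computing the Euler
characteristics; the sum is written over all points ξ whose closure has dimension d (other terms
vanish). -/
theorem result (k : Type u) [Field k] (X : Scheme.{u}) [X.Over (Spec (CommRingCat.of k))] [IsProper (X ↘ (Spec (CommRingCat.of k)))]
    (D : X.IdealSheafData) (d : ℕ) (hD : topologicalKrullDim (D.support : Set X) = d)
    (L : Fin d → X.Modules) (hL : ∀ i, PicF.IsInvertible (L i)) (P : MvPolynomial (Fin d) ℚ)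
    (hP : ∀ n : Fin d → ℕ, (Curv2.euler k X (Curv2.tensorPows (ClSub.quotMod D) d L n) : ℚ) = MvPolynomial.eval (fun i => (n i : ℚ)) P)
    (Q : X → MvPolynomial (Fin d) ℚ)
    (hQ : ∀ ξ : X, topologicalKrullDim (closure ({ξ} : Set X)) = (d : WithBot ℕ∞) →
      ∀ n : Fin d → ℕ, (Curv2.euler k X (Curv2.tensorPows (ClSub.quotMod (Scheme.IdealSheafData.vanishingIdeal (⟨closure ({ξ} : Set X), isClosed_closure⟩ : TopologicalSpace.Closeds X))) d L n) : ℚ) = MvPolynomial.eval (fun i => (n i : ℚ)) (Q ξ)) :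
    MvPolynomial.coeff (Finsupp.equivFunOnFinite.symm fun _ : Fin d => 1) P =
      ∑ᶠ ξ : X, (if topologicalKrullDim (closure ({ξ} : Set X)) = (d : WithBot ℕ∞) then
        ((Module.length (X.presheaf.stalk ξ) ((ClSub.quotMod D).presheaf.stalk ξ)).toNat : ℚ) *
          MvPolynomial.coeff (Finsupp.equivFunOnFinite.symm fun _ : Fin d => 1) (Q ξ) else 0) := by
  classical
  haveI := Groth.Agent.Lib.EulerLE48.isNoetherian k X
  haveI : X.IsSeparated :=
    Groth.Agent.Lib.H90ProperFin.isSeparated_of_over_affine (X ↘ (Spec (CommRingCat.of k)))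
  have hF : Coh.IsCoh (ClSub.quotMod D) := Groth.Agent.Lib.SnapCoeff13.isCoh_quotMod D
  have hdim : topologicalKrullDim ↥(CohB1.support (ClSub.quotMod D)) ≤ (d : WithBot ℕ∞) :=
    (Groth.Agent.Lib.SnapCoeff13.dim_support_quotMod_le D).trans (le_of_eq hD)
  have hgood := Groth.Agent.Lib.H59SnapComp.good_of_isCoh k d L hL hF hdim
  obtain ⟨R, hR, h⟩ := hgood.poly
  set e : Fin d →₀ ℕ := Finsupp.equivFunOnFinite.symm fun _ : Fin d => 1 with he
  set s : Finset X := hgood.fin.toFinset with hs
  have hmem : ∀ ξ, ξ ∈ s ↔ (Groth.Agent.Lib.H59SnapComp.IsTop X d ξ ∧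
      ξ ∈ CohB1.support (ClSub.quotMod D)) := fun ξ => by
    rw [hs, Set.Finite.mem_toFinset]; rfl
  -- the component Euler characteristics are given by `Q ξ`
  have hcomp : ∀ ξ, Groth.Agent.Lib.H59SnapComp.IsTop X d ξ → ∀ n : Fin d → ℕ,
      Groth.Agent.Lib.H59SnapComp.compEuler k X L ξ n =
        MvPolynomial.eval (fun i => (n i : ℚ)) (Q ξ) := by
    intro ξ hξ n
    rw [← hQ ξ hξ n]
    unfold Groth.Agent.Lib.H59SnapComp.compEuler
    set Zc : TopologicalSpace.Closeds X := ⟨closure ({ξ} : Set X), isClosed_closure⟩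
    letI : (Scheme.IdealSheafData.vanishingIdeal Zc).subscheme.Over (Spec (CommRingCat.of k)) :=
      ⟨(Scheme.IdealSheafData.vanishingIdeal Zc).subschemeι ≫ (X ↘ (Spec (CommRingCat.of k)))⟩
    haveI : (Scheme.IdealSheafData.vanishingIdeal Zc).subschemeι.IsOver (Spec (CommRingCat.of k)) :=
      ⟨rfl⟩
    haveI : (Coh.structureModule (Scheme.IdealSheafData.vanishingIdeal Zc).subscheme).IsQuasicoherent :=
      (Groth.Agent.Lib.CohFinAmple.isCoh_structureModule _).1
    congr 1
    exact (Groth.Agent.Lib.H59EulerClosed.euler_tensorPows_pushforward k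
      (Scheme.IdealSheafData.vanishingIdeal Zc).subschemeι
      (Coh.structureModule (Scheme.IdealSheafData.vanishingIdeal Zc).subscheme) d L hL n).symm
  -- the polynomial `T`
  set T : MvPolynomial (Fin d) ℚ := ∑ ξ ∈ s,
    MvPolynomial.C (((Groth.Agent.Lib.H59SnapComp.len X (ClSub.quotMod D) ξ).toNat : ℚ)) * Q ξ with hT
  have hsum : ∀ n : Fin d → ℕ, ∑ᶠ ξ, Groth.Agent.Lib.H59SnapComp.term k X d L (ClSub.quotMod D) n ξ =
      MvPolynomial.eval (fun i => (n i : ℚ)) T := by
    intro n
    rw [finsum_eq_sum_of_support_subset (s := s) _ (by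
      intro ξ hξ
      rw [Finset.mem_coe, hmem]
      exact Groth.Agent.Lib.H59SnapComp.support_term_subset k d L _ n hξ)]
    rw [hT, map_sum]
    refine Finset.sum_congr rfl fun ξ hξ => ?_
    have htop := ((hmem ξ).1 hξ).1
    have htop' : topologicalKrullDim (closure ({ξ} : Set X)) = (d : WithBot ℕ∞) := htop
    unfold Groth.Agent.Lib.H59SnapComp.term
    rw [if_pos htop', hcomp ξ htop n, map_mul, MvPolynomial.eval_C]
  have hPTR : P = T + R := Groth.Agent.Lib.H59PolyNat.eq_of_eval_nat_eq _ _ fun n => by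
    have h1 : ((Groth.Agent.Lib.H59SnapComp.Qe k X L (ClSub.quotMod D) n : ℤ) : ℚ) -
        ∑ᶠ ξ, Groth.Agent.Lib.H59SnapComp.term k X d L (ClSub.quotMod D) n ξ =
        MvPolynomial.eval (fun i => (n i : ℚ)) R := h n
    rw [hsum n] at h1
    unfold Groth.Agent.Lib.H59SnapComp.Qe at h1
    rw [map_add, ← h1, ← hP n]
    ring
  have hRe : MvPolynomial.coeff e R = 0 := by
    rw [← MvPolynomial.notMem_support_iff]
    intro hmemR
    have h1 := hR e hmemR
    have h2 : (e.sum fun _ x => x) = d := by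
      rw [Finsupp.sum_fintype _ _ (fun _ => rfl)]
      simp [he]
    omega
  rw [hPTR, MvPolynomial.coeff_add, hRe, add_zero, hT, MvPolynomial.coeff_sum]
  rw [finsum_eq_sum_of_support_subset (s := s) _ (by
    intro ξ hξ
    rw [Function.mem_support] at hξ
    rw [Finset.mem_coe, hmem]
    by_cases htop : topologicalKrullDim (closure ({ξ} : Set X)) = (d : WithBot ℕ∞)
    · refine ⟨htop, ?_⟩
      by_contra hns
      apply hξ
      rw [if_pos htop]
      have := Groth.Agent.Lib.H59SnapComp.len_eq_zero_of_notMem_support hns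
      unfold Groth.Agent.Lib.H59SnapComp.len at this
      rw [this]
      simp
    · exact absurd (if_neg htop) hξ)]
  refine Finset.sum_congr rfl fun ξ hξ => ?_
  have htop' : topologicalKrullDim (closure ({ξ} : Set X)) = (d : WithBot ℕ∞) := ((hmem ξ).1 hξ).1
  rw [if_pos htop', MvPolynomial.coeff_C_mul]
  rfl

end Groth.Agent.S7686
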