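import Groth.Statements.S7690
import Groth.Agent.Lib.EulerBC54
import Groth.Agent.S0034
import Groth.Agent.Lib.ProjSpaceProper
import Groth.Agent.Lib.H4ProjSpaceCoh
import Groth.Agent.Lib.CohFinAmple

set_option autoImplicit false
universe u
open CategoryTheory CategoryTheory.Limits AlgebraicGeometry
open Variety

namespace Groth.Agent.S7690

/-- Let k'/k be a field extension (k' in the universe of k), n ≥ 0, F a coherent module on P^n_k with
pullback F' to P^n_{k'}. For every integer m, F is m-regular exactly when F' is. Here P^n_{k'} is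
taken as the base change P^n_k ×_k Spec k' and the m-regularity of F' is spelled out as the
vanishing of H^i(P^n_{k'}, (F(m − i))') for 1 ≤ i ≤ n, (F(m − i))' being the pullback of F ⊗ O(m −
i). -/
theorem result (k : Type u) [Field k] (n : ℕ)
    (k' : Type u) [Field k'] [Algebra k k'] (F : (CohB1.ProjSpace n k).Modules) (hF : Coh.IsCoh F) (m : ℤ) :
    Curv2.IsMRegular k n F m ↔
      ∀ i : ℕ, 1 ≤ i → i ≤ n →
        Subsingleton (Coh.HH (Curv2.bc k (CohB1.ProjSpace n k) k')
          ((Scheme.Modules.pullback (Curv2.bcFst k (CohB1.ProjSpace n k) k')).obj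
            (CohB1.tensorMod F (Twist.twistProjSpace n k (m - i)))) i) := by
  haveI : IsProper ((CohB1.ProjSpace n k) ↘ (Spec (CommRingCat.of k))) :=
    Groth.Agent.Lib.ProjSpaceProper.isProper_toSpec n k
  haveI := Groth.Agent.Lib.EulerChar54.compactSpace_of_isProper k (CohB1.ProjSpace n k)
  haveI : QuasiSeparatedSpace (CohB1.ProjSpace n k) :=
    quasiSeparatedSpace_of_quasiSeparated ((CohB1.ProjSpace n k) ↘ (Spec (CommRingCat.of k)))
  letI : (Curv2.bc k (CohB1.ProjSpace n k) k').Over (Spec (CommRingCat.of k')) :=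
    ⟨Curv2.bcSnd k (CohB1.ProjSpace n k) k'⟩
  have key : ∀ i : ℕ,
      Subsingleton (Coh.HH (CohB1.ProjSpace n k) (CohB1.tensorMod F (Twist.twistProjSpace n k (m - i))) i) ↔
      Subsingleton (Coh.HH (Curv2.bc k (CohB1.ProjSpace n k) k')
          ((Scheme.Modules.pullback (Curv2.bcFst k (CohB1.ProjSpace n k) k')).obj
            (CohB1.tensorMod F (Twist.twistProjSpace n k (m - i)))) i) := by
    intro i
    have hM : Coh.IsCoh (CohB1.tensorMod F (Twist.twistProjSpace n k (m - i))) :=
      Groth.Agent.Lib.CohFinAmple.isCoh_tensorMod hF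
        (Groth.Agent.Lib.H90Invertible.isCoh_of_isInvertible
          (Groth.Agent.Lib.H4Twist.isInvertible_twistProjSpace n k (m - i)))
    haveI : Coh.IsQCoh (CohB1.tensorMod F (Twist.twistProjSpace n k (m - i))) := hM.1
    obtain ⟨e⟩ := Groth.Agent.S0034.result k k' (CohB1.ProjSpace n k)
      (Curv2.bc k (CohB1.ProjSpace n k) k') (Curv2.bcFst k (CohB1.ProjSpace n k) k')
      (IsPullback.of_hasPullback _ _) (CohB1.tensorMod F (Twist.twistProjSpace n k (m - i))) i
    rw [← e.toEquiv.subsingleton_congr]
    rw [← rank_zero_iff (R := k), ← rank_zero_iff (R := k'), Module.rank_baseChange]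
    simp
  constructor
  · intro h i h1 h2
    exact (key i).1 (h i h1 h2)
  · intro h i h1 h2
    exact (key i).2 (h i h1 h2)

end Groth.Agent.S7690
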