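import Groth.Statements.S8256
import Groth.Agent.S3569
import Groth.Agent.S8255

set_option autoImplicit false
universe u
open CategoryTheory CategoryTheory.Limits AlgebraicGeometry Opposite TopologicalSpace
open EGA2

namespace Groth.Agent.S8256

section helpers

variable {S : Scheme.{u}}

/-- The homomorphism of direct-image algebras attached to a morphism over `S`. -/
noncomputable def dirHom {X T : Scheme.{u}} (gX : X ⟶ S) [QuasiCompact gX] [QuasiSeparated gX]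
    (gT : T ⟶ S) [QuasiCompact gT] [QuasiSeparated gT] (k : T ⟶ X) (w : k ≫ gX = gT) :
    RelSpec.QCAlg.directImage gX ⟶ RelSpec.QCAlg.directImage gT :=
  ⟨AffAlg.algHom gX gT k w, AffAlg.algHom_comm gX gT k w⟩

lemma dirHom_congr {X T : Scheme.{u}} (gX : X ⟶ S) [QuasiCompact gX] [QuasiSeparated gX]
    (gT : T ⟶ S) [QuasiCompact gT] [QuasiSeparated gT] {k k' : T ⟶ X} (e : k = k')
    (w : k ≫ gX = gT) (w' : k' ≫ gX = gT) : dirHom gX gT k w = dirHom gX gT k' w' := by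
  subst e; rfl

lemma dirHom_comp {X Z T : Scheme.{u}} (gX : X ⟶ S) [QuasiCompact gX] [QuasiSeparated gX]
    (gZ : Z ⟶ S) [QuasiCompact gZ] [QuasiSeparated gZ]
    (gT : T ⟶ S) [QuasiCompact gT] [QuasiSeparated gT] (p : Z ⟶ X) (w1 : p ≫ gX = gZ)
    (k : T ⟶ Z) (w2 : k ≫ gZ = gT) :
    dirHom gX gZ p w1 ≫ dirHom gZ gT k w2 =
      dirHom gX gT (k ≫ p) (by rw [Category.assoc, w1, w2]) := by
  subst w1 w2
  apply RelSpec.QCAlg.hom_ext
  ext U : 2
  simp [dirHom, AffAlg.algHom]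
  rfl

lemma dirHom_injective {X T : Scheme.{u}} (gX : X ⟶ S) [IsAffineHom gX]
    (gT : T ⟶ S) [QuasiCompact gT] [QuasiSeparated gT] {k k' : T ⟶ X}
    (w : k ≫ gX = gT) (w' : k' ≫ gX = gT) (e : dirHom gX gT k w = dirHom gX gT k' w') : k = k' := by
  have h := (Groth.Agent.S3569.result gX gT).1
  have e' : AffAlg.algOf gX gT ⟨k, w⟩ = AffAlg.algOf gX gT ⟨k', w'⟩ :=
    Subtype.ext (congrArg RelSpec.QCAlg.Hom.hom e)
  exact congrArg Subtype.val (h e')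

lemma dirHom_surjective {X T : Scheme.{u}} (gX : X ⟶ S) [IsAffineHom gX]
    (gT : T ⟶ S) [QuasiCompact gT] [QuasiSeparated gT]
    (ω : RelSpec.QCAlg.directImage gX ⟶ RelSpec.QCAlg.directImage gT) :
    ∃ (k : T ⟶ X) (w : k ≫ gX = gT), dirHom gX gT k w = ω := by
  obtain ⟨⟨k, w⟩, hk⟩ := (Groth.Agent.S3569.result gX gT).2 ⟨ω.hom, ω.comm⟩
  refine ⟨k, w, RelSpec.QCAlg.hom_ext ?_⟩
  exact congrArg Subtype.val hk

/-- The inverse of `gammaMap`. -/
noncomputable def gammaMapInv (B : RelSpec.QCAlg S) : B.presheaf ⟶ B.π.base _* B.spec.presheaf :=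
  @inv _ _ _ _ B.gammaMap (Groth.Agent.S8255.result B)

lemma gammaMapInv_gammaMap (B : RelSpec.QCAlg S) : gammaMapInv B ≫ B.gammaMap = 𝟙 _ :=
  @IsIso.inv_hom_id _ _ _ _ B.gammaMap (Groth.Agent.S8255.result B)

lemma gammaMap_gammaMapInv (B : RelSpec.QCAlg S) : B.gammaMap ≫ gammaMapInv B = 𝟙 _ :=
  @IsIso.hom_inv_id _ _ _ _ B.gammaMap (Groth.Agent.S8255.result B)

/-- The inverse of `gammaHom`. -/
noncomputable def gammaInv (B : RelSpec.QCAlg S) : B ⟶ RelSpec.QCAlg.directImage B.π :=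
  ⟨gammaMapInv B, by
    change B.str ≫ gammaMapInv B = B.π.c
    rw [← B.π_c_gammaMap, Category.assoc, gammaMap_gammaMapInv, Category.comp_id]⟩

lemma gammaInv_gammaHom (B : RelSpec.QCAlg S) : gammaInv B ≫ B.gammaHom = 𝟙 _ :=
  RelSpec.QCAlg.hom_ext (gammaMapInv_gammaMap B)

lemma gammaHom_gammaInv (B : RelSpec.QCAlg S) : B.gammaHom ≫ gammaInv B = 𝟙 _ :=
  RelSpec.QCAlg.hom_ext (gammaMap_gammaMapInv B)

/-- The universal property of the square, in existence-and-uniqueness form. -/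
theorem existsUnique_desc {X X' Y Z : Scheme.{u}} (g : Y ⟶ S) [IsAffineHom g]
    (f : X ⟶ Y) [IsAffineHom f] (f' : X' ⟶ Y) [IsAffineHom f'] (p : Z ⟶ X) (p' : Z ⟶ X')
    [IsAffineHom p] (hZ : IsPullback p p' f f')
    (wZ : p' ≫ f' ≫ g = p ≫ f ≫ g)
    (B : RelSpec.QCAlg S) (a : RelSpec.QCAlg.directImage (f ≫ g) ⟶ B)
    (a' : RelSpec.QCAlg.directImage (f' ≫ g) ⟶ B)
    (hc : dirHom g (f ≫ g) f rfl ≫ a = dirHom g (f' ≫ g) f' rfl ≫ a') :
    ∃ c : RelSpec.QCAlg.directImage (p ≫ f ≫ g) ⟶ B,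
      (dirHom (f ≫ g) (p ≫ f ≫ g) p rfl ≫ c = a ∧ dirHom (f' ≫ g) (p ≫ f ≫ g) p' wZ ≫ c = a') ∧
      ∀ c' : RelSpec.QCAlg.directImage (p ≫ f ≫ g) ⟶ B,
        dirHom (f ≫ g) (p ≫ f ≫ g) p rfl ≫ c' = a → dirHom (f' ≫ g) (p ≫ f ≫ g) p' wZ ≫ c' = a' →
          c' = c := by
  obtain ⟨h, wh, hh⟩ := dirHom_surjective (f ≫ g) B.π (a ≫ gammaInv B)
  obtain ⟨h', wh', hh'⟩ := dirHom_surjective (f' ≫ g) B.π (a' ≫ gammaInv B)
  have wY : (h ≫ f) ≫ g = B.π := by rw [Category.assoc]; exact wh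
  have wY' : (h' ≫ f') ≫ g = B.π := by rw [Category.assoc]; exact wh'
  have e : h ≫ f = h' ≫ f' := by
    apply dirHom_injective g B.π wY wY'
    rw [← dirHom_comp g (f ≫ g) B.π f rfl h wh, ← dirHom_comp g (f' ≫ g) B.π f' rfl h' wh',
      hh, hh', ← Category.assoc, ← Category.assoc, hc]
  let k : B.spec ⟶ Z := hZ.lift h h' e
  have hk1 : k ≫ p = h := hZ.lift_fst h h' e
  have hk2 : k ≫ p' = h' := hZ.lift_snd h h' e
  have wk : k ≫ p ≫ f ≫ g = B.π := by rw [reassoc_of% hk1]; exact wh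
  have hfac1 : dirHom (f ≫ g) (p ≫ f ≫ g) p rfl ≫ dirHom (p ≫ f ≫ g) B.π k wk ≫ B.gammaHom = a := by
    rw [← Category.assoc, dirHom_comp (f ≫ g) (p ≫ f ≫ g) B.π p rfl k wk,
      dirHom_congr (f ≫ g) B.π hk1 _ wh, hh, Category.assoc, gammaInv_gammaHom, Category.comp_id]
  have hfac2 : dirHom (f' ≫ g) (p ≫ f ≫ g) p' wZ ≫ dirHom (p ≫ f ≫ g) B.π k wk ≫ B.gammaHom =
      a' := by
    rw [← Category.assoc, dirHom_comp (f' ≫ g) (p ≫ f ≫ g) B.π p' wZ k wk,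
      dirHom_congr (f' ≫ g) B.π hk2 _ wh', hh', Category.assoc, gammaInv_gammaHom,
      Category.comp_id]
  refine ⟨dirHom (p ≫ f ≫ g) B.π k wk ≫ B.gammaHom, ⟨hfac1, hfac2⟩, ?_⟩
  intro c' hc1 hc2
  obtain ⟨k', wk', hk'⟩ := dirHom_surjective (p ≫ f ≫ g) B.π (c' ≫ gammaInv B)
  have e1 : k' ≫ p = h := by
    apply dirHom_injective (f ≫ g) B.π (by rw [Category.assoc]; exact wk') wh
    rw [← dirHom_comp (f ≫ g) (p ≫ f ≫ g) B.π p rfl k' wk', hk', hh, ← Category.assoc, hc1]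
  have e2 : k' ≫ p' = h' := by
    apply dirHom_injective (f' ≫ g) B.π (by rw [Category.assoc, wZ]; exact wk') wh'
    rw [← dirHom_comp (f' ≫ g) (p ≫ f ≫ g) B.π p' wZ k' wk', hk', hh', ← Category.assoc, hc2]
  have ek : k' = k := hZ.hom_ext (e1.trans hk1.symm) (e2.trans hk2.symm)
  have : c' = (c' ≫ gammaInv B) ≫ B.gammaHom := by
    rw [Category.assoc, gammaInv_gammaHom, Category.comp_id]
  rw [this, ← hk', dirHom_congr (p ≫ f ≫ g) B.π ek wk' wk]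

end helpers

/-- Let Y be affine over S (g : Y → S affine) and X, X' affine over Y (f, f' affine), and let Z = X ×_Y
X' with projections p : Z → X, p' : Z → X'. Then Z is affine over Y and over S, and its direct-image
algebra on S is the tensor product: the square of quasi-coherent O_S-algebras A(Y) → A(X), A(Y) →
A(X'), A(X) → A(Z), A(X') → A(Z), whose maps are induced by f, f', p, p', is a pushout square in the
category of quasi-coherent O_S-algebras. -/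
theorem result {X X' Y Z S : Scheme.{u}} (g : Y ⟶ S) [IsAffineHom g]
    (f : X ⟶ Y) [IsAffineHom f] (f' : X' ⟶ Y) [IsAffineHom f'] (p : Z ⟶ X) (p' : Z ⟶ X') [IsAffineHom p]
    (hZ : IsPullback p p' f f') :
    IsPushout
      (C := RelSpec.QCAlg S)
      (⟨AffAlg.algHom g (f ≫ g) f rfl, AffAlg.algHom_comm g (f ≫ g) f rfl⟩ :
        RelSpec.QCAlg.directImage g ⟶ RelSpec.QCAlg.directImage (f ≫ g))
      (⟨AffAlg.algHom g (f' ≫ g) f' rfl, AffAlg.algHom_comm g (f' ≫ g) f' rfl⟩ :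
        RelSpec.QCAlg.directImage g ⟶ RelSpec.QCAlg.directImage (f' ≫ g))
      (⟨AffAlg.algHom (f ≫ g) (p ≫ f ≫ g) p rfl, AffAlg.algHom_comm (f ≫ g) (p ≫ f ≫ g) p rfl⟩ :
        RelSpec.QCAlg.directImage (f ≫ g) ⟶ RelSpec.QCAlg.directImage (p ≫ f ≫ g))
      (⟨AffAlg.algHom (f' ≫ g) (p ≫ f ≫ g) p'
          ((Category.assoc p' f' g).symm.trans ((congrArg (· ≫ g) hZ.w.symm).trans (Category.assoc p f g))),
        AffAlg.algHom_comm (f' ≫ g) (p ≫ f ≫ g) p'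
          ((Category.assoc p' f' g).symm.trans ((congrArg (· ≫ g) hZ.w.symm).trans (Category.assoc p f g)))⟩ :
        RelSpec.QCAlg.directImage (f' ≫ g) ⟶ RelSpec.QCAlg.directImage (p ≫ f ≫ g)) := by
  have wZ : p' ≫ f' ≫ g = p ≫ f ≫ g :=
    (Category.assoc p' f' g).symm.trans ((congrArg (· ≫ g) hZ.w.symm).trans (Category.assoc p f g))
  have hw : dirHom g (f ≫ g) f rfl ≫ dirHom (f ≫ g) (p ≫ f ≫ g) p rfl =
      dirHom g (f' ≫ g) f' rfl ≫ dirHom (f' ≫ g) (p ≫ f ≫ g) p' wZ := by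
    rw [dirHom_comp g (f ≫ g) (p ≫ f ≫ g) f rfl p rfl, dirHom_comp g (f' ≫ g) (p ≫ f ≫ g) f' rfl p' wZ]
    exact dirHom_congr g (p ≫ f ≫ g) hZ.w _ _
  have key := fun (s : PushoutCocone (dirHom g (f ≫ g) f rfl) (dirHom g (f' ≫ g) f' rfl)) =>
    existsUnique_desc g f f' p p' hZ wZ s.pt s.inl s.inr s.condition
  exact ⟨⟨hw⟩, ⟨PushoutCocone.IsColimit.mk hw (fun s => (key s).choose)
    (fun s => (key s).choose_spec.1.1) (fun s => (key s).choose_spec.1.2)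
    (fun s m h1 h2 => (key s).choose_spec.2 m h1 h2)⟩⟩

end Groth.Agent.S8256
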