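import Groth.Statements.S8260
-- import your own Groth.Agent.* helpers here

set_option autoImplicit false
universe u
open CategoryTheory CategoryTheory.Limits AlgebraicGeometry Opposite TopologicalSpace
open scoped HomogeneousIdeal
open EGA2

namespace Groth.Agent.S8260

/-- If the quasi-coherent positively graded O_Y-algebra 𝒮 is of finite type (over every affine open U of
Y the ring 𝒮(U) is a finitely generated O_Y(U)-algebra), then its relative homogeneous spectrum
Proj(𝒮) is of finite type over Y. -/
theorem result {Y P : Scheme.{u}} (𝒮 : RelProj.QCGrAlg Y)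
    (hft : ∀ (U : Y.Opens) (hU : IsAffineOpen U), (𝒮.str.app (op U)).hom.FiniteType)
    (p : P ⟶ Y)
    (chart : ∀ (U : Y.Opens) (hU : IsAffineOpen U), (((p ⁻¹ᵁ U : P.Opens) : Scheme.{u}) ≅ Proj (𝒮.deg U hU)))
    (hP : RelProj.IsRelProj 𝒮 p chart) : LocallyOfFiniteType p ∧ QuasiCompact p := by
  have key : ∀ U : Y.affineOpens, LocallyOfFiniteType (p ∣_ U.1) ∧ QuasiCompact (p ∣_ U.1) := by
    intro U
    have hU := U.2
    have h1 := hP.chart_over U.1 U.2
    -- the structure map composed with the inclusion of degree zero is `str`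
    have hcomp : (algebraMap (𝒮.deg U.1 U.2 0) (𝒮.presheaf.obj (op U.1))).comp (𝒮.strZero U.1 U.2).hom =
        (𝒮.str.app (op U.1)).hom := by
      ext r; rfl
    have hA : Algebra.FiniteType (𝒮.deg U.1 U.2 0) (𝒮.presheaf.obj (op U.1)) := by
      rw [← RingHom.finiteType_algebraMap]
      apply RingHom.FiniteType.of_comp_finiteType (f := (𝒮.strZero U.1 U.2).hom)
      rw [hcomp]
      exact hft U.1 U.2
    have hB : (𝒮.strZero U.1 U.2).hom.FiniteType := by
      have hs : (𝒮.strZero U.1 U.2).hom =
          (GradedRing.projZeroRingHom' (𝒮.deg U.1 U.2)).comp (𝒮.str.app (op U.1)).hom := by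
        ext r
        have : ((𝒮.strZero U.1 U.2).hom r : 𝒮.presheaf.obj (op U.1)) = (𝒮.str.app (op U.1)).hom r := rfl
        rw [RingHom.comp_apply, ← this, GradedRing.projZeroRingHom'_apply_coe]
      rw [hs]
      exact (hft U.1 U.2).comp_surjective (GradedRing.projZeroRingHom'_surjective _)
    have hC : LocallyOfFiniteType (Spec.map (𝒮.strZero U.1 U.2)) := by
      rw [HasRingHomProperty.Spec_iff (P := @LocallyOfFiniteType)]
      exact hB
    have h2 : p ∣_ U.1 = (chart U.1 U.2).hom ≫ Proj.toSpecZero (𝒮.deg U.1 U.2) ≫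
        Spec.map (𝒮.strZero U.1 U.2) ≫ hU.isoSpec.inv := by
      rw [← cancel_mono U.1.ι, morphismRestrict_ι, ← h1]
      simp only [Category.assoc, IsAffineOpen.isoSpec_inv_ι]
    rw [h2]
    constructor <;> infer_instance
  constructor
  · rw [IsZariskiLocalAtTarget.iff_of_iSup_eq_top (P := @LocallyOfFiniteType) _ (iSup_affineOpens_eq_top Y)]
    exact fun U => (key U).1
  · rw [IsZariskiLocalAtTarget.iff_of_iSup_eq_top (P := @QuasiCompact) _ (iSup_affineOpens_eq_top Y)]
    exact fun U => (key U).2

end Groth.Agent.S8260
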