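import Groth.Statements.S8261
import Groth.Agent.Lib.ProjGenDegOne

set_option autoImplicit false
universe u
open CategoryTheory CategoryTheory.Limits AlgebraicGeometry Opposite TopologicalSpace
open scoped HomogeneousIdeal
open EGA2

namespace Groth.Agent.S8261

/-- Let 𝒮 be a quasi-coherent positively graded O_Y-algebra generated by 𝒮_1 with 𝒮_1 of finite type
over O_Y. Then Proj(𝒮) is of finite type over Y. -/
theorem result {Y P : Scheme.{u}} (𝒮 : RelProj.QCGrAlg Y)
    (hgen : 𝒮.IsGenDegOne) (hft : 𝒮.IsFTDeg 1) (p : P ⟶ Y)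
    (chart : ∀ (U : Y.Opens) (hU : IsAffineOpen U), (((p ⁻¹ᵁ U : P.Opens) : Scheme.{u}) ≅ Proj (𝒮.deg U hU)))
    (hP : RelProj.IsRelProj 𝒮 p chart) : LocallyOfFiniteType p ∧ QuasiCompact p := by
  have key : ∀ U : Y.affineOpens, LocallyOfFiniteType (p ∣_ U.1) ∧ QuasiCompact (p ∣_ U.1) := by
    intro U
    have hU := U.2
    have h1 := hP.chart_over U.1 U.2
    obtain ⟨T, hT, hspan⟩ := hft U.1 U.2
    have hC := Groth.Agent.Lib.ProjGenDegOne.finiteType_toSpecZero_comp (𝒜 := 𝒮.deg U.1 U.2)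
      (T := T) (𝒮.strZero U.1 U.2) (fun t ht => hT ht) hspan (hgen U.1 U.2)
    have h2 : p ∣_ U.1 = (chart U.1 U.2).hom ≫ (Proj.toSpecZero (𝒮.deg U.1 U.2) ≫
        Spec.map (𝒮.strZero U.1 U.2)) ≫ hU.isoSpec.inv := by
      rw [← cancel_mono U.1.ι, morphismRestrict_ι, ← h1]
      simp only [Category.assoc, IsAffineOpen.isoSpec_inv_ι]
    rw [h2]
    have := hC.1
    have := hC.2
    constructor <;> infer_instance
  constructor
  · rw [IsZariskiLocalAtTarget.iff_of_iSup_eq_top (P := @LocallyOfFiniteType) _ (iSup_affineOpens_eq_top Y)]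
    exact fun U => (key U).1
  · rw [IsZariskiLocalAtTarget.iff_of_iSup_eq_top (P := @QuasiCompact) _ (iSup_affineOpens_eq_top Y)]
    exact fun U => (key U).2

end Groth.Agent.S8261
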