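import Groth.Statements.S8264
import Groth.Agent.Lib.ProjIntegral

set_option autoImplicit false
universe u
open CategoryTheory CategoryTheory.Limits AlgebraicGeometry Opposite TopologicalSpace
open scoped HomogeneousIdeal
open EGA2

namespace Groth.Agent.S8264

/-- Let Y be an integral scheme and 𝒮 a quasi-coherent positively graded O_Y-algebra with 𝒮_0 = O_Y
which is integral, stated here affine-locally: over every nonempty affine open U the ring 𝒮(U) is an
integral domain whose irrelevant ideal is nonzero (for Y integral this is equivalent to the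
stalkwise condition of the published text: every stalk 𝒮_y an integral domain with (𝒮_y)_+ ≠ 0).
Then Proj(𝒮) is integral and its structure morphism to Y is dominant. -/
theorem result {Y P : Scheme.{u}} [IsIntegral Y] (𝒮 : RelProj.QCGrAlg Y)
    (h0 : ∀ (U : Y.Opens) (hU : IsAffineOpen U), Function.Bijective (𝒮.strZero U hU).hom)
    (hint : ∀ (U : Y.Opens) (hU : IsAffineOpen U), (U : Set Y).Nonempty →
      IsDomain (𝒮.presheaf.obj (op U)) ∧ ((𝒮.deg U hU)₊).toIdeal ≠ ⊥)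
    (p : P ⟶ Y)
    (chart : ∀ (U : Y.Opens) (hU : IsAffineOpen U), (((p ⁻¹ᵁ U : P.Opens) : Scheme.{u}) ≅ Proj (𝒮.deg U hU)))
    (hP : RelProj.IsRelProj 𝒮 p chart) : IsIntegral P ∧ DenseRange p.base := by
  -- over a nonempty affine open the preimage is integral
  have hintU : ∀ (U : Y.Opens) (hU : IsAffineOpen U), (U : Set Y).Nonempty →
      IsIntegral ((p ⁻¹ᵁ U : P.Opens) : Scheme.{u}) := by
    intro U hU hne
    obtain ⟨hdom, hirr⟩ := hint U hU hne
    have h1 : IsIntegral (Proj (𝒮.deg U hU)) :=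
      Groth.Agent.Lib.ProjIntegral.isIntegral_proj_of_isDomain (𝒮.deg U hU) hirr
    have h2 : Nonempty ((p ⁻¹ᵁ U : P.Opens) : Scheme.{u}) := by
      obtain ⟨z⟩ := h1.nonempty
      exact ⟨(chart U hU).inv z⟩
    exact isIntegral_of_isOpenImmersion (chart U hU).hom
  have hneU : ∀ (U : Y.Opens) (hU : IsAffineOpen U), (U : Set Y).Nonempty →
      ∃ x : P, p x ∈ U := by
    intro U hU hne
    obtain ⟨z⟩ := (hintU U hU hne).nonempty
    exact ⟨z.1, z.2⟩
  -- every nonempty open of `Y` contains a nonempty affine open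
  have haff : ∀ V : Y.Opens, (V : Set Y).Nonempty →
      ∃ (W : Y.Opens), IsAffineOpen W ∧ (W : Set Y).Nonempty ∧ W ≤ V := by
    rintro V ⟨y, hy⟩
    obtain ⟨_, ⟨W, hW, rfl⟩, hyW, hWV⟩ := Y.isBasis_affineOpens.exists_subset_of_mem_open hy V.2
    exact ⟨W, hW, ⟨y, hyW⟩, hWV⟩
  let I : Type u := { U : Y.affineOpens // ((U : Y.Opens) : Set Y).Nonempty }
  have hcov : ⨆ U : I, p ⁻¹ᵁ (U.1 : Y.Opens) = ⊤ := by
    rw [eq_top_iff]
    intro x _
    obtain ⟨U, hxU⟩ := Opens.mem_iSup.mp ((iSup_affineOpens_eq_top Y).ge (Set.mem_univ (p x)))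
    exact Opens.mem_iSup.mpr ⟨⟨U, ⟨p x, hxU⟩⟩, hxU⟩
  have hneI : Nonempty I := by
    obtain ⟨W, hW, hWne, -⟩ := haff ⊤ ⟨(inferInstance : Nonempty Y).some, trivial⟩
    exact ⟨⟨⟨W, hW⟩, hWne⟩⟩
  have hred : IsReduced P := by
    have : ∀ i, IsReduced ((P.openCoverOfIsOpenCover (fun U : I => p ⁻¹ᵁ (U.1 : Y.Opens)) hcov).X i) := by
      intro i
      have := hintU i.1.1 i.1.2 i.2
      change IsReduced ((p ⁻¹ᵁ (i.1 : Y.Opens) : P.Opens) : Scheme.{u})
      infer_instance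
    exact IsReduced.of_openCover P (P.openCoverOfIsOpenCover (fun U : I => p ⁻¹ᵁ (U.1 : Y.Opens)) hcov)
  have hirr : IrreducibleSpace P := by
    refine Groth.Agent.Lib.ProjIntegral.irreducibleSpace_of_open_cover
      (fun U : I => ((p ⁻¹ᵁ (U.1 : Y.Opens) : P.Opens) : Set P)) (fun U => (p ⁻¹ᵁ (U.1 : Y.Opens)).2) ?_ ?_ ?_
    · have := congrArg (fun O : P.Opens => (O : Set P)) hcov
      simpa using this
    · intro U
      have := hintU U.1.1 U.1.2 U.2
      have h3 : IrreducibleSpace ((p ⁻¹ᵁ (U.1 : Y.Opens) : P.Opens) : Scheme.{u}) := inferInstance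
      exact @IsIrreducible.of_subtype P _ ((p ⁻¹ᵁ (U.1 : Y.Opens) : P.Opens) : Set P) h3
    · intro U V
      have hUV : (((U.1 : Y.Opens) ⊓ (V.1 : Y.Opens) : Y.Opens) : Set Y).Nonempty := by
        obtain ⟨y, hy1, hy2⟩ := nonempty_preirreducible_inter (U.1 : Y.Opens).2 (V.1 : Y.Opens).2 U.2 V.2
        exact ⟨y, hy1, hy2⟩
      obtain ⟨W, hW, hWne, hWUV⟩ := haff _ hUV
      obtain ⟨x, hx⟩ := hneU W hW hWne
      exact ⟨x, (hWUV hx).1, (hWUV hx).2⟩
  refine ⟨isIntegral_of_irreducibleSpace_of_isReduced P, ?_⟩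
  rw [DenseRange, dense_iff_inter_open]
  intro V hV hVne
  obtain ⟨W, hW, hWne, hWV⟩ := haff ⟨V, hV⟩ hVne
  obtain ⟨x, hx⟩ := hneU W hW hWne
  exact ⟨p x, hWV hx, ⟨x, rfl⟩⟩

end Groth.Agent.S8264
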