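import Groth.Statements.S8265
import Groth.Agent.Lib.ProjIntegral2

set_option autoImplicit false
universe u
open CategoryTheory CategoryTheory.Limits AlgebraicGeometry Opposite TopologicalSpace
open scoped HomogeneousIdeal
open EGA2

namespace Groth.Agent.S8265

/-- Let Y be an integral scheme and 𝒮 a quasi-coherent positively graded O_Y-algebra with 𝒮_0 = O_Y
which is essentially reduced (affine-locally, every nilpotent element of the irrelevant ideal of
𝒮(U) vanishes). If Proj(𝒮) is integral and dominant over Y, then 𝒮 is integral: over every nonempty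
affine open U, 𝒮(U) is an integral domain with nonzero irrelevant ideal (for Y integral, the
affine-local form of the stalkwise condition of the text). -/
theorem result {Y P : Scheme.{u}} [IsIntegral Y] (𝒮 : RelProj.QCGrAlg Y)
    (h0 : ∀ (U : Y.Opens) (hU : IsAffineOpen U), Function.Bijective (𝒮.strZero U hU).hom)
    (hred : ∀ (U : Y.Opens) (hU : IsAffineOpen U) (x : 𝒮.presheaf.obj (op U)),
      x ∈ (𝒮.deg U hU)₊ → IsNilpotent x → x = 0)
    (p : P ⟶ Y)
    (chart : ∀ (U : Y.Opens) (hU : IsAffineOpen U), (((p ⁻¹ᵁ U : P.Opens) : Scheme.{u}) ≅ Proj (𝒮.deg U hU)))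
    (hP : RelProj.IsRelProj 𝒮 p chart) [IsIntegral P] (hdom : DenseRange p.base)
    (U : Y.Opens) (hU : IsAffineOpen U) (hne : (U : Set Y).Nonempty) :
    IsDomain (𝒮.presheaf.obj (op U)) ∧ ((𝒮.deg U hU)₊).toIdeal ≠ ⊥ := by
  classical
  -- `Proj 𝒮(U)` is integral
  obtain ⟨z, hz⟩ : ∃ z : P, p z ∈ U := by
    obtain ⟨y, hyU, ⟨z, rfl⟩⟩ := hdom.inter_open_nonempty _ U.2 hne
    exact ⟨z, hyU⟩
  have hnePU : Nonempty ((p ⁻¹ᵁ U : P.Opens) : Scheme.{u}) := ⟨⟨z, hz⟩⟩
  have hintPU : IsIntegral ((p ⁻¹ᵁ U : P.Opens) : Scheme.{u}) :=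
    isIntegral_of_isOpenImmersion (p ⁻¹ᵁ U).ι
  have hneProj : Nonempty (Proj (𝒮.deg U hU)) := ⟨(chart U hU).hom ⟨z, hz⟩⟩
  have hintProj : IsIntegral (Proj (𝒮.deg U hU)) :=
    isIntegral_of_isOpenImmersion (chart U hU).inv
  obtain ⟨⟨f0, hf0, hf00⟩, hdom2⟩ :=
    Groth.Agent.Lib.ProjIntegral.essentially_integral_of_isIntegral (𝒮.deg U hU) (hred U hU)
  have hneU : Nonempty U := ⟨⟨p z, hz⟩⟩
  have hR : IsDomain Γ(Y, U) := inferInstance
  have hirrP : IrreducibleSpace P := inferInstance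
  -- the key case: degree zero times positive degree
  have key : ∀ (r : Γ(Y, U)) (j : ℕ), 0 < j → ∀ y ∈ 𝒮.deg U hU j,
      (𝒮.str.app (op U)).hom r * y = 0 → r = 0 ∨ y = 0 := by
    intro r j hj y hy hry
    by_contra! H
    obtain ⟨hr0, hy0⟩ := H
    have hynil : ¬ IsNilpotent y := fun h =>
      hy0 (hred U hU y (HomogeneousIdeal.mem_irrelevant_of_mem _ hj hy) h)
    have hnt := Groth.Agent.Lib.ProjIntegral.away_nontrivial (𝒜 := 𝒮.deg U hU) hynil
    let jm : Spec (.of (HomogeneousLocalization.Away (𝒮.deg U hU) y)) ⟶ P :=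
      Proj.awayι (𝒮.deg U hU) y hy hj ≫ (chart U hU).inv ≫ (p ⁻¹ᵁ U).ι
    have hcomp : jm ≫ p = Spec.map (𝒮.strZero U hU ≫ CommRingCat.ofHom
        (HomogeneousLocalization.fromZeroRingHom (𝒮.deg U hU) (.powers y))) ≫ hU.fromSpec := by
      simp only [jm, Category.assoc]
      rw [← hP.chart_over U hU, Iso.inv_hom_id_assoc, Proj.awayι_toSpecZero_assoc,
        ← Spec.map_comp_assoc]
    have hφ : (𝒮.strZero U hU ≫ CommRingCat.ofHom
        (HomogeneousLocalization.fromZeroRingHom (𝒮.deg U hU) (.powers y))).hom r = 0 :=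
      Groth.Agent.Lib.ProjIntegral.fromZeroRingHom_eq_zero (𝒜 := 𝒮.deg U hU)
        ((𝒮.strZero U hU).hom r) hry
    -- nonempty opens of `P`
    have hV : (Set.range jm).Nonempty := by
      obtain ⟨q⟩ := (inferInstance : Nonempty (PrimeSpectrum (HomogeneousLocalization.Away (𝒮.deg U hU) y)))
      exact ⟨jm q, q, rfl⟩
    have hW : ((p ⁻¹ᵁ Y.basicOpen r : P.Opens) : Set P).Nonempty := by
      have hne' : ((Y.basicOpen r : Y.Opens) : Set Y).Nonempty := by
        rw [Set.nonempty_iff_ne_empty]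
        intro h
        apply hr0
        rw [← AlgebraicGeometry.basicOpen_eq_bot_iff]
        exact Opens.ext h
      obtain ⟨y', hy', ⟨w, rfl⟩⟩ := hdom.inter_open_nonempty _ (Y.basicOpen r).2 hne'
      exact ⟨w, hy'⟩
    obtain ⟨_, ⟨q, rfl⟩, hq⟩ := nonempty_preirreducible_inter jm.isOpenEmbedding.isOpen_range
      (p ⁻¹ᵁ Y.basicOpen r).2 hV hW
    have hq' : (jm ≫ p) q ∈ Y.basicOpen r := hq
    rw [hcomp] at hq'
    have hq'' : Spec.map (𝒮.strZero U hU ≫ CommRingCat.ofHom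
        (HomogeneousLocalization.fromZeroRingHom (𝒮.deg U hU) (.powers y))) q ∈
          hU.fromSpec ⁻¹ᵁ Y.basicOpen r := hq'
    rw [hU.fromSpec_preimage_basicOpen] at hq''
    apply hq''
    change (𝒮.strZero U hU ≫ CommRingCat.ofHom
        (HomogeneousLocalization.fromZeroRingHom (𝒮.deg U hU) (.powers y))).hom r ∈ q.asIdeal
    rw [hφ]
    exact zero_mem _
  refine ⟨?_, ?_⟩
  · have hnt : Nontrivial (𝒮.presheaf.obj (op U)) := ⟨⟨f0, 0, hf00⟩⟩
    apply Groth.Agent.Lib.ProjIntegral.isDomain_of_homogeneous (𝒮.deg U hU)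
    rintro x y ⟨i, hx⟩ ⟨j, hy⟩ hxy
    rcases Nat.eq_zero_or_pos i with rfl | hi <;> rcases Nat.eq_zero_or_pos j with rfl | hj
    · obtain ⟨r, hr⟩ := (h0 U hU).2 ⟨x, hx⟩
      obtain ⟨s, hs⟩ := (h0 U hU).2 ⟨y, hy⟩
      have hx' : x = (𝒮.str.app (op U)).hom r := (congrArg Subtype.val hr).symm
      have hy' : y = (𝒮.str.app (op U)).hom s := (congrArg Subtype.val hs).symm
      have h1 : (𝒮.strZero U hU).hom (r * s) = (𝒮.strZero U hU).hom 0 := by
        rw [map_mul, hr, hs, map_zero]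
        exact Subtype.ext hxy
      rcases mul_eq_zero.mp ((h0 U hU).1 h1) with rfl | rfl
      · left; rw [hx', map_zero]
      · right; rw [hy', map_zero]
    · obtain ⟨r, hr⟩ := (h0 U hU).2 ⟨x, hx⟩
      have hx' : x = (𝒮.str.app (op U)).hom r := (congrArg Subtype.val hr).symm
      rw [hx'] at hxy ⊢
      rcases key r j hj y hy hxy with rfl | rfl
      · left; rw [map_zero]
      · right; rfl
    · obtain ⟨s, hs⟩ := (h0 U hU).2 ⟨y, hy⟩
      have hy' : y = (𝒮.str.app (op U)).hom s := (congrArg Subtype.val hs).symm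
      rw [hy', mul_comm] at hxy
      rw [hy']
      rcases key s i hi x hx hxy with rfl | rfl
      · right; rw [map_zero]
      · left; rfl
    · exact hdom2 x (HomogeneousIdeal.mem_irrelevant_of_mem _ hi hx) y
        (HomogeneousIdeal.mem_irrelevant_of_mem _ hj hy) hxy
  · intro hbot
    rw [hbot] at hf0
    exact hf00 hf0

end Groth.Agent.S8265
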