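import Groth.Statements.S8271
import Groth.Agent.Lib.SymQCAlgUniv
import Groth.Agent.Lib.RelSpecLocal
import Groth.Agent.Lib.QCohBiprod
import Mathlib.AlgebraicGeometry.Pullbacks

set_option autoImplicit false
universe u
open CategoryTheory CategoryTheory.Limits AlgebraicGeometry Opposite TopologicalSpace
open EGA2

namespace Groth.Agent.S8271

open AlgebraicGeometry.Scheme AlgebraicGeometry.Scheme.Modules Groth.Agent.Lib.SymQCAlg

section Biprod

variable {S : Scheme.{u}} (E F : S.Modules) (U : S.Opens)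

lemma fst_inl (m : Γ(E, U)) : (biprod.fst : E ⊞ F ⟶ E).app U ((biprod.inl : E ⟶ E ⊞ F).app U m) = m := by
  rw [← ConcreteCategory.comp_apply, ← Scheme.Modules.Hom.comp_app, biprod.inl_fst]; rfl

lemma snd_inl (m : Γ(E, U)) : (biprod.snd : E ⊞ F ⟶ F).app U ((biprod.inl : E ⟶ E ⊞ F).app U m) = 0 := by
  rw [← ConcreteCategory.comp_apply, ← Scheme.Modules.Hom.comp_app, biprod.inl_snd]; rfl

lemma fst_inr (m : Γ(F, U)) : (biprod.fst : E ⊞ F ⟶ E).app U ((biprod.inr : F ⟶ E ⊞ F).app U m) = 0 := by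
  rw [← ConcreteCategory.comp_apply, ← Scheme.Modules.Hom.comp_app, biprod.inr_fst]; rfl

lemma snd_inr (m : Γ(F, U)) : (biprod.snd : E ⊞ F ⟶ F).app U ((biprod.inr : F ⟶ E ⊞ F).app U m) = m := by
  rw [← ConcreteCategory.comp_apply, ← Scheme.Modules.Hom.comp_app, biprod.inr_snd]; rfl

lemma total (q : Γ(E ⊞ F, U)) :
    (biprod.inl : E ⟶ E ⊞ F).app U ((biprod.fst : E ⊞ F ⟶ E).app U q) +
      (biprod.inr : F ⟶ E ⊞ F).app U ((biprod.snd : E ⊞ F ⟶ F).app U q) = q := by
  have h : ((biprod.fst ≫ biprod.inl + biprod.snd ≫ biprod.inr : E ⊞ F ⟶ E ⊞ F)).app U q = q := by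
    rw [biprod.total]; rfl
  exact h

end Biprod

section Pushout

variable {S : Scheme.{u}} (E F : S.Modules) [E.IsQuasicoherent] [F.IsQuasicoherent] [(E ⊞ F).IsQuasicoherent]
  (AE AF A : RelSpec.QCAlg S) (jE : E ⟶ AE.toModule) (jF : F ⟶ AF.toModule) (j : E ⊞ F ⟶ A.toModule)
  (hAE : RelSpec.IsSymAlg E AE jE) (hAF : RelSpec.IsSymAlg F AF jF) (hA : RelSpec.IsSymAlg (E ⊞ F) A j)
  (ψE : AE ⟶ A) (ψF : AF ⟶ A)
  (hψE : jE ≫ RelSpec.QCAlg.Hom.toModuleMap ψE = biprod.inl ≫ j)
  (hψF : jF ≫ RelSpec.QCAlg.Hom.toModuleMap ψF = biprod.inr ≫ j)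
  (U : S.Opens) (hU : IsAffineOpen U)

omit [E.IsQuasicoherent] [F.IsQuasicoherent] [(E ⊞ F).IsQuasicoherent] in
include hψE in
lemma psiE_jE (m : Γ(E, U)) :
    (ψE.hom.app (op U)).hom (appAdd E AE jE U m) = appAdd (E ⊞ F) A j U ((biprod.inl : E ⟶ E ⊞ F).app U m) := by
  rw [← appAdd_comp_toModuleMap, hψE]
  rfl

omit [E.IsQuasicoherent] [F.IsQuasicoherent] [(E ⊞ F).IsQuasicoherent] in
include hψF in
lemma psiF_jF (m : Γ(F, U)) :
    (ψF.hom.app (op U)).hom (appAdd F AF jF U m) = appAdd (E ⊞ F) A j U ((biprod.inr : F ⟶ E ⊞ F).app U m) := by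
  rw [← appAdd_comp_toModuleMap, hψF]
  rfl

omit [E.IsQuasicoherent] [F.IsQuasicoherent] [(E ⊞ F).IsQuasicoherent] in
lemma str_comm {A B : RelSpec.QCAlg S} (ψ : A ⟶ B) (r : Γ(S, U)) :
    (ψ.hom.app (op U)).hom ((A.str.app (op U)).hom r) = (B.str.app (op U)).hom r :=
  congr($(NatTrans.congr_app ψ.comm (op U)) r)

/-- The additive map `(E ⊞ F)(U) → T` attached to a pair of ring maps. -/
noncomputable def lam {T : Type u} [CommRing T] (a : AE.presheaf.obj (op U) →+* T) (b : AF.presheaf.obj (op U) →+* T) :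
    Γ(E ⊞ F, U) →+ T where
  toFun q := a (appAdd E AE jE U ((biprod.fst : E ⊞ F ⟶ E).app U q)) +
    b (appAdd F AF jF U ((biprod.snd : E ⊞ F ⟶ F).app U q))
  map_zero' := by simp
  map_add' x y := by
    simp only [map_add]
    abel

include hAE hAF hA hψE hψF hU in
theorem isPushout_sections :
    IsPushout (AE.str.app (op U)) (AF.str.app (op U)) (ψE.hom.app (op U)) (ψF.hom.app (op U)) := by
  have comm : AE.str.app (op U) ≫ ψE.hom.app (op U) = AF.str.app (op U) ≫ ψF.hom.app (op U) := by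
    ext r
    change (ψE.hom.app (op U)).hom ((AE.str.app (op U)).hom r) =
      (ψF.hom.app (op U)).hom ((AF.str.app (op U)).hom r)
    rw [str_comm, str_comm]
  -- existence of the descent map
  have hex : ∀ s : PushoutCocone (AE.str.app (op U)) (AF.str.app (op U)),
      ∃ Λ : A.presheaf.obj (op U) →+* s.pt,
        (∀ r : Γ(S, U), Λ ((A.str.app (op U)).hom r) = s.inl.hom ((AE.str.app (op U)).hom r)) ∧
        ∀ q : Γ(E ⊞ F, U), Λ (appAdd (E ⊞ F) A j U q) = lam E F AE AF jE jF U s.inl.hom s.inr.hom q := by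
    intro s
    refine exists_ringHom (E ⊞ F) A j hA U hU (s.inl.hom.comp (AE.str.app (op U)).hom)
      (lam E F AE AF jE jF U s.inl.hom s.inr.hom) fun r q => ?_
    have hc : s.inl.hom ((AE.str.app (op U)).hom r) = s.inr.hom ((AF.str.app (op U)).hom r) :=
      congr($(s.condition) r)
    change s.inl.hom (appAdd E AE jE U ((biprod.fst : E ⊞ F ⟶ E).app U (r • q))) +
      s.inr.hom (appAdd F AF jF U ((biprod.snd : E ⊞ F ⟶ F).app U (r • q))) =
      s.inl.hom ((AE.str.app (op U)).hom r) *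
        (s.inl.hom (appAdd E AE jE U ((biprod.fst : E ⊞ F ⟶ E).app U q)) +
          s.inr.hom (appAdd F AF jF U ((biprod.snd : E ⊞ F ⟶ F).app U q)))
    rw [Hom.app_smul, Hom.app_smul, appAdd_smul, appAdd_smul, map_mul, map_mul, mul_add, ← hc]
  choose Λ hΛ1 hΛ2 using hex
  refine ⟨⟨comm⟩, ⟨PushoutCocone.IsColimit.mk comm (fun s => CommRingCat.ofHom (Λ s)) ?_ ?_ ?_⟩⟩
  · intro s
    apply CommRingCat.hom_ext
    refine ringHom_ext_of_isSymAlg E AE jE hAE U hU (fun r => ?_) (fun m => ?_)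
    · change Λ s ((ψE.hom.app (op U)).hom ((AE.str.app (op U)).hom r)) = _
      rw [str_comm, hΛ1]
    · change Λ s ((ψE.hom.app (op U)).hom (appAdd E AE jE U m)) = s.inl.hom (appAdd E AE jE U m)
      rw [psiE_jE E F AE A jE j ψE hψE, hΛ2]
      change s.inl.hom (appAdd E AE jE U _) + s.inr.hom (appAdd F AF jF U _) = _
      rw [fst_inl, snd_inl, map_zero, map_zero, add_zero]
  · intro s
    apply CommRingCat.hom_ext
    refine ringHom_ext_of_isSymAlg F AF jF hAF U hU (fun r => ?_) (fun m => ?_)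
    · change Λ s ((ψF.hom.app (op U)).hom ((AF.str.app (op U)).hom r)) = _
      rw [str_comm, hΛ1]
      exact congr($(s.condition) r)
    · change Λ s ((ψF.hom.app (op U)).hom (appAdd F AF jF U m)) = s.inr.hom (appAdd F AF jF U m)
      rw [psiF_jF E F AF A jF j ψF hψF, hΛ2]
      change s.inl.hom (appAdd E AE jE U _) + s.inr.hom (appAdd F AF jF U _) = _
      rw [fst_inr, snd_inr, map_zero, map_zero, zero_add]
  · intro s m h1 h2
    apply CommRingCat.hom_ext
    refine ringHom_ext_of_isSymAlg (E ⊞ F) A j hA U hU (fun r => ?_) (fun q => ?_)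
    · change m.hom ((A.str.app (op U)).hom r) = Λ s ((A.str.app (op U)).hom r)
      rw [hΛ1, ← str_comm U ψE r]
      exact congr($h1 ((AE.str.app (op U)).hom r))
    · change m.hom (appAdd (E ⊞ F) A j U q) = Λ s (appAdd (E ⊞ F) A j U q)
      rw [hΛ2]
      conv_lhs => rw [← total E F U q, map_add, ← psiE_jE E F AE A jE j ψE hψE,
        ← psiF_jF E F AF A jF j ψF hψF, map_add]
      change m.hom ((ψE.hom.app (op U)).hom _) + m.hom ((ψF.hom.app (op U)).hom _) =
        s.inl.hom _ + s.inr.hom _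
      congr 1
      · exact congr($h1 _)
      · exact congr($h2 _)

end Pushout

/-- For quasi-coherent O_S-modules E and F, the vector bundle V(E ⊕ F) is identified with V(E) ×_S V(F):
with A_E, A_F, A the symmetric algebras of E, F, E ⊕ F and ψ_E : A_E → A, ψ_F : A_F → A the algebra
maps extending the inclusions of the two summands, the square formed by Spec(A) → Spec(A_E), Spec(A)
→ Spec(A_F) and the two structure morphisms to S is a pullback square. -/
theorem result {S : Scheme.{u}} (E F : S.Modules) (hE : Coh.IsQCoh E) (hF : Coh.IsQCoh F)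
    (AE AF A : RelSpec.QCAlg S) (jE : E ⟶ AE.toModule) (jF : F ⟶ AF.toModule) (j : E ⊞ F ⟶ A.toModule)
    (hAE : RelSpec.IsSymAlg E AE jE) (hAF : RelSpec.IsSymAlg F AF jF) (hA : RelSpec.IsSymAlg (E ⊞ F) A j)
    (ψE : AE ⟶ A) (ψF : AF ⟶ A)
    (hψE : jE ≫ RelSpec.QCAlg.Hom.toModuleMap ψE = biprod.inl ≫ j)
    (hψF : jF ≫ RelSpec.QCAlg.Hom.toModuleMap ψF = biprod.inr ≫ j) :
    IsPullback (RelSpec.QCAlg.specMap ψE) (RelSpec.QCAlg.specMap ψF) AE.π AF.π := by
  haveI : E.IsQuasicoherent := hE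
  haveI : F.IsQuasicoherent := hF
  haveI : (E ⊞ F).IsQuasicoherent := Groth.Agent.Lib.QCohBiprod.isQuasicoherent_biprod E F
  refine Scheme.isPullback_of_openCover _ _ _ _ AE.glueData.cover fun U => ?_
  -- the chart square of `specMap ψE`
  have hch := (Groth.Agent.Lib.RelSpecLocal.isPullback_ι_specMap ψE U.1 U.2).flip
  -- ring-level pushout and chart of `AF`
  have hpo := isPushout_sections E F AE AF A jE jF j hAE hAF hA ψE ψF hψE hψF U.1 U.2
  have hleft := isPullback_SpecMap_of_isPushout _ _ _ _ hpo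
  have hright : IsPullback (Spec.map (AF.str.app (op U.1))) (AF.ι U.1 U.2) U.2.fromSpec AF.π :=
    IsOpenImmersion.isPullback _ _ _ _ (AF.ι_π U.1 U.2)
      (by rw [U.2.opensRange_fromSpec]; exact AF.π_preimage U.1 U.2)
  have hpaste := hleft.paste_vert hright
  -- transport along the identification of the chart
  have e1 : hch.isoPullback.hom ≫ pullback.snd (RelSpec.QCAlg.specMap ψE) (AE.ι U.1 U.2) =
      Spec.map (ψE.hom.app (op U.1)) := hch.isoPullback_hom_snd
  have e2 : hch.isoPullback.hom ≫ pullback.fst (RelSpec.QCAlg.specMap ψE) (AE.ι U.1 U.2) =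
      A.ι U.1 U.2 := hch.isoPullback_hom_fst
  refine IsPullback.of_iso hpaste hch.isoPullback (Iso.refl _) (Iso.refl _) (Iso.refl _) ?_ ?_ ?_ ?_
  · simp only [Iso.refl_hom, Category.comp_id]
    exact e1.symm
  · simp only [Iso.refl_hom, Category.comp_id]
    change _ = hch.isoPullback.hom ≫ pullback.fst _ _ ≫ RelSpec.QCAlg.specMap ψF
    rw [← Category.assoc, e2, RelSpec.QCAlg.ι_specMap]
  · simp only [Iso.refl_hom, Category.comp_id, Category.id_comp]
    exact (AE.ι_π U.1 U.2).symm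
  · simp

end Groth.Agent.S8271
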