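import Groth.Statements.S8272
-- import your own Groth.Agent.* helpers here

set_option autoImplicit false
universe u
open CategoryTheory CategoryTheory.Limits AlgebraicGeometry Opposite TopologicalSpace
open EGA2

namespace Groth.Agent.S8272

open HomogeneousLocalization in
theorem awayMap_injective {A σ : Type*} [CommRing A] [SetLike σ A] [AddSubgroupClass σ A]
    (𝒜 : ℕ → σ) [GradedRing 𝒜] {d e : ℕ} {f g : A} (hf : f ∈ 𝒜 d) (hg : g ∈ 𝒜 e)
    (hnz : g ∈ nonZeroDivisors A) {x : A} (hx : x = f * g) :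
    Function.Injective (HomogeneousLocalization.awayMap 𝒜 hg hx) := by
  rw [injective_iff_map_eq_zero]
  intro z hz
  obtain ⟨n, a, ha, rfl⟩ := Away.mk_surjective 𝒜 hf z
  rw [awayMap_mk] at hz
  have h1 := congrArg HomogeneousLocalization.val hz
  rw [Away.val_mk, val_zero, Localization.mk_eq_mk'_apply, IsLocalization.mk'_eq_zero_iff] at h1
  obtain ⟨⟨m, j, rfl⟩, hm⟩ := h1
  have hm' : x ^ j * (a * g ^ n) = 0 := hm
  apply val_injective
  rw [Away.val_mk, val_zero, Localization.mk_eq_mk'_apply, IsLocalization.mk'_eq_zero_iff]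
  refine ⟨⟨f ^ j, j, rfl⟩, ?_⟩
  change f ^ j * a = 0
  have h2 : (f ^ j * a) * g ^ (j + n) = 0 := by
    rw [← hm', hx]
    ring
  exact (mul_right_mem_nonZeroDivisors_eq_zero_iff (pow_mem hnz (j + n))).mp h2

theorem res_injective {A σ : Type u} [CommRing A] [SetLike σ A] [AddSubgroupClass σ A]
    (𝒜 : ℕ → σ) [GradedRing 𝒜] {d e : ℕ} (hd : 0 < d) {f g : A} (hf : f ∈ 𝒜 d)
    (hg : g ∈ 𝒜 e) (hnz : g ∈ nonZeroDivisors A) (W : (Proj 𝒜).Opens)
    (hW : W = Proj.basicOpen 𝒜 (f * g)) (hle : W ≤ Proj.basicOpen 𝒜 f) :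
    Function.Injective ((Proj 𝒜).presheaf.map (homOfLE hle).op).hom := by
  subst hW
  have key := Proj.awayMap_awayToSection 𝒜 (f := f) hg (x := f * g) rfl
  have hfg : f * g ∈ 𝒜 (d + e) := SetLike.mul_mem_graded hf hg
  have hde : 0 < d + e := by omega
  have h1 : (Proj 𝒜).presheaf.map (homOfLE hle).op =
      (Proj.basicOpenIsoAway 𝒜 f hf hd).inv ≫
        CommRingCat.ofHom (HomogeneousLocalization.awayMap 𝒜 hg (x := f * g) rfl) ≫
        (Proj.basicOpenIsoAway 𝒜 (f * g) hfg hde).hom := by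
    rw [Iso.eq_inv_comp, Proj.basicOpenIsoAway_hom, Proj.basicOpenIsoAway_hom, key]
  rw [h1]
  simp only [CommRingCat.hom_comp, RingHom.coe_comp, CommRingCat.hom_ofHom]
  have b1 : Function.Injective (Proj.basicOpenIsoAway 𝒜 f hf hd).inv.hom :=
    (ConcreteCategory.bijective_of_isIso (C := CommRingCat)
      (Proj.basicOpenIsoAway 𝒜 f hf hd).inv).injective
  have b2 : Function.Injective (Proj.basicOpenIsoAway 𝒜 (f * g) hfg hde).hom.hom :=
    (ConcreteCategory.bijective_of_isIso (C := CommRingCat)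
      (Proj.basicOpenIsoAway 𝒜 (f * g) hfg hde).hom).injective
  exact (b2.comp (awayMap_injective 𝒜 hf hg hnz rfl)).comp b1

/-- Let T be a positively graded ring, Z = Proj T and g ∈ T_d (d > 0) a homogeneous element that is not
a zero divisor in T. Then Z is the smallest closed subscheme of Z containing the open D_+(g);
equivalently the kernel (ideal sheaf) of the open immersion D_+(g) → Z vanishes. -/
theorem result {R A : Type u} [CommRing R] [CommRing A] [Algebra R A]
    (𝒜 : ℕ → Submodule R A) [GradedAlgebra 𝒜] {d : ℕ} (hd : 0 < d) (g : A) (hg : g ∈ 𝒜 d)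
    (hnz : g ∈ nonZeroDivisors A) :
    (Proj.basicOpen 𝒜 g).ι.ker = ⊥ := by
  rw [eq_bot_iff]
  refine Scheme.IdealSheafData.le_of_iSup_eq_top (ι := Σ i : PNat, 𝒜 i)
    (fun i => ⟨Proj.basicOpen 𝒜 (i.2 : A), Proj.isAffineOpen_basicOpen 𝒜 _ i.2.2 i.1.2⟩) ?_ ?_
  · have h := (Proj.affineOpenCover 𝒜).openCover.iSup_opensRange
    rw [← h]
    congr 1
    ext1 i
    exact (Proj.opensRange_awayι 𝒜 _ i.2.2 i.1.2).symm
  · intro i
    refine (Scheme.Hom.ideal_ker_le _ _).trans ?_
    rw [Scheme.IdealSheafData.ideal_bot, Pi.bot_apply, le_bot_iff, ← RingHom.injective_iff_ker_eq_bot]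
    rw [Scheme.Opens.ι_app]
    refine res_injective 𝒜 i.1.2 i.2.2 hg hnz _ ?_ _
    rw [Scheme.Hom.image_preimage_eq_opensRange_inf, Scheme.Opens.opensRange_ι, inf_comm,
      Proj.basicOpen_mul]

end Groth.Agent.S8272
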