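import Groth.Statements.S8273
import Groth.Agent.Lib.RelProjGlue

set_option autoImplicit false
universe u
open CategoryTheory CategoryTheory.Limits AlgebraicGeometry Opposite TopologicalSpace
open scoped HomogeneousIdeal
open EGA2

namespace Groth.Agent.S8273

/-- Uniqueness of the relative homogeneous spectrum: two schemes over Y equipped with the chart data of
Proj(𝒮) are related by a unique morphism compatible with the charts (chartwise the identity of Proj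
𝒮(U)), and that morphism is a Y-isomorphism. -/
theorem result {Y P P' : Scheme.{u}} (𝒮 : RelProj.QCGrAlg Y) (p : P ⟶ Y)
    (chart : ∀ (U : Y.Opens) (hU : IsAffineOpen U), (((p ⁻¹ᵁ U : P.Opens) : Scheme.{u}) ≅ Proj (𝒮.deg U hU)))
    (hP : RelProj.IsRelProj 𝒮 p chart) (p' : P' ⟶ Y)
    (chart' : ∀ (U : Y.Opens) (hU : IsAffineOpen U), (((p' ⁻¹ᵁ U : P'.Opens) : Scheme.{u}) ≅ Proj (𝒮.deg U hU)))
    (hP' : RelProj.IsRelProj 𝒮 p' chart') :
    (∃! e : P ⟶ P', ∀ (U : Y.Opens) (hU : IsAffineOpen U),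
        (p ⁻¹ᵁ U).ι ≫ e = (chart U hU).hom ≫ (chart' U hU).inv ≫ (p' ⁻¹ᵁ U).ι) ∧
      ∀ e : P ⟶ P', (∀ (U : Y.Opens) (hU : IsAffineOpen U),
        (p ⁻¹ᵁ U).ι ≫ e = (chart U hU).hom ≫ (chart' U hU).inv ≫ (p' ⁻¹ᵁ U).ι) → IsIso e ∧ e ≫ p' = p := by
  have hm : Groth.Agent.Lib.RelProjGlue.Compat (𝒜 := 𝒮) (ℬ := 𝒮) (fun U hU => 𝟙 (Proj (𝒮.deg U hU))) := by
    intro U hU r
    simp
  have hcov : ⨆ V : Y.affineOpens, p ⁻¹ᵁ (V : Y.Opens) = ⊤ :=
    Groth.Agent.Lib.RelProjMap.iSup_preimage_affineOpens p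
  have hcov' : ⨆ V : Y.affineOpens, p' ⁻¹ᵁ (V : Y.Opens) = ⊤ :=
    Groth.Agent.Lib.RelProjMap.iSup_preimage_affineOpens p'
  obtain ⟨e₀, he₀, huniq⟩ := Groth.Agent.Lib.RelProjGlue.existsUnique_of_compat hP' hP hm
  obtain ⟨e₁, he₁, -⟩ := Groth.Agent.Lib.RelProjGlue.existsUnique_of_compat hP hP' hm
  simp only [Groth.Agent.Lib.RelProjGlue.chartHom, Category.id_comp] at he₀ he₁ huniq
  refine ⟨⟨e₀, he₀, huniq⟩, fun e he => ?_⟩
  have hee : e = e₀ := huniq e he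
  subst hee
  have h01 : e ≫ e₁ = 𝟙 P := by
    refine Groth.Agent.Lib.OpensGlue.hom_ext_of_iSup_eq_top _ hcov _ _ fun V => ?_
    rw [reassoc_of% (he V.1 V.2)]
    simp only [Category.assoc, he₁ V.1 V.2, Iso.inv_hom_id_assoc, Iso.hom_inv_id_assoc,
      Category.comp_id]
  have h10 : e₁ ≫ e = 𝟙 P' := by
    refine Groth.Agent.Lib.OpensGlue.hom_ext_of_iSup_eq_top _ hcov' _ _ fun V => ?_
    rw [reassoc_of% (he₁ V.1 V.2)]
    simp only [Category.assoc, he V.1 V.2, Iso.inv_hom_id_assoc, Iso.hom_inv_id_assoc,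
      Category.comp_id]
  refine ⟨⟨e₁, h01, h10⟩, ?_⟩
  refine Groth.Agent.Lib.OpensGlue.hom_ext_of_iSup_eq_top _ hcov _ _ fun V => ?_
  rw [reassoc_of% (he V.1 V.2), ← hP.chart_over V.1 V.2, ← hP'.chart_over V.1 V.2]
  simp only [Category.assoc, Iso.inv_hom_id_assoc]

end Groth.Agent.S8273
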