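import Groth.Statements.S8274
import Groth.Agent.Lib.RelProjMap

set_option autoImplicit false
universe u
open CategoryTheory CategoryTheory.Limits AlgebraicGeometry Opposite TopologicalSpace
open scoped HomogeneousIdeal
open EGA2

namespace Groth.Agent.S8274

section aux

variable {Y P : Scheme.{u}} (𝒮 : RelProj.QCGrAlg Y) (p : P ⟶ Y)
  (chart : ∀ (U : Y.Opens) (hU : IsAffineOpen U),
    (((p ⁻¹ᵁ U : P.Opens) : Scheme.{u}) ≅ Proj (𝒮.deg U hU)))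
  (f : 𝒮.presheaf.obj (op ⊤))

/-- The restriction of the global section `f` to `U`. -/
noncomputable def fU (U : Y.Opens) : 𝒮.presheaf.obj (op U) :=
  (𝒮.presheaf.map (homOfLE le_top).op).hom f

lemma fU_res {U V : Y.Opens} (i : V ≤ U) :
    (𝒮.presheaf.map (homOfLE i).op).hom (fU 𝒮 f U) = fU 𝒮 f V := by
  unfold fU
  rw [← CommRingCat.comp_apply, ← Functor.map_comp]
  rfl

/-- The open `D_+(f|U)` transported to `P` by the chart. -/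
noncomputable def XU (U : Y.Opens) (hU : IsAffineOpen U) : P.Opens :=
  (p ⁻¹ᵁ U).ι ''ᵁ ((chart U hU).hom ⁻¹ᵁ Proj.basicOpen (𝒮.deg U hU) (fU 𝒮 f U))

lemma mem_XU_iff (U : Y.Opens) (hU : IsAffineOpen U) (x : P) :
    x ∈ XU 𝒮 p chart f U hU ↔ ∃ hx : x ∈ p ⁻¹ᵁ U,
      (chart U hU).hom ⟨x, hx⟩ ∈ Proj.basicOpen (𝒮.deg U hU) (fU 𝒮 f U) := by
  constructor
  · rintro ⟨y, hy, rfl⟩
    exact ⟨y.2, hy⟩
  · rintro ⟨hx, h⟩
    exact ⟨⟨x, hx⟩, h, rfl⟩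

variable {𝒮 p chart}

lemma mem_XU_basicOpen (hP : RelProj.IsRelProj 𝒮 p chart) (U : Y.Opens) (hU : IsAffineOpen U)
    (r : Γ(Y, U)) (W : Y.Opens) (hW : IsAffineOpen W) (e : W = Y.basicOpen r) (x : P)
    (hxW : x ∈ p ⁻¹ᵁ W) :
    x ∈ XU 𝒮 p chart f W hW ↔ x ∈ XU 𝒮 p chart f U hU := by
  subst e
  have hxU : x ∈ p ⁻¹ᵁ U := p.preimage_mono (Y.basicOpen_le r) hxW
  rw [mem_XU_iff, mem_XU_iff]
  have e1 := hP.chart_res U hU r
  have e2 : (chart U hU).hom ⟨x, hxU⟩ =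
      Proj.map (𝒮.res hU (hU.basicOpen r) (Y.basicOpen_le r)) (𝒮.irrelevant_le_map U hU r)
        ((chart (Y.basicOpen r) (hU.basicOpen r)).hom ⟨x, hxW⟩) := by
    rw [← Scheme.Hom.comp_apply, ← e1, Scheme.Hom.comp_apply, Scheme.homOfLE_apply']
  constructor
  · rintro ⟨_, h⟩
    refine ⟨hxU, ?_⟩
    rw [e2]
    change _ ∈ Proj.map _ _ ⁻¹ᵁ Proj.basicOpen (𝒮.deg U hU) (fU 𝒮 f U)
    rw [Proj.map_preimage_basicOpen]
    have : (𝒮.res hU (hU.basicOpen r) (Y.basicOpen_le r)) (fU 𝒮 f U) = fU 𝒮 f (Y.basicOpen r) :=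
      fU_res 𝒮 f (Y.basicOpen_le r)
    rw [this]
    exact h
  · rintro ⟨_, h⟩
    refine ⟨hxW, ?_⟩
    rw [e2] at h
    change _ ∈ Proj.map _ _ ⁻¹ᵁ Proj.basicOpen (𝒮.deg U hU) (fU 𝒮 f U) at h
    rw [Proj.map_preimage_basicOpen] at h
    have : (𝒮.res hU (hU.basicOpen r) (Y.basicOpen_le r)) (fU 𝒮 f U) = fU 𝒮 f (Y.basicOpen r) :=
      fU_res 𝒮 f (Y.basicOpen_le r)
    rw [this] at h
    exact h

lemma mem_XU_iff_of_mem (hP : RelProj.IsRelProj 𝒮 p chart) (U V : Y.Opens) (hU : IsAffineOpen U)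
    (hV : IsAffineOpen V) (x : P) (hxU : x ∈ p ⁻¹ᵁ U) (hxV : x ∈ p ⁻¹ᵁ V) :
    x ∈ XU 𝒮 p chart f U hU ↔ x ∈ XU 𝒮 p chart f V hV := by
  obtain ⟨a, b, hab, hxa⟩ := exists_basicOpen_le_affine_inter hU hV (p x) ⟨hxU, hxV⟩
  rw [← mem_XU_basicOpen f hP U hU a (Y.basicOpen a) (hU.basicOpen a) rfl x hxa,
    ← mem_XU_basicOpen f hP V hV b (Y.basicOpen a) (hU.basicOpen a) hab x hxa]

end aux

/-- Let 𝒮 be a quasi-coherent positively graded O_Y-algebra, P = Proj(𝒮) with structure morphism p and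
charts, and f a global section of 𝒮 homogeneous of degree d > 0. There is an open subset X_f of P
such that for every affine open U of Y, X_f ∩ p⁻¹(U) is the open D_+(f|U) of Proj 𝒮(U) transported
by the chart; moreover X_f is affine over Y. (The identification of X_f with the spectrum of a
quotient of the d-th Veronese algebra is not stated here.) -/
theorem result {Y P : Scheme.{u}} (𝒮 : RelProj.QCGrAlg Y) (p : P ⟶ Y)
    (chart : ∀ (U : Y.Opens) (hU : IsAffineOpen U), (((p ⁻¹ᵁ U : P.Opens) : Scheme.{u}) ≅ Proj (𝒮.deg U hU)))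
    (hP : RelProj.IsRelProj 𝒮 p chart) {d : ℕ} (hd : 0 < d) (f : 𝒮.presheaf.obj (op ⊤))
    (hf : ∀ (U : Y.Opens) (hU : IsAffineOpen U), (𝒮.presheaf.map (homOfLE le_top).op).hom f ∈ 𝒮.deg U hU d) :
    ∃ Xf : P.Opens,
      (∀ (U : Y.Opens) (hU : IsAffineOpen U),
        Xf ⊓ p ⁻¹ᵁ U =
          (p ⁻¹ᵁ U).ι ''ᵁ ((chart U hU).hom ⁻¹ᵁ
            Proj.basicOpen (𝒮.deg U hU) ((𝒮.presheaf.map (homOfLE le_top).op).hom f))) ∧
      IsAffineHom (Xf.ι ≫ p) := by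
  have h1 : ∀ (U : Y.Opens) (hU : IsAffineOpen U),
      (⨆ V : Y.affineOpens, XU 𝒮 p chart f V.1 V.2) ⊓ p ⁻¹ᵁ U = XU 𝒮 p chart f U hU := by
    intro U hU
    ext x
    constructor
    · rintro ⟨hx, hxU⟩
      rw [SetLike.mem_coe, Opens.mem_iSup] at hx
      obtain ⟨V, hxV⟩ := hx
      have hxV' : x ∈ p ⁻¹ᵁ V.1 := ((mem_XU_iff 𝒮 p chart f V.1 V.2 x).mp hxV).1
      exact (mem_XU_iff_of_mem f hP V.1 U V.2 hU x hxV' hxU).mp hxV
    · intro hx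
      refine ⟨?_, ((mem_XU_iff 𝒮 p chart f U hU x).mp hx).1⟩
      rw [SetLike.mem_coe, Opens.mem_iSup]
      exact ⟨⟨U, hU⟩, hx⟩
  refine ⟨⨆ V : Y.affineOpens, XU 𝒮 p chart f V.1 V.2, h1, ⟨fun U hU => ?_⟩⟩
  rw [Scheme.Hom.comp_preimage, ← Scheme.Hom.isAffineOpen_iff_of_isOpenImmersion
    (⨆ V : Y.affineOpens, XU 𝒮 p chart f V.1 V.2).ι, Scheme.Hom.image_preimage_eq_opensRange_inf,
    Scheme.Opens.opensRange_ι, h1 U hU]
  exact (IsAffineOpen.preimage_of_isIso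
    (Proj.isAffineOpen_basicOpen (𝒮.deg U hU) (fU 𝒮 f U) (hf U hU) hd)
    (chart U hU).hom).image_of_isOpenImmersion (p ⁻¹ᵁ U).ι

end Groth.Agent.S8274
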