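import Mathlib
import Groth.Agent.Lib.GradedNatural27
import Groth.Statements.S8275

set_option autoImplicit false
universe u
open EGA2

namespace Groth.Agent.S8275

section Helpers

open Polynomial

variable {R A : Type u} [CommRing R] [CommRing A] [Algebra R A]
  (𝒜 : ℕ → Submodule R A) [GradedAlgebra 𝒜]

lemma ge_one_le_irrelevant :
    ∀ a ∈ (⨆ (m : ℕ) (_ : 1 ≤ m), 𝒜 m), a ∈ (HomogeneousIdeal.irrelevant 𝒜).toIdeal := by
  intro a ha
  refine Submodule.iSup_induction (fun m => ⨆ (_ : 1 ≤ m), 𝒜 m)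
    (motive := fun a => a ∈ (HomogeneousIdeal.irrelevant 𝒜).toIdeal) ha ?_ ?_ ?_
  · intro m x hx
    by_cases h1m : 1 ≤ m
    · rw [iSup_pos h1m] at hx
      exact HomogeneousIdeal.mem_irrelevant_of_mem 𝒜 h1m hx
    · rw [iSup_neg h1m, Submodule.mem_bot] at hx
      rw [hx]; exact Ideal.zero_mem _
  · exact Ideal.zero_mem _
  · intro x y hx hy; exact Ideal.add_mem _ hx hy

lemma irrelevant_le_ge_one :
    ∀ a ∈ (HomogeneousIdeal.irrelevant 𝒜).toIdeal, a ∈ (⨆ (m : ℕ) (_ : 1 ≤ m), 𝒜 m) := by
  classical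
  intro a ha
  rw [← DirectSum.sum_support_decompose 𝒜 a]
  refine Submodule.sum_mem _ (fun m _ => ?_)
  rcases Nat.eq_zero_or_pos m with rfl | hm
  · have h0 : GradedRing.proj 𝒜 0 a = 0 := ha
    rw [GradedRing.proj_apply] at h0
    rw [h0]; exact Submodule.zero_mem _
  · exact (le_iSup₂_of_le (f := fun m (_ : 1 ≤ m) => 𝒜 m) m hm le_rfl) (Subtype.prop _)

end Helpers

/-- For a positively graded ring S and the graded ring S♮ with S♮_n = S_{≥ n} = ⊕_{m ≥ n} S_m (presented
here as a graded ring S' with an injective algebra homomorphism φ : S' → S[X] carrying S'_n onto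
S_{≥ n}·X^n for every n, so that S'_0 is identified with S): S♮ is of finite type over S♮_0 = S if
and only if S is of finite type over S_0. -/
theorem result {R A B : Type u} [CommRing R] [CommRing A] [Algebra R A]
    (𝒜 : ℕ → Submodule R A) [GradedAlgebra 𝒜] [CommRing B] [Algebra R B] (ℬ : ℕ → Submodule R B) [GradedAlgebra ℬ]
    (φ : B →ₐ[R] Polynomial A) (hφ : Function.Injective φ)
    (hdeg : ∀ n : ℕ, Submodule.map φ.toLinearMap (ℬ n) =
      Submodule.map ((Polynomial.monomial n : A →ₗ[A] Polynomial A).restrictScalars R) (⨆ (m : ℕ) (_ : n ≤ m), 𝒜 m)) :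
    Algebra.FiniteType (ℬ 0) B ↔ Algebra.FiniteType (𝒜 0) A := by
  classical
  constructor
  · -- `B` f.t. over `ℬ 0` implies `A` f.t. over `𝒜 0`
    intro hB
    obtain ⟨t, htspan, -, ht⟩ := Groth.Agent.Lib.GradedGen.exists_finset_span_eq_irrelevant ℬ
    choose! degB hdegBpos hdegB using ht
    let F : Finset A := (t.filter (fun e => degB e = 1)).image (fun e => (φ e).coeff 1)
    have hφe : ∀ e ∈ t, degB e = 1 →
        ∃ a ∈ (⨆ (m : ℕ) (_ : 1 ≤ m), 𝒜 m), φ e = Polynomial.monomial 1 a := by
      intro e he h1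
      have := hdegB e he
      rw [h1] at this
      exact Groth.Agent.Lib.GradedNatural27.exists_monomial_of_mem 𝒜 ℬ φ hdeg this
    have hFirr : Ideal.span (F : Set A) = (HomogeneousIdeal.irrelevant 𝒜).toIdeal := by
      apply le_antisymm
      · rw [Ideal.span_le]
        intro x hx
        simp only [F, Finset.coe_image, Finset.coe_filter, Set.mem_image, Set.mem_ofPred_eq] at hx
        obtain ⟨e, ⟨he, h1⟩, rfl⟩ := hx
        obtain ⟨a, ha, hea⟩ := hφe e he h1
        rw [hea, Polynomial.coeff_monomial, if_pos rfl]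
        exact ge_one_le_irrelevant 𝒜 a ha
      · intro a ha
        have ha1 := irrelevant_le_ge_one 𝒜 a ha
        -- lift to `ℬ 1`
        have h1 : Polynomial.monomial 1 a ∈
            Submodule.map ((Polynomial.monomial 1 : A →ₗ[A] Polynomial A).restrictScalars R)
              (⨆ (m : ℕ) (_ : 1 ≤ m), 𝒜 m) := ⟨a, ha1, rfl⟩
        rw [← hdeg 1] at h1
        obtain ⟨b, hb, hb'⟩ := h1
        have hbirr : b ∈ (HomogeneousIdeal.irrelevant ℬ).toIdeal :=
          HomogeneousIdeal.mem_irrelevant_of_mem ℬ Nat.one_pos hb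
        rw [htspan] at hbirr
        have hcl := Groth.Agent.Lib.GradedGen.mem_closure_of_mem_span ℬ (t : Set B) degB
          (fun e he => hdegB e he) hb hbirr
        have hsub : ∀ y ∈ AddSubmonoid.closure
            {y | ∃ e ∈ (t : Set B), degB e ≤ 1 ∧ ∃ c ∈ ℬ (1 - degB e), y = c * e},
            ∃ a' ∈ Ideal.span (F : Set A), φ y = Polynomial.monomial 1 a' := by
          intro y hy
          induction hy using AddSubmonoid.closure_induction with
          | mem y hy =>
            obtain ⟨e, he, hle, c, hc, rfl⟩ := hy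
            have h1 : degB e = 1 := le_antisymm hle (hdegBpos e he)
            rw [h1, Nat.sub_self] at hc
            obtain ⟨s0, -, hs0⟩ :=
              Groth.Agent.Lib.GradedNatural27.exists_monomial_of_mem 𝒜 ℬ φ hdeg hc
            obtain ⟨ae, -, hae⟩ := hφe e he h1
            refine ⟨s0 * ae, Ideal.mul_mem_left _ _ (Ideal.subset_span ?_), ?_⟩
            · simp only [F, Finset.coe_image, Finset.coe_filter, Set.mem_image, Set.mem_ofPred_eq]
              refine ⟨e, ⟨he, h1⟩, ?_⟩
              rw [hae, Polynomial.coeff_monomial, if_pos rfl]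
            · rw [map_mul, hs0, hae, Polynomial.monomial_mul_monomial]
          | zero => exact ⟨0, Ideal.zero_mem _, by simp⟩
          | add x y _ _ hx hy =>
            obtain ⟨ax, hax, hx'⟩ := hx
            obtain ⟨ay, hay, hy'⟩ := hy
            exact ⟨ax + ay, Ideal.add_mem _ hax hay, by rw [map_add, hx', hy', map_add]⟩
        obtain ⟨a', ha', hba'⟩ := hsub b hcl
        have : a = a' := by
          apply Polynomial.monomial_injective 1
          rw [← hba']; exact hb'.symm
        rw [this]; exact ha'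
    exact Groth.Agent.Lib.GradedGen.finiteType_of_irrelevant_fg 𝒜 ⟨F, hFirr⟩
  · -- `A` f.t. over `𝒜 0` implies `B` f.t. over `ℬ 0`
    intro hA
    obtain ⟨s, hspan, -, hs⟩ := Groth.Agent.Lib.GradedGen.exists_finset_span_eq_irrelevant 𝒜
    choose! deg hdegpos hdegE using hs
    have hex : ∀ (e : A) (n : ℕ), ∃ b : B, e ∈ s → n ≤ deg e → φ b = Polynomial.monomial n e := by
      intro e n
      by_cases h : e ∈ s ∧ n ≤ deg e
      · obtain ⟨b, -, hb⟩ := Groth.Agent.Lib.GradedNatural27.exists_mem_map_eq_monomial 𝒜 ℬ φ hdeg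
          h.2 (hdegE e h.1)
        exact ⟨b, fun _ _ => hb⟩
      · exact ⟨0, fun h1 h2 => absurd ⟨h1, h2⟩ h⟩
    choose bsel hbsel using hex
    let G : Finset B :=
      s.biUnion (fun e => (Finset.range (deg e + 1)).image (fun n => bsel e n))
    let U : Subalgebra (ℬ 0) B := Algebra.adjoin (ℬ 0) (G : Set B)
    have hGmem : ∀ e ∈ s, ∀ n ≤ deg e, bsel e n ∈ U := by
      intro e he n hn
      apply Algebra.subset_adjoin
      simp only [G, Finset.coe_biUnion, Finset.coe_image, Set.mem_iUnion, Set.mem_image,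
        Finset.mem_coe, Finset.mem_range]
      exact ⟨e, he, n, Nat.lt_succ_of_le hn, rfl⟩
    have hall : ∀ b : B, φ b ∈ U.toSubring.map φ.toRingHom := by
      intro b
      refine Groth.Agent.Lib.GradedNatural27.map_mem 𝒜 ℬ φ hdeg (U.toSubring.map φ.toRingHom)
        (s : Set A) deg (fun e he => hdegE e he) (fun e he => hdegpos e he) (le_of_eq hspan)
        ?_ ?_ b
      · intro a _
        obtain ⟨b0, hb0, hb0'⟩ :=
          Groth.Agent.Lib.GradedNatural27.exists_mem_zero_map_eq_C 𝒜 ℬ φ hdeg a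
        exact ⟨b0, U.algebraMap_mem ⟨b0, hb0⟩, hb0'⟩
      · intro e he n hn
        exact ⟨bsel e n, hGmem e he n hn, hbsel e n he hn⟩
    refine ⟨⟨G, ?_⟩⟩
    rw [eq_top_iff]
    intro b _
    obtain ⟨u, hu, hub⟩ := hall b
    have : u = b := hφ hub
    rw [← this]; exact hu

end Groth.Agent.S8275
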