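import Mathlib
import Groth.Agent.Lib.GradedNatural27
import Groth.Agent.Lib.GradedNoetherian
import Groth.Statements.S8276

set_option autoImplicit false
universe u
open EGA2

namespace Groth.Agent.S8276

/-- For a positively graded ring S and the graded ring S♮ with S♮_n = S_{≥ n} = ⊕_{m ≥ n} S_m (presented
here as a graded ring S' with an injective algebra homomorphism φ : S' → S[X] carrying S'_n onto
S_{≥ n}·X^n for every n, so that S'_0 is identified with S): S♮ is Noetherian if and only if S is. -/
theorem result {R A B : Type u} [CommRing R] [CommRing A] [Algebra R A]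
    (𝒜 : ℕ → Submodule R A) [GradedAlgebra 𝒜] [CommRing B] [Algebra R B] (ℬ : ℕ → Submodule R B) [GradedAlgebra ℬ]
    (φ : B →ₐ[R] Polynomial A) (hφ : Function.Injective φ)
    (hdeg : ∀ n : ℕ, Submodule.map φ.toLinearMap (ℬ n) =
      Submodule.map ((Polynomial.monomial n : A →ₗ[A] Polynomial A).restrictScalars R) (⨆ (m : ℕ) (_ : n ≤ m), 𝒜 m)) :
    IsNoetherianRing B ↔ IsNoetherianRing A := by
  classical
  constructor
  · -- `A` is a quotient of `B`
    intro hB
    let ρ : B →+* A := (Polynomial.constantCoeff).comp
      (φ.toRingHom.comp (GradedRing.projZeroRingHom ℬ))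
    have hρ : Function.Surjective ρ := by
      intro a
      obtain ⟨b, hb, hb'⟩ :=
        Groth.Agent.Lib.GradedNatural27.exists_mem_zero_map_eq_C 𝒜 ℬ φ hdeg a
      refine ⟨b, ?_⟩
      have h0 : GradedRing.projZeroRingHom ℬ b = b := by
        rw [GradedRing.projZeroRingHom_apply, DirectSum.decompose_of_mem_same ℬ hb]
      show Polynomial.constantCoeff (φ (GradedRing.projZeroRingHom ℬ b)) = a
      rw [h0, hb', Polynomial.constantCoeff_apply, Polynomial.coeff_C_zero]
    exact isNoetherianRing_of_surjective B A ρ hρ
  · intro hA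
    obtain ⟨s, hs, hspan⟩ := Groth.Agent.Lib.GradedNoetherian.exists_finset_span_irrelevant 𝒜
    choose! deg hdegpos hdegE using hs
    let S' : Finset (Polynomial A) :=
      s.biUnion (fun e => (Finset.range (deg e + 1)).image (fun n => Polynomial.monomial n e))
    let T : Subalgebra A (Polynomial A) := Algebra.adjoin A (S' : Set (Polynomial A))
    have hTfg : T.FG := Subalgebra.fg_adjoin_finset S'
    have hTft : Algebra.FiniteType A T := (Subalgebra.fg_iff_finiteType T).1 hTfg
    have hTnoeth : IsNoetherianRing T := Algebra.FiniteType.isNoetherianRing A T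
    have hS'mem : ∀ e ∈ s, ∀ n ≤ deg e, Polynomial.monomial n e ∈ T := by
      intro e he n hn
      apply Algebra.subset_adjoin
      simp only [S', Finset.coe_biUnion, Finset.coe_image, Set.mem_iUnion, Set.mem_image,
        Finset.mem_coe, Finset.mem_range]
      exact ⟨e, he, n, Nat.lt_succ_of_le hn, rfl⟩
    have hmapT : ∀ b : B, φ b ∈ T := by
      intro b
      have := Groth.Agent.Lib.GradedNatural27.map_mem 𝒜 ℬ φ hdeg T.toSubring (s : Set A) deg
        (fun e he => hdegE e he) (fun e he => hdegpos e he) (le_of_eq hspan)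
        (fun a _ => T.algebraMap_mem a) (fun e he n hn => hS'mem e he n hn) b
      exact this
    let ψ : B →+* T := φ.toRingHom.codRestrict T hmapT
    have hψinj : Function.Injective ψ := by
      intro x y hxy
      apply hφ
      exact congrArg Subtype.val hxy
    have hrange : ∀ t ∈ T, t ∈ φ.toRingHom.range := by
      intro t ht
      induction ht using Algebra.adjoin_induction with
      | mem x hx =>
        simp only [S', Finset.coe_biUnion, Finset.coe_image, Set.mem_iUnion, Set.mem_image,
          Finset.mem_coe, Finset.mem_range] at hx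
        obtain ⟨e, he, n, hn, rfl⟩ := hx
        obtain ⟨b, -, hb⟩ := Groth.Agent.Lib.GradedNatural27.exists_mem_map_eq_monomial 𝒜 ℬ φ hdeg
          (Nat.le_of_lt_succ hn) (hdegE e he)
        exact ⟨b, hb⟩
      | algebraMap a =>
        obtain ⟨b, -, hb⟩ := Groth.Agent.Lib.GradedNatural27.exists_mem_zero_map_eq_C 𝒜 ℬ φ hdeg a
        exact ⟨b, hb⟩
      | add x y _ _ hx hy => exact Subring.add_mem _ hx hy
      | mul x y _ _ hx hy => exact Subring.mul_mem _ hx hy
    have hψsurj : Function.Surjective ψ := by
      rintro ⟨t, ht⟩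
      obtain ⟨b, hb⟩ := hrange t ht
      exact ⟨b, Subtype.ext hb⟩
    exact isNoetherianRing_of_ringEquiv T (RingEquiv.ofBijective ψ ⟨hψinj, hψsurj⟩).symm

end Groth.Agent.S8276
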