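import Groth.Statements.S8282
import Groth.Agent.Lib.H60TNSurj
import Groth.Agent.Lib.H60PConeMap

set_option autoImplicit false
universe u
open CategoryTheory CategoryTheory.Limits AlgebraicGeometry
open EGA2

namespace Groth.Agent.S8282

open Groth.Agent.Lib.H60TNSurj Groth.Agent.Lib.H60PConeMap HomogeneousLocalization TopologicalSpace

section Aux

variable {R A B : Type u} [CommRing R] [CommRing A] [Algebra R A]
  {𝒜 : ℕ → Submodule R A} [GradedAlgebra 𝒜] [CommRing B] [Algebra R B] {ℬ : ℕ → Submodule R B}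
  [GradedAlgebra ℬ] (φ : 𝒜 →+*ᵍ ℬ)

/-- `φ` maps `𝒜 1 ^ (n + 1)` into `ℬ 1 ^ (n + 1)`. -/
lemma map_pow_mem (n : ℕ) {a : A} (ha : a ∈ 𝒜 1 ^ (n + 1)) : φ a ∈ ℬ 1 ^ (n + 1) := by
  induction n generalizing a with
  | zero =>
    rw [zero_add, pow_one] at ha ⊢
    exact φ.map_mem ha
  | succ n ih =>
    rw [pow_succ] at ha ⊢
    refine Submodule.mul_induction_on ha ?_ ?_
    · intro y hy z hz
      rw [map_mul]
      exact Submodule.mul_mem_mul (ih hy) (φ.map_mem hz)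
    · intro y z hy hz
      rw [map_add]; exact add_mem hy hz

omit [GradedAlgebra 𝒜] in
/-- `φ` maps `𝒜 1 ^ (n + 1)` into the ideal generated by `ℬ 1`. -/
lemma map_pow_mem_span (n : ℕ) {a : A} (ha : a ∈ 𝒜 1 ^ (n + 1)) :
    φ a ∈ Ideal.span (ℬ 1 : Set B) := by
  rw [pow_succ] at ha
  refine Submodule.mul_induction_on ha ?_ ?_
  · intro y _ z hz
    rw [map_mul]
    exact Ideal.mul_mem_left _ _ (Ideal.subset_span (φ.map_mem hz))
  · intro y z hy hz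
    rw [map_add]; exact add_mem hy hz

lemma pow_le_deg (n : ℕ) : ℬ 1 ^ n ≤ ℬ n := by
  induction n with
  | zero =>
    rw [pow_zero, Submodule.one_le]
    exact SetLike.GradedOne.one_mem (A := ℬ)
  | succ n ih =>
    rw [pow_succ, Submodule.mul_le]
    intro y hy z hz
    exact SetLike.mul_mem_graded (A := ℬ) (ih hy) hz

/-- If `G(φ) = Proj ℬ` and `𝒜` is generated in degree one, then `ℬ₊ ⊆ rad(ℬ₁ B)`. -/
lemma mem_radical_of_dom (hgen : ∀ n : ℕ, 1 ≤ n → 𝒜 n = 𝒜 1 ^ n) (hdom : PCone.dom φ = ⊤)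
    {n : ℕ} (hn : 0 < n) {b : B} (hb : b ∈ ℬ n) :
    b ∈ (Ideal.span (ℬ 1 : Set B)).radical := by
  by_contra hnot
  rw [Ideal.radical_eq_sInf, Ideal.mem_sInf] at hnot
  push Not at hnot
  obtain ⟨𝔮, ⟨hJ𝔮, h𝔮prime⟩, hb𝔮⟩ := hnot
  have hprime : (𝔮.homogeneousCore ℬ).toIdeal.IsPrime := Ideal.IsPrime.homogeneousCore h𝔮prime
  have hJle : Ideal.span (ℬ 1 : Set B) ≤ (𝔮.homogeneousCore ℬ).toIdeal := by
    rw [Ideal.span_le]
    intro f hf
    exact Ideal.mem_homogeneousCore_of_homogeneous_of_mem ⟨1, hf⟩ (hJ𝔮 (Ideal.subset_span hf))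
  have hbnot : b ∉ (𝔮.homogeneousCore ℬ).toIdeal :=
    fun h ↦ hb𝔮 (Ideal.toIdeal_homogeneousCore_le ℬ 𝔮 h)
  have hirr : ¬ HomogeneousIdeal.irrelevant ℬ ≤ 𝔮.homogeneousCore ℬ :=
    fun h ↦ hbnot (h (HomogeneousIdeal.mem_irrelevant_of_mem _ hn hb))
  let x : Proj ℬ := ⟨𝔮.homogeneousCore ℬ, hprime, hirr⟩
  have hx : x ∈ PCone.dom φ := by rw [hdom]; trivial
  obtain ⟨⟨f, d, hd, hf⟩, hxf⟩ := Opens.mem_iSup.mp hx
  apply (Proj.mem_basicOpen ℬ (φ f) x).mp hxf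
  apply hJle
  obtain ⟨d', rfl⟩ : ∃ d', d = d' + 1 := ⟨d - 1, by omega⟩
  rw [hgen _ (by omega)] at hf
  exact map_pow_mem_span φ d' hf

end Aux

/-- Let T be a positively graded ring which is a T_0-algebra of finite type, and T' = ⊕_n T_1^n → T the
injective graded homomorphism from the subalgebra generated by T_1 (T' presented as a graded ring
with φ : T' → T injective, bijective in degrees 0 and 1, and T'_n = (T'_1)^n for n ≥ 1). If the
morphism of homogeneous spectra induced by φ is everywhere defined (its domain G(φ) is the whole of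
Proj T) and is an isomorphism onto Proj T', then there is n₀ with T_n = T_1^n for all n ≥ n₀. -/
theorem result {R A B : Type u} [CommRing R] [CommRing A] [Algebra R A]
    (𝒜 : ℕ → Submodule R A) [GradedAlgebra 𝒜] [CommRing B] [Algebra R B] (ℬ : ℕ → Submodule R B) [GradedAlgebra ℬ]
    [Algebra.FiniteType (ℬ 0) B] (φ : 𝒜 →+*ᵍ ℬ) (hφ : Function.Injective φ)
    (h0 : Set.BijOn φ (𝒜 0) (ℬ 0)) (h1 : Set.BijOn φ (𝒜 1) (ℬ 1))
    (hgen : ∀ n : ℕ, 1 ≤ n → 𝒜 n = 𝒜 1 ^ n)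
    (hdom : PCone.dom φ = ⊤)
    (p : (PCone.dom φ : Scheme.{u}) ⟶ Proj 𝒜)
    (hp : ∀ (d : ℕ) (f : A) (hd : 0 < d) (hf : f ∈ 𝒜 d),
      PCone.chart φ hf hd ≫ p =
        Spec.map (CommRingCat.ofHom (HomogeneousLocalization.Away.map φ f)) ≫ Proj.awayι 𝒜 f hf hd)
    [IsIso p] :
    ∃ n₀ : ℕ, ∀ n : ℕ, n₀ ≤ n → ℬ n = ℬ 1 ^ n := by
  have hsurj : ∀ a ∈ 𝒜 1, Function.Surjective (Away.map φ a) := by
    intro a ha
    have sq := isPullback_chart φ p hp ha Nat.one_pos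
    have hiso : IsIso (Spec.map (CommRingCat.ofHom (Away.map φ a))) := sq.isIso_fst_of_isIso
    exact (isIso_SpecMap_iff.mp hiso).2
  have hrad : ∀ n : ℕ, 0 < n → ∀ b ∈ ℬ n, b ∈ (Ideal.span (ℬ 1 : Set B)).radical :=
    fun n hn b hb ↦ mem_radical_of_dom φ hgen hdom hn hb
  obtain ⟨n₀, hn₀⟩ := eventually_subset_range φ hφ h0 h1 hrad hsurj
  refine ⟨n₀ + 1, fun n hn ↦ le_antisymm ?_ (pow_le_deg n)⟩
  intro b hb
  obtain ⟨a, ha, rfl⟩ := exists_mem_of_mem φ hb (hn₀ n (by omega) b hb)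
  obtain ⟨n', rfl⟩ : ∃ n', n = n' + 1 := ⟨n - 1, by omega⟩
  rw [hgen _ (by omega)] at ha
  exact map_pow_mem φ n' ha

end Groth.Agent.S8282
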