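import Groth.Statements.S8283
import Groth.Agent.Lib.H60SectionDVR
import Groth.Agent.Lib.FibreStalk33

set_option autoImplicit false
universe u
open CategoryTheory CategoryTheory.Limits AlgebraicGeometry Opposite TopologicalSpace
open EGA2

namespace Groth.Agent.S8283


open IsLocalRing

/-- The kernel of the stalk map of a closed immersion at `x` is generated by the germs of the
ideal on an affine open neighbourhood of the image point. -/
lemma ker_stalkMap {X V : Scheme.{u}} (j : X ⟶ V) [IsClosedImmersion j] (x : X) (U : V.Opens)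
    (hU : IsAffineOpen U) (hv : j.base x ∈ U) (f : Γ(V, U))
    (hfU : j.ker.ideal ⟨U, hU⟩ = Ideal.span {f}) :
    RingHom.ker (j.stalkMap x).hom =
      Ideal.span {(V.presheaf.germ U (j.base x) hv).hom f} := by
  have hU' : IsAffineOpen (j ⁻¹ᵁ U) := hU.preimage j
  have hx : x ∈ j ⁻¹ᵁ U := hv
  have hgs : Function.Surjective (j.app U).hom := j.app_surjective U hU
  have hkg : RingHom.ker (j.app U).hom = Ideal.span {f} := by
    rw [← hfU]
    exact (Scheme.Hom.ker_apply j ⟨U, hU⟩).symm
  have hcomm : ∀ r, (j.stalkMap x).hom ((V.presheaf.germ U (j.base x) hv).hom r) =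
      (X.presheaf.germ (j ⁻¹ᵁ U) x hx).hom ((j.app U).hom r) := fun r =>
    Scheme.Hom.germ_stalkMap_apply j U x hv r
  letI := V.presheaf.algebra_section_stalk ⟨j.base x, hv⟩
  haveI := hU.isLocalization_stalk ⟨j.base x, hv⟩
  letI := X.presheaf.algebra_section_stalk ⟨x, hx⟩
  haveI := hU'.isLocalization_stalk ⟨x, hx⟩
  have hp : (hU'.primeIdealOf ⟨x, hx⟩).comap (j.appLE U (j ⁻¹ᵁ U) le_rfl).hom =
      hU.primeIdealOf ⟨j.base x, hv⟩ :=
    IsAffineOpen.comap_primeIdealOf_appLE U hU (j ⁻¹ᵁ U) hU' le_rfl hx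
  have happ : j.appLE U (j ⁻¹ᵁ U) le_rfl = j.app U := (Scheme.Hom.app_eq_appLE j).symm
  rw [happ] at hp
  apply le_antisymm
  · intro b hb
    rw [RingHom.mem_ker] at hb
    obtain ⟨⟨r, s⟩, hrs⟩ := IsLocalization.surj
      (hU.primeIdealOf ⟨j.base x, hv⟩).asIdeal.primeCompl b
    have hrs' : b * (V.presheaf.germ U (j.base x) hv).hom (s : Γ(V, U)) =
        (V.presheaf.germ U (j.base x) hv).hom r := hrs
    have h0 : (X.presheaf.germ (j ⁻¹ᵁ U) x hx).hom ((j.app U).hom r) = 0 := by
      rw [← hcomm, ← hrs', map_mul, hb, zero_mul]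
    have h0' : algebraMap Γ(X, j ⁻¹ᵁ U) (X.presheaf.stalk x) ((j.app U).hom r) = 0 := h0
    rw [IsLocalization.map_eq_zero_iff (hU'.primeIdealOf ⟨x, hx⟩).asIdeal.primeCompl] at h0'
    obtain ⟨⟨t, ht⟩, htr⟩ := h0'
    obtain ⟨t', rfl⟩ := hgs t
    have ht' : t' ∈ (hU.primeIdealOf ⟨j.base x, hv⟩).asIdeal.primeCompl := by
      intro hcon
      apply ht
      rw [← hp] at hcon
      exact hcon
    have hmem : t' * r ∈ RingHom.ker (j.app U).hom := by
      rw [RingHom.mem_ker, map_mul]
      exact htr
    rw [hkg, Ideal.mem_span_singleton'] at hmem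
    obtain ⟨c, hc⟩ := hmem
    have hut : IsUnit ((V.presheaf.germ U (j.base x) hv).hom t') :=
      IsLocalization.map_units (V.presheaf.stalk (j.base x))
        (⟨t', ht'⟩ : (hU.primeIdealOf ⟨j.base x, hv⟩).asIdeal.primeCompl)
    have hus : IsUnit ((V.presheaf.germ U (j.base x) hv).hom (s : Γ(V, U))) :=
      IsLocalization.map_units (V.presheaf.stalk (j.base x)) s
    have e : ((V.presheaf.germ U (j.base x) hv).hom t' *
        (V.presheaf.germ U (j.base x) hv).hom (s : Γ(V, U))) * b =
        (V.presheaf.germ U (j.base x) hv).hom c * (V.presheaf.germ U (j.base x) hv).hom f := by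
      rw [← map_mul _ c f, hc, map_mul, ← hrs']
      ring
    obtain ⟨w, hw⟩ := hut.mul hus
    rw [Ideal.mem_span_singleton']
    refine ⟨(↑w⁻¹ : V.presheaf.stalk (j.base x)) * (V.presheaf.germ U (j.base x) hv).hom c, ?_⟩
    rw [mul_assoc, ← e, ← hw, ← mul_assoc, Units.inv_mul, one_mul]
  · rw [Ideal.span_le, Set.singleton_subset_iff, SetLike.mem_coe, RingHom.mem_ker, hcomm]
    have : (j.app U).hom f = 0 := by
      have : f ∈ RingHom.ker (j.app U).hom := by
        rw [hkg]; exact Ideal.mem_span_singleton_self f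
      exact this
    rw [this, map_zero]

/-- Germs of nonzerodivisors on an affine open are nonzerodivisors. -/
lemma germ_mem_nonZeroDivisors {V : Scheme.{u}} (U : V.Opens) (hU : IsAffineOpen U) (v : V)
    (hv : v ∈ U) (f : Γ(V, U)) (hf : f ∈ nonZeroDivisors Γ(V, U)) :
    (V.presheaf.germ U v hv).hom f ∈ nonZeroDivisors (V.presheaf.stalk v) := by
  letI := V.presheaf.algebra_section_stalk ⟨v, hv⟩
  haveI := hU.isLocalization_stalk ⟨v, hv⟩
  exact IsLocalization.map_nonZeroDivisors_le
    (hU.primeIdealOf ⟨v, hv⟩).asIdeal.primeCompl (V.presheaf.stalk v)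
    (Submonoid.mem_map_of_mem _ hf)

lemma isIso_stalkMap_of_eq_id {X : Scheme.{u}} (g : X ⟶ X) (hg : g = 𝟙 X) (x : X) :
    IsIso (g.stalkMap x) := by
  subst hg
  infer_instance

/-- Let π : V → X be locally of finite type and j : X → V a section of π that is a closed immersion with
invertible ideal sheaf. Then for every x ∈ X the local ring at j(x) of the fibre π⁻¹(π(j(x))) =
π⁻¹(x) is a regular local ring of dimension one, i.e. a discrete valuation ring (so j(x) lies on a
single irreducible component of the fibre; the completion of that local ring is then a power-series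
ring in one variable over the residue field of x). (The published statement assumes π of finite
type; this row assumes only that π is locally of finite type, which is all the proof uses: it needs
no more than the Noetherian property of the local rings of the fibre.) -/
theorem result {X V : Scheme.{u}} (π : V ⟶ X) [LocallyOfFiniteType π]
    (j : X ⟶ V) [IsClosedImmersion j] (hj : j ≫ π = 𝟙 X) (hJ : BlowUp.IsEffCartierIdeal j.ker) (x : X) :
    ∃ _ : IsDomain ((π.fiber (π.base (j.base x))).presheaf.stalk (π.asFiber (j.base x))),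
      IsDiscreteValuationRing ((π.fiber (π.base (j.base x))).presheaf.stalk (π.asFiber (j.base x))) := by
  classical
  set v := j.base x with hv
  obtain ⟨⟨U, hU⟩, hvU, f, hf, hfU⟩ := hJ v
  -- the three local rings and the maps between them
  have hθ : IsIso ((j ≫ π).stalkMap x) := isIso_stalkMap_of_eq_id (j ≫ π) hj x
  have hcomp : (j ≫ π).stalkMap x = π.stalkMap v ≫ j.stalkMap x := Scheme.Hom.stalkMap_comp j π x
  let φ : X.presheaf.stalk (π.base v) →+* V.presheaf.stalk v := (π.stalkMap v).hom
  let σ : V.presheaf.stalk v →+* X.presheaf.stalk x := (j.stalkMap x).hom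
  let ρ : V.presheaf.stalk v →+* X.presheaf.stalk (π.base v) :=
    (inv ((j ≫ π).stalkMap x)).hom.comp σ
  have hρφ : ∀ a, ρ (φ a) = a := by
    intro a
    change (inv ((j ≫ π).stalkMap x)).hom ((j.stalkMap x).hom ((π.stalkMap v).hom a)) = a
    have e : (j.stalkMap x).hom ((π.stalkMap v).hom a) = ((j ≫ π).stalkMap x).hom a := by
      rw [hcomp]; rfl
    rw [e]
    have := congrArg (fun g => g.hom a) (IsIso.hom_inv_id ((j ≫ π).stalkMap x))
    exact this
  have hinj : Function.Injective (inv ((j ≫ π).stalkMap x)).hom :=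
    ((ConcreteCategory.isIso_iff_bijective _).mp (inferInstance :
      IsIso (inv ((j ≫ π).stalkMap x)))).1
  have hkerρ : RingHom.ker ρ = Ideal.span {(V.presheaf.germ U v hvU).hom f} := by
    rw [← ker_stalkMap j x U hU hvU f hfU]
    ext b
    rw [RingHom.mem_ker, RingHom.mem_ker]
    change (inv ((j ≫ π).stalkMap x)).hom (σ b) = 0 ↔ σ b = 0
    rw [← map_zero (inv ((j ≫ π).stalkMap x)).hom]
    exact hinj.eq_iff
  have hfnzd := germ_mem_nonZeroDivisors U hU v hvU f hf
  -- the fibre is locally Noetherian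
  haveI : IsLocallyNoetherian (π.fiber (π.base v)) := by
    unfold Scheme.Hom.fiber
    infer_instance
  let e := Groth.Agent.Lib.FibreStalk33.fibreStalkEquiv π v
  haveI : IsNoetherianRing (V.presheaf.stalk v ⧸ Ideal.map φ (maximalIdeal _)) :=
    isNoetherianRing_of_ringEquiv _ e.symm
  obtain ⟨hdom, hdvr⟩ := Groth.Agent.Lib.H60SectionDVR.isDVR_quotient_of_retraction
    φ ρ hρφ _ hfnzd hkerρ
  have hdom' : IsDomain ((π.fiber (π.base v)).presheaf.stalk (π.asFiber v)) :=
    e.symm.toMulEquiv.isDomain _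
  exact ⟨hdom', IsDiscreteValuationRing.RingEquivClass.isDiscreteValuationRing e⟩

end Groth.Agent.S8283
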