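import Groth.Statements.S8292
import Groth.Agent.Lib.RelProjMap

set_option autoImplicit false
universe u
open CategoryTheory CategoryTheory.Limits AlgebraicGeometry Opposite TopologicalSpace
open scoped HomogeneousIdeal
noncomputable section
open EGA2

namespace Groth.Agent.S8292

open Graded in
lemma surj_of_genDegOne {R T : Type*} [CommRing R] [CommRing T] (𝒮 : ℕ → AddSubgroup R)
    (𝒯 : ℕ → AddSubgroup T) [GradedRing 𝒮] [GradedRing 𝒯] (ψ : 𝒯 →+*ᵍ 𝒮)
    (hgen : Subring.closure ((𝒮 0 : Set R) ∪ (𝒮 1 : Set R)) = ⊤)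
    (h1 : ∀ y ∈ 𝒮 1, ∃ t ∈ 𝒯 1, ψ t = y) :
    ∀ n, 1 ≤ n → ∀ y ∈ 𝒮 n, ∃ t ∈ 𝒯 n, ψ t = y := by
  classical
  -- the image in degree `d`
  let Im : ℕ → Set R := fun d => {y | ∃ t ∈ 𝒯 d, ψ t = y}
  have Im_mul : ∀ a b y z, y ∈ Im a → z ∈ Im b → y * z ∈ Im (a + b) := by
    rintro a b _ _ ⟨t, ht, rfl⟩ ⟨t', ht', rfl⟩
    exact ⟨t * t', SetLike.mul_mem_graded ht ht', map_mul ψ t t'⟩
  have Im_zero : ∀ d, (0 : R) ∈ Im d := fun d => ⟨0, zero_mem _, map_zero ψ⟩
  have Im_add : ∀ d y z, y ∈ Im d → z ∈ Im d → y + z ∈ Im d := by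
    rintro d _ _ ⟨t, ht, rfl⟩ ⟨t', ht', rfl⟩
    exact ⟨t + t', add_mem ht ht', map_add ψ t t'⟩
  have Im_neg : ∀ d y, y ∈ Im d → -y ∈ Im d := by
    rintro d _ ⟨t, ht, rfl⟩
    exact ⟨-t, neg_mem ht, map_neg ψ t⟩
  -- monoid closure
  have hmon : ∀ m ∈ Submonoid.closure ((𝒮 0 : Set R) ∪ (𝒮 1 : Set R)),
      ∃ d, m ∈ 𝒮 d ∧ (1 ≤ d → ∀ s ∈ 𝒮 0, s * m ∈ Im d) := by
    intro m hm
    induction hm using Submonoid.closure_induction with
    | mem x hx =>
      rcases hx with hx | hx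
      · exact ⟨0, hx, fun h => absurd h (by norm_num)⟩
      · refine ⟨1, hx, fun _ s hs => h1 _ ?_⟩
        have := SetLike.mul_mem_graded hs hx
        simpa using this
    | one => exact ⟨0, SetLike.one_mem_graded 𝒮, fun h => absurd h (by norm_num)⟩
    | mul x y _ _ hx hy =>
      obtain ⟨a, hxa, hxa'⟩ := hx
      obtain ⟨b, hyb, hyb'⟩ := hy
      refine ⟨a + b, SetLike.mul_mem_graded hxa hyb, fun hab s hs => ?_⟩
      rcases Nat.eq_zero_or_pos a with ha | ha
      · subst ha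
        have hb : 1 ≤ b := by omega
        have hsx : s * x ∈ 𝒮 0 := by simpa using SetLike.mul_mem_graded hs hxa
        have := hyb' hb (s * x) hsx
        rw [zero_add, mul_assoc] at *
        exact this
      · rcases Nat.eq_zero_or_pos b with hb | hb
        · subst hb
          have hsy : s * y ∈ 𝒮 0 := by simpa using SetLike.mul_mem_graded hs hyb
          have := hxa' ha (s * y) hsy
          rw [add_zero]
          have e : s * (x * y) = s * y * x := by ring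
          rw [e]
          exact this
        · have e : s * (x * y) = (s * x) * (1 * y) := by ring
          rw [e]
          exact Im_mul a b _ _ (hxa' ha s hs) (hyb' hb 1 (SetLike.one_mem_graded 𝒮))
  -- additive closure
  have hadd : ∀ y : R, ∀ n, 1 ≤ n → ((DirectSum.decompose 𝒮 y n : 𝒮 n) : R) ∈ Im n := by
    intro y
    have hy : y ∈ Subring.closure ((𝒮 0 : Set R) ∪ (𝒮 1 : Set R)) := by rw [hgen]; trivial
    rw [Subring.mem_closure_iff] at hy
    induction hy using AddSubgroup.closure_induction with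
    | mem m hm =>
      obtain ⟨d, hmd, hmd'⟩ := hmon m hm
      intro n hn
      by_cases hnd : d = n
      · subst hnd
        rw [DirectSum.decompose_of_mem_same _ hmd]
        have := hmd' hn 1 (SetLike.one_mem_graded 𝒮)
        rwa [one_mul] at this
      · rw [DirectSum.decompose_of_mem_ne _ hmd hnd]
        exact Im_zero n
    | zero =>
      intro n _
      rw [DirectSum.decompose_zero]
      exact Im_zero n
    | add x y _ _ hx hy =>
      intro n hn
      rw [DirectSum.decompose_add]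
      exact Im_add n _ _ (hx n hn) (hy n hn)
    | neg x _ hx =>
      intro n hn
      rw [DirectSum.decompose_neg]
      exact Im_neg n _ (hx n hn)
  intro n hn y hy
  have := hadd y n hn
  rwa [DirectSum.decompose_of_mem_same _ hy] at this


/-- Let 𝒮 be a quasi-coherent positively graded O_Y-algebra generated by 𝒮_1, M a quasi-coherent
O_Y-module and u : M → 𝒮_1 a surjective module map; let ū : Sym(M) → 𝒮 be the graded algebra
homomorphism extending u. Then the morphism Proj(𝒮) → P(M) = Proj(Sym(M)) induced by ū is a closed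
immersion. -/
theorem result {Y PT PS : Scheme.{u}} (𝒮 𝒯 : RelProj.QCGrAlg Y)
    (hgen : 𝒮.IsGenDegOne) (M : Y.Modules) (hM : Coh.IsQCoh M)
    (u : M ⟶ 𝒮.toModule)
    (hu1 : ∀ (U : Y.Opens) (hU : IsAffineOpen U) (x : Γ(M, U)), (u.app U) x ∈ 𝒮.deg U hU 1)
    (husurj : ∀ (U : Y.Opens) (hU : IsAffineOpen U) (s : 𝒮.presheaf.obj (op U)), s ∈ 𝒮.deg U hU 1 →
      ∃ x : Γ(M, U), (u.app U) x = s)
    (j : M ⟶ 𝒯.toModule) (hT : RelProj.IsGrSymAlg M 𝒯 j)
    (ubar : 𝒯.toQCAlg ⟶ 𝒮.toQCAlg) (hubar : RelProj.IsGradedHom ubar)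
    (hju : j ≫ RelSpec.QCAlg.Hom.toModuleMap ubar = u)
    (hirr : ∀ (U : Y.Opens) (hU : IsAffineOpen U),
      (𝒮.deg U hU)₊ ≤ ((𝒯.deg U hU)₊).map (RelProj.gradedHomAt ubar hubar U hU))
    (pT : PT ⟶ Y) (pS : PS ⟶ Y)
    (chartT : ∀ (U : Y.Opens) (hU : IsAffineOpen U), (((pT ⁻¹ᵁ U : PT.Opens) : Scheme.{u}) ≅ Proj (𝒯.deg U hU)))
    (chartS : ∀ (U : Y.Opens) (hU : IsAffineOpen U), (((pS ⁻¹ᵁ U : PS.Opens) : Scheme.{u}) ≅ Proj (𝒮.deg U hU)))
    (hPT : RelProj.IsRelProj 𝒯 pT chartT) (hPS : RelProj.IsRelProj 𝒮 pS chartS)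
    (h : PS ⟶ PT) (hh : RelProj.IsRelProjMap ubar hubar hirr chartT chartS h) : IsClosedImmersion h := by
  refine Groth.Agent.Lib.RelProjMap.of_forall ubar hubar hirr @IsClosedImmersion hPT hPS h hh
    fun U hU => ?_
  refine Groth.Agent.Lib.ProjMapImm.isClosedImmersion_map _ _ 1 ?_
  refine surj_of_genDegOne (𝒮.deg U hU) (𝒯.deg U hU) (RelProj.gradedHomAt ubar hubar U hU)
    (hgen U hU) fun y hy => ?_
  obtain ⟨x, hx⟩ := husurj U hU y hy
  refine ⟨(j.app U) x, hT.2 U hU x, ?_⟩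
  rw [← hx, ← hju]
  rfl

end Groth.Agent.S8292
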