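import Groth.Statements.S8295
import Groth.Agent.Lib.OpensGlue

set_option autoImplicit false
universe u
open CategoryTheory CategoryTheory.Limits AlgebraicGeometry Opposite TopologicalSpace
open scoped HomogeneousIdeal
noncomputable section
open EGA2

namespace Groth.Agent.S8295

open Groth.Agent.Lib

section helpers

variable {Y : Scheme.{u}} (𝒮 : RelSpec.QCAlg Y) (aug : 𝒮 ⟶ RelSpec.QCAlg.unit Y)

/-- The component of the augmentation over `U`, with target written as `Γ(Y, U)`. -/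
def augAt (U : Y.Opens) : 𝒮.presheaf.obj (op U) ⟶ Γ(Y, U) := aug.hom.app (op U)

theorem augAt_natural {U W : Y.Opens} (h : W ≤ U) :
    𝒮.presheaf.map (homOfLE h).op ≫ augAt 𝒮 aug W =
      augAt 𝒮 aug U ≫ Y.presheaf.map (homOfLE h).op :=
  aug.hom.naturality (homOfLE h).op

theorem str_augAt (U : Y.Opens) : 𝒮.str.app (op U) ≫ augAt 𝒮 aug U = 𝟙 _ :=
  NatTrans.congr_app aug.comm (op U)

/-- The local piece of the vertex section over an affine open. -/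
def loc (U : Y.Opens) (hU : IsAffineOpen U) : (U : Scheme.{u}) ⟶ 𝒮.spec :=
  hU.isoSpec.hom ≫ Spec.map (augAt 𝒮 aug U) ≫ 𝒮.ι U hU

abbrev az (U : Y.Opens) (hU : IsAffineOpen U) : Y.AffineZariskiSite := ⟨U, hU⟩

theorem isoSpec_inv_homOfLE {U W : Y.Opens} (hU : IsAffineOpen U) (hW : IsAffineOpen W) (h : W ≤ U) :
    hW.isoSpec.inv ≫ Y.homOfLE h = Spec.map (Y.presheaf.map (homOfLE h).op) ≫ hU.isoSpec.inv := by
  rw [← cancel_mono U.ι]
  simp only [Category.assoc, Scheme.homOfLE_ι, IsAffineOpen.isoSpec_inv_ι]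
  exact (hU.map_fromSpec hW (homOfLE h).op).symm

theorem loc_res (U : Y.Opens) (hU : IsAffineOpen U) (W : Y.Opens) (hW : IsAffineOpen W)
    (h : W ≤ U) (hb : ∃ r : Γ(Y, U), Y.basicOpen r = W) :
    Y.homOfLE h ≫ loc 𝒮 aug U hU = loc 𝒮 aug W hW := by
  have hle : az W hW ≤ az U hU := hb
  have h3 := 𝒮.ι_res (homOfLE hle)
  rw [← cancel_epi hW.isoSpec.inv]
  unfold loc
  rw [reassoc_of% (isoSpec_inv_homOfLE hU hW h)]
  simp only [Iso.inv_hom_id_assoc]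
  rw [← h3, ← Spec.map_comp_assoc, ← Spec.map_comp_assoc]
  congr 2
  exact (augAt_natural 𝒮 aug h).symm

theorem main :
    ∃! ε : Y ⟶ 𝒮.spec, ε ≫ 𝒮.π = 𝟙 Y ∧ ∀ (U : Y.Opens) (hU : IsAffineOpen U),
      hU.fromSpec ≫ ε = Spec.map (augAt 𝒮 aug U) ≫ 𝒮.ι U hU := by
  have hcov : ⨆ V : Y.affineOpens, (V.1 : Y.Opens) = ⊤ := iSup_affineOpens_eq_top Y
  have hA : ∀ V : Y.affineOpens, IsAffineOpen (V.1 : Y.Opens) := fun V => V.2
  have hglue := OpensGlue.existsUnique_glue (fun V : Y.affineOpens => (V.1 : Y.Opens)) hcov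
    (fun V => loc 𝒮 aug V.1 (hA V)) (by
      intro V₁ V₂ x hx₁ hx₂
      obtain ⟨f, g, e, hxf⟩ := exists_basicOpen_le_affine_inter (hA V₁) (hA V₂) x ⟨hx₁, hx₂⟩
      have hW : IsAffineOpen (Y.basicOpen f) := (hA V₁).basicOpen f
      refine ⟨Y.basicOpen f, Y.basicOpen_le f, e ▸ Y.basicOpen_le g, hxf, ?_⟩
      rw [loc_res 𝒮 aug V₁.1 (hA V₁) _ hW (Y.basicOpen_le f) ⟨f, rfl⟩,
        loc_res 𝒮 aug V₂.1 (hA V₂) _ hW (e ▸ Y.basicOpen_le g) ⟨g, e.symm⟩])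
  -- characterization of the gluing condition
  have key : ∀ ε : Y ⟶ 𝒮.spec,
      (∀ V : Y.affineOpens, (V.1 : Y.Opens).ι ≫ ε = loc 𝒮 aug V.1 (hA V)) ↔
        ∀ (U : Y.Opens) (hU : IsAffineOpen U),
          hU.fromSpec ≫ ε = Spec.map (augAt 𝒮 aug U) ≫ 𝒮.ι U hU := by
    intro ε
    constructor
    · intro h U hU
      have := h ⟨U, hU⟩
      rw [← hU.isoSpec_inv_ι, Category.assoc, this]
      unfold loc
      simp
    · intro h V
      unfold loc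
      rw [← h V.1 (hA V), IsAffineOpen.isoSpec_hom_fromSpec_assoc]
  have hπ : ∀ ε : Y ⟶ 𝒮.spec,
      (∀ (U : Y.Opens) (hU : IsAffineOpen U),
          hU.fromSpec ≫ ε = Spec.map (augAt 𝒮 aug U) ≫ 𝒮.ι U hU) →
        ε ≫ 𝒮.π = 𝟙 Y := by
    intro ε h
    refine OpensGlue.hom_ext_of_iSup_eq_top (fun V : Y.affineOpens => (V.1 : Y.Opens)) hcov _ _
      fun V => ?_
    rw [← cancel_epi (hA V).isoSpec.inv]
    simp only [IsAffineOpen.isoSpec_inv_ι_assoc, Category.comp_id, IsAffineOpen.isoSpec_inv_ι]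
    rw [reassoc_of% (h V.1 (hA V)), 𝒮.ι_π, ← Spec.map_comp_assoc, str_augAt,
      Spec.map_id, Category.id_comp]
  obtain ⟨ε, hε, huniq⟩ := hglue
  refine ⟨ε, ⟨hπ ε ((key ε).1 hε), (key ε).1 hε⟩, ?_⟩
  intro ε' hε'
  exact huniq ε' ((key ε').2 hε'.2)

end helpers

/-- The vertex section of the affine cone: let 𝒮 be a quasi-coherent positively graded O_Y-algebra with
𝒮_0 = O_Y, aug : 𝒮 → O_Y its augmentation (the algebra homomorphism over O_Y that vanishes on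
sections of positive degree) and C = Spec(𝒮) the affine cone. There is exactly one morphism ε : Y →
C which is a section of the structure morphism and which over every affine open U of Y is, on Spec
O_Y(U), the morphism Spec of aug(U) followed by the chart Spec 𝒮(U) → C; moreover every such ε is a
closed immersion. -/
theorem result {Y : Scheme.{u}} (𝒮 : RelProj.QCGrAlg Y)
    (h0 : RelCone.StrZeroBij 𝒮) (aug : 𝒮.toQCAlg ⟶ RelSpec.QCAlg.unit Y) (haug : RelCone.IsAugmentation 𝒮 aug) :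
    (∃! ε : Y ⟶ 𝒮.toQCAlg.spec, RelCone.IsVertex 𝒮 aug ε) ∧
      ∀ ε : Y ⟶ 𝒮.toQCAlg.spec, RelCone.IsVertex 𝒮 aug ε → IsClosedImmersion ε := by
  have hiff : ∀ ε : Y ⟶ 𝒮.toQCAlg.spec, RelCone.IsVertex 𝒮 aug ε ↔
      (ε ≫ 𝒮.toQCAlg.π = 𝟙 Y ∧ ∀ (U : Y.Opens) (hU : IsAffineOpen U),
        hU.fromSpec ≫ ε = Spec.map (augAt 𝒮.toQCAlg aug U) ≫ 𝒮.toQCAlg.ι U hU) :=
    fun ε => ⟨fun h => ⟨h.comp_π, h.chart⟩, fun h => ⟨h.1, h.2⟩⟩
  refine ⟨?_, ?_⟩
  · obtain ⟨ε, hε, huniq⟩ := main 𝒮.toQCAlg aug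
    exact ⟨ε, (hiff ε).2 hε, fun ε' hε' => huniq ε' ((hiff ε').1 hε')⟩
  · intro ε hε
    have : IsClosedImmersion (ε ≫ 𝒮.toQCAlg.π) := by
      rw [hε.comp_π]; infer_instance
    exact IsClosedImmersion.of_comp ε 𝒮.toQCAlg.π

end Groth.Agent.S8295
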