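import Groth.Statements.S8300
import Groth.Agent.S8299

set_option autoImplicit false
universe u
open CategoryTheory CategoryTheory.Limits AlgebraicGeometry Opposite TopologicalSpace
open scoped HomogeneousIdeal
noncomputable section
open EGA2

namespace Groth.Agent.S8300

open Groth.Agent.Lib.H60RelCone Groth.Agent.S8299

theorem result {Y Y' : Scheme.{u}} (q : Y' ⟶ Y) (𝒮 : RelProj.QCGrAlg Y) (𝒮' : RelProj.QCGrAlg Y')
    (h0 : RelCone.StrZeroBij 𝒮) (h0' : RelCone.StrZeroBij 𝒮')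
    (u : 𝒮.presheaf ⟶ q.base _* 𝒮'.presheaf)
    (hu : 𝒮.str ≫ u = q.c ≫ (TopCat.Presheaf.pushforward CommRingCat.{u} q.base).map 𝒮'.str)
    (φ : ∀ (U : Y.Opens) (hU : IsAffineOpen U) (U' : Y'.Opens) (hU' : IsAffineOpen U') (_ : U' ≤ q ⁻¹ᵁ U),
      𝒮.deg U hU →+*ᵍ 𝒮'.deg U' hU')
    (hφ : ∀ (U : Y.Opens) (hU : IsAffineOpen U) (U' : Y'.Opens) (hU' : IsAffineOpen U') (hle : U' ≤ q ⁻¹ᵁ U),
      (φ U hU U' hU' hle).toRingHom =
        ((u.app (op U) : 𝒮.presheaf.obj (op U) ⟶ 𝒮'.presheaf.obj (op (q ⁻¹ᵁ U))) ≫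
          𝒮'.presheaf.map (homOfLE hle).op).hom)
    (Φ : 𝒮'.toQCAlg.spec ⟶ 𝒮.toQCAlg.spec)
    (hΦ : ∀ (U : Y.Opens) (hU : IsAffineOpen U) (U' : Y'.Opens) (hU' : IsAffineOpen U') (hle : U' ≤ q ⁻¹ᵁ U),
      𝒮'.toQCAlg.ι U' hU' ≫ Φ =
        Spec.map ((u.app (op U) : 𝒮.presheaf.obj (op U) ⟶ 𝒮'.presheaf.obj (op (q ⁻¹ᵁ U))) ≫
          𝒮'.presheaf.map (homOfLE hle).op) ≫ 𝒮.toQCAlg.ι U hU) :
    (∀ (U : Y.Opens) (hU : IsAffineOpen U) (U' : Y'.Opens) (hU' : IsAffineOpen U') (hle : U' ≤ q ⁻¹ᵁ U),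
        RelCone.domOpen (φ U hU U' hU' hle) = ⊤) ↔
      Φ ⁻¹ᵁ RelCone.pointedCone 𝒮 = RelCone.pointedCone 𝒮' := by
  -- the image of a chart point
  have h1 : ∀ (U : Y.Opens) (hU : IsAffineOpen U) (U' : Y'.Opens) (hU' : IsAffineOpen U')
      (hle : U' ≤ q ⁻¹ᵁ U) (y' : Spec (𝒮'.presheaf.obj (op U'))),
      Φ.base ((𝒮'.toQCAlg.ι U' hU').base y') ∈ RelCone.pointedCone 𝒮 ↔
        ∃ f ∈ (HomogeneousIdeal.irrelevant (𝒮.deg U hU)).toIdeal,
          φ U hU U' hU' hle f ∉ y'.asIdeal := by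
    intro U hU U' hU' hle y'
    have e : Φ.base ((𝒮'.toQCAlg.ι U' hU').base y') =
        (𝒮.toQCAlg.ι U hU).base ((Spec.map ((u.app (op U) : 𝒮.presheaf.obj (op U) ⟶
          𝒮'.presheaf.obj (op (q ⁻¹ᵁ U))) ≫ 𝒮'.presheaf.map (homOfLE hle).op)).base y') := by
      rw [← Scheme.Hom.comp_apply, hΦ U hU U' hU' hle]
      rfl
    rw [e, ι_mem_pointedCone_iff, mem_vertexCompl_iff]
    have h2 : ∀ f, (φ U hU U' hU' hle) f = ((u.app (op U) : 𝒮.presheaf.obj (op U) ⟶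
        𝒮'.presheaf.obj (op (q ⁻¹ᵁ U))) ≫ 𝒮'.presheaf.map (homOfLE hle).op).hom f :=
      fun f ↦ congrArg (fun g : _ →+* _ ↦ g f) (hφ U hU U' hU' hle)
    constructor
    · rintro ⟨f, hf, hfy⟩
      exact ⟨f, hf, by rw [h2]; exact hfy⟩
    · rintro ⟨f, hf, hfy⟩
      exact ⟨f, hf, by rw [h2] at hfy; exact hfy⟩
  constructor
  · intro hdom
    apply le_antisymm (Groth.Agent.S8299.result q 𝒮 𝒮' h0 h0' u hu φ hφ Φ hΦ)
    intro c' hc'
    change Φ.base c' ∈ RelCone.pointedCone 𝒮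
    obtain ⟨U, hU, U', hU', hle, hsU', -⟩ := exists_affine_pair q (𝒮'.toQCAlg.π.base c')
    obtain ⟨y', rfl⟩ := exists_chart 𝒮'.toQCAlg c' U' hU' hsU'
    rw [ι_mem_pointedCone_iff, mem_vertexCompl_iff] at hc'
    obtain ⟨g, hg, hgy⟩ := hc'
    rw [h1 U hU U' hU' hle y']
    by_contra hcon
    push Not at hcon
    -- the homogeneous core of `y'` is a point of `Proj`
    have hprime : ((y'.asIdeal).homogeneousCore (𝒮'.deg U' hU')).toIdeal.IsPrime :=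
      y'.isPrime.homogeneousCore
    have hnot : ¬ HomogeneousIdeal.irrelevant (𝒮'.deg U' hU') ≤
        (y'.asIdeal).homogeneousCore (𝒮'.deg U' hU') := by
      intro hle'
      exact hgy (Ideal.toIdeal_homogeneousCore_le _ _ (hle' hg))
    let x : Proj (𝒮'.deg U' hU') := ⟨(y'.asIdeal).homogeneousCore (𝒮'.deg U' hU'), hprime, hnot⟩
    have hx : x ∈ RelCone.domOpen (φ U hU U' hU' hle) := by
      rw [hdom U hU U' hU' hle]; trivial
    rw [RelCone.mem_domOpen] at hx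
    obtain ⟨f, hf, hfx⟩ := hx
    apply hfx
    change (φ U hU U' hU' hle) f ∈ ((y'.asIdeal).homogeneousCore (𝒮'.deg U' hU')).toIdeal
    classical
    rw [← DirectSum.sum_support_decompose (𝒮.deg U hU) f, map_sum]
    refine Ideal.sum_mem _ fun i _ ↦ ?_
    have hfi : ((DirectSum.decompose (𝒮.deg U hU) f i : 𝒮.deg U hU i) : 𝒮.presheaf.obj (op U)) ∈
        (HomogeneousIdeal.irrelevant (𝒮.deg U hU)).toIdeal :=
      (HomogeneousIdeal.irrelevant (𝒮.deg U hU)).isHomogeneous i hf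
    exact Ideal.mem_homogeneousCore_of_homogeneous_of_mem
      ⟨i, (φ U hU U' hU' hle).map_mem (SetLike.coe_mem _)⟩ (hcon _ hfi)
  · intro heq U hU U' hU' hle
    apply top_le_iff.mp
    intro x _
    rw [RelCone.mem_domOpen]
    let y' : Spec (𝒮'.presheaf.obj (op U')) := ⟨x.asHomogeneousIdeal.toIdeal, x.isPrime⟩
    have hy' : (𝒮'.toQCAlg.ι U' hU').base y' ∈ RelCone.pointedCone 𝒮' := by
      rw [ι_mem_pointedCone_iff, mem_vertexCompl_iff]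
      obtain ⟨c, hc, hcx⟩ := SetLike.not_le_iff_exists.mp x.not_irrelevant_le
      exact ⟨c, hc, hcx⟩
    rw [← heq] at hy'
    have hy'' : Φ.base ((𝒮'.toQCAlg.ι U' hU').base y') ∈ RelCone.pointedCone 𝒮 := hy'
    rw [h1 U hU U' hU' hle y'] at hy''
    obtain ⟨f, hf, hfy⟩ := hy''
    exact ⟨f, hf, hfy⟩

end Groth.Agent.S8300
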