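import Groth.Statements.S8302
import Groth.Agent.Lib.QCohHomGlue

set_option autoImplicit false
universe u
open CategoryTheory CategoryTheory.Limits AlgebraicGeometry Opposite TopologicalSpace
noncomputable section
open EGA2

namespace Groth.Agent.S8302

open Groth.Agent.Lib.QCohHomGlue Groth.Agent.Lib.QCohStalk Groth.Agent.Lib.AssPush
  Groth.Agent.Lib.H90OXModQcqs

section helpers

variable {X S : Scheme.{u}} (f : X ⟶ S) [IsAffineHom f] (F G : X.Modules)

/-- The component over `V` of a morphism `f_*F ⟶ f_*G` of `f_*O_X`-modules, as a linear map. -/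
def comp (w : (AMod.dirImg f).obj F ⟶ (AMod.dirImg f).obj G) (V : S.Opens) :
    Γ(F, f ⁻¹ᵁ V) →ₗ[Γ(X, f ⁻¹ᵁ V)] Γ(G, f ⁻¹ᵁ V) :=
  (w.val.app (op V)).hom

theorem comp_nat (w : (AMod.dirImg f).obj F ⟶ (AMod.dirImg f).obj G) {V V' : S.Opens} (h : V' ≤ V)
    (x : Γ(F, f ⁻¹ᵁ V)) :
    res G (f.preimage_mono h) (comp f F G w V x) = comp f F G w V' (res F (f.preimage_mono h) x) :=
  (PresheafOfModules.naturality_apply w.val (homOfLE h).op x).symm

theorem comp_map (u : F ⟶ G) (V : S.Opens) (x : Γ(F, f ⁻¹ᵁ V)) :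
    comp f F G ((AMod.dirImg f).map u) V x = u.app (f ⁻¹ᵁ V) x := rfl

end helpers


/-- The case of a single scheme X affine over S and the identity morphism of X: let f : X → S be an
affine morphism and F, G quasi-coherent O_X-modules. Then the direct image u ↦ f_*(u) is a bijection
from the set of O_X-module homomorphisms F → G onto the set of homomorphisms f_*F → f_*G of modules
over the direct-image algebra f_*O_X. -/
theorem result {X S : Scheme.{u}} (f : X ⟶ S) [IsAffineHom f]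
    (F G : X.Modules) (hF : Coh.IsQCoh F) (hG : Coh.IsQCoh G) :
    Function.Bijective
      ((AMod.dirImg f).map : (F ⟶ G) → ((AMod.dirImg f).obj F ⟶ (AMod.dirImg f).obj G)) := by
  haveI : F.IsQuasicoherent := hF
  haveI : G.IsQuasicoherent := hG
  have hA : ∀ V : S.affineOpens, IsAffineOpen (f ⁻¹ᵁ V.1) := fun V => V.2.preimage f
  have hcov : ⨆ V : S.affineOpens, f ⁻¹ᵁ V.1 = ⊤ := by
    have h1 : ⨆ V : S.affineOpens, f ⁻¹ᵁ V.1 = f ⁻¹ᵁ (⨆ V : S.affineOpens, V.1) := by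
      rw [Scheme.Hom.preimage_iSup]
    rw [h1, iSup_affineOpens_eq_top]
    rfl
  constructor
  · intro u u' huu'
    refine hom_ext_of_affine_family F G (fun V : S.affineOpens => f ⁻¹ᵁ V.1) hA hcov u u' ?_
    intro V x
    rw [← comp_map f F G u V.1 x, ← comp_map f F G u' V.1 x, huu']
  · intro w
    have hFl : ∀ V : S.affineOpens, IsLocalizingOn F (f ⁻¹ᵁ V.1) :=
      fun V => isLocalizingOn_of_isQuasicoherent F (hA V)
    have hGl : ∀ V : S.affineOpens, IsLocalizingOn G (f ⁻¹ᵁ V.1) :=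
      fun V => isLocalizingOn_of_isQuasicoherent G (hA V)
    have hint : ∀ (V V' : S.affineOpens) (y : X), y ∈ f ⁻¹ᵁ V.1 → y ∈ f ⁻¹ᵁ V'.1 →
        ∃ W : S.affineOpens, y ∈ f ⁻¹ᵁ W.1 ∧ f ⁻¹ᵁ W.1 ≤ f ⁻¹ᵁ V.1 ∧ f ⁻¹ᵁ W.1 ≤ f ⁻¹ᵁ V'.1 := by
      intro V V' y hy hy'
      obtain ⟨_, ⟨W, hW, rfl⟩, hyW, hWV⟩ :=
        S.isBasis_affineOpens.exists_subset_of_mem_open
          (show f.base y ∈ V.1 ⊓ V'.1 from ⟨hy, hy'⟩) (V.1 ⊓ V'.1).2
      exact ⟨⟨W, hW⟩, hyW, f.preimage_mono (le_trans hWV inf_le_left),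
        f.preimage_mono (le_trans hWV inf_le_right)⟩
    have hnat : ∀ (V V' : S.affineOpens) (h : f ⁻¹ᵁ V'.1 ≤ f ⁻¹ᵁ V.1) (x : Γ(F, f ⁻¹ᵁ V.1)),
        res G h (comp f F G w V.1 x) = comp f F G w V'.1 (res F h x) := by
      intro V V' h x
      have e : f ⁻¹ᵁ (V.1 ⊓ V'.1) = f ⁻¹ᵁ V'.1 := by
        apply le_antisymm (f.preimage_mono inf_le_right)
        intro y hy
        exact ⟨h hy, hy⟩
      apply res_injective_of_eq G e
      have c1 := comp_nat f F G w (inf_le_left : V.1 ⊓ V'.1 ≤ V.1) x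
      have c2 := comp_nat f F G w (inf_le_right : V.1 ⊓ V'.1 ≤ V'.1) (res F h x)
      rw [res_res, c1]
      refine Eq.trans ?_ c2.symm
      rw [res_res]
    obtain ⟨u, hu⟩ := exists_hom_of_family (U := fun V : S.affineOpens => f ⁻¹ᵁ V.1) hFl hGl hint
      (fun V => comp f F G w V.1) hnat hA hcov
    refine ⟨u, ?_⟩
    apply SheafOfModules.hom_ext
    apply PresheafOfModules.hom_ext
    rintro ⟨V⟩
    ext x
    change comp f F G ((AMod.dirImg f).map u) V x = comp f F G w V x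
    rw [comp_map]
    refine res_ext G (f ⁻¹ᵁ V) (fun W : {W : S.affineOpens // W.1 ≤ V} => f ⁻¹ᵁ W.1.1)
      (fun W => f.preimage_mono W.2) ?_ _ _ ?_
    · intro y hy
      obtain ⟨_, ⟨W, hW, rfl⟩, hyW, hWV⟩ :=
        S.isBasis_affineOpens.exists_subset_of_mem_open (show f.base y ∈ V from hy) V.2
      exact Opens.mem_iSup.mpr ⟨⟨⟨W, hW⟩, hWV⟩, hyW⟩
    · rintro ⟨W, hWV⟩
      have n1 := NatTrans.naturality_apply u.mapPresheaf (homOfLE (f.preimage_mono hWV)).op x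
      have e1 : res G (f.preimage_mono hWV) (u.app (f ⁻¹ᵁ V) x) =
          u.app (f ⁻¹ᵁ W.1) (res F (f.preimage_mono hWV) x) := n1.symm
      rw [e1, hu W, comp_nat f F G w hWV x]

end Groth.Agent.S8302
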