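import Groth.Statements.S8304
import Groth.Agent.Lib.SymQCAlgUniv
import Groth.Agent.Lib.QCAlgAffine
import Groth.Agent.Lib.QCohBiprod
import Groth.Agent.Lib.StructureModule
import Groth.Agent.Lib.QCohHomGlue

set_option autoImplicit false
universe u
open CategoryTheory CategoryTheory.Limits AlgebraicGeometry Opposite TopologicalSpace
open scoped HomogeneousIdeal
noncomputable section
open EGA2

namespace Groth.Agent.S8304

open AlgebraicGeometry.Scheme AlgebraicGeometry.Scheme.Modules Groth.Agent.Lib.SymQCAlg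
open Groth.Agent.Lib.QCAlgAffine

section Biprod

variable {S : Scheme.{u}} (E F : S.Modules) (U : S.Opens)

lemma total (q : Γ(E ⊞ F, U)) :
    (biprod.inl : E ⟶ E ⊞ F).app U ((biprod.fst : E ⊞ F ⟶ E).app U q) +
      (biprod.inr : F ⟶ E ⊞ F).app U ((biprod.snd : E ⊞ F ⟶ F).app U q) = q := by
  have h : ((biprod.fst ≫ biprod.inl + biprod.snd ≫ biprod.inr : E ⊞ F ⟶ E ⊞ F)).app U q = q := by
    rw [biprod.total]; rfl
  exact h

end Biprod

section Main

variable {Y : Scheme.{u}} (𝒮 𝒮h : RelProj.QCGrAlg Y)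
  (ι : 𝒮.toQCAlg ⟶ 𝒮h.toQCAlg) (z : 𝒮h.presheaf.obj (op ⊤)) (hz : RelCone.IsPolyOver 𝒮 𝒮h ι z)
  (B : RelSpec.QCAlg Y) (ψ : 𝒮.toQCAlg ⟶ B) (b : ∀ U : Y.Opens, B.presheaf.obj (op U))
  (hb : ∀ (U V : Y.Opens) (h : V ≤ U), (B.presheaf.map (homOfLE h).op).hom (b U) = b V)

/-- The local extension `𝒮h(U) = 𝒮(U)[z] → B(U)`, `z ↦ b`. -/
def PsiAff (U : Y.Opens) (hU : IsAffineOpen U) : 𝒮h.presheaf.obj (op U) →+* B.presheaf.obj (op U) :=
  (Polynomial.eval₂RingHom (ψ.hom.app (op U)).hom (b U)).comp (hz.polyEquiv U hU).symm.toRingHom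

lemma PsiAff_ι (U : Y.Opens) (hU : IsAffineOpen U) (a : 𝒮.presheaf.obj (op U)) :
    PsiAff 𝒮 𝒮h ι z hz B ψ b U hU ((ι.hom.app (op U)).hom a) = (ψ.hom.app (op U)).hom a := by
  have e : hz.polyEquiv U hU (Polynomial.C a) = (ι.hom.app (op U)).hom a := by
    rw [hz.polyEquiv_apply, Polynomial.eval₂_C]
  rw [← e]
  simp [PsiAff]

lemma PsiAff_z (U : Y.Opens) (hU : IsAffineOpen U) :
    PsiAff 𝒮 𝒮h ι z hz B ψ b U hU (RelCone.restrictTop 𝒮h z U) = b U := by
  have e : hz.polyEquiv U hU Polynomial.X = RelCone.restrictTop 𝒮h z U := by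
    rw [hz.polyEquiv_apply, Polynomial.eval₂_X]
  rw [← e]
  simp [PsiAff]

include hz in
/-- Ring homomorphisms out of `𝒮h(U)` are determined on `ι(𝒮(U))` and `z`. -/
lemma ringHom_ext_poly (U : Y.Opens) (hU : IsAffineOpen U) {T : Type*} [Semiring T]
    {f g : 𝒮h.presheaf.obj (op U) →+* T}
    (h1 : ∀ a, f ((ι.hom.app (op U)).hom a) = g ((ι.hom.app (op U)).hom a))
    (h2 : f (RelCone.restrictTop 𝒮h z U) = g (RelCone.restrictTop 𝒮h z U)) : f = g := by
  have key : f.comp (hz.polyEquiv U hU).toRingHom = g.comp (hz.polyEquiv U hU).toRingHom := by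
    apply Polynomial.ringHom_ext
    · intro a
      change f (hz.polyEquiv U hU (Polynomial.C a)) = g (hz.polyEquiv U hU (Polynomial.C a))
      rw [hz.polyEquiv_apply, Polynomial.eval₂_C]
      exact h1 a
    · change f (hz.polyEquiv U hU Polynomial.X) = g (hz.polyEquiv U hU Polynomial.X)
      rw [hz.polyEquiv_apply, Polynomial.eval₂_X]
      exact h2
  refine RingHom.ext fun x => ?_
  obtain ⟨p, rfl⟩ := (hz.polyEquiv U hU).surjective x
  exact congr($key p)

lemma restrictTop_res (U V : Y.Opens) (h : V ≤ U) :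
    (𝒮h.presheaf.map (homOfLE h).op).hom (RelCone.restrictTop 𝒮h z U) = RelCone.restrictTop 𝒮h z V := by
  unfold RelCone.restrictTop
  rw [← CommRingCat.comp_apply, ← Functor.map_comp]
  rfl

include hb in
/-- The global extension. -/
def Psi : 𝒮h.toQCAlg ⟶ B :=
  qcHomOfAffine (A := 𝒮h.toQCAlg) (B := B)
    (fun U hU => CommRingCat.ofHom (PsiAff 𝒮 𝒮h ι z hz B ψ b U hU))
    (fun U V hU hV h => by
      apply CommRingCat.hom_ext
      refine ringHom_ext_poly 𝒮 𝒮h ι z hz U hU (fun a => ?_) ?_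
      · change (B.presheaf.map (homOfLE h).op).hom (PsiAff 𝒮 𝒮h ι z hz B ψ b U hU ((ι.hom.app (op U)).hom a)) =
          PsiAff 𝒮 𝒮h ι z hz B ψ b V hV ((𝒮h.presheaf.map (homOfLE h).op).hom ((ι.hom.app (op U)).hom a))
        have hn : (𝒮h.presheaf.map (homOfLE h).op).hom ((ι.hom.app (op U)).hom a) =
            (ι.hom.app (op V)).hom ((𝒮.presheaf.map (homOfLE h).op).hom a) :=
          congr($((ι.hom.naturality (homOfLE h).op).symm) a)
        have hn' : (B.presheaf.map (homOfLE h).op).hom ((ψ.hom.app (op U)).hom a) =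
            (ψ.hom.app (op V)).hom ((𝒮.presheaf.map (homOfLE h).op).hom a) :=
          congr($((ψ.hom.naturality (homOfLE h).op).symm) a)
        rw [PsiAff_ι, hn, PsiAff_ι, hn']
      · change (B.presheaf.map (homOfLE h).op).hom (PsiAff 𝒮 𝒮h ι z hz B ψ b U hU (RelCone.restrictTop 𝒮h z U)) =
          PsiAff 𝒮 𝒮h ι z hz B ψ b V hV ((𝒮h.presheaf.map (homOfLE h).op).hom (RelCone.restrictTop 𝒮h z U))
        rw [PsiAff_z, restrictTop_res, PsiAff_z, hb])
    (fun U hU => by
      ext r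
      change PsiAff 𝒮 𝒮h ι z hz B ψ b U hU ((𝒮h.str.app (op U)).hom r) = (B.str.app (op U)).hom r
      have h1 : (𝒮h.str.app (op U)).hom r = (ι.hom.app (op U)).hom ((𝒮.str.app (op U)).hom r) :=
        (congr($(NatTrans.congr_app ι.comm (op U)) r)).symm
      have h2 : (ψ.hom.app (op U)).hom ((𝒮.str.app (op U)).hom r) = (B.str.app (op U)).hom r :=
        congr($(NatTrans.congr_app ψ.comm (op U)) r)
      rw [h1, PsiAff_ι, h2])

lemma Psi_app (U : Y.Opens) (hU : IsAffineOpen U) :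
    ((Psi 𝒮 𝒮h ι z hz B ψ b hb).hom.app (op U)).hom = PsiAff 𝒮 𝒮h ι z hz B ψ b U hU := by
  unfold Psi
  rw [qcHomOfAffine_app]
  rfl

lemma str_comm {A B : RelSpec.QCAlg Y} (ψ : A ⟶ B) (U : Y.Opens) (r : Γ(Y, U)) :
    (ψ.hom.app (op U)).hom ((A.str.app (op U)).hom r) = (B.str.app (op U)).hom r :=
  congr($(NatTrans.congr_app ψ.comm (op U)) r)

/-- the unit section of the structure module -/
abbrev one (U : Y.Opens) : Γ(Coh.structureModule Y, U) := Groth.Agent.Lib.StructureModule.toSec U 1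

lemma appAdd_O (B : RelSpec.QCAlg Y) (φ : Coh.structureModule Y ⟶ B.toModule) (U : Y.Opens)
    (x : Γ(Coh.structureModule Y, U)) :
    appAdd _ B φ U x = (B.str.app (op U)).hom (show Γ(Y, U) from x) * appAdd _ B φ U (one U) := by
  have hx : x = (show Γ(Y, U) from x) • one U :=
    Groth.Agent.Lib.StructureModule.toSec_eq_smul_one U (show Γ(Y, U) from x)
  conv_lhs => rw [hx]
  rw [appAdd_smul]

lemma appAdd_one_res (B : RelSpec.QCAlg Y) (φ : Coh.structureModule Y ⟶ B.toModule) (U V : Y.Opens)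
    (h : V ≤ U) :
    (B.presheaf.map (homOfLE h).op).hom (appAdd _ B φ U (one U)) = appAdd _ B φ V (one V) := by
  have h1 := app_res (Coh.structureModule Y) B φ U V h (one U)
  have h2 : Groth.Agent.Lib.QCohStalk.res (Coh.structureModule Y) h (one U) = one V := by
    change (Y.presheaf.map (homOfLE h).op).hom 1 = 1
    rw [map_one]
  rw [h2] at h1
  exact h1

end Main

/-- At the level of graded algebras: let E be a quasi-coherent O_Y-module and 𝒮 = Sym(E) its graded
symmetric algebra (j : E → 𝒮 landing in degree one), and let Ŝ = 𝒮[z] be given through a graded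
homomorphism ι : 𝒮 → Ŝ and a global section z of degree one with 𝒮(U)[X] → Ŝ(U), X ↦ z, bijective
over every affine open U. If k : O_Y → Ŝ is a module homomorphism sending the unit section to z over
every open, then Ŝ together with the map E ⊕ O_Y → Ŝ whose components are j followed by ι, and k, is
the graded symmetric algebra of E ⊕ O_Y. Consequently the projective cone of V(E) = Spec(Sym E),
which is Proj(Ŝ), is the projective bundle P(E ⊕ O_Y), and its locus at infinity Proj(𝒮) is P(E). -/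
theorem result {Y : Scheme.{u}} (E : Y.Modules) (hE : Coh.IsQCoh E)
    (𝒮 𝒮h : RelProj.QCGrAlg Y) (j : E ⟶ 𝒮.toModule) (hS : RelProj.IsGrSymAlg E 𝒮 j)
    (ι : 𝒮.toQCAlg ⟶ 𝒮h.toQCAlg) (z : 𝒮h.presheaf.obj (op ⊤)) (hz : RelCone.IsPolyOver 𝒮 𝒮h ι z)
    (k : Coh.structureModule Y ⟶ 𝒮h.toModule)
    (hk : ∀ U : Y.Opens, (k.app U) (1 : Γ(Y, U)) = RelCone.restrictTop 𝒮h z U) :
    RelProj.IsGrSymAlg (E ⊞ Coh.structureModule Y) 𝒮h
      (biprod.desc (j ≫ RelSpec.QCAlg.Hom.toModuleMap ι) k) := by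
  haveI : E.IsQuasicoherent := hE
  haveI : (Coh.structureModule Y).IsQuasicoherent :=
    Groth.Agent.Lib.StructureModule.isQuasicoherent_structureModule Y
  haveI : (E ⊞ Coh.structureModule Y).IsQuasicoherent :=
    Groth.Agent.Lib.QCohBiprod.isQuasicoherent_biprod _ _
  have hkz : ∀ U : Y.Opens, appAdd _ 𝒮h.toQCAlg k U (one U) = RelCone.restrictTop 𝒮h z U := fun U => hk U
  refine ⟨?_, ?_⟩
  · -- universal property
    intro B φ
    obtain ⟨ψ, hψ, hψu⟩ := hS.1 B (biprod.inl ≫ φ)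
    let b : ∀ U : Y.Opens, B.presheaf.obj (op U) := fun U => appAdd _ B (biprod.inr ≫ φ) U (one U)
    have hb : ∀ (U V : Y.Opens) (h : V ≤ U), (B.presheaf.map (homOfLE h).op).hom (b U) = b V :=
      fun U V h => appAdd_one_res B (biprod.inr ≫ φ) U V h
    refine ⟨Psi 𝒮 𝒮h ι z hz B ψ b hb, ?_, ?_⟩
    · apply biprod.hom_ext'
      · rw [← Category.assoc, biprod.inl_desc, Category.assoc]
        have hιΨ : ι ≫ Psi 𝒮 𝒮h ι z hz B ψ b hb = ψ := by
          refine qcHom_ext_affine _ _ fun U hU => ?_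
          apply CommRingCat.hom_ext
          refine RingHom.ext fun a => ?_
          change ((Psi 𝒮 𝒮h ι z hz B ψ b hb).hom.app (op U)).hom ((ι.hom.app (op U)).hom a) = _
          rw [Psi_app _ _ _ _ _ _ _ _ _ U hU, PsiAff_ι]
        rw [← toModuleMap_comp, hιΨ, hψ]
      · rw [← Category.assoc, biprod.inr_desc]
        refine Groth.Agent.Lib.QCohHomGlue.hom_ext_of_affine_family _ _
          (fun k : Y.affineOpens => k.1) (fun k => k.2) (iSup_affineOpens_eq_top Y) _ _ ?_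
        intro U x
        change appAdd _ B (k ≫ RelSpec.QCAlg.Hom.toModuleMap (Psi 𝒮 𝒮h ι z hz B ψ b hb)) U.1 x =
          appAdd _ B (biprod.inr ≫ φ) U.1 x
        rw [appAdd_comp_toModuleMap, appAdd_O 𝒮h.toQCAlg k, appAdd_O B (biprod.inr ≫ φ), map_mul, str_comm,
          hkz, Psi_app _ _ _ _ _ _ _ _ _ U.1 U.2, PsiAff_z]
    · intro Ψ' hΨ'
      have h1 : ι ≫ Ψ' = ψ := by
        apply hψu
        change j ≫ RelSpec.QCAlg.Hom.toModuleMap (ι ≫ Ψ') = biprod.inl ≫ φ
        rw [toModuleMap_comp, ← hΨ', ← Category.assoc, ← Category.assoc, biprod.inl_desc]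
      have h2 : k ≫ RelSpec.QCAlg.Hom.toModuleMap Ψ' = biprod.inr ≫ φ := by
        rw [← hΨ', ← Category.assoc, biprod.inr_desc]
      refine qcHom_ext_affine _ _ fun U hU => ?_
      apply CommRingCat.hom_ext
      rw [Psi_app _ _ _ _ _ _ _ _ _ U hU]
      refine ringHom_ext_poly 𝒮 𝒮h ι z hz U hU (fun a => ?_) ?_
      · rw [PsiAff_ι, ← h1]
        rfl
      · rw [PsiAff_z, ← hkz U, ← appAdd_comp_toModuleMap, h2]
  · -- degree one
    intro U hU x
    change appAdd _ 𝒮h.toQCAlg (biprod.desc (j ≫ RelSpec.QCAlg.Hom.toModuleMap ι) k) U x ∈ 𝒮h.deg U hU 1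
    rw [← total E (Coh.structureModule Y) U x, map_add]
    refine add_mem ?_ ?_
    · have e1 : appAdd _ 𝒮h.toQCAlg (biprod.desc (j ≫ RelSpec.QCAlg.Hom.toModuleMap ι) k) U
          ((biprod.inl : E ⟶ E ⊞ Coh.structureModule Y).app U
            ((biprod.fst : E ⊞ Coh.structureModule Y ⟶ E).app U x)) =
          appAdd _ 𝒮h.toQCAlg (biprod.inl ≫ biprod.desc (j ≫ RelSpec.QCAlg.Hom.toModuleMap ι) k) U
            ((biprod.fst : E ⊞ Coh.structureModule Y ⟶ E).app U x) := rfl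
      rw [e1, biprod.inl_desc, appAdd_comp_toModuleMap]
      exact hz.graded U hU 1 _ (hS.2 U hU _)
    · have e2 : appAdd _ 𝒮h.toQCAlg (biprod.desc (j ≫ RelSpec.QCAlg.Hom.toModuleMap ι) k) U
          ((biprod.inr : Coh.structureModule Y ⟶ E ⊞ Coh.structureModule Y).app U
            ((biprod.snd : E ⊞ Coh.structureModule Y ⟶ Coh.structureModule Y).app U x)) =
          appAdd _ 𝒮h.toQCAlg (biprod.inr ≫ biprod.desc (j ≫ RelSpec.QCAlg.Hom.toModuleMap ι) k) U
            ((biprod.snd : E ⊞ Coh.structureModule Y ⟶ Coh.structureModule Y).app U x) := rfl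
      rw [e2, biprod.inr_desc, appAdd_O 𝒮h.toQCAlg k, hkz]
      have h3 := SetLike.mul_mem_graded (𝒮h.str_mem U hU
        (show Γ(Y, U) from (biprod.snd : E ⊞ Coh.structureModule Y ⟶ Coh.structureModule Y).app U x))
        (hz.deg_z U hU)
      simpa using h3

end Groth.Agent.S8304
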