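import Groth.Statements.S8305
import Groth.Agent.Lib.H90OXModPush
import Groth.Agent.Lib.H90OXModAffineIso
import Mathlib.AlgebraicGeometry.Morphisms.IsIso

set_option autoImplicit false
universe u
open CategoryTheory CategoryTheory.Limits AlgebraicGeometry Opposite TopologicalSpace
noncomputable section
open EGA2

namespace Groth.Agent.S8305

open Groth.Agent.Lib.H90OXModPush Groth.Agent.Lib.H90OXModAffineIso

/-- The components of `A(h)`. -/
theorem algHom_app {X Y S : Scheme.{u}} (gX : X ⟶ S) (h : Y ⟶ X) (V : S.Opens) :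
    (AffAlg.algHom gX (h ≫ gX) h rfl).app (op V) = h.app (gX ⁻¹ᵁ V) := by
  simp only [AffAlg.algHom]
  rfl

theorem isIso_algHom_iff {X Y S : Scheme.{u}} (gX : X ⟶ S) (h : Y ⟶ X) :
    IsIso (AffAlg.algHom gX (h ≫ gX) h rfl) ↔ ∀ V : S.Opens, IsIso (h.app (gX ⁻¹ᵁ V)) := by
  rw [NatTrans.isIso_iff_isIso_app]
  constructor
  · intro H V
    have := H (op V)
    rwa [algHom_app] at this
  · intro H V
    obtain ⟨V⟩ := V
    rw [algHom_app]
    exact H V

set_option backward.isDefEq.respectTransparency false in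
/-- A morphism `h : Y ⟶ X` with `X` and `Y` affine over `S` inducing isomorphisms on functions over the preimages
of affine opens of `S` is an isomorphism. -/
theorem isIso_of_isIso_app {X Y S : Scheme.{u}} (gX : X ⟶ S) [IsAffineHom gX] (h : Y ⟶ X)
    [IsAffineHom (h ≫ gX)]
    (H : ∀ V : S.affineOpens, IsIso (h.app (gX ⁻¹ᵁ V.1))) : IsIso h := by
  have hA : ∀ V : S.affineOpens, IsAffineOpen (gX ⁻¹ᵁ V.1) := fun V => V.2.preimage gX
  have hcov : ⨆ V : S.affineOpens, ((⟨gX ⁻¹ᵁ V.1, hA V⟩ : X.affineOpens) : X.Opens) = ⊤ := by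
    have h1 : ⨆ V : S.affineOpens, gX ⁻¹ᵁ V.1 = gX ⁻¹ᵁ (⨆ V : S.affineOpens, V.1) := by
      rw [Scheme.Hom.preimage_iSup]
    change ⨆ V : S.affineOpens, gX ⁻¹ᵁ V.1 = ⊤
    rw [h1, iSup_affineOpens_eq_top]
    rfl
  have key := (HasAffineProperty.iff_of_iSup_eq_top (P := MorphismProperty.isomorphisms Scheme)
    (f := h) (fun V : S.affineOpens => (⟨gX ⁻¹ᵁ V.1, hA V⟩ : X.affineOpens)) hcov).mpr
  apply key
  intro V
  refine ⟨?_, ?_⟩
  · have : IsAffineOpen (h ⁻¹ᵁ (gX ⁻¹ᵁ V.1)) := by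
      have := V.2.preimage (h ≫ gX)
      exact this
    exact this
  · change IsIso ((h ∣_ (gX ⁻¹ᵁ V.1)).app ⊤)
    rw [morphismRestrict_app]
    have e : (gX ⁻¹ᵁ V.1).ι ''ᵁ ⊤ = gX ⁻¹ᵁ V.1 := by simp
    have : IsIso (h.app ((gX ⁻¹ᵁ V.1).ι ''ᵁ ⊤)) := by
      rw [e]; exact H V
    infer_instance


/-- Let X and Y be schemes affine over S with structure morphisms gX and gY, h : Y → X a morphism over
S, F a quasi-coherent O_X-module, G a quasi-coherent O_Y-module and v : F → h_*G a homomorphism of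
O_X-modules, so that (h, v) is a morphism of pairs (Y, G) → (X, F). Then h and v are isomorphisms if
and only if the direct-image algebra homomorphism A(h) : gX_*O_X → gY_*O_Y and the direct image A(v)
= gX_*(v) : gX_*F → gX_*h_*G are isomorphisms (the pair (A(h), A(v)) is a di-isomorphism). -/
theorem result {X Y S : Scheme.{u}} (gX : X ⟶ S) [IsAffineHom gX]
    (gY : Y ⟶ S) [IsAffineHom gY] (h : Y ⟶ X) (hh : h ≫ gX = gY)
    (F : X.Modules) (G : Y.Modules) (hF : Coh.IsQCoh F) (hG : Coh.IsQCoh G)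
    (v : F ⟶ (Scheme.Modules.pushforward h).obj G) :
    (IsIso h ∧ IsIso v) ↔
      (IsIso (AffAlg.algHom gX gY h hh) ∧ IsIso ((Scheme.Modules.pushforward gX).map v)) := by
  subst hh
  haveI : F.IsQuasicoherent := hF
  haveI : G.IsQuasicoherent := hG
  rw [isIso_algHom_iff]
  constructor
  · rintro ⟨h1, h2⟩
    exact ⟨fun V => inferInstance, inferInstance⟩
  · rintro ⟨h1, h2⟩
    have hh : IsIso h := isIso_of_isIso_app gX h (fun V => h1 V.1)
    refine ⟨hh, ?_⟩
    haveI : ((Scheme.Modules.pushforward h).obj G).IsQuasicoherent := isQuasicoherent_pushforward h G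
    have hA : ∀ V : S.affineOpens, IsAffineOpen (gX ⁻¹ᵁ V.1) := fun V => V.2.preimage gX
    have hcov : ⨆ V : S.affineOpens, gX ⁻¹ᵁ V.1 = ⊤ := by
      have h1 : ⨆ V : S.affineOpens, gX ⁻¹ᵁ V.1 = gX ⁻¹ᵁ (⨆ V : S.affineOpens, V.1) := by
        rw [Scheme.Hom.preimage_iSup]
      rw [h1, iSup_affineOpens_eq_top]
      rfl
    refine isIso_of_bijective_app_affine_cover v (fun V : S.affineOpens => gX ⁻¹ᵁ V.1) hcov hA ?_
    intro V
    have : IsIso (((Scheme.Modules.pushforward gX).map v).app V.1) := inferInstance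
    exact (ConcreteCategory.isIso_iff_bijective _).mp this

end Groth.Agent.S8305
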