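import Groth.Statements.S8306
import Groth.Agent.Lib.H90OXModExact

set_option autoImplicit false
universe u
open CategoryTheory CategoryTheory.Limits AlgebraicGeometry Opposite TopologicalSpace
noncomputable section
open EGA2

namespace Groth.Agent.S8306

section helpers

variable {S : Scheme.{u}} (B : RelSpec.QCAlg S)

/-- A morphism of `B`-modules which is locally surjective on sections is an epimorphism. -/
theorem epi_of_locally_surjective {M N : AMod B} (φ : M ⟶ N)
    (h : ∀ (U : S.Opens) (s : N.val.obj (op U)) (x : S), x ∈ U →
      ∃ (V : S.Opens) (hVU : V ≤ U), x ∈ V ∧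
        ∃ t : M.val.obj (op V), φ.val.app (op V) t = N.val.map (homOfLE hVU).op s) : Epi φ := by
  let ψ := (SheafOfModules.toSheaf (AMod.ringSheaf B)).map φ
  have hls : Sheaf.IsLocallySurjective ψ := by
    refine ⟨fun {U} s => ?_⟩
    intro x hx
    obtain ⟨V, hVU, hxV, t, ht⟩ := h U s x hx
    exact ⟨V, homOfLE hVU, ⟨t, ht⟩, hxV⟩
  have hepi : Epi ψ := Sheaf.epi_of_isLocallySurjective ψ
  have hfaith : (SheafOfModules.toSheaf.{u} (AMod.ringSheaf B)).Faithful := inferInstance
  have hre : (SheafOfModules.toSheaf.{u} (AMod.ringSheaf B)).ReflectsEpimorphisms :=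
    Functor.reflectsEpimorphisms_of_faithful _
  exact hre.reflects φ hepi

end helpers

/-- Exactness: in the form it takes for the direct image: let f : X → S be an affine morphism and v : F
→ G an epimorphism between quasi-coherent O_X-modules. Then the direct image f_*(v) : f_*F → f_*G, a
homomorphism of modules over the direct-image algebra f_*O_X, is again an epimorphism. (The
published statement says that the module on X attached to a quasi-coherent f_*O_X-module is an exact
functor of that module; since this functor is inverse to the direct image on quasi-coherent modules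
and the direct image is left exact, its exactness amounts to the direct image preserving
epimorphisms between quasi-coherent modules.) -/
theorem result {X S : Scheme.{u}} (f : X ⟶ S) [IsAffineHom f]
    (F G : X.Modules) (hF : Coh.IsQCoh F) (hG : Coh.IsQCoh G) (v : F ⟶ G) [Epi v] :
    Epi ((AMod.dirImg f).map v) := by
  have : F.IsQuasicoherent := hF
  have : G.IsQuasicoherent := hG
  apply epi_of_locally_surjective
  intro U s x hx
  obtain ⟨_, ⟨V, hV, rfl⟩, hxV, hVU⟩ :=
    S.isBasis_affineOpens.exists_subset_of_mem_open hx U.2
  have hsurj := Groth.Agent.Lib.H90OXModExact.surjective_app_of_epi v (hV.preimage f)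
  obtain ⟨t, ht⟩ := hsurj (G.val.map (homOfLE (f.preimage_mono hVU)).op s)
  exact ⟨V, hVU, hxV, t, ht⟩

end Groth.Agent.S8306
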