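import Groth.Statements.S8311
import Groth.Agent.Lib.ProjMapImm
import Mathlib.RingTheory.GradedAlgebra.RingHom

set_option autoImplicit false
universe u
open CategoryTheory AlgebraicGeometry
open scoped HomogeneousIdeal
open EGA2

namespace Groth.Agent.S8311

section aux
open Graded

variable {R A B C : Type u} [CommRing R] [CommRing A] [Algebra R A]
  (𝒜 : ℕ → Submodule R A) [GradedAlgebra 𝒜] [CommRing B] [Algebra R B] (ℬ : ℕ → Submodule R B)
  [GradedAlgebra ℬ]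
  (φ : B →ₐ[R] Polynomial A)
  (hdeg : ∀ n : ℕ, Submodule.map φ.toLinearMap (ℬ n) =
    Submodule.map ((Polynomial.monomial n : A →ₗ[A] Polynomial A).restrictScalars R)
      (⨆ (m : ℕ) (_ : n ≤ m), 𝒜 m))

omit [GradedAlgebra 𝒜] [GradedAlgebra ℬ] in
include hdeg in
lemma L1 (n : ℕ) (a : A) (ha : a ∈ ⨆ (m : ℕ) (_ : n ≤ m), 𝒜 m) :
    ∃ b ∈ ℬ n, φ b = Polynomial.monomial n a := by
  have h : Polynomial.monomial n a ∈ Submodule.map φ.toLinearMap (ℬ n) := by
    rw [hdeg n]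
    exact ⟨a, ha, rfl⟩
  obtain ⟨b, hb, hba⟩ := h
  exact ⟨b, hb, hba⟩

omit [GradedAlgebra 𝒜] [GradedAlgebra ℬ] in
include hdeg in
lemma L2 (n : ℕ) (b : B) (hb : b ∈ ℬ n) :
    ∃ a ∈ ⨆ (m : ℕ) (_ : n ≤ m), 𝒜 m, φ b = Polynomial.monomial n a := by
  have h : φ b ∈ Submodule.map ((Polynomial.monomial n : A →ₗ[A] Polynomial A).restrictScalars R)
      (⨆ (m : ℕ) (_ : n ≤ m), 𝒜 m) := by
    rw [← hdeg n]
    exact ⟨b, hb, rfl⟩
  obtain ⟨a, ha, hab⟩ := h
  exact ⟨a, ha, hab.symm⟩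

omit [GradedAlgebra 𝒜] in
lemma L3 {n m : ℕ} (h : n ≤ m) {a : A} (ha : a ∈ 𝒜 m) : a ∈ ⨆ (m : ℕ) (_ : n ≤ m), 𝒜 m :=
  (le_iSup₂ (f := fun (m : ℕ) (_ : n ≤ m) => 𝒜 m) m h) ha

lemma proj_eq_zero_of_lt {n k : ℕ} (hk : k < n) {a : A} (ha : a ∈ ⨆ (m : ℕ) (_ : n ≤ m), 𝒜 m) :
    GradedRing.proj 𝒜 k a = 0 := by
  classical
  induction ha using Submodule.iSup_induction' with
  | mem m x hx =>
    induction hx using Submodule.iSup_induction' with
    | mem hm y hy =>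
      rw [GradedRing.proj_apply, DirectSum.decompose_of_mem_ne 𝒜 hy (by omega)]
    | zero => exact map_zero _
    | add x y _ _ hx hy => rw [map_add, hx, hy, add_zero]
  | zero => exact map_zero _
  | add x y _ _ hx hy => rw [map_add, hx, hy, add_zero]

variable [CommRing C] [Algebra R C] (𝒞 : ℕ → Submodule R C) [GradedAlgebra 𝒞]
  (π : ℬ →+*ᵍ 𝒞) (hπ : Function.Surjective π)

include hπ in
omit [Algebra R A] [CommRing A] in
lemma L4 (n : ℕ) (c : C) (hc : c ∈ 𝒞 n) : ∃ b ∈ ℬ n, π b = c := by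
  classical
  obtain ⟨b', rfl⟩ := hπ c
  refine ⟨(DirectSum.decompose ℬ b' n : B), SetLike.coe_mem _, ?_⟩
  rw [GradedRingHom.map_directSumDecompose, DirectSum.decompose_of_mem_same _ hc]

variable (hφ : Function.Injective φ)
  (hker : RingHom.ker π.toRingHom =
    Ideal.span (⇑φ ⁻¹' (⇑(Polynomial.C : A →+* Polynomial A) ''
      ((HomogeneousIdeal.irrelevant 𝒜).toIdeal : Set A))))
  (n₀ : ℕ) (hgen : ∀ n : ℕ, n₀ ≤ n → 𝒜 (n + 1) = 𝒜 1 * 𝒜 n)

include hdeg hker hgen in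
lemma L5gen (n m : ℕ) (hn : n₀ ≤ n) (hm : n < m) (a : A) (ha : a ∈ 𝒜 m) :
    ∃ b₀ : B, π b₀ = 0 ∧ φ b₀ = Polynomial.monomial n a := by
  obtain ⟨m', rfl⟩ : ∃ m', m = m' + 1 := ⟨m - 1, by omega⟩
  have hm' : n ≤ m' := by omega
  rw [hgen m' (le_trans hn hm')] at ha
  refine Submodule.mul_induction_on ha (fun x hx y hy => ?_) (fun x y hx hy => ?_)
  · obtain ⟨β, _, hβ⟩ := L1 𝒜 ℬ φ hdeg 0 x (L3 𝒜 (Nat.zero_le 1) hx)
    obtain ⟨γ, _, hγ⟩ := L1 𝒜 ℬ φ hdeg n y (L3 𝒜 hm' hy)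
    refine ⟨β * γ, ?_, ?_⟩
    · have hβker : β ∈ RingHom.ker π.toRingHom := by
        rw [hker]
        apply Ideal.subset_span
        refine ⟨x, HomogeneousIdeal.mem_irrelevant_of_mem _ one_pos hx, ?_⟩
        rw [hβ, Polynomial.monomial_zero_left]
      have : π β = 0 := hβker
      rw [map_mul, this, zero_mul]
    · rw [map_mul, hβ, hγ, Polynomial.monomial_mul_monomial, zero_add]
  · obtain ⟨b₁, h1, h1'⟩ := hx
    obtain ⟨b₂, h2, h2'⟩ := hy
    exact ⟨b₁ + b₂, by rw [map_add, h1, h2, add_zero], by rw [map_add, h1', h2', map_add]⟩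

include hdeg hker hgen in
lemma L5 (n : ℕ) (hn : n₀ ≤ n) (a : A) (ha : a ∈ ⨆ (m : ℕ) (_ : n ≤ m), 𝒜 m)
    (han : GradedRing.proj 𝒜 n a = 0) :
    ∃ b₀ : B, π b₀ = 0 ∧ φ b₀ = Polynomial.monomial n a := by
  classical
  have hsum := DirectSum.sum_support_decompose 𝒜 a
  have key : ∀ k ∈ (DirectSum.decompose 𝒜 a).support,
      ∃ b₀ : B, π b₀ = 0 ∧ φ b₀ = Polynomial.monomial n ((DirectSum.decompose 𝒜 a k : A)) := by
    intro k _
    rcases lt_trichotomy k n with hk | hk | hk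
    · have := proj_eq_zero_of_lt 𝒜 hk ha
      rw [GradedRing.proj_apply] at this
      exact ⟨0, map_zero _, by rw [this, map_zero, map_zero]⟩
    · subst hk
      rw [GradedRing.proj_apply] at han
      exact ⟨0, map_zero _, by rw [han, map_zero, map_zero]⟩
    · exact L5gen 𝒜 ℬ φ hdeg 𝒞 π hker n₀ hgen n k hn hk _ (SetLike.coe_mem _)
  choose! f hf1 hf2 using key
  refine ⟨∑ k ∈ (DirectSum.decompose 𝒜 a).support, f k, ?_, ?_⟩
  · rw [map_sum]
    exact Finset.sum_eq_zero fun k hk => hf1 k hk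
  · rw [map_sum]
    conv_rhs => rw [← hsum, map_sum]
    exact Finset.sum_congr rfl fun k hk => hf2 k hk

end aux

/-- Let S be a positively graded ring (an ℕ-graded R-algebra), S♮ the graded ring with S♮_n = S_[n] =
⊕_{m ≥ n} S_m (presented as a graded ring S' with an injective algebra homomorphism φ : S' → S[X]
carrying S'_n onto S_[n]·X^n), and T = S♮ ⊗_S S_0 = ⊕_n S_[n]/S_+S_[n] (presented as a graded ring
with a surjective graded homomorphism π : S' → T whose kernel is the ideal generated by the elements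
of S' corresponding to the constants in S_+); let ρ : T → S be the surjective graded homomorphism
sending the class of a ∈ S_[n] (in degree n) to the degree-n component of a, and Proj S → Proj T the
morphism it induces (a closed immersion, ρ being surjective). If there is n₀ such that S_{n+1} = S_1
S_n for every n ≥ n₀ (products of graded pieces as submodules), then the morphism Proj S → Proj T is
an isomorphism. (The published statement also asserts the converse when S is Noetherian; that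
converse is not correct as published: for S = k[y] with y of degree 2 the morphism is an isomorphism
of one-point schemes Spec k while S_{2m} ≠ S_1 S_{2m−1} = 0 for all m, so only the direct
implication is stated here.) -/
theorem result {R A B C : Type u} [CommRing R] [CommRing A] [Algebra R A]
    (𝒜 : ℕ → Submodule R A) [GradedAlgebra 𝒜] [CommRing B] [Algebra R B] (ℬ : ℕ → Submodule R B) [GradedAlgebra ℬ]
    (φ : B →ₐ[R] Polynomial A) (hφ : Function.Injective φ)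
    (hdeg : ∀ n : ℕ, Submodule.map φ.toLinearMap (ℬ n) =
      Submodule.map ((Polynomial.monomial n : A →ₗ[A] Polynomial A).restrictScalars R) (⨆ (m : ℕ) (_ : n ≤ m), 𝒜 m))
    [CommRing C] [Algebra R C] (𝒞 : ℕ → Submodule R C) [GradedAlgebra 𝒞]
    (π : ℬ →+*ᵍ 𝒞) (hπ : Function.Surjective π)
    (hker : RingHom.ker π.toRingHom =
      Ideal.span (⇑φ ⁻¹' (⇑(Polynomial.C : A →+* Polynomial A) '' ((HomogeneousIdeal.irrelevant 𝒜).toIdeal : Set A))))
    (ρ : 𝒞 →+*ᵍ 𝒜) (hρ : ∀ (n : ℕ) (b : B), b ∈ ℬ n → ρ (π b) = GradedRing.proj 𝒜 n ((φ b).coeff n))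
    (hirr : HomogeneousIdeal.irrelevant 𝒜 ≤ (HomogeneousIdeal.irrelevant 𝒞).map ρ)
    (hgen : ∃ n₀ : ℕ, ∀ n : ℕ, n₀ ≤ n → 𝒜 (n + 1) = 𝒜 1 * 𝒜 n) :
    IsIso (Proj.map ρ hirr) := by
  classical
  obtain ⟨n₀, hgen⟩ := hgen
  refine Groth.Agent.Lib.ProjMapImm.isIso_map ρ hirr n₀ (fun n _ a ha => ?_) (fun n hn c hc hc0 => ?_)
  · obtain ⟨b, hb, hba⟩ := L1 𝒜 ℬ φ hdeg n a (L3 𝒜 (le_refl n) ha)
    refine ⟨π b, Graded.map_mem π hb, ?_⟩
    rw [hρ n b hb, hba, Polynomial.coeff_monomial, if_pos rfl, GradedRing.proj_apply,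
      DirectSum.decompose_of_mem_same _ ha]
  · obtain ⟨b, hb, rfl⟩ := L4 ℬ 𝒞 π hπ n c hc
    obtain ⟨a, ha, hba⟩ := L2 𝒜 ℬ φ hdeg n b hb
    have han : GradedRing.proj 𝒜 n a = 0 := by
      rw [← hc0, hρ n b hb, hba, Polynomial.coeff_monomial, if_pos rfl]
    obtain ⟨b₀, hb₀, hb₀'⟩ := L5 𝒜 ℬ φ hdeg 𝒞 π hker n₀ hgen n hn a ha han
    have : b = b₀ := hφ (hba.trans hb₀'.symm)
    rw [this, hb₀]

end Groth.Agent.S8311
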