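import Groth.Statements.S8310
import Groth.Agent.S8311

set_option autoImplicit false
universe u
open CategoryTheory AlgebraicGeometry
open scoped HomogeneousIdeal
open EGA2

namespace Groth.Agent.S8310

section aux
open Graded Groth.Agent.S8311

variable {R A B C : Type u} [CommRing R] [CommRing A] [Algebra R A]
  (𝒜 : ℕ → Submodule R A) [GradedAlgebra 𝒜] [CommRing B] [Algebra R B] (ℬ : ℕ → Submodule R B)
  [GradedAlgebra ℬ]
  (φ : B →ₐ[R] Polynomial A)
  (hdeg : ∀ n : ℕ, Submodule.map φ.toLinearMap (ℬ n) =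
    Submodule.map ((Polynomial.monomial n : A →ₗ[A] Polynomial A).restrictScalars R)
      (⨆ (m : ℕ) (_ : n ≤ m), 𝒜 m))

/-- `S_[n]` as a submodule. -/
abbrev Sge (n : ℕ) : Submodule R A := ⨆ (m : ℕ) (_ : n ≤ m), 𝒜 m

omit [GradedAlgebra 𝒜] in
lemma Sge_anti {i j : ℕ} (h : i ≤ j) : Sge 𝒜 j ≤ Sge 𝒜 i := by
  refine iSup₂_le fun m hm => ?_
  exact le_iSup₂ (f := fun (m : ℕ) (_ : i ≤ m) => 𝒜 m) m (le_trans h hm)

/-- F1: an element of `S_[n]` with vanishing degree `n` component lies in `S_[n+1]`. -/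
lemma F1 (n : ℕ) (a : A) (ha : a ∈ Sge 𝒜 n) (han : GradedRing.proj 𝒜 n a = 0) :
    a ∈ Sge 𝒜 (n + 1) := by
  classical
  rw [← DirectSum.sum_support_decompose 𝒜 a]
  refine Submodule.sum_mem _ fun k _ => ?_
  rcases lt_trichotomy k n with hk | hk | hk
  · have := proj_eq_zero_of_lt 𝒜 hk ha
    rw [GradedRing.proj_apply] at this
    rw [this]; exact zero_mem _
  · subst hk
    rw [GradedRing.proj_apply] at han
    rw [han]; exact zero_mem _
  · exact L3 𝒜 (show n + 1 ≤ k by omega) (SetLike.coe_mem _)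

/-- F2: `S_[i] · S_[j] ⊆ S_[i+j]`. -/
lemma F2 {i j : ℕ} {x y : A} (hx : x ∈ Sge 𝒜 i) (hy : y ∈ Sge 𝒜 j) : x * y ∈ Sge 𝒜 (i + j) := by
  classical
  induction hx using Submodule.iSup_induction' with
  | mem m x hx =>
    induction hx using Submodule.iSup_induction' with
    | mem hm x hx =>
      induction hy using Submodule.iSup_induction' with
      | mem m' y hy =>
        induction hy using Submodule.iSup_induction' with
        | mem hm' y hy =>
          exact L3 𝒜 (show i + j ≤ m + m' by omega) (SetLike.mul_mem_graded hx hy)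
        | zero => rw [mul_zero]; exact zero_mem _
        | add y y' _ _ h h' => rw [mul_add]; exact add_mem h h'
      | zero => rw [mul_zero]; exact zero_mem _
      | add y y' _ _ h h' => rw [mul_add]; exact add_mem h h'
    | zero => rw [zero_mul]; exact zero_mem _
    | add x x' _ _ h h' => rw [add_mul]; exact add_mem h h'
  | zero => rw [zero_mul]; exact zero_mem _
  | add x x' _ _ h h' => rw [add_mul]; exact add_mem h h'

lemma F3 {i : ℕ} {x : A} (hx : x ∈ Sge 𝒜 i) (k : ℕ) : x ^ k ∈ Sge 𝒜 (k * i) := by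
  induction k with
  | zero =>
    rw [pow_zero, Nat.zero_mul]
    exact L3 𝒜 (le_refl 0) (SetLike.GradedOne.one_mem)
  | succ k ih =>
    rw [pow_succ, Nat.succ_mul]
    exact F2 𝒜 ih hx

/-- F4: `S_[n+1] ⊆ S_+`. -/
lemma F4 (n : ℕ) {a : A} (ha : a ∈ Sge 𝒜 (n + 1)) :
    a ∈ (HomogeneousIdeal.irrelevant 𝒜).toIdeal := by
  have := proj_eq_zero_of_lt 𝒜 (Nat.succ_pos n) ha
  exact (HomogeneousIdeal.mem_irrelevant_iff _ _).2 this

variable [CommRing C] [Algebra R C] (𝒞 : ℕ → Submodule R C) [GradedAlgebra 𝒞]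
  (π : ℬ →+*ᵍ 𝒞) (hπ : Function.Surjective π)
  (hφ : Function.Injective φ)
  (hker : RingHom.ker π.toRingHom =
    Ideal.span (⇑φ ⁻¹' (⇑(Polynomial.C : A →+* Polynomial A) ''
      ((HomogeneousIdeal.irrelevant 𝒜).toIdeal : Set A))))

include hdeg hφ hker in
/-- An element `b` of degree `n` with `φ b = a Xⁿ`, `a ∈ S_[n+1]`, has `π (b^(n+1)) = 0`. -/
lemma pow_mem_ker (n : ℕ) (b : B) (a : A) (ha : a ∈ Sge 𝒜 (n + 1))
    (hba : φ b = Polynomial.monomial n a) : π b ^ (n + 1) = 0 := by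
  obtain ⟨β, _, hβ⟩ := L1 𝒜 ℬ φ hdeg 0 a (Sge_anti 𝒜 (Nat.zero_le _) ha)
  have han : a ^ n ∈ Sge 𝒜 (n * (n + 1)) := F3 𝒜 ha n
  obtain ⟨γ, _, hγ⟩ := L1 𝒜 ℬ φ hdeg (n * (n + 1)) (a ^ n) han
  have hβker : β ∈ RingHom.ker π.toRingHom := by
    rw [hker]
    apply Ideal.subset_span
    refine ⟨a, F4 𝒜 n ha, ?_⟩
    rw [hβ, Polynomial.monomial_zero_left]
  have hβ0 : π β = 0 := hβker
  have hb : b ^ (n + 1) = β * γ := by
    apply hφ
    rw [map_mul, map_pow, hba, hβ, hγ, Polynomial.monomial_pow,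
      Polynomial.monomial_mul_monomial]
    rw [zero_add, pow_succ']
  rw [← map_pow, hb, map_mul, hβ0, zero_mul]

end aux

/-- Let S be a positively graded ring (an ℕ-graded R-algebra), S♮ the graded ring with S♮_n = S_[n] =
⊕_{m ≥ n} S_m (presented as a graded ring S' with an injective algebra homomorphism φ : S' → S[X]
carrying S'_n onto S_[n]·X^n), and T = S♮ ⊗_S S_0 = ⊕_n S_[n]/S_+S_[n] (presented as a graded ring
with a surjective graded homomorphism π : S' → T whose kernel is the ideal generated by the elements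
of S' corresponding to the constants in S_+); let ρ : T → S be the surjective graded homomorphism
sending the class of a ∈ S_[n] (in degree n) to the degree-n component of a, and Proj S → Proj T the
morphism it induces (a closed immersion, ρ being surjective). Then this morphism Proj S → Proj T is
bijective. -/
theorem result {R A B C : Type u} [CommRing R] [CommRing A] [Algebra R A]
    (𝒜 : ℕ → Submodule R A) [GradedAlgebra 𝒜] [CommRing B] [Algebra R B] (ℬ : ℕ → Submodule R B) [GradedAlgebra ℬ]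
    (φ : B →ₐ[R] Polynomial A) (hφ : Function.Injective φ)
    (hdeg : ∀ n : ℕ, Submodule.map φ.toLinearMap (ℬ n) =
      Submodule.map ((Polynomial.monomial n : A →ₗ[A] Polynomial A).restrictScalars R) (⨆ (m : ℕ) (_ : n ≤ m), 𝒜 m))
    [CommRing C] [Algebra R C] (𝒞 : ℕ → Submodule R C) [GradedAlgebra 𝒞]
    (π : ℬ →+*ᵍ 𝒞) (hπ : Function.Surjective π)
    (hker : RingHom.ker π.toRingHom =
      Ideal.span (⇑φ ⁻¹' (⇑(Polynomial.C : A →+* Polynomial A) '' ((HomogeneousIdeal.irrelevant 𝒜).toIdeal : Set A))))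
    (ρ : 𝒞 →+*ᵍ 𝒜) (hρ : ∀ (n : ℕ) (b : B), b ∈ ℬ n → ρ (π b) = GradedRing.proj 𝒜 n ((φ b).coeff n))
    (hirr : HomogeneousIdeal.irrelevant 𝒜 ≤ (HomogeneousIdeal.irrelevant 𝒞).map ρ) :
    Function.Bijective (Proj.map ρ hirr).base := by
  classical
  -- `ρ` is surjective in each degree
  have hsurjdeg : ∀ k, 0 ≤ k → ∀ y ∈ 𝒜 k, ∃ x ∈ 𝒞 k, ρ x = y := by
    intro n _ a ha
    obtain ⟨b, hb, hba⟩ := Groth.Agent.S8311.L1 𝒜 ℬ φ hdeg n a (Groth.Agent.S8311.L3 𝒜 (le_refl n) ha)
    refine ⟨π b, Graded.map_mem π hb, ?_⟩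
    rw [hρ n b hb, hba, Polynomial.coeff_monomial, if_pos rfl, GradedRing.proj_apply,
      DirectSum.decompose_of_mem_same _ ha]
  have hρsurj : Function.Surjective ρ := by
    intro a
    rw [← DirectSum.sum_support_decompose 𝒜 a]
    have key : ∀ k ∈ (DirectSum.decompose 𝒜 a).support,
        ∃ x : C, ρ x = (DirectSum.decompose 𝒜 a k : A) := fun k _ => by
      obtain ⟨x, _, hx⟩ := hsurjdeg k (Nat.zero_le k) _ (SetLike.coe_mem (DirectSum.decompose 𝒜 a k))
      exact ⟨x, hx⟩
    choose! f hf using key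
    refine ⟨∑ k ∈ (DirectSum.decompose 𝒜 a).support, f k, ?_⟩
    rw [map_sum]
    exact Finset.sum_congr rfl fun k hk => hf k hk
  constructor
  · have : IsClosedImmersion (Proj.map ρ hirr) :=
      Groth.Agent.Lib.ProjMapImm.isClosedImmersion_map ρ hirr 0 hsurjdeg
    exact (Proj.map ρ hirr).isClosedEmbedding.injective
  · -- homogeneous elements of the kernel of `ρ` are nilpotent
    have hnil : ∀ (n : ℕ) (c : C), c ∈ 𝒞 n → ρ c = 0 → c ^ (n + 1) = 0 := by
      intro n c hc hc0
      obtain ⟨b, hb, rfl⟩ := Groth.Agent.S8311.L4 ℬ 𝒞 π hπ n c hc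
      obtain ⟨a, ha, hba⟩ := Groth.Agent.S8311.L2 𝒜 ℬ φ hdeg n b hb
      have han : GradedRing.proj 𝒜 n a = 0 := by
        rw [← hc0, hρ n b hb, hba, Polynomial.coeff_monomial, if_pos rfl]
      exact pow_mem_ker 𝒜 ℬ φ hdeg 𝒞 π hφ hker n b a (F1 𝒜 n a ha han) hba
    have hkerle : ∀ (P : Ideal C), P.IsPrime → RingHom.ker ρ ≤ P := by
      intro P hP c hc
      rw [← DirectSum.sum_support_decompose 𝒞 c]
      refine Ideal.sum_mem _ fun k _ => ?_
      have h0 : ρ (DirectSum.decompose 𝒞 c k : C) = 0 := by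
        rw [GradedRingHom.map_directSumDecompose]
        have : ρ c = 0 := hc
        rw [this, DirectSum.decompose_zero]; rfl
      exact hP.mem_of_pow_mem (k + 1) (by rw [hnil k _ (SetLike.coe_mem _) h0]; exact zero_mem _)
    intro p
    have hkp : RingHom.ker ρ ≤ p.asHomogeneousIdeal.toIdeal := hkerle _ p.isPrime
    have hcm : (p.asHomogeneousIdeal.toIdeal.map ρ).comap ρ =
        p.asHomogeneousIdeal.toIdeal := by
      rw [Ideal.comap_map_of_surjective _ hρsurj]
      refine le_antisymm (sup_le le_rfl ?_) le_sup_left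
      exact hkp
    let q : ProjectiveSpectrum 𝒜 :=
      { asHomogeneousIdeal := p.asHomogeneousIdeal.map ρ
        isPrime := Ideal.map_isPrime_of_surjective hρsurj hkp
        not_irrelevant_le := fun hle => p.not_irrelevant_le (by
          intro c hc
          have h1 : ρ c ∈ HomogeneousIdeal.irrelevant 𝒜 := by
            rw [HomogeneousIdeal.mem_irrelevant_iff, GradedRing.proj_apply,
              ← GradedRingHom.map_directSumDecompose]
            have := (HomogeneousIdeal.mem_irrelevant_iff _ _).1 hc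
            rw [GradedRing.proj_apply] at this
            rw [this, map_zero]
          have h2 : ρ c ∈ (p.asHomogeneousIdeal.map ρ) := hle h1
          have h3 : c ∈ (p.asHomogeneousIdeal.toIdeal.map ρ).comap ρ := h2
          rw [hcm] at h3
          exact h3) }
    refine ⟨q, ?_⟩
    apply ProjectiveSpectrum.ext
    apply HomogeneousIdeal.ext
    exact hcm

end Groth.Agent.S8310
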