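import Groth.Statements.S8312
import Mathlib.RingTheory.Ideal.Operations
import Mathlib.LinearAlgebra.Finsupp.LinearCombination

set_option autoImplicit false
universe u
open EGA2

namespace Groth.Agent.S8312

open scoped HomogeneousIdeal

theorem homog_case {R A B : Type u} [CommRing R] [CommRing A] [Algebra R A]
    (𝒜 : ℕ → Submodule R A) [GradedAlgebra 𝒜] [CommRing B] [Algebra R B] (ℬ : ℕ → Submodule R B)
    (φ : B →ₐ[R] Polynomial A) (hφ : Function.Injective φ)
    (hdeg : ∀ n : ℕ, Submodule.map φ.toLinearMap (ℬ n) =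
      Submodule.map ((Polynomial.monomial n : A →ₗ[A] Polynomial A).restrictScalars R) (⨆ (m : ℕ) (_ : n ≤ m), 𝒜 m))
    {ι : Type u} (d : ι → ℕ) (f : ι → A) (hf : ∀ a, f a ∈ 𝒜 (d a))
    (hrad : ∀ g ∈ (HomogeneousIdeal.irrelevant 𝒜).toIdeal, ∃ n : ℕ, 0 < n ∧ g ^ n ∈ Ideal.span (Set.range f))
    (fn : ι → B) (hfn : ∀ a, φ (fn a) = Polynomial.monomial (d a) (f a))
    (m n : ℕ) (hn : 0 < n) (hnm : n ≤ m) (a : A) (ha : a ∈ 𝒜 m) (g : B)
    (hg : φ g = Polynomial.monomial n a) :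
    ∃ N : ℕ, 0 < N ∧ g ^ N ∈ Ideal.span (Set.range fn) := by
  classical
  have hm : 0 < m := lt_of_lt_of_le hn hnm
  obtain ⟨N, hN, hmem⟩ := hrad a (HomogeneousIdeal.mem_irrelevant_of_mem 𝒜 hm ha)
  obtain ⟨c, hc⟩ := Finsupp.mem_span_range_iff_exists_finsupp.1 hmem
  set Dmax := c.support.sup d with hDmax
  set N' := N + Dmax with hN'
  have hdle : ∀ α ∈ c.support, d α ≤ N' := fun α hα =>
    (Finset.le_sup (f := d) hα).trans (Nat.le_add_left _ _)
  have hN'pos : 0 < N' := Nat.add_pos_left hN _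
  have hN'le : N' ≤ n * N' := Nat.le_mul_of_pos_left N' hn
  have hnm' : n * N' ≤ m * N' := Nat.mul_le_mul_right N' hnm
  have h1 : a ^ N' = ∑ α ∈ c.support, (a ^ Dmax * c α) * f α := by
    rw [hN', pow_add, ← hc, Finsupp.sum, Finset.sum_mul]
    refine Finset.sum_congr rfl fun α _ => ?_
    rw [smul_eq_mul]
    ring
  have h2 : a ^ N' ∈ 𝒜 (m * N') := by
    have := SetLike.pow_mem_graded N' ha
    rwa [smul_eq_mul, mul_comm] at this
  have h3 : a ^ N' = ∑ α ∈ c.support,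
      (DirectSum.decompose 𝒜 (a ^ Dmax * c α) (m * N' - d α) : A) * f α := by
    have e := DirectSum.decompose_of_mem_same 𝒜 h2
    rw [← e, h1, DirectSum.decompose_sum, DFinsupp.finsetSum_apply, AddSubmonoidClass.coe_finsetSum]
    refine Finset.sum_congr rfl fun α hα => ?_
    exact DirectSum.coe_decompose_mul_of_right_mem_of_le 𝒜 (hf α) ((hdle α hα).trans (hN'le.trans hnm'))
  have hb : ∀ α, ∃ b : B, α ∈ c.support → φ b = Polynomial.monomial (n * N' - d α)
      (DirectSum.decompose 𝒜 (a ^ Dmax * c α) (m * N' - d α) : A) := by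
    intro α
    by_cases hα : α ∈ c.support
    · have hmem : (Polynomial.monomial (n * N' - d α)
          (DirectSum.decompose 𝒜 (a ^ Dmax * c α) (m * N' - d α) : A)) ∈
          Submodule.map φ.toLinearMap (ℬ (n * N' - d α)) := by
        rw [hdeg]
        refine ⟨_, ?_, rfl⟩
        exact Submodule.mem_iSup_of_mem (m * N' - d α)
          (Submodule.mem_iSup_of_mem (Nat.sub_le_sub_right hnm' _) (SetLike.coe_mem _))
      obtain ⟨b, _, hb⟩ := hmem
      exact ⟨b, fun _ => hb⟩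
    · exact ⟨0, fun h => absurd h hα⟩
  choose b hb using hb
  refine ⟨N', hN'pos, ?_⟩
  have lhs : φ (g ^ N') = ∑ α ∈ c.support, Polynomial.monomial (n * N')
      ((DirectSum.decompose 𝒜 (a ^ Dmax * c α) (m * N' - d α) : A) * f α) := by
    rw [map_pow, hg, Polynomial.monomial_pow]
    conv_lhs => rw [h3]
    rw [map_sum]
  have rhs : φ (∑ α ∈ c.support, b α * fn α) = ∑ α ∈ c.support, Polynomial.monomial (n * N')
      ((DirectSum.decompose 𝒜 (a ^ Dmax * c α) (m * N' - d α) : A) * f α) := by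
    rw [map_sum]
    refine Finset.sum_congr rfl fun α hα => ?_
    rw [map_mul, hb α hα, hfn, Polynomial.monomial_mul_monomial,
      Nat.sub_add_cancel ((hdle α hα).trans hN'le)]
  have key : g ^ N' = ∑ α ∈ c.support, b α * fn α := hφ (lhs.trans rhs.symm)
  rw [key]
  exact Ideal.sum_mem _ fun α _ => Ideal.mul_mem_left _ _ (Ideal.subset_span ⟨α, rfl⟩)

theorem result {R A B : Type u} [CommRing R] [CommRing A] [Algebra R A]
    (𝒜 : ℕ → Submodule R A) [GradedAlgebra 𝒜] [CommRing B] [Algebra R B] (ℬ : ℕ → Submodule R B) [GradedAlgebra ℬ]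
    (φ : B →ₐ[R] Polynomial A) (hφ : Function.Injective φ)
    (hdeg : ∀ n : ℕ, Submodule.map φ.toLinearMap (ℬ n) =
      Submodule.map ((Polynomial.monomial n : A →ₗ[A] Polynomial A).restrictScalars R) (⨆ (m : ℕ) (_ : n ≤ m), 𝒜 m))
    {ι : Type u} (d : ι → ℕ) (hd : ∀ a, 0 < d a) (f : ι → A) (hf : ∀ a, f a ∈ 𝒜 (d a))
    (hrad : ∀ g ∈ (HomogeneousIdeal.irrelevant 𝒜).toIdeal, ∃ n : ℕ, 0 < n ∧ g ^ n ∈ Ideal.span (Set.range f))
    (fn : ι → B) (hfn : ∀ a, φ (fn a) = Polynomial.monomial (d a) (f a)) :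
    ∀ g ∈ (HomogeneousIdeal.irrelevant ℬ).toIdeal, ∃ n : ℕ, 0 < n ∧ g ^ n ∈ Ideal.span (Set.range fn) := by
  have hle : (HomogeneousIdeal.irrelevant ℬ).toIdeal ≤ (Ideal.span (Set.range fn)).radical := by
    rw [HomogeneousIdeal.toIdeal_irrelevant_le]
    intro n hn g hg
    change g ∈ (Ideal.span (Set.range fn)).radical
    replace hg : g ∈ ℬ n := hg
    -- the image of g
    have himg : φ g ∈ Submodule.map φ.toLinearMap (ℬ n) := ⟨g, hg, rfl⟩
    rw [hdeg] at himg
    obtain ⟨a, ha, hag⟩ := himg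
    replace hag : Polynomial.monomial n a = φ g := hag
    -- induction on a
    have P : ∀ a ∈ (⨆ (m : ℕ) (_ : n ≤ m), 𝒜 m),
        ∃ g' ∈ (Ideal.span (Set.range fn)).radical, φ g' = Polynomial.monomial n a := by
      intro a ha
      refine Submodule.iSup_induction (fun m => ⨆ (_ : n ≤ m), 𝒜 m)
        (motive := fun a => ∃ g' ∈ (Ideal.span (Set.range fn)).radical, φ g' = Polynomial.monomial n a)
        ha ?_ ?_ ?_
      · intro m x hx
        by_cases hnm : n ≤ m
        · rw [iSup_pos hnm] at hx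
          have hmem : Polynomial.monomial n x ∈ Submodule.map φ.toLinearMap (ℬ n) := by
            rw [hdeg]
            exact ⟨x, Submodule.mem_iSup_of_mem m (Submodule.mem_iSup_of_mem hnm hx), rfl⟩
          obtain ⟨g', _, hg'⟩ := hmem
          replace hg' : φ g' = Polynomial.monomial n x := hg'
          obtain ⟨N, _, hN⟩ := homog_case 𝒜 ℬ φ hφ hdeg d f hf hrad fn hfn m n hn hnm x hx g' hg'
          exact ⟨g', ⟨N, hN⟩, hg'⟩
        · rw [iSup_neg hnm, Submodule.mem_bot] at hx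
          exact ⟨0, Ideal.zero_mem _, by rw [hx, map_zero, map_zero]⟩
      · exact ⟨0, Ideal.zero_mem _, by rw [map_zero, map_zero]⟩
      · rintro x y ⟨gx, hgx, ex⟩ ⟨gy, hgy, ey⟩
        exact ⟨gx + gy, Ideal.add_mem _ hgx hgy, by rw [map_add, map_add, ex, ey]⟩
    obtain ⟨g', hg', e⟩ := P a ha
    have : g' = g := hφ (e.trans hag)
    rw [← this]
    exact hg'
  intro g hg
  obtain ⟨n, hn⟩ := hle hg
  rcases Nat.eq_zero_or_pos n with h0 | hpos
  · refine ⟨1, Nat.one_pos, ?_⟩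
    rw [h0, pow_zero] at hn
    rw [(Ideal.eq_top_iff_one _).2 hn]
    trivial
  · exact ⟨n, hpos, hn⟩

end Groth.Agent.S8312
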