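import Groth.Statements.S8333
import Groth.Agent.Lib.RelTwistMul
import Groth.Agent.Lib.RelTwistZero
import Groth.Agent.Lib.H60RelTwistExists
import Groth.Agent.Lib.RelTwistAmple
import Groth.Agent.Lib.H78GlobGen2
import Groth.Agent.Lib.H90CohRestrict
import Groth.Agent.S4418
import Groth.Agent.S5725
import Groth.Agent.Lib.GlobGenLocal
import Groth.Agent.Lib.H78AmpleTwist
import Groth.Agent.Lib.OXModRestrict

set_option autoImplicit false
universe u
open CategoryTheory CategoryTheory.Limits AlgebraicGeometry Opposite TopologicalSpace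
open scoped HomogeneousIdeal
noncomputable section
open EGA2

namespace Groth.Agent.S8333


variable {Y P : Scheme.{u}} {𝒮 : RelProj.QCGrAlg Y} {p : P ⟶ Y}
  {chart : ∀ (U : Y.Opens) (hU : IsAffineOpen U), (((p ⁻¹ᵁ U : P.Opens) : Scheme.{u}) ≅ Proj (𝒮.deg U hU))}

/-- Two twisting sheaves of the same degree are isomorphic. -/
theorem nonempty_iso_of_isRelTwist (hP : RelProj.IsRelProj 𝒮 p chart) (hgen : 𝒮.IsGenDegOne) {n : ℤ}
    {L L' : P.Modules}
    {lam : ∀ (U : Y.Opens) (hU : IsAffineOpen U),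
      L ⟶ (Scheme.Modules.pushforward (RelProj.emb p chart U hU)).obj (GrTwist.twist (𝒮.deg U hU) n)}
    {lam' : ∀ (U : Y.Opens) (hU : IsAffineOpen U),
      L' ⟶ (Scheme.Modules.pushforward (RelProj.emb p chart U hU)).obj (GrTwist.twist (𝒮.deg U hU) n)}
    (hL : RelProj.IsRelTwist 𝒮 p chart n L lam) (hL' : RelProj.IsRelTwist 𝒮 p chart n L' lam') :
    Nonempty (L ≅ L') := by
  have h0 := Groth.Agent.Lib.RelTwistZero.isRelTwist_structure (p := p) (chart := chart) hP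
  obtain ⟨e1⟩ := Groth.Agent.Lib.RelTwistMul.nonempty_tensor_iso hP hgen (zero_add n) h0 hL hL
  obtain ⟨e2⟩ := Groth.Agent.Lib.RelTwistMul.nonempty_tensor_iso hP hgen (zero_add n) h0 hL hL'
  exact ⟨e1.symm ≪≫ e2⟩

/-- `O_P(1)^{⊗ m} ≅ O_P(m)`. -/
theorem nonempty_tensorPow_iso (hP : RelProj.IsRelProj 𝒮 p chart) (hgen : 𝒮.IsGenDegOne)
    {O1 : P.Modules}
    {lam1 : ∀ (U : Y.Opens) (hU : IsAffineOpen U),
      O1 ⟶ (Scheme.Modules.pushforward (RelProj.emb p chart U hU)).obj (GrTwist.twist (𝒮.deg U hU) 1)}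
    (hO1 : RelProj.IsRelTwist 𝒮 p chart 1 O1 lam1) :
    ∀ (m : ℕ) {L : P.Modules}
      {lam : ∀ (U : Y.Opens) (hU : IsAffineOpen U),
        L ⟶ (Scheme.Modules.pushforward (RelProj.emb p chart U hU)).obj (GrTwist.twist (𝒮.deg U hU) (m : ℤ))}
      (_ : RelProj.IsRelTwist 𝒮 p chart (m : ℤ) L lam), Nonempty (CohB1.tensorPow O1 m ≅ L) := by
  intro m
  induction m with
  | zero =>
    intro L lam hL
    have h0 := Groth.Agent.Lib.RelTwistZero.isRelTwist_structure (p := p) (chart := chart) hP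
    exact nonempty_iso_of_isRelTwist hP hgen h0 hL
  | succ k ih =>
    intro L lam hL
    obtain ⟨Lk, lamk, hLk⟩ := Groth.Agent.Lib.H60RelTwistExists.exists_relTwist hP (k : ℤ)
    obtain ⟨e⟩ := ih hLk
    have hL' : RelProj.IsRelTwist 𝒮 p chart ((k : ℤ) + 1) L (fun U hU => by
      have := lam U hU; rwa [Nat.cast_succ] at this) := by
      convert hL using 2 <;> simp
    obtain ⟨e2⟩ := Groth.Agent.Lib.RelTwistMul.nonempty_tensor_iso hP hgen rfl hLk hO1 hL'
    exact ⟨Groth.Agent.Lib.H78AmpleUnit.tensorModIso e (Iso.refl O1) ≪≫ e2⟩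

open Groth.Agent.Lib.H78PullSec Groth.Agent.Lib.H78TensorGen in
/-- If `G` is globally generated over `p⁻¹(V)` for opens `V` covering the base, then `p^*p_*G ⟶ G` is an
epimorphism. -/
theorem epi_counit_of_cover {X Z : Scheme.{u}} (q : X ⟶ Z) (G : X.Modules)
    (h : ∀ x : X, ∃ V : Z.Opens, q.base x ∈ V ∧ Curv2.IsGloballyGenerated (G.restrict (q ⁻¹ᵁ V).ι)) :
    Epi ((Scheme.Modules.pullbackPushforwardAdjunction q).counit.app G) := by
  refine Groth.Agent.Lib.RelTildeVal2.epi_of_locally_surjective' _ fun W s x hx => ?_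
  obtain ⟨V, hxV, hV⟩ := h x
  have hsurj : Function.Surjective
      (((Scheme.Modules.pullbackPushforwardAdjunction q).counit.app G).app ((q ⁻¹ᵁ V).ι ''ᵁ ⊤)) := by
    intro σ
    have hle : (q ⁻¹ᵁ V).ι ''ᵁ ⊤ ≤ q ⁻¹ᵁ V := Scheme.Opens.ι_image_le _ _
    have hge : q ⁻¹ᵁ V ≤ (q ⁻¹ᵁ V).ι ''ᵁ ⊤ := by rw [Scheme.Opens.ι_image_top]
    let σ' : Γ(G, q ⁻¹ᵁ V) := rs G hge σ
    refine ⟨rs _ hle (pb q ((Scheme.Modules.pushforward q).obj G) (V := V) σ'), ?_⟩
    rw [Groth.Agent.Lib.RelGluePair.app_rs, Groth.Agent.S5725.counit_app_pb]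
    change rs G hle (rs G hge σ) = σ
    rw [rs_rs]
    exact rs_self G σ
  obtain ⟨W', hW'W, hxW', t, ht⟩ :=
    Groth.Agent.Lib.GlobGenLocal.exists_preimage_of_restrict_globGen (q ⁻¹ᵁ V).ι
      ((Scheme.Modules.pullbackPushforwardAdjunction q).counit.app G) hV hsurj W s ⟨x, hxV⟩ hx
  exact ⟨W', hW'W, hxW', t, ht⟩

/-- Epimorphy of the counit is invariant under isomorphism. -/
theorem epi_counit_of_iso {X Z : Scheme.{u}} (q : X ⟶ Z) {G G' : X.Modules} (e : G ≅ G')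
    (h : Epi ((Scheme.Modules.pullbackPushforwardAdjunction q).counit.app G)) :
    Epi ((Scheme.Modules.pullbackPushforwardAdjunction q).counit.app G') := by
  have hnat := (Scheme.Modules.pullbackPushforwardAdjunction q).counit.naturality e.hom
  have h2 : Epi (((Scheme.Modules.pullbackPushforwardAdjunction q).counit.app G) ≫ e.hom) := epi_comp _ _
  have h3 : Epi (((Scheme.Modules.pushforward q ⋙ Scheme.Modules.pullback q).map e.hom) ≫
      (Scheme.Modules.pullbackPushforwardAdjunction q).counit.app G') := by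
    rw [hnat]; exact h2
  exact epi_of_epi ((Scheme.Modules.pushforward q ⋙ Scheme.Modules.pullback q).map e.hom) _

theorem main (hP : RelProj.IsRelProj 𝒮 p chart) [CompactSpace Y] (hgen : 𝒮.IsGenDegOne)
    (hft : 𝒮.IsFTDeg 1) (F : P.Modules) (hFq : Coh.IsQCoh F) (hFt : CohB1.IsFT F) :
    ∃ n₀ : ℤ, ∀ (n : ℤ), n₀ ≤ n → ∀ (L : P.Modules)
      (lam : ∀ (U : Y.Opens) (hU : IsAffineOpen U),
      L ⟶ (Scheme.Modules.pushforward (RelProj.emb p chart U hU)).obj (GrTwist.twist (𝒮.deg U hU) n)),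
      RelProj.IsRelTwist 𝒮 p chart n L lam →
        Epi ((Scheme.Modules.pullbackPushforwardAdjunction p).counit.app (CohB1.tensorMod F L)) := by
  classical
  obtain ⟨O1, lam1, hO1⟩ := Groth.Agent.Lib.H60RelTwistExists.exists_relTwist hP 1
  obtain ⟨-, hqc, -⟩ := Groth.Agent.S4418.props hgen hft hP
  -- `O_P(1)` is `p`-ample
  have hamp : RelAmple.IsRelAmple p O1 := by
    have h1 := Groth.Agent.Lib.RelTwistAmple.isRelAmple_pullback_of_isEmbedding p hgen hO1 (𝟙 P)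
      (Category.id_comp p) Topology.IsEmbedding.id
    exact Groth.Agent.Lib.RelTwistAmple.isRelAmple_of_iso ((Scheme.Modules.pullbackId P).app O1) h1
  have hcoh : Coh.IsCoh F := ⟨hFq, hFt⟩
  -- the bound over each affine open
  have hloc : ∀ V : Y.affineOpens, ∃ n₀ : ℕ, ∀ n, n₀ ≤ n →
      Curv2.IsGloballyGenerated (CohB1.tensorMod (F.restrict (p ⁻¹ᵁ V.1).ι)
        (CohB1.tensorPow (O1.restrict (p ⁻¹ᵁ V.1).ι) n)) := by
    intro V
    have hV := hamp.2 V
    haveI : CompactSpace ↥((p ⁻¹ᵁ V.1 : P.Opens) : Scheme.{u}) := hV.2.1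
    exact Groth.Agent.Lib.H78GlobGen2.isGloballyGenerated_twist hV _
      (Groth.Agent.Lib.H90CohRestrict.isCoh_restrict _ F hcoh)
  choose N hN using hloc
  -- finite affine cover
  obtain ⟨t, ht⟩ := isCompact_univ.elim_finite_subcover (fun V : Y.affineOpens => ((V.1 : Y.Opens) : Set Y))
    (fun V => V.1.2) (by
      intro y _
      obtain ⟨_, ⟨U, hU, rfl⟩, hyU, -⟩ :=
        Y.isBasis_affineOpens.exists_subset_of_mem_open (Set.mem_univ y) isOpen_univ
      exact Set.mem_iUnion.2 ⟨⟨U, hU⟩, hyU⟩)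
  refine ⟨((t.sup N : ℕ) : ℤ), fun n hn L lam hL => ?_⟩
  obtain ⟨m, rfl⟩ : ∃ m : ℕ, n = (m : ℤ) := ⟨n.toNat, (Int.toNat_of_nonneg (le_trans (by positivity) hn)).symm⟩
  have hm : t.sup N ≤ m := by exact_mod_cast hn
  obtain ⟨e⟩ := nonempty_tensorPow_iso hP hgen hO1 m hL
  refine epi_counit_of_iso p (Groth.Agent.Lib.H78AmpleUnit.tensorModIso (Iso.refl F) e) ?_
  refine epi_counit_of_cover p _ fun x => ?_
  obtain ⟨V, hVt, hxV⟩ := Set.mem_iUnion₂.1 (ht (Set.mem_univ (p.base x)))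
  refine ⟨V.1, hxV, ?_⟩
  have h1 := hN V m ((Finset.le_sup hVt).trans hm)
  exact Groth.Agent.Lib.H78AmpleTwist.isGloballyGenerated_of_iso
    ((Groth.Agent.Lib.OXModRestrict.restrictTensorIso (p ⁻¹ᵁ V.1).ι F (CohB1.tensorPow O1 m) ≪≫
      Groth.Agent.Lib.H78AmpleUnit.tensorModIso (Iso.refl _)
        (Groth.Agent.Lib.H78Restrict.restrictTensorPowIso (p ⁻¹ᵁ V.1).ι O1 m)).symm) h1

/-- Let Y be a scheme with quasi-compact underlying space, 𝒮 a quasi-coherent positively graded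
O_Y-algebra generated by 𝒮_1 with 𝒮_1 of finite type, p : P = Proj(𝒮) → Y, and F a quasi-coherent
O_P-module of finite type. Then there is n₀ such that for all n ≥ n₀ the canonical morphism
p^*(p_*(F(n))) → F(n) is an epimorphism, where F(n) = F ⊗ O_P(n) with O_P(n) given through its
chartwise identifications. -/
theorem result {Y P : Scheme.{u}} (𝒮 : RelProj.QCGrAlg Y) (p : P ⟶ Y)
    (chart : ∀ (U : Y.Opens) (hU : IsAffineOpen U), (((p ⁻¹ᵁ U : P.Opens) : Scheme.{u}) ≅ Proj (𝒮.deg U hU)))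
    (hP : RelProj.IsRelProj 𝒮 p chart) [CompactSpace Y] (hgen : 𝒮.IsGenDegOne)
    (hft : 𝒮.IsFTDeg 1) (F : P.Modules) (hFq : Coh.IsQCoh F) (hFt : CohB1.IsFT F) :
    ∃ n₀ : ℤ, ∀ (n : ℤ), n₀ ≤ n → ∀ (L : P.Modules)
      (lam : ∀ (U : Y.Opens) (hU : IsAffineOpen U),
      L ⟶ (Scheme.Modules.pushforward (RelProj.emb p chart U hU)).obj (GrTwist.twist (𝒮.deg U hU) n)),
      RelProj.IsRelTwist 𝒮 p chart n L lam →
        Epi ((Scheme.Modules.pullbackPushforwardAdjunction p).counit.app (CohB1.tensorMod F L)) := by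
  exact main hP hgen hft F hFq hFt

end Groth.Agent.S8333
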