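import Groth.Statements.S8338
import Groth.Agent.Lib.GrModFrac
import Groth.Agent.Lib.RelTildeVal2

set_option autoImplicit false
universe u
open CategoryTheory CategoryTheory.Limits AlgebraicGeometry Opposite TopologicalSpace
noncomputable section
open EGA2

namespace Groth.Agent.S8338

/-- For an exact sequence M₁ → M₂ → M₃ of graded S-modules with degree-preserving maps u, v and every
integer n, the induced morphisms M₁(n)~ → M₂(n)~ → M₃(n)~ of modules on X = Proj S give an exact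
sequence of sections over every basic open D_+(f), f homogeneous of positive degree (these opens are
affine and cover X, so the sequence of modules is exact). Gradings by additive subgroups, modules
graded in non-negative degrees. -/
theorem result {A σ : Type u} [CommRing A] [SetLike σ A] [AddSubgroupClass σ A] (𝒜 : ℕ → σ)
    [GradedRing 𝒜] {M₁ τ₁ : Type u} [AddCommGroup M₁] [Module A M₁] [SetLike τ₁ M₁] [AddSubgroupClass τ₁ M₁]
    (ℳ₁ : ℕ → τ₁) [SetLike.GradedSMul 𝒜 ℳ₁] [DirectSum.Decomposition ℳ₁]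
    {M₂ τ₂ : Type u} [AddCommGroup M₂] [Module A M₂] [SetLike τ₂ M₂] [AddSubgroupClass τ₂ M₂]
    (ℳ₂ : ℕ → τ₂) [SetLike.GradedSMul 𝒜 ℳ₂] [DirectSum.Decomposition ℳ₂]
    {M₃ τ₃ : Type u} [AddCommGroup M₃] [Module A M₃] [SetLike τ₃ M₃] [AddSubgroupClass τ₃ M₃]
    (ℳ₃ : ℕ → τ₃) [SetLike.GradedSMul 𝒜 ℳ₃] [DirectSum.Decomposition ℳ₃]
    (u : M₁ →ₗ[A] M₂) (hu : ∀ (i : ℕ) (m : M₁), m ∈ ℳ₁ i → u m ∈ ℳ₂ i)
    (v : M₂ →ₗ[A] M₃) (hv : ∀ (i : ℕ) (m : M₂), m ∈ ℳ₂ i → v m ∈ ℳ₃ i)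
    (hex : Function.Exact u v) (n : ℤ) {d : ℕ} (hd : 0 < d) (f : A) (hf : f ∈ 𝒜 d) :
    Function.Exact ((GrMod.map 𝒜 u hu n).app (Proj.basicOpen 𝒜 f))
      ((GrMod.map 𝒜 v hv n).app (Proj.basicOpen 𝒜 f)) := by
  classical
  have hpow : ∀ (x : Proj.basicOpen 𝒜 f) (k : ℕ), f ^ k ∉ x.1.asHomogeneousIdeal :=
    fun x k h => (Proj.mem_basicOpen 𝒜 f x.1).mp x.2 (x.1.isPrime.mem_of_pow_mem k h)
  intro t
  constructor
  · intro ht
    obtain ⟨k, i, m, hm, hdeg, hval⟩ := Groth.Agent.Lib.GrModFrac.exists_frac (ℳ := ℳ₂) hf hd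
      (show GrMod.sect 𝒜 ℳ₂ n (op (ProjectiveSpectrum.basicOpen 𝒜 f)) from t)
    have hvm : v m ∈ ℳ₃ i := hv i m hm
    obtain ⟨N, hN⟩ := Groth.Agent.Lib.GrModFrac.exists_pow_smul_eq_zero 𝒜 ℳ₃ hd hf k i ⟨v m, hvm⟩ (by
      intro x
      have h1 := GrMod.map_app_val v hv n (Proj.basicOpen 𝒜 f) t x
      rw [ht] at h1
      have h2 : GrMod.val t x = LocalizedModule.mk m ⟨f ^ k, hpow x k⟩ := hval x (hpow x k)
      rw [h2, GrMod.locMap_mk] at h1
      exact h1.symm.trans (Groth.Agent.Lib.GrModVal.val_zero x))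
    have hN' : v (f ^ N • m) = 0 := by rw [LinearMap.map_smul]; exact hN
    obtain ⟨m₁, hm₁⟩ := (hex _).mp hN'
    have e2 : f ^ N ∈ 𝒜 (N • d) := SetLike.pow_mem_graded N hf
    have e3 : f ^ N • m ∈ ℳ₂ (N • d + i) := SetLike.GradedSMul.smul_mem e2 hm
    have hum₁ : u (DirectSum.decompose ℳ₁ m₁ (N • d + i) : M₁) = f ^ N • m := by
      have e := Groth.Agent.Lib.RelTildeVal2.map_decompose (ℳ := ℳ₁) (𝒩 := ℳ₂) u.toAddMonoidHom hu m₁ (N • d + i)
      change u _ = (DirectSum.decompose ℳ₂ (u m₁) (N • d + i) : M₂) at e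
      rw [e, hm₁, DirectSum.decompose_of_mem_same _ e3]
    have e4 : f ^ (N + k) ∈ 𝒜 ((N + k) • d) := SetLike.pow_mem_graded (N + k) hf
    refine ⟨Groth.Agent.Lib.GrModVal.fracSec n (DirectSum.decompose ℳ₁ m₁ (N • d + i)) ⟨f ^ (N + k), e4⟩
      (by simp only [smul_eq_mul]; push_cast; rw [hdeg]; ring) (Proj.basicOpen 𝒜 f) (fun x => hpow x (N + k)), ?_⟩
    refine Groth.Agent.Lib.GrModVal.sec_ext _ _ fun x => ?_
    rw [GrMod.map_app_val, Groth.Agent.Lib.GrModVal.fracSec_val, GrMod.locMap_mk, hum₁]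
    have h2 : GrMod.val t x = LocalizedModule.mk m ⟨f ^ k, hpow x k⟩ := hval x (hpow x k)
    rw [h2]
    have h3 := LocalizedModule.mk_cancel_common_left
      (⟨f ^ N, hpow x N⟩ : x.1.asHomogeneousIdeal.toIdeal.primeCompl) ⟨f ^ k, hpow x k⟩ m
    refine Eq.trans ?_ h3
    congr 1
    exact Subtype.ext (pow_add f N k)
  · rintro ⟨x, rfl⟩
    refine Groth.Agent.Lib.GrModVal.eq_zero_of_val _ fun y => ?_
    rw [GrMod.map_app_val, GrMod.map_app_val]
    induction GrMod.val x y using LocalizedModule.induction_on with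
    | h m s =>
      rw [GrMod.locMap_mk, GrMod.locMap_mk, hex.apply_apply_eq_zero, LocalizedModule.zero_mk]

end Groth.Agent.S8338
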