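import Groth.Statements.S8339
import Groth.Agent.Lib.GrModFrac
import Groth.Agent.Lib.RelTildeVal2
import Groth.Agent.Lib.IdealMod2

set_option autoImplicit false
universe u
open CategoryTheory CategoryTheory.Limits AlgebraicGeometry Opposite TopologicalSpace
open scoped HomogeneousIdeal
noncomputable section
open EGA2

namespace Groth.Agent.S8339

open Groth.Agent.Lib.GrModVal Groth.Agent.Lib.GrModFrac

/-- The basic opens of homogeneous elements of positive degree form a basis of `Proj`. -/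
theorem isBasis_pos {A σ : Type u} [CommRing A] [SetLike σ A] [AddSubgroupClass σ A] (𝒜 : ℕ → σ) [GradedRing 𝒜] :
    Opens.IsBasis (Set.range (fun p : {p : A × ℕ // 0 < p.2 ∧ p.1 ∈ 𝒜 p.2} => Proj.basicOpen 𝒜 p.1.1)) := by
  rw [Opens.isBasis_iff_nbhd]
  intro U x hx
  obtain ⟨_, ⟨r, rfl⟩, hxr, hrU⟩ :=
    (ProjectiveSpectrum.isTopologicalBasis_basic_opens 𝒜).exists_subset_of_mem_open hx U.2
  have hxr' : r ∉ (show ProjectiveSpectrum 𝒜 from x).asHomogeneousIdeal := hxr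
  obtain ⟨e, hxe'⟩ := exists_decompose_notMem (𝒜 := 𝒜) x hxr'
  obtain ⟨d, hd, h, hh⟩ := exists_pos_notMem (𝒜 := 𝒜) x
  refine ⟨_, ⟨⟨((h : A) * (DirectSum.decompose 𝒜 r e : A), d + e), by omega,
    SetLike.mul_mem_graded h.2 (DirectSum.decompose 𝒜 r e).2⟩, rfl⟩, ?_, ?_⟩
  · refine (Proj.mem_basicOpen 𝒜 _ x).mpr ?_
    intro hmem
    rcases (show ProjectiveSpectrum 𝒜 from x).isPrime.mem_or_mem hmem with h1 | h1
    · exact hh h1
    · exact hxe' h1
  · intro z hz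
    have hz' := (Proj.mem_basicOpen 𝒜 _ z).mp hz
    apply hrU
    change r ∉ (show ProjectiveSpectrum 𝒜 from z).asHomogeneousIdeal
    intro hr
    exact hz' (Ideal.mul_mem_left _ _ ((show ProjectiveSpectrum 𝒜 from z).asHomogeneousIdeal.isHomogeneous e hr))

/-- A bijective degree-preserving additive map between decomposed groups reflects degrees. -/
theorem mem_of_map_mem {M τ : Type u} [AddCommGroup M] [SetLike τ M] [AddSubgroupClass τ M] {ℳ : ℕ → τ}
    [DirectSum.Decomposition ℳ] {N τ' : Type u} [AddCommGroup N] [SetLike τ' N] [AddSubgroupClass τ' N] {𝒩 : ℕ → τ'}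
    [DirectSum.Decomposition 𝒩] (v : M →+ N) (hv : ∀ (i : ℕ) (m : M), m ∈ ℳ i → v m ∈ 𝒩 i)
    (hinj : Function.Injective v) {i : ℕ} {m : M} (hm : v m ∈ 𝒩 i) : m ∈ ℳ i := by
  have e := Groth.Agent.Lib.RelTildeVal2.map_decompose (ℳ := ℳ) (𝒩 := 𝒩) v hv m i
  rw [DirectSum.decompose_of_mem_same _ hm] at e
  have := hinj e
  rw [← this]
  exact (DirectSum.decompose ℳ m i).2

/-- Let ψ : S' → S be a homomorphism of graded rings with S_+ contained in the ideal generated by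
ψ(S'_+), so that Φ : Proj S → Proj S' is everywhere defined, and let N be a graded S-module. If M is
the graded S'-module obtained from N by restriction of scalars along ψ — given here as any graded
S'-module with a degree-preserving bijective ψ-semilinear map v : M → N — then the canonical
morphism M(n)~ → Φ_*(N(n)~), m/f ↦ v(m)/ψ(f), is an isomorphism for every integer n. (The published
statement is over the open G(ψ) where Φ is defined; the hypothesis on irrelevant ideals used here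
forces G(ψ) = Proj S. For v not bijective this morphism is not an isomorphism in general. Gradings
by additive subgroups; modules graded in non-negative degrees.) -/
theorem result {A σ : Type u} [CommRing A] [SetLike σ A] [AddSubgroupClass σ A] {𝒜 : ℕ → σ}
    [GradedRing 𝒜] {B σ' : Type u} [CommRing B] [SetLike σ' B] [AddSubgroupClass σ' B] {ℬ : ℕ → σ'} [GradedRing ℬ]
    (ψ : 𝒜 →+*ᵍ ℬ) (hψ : ℬ₊ ≤ (𝒜₊).map ψ)
    {M τ : Type u} [AddCommGroup M] [Module A M] [SetLike τ M] [AddSubgroupClass τ M] (ℳ : ℕ → τ)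
    [SetLike.GradedSMul 𝒜 ℳ] [DirectSum.Decomposition ℳ]
    {N τ' : Type u} [AddCommGroup N] [Module B N] [SetLike τ' N] [AddSubgroupClass τ' N] (𝒩 : ℕ → τ')
    [SetLike.GradedSMul ℬ 𝒩] [DirectSum.Decomposition 𝒩]
    (v : M →ₛₗ[ψ.toRingHom] N) (hv : ∀ (i : ℕ) (m : M), m ∈ ℳ i → v m ∈ 𝒩 i) (hbij : Function.Bijective v)
    (n : ℤ) : IsIso (GrMod.comap ψ hψ v hv n) := by
  classical
  refine Groth.Agent.Lib.IdealMod.isIso_of_bijective_on_basis _ _ (isBasis_pos 𝒜) ?_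
  rintro ⟨⟨a, d⟩, hd, ha⟩
  change 0 < d at hd
  change a ∈ 𝒜 d at ha
  -- points of the preimage
  have hpre : ∀ y : ProjectiveSpectrum ℬ,
      y ∈ (Proj.map ψ hψ ⁻¹ᵁ Proj.basicOpen 𝒜 a : (Proj ℬ).Opens) ↔ ψ a ∉ y.asHomogeneousIdeal := by
    intro y
    exact (Proj.mem_basicOpen 𝒜 a (ProjectiveSpectrum.comap ψ hψ y)).trans Iff.rfl
  have hψa : ψ a ∈ ℬ d := ψ.map_mem ha
  have hpowA : ∀ (x : Proj.basicOpen 𝒜 a) (k : ℕ), a ^ k ∉ x.1.asHomogeneousIdeal :=
    fun x k h => (Proj.mem_basicOpen 𝒜 a x.1).mp x.2 (x.1.isPrime.mem_of_pow_mem k h)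
  have hpowB : ∀ (y : ProjectiveSpectrum ℬ) (_ : ψ a ∉ y.asHomogeneousIdeal) (k : ℕ),
      (ψ a) ^ k ∉ y.asHomogeneousIdeal :=
    fun y hy k h => hy (y.isPrime.mem_of_pow_mem k h)
  have hle : (Proj.basicOpen ℬ (ψ a) : (Proj ℬ).Opens) ≤ Proj.map ψ hψ ⁻¹ᵁ Proj.basicOpen 𝒜 a :=
    fun y hy => (hpre y).mpr ((Proj.mem_basicOpen ℬ _ y).mp hy)
  change Function.Bijective ((GrMod.comap ψ hψ v hv n).app (Proj.basicOpen 𝒜 a))
  constructor
  · rw [injective_iff_map_eq_zero]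
    intro s hs
    obtain ⟨k, i, m, hm, hdeg, hval⟩ := exists_frac (ℳ := ℳ) ha hd
      (show GrMod.sect 𝒜 ℳ n (op (ProjectiveSpectrum.basicOpen 𝒜 a)) from s)
    obtain ⟨N, hN⟩ := exists_pow_smul_eq_zero ℬ 𝒩 hd hψa k i ⟨v m, hv i m hm⟩ (by
      intro y
      have hy : ψ a ∉ y.1.asHomogeneousIdeal := (ProjectiveSpectrum.mem_basicOpen ℬ _ y.1).mp y.2
      have h1 := GrMod.comap_app_val ψ hψ v hv n (Proj.basicOpen 𝒜 a) s ⟨y.1, (hpre y.1).mpr hy⟩
      rw [hs] at h1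
      have h2 : GrMod.val s ⟨ProjectiveSpectrum.comap ψ hψ y.1, (hpre y.1).mpr hy⟩ =
          LocalizedModule.mk m ⟨a ^ k, hpowA ⟨_, (hpre y.1).mpr hy⟩ k⟩ := hval _ _
      rw [h2, GrMod.locModMap_mk] at h1
      refine Eq.trans ?_ (h1.symm.trans (val_zero _))
      congr 1
      exact Subtype.ext (map_pow ψ a k).symm)
    have hN' : v (a ^ N • m) = 0 := by
      rw [LinearMap.map_smulₛₗ, map_pow]
      exact hN
    have hN'' : a ^ N • m = 0 := hbij.1 (hN'.trans (map_zero v).symm)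
    refine eq_zero_of_val _ fun x => ?_
    have h2 : GrMod.val s x = LocalizedModule.mk m ⟨a ^ k, hpowA x k⟩ := hval x (hpowA x k)
    rw [h2, mk_eq_zero_iff]
    exact ⟨a ^ N, hpowA x N, hN''⟩
  · intro t
    let t' : Γ(GrMod.tilde ℬ 𝒩 n, Proj.basicOpen ℬ (ψ a)) :=
      (GrMod.tilde ℬ 𝒩 n).presheaf.map (homOfLE hle).op t
    obtain ⟨k, i, n', hn', hdeg, hval⟩ := exists_frac (ℳ := 𝒩) hψa hd
      (show GrMod.sect ℬ 𝒩 n (op (ProjectiveSpectrum.basicOpen ℬ (ψ a))) from t')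
    obtain ⟨m, rfl⟩ := hbij.2 n'
    have hm : m ∈ ℳ i := mem_of_map_mem (ℳ := ℳ) (𝒩 := 𝒩) v.toAddMonoidHom hv hbij.1 hn'
    have e4 : a ^ k ∈ 𝒜 (k • d) := SetLike.pow_mem_graded k ha
    refine ⟨fracSec n ⟨m, hm⟩ ⟨a ^ k, e4⟩ (by simp only [smul_eq_mul]; push_cast; rw [hdeg])
      (Proj.basicOpen 𝒜 a) (fun x => hpowA x k), ?_⟩
    refine sec_ext (V := Proj.map ψ hψ ⁻¹ᵁ Proj.basicOpen 𝒜 a) _ _ fun y => ?_
    have hy : ψ a ∉ y.1.asHomogeneousIdeal := (hpre y.1).mp y.2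
    rw [GrMod.comap_app_val, fracSec_val, GrMod.locModMap_mk]
    have h2 : GrMod.val t y = LocalizedModule.mk (v m) ⟨(ψ a) ^ k, hpowB y.1 hy k⟩ :=
      hval ⟨y.1, (Proj.mem_basicOpen ℬ _ y.1).mpr hy⟩ (hpowB y.1 hy k)
    rw [h2]
    congr 1
    exact Subtype.ext (map_pow ψ a k)

end Groth.Agent.S8339
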