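import Groth.Statements.S8342
import Groth.Agent.Lib.H60RelTwistGen
import Groth.Agent.Lib.H60LineAlg

set_option autoImplicit false
universe u
open CategoryTheory CategoryTheory.Limits AlgebraicGeometry Opposite TopologicalSpace
open scoped HomogeneousIdeal
noncomputable section
open EGA2

namespace Groth.Agent.S8342

open Groth.Agent.Lib.H90Invertible Groth.Agent.Lib.H78TensorGen Groth.Agent.Lib.H60GrTwist
  Groth.Agent.Lib.H60RelTwist Groth.Agent.Lib.H60RelTwistGen Groth.Agent.Lib.H78SecCoord GrTwist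

lemma isUnit_oval {A σ : Type u} [CommRing A] [SetLike σ A] [AddSubgroupClass σ A] {𝒜 : ℕ → σ}
    [GradedRing 𝒜] {U : (Proj 𝒜).Opens} {r : Γ(Proj 𝒜, U)} (hr : IsUnit r) (x : U) :
    IsUnit (oval r x) := by
  obtain ⟨u, rfl⟩ := hr
  refine IsUnit.of_mul_eq_one (oval (↑u⁻¹ : Γ(Proj 𝒜, U)) x) ?_
  rw [← oval_mul, Units.mul_inv, oval_one]

theorem main {Y P : Scheme.{u}} (𝒮 : RelProj.QCGrAlg Y) (p : P ⟶ Y)
    (chart : ∀ (U : Y.Opens) (hU : IsAffineOpen U), (((p ⁻¹ᵁ U : P.Opens) : Scheme.{u}) ≅ Proj (𝒮.deg U hU)))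
    (hP : RelProj.IsRelProj 𝒮 p chart) (hgen : 𝒮.IsGenDegOne) {d : ℕ}
    (f : 𝒮.presheaf.obj (op ⊤))
    (hf : ∀ (U : Y.Opens) (hU : IsAffineOpen U), fU f U ∈ 𝒮.deg U hU d)
    (Xf : P.Opens)
    (hXf : ∀ (U : Y.Opens) (hU : IsAffineOpen U),
      Xf ⊓ p ⁻¹ᵁ U =
        (p ⁻¹ᵁ U).ι ''ᵁ ((chart U hU).hom ⁻¹ᵁ
          Proj.basicOpen (𝒮.deg U hU) (fU f U)))
    (L : P.Modules)
    (lam : ∀ (U : Y.Opens) (hU : IsAffineOpen U),
      L ⟶ (Scheme.Modules.pushforward (RelProj.emb p chart U hU)).obj (GrTwist.twist (𝒮.deg U hU) (d : ℤ)))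
    (hL : RelProj.IsRelTwist 𝒮 p chart (d : ℤ) L lam) (s : Coh.structureModule P ⟶ L)
    (hs : ∀ (U : Y.Opens) (hU : IsAffineOpen U) (y : Proj (𝒮.deg U hU)),
      GrTwist.val (V := RelProj.emb p chart U hU ⁻¹ᵁ ⊤)
        ((lam U hU).app ⊤ (sec s)) ⟨y, Set.mem_univ _⟩ =
        Localization.mk (fU f U) 1) :
    Xf = CohB1.genLocus L s := by
  classical
  obtain ⟨g, hg, hgv⟩ := exists_glued 𝒮 p chart hP f hf Xf hXf 1 (d : ℤ) (one_mul _).symm L lam hL
  have he : ∀ (U : Y.Opens) (hU : IsAffineOpen U),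
      RelProj.emb p chart U hU ⁻¹ᵁ (Xf ⊓ p ⁻¹ᵁ U) = Proj.basicOpen (𝒮.deg U hU) (fU f U) := by
    intro U hU
    rw [hXf U hU]
    exact emb_preimage U hU _
  have hsv : ∀ (U : Y.Opens) (hU : IsAffineOpen U) (W : P.Opens)
      (y : ↥(RelProj.emb p chart U hU ⁻¹ᵁ W)),
      sval (lamS lam U hU W (rs L le_top (sec s))) y = Localization.mk (fU f U) 1 := by
    intro U hU W y
    rw [lamS_rs, sval_map]
    exact hs U hU y.1
  have haff : ∀ x : P, ∃ (U : Y.Opens), IsAffineOpen U ∧ p.base x ∈ U := by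
    intro x
    obtain ⟨_, ⟨U, hU, rfl⟩, hxU, -⟩ := Y.isBasis_affineOpens.exists_subset_of_mem_open
      (Set.mem_univ (p.base x)) isOpen_univ
    exact ⟨U, hU, hxU⟩
  apply le_antisymm
  · intro x hx
    rw [mem_genLocus_iff]
    refine ⟨Xf, hx, ?_⟩
    have h1 : rs L le_top (sec s) = g := by
      refine Groth.Agent.Lib.H78TensorGen.sec_ext L _ _ (fun x hx => ?_)
      obtain ⟨U, hU, hxU⟩ := haff x
      refine ⟨Xf ⊓ p ⁻¹ᵁ U, inf_le_left, ⟨hx, hxU⟩, ?_⟩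
      apply (lamS_bijective hL U hU _ inf_le_right).1
      apply Groth.Agent.Lib.H60GrTwist.sec_ext
      intro y
      have hfy : fU f U ∉ y.1.asHomogeneousIdeal := (he U hU).le y.2
      rw [hgv U hU y hfy, rs_rs, hsv, zpow_one, fUnit_val]
    rw [h1]
    exact hg
  · intro x hx
    obtain ⟨V, hxV, hV⟩ := (mem_genLocus_iff s x).1 hx
    obtain ⟨U, hU, hxU⟩ := haff x
    have hxr : x ∈ (RelProj.emb p chart U hU).opensRange := by
      rw [opensRange_emb]; exact hxU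
    obtain ⟨y, rfl⟩ := hxr
    obtain ⟨a, ha1, hay⟩ := Groth.Agent.Lib.H60LineAlg.exists_deg_one_notMem (𝒮.deg U hU)
      (hgen U hU) y
    let D : (Proj (𝒮.deg U hU)).Opens :=
      Proj.basicOpen (𝒮.deg U hU) a ⊓ RelProj.emb p chart U hU ⁻¹ᵁ V
    have hyD : y ∈ D := ⟨hay, hxV⟩
    obtain ⟨t, ht, htv⟩ := exists_gen_val ha1 (d : ℤ) (d : ℤ) (by simp) D (fun x => x.2.1)
    have hW₁ : RelProj.emb p chart U hU ''ᵁ D ≤ p ⁻¹ᵁ U := by
      rw [← opensRange_emb (chart := chart)]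
      exact (RelProj.emb p chart U hU).image_le_opensRange D
    have heq : RelProj.emb p chart U hU ⁻¹ᵁ (RelProj.emb p chart U hU ''ᵁ D) = D :=
      (RelProj.emb p chart U hU).preimage_image_eq D
    obtain ⟨e₁, he₁⟩ := (lamS_bijective hL U hU _ hW₁).2
      (rs (GrTwist.twist (𝒮.deg U hU) (d : ℤ)) heq.le t)
    have hgen₁ : IsGen L (RelProj.emb p chart U hU ''ᵁ D) e₁ :=
      isGen_of_lamS hL U hU _ hW₁ e₁ (by rw [he₁]; exact ht.mono heq.le)
    have hW₁V : RelProj.emb p chart U hU ''ᵁ D ≤ V := by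
      rintro _ ⟨z, hz, rfl⟩
      exact hz.2
    have hV₁ : IsGen L _ (rs L hW₁V (rs L le_top (sec s))) := hV.mono hW₁V
    have hc := coord_spec hgen₁ le_rfl (rs L hW₁V (rs L le_top (sec s)))
    rw [rs_self] at hc
    have hcu : IsUnit (coord hgen₁ le_rfl (rs L hW₁V (rs L le_top (sec s)))) := by
      rw [← hc] at hV₁
      exact (isGen_smul_iff hgen₁ _).1 hV₁
    have hy₁ : y ∈ RelProj.emb p chart U hU ⁻¹ᵁ (RelProj.emb p chart U hU ''ᵁ D) :=
      heq.ge hyD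
    have h2 := congrArg (fun σ => sval (lamS lam U hU _ σ) ⟨y, hy₁⟩) hc
    simp only [] at h2
    have hsv2 : sval (lamS lam U hU _ (rs L hW₁V (rs L le_top (sec s)))) ⟨y, hy₁⟩ =
        Localization.mk (fU f U) 1 := by
      rw [rs_rs]
      exact hsv U hU _ _
    rw [lamS_smul, sval_smul, he₁, sval_map, htv, hsv2] at h2
    have hu : IsUnit (Localization.mk (fU f U) 1 : Loc (𝒮.deg U hU) y) := by
      rw [← h2]
      exact (isUnit_oval (hcu.map ((RelProj.emb p chart U hU).app _).hom) ⟨y, hy₁⟩).mul (Units.isUnit _)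
    have hfy : fU f U ∉ y.asHomogeneousIdeal := by
      rw [Localization.mk_one_eq_algebraMap] at hu
      exact (IsLocalization.AtPrime.isUnit_to_map_iff _ y.asHomogeneousIdeal.toIdeal _).mp hu
    have h3 : y ∈ RelProj.emb p chart U hU ⁻¹ᵁ (Xf ⊓ p ⁻¹ᵁ U) := (he U hU).ge hfy
    exact h3.1


/-- Let 𝒮 be a quasi-coherent positively graded O_Y-algebra generated by 𝒮_1, P = Proj(𝒮), and f a
global section of 𝒮 of degree d > 0. Then the open X_f (chartwise D_+(f|U)) is the set of points of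
P where the global section α_d(f) of the invertible module O_P(d) does not vanish — here: X_f equals
the largest open over which the module map O_P → O_P(d) defined by α_d(f) is an isomorphism; O_P(d)
is given through its chartwise identifications and α_d(f) is pinned as the section reading f|U / 1
on every chart. -/
theorem result {Y P : Scheme.{u}} (𝒮 : RelProj.QCGrAlg Y) (p : P ⟶ Y)
    (chart : ∀ (U : Y.Opens) (hU : IsAffineOpen U), (((p ⁻¹ᵁ U : P.Opens) : Scheme.{u}) ≅ Proj (𝒮.deg U hU)))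
    (hP : RelProj.IsRelProj 𝒮 p chart) (hgen : 𝒮.IsGenDegOne) {d : ℕ} (hd : 0 < d)
    (f : 𝒮.presheaf.obj (op ⊤))
    (hf : ∀ (U : Y.Opens) (hU : IsAffineOpen U), (𝒮.presheaf.map (homOfLE le_top).op).hom f ∈ 𝒮.deg U hU d)
    (Xf : P.Opens)
    (hXf : ∀ (U : Y.Opens) (hU : IsAffineOpen U),
      Xf ⊓ p ⁻¹ᵁ U =
        (p ⁻¹ᵁ U).ι ''ᵁ ((chart U hU).hom ⁻¹ᵁ
          Proj.basicOpen (𝒮.deg U hU) ((𝒮.presheaf.map (homOfLE le_top).op).hom f)))
    (L : P.Modules)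
    (lam : ∀ (U : Y.Opens) (hU : IsAffineOpen U),
      L ⟶ (Scheme.Modules.pushforward (RelProj.emb p chart U hU)).obj (GrTwist.twist (𝒮.deg U hU) (d : ℤ)))
    (hL : RelProj.IsRelTwist 𝒮 p chart (d : ℤ) L lam) (s : Coh.structureModule P ⟶ L)
    (hs : ∀ (U : Y.Opens) (hU : IsAffineOpen U) (y : Proj (𝒮.deg U hU)),
      GrTwist.val (V := RelProj.emb p chart U hU ⁻¹ᵁ ⊤)
        ((lam U hU).app ⊤ (s.app ⊤ (show Γ(Coh.structureModule P, ⊤) from (1 : Γ(P, ⊤))))) ⟨y, Set.mem_univ _⟩ =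
        Localization.mk ((𝒮.presheaf.map (homOfLE le_top).op).hom f) 1) :
    Xf = CohB1.genLocus L s := by
  exact main 𝒮 p chart hP hgen f hf Xf hXf L lam hL s hs

end Groth.Agent.S8342
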