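import Groth.Statements.S8345

set_option autoImplicit false
universe u
open ConstrTop

namespace Groth.Agent.S8345

open TopologicalSpace

theorem fin_of_finite {X : Type u} (s : Set X) (P : Set X → Prop) (S : Set (Set X)) (hS : S.Finite)
    (hP : ∀ Z ∈ S, P Z) (hs : s = ⋃₀ S) :
    ∃ (n : ℕ) (Z : Fin n → Set X), (∀ i, P (Z i)) ∧ s = ⋃ i, Z i := by
  have : Finite S := hS
  obtain ⟨n, ⟨e⟩⟩ := Finite.exists_equiv_fin S
  refine ⟨n, fun i => (e.symm i).1, fun i => hP _ (e.symm i).2, ?_⟩
  rw [hs, Set.sUnion_eq_iUnion]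
  exact (e.symm.iSup_comp (g := fun Z : S => (Z : Set X))).symm

theorem aux {X : Type u} [TopologicalSpace X] [NoetherianSpace X] (s : Set X)
    (hs : Topology.IsConstructible s) :
    ∃ S : Set (Set X), S.Finite ∧ (∀ Z ∈ S, IsLocallyClosed Z) ∧ s = ⋃₀ S := by
  induction s, hs using BooleanSubalgebra.closure_sdiff_sup_induction with
  | isSublattice =>
    exact ⟨fun s hs t ht ↦ ⟨hs.1.union ht.1, hs.2.union ht.2⟩,
      fun s hs t ht ↦ ⟨hs.1.inter ht.1, hs.2.inter_isOpen ht.2 ht.1⟩⟩
  | bot_mem => exact ⟨isOpen_empty, .empty⟩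
  | top_mem => exact ⟨isOpen_univ, .univ⟩
  | sdiff U hU V hV =>
    refine ⟨{U \ V}, Set.finite_singleton _, ?_, by simp⟩
    intro Z hZ
    rw [Set.mem_singleton_iff] at hZ
    subst hZ
    exact ⟨U, Vᶜ, hU.1, hV.1.isClosed_compl, rfl⟩
  | sup s _ t _ hs' ht' =>
    obtain ⟨S, hS, hS', rfl⟩ := hs'
    obtain ⟨T, hT, hT', rfl⟩ := ht'
    refine ⟨S ∪ T, hS.union hT, ?_, by rw [Set.sUnion_union]; rfl⟩
    rintro Z (hZ | hZ)
    · exact hS' Z hZ
    · exact hT' Z hZ

open TopologicalSpace in
/-- Suppose X is a topological space that is Noetherian. Then a subset s of X is constructible exactly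
when s can be written as the union of finitely many locally closed subsets of X. -/
theorem result {X : Type u} [TopologicalSpace X]
    [NoetherianSpace X] (s : Set X) :
    Topology.IsConstructible s ↔
      ∃ (n : ℕ) (Z : Fin n → Set X), (∀ i, IsLocallyClosed (Z i)) ∧ s = ⋃ i, Z i := by
  constructor
  · intro hs
    obtain ⟨S, hS, hS', h⟩ := aux s hs
    exact fin_of_finite s IsLocallyClosed S hS hS' h
  · rintro ⟨n, Z, hZ, rfl⟩
    refine Topology.IsConstructible.iUnion fun i => ?_
    obtain ⟨U, C, hU, hC, h⟩ := hZ i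
    rw [h]
    have hret : ∀ V : Set X, IsOpen V → IsRetrocompact V := fun V _ W _ _ =>
      NoetherianSpace.isCompact _
    refine Topology.IsConstructible.inter ((hret U hU).isConstructible hU) ?_
    rw [← compl_compl C]
    exact ((hret _ hC.isOpen_compl).isConstructible hC.isOpen_compl).compl

end Groth.Agent.S8345
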