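import Groth.Statements.S8346
import Groth.Agent.S8344

set_option autoImplicit false
universe u
open ConstrTop

namespace Groth.Agent.S8346

open TopologicalSpace Topology Set.Notation

theorem isCompact_inter_of_basis {X : Type u} [TopologicalSpace X] {V T : Set X}
    (hVc : IsCompact V)
    (hT : IsConstructible (V ↓∩ T)) : IsCompact (V ∩ T) := by
  have h1 : IsRetrocompact (V ↓∩ T) := Groth.Agent.S8344.result hT
  have : CompactSpace V := isCompact_iff_compactSpace.mp hVc
  have h2 : IsCompact (V ↓∩ T) := by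
    have := h1 isCompact_univ isOpen_univ
    simpa using this
  have h3 := h2.image continuous_subtype_val
  rwa [Subtype.image_preimage_coe] at h3

open TopologicalSpace in
/-- Let X be a topological space admitting a basis of open subsets which are retrocompact in X. Then
every locally constructible subset T of X is retrocompact in X. -/
theorem result {X : Type u} [TopologicalSpace X]
    {B : Set (Set X)} (hB : IsTopologicalBasis B) (hBr : ∀ U ∈ B, IsRetrocompact U) {T : Set X}
    (hT : Topology.IsLocallyConstructible T) : IsRetrocompact T := by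
  intro W hWc hWo
  have key : ∀ x ∈ W, ∃ V, IsOpen V ∧ V ⊆ W ∧ x ∈ V ∧ IsCompact (V ∩ T) := by
    intro x hxW
    obtain ⟨U, hxU, hU, hUT⟩ := hT x
    obtain ⟨V, hVB, hxV, hVUW⟩ := hB.mem_nhds_iff.mp (Filter.inter_mem hxU (hWo.mem_nhds hxW))
    have hVo : IsOpen V := hB.isOpen hVB
    have hVr : IsRetrocompact V := hBr V hVB
    have hVU : V ⊆ U := hVUW.trans Set.inter_subset_left
    have hVW : V ⊆ W := hVUW.trans Set.inter_subset_right
    have hVc : IsCompact V := by
      have := hVr hWc hWo
      rwa [Set.inter_eq_left.mpr hVW] at this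
    have hemb : IsOpenEmbedding (Set.inclusion hVU) :=
      IsOpenEmbedding.id.restrict (fun _ h => hVU h) hVo
    have hVT : IsConstructible (V ↓∩ T) :=
      (hUT.preimage_of_isOpenEmbedding hemb :)
    exact ⟨V, hVo, hVW, hxV, isCompact_inter_of_basis hVc hVT⟩
  choose! V hVo hVW hxV hVT using key
  obtain ⟨σ, hσW, hσ⟩ := hWc.elim_nhds_subcover V
    (fun x hx => (hVo x hx).mem_nhds (hxV x hx))
  have : T ∩ W = ⋃ x ∈ σ, (V x ∩ T) := by
    apply subset_antisymm
    · rintro y ⟨hyT, hyW⟩
      obtain ⟨x, hxσ, hyx⟩ := Set.mem_iUnion₂.mp (hσ hyW)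
      exact Set.mem_iUnion₂.mpr ⟨x, hxσ, hyx, hyT⟩
    · refine Set.iUnion₂_subset fun x hx => ?_
      rintro y ⟨hyV, hyT⟩
      exact ⟨hyT, hVW x (hσW x hx) hyV⟩
  rw [this]
  exact σ.isCompact_biUnion fun x hx => hVT x (hσW x hx)

end Groth.Agent.S8346
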