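import Groth.Statements.S8347
import Groth.Agent.Lib.SpSeqPages

set_option autoImplicit false
universe v u
open CategoryTheory CategoryTheory.Limits
open SpSeq

namespace Groth.Agent.S8347

variable {C : Type u} [Category.{v} C] [Abelian C]

theorem eq_of_isZero_grPiece {X : C} (F : ℤ → Subobject X) (hF : Antitone F) (p : ℤ)
    (h : IsZero (SpSeq.grPiece F hF p)) : F (p + 1) = F p := by
  have hle : F (p + 1) ≤ F p := hF (Int.le_add_one le_rfl)
  refine le_antisymm hle ?_
  have : Epi ((F (p + 1)).ofLE (F p) hle) :=
    Abelian.epi_of_cokernel_π_eq_zero _ (h.eq_of_tgt _ _)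
  have : IsIso ((F (p + 1)).ofLE (F p) hle) := isIso_of_mono_of_epi _
  exact Subobject.le_of_comm (inv ((F (p + 1)).ofLE (F p) hle)) (by simp)

theorem nonempty_subquot_iso {X : C} (Z B : Subobject X) (h : B ≤ Z) (hZ : Z = ⊤) (hB : B = ⊥) :
    Nonempty (SpSeq.subquot Z B h ≅ X) := by
  subst hZ hB
  have h0 : (⊥ : Subobject X).ofLE ⊤ h = 0 :=
    zero_of_source_iso_zero _ Subobject.botCoeIsoZero
  exact ⟨cokernelIsoOfEq h0 ≪≫ cokernelZeroIsoTarget ≪≫ asIso (⊤ : Subobject X).arrow⟩

theorem main {r₀ : ℤ} (E : CohomologicalSpectralSequence C r₀) {H : ℤ → C}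
    (a : SpSeq.Abutment E H) (r : ℤ) (hr : r₀ ≤ r) (q : ℤ → ℤ)
    (hdeg : ∀ m q' : ℤ, q' ≠ q m → IsZero ((E.page r hr).X (m - q', q')))
    (pq : ℤ × ℤ) (hq : pq.2 = q (pq.1 + pq.2))
    (hdisc : (a.filObj (pq.1 + pq.2)).IsDiscrete) (hexh : a.IsExhaustive (pq.1 + pq.2))
    (hst : SpSeq.StationaryAt E pq r) :
    Nonempty (H (pq.1 + pq.2) ≅ (E.page r hr).X pq) := by
  set n := pq.1 + pq.2 with hn
  set F := a.fil n with hFdef
  have hF : Antitone F := a.anti n
  -- graded pieces vanish away from `pq.1`
  have hgr : ∀ p : ℤ, p ≠ pq.1 → F (p + 1) = F p := by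
    intro p hp
    apply eq_of_isZero_grPiece F hF
    have hq' : n - p ≠ q n := by
      intro h
      apply hp
      rw [← h] at hq
      lia
    have hz := hdeg n (n - p) hq'
    have := Groth.Agent.Lib.SpSeqPages.isZero_grPiece_of_isZero_page E r hr (n - (n - p), n - p) hz H a
    have e : (n - (n - p), n - p).1 + (n - (n - p), n - p).2 = n := by simp
    have e' : (n - (n - p), n - p).1 = p := by simp
    revert this
    generalize (n - (n - p), n - p).1 + (n - (n - p), n - p).2 = m at e
    subst e
    rw [e']
    exact id
  -- the step above `pq.1` is zero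
  have hbot : F (pq.1 + 1) = ⊥ := by
    obtain ⟨b, hb⟩ := hdisc
    have hconst : ∀ k : ℤ, pq.1 + 1 ≤ k → F k = F (pq.1 + 1) := by
      intro k hk
      induction k, hk using Int.leInduction with
      | base => rfl
      | succ k hk ih => rw [hgr k (by lia), ih]
    rcases le_total b (pq.1 + 1) with h | h
    · exact le_bot_iff.mp ((hF h).trans hb.le)
    · rw [← hconst b h]; exact hb
  -- the step at `pq.1` is everything
  have htop : F pq.1 = ⊤ := by
    have hconst : ∀ k : ℤ, k ≤ pq.1 → F k = F pq.1 := by
      intro k hk
      induction k, hk using Int.leInductionDown with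
      | base => rfl
      | pred k hk ih =>
        have := hgr (k - 1) (by lia)
        rw [sub_add_cancel] at this
        rw [← this, ih]
    apply top_le_iff.mp
    apply hexh.2
    rintro _ ⟨k, rfl⟩
    rcases le_total k pq.1 with h | h
    · exact (hconst k h).le
    · exact hF h
  obtain ⟨e1⟩ := nonempty_subquot_iso (F pq.1) (F (pq.1 + 1)) (hF (Int.le_add_one le_rfl)) htop hbot
  obtain ⟨e2⟩ := Groth.Agent.Lib.SpSeqPages.nonempty_iso_of_stationaryAt_of_stationaryAt E pq
    (a.rk pq) r (a.stat pq) hst
  exact ⟨e1.symm ≪≫ (a.β pq).symm ≪≫ e2⟩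

/-- Let E be a spectral sequence in an abelian category with abutment data (H^m), and suppose that for
some page r and every total degree m there is an integer q(m) such that E_r^{m-q,q} = 0 for every q
other than q(m). Let n be a total degree such that the filtration of H^n is discrete (some step is
zero) and exhaustive (H^n is the supremum of the steps), and such that the position (n - q(n), q(n))
is stationary from page r on. Then H^n is isomorphic to E_r^{n-q(n), q(n)}. (The published statement
asserts this without any condition on the differentials at the surviving positions; that version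
fails when a differential d_r links the surviving terms of two consecutive total degrees, for
instance a spectral sequence whose only nonzero page-2 terms are E_2^{0,1} and E_2^{2,0} with d_2 an
isomorphism between them and zero abutment. The stationarity assumed here is automatic when q(m)
does not depend on m and r ≥ 2.) -/
theorem result {C : Type u} [Category.{v} C] [Abelian C] {r₀ : ℤ}
    (E : CohomologicalSpectralSequence C r₀) {H : ℤ → C} (a : SpSeq.Abutment E H)
    (r : ℤ) (hr : r₀ ≤ r) (q : ℤ → ℤ)
    (hdeg : ∀ m q' : ℤ, q' ≠ q m → IsZero ((E.page r hr).X (m - q', q')))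
    (n : ℤ) (hdisc : (a.filObj n).IsDiscrete) (hexh : a.IsExhaustive n)
    (hst : SpSeq.StationaryAt E (n - q n, q n) r) :
    Nonempty (H n ≅ (E.page r hr).X (n - q n, q n)) := by
  have e : (n - q n, q n).1 + (n - q n, q n).2 = n := by simp
  have := main E a r hr q hdeg (n - q n, q n) (by simp) (by rw [e]; exact hdisc)
    (by rw [e]; exact hexh) hst
  rw [e] at this
  exact this

end Groth.Agent.S8347
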