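import Groth.Statements.S8348
import Mathlib.Algebra.Homology.Refinements
import Mathlib.Algebra.Homology.HomologicalComplexLimits
import Mathlib.CategoryTheory.Retract
-- import your own Groth.Agent.* helpers here

set_option autoImplicit false
universe v u
open CategoryTheory CategoryTheory.Limits
open HomAlg3

namespace Groth.Agent.S8348

/-- Let C be an abelian category and Q a cochain complex of objects of C in degrees 0, 1, 2, ... such
that every Q^i is injective, every homology object H^i(Q) with i ≥ 1 is zero, and every inclusion of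
the cycles Z^i(Q) into Q^i (i ≥ 0) is a split monomorphism. Then Q is an injective object of the
category of cochain complexes of C indexed by the natural numbers. (The published statement is for
the narrower class of complexes with Z^i(Q) = B^i(Q) for every i ≥ 0, which in degree 0, where there
is no incoming differential, forces Z^0(Q) = 0; this row allows a nonzero Z^0(Q), so that it pairs
with the embedding of an arbitrary complex into such a Q. Such a Q is the direct sum of Z^0(Q)
placed in degree 0 and of the two-term complexes with Z^{i+1}(Q) in degrees i and i+1 and the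
identity as differential, and the published argument carries over with Z^i(Q) in place of B^i(Q) as
the first summand of Q^i.) -/
theorem result {C : Type u} [Category.{v} C] [Abelian C]
    (Q : CochainComplex C ℕ) (hinj : ∀ i : ℕ, Injective (Q.X i)) (hac : ∀ i : ℕ, IsZero (Q.homology (i + 1)))
    (hsplit : ∀ i : ℕ, IsSplitMono (Q.iCycles i)) : Injective Q := by
  -- retractions of the cycle inclusions
  let r : ∀ i, Q.X i ⟶ Q.cycles i := fun i => @retraction _ _ _ _ (Q.iCycles i) (hsplit i)
  have hr : ∀ i, Q.iCycles i ≫ r i = 𝟙 _ := fun i => @IsSplitMono.id _ _ _ _ (Q.iCycles i) (hsplit i)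
  let t : ∀ i, Q.X i ⟶ Q.cycles (i + 1) := fun i => Q.toCycles i (i + 1)
  have ht : ∀ i, t i ≫ Q.iCycles (i + 1) = Q.d i (i + 1) := fun i => Q.toCycles_i i (i + 1)
  have hιt : ∀ i, Q.iCycles i ≫ t i = 0 := fun i => by
    rw [← cancel_mono (Q.iCycles (i + 1)), Category.assoc, ht, zero_comp, Q.iCycles_d]
  have epi_t : ∀ i, Epi (t i) := fun i =>
    Preadditive.epi_of_isZero_cokernel' _ (Q.homologyIsCokernel i (i + 1) (by simp)) (hac i)
  have hSex : ∀ i, (ShortComplex.mk (Q.iCycles i) (t i) (hιt i)).Exact := fun i => by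
    rw [ShortComplex.exact_iff_exact_up_to_refinements]
    intro A' x₂ hx₂
    have hx : x₂ ≫ Q.d i (i + 1) = 0 := by
      rw [← ht, ← Category.assoc]
      rw [show x₂ ≫ t i = 0 from hx₂, zero_comp]
    refine ⟨A', 𝟙 _, inferInstance, Q.liftCycles x₂ (i + 1) (by simp) hx, ?_⟩
    rw [Category.id_comp]
    exact (Q.liftCycles_i x₂ (i + 1) (by simp) hx).symm
  let sp : ∀ i, (ShortComplex.mk (Q.iCycles i) (t i) (hιt i)).Splitting := fun i =>
    ShortComplex.Splitting.ofExactOfRetraction _ (hSex i) (r i) (hr i) (epi_t i)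
  let σ : ∀ i, Q.cycles (i + 1) ⟶ Q.X i := fun i => (sp i).s
  have hσ : ∀ i, σ i ≫ t i = 𝟙 _ := fun i => (sp i).s_g
  have hid : ∀ i, r i ≫ Q.iCycles i + t i ≫ σ i = 𝟙 _ := fun i => (sp i).id
  have hZ : ∀ i, Injective (Q.cycles i) := fun i =>
    (Retract.mk (Q.iCycles i) (r i) (hr i)).injective
  -- the formula for chain maps into `Q`
  have key : ∀ {A : CochainComplex C ℕ} (g : A ⟶ Q) (i : ℕ),
      g.f i ≫ t i = A.d i (i + 1) ≫ g.f (i + 1) ≫ r (i + 1) := by
    intro A g i
    have h0 : A.d i (i + 1) ≫ g.f (i + 1) ≫ t (i + 1) = 0 := by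
      rw [← cancel_mono (Q.iCycles (i + 1 + 1)), Category.assoc, Category.assoc, ht, zero_comp,
        g.comm, ← Category.assoc, A.d_comp_d, zero_comp]
    rw [← cancel_mono (Q.iCycles (i + 1)), Category.assoc, ht, g.comm, Category.assoc,
      Category.assoc]
    have : r (i + 1) ≫ Q.iCycles (i + 1) = 𝟙 _ - t (i + 1) ≫ σ (i + 1) :=
      eq_sub_of_add_eq (hid (i + 1))
    rw [this, Preadditive.comp_sub, Preadditive.comp_sub, Category.comp_id, reassoc_of% h0,
      zero_comp, sub_zero]
  constructor
  intro A B g m hm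
  have hmono : ∀ i, Mono (m.f i) := fun i => inferInstance
  let u : ∀ i, B.X i ⟶ Q.cycles i := fun i => Injective.factorThru (g.f i ≫ r i) (m.f i)
  have hu : ∀ i, m.f i ≫ u i = g.f i ≫ r i := fun i => Injective.comp_factorThru _ _
  let h : B ⟶ Q :=
    { f := fun i => u i ≫ Q.iCycles i + B.d i (i + 1) ≫ u (i + 1) ≫ σ i
      comm' := by
        rintro i _ rfl
        rw [Preadditive.add_comp, Preadditive.comp_add, Category.assoc, Q.iCycles_d, comp_zero,
          zero_add, Category.assoc, Category.assoc, ← ht i, reassoc_of% (hσ i),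
          ← Category.assoc (B.d i (i + 1)), ← Category.assoc (B.d i (i + 1)), B.d_comp_d,
          zero_comp, add_zero, Category.assoc] }
  refine ⟨h, ?_⟩
  ext i
  change m.f i ≫ (u i ≫ Q.iCycles i + B.d i (i + 1) ≫ u (i + 1) ≫ σ i) = g.f i
  have k := key g i
  rw [Preadditive.comp_add, reassoc_of% (hu i), m.comm_assoc, reassoc_of% (hu (i + 1)),
    ← reassoc_of% k, ← Preadditive.comp_add, hid, Category.comp_id]

end Groth.Agent.S8348
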