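import Groth.Statements.S8352

set_option autoImplicit false
universe u
open CategoryTheory CategoryTheory.Limits Opposite
open HomAlg3

namespace Groth.Agent.S8352

theorem map_eq_of_thin (G : ℕᵒᵖ ⥤ Type u) {a b : ℕᵒᵖ} (f g : a ⟶ b) : G.map f = G.map g := by
  rw [Subsingleton.elim f g]

/-- A system over the natural numbers with surjective transition maps has a section through any
given element. -/
theorem exists_section_of_surjective (G : ℕᵒᵖ ⥤ Type u)
    (hsurj : ∀ (a b : ℕᵒᵖ) (f : a ⟶ b), Function.Surjective (G.map f)) (p : ℕ) (x : G.obj (op p)) :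
    ∃ s : G.sections, s.1 (op p) = x := by
  let t : ∀ n : ℕ, (op (p + (n + 1)) : ℕᵒᵖ) ⟶ op (p + n) := fun n => (homOfLE (Nat.le_succ (p + n))).op
  let y : ∀ n : ℕ, G.obj (op (p + n)) :=
    fun n => Nat.rec (motive := fun n => G.obj (op (p + n))) x
      (fun n yn => (hsurj _ _ (t n) yn).choose) n
  have hy : ∀ n, G.map (t n) (y (n + 1)) = y n := fun n => (hsurj _ _ (t n) (y n)).choose_spec
  have key : ∀ (m n n' : ℕ) (hnn' : n ≤ n') (h : m ≤ p + n) (h' : m ≤ p + n'),
      G.map (homOfLE h').op (y n') = G.map (homOfLE h).op (y n) := by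
    intro m n n' hnn'
    induction n', hnn' using Nat.le_induction with
    | base => intro h h'; rfl
    | succ n' hn' ih =>
      intro h h'
      have h'' : m ≤ p + n' := h.trans (by lia)
      rw [← ih h h'', ← hy n']
      have : (homOfLE h').op = t n' ≫ (homOfLE h'').op := Subsingleton.elim _ _
      rw [this, G.map_comp]
      rfl
  refine ⟨⟨fun j => G.map (homOfLE (Nat.le_add_left j.unop p)).op (y j.unop), ?_⟩, ?_⟩
  · intro j j' f
    have hle : j'.unop ≤ j.unop := leOfHom f.unop
    have e1 : G.map f (G.map (homOfLE (Nat.le_add_left j.unop p)).op (y j.unop)) =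
        G.map (homOfLE (hle.trans (Nat.le_add_left j.unop p))).op (y j.unop) := by
      have : (homOfLE (hle.trans (Nat.le_add_left j.unop p))).op =
          (homOfLE (Nat.le_add_left j.unop p)).op ≫ f := Subsingleton.elim _ _
      rw [this, G.map_comp]
      rfl
    rw [e1]
    exact key j'.unop j'.unop j.unop hle _ _
  · have := key p 0 p (Nat.zero_le p) (le_refl _) (Nat.le_add_left p p)
    change G.map (homOfLE (Nat.le_add_left p p)).op (y p) = x
    rw [this]
    have e : (homOfLE (le_refl (p + 0))).op = 𝟙 (op p : ℕᵒᵖ) := Subsingleton.elim _ _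
    rw [e]
    exact Functor.map_id_apply G (op p) x

/-- For a Mittag-Leffler system of abelian groups over the natural numbers, an element lying in
all the images of the transition maps comes from the limit. -/
theorem exists_limit_of_mem_ranges (F : ℕᵒᵖ ⥤ AddCommGrpCat.{u})
    (hF : (F ⋙ forget AddCommGrpCat).IsMittagLeffler) (p : ℕ) (x : F.obj (op p))
    (hx : ∀ (k : ℕ) (hk : p ≤ k), x ∈ (F.map (homOfLE hk).op).hom.range) :
    x ∈ (limit.π F (op p)).hom.range := by
  let G := F ⋙ forget AddCommGrpCat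
  have hxe : x ∈ G.eventualRange (op p) := by
    rw [Functor.mem_eventualRange_iff]
    intro i f
    obtain ⟨y, hy⟩ := hx i.unop (leOfHom f.unop)
    refine ⟨y, ?_⟩
    rw [← hy]
    have : f = (homOfLE (leOfHom f.unop)).op := Subsingleton.elim _ _
    rw [this]
    rfl
  obtain ⟨s, hs⟩ := exists_section_of_surjective G.toEventualRanges
    (fun a b f => Functor.surjective_toEventualRanges G hF f) p ⟨x, hxe⟩
  let s' : G.sections := G.toEventualRangesSectionsEquiv s
  refine ⟨(Types.isLimitEquivSections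
    (isLimitOfPreserves (forget AddCommGrpCat) (limit.isLimit F))).symm s', ?_⟩
  have := Types.isLimitEquivSections_symm_apply
    (isLimitOfPreserves (forget AddCommGrpCat) (limit.isLimit F)) s' (op p)
  refine this.trans ?_
  change (s.1 (op p)).1 = x
  rw [hs]

theorem mem_range_of_mem_range_limit (F : ℕᵒᵖ ⥤ AddCommGrpCat.{u}) (p k : ℕ) (hk : p ≤ k)
    (x : F.obj (op p)) (hx : x ∈ (limit.π F (op p)).hom.range) :
    x ∈ (F.map (homOfLE hk).op).hom.range := by
  obtain ⟨z, rfl⟩ := hx
  refine ⟨(limit.π F (op k)).hom z, ?_⟩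
  rw [← limit.w F (homOfLE hk).op]
  rfl

/-- Category of abelian groups, system indexed by the natural numbers: Let (A_k) be an inverse system of
abelian groups satisfying the Mittag-Leffler condition, A = lim A_k with projections π_p : A ⟶ A_p.
Filter A and each A_k by the kernels of the maps to A_{p-1} (with A_{-1} = 0); the graded piece
gr^p(A) is identified with Im(π_p) ∩ Ker(A_p ⟶ A_{p-1}) and gr^p(A_k), k ≥ p, with Im(A_k ⟶ A_p) ∩
Ker(A_p ⟶ A_{p-1}), a decreasing family of subgroups of A_p. The statement gr^p(A) ≅ lim_k gr^p(A_k)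
then reads: Im(π_0) = ⋂_k Im(A_k ⟶ A_0), and for every p, Im(π_{p+1}) ∩ Ker(A_{p+1} ⟶ A_p) = ⋂_{k ≥
p+1} (Im(A_k ⟶ A_{p+1}) ∩ Ker(A_{p+1} ⟶ A_p)). -/
theorem result (F : ℕᵒᵖ ⥤ AddCommGrpCat.{u})
    (hF : (F ⋙ forget AddCommGrpCat).IsMittagLeffler) :
    (limit.π F (op 0)).hom.range = ⨅ k : ℕ, (F.map (homOfLE (Nat.zero_le k)).op).hom.range ∧
      ∀ p : ℕ, (limit.π F (op (p + 1))).hom.range ⊓ (F.map (homOfLE (Nat.le_succ p)).op).hom.ker =
        ⨅ (k : ℕ) (hk : p + 1 ≤ k),
          (F.map (homOfLE hk).op).hom.range ⊓ (F.map (homOfLE (Nat.le_succ p)).op).hom.ker := by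
  constructor
  · apply le_antisymm
    · refine le_iInf fun k => ?_
      intro x hx
      exact mem_range_of_mem_range_limit F 0 k (Nat.zero_le k) x hx
    · intro x hx
      apply exists_limit_of_mem_ranges F hF 0 x
      intro k hk
      exact (AddSubgroup.mem_iInf.mp hx) k
  · intro p
    apply le_antisymm
    · refine le_iInf fun k => le_iInf fun hk => ?_
      rintro x ⟨hx1, hx2⟩
      exact ⟨mem_range_of_mem_range_limit F (p + 1) k hk x hx1, hx2⟩
    · intro x hx
      have hx' : ∀ (k : ℕ) (hk : p + 1 ≤ k), x ∈ (F.map (homOfLE hk).op).hom.range ⊓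
          (F.map (homOfLE (Nat.le_succ p)).op).hom.ker := fun k hk =>
        (AddSubgroup.mem_iInf.mp ((AddSubgroup.mem_iInf.mp hx) k)) hk
      refine ⟨?_, (hx' (p + 1) le_rfl).2⟩
      apply exists_limit_of_mem_ranges F hF (p + 1) x
      intro k hk
      exact (hx' k hk).1

end Groth.Agent.S8352
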