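import Groth.Statements.S8357
import Groth.Agent.Lib.LieSEpi
-- import your own Groth.Agent.* helpers here

set_option autoImplicit false
universe u
open CategoryTheory MonObj AlgebraicGeometry
open LieS

namespace Groth.Agent.S8357

open Groth.Agent.Lib.LieSEpi in
/-- `b ↦ b • v` as a monoid homomorphism from `Multiplicative B`. -/
noncomputable def smulHom (S : Scheme.{u}) (G : Over S) [GrpObj G] (B : Type u) [CommRing B]
    (f : Spec (CommRingCat.of B) ⟶ S) (v : LieS.Lie G B f) : Multiplicative B →* LieS.Lie G B f where
  toFun b := (Multiplicative.toAdd b) • v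
  map_one' := by
    apply Subtype.ext
    rw [smul_val]
    exact scale_zero_comp f G v.1 v.2
  map_mul' a b := by
    apply Subtype.ext
    rw [smul_val]
    exact scale_add_comp f G v.1 v.2 _ _


/-- For a group scheme G over a scheme S and an affine S-scheme T = Spec B, the map induced on
Lie(G/S)(T) by the n-th power map of G is multiplication by n; that is, for v in Lie(G/S)(T) and an
integer n, the n-th power of v in the group law inherited from G is the rescaling of v by the image
of n in B. -/
theorem result (S : Scheme.{u}) (G : Over S) [GrpObj G] (B : Type u) [CommRing B]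
    (f : Spec (CommRingCat.of B) ⟶ S) (v : LieS.Lie G B f) (n : ℤ) :
    v ^ n = ((n : B) • v : LieS.Lie G B f) := by
  have h1 : smulHom S G B f v (Multiplicative.ofAdd (1 : B)) = v := by
    apply Subtype.ext
    change (((1 : B) • v : LieS.Lie G B f)).1 = v.1
    rw [smul_val]
    exact Groth.Agent.Lib.LieSEpi.scale_one_comp f G v.1
  have h2 := map_zpow (smulHom S G B f v) (Multiplicative.ofAdd (1 : B)) n
  rw [h1] at h2
  rw [← h2]
  change ((Multiplicative.toAdd ((Multiplicative.ofAdd (1 : B)) ^ n)) • v : LieS.Lie G B f) = _
  congr 1
  simp

end Groth.Agent.S8357
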