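import Groth.Statements.S8358
import Groth.Agent.Lib.LieSEpi
-- import your own Groth.Agent.* helpers here

set_option autoImplicit false
universe u
open CategoryTheory MonObj AlgebraicGeometry
open LieS

namespace Groth.Agent.S8358

theorem mapMulEquiv_left {R S T : Type u} [CommRing R] [CommRing S] [CommRing T] [Bialgebra R S] [Algebra R T]
    (f : WithConv (S →ₐ[R] T)) :
    (Spec.mapMulEquiv f).left = Spec.map (CommRingCat.ofHom f.ofConv.toRingHom) := rfl

theorem dptIso_inv_left {R : Type u} [CommRing R] (B : Type u) [CommRing B] [Algebra R B] :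
    (LieS.dptIso (R := R) B).inv.left = 𝟙 (Spec (CommRingCat.of (DualNumber B))) := rfl

theorem dptIso_hom_left {R : Type u} [CommRing R] (B : Type u) [CommRing B] [Algebra R B] :
    (LieS.dptIso (R := R) B).hom.left = 𝟙 (Spec (CommRingCat.of (DualNumber B))) := rfl

variable (R : Type u) [CommRing R] (M : Type) [AddCommGroup M] (B : Type u) [CommRing B] [Algebra R B]

/-- the algebra map attached to a dual-number point of D(M) -/
noncomputable def chi (v : dpt B (Spec.map (CommRingCat.ofHom (algebraMap R B))) ⟶ Red.diag R M) :
    MonoidAlgebra R (Multiplicative M) →ₐ[R] DualNumber B :=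
  (Spec.mapMulEquiv.symm ((LieS.dptIso B).inv ≫ v)).ofConv

theorem chi_mul (v w : dpt B (Spec.map (CommRingCat.ofHom (algebraMap R B))) ⟶ Red.diag R M) :
    WithConv.toConv (chi R M B (v * w)) = WithConv.toConv (chi R M B v) * WithConv.toConv (chi R M B w) := by
  unfold chi
  rw [MonObj.comp_mul, map_mul]

theorem chi_one :
    WithConv.toConv (chi R M B 1) = 1 := by
  unfold chi
  rw [MonObj.comp_one, map_one]

theorem specMap_chi (v : dpt B (Spec.map (CommRingCat.ofHom (algebraMap R B))) ⟶ Red.diag R M) :
    Spec.map (CommRingCat.ofHom (chi R M B v).toRingHom) = v.left := by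
  have h := congrArg Over.Hom.left (Spec.mapMulEquiv.apply_symm_apply ((LieS.dptIso B).inv ≫ v))
  rw [mapMulEquiv_left, Over.comp_left, dptIso_inv_left] at h
  unfold chi
  rw [h]
  exact Category.id_comp _

theorem one_left :
    (1 : pt B (Spec.map (CommRingCat.ofHom (algebraMap R B))) ⟶ Red.diag R M).left =
      Spec.map (CommRingCat.ofHom ((algebraMap R B).comp
        (Bialgebra.counitAlgHom R (MonoidAlgebra R (Multiplicative M))).toRingHom)) := by
  rw [Hom.one_def, Over.comp_left, one_spec_asOver_spec_left, CommRingCat.ofHom_comp, Spec.map_comp]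
  rfl

theorem mem_iff (v : dpt B (Spec.map (CommRingCat.ofHom (algebraMap R B))) ⟶ Red.diag R M) :
    v ∈ LieS.LieR (Red.diag R M) B ↔
      ∀ a, (chi R M B v a).fst = algebraMap R B (Coalgebra.counit (R := R) a) := by
  rw [LieS.mem_Lie_iff]
  constructor
  · intro h
    have h1 := congrArg Over.Hom.left h
    rw [one_left, Over.comp_left, ← specMap_chi] at h1
    change Spec.map _ ≫ Spec.map _ = _ at h1
    rw [specMap_comp] at h1
    have h2 := Spec.map_injective h1
    intro a
    have h3 := congrArg (fun (φ : CommRingCat.of (MonoidAlgebra R (Multiplicative M)) ⟶ CommRingCat.of B) => φ.hom a) h2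
    exact h3
  · intro h
    apply Over.OverMorphism.ext
    rw [one_left, Over.comp_left, ← specMap_chi]
    change Spec.map _ ≫ Spec.map _ = _
    rw [specMap_comp]
    congr 2
    apply RingHom.ext
    intro a
    exact h a

omit [AddCommGroup M] in
theorem counit_single_one (m : Multiplicative M) :
    Coalgebra.counit (R := R) (MonoidAlgebra.single m (1 : R)) = 1 := by
  rw [MonoidAlgebra.counit_single]
  rfl

theorem chi_single_fst (v : LieS.LieR (Red.diag R M) B) (m : Multiplicative M) :
    (chi R M B v.1 (MonoidAlgebra.single m 1)).fst = 1 := by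
  rw [(mem_iff R M B v.1).1 v.2, counit_single_one, map_one]

/-- the additive map attached to an element of the Lie algebra -/
noncomputable def eFun (v : LieS.LieR (Red.diag R M) B) : M →+ B where
  toFun m := (chi R M B v.1 (MonoidAlgebra.single (Multiplicative.ofAdd m) 1)).snd
  map_zero' := by
    have : (MonoidAlgebra.single (Multiplicative.ofAdd (0 : M)) (1 : R)) = 1 := rfl
    rw [this, map_one]
    rfl
  map_add' m m' := by
    have : (MonoidAlgebra.single (Multiplicative.ofAdd (m + m')) (1 : R)) =
        MonoidAlgebra.single (Multiplicative.ofAdd m) 1 * MonoidAlgebra.single (Multiplicative.ofAdd m') 1 := by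
      rw [MonoidAlgebra.single_mul_single, _root_.one_mul]
      rfl
    rw [this, map_mul, TrivSqZeroExt.snd_mul, chi_single_fst, chi_single_fst]
    simp [add_comm]

omit [AddCommGroup M] in
theorem comul_single_one (m : Multiplicative M) :
    Coalgebra.comul (R := R) (MonoidAlgebra.single m (1 : R)) =
      MonoidAlgebra.single m (1 : R) ⊗ₜ[R] MonoidAlgebra.single m (1 : R) := by
  rw [MonoidAlgebra.comul_single]
  simp [CommSemiring.comul_apply]

theorem chi_mul_single (v w : dpt B (Spec.map (CommRingCat.ofHom (algebraMap R B))) ⟶ Red.diag R M)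
    (m : Multiplicative M) :
    chi R M B (v * w) (MonoidAlgebra.single m 1) =
      chi R M B v (MonoidAlgebra.single m 1) * chi R M B w (MonoidAlgebra.single m 1) := by
  have h := chi_mul R M B v w
  have h2 : chi R M B (v * w) (MonoidAlgebra.single m 1) =
      (WithConv.toConv (chi R M B v) * WithConv.toConv (chi R M B w)) (MonoidAlgebra.single m 1) := by
    rw [← h]
  rw [h2, AlgHom.convMul_apply, comul_single_one, Algebra.TensorProduct.lift_tmul]

theorem chi_one_single (m : Multiplicative M) :
    chi R M B 1 (MonoidAlgebra.single m 1) = 1 := by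
  have h := chi_one R M B
  have h2 : chi R M B 1 (MonoidAlgebra.single m 1) =
      (1 : WithConv (MonoidAlgebra R (Multiplicative M) →ₐ[R] DualNumber B)) (MonoidAlgebra.single m 1) := by
    rw [← h]
  rw [h2, AlgHom.convOne_apply, counit_single_one, map_one]

/-- the monoid homomorphism `Lie(D(M))(B) → Hom(M, B)`. -/
noncomputable def E : LieS.LieR (Red.diag R M) B →* Multiplicative (M →+ B) where
  toFun v := Multiplicative.ofAdd (eFun R M B v)
  map_one' := by
    apply congrArg Multiplicative.ofAdd
    apply AddMonoidHom.ext
    intro m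
    change (chi R M B (1 : LieS.LieR (Red.diag R M) B).1 (MonoidAlgebra.single (Multiplicative.ofAdd m) 1)).snd = 0
    rw [Subgroup.coe_one, chi_one_single]
    rfl
  map_mul' v w := by
    change Multiplicative.ofAdd _ = Multiplicative.ofAdd (eFun R M B v + eFun R M B w)
    apply congrArg Multiplicative.ofAdd
    apply AddMonoidHom.ext
    intro m
    change (chi R M B (v * w).1 (MonoidAlgebra.single (Multiplicative.ofAdd m) 1)).snd =
      (chi R M B v.1 (MonoidAlgebra.single (Multiplicative.ofAdd m) 1)).snd +
        (chi R M B w.1 (MonoidAlgebra.single (Multiplicative.ofAdd m) 1)).snd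
    rw [Subgroup.coe_mul, chi_mul_single, TrivSqZeroExt.snd_mul, chi_single_fst, chi_single_fst]
    simp [add_comm]

theorem E_injective : Function.Injective (E R M B) := by
  intro v w h
  have h1 : eFun R M B v = eFun R M B w := Multiplicative.ofAdd.injective h
  have h2 : chi R M B v.1 = chi R M B w.1 := by
    refine MonoidAlgebra.algHom_ext ?_ ?_
    · intro m
      apply TrivSqZeroExt.ext
      · rw [chi_single_fst, chi_single_fst]
      · exact DFunLike.congr_fun h1 (Multiplicative.toAdd m)
    · apply AlgHom.ext
      intro r
      have hr : MonoidAlgebra.singleOneAlgHom (R := R) (A := R) (M := Multiplicative M) r =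
          algebraMap R (MonoidAlgebra R (Multiplicative M)) r := rfl
      rw [AlgHom.comp_apply, AlgHom.comp_apply, hr, AlgHom.commutes, AlgHom.commutes]
  apply Subtype.ext
  apply Over.OverMorphism.ext
  rw [← specMap_chi, ← specMap_chi, h2]

/-- the character `m ↦ 1 + φ(m) ε`. -/
noncomputable def psi (φ : M →+ B) : Multiplicative M →* DualNumber B where
  toFun m := 1 + TrivSqZeroExt.inr (φ (Multiplicative.toAdd m))
  map_one' := by simp
  map_mul' m m' := by
    apply TrivSqZeroExt.ext <;> simp [add_comm]

/-- the point of `D(M)` attached to an additive map. -/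
noncomputable def pointOf (φ : M →+ B) :
    dpt B (Spec.map (CommRingCat.ofHom (algebraMap R B))) ⟶ Red.diag R M :=
  (LieS.dptIso B).hom ≫
    Spec.mapMulEquiv (WithConv.toConv (MonoidAlgebra.lift R (DualNumber B) (Multiplicative M) (psi M B φ)))

theorem chi_pointOf (φ : M →+ B) :
    chi R M B (pointOf R M B φ) = MonoidAlgebra.lift R (DualNumber B) (Multiplicative M) (psi M B φ) := by
  unfold chi pointOf
  rw [Iso.inv_hom_id_assoc, MulEquiv.symm_apply_apply]

theorem pointOf_mem (φ : M →+ B) : pointOf R M B φ ∈ LieS.LieR (Red.diag R M) B := by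
  rw [mem_iff, chi_pointOf]
  intro a
  have : (TrivSqZeroExt.fstHom B B B).toRingHom.comp
      (MonoidAlgebra.lift R (DualNumber B) (Multiplicative M) (psi M B φ)).toRingHom =
      (algebraMap R B).comp (Bialgebra.counitAlgHom R (MonoidAlgebra R (Multiplicative M))).toRingHom := by
    apply MonoidAlgebra.ringHom_ext
    · intro r
      simp [MonoidAlgebra.lift_single, Algebra.smul_def]
    · intro m
      simp [MonoidAlgebra.lift_single, psi]
  exact congrArg (fun f : MonoidAlgebra R (Multiplicative M) →+* B => f a) this

theorem E_surjective : Function.Surjective (E R M B) := by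
  intro φ
  refine ⟨⟨pointOf R M B (Multiplicative.toAdd φ), pointOf_mem R M B _⟩, ?_⟩
  apply congrArg Multiplicative.ofAdd
  apply AddMonoidHom.ext
  intro m
  change (chi R M B (pointOf R M B (Multiplicative.toAdd φ))
    (MonoidAlgebra.single (Multiplicative.ofAdd m) 1)).snd = _
  rw [chi_pointOf, MonoidAlgebra.lift_single, one_smul]
  simp [psi]
  rfl

theorem chi_scale (b : B) (v : dpt B (Spec.map (CommRingCat.ofHom (algebraMap R B))) ⟶ Red.diag R M) :
    (chi R M B (scale B (Spec.map (CommRingCat.ofHom (algebraMap R B))) b ≫ v)).toRingHom =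
      (scaleHom b).comp (chi R M B v).toRingHom := by
  have h1 : Spec.map (CommRingCat.ofHom
      (chi R M B (scale B (Spec.map (CommRingCat.ofHom (algebraMap R B))) b ≫ v)).toRingHom) =
      Spec.map (CommRingCat.ofHom ((scaleHom b).comp (chi R M B v).toRingHom)) := by
    rw [specMap_chi, Over.comp_left, ← specMap_chi R M B v, ← specMap_comp]
    rfl
  exact congrArg CommRingCat.Hom.hom (Spec.map_injective h1)

theorem snd_scaleHom (b : B) (y : DualNumber B) : (scaleHom b y).snd = b * y.snd := by
  simp [scaleHom, TrivSqZeroExt.algebraMap_eq_inl', mul_comm]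

theorem E_smul (b : B) (v : LieS.LieR (Red.diag R M) B) :
    E R M B (b • v) = Multiplicative.ofAdd (b • Multiplicative.toAdd (E R M B v)) := by
  apply congrArg Multiplicative.ofAdd
  apply AddMonoidHom.ext
  intro m
  change (chi R M B (b • v).1 (MonoidAlgebra.single (Multiplicative.ofAdd m) 1)).snd =
    b • (chi R M B v.1 (MonoidAlgebra.single (Multiplicative.ofAdd m) 1)).snd
  rw [LieS.smul_val]
  have h := congrArg (fun f : MonoidAlgebra R (Multiplicative M) →+* DualNumber B =>
    f (MonoidAlgebra.single (Multiplicative.ofAdd m) 1)) (chi_scale R M B b v.1)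
  have h' : chi R M B (scale B (Spec.map (CommRingCat.ofHom (algebraMap R B))) b ≫ v.1)
      (MonoidAlgebra.single (Multiplicative.ofAdd m) 1) =
      scaleHom b (chi R M B v.1 (MonoidAlgebra.single (Multiplicative.ofAdd m) 1)) := h
  rw [h', snd_scaleHom, smul_eq_mul]


/-- First isomorphism: over an affine base: for a commutative ring R, a commutative group M, the
diagonalisable group D(M) = Spec R[M] over Spec R and a commutative R-algebra B, the group
Lie(D(M))(Spec B) is identified with the additive group Hom(M, B) of group homomorphisms: there is a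
multiplicative isomorphism which sends a point v of D(M) with values in B[ε], read as an R-algebra
homomorphism from R[M] to B[ε], to the homomorphism m ↦ (ε-coefficient of the image of m), and which
carries the rescaling action of b in B to multiplication of homomorphisms by b. -/
theorem result (R : Type u) [CommRing R] (M : Type) [AddCommGroup M]
    (B : Type u) [CommRing B] [Algebra R B] :
    ∃ e : LieS.LieR (Red.diag R M) B ≃* Multiplicative (M →+ B),
      (∀ (v : LieS.LieR (Red.diag R M) B) (m : M),
        Multiplicative.toAdd (e v) m =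
          TrivSqZeroExt.snd (((Spec.mapMulEquiv.symm ((LieS.dptIso B).inv ≫ v.1)).ofConv :
            MonoidAlgebra R (Multiplicative M) →ₐ[R] DualNumber B)
            (MonoidAlgebra.single (Multiplicative.ofAdd m) 1))) ∧
      ∀ (b : B) (v : LieS.LieR (Red.diag R M) B),
        e (b • v) = Multiplicative.ofAdd (b • Multiplicative.toAdd (e v)) := by
  refine ⟨MulEquiv.ofBijective (E R M B) ⟨E_injective R M B, E_surjective R M B⟩, ?_, ?_⟩
  · intro v m
    rfl
  · intro b v
    exact E_smul R M B b v

end Groth.Agent.S8358
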