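import Groth.Statements.S8364
-- import your own Groth.Agent.* helpers here

set_option autoImplicit false
universe u
open SGA3

namespace Groth.Agent.S8364

theorem smul_eq_zero_of_mem {R A : Type u} [CommRing R] [CommRing A] [Algebra R A]
    (J : Ideal R) (hJ : J * J = ⊥) {j : R} (hj : j ∈ J) {y : A}
    (hy : y ∈ Ideal.map (algebraMap R A) J) : j • y = 0 := by
  have hy' : y ∈ (J • ⊤ : Submodule R A) := by
    rw [Ideal.smul_top_eq_map]; exact hy
  refine Submodule.smul_induction_on hy' ?_ ?_
  · intro r hr n _
    rw [← mul_smul]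
    have : j * r ∈ J * J := Ideal.mul_mem_mul hj hr
    rw [hJ] at this
    rw [(Submodule.mem_bot R).1 this, zero_smul]
  · intro x y hx hy
    rw [smul_add, hx, hy, add_zero]

theorem bijective_of_sub_mem {R A : Type u} [CommRing R] [CommRing A] [Algebra R A]
    (J : Ideal R) (hJ : J * J = ⊥) (u : A →ₐ[R] A)
    (hu : ∀ x, u x - x ∈ Ideal.map (algebraMap R A) J) : Function.Bijective u := by
  -- d = u - 1 kills I
  have hd : ∀ y ∈ Ideal.map (algebraMap R A) J, u y - y = 0 := by
    intro y hy
    have hy' : y ∈ (J • ⊤ : Submodule R A) := by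
      rw [Ideal.smul_top_eq_map]; exact hy
    refine Submodule.smul_induction_on hy' ?_ ?_
    · intro r hr n _
      rw [map_smul, ← smul_sub]
      exact smul_eq_zero_of_mem J hJ hr (hu n)
    · intro x y hx hy
      rw [map_add]
      have : u x + u y - (x + y) = (u x - x) + (u y - y) := by ring
      rw [this, hx, hy, add_zero]
  -- so u (u x - x) = u x - x
  have h2 : ∀ x, u (u x - x) = u x - x := fun x => sub_eq_zero.1 (hd _ (hu x))
  constructor
  · intro x y hxy
    have hx := h2 x
    have hy := h2 y
    rw [map_sub] at hx hy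
    -- u (u x) - u x = u x - x ; so x = 2 u x - u (u x)
    have ex : x = u x + u x - u (u x) := by linear_combination hx
    have ey : y = u y + u y - u (u y) := by linear_combination hy
    rw [ex, ey, hxy]
  · intro y
    refine ⟨y + y - u y, ?_⟩
    have hy := h2 y
    rw [map_sub] at hy
    rw [map_sub, map_add]
    linear_combination (-1 : A) * hy


/-- For a commutative ring R, an ideal J of R of square zero, a smooth R-algebra A and the extended
ideal I = J·A, every R-algebra automorphism of A/I lifts to an R-algebra automorphism of A. (The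
published statement concerns the automorphism functor of a smooth affine S-scheme E and affine test
schemes Y; this row is the case Y = S = Spec R, E = Spec A, which gives the general one after
replacing R by the ring of Y.) -/
theorem result (R A : Type u) [CommRing R] [CommRing A] [Algebra R A]
    [Algebra.Smooth R A] (J : Ideal R) (hJ : J * J = ⊥)
    (φ₀ : (A ⧸ Ideal.map (algebraMap R A) J) ≃ₐ[R] (A ⧸ Ideal.map (algebraMap R A) J)) :
    ∃ φ : A ≃ₐ[R] A,
      (Ideal.Quotient.mkₐ R (Ideal.map (algebraMap R A) J)).comp φ.toAlgHom =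
        φ₀.toAlgHom.comp (Ideal.Quotient.mkₐ R (Ideal.map (algebraMap R A) J)) := by
  have hI2 : (Ideal.map (algebraMap R A) J) ^ 2 = ⊥ := by
    rw [pow_two, ← Ideal.map_mul, hJ, Ideal.map_bot]
  have hnil : IsNilpotent (Ideal.map (algebraMap R A) J) := ⟨2, hI2⟩
  have : Algebra.FormallySmooth R A := Algebra.Smooth.formallySmooth
  let φ : A →ₐ[R] A := Algebra.FormallySmooth.lift (Ideal.map (algebraMap R A) J) hnil
    (φ₀.toAlgHom.comp (Ideal.Quotient.mkₐ R (Ideal.map (algebraMap R A) J)))
  let ψ : A →ₐ[R] A := Algebra.FormallySmooth.lift (Ideal.map (algebraMap R A) J) hnil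
    (φ₀.symm.toAlgHom.comp (Ideal.Quotient.mkₐ R (Ideal.map (algebraMap R A) J)))
  have hφ : ∀ x, Ideal.Quotient.mk (Ideal.map (algebraMap R A) J) (φ x) =
      φ₀ (Ideal.Quotient.mk (Ideal.map (algebraMap R A) J) x) := fun x => by
    simp [φ]
  have hψ : ∀ x, Ideal.Quotient.mk (Ideal.map (algebraMap R A) J) (ψ x) =
      φ₀.symm (Ideal.Quotient.mk (Ideal.map (algebraMap R A) J) x) := fun x => by
    simp [ψ]
  have h1 : Function.Bijective (φ.comp ψ) := by
    apply bijective_of_sub_mem J hJ
    intro x
    rw [← Ideal.Quotient.eq]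
    simp [hφ, hψ]
  have h2 : Function.Bijective (ψ.comp φ) := by
    apply bijective_of_sub_mem J hJ
    intro x
    rw [← Ideal.Quotient.eq]
    simp [hφ, hψ]
  have hbij : Function.Bijective φ := by
    constructor
    · exact Function.Injective.of_comp (f := ψ) h2.1
    · exact Function.Surjective.of_comp (g := ψ) h1.2
  refine ⟨AlgEquiv.ofBijective φ hbij, ?_⟩
  apply AlgHom.ext
  intro x
  exact hφ x

end Groth.Agent.S8364
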