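import Groth.Statements.S8362
import Mathlib
import Groth.Agent.S8364

set_option autoImplicit false
universe u
open CategoryTheory AlgebraicGeometry
open SGA3

namespace Groth.Agent.S8362

open CategoryTheory CategoryTheory.Limits AlgebraicGeometry in
/-- Affine-local core: an endomorphism `u` of `X` over `Spec R` with `j ≫ u = j`, for
`j : X ×_R R/J ⟶ X`, induces a bijection on sections over every affine open it preserves. -/
theorem app_bijective_of_comp_eq (R : Type u) [CommRing R] (J : Ideal R) (hJ : J * J = ⊥)
    {X : Scheme.{u}} (f : X ⟶ Spec (CommRingCat.of R)) (u : X ⟶ X) (hu : u ≫ f = f)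
    (hj : pullback.fst f (Spec.map (CommRingCat.ofHom (Ideal.Quotient.mk J))) ≫ u =
      pullback.fst f (Spec.map (CommRingCat.ofHom (Ideal.Quotient.mk J))))
    {U : X.Opens} (hU : IsAffineOpen U) (e : U ≤ u ⁻¹ᵁ U) :
    Function.Bijective (u.appLE U U e).hom := by
  let A : CommRingCat.{u} := Γ(X, U)
  let α : CommRingCat.of R ⟶ A := Spec.preimage (hU.fromSpec ≫ f)
  have hα : Spec.map α = hU.fromSpec ≫ f := Spec.map_preimage _
  let φ : A ⟶ A := u.appLE U U e
  have hφ : Spec.map φ ≫ hU.fromSpec = hU.fromSpec ≫ u := hU.SpecMap_appLE_fromSpec u hU e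
  have hφα : α ≫ φ = α := by
    apply Spec.map_injective
    rw [Spec.map_comp, hα, ← Category.assoc, hφ, Category.assoc, hu]
  let _ : Algebra R A := α.hom.toAlgebra
  let I : Ideal A := Ideal.map (algebraMap R A) J
  let q : A ⟶ CommRingCat.of (A ⧸ I) := CommRingCat.ofHom (Ideal.Quotient.mk I)
  have hJI : ∀ r ∈ J, (Ideal.Quotient.mk I) (α.hom r) = 0 := by
    intro r hr
    rw [Ideal.Quotient.eq_zero_iff_mem]
    exact Ideal.mem_map_of_mem _ hr
  let ρ : CommRingCat.of (R ⧸ J) ⟶ CommRingCat.of (A ⧸ I) :=
    CommRingCat.ofHom (Ideal.Quotient.lift J ((Ideal.Quotient.mk I).comp α.hom) hJI)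
  have hρ : CommRingCat.ofHom (Ideal.Quotient.mk J) ≫ ρ = α ≫ q := by
    ext r
    rfl
  let i := Spec.map (CommRingCat.ofHom (Ideal.Quotient.mk J))
  have hcond : (Spec.map q ≫ hU.fromSpec) ≫ f = Spec.map ρ ≫ i := by
    rw [Category.assoc, ← hα, ← Spec.map_comp, ← Spec.map_comp, hρ]
  let t := pullback.lift (Spec.map q ≫ hU.fromSpec) (Spec.map ρ) hcond
  have ht : t ≫ pullback.fst f i = Spec.map q ≫ hU.fromSpec := pullback.lift_fst _ _ _
  have hqφ : φ ≫ q = q := by
    apply Spec.map_injective
    rw [Spec.map_comp, ← cancel_mono hU.fromSpec, Category.assoc, hφ, ← Category.assoc, ← ht,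
      Category.assoc, hj]
  let φa : A →ₐ[R] A :=
    { φ.hom with
      commutes' := fun r => by
        change (α ≫ φ).hom r = α.hom r
        rw [hφα] }
  have := Groth.Agent.S8364.bijective_of_sub_mem (R := R) (A := A) J hJ φa (by
    intro x
    change φ.hom x - x ∈ I
    rw [← Ideal.Quotient.eq]
    exact congr($(hqφ) x))
  exact this

/-- Over an affine base S = Spec R with S₀ = Spec (R/J) for an ideal J of square zero: for an arbitrary
S-scheme X, every S-endomorphism of X inducing the identity on X ×_S S₀ is an automorphism. (The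
published statement is over an arbitrary base scheme with a quasi-coherent ideal of square zero;
this row is its case of an affine base, to which it reduces since being an isomorphism is local on
the base.) -/
theorem result (R : Type u) [CommRing R] (J : Ideal R) (hJ : J * J = ⊥)
    (X : Over (Spec (CommRingCat.of R))) (u : X ⟶ X)
    (h : (Over.pullback (Spec.map (CommRingCat.ofHom (Ideal.Quotient.mk J)))).map u = 𝟙 _) :
    IsIso u := by
  let i := Spec.map (CommRingCat.ofHom (Ideal.Quotient.mk J))
  let j := Limits.pullback.fst X.hom i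
  -- `j ≫ u = j`
  have hj : j ≫ u.left = j := by
    have h1 : ((Over.pullback i).map u).left ≫ Limits.pullback.fst X.hom i =
        Limits.pullback.fst X.hom i ≫ u.left := Limits.pullback.lift_fst _ _ _
    rw [h] at h1
    change j ≫ u.left = j
    rw [← h1]
    exact Category.id_comp _
  -- `i` is surjective
  have hi : Surjective i := by
    rw [surjective_iff]
    intro p
    have hle : J ≤ p.asIdeal := by
      intro x hx
      have : x * x ∈ J * J := Ideal.mul_mem_mul hx hx
      rw [hJ] at this
      have h0 : x * x = 0 := this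
      have : x * x ∈ p.asIdeal := by rw [h0]; exact Ideal.zero_mem _
      rcases p.isPrime.mem_or_mem this with h | h <;> exact h
    have hker : RingHom.ker (Ideal.Quotient.mk J) ≤ p.asIdeal := by
      rw [Ideal.mk_ker]; exact hle
    have hprime : (Ideal.map (Ideal.Quotient.mk J) p.asIdeal).IsPrime :=
      Ideal.map_isPrime_of_surjective Ideal.Quotient.mk_surjective hker
    refine ⟨⟨Ideal.map (Ideal.Quotient.mk J) p.asIdeal, hprime⟩, ?_⟩
    apply PrimeSpectrum.ext
    change Ideal.comap (Ideal.Quotient.mk J) (Ideal.map (Ideal.Quotient.mk J) p.asIdeal) = p.asIdeal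
    rw [Ideal.comap_map_of_surjective' _ Ideal.Quotient.mk_surjective, sup_eq_left]
    exact hker
  have hjs : Surjective j := inferInstance
  -- `u` is the identity on points
  have hpt : ∀ x : X.left, u.left x = x := by
    intro x
    obtain ⟨x₀, rfl⟩ := hjs.surj x
    exact congrArg (fun g : Limits.pullback X.hom i ⟶ X.left => g x₀) hj
  have hpre : ∀ U : X.left.Opens, u.left ⁻¹ᵁ U = U := by
    intro U
    ext x
    change u.left x ∈ U ↔ x ∈ U
    rw [hpt]
  have haff : IsAffineHom u.left := ⟨fun U hU => by rw [hpre U]; exact hU⟩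
  have hiso : IsIso u.left := by
    rw [← MorphismProperty.isomorphisms.iff]
    rw [IsZariskiLocalAtTarget.iff_of_iSup_eq_top (P := MorphismProperty.isomorphisms Scheme)
      (fun U : X.left.affineOpens => U.1) (iSup_affineOpens_eq_top X.left)]
    rintro ⟨U, hU⟩
    change IsIso (u.left ∣_ U)
    rw [isIso_morphismRestrict_iff_isIso_app u.left hU, ConcreteCategory.isIso_iff_bijective]
    have e : U ≤ u.left ⁻¹ᵁ U := (hpre U).ge
    have hb := app_bijective_of_comp_eq R J hJ X.hom u.left (Over.w u) hj hU e
    have hres : Function.Bijective (X.left.presheaf.map (homOfLE e).op).hom := by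
      have : IsIso (X.left.presheaf.map (homOfLE e).op) := by
        have : IsIso (homOfLE e) := by
          refine ⟨homOfLE (hpre U).le, rfl, rfl⟩
        infer_instance
      exact (ConcreteCategory.isIso_iff_bijective _).mp this
    have hcomp : (u.left.appLE U U e).hom =
        (X.left.presheaf.map (homOfLE e).op).hom.comp (u.left.app U).hom := by
      rw [Scheme.Hom.appLE]
      rfl
    rw [hcomp] at hb
    exact (Function.Bijective.of_comp_iff' hres _).mp hb
  have : IsIso ((Over.forget (Spec (CommRingCat.of R))).map u) := hiso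
  exact isIso_of_reflects_iso u (Over.forget _)

end Groth.Agent.S8362
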