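import Groth.Statements.S8363
import Groth.Agent.Lib.Malcev24c

set_option autoImplicit false
universe u
open CategoryTheory MonObj AlgebraicGeometry
open SGA3

namespace Groth.Agent.S8363

open CategoryTheory.Limits MonoidalCategory CartesianMonoidalCategory Groth.Agent.Lib.Malcev24 in
open scoped CategoryTheory.Obj in
/-- The kernel of the reduction map is commutative: over an affine base S = Spec R with S₀ = Spec (R/J)
for an ideal J of square zero: for a group scheme X over S and an arbitrary S-scheme Y, the kernel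
of the reduction map from X(Y) to X(Y ×_S S₀) = X₀(Y₀) is a commutative group: two Y-valued points
of X whose base changes to S₀ are the unit commute. (The published statement identifies this kernel,
as a group functor, with the commutative functor of homomorphisms from the pulled-back invariant
differentials of X₀ to J·O_Y, over an arbitrary base with a quasi-coherent ideal of square zero;
this row states only the resulting commutativity, over an affine base.) -/
theorem result (R : Type u) [CommRing R] (J : Ideal R) (hJ : J * J = ⊥)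
    (X : Over (Spec (CommRingCat.of R))) [GrpObj X] (Y : Over (Spec (CommRingCat.of R))) (g g' : Y ⟶ X)
    (hg : (Over.pullback (Spec.map (CommRingCat.ofHom (Ideal.Quotient.mk J)))).map g = 1)
    (hg' : (Over.pullback (Spec.map (CommRingCat.ofHom (Ideal.Quotient.mk J)))).map g' = 1) :
    g * g' = g' * g := by
  let i := Spec.map (CommRingCat.ofHom (Ideal.Quotient.mk J))
  let j := pullback.fst Y.hom i
  have hj : SqZeroKer j := sqZeroKer_fst hJ Y.hom
  have hsurj : Function.Surjective j.base := surjective_fst hJ Y.hom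
  -- agreement with the unit along `j`
  have key : ∀ g : Y ⟶ X, (Over.pullback i).map g = 1 → j ≫ g.left = j ≫ (1 : Y ⟶ X).left := by
    intro g hg
    have h1 : ((Over.pullback i).map g).left ≫ pullback.fst X.hom i = j ≫ g.left :=
      pullback.lift_fst _ _ _
    have h2 : ((Over.pullback i).map (1 : Y ⟶ X)).left ≫ pullback.fst X.hom i =
        j ≫ (1 : Y ⟶ X).left := pullback.lift_fst _ _ _
    rw [← h1, ← h2, hg]
    congr 2
    exact ((Over.pullback i).map_one (X := Y) (M := X)).symm
  let Y0' : Over (Spec (CommRingCat.of R)) := Over.mk (j ≫ Y.hom)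
  let J' : Y0' ⟶ Y := Over.homMk j rfl
  have ag : ∀ {P : Over (Spec (CommRingCat.of R))} {k k0 : Y ⟶ P}, J' ≫ k = J' ≫ k0 →
      j ≫ k.left = j ≫ k0.left := fun h => congr(($h).left)
  let ε : Y ⟶ X := 1
  have b1 : J' ≫ g = J' ≫ ε := Over.OverMorphism.ext (key g hg)
  have b2 : J' ≫ g' = J' ≫ ε := Over.OverMorphism.ext (key g' hg')
  -- the decomposition of `lift a b` for `a`, `b` in the kernel
  have hK : ∀ a b : Y ⟶ X, J' ≫ a = J' ≫ ε → J' ≫ b = J' ≫ ε →
      lift a b = malcevO j hj hsurj (lift a ε) (lift ε ε) (lift ε b) := by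
    intro a b ha hb
    have c1 : J' ≫ lift a ε = J' ≫ lift ε ε := by rw [comp_lift, comp_lift, ha]
    have c2 : J' ≫ lift ε b = J' ≫ lift ε ε := by rw [comp_lift, comp_lift, hb]
    apply CartesianMonoidalCategory.hom_ext
    · rw [lift_fst, malcevO_comp j hj hsurj _ _ _ (ag c1) (ag c2), lift_fst, lift_fst, lift_fst,
        malcevO_right j hj hsurj _ _ (ag ha)]
    · rw [lift_snd, malcevO_comp j hj hsurj _ _ _ (ag c1) (ag c2), lift_snd, lift_snd, lift_snd,
        malcevO_left j hj hsurj _ _ (ag hb)]
  have hM : ∀ a b : Y ⟶ X, J' ≫ a = J' ≫ ε → J' ≫ b = J' ≫ ε →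
      a * b = malcevO j hj hsurj a ε b := by
    intro a b ha hb
    have c1 : J' ≫ lift a ε = J' ≫ lift ε ε := by rw [comp_lift, comp_lift, ha]
    have c2 : J' ≫ lift ε b = J' ≫ lift ε ε := by rw [comp_lift, comp_lift, hb]
    rw [Hom.mul_def, hK a b ha hb, malcevO_comp j hj hsurj _ _ _ (ag c1) (ag c2), ← Hom.mul_def,
      ← Hom.mul_def, ← Hom.mul_def]
    change malcevO j hj hsurj (a * 1) (1 * 1) (1 * b) = _
    rw [_root_.mul_one, _root_.one_mul, _root_.one_mul]
  have hK' : ∀ a b : Y ⟶ X, J' ≫ a = J' ≫ ε → J' ≫ b = J' ≫ ε →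
      lift b a = malcevO j hj hsurj (lift ε a) (lift ε ε) (lift b ε) := by
    intro a b ha hb
    have c1 : J' ≫ lift ε a = J' ≫ lift ε ε := by rw [comp_lift, comp_lift, ha]
    have c2 : J' ≫ lift b ε = J' ≫ lift ε ε := by rw [comp_lift, comp_lift, hb]
    apply CartesianMonoidalCategory.hom_ext
    · rw [lift_fst, malcevO_comp j hj hsurj _ _ _ (ag c1) (ag c2), lift_fst, lift_fst, lift_fst,
        malcevO_left j hj hsurj _ _ (ag hb)]
    · rw [lift_snd, malcevO_comp j hj hsurj _ _ _ (ag c1) (ag c2), lift_snd, lift_snd, lift_snd,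
        malcevO_right j hj hsurj _ _ (ag ha)]
  have hM' : ∀ a b : Y ⟶ X, J' ≫ a = J' ≫ ε → J' ≫ b = J' ≫ ε →
      b * a = malcevO j hj hsurj a ε b := by
    intro a b ha hb
    have c1 : J' ≫ lift ε a = J' ≫ lift ε ε := by rw [comp_lift, comp_lift, ha]
    have c2 : J' ≫ lift b ε = J' ≫ lift ε ε := by rw [comp_lift, comp_lift, hb]
    rw [Hom.mul_def, hK' a b ha hb, malcevO_comp j hj hsurj _ _ _ (ag c1) (ag c2), ← Hom.mul_def,
      ← Hom.mul_def, ← Hom.mul_def]
    change malcevO j hj hsurj (1 * a) (1 * 1) (b * 1) = _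
    rw [_root_.mul_one, _root_.one_mul, _root_.mul_one]
  rw [hM g g' b1 b2, hM' g g' b1 b2]

end Groth.Agent.S8363
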