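import Groth.Statements.S8365
import Groth.Agent.Lib.LieSEpi
-- import your own Groth.Agent.* helpers here

set_option autoImplicit false
universe u
open CategoryTheory MonObj AlgebraicGeometry
open LieS

namespace Groth.Agent.S8365

/-- precomposition as a monoid homomorphism on points of a monoid object. -/
def preHom {C : Type*} [Category C] [CartesianMonoidalCategory C] (X : C) [MonObj X] {Y Z : C} (t : Y ⟶ Z) :
    (Z ⟶ X) →* (Y ⟶ X) where
  toFun a := t ≫ a
  map_one' := MonObj.comp_one t
  map_mul' a b := MonObj.comp_mul t a b

open Groth.Agent.Lib.LieSEpi in
theorem isUnit_of_zeroSec_eq_one (S : Scheme.{u}) (X : Over S) [MonObj X] (B : Type u) [CommRing B]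
    (f : Spec (CommRingCat.of B) ⟶ S) (u : LieS.dpt B f ⟶ X) (hu : zeroSec B f ≫ u = 1) : IsUnit u := by
  have h1 : u * (scale B f (-1) ≫ u) = 1 := by
    have := scale_add_comp f X u hu 1 (-1)
    rw [scale_one_comp, add_neg_cancel, scale_zero_comp f X u hu] at this
    exact this.symm
  have h2 : (scale B f (-1) ≫ u) * u = 1 := by
    have := scale_add_comp f X u hu (-1) 1
    rw [scale_one_comp, neg_add_cancel, scale_zero_comp f X u hu] at this
    exact this.symm
  exact ⟨⟨u, scale B f (-1) ≫ u, h1, h2⟩, rfl⟩


/-- For a monoid scheme X over a scheme S (an associative unital monoid object in S-schemes) and an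
affine S-scheme T = Spec B, a point of X with values in the dual numbers over T is invertible if and
only if its restriction along the zero section ε = 0 is invertible in X(T); in particular every such
point restricting to the unit section is invertible. (The published statement is for monoid-valued
functors satisfying a tangent-space exactness condition, which every representable functor
satisfies, and its special case where the restriction is the unit section allows unital composition
laws that need not be associative; this row treats monoid schemes only.) -/
theorem result (S : Scheme.{u}) (X : Over S) [MonObj X] (B : Type u) [CommRing B]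
    (f : Spec (CommRingCat.of B) ⟶ S) (v : LieS.dpt B f ⟶ X) :
    IsUnit v ↔ IsUnit (LieS.zeroSec B f ≫ v) := by
  constructor
  · intro h
    exact h.map (preHom X (zeroSec B f))
  · intro hg
    set g := zeroSec B f ≫ v with hgdef
    let g' : pt B f ⟶ X := ↑(hg.unit⁻¹)
    have hgg' : g * g' = 1 := hg.mul_val_inv
    have hg'g : g' * g = 1 := hg.val_inv_mul
    have hu : zeroSec B f ≫ (v * (proj B f ≫ g')) = 1 := by
      rw [MonObj.comp_mul, ← Category.assoc, zeroSec_proj, Category.id_comp, ← hgdef, hgg']
    have hU := isUnit_of_zeroSec_eq_one S X B f _ hu
    have hP : IsUnit (proj B f ≫ g) := hg.map (preHom X (proj B f))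
    have hv : v = (v * (proj B f ≫ g')) * (proj B f ≫ g) := by
      rw [_root_.mul_assoc, ← MonObj.comp_mul, hg'g, MonObj.comp_one, _root_.mul_one]
    rw [hv]
    exact hU.mul hP

end Groth.Agent.S8365
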