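import Groth.Statements.S8369
import Mathlib.RingTheory.Flat.Equalizer
import Mathlib.LinearAlgebra.TensorProduct.Quotient
-- import your own Groth.Agent.* helpers here

set_option autoImplicit false
universe u v
open SGA3

namespace Groth.Agent.S8369

open TensorProduct in
theorem mem_smul_of_flat_quotient (A : Type u) [CommRing A] (J : Ideal A)
    (M : Type v) [AddCommGroup M] [Module A M] (N : Submodule A M) [Module.Flat A (M ⧸ N)]
    (x : M) (hxN : x ∈ N) (hxJ : x ∈ J • (⊤ : Submodule A M)) : x ∈ J • N := by
  have hinj : Function.Injective (N.subtype.lTensor (A ⧸ J)) :=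
    LinearMap.lTensor_injective_of_exact_of_flat N.mkQ N.mkQ_surjective N.subtype
      N.subtype_injective (LinearMap.exact_subtype_mkQ N) (A ⧸ J)
  have h0 : ((1 : A ⧸ J) ⊗ₜ[A] (⟨x, hxN⟩ : N)) = 0 := by
    apply hinj
    rw [map_zero, LinearMap.lTensor_tmul]
    apply (TensorProduct.quotTensorEquivQuotSMul M J).injective
    rw [map_zero, ← map_one (Ideal.Quotient.mk J), TensorProduct.quotTensorEquivQuotSMul_mk_tmul,
      one_smul]
    exact (Submodule.Quotient.mk_eq_zero _).2 hxJ
  have h1 : (⟨x, hxN⟩ : N) ∈ J • (⊤ : Submodule A N) := by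
    have := congrArg (TensorProduct.quotTensorEquivQuotSMul N J) h0
    rw [map_zero, ← map_one (Ideal.Quotient.mk J), TensorProduct.quotTensorEquivQuotSMul_mk_tmul,
      one_smul] at this
    exact (Submodule.Quotient.mk_eq_zero _).1 this
  have h2 : J • N = (J • (⊤ : Submodule A N)).map N.subtype := by
    rw [Submodule.map_smul'', Submodule.map_subtype_top]
  rw [h2]
  exact ⟨⟨x, hxN⟩, h1, rfl⟩


/-- Let A be a commutative ring, J a nilpotent ideal, N ⊆ M A-modules with M/N flat over A. If elements
of N have images generating the image of N in M/JM, then they generate N. (The published statement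
takes finitely many elements; this row allows an arbitrary set, which the same argument permits.) -/
theorem result (A : Type u) [CommRing A] (J : Ideal A) (hJ : IsNilpotent J)
    (M : Type v) [AddCommGroup M] [Module A M] (N : Submodule A M) [Module.Flat A (M ⧸ N)] (s : Set M)
    (hs : s ⊆ N)
    (hgen : (Submodule.span A s).map (J • (⊤ : Submodule A M)).mkQ = N.map (J • (⊤ : Submodule A M)).mkQ) :
    Submodule.span A s = N := by
  have hle : Submodule.span A s ≤ N := Submodule.span_le.2 hs
  refine le_antisymm hle ?_
  -- step 1: N ≤ span s ⊔ J • N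
  have h1 : N ≤ Submodule.span A s ⊔ J • N := by
    intro n hn
    have : (J • (⊤ : Submodule A M)).mkQ n ∈ N.map (J • (⊤ : Submodule A M)).mkQ := ⟨n, hn, rfl⟩
    rw [← hgen] at this
    obtain ⟨t, ht, hteq⟩ := this
    have hd : n - t ∈ J • (⊤ : Submodule A M) := by
      rw [← Submodule.Quotient.mk_eq_zero, Submodule.Quotient.mk_sub]
      exact sub_eq_zero.2 hteq.symm
    have hdN : n - t ∈ N := N.sub_mem hn (hle ht)
    have := mem_smul_of_flat_quotient A J M N (n - t) hdN hd
    have e : n = t + (n - t) := by abel
    rw [e]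
    exact Submodule.add_mem_sup ht this
  -- step 2: induction
  have h2 : ∀ k : ℕ, N ≤ Submodule.span A s ⊔ J ^ k • N := by
    intro k
    induction k with
    | zero => rw [pow_zero, Ideal.one_eq_top, Submodule.top_smul]; exact le_sup_right
    | succ k ih =>
      refine ih.trans (sup_le le_sup_left ?_)
      calc J ^ k • N ≤ J ^ k • (Submodule.span A s ⊔ J • N) := Submodule.smul_mono le_rfl h1
        _ = J ^ k • Submodule.span A s ⊔ J ^ k • J • N := Submodule.smul_sup _ _ _
        _ ≤ Submodule.span A s ⊔ J ^ (k + 1) • N := by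
          refine sup_le_sup Submodule.smul_le_right ?_
          rw [pow_succ, Submodule.mul_smul]
  obtain ⟨n, hn⟩ := hJ
  have := h2 n
  rwa [hn, Ideal.zero_eq_bot, Submodule.bot_smul, sup_bot_eq] at this

end Groth.Agent.S8369
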