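import Groth.Statements.S8370
-- import your own Groth.Agent.* helpers here

set_option autoImplicit false
universe u
open CategoryTheory MonObj AlgebraicGeometry
open LieS

namespace Groth.Agent.S8370

variable {S : Scheme.{u}}

theorem pull_val (G : Over S) [GrpObj G] {B : Type u} [CommRing B] (f : Spec (CommRingCat.of B) ⟶ S)
    {B' : Type u} [CommRing B'] (h : B →+* B') (x : LieS.Lie G B f) :
    (LieS.pull G f h x).1 = dptMap f h ≫ x.1 := rfl

theorem Ad_val (G : Over S) [GrpObj G] {B : Type u} [CommRing B] (f : Spec (CommRingCat.of B) ⟶ S)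
    (g : pt B f ⟶ G) (x : LieS.Lie G B f) :
    (LieS.Ad G B f g x).1 = (proj B f ≫ g) * x.1 * (proj B f ≫ g)⁻¹ := rfl

/-- the point of `dpt B f` given by a ring map `ψ : B[ε] → C`. -/
noncomputable def yψ {B : Type u} [CommRing B] (f : Spec (CommRingCat.of B) ⟶ S) {C : Type u} [CommRing C]
    (ψ : DualNumber B →+* C) :
    pt C (Spec.map (CommRingCat.ofHom (ψ.comp (algebraMap B (DualNumber B)))) ≫ f) ⟶ dpt B f :=
  Over.homMk (Spec.map (CommRingCat.ofHom ψ)) (by
    change Spec.map _ ≫ Spec.map _ ≫ f = Spec.map _ ≫ f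
    rw [← Category.assoc, specMap_comp])

/-- the section `ε ↦ c` of the dual numbers over `C`. -/
noncomputable def sec {C : Type u} [CommRing C] (g : Spec (CommRingCat.of C) ⟶ S) (c : C) (hc : c * c = 0) :
    pt C g ⟶ dpt C g :=
  Over.homMk (Spec.map (CommRingCat.ofHom (dualHom (RingHom.id C) c hc))) (by
    change Spec.map _ ≫ Spec.map _ ≫ g = g
    rw [← Category.assoc, specMap_comp, dualHom_comp_algebraMap, CommRingCat.ofHom_id]
    erw [Spec.map_id]; exact Category.id_comp g)

theorem sec_proj {C : Type u} [CommRing C] (g : Spec (CommRingCat.of C) ⟶ S) (c : C) (hc : c * c = 0) :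
    sec g c hc ≫ proj C g = 𝟙 _ := by
  ext; change Spec.map _ ≫ Spec.map _ = 𝟙 _
  rw [specMap_comp, dualHom_comp_algebraMap, CommRingCat.ofHom_id]; erw [Spec.map_id]

theorem dualHom_comp_bcHom {B : Type u} [CommRing B] {C : Type u} [CommRing C]
    (ψ : DualNumber B →+* C) (hc : ψ DualNumber.eps * ψ DualNumber.eps = 0) :
    (dualHom (RingHom.id C) (ψ DualNumber.eps) hc).comp
      (bcHom (ψ.comp (algebraMap B (DualNumber B)))) = ψ := by
  apply RingHom.ext
  intro z
  have hz : z = algebraMap B (DualNumber B) z.fst + algebraMap B (DualNumber B) z.snd * DualNumber.eps := by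
    ext <;> simp [TrivSqZeroExt.algebraMap_eq_inl']
  conv_rhs => rw [hz]
  simp [bcHom, TrivSqZeroExt.algebraMap_eq_inl']

theorem sec_dptMap {B : Type u} [CommRing B] (f : Spec (CommRingCat.of B) ⟶ S) {C : Type u} [CommRing C]
    (ψ : DualNumber B →+* C) (hc : ψ DualNumber.eps * ψ DualNumber.eps = 0) :
    sec (Spec.map (CommRingCat.ofHom (ψ.comp (algebraMap B (DualNumber B)))) ≫ f) (ψ DualNumber.eps) hc ≫
      dptMap f (ψ.comp (algebraMap B (DualNumber B))) = yψ f ψ := by
  ext; change Spec.map _ ≫ Spec.map _ = Spec.map _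
  rw [specMap_comp, dualHom_comp_bcHom]

theorem eps_map_sq {B : Type u} [CommRing B] {C : Type u} [CommRing C] (ψ : DualNumber B →+* C) :
    ψ DualNumber.eps * ψ DualNumber.eps = 0 := by
  rw [← map_mul, eps_sq, map_zero]

theorem lemmaA (G K : Over S) [GrpObj G] [GrpObj K] (i : K ⟶ G)
    (B : Type u) [CommRing B] (f : Spec (CommRingCat.of B) ⟶ S) (x : LieS.Lie G B f)
    (H : ∀ (B' : Type u) [CommRing B'] (h : B →+* B')
      (k : LieS.pt B' (Spec.map (CommRingCat.ofHom h) ≫ f) ⟶ K),
      LieS.Ad G B' (Spec.map (CommRingCat.ofHom h) ≫ f) (k ≫ i) (LieS.pull G f h x) = LieS.pull G f h x)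
    {C : Type u} [CommRing C] (ψ : DualNumber B →+* C)
    (k : pt C (Spec.map (CommRingCat.ofHom (ψ.comp (algebraMap B (DualNumber B)))) ≫ f) ⟶ K) :
    (yψ f ψ ≫ x.1) * (k ≫ i) = (k ≫ i) * (yψ f ψ ≫ x.1) := by
  have E' := congrArg Subtype.val (H C (ψ.comp (algebraMap B (DualNumber B))) k)
  rw [Ad_val, pull_val] at E'
  have E2 := congrArg (fun m => sec _ (ψ DualNumber.eps) (eps_map_sq ψ) ≫ m) E'
  simp only [MonObj.comp_mul, GrpObj.comp_inv] at E2
  rw [← Category.assoc, sec_proj, Category.id_comp, ← Category.assoc, sec_dptMap] at E2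
  rw [mul_inv_eq_iff_eq_mul] at E2
  exact E2.symm


/-- For a group scheme G over a scheme S (the group law of the Lie algebra functor of a group scheme is
commutative, which the published statement assumes), a sub-group-scheme K of G given by a
monomorphic homomorphism i, and an affine S-scheme T = Spec B: an element x of Lie(G/S)(T) belongs
to the Lie algebra of the centraliser of K, i.e. the point x of G with values in the dual numbers
I_T commutes with every point of K with values in any scheme over I_T, if and only if x is fixed by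
the adjoint action of every point of K with values in an affine scheme T' = Spec B' over T (acting
on the restriction of x to T'). -/
theorem result (S : Scheme.{u}) (G K : Over S) [GrpObj G] [GrpObj K] (i : K ⟶ G)
    [IsMonHom i] [Mono i] (B : Type u) [CommRing B] (f : Spec (CommRingCat.of B) ⟶ S) (x : LieS.Lie G B f) :
    (∀ (X' : Over S) (y : X' ⟶ LieS.dpt B f) (h : X' ⟶ K), (y ≫ x.1) * (h ≫ i) = (h ≫ i) * (y ≫ x.1)) ↔
    (∀ (B' : Type u) [CommRing B'] (h : B →+* B')
      (k : LieS.pt B' (Spec.map (CommRingCat.ofHom h) ≫ f) ⟶ K),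
      LieS.Ad G B' (Spec.map (CommRingCat.ofHom h) ≫ f) (k ≫ i) (LieS.pull G f h x) = LieS.pull G f h x) := by
  constructor
  · intro H B' _ h k
    apply Subtype.ext
    have E := H (dpt B' (Spec.map (CommRingCat.ofHom h) ≫ f)) (dptMap f h) (proj B' _ ≫ k)
    rw [Ad_val, pull_val, mul_inv_eq_iff_eq_mul]
    rw [Category.assoc] at E
    exact E.symm
  · intro H X' y h
    apply Over.OverMorphism.ext
    apply X'.left.affineOpenCover.openCover.hom_ext
    intro j
    change X'.left.affineOpenCover.f j ≫ _ = X'.left.affineOpenCover.f j ≫ _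
    -- the ring of the j-th affine chart
    let φ : Spec (X'.left.affineOpenCover.X j) ⟶ Spec (CommRingCat.of (DualNumber B)) :=
      X'.left.affineOpenCover.f j ≫ y.left
    let ψ : DualNumber B →+* (X'.left.affineOpenCover.X j) := (Spec.preimage φ).hom
    have hψ : Spec.map (CommRingCat.ofHom ψ) = φ := Spec.map_preimage φ
    let t : pt (X'.left.affineOpenCover.X j)
        (Spec.map (CommRingCat.ofHom (ψ.comp (algebraMap B (DualNumber B)))) ≫ f) ⟶ X' :=
      Over.homMk (X'.left.affineOpenCover.f j) (by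
        change _ ≫ X'.hom = Spec.map _ ≫ f
        rw [← specMap_comp, Category.assoc, hψ, ← Over.w y]
        rfl)
    have hty : t ≫ y = yψ f ψ := by
      ext
      exact hψ.symm
    have key := lemmaA G K i B f x H ψ (t ≫ h)
    rw [← hty] at key
    have key2 : t ≫ ((y ≫ x.1) * (h ≫ i)) = t ≫ ((h ≫ i) * (y ≫ x.1)) := by
      rw [MonObj.comp_mul, MonObj.comp_mul]
      simpa only [Category.assoc] using key
    exact congrArg CommaMorphism.left key2

end Groth.Agent.S8370
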