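import Groth.Statements.S8371
-- import your own Groth.Agent.* helpers here

set_option autoImplicit false
universe u
open CategoryTheory MonObj AlgebraicGeometry
open LieS

namespace Groth.Agent.S8371

/-- The sequence of Lie algebras, with M = O_S: if 1 → G' → G → G'' → 1 is a sequence of homomorphisms
of group schemes over a scheme S which is exact on points with values in every S-scheme, then for
every affine S-scheme T = Spec B the derived morphisms give an exact sequence 1 → Lie(G'/S)(T) →
Lie(G/S)(T) → Lie(G''/S)(T) → 1: the first is injective, the second surjective, and the kernel of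
the second is the image of the first. -/
theorem result (S : Scheme.{u}) (G' G G'' : Over S) [GrpObj G'] [GrpObj G] [GrpObj G'']
    (i : G' ⟶ G) [IsMonHom i] (q : G ⟶ G'') [IsMonHom q]
    (hex : ∀ T : Over S, Function.Injective (fun a : T ⟶ G' => a ≫ i) ∧
      Function.Surjective (fun b : T ⟶ G => b ≫ q) ∧ ∀ b : T ⟶ G, b ≫ q = 1 ↔ ∃ a : T ⟶ G', a ≫ i = b)
    (B : Type u) [CommRing B] (f : Spec (CommRingCat.of B) ⟶ S) :
    Function.Injective (LieS.map B f i) ∧ Function.Surjective (LieS.map B f q) ∧
      ∀ v : LieS.Lie G B f, LieS.map B f q v = 1 ↔ ∃ w : LieS.Lie G' B f, LieS.map B f i w = v := by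
  have hmap_i : ∀ w : LieS.Lie G' B f, (LieS.map B f i w).1 = w.1 ≫ i := fun _ => rfl
  have hmap_q : ∀ w : LieS.Lie G B f, (LieS.map B f q w).1 = w.1 ≫ q := fun _ => rfl
  refine ⟨?_, ?_, ?_⟩
  · intro v w h
    apply Subtype.ext
    apply (hex (dpt B f)).1
    have := congrArg Subtype.val h
    rwa [hmap_i, hmap_i] at this
  · intro w
    obtain ⟨b, hb⟩ := (hex (dpt B f)).2.1 w.1
    simp only at hb
    have hw : zeroSec B f ≫ w.1 = 1 := w.2
    set g : pt B f ⟶ G := zeroSec B f ≫ b with hg
    have hgq : g ≫ q = 1 := by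
      rw [hg, Category.assoc, hb, hw]
    refine ⟨⟨b * (proj B f ≫ g)⁻¹, ?_⟩, ?_⟩
    · rw [mem_Lie_iff, MonObj.comp_mul, GrpObj.comp_inv, ← Category.assoc, zeroSec_proj,
        Category.id_comp, ← hg, _root_.mul_inv_cancel]
    · apply Subtype.ext
      rw [hmap_q]
      simp only
      rw [MonObj.mul_comp, GrpObj.inv_comp, Category.assoc, hgq, MonObj.comp_one, _root_.inv_one, _root_.mul_one, hb]
  · intro v
    constructor
    · intro h
      have h1 : v.1 ≫ q = 1 := by
        have := congrArg Subtype.val h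
        rwa [hmap_q] at this
      obtain ⟨a, ha⟩ := ((hex (dpt B f)).2.2 v.1).1 h1
      refine ⟨⟨a, ?_⟩, ?_⟩
      · rw [mem_Lie_iff]
        apply (hex (pt B f)).1
        simp only
        rw [Category.assoc, ha, MonObj.one_comp]
        exact v.2
      · apply Subtype.ext
        rw [hmap_i]
        exact ha
    · rintro ⟨w, rfl⟩
      apply Subtype.ext
      rw [hmap_q, hmap_i]
      exact ((hex (dpt B f)).2.2 (w.1 ≫ i)).2 ⟨w.1, rfl⟩

end Groth.Agent.S8371
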