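import Groth.Statements.S8383
import Groth.Agent.Lib.LinFormsFinField

set_option autoImplicit false
universe u
open scoped TensorProduct
open SGA3t2b

namespace Groth.Agent.S8383

/-- Let k be a finite field with algebraic closure K, V a finite-dimensional vector space over k, and
θ₁, …, θₙ a basis of the dual of the K-vector space K ⊗ V. Then there is x ∈ V with θᵢ(1 ⊗ x) ≠ 0
for every i. -/
theorem result (k : Type u) [Field k] [Finite k]
    (V : Type u) [AddCommGroup V] [Module k V] [Module.Finite k V] {ι : Type} [Fintype ι]
    (θ : Module.Basis ι (AlgebraicClosure k) (Module.Dual (AlgebraicClosure k) (AlgebraicClosure k ⊗[k] V))) :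
    ∃ x : V, ∀ i : ι, θ i ((1 : AlgebraicClosure k) ⊗ₜ[k] x) ≠ 0 := by
  classical
  cases nonempty_fintype k
  set p := ringChar k with hp
  have hpprime : Fact p.Prime := ⟨CharP.char_is_prime k p⟩
  obtain ⟨f, -, hcard⟩ := FiniteField.card k p
  have : CharP (AlgebraicClosure k) p :=
    charP_of_injective_algebraMap (algebraMap k (AlgebraicClosure k)).injective p
  set n := Module.finrank k V with hn
  let b : Module.Basis (Fin n) k V := Module.finBasis k V
  let bK : Module.Basis (Fin n) (AlgebraicClosure k) (AlgebraicClosure k ⊗[k] V) :=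
    Algebra.TensorProduct.basis (AlgebraicClosure k) b
  have hbK : ∀ j, bK j = (1 : AlgebraicClosure k) ⊗ₜ[k] b j :=
    fun j => Algebra.TensorProduct.basis_apply b j
  have hcardι : Fintype.card ι = Fintype.card (Fin n) := by
    rw [← Module.finrank_eq_card_basis θ, Subspace.dual_finrank_eq,
      Module.finrank_eq_card_basis bK]
  let e : ι ≃ Fin n := Fintype.equivOfCardEq hcardι
  let θ' := θ.reindex e
  let A : Matrix (Fin n) (Fin n) (AlgebraicClosure k) := fun i j => θ' i (bK j)
  let D := bK.dualBasis
  have hPA : D.toMatrix θ' = A.transpose := by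
    ext j i
    simp [Module.Basis.toMatrix_apply, A, D]
  have h1 : A.transpose * θ'.toMatrix D = 1 := by
    rw [← hPA]
    exact Module.Basis.toMatrix_mul_toMatrix_flip D θ'
  have h2 : A * (θ'.toMatrix D).transpose = 1 := by
    have h3 := congrArg Matrix.transpose h1
    rw [Matrix.transpose_mul, Matrix.transpose_transpose, Matrix.transpose_one] at h3
    exact mul_eq_one_comm.mp h3
  let S : Finset (AlgebraicClosure k) := Finset.univ.image (algebraMap k (AlgebraicClosure k))
  have hS : p ^ (f : ℕ) ≤ S.card := by
    rw [Finset.card_image_of_injective _ (algebraMap k (AlgebraicClosure k)).injective,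
      Finset.card_univ, hcard]
  obtain ⟨x, hxS, hx⟩ := Groth.Agent.Lib.LinFormsFinField.exists_forall_sum_mul_ne_zero p (f : ℕ)
    f.ne_zero A _ h2 S hS
  have hc : ∀ j, ∃ c : k, algebraMap k (AlgebraicClosure k) c = x j := fun j => by
    have := hxS j
    simp only [S, Finset.mem_image, Finset.mem_univ, true_and] at this
    exact this
  choose c hc using hc
  refine ⟨∑ j, c j • b j, fun i => ?_⟩
  have := hx (e i)
  have hθ : θ i = θ' (e i) := by simp [θ']
  rw [hθ, TensorProduct.tmul_sum, map_sum]
  convert this using 2 with j _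
  rw [TensorProduct.tmul_smul, ← algebraMap_smul (AlgebraicClosure k) (c j), map_smul, hc,
    smul_eq_mul, ← hbK, mul_comm]

end Groth.Agent.S8383
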