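import Groth.Statements.S8384
import Mathlib.RingTheory.AdicCompletion.RingHom

set_option autoImplicit false
universe u
open CategoryTheory MonoidalCategory CartesianMonoidalCategory MonObj GrpObj AlgebraicGeometry
open SGA3x

namespace Groth.Agent.S8384

/-- A morphism from an affine scheme landing in an affine open comes from a ring map. -/
theorem exists_eq_SpecMap_comp_fromSpec {X : Scheme.{u}} {R : CommRingCat.{u}} (f : Spec R ⟶ X)
    {U : X.Opens} (hU : IsAffineOpen U) (h : ∀ p, f p ∈ U) :
    ∃ φ : Γ(X, U) ⟶ R, f = Spec.map φ ≫ hU.fromSpec := by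
  have htop : (⊤ : (Spec R).Opens) ≤ f ⁻¹ᵁ U := fun p _ => h p
  have := IsAffineOpen.SpecMap_appLE_fromSpec f hU (isAffineOpen_top _) htop
  rw [IsAffineOpen.fromSpec_top, Iso.eq_inv_comp, Scheme.isoSpec_Spec_hom] at this
  refine ⟨f.appLE U ⊤ htop ≫ (Scheme.ΓSpecIso R).hom, ?_⟩
  rw [Spec.map_comp, Category.assoc]
  exact this.symm

section Points

variable (A : Type u) [CommRing A] [IsLocalRing A]

open IsLocalRing

/-- Every point of `Spec (A/𝔪ⁿ)` maps to the closed point of `Spec A`. -/
theorem SpecMap_mk_apply (n : ℕ) (p : Spec (CommRingCat.of (A ⧸ maximalIdeal A ^ n))) :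
    Spec.map (CommRingCat.ofHom (Ideal.Quotient.mk (maximalIdeal A ^ n))) p =
      closedPoint A := by
  apply PrimeSpectrum.ext
  have hle : maximalIdeal A ^ n ≤
      (Spec.map (CommRingCat.ofHom (Ideal.Quotient.mk (maximalIdeal A ^ n))) p).asIdeal := by
    intro a ha
    change Ideal.Quotient.mk (maximalIdeal A ^ n) a ∈ p.asIdeal
    rw [Ideal.Quotient.eq_zero_iff_mem.2 ha]
    exact zero_mem _
  have hprime := (Spec.map (CommRingCat.ofHom (Ideal.Quotient.mk (maximalIdeal A ^ n))) p).isPrime
  have hle' := Ideal.IsPrime.le_of_pow_le hle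
  exact ((IsLocalRing.maximalIdeal.isMaximal A).eq_of_le
    (Spec.map (CommRingCat.ofHom (Ideal.Quotient.mk (maximalIdeal A ^ n))) p).isPrime.ne_top
    hle').symm

theorem subsingleton_Spec_quotient (n : ℕ) :
    Subsingleton ↥(Spec (CommRingCat.of (A ⧸ maximalIdeal A ^ n))) := by
  refine ⟨fun p₁ p₂ => ?_⟩
  have hinj : Function.Injective
      (Spec.map (CommRingCat.ofHom (Ideal.Quotient.mk (maximalIdeal A ^ n)))) :=
    PrimeSpectrum.comap_injective_of_surjective _ Ideal.Quotient.mk_surjective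
  apply hinj
  rw [SpecMap_mk_apply, SpecMap_mk_apply]

theorem nonempty_Spec_quotient (n : ℕ) :
    Nonempty ↥(Spec (CommRingCat.of (A ⧸ maximalIdeal A ^ (n + 1)))) := by
  have : Nontrivial (A ⧸ maximalIdeal A ^ (n + 1)) := by
    rw [Ideal.Quotient.nontrivial_iff]
    intro h
    have h1 : maximalIdeal A ^ (n + 1) ≤ maximalIdeal A := Ideal.pow_le_self (Nat.succ_ne_zero n)
    rw [h] at h1
    exact (IsLocalRing.maximalIdeal.isMaximal A).ne_top (top_le_iff.1 h1)
  exact inferInstanceAs (Nonempty (PrimeSpectrum (A ⧸ maximalIdeal A ^ (n + 1))))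

theorem isEmpty_Spec_quotient_zero :
    IsEmpty ↥(Spec (CommRingCat.of (A ⧸ maximalIdeal A ^ 0))) := by
  have : Subsingleton (A ⧸ maximalIdeal A ^ 0) := by
    rw [Ideal.Quotient.subsingleton_iff, pow_zero, Ideal.one_eq_top]
  exact inferInstanceAs (IsEmpty (PrimeSpectrum (A ⧸ maximalIdeal A ^ 0)))

end Points

open IsLocalRing in
theorem main (A : Type u) [CommRing A] [IsLocalRing A]
    [IsAdicComplete (IsLocalRing.maximalIdeal A) A] (X : Scheme.{u}) :
    (∀ f g : (Spec (CommRingCat.of A)) ⟶ X,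
      (∀ n : ℕ, (Spec.map (CommRingCat.ofHom (Ideal.Quotient.mk ((IsLocalRing.maximalIdeal A) ^ n)))) ≫ f = (Spec.map (CommRingCat.ofHom (Ideal.Quotient.mk ((IsLocalRing.maximalIdeal A) ^ n)))) ≫ g) → f = g) ∧
    (∀ u : (n : ℕ) → (Spec (CommRingCat.of (A ⧸ (IsLocalRing.maximalIdeal A) ^ n)) ⟶ X),
      (∀ n : ℕ, (Spec.map (CommRingCat.ofHom (Ideal.Quotient.factor
          (Ideal.pow_le_pow_right (I := (IsLocalRing.maximalIdeal A)) (Nat.le_succ n))))) ≫ u (n + 1) = u n) →
      ∃ f : (Spec (CommRingCat.of A)) ⟶ X, ∀ n : ℕ, (Spec.map (CommRingCat.ofHom (Ideal.Quotient.mk ((IsLocalRing.maximalIdeal A) ^ n)))) ≫ f = u n) := by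
  constructor
  · intro f g hfg
    obtain ⟨p₁⟩ := nonempty_Spec_quotient A 0
    have hc : f (closedPoint A) = g (closedPoint A) := by
      rw [← SpecMap_mk_apply A (0 + 1) p₁, ← Scheme.Hom.comp_apply, ← Scheme.Hom.comp_apply,
        hfg]
    obtain ⟨_, ⟨U, hU', rfl⟩, hxU, -⟩ := X.isBasis_affineOpens.exists_subset_of_mem_open
      (Set.mem_univ (f (closedPoint A))) isOpen_univ
    have hU : IsAffineOpen U := hU'
    have hfU : ∀ p, f p ∈ U := fun p =>
      ((IsLocalRing.specializes_closedPoint p).map f.continuous).mem_open U.2 hxU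
    have hgU : ∀ p, g p ∈ U := fun p =>
      ((IsLocalRing.specializes_closedPoint p).map g.continuous).mem_open U.2 (hc ▸ hxU)
    obtain ⟨φ, rfl⟩ := exists_eq_SpecMap_comp_fromSpec f hU hfU
    obtain ⟨ψ, rfl⟩ := exists_eq_SpecMap_comp_fromSpec g hU hgU
    congr 1
    congr 1
    ext b
    have hsub : ∀ n, φ.hom b - ψ.hom b ∈ maximalIdeal A ^ n := by
      intro n
      have h1 := hfg n
      rw [← Category.assoc, ← Category.assoc, cancel_mono, ← Spec.map_comp, ← Spec.map_comp] at h1
      have h2 := Spec.map_injective h1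
      have h3 := congrArg (fun χ => χ.hom b) h2
      simp only [CommRingCat.hom_comp, CommRingCat.hom_ofHom, RingHom.comp_apply] at h3
      rw [← Ideal.Quotient.eq_zero_iff_mem, map_sub, h3, sub_self]
    have hh : IsHausdorff (maximalIdeal A) A := inferInstance
    have := hh.haus' (φ.hom b - ψ.hom b) (fun n => by
      rw [SModEq.zero, smul_eq_mul, Ideal.mul_top]
      exact hsub n)
    exact sub_eq_zero.1 this
  · intro u hu
    obtain ⟨p₁⟩ := nonempty_Spec_quotient A 0
    have hx : ∀ (n : ℕ) (p : Spec (CommRingCat.of (A ⧸ maximalIdeal A ^ (n + 1)))),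
        u (n + 1) p = u (0 + 1) p₁ := by
      intro n
      induction n with
      | zero =>
        intro p
        have := subsingleton_Spec_quotient A (0 + 1)
        rw [Subsingleton.elim p p₁]
      | succ k ih =>
        intro p
        obtain ⟨p'⟩ := nonempty_Spec_quotient A k
        have := subsingleton_Spec_quotient A (k + 1 + 1)
        have e : p = Spec.map (CommRingCat.ofHom (Ideal.Quotient.factor
          (Ideal.pow_le_pow_right (I := (IsLocalRing.maximalIdeal A)) (Nat.le_succ (k + 1))))) p' :=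
          Subsingleton.elim _ _
        rw [e, ← Scheme.Hom.comp_apply, hu (k + 1)]
        exact ih p'
    obtain ⟨_, ⟨U, hU', rfl⟩, hxU, -⟩ := X.isBasis_affineOpens.exists_subset_of_mem_open
      (Set.mem_univ (u (0 + 1) p₁)) isOpen_univ
    have hU : IsAffineOpen U := hU'
    have hUn : ∀ (n : ℕ) (p : Spec (CommRingCat.of (A ⧸ maximalIdeal A ^ n))), u n p ∈ U := by
      intro n
      cases n with
      | zero => intro p; exact (isEmpty_Spec_quotient_zero A).elim p
      | succ k => intro p; rw [hx k p]; exact hxU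
    choose ψ hψ using fun n => exists_eq_SpecMap_comp_fromSpec (u n) hU (hUn n)
    have hcomp : ∀ n, ψ (n + 1) ≫ CommRingCat.ofHom (Ideal.Quotient.factor
        (Ideal.pow_le_pow_right (I := (IsLocalRing.maximalIdeal A)) (Nat.le_succ n))) = ψ n := by
      intro n
      have h1 := hu n
      rw [hψ (n + 1), hψ n, ← Category.assoc, cancel_mono, ← Spec.map_comp] at h1
      exact Spec.map_injective h1
    have hf : ∀ {a b : ℕ} (hle : a ≤ b),
        (Ideal.Quotient.factorPow (maximalIdeal A) hle).comp (ψ b).hom = (ψ a).hom := by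
      intro a b hle
      induction b, hle using Nat.le_induction with
      | base =>
        ext y
        simp
      | succ b hab ih =>
        rw [← ih, ← hcomp b]
        ext y
        simp
    refine ⟨Spec.map (CommRingCat.ofHom
      (IsAdicComplete.liftRingHom (maximalIdeal A) (fun n => (ψ n).hom) hf)) ≫ hU.fromSpec,
      fun n => ?_⟩
    rw [hψ n, ← Category.assoc, ← Spec.map_comp]
    congr 2
    ext b
    simp


/-- Let A be a local ring, separated and complete for the topology defined by its maximal ideal m, S =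
Spec A and Sₙ = Spec(A/mⁿ). Then for every scheme X the canonical map Hom(S, X) → lim Hom(Sₙ, X) is
bijective: two morphisms S → X that agree on every Sₙ are equal, and every family of morphisms Sₙ →
X compatible with the closed immersions Sₙ → Sₙ₊₁ is induced by a morphism S → X. -/
theorem result (A : Type u) [CommRing A] [IsLocalRing A]
    [IsAdicComplete (IsLocalRing.maximalIdeal A) A] (X : Scheme.{u}) :
    (∀ f g : (Spec (CommRingCat.of A)) ⟶ X,
      (∀ n : ℕ, (Spec.map (CommRingCat.ofHom (Ideal.Quotient.mk ((IsLocalRing.maximalIdeal A) ^ n)))) ≫ f = (Spec.map (CommRingCat.ofHom (Ideal.Quotient.mk ((IsLocalRing.maximalIdeal A) ^ n)))) ≫ g) → f = g) ∧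
    (∀ u : (n : ℕ) → (Spec (CommRingCat.of (A ⧸ (IsLocalRing.maximalIdeal A) ^ n)) ⟶ X),
      (∀ n : ℕ, (Spec.map (CommRingCat.ofHom (Ideal.Quotient.factor
          (Ideal.pow_le_pow_right (I := (IsLocalRing.maximalIdeal A)) (Nat.le_succ n))))) ≫ u (n + 1) = u n) →
      ∃ f : (Spec (CommRingCat.of A)) ⟶ X, ∀ n : ℕ, (Spec.map (CommRingCat.ofHom (Ideal.Quotient.mk ((IsLocalRing.maximalIdeal A) ^ n)))) ≫ f = u n) :=
  main A X

end Groth.Agent.S8384
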