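import Groth.Statements.S8441
import Mathlib

set_option autoImplicit false
universe u v w
open SGA3t2b

namespace Groth.Agent.S8441

open Module

section aux

variable {ι : Type u} {M : Type v} {N : Type w} [AddCommGroup M] [Module ℤ M]
    [AddCommGroup N] [Module ℤ N] (P : RootPairing ι ℤ M N) {n : ℕ} (f : Fin n → ι)

/-- the linear combination map of the chosen roots -/
noncomputable def A : (Fin n → ℤ) →ₗ[ℤ] M := Fintype.linearCombination ℤ (fun i => P.root (f i))

lemma A_single (i : Fin n) : A P f (Pi.single i 1) = P.root (f i) := by
  classical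
  rw [A, Fintype.linearCombination_apply_single]
  exact @one_smul ℤ M _ (‹Module ℤ M›).toDistribMulAction.toMulAction _

/-- reflection step in coordinates -/
noncomputable def step (j : Fin n) (u : Fin n → ℤ) : Fin n → ℤ :=
  u - (P.coroot' (f j) (A P f u)) • Pi.single j 1

lemma A_step (j : Fin n) (u : Fin n → ℤ) :
    A P f (step P f j u) = P.reflection (f j) (A P f u) := by
  rw [step, map_sub, LinearMap.map_smul, A_single, RootPairing.reflection_apply]

lemma step_apply_of_ne (j k : Fin n) (hk : k ≠ j) (u : Fin n → ℤ) :
    step P f j u k = u k := by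
  simp [step, hk]

lemma foldl_A (l : List (Fin n)) (u : Fin n → ℤ) :
    l.foldl (fun x j => P.reflection (f j) x) (A P f u) =
      A P f (l.foldl (fun u j => step P f j u) u) := by
  induction l generalizing u with
  | nil => rfl
  | cons j l ih =>
    simp only [List.foldl_cons]
    rw [← A_step, ih]

lemma foldl_step_apply (l : List (Fin n)) (k : Fin n) (hk : k ∉ l) (u : Fin n → ℤ) :
    (l.foldl (fun u j => step P f j u) u) k = u k := by
  induction l generalizing u with
  | nil => rfl
  | cons j l ih =>
    simp only [List.foldl_cons]
    rw [ih (fun h => hk (List.mem_cons_of_mem _ h))]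
    exact step_apply_of_ne P f j k (fun h => hk (h ▸ List.mem_cons_self)) u

end aux

/-- Let R be a root system with a system of simple roots a₁, …, aₙ and simple reflections rᵢ, and put θᵢ
= rₙ ⋯ rᵢ₊₁(aᵢ). Then the θᵢ form a basis of the group generated by the roots. Stated for a root
pairing over ℤ (Mathlib) with a base whose support is enumerated by Fin n: the θᵢ are ℤ-linearly
independent and their ℤ-span is the ℤ-span of all roots. -/
theorem result {ι : Type u} {M : Type v} {N : Type w} [AddCommGroup M] [Module ℤ M]
    [AddCommGroup N] [Module ℤ N] (P : RootPairing ι ℤ M N) (b : P.Base) (n : ℕ) (e : Fin n ≃ ↥b.support) :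
    LinearIndependent ℤ (fun i : Fin n =>
      ((List.finRange n).filter (fun j => i < j)).foldl (fun x j => P.reflection (e j : ι) x) (P.root (e i : ι))) ∧
    Submodule.span ℤ (Set.range (fun i : Fin n =>
      ((List.finRange n).filter (fun j => i < j)).foldl (fun x j => P.reflection (e j : ι) x) (P.root (e i : ι)))) =
      Submodule.span ℤ (Set.range P.root) := by
  classical
  set f : Fin n → ι := fun i => (e i : ι) with hf
  -- linear independence of the simple roots
  have ha : LinearIndependent ℤ (fun i : Fin n => P.root (f i)) := by
    have h1 : LinearIndependent ℤ (fun x : ↥b.support => P.root x) := b.linearIndepOn_root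
    exact h1.comp e e.injective
  have hAinj : Function.Injective (A P f) := by
    rw [A]
    exact ha.fintypeLinearCombination_injective
  -- coordinates of θ
  set U : Fin n → Fin n → ℤ := fun i =>
    ((List.finRange n).filter (fun j => i < j)).foldl (fun u j => step P f j u) (Pi.single i 1) with hU
  have hθ : (fun i : Fin n =>
      ((List.finRange n).filter (fun j => i < j)).foldl (fun x j => P.reflection (e j : ι) x)
        (P.root (e i : ι))) = fun i => A P f (U i) := by
    funext i
    rw [hU]
    simp only
    rw [← foldl_A, A_single]
  have hUle : ∀ i k : Fin n, k ≤ i → U i k = (Pi.single i (1 : ℤ) : Fin n → ℤ) k := by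
    intro i k hki
    rw [hU]
    simp only
    apply foldl_step_apply
    simp only [List.mem_filter, List.mem_finRange, true_and, decide_eq_true_eq, not_lt]
    exact hki
  have hdet : (Matrix.of U).det = 1 := by
    rw [Matrix.det_of_isUpperTriangular]
    · apply Finset.prod_eq_one
      intro i _
      simp [hUle i i le_rfl]
    · intro i k hki
      simp only [id] at hki
      simp only [Matrix.of_apply]
      rw [hUle i k hki.le]
      simp [hki.ne]
  have hbasis : LinearIndependent ℤ U ∧ Submodule.span ℤ (Set.range U) = ⊤ := by
    rw [(Pi.basisFun ℤ (Fin n)).is_basis_iff_det, Pi.basisFun_det_apply, hdet]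
    exact isUnit_one
  rw [hθ]
  refine ⟨hbasis.1.map' (A P f) (LinearMap.ker_eq_bot.mpr hAinj), ?_⟩
  have h1 : Set.range (fun i => A P f (U i)) = (A P f) '' Set.range U := by
    rw [← Set.range_comp]; rfl
  have hspan : Submodule.span ℤ (P.root '' (b.support : Set ι)) =
      Submodule.span ℤ (Set.range P.root) := by
    refine le_antisymm (Submodule.span_mono (Set.image_subset_range _ _)) (Submodule.span_le.mpr ?_)
    rintro - ⟨i, rfl⟩
    have hcl : AddSubmonoid.closure (P.root '' (b.support : Set ι)) ≤
        (Submodule.span ℤ (P.root '' (b.support : Set ι))).toAddSubmonoid :=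
      AddSubmonoid.closure_le.mpr Submodule.subset_span
    rcases b.root_mem_or_neg_mem i with h | h
    · exact hcl h
    · have h2 := hcl h
      exact (Submodule.neg_mem_iff _).mp h2
  rw [h1, ← Submodule.map_span, hbasis.2, Submodule.map_top, ← hspan]
  rw [A, Fintype.range_linearCombination]
  congr 1
  ext x
  constructor
  · rintro ⟨i, rfl⟩
    exact ⟨f i, (e i).2, rfl⟩
  · rintro ⟨j, hj, rfl⟩
    exact ⟨e.symm ⟨j, hj⟩, by simp [hf]⟩

end Groth.Agent.S8441
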