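import Groth.Statements.S8471
import Mathlib
-- import your own Groth.Agent.* helpers here

set_option autoImplicit false
open Red

namespace Groth.Agent.S8471

open Polynomial

lemma homog_sum {k S : Type*} [CommRing k] [CommRing S] (f : k →+* S) (G : k[X]) (d : ℕ)
    (hd : G.natDegree ≤ d) (v t : S) :
    ∑ i ∈ Finset.range (d + 1), f (G.coeff i) * (v * t) ^ i * v ^ (d - i) =
      v ^ d * G.eval₂ f t := by
  rw [Polynomial.eval₂_eq_sum_range' f (Nat.lt_succ_of_le hd), Finset.mul_sum]
  refine Finset.sum_congr rfl fun i hi => ?_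
  have hi' : i ≤ d := Nat.lt_succ_iff.1 (Finset.mem_range.1 hi)
  have : v ^ d = v ^ i * v ^ (d - i) := by rw [← pow_add]; congr 1; omega
  rw [mul_pow, this]
  ring

section core
variable {k : Type} [Field k]

/-- the core algebraic step, in `(RatFunc k)[y]`. -/
lemma core (P Q : k[X]) (hcop : IsCoprime P Q) (hQm : Q.Monic) (hP0 : P ≠ 0)
    (h0 : Q.eval 0 ≠ 0) (h1 : P.eval 0 = Q.eval 0)
    (H : (P.map (algebraMap k (RatFunc k))).comp
          (C (RatFunc.X : RatFunc k) +
            C (algebraMap k[X] (RatFunc k) P / algebraMap k[X] (RatFunc k) Q) * X) *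
          Q.map (algebraMap k (RatFunc k)) =
        C (algebraMap k[X] (RatFunc k) P / algebraMap k[X] (RatFunc k) Q) *
          P.map (algebraMap k (RatFunc k)) *
          (Q.map (algebraMap k (RatFunc k))).comp
          (C (RatFunc.X : RatFunc k) +
            C (algebraMap k[X] (RatFunc k) P / algebraMap k[X] (RatFunc k) Q) * X)) :
    Q = 1 ∧ ∃ a : k, P = 1 + C a * X := by
  set M := RatFunc k with hM
  set ι := algebraMap k M with hι
  set Pc : M := algebraMap k[X] M P with hPc
  set Qc : M := algebraMap k[X] M Q with hQc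
  set b : M := Pc / Qc with hb
  set ℓ : M[X] := C (RatFunc.X : M) + C b * X with hℓ
  set PM := P.map ι with hPM
  set QM := Q.map ι with hQM
  have hQ0 : Q ≠ 0 := hQm.ne_zero
  have hPc0 : Pc ≠ 0 := fun h => hP0 (RatFunc.algebraMap_injective k (by rw [← hPc, h, map_zero]))
  have hQc0 : Qc ≠ 0 := fun h => hQ0 (RatFunc.algebraMap_injective k (by rw [← hQc, h, map_zero]))
  have hb0 : b ≠ 0 := div_ne_zero hPc0 hQc0
  have hℓdeg : ℓ.natDegree = 1 := by
    rw [hℓ, add_comm]
    exact natDegree_linear hb0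
  have hℓlc : ℓ.leadingCoeff = b := by
    rw [hℓ, add_comm]
    exact leadingCoeff_linear hb0
  have hℓ0 : ℓ.eval 0 = (RatFunc.X : M) := by simp [hℓ]
  have hιinj : Function.Injective ι := (algebraMap k M).injective
  have hQMm : QM.Monic := hQm.map ι
  have hevalX : ∀ G : k[X], (G.map ι).eval (RatFunc.X : M) = algebraMap k[X] M G := by
    intro G
    rw [eval_map, ← aeval_def, RatFunc.aeval_X_left_eq_algebraMap]
  -- Step (i)-(iii)
  have hcopM : IsCoprime QM PM := hcop.symm.map (Polynomial.mapRingHom ι)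
  have hCb : IsUnit (C b : M[X]) := (isUnit_C).2 (isUnit_iff_ne_zero.2 hb0)
  have hcopM' : IsCoprime QM (C b * PM) :=
    (isCoprime_mul_unit_left_right hCb QM PM).2 hcopM
  have hdvd : QM ∣ QM.comp ℓ := by
    refine hcopM'.dvd_of_dvd_mul_right ?_
    exact ⟨PM.comp ℓ, by rw [mul_comm (QM.comp ℓ), ← H]; ring⟩
  obtain ⟨Rr, hRr⟩ := hdvd
  have hlcQ : (QM.comp ℓ).leadingCoeff = b ^ Q.natDegree := by
    rw [leadingCoeff_comp (by rw [hℓdeg]; exact one_ne_zero), hℓlc, hQMm.leadingCoeff, one_mul,
      hQm.natDegree_map]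
  have hcompne : QM.comp ℓ ≠ 0 := by
    intro h
    rw [h, leadingCoeff_zero] at hlcQ
    exact pow_ne_zero _ hb0 hlcQ.symm
  have hRr0 : Rr ≠ 0 := by rintro rfl; exact hcompne (by rw [hRr, mul_zero])
  have hRdeg : Rr.natDegree = 0 := by
    have h1 : (QM.comp ℓ).natDegree = QM.natDegree := by rw [natDegree_comp, hℓdeg, mul_one]
    rw [hRr, natDegree_mul hQMm.ne_zero hRr0] at h1
    omega
  obtain ⟨c, hc⟩ : ∃ c : M, Rr = C c := ⟨_, eq_C_of_natDegree_eq_zero hRdeg⟩
  have hcb : c = b ^ Q.natDegree := by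
    rw [← hlcQ, hRr, hc, leadingCoeff_mul, hQMm.leadingCoeff, one_mul, leadingCoeff_C]
  -- Step (iv)
  have heval : Qc = b ^ Q.natDegree * ι (Q.eval 0) := by
    have := congrArg (Polynomial.eval (0 : M)) hRr
    rw [eval_comp, hℓ0, hevalX, eval_mul, hc, eval_C, eval_zero_map] at this
    rw [hQc, this, hcb, mul_comm]
  have hpoly : Q ^ (Q.natDegree + 1) = C (Q.eval 0) * P ^ Q.natDegree := by
    apply RatFunc.algebraMap_injective k
    rw [map_pow, map_mul, map_pow, ← hPc, ← hQc]
    have hCι : algebraMap k[X] M (C (Q.eval 0)) = ι (Q.eval 0) := by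
      rw [hι, RatFunc.algebraMap_C]; rfl
    rw [hCι]
    have hq0 : Qc ^ Q.natDegree ≠ 0 := pow_ne_zero _ hQc0
    calc Qc ^ (Q.natDegree + 1) = Qc ^ Q.natDegree * Qc := pow_succ _ _
      _ = Qc ^ Q.natDegree * ((Pc / Qc) ^ Q.natDegree * ι (Q.eval 0)) := by rw [← hb, ← heval]
      _ = ι (Q.eval 0) * Pc ^ Q.natDegree := by
          rw [div_pow, ← mul_assoc, mul_div_cancel₀ _ hq0, mul_comm]
  -- Step (v)
  have hQunit : IsUnit Q := by
    refine (hcop.symm.pow_right (n := Q.natDegree)).isUnit_of_dvd' dvd_rfl ?_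
    refine ⟨C (Q.eval 0)⁻¹ * Q ^ Q.natDegree, ?_⟩
    have : P ^ Q.natDegree = C (Q.eval 0)⁻¹ * Q ^ (Q.natDegree + 1) := by
      rw [hpoly, ← mul_assoc, ← C_mul, inv_mul_cancel₀ h0, C_1, one_mul]
    rw [this, pow_succ]; ring
  have hQ1 : Q = 1 := hQm.isUnit_iff.1 hQunit
  refine ⟨hQ1, ?_⟩
  -- Step (vi)
  have hQM1 : QM = 1 := by rw [hQM, hQ1, Polynomial.map_one]
  have hQc1 : Qc = 1 := by rw [hQc, hQ1, map_one]
  have hbP : b = Pc := by rw [hb, hQc1, div_one]
  rw [hQM1, one_comp, mul_one, mul_one] at H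
  have hlcP : PM.leadingCoeff ≠ 0 := by
    rw [hPM, leadingCoeff_map]
    exact (map_ne_zero ι).2 (leadingCoeff_ne_zero.2 hP0)
  have hdegPM : PM.natDegree = P.natDegree := natDegree_map_eq_of_injective hιinj P
  have hbp : b ^ P.natDegree = b := by
    have := congrArg leadingCoeff H
    rw [leadingCoeff_comp (by rw [hℓdeg]; exact one_ne_zero), hℓlc, leadingCoeff_mul,
      leadingCoeff_C, hdegPM, mul_comm] at this
    exact mul_right_cancel₀ hlcP this
  have hdegle : P.natDegree ≤ 1 := by
    by_contra hcon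
    push Not at hcon
    have h2 : b ^ (P.natDegree - 1) = 1 := by
      have : b ^ (P.natDegree - 1) * b = 1 * b := by
        rw [← pow_succ, one_mul, Nat.sub_add_cancel (by omega), hbp]
      exact mul_right_cancel₀ hb0 this
    have h3 : P ^ (P.natDegree - 1) = 1 := by
      apply RatFunc.algebraMap_injective k
      rw [map_pow, map_one, ← hPc, ← hbP, h2]
    have hPu : IsUnit P := IsUnit.of_pow_eq_one h3 (by omega)
    have := natDegree_eq_zero_of_isUnit hPu
    omega
  have hP1 : P.eval 0 = 1 := by rw [h1, hQ1]; simp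
  refine ⟨P.coeff 1, ?_⟩
  have := eq_X_add_C_of_natDegree_le_one hdegle
  rw [← coeff_zero_eq_eval_zero] at hP1
  rw [hP1, C_1, add_comm] at this
  exact this

end core

section transfer
variable {k : Type} [Field k]

lemma aeval_X_injective (i : Fin 2) :
    Function.Injective (Polynomial.aeval (R := k) (MvPolynomial.X i : MvPolynomial (Fin 2) k)) := by
  intro G1 G2 h
  have := congrArg (MvPolynomial.aeval (R := k) (fun _ : Fin 2 => (Polynomial.X : k[X]))) h
  simpa [← Polynomial.aeval_algHom_apply] using this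

/-- from the functional equation in `Frac k[x,y]` to the polynomial identity over `RatFunc k`. -/
lemma transfer (F : RatFunc k) (hF0 : F ≠ 0)
    (hFE : RatFunc.eval (algebraMap k (FractionRing (MvPolynomial (Fin 2) k)))
        (algebraMap (MvPolynomial (Fin 2) k) (FractionRing (MvPolynomial (Fin 2) k)) (MvPolynomial.X 0) +
          algebraMap (MvPolynomial (Fin 2) k) (FractionRing (MvPolynomial (Fin 2) k)) (MvPolynomial.X 1) *
            RatFunc.eval (algebraMap k (FractionRing (MvPolynomial (Fin 2) k)))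
              (algebraMap (MvPolynomial (Fin 2) k) (FractionRing (MvPolynomial (Fin 2) k)) (MvPolynomial.X 0)) F) F =
      RatFunc.eval (algebraMap k (FractionRing (MvPolynomial (Fin 2) k)))
          (algebraMap (MvPolynomial (Fin 2) k) (FractionRing (MvPolynomial (Fin 2) k)) (MvPolynomial.X 0)) F *
        RatFunc.eval (algebraMap k (FractionRing (MvPolynomial (Fin 2) k)))
          (algebraMap (MvPolynomial (Fin 2) k) (FractionRing (MvPolynomial (Fin 2) k)) (MvPolynomial.X 1)) F) :
    (F.num.map (algebraMap k (RatFunc k))).comp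
          (C (RatFunc.X : RatFunc k) +
            C (algebraMap k[X] (RatFunc k) F.num / algebraMap k[X] (RatFunc k) F.denom) * X) *
          F.denom.map (algebraMap k (RatFunc k)) =
        C (algebraMap k[X] (RatFunc k) F.num / algebraMap k[X] (RatFunc k) F.denom) *
          F.num.map (algebraMap k (RatFunc k)) *
          (F.denom.map (algebraMap k (RatFunc k))).comp
          (C (RatFunc.X : RatFunc k) +
            C (algebraMap k[X] (RatFunc k) F.num / algebraMap k[X] (RatFunc k) F.denom) * X) := by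
  set P := F.num with hP
  set Q := F.denom with hQ
  have hP0 : P ≠ 0 := fun h => hF0 (RatFunc.num_eq_zero_iff.1 h)
  have hQ0 : Q ≠ 0 := F.denom_ne_zero
  set Lf := FractionRing (MvPolynomial (Fin 2) k) with hLf
  set ι : k →+* Lf := algebraMap k Lf with hι
  set j : MvPolynomial (Fin 2) k →+* Lf := algebraMap (MvPolynomial (Fin 2) k) Lf with hj
  have hjinj : Function.Injective j := IsFractionRing.injective (MvPolynomial (Fin 2) k) Lf
  set x : MvPolynomial (Fin 2) k := MvPolynomial.X 0 with hx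
  set y : MvPolynomial (Fin 2) k := MvPolynomial.X 1 with hy
  set Px := Polynomial.aeval x P with hPx
  set Qx := Polynomial.aeval x Q with hQx
  set Py := Polynomial.aeval y P with hPy
  set Qy := Polynomial.aeval y Q with hQy
  have hjC : ∀ a : k, j (MvPolynomial.C a) = ι a := fun a => by
    rw [hj, hι, ← MvPolynomial.algebraMap_eq, ← IsScalarTower.algebraMap_apply]
  have hjeval : ∀ (z : MvPolynomial (Fin 2) k) (G : k[X]),
      Polynomial.eval₂ ι (j z) G = j (Polynomial.aeval z G) := by
    intro z G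
    have hcomp : j.comp (algebraMap k (MvPolynomial (Fin 2) k)) = ι := by
      ext a
      simp [hjC, MvPolynomial.algebraMap_eq]
    rw [Polynomial.aeval_def, Polynomial.hom_eval₂, hcomp]
  have hPx0 : Px ≠ 0 := fun h => hP0 (aeval_X_injective 0 (by rw [← hPx, h, map_zero]))
  have hQx0 : Qx ≠ 0 := fun h => hQ0 (aeval_X_injective 0 (by rw [← hQx, h, map_zero]))
  have hPy0 : Py ≠ 0 := fun h => hP0 (aeval_X_injective 1 (by rw [← hPy, h, map_zero]))
  have hQy0 : Qy ≠ 0 := fun h => hQ0 (aeval_X_injective 1 (by rw [← hQy, h, map_zero]))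
  have hj0 : ∀ z : MvPolynomial (Fin 2) k, z ≠ 0 → j z ≠ 0 := fun z hz h =>
    hz (hjinj (by rw [h, map_zero]))
  -- rewrite the functional equation
  simp only [RatFunc.eval] at hFE
  rw [← hP, ← hQ, hjeval x P, hjeval x Q, hjeval y P, hjeval y Q, ← hPx, ← hQx, ← hPy, ← hQy] at hFE
  set t : Lf := j x + j y * (j Px / j Qx) with ht
  set u : MvPolynomial (Fin 2) k := x * Qx + y * Px with hu
  have hjQx := hj0 Qx hQx0
  have hju : j u = j Qx * t := by
    rw [hu, ht, map_add, map_mul, map_mul, mul_add, ← mul_assoc, mul_comm (j Qx) (j y), mul_assoc,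
      mul_div_cancel₀ _ hjQx]
    ring
  -- homogenised polynomials
  set Hd : k[X] → ℕ → MvPolynomial (Fin 2) k := fun G d =>
    ∑ i ∈ Finset.range (d + 1), MvPolynomial.C (G.coeff i) * u ^ i * Qx ^ (d - i) with hHd
  have hH : ∀ (G : k[X]) (d : ℕ), G.natDegree ≤ d →
      j (Hd G d) = (j Qx) ^ d * Polynomial.eval₂ ι t G := by
    intro G d hd
    rw [hHd]
    simp only [map_sum, map_mul, map_pow, hjC, hju]
    exact homog_sum ι G d hd (j Qx) t
  -- the denominator does not vanish
  have hQt : Polynomial.eval₂ ι t Q ≠ 0 := by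
    intro h
    rw [h, div_zero] at hFE
    have := hFE.symm
    rw [mul_eq_zero, div_eq_zero_iff, div_eq_zero_iff] at this
    rcases this with (h | h) | (h | h)
    · exact hj0 _ hPx0 h
    · exact hjQx h
    · exact hj0 _ hPy0 h
    · exact hj0 _ hQy0 h
  have hcross : Polynomial.eval₂ ι t P * (j Qx * j Qy) =
      Polynomial.eval₂ ι t Q * (j Px * j Py) := by
    have hjQy := hj0 Qy hQy0
    field_simp at hFE
    linear_combination hFE
  -- the identity in k[x,y]
  have hstar : Hd P P.natDegree * Qx ^ Q.natDegree * Qx * Qy =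
      Hd Q Q.natDegree * Qx ^ P.natDegree * Px * Py := by
    apply hjinj
    simp only [map_mul, map_pow]
    rw [hH P _ le_rfl, hH Q _ le_rfl]
    linear_combination (j Qx) ^ P.natDegree * (j Qx) ^ Q.natDegree * hcross
  -- map to (RatFunc k)[y]
  set M := RatFunc k with hM
  set ι' : k →+* M := algebraMap k M with hι'
  set Pc : M := algebraMap k[X] M P with hPc
  set Qc : M := algebraMap k[X] M Q with hQc
  have hQc0 : Qc ≠ 0 := fun h => hQ0 (RatFunc.algebraMap_injective k (by rw [← hQc, h, map_zero]))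
  set b : M := Pc / Qc with hb
  set ℓ : M[X] := C (RatFunc.X : M) + C b * X with hℓ
  set Ψ : MvPolynomial (Fin 2) k →+* M[X] :=
    MvPolynomial.eval₂Hom (C.comp ι') ![C (RatFunc.X : M), X] with hΨ
  have hΨx : Ψ x = C (RatFunc.X : M) := by simp [hΨ, hx]
  have hΨy : Ψ y = X := by simp [hΨ, hy]
  have hΨC : ∀ a : k, Ψ (MvPolynomial.C a) = C (ι' a) := fun a => by simp [hΨ]
  have hΨeval : ∀ (z : MvPolynomial (Fin 2) k) (G : k[X]),
      Ψ (Polynomial.aeval z G) = Polynomial.eval₂ (C.comp ι') (Ψ z) G := by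
    intro z G
    have hcomp : Ψ.comp (algebraMap k (MvPolynomial (Fin 2) k)) = C.comp ι' := by
      ext a
      simp [hΨC, MvPolynomial.algebraMap_eq]
    rw [Polynomial.aeval_def, Polynomial.hom_eval₂, hcomp]
  have hconst : ∀ G : k[X], Polynomial.eval₂ (C.comp ι') (C (RatFunc.X : M)) G =
      C (algebraMap k[X] M G) := by
    intro G
    rw [← Polynomial.hom_eval₂, ← Polynomial.aeval_def, RatFunc.aeval_X_left_eq_algebraMap]
  have hvar : ∀ G : k[X], Polynomial.eval₂ (C.comp ι') (X : M[X]) G = G.map ι' := by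
    intro G
    rw [← Polynomial.eval₂_map, Polynomial.eval₂_C_X]
  have hΨPx : Ψ Px = C Pc := by rw [hPx, hΨeval, hΨx, hconst]
  have hΨQx : Ψ Qx = C Qc := by rw [hQx, hΨeval, hΨx, hconst]
  have hΨPy : Ψ Py = P.map ι' := by rw [hPy, hΨeval, hΨy, hvar]
  have hΨQy : Ψ Qy = Q.map ι' := by rw [hQy, hΨeval, hΨy, hvar]
  have hCPc : (C Pc : M[X]) = C Qc * C b := by
    rw [← C_mul, hb, mul_div_cancel₀ _ hQc0]
  have hΨu : Ψ u = C Qc * ℓ := by
    rw [hu, map_add, map_mul, map_mul, hΨx, hΨy, hΨPx, hΨQx, hℓ, hCPc]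
    ring
  have hΨH : ∀ (G : k[X]) (d : ℕ), G.natDegree ≤ d →
      Ψ (Hd G d) = (C Qc) ^ d * (G.map ι').comp ℓ := by
    intro G d hd
    rw [hHd]
    simp only [map_sum, map_mul, map_pow, hΨC, hΨu, hΨQx]
    have := homog_sum (C.comp ι') G d hd (C Qc) ℓ
    simp only [RingHom.comp_apply] at this
    rw [this, Polynomial.comp, Polynomial.eval₂_map]
  have hmapped := congrArg Ψ hstar
  simp only [map_mul, map_pow] at hmapped
  rw [hΨH P _ le_rfl, hΨH Q _ le_rfl, hΨPx, hΨQx, hΨPy, hΨQy, hCPc] at hmapped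
  have hCQ : (C Qc : M[X]) ^ (P.natDegree + Q.natDegree + 1) ≠ 0 :=
    pow_ne_zero _ (C_ne_zero.2 hQc0)
  apply mul_left_cancel₀ hCQ
  rw [pow_succ, pow_add]
  linear_combination hmapped

end transfer


/-- Let k be a field and F ∈ k(X) a rational function whose denominator does not vanish at 0 and with
F(0) = 1. Suppose that in the field of fractions L of k[X₀, X₁] one has F(X₀ + X₁ · F(X₀)) = F(X₀) ·
F(X₁) (the functional equation F(x + y F(x)) = F(x) F(y)). Then there is a ∈ k with F = 1 + a X.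
(The published statement takes the identity on an open neighbourhood of the origin of 𝔾_a × 𝔾_a on
which all terms are defined; this row takes it as an identity of rational functions in two
variables.) -/
theorem result (k : Type) [Field k] (F : RatFunc k)
    (h0 : F.denom.eval 0 ≠ 0) (h1 : F.num.eval 0 = F.denom.eval 0)
    (hFE : RatFunc.eval (algebraMap k (FractionRing (MvPolynomial (Fin 2) k)))
        (algebraMap (MvPolynomial (Fin 2) k) (FractionRing (MvPolynomial (Fin 2) k)) (MvPolynomial.X 0) +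
          algebraMap (MvPolynomial (Fin 2) k) (FractionRing (MvPolynomial (Fin 2) k)) (MvPolynomial.X 1) *
            RatFunc.eval (algebraMap k (FractionRing (MvPolynomial (Fin 2) k)))
              (algebraMap (MvPolynomial (Fin 2) k) (FractionRing (MvPolynomial (Fin 2) k)) (MvPolynomial.X 0)) F) F =
      RatFunc.eval (algebraMap k (FractionRing (MvPolynomial (Fin 2) k)))
          (algebraMap (MvPolynomial (Fin 2) k) (FractionRing (MvPolynomial (Fin 2) k)) (MvPolynomial.X 0)) F *
        RatFunc.eval (algebraMap k (FractionRing (MvPolynomial (Fin 2) k)))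
          (algebraMap (MvPolynomial (Fin 2) k) (FractionRing (MvPolynomial (Fin 2) k)) (MvPolynomial.X 1)) F) :
    ∃ a : k, F = 1 + RatFunc.C a * RatFunc.X := by
  have hF0 : F ≠ 0 := by
    intro h
    rw [h] at h1
    simp at h1
  have H := transfer F hF0 hFE
  obtain ⟨hQ1, a, hPa⟩ := core F.num F.denom (RatFunc.isCoprime_num_denom F) (RatFunc.monic_denom F)
    (fun h => hF0 (RatFunc.num_eq_zero_iff.1 h)) h0 h1 H
  refine ⟨a, ?_⟩
  rw [← RatFunc.num_div_denom F, hQ1, hPa]
  simp [RatFunc.algebraMap_C, RatFunc.algebraMap_X]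

end Groth.Agent.S8471
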