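import Groth.Statements.S8475
import Groth.Agent.Lib.RankOne

set_option autoImplicit false
universe u
open CategoryTheory MonoidalCategory CartesianMonoidalCategory MonObj GrpObj AlgebraicGeometry CategoryTheory.Limits
open Red

namespace Groth.Agent.S8475

/-- Let G be a reductive S-group, i : T ⟶ G a maximal torus, α a character of T non-trivial on every
geometric fibre, p₊, p₋ : 𝔾_a ⟶ G monomorphisms of groups normalised by T with multipliers α and α⁻¹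
whose cell map (y, t, x) ↦ p₋(y) i(t) p₊(x) is an open immersion 𝔾_a ×_S T ×_S 𝔾_a ⟶ G, and α^* :
𝔾_m ⟶ T the coroot: α ∘ α^* is the squaring map and p₊(x) p₋(y) = p₋(y/(1+xy)) · i(α^*(1+xy)) ·
p₊(x/(1+xy)) whenever 1 + xy is invertible (so p₊ and p₋ are dual to each other). For a point x of
𝔾_a with invertible coordinate put w(x) = p₊(x) p₋(-x⁻¹) p₊(x). Then w(x) p₊(x) w(x)⁻¹ = p₋(-x⁻¹),
and consequently (w(x) p₊(x))³ = e. -/
theorem result (S : Scheme.{u}) (G T : Over S) [GrpObj G] [GrpObj T] (i : T ⟶ G) [IsMonHom i] [Mono i] (hG : Red.IsReductive G) (hTm : Red.IsMaximalTorus i)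
    (α : T ⟶ Red.Gm S) [IsMonHom α] (hα : ∀ s : S, (Over.pullback (Red.geomPt s)).map α ≠ 1)
    (pp pm : Red.Ga S ⟶ G) [IsMonHom pp] [Mono pp] [IsMonHom pm] [Mono pm]
    (hpp : ∀ (X : Over S) (t : X ⟶ T) (x : X ⟶ Red.Ga S), ∃ x' : X ⟶ Red.Ga S,
      x' ≫ pp = (t ≫ i) * (x ≫ pp) * (t ≫ i)⁻¹ ∧ Red.gaFn x' = Red.gmFn (t ≫ α) * Red.gaFn x)
    (hpm : ∀ (X : Over S) (t : X ⟶ T) (y : X ⟶ Red.Ga S), ∃ y' : X ⟶ Red.Ga S,
      y' ≫ pm = (t ≫ i) * (y ≫ pm) * (t ≫ i)⁻¹ ∧ Red.gaFn y' * Red.gmFn (t ≫ α) = Red.gaFn y)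
    (hΩ : IsOpenImmersion (((pm ⊗ₘ i) ⊗ₘ pp) ≫ (μ[G] ▷ G) ≫ μ[G]).left)
    (av : Red.Gm S ⟶ T) [IsMonHom av] (h2 : av ≫ α = (𝟙 (Red.Gm S)) ^ 2)
    (hF : ∀ (X : Over S) (x y : X ⟶ Red.Ga S), IsUnit (1 + Red.gaFn x * Red.gaFn y) →
      ∃ (x' y' : X ⟶ Red.Ga S) (z : X ⟶ Red.Gm S), Red.gmFn z = 1 + Red.gaFn x * Red.gaFn y ∧
        Red.gaFn x' * Red.gmFn z = Red.gaFn x ∧ Red.gaFn y' * Red.gmFn z = Red.gaFn y ∧
        (x ≫ pp) * (y ≫ pm) = (y' ≫ pm) * (z ≫ av ≫ i) * (x' ≫ pp))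
    (X : Over S) (x x' : X ⟶ Red.Ga S) (hx : Red.gaFn x' * Red.gaFn x = -1) :
    ((x ≫ pp) * (x' ≫ pm) * (x ≫ pp)) * (x ≫ pp) * ((x ≫ pp) * (x' ≫ pm) * (x ≫ pp))⁻¹ = x' ≫ pm ∧
      (((x ≫ pp) * (x' ≫ pm) * (x ≫ pp)) * (x ≫ pp)) ^ 3 = 1 := by
  open Groth.Agent.Lib Groth.Agent.Lib.RankOne in
  have H : RankOne.Sys i α pp pm av := ⟨hpp, hpm, h2, hF⟩
  have hsep : IsSeparated G.hom := by
    have := hG.1
    exact IsSeparated.of_isAffineHom _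
  have hbraid := H.braid hx
  have hm : ((-1 : (Γ(X.left, ⊤))ˣ) : Γ(X.left, ⊤)) * Red.gaFn x = - Red.gaFn x := by
    rw [Units.val_neg, Units.val_one, neg_one_mul]
  have hsq := H.w_mul_w (-1) hx hx hm
  have hD : D av i (-1 : (Γ(X.left, ⊤))ˣ) * D av i (-1 : (Γ(X.left, ⊤))ˣ) = 1 := by
    rw [← D_mul, neg_mul_neg, _root_.one_mul, D_one]
  rw [P_of pp x, P_of pm x']
  generalize P pp (Red.gaFn x) = A at *
  generalize P pm (Red.gaFn x') = B at *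
  generalize D av i (-1 : (Γ(X.left, ⊤))ˣ) = c at *
  have e1 : A * B * A * A = B * (A * B * A) := by
    calc A * B * A * A = (B * A * B) * A := congrArg (· * A) hbraid
      _ = B * (A * B * A) := by group
  constructor
  · rw [e1]; group
  · calc (A * B * A * A) ^ 3 = (B * (A * B * A)) ^ 3 := by rw [e1]
      _ = (B * (A * B * A)) * (B * (A * B * A)) * (B * (A * B * A)) := by rw [pow_succ, pow_two]
      _ = (B * A * B) * (A * B * A) * ((B * A * B) * (A * B * A)) := by group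
      _ = (A * B * A) * (A * B * A) * ((A * B * A) * (A * B * A)) := by rw [← hbraid]
      _ = 1 := by rw [hsq, hD]

end Groth.Agent.S8475
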