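import Groth.Statements.S8476
import Groth.Agent.Lib.RankOne

set_option autoImplicit false
universe u
open CategoryTheory MonoidalCategory CartesianMonoidalCategory MonObj GrpObj AlgebraicGeometry CategoryTheory.Limits
open Red

namespace Groth.Agent.S8476

/-- The product of two elements of the big cell: Let G be an S-group scheme, i : T ⟶ G a torus of G (a
monomorphism of groups), α : T ⟶ 𝔾_m and α^* : 𝔾_m ⟶ T homomorphisms with α ∘ α^* the squaring map,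
and p₊, p₋ : 𝔾_a ⟶ G homomorphisms normalised by T with multipliers α and α⁻¹ which satisfy the
rank-one commutation rule: whenever 1 + xy is invertible, p₊(x) p₋(y) = p₋(y/(1+xy)) · i(α^*(1+xy))
· p₊(x/(1+xy)) (the situation of any reductive group of semisimple rank 1 with trivialised root
groups, where α^* is the coroot). Let y, t, x, y', t', x' be points (of 𝔾_a, T, 𝔾_a, ...) with u = 1
+ x y' invertible. Then p₋(y) i(t) p₊(x) · p₋(y') i(t') p₊(x') = p₋(y + y'/(u α(t))) · i(t α^*(u)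
t') · p₊(x/(u α(t')) + x'). (The published statement is for a reductive group of semisimple rank one
with a maximal torus and a root, and also asserts that the product lies in the big cell only if u is
invertible; this row assumes only the commutation rule, the normalisation of p₊, p₋ by T and α ∘ α^*
the squaring map, which is all the published proof uses for the product formula, and does not assert
the converse membership statement.) -/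
theorem result (S : Scheme.{u}) (G T : Over S) [GrpObj G] [GrpObj T] (i : T ⟶ G) [IsMonHom i] [Mono i] (hT : Red.IsTorus T)
    (α : T ⟶ Red.Gm S) [IsMonHom α]
    (pp pm : Red.Ga S ⟶ G) [IsMonHom pp] [IsMonHom pm]
    (hpp : ∀ (X : Over S) (t : X ⟶ T) (x : X ⟶ Red.Ga S), ∃ x' : X ⟶ Red.Ga S,
      x' ≫ pp = (t ≫ i) * (x ≫ pp) * (t ≫ i)⁻¹ ∧ Red.gaFn x' = Red.gmFn (t ≫ α) * Red.gaFn x)
    (hpm : ∀ (X : Over S) (t : X ⟶ T) (y : X ⟶ Red.Ga S), ∃ y' : X ⟶ Red.Ga S,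
      y' ≫ pm = (t ≫ i) * (y ≫ pm) * (t ≫ i)⁻¹ ∧ Red.gaFn y' * Red.gmFn (t ≫ α) = Red.gaFn y)
    (av : Red.Gm S ⟶ T) [IsMonHom av] (h2 : av ≫ α = (𝟙 (Red.Gm S)) ^ 2)
    (hF : ∀ (X : Over S) (x y : X ⟶ Red.Ga S), IsUnit (1 + Red.gaFn x * Red.gaFn y) →
      ∃ (x' y' : X ⟶ Red.Ga S) (z : X ⟶ Red.Gm S), Red.gmFn z = 1 + Red.gaFn x * Red.gaFn y ∧
        Red.gaFn x' * Red.gmFn z = Red.gaFn x ∧ Red.gaFn y' * Red.gmFn z = Red.gaFn y ∧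
        (x ≫ pp) * (y ≫ pm) = (y' ≫ pm) * (z ≫ av ≫ i) * (x' ≫ pp))
    (X : Over S) (x y x' y' y₂ x₂ : X ⟶ Red.Ga S) (t t' : X ⟶ T) (z : X ⟶ Red.Gm S)
    (hz : Red.gmFn z = 1 + Red.gaFn x * Red.gaFn y')
    (hy₂ : (Red.gaFn y₂ - Red.gaFn y) * Red.gmFn z * Red.gmFn (t ≫ α) = Red.gaFn y')
    (hx₂ : (Red.gaFn x₂ - Red.gaFn x') * Red.gmFn z * Red.gmFn (t' ≫ α) = Red.gaFn x) :
    ((y ≫ pm) * (t ≫ i) * (x ≫ pp)) * ((y' ≫ pm) * (t' ≫ i) * (x' ≫ pp)) =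
      (y₂ ≫ pm) * ((t * (z ≫ av) * t') ≫ i) * (x₂ ≫ pp) := by
  open Groth.Agent.Lib Groth.Agent.Lib.RankOne in
  have H : RankOne.Sys i α pp pm av := ⟨hpp, hpm, h2, hF⟩
  have hzu : Red.gmFn z = ((GmPts.unitOfPt z : (Γ(X.left, ⊤))ˣ) : Γ(X.left, ⊤)) := rfl
  have hl : Red.gmFn (t ≫ α) = ((GmPts.unitOfPt (t ≫ α) : (Γ(X.left, ⊤))ˣ) : Γ(X.left, ⊤)) := rfl
  have hl' : Red.gmFn (t' ≫ α) = ((GmPts.unitOfPt (t' ≫ α) : (Γ(X.left, ⊤))ˣ) : Γ(X.left, ⊤)) := rfl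
  have hM := fun b => H.conjM t b
  have hP := fun a => H.conjP t' a
  rw [hl'] at hP
  generalize GmPts.unitOfPt z = u at hzu
  generalize GmPts.unitOfPt (t ≫ α) = l at hl hM
  generalize GmPts.unitOfPt (t' ≫ α) = l' at hl' hP
  rw [hzu] at hz hy₂ hx₂
  rw [hl] at hy₂
  rw [hl'] at hx₂
  have huu : (u : Γ(X.left, ⊤)) * (↑u⁻¹ : Γ(X.left, ⊤)) = 1 := Units.mul_inv u
  have hll : (l : Γ(X.left, ⊤)) * (↑l⁻¹ : Γ(X.left, ⊤)) = 1 := Units.mul_inv l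
  have hll' : (l' : Γ(X.left, ⊤)) * (↑l'⁻¹ : Γ(X.left, ⊤)) = 1 := Units.mul_inv l'
  have ey : Red.gaFn y₂ = Red.gaFn y + Red.gaFn y' * (↑u⁻¹ : Γ(X.left, ⊤)) * (↑l⁻¹ : Γ(X.left, ⊤)) := by
    linear_combination ((↑u⁻¹ : Γ(X.left, ⊤)) * (↑l⁻¹ : Γ(X.left, ⊤))) * hy₂
      - ((Red.gaFn y₂ - Red.gaFn y) * (u : Γ(X.left, ⊤)) * (↑u⁻¹ : Γ(X.left, ⊤))) * hll
      - (Red.gaFn y₂ - Red.gaFn y) * huu
  have ex : Red.gaFn x₂ = Red.gaFn x * (↑u⁻¹ : Γ(X.left, ⊤)) * (↑l'⁻¹ : Γ(X.left, ⊤)) + Red.gaFn x' := by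
    linear_combination ((↑u⁻¹ : Γ(X.left, ⊤)) * (↑l'⁻¹ : Γ(X.left, ⊤))) * hx₂
      - ((Red.gaFn x₂ - Red.gaFn x') * (u : Γ(X.left, ⊤)) * (↑u⁻¹ : Γ(X.left, ⊤))) * hll'
      - (Red.gaFn x₂ - Red.gaFn x') * huu
  have hF1 := H.F (Red.gaFn x) (Red.gaFn y') u hz
  have hM1 := hM (Red.gaFn y' * (↑u⁻¹ : Γ(X.left, ⊤)))
  have hP1 := hP (Red.gaFn x * (↑u⁻¹ : Γ(X.left, ⊤)) * (↑l'⁻¹ : Γ(X.left, ⊤)))
  have e3 : (l' : Γ(X.left, ⊤)) * (Red.gaFn x * (↑u⁻¹ : Γ(X.left, ⊤)) * (↑l'⁻¹ : Γ(X.left, ⊤))) =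
      Red.gaFn x * (↑u⁻¹ : Γ(X.left, ⊤)) := by linear_combination (Red.gaFn x * (↑u⁻¹ : Γ(X.left, ⊤))) * hll'
  rw [e3] at hP1
  rw [MonObj.mul_comp, MonObj.mul_comp, Category.assoc, D_of' av i hzu, P_of pm y, P_of pp x, P_of pm y', P_of pp x', P_of' pm ey,
    P_of' pp ex, P_add, P_add]
  generalize P pm (Red.gaFn y) = Mb at *
  generalize P pp (Red.gaFn x) = Pa at *
  generalize P pm (Red.gaFn y') = Mb' at *
  generalize P pp (Red.gaFn x') = Pa' at *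
  generalize P pm (Red.gaFn y' * (↑u⁻¹ : Γ(X.left, ⊤))) = K at *
  generalize P pp (Red.gaFn x * (↑u⁻¹ : Γ(X.left, ⊤))) = Q at *
  generalize P pm (Red.gaFn y' * (↑u⁻¹ : Γ(X.left, ⊤)) * (↑l⁻¹ : Γ(X.left, ⊤))) = K' at *
  generalize P pp (Red.gaFn x * (↑u⁻¹ : Γ(X.left, ⊤)) * (↑l'⁻¹ : Γ(X.left, ⊤))) = Q' at *
  generalize D av i u = Du at *
  generalize t ≫ i = τ at *
  generalize t' ≫ i = τ' at *
  calc Mb * τ * Pa * (Mb' * τ' * Pa') = Mb * τ * (Pa * Mb') * τ' * Pa' := by group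
    _ = Mb * τ * (K * Du * Q) * τ' * Pa' := by rw [hF1]
    _ = Mb * (τ * K * τ⁻¹) * τ * Du * (τ' * Q' * τ'⁻¹) * τ' * Pa' := by rw [← hP1]; group
    _ = Mb * K' * τ * Du * (τ' * Q' * τ'⁻¹) * τ' * Pa' := by rw [hM1]
    _ = Mb * K' * (τ * Du * τ') * (Q' * Pa') := by group

end Groth.Agent.S8476
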