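import Groth.Statements.S8513

set_option autoImplicit false
set_option maxHeartbeats 400000
open CategoryTheory MonoidalCategory CartesianMonoidalCategory MonObj GrpObj AlgebraicGeometry
universe u
open Par

namespace Groth.Agent.S8513

open CategoryTheory.Limits

section aux

variable {C : Type*} [Category C] [CartesianMonoidalCategory C] {G P Q I : C} [GrpObj G] [GrpObj Q]

/-- The intersection `P ×_G Q` is the fibre over the unit of `(a, b) ↦ p(a) q(b)`. -/
lemma isPullback_fibre (p : P ⟶ G) (q : Q ⟶ G) [IsMonHom q] (m : I ⟶ P) (m' : I ⟶ Q)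
    (hI : IsPullback m m' p q) :
    IsPullback (lift m (m' ≫ ι[Q])) (toUnit I) ((p ⊗ₘ q) ≫ μ[G]) η[G] := by
  have hmul : ∀ {T : C} (s : T ⟶ P ⊗ Q), s ≫ (p ⊗ₘ q) ≫ μ[G] =
      ((s ≫ fst P Q) ≫ p) * ((s ≫ snd P Q) ≫ q) := by
    intro T s
    rw [Hom.mul_def, ← Category.assoc s]
    congr 1
    apply CartesianMonoidalCategory.hom_ext <;> simp
  have hcond : ∀ s : PullbackCone ((p ⊗ₘ q) ≫ μ[G]) η[G],
      (s.fst ≫ fst P Q) ≫ p = (s.fst ≫ snd P Q)⁻¹ ≫ q := by
    intro s
    have h1 := s.condition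
    rw [hmul, toUnit_unique s.snd (toUnit s.pt), ← Hom.one_def] at h1
    rw [GrpObj.inv_comp]
    exact eq_inv_of_mul_eq_one_left h1
  refine ⟨⟨?_⟩, ⟨PullbackCone.IsLimit.mk _
    (fun s => hI.lift (s.fst ≫ fst P Q) ((s.fst ≫ snd P Q)⁻¹) (hcond s)) ?_ ?_ ?_⟩⟩
  · rw [hmul, lift_fst, lift_snd, ← Hom.one_def, ← Hom.inv_def, GrpObj.inv_comp, hI.w,
      mul_inv_cancel]
  · intro s
    apply CartesianMonoidalCategory.hom_ext
    · rw [Category.assoc, lift_fst, hI.lift_fst]
    · rw [Category.assoc, lift_snd, ← Category.assoc, hI.lift_snd, ← Hom.inv_def, _root_.inv_inv]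
  · intro s
    exact toUnit_unique _ _
  · intro s l h1 h2
    apply hI.hom_ext
    · rw [hI.lift_fst, ← h1, Category.assoc, lift_fst]
    · rw [hI.lift_snd, ← h1, Category.assoc, lift_snd, ← Category.assoc, ← Hom.inv_def, _root_.inv_inv]

end aux

/-- Let G be a reductive S-group and P, Q two parabolic subgroups of G in transversal position (the
multiplication morphism P ×_S Q ⟶ G is smooth). Then P ∩ Q (a fibre product of P and Q over G) is
smooth over S. -/
theorem result {S : Scheme.{u}} {G P Q I : Over S} [GrpObj G] [GrpObj P] [GrpObj Q]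
    (hG : Red.IsReductive G) (p : P ⟶ G) (q : Q ⟶ G) (hP : Red.IsParabolic p) (hQ : Red.IsParabolic q)
    (htr : Smooth ((p ⊗ₘ q) ≫ μ[G]).left) (m : I ⟶ P) (m' : I ⟶ Q) (hI : IsPullback m m' p q) :
    Smooth I.hom := by
  have : IsMonHom q := hQ.1
  have sqO := isPullback_fibre p q m m' hI
  have sq : IsPullback (lift m (m' ≫ ι[Q])).left (toUnit I).left ((p ⊗ₘ q) ≫ μ[G]).left
      η[G].left := sqO.map (Over.forget S)
  have hunit : (toUnit I).left = I.hom := by
    have := Over.w (toUnit I)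
    rw [← this]
    exact (Category.comp_id _).symm
  rw [← hunit]
  exact MorphismProperty.of_isPullback (P := @Smooth) sq htr

end Groth.Agent.S8513
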