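import Groth.Statements.S8517
import Groth.Agent.Lib.RootDBaseOf
import Groth.Agent.S5459

set_option autoImplicit false
open CategoryTheory MonoidalCategory CartesianMonoidalCategory MonObj GrpObj AlgebraicGeometry
universe u
open RedSub

namespace Groth.Agent.S8517

open RootD RootPairing

/-- Let R be the set of roots of a root pairing over ℤ with finitely many roots, and R₁, R₂ two closed
subsets of R (if a, b ∈ Rᵢ and root a + root b is a root c then c ∈ Rᵢ), each containing a system of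
positive roots (the positive roots of some base). If R₁ ∪ R₂ = R, then R₁ ∩ (−R₂) (the roots of R₁
whose negative is a root in R₂) contains a system of positive roots. -/
theorem result {idx M N : Type} [Finite idx] [AddCommGroup M] [AddCommGroup N] (P : RootPairing idx ℤ M N) (R₁ R₂ : Set idx)
    (h₁ : ∀ a b c : idx, a ∈ R₁ → b ∈ R₁ → P.root a + P.root b = P.root c → c ∈ R₁)
    (h₂ : ∀ a b c : idx, a ∈ R₂ → b ∈ R₂ → P.root a + P.root b = P.root c → c ∈ R₂)
    (hb₁ : ∃ b : P.Base, RedSub.posRoots P b ⊆ R₁) (hb₂ : ∃ b : P.Base, RedSub.posRoots P b ⊆ R₂)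
    (hunion : R₁ ∪ R₂ = Set.univ) :
    ∃ b : P.Base, RedSub.posRoots P b ⊆ {a | a ∈ R₁ ∧ ∃ c ∈ R₂, P.root a = -P.root c} := by
  classical
  obtain ⟨b₁, hb₁⟩ := hb₁
  obtain ⟨b₂, hb₂⟩ := hb₂
  have hneg : ∀ a : idx, P.root (P.reflectionPerm a a) = -P.root a :=
    fun a => Groth.Agent.Lib.RootDBasic.root_reflectionPerm_self P a
  have hnegneg : ∀ a : idx, P.reflectionPerm (P.reflectionPerm a a) (P.reflectionPerm a a) = a :=
    fun a => Groth.Agent.Lib.RootDWord.reflectionPerm_reflectionPerm_self P a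
  -- totality of R₁ and R₂
  have htot : ∀ (b : P.Base) (R : Set idx), RedSub.posRoots P b ⊆ R →
      ∀ a, a ∈ R ∨ P.reflectionPerm a a ∈ R := by
    intro b R hR a
    rcases b.root_mem_or_neg_mem a with h | h
    · left; exact hR h
    · right
      apply hR
      show P.root (P.reflectionPerm a a) ∈ AddSubmonoid.closure (P.root '' (b.support : Set idx))
      rw [hneg]
      exact h
  have ht₁ := htot b₁ R₁ hb₁
  have ht₂ := htot b₂ R₂ hb₂
  have hmem : ∀ a : idx, a ∈ R₁ ∨ a ∈ R₂ := by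
    intro a
    have : a ∈ R₁ ∪ R₂ := by rw [hunion]; trivial
    exact this
  set Q : Set idx := {a | a ∈ R₁ ∧ P.reflectionPerm a a ∈ R₂} with hQ
  have hQsub : Q ⊆ {a | a ∈ R₁ ∧ ∃ c ∈ R₂, P.root a = -P.root c} := by
    rintro a ⟨ha1, ha2⟩
    exact ⟨ha1, P.reflectionPerm a a, ha2, by rw [hneg, neg_neg]⟩
  have hP2 : ∀ a : idx, a ∈ Q ∨ P.reflectionPerm a a ∈ Q := by
    intro a
    rcases hmem (P.reflectionPerm a a) with h | h
    · -- -a ∈ R₁
      by_cases ha2 : a ∈ R₂
      · right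
        exact ⟨h, by rw [hnegneg]; exact ha2⟩
      · left
        refine ⟨(hmem a).resolve_right ha2, (ht₂ a).resolve_left ha2⟩
    · -- -a ∈ R₂
      by_cases ha1 : a ∈ R₁
      · left
        exact ⟨ha1, h⟩
      · right
        exact ⟨(ht₁ a).resolve_left ha1, by rw [hnegneg]; exact (hmem a).resolve_left ha1⟩
  have hcl : RootD.IsClosedSub P Q := by
    intro i j k hi hj hk
    refine ⟨h₁ i j k hi.1 hj.1 hk.symm, ?_⟩
    apply h₂ _ _ _ hi.2 hj.2
    rw [hneg, hneg, hneg, hk, neg_add]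
  obtain ⟨Δ, Δ', hΔ, -, hQΔ⟩ := Groth.Agent.S5459.result P Q hP2 hcl
  obtain ⟨b, hb⟩ := Groth.Agent.Lib.RootDBaseOf.exists_base_of_isSimpleSys_of_base P b₁
    (Set.toFinite Δ).toFinset (by simpa using hΔ)
  refine ⟨b, fun a ha => hQsub ?_⟩
  rw [hQΔ]
  left
  have : (b.support : Set idx) = Δ := by rw [hb]; simp
  show P.root a ∈ RootD.natSpan P Δ
  rw [← this]
  exact ha

end Groth.Agent.S8517
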