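import Groth.Statements.S8524
import Groth.Agent.Lib.EtStalkPullGerm
import Mathlib.AlgebraicGeometry.Morphisms.UniversallyOpen
import Mathlib.AlgebraicGeometry.Morphisms.Flat

set_option autoImplicit false
universe u
open CategoryTheory CategoryTheory.Limits AlgebraicGeometry Opposite
open EtAcyc

namespace Groth.Agent.S8524

open Groth.Agent.Lib.EtGerm Groth.Agent.Lib.EtStalkPullGerm

/-- For the small etale site of a scheme and abelian sheaves: let L be a set of primes, F an abelian
L-torsion sheaf on the small etale site of a scheme X, and U an etale X-scheme with quasi-compact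
underlying space. Then every section of F over U is killed by some positive integer all of whose
prime factors lie in L. -/
theorem result {X : Scheme.{u}} (L : Set ℕ) (F : EtCoh.Ab X)
    (hF : EtAcyc.IsLTorsion L F) (U : X.Etale) [CompactSpace U.left] (s : EtCoh.sect F U) :
    ∃ m : ℕ, EtAcyc.PrimesIn L m ∧ m • s = 0 := by
  choose V g m hx hm h0 using hF U s
  have hopen : ∀ x : U.left, IsOpen (Set.range (g x).left) :=
    fun x => (g x).left.isOpenMap.isOpen_range
  have hcov : (Set.univ : Set U.left) ⊆ ⋃ x : U.left, Set.range (g x).left := by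
    intro x _
    obtain ⟨v, hv⟩ := hx x
    exact Set.mem_iUnion.2 ⟨x, v, hv⟩
  obtain ⟨t, ht⟩ := isCompact_univ.elim_finite_subcover _ hopen hcov
  refine ⟨∏ x ∈ t, m x, ⟨Finset.prod_pos fun x _ => (hm x).1, ?_⟩, ?_⟩
  · intro p hp hdvd
    obtain ⟨x, _, hx'⟩ := (Prime.dvd_finsetProd_iff hp.prime _).1 hdvd
    exact (hm x).2 p hp hx'
  · apply section_eq_zero_of_forall_pt
    intro u
    obtain ⟨x, hxt, hu⟩ : ∃ x ∈ t, u ∈ Set.range (g x).left := by
      have := ht (Set.mem_univ u)
      simpa using this
    refine ⟨V x, g x, hu, ?_⟩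
    obtain ⟨c, hc⟩ := Finset.dvd_prod_of_mem m hxt
    rw [map_nsmul, hc, mul_nsmul, h0 x, nsmul_zero]

end Groth.Agent.S8524
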