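import Groth.Statements.S8525
import Groth.Agent.Lib.EtGerm

set_option autoImplicit false
universe u
open CategoryTheory CategoryTheory.Limits AlgebraicGeometry Opposite
open EtAcyc

namespace Groth.Agent.S8525

open Groth.Agent.Lib.EtGerm Groth.Agent.Lib.EtStalkConservative

/-- Let L be a set of primes and F an abelian sheaf on the small etale site of a scheme X. Then F is an
L-torsion sheaf if and only if for every geometric point ξ of X every element of the stalk F_ξ is
killed by a positive integer all of whose prime factors lie in L. -/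
theorem result {X : Scheme.{u}} (L : Set ℕ) (F : EtCoh.Ab X) :
    EtAcyc.IsLTorsion L F ↔
      ∀ (Ω : Type u) [Field Ω] [IsSepClosed Ω] (ξ : Spec (CommRingCat.of Ω) ⟶ X)
        (t : (EtCoh.stalk ξ).obj F), ∃ m : ℕ, EtAcyc.PrimesIn L m ∧ m • t = 0 := by
  constructor
  · intro hF Ω _ _ ξ t
    obtain ⟨U, y, s, rfl⟩ := germ_jointly_surjective ξ F t
    obtain ⟨V, g, m, ⟨v, hv⟩, hm, hs⟩ := hF U s (Nbhd.pt ξ y)
    obtain ⟨z, hz, -⟩ := exists_nbhd_lift ξ g y v hv
    refine ⟨m, hm, ?_⟩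
    rw [← hz, ← germ_res, ← map_nsmul, hs, map_zero]
  · intro h U s x
    obtain ⟨y, hy⟩ := exists_stdPt_nbhd U x
    obtain ⟨m, hm, hs⟩ := h _ (stdPt (U.hom x)) (germ (stdPt (U.hom x)) F y s)
    rw [← map_nsmul, germ_eq_zero_iff] at hs
    obtain ⟨V, g, z, hz, hg⟩ := hs
    refine ⟨V, g, m, ⟨Nbhd.pt _ z, ?_⟩, hm, ?_⟩
    · exact ((Nbhd.pt_map _ g z).symm.trans (congrArg (Nbhd.pt _) hz)).trans hy
    · rw [← map_nsmul]
      exact hg

end Groth.Agent.S8525
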