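import Groth.Statements.S8532
import Groth.Agent.Lib.EtResCores95
import Groth.Agent.Lib.EtLiftsPullback95
import Groth.Agent.Lib.EtLTorsIso95

set_option autoImplicit false
universe u
open CategoryTheory CategoryTheory.Limits AlgebraicGeometry Opposite
open EtAcyc

namespace Groth.Agent.S8532

/-- Let f : X' → X be finite etale of constant degree d (every geometric fibre has exactly d points), L
a set of primes such that no prime in L divides d, F an abelian L-torsion sheaf on the small etale
site of X, and q a natural number. If H^q(X', f⁻¹F) = 0, then H^q(X, F) = 0. -/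
theorem result {X X' : Scheme.{u}} (f : X' ⟶ X) [IsFinite f] [Etale f]
    (d : ℕ) (hd : ∀ (Ω : Type u) [Field Ω] [IsSepClosed Ω] (ξ : Spec (CommRingCat.of Ω) ⟶ X),
      Nat.card ↥(pullback f ξ) = d)
    (L : Set ℕ) (hL : ∀ p : ℕ, p.Prime → p ∈ L → ¬ p ∣ d) (F : EtCoh.Ab X) (hF : EtAcyc.IsLTorsion L F)
    [PreservesFiniteLimits (EtCoh.pull f)] (q : ℕ)
    (h : Subsingleton (EtCoh.H X' ((EtCoh.pull f).obj F) q)) :
    Subsingleton (EtCoh.H X F q) := by
  have hiso : IsIso (d • 𝟙 F : F ⟶ F) :=
    Groth.Agent.Lib.EtLTorsIso95.isIso_nsmul_id_of_isLTorsion L d hL F hF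
  have key : ∀ α : EtCoh.H X F q, α = 0 := by
    intro α
    have h1 : d • α = 0 :=
      Groth.Agent.Lib.EtResCores95.nsmul_eq_zero_of_Hpull_eq_zero f d
        (fun x => (Groth.Agent.Lib.EtLiftsPullback95.card_lifts_eq f
          (Groth.Agent.Lib.EtGeomPtConservative39.algPt x)).trans
            (hd _ (Groth.Agent.Lib.EtGeomPtConservative39.algPt x))) F q α
        (Subsingleton.elim _ _)
    have h2 : IsIso ((EtCoh.HF X q).map (d • 𝟙 F : F ⟶ F)) := Functor.map_isIso _ _
    have h3 : Function.Injective ((EtCoh.HF X q).map (d • 𝟙 F : F ⟶ F)) :=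
      ((ConcreteCategory.isIso_iff_bijective _).1 h2).1
    apply h3
    refine (Groth.Agent.Lib.EtResCores95.HF_map_nsmul_id F d q α).trans (h1.trans ?_)
    exact (map_zero ((EtCoh.HF X q).map (d • 𝟙 F : F ⟶ F)).hom).symm
  exact ⟨fun a b => (key a).trans (key b).symm⟩

end Groth.Agent.S8532
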