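import Groth.Statements.S8535
import Mathlib.CategoryTheory.Abelian.Refinements
import Mathlib.CategoryTheory.Limits.FunctorCategory.EpiMono

set_option autoImplicit false
universe v u v' u' w
open CategoryTheory CategoryTheory.Limits
open DeltaF

namespace Groth.Agent.S8535

variable {A : Type u} [Category.{v} A] [Abelian A]
    {B : Type u'} [Category.{v'} B] [Abelian B]

lemma cokernelSequence_shortExact {X Y : A} (u : X ⟶ Y) [Mono u] :
    (ShortComplex.cokernelSequence u).ShortExact where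
  exact := ShortComplex.cokernelSequence_exact u
  mono_f := by change Mono u; infer_instance
  epi_g := by infer_instance

/-- Key step: for a short exact `S` with `T^{i+1}(S.f) = 0`, `φ^i_{X₂}` epi and `φ^i_{X₃}`
mono, the map `φ^{i+1}_{X₁}` is mono. -/
lemma mono_succ (T T' : DeltaF.CohDeltaFunctor A B ℕ) (φ : T ⟶ T') (i : ℕ) (S : ShortComplex A)
    (hS : S.ShortExact)
    (hu : (T.F (i + 1)).map S.f = 0) (hY : Epi ((φ.app i).app S.X₂))
    (hZ : Mono ((φ.app i).app S.X₃)) : Mono ((φ.app (i + 1)).app S.X₁) := by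
  apply Preadditive.mono_of_cancel_zero
  intro W k hk
  -- δ is epi
  have hδ : Epi (T.δ S hS i (i + 1) rfl) := (T.exact₁ S hS i (i + 1) rfl).epi_f hu
  obtain ⟨W₁, π₁, hπ₁, z, hz⟩ := surjective_up_to_refinements_of_epi (T.δ S hS i (i + 1) rfl) k
  have h2 : (z ≫ (φ.app i).app S.X₃) ≫ T'.δ S hS i (i + 1) rfl = 0 := by
    have := φ.comm S hS i (i + 1) rfl
    rw [Category.assoc, ← this, ← Category.assoc, ← hz, Category.assoc, hk, comp_zero]
  obtain ⟨W₂, π₂, hπ₂, y', hy'⟩ := (T'.exact₃ S hS i (i + 1) rfl).exact_up_to_refinements _ h2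
  obtain ⟨W₃, π₃, hπ₃, y, hy⟩ := surjective_up_to_refinements_of_epi ((φ.app i).app S.X₂) y'
  dsimp at hy' y'
  have h4 : π₃ ≫ π₂ ≫ z = y ≫ (T.F i).map S.g := by
    rw [← cancel_mono ((φ.app i).app S.X₃)]
    have nat := (φ.app i).naturality S.g
    rw [Category.assoc, Category.assoc, Category.assoc, nat, ← Category.assoc y, ← hy, Category.assoc,
      ← hy']
  have h5 : π₃ ≫ π₂ ≫ π₁ ≫ k = 0 := by
    rw [hz, ← Category.assoc π₂, ← Category.assoc π₃, h4, Category.assoc]
    rw [T.comp_δ S hS i (i + 1) rfl, comp_zero]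
  rw [← cancel_epi π₁, ← cancel_epi π₂, ← cancel_epi π₃, h5, comp_zero, comp_zero, comp_zero]

/-- Key step for epimorphisms. -/
lemma epi_succ (T T' : DeltaF.CohDeltaFunctor A B ℕ) (φ : T ⟶ T') (i : ℕ) (S : ShortComplex A)
    (hS : S.ShortExact)
    (hu : (T'.F (i + 1)).map S.f = 0)
    (hZ : Epi ((φ.app i).app S.X₃)) : Epi ((φ.app (i + 1)).app S.X₁) := by
  have hδ : Epi (T'.δ S hS i (i + 1) rfl) := (T'.exact₁ S hS i (i + 1) rfl).epi_f hu
  have := φ.comm S hS i (i + 1) rfl
  have hE : Epi (T.δ S hS i (i + 1) rfl ≫ (φ.app (i + 1)).app S.X₁) := by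
    rw [this]
    exact epi_comp _ _
  exact epi_of_epi (T.δ S hS i (i + 1) rfl) _


/-- `φ^i` iso in all components implies `φ^{i+1}` mono in all components (for effaceable `T`). -/
lemma monoAll_succ (T T' : DeltaF.CohDeltaFunctor A B ℕ) (hT : T.IsEffaceable) (φ : T ⟶ T') (i : ℕ)
    (hi : ∀ X : A, IsIso ((φ.app i).app X)) (X : A) : Mono ((φ.app (i + 1)).app X) := by
  obtain ⟨Y, u, hu, hu0⟩ := hT i X
  have hS := cokernelSequence_shortExact u
  exact mono_succ T T' φ i (ShortComplex.cokernelSequence u) hS hu0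
    (by have := hi (ShortComplex.cokernelSequence u).X₂; infer_instance)
    (by have := hi (ShortComplex.cokernelSequence u).X₃; infer_instance)

lemma epiAll_succ (T T' : DeltaF.CohDeltaFunctor A B ℕ) (φ : T ⟶ T') (i : ℕ)
    (hi : ∀ X : A, IsIso ((φ.app i).app X))
    (heff : ∀ X : A, ∃ (Y : A) (u : X ⟶ Y), Mono u ∧ (T'.F (i + 1)).map u = 0)
    (X : A) : Epi ((φ.app (i + 1)).app X) := by
  obtain ⟨Y, u, hu, hu0⟩ := heff X
  have hS := cokernelSequence_shortExact u
  exact epi_succ T T' φ i (ShortComplex.cokernelSequence u) hS hu0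
    (by have := hi (ShortComplex.cokernelSequence u).X₃; infer_instance)

/-- Let A and B be abelian categories, T and T' cohomological delta-functors from A to B in degrees ≥ 0
whose degree-0 components are left exact (they vanish in negative degrees), such that T^i is
effaceable for every i > 0, and let φ : T → T' be a morphism of delta-functors and n a natural
number. Then the following are equivalent: (a) φ^i is an isomorphism for i ≤ n and a monomorphism
for i = n + 1; (b) φ^0 is a monomorphism and φ^i is an epimorphism for every i ≤ n; (c) φ^0 is an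
isomorphism and, for 0 < i ≤ n, T'^i is effaceable (every object X admits a monomorphism X → Y
killed by T'^i). -/
theorem result {A : Type u} [Category.{v} A] [Abelian A]
    {B : Type u'} [Category.{v'} B] [Abelian B] (T T' : DeltaF.CohDeltaFunctor A B ℕ)
    (h0 : T.ZeroMono) (h0' : T'.ZeroMono) (hT : T.IsEffaceable) (φ : T ⟶ T') (n : ℕ) :
    ((∀ i : ℕ, i ≤ n → IsIso (φ.app i)) ∧ Mono (φ.app (n + 1)) ↔
      (Mono (φ.app 0) ∧ ∀ i : ℕ, i ≤ n → Epi (φ.app i))) ∧
    ((∀ i : ℕ, i ≤ n → IsIso (φ.app i)) ∧ Mono (φ.app (n + 1)) ↔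
      (IsIso (φ.app 0) ∧ ∀ i : ℕ, 0 < i → i ≤ n → ∀ X : A, ∃ (Y : A) (u : X ⟶ Y), Mono u ∧ (T'.F i).map u = 0)) := by
  have isoIff : ∀ i, IsIso (φ.app i) ↔ ∀ X : A, IsIso ((φ.app i).app X) := fun i =>
    NatTrans.isIso_iff_isIso_app _
  have monoIff : ∀ i, Mono (φ.app i) ↔ ∀ X : A, Mono ((φ.app i).app X) := fun i =>
    NatTrans.mono_iff_mono_app _
  have epiIff : ∀ i, Epi (φ.app i) ↔ ∀ X : A, Epi ((φ.app i).app X) := fun i =>
    NatTrans.epi_iff_epi_app _
  refine ⟨⟨?_, ?_⟩, ⟨?_, ?_⟩⟩
  · rintro ⟨hiso, -⟩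
    refine ⟨?_, fun i hi => ?_⟩
    · have := hiso 0 (Nat.zero_le n)
      infer_instance
    · have := hiso i hi
      infer_instance
  · rintro ⟨hm0, hepi⟩
    have hmono : ∀ i, i ≤ n + 1 → ∀ X : A, Mono ((φ.app i).app X) := by
      intro i
      induction i with
      | zero => intro _; exact (monoIff 0).1 hm0
      | succ i ih =>
        intro hi
        have hi' : i ≤ n := by omega
        have h1 := ih (by omega)
        have h2 := (epiIff i).1 (hepi i hi')
        apply monoAll_succ T T' hT φ i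
        intro X
        have := h1 X
        have := h2 X
        exact isIso_of_mono_of_epi _
    refine ⟨fun i hi => ?_, (monoIff (n + 1)).2 (hmono (n + 1) le_rfl)⟩
    rw [isoIff]
    intro X
    have := hmono i (by omega) X
    have := (epiIff i).1 (hepi i hi) X
    exact isIso_of_mono_of_epi _
  · rintro ⟨hiso, -⟩
    refine ⟨hiso 0 (Nat.zero_le n), ?_⟩
    intro i hi0 hin X
    obtain ⟨j, rfl⟩ : ∃ j, i = j + 1 := ⟨i - 1, by omega⟩
    obtain ⟨Y, u, hu, hu0⟩ := hT j X
    refine ⟨Y, u, hu, ?_⟩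
    have nat := (φ.app (j + 1)).naturality u
    rw [hu0, zero_comp] at nat
    have := (isoIff (j + 1)).1 (hiso (j + 1) hin) X
    rw [← cancel_epi ((φ.app (j + 1)).app X), ← nat, comp_zero]
  · rintro ⟨hiso0, heff⟩
    have hiso : ∀ i, i ≤ n → ∀ X : A, IsIso ((φ.app i).app X) := by
      intro i
      induction i with
      | zero => intro _; exact (isoIff 0).1 hiso0
      | succ i ih =>
        intro hi X
        have h1 := ih (by omega)
        have := monoAll_succ T T' hT φ i h1 X
        have := epiAll_succ T T' φ i h1 (heff (i + 1) (by omega) hi) X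
        exact isIso_of_mono_of_epi _
    refine ⟨fun i hi => (isoIff i).2 (hiso i hi), (monoIff (n + 1)).2 ?_⟩
    exact monoAll_succ T T' hT φ n (hiso n le_rfl)

end Groth.Agent.S8535
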