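import Groth.Statements.S8538
import Groth.Agent.Lib.H8LocalDimFun
import Groth.Agent.Lib.H8ClosedPtDim
import Groth.Agent.Lib.H30DimRel
import Groth.Agent.S6462

set_option autoImplicit false
universe u
open CategoryTheory CategoryTheory.Limits AlgebraicGeometry Opposite
open EtCd

namespace Groth.Agent.S8538

open Groth.Agent.Lib.H30DimRel Groth.Agent.Lib.H8LocalDimFun Groth.Agent.Lib.H8ClosedPtDim

theorem isDimensionFunction_shift {Y : Type*} [TopologicalSpace Y] (δ : Y → ℤ)
    (h : PtTop.IsDimensionFunction δ) (c : ℤ) : PtTop.IsDimensionFunction (fun y => δ y - c) := by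
  refine ⟨fun x y hxy hne => ?_, fun x y hxy => ?_⟩
  · have := h.1 x y hxy hne
    show δ y - c < δ x - c
    omega
  · have := h.2 x y hxy
    show δ x - c = δ y - c + 1
    omega


/-- Let A be a Noetherian universally catenary local ring, f : X → Spec A a morphism of finite type, x a
point of X with image y, and X₀ the closed fibre of f. Put δ(x) = dim closure(y) + trdeg(κ(x)/κ(y))
= dim(A/p_y) + trdeg(κ(x)/κ(y)) and d(x) = dim closure(x) (topological Krull dimension of the
closure of x in X). Then d(x) = δ(x) when the closure of x meets X₀, and d(x) + 1 = δ(x) when it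
does not. -/
theorem result (A : Type u) [CommRing A] [IsNoetherianRing A] [IsLocalRing A]
    (hA : CAlg.IsUniversallyCatenary A) {X : Scheme.{u}} (f : X ⟶ Spec (CommRingCat.of A)) [LocallyOfFiniteType f]
    [QuasiCompact f] (x : X) (a b d : ℕ) (ha : ringKrullDim (A ⧸ (f.base x).asIdeal) = a)
    (hb : letI := (f.residueFieldMap x).hom.toAlgebra;
      Algebra.trdeg ((Spec (CommRingCat.of A)).residueField (f.base x)) (X.residueField x) = b)
    (hd : topologicalKrullDim ↥(closure ({x} : Set X)) = d) :
    ((closure ({x} : Set X) ∩ f.base ⁻¹' {((IsLocalRing.closedPoint A : PrimeSpectrum A) : ↥(Spec (CommRingCat.of A)))}).Nonempty →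
        d = a + b) ∧
    (closure ({x} : Set X) ∩ f.base ⁻¹' {((IsLocalRing.closedPoint A : PrimeSpectrum A) : ↥(Spec (CommRingCat.of A)))} = ∅ →
        d + 1 = a + b) := by
  obtain ⟨δS, hS, hδS⟩ := exists_setup A hA
  have hδ : Cyc.IsDimFun X (ind f δS) := isDimFun_ind f δS hS
  let m : ↥(Spec (CommRingCat.of A)) := (IsLocalRing.closedPoint A : PrimeSpectrum A)
  have hδm : δS m = 0 := by
    have h1 := (hδS m).2
    have h2 : ringKrullDim (A ⧸ m.asIdeal) = 0 := by
      haveI : (IsLocalRing.maximalIdeal A).IsMaximal := inferInstance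
      exact ringKrullDim_eq_zero_of_isField
        ((Ideal.Quotient.maximal_ideal_iff_isField_quotient _).mp
          (inferInstanceAs (IsLocalRing.maximalIdeal A).IsMaximal))
    rw [h2] at h1
    have h3 : (δS m).toNat = 0 := by exact_mod_cast h1.symm
    have := (hδS m).1
    omega
  have hδS_pos : ∀ s : ↥(Spec (CommRingCat.of A)), s ≠ m → 0 < δS s := by
    intro s hs
    have h1 : s ⤳ m := IsLocalRing.specializes_closedPoint (R := A) s
    have := (hS.2.2 s m h1 hs).1
    rw [hδm] at this
    exact this
  have hδx : ind f δS x = (a : ℤ) + b := by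
    show δS (f x) + (rt f x : ℤ) = _
    have h1 := hδS (f x)
    rw [ha] at h1
    have h2 : (δS (f x)).toNat = a := by exact_mod_cast h1.2.symm
    have h3 : rt f x = b := rt_eq_of_trdeg_eq f x b hb
    have := h1.1
    rw [h3]
    omega
  haveI : CompactSpace X := QuasiCompact.compactSpace_of_compactSpace f
  haveI : QuasiSober (closure ({x} : Set X)) :=
    isClosed_closure.isClosedEmbedding_subtypeVal.quasiSober
  have hδZ := Groth.Agent.S6462.isDimFun_closed hδ (closure ({x} : Set X)) isClosed_closure
  let ξ : closure ({x} : Set X) := ⟨x, subset_closure rfl⟩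
  have hξ : ∀ z : closure ({x} : Set X), ξ ⤳ z := fun z =>
    (subtype_specializes_iff _ _).mpr (specializes_iff_mem_closure.mpr z.2)
  have hδnn : ∀ x' : X, 0 ≤ ind f δS x' := by
    intro x'
    show 0 ≤ δS (f x') + (rt f x' : ℤ)
    have := (hδS (f x')).1
    omega
  have hclosed : ∀ z : X, IsClosed ({z} : Set X) →
      (f z = m → ind f δS z = 0) ∧ (f z ≠ m → ind f δS z = 1) := by
    intro z hz
    obtain ⟨h1, h2⟩ := closed_point A f z hz
    constructor
    · intro hfz
      show δS (f z) + (rt f z : ℤ) = 0
      rw [h2, hfz, hδm]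
      simp
    · intro hfz
      show δS (f z) + (rt f z : ℤ) = 1
      have h3 := hδS_pos (f z) hfz
      have h4 := (hδS (f z)).2
      rw [h4] at h1
      have h5 : (δS (f z)).toNat ≤ 1 := by exact_mod_cast h1
      rw [h2]
      push_cast
      omega
  constructor
  · intro hne
    have hcl : IsClosed (closure ({x} : Set X) ∩ f.base ⁻¹' {m}) :=
      isClosed_closure.inter
        ((IsLocalRing.isClosed_singleton_closedPoint A).preimage f.continuous)
    obtain ⟨z, hzmem, hz⟩ := hcl.exists_closed_singleton hne
    have h0 := (hclosed z hz).1 hzmem.2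
    have h1 := Groth.Agent.S6462.krullDim_eq (fun z : closure ({x} : Set X) => ind f δS z.1) hδZ
      (fun z => hδnn z.1) ξ hξ ⟨z, hzmem.1⟩ h0
    rw [hd] at h1
    have h2 : d = (ind f δS x).toNat := by exact_mod_cast h1
    rw [hδx] at h2
    omega
  · intro hemp
    have hne_m : ∀ z ∈ closure ({x} : Set X), f z ≠ m := by
      intro z hz hfz
      exact (Set.eq_empty_iff_forall_notMem.mp hemp z) ⟨hz, hfz⟩
    have hge1 : ∀ z ∈ closure ({x} : Set X), 1 ≤ ind f δS z := by
      intro z hz
      show 1 ≤ δS (f z) + (rt f z : ℤ)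
      have := hδS_pos (f z) (hne_m z hz)
      omega
    obtain ⟨z, hzmem, hz⟩ := (isClosed_closure (s := ({x} : Set X))).exists_closed_singleton
      ⟨x, subset_closure rfl⟩
    have h0 := (hclosed z hz).2 (hne_m z hzmem)
    have hδZ' := isDimensionFunction_shift _ hδZ 1
    have h1 := Groth.Agent.S6462.krullDim_eq
      (fun z : closure ({x} : Set X) => ind f δS z.1 - 1) hδZ'
      (fun z => by
        have := hge1 z.1 z.2
        show 0 ≤ ind f δS z.1 - 1
        omega) ξ hξ ⟨z, hzmem⟩ (by
        show ind f δS z - 1 = 0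
        omega)
    rw [hd] at h1
    have h2 : d = (ind f δS x - 1).toNat := by exact_mod_cast h1
    have h3 := hge1 x (subset_closure rfl)
    rw [hδx] at h2 h3
    omega

end Groth.Agent.S8538
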