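import Groth.Statements.S8539
import Groth.Agent.Lib.ShClosedModelField61
import Groth.Agent.Lib.ShClosedModelSch61

set_option autoImplicit false
universe u
open CategoryTheory CategoryTheory.Limits AlgebraicGeometry Opposite
open EtCd

namespace Groth.Agent.S8539

/-- Let X be a scheme of finite type over a field k, x a point of X and A a strict henselization of the
local ring of X at x. Then there are a separably closed field k', a scheme X' of finite type over k'
and a closed point x' of X' such that A is (isomorphic to) a strict henselization of the local ring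
of X' at x': some local algebra structure over that local ring makes A a strict henselization of it. -/
theorem result (k : Type u) [Field k] {X : Scheme.{u}}
    (f : X ⟶ Spec (CommRingCat.of k)) [LocallyOfFiniteType f] [QuasiCompact f] (x : X)
    (A : Type u) [CommRing A] [IsLocalRing A] [Algebra (X.presheaf.stalk x) A]
    [IsLocalHom (algebraMap (X.presheaf.stalk x) A)] [Hensel.IsStrictHenselization (X.presheaf.stalk x) A] :
    ∃ (k' : Type u) (_ : Field k') (_ : IsSepClosed k') (X' : Scheme.{u}) (f' : X' ⟶ Spec (CommRingCat.of k'))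
      (_ : LocallyOfFiniteType f') (_ : QuasiCompact f') (x' : X') (_ : IsClosed ({x'} : Set X'))
      (_ : Algebra (X'.presheaf.stalk x') A) (_ : IsLocalHom (algebraMap (X'.presheaf.stalk x') A)),
      Hensel.IsStrictHenselization (X'.presheaf.stalk x') A := by
  classical
  let U := (X.affineCover.f (X.affineCover.idx x)).opensRange
  have hU : AlgebraicGeometry.IsAffineOpen U :=
    AlgebraicGeometry.isAffineOpen_opensRange (X.affineCover.f (X.affineCover.idx x))
  have hx : x ∈ U := X.affineCover.covers x
  obtain ⟨alg, hl, hsh⟩ := Groth.Agent.Lib.ShClosedModelSch61.exists_affine_chart hU x hx A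
  -- the `k`-algebra structure on `Γ(X, U)`
  let ψ : k →+* Γ(X, U) := (f.appLE ⊤ U le_top).hom.comp
    (AlgebraicGeometry.Scheme.ΓSpecIso (CommRingCat.of k)).inv.hom
  let _ : Algebra k Γ(X, U) := ψ.toAlgebra
  have hft : Algebra.FiniteType k Γ(X, U) := by
    have h1 : (f.appLE ⊤ U le_top).hom.FiniteType :=
      AlgebraicGeometry.HasRingHomProperty.appLE @AlgebraicGeometry.LocallyOfFiniteType f
        inferInstance ⟨⊤, AlgebraicGeometry.isAffineOpen_top _⟩ ⟨U, hU⟩ le_top
    have h2 : (AlgebraicGeometry.Scheme.ΓSpecIso (CommRingCat.of k)).inv.hom.FiniteType :=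
      RingHom.FiniteType.of_surjective _
        (ConcreteCategory.bijective_of_isIso
          (AlgebraicGeometry.Scheme.ΓSpecIso (CommRingCat.of k)).inv).2
    exact h1.comp h2
  obtain ⟨k', hk', hsc, C, hC, halgC, hftC, Q, hQ, alg', hl', hsh'⟩ :=
    Groth.Agent.Lib.ShClosedModelField61.exists_closed_model_field k Γ(X, U)
      (hU.primeIdealOf ⟨x, hx⟩).asIdeal A
  obtain ⟨alg'', hl'', hsh''⟩ :=
    Groth.Agent.Lib.ShClosedModelSch61.exists_stalk_spec C ⟨Q, inferInstance⟩ A
  have hlft : AlgebraicGeometry.LocallyOfFiniteType
      (AlgebraicGeometry.Spec.map (CommRingCat.ofHom (algebraMap k' C))) := by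
    rw [AlgebraicGeometry.HasRingHomProperty.Spec_iff (P := @AlgebraicGeometry.LocallyOfFiniteType)]
    exact RingHom.finiteType_algebraMap.mpr hftC
  refine ⟨k', hk', hsc, AlgebraicGeometry.Spec (CommRingCat.of C),
    AlgebraicGeometry.Spec.map (CommRingCat.ofHom (algebraMap k' C)), hlft, inferInstance,
    (⟨Q, inferInstance⟩ : PrimeSpectrum C), ?_, alg'', hl'', hsh''⟩
  exact (PrimeSpectrum.isClosed_singleton_iff_isMaximal _).mpr hQ

end Groth.Agent.S8539
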