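import Groth.Statements.S8542
import Groth.Agent.Lib.EtSecPull

set_option autoImplicit false
universe u
open CategoryTheory CategoryTheory.Limits AlgebraicGeometry Opposite
open EtBC

namespace Groth.Agent.S8542

/-- Let h : Y → X be a morphism of quasi-compact quasi-separated schemes such that for every sheaf of
sets F on the small etale site of X the pullback map Γ(X, F) → Γ(Y, h^*F) is injective. Let u : F →
G be a monomorphism of sheaves of sets on X and ξ ∈ Γ(Y, h^*F) a section whose image in Γ(Y, h^*G)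
lies in the image of Γ(X, G). Then ξ lies in the image of Γ(X, F). -/
theorem result {X Y : Scheme.{u}} [CompactSpace X] [QuasiSeparatedSpace X]
    [CompactSpace Y] [QuasiSeparatedSpace Y] (h : Y ⟶ X)
    (hinj : ∀ F : EtDesc.Sh X, Function.Injective (EtDesc.secPull h F))
    {F G : EtDesc.Sh X} (u : F ⟶ G) [Mono u] (ξ : EtDesc.sect ((EtDesc.pullSh h).obj F) (EtCoh.top Y))
    (hξ : ((EtDesc.pullSh h).map u).hom.app (op (EtCoh.top Y)) ξ ∈ Set.range (EtDesc.secPull h G)) :
    ξ ∈ Set.range (EtDesc.secPull h F) := by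
  obtain ⟨η, hη⟩ := hξ
  obtain ⟨H, a, b, hab, hex⟩ := Groth.Agent.Lib.EtSecPull.exists_pair_of_mono u
  -- the two images of `η` in `Γ(X, H)` have the same pullback to `Y`
  have h1 : EtDesc.secPull h H (a.hom.app (op (EtCoh.top X)) η) =
      EtDesc.secPull h H (b.hom.app (op (EtCoh.top X)) η) := by
    rw [← Groth.Agent.Lib.EtSecPull.secPull_naturality h a η,
      ← Groth.Agent.Lib.EtSecPull.secPull_naturality h b η, hη]
    have e := congrArg (fun t => ((EtDesc.pullSh h).map t).hom.app (op (EtCoh.top Y))) hab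
    simp only [Functor.map_comp] at e
    exact ConcreteCategory.congr_hom e ξ
  obtain ⟨ζ, hζ⟩ := hex (EtCoh.top X) η (hinj H h1)
  refine ⟨ζ, ?_⟩
  have hmono : Mono ((EtDesc.pullSh h).map u) := inferInstance
  apply Groth.Agent.Lib.EtSecPull.injective_app_of_mono ((EtDesc.pullSh h).map u) (EtCoh.top Y)
  rw [Groth.Agent.Lib.EtSecPull.secPull_naturality h u ζ, hζ, hη]

end Groth.Agent.S8542
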