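import Groth.Statements.S8543
import Groth.Agent.Lib.ShClosedModelDVR61
import Groth.Agent.Lib.ShClosedModelSch61

set_option autoImplicit false
universe u
open CategoryTheory CategoryTheory.Limits AlgebraicGeometry Opposite
open EtCd

namespace Groth.Agent.S8543

/-- Let R be a discrete valuation ring, X a scheme of finite type over Spec R, x a point of X over the
closed point of Spec R, and A a strict henselization of the local ring of X at x. Then there are a
strictly henselian discrete valuation ring R' (henselian, with separably closed residue field), a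
scheme X' of finite type over Spec R', a closed point x' of X' over the closed point of Spec R', and
a local algebra structure over the local ring of X' at x' for which A is a strict henselization of
that local ring. -/
theorem result (R : Type u) [CommRing R] [IsDomain R]
    [IsDiscreteValuationRing R] {X : Scheme.{u}} (f : X ⟶ Spec (CommRingCat.of R)) [LocallyOfFiniteType f]
    [QuasiCompact f] (x : X)
    (hx : f.base x = ((IsLocalRing.closedPoint R : PrimeSpectrum R) : ↥(Spec (CommRingCat.of R))))
    (A : Type u) [CommRing A] [IsLocalRing A] [Algebra (X.presheaf.stalk x) A]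
    [IsLocalHom (algebraMap (X.presheaf.stalk x) A)] [Hensel.IsStrictHenselization (X.presheaf.stalk x) A] :
    ∃ (R' : Type u) (_ : CommRing R') (_ : IsDomain R') (_ : IsDiscreteValuationRing R') (_ : HenselianLocalRing R')
      (_ : IsSepClosed (IsLocalRing.ResidueField R'))
      (X' : Scheme.{u}) (f' : X' ⟶ Spec (CommRingCat.of R')) (_ : LocallyOfFiniteType f') (_ : QuasiCompact f')
      (x' : X') (_ : IsClosed ({x'} : Set X'))
      (_ : f'.base x' = ((IsLocalRing.closedPoint R' : PrimeSpectrum R') : ↥(Spec (CommRingCat.of R'))))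
      (_ : Algebra (X'.presheaf.stalk x') A) (_ : IsLocalHom (algebraMap (X'.presheaf.stalk x') A)),
      Hensel.IsStrictHenselization (X'.presheaf.stalk x') A := by
  classical
  let U := (X.affineCover.f (X.affineCover.idx x)).opensRange
  have hU : AlgebraicGeometry.IsAffineOpen U :=
    AlgebraicGeometry.isAffineOpen_opensRange (X.affineCover.f (X.affineCover.idx x))
  have hxU : x ∈ U := X.affineCover.covers x
  obtain ⟨alg, hl, hsh⟩ := Groth.Agent.Lib.ShClosedModelSch61.exists_affine_chart hU x hxU A
  -- the `R`-algebra structure on `Γ(X, U)`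
  let g : AlgebraicGeometry.Spec Γ(X, U) ⟶ AlgebraicGeometry.Spec (CommRingCat.of R) :=
    hU.fromSpec ≫ f
  have hg : AlgebraicGeometry.Spec.map (AlgebraicGeometry.Spec.preimage g) = g :=
    AlgebraicGeometry.Spec.map_preimage g
  let _ : Algebra R Γ(X, U) := (AlgebraicGeometry.Spec.preimage g).hom.toAlgebra
  have hft : Algebra.FiniteType R Γ(X, U) := by
    have h1 : AlgebraicGeometry.LocallyOfFiniteType
        (AlgebraicGeometry.Spec.map (AlgebraicGeometry.Spec.preimage g)) := by
      rw [hg]; infer_instance
    rw [AlgebraicGeometry.HasRingHomProperty.Spec_iff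
      (P := @AlgebraicGeometry.LocallyOfFiniteType)] at h1
    exact h1
  have hlies : (hU.primeIdealOf ⟨x, hxU⟩).asIdeal.LiesOver (IsLocalRing.maximalIdeal R) := by
    refine ⟨?_⟩
    have h1 : g.base (hU.primeIdealOf ⟨x, hxU⟩) = f.base x := by
      change f.base (hU.fromSpec.base (hU.primeIdealOf ⟨x, hxU⟩)) = f.base x
      rw [hU.fromSpec_primeIdealOf ⟨x, hxU⟩]
    rw [hx, ← hg] at h1
    have h2 := congrArg PrimeSpectrum.asIdeal h1
    exact h2.symm
  obtain ⟨R', hR', hdom, hdvr, hhens, hsc, C, hC, halgC, hftC, Q, hQ, hQover, alg', hl', hsh'⟩ :=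
    Groth.Agent.Lib.ShClosedModelDVR61.exists_closed_model_dvr R Γ(X, U)
      (hU.primeIdealOf ⟨x, hxU⟩).asIdeal A
  obtain ⟨alg'', hl'', hsh''⟩ :=
    Groth.Agent.Lib.ShClosedModelSch61.exists_stalk_spec C ⟨Q, inferInstance⟩ A
  have hlft : AlgebraicGeometry.LocallyOfFiniteType
      (AlgebraicGeometry.Spec.map (CommRingCat.ofHom (algebraMap R' C))) := by
    rw [AlgebraicGeometry.HasRingHomProperty.Spec_iff (P := @AlgebraicGeometry.LocallyOfFiniteType)]
    exact RingHom.finiteType_algebraMap.mpr hftC
  refine ⟨R', hR', hdom, hdvr, hhens, hsc, AlgebraicGeometry.Spec (CommRingCat.of C),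
    AlgebraicGeometry.Spec.map (CommRingCat.ofHom (algebraMap R' C)), hlft, inferInstance,
    (⟨Q, inferInstance⟩ : PrimeSpectrum C), ?_, ?_, alg'', hl'', hsh''⟩
  · exact (PrimeSpectrum.isClosed_singleton_iff_isMaximal _).mpr hQ
  · exact PrimeSpectrum.ext hQover

end Groth.Agent.S8543
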