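import Groth.Statements.S8547
import Groth.Agent.Lib.EtSecPull

set_option autoImplicit false
universe u
open CategoryTheory CategoryTheory.Limits AlgebraicGeometry Opposite
open EtBC

namespace Groth.Agent.S8547

theorem aux {X Y Xb Yb : Scheme.{u}} (h : Y ⟶ X) (p : Xb ⟶ X) (hb : Yb ⟶ Xb) (pY : Yb ⟶ Y)
    (w : hb ≫ p = pY ≫ h) (G : EtDesc.Sh Yb)
    (t : G.obj.obj (op ((EtCoh.bc hb).obj (EtCoh.top Xb)))) :
    G.obj.map (EtCore.bcTopIso hb).inv.op t =
      G.obj.map (EtCore.bcTopIso pY).inv.op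
        (((EtDesc.pushSh pY).obj G).obj.map (EtCore.bcTopIso h).inv.op
          (((EtDesc.pushCompSh h pY).inv.app G).hom.app (op (EtCoh.top X))
            (((pushCongrSh w).hom.app G).hom.app (op (EtCoh.top X))
              (((EtDesc.pushCompSh p hb).hom.app G).hom.app (op (EtCoh.top X))
                (((EtDesc.pushSh hb).obj G).obj.map (EtCore.bcTopIso p).hom.op t))))) := by
  simp only [EtDesc.pushCompSh, EtBC.pushCongrSh]
  simp only [Functor.sheafPushforwardContinuousComp'_hom_app_hom_app,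
    Functor.sheafPushforwardContinuousComp'_inv_app_hom_app,
    Functor.sheafPushforwardContinuousIso_hom,
    Functor.sheafPushforwardContinuousNatTrans_app_hom]
  change G.obj.map _ t = G.obj.map _ (G.obj.map ((EtCoh.bc pY).map (EtCore.bcTopIso h).inv).op
    (G.obj.map _ (G.obj.map ((MorphismProperty.Over.pullbackCongr w).inv.app (EtCoh.top X)).op
      (G.obj.map _ (G.obj.map ((EtCoh.bc hb).map (EtCore.bcTopIso p).hom).op t)))))
  simp only [← Functor.map_comp_apply]
  congr 3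
  apply Quiver.Hom.unop_inj
  exact (EtCore.bcTopIsTerminal hb).hom_ext _ _

theorem secPull_eq_comp {X Y Xb Yb : Scheme.{u}} (h : Y ⟶ X) (p : Xb ⟶ X) (hb : Yb ⟶ Xb) (pY : Yb ⟶ Y)
    (w : hb ≫ p = pY ≫ h) (Fb : EtDesc.Sh Xb) (s : EtDesc.sect Fb (EtCoh.top Xb)) :
    EtDesc.secPull hb Fb s = ((EtDesc.pullSh hb).obj Fb).obj.map (EtCore.bcTopIso pY).inv.op
      ((EtBC.baseChange0Sh p h pY hb w Fb).hom.app (op (EtCoh.top Y))
        (EtDesc.secPull h ((EtDesc.pushSh p).obj Fb) (Fb.obj.map (EtCore.bcTopIso p).hom.op s))) := by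
  unfold EtDesc.secPull
  have hBC := ((EtBC.baseChange0Sh p h pY hb w Fb).hom.naturality (EtCore.bcTopIso h).inv.op)
  have hBC' := ConcreteCategory.congr_hom hBC
  dsimp at hBC'
  erw [hBC']
  have hφ : (EtDesc.adjSh h).unit.app ((EtDesc.pushSh p).obj Fb) ≫
      (EtDesc.pushSh h).map (EtBC.baseChange0Sh p h pY hb w Fb) =
      ((EtDesc.pushSh p).map ((EtDesc.adjSh hb).unit.app Fb) ≫ (EtDesc.pushCompSh p hb).hom.app _ ≫
      (pushCongrSh w).hom.app _ ≫ (EtDesc.pushCompSh h pY).inv.app _) := by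
    have e1 := Adjunction.homEquiv_unit (EtDesc.adjSh h) ((EtDesc.pushSh p).obj Fb) _
      (EtBC.baseChange0Sh p h pY hb w Fb)
    rw [← e1]
    exact Equiv.apply_symm_apply _ _
  have hφ' := ConcreteCategory.congr_hom (congrArg (fun t => t.hom.app (op (EtCoh.top X))) hφ)
    (Fb.obj.map (EtCore.bcTopIso p).hom.op s)
  dsimp at hφ'
  erw [hφ']
  clear hφ' hφ hBC' hBC
  have hu := ConcreteCategory.congr_hom
    (((EtDesc.adjSh hb).unit.app Fb).hom.naturality (EtCore.bcTopIso p).hom.op) s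
  dsimp at hu
  erw [hu]
  clear hu
  generalize (ConcreteCategory.hom (((EtDesc.adjSh hb).unit.app Fb).hom.app (op (EtCoh.top Xb)))) s = t
  exact aux h p hb pY w _ t

/-- Let h : Y → X and p : X̄ → X be morphisms of schemes with X, Y, X̄ quasi-compact and quasi-separated
(p need not be surjective), and Ȳ = Y ×_X X̄ with projections h̄ : Ȳ → X̄ and p_Y : Ȳ → Y. If the
pullback map on global sections Γ(X, F) → Γ(Y, h^*F) is injective for every sheaf of sets F on X and
the base change morphism h^* p_* F̄ → p_{Y*} h̄^* F̄ is a monomorphism for every sheaf of sets F̄ on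
X̄, then Γ(X̄, F̄) → Γ(Ȳ, h̄^*F̄) is injective for every F̄. If the maps for h are bijective and the
base change morphisms are isomorphisms, then the maps for h̄ are bijective. -/
theorem result {X Y Xb Yb : Scheme.{u}} [CompactSpace X]
    [QuasiSeparatedSpace X] [CompactSpace Y] [QuasiSeparatedSpace Y] [CompactSpace Xb] [QuasiSeparatedSpace Xb]
    (h : Y ⟶ X) (p : Xb ⟶ X) (hb : Yb ⟶ Xb) (pY : Yb ⟶ Y) (sq : IsPullback hb pY p h) :
    ((∀ F : EtDesc.Sh X, Function.Injective (EtDesc.secPull h F)) →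
      (∀ Fb : EtDesc.Sh Xb, Mono (EtBC.baseChange0Sh p h pY hb sq.w Fb)) →
      ∀ Fb : EtDesc.Sh Xb, Function.Injective (EtDesc.secPull hb Fb)) ∧
    ((∀ F : EtDesc.Sh X, Function.Bijective (EtDesc.secPull h F)) →
      (∀ Fb : EtDesc.Sh Xb, IsIso (EtBC.baseChange0Sh p h pY hb sq.w Fb)) →
      ∀ Fb : EtDesc.Sh Xb, Function.Bijective (EtDesc.secPull hb Fb)) := by
  have hcomp := fun Fb => secPull_eq_comp h p hb pY sq.w Fb
  have bij1 : ∀ Fb : EtDesc.Sh Xb, Function.Bijective (Fb.obj.map (EtCore.bcTopIso p).hom.op) := fun Fb =>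
    (isIso_iff_bijective _).1 inferInstance
  have bij2 : ∀ G : EtDesc.Sh Yb, Function.Bijective (G.obj.map (EtCore.bcTopIso pY).inv.op) := fun G =>
    (isIso_iff_bijective _).1 inferInstance
  refine ⟨fun hinj hmono Fb => ?_, fun hbij hiso Fb => ?_⟩
  · have := hmono Fb
    have i3 := Groth.Agent.Lib.EtSecPull.injective_app_of_mono
      (EtBC.baseChange0Sh p h pY hb sq.w Fb) (EtCoh.top Y)
    have e : EtDesc.secPull hb Fb = _ := funext (hcomp Fb)
    rw [e]
    exact (bij2 _).1.comp (i3.comp ((hinj _).comp (bij1 Fb).1))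
  · have := hiso Fb
    have i3 : Function.Bijective ((EtBC.baseChange0Sh p h pY hb sq.w Fb).hom.app (op (EtCoh.top Y))) := by
      have h1 : IsIso (EtBC.baseChange0Sh p h pY hb sq.w Fb).hom :=
        inferInstanceAs (IsIso ((sheafToPresheaf _ _).map (EtBC.baseChange0Sh p h pY hb sq.w Fb)))
      have h2 : IsIso ((EtBC.baseChange0Sh p h pY hb sq.w Fb).hom.app (op (EtCoh.top Y))) := inferInstance
      exact (isIso_iff_bijective _).1 h2
    have e : EtDesc.secPull hb Fb = _ := funext (hcomp Fb)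
    rw [e]
    exact (bij2 _).comp (i3.comp ((hbij _).comp (bij1 Fb)))

end Groth.Agent.S8547
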