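import Groth.Statements.S8555
import Groth.Agent.Lib.NonAbTorsor

set_option autoImplicit false
universe u
open CategoryTheory CategoryTheory.Limits AlgebraicGeometry Opposite
open NonAbH1

namespace Groth.Agent.S8555

/-- The boundary of the non-abelian cohomology sequence is well defined: let u : F ⟶ G be a morphism of
sheaves of groups on the small etale site of a scheme X that is injective on sections over every
object, and let the G-sheaf Q with its equivariant map π from G (acting on itself by left
translation) be the quotient G/F (π identifies two sections of G exactly when they differ by right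
multiplication by a section of F, and is locally surjective). Then for every global section c of Q:
some F-torsor T is the sheaf of local liftings of c to G, with F acting on liftings by f · g = g
u(f)⁻¹; every F-sheaf that is such a sheaf of liftings is an F-torsor; and any two of them are
equivariantly isomorphic. The class of T is the boundary ∂c ∈ H¹(X, F). -/
theorem result {X : Scheme.{u}} {F G : Sheaf X.smallEtaleTopology GrpCat.{u + 1}}
    (u : F ⟶ G) (hu : ∀ U : X.Etaleᵒᵖ, Function.Injective (u.hom.app U))
    {Q : NonAbH1.GSheaf G} (π : NonAbH1.GSheaf.trivial.{u + 1, u, u + 1} G ⟶ Q) (hQ : NonAbH1.GSheaf.IsQuotientBy.{u + 1, u, u + 1} u π)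
    (c : Q.P.obj.sections) :
    (∃ T : NonAbH1.Torsor F, NonAbH1.GSheaf.IsFibreOver.{u + 1, u, u + 1} u π c T.toGSheaf) ∧
      (∀ T : NonAbH1.GSheaf F, NonAbH1.GSheaf.IsFibreOver.{u + 1, u, u + 1} u π c T → T.IsTorsor) ∧
      ∀ T T' : NonAbH1.GSheaf F, NonAbH1.GSheaf.IsFibreOver.{u + 1, u, u + 1} u π c T →
        NonAbH1.GSheaf.IsFibreOver.{u + 1, u, u + 1} u π c T' → Nonempty (T ≅ T') := by
  refine ⟨?_, ?_, ?_⟩
  · have hfib := Groth.Agent.Lib.NonAbTorsor.isFibreOver_fibreGSheaf.{u + 1, u, u + 1} hQ c
    have htors := Groth.Agent.Lib.NonAbTorsor.isTorsor_of_isFibreOver.{u + 1, u, u + 1} hu hQ c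
      (Groth.Agent.Lib.NonAbTorsor.fibreGSheaf.{u + 1, u, u + 1} hQ c) hfib
    exact ⟨⟨Groth.Agent.Lib.NonAbTorsor.fibreGSheaf.{u + 1, u, u + 1} hQ c, htors⟩, hfib⟩
  · intro T hT
    exact Groth.Agent.Lib.NonAbTorsor.isTorsor_of_isFibreOver.{u + 1, u, u + 1} hu hQ c T hT
  · intro T T' hT hT'
    exact Groth.Agent.Lib.NonAbTorsor.nonempty_iso_of_isFibreOver.{u + 1, u, u + 1} c T T' hT hT'

end Groth.Agent.S8555
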