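import Groth.Statements.S8560
import Groth.Agent.Lib.EtPTors95

set_option autoImplicit false
universe u
open CategoryTheory CategoryTheory.Limits AlgebraicGeometry Opposite
open EtAcyc

namespace Groth.Agent.S8560

/-- For the etale sites of schemes and a set of primes L: if f : X ⟶ Y is a quasi-compact and
quasi-separated morphism of schemes and F is an abelian L-torsion sheaf on the small etale site of X
(every section is, etale-locally around each point, killed by a positive integer all of whose prime
factors lie in L), then each higher direct image R^q f_* F is an L-torsion sheaf on Y. (The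
published statement, for topoi, asks only that the morphism be quasi-compact; this row also assumes
f quasi-separated: for the spectrum of a polynomial ring in countably many variables over a
separably closed field glued to a copy of itself along the complement of the origin, and the direct
sum of the skyscraper sheaves ℤ/pⁿ at the points where exactly the n-th variable is 1, the structure
morphism to the field is quasi-compact but H¹ contains a class of infinite order.) -/
theorem result {X Y : Scheme.{u}} (f : X ⟶ Y) [QuasiCompact f] [QuasiSeparated f]
    [EtCoh.BCCont f] (L : Set ℕ) (F : EtCoh.Ab X) (hF : EtAcyc.IsLTorsion L F) (q : ℕ) :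
    EtAcyc.IsLTorsion L ((EtCoh.Rpush f q).obj F) := by
  classical
  -- the multiplicative submonoid of positive integers all of whose prime factors lie in `L`
  let P : Submonoid ℕ :=
    { carrier := {m | EtAcyc.PrimesIn L m}
      one_mem' := ⟨Nat.one_pos, fun p hp h1 => absurd (Nat.dvd_one.1 h1) hp.one_lt.ne'⟩
      mul_mem' := by
        rintro a b ⟨ha, ha'⟩ ⟨hb, hb'⟩
        refine ⟨Nat.mul_pos ha hb, fun p hp hpab => ?_⟩
        rcases (Nat.Prime.dvd_mul hp).1 hpab with h | h
        · exact ha' p hp h
        · exact hb' p hp h }
  have h1 : Groth.Agent.Lib.EtPTors95.IsPTorsion P F := by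
    intro U s x
    obtain ⟨V, g, m, hv, hm, h0⟩ := hF U s x
    exact ⟨V, g, hv, m, hm, h0⟩
  have h2 := Groth.Agent.Lib.EtPTors95.isPTorsion_Rpush P f F h1 q
  intro U s x
  obtain ⟨V, g, hv, m, hm, h0⟩ := h2 U s x
  exact ⟨V, g, m, hv, hm, h0⟩

end Groth.Agent.S8560
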