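import Groth.Statements.S8562
import Groth.Agent.Lib.NonAbTorsor
import Groth.Agent.Lib.EtLTorsion

set_option autoImplicit false
universe u
open CategoryTheory CategoryTheory.Limits AlgebraicGeometry Opposite
open NonAbH1

namespace Groth.Agent.S8562

/-- The direct image of an `F`-sheaf, as an `f_*F`-sheaf. -/
noncomputable def pushGSheaf {X Y : Scheme.{u}} (f : X ⟶ Y) [EtCoh.BCCont f]
    (F : Sheaf X.smallEtaleTopology GrpCat.{u + 1}) (Q : NonAbH1.GSheaf F) :
    NonAbH1.GSheaf (((EtCoh.bc f).sheafPushforwardContinuous GrpCat.{u + 1}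
        Y.smallEtaleTopology X.smallEtaleTopology).obj F) where
  P := ((EtCoh.bc f).sheafPushforwardContinuous (Type (u + 1))
        Y.smallEtaleTopology X.smallEtaleTopology).obj Q.P
  smul {U} g p := Q.smul (U := (EtCoh.bc f).op.obj U) g p
  one_smul {U} p := Q.one_smul (U := (EtCoh.bc f).op.obj U) p
  mul_smul {U} g h p := Q.mul_smul (U := (EtCoh.bc f).op.obj U) g h p
  map_smul {U V} a g p := Q.map_smul ((EtCoh.bc f).op.map a) g p

/-- The fibre product of two etale `Y`-schemes, as an etale `Y`-scheme. -/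
noncomputable def prodEt {Y : Scheme.{u}} (U V : Y.Etale) : Y.Etale :=
  Scheme.Etale.mk (pullback.fst U.hom V.hom ≫ U.hom)

noncomputable def prodFst {Y : Scheme.{u}} (U V : Y.Etale) : prodEt U V ⟶ U :=
  MorphismProperty.Over.homMk (pullback.fst U.hom V.hom) rfl

noncomputable def prodSnd {Y : Scheme.{u}} (U V : Y.Etale) : prodEt U V ⟶ V :=
  MorphismProperty.Over.homMk (pullback.snd U.hom V.hom) pullback.condition.symm

/-- Exactness of the sequence 0 → H¹(Y, f_*F) → H¹(X, F) → H⁰(Y, R¹f_*F) at its middle term, in terms of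
torsors: let f : X ⟶ Y be a morphism of schemes, F a sheaf of groups on the small etale site of X,
f_*F its direct image on Y (sections over an etale Y-scheme V are the sections of F over X ×_Y V),
and Q an F-torsor. Then Q is the image of a class in H¹(Y, f_*F), in the sense that there are an
f_*F-torsor P on Y and a morphism of sheaves of sets from P to the direct image of the sheaf
underlying Q which is equivariant for the actions of f_*F, if and only if the class of Q is locally
trivial over Y: there is a jointly surjective family of etale Y-schemes Y_i such that Q has a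
section over every X ×_Y Y_i. -/
theorem result {X Y : Scheme.{u}} (f : X ⟶ Y)
    [EtCoh.BCCont f] (F : Sheaf X.smallEtaleTopology GrpCat.{u + 1}) (Q : NonAbH1.Torsor F) :
    (∃ (P : NonAbH1.Torsor (((EtCoh.bc f).sheafPushforwardContinuous GrpCat.{u + 1}
        Y.smallEtaleTopology X.smallEtaleTopology).obj F))
      (φ : P.P ⟶ ((EtCoh.bc f).sheafPushforwardContinuous (Type (u + 1))
        Y.smallEtaleTopology X.smallEtaleTopology).obj Q.P),
      ∀ (V : Y.Etaleᵒᵖ) (g : F.obj.obj (op ((EtCoh.bc f).obj V.unop))) (s : P.P.obj.obj V),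
        φ.hom.app V (P.smul g s) = Q.smul g (φ.hom.app V s)) ↔
    ∃ (ι : Type u) (V : ι → Y.Etale), EtCoh.Covers V ∧
      ∀ i, Nonempty (Q.P.obj.obj (op ((EtCoh.bc f).obj (V i)))) := by
  constructor
  · rintro ⟨P, φ, -⟩
    obtain ⟨S, hS, hne⟩ := P.isTorsor.2 (EtCoh.top Y)
    have hpt : ∀ y : Y, ∃ (W : Y.Etale) (a : W ⟶ EtCoh.top Y) (v : W.left), S a ∧ a.left.base v = y :=
      fun y => Groth.Agent.Lib.EtLTorsion.exists_mem_of_mem_smallEtaleTopology hS y
    choose W a v hSa hv using hpt
    refine ⟨Y, W, ?_, ?_⟩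
    · intro y
      refine ⟨y, v y, ?_⟩
      have h1 : (a y).left ≫ 𝟙 Y = (W y).hom := Over.w (a y).hom
      have h3 : (a y).left = (W y).hom := (Category.comp_id _).symm.trans h1
      rw [← h3]
      exact hv y
    · intro y
      obtain ⟨p⟩ := hne (a y) (hSa y)
      exact ⟨φ.hom.app (op (W y)) p⟩
  · rintro ⟨ι, V, hV, hne⟩
    have hps : (pushGSheaf f F Q.toGSheaf).IsPseudoTorsor := fun U p q =>
      Q.isTorsor.1 ((EtCoh.bc f).op.obj U) p q
    have hloc : (pushGSheaf f F Q.toGSheaf).LocallyNonempty := by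
      intro U
      refine ⟨Sieve.ofArrows (fun i => prodEt U (V i)) (fun i => prodFst U (V i)), ?_, ?_⟩
      · rw [Scheme.ofArrows_mem_smallEtaleTopology_iff]
        ext x
        simp only [Set.mem_iUnion, Set.mem_range, Set.mem_univ, iff_true]
        obtain ⟨i, v, hv⟩ := hV (U.hom.base x)
        obtain ⟨z, hz, -⟩ := Scheme.Pullback.exists_preimage_pullback (f := U.hom) (g := (V i).hom) x v
          hv.symm
        exact ⟨i, z, hz⟩
      · intro W a ha
        obtain ⟨Z, b, c, ⟨i⟩, rfl⟩ := ha
        obtain ⟨q⟩ := hne i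
        exact ⟨Q.P.obj.map ((EtCoh.bc f).map (b ≫ prodSnd U (V i))).op q⟩
    refine ⟨⟨pushGSheaf f F Q.toGSheaf, hps, hloc⟩, 𝟙 _, ?_⟩
    intro W g s
    rfl

end Groth.Agent.S8562
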