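import Groth.Statements.S8564
import Groth.Agent.Lib.CechAcyc4

set_option autoImplicit false
open CategoryTheory CategoryTheory.Limits
universe u
open CohCx

namespace Groth.Agent.S8564

/-- Let (F_t) be a family of abelian sheaves on a small site, indexed by a small set, such that each F_t
is totally acyclic, i.e. H^p(K, F_t) = 0 for every sheaf of sets K and every p > 0. Then the product
sheaf of the family is totally acyclic. (The published statement is for modules over a ringed topos;
this row is the case of abelian sheaves.) -/
theorem result {C : Type u} [SmallCategory C] (J : GrothendieckTopology C)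
    {T : Type u} (F : T → Sheaf J AddCommGrpCat.{u}) (hF : ∀ t, CohCx.IsTotallyAcyclic (F t)) :
    CohCx.IsTotallyAcyclic (∏ᶜ F) := by
  open Groth.Agent.Lib.CechAcyc1 Groth.Agent.Lib.CechAcyc4 in
  refine isTotallyAcyclic_of_cechAcyclic _ ?_
  intro K' K f hf n z hz
  have h : ∀ t : T, ∃ w : (Groth.Agent.Lib.CechAcyc3.R f).X n ⟶ F t,
      (Groth.Agent.Lib.CechAcyc3.R f).d (n + 1) n ≫ w = z ≫ Pi.π F t := by
    intro t
    exact cechAcyclic_of_isTotallyAcyclic (F t) (hF t) K' K f hf n (z ≫ Pi.π F t)
      (by rw [← Category.assoc, hz, zero_comp])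
  choose w hw using h
  refine ⟨Pi.lift w, ?_⟩
  apply Pi.hom_ext
  intro t
  rw [Category.assoc, Pi.lift_π, hw]

end Groth.Agent.S8564
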