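import Mathlib
import Groth.Statements.S8586

set_option autoImplicit false
universe u
open CAlg

namespace Groth.Agent.S8586

section Helpers

open IsLocalRing

variable {A : Type u} [CommRing A] [IsLocalRing A] [IsNoetherianRing A]

/-- `w` is a tuple in the maximal ideal generating, together with `I`, an `m`-primary ideal. -/
def IsSop {n : ℕ} (I : Ideal A) (w : Fin n → A) : Prop :=
  (∀ i, w i ∈ maximalIdeal A) ∧ maximalIdeal A ≤ (I ⊔ Ideal.span (Set.range w)).radical

/-- Two tuples differ in at most one coordinate. -/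
def Step {n : ℕ} (x y : Fin n → A) : Prop := ∃ i : Fin n, ∀ i' : Fin n, i' ≠ i → x i' = y i'

/-- One step between relative systems of parameters. -/
def Rel {n : ℕ} (I : Ideal A) (x y : Fin n → A) : Prop := IsSop I x ∧ IsSop I y ∧ Step x y

lemma primary_of_avoid (K : Ideal A) (u0 w : A)
    (hK : K ≤ maximalIdeal A) (hu0 : u0 ∈ maximalIdeal A)
    (hu : maximalIdeal A ≤ (K ⊔ Ideal.span {u0}).radical)
    (hw : ∀ P ∈ K.minimalPrimes, P ≠ maximalIdeal A → w ∉ P) :
    maximalIdeal A ≤ (K ⊔ Ideal.span {w}).radical := by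
  rw [Ideal.radical_eq_sInf]
  refine le_sInf ?_
  rintro Q ⟨hQ, hQp⟩
  obtain ⟨P, hP, hPQ⟩ := Ideal.exists_minimalPrimes_le (le_sup_left.trans hQ)
  by_cases hPm : P = maximalIdeal A
  · exact hPm ▸ hPQ
  by_contra hmQ
  have hwP := hw P hP hPm
  have hwQ : w ∈ Q := hQ (Ideal.mem_sup_right (Ideal.mem_span_singleton_self w))
  have hPQ' : P < Q := lt_of_le_of_ne hPQ (fun h => hwP (h ▸ hwQ))
  have hQm : Q < maximalIdeal A :=
    lt_of_le_of_ne (le_maximalIdeal hQp.ne_top) (fun h => hmQ h.ge)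
  have hmin : maximalIdeal A ∈ (K ⊔ Ideal.span {u0}).minimalPrimes := by
    refine ⟨⟨inferInstance, sup_le hK ((Ideal.span_singleton_le_iff_mem _).2 hu0)⟩, ?_⟩
    rintro Q' ⟨hQ'p, hQ'⟩ hQ'm
    calc maximalIdeal A ≤ (K ⊔ Ideal.span {u0}).radical := hu
      _ ≤ Q'.radical := Ideal.radical_mono hQ'
      _ = Q' := hQ'p.radical
  have hht := Ideal.map_height_le_one_of_mem_minimalPrimes hmin
  have hPp : P.IsPrime := hP.1.1
  have hKP : K ≤ P := hP.1.2
  have hKQ : K ≤ Q := hKP.trans hPQ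
  set f := Ideal.Quotient.mk K with hf
  have hfs : Function.Surjective f := Ideal.Quotient.mk_surjective
  have hker : RingHom.ker f = K := Ideal.mk_ker
  have hlt : ∀ {I J : Ideal A}, K ≤ I → K ≤ J → I < J → I.map f < J.map f := by
    intro I J hI hJ hIJ
    refine (Ideal.map_mono hIJ.le).lt_of_not_ge fun e => hIJ.not_ge ?_
    have := Ideal.comap_mono (f := f) e
    rwa [Ideal.comap_map_of_surjective f hfs, Ideal.comap_map_of_surjective f hfs,
      ← RingHom.ker_eq_comap_bot, hker, sup_eq_left.mpr hI, sup_eq_left.mpr hJ] at this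
  have hPp' : (P.map f).IsPrime := Ideal.map_isPrime_of_surjective hfs (by rw [hker]; exact hKP)
  have hQp' : (Q.map f).IsPrime := Ideal.map_isPrime_of_surjective hfs (by rw [hker]; exact hKQ)
  have hmp' : ((maximalIdeal A).map f).IsPrime :=
    Ideal.map_isPrime_of_surjective hfs (by rw [hker]; exact hK)
  have h1 : (P.map f).height < (Q.map f).height :=
    Ideal.height_strict_mono_of_isPrime_of_isPrime (hlt hKP hKQ hPQ')
  have h2 : (Q.map f).height < ((maximalIdeal A).map f).height :=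
    Ideal.height_strict_mono_of_isPrime_of_isPrime (hlt hKQ hK hQm)
  have h3 : (Q.map f).height < 1 := h2.trans_le hht
  have h4 : (Q.map f).height = 0 := by
    exact Order.lt_one_iff.mp h3
  rw [h4] at h1
  exact not_lt_zero h1

lemma exists_avoid (K K' : Ideal A) (u0 v0 : A)
    (hK : K ≤ maximalIdeal A) (hu0 : u0 ∈ maximalIdeal A)
    (hu : maximalIdeal A ≤ (K ⊔ Ideal.span {u0}).radical)
    (hK' : K' ≤ maximalIdeal A) (hv0 : v0 ∈ maximalIdeal A)
    (hv : maximalIdeal A ≤ (K' ⊔ Ideal.span {v0}).radical) :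
    ∃ w ∈ maximalIdeal A, maximalIdeal A ≤ (K ⊔ Ideal.span {w}).radical ∧
      maximalIdeal A ≤ (K' ⊔ Ideal.span {w}).radical := by
  classical
  have hfin : ((K.minimalPrimes ∪ K'.minimalPrimes) \ {maximalIdeal A}).Finite :=
    ((K.finite_minimalPrimes_of_isNoetherianRing).union
      (K'.finite_minimalPrimes_of_isNoetherianRing)).subset Set.sdiff_subset
  set s := hfin.toFinset with hs
  have hsp : ∀ P ∈ s, P.IsPrime := by
    intro P hP
    rw [hs, Set.Finite.mem_toFinset] at hP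
    rcases hP.1 with h | h
    · exact h.1.1
    · exact h.1.1
  have hnot : ¬ ((maximalIdeal A : Set A) ⊆ ⋃ P ∈ (s : Set (Ideal A)), (P : Set A)) := by
    intro hsub
    have := (Ideal.subset_union_prime (R := A) (s := s) (f := fun P => P)
      (maximalIdeal A) (maximalIdeal A) (fun P hP _ _ => hsp P hP)).mp hsub
    obtain ⟨P, hP, hmP⟩ := this
    have hPp := hsp P hP
    rw [hs, Set.Finite.mem_toFinset] at hP
    exact hP.2 (le_antisymm (le_maximalIdeal hPp.ne_top) hmP)
  obtain ⟨w, hwm, hw⟩ := Set.not_subset.mp hnot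
  have hw' : ∀ P, (P ∈ K.minimalPrimes ∨ P ∈ K'.minimalPrimes) → P ≠ maximalIdeal A → w ∉ P := by
    intro P hP hPm hwP
    apply hw
    simp only [Set.mem_iUnion]
    refine ⟨P, ?_, hwP⟩
    rw [Finset.mem_coe, hs, Set.Finite.mem_toFinset]
    exact ⟨hP, hPm⟩
  refine ⟨w, hwm, ?_, ?_⟩
  · exact primary_of_avoid K u0 w hK hu0 hu (fun P hP => hw' P (Or.inl hP))
  · exact primary_of_avoid K' v0 w hK' hv0 hv (fun P hP => hw' P (Or.inr hP))

omit [IsLocalRing A] [IsNoetherianRing A] in
lemma sup_span_cons {n : ℕ} (I : Ideal A) (w : A) (x : Fin n → A) :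
    I ⊔ Ideal.span (Set.range (Fin.cons w x : Fin (n + 1) → A)) =
      (I ⊔ Ideal.span {w}) ⊔ Ideal.span (Set.range x) := by
  rw [Fin.range_cons, Ideal.span_insert, sup_assoc]

omit [IsLocalRing A] [IsNoetherianRing A] in
lemma sup_span_cons' {n : ℕ} (I : Ideal A) (w : A) (x : Fin n → A) :
    I ⊔ Ideal.span (Set.range (Fin.cons w x : Fin (n + 1) → A)) =
      (I ⊔ Ideal.span (Set.range x)) ⊔ Ideal.span {w} := by
  rw [Fin.range_cons, Ideal.span_insert, sup_assoc, sup_comm (Ideal.span {w})]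

lemma isSop_cons_iff {n : ℕ} (I : Ideal A) (w : A) (hw : w ∈ maximalIdeal A) (x : Fin n → A) :
    IsSop I (Fin.cons w x : Fin (n + 1) → A) ↔ IsSop (I ⊔ Ideal.span {w}) x := by
  unfold IsSop
  rw [sup_span_cons]
  constructor
  · rintro ⟨h1, h2⟩
    refine ⟨fun i => ?_, h2⟩
    simpa using h1 i.succ
  · rintro ⟨h1, h2⟩
    refine ⟨fun i => ?_, h2⟩
    refine Fin.cases ?_ (fun j => ?_) i
    · simpa using hw
    · simpa using h1 j

omit [IsLocalRing A] [IsNoetherianRing A] in
lemma step_cons {n : ℕ} (w : A) {x y : Fin n → A} (h : Step x y) :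
    Step (Fin.cons w x : Fin (n + 1) → A) (Fin.cons w y) := by
  obtain ⟨i, hi⟩ := h
  refine ⟨i.succ, fun i' => ?_⟩
  refine Fin.cases ?_ (fun j => ?_) i'
  · intro _; simp
  · intro hj
    simp only [Fin.cons_succ]
    exact hi j (fun h => hj (by rw [h]))

omit [IsLocalRing A] [IsNoetherianRing A] in
lemma step_head {n : ℕ} (a b : A) (x : Fin n → A) :
    Step (Fin.cons a x : Fin (n + 1) → A) (Fin.cons b x) := by
  refine ⟨0, fun i' => ?_⟩
  refine Fin.cases ?_ (fun j => ?_) i'
  · intro h; exact absurd rfl h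
  · intro _; simp

theorem chain_aux : ∀ (n : ℕ) (I : Ideal A), I ≤ maximalIdeal A → ∀ (u v : Fin n → A),
    IsSop I u → IsSop I v → Relation.ReflTransGen (Rel I) u v := by
  intro n
  induction n with
  | zero =>
    intro I _ u v _ _
    have : u = v := Subsingleton.elim _ _
    rw [this]
  | succ n ih =>
    intro I hI u v hu hv
    obtain ⟨u0, u', rfl⟩ : ∃ u0 u', u = Fin.cons u0 u' := ⟨u 0, Fin.tail u, (Fin.cons_self_tail u).symm⟩
    obtain ⟨v0, v', rfl⟩ : ∃ v0 v', v = Fin.cons v0 v' := ⟨v 0, Fin.tail v, (Fin.cons_self_tail v).symm⟩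
    have hu0 : u0 ∈ maximalIdeal A := by simpa using hu.1 0
    have hv0 : v0 ∈ maximalIdeal A := by simpa using hv.1 0
    have hu'm : ∀ i, u' i ∈ maximalIdeal A := fun i => by simpa using hu.1 i.succ
    have hv'm : ∀ i, v' i ∈ maximalIdeal A := fun i => by simpa using hv.1 i.succ
    have hKu : I ⊔ Ideal.span (Set.range u') ≤ maximalIdeal A :=
      sup_le hI (Ideal.span_le.2 (by rintro _ ⟨i, rfl⟩; exact hu'm i))
    have hKv : I ⊔ Ideal.span (Set.range v') ≤ maximalIdeal A :=
      sup_le hI (Ideal.span_le.2 (by rintro _ ⟨i, rfl⟩; exact hv'm i))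
    have hu2 := hu.2
    have hv2 := hv.2
    rw [sup_span_cons'] at hu2 hv2
    obtain ⟨w, hwm, hwu, hwv⟩ := exists_avoid _ _ u0 v0 hKu hu0 hu2 hKv hv0 hv2
    have hwu' : IsSop I (Fin.cons w u' : Fin (n + 1) → A) := by
      refine ⟨fun i => ?_, ?_⟩
      · refine Fin.cases ?_ (fun j => ?_) i
        · simpa using hwm
        · simpa using hu'm j
      · rw [sup_span_cons']; exact hwu
    have hwv' : IsSop I (Fin.cons w v' : Fin (n + 1) → A) := by
      refine ⟨fun i => ?_, ?_⟩
      · refine Fin.cases ?_ (fun j => ?_) i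
        · simpa using hwm
        · simpa using hv'm j
      · rw [sup_span_cons']; exact hwv
    have hI' : I ⊔ Ideal.span {w} ≤ maximalIdeal A :=
      sup_le hI ((Ideal.span_singleton_le_iff_mem _).2 hwm)
    have hmid := ih (I ⊔ Ideal.span {w}) hI' u' v'
      ((isSop_cons_iff I w hwm u').1 hwu') ((isSop_cons_iff I w hwm v').1 hwv')
    have hmid' : Relation.ReflTransGen (Rel I) (Fin.cons w u' : Fin (n + 1) → A) (Fin.cons w v') := by
      refine Relation.ReflTransGen.lift (fun x : Fin n → A => (Fin.cons w x : Fin (n + 1) → A)) ?_ _ _ hmid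
      rintro x y ⟨hx, hy, hxy⟩
      exact ⟨(isSop_cons_iff I w hwm x).2 hx, (isSop_cons_iff I w hwm y).2 hy, step_cons w hxy⟩
    refine Relation.ReflTransGen.head ⟨hu, hwu', step_head u0 w u'⟩ ?_
    exact hmid'.tail ⟨hwv', hv, step_head w v0 v'⟩

omit [IsNoetherianRing A] in
theorem to_fin {n : ℕ} (I : Ideal A) (u v : Fin n → A) (hu : IsSop I u)
    (h : Relation.ReflTransGen (Rel I) u v) :
    ∃ (m : ℕ) (w : Fin (m + 1) → Fin n → A), w 0 = u ∧ w (Fin.last m) = v ∧
      (∀ k : Fin (m + 1), IsSop I (w k)) ∧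
      (∀ k : Fin m, Step (w k.castSucc) (w k.succ)) := by
  induction h with
  | refl =>
    exact ⟨0, fun _ => u, rfl, rfl, fun _ => hu, fun k => k.elim0⟩
  | tail hab hbc ih =>
    rename_i b c
    obtain ⟨m, w, h0, hl, hs, hst⟩ := ih
    refine ⟨m + 1, Fin.snoc (α := fun _ => Fin n → A) w c, ?_, ?_, ?_, ?_⟩
    · rw [← Fin.castSucc_zero, Fin.snoc_castSucc]; exact h0
    · rw [Fin.snoc_last]
    · intro k
      refine Fin.lastCases ?_ (fun j => ?_) k
      · rw [Fin.snoc_last]; exact hbc.2.1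
      · rw [Fin.snoc_castSucc]; exact hs j
    · intro k
      refine Fin.lastCases ?_ (fun j => ?_) k
      · rw [Fin.snoc_castSucc, Fin.succ_last, Fin.snoc_last, hl]
        exact hbc.2.2
      · rw [Fin.snoc_castSucc, ← Fin.castSucc_succ, Fin.snoc_castSucc]
        exact hst j

end Helpers

/-- Suppose A is a Cohen–Macaulay local ring whose Krull dimension is d, and consider two systems of
parameters u = (u_1, ..., u_d) and v = (v_1, ..., v_d) of A (that is, d-tuples of elements of the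
maximal ideal m such that the ideal they generate has radical m). Then one can find a finite
sequence w_0 = u, w_1, ..., w_m = v, each term a system of parameters of A, where w_{k+1} arises
from w_k by altering just one coordinate. -/
theorem result (A : Type u) [CommRing A] [LocCoh.IsCohenMacaulayLocalRing A]
    (d : ℕ) (hd : ringKrullDim A = d) (u v : Fin d → A)
    (hu : ∀ i, u i ∈ IsLocalRing.maximalIdeal A) (hu' : IsLocalRing.maximalIdeal A ≤ (Ideal.span (Set.range u)).radical)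
    (hv : ∀ i, v i ∈ IsLocalRing.maximalIdeal A) (hv' : IsLocalRing.maximalIdeal A ≤ (Ideal.span (Set.range v)).radical) :
    ∃ (m : ℕ) (w : Fin (m + 1) → Fin d → A), w 0 = u ∧ w (Fin.last m) = v ∧
      (∀ k : Fin (m + 1), (∀ i, w k i ∈ IsLocalRing.maximalIdeal A) ∧
        IsLocalRing.maximalIdeal A ≤ (Ideal.span (Set.range (w k))).radical) ∧
      (∀ k : Fin m, ∃ i : Fin d, ∀ i' : Fin d, i' ≠ i → w k.castSucc i' = w k.succ i') := by
  have hU : IsSop (⊥ : Ideal A) u := ⟨hu, by rwa [bot_sup_eq]⟩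
  have hV : IsSop (⊥ : Ideal A) v := ⟨hv, by rwa [bot_sup_eq]⟩
  obtain ⟨m, w, h0, hl, hs, hst⟩ := to_fin ⊥ u v hU (chain_aux d ⊥ bot_le u v hU hV)
  refine ⟨m, w, h0, hl, fun k => ?_, hst⟩
  have := hs k
  exact ⟨this.1, by simpa [bot_sup_eq] using this.2⟩

end Groth.Agent.S8586
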