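import Groth.Prelude

universe u

namespace Groth.Agent.S8591

open Polynomial Matrix

section mulMat

variable {R S : Type*} [CommRing R] [CommRing S]

/-- The matrix (with `n` rows and columns) of multiplication by `P` on `R[X]/(f)` in the
monomial basis. -/
noncomputable def mulMat (f P : R[X]) (n : ℕ) : Matrix (Fin n) (Fin n) R :=
  Matrix.of fun i j => ((P * X ^ (j : ℕ)) %ₘ f).coeff i

lemma mulMat_map (φ : R →+* S) (f P : R[X]) (hf : f.Monic) (n : ℕ) :
    (mulMat f P n).map φ = mulMat (f.map φ) (P.map φ) n := by
  ext i j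
  simp only [mulMat, Matrix.map_apply, Matrix.of_apply]
  rw [← Polynomial.coeff_map, Polynomial.map_modByMonic φ hf, Polynomial.map_mul,
    Polynomial.map_pow, Polynomial.map_X]

lemma det_mulMat_congr (f P : R[X]) {m n : ℕ} (h : m = n) :
    (mulMat f P m).det = (mulMat f P n).det := by
  subst h; rfl

lemma norm_eq_det_mulMat (f P : R[X]) (hf : f.Monic) :
    Algebra.norm R (AdjoinRoot.mk f P) = (mulMat f P f.natDegree).det := by
  rw [Algebra.norm_eq_matrix_det (AdjoinRoot.powerBasis' hf).basis]
  congr 1
  ext i j
  rw [Algebra.leftMulMatrix_eq_repr_mul]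
  simp only [mulMat, Matrix.of_apply]
  have hb : (AdjoinRoot.powerBasis' hf).basis j = AdjoinRoot.mk f (X ^ (j : ℕ)) := by
    rw [PowerBasis.basis_eq_pow, AdjoinRoot.powerBasis'_gen, map_pow, AdjoinRoot.mk_X]
  rw [hb, ← map_mul]
  rfl

end mulMat

section detAeval

variable {R : Type*} [CommRing R]

lemma det_aeval_X_sub_C {n : ℕ} (A : Matrix (Fin n) (Fin n) R) (b : R) :
    (aeval A (X - C b)).det = (-1) ^ n * A.charpoly.eval b := by
  rw [map_sub, aeval_X, aeval_C, Matrix.eval_charpoly]
  have : A - algebraMap R (Matrix (Fin n) (Fin n) R) b = -(Matrix.scalar (Fin n) b - A) := by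
    rw [neg_sub]; rfl
  rw [this, Matrix.det_neg, Fintype.card_fin]

lemma det_aeval_C {n : ℕ} (A : Matrix (Fin n) (Fin n) R) (c : R) :
    (aeval A (C c)).det = c ^ n := by
  rw [aeval_C, Matrix.algebraMap_eq_diagonal, Matrix.det_diagonal]
  simp

lemma det_aeval_prod {n : ℕ} (A : Matrix (Fin n) (Fin n) R) (c : R) (s : Multiset R) :
    (aeval A (C c * (s.map fun b => X - C b).prod)).det =
      c ^ n * (s.map fun b => (-1) ^ n * A.charpoly.eval b).prod := by
  induction s using Multiset.induction_on with
  | empty =>
    rw [Multiset.map_zero, Multiset.prod_zero, Multiset.map_zero, Multiset.prod_zero, mul_one,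
      mul_one, det_aeval_C]
  | cons b s ih =>
    rw [Multiset.map_cons, Multiset.prod_cons, Multiset.map_cons, Multiset.prod_cons]
    have : C c * ((X - C b) * (s.map fun b => X - C b).prod) =
        (X - C b) * (C c * (s.map fun b => X - C b).prod) := by ring
    rw [this, map_mul, Matrix.det_mul, ih, det_aeval_X_sub_C]
    ring

end detAeval

section field

lemma key_field {K : Type*} [Field K] {n : ℕ} (A : Matrix (Fin n) (Fin n) K) (P : K[X])
    (hP : P.Splits) : (mulMat A.charpoly P n).det = (aeval A P).det := by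
  have hf : A.charpoly.Monic := A.charpoly_monic
  have hn : A.charpoly.natDegree = n := by
    rw [Matrix.charpoly_natDegree_eq_dim, Fintype.card_fin]
  rw [← det_mulMat_congr A.charpoly P hn, ← norm_eq_det_mulMat A.charpoly P hf]
  set M := Algebra.leftMulMatrix (AdjoinRoot.powerBasis' hf).basis (AdjoinRoot.root A.charpoly)
    with hMdef
  have hM : M.charpoly = A.charpoly := by
    have h1 := charpoly_leftMulMatrix (AdjoinRoot.powerBasis' hf)
    rw [AdjoinRoot.powerBasis'_gen] at h1
    rw [hMdef, h1, AdjoinRoot.minpoly_root hf.ne_zero, hf.leadingCoeff, inv_one, C_1, mul_one]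
  have h1 : Algebra.norm K (AdjoinRoot.mk A.charpoly P) = (aeval M P).det := by
    rw [Algebra.norm_eq_matrix_det (AdjoinRoot.powerBasis' hf).basis, ← AdjoinRoot.aeval_eq,
      hMdef, ← Polynomial.aeval_algHom_apply]
  rw [h1]
  have hPeq := hP.eq_prod_roots
  rw [hPeq, det_aeval_prod, det_aeval_prod, hM, AdjoinRoot.powerBasis'_dim, hn]

end field

section baseChange

variable {R S : Type*} [CommRing R] [CommRing S] (φ : R →+* S)

lemma map_det_mulMat {n : ℕ} (A : Matrix (Fin n) (Fin n) R) (P : R[X]) :
    φ (mulMat A.charpoly P n).det = (mulMat (A.map φ).charpoly (P.map φ) n).det := by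
  rw [RingHom.map_det, RingHom.mapMatrix_apply, mulMat_map φ _ _ A.charpoly_monic,
    Matrix.charpoly_map]

lemma map_det_aeval {n : ℕ} (A : Matrix (Fin n) (Fin n) R) (P : R[X]) :
    φ (aeval A P).det = (aeval (A.map φ) (P.map φ)).det := by
  rw [RingHom.map_det]
  congr 1
  rw [aeval_def, aeval_def, Polynomial.hom_eval₂, Polynomial.eval₂_map]
  congr 1
  ext r i j
  simp [Matrix.algebraMap_matrix_apply]
  split_ifs <;> simp

end baseChange

theorem key {R : Type u} [CommRing R] (P : R[X]) :
    ∀ (n : ℕ) (A : Matrix (Fin n) (Fin n) R), (mulMat A.charpoly P n).det = (aeval A P).det := by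
  refine Polynomial.induction_of_Splits_of_injective_of_surjective P
    (fun {R} _ P => ∀ (n : ℕ) (A : Matrix (Fin n) (Fin n) R),
      (mulMat A.charpoly P n).det = (aeval A P).det) ?_ ?_ ?_
  · intro K _ P hP n A
    exact key_field A P hP
  · intro R S _ _ φ hφ P IH n A
    apply hφ
    rw [map_det_mulMat, map_det_aeval]
    exact IH n (A.map φ)
  · intro R S _ _ φ hφ P IH n A
    obtain ⟨q, rfl⟩ := Polynomial.map_surjective φ hφ P
    obtain ⟨A', rfl⟩ : ∃ A' : Matrix (Fin n) (Fin n) R, A'.map φ = A :=
      ⟨A.map (Function.surjInv hφ), by ext i j; simp [Function.surjInv_eq hφ]⟩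
    rw [← map_det_mulMat, ← map_det_aeval, IH q n A']

/-- Let k be a commutative ring, M a finite free k-module, u an endomorphism of M with characteristic
polynomial χ, and P a polynomial over k. Then the norm, from the k-algebra k[T]/(χ) (free of rank
the rank of M) down to k, of the class of P(T) equals det(P(u)). (The published statement writes the
quotient by det(u - T), which generates the same ideal as χ(T) = det(T - u).) -/
theorem result (k : Type u) [CommRing k] (M : Type u) [AddCommGroup M] [Module k M]
    [Module.Free k M] [Module.Finite k M] (u : M →ₗ[k] M) (P : Polynomial k) :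
    Algebra.norm k (AdjoinRoot.mk u.charpoly P) = LinearMap.det (Polynomial.aeval u P) := by
  cases subsingleton_or_nontrivial k
  · exact Subsingleton.elim _ _
  let b := Module.finBasis k M
  have hchar : (LinearMap.toMatrix b b u).charpoly = u.charpoly := LinearMap.charpoly_toMatrix u b
  have hdet : LinearMap.det (aeval u P) = (aeval (LinearMap.toMatrix b b u) P).det := by
    rw [← LinearMap.det_toMatrix b]
    congr 1
    have := Polynomial.aeval_algHom_apply (LinearMap.toMatrixAlgEquiv b).toAlgHom u P
    exact this.symm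
  have hgen : ∀ f : k[X], (LinearMap.toMatrix b b u).charpoly = f →
      Algebra.norm k (AdjoinRoot.mk f P) = (aeval (LinearMap.toMatrix b b u) P).det := by
    rintro _ rfl
    rw [norm_eq_det_mulMat _ _ (Matrix.charpoly_monic _),
      det_mulMat_congr _ _ (n := Module.finrank k M)
        (by rw [Matrix.charpoly_natDegree_eq_dim, Fintype.card_fin]), key]
  rw [hdet]
  exact hgen _ hchar

end Groth.Agent.S8591
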