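import Groth.Statements.S8596
import Groth.Agent.Lib.DevTor
-- import your own Groth.Agent.* helpers here

set_option autoImplicit false
universe u
open CategoryTheory CategoryTheory.Limits
open CAlg

namespace Groth.Agent.S8596

open Groth.Agent.Lib.Devissage Groth.Agent.Lib.TorLES Groth.Agent.Lib.DevTor

/-- the class of modules `N` with `Tor_i(N, M) = 0` for `i > n` -/
def Good {A : Type u} [CommRing A] (M : ModuleCat.{u} A) (n : ℕ) (N : ModuleCat.{u} A) : Prop :=
  ∀ i : ℕ, n < i → IsZero (((Tor (ModuleCat.{u} A) i).obj N).obj M)

lemma good_devClass {A : Type u} [CommRing A] (M : ModuleCat.{u} A) (n : ℕ) :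
    DevClass (Good M n) where
  iso := fun e h i hi => (h i hi).of_iso (torMapIso e.symm i)
  zero := fun X hX i _ => isZero_tor_of_isZero_left hX i
  ext := fun S hS h1 h3 i hi => isZero_tor_X₂ hS i (h1 i hi) (h3 i hi)
  ker := fun S hS h2 h3 i hi => isZero_tor_X₁ hS i (h3 (i + 1) (by omega)) (h2 i hi)
  fg := fun N h i hi => by
    have := Groth.Agent.Lib.H15TorFiltered.tor_flip_preservesColimitsOfShape A i M (FGSub N)
    exact isZero_of_fg N ((Tor (ModuleCat.{u} A) i).flip.obj M) (fun N' hN' => h N' hN' i hi)


/-- Case of a complex reduced to a single module in degree 0: let A be a commutative Noetherian ring, M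
an A-module (not necessarily finitely generated) and n ≥ 0. Then M has tor-dimension at most n —
Tor_i^A(N, M) = 0 for every A-module N and every i > n, the Tor being the left derived functors of N
⊗ - evaluated at M — if and only if Tor_i^A(k(x), M) = 0 for every prime ideal x of A, with residue
field k(x), and every i > n. (The published statement gives the equivalence for bounded-above
complexes K and the derived tensor product K ⊗^L k(x); this is the case K = M[0].) -/
theorem result (A : Type u) [CommRing A] [IsNoetherianRing A]
    (M : ModuleCat.{u} A) (n : ℕ) :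
    (∀ (N : ModuleCat.{u} A) (i : ℕ), n < i → IsZero (((Tor (ModuleCat.{u} A) i).obj N).obj M)) ↔
    (∀ (x : Ideal A) [x.IsPrime] (i : ℕ), n < i →
      IsZero (((Tor (ModuleCat.{u} A) i).obj (ModuleCat.of A x.ResidueField)).obj M)) := by
  constructor
  · intro h x _ i hi
    exact h _ i hi
  · intro h N
    exact devissage (good_devClass M n) (fun p _ i hi => h p i hi) N

end Groth.Agent.S8596
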