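import Groth.Statements.S8597
import Groth.Agent.Lib.DevTor
import Groth.Agent.Lib.QuasiIso23
-- import your own Groth.Agent.* helpers here

set_option autoImplicit false
universe u
open CategoryTheory CategoryTheory.Limits
open CAlg

namespace Groth.Agent.S8597

open Groth.Agent.Lib.Devissage Groth.Agent.Lib.TorLES Groth.Agent.Lib.DevTor
  Groth.Agent.Lib.TorNat Groth.Agent.Lib.QuasiIso23 MonoidalCategory

variable {A : Type u} [CommRing A] {M N : ModuleCat.{u} A} (f : M ⟶ N)

/-- the class of modules `X` with `Tor_i(X, f)` an isomorphism for all `i` -/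
def IsoC (X : ModuleCat.{u} A) : Prop :=
  ∀ i : ℕ, IsIso (((Tor (ModuleCat.{u} A) i).obj X).map f)

/-- a lift of `f` to the chosen projective resolutions -/
noncomputable def lft : (ProjectiveResolution.of M).complex ⟶ (ProjectiveResolution.of N).complex :=
  ProjectiveResolution.lift f _ _

lemma lft_comm : (lft f).f 0 ≫ (ProjectiveResolution.of N).π.f 0 =
    (ProjectiveResolution.of M).π.f 0 ≫ f :=
  ProjectiveResolution.lift_commutes_zero f _ _

lemma isoC_iff (X : ModuleCat.{u} A) :
    IsoC f X ↔ QuasiIso ((tensorCxMap (lft f)).app X) := by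
  rw [quasiIso_iff]
  refine forall_congr' (fun i => ?_)
  rw [quasiIsoAt_iff_isIso_homologyMap]
  have h := torIso_hom_naturality_right f (ProjectiveResolution.of M) (ProjectiveResolution.of N)
    (lft f) (lft_comm f) X i
  constructor
  · intro hi
    have : HomologicalComplex.homologyMap ((tensorCxMap (lft f)).app X) i =
        (torIso (ProjectiveResolution.of M) X i).inv ≫
          ((Tor (ModuleCat.{u} A) i).obj X).map f ≫
          (torIso (ProjectiveResolution.of N) X i).hom := by
      rw [h, Iso.inv_hom_id_assoc]
    rw [this]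
    infer_instance
  · intro hi
    have : ((Tor (ModuleCat.{u} A) i).obj X).map f =
        (torIso (ProjectiveResolution.of M) X i).hom ≫
          HomologicalComplex.homologyMap ((tensorCxMap (lft f)).app X) i ≫
          (torIso (ProjectiveResolution.of N) X i).inv := by
      rw [← Category.assoc, ← h, Category.assoc, Iso.hom_inv_id, Category.comp_id]
    rw [this]
    infer_instance

lemma isoC_devClass : DevClass (IsoC f) where
  iso := fun {X Y} e h i => by
    have hn := ((Tor (ModuleCat.{u} A) i).map e.hom).naturality f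
    have := h i
    have h1 : IsIso (((Tor (ModuleCat.{u} A) i).map e.hom).app M) :=
      inferInstanceAs (IsIso ((torMapIso e i).hom))
    have h2 : IsIso (((Tor (ModuleCat.{u} A) i).map e.hom).app N) :=
      inferInstanceAs (IsIso ((torMapIso e i).hom))
    have : ((Tor (ModuleCat.{u} A) i).obj Y).map f =
        inv (((Tor (ModuleCat.{u} A) i).map e.hom).app M) ≫
          ((Tor (ModuleCat.{u} A) i).obj X).map f ≫
          ((Tor (ModuleCat.{u} A) i).map e.hom).app N := by
      rw [hn, IsIso.inv_hom_id_assoc]
    rw [this]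
    infer_instance
  zero := fun X hX i => by
    have h1 : IsZero (((Tor (ModuleCat.{u} A) i).obj X).obj M) := isZero_tor_of_isZero_left hX i
    have h2 : IsZero (((Tor (ModuleCat.{u} A) i).obj X).obj N) := isZero_tor_of_isZero_left hX i
    exact ⟨0, h1.eq_of_src _ _, h2.eq_of_src _ _⟩
  ext := fun S hS h1 h3 => by
    rw [isoC_iff] at h1 h3 ⊢
    exact quasiIso_τ₂ (S.mapNatTrans (tensorCxMap (lft f)))
      (shortExact_map_tensorCx _ hS) (shortExact_map_tensorCx _ hS) h1 h3
  ker := fun S hS h2 h3 => by
    rw [isoC_iff] at h2 h3 ⊢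
    exact quasiIso_τ₁ (S.mapNatTrans (tensorCxMap (lft f)))
      (shortExact_map_tensorCx _ hS) (shortExact_map_tensorCx _ hS) h2 h3
  fg := fun X h i => by
    have := Groth.Agent.Lib.H15TorFiltered.tor_flip_preservesColimitsOfShape A i M (FGSub X)
    have := Groth.Agent.Lib.H15TorFiltered.tor_flip_preservesColimitsOfShape A i N (FGSub X)
    exact isIso_of_fg X ((Tor (ModuleCat.{u} A) i).flip.map f) (fun X' hX' => h X' hX' i)

lemma isIso_of_isoC_unit (h : IsoC f (𝟙_ (ModuleCat.{u} A))) : IsIso f := by
  have h0 := h 0
  have hn := (torZeroNatIso (𝟙_ (ModuleCat.{u} A))).hom.naturality f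
  have h1 : IsIso ((𝟙_ (ModuleCat.{u} A)) ◁ f) := by
    have : (𝟙_ (ModuleCat.{u} A)) ◁ f =
        (torZeroNatIso (𝟙_ (ModuleCat.{u} A))).inv.app M ≫
          ((Tor (ModuleCat.{u} A) 0).obj (𝟙_ (ModuleCat.{u} A))).map f ≫
          (torZeroNatIso (𝟙_ (ModuleCat.{u} A))).hom.app N := by
      rw [hn, ← Category.assoc, ← NatTrans.comp_app, Iso.inv_hom_id, NatTrans.id_app,
        Category.id_comp]
      rfl
    rw [this]
    infer_instance
  have h2 : f = (λ_ M).inv ≫ (𝟙_ (ModuleCat.{u} A)) ◁ f ≫ (λ_ N).hom := by
    rw [leftUnitor_naturality, Iso.inv_hom_id_assoc]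
  rw [h2]
  infer_instance


/-- Case of modules placed in degree 0: let A be a commutative Noetherian ring and u : M -> N a
homomorphism of A-modules such that for every prime ideal x of A, with residue field k(x), and every
i ≥ 0, the induced map Tor_i^A(k(x), M) -> Tor_i^A(k(x), N) (left derived functors of k(x) ⊗ -) is
an isomorphism. Then u is an isomorphism. (The published statement is for a morphism of
bounded-above complexes and the derived tensor products with k(x); this is the case of two modules.) -/
theorem result (A : Type u) [CommRing A] [IsNoetherianRing A]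
    {M N : ModuleCat.{u} A} (u : M ⟶ N)
    (h : ∀ (x : Ideal A) [x.IsPrime] (i : ℕ),
      IsIso (((Tor (ModuleCat.{u} A) i).obj (ModuleCat.of A x.ResidueField)).map u)) :
    IsIso u := by
  exact isIso_of_isoC_unit u
    (devissage (isoC_devClass u) (fun p _ i => h p i) (𝟙_ (ModuleCat.{u} A)))

end Groth.Agent.S8597
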