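import Groth.Statements.S8598
import Groth.Agent.Lib.EtStalkPullGerm

set_option autoImplicit false
universe u
open CategoryTheory CategoryTheory.Limits AlgebraicGeometry Opposite
open EtDl

namespace Groth.Agent.S8598

open Groth.Agent.Lib.EtGerm Groth.Agent.Lib.EtStalkPullGerm

/-- the projection `W ×_Y X ⟶ W` as a morphism of the small etale site of `Y` -/
noncomputable def prW {X Y : Scheme.{u}} (u : X ⟶ Y) [Etale u] (W : Y.Etale) :
    (EtShriek.compEtale u).obj ((EtCoh.bc u).obj W) ⟶ W :=
  MorphismProperty.Over.homMk (pullback.fst W.hom u) pullback.condition trivial

/-- restriction along a surjective etale morphism is faithful -/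
theorem faithful_restrAlong {X Y : Scheme.{u}} (u : X ⟶ Y) [Etale u] [Surjective u]
    [EtShriek.JCont u] : (EtShriek.restrAlong u).Faithful where
  map_injective {F G} a b hab := by
    have hV : ∀ V : X.Etale, a.hom.app (op ((EtShriek.compEtale u).obj V)) =
        b.hom.app (op ((EtShriek.compEtale u).obj V)) := fun V =>
      congrArg (fun (c : (EtShriek.restrAlong u).obj F ⟶ (EtShriek.restrAlong u).obj G) =>
        c.hom.app (op V)) hab
    ext W : 3
    induction W using Opposite.rec with
    | op W =>
    ext s
    apply section_ext_of_forall_pt
    intro w
    obtain ⟨x, hx⟩ := (inferInstance : Surjective u).surj (W.hom w)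
    obtain ⟨z, hz1, -⟩ := Scheme.Pullback.exists_preimage_pullback (f := W.hom) (g := u) w x hx.symm
    refine ⟨(EtShriek.compEtale u).obj ((EtCoh.bc u).obj W), prW u W, ⟨z, hz1⟩, ?_⟩
    have n1 := NatTrans.naturality_apply a.hom (prW u W).op s
    have n2 := NatTrans.naturality_apply b.hom (prW u W).op s
    rw [← n1, ← n2]
    exact ConcreteCategory.congr_hom (hV ((EtCoh.bc u).obj W)) _

/-- Let u : X -> Y be an etale, separated morphism of finite type that is surjective, and F an abelian
sheaf on Y_et. The sheaves F_n = (u_n)_! u_n^* F built from the iterated fibre powers of X over Y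
form a left resolution of F; in particular (the part stated here) the augmentation u_! u^* F -> F,
which is the counit of the adjunction between extension by zero u_! and restriction u^*, is an
epimorphism. (The continuity of V ↦ (V -> X -> Y) between the small etale sites is carried as an
instance hypothesis, the prelude's convention for extension by zero along an etale morphism.) -/
theorem result {X Y : Scheme.{u}} (u : X ⟶ Y) [Etale u] [IsSeparated u]
    [LocallyOfFiniteType u] [QuasiCompact u] [Surjective u] [EtShriek.JCont u] (F : EtCoh.Ab Y) :
    Epi ((EtShriek.extZeroAdj u).counit.app F) := by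
  have := faithful_restrAlong u
  infer_instance

end Groth.Agent.S8598
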