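import Groth.Statements.S8603
import Groth.Agent.Lib.LocImm13

set_option autoImplicit false
universe u
open CategoryTheory CategoryTheory.Limits AlgebraicGeometry Opposite
open DEt

namespace Groth.Agent.S8603

/-- The domination half of 'the category of compactifications of f is cofiltering': let f : X -> Y be a
morphism of quasi-compact quasi-separated schemes and let (Xbar_1, j_1, fbar_1), (Xbar_2, j_2,
fbar_2) be two compactifications of f (j_i : X -> Xbar_i open immersions, fbar_i : Xbar_i -> Y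
proper, fbar_i ∘ j_i = f). Then there are a compactification (Xbar, j, fbar) of f and proper
morphisms p_i : Xbar -> Xbar_i (i = 1, 2) with p_i ∘ j = j_i and fbar_i ∘ p_i = fbar, i.e. a
compactification mapping to both by morphisms of compactifications. (The published statement also
includes the equalizing axiom: two morphisms of compactifications are equalized by a third; only
domination is stated here.) -/
theorem result {X Y : Scheme.{u}} [CompactSpace ↥X] [QuasiSeparatedSpace ↥X]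
    [CompactSpace ↥Y] [QuasiSeparatedSpace ↥Y] {f : X ⟶ Y} (c₁ c₂ : DEt.Compactification f) :
    ∃ (c : DEt.Compactification f) (p₁ : c.Xbar ⟶ c₁.Xbar) (p₂ : c.Xbar ⟶ c₂.Xbar),
      IsProper p₁ ∧ IsProper p₂ ∧ c.j ≫ p₁ = c₁.j ∧ c.j ≫ p₂ = c₂.j ∧
        p₁ ≫ c₁.fbar = c.fbar ∧ p₂ ≫ c₂.fbar = c.fbar := by
  have hc : c₁.j ≫ c₁.fbar = c₂.j ≫ c₂.fbar := c₁.fac.trans c₂.fac.symm
  let Γ : X ⟶ pullback c₁.fbar c₂.fbar := pullback.lift c₁.j c₂.j hc
  have hΓ1 : Γ ≫ pullback.fst c₁.fbar c₂.fbar = c₁.j := pullback.lift_fst _ _ _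
  have hΓ2 : Γ ≫ pullback.snd c₁.fbar c₂.fbar = c₂.j := pullback.lift_snd _ _ _
  have hqs₁ : QuasiSeparatedSpace ↥c₁.Xbar :=
    quasiSeparatedSpace_of_quasiSeparated c₁.fbar
  have hqcj₁ : QuasiCompact c₁.j := inferInstance
  have hqcΓ : QuasiCompact Γ := by
    have : QuasiCompact (Γ ≫ pullback.fst c₁.fbar c₂.fbar) := by rw [hΓ1]; exact hqcj₁
    exact MorphismProperty.of_postcomp (W := @QuasiCompact) (W' := @QuasiSeparated) Γ
      (pullback.fst c₁.fbar c₂.fbar) inferInstance this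
  let k : X ⟶ Γ.image := Γ.toImage
  have hkι : k ≫ Γ.imageι = Γ := Γ.toImage_imageι
  let p₁ : Γ.image ⟶ c₁.Xbar := Γ.imageι ≫ pullback.fst c₁.fbar c₂.fbar
  let p₂ : Γ.image ⟶ c₂.Xbar := Γ.imageι ≫ pullback.snd c₁.fbar c₂.fbar
  have hkp₁ : k ≫ p₁ = c₁.j := by simp only [p₁, ← Category.assoc, hkι, hΓ1]
  have hkp₂ : k ≫ p₂ = c₂.j := by simp only [p₂, ← Category.assoc, hkι, hΓ2]
  have hp₁ : IsProper p₁ := inferInstance
  have hp₂ : IsProper p₂ := inferInstance
  have hoi : IsOpenImmersion (k ≫ p₁) := by rw [hkp₁]; infer_instance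
  have hqc : QuasiCompact (k ≫ p₁) := by rw [hkp₁]; exact hqcj₁
  obtain ⟨hkopen, -⟩ := Groth.Agent.Lib.LocImm.isOpenImmersion_of_comp_of_ker_eq_bot k p₁
    (Groth.Agent.Lib.LocImm.ker_toImage_eq_bot Γ) (Scheme.Hom.denseRange k)
  refine ⟨⟨Γ.image, k, p₁ ≫ c₁.fbar, hkopen, inferInstance, ?_⟩, p₁, p₂, hp₁, hp₂, hkp₁, hkp₂,
    rfl, ?_⟩
  · rw [← Category.assoc, hkp₁, c₁.fac]
  · simp only [p₁, p₂, Category.assoc, pullback.condition]

end Groth.Agent.S8603
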