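import Mathlib
import Groth.Statements.S8604

set_option autoImplicit false
universe u
open CAlg

namespace Groth.Agent.S8604

section Helpers

open Polynomial

variable {p : ℕ} [hp : Fact p.Prime] {k : Type u} [Field k] [IsAlgClosed k] [CharP k p]

/-- the auxiliary polynomials -/
noncomputable def Y (p : ℕ) {k : Type u} [Field k] (a : ℕ → k) : ℕ → k[X]
  | 0 => C (a 0) * X ^ p
  | (i + 1) => (Y p a i) ^ p + C (a (i + 1)) * X ^ p

omit [IsAlgClosed k] [CharP k p] in
lemma X_pow_dvd_Y (a : ℕ → k) (i : ℕ) : (X : k[X]) ^ p ∣ Y p a i := by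
  induction i with
  | zero => exact Dvd.intro_left _ rfl
  | succ i ih =>
    show X ^ p ∣ (Y p a i) ^ p + C (a (i + 1)) * X ^ p
    refine dvd_add ?_ (Dvd.intro_left _ rfl)
    have hX : (X : k[X]) ∣ Y p a i := dvd_trans (dvd_pow_self X hp.out.ne_zero) ih
    exact pow_dvd_pow_of_dvd hX p

omit [IsAlgClosed k] [CharP k p] in
lemma Y_degree (a : ℕ → k) (i : ℕ) :
    ((∀ j ≤ i, a j = 0) ∧ Y p a i = 0) ∨ p ≤ (Y p a i).natDegree := by
  have hp2 : 2 ≤ p := hp.out.two_le
  induction i with
  | zero =>
    by_cases h0 : a 0 = 0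
    · left
      refine ⟨fun j hj => by rw [Nat.le_zero.mp hj]; exact h0, ?_⟩
      show C (a 0) * X ^ p = 0
      rw [h0, C_0, zero_mul]
    · right
      show p ≤ (C (a 0) * X ^ p).natDegree
      rw [natDegree_C_mul_X_pow p _ h0]
  | succ i ih =>
    rcases ih with ⟨hz, hY⟩ | hdeg
    · by_cases h0 : a (i + 1) = 0
      · left
        refine ⟨fun j hj => ?_, ?_⟩
        · rcases Nat.lt_or_ge j (i + 1) with h | h
          · exact hz j (Nat.lt_succ_iff.mp h)
          · rw [le_antisymm hj h]; exact h0
        · show (Y p a i) ^ p + C (a (i + 1)) * X ^ p = 0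
          rw [hY, h0, C_0, zero_mul, zero_pow hp.out.ne_zero, add_zero]
      · right
        show p ≤ ((Y p a i) ^ p + C (a (i + 1)) * X ^ p).natDegree
        rw [hY, zero_pow hp.out.ne_zero, zero_add, natDegree_C_mul_X_pow p _ h0]
    · right
      show p ≤ ((Y p a i) ^ p + C (a (i + 1)) * X ^ p).natDegree
      have h1 : ((Y p a i) ^ p).natDegree = p * (Y p a i).natDegree := natDegree_pow _ _
      have h2 : (C (a (i + 1)) * X ^ p).natDegree ≤ p := natDegree_C_mul_X_pow_le _ _
      have h3 : p < ((Y p a i) ^ p).natDegree := by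
        rw [h1]
        calc p < p * 2 := by omega
          _ ≤ p * p := Nat.mul_le_mul_left p hp2
          _ ≤ p * (Y p a i).natDegree := Nat.mul_le_mul_left p hdeg
      rw [natDegree_add_eq_left_of_natDegree_lt (lt_of_le_of_lt h2 h3)]
      exact h3.le

omit [CharP k p] in
/-- a nonzero root of `Y - X` when `Y` has degree at least `p`. -/
lemma exists_root (a : ℕ → k) (i : ℕ) (hdeg : p ≤ (Y p a i).natDegree) :
    ∃ t : k, t ≠ 0 ∧ (Y p a i).eval t = t := by
  have hp2 : 2 ≤ p := hp.out.two_le
  obtain ⟨Z, hZ⟩ := X_pow_dvd_Y (p := p) a i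
  set G : k[X] := Y p a i - X with hG
  have hGdeg : G.natDegree = (Y p a i).natDegree := by
    rw [hG]
    apply natDegree_sub_eq_left_of_natDegree_lt
    rw [natDegree_X]
    omega
  have hG0 : G.coeff 0 = 0 := by
    rw [hG, coeff_sub, hZ, coeff_X_pow_mul', coeff_X_zero, if_neg (by omega), sub_zero]
  have hG1 : G.coeff 1 = -1 := by
    rw [hG, coeff_sub, hZ, coeff_X_pow_mul', coeff_X_one, if_neg (by omega), zero_sub]
  set H := G.divX with hH
  have hHG : H * X = G := by
    have := divX_mul_X_add G
    rw [hG0, C_0, add_zero] at this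
    exact this
  have hHdeg : H.degree ≠ 0 := by
    have : H.natDegree = G.natDegree - 1 := natDegree_divX_eq_natDegree_tsub_one
    have h1 : 1 ≤ H.natDegree := by rw [this, hGdeg]; omega
    intro h0
    have := natDegree_eq_zero_iff_degree_le_zero.mpr h0.le
    omega
  obtain ⟨t, ht⟩ := IsAlgClosed.exists_root H hHdeg
  refine ⟨t, ?_, ?_⟩
  · rintro rfl
    have : H.eval 0 = -1 := by
      rw [← coeff_zero_eq_eval_zero, hH, coeff_divX, hG1]
    rw [IsRoot.def] at ht
    rw [ht] at this
    exact absurd this (by norm_num)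
  · have : G.eval t = 0 := by
      rw [← hHG, eval_mul, ht, zero_mul]
    rw [hG, eval_sub, eval_X, sub_eq_zero] at this
    exact this

section Lin

variable {V : Type u} [AddCommGroup V] [Module k V]

omit [IsAlgClosed k] in
lemma iterate_smul (F : V →ₛₗ[frobenius k p] V) (m : ℕ) (a : k) (v : V) :
    (⇑F)^[m] (a • v) = a ^ p ^ m • (⇑F)^[m] v := by
  induction m generalizing a v with
  | zero => simp
  | succ m ih =>
    rw [Function.iterate_succ_apply, map_smulₛₗ, frobenius_def, ih, Function.iterate_succ_apply,
      ← pow_mul, pow_succ']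

omit [IsAlgClosed k] in
lemma iterate_add (F : V →ₛₗ[frobenius k p] V) (m : ℕ) (v w : V) :
    (⇑F)^[m] (v + w) = (⇑F)^[m] v + (⇑F)^[m] w := by
  induction m generalizing v w with
  | zero => simp
  | succ m ih => rw [Function.iterate_succ_apply, map_add, ih, Function.iterate_succ_apply,
      Function.iterate_succ_apply]

omit [IsAlgClosed k] in
lemma iterate_zero (F : V →ₛₗ[frobenius k p] V) (m : ℕ) : (⇑F)^[m] (0 : V) = 0 := by
  induction m with
  | zero => simp
  | succ m ih => rw [Function.iterate_succ_apply, map_zero, ih]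

lemma exists_fixed [FiniteDimensional k V] (F : V →ₛₗ[frobenius k p] V)
    (hinj : Function.Injective F) (w : V) (hw : w ≠ 0) :
    ∃ z : V, z ≠ 0 ∧ F z = z := by
  classical
  set u : ℕ → V := fun i => (⇑F)^[i] w with hu
  have hu_succ : ∀ i, u (i + 1) = F (u i) := fun i => Function.iterate_succ_apply' F i w
  let W : ℕ →o Submodule k V :=
    ⟨fun r => Submodule.span k (u '' (Finset.range r : Set ℕ)), fun r s hrs =>
      Submodule.span_mono (Set.image_mono (by
        intro x hx
        simp only [Finset.coe_range, Set.mem_Iio] at hx ⊢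
        omega))⟩
  obtain ⟨n, hn⟩ := monotone_stabilizes_iff_noetherian.mpr (inferInstance : IsNoetherian k V) W
  have hP : ∃ r, u r ∈ Submodule.span k (u '' (Finset.range r : Set ℕ)) := by
    refine ⟨n, ?_⟩
    have h1 : u n ∈ W (n + 1) :=
      Submodule.subset_span ⟨n, by simp, rfl⟩
    rw [← hn (n + 1) (Nat.le_succ n)] at h1
    exact h1
  set r := Nat.find hP with hr
  have hPr : u r ∈ Submodule.span k (u '' (Finset.range r : Set ℕ)) := Nat.find_spec hP
  have hr0 : r ≠ 0 := by
    intro h0
    rw [h0] at hPr
    simp at hPr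
    exact hw hPr
  obtain ⟨r', hr'⟩ := Nat.exists_eq_succ_of_ne_zero hr0
  have hmin : u r' ∉ Submodule.span k (u '' (Finset.range r' : Set ℕ)) :=
    Nat.find_min hP (by omega)
  rw [hr'] at hPr
  obtain ⟨a, ha⟩ := (Submodule.mem_span_image_finset_iff_exists_fun' k).mp hPr
  -- not all a vanish
  have hane : ¬ (∀ j ≤ r', a j = 0) := by
    intro hall
    have : u (r' + 1) = 0 := by
      rw [← ha]
      refine Finset.sum_eq_zero fun i hi => ?_
      rw [hall i (Nat.lt_succ_iff.mp (Finset.mem_range.mp hi)), zero_smul]
    -- injectivity of iterate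
    have hinj' : Function.Injective ((⇑F)^[r' + 1]) := hinj.iterate _
    exact hw (hinj' (by rw [iterate_zero]; exact this))
  have hdeg : p ≤ (Y p a r').natDegree := by
    rcases Y_degree (p := p) a r' with ⟨hz, _⟩ | h
    · exact absurd hz hane
    · exact h
  obtain ⟨t, ht0, ht⟩ := exists_root (p := p) a r' hdeg
  set x : ℕ → k := fun i => (Y p a i).eval t with hx
  have hx0 : x 0 = a 0 * t ^ p := by
    simp [hx, Y]
  have hxs : ∀ i, x (i + 1) = x i ^ p + a (i + 1) * t ^ p := by
    intro i
    simp [hx, Y]
  have hxr : x r' = t := ht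
  set z : V := ∑ i ∈ Finset.range (r' + 1), x i • u i with hz
  refine ⟨z, ?_, ?_⟩
  · intro hz0
    rw [hz, Finset.sum_range_succ, hxr] at hz0
    apply hmin
    have : u r' = -(t⁻¹ • ∑ i ∈ Finset.range r', x i • u i) := by
      have h2 : t • u r' = -∑ i ∈ Finset.range r', x i • u i := by
        rw [eq_neg_iff_add_eq_zero, add_comm]; exact hz0
      rw [← smul_neg, ← h2, smul_smul, inv_mul_cancel₀ ht0, one_smul]
    rw [this]
    refine Submodule.neg_mem _ (Submodule.smul_mem _ _ (Submodule.sum_mem _ fun i hi => ?_))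
    exact Submodule.smul_mem _ _ (Submodule.subset_span ⟨i, by simpa using hi, rfl⟩)
  · -- F z = z
    have hFz : F z = ∑ i ∈ Finset.range (r' + 1), x i ^ p • u (i + 1) := by
      rw [hz, map_sum]
      refine Finset.sum_congr rfl fun i _ => ?_
      rw [map_smulₛₗ, frobenius_def, hu_succ]
    rw [hFz, Finset.sum_range_succ, hxr, ← ha]
    rw [hz, Finset.sum_range_succ' (fun i => x i • u i), Finset.sum_range_succ' (fun i => a i • u i)]
    simp only [hxs, hx0, add_smul, Finset.sum_add_distrib, smul_add, Finset.smul_sum, smul_smul,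
      mul_comm (t ^ p)]
    abel

end Lin

section Decomp

omit [IsAlgClosed k] in
lemma iterate_mapQ {V : Type u} [AddCommGroup V] [Module k V] (F : V →ₛₗ[frobenius k p] V)
    (L : Submodule k V) (h : L ≤ L.comap F) (m : ℕ) (v : V) :
    (⇑(L.mapQ L F h))^[m] (Submodule.Quotient.mk v) = Submodule.Quotient.mk ((⇑F)^[m] v) := by
  induction m generalizing v with
  | zero => rfl
  | succ m ih =>
    rw [Function.iterate_succ_apply, Submodule.mapQ_apply, ih, Function.iterate_succ_apply]

omit [CharP k p] in
lemma exists_artinSchreier (c : k) : ∃ y : k, y ^ p - y + c = 0 := by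
  have hp2 : 2 ≤ p := hp.out.two_le
  have hdeg : (X ^ p - X + C c : k[X]).natDegree = p := by
    rw [natDegree_add_C, natDegree_sub_eq_left_of_natDegree_lt] <;> rw [natDegree_X_pow]
    rw [natDegree_X]; omega
  have hne : (X ^ p - X + C c : k[X]).degree ≠ 0 := by
    intro h0
    have := natDegree_eq_zero_iff_degree_le_zero.mpr h0.le
    omega
  obtain ⟨y, hy⟩ := IsAlgClosed.exists_root _ hne
  refine ⟨y, ?_⟩
  simpa [IsRoot.def] using hy

theorem span_sup_eq_top : ∀ (n : ℕ) (V : Type u) [AddCommGroup V] [Module k V]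
    [FiniteDimensional k V] (F : V →ₛₗ[frobenius k p] V), Module.finrank k V = n →
    Submodule.span k {v : V | F v = v} ⊔
      Submodule.span k {v : V | ∃ m : ℕ, (⇑F)^[m] v = 0} = ⊤ := by
  intro n
  induction n with
  | zero =>
    intro V _ _ _ F h
    have : Subsingleton V := Module.finrank_zero_iff.mp h
    exact Subsingleton.elim _ _
  | succ n ih =>
    intro V _ _ _ F h
    have : Nontrivial V := Module.nontrivial_of_finrank_pos (R := k) (by omega)
    obtain ⟨z, hz0, hz⟩ : ∃ z : V, z ≠ 0 ∧ (F z = z ∨ F z = 0) := by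
      by_cases hinj : Function.Injective F
      · obtain ⟨w, hw⟩ := exists_ne (0 : V)
        obtain ⟨z, hz0, hz⟩ := exists_fixed F hinj w hw
        exact ⟨z, hz0, Or.inl hz⟩
      · rw [injective_iff_map_eq_zero] at hinj
        push Not at hinj
        obtain ⟨z, hz, hz0⟩ := hinj
        exact ⟨z, hz0, Or.inr hz⟩
    set S := Submodule.span k {v : V | F v = v} ⊔
      Submodule.span k {v : V | ∃ m : ℕ, (⇑F)^[m] v = 0} with hS
    have hzS : z ∈ S := by
      rcases hz with hz | hz
      · exact Submodule.mem_sup_left (Submodule.subset_span hz)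
      · exact Submodule.mem_sup_right (Submodule.subset_span ⟨1, by simpa using hz⟩)
    set L := Submodule.span k {z} with hL
    have hLS : L ≤ S := (Submodule.span_singleton_le_iff_mem _ _).mpr hzS
    have hstable : L ≤ L.comap F := by
      rw [hL, Submodule.span_singleton_le_iff_mem, Submodule.mem_comap]
      rcases hz with hz | hz
      · rw [hz]; exact Submodule.mem_span_singleton_self z
      · rw [hz]; exact zero_mem _
    have hfr : Module.finrank k (V ⧸ L) = n := by
      have h1 := Submodule.finrank_quotient_add_finrank L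
      have h2 : Module.finrank k L = 1 := finrank_span_singleton hz0
      rw [h2] at h1
      omega
    have ih' := ih (V ⧸ L) (L.mapQ L F hstable) hfr
    have hmap : S.map L.mkQ = ⊤ := by
      rw [eq_top_iff, ← ih']
      refine sup_le (Submodule.span_le.mpr ?_) (Submodule.span_le.mpr ?_)
      · rintro ubar hub
        obtain ⟨u, rfl⟩ := Submodule.mkQ_surjective L ubar
        have hub' : (L.mapQ L F hstable) (Submodule.Quotient.mk u) = Submodule.Quotient.mk u := hub
        rw [Submodule.mapQ_apply] at hub'
        have h1 : F u - u ∈ L := by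
          rw [← Submodule.Quotient.mk_eq_zero, Submodule.Quotient.mk_sub, hub', sub_self]
        obtain ⟨c, hc⟩ := Submodule.mem_span_singleton.mp h1
        have hFu : F u = u + c • z := by rw [hc]; abel
        rcases hz with hz | hz
        · obtain ⟨y, hy⟩ := exists_artinSchreier (p := p) c
          refine ⟨u + y • z, Submodule.mem_sup_left (Submodule.subset_span ?_), ?_⟩
          · show F (u + y • z) = u + y • z
            rw [map_add, map_smulₛₗ, frobenius_def, hz, hFu, add_assoc, ← add_smul]
            congr 2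
            linear_combination hy
          · show Submodule.Quotient.mk (u + y • z) = Submodule.Quotient.mk u
            rw [Submodule.Quotient.mk_add, (Submodule.Quotient.mk_eq_zero L).mpr
              (Submodule.smul_mem _ _ (Submodule.mem_span_singleton_self z)), add_zero]
        · refine ⟨u + c • z, Submodule.mem_sup_left (Submodule.subset_span ?_), ?_⟩
          · show F (u + c • z) = u + c • z
            rw [map_add, map_smulₛₗ, hz, smul_zero, add_zero, hFu]
          · show Submodule.Quotient.mk (u + c • z) = Submodule.Quotient.mk u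
            rw [Submodule.Quotient.mk_add, (Submodule.Quotient.mk_eq_zero L).mpr
              (Submodule.smul_mem _ _ (Submodule.mem_span_singleton_self z)), add_zero]
      · rintro ubar ⟨m, hm⟩
        obtain ⟨u, rfl⟩ := Submodule.mkQ_surjective L ubar
        have hm' : (⇑(L.mapQ L F hstable))^[m] (Submodule.Quotient.mk u) = 0 := hm
        rw [iterate_mapQ, Submodule.Quotient.mk_eq_zero] at hm'
        obtain ⟨c, hc⟩ := Submodule.mem_span_singleton.mp hm'
        refine ⟨u, ?_, rfl⟩
        rcases hz with hz | hz
        · obtain ⟨c', hc'⟩ := IsAlgClosed.exists_pow_nat_eq c (pow_pos hp.out.pos m)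
          have hzm : (⇑F)^[m] z = z := Function.iterate_fixed hz m
          have h2 : (⇑F)^[m] (u - c' • z) = 0 := by
            have h3 : (⇑F)^[m] u = (⇑F)^[m] (u - c' • z) + (⇑F)^[m] (c' • z) := by
              rw [← iterate_add, sub_add_cancel]
            rw [iterate_smul, hzm, hc', ← hc] at h3
            exact (add_eq_right.mp h3.symm)
          have : u = c' • z + (u - c' • z) := by abel
          rw [this]
          exact Submodule.add_mem_sup
            (Submodule.smul_mem _ _ (Submodule.subset_span hz))
            (Submodule.subset_span ⟨m, h2⟩)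
        · refine Submodule.mem_sup_right (Submodule.subset_span ⟨m + 1, ?_⟩)
          rw [Function.iterate_succ_apply', ← hc, map_smulₛₗ, hz, smul_zero]
    have h3 := congrArg (Submodule.comap L.mkQ) hmap
    rw [Submodule.comap_map_mkQ, Submodule.comap_top] at h3
    rw [← h3]
    exact (sup_eq_right.mpr hLS).symm

end Decomp

section Final

variable {V : Type u} [AddCommGroup V] [Module k V]

omit [IsAlgClosed k] in
lemma iterate_sum (F : V →ₛₗ[frobenius k p] V) (m : ℕ) {ι : Type*} (s : Finset ι) (f : ι → V) :
    (⇑F)^[m] (∑ i ∈ s, f i) = ∑ i ∈ s, (⇑F)^[m] (f i) := by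
  classical
  induction s using Finset.induction_on with
  | empty => simp
  | insert a s ha ih => rw [Finset.sum_insert ha, Finset.sum_insert ha, iterate_add, ih]

omit [IsAlgClosed k] in
lemma nil_of_mem_span (F : V →ₛₗ[frobenius k p] V) (x : V)
    (hx : x ∈ Submodule.span k {v : V | ∃ m : ℕ, (⇑F)^[m] v = 0}) : ∃ m, (⇑F)^[m] x = 0 := by
  induction hx using Submodule.span_induction with
  | mem x hx => exact hx
  | zero => exact ⟨0, rfl⟩
  | add x y _ _ hx hy =>
    obtain ⟨m, hm⟩ := hx
    obtain ⟨m', hm'⟩ := hy
    refine ⟨m + m', ?_⟩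
    rw [iterate_add]
    have h1 : (⇑F)^[m + m'] x = 0 := by
      rw [add_comm m m', Function.iterate_add_apply, hm, iterate_zero]
    have h2 : (⇑F)^[m + m'] y = 0 := by
      rw [Function.iterate_add_apply, hm', iterate_zero]
    rw [h1, h2, add_zero]
  | smul a x _ hx =>
    obtain ⟨m, hm⟩ := hx
    exact ⟨m, by rw [iterate_smul, hm, smul_zero]⟩

omit [IsAlgClosed k] in
lemma disjoint_fixed_nil (F : V →ₛₗ[frobenius k p] V) :
    Disjoint (Submodule.span k {v : V | F v = v})
      (Submodule.span k {v : V | ∃ m : ℕ, (⇑F)^[m] v = 0}) := by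
  classical
  rw [Submodule.disjoint_def]
  intro x hx1 hx2
  obtain ⟨m, hm⟩ := nil_of_mem_span F x hx2
  obtain ⟨b, hbsub, hbspan, hbli⟩ := exists_linearIndependent k {v : V | F v = v}
  rw [← hbspan] at hx1
  obtain ⟨l, rfl⟩ := (Finsupp.mem_span_iff_linearCombination k b x).mp hx1
  rw [Finsupp.linearCombination_apply, Finsupp.sum, iterate_sum] at hm
  have hfix : ∀ v : b, (⇑F)^[m] (v : V) = v := fun v => Function.iterate_fixed (hbsub v.2) m
  set l' : b →₀ k := l.mapRange (fun a => a ^ p ^ m) (zero_pow (pow_ne_zero m hp.out.ne_zero))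
    with hl'
  have hlc : Finsupp.linearCombination k (Subtype.val : b → V) l' = 0 := by
    rw [Finsupp.linearCombination_apply, hl',
      Finsupp.sum_mapRange_index (h := fun (i : b) (a : k) => a • (i : V)) (fun _ => zero_smul _ _)]
    rw [Finsupp.sum, ← hm]
    refine Finset.sum_congr rfl fun v _ => ?_
    rw [iterate_smul, hfix]
  have hl0 : l' = 0 := linearIndependent_iff.mp hbli l' hlc
  have : l = 0 := by
    ext v
    have := DFunLike.congr_fun hl0 v
    rw [hl', Finsupp.mapRange_apply, Finsupp.zero_apply] at this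
    exact pow_eq_zero_iff (pow_ne_zero m hp.out.ne_zero) |>.mp this
  rw [this, map_zero]

open Classical in
omit [IsAlgClosed k] in
lemma indep_aux (F : V →ₛₗ[frobenius k p] V) (s : Finset V) (hfix : ∀ v ∈ s, F v = v)
    (hZ : ∀ c : s → ℤ, (∑ v : s, c v • (v : V)) = 0 → ∀ v : s, (p : ℤ) ∣ c v) :
    ∀ (n : ℕ) (g : s → k), (∑ v : s, g v • (v : V)) = 0 →
      (Finset.univ.filter (fun v => g v ≠ 0)).card = n → ∀ v, g v = 0 := by
  classical
  intro n
  induction n using Nat.strong_induction_on with
  | _ n ih =>
    intro g hg hcard v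
    by_contra hv0
    -- normalize
    obtain ⟨v0, hv0⟩ : ∃ v0, g v0 ≠ 0 := ⟨v, hv0⟩
    set g' : s → k := fun v => g v / g v0 with hg'
    have hg'rel : (∑ v : s, g' v • (v : V)) = 0 := by
      have : (∑ v : s, g' v • (v : V)) = (g v0)⁻¹ • ∑ v : s, g v • (v : V) := by
        rw [Finset.smul_sum]
        refine Finset.sum_congr rfl fun v _ => ?_
        show (g v / g v0) • (v : V) = (g v0)⁻¹ • g v • (v : V)
        rw [smul_smul, div_eq_inv_mul]
      rw [this, hg, smul_zero]
    have hg'v0 : g' v0 = 1 := div_self hv0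
    -- apply F
    have hFrel : (∑ v : s, (g' v) ^ p • (v : V)) = 0 := by
      have := congrArg F hg'rel
      rw [map_sum, map_zero] at this
      rw [← this]
      refine Finset.sum_congr rfl fun v _ => ?_
      rw [map_smulₛₗ, frobenius_def, hfix v v.2]
    set h : s → k := fun v => (g' v) ^ p - g' v with hh
    have hhrel : (∑ v : s, h v • (v : V)) = 0 := by
      simp only [hh, sub_smul, Finset.sum_sub_distrib, hFrel, hg'rel, sub_zero]
    have hsub : Finset.univ.filter (fun v => h v ≠ 0) ⊂ Finset.univ.filter (fun v => g v ≠ 0) := by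
      rw [Finset.ssubset_iff_of_subset]
      · refine ⟨v0, by simpa using hv0, ?_⟩
        simp [hh, hg'v0]
      · intro v hv
        simp only [Finset.mem_filter, Finset.mem_univ, true_and] at hv ⊢
        intro hgv
        apply hv
        simp [hh, hg', hgv, zero_pow hp.out.ne_zero]
    have hh0 : ∀ v, h v = 0 :=
      ih _ (hcard ▸ Finset.card_lt_card hsub) h hhrel rfl
    -- g' v in prime field
    have hint : ∀ v : s, ∃ c : ℤ, (c : k) = g' v := by
      intro v
      have : g' v ^ p = g' v := sub_eq_zero.mp (hh0 v)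
      exact (mem_bot_iff_intCast p k).mp ((Subfield.mem_bot_iff_pow_eq_self k p).mpr this)
    choose c hc using hint
    have hcrel : (∑ v : s, c v • (v : V)) = 0 := by
      rw [← hg'rel]
      refine Finset.sum_congr rfl fun v _ => ?_
      rw [← hc v, Int.cast_smul_eq_zsmul]
    have hdiv := hZ c hcrel v0
    have : (c v0 : k) = 0 := (CharP.intCast_eq_zero_iff k p _).mpr hdiv
    rw [hc v0, hg'v0] at this
    exact one_ne_zero this

theorem main_aux [FiniteDimensional k V]
    (F : V →+ V) (hF : ∀ (a : k) (v : V), F (a • v) = a ^ p • F v) :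
    IsCompl (Submodule.span k {v : V | F v = v})
        (Submodule.span k {v : V | ∃ m : ℕ, (⇑F)^[m] v = 0}) ∧
      ∀ (s : Finset V), (∀ v ∈ s, F v = v) →
        (∀ c : s → ℤ, (∑ v : s, c v • (v : V)) = 0 → ∀ v : s, (p : ℤ) ∣ c v) →
          LinearIndependent k (fun v : s => (v : V)) := by
  let Fs : V →ₛₗ[frobenius k p] V :=
    { toFun := F
      map_add' := F.map_add
      map_smul' := fun a v => by simpa [frobenius_def] using hF a v }
  have hFs : ∀ v, Fs v = F v := fun _ => rfl
  have hFsfun : (⇑Fs : V → V) = ⇑F := rfl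
  refine ⟨⟨?_, ?_⟩, ?_⟩
  · have := disjoint_fixed_nil Fs
    simpa only [hFs, hFsfun] using this
  · rw [codisjoint_iff]
    have := span_sup_eq_top (Module.finrank k V) V Fs rfl
    simpa only [hFs, hFsfun] using this
  · intro s hfix hZ
    rw [Fintype.linearIndependent_iff]
    intro g hg
    exact indep_aux Fs s hfix hZ _ g hg rfl

end Final

end Helpers

/-- Over an algebraically closed field: let k be an algebraically closed field of characteristic p > 0,
V a finite-dimensional k-vector space and F : V -> V a p-linear endomorphism (additive with F(a·v) =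
a^p·F(v)). Let V^F be the set of vectors fixed by F (an F_p-subspace), V_0 the k-span of V^F and V_n
the k-span of the vectors killed by some iterate of F (these already form an F-stable subspace on
which F is nilpotent). Then V = V_0 ⊕ V_n, and V^F ⊗ k -> V_0 is bijective in the sense that any
finitely many F-fixed vectors linearly independent over Z/p (every vanishing integer combination has
all coefficients divisible by p) are linearly independent over k. (The published statement asserts
this decomposition, with V^F ⊗ k ≅ V_0, for every PERFECT field k; that is false when k is not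
separably closed — for k = Z/3, V = k and F = multiplication by 2 there are no nonzero fixed vectors
although F is bijective — and the decomposition is stated here over an algebraically closed field,
the case in which it holds.) -/
theorem result (p : ℕ) [Fact p.Prime] (k : Type u) [Field k]
    [IsAlgClosed k] [CharP k p] (V : Type u) [AddCommGroup V] [Module k V] [FiniteDimensional k V]
    (F : V →+ V) (hF : ∀ (a : k) (v : V), F (a • v) = a ^ p • F v) :
    IsCompl (Submodule.span k {v : V | F v = v})
        (Submodule.span k {v : V | ∃ m : ℕ, (⇑F)^[m] v = 0}) ∧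
      ∀ (s : Finset V), (∀ v ∈ s, F v = v) →
        (∀ c : s → ℤ, (∑ v : s, c v • (v : V)) = 0 → ∀ v : s, (p : ℤ) ∣ c v) →
          LinearIndependent k (fun v : s => (v : V)) := by
  exact main_aux F hF

end Groth.Agent.S8604
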