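import Groth.Statements.S8607
import Mathlib.AlgebraicGeometry.Morphisms.Separated

set_option autoImplicit false
universe u
open CategoryTheory CategoryTheory.Limits AlgebraicGeometry Opposite
open DEt

namespace Groth.Agent.S8607

/-- The equalizing half of 'the category of compactifications of f is cofiltering': let f : X -> Y be a
morphism of quasi-compact quasi-separated schemes, (Xbar_1, j_1, fbar_1) and (Xbar_2, j_2, fbar_2)
two compactifications of f, and r, s : Xbar_1 -> Xbar_2 two morphisms of compactifications (r ∘ j_1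
= j_2 = s ∘ j_1 and fbar_2 ∘ r = fbar_1 = fbar_2 ∘ s). Then there are a compactification (Xbar, j,
fbar) of f and a proper morphism t : Xbar -> Xbar_1 of compactifications (t ∘ j = j_1, fbar_1 ∘ t =
fbar) with r ∘ t = s ∘ t. -/
theorem result {X Y : Scheme.{u}} [CompactSpace ↥X] [QuasiSeparatedSpace ↥X]
    [CompactSpace ↥Y] [QuasiSeparatedSpace ↥Y] {f : X ⟶ Y} (c₁ c₂ : DEt.Compactification f)
    (r s : c₁.Xbar ⟶ c₂.Xbar) (hr : c₁.j ≫ r = c₂.j) (hs : c₁.j ≫ s = c₂.j)
    (hr' : r ≫ c₂.fbar = c₁.fbar) (hs' : s ≫ c₂.fbar = c₁.fbar) :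
    ∃ (c : DEt.Compactification f) (t : c.Xbar ⟶ c₁.Xbar), IsProper t ∧ c.j ≫ t = c₁.j ∧ t ≫ c₁.fbar = c.fbar ∧
      t ≫ r = t ≫ s := by
  let X' : Over Y := Over.mk c₁.fbar
  let Y' : Over Y := Over.mk c₂.fbar
  let r' : X' ⟶ Y' := Over.homMk r hr'
  let s' : X' ⟶ Y' := Over.homMk s hs'
  let U' : Over Y := Over.mk f
  let j' : U' ⟶ X' := Over.homMk c₁.j c₁.fac
  have hj' : j' ≫ r' = j' ≫ s' := by
    ext
    simp [j', r', s', hr, hs]
  have : IsSeparated Y'.hom := by
    dsimp [Y']
    infer_instance
  let t := (equalizer.ι r' s').left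
  have ht : IsClosedImmersion t := isClosedImmersion_equalizer_ι_left r' s'
  let l := equalizer.lift j' hj'
  have hl : l.left ≫ t = c₁.j := by
    have := congrArg CommaMorphism.left (equalizer.lift_ι j' hj')
    exact this
  have hopen : IsOpenImmersion l.left := by
    have h1 : IsOpenImmersion (l.left ≫ t) := by rw [hl]; infer_instance
    exact MorphismProperty.of_postcomp (W := @IsOpenImmersion)
      (W' := MorphismProperty.monomorphisms Scheme) l.left t (inferInstanceAs (Mono t)) h1
  have hfb : t ≫ c₁.fbar = (equalizer r' s').hom := Over.w (equalizer.ι r' s')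
  refine ⟨{ Xbar := (equalizer r' s').left
            j := l.left
            fbar := (equalizer r' s').hom
            isOpenImmersion := hopen
            isProper := by rw [← hfb]; infer_instance
            fac := Over.w l }, t, inferInstance, hl, hfb, ?_⟩
  have := congrArg CommaMorphism.left (equalizer.condition r' s')
  exact this

end Groth.Agent.S8607
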