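import Groth.Statements.S8611
import Groth.Agent.Lib.DeltaFAb

set_option autoImplicit false
universe w v u
open CategoryTheory CategoryTheory.Limits
open SGA4h

namespace Groth.Agent.S8611

section helpers

open Groth.Agent.Lib.DeltaFAb

variable {C : Type u} [Category.{v} C] [Abelian C]
  {T T' : DeltaF.CohDeltaFunctor C AddCommGrpCat.{w} ℕ}

lemma iso_iff_bij {X Y : AddCommGrpCat.{w}} (f : X ⟶ Y) : IsIso f ↔ Function.Bijective f :=
  ConcreteCategory.isIso_iff_bijective f

lemma of_ii (hT0 : T.ZeroMono) (hT'0 : T'.ZeroMono)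
    (hT : ∀ (q : ℕ) (A : C) (α : (T.F (q + 1)).obj A),
      ∃ (M : C) (u : A ⟶ M), Mono u ∧ (T.F (q + 1)).map u α = 0)
    (φ : T ⟶ T') (E : ObjectProperty C)
    (hE : ∀ A : C, ∃ (M : C) (i : A ⟶ M), Mono i ∧ E M)
    (h0 : ∀ M : C, E M → Function.Bijective ((φ.app 0).app M))
    (hs : ∀ (q : ℕ) (M : C), E M → Function.Surjective ((φ.app (q + 1)).app M)) :
    ∀ (q : ℕ) (A : C), Function.Bijective ((φ.app q).app A) := by
  intro q
  induction q with
  | zero =>
    have hinj : ∀ A : C, Function.Injective ((φ.app 0).app A) := by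
      intro A
      obtain ⟨M, i, hi, hM⟩ := hE A
      exact zero_inj φ hT0 i (h0 M hM).1
    intro A
    refine ⟨hinj A, ?_⟩
    obtain ⟨M, i, hi, hM⟩ := hE A
    exact zero_surj φ hT'0 i (h0 M hM).2 (hinj _)
  | succ q ih =>
    have hinj : ∀ A : C, Function.Injective ((φ.app (q + 1)).app A) :=
      inj_step φ q (hT q) ih
    intro A
    refine ⟨hinj A, ?_⟩
    obtain ⟨M, i, hi, hM⟩ := hE A
    exact surj_step_four φ q i (ih _).2 (hs q M hM) (hinj _)

lemma of_iii
    (hT : ∀ (q : ℕ) (A : C) (α : (T.F (q + 1)).obj A),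
      ∃ (M : C) (u : A ⟶ M), Mono u ∧ (T.F (q + 1)).map u α = 0)
    (φ : T ⟶ T')
    (h0 : ∀ A : C, Function.Bijective ((φ.app 0).app A))
    (hT' : ∀ (q : ℕ) (A : C) (α : (T'.F (q + 1)).obj A),
      ∃ (M : C) (u : A ⟶ M), Mono u ∧ (T'.F (q + 1)).map u α = 0) :
    ∀ (q : ℕ) (A : C), Function.Bijective ((φ.app q).app A) := by
  intro q
  induction q with
  | zero => exact h0
  | succ q ih =>
    intro A
    exact ⟨inj_step φ q (hT q) ih A, surj_step_eff φ q (hT' q) (fun B => (ih B).2) A⟩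

end helpers

/-- Let C be an abelian category, T and T' cohomological delta-functors on C in degrees ≥ 0 with values
in abelian groups, both left exact in degree 0, with T effaceable in every degree q > 0 (every
element of T^q(A) is killed by T^q(u) for some monomorphism u : A → M, depending on the element),
and φ : T → T' a morphism of delta-functors. Let E be a class of objects such that every object
admits a monomorphism into a member of E. Then the following are equivalent: (i) φ^q(A) is bijective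
for all q and all A; (ii) φ^0(M) is bijective and φ^q(M) is surjective for q > 0, for all M in E;
(iii) φ^0(A) is bijective for all A and T' is effaceable in every degree > 0 (in the same
element-wise sense). Stated as (i) ⇔ (ii) together with (i) ⇔ (iii). -/
theorem result {C : Type u} [Category.{v} C] [Abelian C]
    (T T' : DeltaF.CohDeltaFunctor C AddCommGrpCat.{w} ℕ) (hT0 : T.ZeroMono) (hT'0 : T'.ZeroMono)
    (hT : ∀ (q : ℕ) (A : C) (α : (T.F (q + 1)).obj A),
      ∃ (M : C) (u : A ⟶ M), Mono u ∧ (T.F (q + 1)).map u α = 0)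
    (φ : T ⟶ T') (E : ObjectProperty C)
    (hE : ∀ A : C, ∃ (M : C) (i : A ⟶ M), Mono i ∧ E M) :
    ((∀ (q : ℕ) (A : C), IsIso ((φ.app q).app A)) ↔
      ((∀ M : C, E M → IsIso ((φ.app 0).app M)) ∧
        ∀ (q : ℕ) (M : C), E M → Epi ((φ.app (q + 1)).app M))) ∧
    ((∀ (q : ℕ) (A : C), IsIso ((φ.app q).app A)) ↔
      ((∀ A : C, IsIso ((φ.app 0).app A)) ∧
        ∀ (q : ℕ) (A : C) (α : (T'.F (q + 1)).obj A),
          ∃ (M : C) (u : A ⟶ M), Mono u ∧ (T'.F (q + 1)).map u α = 0)) := by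
  refine ⟨⟨fun h => ⟨fun M _ => h 0 M, fun q M _ => inferInstance⟩, ?_⟩,
    ⟨fun h => ⟨fun A => h 0 A, ?_⟩, ?_⟩⟩
  · rintro ⟨h0, hs⟩ q A
    rw [iso_iff_bij]
    exact of_ii hT0 hT'0 hT φ E hE (fun M hM => (iso_iff_bij _).1 (h0 M hM))
      (fun q M hM => (AddCommGrpCat.epi_iff_surjective _).1 (hs q M hM)) q A
  · intro q A α'
    have hb := (iso_iff_bij _).1 (h (q + 1) A)
    obtain ⟨α, rfl⟩ := hb.2 α'
    obtain ⟨M, u, hu, h0⟩ := hT q A α
    refine ⟨M, u, hu, ?_⟩
    rw [← Groth.Agent.Lib.DeltaFAb.φ_nat, h0, map_zero]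
  · rintro ⟨h0, hT'⟩ q A
    rw [iso_iff_bij]
    exact of_iii hT φ (fun A => (iso_iff_bij _).1 (h0 A)) hT' q A

end Groth.Agent.S8611
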