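import Groth.Statements.S8612
import Groth.Agent.Lib.DeltaFAb
import Groth.Agent.Lib.FiltColimAb

set_option autoImplicit false
universe w v u
open CategoryTheory CategoryTheory.Limits
open SGA4h

namespace Groth.Agent.S8612

section helpers

open Groth.Agent.Lib.DeltaFAb Groth.Agent.Lib.FiltColimAb

variable {C : Type u} [Category.{v} C] [Abelian C]
  {T T' : DeltaF.CohDeltaFunctor C AddCommGrpCat.{w} ℕ} (φ : T ⟶ T')

lemma colim_inj (q : ℕ) [PreservesFilteredColimitsOfSize.{v, v} (T.F q)]
    [PreservesFilteredColimitsOfSize.{v, v} (T'.F q)]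
    {J : Type v} [SmallCategory J] [IsFiltered J] {K : J ⥤ C} {c : Cocone K} (hc : IsColimit c)
    (h : ∀ j, Function.Injective ((φ.app q).app (K.obj j))) :
    Function.Injective ((φ.app q).app c.pt) := by
  rw [injective_iff_map_eq_zero]
  intro x hx
  have hcT := isColimitOfPreserves (T.F q) hc
  have hcT' := isColimitOfPreserves (T'.F q) hc
  obtain ⟨j, y, rfl⟩ := exists_rep hcT x
  have h1 : ((T'.F q).mapCocone c).ι.app j ((φ.app q).app (K.obj j) y) = 0 := by
    rw [← hx]
    exact (φ_nat φ q (c.ι.app j) y).symm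
  obtain ⟨k, f, hf⟩ := exists_map_eq_zero hcT' j _ h1
  have h2 : (T.F q).map (K.map f) y = 0 := by
    apply h k
    rw [map_zero, φ_nat]
    exact hf
  have h3 : c.ι.app j = K.map f ≫ c.ι.app k := (c.w f).symm
  change (T.F q).map (c.ι.app j) y = 0
  rw [h3, Functor.map_comp, ConcreteCategory.comp_apply, h2, map_zero]

lemma colim_surj (q : ℕ)
    [PreservesFilteredColimitsOfSize.{v, v} (T'.F q)]
    {J : Type v} [SmallCategory J] [IsFiltered J] {K : J ⥤ C} {c : Cocone K} (hc : IsColimit c)
    (h : ∀ j, Function.Surjective ((φ.app q).app (K.obj j))) :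
    Function.Surjective ((φ.app q).app c.pt) := by
  intro x'
  have hcT' := isColimitOfPreserves (T'.F q) hc
  obtain ⟨j, y', rfl⟩ := exists_rep hcT' x'
  obtain ⟨y, rfl⟩ := h j y'
  exact ⟨(T.F q).map (c.ι.app j) y, φ_nat φ q (c.ι.app j) y⟩


omit [Abelian C] in
lemma map_hom_inv (F : C ⥤ AddCommGrpCat.{w}) {X Y : C} (e : X ≅ Y) (a : F.obj Y) :
    F.map e.hom (F.map e.inv a) = a := by
  rw [← ConcreteCategory.comp_apply, ← Functor.map_comp, e.inv_hom_id, CategoryTheory.Functor.map_id]
  rfl

lemma inj_of_iso (q : ℕ) {X Y : C} (e : X ≅ Y) (h : Function.Injective ((φ.app q).app X)) :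
    Function.Injective ((φ.app q).app Y) := by
  intro a b hab
  have h1 : (T.F q).map e.inv a = (T.F q).map e.inv b := h (by rw [φ_nat, φ_nat, hab])
  have h2 := congrArg ((T.F q).map e.hom) h1
  rwa [map_hom_inv, map_hom_inv] at h2

lemma surj_of_iso (q : ℕ) {X Y : C} (e : X ≅ Y) (h : Function.Surjective ((φ.app q).app X)) :
    Function.Surjective ((φ.app q).app Y) := by
  intro y'
  obtain ⟨x, hx⟩ := h ((T'.F q).map e.inv y')
  refine ⟨(T.F q).map e.hom x, ?_⟩
  rw [φ_nat, hx, map_hom_inv]

theorem main [HasFilteredColimitsOfSize.{v, v} C]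
    (hT0 : T.ZeroMono) (hT'0 : T'.ZeroMono)
    [∀ n, PreservesFilteredColimitsOfSize.{v, v} (T.F n)]
    [∀ n, PreservesFilteredColimitsOfSize.{v, v} (T'.F n)]
    (D E : ObjectProperty C)
    (hD : ∀ A : C, ∃ (J : Type v) (_ : SmallCategory J) (_ : IsFiltered J) (K : J ⥤ C) (c : Cocone K)
      (_ : IsColimit c), (∀ j, D (K.obj j)) ∧ Nonempty (c.pt ≅ A))
    (hE : ∀ A : C, D A → ∃ (M : C) (i : A ⟶ M), Mono i ∧ E M)
    (hME : ∀ (q : ℕ) (M : C), E M → Function.Bijective ((φ.app q).app M)) :
    ∀ (q : ℕ) (A : C), Function.Bijective ((φ.app q).app A) := by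
  have injAll : ∀ q, (∀ A, D A → Function.Injective ((φ.app q).app A)) →
      ∀ A, Function.Injective ((φ.app q).app A) := by
    intro q h A
    obtain ⟨J, _, _, K, c, hc, hK, ⟨e⟩⟩ := hD A
    exact inj_of_iso φ q e (colim_inj φ q hc (fun j => h _ (hK j)))
  have surjAll : ∀ q, (∀ A, D A → Function.Surjective ((φ.app q).app A)) →
      ∀ A, Function.Surjective ((φ.app q).app A) := by
    intro q h A
    obtain ⟨J, _, _, K, c, hc, hK, ⟨e⟩⟩ := hD A
    exact surj_of_iso φ q e (colim_surj φ q hc (fun j => h _ (hK j)))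
  intro q
  induction q with
  | zero =>
    have hinj : ∀ A, Function.Injective ((φ.app 0).app A) := by
      apply injAll
      intro A hA
      obtain ⟨M, i, hi, hM⟩ := hE A hA
      exact zero_inj φ hT0 i (hME 0 M hM).1
    have hsurj : ∀ A, Function.Surjective ((φ.app 0).app A) := by
      apply surjAll
      intro A hA
      obtain ⟨M, i, hi, hM⟩ := hE A hA
      exact zero_surj φ hT'0 i (hME 0 M hM).2 (hinj _)
    exact fun A => ⟨hinj A, hsurj A⟩
  | succ q ih =>
    have hinj : ∀ A, Function.Injective ((φ.app (q + 1)).app A) := by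
      apply injAll
      intro A hA
      obtain ⟨M, i, hi, hM⟩ := hE A hA
      exact inj_step_four φ q i (ih M).2 (ih _).1 (hME (q + 1) M hM).1
    have hsurj : ∀ A, Function.Surjective ((φ.app (q + 1)).app A) := by
      apply surjAll
      intro A hA
      obtain ⟨M, i, hi, hM⟩ := hE A hA
      exact surj_step_four φ q i (ih _).2 (hME (q + 1) M hM).2 (hinj _)
    exact fun A => ⟨hinj A, hsurj A⟩


end helpers


/-- Let C be an abelian category with filtered colimits, T and T' cohomological delta-functors on C in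
degrees ≥ 0 with values in abelian groups, both left exact in degree 0 and commuting with filtered
colimits in every degree, and φ : T → T' a morphism of delta-functors. Let D and E be classes of
objects such that (a) every object of C is a filtered colimit of objects of D and (b) every object
of D admits a monomorphism into a member of E. Then φ^q(A) is bijective for all q and all A if and
only if φ^q(M) is bijective for all q and all M in E. -/
theorem result {C : Type u} [Category.{v} C] [Abelian C]
    [HasFilteredColimitsOfSize.{v, v} C]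
    (T T' : DeltaF.CohDeltaFunctor C AddCommGrpCat.{w} ℕ) (hT0 : T.ZeroMono) (hT'0 : T'.ZeroMono)
    [∀ n, PreservesFilteredColimitsOfSize.{v, v} (T.F n)] [∀ n, PreservesFilteredColimitsOfSize.{v, v} (T'.F n)]
    (φ : T ⟶ T') (D E : ObjectProperty C)
    (hD : ∀ A : C, ∃ (J : Type v) (_ : SmallCategory J) (_ : IsFiltered J) (K : J ⥤ C) (c : Cocone K)
      (_ : IsColimit c), (∀ j, D (K.obj j)) ∧ Nonempty (c.pt ≅ A))
    (hE : ∀ A : C, D A → ∃ (M : C) (i : A ⟶ M), Mono i ∧ E M) :
    (∀ (q : ℕ) (A : C), IsIso ((φ.app q).app A)) ↔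
      ∀ (q : ℕ) (M : C), E M → IsIso ((φ.app q).app M) := by
  constructor
  · intro h q M _
    exact h q M
  · intro h q A
    rw [ConcreteCategory.isIso_iff_bijective]
    exact main φ hT0 hT'0 D E hD hE
      (fun q M hM => (ConcreteCategory.isIso_iff_bijective _).1 (h q M hM)) q A

end Groth.Agent.S8612
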