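import Groth.Statements.S8625
import Mathlib.Tactic.Group

set_option autoImplicit false
universe u
open SGA4h

namespace Groth.Agent.S8625

section helpers

variable {G : Type u} [Group G] (F : G →* G)

lemma part_i (g : G) (h : F (F g * g⁻¹) = F g * g⁻¹) : F (g⁻¹ * F g) = g⁻¹ * F g := by
  simp only [map_mul, map_inv] at h ⊢
  have h2 : F (F g) = F g * g⁻¹ * F g := by
    rw [← h]; group
  rw [h2]; group

lemma part_i' (g : G) (h : F (g⁻¹ * F g) = g⁻¹ * F g) : F (F g * g⁻¹) = F g * g⁻¹ := by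
  simp only [map_mul, map_inv] at h ⊢
  have h2 : F (F g) = F g * g⁻¹ * F g := by
    have : F (F g) = F g * ((F g)⁻¹ * F (F g)) := by group
    rw [this, h]; group
  rw [h2]; group

/-- the fixed subgroup -/
abbrev H : Subgroup G := F.eqLocus (MonoidHom.id G)

lemma mem_H (x : G) : x ∈ H F ↔ F x = x := Iff.rfl

lemma conj_AB (g g' : G) (h : F (F g * g⁻¹) = F g * g⁻¹) (h' : F (F g' * g'⁻¹) = F g' * g'⁻¹)
    (k : F (g⁻¹ * F g) = g⁻¹ * F g) (k' : F (g'⁻¹ * F g') = g'⁻¹ * F g') :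
    IsConj (⟨F g * g⁻¹, h⟩ : H F) ⟨F g' * g'⁻¹, h'⟩ ↔
      IsConj (⟨g⁻¹ * F g, k⟩ : H F) ⟨g'⁻¹ * F g', k'⟩ := by
  rw [isConj_iff, isConj_iff]
  constructor
  · rintro ⟨⟨c, hc⟩, hcc⟩
    have hc' : F c = c := hc
    have e : c * (F g * g⁻¹) * c⁻¹ = F g' * g'⁻¹ := congrArg Subtype.val hcc
    have e2 : F g' = c * F g * g⁻¹ * c⁻¹ * g' := by
      have : F g' = (F g' * g'⁻¹) * g' := by group
      rw [this, ← e]; group
    -- d = g'⁻¹ c g ; conjugating element d : d * L' g * d⁻¹ = L' g'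
    have hd : F (g'⁻¹ * c * g) = g'⁻¹ * c * g := by
      simp only [map_mul, map_inv, hc', e2]; group
    refine ⟨⟨g'⁻¹ * c * g, hd⟩, ?_⟩
    apply Subtype.ext
    change g'⁻¹ * c * g * (g⁻¹ * F g) * (g'⁻¹ * c * g)⁻¹ = g'⁻¹ * F g'
    rw [e2]; group
  · rintro ⟨⟨d, hd⟩, hdd⟩
    have hd' : F d = d := hd
    have e : d * (g⁻¹ * F g) * d⁻¹ = g'⁻¹ * F g' := congrArg Subtype.val hdd
    have e2 : F g' = g' * d * g⁻¹ * F g * d⁻¹ := by
      have : F g' = g' * (g'⁻¹ * F g') := by group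
      rw [this, ← e]; group
    have hc : F (g' * d * g⁻¹) = g' * d * g⁻¹ := by
      simp only [map_mul, map_inv, hd', e2]; group
    refine ⟨⟨g' * d * g⁻¹, hc⟩, ?_⟩
    apply Subtype.ext
    change g' * d * g⁻¹ * (F g * g⁻¹) * (g' * d * g⁻¹)⁻¹ = F g' * g'⁻¹
    rw [e2]; group


variable (hL : Function.Surjective fun g : G => F g * g⁻¹)

/-- a chosen Lang preimage -/
noncomputable def pre (a : G) : G := Classical.choose (hL a)

lemma pre_spec (a : G) : F (pre F hL a) * (pre F hL a)⁻¹ = a := Classical.choose_spec (hL a)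

lemma pre_fix (a : H F) :
    F (F (pre F hL a.1) * (pre F hL a.1)⁻¹) = F (pre F hL a.1) * (pre F hL a.1)⁻¹ := by
  rw [pre_spec]; exact a.2

noncomputable def ψ (a : H F) : ConjClasses (H F) :=
  ConjClasses.mk ⟨(pre F hL a.1)⁻¹ * F (pre F hL a.1), part_i F _ (pre_fix F hL a)⟩

lemma ψ_eq (a : H F) (g : G) (h : F (F g * g⁻¹) = F g * g⁻¹) (h' : F (g⁻¹ * F g) = g⁻¹ * F g)
    (hg : IsConj a ⟨F g * g⁻¹, h⟩) :
    ψ F hL a = ConjClasses.mk ⟨g⁻¹ * F g, h'⟩ := by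
  unfold ψ
  rw [ConjClasses.mk_eq_mk_iff_isConj]
  rw [← conj_AB F _ _ (pre_fix F hL a) h]
  have : (⟨F (pre F hL a.1) * (pre F hL a.1)⁻¹, pre_fix F hL a⟩ : H F) = a :=
    Subtype.ext (pre_spec F hL a.1)
  rw [this]
  exact hg

noncomputable def φ : ConjClasses (H F) → ConjClasses (H F) :=
  Quotient.lift (ψ F hL) (by
    intro a b hab
    have hab' : IsConj a b := hab
    refine ψ_eq F hL a (pre F hL b.1) (pre_fix F hL b) _ ?_
    have : (⟨F (pre F hL b.1) * (pre F hL b.1)⁻¹, pre_fix F hL b⟩ : H F) = b :=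
      Subtype.ext (pre_spec F hL b.1)
    rw [this]
    exact hab')

lemma φ_mk (a : H F) : φ F hL (ConjClasses.mk a) = ψ F hL a := rfl

include hL in
theorem main :
    (∀ g : G, F (F g * g⁻¹) = F g * g⁻¹ → F (g⁻¹ * F g) = g⁻¹ * F g) ∧
    ∃ φ : ConjClasses ↥(F.eqLocus (MonoidHom.id G)) → ConjClasses ↥(F.eqLocus (MonoidHom.id G)),
      Function.Bijective φ ∧
      ∀ (g : G) (h : F (F g * g⁻¹) = F g * g⁻¹) (h' : F (g⁻¹ * F g) = g⁻¹ * F g),
        φ (ConjClasses.mk (⟨F g * g⁻¹, h⟩ : ↥(F.eqLocus (MonoidHom.id G)))) =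
          ConjClasses.mk (⟨g⁻¹ * F g, h'⟩ : ↥(F.eqLocus (MonoidHom.id G))) := by
  refine ⟨part_i F, φ F hL, ⟨?_, ?_⟩, ?_⟩
  · -- injective
    intro A B
    induction A using Quotient.inductionOn with
    | _ a =>
    induction B using Quotient.inductionOn with
    | _ b =>
    intro hAB
    change ψ F hL a = ψ F hL b at hAB
    unfold ψ at hAB
    rw [ConjClasses.mk_eq_mk_iff_isConj] at hAB
    rw [← conj_AB F _ _ (pre_fix F hL a) (pre_fix F hL b)] at hAB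
    have ha : (⟨F (pre F hL a.1) * (pre F hL a.1)⁻¹, pre_fix F hL a⟩ : H F) = a :=
      Subtype.ext (pre_spec F hL a.1)
    have hb : (⟨F (pre F hL b.1) * (pre F hL b.1)⁻¹, pre_fix F hL b⟩ : H F) = b :=
      Subtype.ext (pre_spec F hL b.1)
    rw [ha, hb] at hAB
    exact (ConjClasses.mk_eq_mk_iff_isConj).2 hAB
  · -- surjective
    intro B
    induction B using Quotient.inductionOn with
    | _ b =>
    obtain ⟨x, hx⟩ := hL (b.1)⁻¹
    have hx' : F x * x⁻¹ = (b.1)⁻¹ := hx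
    have hb : F b.1 = b.1 := b.2
    have e1 : (x⁻¹)⁻¹ * F x⁻¹ = b.1 := by
      have : (x⁻¹)⁻¹ * F x⁻¹ = (F x * x⁻¹)⁻¹ := by simp only [map_inv]; group
      rw [this, hx', inv_inv]
    have k' : F ((x⁻¹)⁻¹ * F x⁻¹) = (x⁻¹)⁻¹ * F x⁻¹ := by rw [e1]; exact hb
    have k : F (F x⁻¹ * (x⁻¹)⁻¹) = F x⁻¹ * (x⁻¹)⁻¹ := part_i' F _ k'
    refine ⟨ConjClasses.mk ⟨F x⁻¹ * (x⁻¹)⁻¹, k⟩, ?_⟩
    rw [φ_mk, ψ_eq F hL _ x⁻¹ k k' (IsConj.refl _)]
    congr 1
    exact Subtype.ext e1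
  · intro g h h'
    rw [φ_mk]
    exact ψ_eq F hL _ g h h' (IsConj.refl _)


end helpers


/-- Let G be a group with an endomorphism F, and assume the Lang map g ↦ F(g)g⁻¹ is surjective (for
instance the geometric points of a connected algebraic group over F_q with its Frobenius, where the
surjectivity is the classical result of Lang; the other Lang map g ↦ g⁻¹F(g) is then surjective too,
by g ↦ g⁻¹). Let G^F be the subgroup of fixed points of F. (i) If F(g)g⁻¹ is fixed by F then so is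
g⁻¹F(g). (ii), (iii) There is a bijection of the set of conjugacy classes of G^F with itself
sending, for every g with F(g)g⁻¹ ∈ G^F, the class of F(g)g⁻¹ to the class of g⁻¹F(g) (in particular
the latter class depends only on the former). -/
theorem result {G : Type u} [Group G] (F : G →* G)
    (hL : Function.Surjective fun g : G => F g * g⁻¹) :
    (∀ g : G, F (F g * g⁻¹) = F g * g⁻¹ → F (g⁻¹ * F g) = g⁻¹ * F g) ∧
    ∃ φ : ConjClasses ↥(F.eqLocus (MonoidHom.id G)) → ConjClasses ↥(F.eqLocus (MonoidHom.id G)),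
      Function.Bijective φ ∧
      ∀ (g : G) (h : F (F g * g⁻¹) = F g * g⁻¹) (h' : F (g⁻¹ * F g) = g⁻¹ * F g),
        φ (ConjClasses.mk (⟨F g * g⁻¹, h⟩ : ↥(F.eqLocus (MonoidHom.id G)))) =
          ConjClasses.mk (⟨g⁻¹ * F g, h'⟩ : ↥(F.eqLocus (MonoidHom.id G))) := by
  exact main F hL

end Groth.Agent.S8625
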