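import Groth.Statements.S8630
import Mathlib
-- import your own Groth.Agent.* helpers here

set_option autoImplicit false
open Zeta

namespace Groth.Agent.S8630

open Polynomial

/-- a power series over ℤ all of whose coefficients are divisible by `p` is `p` times a power
series. -/
lemma exists_eq_C_mul (p : ℤ) (W : PowerSeries ℤ) (h : ∀ i, p ∣ PowerSeries.coeff i W) :
    ∃ W1 : PowerSeries ℤ, W = PowerSeries.C p * W1 := by
  refine ⟨PowerSeries.mk fun i => PowerSeries.coeff i W / p, ?_⟩
  ext i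
  rw [PowerSeries.coeff_C_mul, PowerSeries.coeff_mk, Int.mul_ediv_cancel' (h i)]

/-- Key: if `q ∈ ℤ[T]` is nonzero mod `p` and `q * W = m ≠ 0` (a constant) in `ℤ⟦T⟧`, then
`p ∤ q(0)`. -/
lemma key (p : ℕ) [Fact p.Prime] (q : Polynomial ℤ)
    (hq : q.map (Int.castRingHom (ZMod p)) ≠ 0) :
    ∀ (N : ℕ) (m : ℤ) (W : PowerSeries ℤ), m.natAbs = N → m ≠ 0 →
      (q : PowerSeries ℤ) * W = PowerSeries.C m → ¬ (p : ℤ) ∣ q.coeff 0 := by
  intro N
  induction N using Nat.strong_induction_on with
  | _ N ih =>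
    intro m W hN hm hqW hdiv
    -- p ∣ m
    have hpm : (p : ℤ) ∣ m := by
      have := congrArg PowerSeries.constantCoeff hqW
      rw [map_mul, constantCoeff_coe, PowerSeries.constantCoeff_C] at this
      rw [← this]
      exact Dvd.dvd.mul_right hdiv _
    obtain ⟨m1, rfl⟩ := hpm
    -- reduce mod p
    have hmod : PowerSeries.map (Int.castRingHom (ZMod p)) W = 0 := by
      have := congrArg (PowerSeries.map (Int.castRingHom (ZMod p))) hqW
      rw [map_mul, ← polynomial_map_coe, PowerSeries.map_C] at this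
      have hz : (Int.castRingHom (ZMod p)) ((p : ℤ) * m1) = 0 := by simp
      rw [hz, map_zero] at this
      rcases mul_eq_zero.1 this with h | h
      · exact absurd (coe_injective _ (by rw [h]; rfl)) hq
      · exact h
    have hdivW : ∀ i, (p : ℤ) ∣ PowerSeries.coeff i W := by
      intro i
      have := congrArg (PowerSeries.coeff i) hmod
      rw [PowerSeries.coeff_map, map_zero] at this
      exact (ZMod.intCast_zmod_eq_zero_iff_dvd _ _).1 this
    obtain ⟨W1, rfl⟩ := exists_eq_C_mul p W hdivW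
    have hp0 : (p : ℤ) ≠ 0 := by exact_mod_cast (Fact.out : p.Prime).ne_zero
    have hm1 : m1 ≠ 0 := by rintro rfl; simp at hm
    have hqW1 : (q : PowerSeries ℤ) * W1 = PowerSeries.C m1 := by
      have hC : PowerSeries.C (p : ℤ) ≠ 0 := by
        intro h
        have := congrArg PowerSeries.constantCoeff h
        simp at this
        exact (Fact.out : p.Prime).ne_zero this
      apply mul_left_cancel₀ hC
      rw [← map_mul, ← hqW]; ring
    refine ih m1.natAbs ?_ m1 W1 rfl hm1 hqW1 hdiv
    rw [← hN, Int.natAbs_mul, Int.natAbs_natCast]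
    have h1 : 0 < m1.natAbs := Int.natAbs_pos.2 hm1
    have h2 : 1 < p := (Fact.out : p.Prime).one_lt
    nlinarith

/-- every rational polynomial has a nonzero integer multiple with integer coefficients. -/
lemma exists_int_multiple (U : Polynomial ℚ) :
    ∃ (n : ℤ) (U0 : Polynomial ℤ), n ≠ 0 ∧ U0.map (Int.castRingHom ℚ) = C (n : ℚ) * U := by
  obtain ⟨b, hbM, hb⟩ := IsLocalization.integerNormalization_spec (nonZeroDivisors ℤ) U
  refine ⟨b, IsLocalization.integerNormalization (nonZeroDivisors ℤ) U,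
    nonZeroDivisors.ne_zero hbM, ?_⟩
  rw [show Int.castRingHom ℚ = algebraMap ℤ ℚ from rfl, hb]
  ext i
  simp [Polynomial.coeff_smul]


/-- Fatou's lemma: let P, Q ∈ ℚ[T] be coprime with constant coefficient 1, and suppose the power series
P/Q has integer coefficients, i.e. P = Q·Z in ℚ⟦T⟧ for a power series Z with coefficients in ℤ. Then
P and Q have integer coefficients. -/
theorem result (P Q : Polynomial ℚ)
    (hPQ : IsCoprime P Q) (hP : P.coeff 0 = 1) (hQ : Q.coeff 0 = 1) (Z : PowerSeries ℤ)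
    (hZ : (P : PowerSeries ℚ) = (Q : PowerSeries ℚ) * PowerSeries.map (Int.castRingHom ℚ) Z) :
    (∃ P₀ : Polynomial ℤ, P₀.map (Int.castRingHom ℚ) = P) ∧
      ∃ Q₀ : Polynomial ℤ, Q₀.map (Int.castRingHom ℚ) = Q := by
  obtain ⟨U, V, hUV⟩ := hPQ
  set Z' := PowerSeries.map (Int.castRingHom ℚ) Z with hZ'
  have h2 : (Q : PowerSeries ℚ) * ((U : PowerSeries ℚ) * Z' + V) = 1 := by
    have := congrArg (fun f : Polynomial ℚ => (f : PowerSeries ℚ)) hUV
    simp only [coe_add, coe_mul, coe_one] at this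
    rw [hZ] at this
    rw [← this]; ring
  obtain ⟨nU, U0, hnU, hU0⟩ := exists_int_multiple U
  obtain ⟨nV, V0, hnV, hV0⟩ := exists_int_multiple V
  obtain ⟨b0, q0, hb0, hq0⟩ := exists_int_multiple Q
  set W : PowerSeries ℤ := PowerSeries.C nV * U0 * Z + PowerSeries.C nU * V0 with hW
  have hWmap : PowerSeries.map (Int.castRingHom ℚ) W =
      PowerSeries.C ((nU * nV : ℤ) : ℚ) * ((U : PowerSeries ℚ) * Z' + V) := by
    rw [hW, map_add, map_mul, map_mul, map_mul, PowerSeries.map_C, PowerSeries.map_C,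
      ← polynomial_map_coe, ← polynomial_map_coe, hU0, hV0, coe_mul, coe_mul, coe_C, coe_C]
    push_cast
    rw [map_mul]
    simp only [eq_intCast]
    ring
  have hQ0 : Q ≠ 0 := by rintro rfl; simp at hQ
  have hq0ne : q0 ≠ 0 := by
    rintro rfl
    rw [Polynomial.map_zero] at hq0
    have hb0' : (b0 : ℚ) ≠ 0 := by exact_mod_cast hb0
    exact (mul_ne_zero (C_ne_zero.2 hb0') hQ0) hq0.symm
  set q := q0.primPart with hq
  set d := q0.content with hd
  have hd0 : d ≠ 0 := fun h => hq0ne (content_eq_zero_iff.1 h)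
  have hq0eq : q0 = C d * q := q0.eq_C_content_mul_primPart
  have h3 : (q0 : PowerSeries ℤ) * W = PowerSeries.C (b0 * (nU * nV)) := by
    apply PowerSeries.map_injective (Int.castRingHom ℚ) Int.cast_injective
    rw [map_mul, ← polynomial_map_coe, hq0, hWmap, coe_mul, coe_C, PowerSeries.map_C]
    calc _ = PowerSeries.C (b0 : ℚ) * PowerSeries.C ((nU * nV : ℤ) : ℚ) *
          ((Q : PowerSeries ℚ) * ((U : PowerSeries ℚ) * Z' + V)) := by ring
      _ = _ := by rw [h2, mul_one, ← map_mul]; simp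
  have h3' : PowerSeries.C d * ((q : PowerSeries ℤ) * W) = PowerSeries.C (b0 * (nU * nV)) := by
    rw [← h3, hq0eq, coe_mul, coe_C, mul_assoc]
  set c0 := PowerSeries.constantCoeff ((q : PowerSeries ℤ) * W) with hc0
  have hdc0 : d * c0 = b0 * (nU * nV) := by
    have := congrArg PowerSeries.constantCoeff h3'
    rwa [map_mul, PowerSeries.constantCoeff_C, PowerSeries.constantCoeff_C] at this
  have hc0ne : c0 ≠ 0 := by
    intro h
    rw [h, mul_zero] at hdc0
    exact mul_ne_zero hb0 (mul_ne_zero hnU hnV) hdc0.symm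
  have h4 : (q : PowerSeries ℤ) * W = PowerSeries.C c0 := by
    ext i
    rcases Nat.eq_zero_or_pos i with rfl | hi
    · rw [PowerSeries.coeff_zero_eq_constantCoeff_apply, PowerSeries.coeff_zero_eq_constantCoeff_apply,
        PowerSeries.constantCoeff_C]
    · have := congrArg (PowerSeries.coeff i) h3'
      rw [PowerSeries.coeff_C_mul, PowerSeries.coeff_C, if_neg hi.ne'] at this
      rw [PowerSeries.coeff_C, if_neg hi.ne']
      exact (mul_eq_zero.1 this).resolve_left hd0
  have hprime : ∀ p : ℕ, p.Prime → ¬ (p : ℤ) ∣ q.coeff 0 := by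
    intro p hp
    have := Fact.mk hp
    refine key p q ?_ _ c0 W rfl hc0ne h4
    intro hmap
    have hdvd : C (p : ℤ) ∣ q := (C_dvd_iff_dvd_coeff _ _).2 fun i => by
      have := congrArg (fun f => f.coeff i) hmap
      simp only [coeff_map, coeff_zero] at this
      exact (ZMod.intCast_zmod_eq_zero_iff_dvd _ _).1 this
    have hu : IsUnit (p : ℤ) := (isPrimitive_primPart q0) _ hdvd
    rw [Int.isUnit_iff_natAbs_eq, Int.natAbs_natCast] at hu
    exact hp.one_lt.ne' hu
  set ε := q.coeff 0 with hε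
  have hεabs : ε.natAbs = 1 := by
    by_contra h
    obtain ⟨p, hp, hpd⟩ := Nat.exists_prime_and_dvd h
    exact hprime p hp (Int.natCast_dvd.2 hpd)
  have hεε : ε * ε = 1 := by
    rcases Int.natAbs_eq ε with h | h <;> rw [h, hεabs] <;> norm_num
  have hb0eq : b0 = d * ε := by
    have := congrArg (fun f => f.coeff 0) hq0
    simp only [coeff_map, coeff_C_mul, hQ, mul_one] at this
    rw [hq0eq, coeff_C_mul, eq_intCast] at this
    exact_mod_cast this.symm
  have hd0' : (d : ℚ) ≠ 0 := by exact_mod_cast hd0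
  have hmapq : q.map (Int.castRingHom ℚ) = C (ε : ℚ) * Q := by
    have h5 : C (d : ℚ) * q.map (Int.castRingHom ℚ) = C (d : ℚ) * (C (ε : ℚ) * Q) := by
      have := hq0
      rw [hq0eq, Polynomial.map_mul, Polynomial.map_C, hb0eq] at this
      rw [eq_intCast] at this
      rw [this]; push_cast; rw [map_mul]; ring
    exact mul_left_cancel₀ (C_ne_zero.2 hd0') h5
  have hQ₀ : (C ε * q).map (Int.castRingHom ℚ) = Q := by
    rw [Polynomial.map_mul, Polynomial.map_C, hmapq, eq_intCast, ← mul_assoc, ← map_mul]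
    have : (ε : ℚ) * ε = 1 := by exact_mod_cast hεε
    rw [this, map_one, one_mul]
  refine ⟨?_, ⟨C ε * q, hQ₀⟩⟩
  have hmem : P ∈ Polynomial.lifts (Int.castRingHom ℚ) := by
    rw [lifts_iff_coeff_lifts]
    intro i
    refine ⟨PowerSeries.coeff i (((C ε * q : Polynomial ℤ) : PowerSeries ℤ) * Z), ?_⟩
    rw [← PowerSeries.coeff_map, map_mul, ← polynomial_map_coe, hQ₀, ← hZ, coeff_coe]
  obtain ⟨P₀, hP₀⟩ := hmem
  exact ⟨P₀, hP₀⟩

end Groth.Agent.S8630
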