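import Groth.Statements.S8637
import Mathlib.RingTheory.PowerSeries.Basic
import Mathlib.Algebra.Order.BigOperators.Group.Finset
import Mathlib.Tactic.Linarith

set_option autoImplicit false
open Zeta

namespace Groth.Agent.S8637

/-- A finite product of power series with nonnegative coefficients and constant term one has
nonnegative coefficients and constant term one. -/
theorem prod_props {ι : Type} (s : Finset ι) (f : ι → PowerSeries ℝ)
    (h0 : ∀ i ∈ s, PowerSeries.constantCoeff (f i) = 1)
    (hpos : ∀ i ∈ s, ∀ n : ℕ, 0 ≤ PowerSeries.coeff n (f i)) :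
    PowerSeries.constantCoeff (∏ j ∈ s, f j) = 1 ∧
      ∀ n : ℕ, 0 ≤ PowerSeries.coeff n (∏ j ∈ s, f j) := by
  classical
  induction s using Finset.induction_on with
  | empty =>
    refine ⟨by simp, fun n => ?_⟩
    rw [Finset.prod_empty, PowerSeries.coeff_one]
    split_ifs <;> norm_num
  | insert a s ha ih =>
    obtain ⟨ih0, ihpos⟩ := ih (fun i hi => h0 i (Finset.mem_insert_of_mem hi))
      (fun i hi => hpos i (Finset.mem_insert_of_mem hi))
    rw [Finset.prod_insert ha]
    refine ⟨by rw [map_mul, ih0, h0 a (Finset.mem_insert_self a s), mul_one], fun n => ?_⟩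
    rw [PowerSeries.coeff_mul]
    exact Finset.sum_nonneg fun p _ =>
      mul_nonneg (hpos a (Finset.mem_insert_self a s) p.1) (ihpos p.2)

/-- First assertion, for a finite family: let (f_i) be finitely many formal power series with real
coefficients, each with constant term 1 and all coefficients ≥ 0, and let f be their product. Then
for every i and every n the n-th coefficient of f_i is at most the n-th coefficient of f (so the
radius of absolute convergence of f_i is at least that of f). (Stated for a finite family; for an
infinite product whose factors f_i - 1 have orders tending to infinity each coefficient is that of a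
finite sub-product, so the same inequality holds.) -/
theorem result {ι : Type} (s : Finset ι) (f : ι → PowerSeries ℝ)
    (h0 : ∀ i ∈ s, PowerSeries.constantCoeff (f i) = 1)
    (hpos : ∀ i ∈ s, ∀ n : ℕ, 0 ≤ PowerSeries.coeff n (f i)) (i : ι) (hi : i ∈ s) (n : ℕ) :
    PowerSeries.coeff n (f i) ≤ PowerSeries.coeff n (∏ j ∈ s, f j) := by
  classical
  obtain ⟨g0, gpos⟩ := prod_props (s.erase i) f (fun j hj => h0 j (Finset.mem_of_mem_erase hj))
    (fun j hj => hpos j (Finset.mem_of_mem_erase hj))
  rw [← Finset.mul_prod_erase s f hi, PowerSeries.coeff_mul]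
  have hmem : (n, 0) ∈ Finset.antidiagonal n := by simp
  have hterm : PowerSeries.coeff n (f i) =
      PowerSeries.coeff (n, 0).1 (f i) * PowerSeries.coeff (n, 0).2 (∏ j ∈ s.erase i, f j) := by
    rw [PowerSeries.coeff_zero_eq_constantCoeff_apply, g0, mul_one]
  rw [hterm]
  exact Finset.single_le_sum
    (f := fun p : ℕ × ℕ => PowerSeries.coeff p.1 (f i) * PowerSeries.coeff p.2 (∏ j ∈ s.erase i, f j))
    (fun p _ => mul_nonneg (hpos i hi p.1) (gpos p.2)) hmem

end Groth.Agent.S8637
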