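import Groth.Statements.S8666
import Mathlib.RingTheory.Ideal.Operations
import Mathlib.Order.Preorder.Finite

set_option autoImplicit false
universe u
open CAlg

namespace Groth.Agent.S8666

open Module in
/-- If a functional does not vanish at `s` modulo `P`, then `s` generates the localization. -/
theorem span_mk_eq_top {A : Type u} [CommRing A] {M : Type u} [AddCommGroup M] [Module A M]
    [Module.Invertible A M] (P : Ideal A) [P.IsPrime] (s : M) (g : Module.Dual A M)
    (hg : g s ∉ P) :
    Submodule.span (Localization.AtPrime P)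
      {LocalizedModule.mkLinearMap P.primeCompl M s} = ⊤ := by
  let g' : Dual (Localization.AtPrime P) (LocalizedModule P.primeCompl M) :=
    .extendScalarsOfIsLocalization P.primeCompl _ <| IsLocalizedModule.map
      P.primeCompl (LocalizedModule.mkLinearMap _ M) (Algebra.linearMap A _) g
  have hg' : g' (LocalizedModule.mkLinearMap P.primeCompl M s) =
      algebraMap A (Localization.AtPrime P) (g s) := IsLocalizedModule.map_apply ..
  have hunit : IsUnit (g' (LocalizedModule.mkLinearMap P.primeCompl M s)) := by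
    rw [hg']
    exact IsLocalization.map_units (Localization.AtPrime P) (⟨g s, hg⟩ : P.primeCompl)
  have surj : Function.Surjective g' := LinearMap.range_eq_top.mp <|
    Ideal.eq_top_of_isUnit_mem _ ⟨_, rfl⟩ hunit
  have bij : Function.Bijective g' := Module.Invertible.bijective_of_surjective surj
  rw [eq_top_iff]
  intro x _
  rw [Submodule.mem_span_singleton]
  obtain ⟨u, hu⟩ := hunit
  refine ⟨g' x * ↑u⁻¹, bij.1 ?_⟩
  rw [map_smul, smul_eq_mul, ← hu, mul_assoc, Units.inv_mul, mul_one]

open Module in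
/-- Prime avoidance for an invertible module. -/
theorem exists_forall_exists_dual_notMem {A : Type u} [CommRing A] {M : Type u} [AddCommGroup M]
    [Module A M] [Module.Invertible A M] (T : Finset (Ideal A)) (hT : ∀ q ∈ T, q.IsPrime) :
    ∃ s : M, ∀ q ∈ T, ∃ g : Module.Dual A M, g s ∉ q := by
  classical
  obtain ⟨S, hS⟩ := ((Module.Invertible.linearEquiv A M).symm 1).exists_finset
  replace hS : 1 = ∑ i ∈ S, i.1 i.2 := by
    simpa [LinearEquiv.symm_apply_eq, Module.Invertible.linearEquiv] using hS
  have hex : ∀ q : Ideal A, q.IsPrime → ∃ (f : Dual A M) (m : M), f m ∉ q := by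
    intro q hq
    by_contra hcon
    push Not at hcon
    exact hq.ne_top ((Ideal.eq_top_iff_one q).mpr (hS ▸ Ideal.sum_mem _ fun i _ => hcon i.1 i.2))
  -- maximal elements
  set T' := T.filter (fun q => ∀ q' ∈ T, q ≤ q' → q' ≤ q) with hT'
  have hmax : ∀ q ∈ T, ∃ q' ∈ T', q ≤ q' := by
    intro q hq
    obtain ⟨b, hqb, hb⟩ := T.exists_le_maximal hq
    exact ⟨b, Finset.mem_filter.mpr ⟨hb.1, fun q' hq' hle => hb.2 hq' hle⟩, hqb⟩
  have H : ∀ q ∈ T', ∃ (f : Dual A M) (m : M) (a : A), f m ∉ q ∧ a ∉ q ∧
      ∀ q' ∈ T', q' ≠ q → a ∈ q' := by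
    intro q hq
    have hqT : q ∈ T := (Finset.mem_filter.mp hq).1
    have hqp : q.IsPrime := hT q hqT
    obtain ⟨f, m, hfm⟩ := hex q hqp
    have hnle : ¬ (∏ q' ∈ T'.erase q, q') ≤ q := by
      rw [hqp.prod_le]
      rintro ⟨q', hq', hle⟩
      obtain ⟨hne, hq'T'⟩ := Finset.mem_erase.mp hq'
      have := (Finset.mem_filter.mp hq'T').2 q hqT hle
      exact hne (le_antisymm hle this)
    obtain ⟨a, haprod, haq⟩ := SetLike.not_le_iff_exists.mp hnle
    refine ⟨f, m, a, hfm, haq, fun q' hq' hne => ?_⟩
    exact (Ideal.prod_le_inf.trans (Finset.inf_le (Finset.mem_erase.mpr ⟨hne, hq'⟩))) haprod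
  choose! f m a hfm ha ha' using H
  refine ⟨∑ q ∈ T', a q • m q, fun q hq => ?_⟩
  obtain ⟨q', hq', hle⟩ := hmax q hq
  refine ⟨f q', fun hmem => ?_⟩
  have hmem' : f q' (∑ q ∈ T', a q • m q) ∈ q' := hle hmem
  have hq'p : q'.IsPrime := hT q' (Finset.mem_filter.mp hq').1
  rw [map_sum, ← Finset.add_sum_erase _ _ hq'] at hmem'
  have hrest : ∑ x ∈ T'.erase q', f q' (a x • m x) ∈ q' := by
    refine Ideal.sum_mem _ fun x hx => ?_
    obtain ⟨hne, hxT'⟩ := Finset.mem_erase.mp hx
    rw [map_smul, smul_eq_mul]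
    exact Ideal.mul_mem_right _ _ (ha' x hxT' q' hq' hne.symm)
  have hmain : f q' (a q' • m q') ∈ q' := (Ideal.add_mem_iff_left _ hrest).mp hmem'
  rw [map_smul, smul_eq_mul] at hmain
  rcases hq'p.mem_or_mem hmain with h | h
  · exact ha q' hq' h
  · exact hfm q' hq' h

/-- Let A be a Noetherian ring, M an invertible A-module and p_1, …, p_k finitely many primes of A
(points of Spec A). Then there is a single element s ∈ M whose image generates M_{p_i} as an
A_{p_i}-module for every i, i.e. s is a basis of the stalk of M at each of the given points. -/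
theorem result (A : Type u) [CommRing A] [IsNoetherianRing A]
    (M : Type u) [AddCommGroup M] [Module A M] [Module.Invertible A M] (ι : Type) [Finite ι] (p : ι → PrimeSpectrum A) :
    ∃ s : M, ∀ i : ι, Submodule.span (Localization.AtPrime (p i).asIdeal)
      {LocalizedModule.mkLinearMap (p i).asIdeal.primeCompl M s} = ⊤ := by
  classical
  have := Fintype.ofFinite ι
  obtain ⟨s, hs⟩ := exists_forall_exists_dual_notMem (M := M)
    (Finset.univ.image fun i => (p i).asIdeal) (by
      intro q hq
      obtain ⟨i, -, rfl⟩ := Finset.mem_image.mp hq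
      exact (p i).isPrime)
  refine ⟨s, fun i => ?_⟩
  obtain ⟨g, hg⟩ := hs (p i).asIdeal (Finset.mem_image.mpr ⟨i, Finset.mem_univ _, rfl⟩)
  exact span_mk_eq_top (p i).asIdeal s g hg

end Groth.Agent.S8666
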