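import Groth.Statements.S8678
import Mathlib.Tactic.Ring
import Mathlib.Tactic.LinearCombination

set_option autoImplicit false
universe u
open Finset
open LambdaRing

namespace Groth.Agent.S8678

/-- adding an element whose higher lambda operations vanish -/
theorem lam_succ_add {K : Type u} [CommRing K] [LambdaRing.LambdaOps K] (x y : K)
    (hy : ∀ j : ℕ, 2 ≤ j → LambdaRing.LambdaOps.lam j y = 0) (k : ℕ) :
    LambdaRing.LambdaOps.lam (k + 1) (x + y) =
      LambdaRing.LambdaOps.lam (k + 1) x + LambdaRing.LambdaOps.lam k x * y := by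
  rw [LambdaRing.LambdaOps.lam_add, Finset.sum_range_succ, Finset.sum_range_succ]
  have h0 : ∑ i ∈ range k, LambdaRing.LambdaOps.lam i x *
      LambdaRing.LambdaOps.lam (k + 1 - i) y = 0 := by
    refine Finset.sum_eq_zero fun i hi => ?_
    have : i < k := Finset.mem_range.mp hi
    rw [hy (k + 1 - i) (by omega), mul_zero]
  rw [h0, zero_add, Nat.sub_self, LambdaRing.LambdaOps.lam_zero, mul_one,
    show k + 1 - k = 1 by omega, LambdaRing.LambdaOps.lam_one]
  ring

/-- As the identity it proves in the pre-λ-ring K(Y') of the exceptional divisor: let K be a pre-λ-ring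
(λ^0 = 1, λ^1 = id, additive formula) with λ^k(1) = 0 for all k ≥ 2, let d ≥ 2, and let F, L, N' ∈ K
satisfy λ^j(L) = 0 for j ≥ 2 (L is the class of an invertible module), λ^i(N') = 0 for i ≥ d − 1 (N'
is the class of a bundle of rank d − 2) and F + L = N' + 2 (for the blowing up of a regular
immersion of codimension d: on the exceptional divisor the pulled-back conormal class is F + L, and
N = N' + 2). Then 1 − L divides λ_{−1}(F) = Σ_{i<d} (−1)^i λ^i(F). (The published proof uses only
additivity of λ_t and λ_t(1) = 1 + t, the hypotheses taken here.) -/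
theorem result (K : Type u) [CommRing K] [LambdaRing.LambdaOps K]
    (h1 : ∀ k : ℕ, 2 ≤ k → LambdaRing.LambdaOps.lam k (1 : K) = 0) (d : ℕ) (hd : 2 ≤ d) (F L N' : K)
    (hL : ∀ j : ℕ, 2 ≤ j → LambdaRing.LambdaOps.lam j L = 0) (hN' : ∀ i : ℕ, d - 1 ≤ i → LambdaRing.LambdaOps.lam i N' = 0)
    (hrel : F + L = N' + 2) :
    (1 - L) ∣ ∑ i ∈ range d, (-1 : K) ^ i * LambdaRing.LambdaOps.lam i F := by
  set a : ℕ → K := fun i => LambdaRing.LambdaOps.lam i F with ha
  set n : ℕ → K := fun i => LambdaRing.LambdaOps.lam i N' with hn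
  have ha0 : a 0 = 1 := LambdaRing.LambdaOps.lam_zero F
  have hn0 : n 0 = 1 := LambdaRing.LambdaOps.lam_zero N'
  have ha1 : a 1 = F := LambdaRing.LambdaOps.lam_one F
  have hn1 : n 1 = N' := LambdaRing.LambdaOps.lam_one N'
  have hrel' : F + L = N' + 1 + 1 := by rw [hrel]; ring
  -- the two expansions of lam (k+2)
  have hexp : ∀ k : ℕ, a (k + 2) + a (k + 1) * L = n (k + 2) + 2 * n (k + 1) + n k := by
    intro k
    have e1 := lam_succ_add F L hL (k + 1)
    have e2 := lam_succ_add (N' + 1) 1 h1 (k + 1)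
    have e3 := lam_succ_add N' 1 h1 (k + 1)
    have e4 := lam_succ_add N' 1 h1 k
    rw [hrel', e2, e3, e4] at e1
    simp only [ha, hn]
    linear_combination -e1
  -- the congruences
  have hcong : ∀ i : ℕ, (1 - L) ∣ a (i + 1) - n (i + 1) - n i := by
    intro i
    induction i with
    | zero =>
      refine ⟨1, ?_⟩
      rw [ha1, hn1, hn0]
      linear_combination hrel
    | succ i ih =>
      obtain ⟨c, hc⟩ := ih
      refine ⟨a (i + 1) - c, ?_⟩
      have := hexp i
      linear_combination this - hc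
  -- telescoping
  have htel : ∀ m : ℕ, ∑ i ∈ range m, (-1 : K) ^ (i + 1) * (n (i + 1) + n i) =
      (-1 : K) ^ m * n m - n 0 := by
    intro m
    induction m with
    | zero => simp
    | succ m ih =>
      rw [Finset.sum_range_succ, ih]
      ring
  obtain ⟨m, rfl⟩ : ∃ m, d = m + 1 := ⟨d - 1, by omega⟩
  have hnm : n m = 0 := hN' m (by omega)
  rw [Finset.sum_range_succ']
  have hsplit : ∑ i ∈ range m, (-1 : K) ^ (i + 1) * LambdaRing.LambdaOps.lam (i + 1) F =
      ∑ i ∈ range m, (-1 : K) ^ (i + 1) * (a (i + 1) - n (i + 1) - n i) +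
        ∑ i ∈ range m, (-1 : K) ^ (i + 1) * (n (i + 1) + n i) := by
    rw [← Finset.sum_add_distrib]
    refine Finset.sum_congr rfl fun i _ => ?_
    simp only [ha]
    ring
  rw [hsplit, htel, hnm, hn0, pow_zero, one_mul]
  change (1 - L) ∣ _ + ((-1 : K) ^ m * 0 - 1) + a 0
  rw [ha0]
  have : ∑ i ∈ range m, (-1 : K) ^ (i + 1) * (a (i + 1) - n (i + 1) - n i) +
      ((-1 : K) ^ m * 0 - 1) + 1 =
      ∑ i ∈ range m, (-1 : K) ^ (i + 1) * (a (i + 1) - n (i + 1) - n i) := by ring
  rw [this]
  exact Finset.dvd_sum fun i _ => Dvd.dvd.mul_left (hcong i) _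

end Groth.Agent.S8678
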