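import Groth.Statements.S8685
import Groth.Agent.Lib.SymmPoly6

set_option autoImplicit false
universe u
open LambdaRing

namespace Groth.Agent.S8685

open MvPolynomial Finset
open Groth.Agent.Lib.SymmPoly6

lemma compGen_eq (N i j : ℕ) :
    LambdaRing.compGen N i j =
      ∑ T ∈ ((Finset.univ : Finset (Fin N)).powersetCard i).powersetCard j,
        ∏ s ∈ T, ∏ a ∈ s, (X a : MvPolynomial (Fin N) ℤ) := by
  rw [LambdaRing.compGen, Finset.esymm_map_val]

lemma compGen_isHomogeneous (N i j : ℕ) : (LambdaRing.compGen N i j).IsHomogeneous (i * j) := by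
  rw [compGen_eq]
  refine IsHomogeneous.sum _ _ _ fun T hT => ?_
  rw [Finset.mem_powersetCard] at hT
  have h := IsHomogeneous.prod T (fun s => ∏ a ∈ s, (X a : MvPolynomial (Fin N) ℤ)) (fun _ => i)
    (fun s hs => by
      have hs' := Finset.mem_powersetCard.1 (hT.1 hs)
      have h2 := IsHomogeneous.prod s (fun a => (X a : MvPolynomial (Fin N) ℤ)) (fun _ => 1)
        (fun a _ => isHomogeneous_X ℤ a)
      rw [Finset.sum_const, smul_eq_mul, mul_one, hs'.2] at h2
      exact h2)
  rw [Finset.sum_const, smul_eq_mul, hT.2, mul_comm] at h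
  exact h

lemma compGen_isSymmetric (N i j : ℕ) : (LambdaRing.compGen N i j).IsSymmetric := by
  classical
  intro σ
  rw [compGen_eq]
  set P := (Finset.univ : Finset (Fin N)).powersetCard i with hP
  set e : Fin N ↪ Fin N := σ.toEmbedding with he
  set me : Finset (Fin N) ↪ Finset (Fin N) := (Finset.mapEmbedding e).toEmbedding with hme
  have hPmap : P.map me = P := by
    rw [hP, hme, ← Finset.powersetCard_map, he, Finset.map_univ_equiv]
  have h1 : ∀ T : Finset (Finset (Fin N)),
      rename σ (∏ s ∈ T, ∏ a ∈ s, (X a : MvPolynomial (Fin N) ℤ)) =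
        ∏ s ∈ T.map me, ∏ a ∈ s, (X a : MvPolynomial (Fin N) ℤ) := by
    intro T
    rw [map_prod, Finset.prod_map]
    refine Finset.prod_congr rfl fun s _ => ?_
    rw [map_prod]
    change _ = ∏ a ∈ s.map e, (X a : MvPolynomial (Fin N) ℤ)
    rw [Finset.prod_map]
    refine Finset.prod_congr rfl fun a _ => ?_
    rw [rename_X]
    rfl
  rw [map_sum]
  simp only [h1]
  have h2 := Finset.sum_map (P.powersetCard j) (Finset.mapEmbedding me).toEmbedding
    (fun T' => ∏ s ∈ T', ∏ a ∈ s, (X a : MvPolynomial (Fin N) ℤ))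
  rw [← Finset.powersetCard_map, hPmap] at h2
  rw [h2]
  rfl

/-- For all i, j there is a polynomial Q ∈ ℤ[X_1, …, X_{ij}] such that substituting the k-th elementary
symmetric function of ij variables T for X_k yields the j-th elementary symmetric function of the
products of the T_a over the i-element subsets of the variables, and Q is isobaric of weight ij, the
variable X_k having weight k. -/
theorem result (i j : ℕ) :
    ∃ Q : MvPolynomial (Fin (i * j)) ℤ, LambdaRing.IsCompPoly i j Q := by
  obtain ⟨Q, h1, h2⟩ := exists_isWeightedHomogeneous (LambdaRing.compGen (i * j) i j)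
    (compGen_isSymmetric (i * j) i j) (i * j) (compGen_isHomogeneous (i * j) i j)
  exact ⟨Q, h1, h2⟩

end Groth.Agent.S8685
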