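import Groth.Statements.S8688
import Groth.Agent.Lib.SpecialLam6b
import Groth.Agent.S8686
import Groth.Agent.S8687

set_option autoImplicit false
universe u
open LambdaRing

namespace Groth.Agent.S8688

open MvPolynomial Finset Groth.Agent.Lib.LambdaGamma6 Groth.Agent.Lib.SpecialLam6
  Groth.Agent.Lib.SpecialLam6b

/-- Let K be a λ-ring in the strict sense (λ_t(1) = 1 + t and the identities with the universal
polynomials P_n, Q_{i,j}). Then the Adams operations satisfy ψ^k ∘ ψ^{k'} = ψ^{kk'} for all k, k' ≥
1. The hypotheses hP and hQ, that the universal polynomials exist for all indices, are true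
statements carried here so that the identities of K can be used at every index. -/
theorem result (K : Type u) [CommRing K] [LambdaRing.LambdaOps K]
    (hK : LambdaRing.IsSpecial K)
    (hP : ∀ n : ℕ, ∃ P : MvPolynomial (Fin n ⊕ Fin n) ℤ, LambdaRing.IsMulPoly n P)
    (hQ : ∀ i j : ℕ, ∃ Q : MvPolynomial (Fin (i * j)) ℤ, LambdaRing.IsCompPoly i j Q)
    (k k' : ℕ) (hk : 1 ≤ k) (hk' : 1 ≤ k') (x : K) :
    LambdaRing.adamsOp k (LambdaRing.adamsOp k' x) = LambdaRing.adamsOp (k * k') x := by
  have h1 : adamsOp k (1 : K) = 1 := Groth.Agent.S8686.result K hK.lam_one_eq_zero k hk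
  have hmul : ∀ a b : K, adamsOp k (a * b) = adamsOp k a * adamsOp k b :=
    fun a b => Groth.Agent.S8687.result K hK hP k hk a b
  set M := k * k' with hM
  have hMpos : 0 < M := Nat.mul_pos hk hk'
  let ev : MvPolynomial (Fin M) ℤ →ₐ[ℤ] K :=
    aeval (fun c : Fin M => LambdaOps.lam ((c : ℕ) + 1) x)
  have hξ : ∀ i, i ≤ M → ev (ξ₁ M i) = LambdaOps.lam i x := by
    intro i hi
    rcases i with _ | j
    · rw [ξ₁, map_one, LambdaOps.lam_zero]
    · rw [ξ₁, dif_pos (by omega)]
      exact aeval_X _ _
  have hθ : ∀ i j, i * j ≤ M → ev (θ M i j) = LambdaOps.lam j (LambdaOps.lam i x) := by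
    intro i j hij
    rw [θ, dif_pos hij, hK.lam_lam i j (Qst M i j hij) (Qst_isCompPoly M i j hij) x]
    change aeval _ (rename _ (Qst M i j hij)) = _
    rw [aeval_rename]
    rfl
  rw [adamsOp_eq_aeval_newton' x k' hk', adamsOp_aeval k h1 hmul,
    adamsOp_eq_aeval_newton' x M hMpos]
  have c1 : ∀ i, i ≤ k' → adamsOp k (LambdaOps.lam i x) =
      ev (aeval (fun j => θ M i j) (newton k)) := by
    intro i hi
    have e : ev (aeval (fun j => θ M i j) (newton k)) =
        aeval (fun j => ev (θ M i j)) (newton k) := by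
      rw [← AlgHom.comp_apply, comp_aeval]
    rw [adamsOp_eq_aeval_newton' _ k hk, e]
    refine (newton_congr _ _ k (fun j hj => hθ i j ?_)).symm
    calc i * j ≤ k' * k := Nat.mul_le_mul hi hj
      _ = M := mul_comm _ _
  have c2 : aeval (fun i => adamsOp k (LambdaOps.lam i x)) (newton k') =
      aeval (fun i => ev (aeval (fun j => θ M i j) (newton k))) (newton k') :=
    newton_congr _ _ k' c1
  have c3 : aeval (fun i => ev (aeval (fun j => θ M i j) (newton k))) (newton k') =
      ev (aeval (fun i => aeval (fun j => θ M i j) (newton k)) (newton k')) := by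
    rw [← AlgHom.comp_apply, comp_aeval]
  have c4 : ev (aeval (ξ₁ M) (newton M)) = aeval (fun i => ev (ξ₁ M i)) (newton M) := by
    rw [← AlgHom.comp_apply, comp_aeval]
  have c5 : aeval (fun i => ev (ξ₁ M i)) (newton M) =
      aeval (fun i => LambdaOps.lam i x) (newton M) :=
    newton_congr _ _ M hξ
  rw [c2, c3, universal_comp_identity M k k' hk hk' le_rfl, c4, c5]

end Groth.Agent.S8688
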