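import Groth.Statements.S8703
-- import your own Groth.Agent.* helpers here

set_option autoImplicit false
universe u
open LambdaRing

namespace Groth.Agent.S8703

section aux

variable {K : Type u} [CommRing K] [LambdaRing.LambdaOps K]

theorem constantCoeff_lamSeries (x : K) :
    PowerSeries.constantCoeff (lamSeries x) = ((1 : Kˣ) : K) := by
  rw [← PowerSeries.coeff_zero_eq_constantCoeff_apply]
  simp [lamSeries, LambdaOps.lam_zero]

theorem derivative_lamSeries (x : K) :
    PowerSeries.derivative K (lamSeries x) = logDerivSeries x * lamSeries x := by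
  rw [logDerivSeries, mul_assoc, PowerSeries.invOfUnit_mul _ _ (constantCoeff_lamSeries x), mul_one]

theorem coeff_logDerivSeries (x : K) (k : ℕ) :
    PowerSeries.coeff k (logDerivSeries x) = (-1) ^ k * adamsOp (k + 1) x := by
  simp only [adamsOp]
  rw [← mul_assoc, ← pow_add, ← two_mul, pow_mul]
  simp

/-- Newton's identity. -/
theorem newton (x : K) (n : ℕ) :
    LambdaOps.lam (n + 1) x * ((n : K) + 1) =
      ∑ p ∈ Finset.antidiagonal n, ((-1) ^ p.1 * adamsOp (p.1 + 1) x) * LambdaOps.lam p.2 x := by
  have h := congrArg (PowerSeries.coeff n) (derivative_lamSeries x)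
  rw [PowerSeries.coeff_derivative, PowerSeries.coeff_mul] at h
  simp only [coeff_logDerivSeries] at h
  simpa [lamSeries] using h

end aux

/-- The Adams operations commute with λ-homomorphisms, and conversely, if K and K' are pre-λ-rings which
are algebras over the rationals, a ring homomorphism f : K → K' commuting with the ψ^k for all k ≥ 1
is a λ-homomorphism (commutes with all λ^i), the λ^i being expressible through the ψ^k in
characteristic zero. -/
theorem result (K K' : Type u) [CommRing K] [CommRing K']
    [LambdaRing.LambdaOps K] [LambdaRing.LambdaOps K'] [Algebra ℚ K] [Algebra ℚ K'] (f : K →+* K') :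
    LambdaRing.IsLambdaHom f ↔
      ∀ k : ℕ, 1 ≤ k → ∀ x : K, f (LambdaRing.adamsOp k x) = LambdaRing.adamsOp k (f x) := by
  constructor
  · intro hf k hk x
    obtain ⟨k, rfl⟩ : ∃ j, k = j + 1 := ⟨k - 1, by omega⟩
    have h1 : PowerSeries.map f (lamSeries x) = lamSeries (f x) := by
      ext n
      simp [lamSeries, hf n x]
    have h2 : PowerSeries.map f (PowerSeries.derivative K (lamSeries x)) =
        PowerSeries.derivative K' (lamSeries (f x)) := by
      ext n
      rw [PowerSeries.coeff_map, PowerSeries.coeff_derivative, PowerSeries.coeff_derivative, ← h1,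
        PowerSeries.coeff_map]
      simp
    have h3 : PowerSeries.map f ((lamSeries x).invOfUnit 1) = (lamSeries (f x)).invOfUnit 1 := by
      have e1 : lamSeries (f x) * PowerSeries.map f ((lamSeries x).invOfUnit 1) = 1 := by
        rw [← h1, ← map_mul, PowerSeries.mul_invOfUnit _ _ (constantCoeff_lamSeries x), map_one]
      have e2 : (lamSeries (f x)).invOfUnit 1 * lamSeries (f x) = 1 :=
        PowerSeries.invOfUnit_mul _ _ (constantCoeff_lamSeries (f x))
      calc PowerSeries.map f ((lamSeries x).invOfUnit 1)
          = ((lamSeries (f x)).invOfUnit 1 * lamSeries (f x)) *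
              PowerSeries.map f ((lamSeries x).invOfUnit 1) := by rw [e2, one_mul]
        _ = (lamSeries (f x)).invOfUnit 1 *
              (lamSeries (f x) * PowerSeries.map f ((lamSeries x).invOfUnit 1)) := by ring
        _ = (lamSeries (f x)).invOfUnit 1 := by rw [e1, mul_one]
    have h4 : PowerSeries.map f (logDerivSeries x) = logDerivSeries (f x) := by
      rw [logDerivSeries, map_mul, h2, h3, logDerivSeries]
    simp only [adamsOp]
    rw [map_mul, map_pow, map_neg, map_one, ← PowerSeries.coeff_map, h4]
  · intro hψ
    intro n
    induction n using Nat.strong_induction_on with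
    | _ n ih =>
      intro x
      rcases n with _ | n
      · simp [LambdaOps.lam_zero]
      · have hK := congrArg f (newton x n)
        have hK' := newton (f x) n
        rw [map_mul, map_add, map_natCast, map_one, map_sum] at hK
        have hsum : ∑ p ∈ Finset.antidiagonal n,
            f (((-1) ^ p.1 * adamsOp (p.1 + 1) x) * LambdaOps.lam p.2 x) =
            ∑ p ∈ Finset.antidiagonal n,
              ((-1) ^ p.1 * adamsOp (p.1 + 1) (f x)) * LambdaOps.lam p.2 (f x) := by
          refine Finset.sum_congr rfl (fun p hp => ?_)
          have hp2 : p.2 < n + 1 := by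
            have := Finset.mem_antidiagonal.mp hp
            omega
          rw [map_mul, map_mul, map_pow, map_neg, map_one, hψ (p.1 + 1) (by omega) x, ih p.2 hp2 x]
        rw [hsum, ← hK'] at hK
        have hunit : IsUnit ((n : K') + 1) := by
          have : ((n : K') + 1) = algebraMap ℚ K' ((n : ℚ) + 1) := by simp
          rw [this]
          exact (IsUnit.mk0 _ (by positivity)).map _
        exact hunit.mul_left_injective hK

end Groth.Agent.S8703
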