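import Groth.Statements.S8702
import Groth.Agent.S8703

set_option autoImplicit false
universe u
open LambdaRing

namespace Groth.Agent.S8702

section aux

variable {K : Type u} [CommRing K] [Algebra ℚ K]

/-- Coefficients of the solution of `F' = P F`, `F(0) = 1`, where `P = ∑ c k t^k`. -/
noncomputable def sol (c : ℕ → K) : ℕ → K
  | 0 => 1
  | n + 1 => algebraMap ℚ K (1 / ((n : ℚ) + 1)) *
      ∑ i ∈ Finset.range (n + 1), c i * sol c (n - i)
termination_by n => n
decreasing_by omega

theorem sol_zero (c : ℕ → K) : sol c 0 = 1 := by
  rw [sol]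

theorem natCast_succ_mul_inv (n : ℕ) :
    ((n : K) + 1) * algebraMap ℚ K (1 / ((n : ℚ) + 1)) = 1 := by
  have h : ((n : K) + 1) = algebraMap ℚ K ((n : ℚ) + 1) := by simp
  rw [h, ← map_mul]
  have : ((n : ℚ) + 1) * (1 / ((n : ℚ) + 1)) = 1 := by
    field_simp
  rw [this, map_one]

theorem sol_succ (c : ℕ → K) (n : ℕ) :
    sol c (n + 1) * ((n : K) + 1) = ∑ p ∈ Finset.antidiagonal n, c p.1 * sol c p.2 := by
  rw [sol, mul_comm, ← mul_assoc, natCast_succ_mul_inv, one_mul,
    Finset.Nat.sum_antidiagonal_eq_sum_range_succ (fun i j => c i * sol c j)]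

theorem isUnit_natCast_succ (n : ℕ) : IsUnit ((n : K) + 1) :=
  IsUnit.of_mul_eq_one _ (natCast_succ_mul_inv n)

/-- The series solving the differential equation. -/
noncomputable def solSeries (c : ℕ → K) : PowerSeries K := PowerSeries.mk (sol c)

theorem constantCoeff_solSeries (c : ℕ → K) :
    PowerSeries.constantCoeff (solSeries c) = 1 := by
  rw [← PowerSeries.coeff_zero_eq_constantCoeff_apply]
  simp [solSeries, sol_zero]

theorem derivative_solSeries (c : ℕ → K) :
    PowerSeries.derivative K (solSeries c) = PowerSeries.mk c * solSeries c := by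
  ext n
  rw [PowerSeries.coeff_derivative, PowerSeries.coeff_mul]
  simp only [solSeries, PowerSeries.coeff_mk]
  exact sol_succ c n

/-- Uniqueness for the differential equation `G' = P G` with given constant coefficient. -/
theorem ode_unique (P G₁ G₂ : PowerSeries K)
    (h0 : PowerSeries.constantCoeff G₁ = PowerSeries.constantCoeff G₂)
    (h1 : PowerSeries.derivative K G₁ = P * G₁) (h2 : PowerSeries.derivative K G₂ = P * G₂) :
    G₁ = G₂ := by
  ext n
  induction n using Nat.strong_induction_on with
  | _ n ih =>
    rcases n with _ | n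
    · simpa using h0
    · have e1 := congrArg (PowerSeries.coeff n) h1
      have e2 := congrArg (PowerSeries.coeff n) h2
      rw [PowerSeries.coeff_derivative, PowerSeries.coeff_mul] at e1 e2
      have : ∑ p ∈ Finset.antidiagonal n, PowerSeries.coeff p.1 P * PowerSeries.coeff p.2 G₁ =
          ∑ p ∈ Finset.antidiagonal n, PowerSeries.coeff p.1 P * PowerSeries.coeff p.2 G₂ := by
        refine Finset.sum_congr rfl (fun p hp => ?_)
        have hp2 : p.2 < n + 1 := by
          have := Finset.mem_antidiagonal.mp hp
          omega
        rw [ih p.2 hp2]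
      rw [this, ← e2] at e1
      exact (isUnit_natCast_succ n).mul_left_injective e1

variable (ψ : ℕ → K →+ K)

/-- The coefficients of the prescribed logarithmic derivative. -/
def cf (x : K) : ℕ → K := fun k => (-1) ^ k * ψ (k + 1) x

theorem mk_cf_add (x y : K) :
    PowerSeries.mk (cf ψ (x + y)) = PowerSeries.mk (cf ψ x) + PowerSeries.mk (cf ψ y) := by
  ext n
  simp [cf, mul_add]

theorem solSeries_add (x y : K) :
    solSeries (cf ψ (x + y)) = solSeries (cf ψ x) * solSeries (cf ψ y) := by
  apply ode_unique (PowerSeries.mk (cf ψ (x + y)))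
  · simp [constantCoeff_solSeries]
  · exact derivative_solSeries _
  · rw [Derivation.leibniz, derivative_solSeries, derivative_solSeries, mk_cf_add]
    simp only [smul_eq_mul]
    ring

/-- The lambda structure with prescribed Adams operations. -/
noncomputable def lamOps (hψ : ψ 1 = AddMonoidHom.id K) : LambdaRing.LambdaOps K where
  lam n x := sol (cf ψ x) n
  lam_zero x := sol_zero _
  lam_one x := by
    have := sol_succ (cf ψ x) 0
    simp only [Nat.cast_zero, zero_add, mul_one, Finset.Nat.antidiagonal_zero,
      Finset.sum_singleton, sol_zero] at this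
    rw [this, cf, pow_zero, one_mul, zero_add, hψ]
    rfl
  lam_add k x y := by
    have := congrArg (PowerSeries.coeff k) (solSeries_add ψ x y)
    rw [PowerSeries.coeff_mul] at this
    simp only [solSeries, PowerSeries.coeff_mk] at this
    rw [this, Finset.Nat.sum_antidiagonal_eq_sum_range_succ
      (fun i j => sol (cf ψ x) i * sol (cf ψ y) j)]

end aux

/-- Let K be a commutative ring which is an algebra over the rationals, and let ψ^k : K → K, k ≥ 1, be
additive maps with ψ^1 the identity. Then there is one and only one pre-λ-structure on K whose Adams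
operations (defined through the logarithmic derivative of λ_t) are the ψ^k for every k ≥ 1, namely
λ_t(x) = exp(Σ_{k ≥ 1} (−1)^{k−1} ψ^k(x) t^k / k): in characteristic zero, pre-λ-structures and
families of additive operations ψ^k with ψ^1 = id determine each other. (The value of the family at
k = 0 is ignored.) -/
theorem result (K : Type u) [CommRing K] [Algebra ℚ K]
    (ψ : ℕ → K →+ K) (hψ : ψ 1 = AddMonoidHom.id K) :
    ∃! L : LambdaRing.LambdaOps K, ∀ k : ℕ, 1 ≤ k → ∀ x : K, @LambdaRing.adamsOp K _ L k x = ψ k x := by
  refine ⟨lamOps ψ hψ, ?_, ?_⟩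
  · intro k hk x
    obtain ⟨k, rfl⟩ : ∃ j, k = j + 1 := ⟨k - 1, by omega⟩
    letI : LambdaRing.LambdaOps K := lamOps ψ hψ
    have hser : lamSeries x = solSeries (cf ψ x) := rfl
    have hlog : logDerivSeries x = PowerSeries.mk (cf ψ x) := by
      rw [logDerivSeries, hser, derivative_solSeries, mul_assoc,
        PowerSeries.mul_invOfUnit _ _ (by simp [constantCoeff_solSeries]), mul_one]
    simp only [adamsOp]
    rw [hlog, PowerSeries.coeff_mk, cf, ← mul_assoc, ← pow_add, ← two_mul, pow_mul]
    simp
  · intro L' hL'
    have hlam : ∀ (n : ℕ) (x : K), L'.lam n x = sol (cf ψ x) n := by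
      intro n
      induction n using Nat.strong_induction_on with
      | _ n ih =>
        intro x
        rcases n with _ | n
        · rw [L'.lam_zero, sol_zero]
        · have hN := @Groth.Agent.S8703.newton K _ L' x n
          have hS := sol_succ (cf ψ x) n
          have : ∑ p ∈ Finset.antidiagonal n,
              ((-1) ^ p.1 * @adamsOp K _ L' (p.1 + 1) x) * L'.lam p.2 x =
              ∑ p ∈ Finset.antidiagonal n, cf ψ x p.1 * sol (cf ψ x) p.2 := by
            refine Finset.sum_congr rfl (fun p hp => ?_)
            have hp2 : p.2 < n + 1 := by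
              have := Finset.mem_antidiagonal.mp hp
              omega
            rw [hL' (p.1 + 1) (by omega) x, ih p.2 hp2 x, cf]
          rw [this, ← hS] at hN
          exact (isUnit_natCast_succ n).mul_left_injective hN
    have hfun : L'.lam = (lamOps ψ hψ).lam := by
      funext n x
      exact hlam n x
    cases L' with
    | mk lam' h0 h1 h2 =>
      simp only at hfun
      subst hfun
      rfl

end Groth.Agent.S8702
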