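import Groth.Statements.S8704
import Groth.Agent.Lib.LambdaGamma6

set_option autoImplicit false
universe u v
open LambdaRing

namespace Groth.Agent.S8704

open Finset Groth.Agent.Lib.LambdaRing Groth.Agent.Lib.LambdaGamma6

section

variable {K : Type u} [CommRing K] {A : Type v} [CommRing A] [LambdaRing.LambdaOps A] [Algebra K A]
  (ε : A →ₐ[K] K) (S : Set A)

/-- the generating set of monomials of weight `≥ n` -/
def G (n : ℕ) : Set A :=
  {y : A | ∃ l : List (ℕ × A), (∀ p ∈ l, p.2 ∈ S) ∧ n ≤ (l.map Prod.fst).sum ∧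
    y = (l.map fun p => LambdaRing.gamma p.1 (p.2 - algebraMap K A (ε p.2))).prod}

/-- the `K`-span of the monomials of weight `≥ n` -/
def T (n : ℕ) : Submodule K A := Submodule.span K (G ε S n)

lemma T_anti {n N : ℕ} (h : n ≤ N) : T ε S N ≤ T ε S n := by
  refine Submodule.span_mono ?_
  rintro y ⟨l, hl, hN, rfl⟩
  exact ⟨l, hl, le_trans h hN, rfl⟩

lemma one_mem_T : (1 : A) ∈ T ε S 0 :=
  Submodule.subset_span ⟨[], by simp, by simp, by simp⟩

lemma mul_mem_T {a b : ℕ} {x y : A} (hx : x ∈ T ε S a) (hy : y ∈ T ε S b) :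
    x * y ∈ T ε S (a + b) := by
  have h : T ε S a * T ε S b ≤ T ε S (a + b) := by
    rw [T, T, Submodule.span_mul_span]
    refine Submodule.span_le.2 ?_
    rintro _ ⟨x, ⟨l, hl, ha, rfl⟩, y, ⟨l', hl', hb, rfl⟩, rfl⟩
    refine Submodule.subset_span ⟨l ++ l', ?_, ?_, ?_⟩
    · intro p hp
      rcases List.mem_append.1 hp with h | h
      · exact hl p h
      · exact hl' p h
    · rw [List.map_append, List.sum_append]
      exact Nat.add_le_add ha hb
    · rw [List.map_append, List.prod_append]
  exact h (Submodule.mul_mem_mul hx hy)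

lemma gamma_mem_T {s : A} (hs : s ∈ S) (i : ℕ) :
    LambdaRing.gamma i (s - algebraMap K A (ε s)) ∈ T ε S i :=
  Submodule.subset_span ⟨[(i, s)], by simpa using hs, by simp, by simp⟩

/-- all `γ^i(w)` lie in the `i`-th step -/
def H (w : A) : Prop := ∀ i, LambdaRing.gamma i w ∈ T ε S i

lemma H_zero : H ε S (0 : A) := by
  intro i
  rcases i with _ | i
  · rw [gamma_zero_eq]; exact one_mem_T ε S
  · rw [gamma_succ_zero]; exact Submodule.zero_mem _

lemma H_add {w w' : A} (hw : H ε S w) (hw' : H ε S w') : H ε S (w + w') := by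
  intro k
  rw [gamma_add]
  refine Submodule.sum_mem _ fun i hi => ?_
  have hik : i + (k - i) = k := by
    have := Finset.mem_range.1 hi
    omega
  have := mul_mem_T ε S (hw i) (hw' (k - i))
  rwa [hik] at this

lemma H_neg {w : A} (hw : H ε S w) : H ε S (-w) := by
  intro b
  induction b using Nat.strong_induction_on with
  | _ b ih =>
    rcases b with _ | b
    · rw [gamma_zero_eq]; exact one_mem_T ε S
    · have h := gamma_add (b + 1) w (-w)
      rw [add_neg_cancel, gamma_succ_zero, Finset.sum_range_succ', gamma_zero_eq, one_mul,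
        Nat.sub_zero] at h
      have h' : LambdaRing.gamma (b + 1) (-w) =
          -∑ i ∈ Finset.range (b + 1),
            LambdaRing.gamma (i + 1) w * LambdaRing.gamma (b + 1 - (i + 1)) (-w) := by
        rw [eq_neg_iff_add_eq_zero, add_comm]
        exact h.symm
      rw [h']
      refine Submodule.neg_mem _ (Submodule.sum_mem _ fun i hi => ?_)
      have hi' := Finset.mem_range.1 hi
      have := mul_mem_T ε S (hw (i + 1)) (ih (b + 1 - (i + 1)) (by omega))
      have hik : i + 1 + (b + 1 - (i + 1)) = b + 1 := by omega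
      rwa [hik] at this

variable (hS : AddSubgroup.closure S = ⊤)

include hS in
lemma H_sub_aug (a : A) : H ε S (a - algebraMap K A (ε a)) := by
  have ha : a ∈ AddSubgroup.closure S := by rw [hS]; trivial
  induction ha using AddSubgroup.closure_induction with
  | mem s hs => exact fun i => gamma_mem_T ε S hs i
  | zero =>
    rw [map_zero, map_zero, sub_zero]
    exact H_zero ε S
  | add x y _ _ hx hy =>
    have : x + y - algebraMap K A (ε (x + y)) =
        (x - algebraMap K A (ε x)) + (y - algebraMap K A (ε y)) := by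
      rw [map_add, map_add]; ring
    rw [this]
    exact H_add ε S hx hy
  | neg x _ hx =>
    have : -x - algebraMap K A (ε (-x)) = -(x - algebraMap K A (ε x)) := by
      rw [map_neg, map_neg]; ring
    rw [this]
    exact H_neg ε S hx

include hS in
lemma mul_mem_T_of_mem (n : ℕ) (a : A) {t : A} (ht : t ∈ T ε S n) : a * t ∈ T ε S n := by
  have ha : a ∈ AddSubgroup.closure S := by rw [hS]; trivial
  induction ha using AddSubgroup.closure_induction with
  | mem s hs =>
    have h1 : s * t = LambdaRing.gamma 1 (s - algebraMap K A (ε s)) * t + (ε s) • t := by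
      rw [gamma_one_eq, Algebra.smul_def]; ring
    rw [h1]
    refine Submodule.add_mem _ ?_ (Submodule.smul_mem _ _ ht)
    exact T_anti ε S (by omega) (mul_mem_T ε S (gamma_mem_T ε S hs 1) ht)
  | zero => rw [zero_mul]; exact Submodule.zero_mem _
  | add x y _ _ hx hy => rw [add_mul]; exact Submodule.add_mem _ hx hy
  | neg x _ hx => rw [neg_mul]; exact Submodule.neg_mem _ hx

include hS in
lemma gen_mem_T (l : List (ℕ × A)) (hl : ∀ p ∈ l, ε p.2 = 0) :
    (l.map fun p => LambdaRing.gamma p.1 p.2).prod ∈ T ε S (l.map Prod.fst).sum := by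
  induction l with
  | nil => simpa using one_mem_T ε S
  | cons p l ih =>
    simp only [List.map_cons, List.prod_cons, List.sum_cons]
    refine mul_mem_T ε S ?_ (ih fun q hq => hl q (List.mem_cons_of_mem _ hq))
    have h := H_sub_aug ε S hS p.2 p.1
    rwa [hl p List.mem_cons_self, map_zero, sub_zero] at h

end

/-- Let K and A be λ-rings in the strict sense, A an augmented K-λ-algebra with augmentation ε : A → K,
and Fil^n A its γ-filtration, the ideal generated by the products γ^{i_1}(x_1) ⋯ γ^{i_k}(x_k) with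
i_1 + ⋯ + i_k ≥ n and all ε(x_r) = 0. If a subset S generates A as an abelian group, then Fil^n A,
as a K-submodule of A, is generated over K by the products γ^{i_1}(s_1 − ε(s_1)) ⋯ γ^{i_k}(s_k −
ε(s_k)) with s_r ∈ S and i_1 + ⋯ + i_k ≥ n. -/
theorem result
    (K : Type u) [CommRing K] [LambdaRing.LambdaOps K] (hK : LambdaRing.IsSpecial K)
    (A : Type v) [CommRing A] [LambdaRing.LambdaOps A] [Algebra K A] (hA : LambdaRing.IsSpecial A)
    (ε : A →ₐ[K] K) (hε : LambdaRing.IsAugLambdaAlg K A ε)
    (S : Set A) (hS : AddSubgroup.closure S = ⊤) (n : ℕ) :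
    (LambdaRing.gammaFil (ε : A →+* K) n).restrictScalars K =
      Submodule.span K {y : A | ∃ l : List (ℕ × A), (∀ p ∈ l, p.2 ∈ S) ∧ n ≤ (l.map Prod.fst).sum ∧
        y = (l.map fun p => LambdaRing.gamma p.1 (p.2 - algebraMap K A (ε p.2))).prod} := by
  change _ = T ε S n
  apply le_antisymm
  · -- the span is an ideal containing the generators
    let I : Ideal A :=
      { carrier := T ε S n
        add_mem' := fun ha hb => Submodule.add_mem _ ha hb
        zero_mem' := Submodule.zero_mem _
        smul_mem' := fun a t ht => mul_mem_T_of_mem ε S hS n a ht }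
    have hI : LambdaRing.gammaFil (ε : A →+* K) n ≤ I := by
      refine Ideal.span_le.2 ?_
      rintro y ⟨l, hl, hn, rfl⟩
      exact T_anti ε S hn (gen_mem_T ε S hS l hl)
    intro y hy
    exact hI hy
  · refine Submodule.span_le.2 ?_
    rintro y ⟨l, hl, hn, rfl⟩
    refine Ideal.subset_span ⟨l.map (fun p => (p.1, p.2 - algebraMap K A (ε p.2))), ?_, ?_, ?_⟩
    · intro q hq
      obtain ⟨p, _, rfl⟩ := List.mem_map.1 hq
      change ε (p.2 - algebraMap K A (ε p.2)) = 0
      rw [map_sub, AlgHom.commutes, Algebra.algebraMap_self_apply, sub_self]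
    · rw [List.map_map]
      exact hn
    · rw [List.map_map]
      rfl

end Groth.Agent.S8704
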