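import Groth.Statements.S8705
import Mathlib.LinearAlgebra.Quotient.Basic
import Mathlib.Tactic.Abel
import Mathlib.Algebra.Group.MinimalAxioms
import Mathlib.Tactic.Ring
import Mathlib.Tactic.Module

set_option autoImplicit false
universe u
open SGA7

namespace Groth.Agent.S8705

set_option linter.unusedSectionVars false

section

variable (P : Type u) [AddCommGroup P]

/-- augmentation -/
noncomputable def ε : (P →₀ ℤ) →ₗ[ℤ] P := Finsupp.linearCombination ℤ (fun p : P => p)

noncomputable def d₀ : (P × P →₀ ℤ) →ₗ[ℤ] (P →₀ ℤ) := Finsupp.linearCombination ℤ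
  (fun pq : P × P => Finsupp.single (pq.1 + pq.2) 1 - Finsupp.single pq.1 1 - Finsupp.single pq.2 1)

noncomputable def d₁ : (P × P × P →₀ ℤ) →ₗ[ℤ] (P × P →₀ ℤ) := Finsupp.linearCombination ℤ
  (fun t : P × P × P => Finsupp.single (t.1 + t.2.1, t.2.2) 1 - Finsupp.single (t.1, t.2.1 + t.2.2) 1
    + Finsupp.single (t.1, t.2.1) 1 - Finsupp.single (t.2.1, t.2.2) 1)

noncomputable def d₁' : (P × P →₀ ℤ) →ₗ[ℤ] (P × P →₀ ℤ) := Finsupp.linearCombination ℤ
  (fun pq : P × P => Finsupp.single pq 1 - Finsupp.single (pq.2, pq.1) 1)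

variable {P}

lemma ε_single (p : P) (n : ℤ) : ε P (Finsupp.single p n) = n • p := by
  simp [ε, Finsupp.linearCombination_single]

lemma d₀_single (p q : P) (n : ℤ) : d₀ P (Finsupp.single (p, q) n) =
    n • (Finsupp.single (p + q) 1 - Finsupp.single p 1 - Finsupp.single q 1) := by
  simp [d₀, Finsupp.linearCombination_single]

lemma d₁_single (p q r : P) (n : ℤ) : d₁ P (Finsupp.single (p, q, r) n) =
    n • (Finsupp.single (p + q, r) 1 - Finsupp.single (p, q + r) 1
      + Finsupp.single (p, q) 1 - Finsupp.single (q, r) 1) := by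
  simp [d₁, Finsupp.linearCombination_single]

lemma d₁'_single (p q : P) (n : ℤ) : d₁' P (Finsupp.single (p, q) n) =
    n • (Finsupp.single (p, q) 1 - Finsupp.single (q, p) 1) := by
  simp [d₁', Finsupp.linearCombination_single]

lemma ε_surjective : Function.Surjective (ε P) := fun p => ⟨Finsupp.single p 1, by simp [ε_single]⟩

lemma ε_comp_d₀ : (ε P).comp (d₀ P) = 0 := by
  refine Finsupp.lhom_ext fun pq n => ?_
  obtain ⟨p, q⟩ := pq
  simp only [LinearMap.comp_apply, d₀_single, map_smul, map_sub, ε_single, LinearMap.zero_apply]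
  simp

/-- `p ↦ [p]` modulo the image of `d₀` is additive. -/
noncomputable def φ : P →+ ((P →₀ ℤ) ⧸ LinearMap.range (d₀ P)) :=
  AddMonoidHom.mk' (fun p => Submodule.Quotient.mk (Finsupp.single p 1)) (by
    intro p q
    rw [← Submodule.Quotient.mk_add, Submodule.Quotient.eq]
    refine ⟨Finsupp.single (p, q) 1, ?_⟩
    rw [d₀_single, one_smul]
    abel)

lemma mkQ_eq_φ_ε (x : P →₀ ℤ) :
    (Submodule.Quotient.mk x : (P →₀ ℤ) ⧸ LinearMap.range (d₀ P)) = φ (ε P x) := by
  induction x using Finsupp.induction_linear with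
  | zero => simp
  | add x y hx hy => rw [Submodule.Quotient.mk_add, hx, hy, map_add, map_add]
  | single p n =>
    rw [ε_single, map_zsmul]
    show _ = n • Submodule.Quotient.mk (Finsupp.single p 1)
    rw [← Submodule.Quotient.mk_smul]
    simp

lemma ker_ε : LinearMap.ker (ε P) = LinearMap.range (d₀ P) := by
  apply le_antisymm
  · intro x hx
    rw [LinearMap.mem_ker] at hx
    have := mkQ_eq_φ_ε x
    rw [hx, map_zero] at this
    exact (Submodule.Quotient.mk_eq_zero _).mp this
  · rintro _ ⟨y, rfl⟩
    rw [LinearMap.mem_ker, ← LinearMap.comp_apply, ε_comp_d₀, LinearMap.zero_apply]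

end

section H1

variable (P : Type u) [AddCommGroup P]

/-- the submodule of "boundaries" -/
noncomputable def N : Submodule ℤ (P × P →₀ ℤ) := LinearMap.range (d₁ P) ⊔ LinearMap.range (d₁' P)

/-- the quotient -/
abbrev M : Type u := (P × P →₀ ℤ) ⧸ N P

variable {P}

/-- the universal symmetric cocycle -/
noncomputable def f (p q : P) : M P := Submodule.Quotient.mk (Finsupp.single (p, q) 1)

lemma f_symm (p q : P) : f p q = f q p := by
  rw [f, f, Submodule.Quotient.eq]
  refine Submodule.mem_sup_right ⟨Finsupp.single (p, q) 1, ?_⟩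
  rw [d₁'_single, one_smul]

lemma f_cocycle (p q r : P) : f (p + q) r - f p (q + r) + f p q - f q r = 0 := by
  simp only [f]
  rw [← Submodule.Quotient.mk_sub, ← Submodule.Quotient.mk_add, ← Submodule.Quotient.mk_sub,
    Submodule.Quotient.mk_eq_zero]
  refine Submodule.mem_sup_left ⟨Finsupp.single (p, q, r) 1, ?_⟩
  rw [d₁_single, one_smul]

lemma f_zero_right (p : P) : f p 0 = f (0 : P) 0 := by
  have := f_cocycle p 0 0
  simp only [add_zero] at this
  have h : f p 0 - f (0 : P) 0 = 0 := by
    rw [← this]; abel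
  exact sub_eq_zero.mp h

/-- normalised cocycle -/
noncomputable def g (p q : P) : M P := f p q - f (0 : P) 0

lemma g_symm (p q : P) : g p q = g q p := by rw [g, g, f_symm]

lemma g_zero_right (p : P) : g p 0 = 0 := by rw [g, f_zero_right, sub_self]

lemma g_zero_left (p : P) : g 0 p = 0 := by rw [g_symm, g_zero_right]

lemma g_cocycle (p q r : P) : g (p + q) r + g p q = g p (q + r) + g q r := by
  have := f_cocycle p q r
  simp only [g]
  have h : f (p + q) r + f p q = f p (q + r) + f q r := by
    rw [← sub_eq_zero, ← this]; abel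
  calc f (p + q) r - f 0 0 + (f p q - f 0 0) = (f (p + q) r + f p q) - f 0 0 - f 0 0 := by abel
    _ = (f p (q + r) + f q r) - f 0 0 - f 0 0 := by rw [h]
    _ = f p (q + r) - f 0 0 + (f q r - f 0 0) := by abel

variable (P) in
/-- The extension of `P` by `M P` defined by the cocycle `g`. -/
@[ext] structure E : Type u where
  fst : M P
  snd : P

noncomputable instance : Add (E P) := ⟨fun a b => ⟨a.fst + b.fst + g a.snd b.snd, a.snd + b.snd⟩⟩
noncomputable instance : Zero (E P) := ⟨⟨0, 0⟩⟩
noncomputable instance : Neg (E P) := ⟨fun a => ⟨-a.fst - g a.snd (-a.snd), -a.snd⟩⟩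

lemma E.add_fst (a b : E P) : (a + b).fst = a.fst + b.fst + g a.snd b.snd := rfl
lemma E.add_snd (a b : E P) : (a + b).snd = a.snd + b.snd := rfl
lemma E.zero_fst : (0 : E P).fst = 0 := rfl
lemma E.zero_snd : (0 : E P).snd = 0 := rfl
lemma E.neg_fst (a : E P) : (-a).fst = -a.fst - g a.snd (-a.snd) := rfl
lemma E.neg_snd (a : E P) : (-a).snd = -a.snd := rfl

noncomputable instance : AddGroup (E P) :=
  AddGroup.ofLeftAxioms
    (by
      intro a b c
      ext
      · simp only [E.add_fst, E.add_snd]
        have := g_cocycle a.snd b.snd c.snd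
        calc a.fst + b.fst + g a.snd b.snd + c.fst + g (a.snd + b.snd) c.snd
            = a.fst + b.fst + c.fst + (g (a.snd + b.snd) c.snd + g a.snd b.snd) := by abel
          _ = a.fst + b.fst + c.fst + (g a.snd (b.snd + c.snd) + g b.snd c.snd) := by rw [this]
          _ = a.fst + (b.fst + c.fst + g b.snd c.snd) + g a.snd (b.snd + c.snd) := by abel
      · simp only [E.add_snd, add_assoc])
    (by
      intro a
      ext
      · simp only [E.add_fst, E.zero_fst, E.zero_snd, g_zero_left, zero_add, add_zero]
      · simp only [E.add_snd, E.zero_snd, zero_add])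
    (by
      intro a
      ext
      · simp only [E.add_fst, E.neg_fst, E.neg_snd, E.zero_fst]
        rw [g_symm (-a.snd) a.snd]
        abel
      · simp only [E.add_snd, E.neg_snd, E.zero_snd, neg_add_cancel])

noncomputable instance : AddCommGroup (E P) :=
  { (inferInstance : AddGroup (E P)) with
    add_comm := by
      intro a b
      ext
      · simp only [E.add_fst]
        rw [g_symm a.snd b.snd]
        abel
      · simp only [E.add_snd, add_comm] }

/-- inclusion of `M P` -/
noncomputable def i : M P →+ E P :=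
  AddMonoidHom.mk' (fun m => ⟨m, 0⟩) (by
    intro a b
    ext
    · simp only [E.add_fst, g_zero_left, add_zero]
    · simp only [E.add_snd, add_zero])

lemma i_injective : Function.Injective (i (P := P)) := by
  intro a b h
  exact congrArg E.fst h

/-- the set-theoretic section, twisted by the constant `f 0 0` -/
noncomputable def sec (p : P) : E P := ⟨f (0 : P) 0, p⟩

lemma sec_add (p q : P) : sec (p + q) + i (f p q) = sec p + sec q := by
  ext
  · show f (0 : P) 0 + f p q + g (p + q) 0 = f (0 : P) 0 + f (0 : P) 0 + g p q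
    rw [g_zero_right, g]
    abel
  · show p + q + 0 = p + q
    rw [add_zero]

/-- the linear extension of `sec` -/
noncomputable def σ : (P →₀ ℤ) →ₗ[ℤ] E P := Finsupp.linearCombination ℤ (fun p : P => sec p)

lemma σ_single (p : P) (n : ℤ) : σ (Finsupp.single p n) = n • sec p := by
  simp [σ, Finsupp.linearCombination_single]

lemma σ_d₀ (x : P × P →₀ ℤ) : σ (d₀ P x) = -(i (Submodule.Quotient.mk x : M P)) := by
  induction x using Finsupp.induction_linear with
  | zero => simp
  | add x y hx hy => rw [map_add, map_add, hx, hy, Submodule.Quotient.mk_add, map_add, neg_add]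
  | single pq n =>
    obtain ⟨p, q⟩ := pq
    rw [d₀_single, map_smul, map_sub, map_sub, σ_single, σ_single, σ_single, one_smul, one_smul,
      one_smul]
    have h1 : (Submodule.Quotient.mk (Finsupp.single (p, q) n) : M P) = n • f p q := by
      rw [f, ← Submodule.Quotient.mk_smul]
      simp
    rw [h1, map_zsmul, ← smul_neg]
    congr 1
    have := sec_add p q
    rw [sub_sub, ← this]
    abel

lemma d₀_comp_d₁ : (d₀ P).comp (d₁ P) = 0 := by
  refine Finsupp.lhom_ext fun t n => ?_
  obtain ⟨p, q, r⟩ := t
  simp only [LinearMap.comp_apply, d₁_single, map_smul, map_sub, map_add, d₀_single, one_smul,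
    LinearMap.zero_apply]
  rw [add_assoc p q r]
  rw [smul_eq_zero]
  right
  abel

lemma d₀_comp_d₁' : (d₀ P).comp (d₁' P) = 0 := by
  refine Finsupp.lhom_ext fun t n => ?_
  obtain ⟨p, q⟩ := t
  simp only [LinearMap.comp_apply, d₁'_single, map_smul, map_sub, d₀_single, one_smul,
    LinearMap.zero_apply]
  rw [add_comm q p]
  rw [smul_eq_zero]
  right
  abel

lemma ker_d₀ : LinearMap.ker (d₀ P) = LinearMap.range (d₁ P) ⊔ LinearMap.range (d₁' P) := by
  apply le_antisymm
  · intro x hx
    rw [LinearMap.mem_ker] at hx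
    have h := σ_d₀ x
    rw [hx, map_zero] at h
    have h2 : i (Submodule.Quotient.mk x : M P) = 0 := by
      rw [← neg_eq_zero]; exact h.symm
    have h3 : (Submodule.Quotient.mk x : M P) = 0 := i_injective (by rw [h2, map_zero])
    exact (Submodule.Quotient.mk_eq_zero _).mp h3
  · refine sup_le ?_ ?_
    · rintro _ ⟨y, rfl⟩
      rw [LinearMap.mem_ker, ← LinearMap.comp_apply, d₀_comp_d₁, LinearMap.zero_apply]
    · rintro _ ⟨y, rfl⟩
      rw [LinearMap.mem_ker, ← LinearMap.comp_apply, d₀_comp_d₁', LinearMap.zero_apply]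

end H1

/-- In the case of the punctual topos (ordinary abelian groups): let P be an abelian group and consider
the complex of free abelian groups Z[P × P × P] ⊕ Z[P × P] → Z[P × P] → Z[P], augmented to P by [p]
↦ p, with d₀[p, q] = [p + q] − [p] − [q], with d₁ on the first summand given by [p, q, r] ↦ [p + q,
r] − [p, q + r] + [p, q] − [q, r] and on the second summand by [p, q] ↦ [p, q] − [q, p]. Then the
augmentation is surjective with kernel the image of d₀ (so H₀ is P), and the kernel of d₀ is the sum
of the images of the two components of d₁ (so H₁ vanishes). (The published statement is for abelian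
sheaves on an arbitrary topos; this row is its case of a one-point space.) -/
theorem result (P : Type u) [AddCommGroup P] :
    letI ε : (P →₀ ℤ) →ₗ[ℤ] P := Finsupp.linearCombination ℤ (fun p : P => p)
    letI d₀ : (P × P →₀ ℤ) →ₗ[ℤ] (P →₀ ℤ) := Finsupp.linearCombination ℤ
      (fun pq : P × P => Finsupp.single (pq.1 + pq.2) 1 - Finsupp.single pq.1 1 - Finsupp.single pq.2 1)
    letI d₁ : (P × P × P →₀ ℤ) →ₗ[ℤ] (P × P →₀ ℤ) := Finsupp.linearCombination ℤ
      (fun t : P × P × P => Finsupp.single (t.1 + t.2.1, t.2.2) 1 - Finsupp.single (t.1, t.2.1 + t.2.2) 1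
        + Finsupp.single (t.1, t.2.1) 1 - Finsupp.single (t.2.1, t.2.2) 1)
    letI d₁' : (P × P →₀ ℤ) →ₗ[ℤ] (P × P →₀ ℤ) := Finsupp.linearCombination ℤ
      (fun pq : P × P => Finsupp.single pq 1 - Finsupp.single (pq.2, pq.1) 1)
    Function.Surjective ε ∧ LinearMap.ker ε = LinearMap.range d₀ ∧
      LinearMap.ker d₀ = LinearMap.range d₁ ⊔ LinearMap.range d₁' :=
  ⟨ε_surjective, ker_ε, ker_d₀⟩

end Groth.Agent.S8705
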