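import Groth.Statements.S8710
import Groth.Agent.Lib.TorLES
import Mathlib.Algebra.Homology.ShortComplex.ModuleCat
import Mathlib.Tactic

set_option autoImplicit false
universe u
open CategoryTheory CategoryTheory.Limits
open SGA7

namespace Groth.Agent.S8710

/-- Let f : B' → B be a surjective map of R-algebras with B' flat over R, g : C → B a map of R-algebras,
P = B' ×_B C their fibre product (the equalizer of f ∘ pr₁ and g ∘ pr₂ in B' × C), S an R-algebra
and n a natural number. If Tor_i^R(C, S) = 0 for 0 < i < n and Tor_i^R(B, S) = 0 for 0 < i ≤ n, then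
Tor_i^R(P, S) = 0 for 0 < i < n. Here Tor_i^R(M, S) is the i-th left derived functor of M ⊗_R − on
R-modules, evaluated at S. (The published statement asks the vanishing for B only in degrees 0 < i <
n; the published proof and the corollary following it use it in degrees 0 < i ≤ n, which this row
assumes.) -/
theorem result (R B' B C S : Type u) [CommRing R] [CommRing B'] [CommRing B]
    [CommRing C] [CommRing S] [Algebra R B'] [Algebra R B] [Algebra R C] [Algebra R S]
    (f : B' →ₐ[R] B) (hf : Function.Surjective f) (g : C →ₐ[R] B) [Module.Flat R B'] (n : ℕ)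
    (hC : ∀ i : ℕ, 0 < i → i < n →
      IsZero (((Tor (ModuleCat.{u} R) i).obj (ModuleCat.of R C)).obj (ModuleCat.of R S)))
    (hB : ∀ i : ℕ, 0 < i → i ≤ n →
      IsZero (((Tor (ModuleCat.{u} R) i).obj (ModuleCat.of R B)).obj (ModuleCat.of R S))) :
    letI P := AlgHom.equalizer (f.comp (AlgHom.fst R B' C)) (g.comp (AlgHom.snd R B' C))
    ∀ i : ℕ, 0 < i → i < n →
      IsZero (((Tor (ModuleCat.{u} R) i).obj (ModuleCat.of R ↥P)).obj (ModuleCat.of R S)) := by
  intro i hi hin
  set P := AlgHom.equalizer (f.comp (AlgHom.fst R B' C)) (g.comp (AlgHom.snd R B' C)) with hP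
  -- the two short exact sequences
  let ι : ↥P →ₗ[R] B' × C := P.val.toLinearMap
  let d : B' × C →ₗ[R] B :=
    f.toLinearMap ∘ₗ LinearMap.fst R B' C - g.toLinearMap ∘ₗ LinearMap.snd R B' C
  have hdι : Function.Exact ι d := by
    intro x
    constructor
    · intro hx
      have hx' : f x.1 = g x.2 := by
        have : f x.1 - g x.2 = 0 := hx
        exact sub_eq_zero.mp this
      exact ⟨⟨x, hx'⟩, rfl⟩
    · rintro ⟨⟨y, hy⟩, rfl⟩
      have hy' : f y.1 = g y.2 := hy
      change f y.1 - g y.2 = 0
      rw [hy', sub_self]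
  have hι : Function.Injective ι := Subtype.val_injective
  have hd : Function.Surjective d := by
    intro b
    obtain ⟨b', rfl⟩ := hf b
    refine ⟨(b', 0), ?_⟩
    change f b' - g 0 = f b'
    rw [map_zero, sub_zero]
  let S1 : ShortComplex (ModuleCat.{u} R) :=
    ShortComplex.mk (ModuleCat.ofHom ι) (ModuleCat.ofHom d) (by
      ext x
      exact hdι.apply_apply_eq_zero x)
  have hS1 : S1.ShortExact := ModuleCat.shortComplex_shortExact S1 hdι hι hd
  let S2 : ShortComplex (ModuleCat.{u} R) :=
    ShortComplex.mk (ModuleCat.ofHom (LinearMap.inl R B' C)) (ModuleCat.ofHom (LinearMap.snd R B' C))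
      (by ext x; rfl)
  have hS2 : S2.ShortExact := ModuleCat.shortComplex_shortExact S2
    (Function.Exact.inl_snd) LinearMap.inl_injective LinearMap.snd_surjective
  obtain ⟨j, rfl⟩ : ∃ j, i = j + 1 := ⟨i - 1, by omega⟩
  have hflat : Module.Flat R (ModuleCat.of R B') := inferInstanceAs (Module.Flat R B')
  have h1 : IsZero (((Tor (ModuleCat.{u} R) (j + 1)).obj S2.X₁).obj (ModuleCat.of R S)) :=
    Groth.Agent.Lib.TorLES.isZero_tor_succ_of_flat_left (ModuleCat.of R B') (ModuleCat.of R S) j
  have h2 : IsZero (((Tor (ModuleCat.{u} R) (j + 1)).obj S2.X₂).obj (ModuleCat.of R S)) :=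
    Groth.Agent.Lib.TorLES.isZero_tor_X₂ hS2 (j + 1) h1 (hC (j + 1) hi hin)
  exact Groth.Agent.Lib.TorLES.isZero_tor_X₁ hS1 (j + 1) (hB (j + 1 + 1) (by omega) (by omega)) h2

end Groth.Agent.S8710
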