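import Groth.Statements.S8716
import Groth.Agent.Lib.ConstPts18
import Groth.Agent.Lib.H43LocSplit2
import Groth.Agent.Lib.H43Torsor

set_option autoImplicit false
set_option maxHeartbeats 400000
universe u
open CategoryTheory CategoryTheory.Limits MonoidalCategory CartesianMonoidalCategory MonObj AlgebraicGeometry
open SGA7

namespace Groth.Agent.S8716

/-- Let k be a field, Z a commutative group without non-trivial elements of finite order, P a
commutative k-group scheme of finite type (so that its group of connected components is a finite,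
hence torsion, group), G the constant k-group scheme Z_k (through the isomorphism eG), and u : G →
E, v : E → P homomorphisms of commutative k-group schemes forming a sequence 1 → G → E → P → 1 exact
for the fppf topology. Then the extension is rigid: every automorphism of the k-group scheme E
compatible with u and v is the identity. (The published statement assumes only P locally of finite
type with torsion component group; this row takes P of finite type, the case it names.) -/
theorem result (k : Type u) [Field k]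
    (Z : Type u) [CommGroup Z] (hZ : ∀ z : Z, IsOfFinOrder z → z = 1)
    (P E G : Over (Spec (CommRingCat.of k))) [GrpObj P] [GrpObj E] [GrpObj G]
    [IsCommMonObj P] [IsCommMonObj E]
    [LocallyOfFiniteType P.hom] [QuasiCompact P.hom]
    (eG : G ≅ TwC.const (Spec (CommRingCat.of k)) Z) (hG : TwC.IsConstGrp Z G eG)
    (u : G ⟶ E) (v : E ⟶ P) (hex : NonAbH1.IsExactSeq Scheme.fppfPrecoverage u v)
    (φ : E ≅ E) [IsMonHom φ.hom] (hφu : u ≫ φ.hom = u) (hφv : φ.hom ≫ v = v) :
    φ.hom = 𝟙 E := by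
  obtain ⟨hu, hv, huv, hpb, hloc⟩ := hex
  have huv' : ∀ {T : Over (Spec (CommRingCat.of k))} (g : T ⟶ G), (g ≫ u) ≫ v = 1 := by
    intro T g
    rw [Category.assoc, huv, MonObj.comp_one]
  have hinj : ∀ {T : Over (Spec (CommRingCat.of k))} (g h : T ⟶ G), g ≫ u = h ≫ u → g = h :=
    fun g h e => Groth.Agent.Lib.H43Torsor.eq_of_comp_eq u v hpb g h e
  have hker : ∀ {T : Over (Spec (CommRingCat.of k))} (b : T ⟶ E), b ≫ v = 1 →
      ∃ g' : T ⟶ G, g' ≫ u = b := by
    intro T b hb
    obtain ⟨g', hg'⟩ := Groth.Agent.Lib.H43Torsor.exists_mul_eq u v hpb (1 : T ⟶ E) b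
      (by rw [MonObj.one_comp, hb])
    exact ⟨g', by rw [hg', _root_.one_mul]⟩
  -- the difference map
  obtain ⟨δ, hδ⟩ : ∃ δ : E ⟶ G, δ ≫ u = φ.hom * (𝟙 E)⁻¹ := by
    apply hker
    rw [MonObj.mul_comp, GrpObj.inv_comp, hφv, Category.id_comp, mul_inv_cancel]
  have hδ' : ∀ {T : Over (Spec (CommRingCat.of k))} (x : T ⟶ E),
      (x ≫ δ) ≫ u = (x ≫ φ.hom) * x⁻¹ := by
    intro T x
    rw [Category.assoc, hδ, MonObj.comp_mul, GrpObj.comp_inv, Category.comp_id]
  have hδmul : ∀ {T : Over (Spec (CommRingCat.of k))} (a b : T ⟶ E),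
      (a * b) ≫ δ = (a ≫ δ) * (b ≫ δ) := by
    intro T a b
    apply hinj
    rw [hδ' (a * b), MonObj.mul_comp (a ≫ δ) (b ≫ δ) u, hδ' a, hδ' b, MonObj.mul_comp a b φ.hom]
    calc (a ≫ φ.hom) * (b ≫ φ.hom) * (a * b)⁻¹
        = (a ≫ φ.hom) * (((b ≫ φ.hom) * b⁻¹) * a⁻¹) := by group
      _ = (a ≫ φ.hom) * (a⁻¹ * ((b ≫ φ.hom) * b⁻¹)) := by
          rw [mul_comm ((b ≫ φ.hom) * b⁻¹) a⁻¹]
      _ = (a ≫ φ.hom) * a⁻¹ * ((b ≫ φ.hom) * b⁻¹) := by group
  have hδone : ∀ {T : Over (Spec (CommRingCat.of k))}, (1 : T ⟶ E) ≫ δ = 1 := by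
    intro T
    apply hinj
    rw [hδ', MonObj.one_comp, MonObj.one_comp]
    group
  have hδpow : ∀ {T : Over (Spec (CommRingCat.of k))} (a : T ⟶ E) (n : ℕ),
      (a ^ n) ≫ δ = (a ≫ δ) ^ n := by
    intro T a n
    induction n with
    | zero => rw [pow_zero, pow_zero, hδone]
    | succ n ih => rw [pow_succ, pow_succ, hδmul, ih]
  have hδu : ∀ {T : Over (Spec (CommRingCat.of k))} (g : T ⟶ G), (g ≫ u) ≫ δ = 1 := by
    intro T g
    apply hinj
    rw [hδ', Category.assoc, hφu, MonObj.one_comp, mul_inv_cancel]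
  obtain ⟨δ', hδ'v⟩ : ∃ δ' : P ⟶ G, v ≫ δ' = δ := by
    refine Groth.Agent.Lib.H43LocSplit2.exists_desc Scheme.fppfPrecoverage v hloc hpb δ ?_
    have e : (E ◁ u) ≫ μ[E] = fst E G * (snd E G ≫ u) := by
      rw [Hom.mul_def]
      congr 1
    rw [e, hδmul, hδu, _root_.mul_one]
  -- constant points
  have hpt1 : TwC.pt (Spec (CommRingCat.of k)) Z 1 ≫ eG.inv = 1 := by
    have := hG 1 1
    rw [_root_.mul_one] at this
    simpa using this
  have hptpow : ∀ (T : Over (Spec (CommRingCat.of k))) (m : Z) (n : ℕ),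
      (toUnit T ≫ TwC.pt (Spec (CommRingCat.of k)) Z m ≫ eG.inv) ^ n =
        toUnit T ≫ TwC.pt (Spec (CommRingCat.of k)) Z (m ^ n) ≫ eG.inv := by
    intro T m n
    induction n with
    | zero => rw [pow_zero, pow_zero, hpt1, MonObj.comp_one]
    | succ n ih => rw [pow_succ, pow_succ, ih, ← MonObj.comp_mul, hG]
  have hcomp : CompactSpace P.left := QuasiCompact.compactSpace_of_compactSpace P.hom
  obtain ⟨C, hC⟩ := Groth.Agent.Lib.ConstPts18.exists_finset_idx_mem (δ' ≫ eG.hom)
  have key : ∀ x : E.left, Groth.Agent.Lib.ConstPts18.idx (δ ≫ eG.hom) x = 1 := by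
    intro x
    let T : Over (Spec (CommRingCat.of k)) := Over.mk (E.left.fromSpecResidueField x ≫ E.hom)
    let xb : T ⟶ E := Over.homMk (E.left.fromSpecResidueField x) rfl
    have hsub : Subsingleton T.left :=
      (inferInstance : Subsingleton (Spec (E.left.residueField x)))
    have hne : Nonempty T.left := ⟨IsLocalRing.closedPoint (E.left.residueField x)⟩
    obtain ⟨t₀⟩ := hne
    have hx : xb.left t₀ = x := E.left.fromSpecResidueField_apply x t₀
    obtain ⟨m, hm⟩ : ∃ m, m = Groth.Agent.Lib.ConstPts18.idx (δ ≫ eG.hom) x := ⟨_, rfl⟩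
    rw [← hm]
    have h1 : (xb ≫ δ) ≫ eG.hom = toUnit T ≫ TwC.pt (Spec (CommRingCat.of k)) Z m := by
      have hi : Groth.Agent.Lib.ConstPts18.idx ((xb ≫ δ) ≫ eG.hom) t₀ = m := by
        rw [Category.assoc, Groth.Agent.Lib.ConstPts18.idx_comp, hx, hm]
      have := Groth.Agent.Lib.ConstPts18.exists_eq_pt_of_subsingleton ((xb ≫ δ) ≫ eG.hom) t₀
      rw [hi] at this
      exact this
    have h2 : xb ≫ δ = toUnit T ≫ TwC.pt (Spec (CommRingCat.of k)) Z m ≫ eG.inv := by
      rw [← Category.assoc (toUnit T), ← h1, Category.assoc, Iso.hom_inv_id, Category.comp_id]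
    have h3 : ∀ n : ℕ, m ^ n ∈ C := by
      intro n
      have e1 : (xb ^ n) ≫ δ =
          toUnit T ≫ TwC.pt (Spec (CommRingCat.of k)) Z (m ^ n) ≫ eG.inv := by
        rw [hδpow, h2, hptpow]
      have e2 : Groth.Agent.Lib.ConstPts18.idx (((xb ^ n) ≫ δ) ≫ eG.hom) t₀ = m ^ n := by
        rw [e1, Category.assoc, Category.assoc, Iso.inv_hom_id, Category.comp_id]
        exact Groth.Agent.Lib.ConstPts18.idx_toUnit_pt _ _
      have e3 : ((xb ^ n) ≫ δ) ≫ eG.hom = ((xb ^ n) ≫ v) ≫ (δ' ≫ eG.hom) := by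
        rw [← hδ'v]
        simp only [Category.assoc]
      rw [e3, Groth.Agent.Lib.ConstPts18.idx_comp] at e2
      rw [← e2]
      exact hC _
    have h4 : IsOfFinOrder m := by
      rw [← finite_powers]
      refine (C.finite_toSet).subset ?_
      rintro _ ⟨n, rfl⟩
      exact h3 n
    exact hZ m h4
  have hδ1 : δ = 1 := by
    have := Groth.Agent.Lib.ConstPts18.eq_of_idx_eq (δ ≫ eG.hom) 1 key
    calc δ = (δ ≫ eG.hom) ≫ eG.inv := by
          rw [Category.assoc, Iso.hom_inv_id, Category.comp_id]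
      _ = toUnit E ≫ TwC.pt (Spec (CommRingCat.of k)) Z 1 ≫ eG.inv := by
          rw [this, Category.assoc]
      _ = 1 := by rw [hpt1, MonObj.comp_one]
  have hfin : φ.hom * (𝟙 E)⁻¹ = 1 := by rw [← hδ, hδ1, MonObj.one_comp]
  exact mul_inv_eq_one.1 hfin

end Groth.Agent.S8716
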