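import Groth.Statements.S8719
import Mathlib.RingTheory.MvPowerSeries.Derivative
import Mathlib.RingTheory.MvPowerSeries.Inverse
import Mathlib.LinearAlgebra.Matrix.NonsingularInverse
-- import your own Groth.Agent.* helpers here

set_option autoImplicit false
universe u
open VanCyc

namespace Groth.Agent.S8719

section Helpers

open MvPowerSeries

theorem decomp {R : Type*} [CommRing R] {N : ℕ} (φ : MvPowerSeries (Fin N) R)
    (h0 : constantCoeff φ = 0) :
    ∃ ψ : Fin N → MvPowerSeries (Fin N) R, φ = ∑ j, X j * ψ j ∧
      ∀ j, constantCoeff (ψ j) = coeff (Finsupp.single j 1) φ := by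
  classical
  -- `L d j`: `j` is the least index in the support of `d`
  let L : (Fin N →₀ ℕ) → Fin N → Prop := fun d j => d j ≠ 0 ∧ ∀ i < j, d i = 0
  have hL_unique : ∀ d j j', L d j → L d j' → j = j' := by
    intro d j j' h h'
    rcases lt_trichotomy j j' with hlt | heq | hgt
    · exact absurd (h'.2 j hlt) h.1
    · exact heq
    · exact absurd (h.2 j' hgt) h'.1
  have hL_exists : ∀ d : Fin N →₀ ℕ, d ≠ 0 → ∃ j, L d j := by
    intro d hd
    have hne : d.support.Nonempty := Finsupp.support_nonempty_iff.mpr hd
    refine ⟨d.support.min' hne, ?_, ?_⟩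
    · exact Finsupp.mem_support_iff.mp (Finset.min'_mem _ hne)
    · intro i hi
      by_contra hcon
      have : i ∈ d.support := Finsupp.mem_support_iff.mpr hcon
      exact absurd (Finset.min'_le _ i this) (not_le.mpr hi)
  let ψ : Fin N → MvPowerSeries (Fin N) R := fun j e =>
    if L (e + Finsupp.single j 1) j then coeff (e + Finsupp.single j 1) φ else 0
  have hψ : ∀ j e, coeff e (ψ j) =
      if L (e + Finsupp.single j 1) j then coeff (e + Finsupp.single j 1) φ else 0 :=
    fun j e => rfl
  refine ⟨ψ, ?_, ?_⟩
  · ext d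
    rw [map_sum]
    have key : ∀ j, coeff d (X j * ψ j) = if L d j then coeff d φ else 0 := by
      intro j
      rw [X_def, coeff_monomial_mul]
      by_cases hj : Finsupp.single j 1 ≤ d
      · rw [if_pos hj, one_mul, hψ, tsub_add_cancel_of_le hj]
      · rw [if_neg hj, if_neg]
        intro hLd
        apply hj
        rw [Finsupp.single_le_iff]
        exact Nat.one_le_iff_ne_zero.mpr hLd.1
    simp_rw [key]
    by_cases hd : d = 0
    · subst hd
      have : ∀ j, ¬ L 0 j := fun j h => h.1 rfl
      simp only [this, if_false, Finset.sum_const_zero]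
      rw [coeff_zero_eq_constantCoeff_apply, h0]
    · obtain ⟨j0, hj0⟩ := hL_exists d hd
      have : ∀ j, L d j ↔ j = j0 := fun j => ⟨fun h => hL_unique d j j0 h hj0, fun h => h ▸ hj0⟩
      simp only [this, Finset.sum_ite_eq', Finset.mem_univ, if_true]
  · intro j
    rw [← coeff_zero_eq_constantCoeff_apply, hψ, zero_add, if_pos]
    refine ⟨by simp, ?_⟩
    intro i hi
    simp [hi.ne']


theorem coeff_single_pderiv {R : Type u} [CommRing R] {N : ℕ} (f : MvPowerSeries (Fin N) R) (i j : Fin N) :
    coeff (Finsupp.single j 1) (pderiv R i f) = VanCyc.polarMatrix (VanCyc.quadPart f) i j := by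
  classical
  rw [coeff_pderiv]
  unfold VanCyc.polarMatrix VanCyc.quadPart
  by_cases hij : i = j
  · subst hij
    simp only [if_true, Finsupp.single_eq_same]
    rw [← Finsupp.single_add]
    norm_num
    rw [mul_comm]
  · rw [if_neg hij]
    have h1 : (Finsupp.single j 1 : Fin N →₀ ℕ) i = 0 := Finsupp.single_eq_of_ne hij
    rw [h1]
    rcases lt_or_gt_of_ne hij with hlt | hgt
    · rw [if_pos hlt, if_neg hij, if_pos hlt, add_comm]
      simp
    · rw [if_neg (not_lt.mpr hgt.le), if_neg (Ne.symm hij), if_pos hgt]
      simp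

theorem main (k : Type u) [Field k] (N : ℕ)
    (f : MvPowerSeries (Fin N) k) (hf : VanCyc.NondegQuadSeries f) :
    Ideal.span (Set.range fun i : Fin N => MvPowerSeries.pderiv k i f) =
      IsLocalRing.maximalIdeal (MvPowerSeries (Fin N) k) := by
  classical
  obtain ⟨⟨hf0, hf1⟩, hdet⟩ := hf
  set g : Fin N → MvPowerSeries (Fin N) k := fun i => pderiv k i f with hg
  have hg0 : ∀ i, constantCoeff (g i) = 0 := by
    intro i
    rw [← coeff_zero_eq_constantCoeff_apply, hg, coeff_pderiv, zero_add, hf1, zero_mul]
  choose ψ hψ1 hψ2 using fun i => decomp (g i) (hg0 i)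
  let M : Matrix (Fin N) (Fin N) (MvPowerSeries (Fin N) k) := Matrix.of ψ
  have hMdet : IsUnit M.det := by
    rw [isUnit_iff_constantCoeff, RingHom.map_det]
    have : (constantCoeff (σ := Fin N) (R := k)).mapMatrix M = VanCyc.polarMatrix (VanCyc.quadPart f) := by
      ext i j
      simp only [RingHom.mapMatrix_apply, Matrix.map_apply, M, Matrix.of_apply]
      rw [hψ2, hg, coeff_single_pderiv]
    rw [this]
    exact hdet
  have hMx : M.mulVec (fun j => X j) = g := by
    ext1 i
    rw [hψ1 i]
    simp only [Matrix.mulVec, dotProduct, M, Matrix.of_apply]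
    exact Finset.sum_congr rfl fun j _ => mul_comm _ _
  have hx : (fun j => (X j : MvPowerSeries (Fin N) k)) = M⁻¹.mulVec g := by
    rw [← hMx, Matrix.mulVec_mulVec, Matrix.nonsing_inv_mul _ hMdet, Matrix.one_mulVec]
  set J := Ideal.span (Set.range g) with hJ
  have hXJ : ∀ j, (X j : MvPowerSeries (Fin N) k) ∈ J := by
    intro j
    have := congrFun hx j
    simp only [Matrix.mulVec, dotProduct] at this
    rw [this]
    exact Ideal.sum_mem _ fun i _ => Ideal.mul_mem_left _ _ (Ideal.subset_span ⟨i, rfl⟩)
  apply le_antisymm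
  · rw [Ideal.span_le]
    rintro _ ⟨i, rfl⟩
    rw [SetLike.mem_coe, IsLocalRing.mem_maximalIdeal, mem_nonunits_iff, isUnit_iff_constantCoeff,
      hg0 i]
    exact not_isUnit_zero
  · intro φ hφ
    rw [IsLocalRing.mem_maximalIdeal, mem_nonunits_iff, isUnit_iff_constantCoeff] at hφ
    have h0 : constantCoeff φ = 0 := by
      by_contra h
      exact hφ (isUnit_iff_ne_zero.mpr h)
    obtain ⟨χ, hχ, -⟩ := decomp φ h0
    rw [hχ]
    exact Ideal.sum_mem _ fun j _ => Ideal.mul_mem_right _ _ (hXJ j)

end Helpers

/-- The formal computation carried out in its proof: let k be a field and f a power series in k[[x_0,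
..., x_n]] with vanishing constant and linear terms whose degree-two part is a non-degenerate
quadratic form (the Gram determinant of its polar bilinear form is a unit). Then the partial
derivatives of f generate the maximal ideal of k[[x_0, ..., x_n]] (so f together with its partial
derivatives cut out the origin with multiplicity one). -/
theorem result (k : Type u) [Field k] (n : ℕ)
    (f : MvPowerSeries (Fin (n + 1)) k) (hf : VanCyc.NondegQuadSeries f) :
    Ideal.span (Set.range fun i : Fin (n + 1) => MvPowerSeries.pderiv k i f) =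
      IsLocalRing.maximalIdeal (MvPowerSeries (Fin (n + 1)) k) := by
  exact main k (n + 1) f hf

end Groth.Agent.S8719
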