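import Groth.Statements.S8720
import Mathlib

set_option autoImplicit false
universe u
open VanCyc

namespace Groth.Agent.S8720

open MvPowerSeries

section Decomp
variable {σ : Type*} [Fintype σ] {R : Type*} [CommRing R]

/-- order at least `d`. -/
def OrdGE (d : ℕ) (φ : MvPowerSeries σ R) : Prop := ∀ e : σ →₀ ℕ, e.degree < d → coeff e φ = 0

theorem decomp (φ : MvPowerSeries σ R) (d : ℕ) (h0 : OrdGE (d + 1) φ) :
    ∃ ψ : σ → MvPowerSeries σ R, φ = ∑ j, X j * ψ j ∧ (∀ j, OrdGE d (ψ j)) ∧
      ∀ j, constantCoeff (ψ j) = coeff (Finsupp.single j 1) φ := by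
  classical
  let L : (σ →₀ ℕ) → σ → Prop := fun e j => ∃ h : e.support.Nonempty, j = h.choose
  have hL_unique : ∀ e j j', L e j → L e j' → j = j' := by
    rintro e j j' ⟨h, rfl⟩ ⟨h', rfl⟩; rfl
  have hL_exists : ∀ e : σ →₀ ℕ, e ≠ 0 → ∃ j, L e j := by
    intro e he
    exact ⟨_, Finsupp.support_nonempty_iff.mpr he, rfl⟩
  have hL_mem : ∀ e j, L e j → e j ≠ 0 := by
    rintro e j ⟨h, rfl⟩
    exact Finsupp.mem_support_iff.mp h.choose_spec
  let ψ : σ → MvPowerSeries σ R := fun j e =>
    if L (e + Finsupp.single j 1) j then coeff (e + Finsupp.single j 1) φ else 0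
  have hψ : ∀ j e, coeff e (ψ j) =
      if L (e + Finsupp.single j 1) j then coeff (e + Finsupp.single j 1) φ else 0 :=
    fun j e => rfl
  refine ⟨ψ, ?_, ?_, ?_⟩
  · ext e
    rw [map_sum]
    have key : ∀ j, coeff e (X j * ψ j) = if L e j then coeff e φ else 0 := by
      intro j
      rw [X_def, coeff_monomial_mul]
      by_cases hj : Finsupp.single j 1 ≤ e
      · rw [if_pos hj, one_mul, hψ, tsub_add_cancel_of_le hj]
      · rw [if_neg hj, if_neg]
        intro hLd
        apply hj
        rw [Finsupp.single_le_iff]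
        exact Nat.one_le_iff_ne_zero.mpr (hL_mem e j hLd)
    simp_rw [key]
    by_cases he : e = 0
    · subst he
      have : ∀ j, ¬ L 0 j := fun j h => hL_mem 0 j h rfl
      simp only [this, if_false, Finset.sum_const_zero]
      exact h0 0 (by simp)
    · obtain ⟨j0, hj0⟩ := hL_exists e he
      have : ∀ j, L e j ↔ j = j0 := fun j => ⟨fun h => hL_unique e j j0 h hj0, fun h => h ▸ hj0⟩
      simp only [this, Finset.sum_ite_eq', Finset.mem_univ, if_true]
  · intro j e he
    rw [hψ]
    split_ifs with h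
    · apply h0
      rw [map_add, Finsupp.degree_single]
      omega
    · rfl
  · intro j
    rw [← coeff_zero_eq_constantCoeff_apply, hψ, zero_add, if_pos]
    have hne : (Finsupp.single j 1 : σ →₀ ℕ).support.Nonempty := by
      rw [Finsupp.support_single_ne_zero _ one_ne_zero]; exact Finset.singleton_nonempty j
    refine ⟨hne, ?_⟩
    have h1 := Finsupp.mem_support_iff.mp hne.choose_spec
    by_contra hcon
    apply h1
    rw [Finsupp.single_apply, if_neg hcon]

end Decomp


section Main
variable {k : Type u} [Field k] {m : ℕ}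


theorem ordGE_pderiv (s : Option (Fin m ⊕ Fin m)) (d : ℕ)
    (g : MvPowerSeries (Option (Fin m ⊕ Fin m)) k) (hg : OrdGE (d + 1) g) :
    OrdGE d (pderiv k s g) := by
  intro e he
  rw [coeff_pderiv, hg, zero_mul]
  rw [map_add, Finsupp.degree_single]
  omega

theorem X_mem_max (s : Option (Fin m ⊕ Fin m)) :
    (X s : MvPowerSeries (Option (Fin m ⊕ Fin m)) k) ∈
      IsLocalRing.maximalIdeal (MvPowerSeries (Option (Fin m ⊕ Fin m)) k) := by
  rw [IsLocalRing.mem_maximalIdeal, mem_nonunits_iff, isUnit_iff_constantCoeff, constantCoeff_X]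
  exact not_isUnit_zero

/-- the ideal `I`. -/
noncomputable def idI (k : Type u) [Field k] (m : ℕ) :
    Ideal (MvPowerSeries (Option (Fin m ⊕ Fin m)) k) :=
  Ideal.span ({MvPowerSeries.X none ^ 2} ∪
        Set.range fun j : Fin m ⊕ Fin m =>
          (MvPowerSeries.X (some j) : MvPowerSeries (Option (Fin m ⊕ Fin m)) k))

theorem X0sq_mem : (X none ^ 2 : MvPowerSeries (Option (Fin m ⊕ Fin m)) k) ∈ idI k m :=
  Ideal.subset_span (Or.inl rfl)

theorem Xj_mem (j : Fin m ⊕ Fin m) :
    (X (some j) : MvPowerSeries (Option (Fin m ⊕ Fin m)) k) ∈ idI k m :=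
  Ideal.subset_span (Or.inr ⟨j, rfl⟩)

theorem XX_mem (s t : Option (Fin m ⊕ Fin m)) :
    (X s * X t : MvPowerSeries (Option (Fin m ⊕ Fin m)) k) ∈
      Ideal.span {(X none ^ 2 : MvPowerSeries (Option (Fin m ⊕ Fin m)) k)} ⊔
        IsLocalRing.maximalIdeal _ * idI k m := by
  rcases s with _ | j
  · rcases t with _ | j
    · refine Ideal.mem_sup_left ?_
      rw [← pow_two]
      exact Ideal.subset_span rfl
    · exact Ideal.mem_sup_right (Ideal.mul_mem_mul (X_mem_max _) (Xj_mem j))
  · refine Ideal.mem_sup_right ?_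
    rw [mul_comm (X (some j)) (X t)]
    exact Ideal.mul_mem_mul (X_mem_max _) (Xj_mem j)

theorem mem_of_ordGE_two (φ : MvPowerSeries (Option (Fin m ⊕ Fin m)) k) (h : OrdGE 2 φ) :
    φ ∈ Ideal.span {(X none ^ 2 : MvPowerSeries (Option (Fin m ⊕ Fin m)) k)} ⊔
        IsLocalRing.maximalIdeal _ * idI k m := by
  obtain ⟨ψ, hψ, hψ1, -⟩ := decomp φ 1 h
  rw [hψ]
  refine Ideal.sum_mem _ fun s _ => ?_
  obtain ⟨χ, hχ, -, -⟩ := decomp (ψ s) 0 (hψ1 s)
  rw [hχ, Finset.mul_sum]
  refine Ideal.sum_mem _ fun t _ => ?_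
  rw [← mul_assoc]
  exact Ideal.mul_mem_right _ _ (XX_mem s t)

theorem sup_le_idI :
    Ideal.span {(X none ^ 2 : MvPowerSeries (Option (Fin m ⊕ Fin m)) k)} ⊔
        IsLocalRing.maximalIdeal _ * idI k m ≤ idI k m := by
  refine sup_le ?_ Ideal.mul_le_right
  rw [Ideal.span_le, Set.singleton_subset_iff]
  exact X0sq_mem

theorem mem_of_ordGE_three (φ : MvPowerSeries (Option (Fin m ⊕ Fin m)) k) (h : OrdGE 3 φ) :
    φ ∈ IsLocalRing.maximalIdeal _ * idI k m := by
  obtain ⟨ψ, hψ, hψ1, -⟩ := decomp φ 2 h
  rw [hψ]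
  refine Ideal.sum_mem _ fun s _ => ?_
  exact Ideal.mul_mem_mul (X_mem_max s) (sup_le_idI (mem_of_ordGE_two _ (hψ1 s)))


/-- the quadratic form. -/
noncomputable def qf (k : Type u) [Field k] (m : ℕ) : MvPowerSeries (Option (Fin m ⊕ Fin m)) k :=
  MvPowerSeries.X none ^ 2 +
    ∑ i : Fin m, MvPowerSeries.X (some (Sum.inl i)) * MvPowerSeries.X (some (Sum.inr i))

theorem pderiv_qf_inl (i0 : Fin m) :
    pderiv k (some (Sum.inl i0)) (qf k m) = X (some (Sum.inr i0)) := by
  unfold qf
  rw [map_add, pderiv_pow, pderiv_X_of_ne (by simp), mul_zero, zero_add, map_sum]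
  rw [Finset.sum_eq_single i0]
  · rw [Derivation.leibniz, pderiv_X_of_ne (by simp), pderiv_X_self, smul_zero, zero_add,
      smul_eq_mul, mul_one]
  · intro i _ hi
    rw [Derivation.leibniz, pderiv_X_of_ne (by simp), pderiv_X_of_ne (by simpa using hi),
      smul_zero, smul_zero, add_zero]
  · simp

theorem pderiv_qf_inr (i0 : Fin m) :
    pderiv k (some (Sum.inr i0)) (qf k m) = X (some (Sum.inl i0)) := by
  unfold qf
  rw [map_add, pderiv_pow, pderiv_X_of_ne (by simp), mul_zero, zero_add, map_sum]
  rw [Finset.sum_eq_single i0]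
  · rw [Derivation.leibniz, pderiv_X_self, pderiv_X_of_ne (by simp), smul_zero, add_zero,
      smul_eq_mul, mul_one]
  · intro i _ hi
    rw [Derivation.leibniz, pderiv_X_of_ne (by simpa using hi), pderiv_X_of_ne (by simp),
      smul_zero, smul_zero, add_zero]
  · simp

theorem pderiv_qf_none [CharP k 2] : pderiv k none (qf k m) = 0 := by
  unfold qf
  have h2 : (2 : MvPowerSeries (Option (Fin m ⊕ Fin m)) k) = 0 := by
    have h : (2 : k) = 0 := by
      have := CharP.cast_eq_zero k 2
      exact_mod_cast this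
    rw [← map_ofNat (C : k →+* MvPowerSeries (Option (Fin m ⊕ Fin m)) k) 2, h, map_zero]
  rw [map_add, pderiv_pow, Nat.cast_ofNat, h2, zero_mul, zero_mul, zero_add, map_sum]
  refine Finset.sum_eq_zero fun i _ => ?_
  rw [Derivation.leibniz, pderiv_X_of_ne (by simp), pderiv_X_of_ne (by simp), smul_zero,
    smul_zero, add_zero]

theorem qf_mem : qf k m ∈ idI k m := by
  unfold qf
  refine Ideal.add_mem _ X0sq_mem (Ideal.sum_mem _ fun i _ => ?_)
  exact Ideal.mul_mem_left _ _ (Xj_mem _)

theorem qf_sub_mem :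
    qf k m - X none ^ 2 ∈ IsLocalRing.maximalIdeal _ * idI k m := by
  unfold qf
  rw [add_sub_cancel_left]
  refine Ideal.sum_mem _ fun i _ => ?_
  exact Ideal.mul_mem_mul (X_mem_max _) (Xj_mem _)

theorem pderiv_qf_mem [CharP k 2] (s : Option (Fin m ⊕ Fin m)) :
    pderiv k s (qf k m) ∈ idI k m := by
  rcases s with _ | (i | i)
  · rw [pderiv_qf_none]; exact Ideal.zero_mem _
  · rw [pderiv_qf_inl]; exact Xj_mem _
  · rw [pderiv_qf_inr]; exact Xj_mem _

theorem ideal_eq [CharP k 2] (f : MvPowerSeries (Option (Fin m ⊕ Fin m)) k)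
    (hf : OrdGE 3 (f - qf k m)) :
    Ideal.span ({f} ∪ Set.range fun i : Option (Fin m ⊕ Fin m) => MvPowerSeries.pderiv k i f) =
      idI k m := by
  have hfdec : f = qf k m + (f - qf k m) := by ring
  have hpd : ∀ s, pderiv k s f = pderiv k s (qf k m) + pderiv k s (f - qf k m) := by
    intro s
    rw [← map_add, ← hfdec]
  have hg2 : ∀ s, pderiv k s (f - qf k m) ∈
      Ideal.span {(X none ^ 2 : MvPowerSeries (Option (Fin m ⊕ Fin m)) k)} ⊔
        IsLocalRing.maximalIdeal _ * idI k m :=
    fun s => mem_of_ordGE_two _ (ordGE_pderiv s 2 _ hf)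
  have hg3 := mem_of_ordGE_three _ hf
  apply le_antisymm
  · rw [Ideal.span_le]
    rintro _ (rfl | ⟨s, rfl⟩)
    · rw [SetLike.mem_coe, hfdec]
      exact Ideal.add_mem _ qf_mem (Ideal.mul_le_right hg3)
    · beta_reduce
      rw [SetLike.mem_coe, hpd]
      exact Ideal.add_mem _ (pderiv_qf_mem s) (sup_le_idI (hg2 s))
  · set J := Ideal.span ({f} ∪ Set.range fun i : Option (Fin m ⊕ Fin m) =>
      MvPowerSeries.pderiv k i f) with hJ
    have hfJ : f ∈ J := Ideal.subset_span (Or.inl rfl)
    have hpJ : ∀ s, pderiv k s f ∈ J := fun s => Ideal.subset_span (Or.inr ⟨s, rfl⟩)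
    have hfg : (idI k m).FG := by
      unfold idI
      exact Submodule.fg_span ((Set.finite_singleton _).union (Set.finite_range _))
    refine Submodule.le_of_le_smul_of_le_jacobson_bot hfg
      (IsLocalRing.maximalIdeal_le_jacobson _) ?_
    rw [Ideal.smul_eq_mul]
    have hx0 : (X none ^ 2 : MvPowerSeries (Option (Fin m ⊕ Fin m)) k) ∈
        J ⊔ IsLocalRing.maximalIdeal _ * idI k m := by
      have : (X none ^ 2 : MvPowerSeries (Option (Fin m ⊕ Fin m)) k) =
          f - ((qf k m - X none ^ 2) + (f - qf k m)) := by ring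
      rw [this]
      exact Ideal.sub_mem _ (Ideal.mem_sup_left hfJ)
        (Ideal.mem_sup_right (Ideal.add_mem _ qf_sub_mem hg3))
    have hsup : Ideal.span {(X none ^ 2 : MvPowerSeries (Option (Fin m ⊕ Fin m)) k)} ⊔
        IsLocalRing.maximalIdeal _ * idI k m ≤ J ⊔ IsLocalRing.maximalIdeal _ * idI k m := by
      refine sup_le ?_ le_sup_right
      rw [Ideal.span_le, Set.singleton_subset_iff]
      exact hx0
    unfold idI
    rw [Ideal.span_le]
    rintro _ (rfl | ⟨j, rfl⟩)
    · exact hx0
    · beta_reduce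
      rcases j with i | i
      · have : (X (some (Sum.inl i)) : MvPowerSeries (Option (Fin m ⊕ Fin m)) k) =
            pderiv k (some (Sum.inr i)) f - pderiv k (some (Sum.inr i)) (f - qf k m) := by
          rw [hpd, pderiv_qf_inr, add_sub_cancel_right]
        rw [SetLike.mem_coe, this]
        exact Ideal.sub_mem _ (Ideal.mem_sup_left (hpJ _)) (hsup (hg2 _))
      · have : (X (some (Sum.inr i)) : MvPowerSeries (Option (Fin m ⊕ Fin m)) k) =
            pderiv k (some (Sum.inl i)) f - pderiv k (some (Sum.inl i)) (f - qf k m) := by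
          rw [hpd, pderiv_qf_inl, add_sub_cancel_right]
        rw [SetLike.mem_coe, this]
        exact Ideal.sub_mem _ (Ideal.mem_sup_left (hpJ _)) (hsup (hg2 _))


theorem coeff_single_mul (s : Option (Fin m ⊕ Fin m))
    (a b : MvPowerSeries (Option (Fin m ⊕ Fin m)) k) :
    coeff (Finsupp.single s 1) (a * b) =
      coeff 0 a * coeff (Finsupp.single s 1) b + coeff (Finsupp.single s 1) a * coeff 0 b := by
  classical
  rw [coeff_mul, Finsupp.antidiagonal_single, Finset.sum_map]
  simp [Finset.Nat.antidiagonal_succ]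

theorem finrank_quot :
    Module.finrank k (MvPowerSeries (Option (Fin m ⊕ Fin m)) k ⧸ idI k m) = 2 := by
  classical
  let Φ : MvPowerSeries (Option (Fin m ⊕ Fin m)) k →ₗ[k] k × k :=
    (coeff (R := k) (0 : Option (Fin m ⊕ Fin m) →₀ ℕ)).prod
      (coeff (R := k) (Finsupp.single none 1))
  have hΦ : ∀ φ, Φ φ = (coeff 0 φ, coeff (Finsupp.single none 1) φ) := fun φ => rfl
  have hsurj : Function.Surjective Φ := by
    rintro ⟨a, b⟩
    refine ⟨C a + C b * X none, ?_⟩
    rw [hΦ]
    simp [coeff_C_mul, coeff_X, coeff_C]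
  have hker : LinearMap.ker Φ = (idI k m).restrictScalars k := by
    ext φ
    rw [LinearMap.mem_ker, hΦ, Submodule.restrictScalars_mem, Prod.mk_eq_zero]
    constructor
    · rintro ⟨h0, h1⟩
      have hord : OrdGE 1 φ := by
        intro e he
        have : e = 0 := by
          rw [Nat.lt_one_iff] at he
          exact (Finsupp.degree_eq_zero_iff e).mp he
        rw [this, h0]
      obtain ⟨ψ, hψ, -, hψ2⟩ := decomp φ 0 hord
      rw [hψ]
      refine Ideal.sum_mem _ fun s _ => ?_
      rcases s with _ | j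
      · have hord' : OrdGE 1 (ψ none) := by
          intro e he
          have : e = 0 := by
            rw [Nat.lt_one_iff] at he
            exact (Finsupp.degree_eq_zero_iff e).mp he
          rw [this, coeff_zero_eq_constantCoeff_apply, hψ2, h1]
        obtain ⟨χ, hχ, -, -⟩ := decomp (ψ none) 0 hord'
        rw [hχ, Finset.mul_sum]
        refine Ideal.sum_mem _ fun t _ => ?_
        rw [← mul_assoc]
        exact Ideal.mul_mem_right _ _ (sup_le_idI (XX_mem none t))
      · exact Ideal.mul_mem_right _ _ (Xj_mem j)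
    · intro hφ
      unfold idI at hφ
      refine Submodule.span_induction (p := fun φ _ => coeff 0 φ = 0 ∧
        coeff (Finsupp.single none 1) φ = 0) ?_ ?_ ?_ ?_ hφ
      · rintro _ (rfl | ⟨j, rfl⟩)
        · constructor
          · rw [coeff_X_pow, if_neg]
            intro h
            have := DFunLike.congr_fun h none
            simp at this
          · rw [coeff_X_pow, if_neg]
            intro h
            have := DFunLike.congr_fun h none
            simp at this
        · constructor
          · rw [coeff_X, if_neg]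
            intro h
            have := DFunLike.congr_fun h (some j)
            simp at this
          · rw [coeff_X, if_neg]
            intro h
            have := DFunLike.congr_fun h none
            simp at this
      · simp
      · rintro a b _ _ ⟨ha0, ha1⟩ ⟨hb0, hb1⟩
        exact ⟨by rw [map_add, ha0, hb0, add_zero], by rw [map_add, ha1, hb1, add_zero]⟩
      · rintro a b _ ⟨hb0, hb1⟩
        rw [smul_eq_mul]
        constructor
        · rw [coeff_zero_eq_constantCoeff_apply, map_mul, ← coeff_zero_eq_constantCoeff_apply (φ := b),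
            hb0, mul_zero]
        · rw [coeff_single_mul, hb0, hb1, mul_zero, mul_zero, add_zero]
  have e1 := (Submodule.Quotient.restrictScalarsEquiv k (idI k m)).symm
  have e2 := Submodule.quotEquivOfEq _ _ hker.symm
  have e3 := Φ.quotKerEquivOfSurjective hsurj
  rw [(e1.trans (e2.trans e3)).finrank_eq, Module.finrank_prod, Module.finrank_self]

end Main

/-- The formal computation carried out in its proof: let k be a field of characteristic 2, m a natural
number, and f a power series over k in the variables x_0 and x_i, x_i' (i = 1, ..., m) whose terms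
of degree less than 3 are exactly those of x_0^2 + x_1 x_1' + ... + x_m x_m'. Then the ideal
generated by f and all its partial derivatives is the ideal generated by x_0^2 and the x_i, x_i',
and the quotient of the power series ring by this ideal is two-dimensional over k. (Characteristic 2
is what makes the derivative in x_0 lose its linear term.) -/
theorem result (k : Type u) [Field k] [CharP k 2] (m : ℕ)
    (f : MvPowerSeries (Option (Fin m ⊕ Fin m)) k)
    (hf : ∀ d : Option (Fin m ⊕ Fin m) →₀ ℕ, d.degree < 3 →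
      MvPowerSeries.coeff d f = MvPowerSeries.coeff d
        (MvPowerSeries.X none ^ 2 +
          ∑ i : Fin m, MvPowerSeries.X (some (Sum.inl i)) * MvPowerSeries.X (some (Sum.inr i)))) :
    Ideal.span ({f} ∪ Set.range fun i : Option (Fin m ⊕ Fin m) => MvPowerSeries.pderiv k i f) =
      Ideal.span ({MvPowerSeries.X none ^ 2} ∪
        Set.range fun j : Fin m ⊕ Fin m => (MvPowerSeries.X (some j) : MvPowerSeries (Option (Fin m ⊕ Fin m)) k)) ∧
    Module.finrank k (MvPowerSeries (Option (Fin m ⊕ Fin m)) k ⧸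
      Ideal.span ({MvPowerSeries.X none ^ 2} ∪
        Set.range fun j : Fin m ⊕ Fin m => (MvPowerSeries.X (some j) : MvPowerSeries (Option (Fin m ⊕ Fin m)) k))) = 2 := by
  have hord : OrdGE 3 (f - qf k m) := by
    intro e he
    rw [map_sub, hf e he]
    exact sub_self _
  exact ⟨ideal_eq f hord, finrank_quot⟩

end Groth.Agent.S8720
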