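import Mathlib
import Groth.Agent.Lib.QLinear27
import Groth.Statements.S8721

set_option autoImplicit false
universe u v
open SGA7II

namespace Groth.Agent.S8721

section Helpers

variable {k : Type u} [Field k] {p r : ℕ} {V : Type v} [AddCommGroup V] [Module k V]
  (φ : V →+ V) (hφ : ∀ (c : k) (v : V), φ (c • v) = c ^ (p ^ r) • φ v)

/-- span of the image of the `n`-th iterate -/
def U (k : Type u) [Field k] {V : Type v} [AddCommGroup V] [Module k V] (φ : V →+ V) (n : ℕ) :
    Submodule k V := Submodule.span k (Set.range ((⇑φ)^[n]))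

include hφ in
theorem map_mem_U_succ (n : ℕ) (x : V) (hx : x ∈ U k φ n) : φ x ∈ U k φ (n + 1) := by
  induction hx using Submodule.span_induction with
  | mem y hy =>
    obtain ⟨z, rfl⟩ := hy
    apply Submodule.subset_span
    exact ⟨z, Function.iterate_succ_apply' _ _ _⟩
  | zero => rw [map_zero]; exact Submodule.zero_mem _
  | add y z _ _ hy hz => rw [map_add]; exact Submodule.add_mem _ hy hz
  | smul c y _ hy => rw [hφ]; exact Submodule.smul_mem _ _ hy

theorem U_succ_le_span_image (n : ℕ) :
    U k φ (n + 1) ≤ Submodule.span k (φ '' (U k φ n : Set V)) := by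
  rw [U, Submodule.span_le]
  rintro _ ⟨z, rfl⟩
  apply Submodule.subset_span
  refine ⟨(⇑φ)^[n] z, Submodule.subset_span ⟨z, rfl⟩, ?_⟩
  exact (Function.iterate_succ_apply' _ _ _).symm

include hφ in
theorem U_succ_eq (n : ℕ) :
    U k φ (n + 1) = Submodule.span k (φ '' (U k φ n : Set V)) := by
  apply le_antisymm (U_succ_le_span_image φ n)
  rw [Submodule.span_le]
  rintro _ ⟨x, hx, rfl⟩
  exact map_mem_U_succ φ hφ n x hx

theorem U_antitone : Antitone (U k φ) := by
  apply antitone_nat_of_succ_le
  intro n
  rw [U, Submodule.span_le]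
  rintro _ ⟨z, rfl⟩
  apply Submodule.subset_span
  exact ⟨φ z, (Function.iterate_succ_apply _ _ _).symm⟩

include hφ in
theorem U_stable (N : ℕ) (h : U k φ N = U k φ (N + 1)) (j : ℕ) : U k φ (N + j) = U k φ N := by
  induction j with
  | zero => rfl
  | succ j ih =>
    rw [← add_assoc, U_succ_eq φ hφ, ih, ← U_succ_eq φ hφ, ← h]

end Helpers

/-- Let k be a separably closed field of characteristic p > 0, q = p^r with r >= 1, V a
finite-dimensional k-vector space and phi : V -> V additive with phi(c v) = c^q phi(v). Let V_ss be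
the intersection, over n >= 1, of the k-subspaces spanned by the images of the iterates phi^n (the
semisimple part of V). Then V_ss has a k-basis consisting of phi-fixed vectors, and every phi-fixed
vector of V is a linear combination of this basis with coefficients c satisfying c^q = c; that is,
V_ss is obtained from the F_q-space of fixed vectors by extension of scalars. -/
theorem result (k : Type u) [Field k] [IsSepClosed k] (p : ℕ)
    [Fact p.Prime] [CharP k p] (r : ℕ) (hr : 0 < r) (V : Type v) [AddCommGroup V] [Module k V]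
    [FiniteDimensional k V] (φ : V →+ V) (hφ : ∀ (c : k) (v : V), φ (c • v) = c ^ (p ^ r) • φ v) :
    let Vss : Submodule k V := ⨅ n : ℕ, Submodule.span k (Set.range (φ^[n + 1]))
    ∃ b : Module.Basis (Fin (Module.finrank k ↥Vss)) k ↥Vss, (∀ i, φ (b i : V) = (b i : V)) ∧
      ∀ v : V, φ v = v → ∃ c : Fin (Module.finrank k ↥Vss) → k,
        (∀ i, c i ^ (p ^ r) = c i) ∧ v = ∑ i, c i • (b i : V) := by
  intro Vss
  classical
  -- stabilization
  obtain ⟨N, hN⟩ := IsArtinian.monotone_stabilizes
    (⟨fun n => OrderDual.toDual (U k φ n), fun a b hab => U_antitone φ hab⟩ :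
      ℕ →o (Submodule k V)ᵒᵈ)
  have hN1 : U k φ N = U k φ (N + 1) := by
    have := hN (N + 1) (by omega)
    exact congrArg OrderDual.ofDual this
  have hstab := U_stable φ hφ N hN1
  have hVss : Vss = U k φ (N + 1) := by
    apply le_antisymm
    · exact iInf_le _ N
    · apply le_iInf
      intro n
      change U k φ (N + 1) ≤ U k φ (n + 1)
      by_cases hn : n + 1 ≤ N + 1
      · exact U_antitone φ hn
      · have : n + 1 = N + (n + 1 - N) := by omega
        rw [this, hstab (n + 1 - N), ← hN1]
  have hVss' : Vss = U k φ N := by rw [hVss, ← hN1]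
  have hstabV : ∀ x ∈ Vss, φ x ∈ Vss := by
    intro x hx
    rw [hVss]
    rw [hVss'] at hx
    exact map_mem_U_succ φ hφ N x hx
  let φW : Vss →+ Vss :=
    { toFun := fun x => ⟨φ x, hstabV x x.2⟩
      map_zero' := by ext; simp
      map_add' := fun x y => by ext; simp }
  have hφW : ∀ (c : k) (x : Vss), φW (c • x) = c ^ (p ^ r) • φW x := by
    intro c x
    ext
    change φ (c • (x : V)) = c ^ (p ^ r) • φ (x : V)
    exact hφ c x
  have hssW : Submodule.span k (Set.range φW) = ⊤ := by
    rw [eq_top_iff]
    rintro ⟨x, hx⟩ -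
    have hx' : x ∈ Submodule.span k (φ '' (U k φ N : Set V)) := by
      rw [← U_succ_eq φ hφ, ← hVss]
      exact hx
    -- move into the subtype
    have key : ∀ y ∈ Submodule.span k (φ '' (U k φ N : Set V)), ∀ hy : y ∈ Vss,
        (⟨y, hy⟩ : Vss) ∈ Submodule.span k (Set.range φW) := by
      intro y hy
      induction hy using Submodule.span_induction with
      | mem z hz =>
        intro hzV
        obtain ⟨t, ht, rfl⟩ := hz
        apply Submodule.subset_span
        refine ⟨⟨t, by rw [hVss']; exact ht⟩, ?_⟩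
        rfl
      | zero =>
        intro _
        exact Submodule.zero_mem _
      | add y z hy' hz' hy hz =>
        intro _
        have hyV : y ∈ Vss := by rw [hVss, U_succ_eq φ hφ]; exact hy'
        have hzV : z ∈ Vss := by rw [hVss, U_succ_eq φ hφ]; exact hz'
        have : (⟨y + z, ‹_›⟩ : Vss) = ⟨y, hyV⟩ + ⟨z, hzV⟩ := rfl
        rw [this]
        exact Submodule.add_mem _ (hy hyV) (hz hzV)
      | smul c y hy' hy =>
        intro _
        have hyV : y ∈ Vss := by rw [hVss, U_succ_eq φ hφ]; exact hy'
        have : (⟨c • y, ‹_›⟩ : Vss) = c • ⟨y, hyV⟩ := rfl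
        rw [this]
        exact Submodule.smul_mem _ _ (hy hyV)
    exact key x hx' hx
  obtain ⟨b, hb⟩ := Groth.Agent.Lib.QLinear27.exists_basis_fixed k p r hr Vss φW hφW hssW
  refine ⟨b, fun i => congrArg Subtype.val (hb i), ?_⟩
  intro v hv
  have hvn : ∀ n : ℕ, v ∈ U k φ n := fun n =>
    Submodule.subset_span ⟨v, Function.iterate_fixed hv n⟩
  have hvV : v ∈ Vss := by rw [hVss']; exact hvn N
  have hfixW : φW ⟨v, hvV⟩ = ⟨v, hvV⟩ := Subtype.ext hv
  have hcoord := Groth.Agent.Lib.QLinear27.repr_pow_eq_of_iterate_fixed k p r Vss φW hφW b hb 1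
    ⟨v, hvV⟩ (by simpa using hfixW)
  refine ⟨fun i => b.repr ⟨v, hvV⟩ i, fun i => by simpa using hcoord i, ?_⟩
  have h := congrArg Subtype.val (b.sum_repr ⟨v, hvV⟩)
  simp only [Submodule.coe_sum, Submodule.coe_smul] at h
  exact h.symm

end Groth.Agent.S8721
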