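import Groth.Statements.S8724
import Mathlib.Data.Nat.Choose.Sum
import Mathlib.Algebra.Ring.GeomSum
-- import your own Groth.Agent.* helpers here

set_option autoImplicit false
open LefPen

namespace Groth.Agent.S8724

section Helpers

open Finset

variable {R : Type*} [CommRing R]


theorem sum_triangle (f : ℕ → ℕ → R) (n N : ℕ) (h : n ≤ N) :
    ∑ i ∈ range N, ∑ j ∈ range N, (if i + j < n then f i j else 0) =
      ∑ m ∈ range n, ∑ i ∈ range (m + 1), f i (m - i) := by
  rw [← Finset.sum_product', ← Finset.sum_filter, Finset.sum_sigma']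
  refine Finset.sum_nbij' (fun p => ⟨p.1 + p.2, p.1⟩) (fun q => (q.2, q.1 - q.2)) ?_ ?_ ?_ ?_ ?_
  · intro p hp
    simp only [mem_filter, mem_product, mem_range] at hp
    simp only [mem_sigma, mem_range]
    omega
  · intro q hq
    simp only [mem_sigma, mem_range] at hq
    simp only [mem_filter, mem_product, mem_range]
    omega
  · intro p hp
    simp
  · intro q hq
    simp only [mem_sigma, mem_range] at hq
    obtain ⟨m, i⟩ := q
    simp only at hq ⊢
    congr 1
    omega
  · intro p hp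
    simp

theorem one_add_pow_eq (y : R) (n : ℕ) :
    (1 + y) ^ n = ∑ m ∈ range (n + 1), (n.choose m : R) * y ^ m := by
  rw [add_comm, add_pow]
  refine Finset.sum_congr rfl fun m _ => ?_
  simp [mul_comm]

theorem id1 (y z : R) (n : ℕ) :
    (1 + y) ^ n - (1 + z) ^ n =
      (y - z) * ∑ i ∈ range (n + 1), ∑ j ∈ range (n + 1),
        if i + j + 1 ≤ n then (n.choose (i + j + 1) : R) * y ^ i * z ^ j else 0 := by
  have h := sum_triangle (fun i j => (n.choose (i + j + 1) : R) * y ^ i * z ^ j) n (n + 1)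
    (Nat.le_succ n)
  simp only [Nat.succ_le_iff] at *
  rw [h, one_add_pow_eq, one_add_pow_eq, ← Finset.sum_sub_distrib, Finset.sum_range_succ',
    Finset.mul_sum]
  simp only [Nat.choose_zero_right, Nat.cast_one, pow_zero, mul_one, sub_self, add_zero]
  refine Finset.sum_congr rfl fun m hm => ?_
  rw [← mul_sub, ← geom_sum₂_mul, Finset.mul_sum, Finset.sum_mul, Finset.mul_sum]
  refine Finset.sum_congr rfl fun i hi => ?_
  have hi' : i ≤ m := Nat.lt_succ_iff.mp (mem_range.mp hi)
  rw [Nat.add_sub_cancel' hi', Nat.add_sub_cancel]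
  ring

theorem id2 (y z : R) (a : ℕ) (ha : 1 ≤ a) :
    (1 + y) ^ a * z - (1 + z) ^ a * y =
      (y - z) * (-1 + ∑ i ∈ range (a + 1), ∑ j ∈ range (a + 1),
        if 1 ≤ i ∧ 1 ≤ j ∧ i + j ≤ a then (a.choose (i + j) : R) * y ^ i * z ^ j else 0) := by
  obtain ⟨n, rfl⟩ : ∃ n, a = n + 1 := ⟨a - 1, by omega⟩
  have h := sum_triangle (fun i j => ((n + 1).choose (i + j + 2) : R) * y ^ (i + 1) * z ^ (j + 1)) n
    (n + 1) (Nat.le_succ n)
  have e : ∑ i ∈ range (n + 1 + 1), ∑ j ∈ range (n + 1 + 1),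
        (if 1 ≤ i ∧ 1 ≤ j ∧ i + j ≤ n + 1 then ((n + 1).choose (i + j) : R) * y ^ i * z ^ j else 0) =
      ∑ i ∈ range (n + 1), ∑ j ∈ range (n + 1),
        (if i + j < n then ((n + 1).choose (i + j + 2) : R) * y ^ (i + 1) * z ^ (j + 1) else 0) := by
    rw [Finset.sum_range_succ']
    simp only [Nat.le_zero, one_ne_zero, false_and, if_false, Finset.sum_const_zero, add_zero]
    refine Finset.sum_congr rfl fun i _ => ?_
    rw [Finset.sum_range_succ']
    simp only [Nat.le_zero, one_ne_zero, false_and, and_false, if_false, add_zero]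
    refine Finset.sum_congr rfl fun j _ => ?_
    have : (1 ≤ i + 1 ∧ 1 ≤ j + 1 ∧ i + 1 + (j + 1) ≤ n + 1) ↔ i + j < n := by omega
    rw [if_congr this rfl rfl]
    have e2 : i + 1 + (j + 1) = i + j + 2 := by omega
    rw [e2]
  rw [e, h]
  rw [one_add_pow_eq, one_add_pow_eq, Finset.sum_mul, Finset.sum_mul, ← Finset.sum_sub_distrib,
    Finset.sum_range_succ', Finset.sum_range_succ', mul_add, Finset.mul_sum]
  simp only [Nat.choose_zero_right, Nat.cast_one, pow_zero, mul_one, one_mul, Nat.choose_one_right,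
    pow_one, zero_add]
  have : ∀ m ∈ range n, ((n + 1).choose (m + 1 + 1) : R) * y ^ (m + 1 + 1) * z -
      ((n + 1).choose (m + 1 + 1) : R) * z ^ (m + 1 + 1) * y =
      (y - z) * ∑ i ∈ range (m + 1), ((n + 1).choose (i + (m - i) + 2) : R) * y ^ (i + 1) * z ^ (m - i + 1) := by
    intro m hm
    have : ((n + 1).choose (m + 1 + 1) : R) * y ^ (m + 1 + 1) * z -
      ((n + 1).choose (m + 1 + 1) : R) * z ^ (m + 1 + 1) * y =
        ((n + 1).choose (m + 1 + 1) : R) * y * z * (y ^ (m + 1) - z ^ (m + 1)) := by ring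
    rw [this, ← geom_sum₂_mul, Finset.mul_sum, Finset.sum_mul, Finset.mul_sum]
    refine Finset.sum_congr rfl fun i hi => ?_
    have hi' : i ≤ m := Nat.lt_succ_iff.mp (mem_range.mp hi)
    rw [Nat.add_sub_cancel' hi', Nat.add_sub_cancel]
    ring
  rw [Finset.sum_congr rfl this]
  ring

end Helpers

/-- The algebraic identity established in its proof: let a >= 1 and work in Z[y, z]. Then (1+y)^(a-1) -
(1+z)^(a-1) = (y - z) * (sum over i, j >= 0 with i + j + 1 <= a - 1 of C(a-1, i+j+1) y^i z^j), and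
(1+y)^a z - (1+z)^a y = (y - z) * (-1 + sum over i, j >= 1 with i + j <= a of C(a, i+j) y^i z^j).
Consequently the rational function -((1+y)^(a-1) - (1+z)^(a-1)) / ((1+y)^a z - (1+z)^a y), the
generating series of the primitive middle Hodge numbers of smooth hypersurfaces of degree a, equals
(sum_{i,j >= 0} C(a-1, i+j+1) y^i z^j) / (1 - sum_{i,j >= 1} C(a, i+j) y^i z^j). -/
theorem result (a : ℕ) (ha : 1 ≤ a) :
    let y : MvPolynomial (Fin 2) ℤ := MvPolynomial.X 0
    let z : MvPolynomial (Fin 2) ℤ := MvPolynomial.X 1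
    ((1 + y) ^ (a - 1) - (1 + z) ^ (a - 1) =
      (y - z) * ∑ i ∈ Finset.range a, ∑ j ∈ Finset.range a,
        if i + j + 1 ≤ a - 1 then ((a - 1).choose (i + j + 1) : MvPolynomial (Fin 2) ℤ) * y ^ i * z ^ j else 0) ∧
    ((1 + y) ^ a * z - (1 + z) ^ a * y =
      (y - z) * (-1 + ∑ i ∈ Finset.range (a + 1), ∑ j ∈ Finset.range (a + 1),
        if 1 ≤ i ∧ 1 ≤ j ∧ i + j ≤ a then (a.choose (i + j) : MvPolynomial (Fin 2) ℤ) * y ^ i * z ^ j else 0)) := by
  intro y z
  obtain ⟨n, rfl⟩ : ∃ n, a = n + 1 := ⟨a - 1, by omega⟩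
  refine ⟨?_, id2 y z (n + 1) ha⟩
  have := id1 y z n
  simpa only [Nat.add_sub_cancel] using this

end Groth.Agent.S8724
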