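import Groth.Statements.S8736
import Groth.Agent.Lib.HodgeCI38

set_option autoImplicit false
open LefPen

namespace Groth.Agent.S8736

/-- For the generating series of a multidegree: let a_1, ..., a_d (d >= 1) be degrees, H_i and H = sum
h^{p,q} y^p z^q the series built from them as follows — H_i is determined by (1 - sum_{u, v >= 1, u
+ v <= a_i} C(a_i, u+v) y^u z^v) H_i = sum_{u, v >= 0, u + v + 1 <= a_i - 1} C(a_i - 1, u+v+1) y^u
z^v and H = sum over nonempty P ⊆ {1..d} of ((1+y)(1+z))^(|P|-1) prod_{i in P} H_i — let i₀ be an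
index with a_{i₀} = max_i a_i, and let 0 <= l < n be integers with l ≡ n mod 2. Then the Hodge level
of degree n is at most l, i.e. h^{p,q} = 0 for all p <= q with p + q = n and q - p > l, if and only
if 2 · sum_{i ≠ i₀} (a_i - 1) + (a_{i₀} - 2)(n - l) <= 2 (l + 1). -/
theorem result (d : ℕ) (hd : 1 ≤ d) (a : Fin d → ℕ) (ha : ∀ i, 1 ≤ a i)
    (i₀ : Fin d) (hi₀ : ∀ i, a i ≤ a i₀)
    (Hs : Fin d → MvPowerSeries (Fin 2) ℤ) (n l : ℕ) (hl : l < n) (hpar : l % 2 = n % 2) :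
    let y : MvPowerSeries (Fin 2) ℤ := MvPowerSeries.X 0
    let z : MvPowerSeries (Fin 2) ℤ := MvPowerSeries.X 1
    let Pser : ℕ → MvPowerSeries (Fin 2) ℤ := fun b => ∑ u ∈ Finset.range (b + 1), ∑ v ∈ Finset.range (b + 1),
      if 1 ≤ u ∧ 1 ≤ v ∧ u + v ≤ b then (b.choose (u + v) : MvPowerSeries (Fin 2) ℤ) * y ^ u * z ^ v else 0
    let Nser : ℕ → MvPowerSeries (Fin 2) ℤ := fun b => ∑ u ∈ Finset.range b, ∑ v ∈ Finset.range b,
      if u + v + 1 ≤ b - 1 then ((b - 1).choose (u + v + 1) : MvPowerSeries (Fin 2) ℤ) * y ^ u * z ^ v else 0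
    (∀ i, (1 - Pser (a i)) * Hs i = Nser (a i)) →
    let H : MvPowerSeries (Fin 2) ℤ := ∑ P ∈ (Finset.univ : Finset (Fin d)).powerset with P.Nonempty,
      ((1 + y) * (1 + z)) ^ (P.card - 1) * ∏ i ∈ P, Hs i
    (∀ p q : ℕ, p + q = n → p ≤ q → l < q - p →
        MvPowerSeries.coeff (Finsupp.single 0 p + Finsupp.single 1 q) H = 0) ↔
      2 * (∑ i ∈ Finset.univ.erase i₀, ((a i : ℤ) - 1)) + ((a i₀ : ℤ) - 2) * ((n : ℤ) - l) ≤ 2 * ((l : ℤ) + 1) := by
  intro y z Pser Nser hH H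
  have key : ∀ p q : ℕ, p ≤ q →
      (MvPowerSeries.coeff (Finsupp.single 0 p + Finsupp.single 1 q) H ≠ 0 ↔
        p + q + d < p * Finset.univ.sup a + ∑ i, a i) := fun p q hpq =>
    Groth.Agent.Lib.HodgeCI38.coeff_Hser_ne_zero_iff d a ha Hs hH p q hpq
  have hA : Finset.univ.sup a = a i₀ :=
    le_antisymm (Finset.sup_le (fun i _ => hi₀ i)) (Finset.le_sup (Finset.mem_univ i₀))
  rw [hA] at key
  obtain ⟨s', hs⟩ : ∃ s', n = l + 2 * (s' + 1) := ⟨(n - l) / 2 - 1, by omega⟩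
  have hsumZ : ∑ i ∈ Finset.univ.erase i₀, ((a i : ℤ) - 1) =
      ((∑ i, a i : ℕ) : ℤ) - a i₀ - ((d : ℤ) - 1) := by
    rw [Finset.sum_sub_distrib, Finset.sum_erase_eq_sub (Finset.mem_univ i₀), Finset.sum_const,
      Finset.card_erase_of_mem (Finset.mem_univ i₀), Finset.card_univ, Fintype.card_fin]
    rw [nsmul_eq_mul, mul_one, Nat.cast_sub hd]
    push_cast
    ring
  have hZ : (2 * (∑ i ∈ Finset.univ.erase i₀, ((a i : ℤ) - 1)) +
      ((a i₀ : ℤ) - 2) * ((n : ℤ) - l) ≤ 2 * ((l : ℤ) + 1)) ↔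
      s' * a i₀ + ∑ i, a i ≤ n + d := by
    rw [hsumZ, hs]
    generalize ∑ i, a i = sa
    constructor
    · intro h
      zify
      push_cast at h ⊢
      nlinarith
    · intro h
      zify at h
      push_cast at h ⊢
      nlinarith
  rw [hZ]
  constructor
  · intro h
    have h1 := h s' (l + s' + 2) (by omega) (by omega) (by omega)
    have h2 := (not_iff_not.mpr (key s' (l + s' + 2) (by omega))).mp (by simpa using h1)
    omega
  · intro h p q hpqn hpq hl
    by_contra hne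
    have h2 := (key p q hpq).mp hne
    have h3 : p ≤ s' := by omega
    have h4 : p * a i₀ ≤ s' * a i₀ := Nat.mul_le_mul_right _ h3
    omega

end Groth.Agent.S8736
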