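import Groth.Statements.S8746
import Mathlib.RingTheory.AdjoinRoot
import Mathlib.RingTheory.Flat.Basic
import Mathlib.RingTheory.RingHom.Flat

set_option autoImplicit false
universe u
open CategoryTheory Limits
open Adeq

namespace Groth.Agent.S8746

open Polynomial TensorProduct

/-- `m ↦ 1 ⊗ m` into the extension of scalars is injective as soon as `S` retracts `R`-linearly onto `R`. -/
lemma mk_inj {R S : Type u} [CommRing R] [CommRing S] (f : R →+* S)
    (c : S →+ R) (hc : ∀ r s, c (f r * s) = r * c s) (hc1 : c 1 = 1) (M : ModuleCat.{u + 1} R)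
    (m m' : M)
    (h : (ModuleCat.extendRestrictScalarsAdj.{u + 1} f).unit.app M m =
      (ModuleCat.extendRestrictScalarsAdj.{u + 1} f).unit.app M m') : m = m' := by
  let S' := (ModuleCat.restrictScalars f).obj (ModuleCat.of S S)
  let c' : S' →ₗ[R] R :=
    { toFun := fun s => c s
      map_add' := c.map_add
      map_smul' := fun r s => hc r s }
  let ρ : S' ⊗[R] M →ₗ[R] M := (TensorProduct.lid R M).toLinearMap ∘ₗ (c'.rTensor M)
  have hρ : ∀ x : M, ρ ((1 : S) ⊗ₜ[R] x) = x := by
    intro x
    change (TensorProduct.lid R M) ((c'.rTensor M) ((1 : S) ⊗ₜ[R] x)) = x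
    rw [LinearMap.rTensor_tmul, TensorProduct.lid_tmul]
    change c 1 • x = x
    rw [hc1, one_smul]
  have := congrArg ρ h
  rw [ModuleCat.extendRestrictScalarsAdj_unit_app_apply, ModuleCat.extendRestrictScalarsAdj_unit_app_apply] at this
  rw [← hρ m, ← hρ m']
  exact this


/-- Let `F`, `G` be module-valued functors on `A`-algebras and `φ` a transformation of the underlying
set-valued functors which is additive and satisfies `φ(uξ) = uφ(ξ)` for units `u`. If `B' ⊗_B G(B) →
G(B')` is an isomorphism for every flat `B → B'`, then `φ` is `B`-linear for every `B`, i.e. a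
morphism of module-valued functors. -/
theorem result (A : Type u) [CommRing A] (F G : Adeq.MVF A)
    (φ : ∀ B : Adeq.Alg A, F.obj (Adeq.pt B) → G.obj (Adeq.pt B))
    (hnat : ∀ ⦃B B' : Adeq.Alg A⦄ (f : B ⟶ B') (x : F.obj (Adeq.pt B)),
      φ B' (F.map (Adeq.ptHom f) x) = G.map (Adeq.ptHom f) (φ B x))
    (hadd : ∀ (B : Adeq.Alg A) (x y : F.obj (Adeq.pt B)), φ B (x + y) = φ B x + φ B y)
    (hunit : ∀ (B : Adeq.Alg A) (v : (B : Type u)ˣ) (x : F.obj (Adeq.pt B)), φ B ((v : B) • x) = (v : B) • φ B x)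
    (hG : ∀ ⦃B B' : Adeq.Alg A⦄ (f : B ⟶ B'), f.hom.toRingHom.Flat → IsIso (G.bc f))
    (B : Adeq.Alg A) (b : B) (x : F.obj (Adeq.pt B)) : φ B (b • x) = b • φ B x := by
  classical
  rcases subsingleton_or_nontrivial (B : Type u) with hsub | hnt
  · have : Subsingleton (G.obj (Adeq.pt B)) := Module.subsingleton (B : Type u) _
    exact Subsingleton.elim _ _
  -- the monic quadratic `X² - (bX + 1)`; in `B' = B[X]/(p)` the root `t` satisfies `t (t - b) = 1`
  let p : (B : Type u)[X] := X ^ 2 - (C b * X + 1)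
  have hdeg : (C b * X + 1 : (B : Type u)[X]).natDegree ≤ 1 := by
    have := natDegree_linear_le (a := b) (b := (1 : B))
    simpa using this
  have hp : p.Monic := by
    apply monic_X_pow_sub
    refine lt_of_le_of_lt (b := (1 : WithBot ℕ)) ?_ (by norm_num)
    have := degree_linear_le (a := b) (b := (1 : B))
    simpa using this
  have hpdeg : p.natDegree = 2 := by
    have h2 : (X ^ 2 : (B : Type u)[X]).natDegree = 2 := natDegree_X_pow 2
    rw [natDegree_sub_eq_left_of_natDegree_lt (by rw [h2]; omega), h2]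
  let B' : Alg A := algOf A (AdjoinRoot p)
  let t : AdjoinRoot p := AdjoinRoot.root p
  let f : B ⟶ B' := CommAlgCat.ofHom (IsScalarTower.toAlgHom A B (AdjoinRoot p))
  have hfb : ∀ r : B, f.hom r = AdjoinRoot.of p r := fun r => rfl
  have ht : t * (t - f.hom b) = 1 := by
    have h0 : AdjoinRoot.mk p p = 0 := AdjoinRoot.mk_self
    have h1 : AdjoinRoot.mk p p = t ^ 2 - (AdjoinRoot.of p b * t + 1) := by
      simp only [p, map_sub, map_add, map_mul, map_pow, map_one, AdjoinRoot.mk_X, AdjoinRoot.mk_C, t]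
    rw [h0] at h1
    rw [hfb]
    linear_combination -h1
  have hflat : f.hom.toRingHom.Flat := by
    have : f.hom.toRingHom = algebraMap B (AdjoinRoot p) := rfl
    rw [this, RingHom.flat_algebraMap_iff]
    have := hp.free_adjoinRoot
    infer_instance
  have hiso := hG f hflat
  -- the two units
  let v₁ : (B' : Type u)ˣ := ⟨t, t - f.hom b, ht, by rw [mul_comm]; exact ht⟩
  let v₂ : (B' : Type u)ˣ := -v₁⁻¹
  have hv : (f.hom b : B') = (v₁ : B') + (v₂ : B') := by
    change f.hom b = t + -(t - f.hom b)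
    ring
  -- coordinate retraction of `B'` onto `B`
  let pb := AdjoinRoot.powerBasis' hp
  have hdim : 0 < pb.dim := by
    change 0 < p.natDegree
    omega
  let c : (AdjoinRoot p) →ₗ[(B : Type u)] (B : Type u) := pb.basis.coord ⟨0, hdim⟩
  have hc1 : c 1 = 1 := by
    have : (1 : AdjoinRoot p) = pb.basis ⟨0, hdim⟩ := by
      rw [pb.basis_eq_pow]; simp
    rw [this]
    change (pb.basis.repr (pb.basis ⟨0, hdim⟩)) ⟨0, hdim⟩ = 1
    rw [Module.Basis.repr_self, Finsupp.single_eq_same]
  have hinj : Function.Injective (G.map (Adeq.ptHom f)) := by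
    intro m m' hmm
    apply mk_inj f.hom.toRingHom c.toAddMonoidHom (fun r s => ?_) hc1 (G.obj (Adeq.pt B)) m m'
    · have h1 : ((ModuleCat.extendRestrictScalarsAdj.{u + 1} f.hom.toRingHom).homEquiv _ _ (G.bc f)) =
          G.map (Adeq.ptHom f) := by
        unfold Adeq.MVF.bc
        exact Equiv.apply_symm_apply _ _
      have key : ∀ y : G.obj (Adeq.pt B), G.map (Adeq.ptHom f) y =
          (G.bc f) ((ModuleCat.extendRestrictScalarsAdj.{u + 1} f.hom.toRingHom).unit.app _ y) := by
        intro y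
        rw [← h1]
        rfl
      have hbij : Function.Injective (G.bc f) :=
        ((ConcreteCategory.isIso_iff_bijective (G.bc f)).mp hiso).1
      apply hbij
      rw [← key, ← key]
      exact hmm
    · change c (algebraMap (B : Type u) (AdjoinRoot p) r * s) = r * c s
      rw [← Algebra.smul_def, map_smul, smul_eq_mul]
  apply hinj
  have hF : F.map (Adeq.ptHom f) (b • x) = (f.hom b : B') • F.map (Adeq.ptHom f) x :=
    PresheafOfModules.map_smul F (Adeq.ptHom f) b x
  have hGs : G.map (Adeq.ptHom f) (b • φ B x) = (f.hom b : B') • G.map (Adeq.ptHom f) (φ B x) :=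
    PresheafOfModules.map_smul G (Adeq.ptHom f) b (φ B x)
  let x' : F.obj (Adeq.pt B') := F.map (Adeq.ptHom f) x
  have e1 : φ B' ((f.hom b : B') • x') = (f.hom b : B') • φ B' x' := by
    rw [hv, add_smul, hadd, hunit, hunit, add_smul]
  have e2 : φ B' x' = G.map (Adeq.ptHom f) (φ B x) := hnat f x
  have s1 : (G.map (Adeq.ptHom f) (φ B (b • x)) : G.obj (Adeq.pt B')) =
      φ B' (F.map (Adeq.ptHom f) (b • x)) := (hnat f _).symm
  have s2 : φ B' (F.map (Adeq.ptHom f) (b • x)) = φ B' ((f.hom b : B') • x') := congrArg (φ B') hF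
  have s3 : (f.hom b : B') • φ B' x' = ((f.hom b : B') • G.map (Adeq.ptHom f) (φ B x) : G.obj (Adeq.pt B')) := by
    rw [e2]
    rfl
  have s4 : ((f.hom b : B') • G.map (Adeq.ptHom f) (φ B x) : G.obj (Adeq.pt B')) =
      G.map (Adeq.ptHom f) (b • φ B x) := hGs.symm
  exact s1.trans (s2.trans (e1.trans (s3.trans s4)))

end Groth.Agent.S8746
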