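import Groth.Statements.S8770
import Groth.Agent.Lib.UnivInj

set_option autoImplicit false
universe u
open PureExt

namespace Groth.Agent.S8770

open Groth.Agent.Lib.UnivInj

variable (R : Type u) [CommRing R] (M : Type u) [AddCommGroup M] [Module R M]

/-- index type: finitely presented quotients of `R^n` with a map to `M`. -/
def Idx : Type u :=
  Σ n : ℕ, Σ K : {K : Submodule R (Fin n → R) // K.FG}, ((Fin n → R) ⧸ K.1) →ₗ[R] M

/-- the family of finitely presented modules -/
def Fam (i : Idx R M) : Type u := (Fin i.1 → R) ⧸ i.2.1.1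

instance (i : Idx R M) : AddCommGroup (Fam R M i) :=
  inferInstanceAs (AddCommGroup ((Fin i.1 → R) ⧸ i.2.1.1))

instance (i : Idx R M) : Module R (Fam R M i) :=
  inferInstanceAs (Module R ((Fin i.1 → R) ⧸ i.2.1.1))

/-- the quotient map into a member of the family -/
def famMk (i : Idx R M) : (Fin i.1 → R) →ₗ[R] Fam R M i := i.2.1.1.mkQ

/-- the structure map of a member of the family -/
def famMap (i : Idx R M) : Fam R M i →ₗ[R] M := i.2.2

theorem famMap_famMk (n : ℕ) (K : Submodule R (Fin n → R)) (hK : K.FG)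
    (φ : ((Fin n → R) ⧸ K) →ₗ[R] M) (v : Fin n → R) :
    famMap R M ⟨n, ⟨K, hK⟩, φ⟩ (famMk R M ⟨n, ⟨K, hK⟩, φ⟩ v) = φ (K.mkQ v) := rfl

theorem famMk_eq_zero (n : ℕ) (K : Submodule R (Fin n → R)) (hK : K.FG)
    (φ : ((Fin n → R) ⧸ K) →ₗ[R] M) (v : Fin n → R) (hv : v ∈ K) :
    famMk R M ⟨n, ⟨K, hK⟩, φ⟩ v = 0 :=
  (Submodule.Quotient.mk_eq_zero K).2 hv

theorem fam_fp (i : Idx R M) : Module.FinitePresentation R (Fam R M i) :=
  Module.finitePresentation_of_surjective (famMk R M i) i.2.1.1.mkQ_surjective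
    (by
      have : LinearMap.ker (famMk R M i) = i.2.1.1 := Submodule.ker_mkQ _
      rw [this]; exact i.2.1.2)

open Classical in
/-- the total map -/
noncomputable def tot : (Π₀ i : Idx R M, Fam R M i) →ₗ[R] M :=
  DFinsupp.lsum ℕ (fun i : Idx R M => famMap R M i)

open Classical in
theorem tot_lsingle (i : Idx R M) (q : Fam R M i) :
    tot R M (DFinsupp.lsingle (R := R) i q) = famMap R M i q := by
  unfold tot
  rw [DFinsupp.lsingle_apply, DFinsupp.lsum_single]

theorem pi_eq_sum {m : ℕ} (v : Fin m → R) : v = ∑ j, v j • (Pi.single j (1 : R) : Fin m → R) := by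
  ext k
  simp [Finset.sum_apply, Pi.single_apply]

open Classical in
theorem equational_ker : Equational (R := R) (M₁ := LinearMap.ker (tot R M))
    (M₂ := Π₀ i : Idx R M, Fam R M i) (LinearMap.ker (tot R M)).subtype := by
  intro n m x y a hxy
  let K : Submodule R (Fin m → R) := Submodule.span R (Set.range a)
  have hKfg : K.FG := Submodule.fg_span (Set.finite_range a)
  -- the map `R^m → M`
  let φ₀ : (Fin m → R) →ₗ[R] M :=
    Fintype.linearCombination R (fun j => tot R M (y j))
  have hφ₀ : ∀ v, φ₀ v = ∑ j, v j • tot R M (y j) := fun v => by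
    simp [φ₀, Fintype.linearCombination_apply]
  have hK : K ≤ LinearMap.ker φ₀ := by
    rw [Submodule.span_le]
    rintro _ ⟨i, rfl⟩
    rw [SetLike.mem_coe, LinearMap.mem_ker, hφ₀]
    have h1 : tot R M ((x i : (Π₀ i : Idx R M, Fam R M i))) = 0 := (x i).2
    have h2 := hxy i
    rw [Submodule.subtype_apply] at h2
    rw [h2, map_sum] at h1
    simpa only [map_smul] using h1
  let φ : ((Fin m → R) ⧸ K) →ₗ[R] M := K.liftQ φ₀ hK
  let i₀ : Idx R M := ⟨m, ⟨K, hKfg⟩, φ⟩
  let y' : Fin m → (Π₀ i : Idx R M, Fam R M i) := fun j =>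
    DFinsupp.lsingle (R := R) i₀ (famMk R M i₀ (Pi.single j (1 : R)))
  have hy' : ∀ j, tot R M (y' j) = tot R M (y j) := by
    intro j
    have h1 : tot R M (y' j) = φ (K.mkQ (Pi.single j (1 : R))) :=
      (tot_lsingle R M i₀ _).trans (famMap_famMk R M m K hKfg φ _)
    rw [h1]
    change φ₀ (Pi.single j (1 : R)) = _
    rw [hφ₀]
    simp [Pi.single_apply]
  have hsum : ∀ i, ∑ j, a i j • y' j = 0 := by
    intro i
    have h1 : ∑ j, a i j • y' j =
        DFinsupp.lsingle (R := R) i₀
          (famMk R M i₀ (∑ j, a i j • (Pi.single j (1 : R) : Fin m → R))) := by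
      simp only [y', map_sum, map_smul]
    rw [h1, ← pi_eq_sum R (a i)]
    have h2 : famMk R M i₀ (a i) = 0 :=
      famMk_eq_zero R M m K hKfg φ _ (Submodule.subset_span ⟨i, rfl⟩)
    rw [h2, map_zero]
  refine ⟨fun j => ⟨y j - y' j, ?_⟩, fun i => ?_⟩
  · rw [LinearMap.mem_ker, map_sub, hy', sub_self]
  · apply Subtype.ext
    have h2 := hxy i
    rw [Submodule.subtype_apply] at h2
    rw [h2]
    simp only [Submodule.coe_sum, Submodule.coe_smul, smul_sub, Finset.sum_sub_distrib, hsum,
      sub_zero]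

open Classical in
theorem tot_surjective : Function.Surjective (tot R M) := by
  intro x
  let φ₀ : (Fin 1 → R) →ₗ[R] M := Fintype.linearCombination R (fun _ => x)
  let K : Submodule R (Fin 1 → R) := ⊥
  let φ : ((Fin 1 → R) ⧸ K) →ₗ[R] M := K.liftQ φ₀ bot_le
  let i₀ : Idx R M := ⟨1, ⟨K, Submodule.fg_bot⟩, φ⟩
  refine ⟨DFinsupp.lsingle (R := R) i₀ (famMk R M i₀ (fun _ => 1)), ?_⟩
  have h1 := (tot_lsingle R M i₀ (famMk R M i₀ (fun _ => 1))).trans
    (famMap_famMk R M 1 K Submodule.fg_bot φ _)
  rw [h1]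
  change φ₀ (fun _ => 1) = x
  simp [φ₀, Fintype.linearCombination_apply]

/-- For every `R`-module `M` there is a universally exact sequence `0 → N → P → M → 0` with `P` pure
projective; this row takes `P` to be a direct sum of finitely presented modules, which is pure
projective: there is a surjection from such a direct sum onto `M` whose kernel inclusion is
universally injective. -/
theorem result (R : Type u) [CommRing R]
    (M : Type u) [AddCommGroup M] [Module R M] :
    ∃ (ι : Type u) (Q : ι → Type u) (_ : ∀ i, AddCommGroup (Q i)) (_ : ∀ i, Module R (Q i)),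
      (∀ i, Module.FinitePresentation R (Q i)) ∧
      ∃ g : (Π₀ i, Q i) →ₗ[R] M, Function.Surjective g ∧
        CAlgX.UniversallyInjective R (LinearMap.ker g).subtype := by
  refine ⟨Idx R M, Fam R M, fun i => inferInstance, fun i => inferInstance, fam_fp R M,
    tot R M, tot_surjective R M, ?_⟩
  intro Q _ _
  exact rTensor_injective_of_equational _ (equational_ker R M) Q

end Groth.Agent.S8770
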