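import Groth.Statements.S8769
import Groth.Agent.Lib.UnivInj
import Groth.Agent.S8770

set_option autoImplicit false
universe u
open PureExt

namespace Groth.Agent.S8769

open Groth.Agent.Lib.UnivInj

theorem pi_eq_sum {R : Type u} [CommRing R] {m : ℕ} (v : Fin m → R) :
    v = ∑ j, v j • (Pi.single j (1 : R) : Fin m → R) := by
  ext k
  simp [Finset.sum_apply, Pi.single_apply]

/-- finitely presented modules are pure projective -/
theorem lift_of_fp (R : Type u) [CommRing R] (Q : Type u) [AddCommGroup Q] [Module R Q]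
    [Module.FinitePresentation R Q]
    {L N : Type u} [AddCommGroup L] [Module R L] [AddCommGroup N] [Module R N] (g : L →ₗ[R] N)
    (hg : Function.Surjective g) (hK : CAlgX.UniversallyInjective R (LinearMap.ker g).subtype)
    (φ : Q →ₗ[R] N) : ∃ ψ : Q →ₗ[R] L, g ∘ₗ ψ = φ := by
  classical
  obtain ⟨n, m, π, ρ, hπ, hex⟩ := Module.FinitePresentation.exists_fin' R Q
  have heq : Equational (LinearMap.ker g).subtype :=
    equational_of_forall_finitePresentation _ (fun Q' _ _ _ => hK Q')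
  choose y hy using fun j : Fin n => hg (φ (π (Pi.single j (1 : R))))
  let a : Fin m → Fin n → R := fun i j => ρ (Pi.single i (1 : R)) j
  have hx : ∀ i, ∑ j, a i j • y j ∈ LinearMap.ker g := by
    intro i
    rw [LinearMap.mem_ker, map_sum]
    simp only [map_smul, hy]
    simp only [← map_smul, ← map_sum]
    have h1 : ∑ j, a i j • (Pi.single j (1 : R) : Fin n → R) = ρ (Pi.single i (1 : R)) :=
      (pi_eq_sum (ρ (Pi.single i (1 : R)))).symm
    rw [h1, hex.apply_apply_eq_zero, map_zero]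
  obtain ⟨z, hz⟩ := heq m n (fun i => ⟨_, hx i⟩) y a (fun i => rfl)
  let y' : Fin n → L := fun j => y j - (z j : L)
  have hy' : ∀ j, g (y' j) = φ (π (Pi.single j (1 : R))) := by
    intro j
    have : g (z j : L) = 0 := (z j).2
    simp only [y', map_sub, hy, this, sub_zero]
  have hsum : ∀ i, ∑ j, a i j • y' j = 0 := by
    intro i
    have h1 := congrArg Subtype.val (hz i)
    simp only [Submodule.coe_sum, Submodule.coe_smul] at h1
    simp only [y', smul_sub, Finset.sum_sub_distrib]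
    rw [← h1, sub_self]
  let ψ₀ : (Fin n → R) →ₗ[R] L := Fintype.linearCombination R y'
  have hψ₀ : ∀ v, ψ₀ v = ∑ j, v j • y' j := fun v => by
    simp [ψ₀, Fintype.linearCombination_apply]
  have hψρ : ψ₀ ∘ₗ ρ = 0 := by
    apply LinearMap.pi_ext'
    intro i
    ext
    simp only [LinearMap.coe_comp, Function.comp_apply, LinearMap.coe_single, LinearMap.zero_apply]
    rw [hψ₀]
    exact hsum i
  have hker : LinearMap.ker π ≤ LinearMap.ker ψ₀ := by
    intro v hv
    rw [LinearMap.mem_ker] at hv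
    obtain ⟨w, rfl⟩ := (hex v).1 hv
    rw [LinearMap.mem_ker, ← LinearMap.comp_apply, hψρ, LinearMap.zero_apply]
  let ψ : Q →ₗ[R] L := (LinearMap.ker π).liftQ ψ₀ hker ∘ₗ
    (π.quotKerEquivOfSurjective hπ).symm.toLinearMap
  have hψπ : ∀ v, ψ (π v) = ψ₀ v := by
    intro v
    have : (π.quotKerEquivOfSurjective hπ).symm (π v) = (LinearMap.ker π).mkQ v := by
      rw [LinearEquiv.symm_apply_eq]
      rfl
    simp only [ψ, LinearMap.coe_comp, LinearEquiv.coe_coe, Function.comp_apply, this]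
    rfl
  refine ⟨ψ, ?_⟩
  ext q
  obtain ⟨v, rfl⟩ := hπ q
  rw [LinearMap.comp_apply, hψπ, hψ₀, map_sum]
  simp only [map_smul, hy']
  simp only [← map_smul, ← map_sum]
  rw [← pi_eq_sum v]

/-- An `R`-module `P` is pure projective (every linear map `P → N` lifts along every surjection `L → N`
for which `0 → ker → L → N → 0` is universally exact, i.e. whose kernel inclusion is universally
injective) if and only if `P` is a direct summand of a direct sum of finitely presented `R`-modules. -/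
theorem result (R : Type u) [CommRing R]
    (P : Type u) [AddCommGroup P] [Module R P] :
    (∀ ⦃L N : Type u⦄ [AddCommGroup L] [Module R L] [AddCommGroup N] [Module R N] (g : L →ₗ[R] N),
        Function.Surjective g → CAlgX.UniversallyInjective R (LinearMap.ker g).subtype →
        ∀ φ : P →ₗ[R] N, ∃ ψ : P →ₗ[R] L, g ∘ₗ ψ = φ) ↔
    ∃ (ι : Type u) (Q : ι → Type u) (_ : ∀ i, AddCommGroup (Q i)) (_ : ∀ i, Module R (Q i)),
      (∀ i, Module.FinitePresentation R (Q i)) ∧
      ∃ (s : P →ₗ[R] (Π₀ i, Q i)) (r : (Π₀ i, Q i) →ₗ[R] P), r ∘ₗ s = LinearMap.id := by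
  constructor
  · intro hP
    obtain ⟨ι, Q, i1, i2, hfp, g, hg, hK⟩ := Groth.Agent.S8770.result R P
    obtain ⟨ψ, hψ⟩ := hP g hg hK LinearMap.id
    exact ⟨ι, Q, i1, i2, hfp, ψ, g, hψ⟩
  · rintro ⟨ι, Q, i1, i2, hfp, s, r, hrs⟩ L N _ _ _ _ g hg hK φ
    classical
    have hlift : ∀ i, ∃ ψ : Q i →ₗ[R] L, g ∘ₗ ψ = φ ∘ₗ r ∘ₗ DFinsupp.lsingle i := fun i =>
      haveI := hfp i
      lift_of_fp R (Q i) g hg hK _
    choose ψi hψi using hlift
    refine ⟨DFinsupp.lsum ℕ ψi ∘ₗ s, ?_⟩
    have h1 : g ∘ₗ DFinsupp.lsum ℕ ψi = φ ∘ₗ r := by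
      apply DFinsupp.lhom_ext'
      intro i
      have h2 : (φ ∘ₗ r) ∘ₗ DFinsupp.lsingle i = g ∘ₗ ψi i := by
        rw [hψi i, LinearMap.comp_assoc]
      rw [h2]
      ext q
      simp
    rw [← LinearMap.comp_assoc, h1, LinearMap.comp_assoc, hrs, LinearMap.comp_id]

end Groth.Agent.S8769
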