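import Groth.Statements.S8774
import Groth.Agent.Lib.H94PureRes
import Groth.Agent.S8770

set_option autoImplicit false
universe u
open CategoryTheory
open PureExt

namespace Groth.Agent.S8774

open Groth.Agent.Lib.H94PureRes Groth.Agent.Lib.UnivInj

variable (R : Type u) [CommRing R]

/-- the pure cover of a module -/
noncomputable def cov (M : ModuleCat.{u} R) : ModuleCat.{u} R :=
  ModuleCat.of R (Π₀ i : Groth.Agent.S8770.Idx R M, Groth.Agent.S8770.Fam R M i)

noncomputable def covMap (M : ModuleCat.{u} R) : cov R M ⟶ M :=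
  ModuleCat.ofHom (Groth.Agent.S8770.tot R M)

/-- the kernel of the pure cover -/
noncomputable def syz (M : ModuleCat.{u} R) : ModuleCat.{u} R :=
  ModuleCat.of R (LinearMap.ker (Groth.Agent.S8770.tot R M))

noncomputable def syzIncl (M : ModuleCat.{u} R) : syz R M ⟶ cov R M :=
  ModuleCat.ofHom (LinearMap.ker (Groth.Agent.S8770.tot R M)).subtype

theorem covMap_surjective (M : ModuleCat.{u} R) : Function.Surjective (covMap R M).hom :=
  Groth.Agent.S8770.tot_surjective R M

theorem syzIncl_univInj (M : ModuleCat.{u} R) (Q : Type u) [AddCommGroup Q] [Module R Q] :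
    Function.Injective ((syzIncl R M).hom.rTensor Q) :=
  rTensor_injective_of_equational _ (Groth.Agent.S8770.equational_ker R M) Q

theorem syz_exact (M : ModuleCat.{u} R) :
    Function.Exact (syzIncl R M).hom (covMap R M).hom :=
  LinearMap.exact_subtype_ker_map _

theorem syzIncl_covMap (M : ModuleCat.{u} R) : syzIncl R M ≫ covMap R M = 0 := by
  apply ModuleCat.hom_ext
  exact (syz_exact R M).linearMap_comp_eq_zero

theorem syz_exact_tensor (M : ModuleCat.{u} R) (Q : Type u) [AddCommGroup Q] [Module R Q] :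
    Function.Exact ((syzIncl R M).hom.rTensor Q) ((covMap R M).hom.rTensor Q) :=
  rTensor_exact Q (syz_exact R M) (covMap_surjective R M)

/-- iterated syzygies -/
noncomputable def Z (M : ModuleCat.{u} R) : ℕ → ModuleCat.{u} R
  | 0 => M
  | n + 1 => syz R (Z M n)

noncomputable def X (M : ModuleCat.{u} R) (n : ℕ) : ModuleCat.{u} R := cov R (Z R M n)

noncomputable def p (M : ModuleCat.{u} R) (n : ℕ) : X R M n ⟶ Z R M n := covMap R (Z R M n)

noncomputable def i (M : ModuleCat.{u} R) (n : ℕ) : Z R M (n + 1) ⟶ X R M n :=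
  syzIncl R (Z R M n)

noncomputable def d (M : ModuleCat.{u} R) (n : ℕ) : X R M (n + 1) ⟶ X R M n :=
  p R M (n + 1) ≫ i R M n

theorem i_p (M : ModuleCat.{u} R) (n : ℕ) : i R M n ≫ p R M n = 0 := syzIncl_covMap R _

theorem d_comp_d (M : ModuleCat.{u} R) (n : ℕ) : d R M (n + 1) ≫ d R M n = 0 := by
  unfold d
  rw [Category.assoc, ← Category.assoc (i R M (n + 1)), i_p, Limits.zero_comp, Limits.comp_zero]

noncomputable def P (M : ModuleCat.{u} R) : ChainComplex (ModuleCat.{u} R) ℕ :=
  ChainComplex.of (X R M) (d R M) (d_comp_d R M)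

theorem P_d (M : ModuleCat.{u} R) (n : ℕ) : (P R M).d (n + 1) n = d R M n :=
  ChainComplex.of_d _ _ _

theorem d_p (M : ModuleCat.{u} R) : d R M 0 ≫ p R M 0 = 0 := by
  unfold d
  rw [Category.assoc, i_p, Limits.comp_zero]

theorem P_d_p (M : ModuleCat.{u} R) : (P R M).d 1 0 ≫ p R M 0 = 0 := by
  have h := d_p R M
  rw [P_d]
  exact h

noncomputable def π (M : ModuleCat.{u} R) :
    P R M ⟶ (ChainComplex.single₀ (ModuleCat.{u} R)).obj M :=
  (ChainComplex.toSingle₀Equiv (P R M) M).symm ⟨p R M 0, P_d_p R M⟩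

theorem π_f_zero (M : ModuleCat.{u} R) : (π R M).f 0 = p R M 0 :=
  ChainComplex.toSingle₀Equiv_symm_apply_f_zero _ _

theorem d_hom (M : ModuleCat.{u} R) (n : ℕ) :
    (d R M n).hom = (i R M n).hom ∘ₗ (p R M (n + 1)).hom := rfl

theorem exact₀_aux (M : ModuleCat.{u} R) (T : Type u) [AddCommGroup T] [Module R T] :
    Function.Exact ((d R M 0).hom.rTensor T) ((p R M 0).hom.rTensor T) := by
  rw [d_hom, LinearMap.rTensor_comp]
  exact (Function.Surjective.comp_exact_iff_exact (f := (i R M 0).hom.rTensor T)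
    (g := (p R M 0).hom.rTensor T) (p := (p R M 1).hom.rTensor T)
    (LinearMap.rTensor_surjective T (covMap_surjective R _))).2 (syz_exact_tensor R _ T)

theorem exact_succ_aux (M : ModuleCat.{u} R) (n : ℕ) (T : Type u) [AddCommGroup T] [Module R T] :
    Function.Exact ((d R M (n + 1)).hom.rTensor T) ((d R M n).hom.rTensor T) := by
  rw [d_hom, d_hom, LinearMap.rTensor_comp, LinearMap.rTensor_comp]
  refine (Function.Surjective.comp_exact_iff_exact (f := (i R M (n + 1)).hom.rTensor T)
    (p := (p R M (n + 2)).hom.rTensor T)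
    (LinearMap.rTensor_surjective T (covMap_surjective R _))).2 ?_
  refine (Function.Injective.comp_exact_iff_exact (f := (i R M (n + 1)).hom.rTensor T)
    (g := (p R M (n + 1)).hom.rTensor T) (i := (i R M n).hom.rTensor T)
    (syzIncl_univInj R _ T)).2 ?_
  exact syz_exact_tensor R _ T

theorem univExact (M : ModuleCat.{u} R) : UnivExactChain (P R M) (π R M) where
  exact₀ T _ _ := by
    have h := exact₀_aux R M T
    rw [P_d, π_f_zero]
    exact h
  surj₀ T _ _ := by
    rw [π_f_zero]
    exact LinearMap.rTensor_surjective T (covMap_surjective R _)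
  exact_succ n T _ _ := by
    have h := exact_succ_aux R M n T
    rw [P_d, P_d]
    exact h

/-- Every `R`-module `M` has a pure projective resolution: a complex `… → P_1 → P_0` with an
augmentation to `M` such that each `P_n` is pure projective (a direct summand of a direct sum of
finitely presented modules) and `… → P_1 → P_0 → M → 0` is universally exact, i.e. the augmentation
stays a quasi-isomorphism after tensoring with any `R`-module `N`. -/
theorem result (R : Type u) [CommRing R] (M : ModuleCat.{u} R) :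
    ∃ (P : ChainComplex (ModuleCat.{u} R) ℕ) (π : P ⟶ (ChainComplex.single₀ (ModuleCat.{u} R)).obj M),
      (∀ n : ℕ, ∃ (ι : Type u) (Q : ι → Type u) (_ : ∀ i, AddCommGroup (Q i)) (_ : ∀ i, Module R (Q i)),
        (∀ i, Module.FinitePresentation R (Q i)) ∧
        ∃ (s : P.X n →ₗ[R] (Π₀ i, Q i)) (r : (Π₀ i, Q i) →ₗ[R] P.X n), r ∘ₗ s = LinearMap.id) ∧
      ∀ N : ModuleCat.{u} R,
        QuasiIso (((MonoidalCategory.tensorRight N).mapHomologicalComplex (ComplexShape.down ℕ)).map π) := by
  refine ⟨P R M, π R M, fun n => ?_, (univExactChain_iff _ _).2 (univExact R M)⟩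
  refine ⟨Groth.Agent.S8770.Idx R (Z R M n), Groth.Agent.S8770.Fam R (Z R M n),
    fun i => inferInstance, fun i => inferInstance, Groth.Agent.S8770.fam_fp R _, ?_⟩
  exact ⟨LinearMap.id, LinearMap.id, rfl⟩

end Groth.Agent.S8774
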