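import Groth.Statements.S8777
import Groth.Agent.Lib.H94PureRes
import Groth.Agent.S8772

set_option autoImplicit false
universe u
open CategoryTheory
open PureExt

namespace Groth.Agent.S8777

open Groth.Agent.Lib.H94PureRes

variable (R : Type u) [CommRing R]

/-- the double character module -/
noncomputable def E (M : ModuleCat.{u} R) : ModuleCat.{u} R :=
  ModuleCat.of R (CharacterModule (CharacterModule M))

noncomputable def ev (M : ModuleCat.{u} R) : M ⟶ E R M :=
  ModuleCat.ofHom (PureExt.charEval R M)

/-- the cokernel of the evaluation map -/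
noncomputable def cok (M : ModuleCat.{u} R) : ModuleCat.{u} R :=
  ModuleCat.of R (CharacterModule (CharacterModule M) ⧸ LinearMap.range (PureExt.charEval R M))

noncomputable def cokProj (M : ModuleCat.{u} R) : E R M ⟶ cok R M :=
  ModuleCat.ofHom (LinearMap.range (PureExt.charEval R M)).mkQ

theorem cokProj_surjective (M : ModuleCat.{u} R) : Function.Surjective (cokProj R M).hom :=
  Submodule.mkQ_surjective _

theorem ev_univInj (M : ModuleCat.{u} R) (Q : Type u) [AddCommGroup Q] [Module R Q] :
    Function.Injective ((ev R M).hom.rTensor Q) :=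
  Groth.Agent.S8772.result R M Q

theorem cok_exact (M : ModuleCat.{u} R) :
    Function.Exact (ev R M).hom (cokProj R M).hom :=
  LinearMap.exact_map_mkQ_range _

theorem ev_cokProj (M : ModuleCat.{u} R) : ev R M ≫ cokProj R M = 0 := by
  apply ModuleCat.hom_ext
  exact (cok_exact R M).linearMap_comp_eq_zero

theorem cok_exact_tensor (M : ModuleCat.{u} R) (Q : Type u) [AddCommGroup Q] [Module R Q] :
    Function.Exact ((ev R M).hom.rTensor Q) ((cokProj R M).hom.rTensor Q) :=
  rTensor_exact Q (cok_exact R M) (cokProj_surjective R M)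

theorem pureInj_E (M : ModuleCat.{u} R) : PureInj R (E R M) := by
  intro K L _ _ _ _ g hg φ
  exact rTensor_injective_iff_lcomp_surjective.1 (hg (CharacterModule M)) φ

/-- iterated cokernels -/
noncomputable def Z (M : ModuleCat.{u} R) : ℕ → ModuleCat.{u} R
  | 0 => M
  | n + 1 => cok R (Z M n)

noncomputable def X (M : ModuleCat.{u} R) (n : ℕ) : ModuleCat.{u} R := E R (Z R M n)

noncomputable def j (M : ModuleCat.{u} R) (n : ℕ) : Z R M n ⟶ X R M n := ev R (Z R M n)

noncomputable def q (M : ModuleCat.{u} R) (n : ℕ) : X R M n ⟶ Z R M (n + 1) :=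
  cokProj R (Z R M n)

noncomputable def d (M : ModuleCat.{u} R) (n : ℕ) : X R M n ⟶ X R M (n + 1) :=
  q R M n ≫ j R M (n + 1)

theorem j_q (M : ModuleCat.{u} R) (n : ℕ) : j R M n ≫ q R M n = 0 := ev_cokProj R _

theorem d_comp_d (M : ModuleCat.{u} R) (n : ℕ) : d R M n ≫ d R M (n + 1) = 0 := by
  unfold d
  rw [Category.assoc, ← Category.assoc (j R M (n + 1)), j_q, Limits.zero_comp, Limits.comp_zero]

noncomputable def I (M : ModuleCat.{u} R) : CochainComplex (ModuleCat.{u} R) ℕ :=
  CochainComplex.of (X R M) (d R M) (d_comp_d R M)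

theorem I_d (M : ModuleCat.{u} R) (n : ℕ) : (I R M).d n (n + 1) = d R M n :=
  CochainComplex.of_d _ _ _

theorem j_d (M : ModuleCat.{u} R) : j R M 0 ≫ d R M 0 = 0 := by
  unfold d
  rw [← Category.assoc, j_q, Limits.zero_comp]

theorem j_I_d (M : ModuleCat.{u} R) : j R M 0 ≫ (I R M).d 0 1 = 0 := by
  have h := j_d R M
  rw [I_d]
  exact h

noncomputable def η (M : ModuleCat.{u} R) :
    (CochainComplex.single₀ (ModuleCat.{u} R)).obj M ⟶ I R M :=
  (CochainComplex.fromSingle₀Equiv (I R M) M).symm ⟨j R M 0, j_I_d R M⟩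

theorem η_f_zero (M : ModuleCat.{u} R) : (η R M).f 0 = j R M 0 :=
  CochainComplex.fromSingle₀Equiv_symm_apply_f_zero _ _

theorem d_hom (M : ModuleCat.{u} R) (n : ℕ) :
    (d R M n).hom = (j R M (n + 1)).hom ∘ₗ (q R M n).hom := rfl

theorem exact₀_aux (M : ModuleCat.{u} R) (T : Type u) [AddCommGroup T] [Module R T] :
    Function.Exact ((j R M 0).hom.rTensor T) ((d R M 0).hom.rTensor T) := by
  rw [d_hom, LinearMap.rTensor_comp]
  exact (Function.Injective.comp_exact_iff_exact (f := (j R M 0).hom.rTensor T)
    (g := (q R M 0).hom.rTensor T) (i := (j R M 1).hom.rTensor T)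
    (ev_univInj R _ T)).2 (cok_exact_tensor R _ T)

theorem exact_succ_aux (M : ModuleCat.{u} R) (n : ℕ) (T : Type u) [AddCommGroup T] [Module R T] :
    Function.Exact ((d R M n).hom.rTensor T) ((d R M (n + 1)).hom.rTensor T) := by
  rw [d_hom, d_hom, LinearMap.rTensor_comp, LinearMap.rTensor_comp]
  refine (Function.Surjective.comp_exact_iff_exact (f := (j R M (n + 1)).hom.rTensor T)
    (p := (q R M n).hom.rTensor T)
    (LinearMap.rTensor_surjective T (cokProj_surjective R _))).2 ?_
  refine (Function.Injective.comp_exact_iff_exact (f := (j R M (n + 1)).hom.rTensor T)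
    (g := (q R M (n + 1)).hom.rTensor T) (i := (j R M (n + 2)).hom.rTensor T)
    (ev_univInj R _ T)).2 ?_
  exact cok_exact_tensor R _ T

theorem univExact (M : ModuleCat.{u} R) : UnivExactCochain (I R M) (η R M) where
  exact₀ T _ _ := by
    have h := exact₀_aux R M T
    rw [I_d, η_f_zero]
    exact h
  inj₀ T _ _ := by
    rw [η_f_zero]
    exact ev_univInj R _ T
  exact_succ n T _ _ := by
    have h := exact_succ_aux R M n T
    rw [I_d, I_d]
    exact h

/-- Every `R`-module `M` has a pure injective resolution: a complex `I^0 → I^1 → …` with a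
coaugmentation from `M` such that each `I^n` is pure injective (every linear map into `I^n` extends
along every universally injective map) and `0 → M → I^0 → I^1 → …` is universally exact, i.e. the
coaugmentation stays a quasi-isomorphism after tensoring with any `R`-module. -/
theorem result (R : Type u) [CommRing R] (M : ModuleCat.{u} R) :
    ∃ (I : CochainComplex (ModuleCat.{u} R) ℕ) (η : (CochainComplex.single₀ (ModuleCat.{u} R)).obj M ⟶ I),
      (∀ n : ℕ, (∀ ⦃K L : Type u⦄ [AddCommGroup K] [Module R K] [AddCommGroup L] [Module R L] (g : K →ₗ[R] L),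
          CAlgX.UniversallyInjective R g → ∀ φ : K →ₗ[R] I.X n, ∃ ψ : L →ₗ[R] I.X n, ψ ∘ₗ g = φ)) ∧
      ∀ T : ModuleCat.{u} R,
      QuasiIso (((MonoidalCategory.tensorRight T).mapHomologicalComplex (ComplexShape.up ℕ)).map η) := by
  refine ⟨I R M, η R M, fun n => ?_, (univExactCochain_iff _ _).2 (univExact R M)⟩
  exact pureInj_E R (Z R M n)

end Groth.Agent.S8777
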