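import Groth.Statements.S8781
import Mathlib.Algebra.Homology.ShortComplex.ModuleCat

set_option autoImplicit false
universe u
open CategoryTheory Limits
open AdeqTF

namespace Groth.Agent.S8781

variable {A : Type u} [CommRing A]

/-- transition map of a module-valued functor as an additive map -/
noncomputable def mp (F : Adeq.MVF A) {X Y : (Adeq.Alg A)ᵒᵖᵒᵖ} (f : X ⟶ Y) : F.obj X →+ F.obj Y :=
  (F.map f).hom.toAddMonoidHom

/-- component of a morphism as an additive map -/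
noncomputable def ap {F G : Adeq.MVF A} (φ : F ⟶ G) (X : (Adeq.Alg A)ᵒᵖᵒᵖ) : F.obj X →+ G.obj X :=
  (φ.app X).hom.toAddMonoidHom

theorem mp_comp (F : Adeq.MVF A) {X Y Z : (Adeq.Alg A)ᵒᵖᵒᵖ} (f : X ⟶ Y) (g : Y ⟶ Z)
    (x : F.obj X) : mp F (f ≫ g) x = mp F g (mp F f x) :=
  F.map_comp_apply f g x

theorem mp_congr (F : Adeq.MVF A) {X Y : (Adeq.Alg A)ᵒᵖᵒᵖ} {f g : X ⟶ Y} (h : f = g)
    (x : F.obj X) : mp F f x = mp F g x := by rw [h]

theorem mp_id (F : Adeq.MVF A) (X : (Adeq.Alg A)ᵒᵖᵒᵖ) (x : F.obj X) : mp F (𝟙 X) x = x := by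
  change F.map (𝟙 X) x = x
  rw [F.map_id]
  rfl

theorem ap_mp {F G : Adeq.MVF A} (φ : F ⟶ G) {X Y : (Adeq.Alg A)ᵒᵖᵒᵖ} (f : X ⟶ Y)
    (x : F.obj X) : ap φ Y (mp F f x) = mp G f (ap φ X x) :=
  PresheafOfModules.naturality_apply φ f x

theorem inl_fst (B : Adeq.Alg A) (N : ModuleCat.{u} B) : AdeqTF.inl B N ≫ AdeqTF.fst B N = 𝟙 B := by
  apply CommAlgCat.hom_ext
  refine AlgHom.ext fun x => ?_
  show TrivSqZeroExt.fst (TrivSqZeroExt.inl x : TrivSqZeroExt (B : Type u) N) = x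
  exact TrivSqZeroExt.fst_inl _ x

theorem mp_inl_fst (F : Adeq.MVF A) (B : Adeq.Alg A) (N : ModuleCat.{u} B)
    (y : F.obj (Adeq.pt B)) :
    mp F (Adeq.ptHom (AdeqTF.fst B N)) (mp F (Adeq.ptHom (AdeqTF.inl B N)) y) = y := by
  rw [← mp_comp]
  have e : Adeq.ptHom (AdeqTF.inl B N) ≫ Adeq.ptHom (AdeqTF.fst B N) = 𝟙 (Adeq.pt B) :=
    congrArg Adeq.ptHom (inl_fst B N)
  rw [mp_congr F e, mp_id]

theorem mp_map_fst (F : Adeq.MVF A) (B : Adeq.Alg A) {N N' : ModuleCat.{u} B} (g : N ⟶ N')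
    (y : F.obj (Adeq.pt (AdeqTF.ext B N))) :
    mp F (Adeq.ptHom (AdeqTF.fst B N')) (mp F (Adeq.ptHom (AdeqTF.map B g)) y) =
      mp F (Adeq.ptHom (AdeqTF.fst B N)) y := by
  rw [← mp_comp]
  have e : Adeq.ptHom (AdeqTF.map B g) ≫ Adeq.ptHom (AdeqTF.fst B N') =
      Adeq.ptHom (AdeqTF.fst B N) := congrArg Adeq.ptHom (AdeqTF.map_fst B g)
  rw [mp_congr F e]

theorem surj_iff (F : Adeq.MVF A) (B : Adeq.Alg A) {N N' : ModuleCat.{u} B} (g : N ⟶ N') :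
    Function.Surjective (AdeqTF.tangentMap B F g) ↔
      ∀ y : F.obj (Adeq.pt (AdeqTF.ext B N')), mp F (Adeq.ptHom (AdeqTF.fst B N')) y = 0 →
        ∃ x : F.obj (Adeq.pt (AdeqTF.ext B N)), mp F (Adeq.ptHom (AdeqTF.fst B N)) x = 0 ∧
          mp F (Adeq.ptHom (AdeqTF.map B g)) x = y := by
  constructor
  · intro h y hy
    obtain ⟨⟨x, hx⟩, hxy⟩ := h ⟨y, hy⟩
    exact ⟨x, hx, congrArg Subtype.val hxy⟩
  · intro h ⟨y, hy⟩
    obtain ⟨x, hx, hxy⟩ := h y hy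
    exact ⟨⟨x, hx⟩, Subtype.ext hxy⟩

theorem ker_eq_range_iff (F : Adeq.MVF A) (B : Adeq.Alg A) {N₁ N N₂ : ModuleCat.{u} B}
    (f : N₁ ⟶ N) (g : N ⟶ N₂) :
    (AdeqTF.tangentMap B F g).ker = (AdeqTF.tangentMap B F f).range ↔
      ∀ x : F.obj (Adeq.pt (AdeqTF.ext B N)), mp F (Adeq.ptHom (AdeqTF.fst B N)) x = 0 →
        (mp F (Adeq.ptHom (AdeqTF.map B g)) x = 0 ↔
          ∃ w : F.obj (Adeq.pt (AdeqTF.ext B N₁)), mp F (Adeq.ptHom (AdeqTF.fst B N₁)) w = 0 ∧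
            mp F (Adeq.ptHom (AdeqTF.map B f)) w = x) := by
  constructor
  · intro h x hx
    have h1 := AddSubgroup.ext_iff.1 h ⟨x, hx⟩
    rw [AddMonoidHom.mem_ker, AddMonoidHom.mem_range] at h1
    constructor
    · intro h2
      obtain ⟨⟨w, hw⟩, hwx⟩ := h1.1 (Subtype.ext h2)
      exact ⟨w, hw, congrArg Subtype.val hwx⟩
    · rintro ⟨w, hw, hwx⟩
      exact congrArg Subtype.val (h1.2 ⟨⟨w, hw⟩, Subtype.ext hwx⟩)
  · intro h
    ext ⟨x, hx⟩
    rw [AddMonoidHom.mem_ker, AddMonoidHom.mem_range]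
    constructor
    · intro h2
      obtain ⟨w, hw, hwx⟩ := (h x hx).1 (congrArg Subtype.val h2)
      exact ⟨⟨w, hw⟩, Subtype.ext hwx⟩
    · rintro ⟨⟨w, hw⟩, hwx⟩
      exact Subtype.ext ((h x hx).2 ⟨w, hw, congrArg Subtype.val hwx⟩)

/-- Say a module-valued functor `F` on `A`-algebras has right exact tangent functors if for every
`A`-algebra `B` and every short exact sequence `0 → N₁ → N → N₂ → 0` of `B`-modules the sequence
`TF(B, N₁) → TF(B, N) → TF(B, N₂) → 0` is exact. If `0 → F → G → H → 0` is a short exact sequence of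
module-valued functors and `F`, `G` have right exact tangent functors, so does `H`. -/
theorem result (A : Type u) [CommRing A] (C : ShortComplex (Adeq.MVF A))
    (hC : C.ShortExact)
    (h₁ : (∀ (B : Adeq.Alg A) (S : ShortComplex (ModuleCat.{u} B)), S.ShortExact →
        Function.Surjective (AdeqTF.tangentMap B C.X₁ S.g) ∧
          (AdeqTF.tangentMap B C.X₁ S.g).ker = (AdeqTF.tangentMap B C.X₁ S.f).range))
    (h₂ : (∀ (B : Adeq.Alg A) (S : ShortComplex (ModuleCat.{u} B)), S.ShortExact →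
        Function.Surjective (AdeqTF.tangentMap B C.X₂ S.g) ∧
          (AdeqTF.tangentMap B C.X₂ S.g).ker = (AdeqTF.tangentMap B C.X₂ S.f).range)) :
    (∀ (B : Adeq.Alg A) (S : ShortComplex (ModuleCat.{u} B)), S.ShortExact →
        Function.Surjective (AdeqTF.tangentMap B C.X₃ S.g) ∧
          (AdeqTF.tangentMap B C.X₃ S.g).ker = (AdeqTF.tangentMap B C.X₃ S.f).range) := by
  intro B S hS
  -- pointwise exactness of C
  have hinj : ∀ X, Function.Injective (ap C.f X) := by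
    intro X
    have := hC.mono_f
    exact PresheafOfModules.injective_of_mono C.f X
  have hsurj : ∀ X, Function.Surjective (ap C.g X) := by
    intro X
    have := hC.epi_g
    exact PresheafOfModules.surjective_of_epi C.g X
  have hex : ∀ X (y : C.X₂.obj X), ap C.g X y = 0 → ∃ z : C.X₁.obj X, ap C.f X z = y := by
    intro X y hy
    have : (PresheafOfModules.evaluation.{u + 1} (Adeq.ringOf A) X).Additive :=
      PresheafOfModules.instAdditiveModuleCatCarrierObjOppositeRingCatEvaluation _ X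
    have : Limits.PreservesFiniteLimits (PresheafOfModules.evaluation.{u + 1} (Adeq.ringOf A) X) :=
      PresheafOfModules.evaluation_preservesFiniteLimits (Adeq.ringOf A) X
    have : Limits.PreservesFiniteColimits (PresheafOfModules.evaluation.{u + 1} (Adeq.ringOf A) X) :=
      PresheafOfModules.Finite.evaluation_preservesFiniteColimits (Adeq.ringOf A) X
    have h1 := (hC.exact.map (PresheafOfModules.evaluation.{u + 1} (Adeq.ringOf A) X))
    rw [ShortComplex.moduleCat_exact_iff] at h1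
    exact h1 y hy
  have hzero : ∀ X (z : C.X₁.obj X), ap C.g X (ap C.f X z) = 0 := by
    intro X z
    have h1 : C.f.app X ≫ C.g.app X = 0 := by
      rw [← PresheafOfModules.comp_app, C.zero]
      rfl
    exact congrArg (fun (k : C.X₁.obj X ⟶ C.X₃.obj X) => k.hom z) h1
  -- (a) lifting of tangent vectors of X₃ to X₂
  have ha : ∀ (N : ModuleCat.{u} B) (x : C.X₃.obj (Adeq.pt (AdeqTF.ext B N))),
      mp C.X₃ (Adeq.ptHom (AdeqTF.fst B N)) x = 0 →
      ∃ y : C.X₂.obj (Adeq.pt (AdeqTF.ext B N)),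
        mp C.X₂ (Adeq.ptHom (AdeqTF.fst B N)) y = 0 ∧ ap C.g _ y = x := by
    intro N x hx
    obtain ⟨y, rfl⟩ := hsurj _ x
    have hy₀' : ap C.g _ (mp C.X₂ (Adeq.ptHom (AdeqTF.fst B N)) y) = 0 := by
      rw [ap_mp]
      exact hx
    refine ⟨y - mp C.X₂ (Adeq.ptHom (AdeqTF.inl B N)) (mp C.X₂ (Adeq.ptHom (AdeqTF.fst B N)) y),
      ?_, ?_⟩
    · rw [map_sub, mp_inl_fst, sub_self]
    · rw [map_sub, ap_mp, hy₀', map_zero, sub_zero]
  -- (b) kernel of tangent X₂ → tangent X₃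
  have hb : ∀ (N : ModuleCat.{u} B) (y : C.X₂.obj (Adeq.pt (AdeqTF.ext B N))),
      mp C.X₂ (Adeq.ptHom (AdeqTF.fst B N)) y = 0 → ap C.g _ y = 0 →
      ∃ z : C.X₁.obj (Adeq.pt (AdeqTF.ext B N)),
        mp C.X₁ (Adeq.ptHom (AdeqTF.fst B N)) z = 0 ∧ ap C.f _ z = y := by
    intro N y hy hgy
    obtain ⟨z, rfl⟩ := hex _ y hgy
    refine ⟨z, ?_, rfl⟩
    apply hinj
    rw [ap_mp, hy, map_zero]
  obtain ⟨h₁s, h₁k⟩ := h₁ B S hS
  obtain ⟨h₂s, h₂k⟩ := h₂ B S hS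
  rw [surj_iff] at h₁s h₂s ⊢
  rw [ker_eq_range_iff] at h₁k h₂k ⊢
  refine ⟨?_, ?_⟩
  · intro x₂ hx₂
    obtain ⟨y₂, hy₂, rfl⟩ := ha _ x₂ hx₂
    obtain ⟨y, hy, rfl⟩ := h₂s y₂ hy₂
    refine ⟨ap C.g _ y, ?_, ?_⟩
    · rw [← ap_mp, hy, map_zero]
    · rw [← ap_mp]
  · intro x hx
    constructor
    · intro hgx
      obtain ⟨y, hy, rfl⟩ := ha _ x hx
      have hy₂ : ap C.g _ (mp C.X₂ (Adeq.ptHom (AdeqTF.map B S.g)) y) = 0 := by
        rw [ap_mp]
        exact hgx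
      have hy₂' : mp C.X₂ (Adeq.ptHom (AdeqTF.fst B S.X₃))
          (mp C.X₂ (Adeq.ptHom (AdeqTF.map B S.g)) y) = 0 := by
        rw [mp_map_fst]
        exact hy
      obtain ⟨z₂, hz₂, hz₂y⟩ := hb _ _ hy₂' hy₂
      obtain ⟨z, hz, rfl⟩ := h₁s z₂ hz₂
      have hy' : mp C.X₂ (Adeq.ptHom (AdeqTF.fst B S.X₂)) (y - ap C.f _ z) = 0 := by
        rw [map_sub, hy, ← ap_mp, hz, map_zero, sub_zero]
      have hy'' : mp C.X₂ (Adeq.ptHom (AdeqTF.map B S.g)) (y - ap C.f _ z) = 0 := by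
        rw [map_sub, ← ap_mp, hz₂y, sub_self]
      obtain ⟨w, hw, hwy⟩ := (h₂k _ hy').1 hy''
      refine ⟨ap C.g _ w, ?_, ?_⟩
      · rw [← ap_mp, hw, map_zero]
      · rw [← ap_mp, hwy, map_sub, hzero, sub_zero]
    · rintro ⟨w', hw', rfl⟩
      obtain ⟨w, hw, rfl⟩ := ha _ w' hw'
      have h1 : mp C.X₂ (Adeq.ptHom (AdeqTF.fst B S.X₂))
          (mp C.X₂ (Adeq.ptHom (AdeqTF.map B S.f)) w) = 0 := by
        rw [mp_map_fst]
        exact hw
      have h2 := (h₂k _ h1).2 ⟨w, hw, rfl⟩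
      rw [← ap_mp, ← ap_mp, h2, map_zero]

end Groth.Agent.S8781
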