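import Groth.Statements.S8780
import Mathlib.Algebra.Homology.ShortComplex.ModuleCat
import Groth.Agent.S8781

set_option autoImplicit false
universe u
open CategoryTheory Limits
open AdeqTF

namespace Groth.Agent.S8780

open Groth.Agent.S8781

variable {A : Type u} [CommRing A]

/-- index set of the free functor -/
abbrev Idx (D C : Adeq.Alg A) : Type (u + 1) := ULift.{u + 1} (D ⟶ C)

/-- transition maps of the free functor -/
noncomputable def hMap (D : Adeq.Alg A) {C C' : Adeq.Alg A} (f : C ⟶ C') :
    (Idx D C →₀ C) →+ (Idx D C' →₀ C') :=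
  (Finsupp.mapDomain.addMonoidHom (fun φ : Idx D C => (ULift.up (φ.down ≫ f) : Idx D C'))).comp
    (Finsupp.mapRange.addMonoidHom (f.hom.toRingHom.toAddMonoidHom))

theorem hMap_single (D : Adeq.Alg A) {C C' : Adeq.Alg A} (f : C ⟶ C') (φ : Idx D C) (c : C) :
    hMap D f (Finsupp.single φ c) = Finsupp.single (ULift.up (φ.down ≫ f)) (f.hom c) := by
  simp [hMap]

theorem hMap_id (D : Adeq.Alg A) (C : Adeq.Alg A) : hMap D (𝟙 C) = AddMonoidHom.id _ := by
  apply Finsupp.addHom_ext
  intro φ c
  rw [hMap_single]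
  simp

theorem hMap_comp (D : Adeq.Alg A) {C C' C'' : Adeq.Alg A} (f : C ⟶ C') (g : C' ⟶ C'') :
    hMap D (f ≫ g) = (hMap D g).comp (hMap D f) := by
  apply Finsupp.addHom_ext
  intro φ c
  rw [hMap_single, AddMonoidHom.comp_apply, hMap_single, hMap_single]
  simp

theorem hMap_smul (D : Adeq.Alg A) {C C' : Adeq.Alg A} (f : C ⟶ C') (r : C)
    (m : Idx D C →₀ C) : hMap D f (r • m) = f.hom r • hMap D f m := by
  induction m using Finsupp.induction_linear with
  | zero => simp
  | add a b ha hb => rw [smul_add, map_add, map_add, smul_add, ha, hb]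
  | single φ c =>
    rw [Finsupp.smul_single, hMap_single, hMap_single, Finsupp.smul_single]
    simp

/-- the abelian-group valued functor underlying the free functor -/
noncomputable def hAb (D : Adeq.Alg A) : (Adeq.Alg A)ᵒᵖᵒᵖ ⥤ Ab.{u + 1} where
  obj X := AddCommGrpCat.of (Idx D X.unop.unop →₀ X.unop.unop)
  map {X Y} f := AddCommGrpCat.ofHom (hMap D f.unop.unop)
  map_id X := by
    apply AddCommGrpCat.hom_ext
    exact hMap_id D X.unop.unop
  map_comp {X Y Z} f g := by
    apply AddCommGrpCat.hom_ext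
    exact hMap_comp D f.unop.unop g.unop.unop

noncomputable instance (D : Adeq.Alg A) (X : (Adeq.Alg A)ᵒᵖᵒᵖ) :
    Module ((Adeq.ringOf A).obj X) ((hAb D).obj X) :=
  inferInstanceAs (Module X.unop.unop (Idx D X.unop.unop →₀ X.unop.unop))

/-- the free module-valued functor on the algebra `D` -/
noncomputable def hD (D : Adeq.Alg A) : Adeq.MVF A :=
  PresheafOfModules.ofPresheaf (hAb D) (by
    intro X Y f r m
    exact hMap_smul D f.unop.unop r m)

open Groth.Agent.S8781


theorem mp_smul (F : Adeq.MVF A) {C C' : Adeq.Alg A} (f : C ⟶ C') (r : C)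
    (m : F.obj (Adeq.pt C)) :
    mp F (Adeq.ptHom f) (r • m) = f.hom r • mp F (Adeq.ptHom f) m :=
  F.map_smul (Adeq.ptHom f) r m

/-- components of the morphism out of the free functor determined by an element -/
noncomputable def thetaApp (F : Adeq.MVF A) {D : Adeq.Alg A} (x : F.obj (Adeq.pt D))
    (C : Adeq.Alg A) : (Idx D C →₀ C) →ₗ[C] F.obj (Adeq.pt C) :=
  Finsupp.linearCombination C (fun φ : Idx D C => mp F (Adeq.ptHom φ.down) x)

theorem thetaApp_single (F : Adeq.MVF A) {D : Adeq.Alg A} (x : F.obj (Adeq.pt D))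
    (C : Adeq.Alg A) (φ : Idx D C) (c : C) :
    thetaApp F x C (Finsupp.single φ c) = c • mp F (Adeq.ptHom φ.down) x := by
  simp [thetaApp, Finsupp.linearCombination_single]

theorem thetaApp_nat (F : Adeq.MVF A) {D : Adeq.Alg A} (x : F.obj (Adeq.pt D))
    {C C' : Adeq.Alg A} (f : C ⟶ C') (m : Idx D C →₀ C) :
    thetaApp F x C' (hMap D f m) = mp F (Adeq.ptHom f) (thetaApp F x C m) := by
  induction m using Finsupp.induction_linear with
  | zero => simp
  | add a b ha hb => rw [map_add, map_add, map_add, map_add, ha, hb]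
  | single φ c =>
    rw [hMap_single, thetaApp_single, thetaApp_single, mp_smul, ← mp_comp]
    rfl



/-- the morphism out of the free functor determined by an element -/
noncomputable def theta (F : Adeq.MVF A) {D : Adeq.Alg A} (x : F.obj (Adeq.pt D)) :
    hD D ⟶ F where
  app X := ModuleCat.ofHom (thetaApp F x X.unop.unop)
  naturality {X Y} f := by
    ext m
    exact thetaApp_nat F x f.unop.unop m

theorem theta_app (F : Adeq.MVF A) {D : Adeq.Alg A} (x : F.obj (Adeq.pt D)) (C : Adeq.Alg A)
    (m : Idx D C →₀ C) : ap (theta F x) (Adeq.pt C) m = thetaApp F x C m := rfl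

/-- precomposition on the free functors -/
noncomputable def hPre {D D' : Adeq.Alg A} (g : D' ⟶ D) (C : Adeq.Alg A) :
    (Idx D C →₀ C) →ₗ[C] (Idx D' C →₀ C) :=
  Finsupp.lmapDomain C C (fun φ : Idx D C => (ULift.up (g ≫ φ.down) : Idx D' C))

theorem hPre_single {D D' : Adeq.Alg A} (g : D' ⟶ D) (C : Adeq.Alg A) (φ : Idx D C) (c : C) :
    hPre g C (Finsupp.single φ c) = Finsupp.single (ULift.up (g ≫ φ.down)) c := by
  simp [hPre]

theorem hPre_nat {D D' : Adeq.Alg A} (g : D' ⟶ D) {C C' : Adeq.Alg A} (f : C ⟶ C')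
    (m : Idx D C →₀ C) : hPre g C' (hMap D f m) = hMap D' f (hPre g C m) := by
  induction m using Finsupp.induction_linear with
  | zero => simp
  | add a b ha hb => rw [map_add, map_add, map_add, map_add, ha, hb]
  | single φ c =>
    rw [hMap_single, hPre_single, hPre_single, hMap_single]
    simp

noncomputable def hG {D D' : Adeq.Alg A} (g : D' ⟶ D) : hD D ⟶ hD D' where
  app X := ModuleCat.ofHom (hPre g X.unop.unop)
  naturality {X Y} f := by
    ext m
    exact hPre_nat g f.unop.unop m

theorem hG_app {D D' : Adeq.Alg A} (g : D' ⟶ D) (C : Adeq.Alg A)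
    (m : Idx D C →₀ C) : ap (hG g) (Adeq.pt C) m = hPre g C m := rfl

theorem hG_mono {D D' : Adeq.Alg A} (g : D' ⟶ D) (hg : Function.Surjective g.hom) :
    Mono (hG g) := by
  apply PresheafOfModules.mono_of_injective
  intro X
  refine Finsupp.mapDomain_injective ?_
  intro φ ψ h
  have h1 : g ≫ φ.down = g ≫ ψ.down := congrArg ULift.down h
  apply ULift.ext
  apply CommAlgCat.hom_ext
  apply AlgHom.ext
  intro d
  obtain ⟨d', rfl⟩ := hg d
  have := congrArg (fun k : D' ⟶ X.unop.unop => k.hom d') h1
  simpa using this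


/-- Take `I` injective in the category of module-valued functors on `A`-algebras. For every `A`-algebra
`B` and every short exact sequence `0 → N₁ → N → N₂ → 0` of `B`-modules, the induced map of tangent
modules `TI(B, N) → TI(B, N₂)` is surjective (`TI(B, N)` is the kernel of `I(B[N]) → I(B)`, `B[N]`
the trivial square-zero extension). (The published statement asserts that `TI(B, N₁) → TI(B, N) →
TI(B, N₂) → 0` is exact; exactness at the middle term is false: for `A = B = ℚ`, the split sequence
`0 → ℚ → ℚ² → ℚ → 0` and the injective functor `D ↦ Map(Hom(D, ℚ[ε]/(ε²)), E)` with `E` an injective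
hull of `ℚ[ε]/(ε²)`, the indicator function of the first coordinate form lies in the kernel of
`TI(B, ℚ²) → TI(B, ℚ)` and not in the image of `TI(B, ℚ) → TI(B, ℚ²)`. This row keeps the
surjectivity, which the published argument does establish.) -/
theorem result (A : Type u) [CommRing A] (I : Adeq.MVF A) [Injective I]
    (B : Adeq.Alg A) (S : ShortComplex (ModuleCat.{u} B)) (hS : S.ShortExact) :
    Function.Surjective (AdeqTF.tangentMap B I S.g) := by
  rw [surj_iff]
  intro x₂ hx₂
  have hSg : Function.Surjective S.g.hom := by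
    have := hS.epi_g
    exact (ModuleCat.epi_iff_surjective _).1 this
  have hg : Function.Surjective (AdeqTF.map B S.g).hom := by
    intro y
    obtain ⟨n, hn⟩ := hSg (TrivSqZeroExt.snd y)
    refine ⟨TrivSqZeroExt.inl (TrivSqZeroExt.fst y) + TrivSqZeroExt.inr n, ?_⟩
    change TrivSqZeroExt.map S.g.hom _ = y
    apply TrivSqZeroExt.ext
    · simp
    · simp [hn]
  have := hG_mono (AdeqTF.map B S.g) hg
  let θ' := Injective.factorThru (theta I x₂) (hG (AdeqTF.map B S.g))
  have hθ' : hG (AdeqTF.map B S.g) ≫ θ' = theta I x₂ := Injective.comp_factorThru _ _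
  let s : Idx (AdeqTF.ext B S.X₂) (AdeqTF.ext B S.X₂) →₀ (AdeqTF.ext B S.X₂ : Type u) :=
    Finsupp.single (ULift.up (𝟙 _)) 1
  have key : mp I (Adeq.ptHom (AdeqTF.map B S.g)) (ap θ' (Adeq.pt (AdeqTF.ext B S.X₂)) s) = x₂ := by
    rw [← ap_mp]
    have h1 : mp (hD (AdeqTF.ext B S.X₂)) (Adeq.ptHom (AdeqTF.map B S.g)) s =
        Finsupp.single (ULift.up (AdeqTF.map B S.g)) 1 := by
      change hMap _ (AdeqTF.map B S.g) s = _
      rw [hMap_single]
      simp
    rw [h1]
    have h2 : ap (theta I x₂) (Adeq.pt (AdeqTF.ext B S.X₃))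
        (Finsupp.single (ULift.up (𝟙 _)) 1) = x₂ := by
      rw [theta_app, thetaApp_single, one_smul]
      exact mp_id I _ x₂
    rw [← hθ'] at h2
    change ap θ' _ (ap (hG (AdeqTF.map B S.g)) _ _) = x₂ at h2
    rw [hG_app, hPre_single] at h2
    simpa using h2
  refine ⟨ap θ' (Adeq.pt (AdeqTF.ext B S.X₂)) s, ?_, key⟩
  rw [← mp_map_fst I B S.g, key, hx₂]

end Groth.Agent.S8780
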