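import Groth.Statements.S8783

set_option autoImplicit false
universe u
open CategoryTheory Limits
open AdeqTF

namespace Groth.Agent.S8783

section Aux

variable {A : Type u} [CommRing A] (B : Adeq.Alg A)

lemma extMap_comp {N N' N'' : ModuleCat.{u} B} (g : N ⟶ N') (h : N' ⟶ N'') :
    AdeqTF.map B (g ≫ h) = AdeqTF.map B g ≫ AdeqTF.map B h := by
  apply CommAlgCat.hom_ext
  refine AlgHom.ext fun x => ?_
  change TrivSqZeroExt.map (g ≫ h).hom x = TrivSqZeroExt.map h.hom (TrivSqZeroExt.map g.hom x)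
  rw [ModuleCat.hom_comp, TrivSqZeroExt.map_comp_map]
  rfl

lemma extMap_id (N : ModuleCat.{u} B) : AdeqTF.map B (𝟙 N) = 𝟙 (AdeqTF.ext B N) := by
  apply CommAlgCat.hom_ext
  refine AlgHom.ext fun x => ?_
  change TrivSqZeroExt.map (𝟙 N : N ⟶ N).hom x = x
  rw [ModuleCat.hom_id, TrivSqZeroExt.map_id]
  rfl

lemma extMap_zero (N N' : ModuleCat.{u} B) :
    AdeqTF.map B (0 : N ⟶ N') = AdeqTF.fst B N ≫ AdeqTF.inl B N' := by
  apply CommAlgCat.hom_ext
  refine AlgHom.ext fun x => ?_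
  change TrivSqZeroExt.map (0 : N ⟶ N').hom x = TrivSqZeroExt.inl (TrivSqZeroExt.fst x)
  rw [ModuleCat.hom_zero]
  ext
  · simp
  · simp

variable (F : Adeq.MVF A)

lemma tangentMap_val {N N' : ModuleCat.{u} B} (g : N ⟶ N') (x : AdeqTF.tangent B N F) :
    ((AdeqTF.tangentMap B F g x : AdeqTF.tangent B N' F) : F.obj (Adeq.pt (AdeqTF.ext B N'))) =
      F.map (Adeq.ptHom (AdeqTF.map B g)) x.1 := rfl

lemma tangentMap_comp {N N' N'' : ModuleCat.{u} B} (g : N ⟶ N') (h : N' ⟶ N'')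
    (x : AdeqTF.tangent B N F) :
    AdeqTF.tangentMap B F (g ≫ h) x = AdeqTF.tangentMap B F h (AdeqTF.tangentMap B F g x) := by
  apply Subtype.ext
  rw [tangentMap_val, tangentMap_val, tangentMap_val, ← F.map_comp_apply]
  exact F.congr_map_apply (congrArg Adeq.ptHom (extMap_comp B g h)) x.1

lemma tangentMap_id (N : ModuleCat.{u} B) (x : AdeqTF.tangent B N F) :
    AdeqTF.tangentMap B F (𝟙 N) x = x := by
  apply Subtype.ext
  rw [tangentMap_val]
  have h1 := F.congr_map_apply (congrArg Adeq.ptHom (extMap_id B N)) x.1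
  rw [h1]
  have : Adeq.ptHom (𝟙 (AdeqTF.ext B N)) = 𝟙 _ := rfl
  rw [this, F.map_id]
  rfl

lemma tangentMap_zero (N N' : ModuleCat.{u} B) (x : AdeqTF.tangent B N F) :
    AdeqTF.tangentMap B F (0 : N ⟶ N') x = 0 := by
  apply Subtype.ext
  rw [tangentMap_val]
  have h1 := F.congr_map_apply (congrArg Adeq.ptHom (extMap_zero B N N')) x.1
  rw [h1]
  have : Adeq.ptHom (AdeqTF.fst B N ≫ AdeqTF.inl B N') =
      Adeq.ptHom (AdeqTF.fst B N) ≫ Adeq.ptHom (AdeqTF.inl B N') := rfl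
  rw [this, F.map_comp_apply]
  have hx : F.map (Adeq.ptHom (AdeqTF.fst B N)) x.1 = 0 := x.2
  rw [hx]
  exact (F.map (Adeq.ptHom (AdeqTF.inl B N'))).hom.map_zero

end Aux

/-- Let `F` be a module-valued functor on `A`-algebras with right exact tangent functors (for every
`A`-algebra `B` and short exact `0 → N₁ → N → N₂ → 0` of `B`-modules, `TF(B, N₁) → TF(B, N) → TF(B,
N₂) → 0` is exact). Then `TF(B, N₁ ⊕ N₂) = TF(B, N₁) ⊕ TF(B, N₂)`: the map from the product induced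
by the two inclusions is bijective. -/
theorem result (A : Type u) [CommRing A] (F : Adeq.MVF A)
    (hF : (∀ (B : Adeq.Alg A) (S : ShortComplex (ModuleCat.{u} B)), S.ShortExact →
        Function.Surjective (AdeqTF.tangentMap B F S.g) ∧
          (AdeqTF.tangentMap B F S.g).ker = (AdeqTF.tangentMap B F S.f).range))
    (B : Adeq.Alg A) (N₁ N₂ : ModuleCat.{u} B) :
    Function.Bijective ((AdeqTF.tangentMap B F (biprod.inl : N₁ ⟶ N₁ ⊞ N₂)).coprod
      (AdeqTF.tangentMap B F (biprod.inr : N₂ ⟶ N₁ ⊞ N₂))) := by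
  have hS : (ShortComplex.mk (biprod.inl : N₁ ⟶ N₁ ⊞ N₂) biprod.snd biprod.inl_snd).ShortExact :=
    (ShortComplex.Splitting.ofHasBinaryBiproduct N₁ N₂).shortExact
  obtain ⟨-, hker⟩ := hF B _ hS
  simp only at hker
  have hsndinl : ∀ x, AdeqTF.tangentMap B F (biprod.snd : N₁ ⊞ N₂ ⟶ N₂)
      (AdeqTF.tangentMap B F (biprod.inl : N₁ ⟶ N₁ ⊞ N₂) x) = 0 := by
    intro x
    rw [← tangentMap_comp, biprod.inl_snd, tangentMap_zero]
  have hsndinr : ∀ x, AdeqTF.tangentMap B F (biprod.snd : N₁ ⊞ N₂ ⟶ N₂)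
      (AdeqTF.tangentMap B F (biprod.inr : N₂ ⟶ N₁ ⊞ N₂) x) = x := by
    intro x
    rw [← tangentMap_comp, biprod.inr_snd, tangentMap_id]
  have hfstinl : ∀ x, AdeqTF.tangentMap B F (biprod.fst : N₁ ⊞ N₂ ⟶ N₁)
      (AdeqTF.tangentMap B F (biprod.inl : N₁ ⟶ N₁ ⊞ N₂) x) = x := by
    intro x
    rw [← tangentMap_comp, biprod.inl_fst, tangentMap_id]
  have hfstinr : ∀ x, AdeqTF.tangentMap B F (biprod.fst : N₁ ⊞ N₂ ⟶ N₁)
      (AdeqTF.tangentMap B F (biprod.inr : N₂ ⟶ N₁ ⊞ N₂) x) = 0 := by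
    intro x
    rw [← tangentMap_comp, biprod.inr_fst, tangentMap_zero]
  constructor
  · rw [injective_iff_map_eq_zero]
    rintro ⟨t1, t2⟩ h
    rw [AddMonoidHom.coprod_apply] at h
    have h2 := congrArg (AdeqTF.tangentMap B F (biprod.snd : N₁ ⊞ N₂ ⟶ N₂)) h
    rw [map_add, hsndinl, hsndinr, zero_add, map_zero] at h2
    have h1 := congrArg (AdeqTF.tangentMap B F (biprod.fst : N₁ ⊞ N₂ ⟶ N₁)) h
    rw [map_add, hfstinl, hfstinr, add_zero, map_zero] at h1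
    exact Prod.ext h1 h2
  · intro t
    set t2 := AdeqTF.tangentMap B F (biprod.snd : N₁ ⊞ N₂ ⟶ N₂) t with ht2
    have hmem : t - AdeqTF.tangentMap B F (biprod.inr : N₂ ⟶ N₁ ⊞ N₂) t2 ∈
        (AdeqTF.tangentMap B F (biprod.snd : N₁ ⊞ N₂ ⟶ N₂)).ker := by
      rw [AddMonoidHom.mem_ker, map_sub, hsndinr, sub_self]
    rw [hker] at hmem
    obtain ⟨t1, ht1⟩ := hmem
    refine ⟨(t1, t2), ?_⟩
    rw [AddMonoidHom.coprod_apply, ht1]
    abel

end Groth.Agent.S8783
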