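import Groth.Statements.S8782
import Mathlib.Algebra.Homology.ShortComplex.ModuleCat
import Groth.Agent.S8781
import Groth.Agent.S8783

set_option autoImplicit false
universe u
open CategoryTheory Limits
open AdeqTF

namespace Groth.Agent.S8782

open Groth.Agent.S8781

variable {A : Type u} [CommRing A]

theorem mp_map_map_zero (F : Adeq.MVF A) (B : Adeq.Alg A) {N₁ N N₂ : ModuleCat.{u} B}
    (f : N₁ ⟶ N) (g : N ⟶ N₂) (hfg : f ≫ g = 0)
    (w : F.obj (Adeq.pt (AdeqTF.ext B N₁))) (hw : mp F (Adeq.ptHom (AdeqTF.fst B N₁)) w = 0) :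
    mp F (Adeq.ptHom (AdeqTF.map B g)) (mp F (Adeq.ptHom (AdeqTF.map B f)) w) = 0 := by
  rw [← mp_comp]
  have e : Adeq.ptHom (AdeqTF.map B f) ≫ Adeq.ptHom (AdeqTF.map B g) =
      Adeq.ptHom (AdeqTF.fst B N₁) ≫ Adeq.ptHom (AdeqTF.inl B N₂) := by
    have h1 : AdeqTF.map B f ≫ AdeqTF.map B g = AdeqTF.fst B N₁ ≫ AdeqTF.inl B N₂ := by
      rw [← Groth.Agent.S8783.extMap_comp, hfg, Groth.Agent.S8783.extMap_zero]
    exact congrArg Adeq.ptHom h1
  rw [mp_congr F e, mp_comp, hw, map_zero]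

/-- If `0 → F → G → H → 0` is a short exact sequence of module-valued functors on `A`-algebras and `F`,
`H` have right exact tangent functors (for every `A`-algebra `B` and short exact `0 → N₁ → N → N₂ →
0` of `B`-modules, `T(B, N₁) → T(B, N) → T(B, N₂) → 0` is exact), so does `G`. -/
theorem result (A : Type u) [CommRing A] (C : ShortComplex (Adeq.MVF A))
    (hC : C.ShortExact)
    (h₁ : (∀ (B : Adeq.Alg A) (S : ShortComplex (ModuleCat.{u} B)), S.ShortExact →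
        Function.Surjective (AdeqTF.tangentMap B C.X₁ S.g) ∧
          (AdeqTF.tangentMap B C.X₁ S.g).ker = (AdeqTF.tangentMap B C.X₁ S.f).range))
    (h₃ : (∀ (B : Adeq.Alg A) (S : ShortComplex (ModuleCat.{u} B)), S.ShortExact →
        Function.Surjective (AdeqTF.tangentMap B C.X₃ S.g) ∧
          (AdeqTF.tangentMap B C.X₃ S.g).ker = (AdeqTF.tangentMap B C.X₃ S.f).range)) :
    (∀ (B : Adeq.Alg A) (S : ShortComplex (ModuleCat.{u} B)), S.ShortExact →
        Function.Surjective (AdeqTF.tangentMap B C.X₂ S.g) ∧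
          (AdeqTF.tangentMap B C.X₂ S.g).ker = (AdeqTF.tangentMap B C.X₂ S.f).range) := by
  intro B S hS
  -- pointwise exactness of C
  have hinj : ∀ X, Function.Injective (ap C.f X) := by
    intro X
    have := hC.mono_f
    exact PresheafOfModules.injective_of_mono C.f X
  have hsurj : ∀ X, Function.Surjective (ap C.g X) := by
    intro X
    have := hC.epi_g
    exact PresheafOfModules.surjective_of_epi C.g X
  have hex : ∀ X (y : C.X₂.obj X), ap C.g X y = 0 → ∃ z : C.X₁.obj X, ap C.f X z = y := by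
    intro X y hy
    have : (PresheafOfModules.evaluation.{u + 1} (Adeq.ringOf A) X).Additive :=
      PresheafOfModules.instAdditiveModuleCatCarrierObjOppositeRingCatEvaluation _ X
    have : Limits.PreservesFiniteLimits (PresheafOfModules.evaluation.{u + 1} (Adeq.ringOf A) X) :=
      PresheafOfModules.evaluation_preservesFiniteLimits (Adeq.ringOf A) X
    have : Limits.PreservesFiniteColimits (PresheafOfModules.evaluation.{u + 1} (Adeq.ringOf A) X) :=
      PresheafOfModules.Finite.evaluation_preservesFiniteColimits (Adeq.ringOf A) X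
    have h1 := (hC.exact.map (PresheafOfModules.evaluation.{u + 1} (Adeq.ringOf A) X))
    rw [ShortComplex.moduleCat_exact_iff] at h1
    exact h1 y hy
  have hzero : ∀ X (z : C.X₁.obj X), ap C.g X (ap C.f X z) = 0 := by
    intro X z
    have h1 : C.f.app X ≫ C.g.app X = 0 := by
      rw [← PresheafOfModules.comp_app, C.zero]
      rfl
    exact congrArg (fun (k : C.X₁.obj X ⟶ C.X₃.obj X) => k.hom z) h1
  -- (a) lifting of tangent vectors of X₃ to X₂
  have ha : ∀ (N : ModuleCat.{u} B) (x : C.X₃.obj (Adeq.pt (AdeqTF.ext B N))),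
      mp C.X₃ (Adeq.ptHom (AdeqTF.fst B N)) x = 0 →
      ∃ y : C.X₂.obj (Adeq.pt (AdeqTF.ext B N)),
        mp C.X₂ (Adeq.ptHom (AdeqTF.fst B N)) y = 0 ∧ ap C.g _ y = x := by
    intro N x hx
    obtain ⟨y, rfl⟩ := hsurj _ x
    have hy₀' : ap C.g _ (mp C.X₂ (Adeq.ptHom (AdeqTF.fst B N)) y) = 0 := by
      rw [ap_mp]
      exact hx
    refine ⟨y - mp C.X₂ (Adeq.ptHom (AdeqTF.inl B N)) (mp C.X₂ (Adeq.ptHom (AdeqTF.fst B N)) y),
      ?_, ?_⟩
    · rw [map_sub, mp_inl_fst, sub_self]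
    · rw [map_sub, ap_mp, hy₀', map_zero, sub_zero]
  -- (b) kernel of tangent X₂ → tangent X₃
  have hb : ∀ (N : ModuleCat.{u} B) (y : C.X₂.obj (Adeq.pt (AdeqTF.ext B N))),
      mp C.X₂ (Adeq.ptHom (AdeqTF.fst B N)) y = 0 → ap C.g _ y = 0 →
      ∃ z : C.X₁.obj (Adeq.pt (AdeqTF.ext B N)),
        mp C.X₁ (Adeq.ptHom (AdeqTF.fst B N)) z = 0 ∧ ap C.f _ z = y := by
    intro N y hy hgy
    obtain ⟨z, rfl⟩ := hex _ y hgy
    refine ⟨z, ?_, rfl⟩
    apply hinj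
    rw [ap_mp, hy, map_zero]
  obtain ⟨h₁s, h₁k⟩ := h₁ B S hS
  obtain ⟨h₃s, h₃k⟩ := h₃ B S hS
  rw [surj_iff] at h₁s h₃s ⊢
  rw [ker_eq_range_iff] at h₁k h₃k ⊢
  refine ⟨?_, ?_⟩
  · intro y₂ hy₂
    -- image in X₃
    have hx₂ : mp C.X₃ (Adeq.ptHom (AdeqTF.fst B S.X₃)) (ap C.g _ y₂) = 0 := by
      rw [← ap_mp, hy₂, map_zero]
    obtain ⟨x, hx, hxx₂⟩ := h₃s _ hx₂
    obtain ⟨y, hy, rfl⟩ := ha _ x hx
    have h1 : mp C.X₂ (Adeq.ptHom (AdeqTF.fst B S.X₃))
        (y₂ - mp C.X₂ (Adeq.ptHom (AdeqTF.map B S.g)) y) = 0 := by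
      rw [map_sub, hy₂, mp_map_fst, hy, sub_zero]
    have h2 : ap C.g _ (y₂ - mp C.X₂ (Adeq.ptHom (AdeqTF.map B S.g)) y) = 0 := by
      rw [map_sub, ap_mp, hxx₂, sub_self]
    obtain ⟨z₂, hz₂, hz₂y⟩ := hb _ _ h1 h2
    obtain ⟨z, hz, rfl⟩ := h₁s z₂ hz₂
    refine ⟨y + ap C.f _ z, ?_, ?_⟩
    · rw [map_add, hy, ← ap_mp, hz, map_zero, add_zero]
    · rw [map_add, ← ap_mp, hz₂y]
      abel
  · intro y hy
    constructor
    · intro hgy
      have hx : mp C.X₃ (Adeq.ptHom (AdeqTF.fst B S.X₂)) (ap C.g _ y) = 0 := by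
        rw [← ap_mp, hy, map_zero]
      have hgx : mp C.X₃ (Adeq.ptHom (AdeqTF.map B S.g)) (ap C.g _ y) = 0 := by
        rw [← ap_mp, hgy, map_zero]
      obtain ⟨x₁, hx₁, hx₁x⟩ := (h₃k _ hx).1 hgx
      obtain ⟨y₁, hy₁, rfl⟩ := ha _ x₁ hx₁
      have h1 : mp C.X₂ (Adeq.ptHom (AdeqTF.fst B S.X₂))
          (y - mp C.X₂ (Adeq.ptHom (AdeqTF.map B S.f)) y₁) = 0 := by
        rw [map_sub, hy, mp_map_fst, hy₁, sub_zero]
      have h2 : ap C.g _ (y - mp C.X₂ (Adeq.ptHom (AdeqTF.map B S.f)) y₁) = 0 := by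
        rw [map_sub, ap_mp, hx₁x, sub_self]
      obtain ⟨z, hz, hzy⟩ := hb _ _ h1 h2
      have h3 : mp C.X₁ (Adeq.ptHom (AdeqTF.map B S.g)) z = 0 := by
        apply hinj
        rw [ap_mp, hzy, map_sub, hgy, mp_map_map_zero C.X₂ B S.f S.g S.zero y₁ hy₁, sub_zero,
          map_zero]
      obtain ⟨z₁, hz₁, rfl⟩ := (h₁k _ hz).1 h3
      refine ⟨y₁ + ap C.f _ z₁, ?_, ?_⟩
      · rw [map_add, hy₁, ← ap_mp, hz₁, map_zero, add_zero]
      · rw [map_add, ← ap_mp, hzy]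
        abel
    · rintro ⟨w, hw, rfl⟩
      exact mp_map_map_zero C.X₂ B S.f S.g S.zero w hw

end Groth.Agent.S8782
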