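import Groth.Statements.S8784
import Groth.Agent.Lib.ModStalk
import Groth.Agent.Lib.CGrpShLocal

set_option autoImplicit false
universe u
open CategoryTheory Limits AlgebraicGeometry
open Adeq

namespace Groth.Agent.S8784

/-- The parasitic adequate `O`-modules form a Serre subcategory of the category of adequate `O`-modules
on the big fppf site of a scheme `S`; concretely, if `M₁ → M₂ → M₃` is a complex of adequate
`O`-modules, exact at `M₂` (exactness taken in the category of all `O`-modules, which agrees with
exactness among adequate modules), and `M₁`, `M₃` are parasitic, then `M₂` is parasitic. (The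
published statement also identifies the quotient by this Serre subcategory with the category of
quasi-coherent modules on `S`; that part is not included here.) -/
theorem result (S : Scheme.{u}) (C : ShortComplex (BigSite.Mod Scheme.fppfPrecoverage S))
    (hC : C.Exact) (h₁ : Adeq.adequateMod Scheme.fppfPrecoverage S C.X₁) (h₂ : Adeq.adequateMod Scheme.fppfPrecoverage S C.X₂)
    (h₃ : Adeq.adequateMod Scheme.fppfPrecoverage S C.X₃) (p₁ : Adeq.parasitic Scheme.fppfPrecoverage S C.X₁)
    (p₃ : Adeq.parasitic Scheme.fppfPrecoverage S C.X₃) :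
    Adeq.parasitic Scheme.fppfPrecoverage S C.X₂ := by
  intro U hU
  let K := Scheme.fppfPrecoverage.{u}
  let F := BigSite.toAbMod K S
  have hex : (C.map F).Exact := hC.map F
  let G : BigSite.Ab K S := F.obj C.X₂
  suffices h0 : ∀ x : G.obj.obj (Opposite.op U), x = 0 from
    ⟨fun x y => (h0 x).trans (h0 y).symm⟩
  intro x
  have hgx : (C.map F).g.hom.app (Opposite.op U) x = 0 :=
    (p₃ U hU).elim (α := BigSite.sectMod K C.X₃ U) _ _
  obtain ⟨R, hR, hlift⟩ :=
    Groth.Agent.Lib.CGrpShLocal.exists_cover_lift_of_shortComplex_exact K (C.map F) hex U x hgx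
  -- the sieve where `x` vanishes
  let Z : Sieve U :=
    { arrows := fun V a => G.obj.map a.op x = 0
      downward_closed := by
        intro V W a ha b
        show G.obj.map (b ≫ a).op x = 0
        rw [op_comp, G.obj.map_comp, ConcreteCategory.comp_apply, ha, map_zero] }
  haveI : (@Flat ⊓ @LocallyOfFinitePresentation :
      MorphismProperty Scheme.{u}).ContainsIdentities :=
    ⟨fun X => ⟨(inferInstance : Flat (𝟙 X)), (inferInstance : LocallyOfFinitePresentation (𝟙 X))⟩⟩
  haveI : Scheme.fppfPrecoverage.{u}.HasIsos := by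
    unfold Scheme.fppfPrecoverage; infer_instance
  haveI : Scheme.fppfPrecoverage.{u}.HasPullbacks := by
    unfold Scheme.fppfPrecoverage; infer_instance
  have hZ : Z ∈ QuotSh.J K S U := by
    rw [GrothendieckTopology.mem_over_iff]
    rw [GrothendieckTopology.mem_over_iff] at hR
    rw [Precoverage.mem_toGrothendieck_iff_of_isStableUnderComposition] at hR ⊢
    obtain ⟨R₀, hR₀, hle⟩ := hR
    refine ⟨R₀, hR₀, ?_⟩
    intro W r hr
    have hrR := hle _ _ hr
    rw [Sieve.overEquiv_iff] at hrR ⊢
    obtain ⟨t, ht⟩ := hlift _ hrR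
    have hflat : Flat r := (hR₀.2 hr).1
    have hflat' : Flat (Over.mk (r ≫ U.hom)).hom := by
      show Flat (r ≫ U.hom)
      infer_instance
    have ht0 : t = 0 :=
      (p₁ (Over.mk (r ≫ U.hom)) hflat').elim (α := BigSite.sectMod K C.X₁ _) _ _
    show G.obj.map (Over.homMk r : Over.mk (r ≫ U.hom) ⟶ U).op x = 0
    have ht' : G.obj.map (Over.homMk r : Over.mk (r ≫ U.hom) ⟶ U).op x =
        (C.map F).f.hom.app _ t := ht.symm
    rw [ht', ht0, map_zero]
    rfl
  have hsh : Presieve.IsSheaf (QuotSh.J K S) (G.obj ⋙ forget _) := by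
    rw [← isSheaf_iff_isSheaf_of_type]
    exact ((sheafCompose (QuotSh.J K S) (forget AddCommGrpCat.{u+1})).obj G).2
  refine (hsh.isSeparated Z hZ).ext ?_
  intro V a ha
  show G.obj.map a.op x = G.obj.map a.op 0
  rw [map_zero]
  exact ha

end Groth.Agent.S8784
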