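import Groth.Statements.S8799
import Groth.Agent.S0817
import Groth.Agent.Lib.H29EssConst
-- import your own Groth.Agent.* helpers here

set_option autoImplicit false
universe u
open CategoryTheory Opposite
open LocCoh

namespace Groth.Agent.S8799

/-- Let (A, m) be a Noetherian local ring, (M_n) an inverse system of finite A-modules, and M a finite
A-module with a compatible system of maps M → M_n. Suppose that for some i the induced map H^i_m(M)
→ lim H^i_m(M_n) on local cohomology is bijective, in the sense that an element of H^i_m(M)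
vanishing in every H^i_m(M_n) is zero and every compatible family in the H^i_m(M_n) comes from
H^i_m(M). We conclude that, taking the cone formed by the given maps, essential constancy holds for
the local cohomology system (H^i_m(M_n))_n, and the value it stabilizes at is H^i_m(M). -/
theorem result (A : Type u) [CommRing A] [IsNoetherianRing A] [IsLocalRing A] (Msys : ℕᵒᵖ ⥤ ModuleCat.{u} A) (hfin : ∀ n : ℕᵒᵖ, Module.Finite A (Msys.obj n)) (M : Type u) [AddCommGroup M] [Module A M] [Module.Finite A M] (c : (Functor.const ℕᵒᵖ).obj (ModuleCat.of A M) ⟶ Msys) (i : ℕ) (Hc : (Functor.const ℕᵒᵖ).obj ((localCohomology (IsLocalRing.maximalIdeal A) i).obj (ModuleCat.of A M)) ⟶ Msys ⋙ localCohomology (IsLocalRing.maximalIdeal A) i) (hHc : ∀ n : ℕᵒᵖ, Hc.app n = (localCohomology (IsLocalRing.maximalIdeal A) i).map (c.app n)) (hinj : ∀ x : (localCohomology (IsLocalRing.maximalIdeal A) i).obj (ModuleCat.of A M), (∀ n : ℕᵒᵖ, (Hc.app n) x = 0) → x = 0) (hsurj : ∀ y : (∀ n : ℕ, (localCohomology (IsLocalRing.maximalIdeal A) i).obj (Msys.obj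 (op n))), (∀ (n m : ℕ) (h : n ≤ m), ((localCohomology (IsLocalRing.maximalIdeal A) i).map (Msys.map (homOfLE h).op)) (y m) = y n) → ∃ x : (localCohomology (IsLocalRing.maximalIdeal A) i).obj (ModuleCat.of A M), ∀ n : ℕ, (Hc.app (op n)) x = y n) : DerCA.IsEssConstant (Msys ⋙ localCohomology (IsLocalRing.maximalIdeal A) i) ((localCohomology (IsLocalRing.maximalIdeal A) i).obj (ModuleCat.of A M)) Hc := by
  classical
  let X : ARSys.PS (ModuleCat.{u} A) := Msys ⋙ localCohomology (IsLocalRing.maximalIdeal A) i
  haveI hArt : ∀ n : ℕ, IsArtinian A (X.obj (Opposite.op n)) := by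
    intro n
    haveI := hfin (Opposite.op n)
    exact Groth.Agent.S0817.result A (Msys.obj (Opposite.op n)) i
  let Hobj : ModuleCat.{u} A :=
    (localCohomology (IsLocalRing.maximalIdeal A) i).obj (ModuleCat.of A M)
  haveI hArtH : IsArtinian A Hobj := Groth.Agent.S0817.result A M i
  have ht : Groth.Agent.Lib.H29EssConst.IsSystem (A := A) (fun n : ℕ => X.obj (Opposite.op n))
      (fun {n m} h => (ARSys.tr X h).hom) := by
    refine ⟨fun n x => ?_, fun {n m k} h₁ h₂ x => ?_⟩
    · have : ARSys.tr X (le_refl n) = 𝟙 _ := X.map_id _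
      change (ARSys.tr X (le_refl n)).hom x = x
      rw [this]
      rfl
    · have : ARSys.tr X h₂ ≫ ARSys.tr X h₁ = ARSys.tr X (h₁.trans h₂) := by
        simp only [ARSys.tr, ← Functor.map_comp]
        rfl
      change (ARSys.tr X h₂ ≫ ARSys.tr X h₁).hom x = _
      rw [this]
  let cc : ∀ n : ℕ, Hobj ⟶ X.obj (Opposite.op n) := fun n => Hc.app (Opposite.op n)
  have hc : ∀ {n m : ℕ} (h : n ≤ m) (x : Hobj),
      (ARSys.tr X h).hom ((cc m).hom x) = (cc n).hom x := by
    intro n m h x
    have := Hc.naturality (homOfLE h).op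
    simp only [Functor.const_obj_obj, Functor.const_obj_map, Category.id_comp] at this
    change (cc m ≫ ARSys.tr X h).hom x = _
    have h2 : cc m ≫ ARSys.tr X h = cc n := this.symm
    rw [h2]
  obtain ⟨i0, s, hs1, hs2⟩ := Groth.Agent.Lib.H29EssConst.essConst_of_bijective_to_limit
    (A := A) (X := fun n : ℕ => X.obj (Opposite.op n)) (t := fun {n m} h => (ARSys.tr X h).hom) ht
    Hobj (fun n => (cc n).hom) hc
    (fun x hx => hinj x (fun n => hx n.unop))
    (fun y hy => hsurj y hy)
  refine ⟨i0, ModuleCat.ofHom s, ?_, ?_⟩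
  · apply ModuleCat.hom_ext
    apply LinearMap.ext
    intro x
    exact hs1 x
  · intro j
    obtain ⟨k, hi, hj, hk⟩ := hs2 j
    refine ⟨k, hi, hj, ?_⟩
    apply ModuleCat.hom_ext
    apply LinearMap.ext
    intro z
    exact hk z

end Groth.Agent.S8799
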