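import Groth.Statements.S8803
import Groth.Agent.S0817
import Groth.Agent.Lib.H29ModImage
-- import your own Groth.Agent.* helpers here

set_option autoImplicit false
universe u
open CategoryTheory
open LocCoh

namespace Groth.Agent.S8803

/-- Let (A, m) be a Noetherian local ring and (M_n) an inverse system of finite A-modules. Then for
every i the inverse system H^i_m(M_n) of local cohomology modules satisfies the Mittag-Leffler
condition. -/
theorem result (A : Type u) [CommRing A] [IsNoetherianRing A] [IsLocalRing A] (Msys : ℕᵒᵖ ⥤ ModuleCat.{u} A) (hfin : ∀ n : ℕᵒᵖ, Module.Finite A (Msys.obj n)) (i : ℕ) : ARSys.IsML (Msys ⋙ localCohomology (IsLocalRing.maximalIdeal A) i) := by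
  classical
  intro n
  set X : ARSys.PS (ModuleCat.{u} A) := Msys ⋙ localCohomology (IsLocalRing.maximalIdeal A) i with hX
  haveI hArt : IsArtinian A (X.obj (Opposite.op n)) := by
    haveI := hfin (Opposite.op n)
    exact Groth.Agent.S0817.result A (Msys.obj (Opposite.op n)) i
  -- the ranges of the transition maps form an antitone sequence
  let rg : ℕ → Submodule A (X.obj (Opposite.op n)) := fun s =>
    LinearMap.range (ARSys.shiftMap X s n).hom
  have hanti : Antitone rg := by
    intro r s hrs
    have e : ARSys.tr X (Nat.le_add_right n s)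
        = ARSys.tr X (Nat.add_le_add_left hrs n) ≫ ARSys.tr X (Nat.le_add_right n r) := by
      simp only [ARSys.tr, ← Functor.map_comp]
      rfl
    rintro _ ⟨x, rfl⟩
    refine ⟨(ARSys.tr X (Nat.add_le_add_left hrs n)).hom x, ?_⟩
    change (ARSys.tr X (Nat.le_add_right n r)).hom _ = (ARSys.tr X (Nat.le_add_right n s)).hom x
    rw [e]
    rfl
  obtain ⟨r, hr⟩ := IsArtinian.monotone_stabilizes (R := A)
    (⟨fun s => OrderDual.toDual (rg s), fun a b hab => hanti hab⟩ :
      ℕ →o (Submodule A (X.obj (Opposite.op n)))ᵒᵈ)
  refine ⟨r, fun s hs => ?_⟩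
  apply Groth.Agent.Lib.H29ModImage.imageSubobject_eq_of_range_eq
  have := hr s hs
  exact (OrderDual.toDual.injective this).symm

end Groth.Agent.S8803
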