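import Groth.Statements.S8804
import Groth.Agent.Lib.H94Rig1
import Mathlib.RingTheory.KrullDimension.Field

set_option autoImplicit false
universe u
open AdicRing

namespace Groth.Agent.S8804

open Groth.Agent.Lib.H94Rig

/-- Let A be a Noetherian ring which is complete for the adic topology of an ideal I, and let q be a
prime ideal of A. The following are equivalent: (1) I ⊄ q and q is maximal among the primes not
containing I; (5) dim(A/q) = 1 and I ⊄ q; (8) A/q is a one-dimensional complete local ring whose
maximal ideal is the radical of the image of I (stated as: the Krull dimension of A/q is 1, every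
maximal ideal of A/q equals the radical of I(A/q), and A/q is adically complete for that radical).
(The other equivalent forms, for other ideals of definition or for the induced topology, are not
stated.) -/
theorem result (A : Type u) [CommRing A] [IsNoetherianRing A] (I : Ideal A) [IsAdicComplete I A] (q : PrimeSpectrum A) : List.TFAE [¬ I ≤ q.asIdeal ∧ ∀ q' : PrimeSpectrum A, q ≤ q' → ¬ I ≤ q'.asIdeal → q' = q, ringKrullDim (A ⧸ q.asIdeal) = 1 ∧ ¬ I ≤ q.asIdeal, ringKrullDim (A ⧸ q.asIdeal) = 1 ∧ (∀ m : Ideal (A ⧸ q.asIdeal), m.IsMaximal → m = (I.map (Ideal.Quotient.mk q.asIdeal)).radical) ∧ IsAdicComplete (I.map (Ideal.Quotient.mk q.asIdeal)).radical (A ⧸ q.asIdeal)] := by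
  have hI := IsAdicComplete.le_jacobson_bot I
  tfae_have 1 → 2 := fun h => ⟨ringKrullDim_quotient_eq_one hI h, h.1⟩
  tfae_have 2 → 1 := fun h => isRigClosed_of_ringKrullDim_eq_one hI h.1 h.2
  tfae_have 1 → 3 := fun h => ⟨ringKrullDim_quotient_eq_one hI h,
    fun m hm => isMaximal_eq_radical h m hm, isAdicComplete_radical q.asIdeal⟩
  tfae_have 3 → 2 := by
    rintro ⟨h1, h2, -⟩
    refine ⟨h1, fun hIq => ?_⟩
    obtain ⟨m, hm⟩ := Ideal.exists_maximal (A ⧸ q.asIdeal)
    have hmap : I.map (Ideal.Quotient.mk q.asIdeal) = ⊥ := by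
      rw [Ideal.map_eq_bot_iff_le_ker, Ideal.mk_ker]
      exact hIq
    have hm0 : m = ⊥ := by
      rw [h2 m hm, hmap]
      exact Ideal.radical_bot_of_isReduced
    have hf : IsField (A ⧸ q.asIdeal) := by
      rw [Ring.isField_iff_maximal_bot]
      exact hm0 ▸ hm
    rw [ringKrullDim_eq_zero_of_isField hf] at h1
    exact zero_ne_one h1
  tfae_finish

end Groth.Agent.S8804
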