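import Groth.Statements.S8815
import Groth.Agent.Lib.DeltaZDim
import Groth.Agent.Lib.DeltaZSpec
import Groth.Agent.Lib.CatenaryDim

set_option autoImplicit false
universe u
open CategoryTheory AlgebraicGeometry
open Algz

namespace Groth.Agent.S8815

open Groth.Agent.Lib.DeltaZ Groth.Agent.Lib.CatenaryDim in
/-- coheight is a dimension function on the spectrum of a catenary Noetherian local ring. -/
theorem isDimFn_coheight (A : Type u) [CommRing A] [IsNoetherianRing A] [IsLocalRing A]
    (hA : CAlg.IsCatenary A) :
    IsDimFn (Y := PrimeSpectrum A) (fun p => ((Order.coheight p).toNat : ℤ)) := by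
  intro x y hxy hne
  have hle : x ≤ y := (PrimeSpectrum.le_iff_specializes x y).2 hxy
  have hlt : x < y := lt_of_le_of_ne hle hne
  have hx := coheight_lt_top x
  have hy := coheight_lt_top y
  obtain ⟨m, hm⟩ := ENat.ne_top_iff_exists.1 hx.ne
  obtain ⟨n, hn⟩ := ENat.ne_top_iff_exists.1 hy.ne
  constructor
  · have := Order.coheight_strictAnti hlt hy
    beta_reduce
    rw [← hm, ← hn] at this ⊢
    simp only [ENat.toNat_natCast]
    exact_mod_cast this
  · intro himm
    have hcov : x ⋖ y := by
      refine ⟨hlt, fun z hxz hzy => ?_⟩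
      rcases himm z ((PrimeSpectrum.le_iff_specializes x z).1 hxz.le)
        ((PrimeSpectrum.le_iff_specializes z y).1 hzy.le) with rfl | rfl
      · exact lt_irrefl _ hxz
      · exact lt_irrefl _ hzy
    have := coheight_eq_add_one_of_covBy_of_isCatenary hA hcov
    beta_reduce
    rw [← hm, ← hn] at this ⊢
    simp only [ENat.toNat_natCast]
    exact_mod_cast this


/-- Let A be a catenary Noetherian local ring, Y = Spec A and Z the closed point. Then δ_Z(y) equals the
dimension of the closure of y, i.e. dim(A/p_y), for every point y. -/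
theorem result (A : Type u) [CommRing A] [IsNoetherianRing A] [IsLocalRing A] (hA : CAlg.IsCatenary A) (y : Spec (CommRingCat.of A)) : ((Algz.deltaZ ({IsLocalRing.closedPoint A} : Set (Spec (CommRingCat.of A))) y : ℕ∞) : WithBot ℕ∞) = ringKrullDim (A ⧸ y.asIdeal) := by
  rw [← Groth.Agent.Lib.DeltaZ.coheight_eq_ringKrullDim_quotient (R := A) y]
  congr 1
  have hym : (y : PrimeSpectrum A) ⤳ IsLocalRing.closedPoint A :=
    IsLocalRing.specializes_closedPoint y
  apply le_antisymm
  · exact (Groth.Agent.Lib.DeltaZ.deltaZ_le_cod (Y := PrimeSpectrum A)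
      (Z := {IsLocalRing.closedPoint A}) y _ hym (Set.mem_singleton _)).trans
      (Groth.Agent.Lib.DeltaZ.cod_le_coheight y _ hym)
  · rcases eq_or_ne (Algz.deltaZ ({IsLocalRing.closedPoint A} : Set (PrimeSpectrum A)) y) ⊤ with
      htop | hfin
    · exact le_top.trans htop.ge
    · obtain ⟨n, hn⟩ := ENat.ne_top_iff_exists.1 hfin
      obtain ⟨z, hz, hle⟩ := Groth.Agent.Lib.DeltaZ.exists_le_add_of_deltaZ_eq
        (isDimFn_coheight A hA) hn.symm
      rw [Set.mem_singleton_iff] at hz
      subst hz
      have h0 : Order.coheight (IsLocalRing.closedPoint A) = 0 := by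
        rw [Order.coheight_eq_zero]
        intro b hb
        exact IsLocalRing.le_maximalIdeal b.2.ne_top
      have hy := Groth.Agent.Lib.CatenaryDim.coheight_lt_top (y : PrimeSpectrum A)
      obtain ⟨m, hm⟩ := ENat.ne_top_iff_exists.1 hy.ne
      refine le_trans ?_ hn.le
      rw [← hm]
      simp only [h0, ← hm, ENat.toNat_natCast, ENat.toNat_zero] at hle
      exact_mod_cast (by omega : m ≤ n)

end Groth.Agent.S8815
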