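import Groth.Statements.S8817
import Groth.Agent.Lib.DeltaZ

set_option autoImplicit false
universe u
open CategoryTheory AlgebraicGeometry
open Algz

namespace Groth.Agent.S8817

/-- Let Y be a Noetherian scheme, Z ⊆ Y a closed subset and Y' ⊆ Y an open subscheme. For a point y' of
Y' the distance function of Y' relative to Y' ∩ Z at y' is at least the distance function of Y
relative to Z at y'. -/
theorem result (Y : Scheme.{u}) [IsNoetherian Y] (Z : Set Y) (hZ : IsClosed Z) (Y' : Y.Opens) (y' : (↑Y' : Scheme.{u})) : Algz.deltaZ Z (Y'.ι.base y') ≤ Algz.deltaZ ((fun x : (↑Y' : Scheme.{u}) => Y'.ι.base x) ⁻¹' Z) y' := by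
  exact Groth.Agent.Lib.DeltaZ.deltaZ_map_le (f := fun x : (↑Y' : Scheme.{u}) => Y'.ι.base x)
    Y'.ι.isOpenEmbedding.isEmbedding Y'.ι.isOpenEmbedding.isOpen_range.stableUnderGeneralization y'

end Groth.Agent.S8817
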