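import Groth.Statements.S8819
-- import your own Groth.Agent.* helpers here

set_option autoImplicit false
universe u
open scoped BigOperators
open LocCoh

namespace Groth.Agent.S8819

section Aux

variable {A : Type u} [CommRing A] {r : ℕ} (I : Ideal A) (c : ℕ)
  (φ : Fin r → (↥(I ^ c) →ₗ[A] A))

open Classical in
/-- the recursively defined graded pieces of the algebra map -/
noncomputable def Phi : ℕ → A → MvPolynomial (Fin r) A
  | 0, a => MvPolynomial.C a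
  | n + 1, g => if hg : g ∈ I ^ c then ∑ j, Phi n (φ j ⟨g, hg⟩) * MvPolynomial.X j else 0

theorem Phi_zero (a : A) : Phi I c φ 0 a = MvPolynomial.C a := rfl

theorem Phi_succ (n : ℕ) (g : A) (hg : g ∈ I ^ c) :
    Phi I c φ (n + 1) g = ∑ j, Phi I c φ n (φ j ⟨g, hg⟩) * MvPolynomial.X j := by
  rw [Phi, dif_pos hg]

theorem pow_succ_mul_le (n : ℕ) : I ^ ((n + 1) * c) ≤ I ^ c :=
  Ideal.pow_le_pow_right (Nat.le_mul_of_pos_left c (Nat.succ_pos n))

theorem pow_succ_mul_eq (n : ℕ) : I ^ ((n + 1) * c) = I ^ (n * c) * I ^ c := by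
  rw [Nat.succ_mul, pow_add]

theorem phi_mul (j : Fin r) (a b : A) (hb : b ∈ I ^ c) (hab : a * b ∈ I ^ c) :
    φ j ⟨a * b, hab⟩ = a * φ j ⟨b, hb⟩ := by
  have : (⟨a * b, hab⟩ : ↥(I ^ c)) = a • ⟨b, hb⟩ := by
    ext; simp
  rw [this, map_smul, smul_eq_mul]

theorem phi_add (j : Fin r) (a b : A) (ha : a ∈ I ^ c) (hb : b ∈ I ^ c) (hab : a + b ∈ I ^ c) :
    φ j ⟨a + b, hab⟩ = φ j ⟨a, ha⟩ + φ j ⟨b, hb⟩ := by
  have : (⟨a + b, hab⟩ : ↥(I ^ c)) = ⟨a, ha⟩ + ⟨b, hb⟩ := by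
    ext; simp
  rw [this, map_add]

theorem phi_mem (j : Fin r) (n : ℕ) (g : A) (hg' : g ∈ I ^ ((n + 1) * c)) (hg : g ∈ I ^ c) :
    φ j ⟨g, hg⟩ ∈ I ^ (n * c) := by
  rw [pow_succ_mul_eq] at hg'
  have key : g ∈ I ^ c ∧ ∀ hg : g ∈ I ^ c, φ j ⟨g, hg⟩ ∈ I ^ (n * c) := by
    refine Submodule.mul_induction_on hg' ?_ ?_
    · intro a ha b hb
      refine ⟨Ideal.mul_mem_left _ _ hb, fun hab => ?_⟩
      rw [phi_mul I c φ j a b hb hab]
      exact Ideal.mul_mem_right _ _ ha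
    · intro x y hx hy
      refine ⟨add_mem hx.1 hy.1, fun hxy => ?_⟩
      rw [phi_add I c φ j x y hx.1 hy.1 hxy]
      exact add_mem (hx.2 _) (hy.2 _)
  exact key.2 hg

theorem Phi_add (n : ℕ) : ∀ g ∈ I ^ (n * c), ∀ h ∈ I ^ (n * c),
    Phi I c φ n (g + h) = Phi I c φ n g + Phi I c φ n h := by
  induction n with
  | zero => intro g _ h _; simp [Phi_zero]
  | succ n ih =>
    intro g hg h hh
    have hg' := pow_succ_mul_le I c n hg
    have hh' := pow_succ_mul_le I c n hh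
    rw [Phi_succ I c φ n _ (add_mem hg' hh'), Phi_succ I c φ n _ hg', Phi_succ I c φ n _ hh',
      ← Finset.sum_add_distrib]
    refine Finset.sum_congr rfl fun j _ => ?_
    rw [phi_add I c φ j g h hg' hh', ih _ (phi_mem I c φ j n g hg hg') _ (phi_mem I c φ j n h hh hh'),
      add_mul]

theorem Phi_smul (n : ℕ) : ∀ (a : A), ∀ g ∈ I ^ (n * c),
    Phi I c φ n (a * g) = a • Phi I c φ n g := by
  induction n with
  | zero => intro a g _; simp [Phi_zero, MvPolynomial.smul_eq_C_mul]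
  | succ n ih =>
    intro a g hg
    have hg' := pow_succ_mul_le I c n hg
    rw [Phi_succ I c φ n _ (Ideal.mul_mem_left _ a hg'), Phi_succ I c φ n _ hg', Finset.smul_sum]
    refine Finset.sum_congr rfl fun j _ => ?_
    rw [phi_mul I c φ j a g hg', ih _ _ (phi_mem I c φ j n g hg hg'), smul_mul_assoc]

theorem Phi_homog (n : ℕ) : ∀ g ∈ I ^ (n * c), (Phi I c φ n g).IsHomogeneous n := by
  induction n with
  | zero => intro g _; rw [Phi_zero]; exact MvPolynomial.isHomogeneous_C _ _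
  | succ n ih =>
    intro g hg
    have hg' := pow_succ_mul_le I c n hg
    rw [Phi_succ I c φ n _ hg']
    refine MvPolynomial.IsHomogeneous.sum _ _ _ fun j _ => ?_
    exact (ih _ (phi_mem I c φ j n g hg hg')).mul (MvPolynomial.isHomogeneous_X _ j)

theorem Phi_mul (n : ℕ) : ∀ (m : ℕ), ∀ g ∈ I ^ (n * c), ∀ h ∈ I ^ (m * c),
    Phi I c φ (n + m) (g * h) = Phi I c φ n g * Phi I c φ m h := by
  induction n with
  | zero =>
    intro m g _ h hh
    rw [Nat.zero_add, Phi_smul I c φ m g h hh, Phi_zero, MvPolynomial.smul_eq_C_mul]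
  | succ n ih =>
    intro m g hg h hh
    have hg' := pow_succ_mul_le I c n hg
    have hgh : g * h ∈ I ^ c := Ideal.mul_mem_right _ _ hg'
    have e : n + 1 + m = (n + m) + 1 := by omega
    rw [e, Phi_succ I c φ (n + m) _ hgh, Phi_succ I c φ n _ hg', Finset.sum_mul]
    refine Finset.sum_congr rfl fun j _ => ?_
    have e2 : φ j ⟨g * h, hgh⟩ = φ j ⟨g, hg'⟩ * h := by
      have hhg : h * g ∈ I ^ c := by rwa [mul_comm]
      have : (⟨g * h, hgh⟩ : ↥(I ^ c)) = ⟨h * g, hhg⟩ := by ext; simp [mul_comm]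
      rw [this, phi_mul I c φ j h g hg' hhg, mul_comm]
    rw [e2, ih m _ (phi_mem I c φ j n g hg hg') h hh]
    ring

theorem Phi_aeval (f : Fin r → A) (hφ : ∀ x : ↥(I ^ c), (x : A) = ∑ j, f j * φ j x) (n : ℕ) :
    ∀ g ∈ I ^ (n * c), MvPolynomial.aeval f (Phi I c φ n g) = g := by
  induction n with
  | zero => intro g _; simp [Phi_zero]
  | succ n ih =>
    intro g hg
    have hg' := pow_succ_mul_le I c n hg
    rw [Phi_succ I c φ n _ hg', map_sum]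
    conv_rhs => rw [show g = ((⟨g, hg'⟩ : ↥(I ^ c)) : A) from rfl, hφ ⟨g, hg'⟩]
    refine Finset.sum_congr rfl fun j _ => ?_
    rw [map_mul, MvPolynomial.aeval_X, ih _ (phi_mem I c φ j n g hg hg'), mul_comm]

end Aux


/-- Let A be a Noetherian ring, f_1, …, f_r ∈ A and I = (f_1, …, f_r) with cd(A, I) = 1; let c ≥ 1 and
let φ_j : I^c → A be A-linear maps with x = Σ_j f_j φ_j(x) for all x ∈ I^c. Under these assumptions,
exactly one homomorphism of graded A-algebras, from ⊕_{n ≥ 0} I^{nc} into the polynomial ring A[T_1,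
…, T_r], exists that sends each g ∈ I^c to Σ_j φ_j(g) T_j; call it Φ. Here Φ is encoded by functions
Φ_n : A → A[T_1, …, T_r] whose values on I^{nc} are A-linear, homogeneous of degree n,
multiplicative (Φ_{n+m}(gh) = Φ_n(g)Φ_m(h)), with Φ_0 the structure map and Φ_1 as prescribed;
uniqueness is asserted for the values on the I^{nc}. Moreover substituting T_j ↦ f_j in Φ_n(g) gives
back g for every g ∈ I^{nc}. -/
theorem result (A : Type u) [CommRing A] [IsNoetherianRing A] (r : ℕ) (f : Fin r → A) (I : Ideal A) (hI : I = Ideal.span (Set.range f)) (h1 : LocCoh.CdLE A I 1) (h0 : ¬ LocCoh.CdLE A I 0) (c : ℕ) (hc : 1 ≤ c) (φ : Fin r → (↥(I ^ c) →ₗ[A] A)) (hφ : ∀ x : ↥(I ^ c), (x : A) = ∑ j, f j * φ j x) : ∃ Φ : ℕ → A → MvPolynomial (Fin r) A, (((∀ n : ℕ, ∀ g ∈ I ^ (n * c), ∀ h ∈ I ^ (n * c), Φ n (g + h) = Φ n g + Φ n h) ∧ (∀ (n : ℕ) (a : A), ∀ g ∈ I ^ (n * c), Φ n (a * g) = a • Φ n g) ∧ (∀ n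 : ℕ, ∀ g ∈ I ^ (n * c), (Φ n g).IsHomogeneous n) ∧ (∀ n m : ℕ, ∀ g ∈ I ^ (n * c), ∀ h ∈ I ^ (m * c), Φ (n + m) (g * h) = Φ n g * Φ m h) ∧ (∀ a : A, Φ 0 a = MvPolynomial.C a) ∧ (∀ (g : A) (hg : g ∈ I ^ c), Φ 1 g = ∑ j, MvPolynomial.C (φ j ⟨g, hg⟩) * MvPolynomial.X j)) ∧ ∀ n : ℕ, ∀ g ∈ I ^ (n * c), MvPolynomial.aeval f (Φ n g) = g) ∧ ∀ Ψ : ℕ → A → MvPolynomial (Fin r) A, ((∀ n : ℕ, ∀ g ∈ I ^ (n * c), ∀ h ∈ I ^ (n * c), Ψ n (g + h) = Ψ n g + Ψ n h) ∧ (∀ (n : ℕ) (a : A), ∀ g ∈ I ^ (n * c), Ψ n (a * g) = a • Ψ n g) ∧ (∀ n : ℕ, ∀ g ∈ I ^ (n * c), (Ψ n g).IsHomogeneous n) ∧ (∀ n m : ℕ, ∀ g ∈ I ^ (n * c), ∀ h ∈ I ^ (m * c), Ψ (n + m) (g * h) = Ψ n g * Ψ m h) ∧ (∀ a : A, Ψ 0 a = MvPolynomial.C a) ∧ (∀ (g : A) (hg : g ∈ I ^ c), Ψ 1 g = ∑ j, MvPolynomial.C (φ j ⟨g, hg⟩) * MvPolynomial.X j)) → ∀ n : ℕ, ∀ g ∈ I ^ (n * c), Ψ n g = Φ n g := by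
  classical
  refine ⟨Phi I c φ, ⟨⟨Phi_add I c φ, Phi_smul I c φ, Phi_homog I c φ,
    fun n m => Phi_mul I c φ n m, Phi_zero I c φ, ?_⟩, Phi_aeval I c φ f hφ⟩, ?_⟩
  · intro g hg
    rw [Phi_succ I c φ 0 g hg]
    rfl
  · rintro Ψ ⟨hadd, -, -, hmul, hzero, hone⟩ n
    induction n with
    | zero => intro g _; rw [hzero, Phi_zero]
    | succ n ih =>
      intro g hg
      have hg2 := hg
      rw [pow_succ_mul_eq] at hg2
      refine Submodule.mul_induction_on' (C := fun x _ => Ψ (n + 1) x = Phi I c φ (n + 1) x)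
        ?_ ?_ hg2
      · intro a ha b hb
        have hb1 : b ∈ I ^ (1 * c) := by rwa [one_mul]
        rw [hmul n 1 a ha b hb1, Phi_mul I c φ n 1 a ha b hb1, ih a ha, hone b hb,
          Phi_succ I c φ 0 b hb]
        rfl
      · intro x hx y hy ex ey
        rw [← pow_succ_mul_eq] at hx hy
        rw [hadd (n + 1) x hx y hy, Phi_add I c φ (n + 1) x hx y hy, ex, ey]

end Groth.Agent.S8819
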