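import Groth.Statements.S8820
import Groth.Agent.Lib.H8CodFormula
import Groth.Agent.Lib.H8DeltaShift
import Groth.Agent.Lib.FibreDimStrata

set_option autoImplicit false
universe u
open CategoryTheory AlgebraicGeometry Limits
open Algz

namespace Groth.Agent.S8820

open Groth.Agent.Lib.DeltaZ Groth.Agent.Lib.H30DimRel Groth.Agent.Lib.H8CodFormula
  Groth.Agent.Lib.H8DeltaShift



/-- Let Y be a universally catenary Noetherian scheme (every local ring universally catenary), Z ⊆ Y a
closed subset, f : Y' → Y a morphism of finite type from a Noetherian scheme all of whose fibres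
have dimension at most e, and Z' = f⁻¹(Z). Then for every point y' of Y' with image y, if the
residue field extension κ(y')/κ(y) has transcendence degree t, one has δ_Z(y) + t ≤ δ_{Z'}(y') + e
(equivalently δ_Z(y) ≤ δ_{Z'}(y') + e − t; written without subtraction). -/
theorem result (Y Y' : Scheme.{u}) [IsNoetherian Y] [IsNoetherian Y'] (hY : ∀ y : Y, CAlg.IsUniversallyCatenary (Y.presheaf.stalk y)) (Z : Set Y) (hZ : IsClosed Z) (f : Y' ⟶ Y) [LocallyOfFiniteType f] (e : ℕ) (hfib : ∀ y : Y, topologicalKrullDim ↑(pullback f (Y.fromSpecResidueField y)) ≤ (e : WithBot ℕ∞)) (y' : Y') (t : ℕ) (ht : @Algebra.trdeg (Y.residueField (f.base y')) (Y'.residueField y') _ _ (f.residueFieldMap y').hom.toAlgebra = t) : Algz.deltaZ Z (f.base y') + t ≤ Algz.deltaZ (f.base ⁻¹' Z) y' + e := by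
  have hrt : rt f y' = t := rt_eq_of_trdeg_eq f y' t ht
  have hrtle : ∀ x : Y', rt f x ≤ e := by
    intro x
    have h1 := Groth.Agent.Lib.FibreDimStrata.rt_le_dim_fiber f x
    have h2 := h1.trans (hfib (f x))
    exact_mod_cast h2
  -- reduce to a single system
  by_cases htop : Algz.deltaZ (f.base ⁻¹' Z) y' = ⊤
  · rw [htop]; simp
  obtain ⟨n, hn⟩ := ENat.ne_top_iff_exists.1 htop
  have hlt : Algz.deltaZ (f.base ⁻¹' Z) y' < ((n + 1 : ℕ) : ℕ∞) := by
    rw [← hn]; exact_mod_cast Nat.lt_succ_self n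
  unfold Algz.deltaZ at hlt
  rw [iInf_lt_iff] at hlt
  obtain ⟨k, hk⟩ := hlt
  rw [iInf_lt_iff] at hk
  obtain ⟨S, hS⟩ := hk
  have hSn : S.delta ≤ Algz.deltaZ (f.base ⁻¹' Z) y' := by
    rw [← hn]
    rw [Nat.cast_add, Nat.cast_one] at hS
    exact Order.le_of_lt_add_one hS
  -- the image system
  have h1 : Algz.deltaZ Z (f.base y') ≤ (mapSys f.base f.continuous S).delta :=
    deltaZ_le_delta _
  rw [delta_eq_val] at h1
  rw [delta_eq_val] at hSn
  -- choose the natural codimensions
  have hc := fun i => cod_formula hY f (S.w i) (S.v i) (S.spec i)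
  have hb := fun i : Fin k => cod_formula hY f (S.w i.castSucc) (S.v i.succ) (S.spec_succ i)
  choose c c' hc1 hc2 hc3 using hc
  choose b b' hb1 hb2 hb3 using hb
  have key := val_shift c c' (fun i => rt f (S.v i)) (fun i => rt f (S.w i)) b b' e
    hc3 hb3 (fun i => hrtle _) (hrtle _)
  have e1 : (fun i => cod ((mapSys f.base f.continuous S).w i) ((mapSys f.base f.continuous S).v i))
      = fun i => (c i : ℕ∞) := funext fun i => hc2 i
  have e2 : (fun i : Fin k => cod ((mapSys f.base f.continuous S).w i.castSucc)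
      ((mapSys f.base f.continuous S).v i.succ)) = fun i => (b i : ℕ∞) := funext fun i => hb2 i
  have e3 : (fun i => cod (S.w i) (S.v i)) = fun i => (c' i : ℕ∞) := funext fun i => hc1 i
  have e4 : (fun i : Fin k => cod (S.w i.castSucc) (S.v i.succ)) = fun i => (b' i : ℕ∞) :=
    funext fun i => hb1 i
  rw [e1, e2] at h1
  rw [e3, e4] at hSn
  have e5 : rt f (S.w (Fin.last k)) = t := by rw [S.last_eq]; exact hrt
  simp only [e5] at key
  calc Algz.deltaZ Z (f.base y') + (t : ℕ∞) ≤ _ + (t : ℕ∞) := add_le_add h1 le_rfl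
    _ ≤ _ := key
    _ ≤ _ := add_le_add hSn le_rfl

end Groth.Agent.S8820
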