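import Groth.Statements.S8821
import Groth.Prelude.Def_KLin
import Mathlib.CategoryTheory.Abelian.Refinements
-- import your own Groth.Agent.* helpers here

set_option autoImplicit false
universe u
open CategoryTheory AlgebraicGeometry
open Formal2

namespace Groth.Agent.S8821

open CategoryTheory.Limits

section aux

variable {A : Type u} [CommRing A] {X : Scheme.{u}} [X.Over (Spec (CommRingCat.of A))]

theorem smulMod_mul (M : X.Modules) (a b : A) :
    Formal.smulMod A M (a * b) = Formal.smulMod A M a ≫ Formal.smulMod A M b := by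
  unfold Formal.smulMod
  rw [map_mul, KLin.smulModΓ_mul]

theorem comp_smulMod {M N : X.Modules} (g : M ⟶ N) (a : A) :
    g ≫ Formal.smulMod A N a = Formal.smulMod A M a ≫ g :=
  KLin.comp_smulModΓ g _

theorem ι_smulFamily (J : Ideal A) (F : X.Modules) (a : J) :
    Sigma.ι (fun _ : J => F) a ≫ Formal.smulFamily J F = Formal.smulMod A F (a : A) := by
  unfold Formal.smulFamily
  exact Sigma.ι_desc _ _

theorem smulFamily_comp_eq_zero_iff (f : A) (m : ℕ) {F Z : X.Modules} (g : F ⟶ Z) :
    Formal.smulFamily ((Ideal.span ({f} : Set A)) ^ m) F ≫ g = 0 ↔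
      Formal.smulMod A F (f ^ m) ≫ g = 0 := by
  constructor
  · intro h
    have hm : f ^ m ∈ (Ideal.span ({f} : Set A)) ^ m :=
      Ideal.pow_mem_pow (Ideal.mem_span_singleton_self f) m
    have := ι_smulFamily ((Ideal.span ({f} : Set A)) ^ m) F ⟨f ^ m, hm⟩
    rw [← this, Category.assoc, h, comp_zero]
  · intro h
    apply Sigma.hom_ext
    intro a
    rw [comp_zero, ← Category.assoc]
    have ha : (a : A) ∈ Ideal.span ({f ^ m} : Set A) := by
      rw [← Ideal.span_singleton_pow]; exact a.2
    obtain ⟨b, hb⟩ := Ideal.mem_span_singleton'.1 ha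
    rw [ι_smulFamily, ← hb, smulMod_mul, Category.assoc, h, comp_zero]

theorem smulMod_pow_π (f : A) (m : ℕ) (F : X.Modules) :
    Formal.smulMod A F (f ^ m) ≫ Formal.modPowπ (Ideal.span ({f} : Set A)) m F = 0 :=
  (smulFamily_comp_eq_zero_iff f m _).1 (cokernel.condition _)

/-- `F --f^m--> F --π--> F/f^m F` is exact. -/
theorem exact_smulMod_pow (f : A) (m : ℕ) (F : X.Modules) :
    (ShortComplex.mk (Formal.smulMod A F (f ^ m)) (Formal.modPowπ (Ideal.span ({f} : Set A)) m F)
      (smulMod_pow_π f m F)).Exact := by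
  apply ShortComplex.exact_of_g_is_cokernel
  exact CokernelCofork.IsColimit.ofπ _ _
    (fun {Z} g hg => cokernel.desc _ g ((smulFamily_comp_eq_zero_iff f m g).2 hg))
    (fun g hg => cokernel.π_desc _ _ _)
    (fun g hg d hd => by
      have : Epi (cokernel.π (Formal.smulFamily ((Ideal.span ({f} : Set A)) ^ m) F)) :=
        coequalizer.π_epi
      apply (cancel_epi (cokernel.π (Formal.smulFamily ((Ideal.span ({f} : Set A)) ^ m) F))).1
      rw [cokernel.π_desc]
      exact hd)

instance (I : Ideal A) (m : ℕ) (F : X.Modules) : Epi (Formal.modPowπ I m F) := by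
  unfold Formal.modPowπ; exact coequalizer.π_epi

theorem mono_smulMod_pow (f : A) (F : X.Modules) (hF : Mono (Formal.smulMod A F f)) (n : ℕ) :
    Mono (Formal.smulMod A F (f ^ n)) := by
  induction n with
  | zero =>
    have : Formal.smulMod A F (f ^ 0) = 𝟙 F := by
      unfold Formal.smulMod
      rw [pow_zero, map_one, KLin.smulModΓ_one]
    rw [this]; infer_instance
  | succ n ih =>
    rw [pow_succ, smulMod_mul]
    exact mono_comp _ _

end aux

/-- Implication (4) ⇒ (2), for an O_X-module over a base ring A and f ∈ A. Let X be a scheme over Spec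
A, f ∈ A and F an O_X-module on which multiplication by f is a monomorphism. Then for every n ≥ 1
there is a monomorphism i : F/fF → F/f^{n+1}F through which multiplication by f^n on F/f^{n+1}F
factors (projection to F/fF followed by i), and F/fF → F/f^{n+1}F → F/f^nF, with second map the
transition map, is a short exact sequence. (Stated for schemes; the published statement is for
ringed spaces.) -/
theorem result (A : Type u) [CommRing A] (X : Scheme.{u}) [X.Over (Spec (CommRingCat.of A))] (f : A) (F : X.Modules) (hF : Mono (Formal.smulMod A F f)) (n : ℕ) (hn : 1 ≤ n) : ∃ i : Formal.modPow (Ideal.span ({f} : Set A)) 1 F ⟶ Formal.modPow (Ideal.span ({f} : Set A)) (n + 1) F, Mono i ∧ Formal2.modPowLE (Ideal.span ({f} : Set A)) (Nat.le_add_left 1 n) F ≫ i = Formal.smulMod A (Formal.modPow (Ideal.span ({f} : Set A)) (n + 1) F) (f ^ n) ∧ ∃ w : i ≫ Formal.modPowTrans (Ideal.span ({f} : Set A)) n F = 0, (ShortComplex.mk i (Formal.modPowTrans (Ideal.span ({f} : Set A)) n F) w).ShortExact := by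
  set I := Ideal.span ({f} : Set A) with hI
  -- the map `f^n : F → F/f^{n+1}F` kills `fF`
  have h0 : Formal.smulFamily (I ^ 1) F ≫ (Formal.smulMod A F (f ^ n) ≫ Formal.modPowπ I (n + 1) F) = 0 := by
    rw [smulFamily_comp_eq_zero_iff, ← Category.assoc, ← smulMod_mul, ← pow_add, add_comm 1 n]
    exact smulMod_pow_π f (n + 1) F
  let i : Formal.modPow I 1 F ⟶ Formal.modPow I (n + 1) F := cokernel.desc _ _ h0
  have hπi : Formal.modPowπ I 1 F ≫ i = Formal.smulMod A F (f ^ n) ≫ Formal.modPowπ I (n + 1) F :=
    cokernel.π_desc _ _ _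
  have hmono_n : Mono (Formal.smulMod A F (f ^ n)) := mono_smulMod_pow f F hF n
  have hw : i ≫ Formal.modPowTrans I n F = 0 := by
    apply (cancel_epi (Formal.modPowπ I 1 F)).1
    rw [← Category.assoc, hπi, Category.assoc, Formal.modPowπ_trans, comp_zero]
    exact smulMod_pow_π f n F
  have hi : Mono i := by
    rw [Preadditive.mono_iff_cancel_zero]
    intro T x hx
    obtain ⟨T', p, hp, y, hy⟩ := surjective_up_to_refinements_of_epi (Formal.modPowπ I 1 F) x
    have h1 : (y ≫ Formal.smulMod A F (f ^ n)) ≫ Formal.modPowπ I (n + 1) F = 0 := by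
      rw [Category.assoc, ← hπi, ← Category.assoc, ← hy, Category.assoc, hx, comp_zero]
    obtain ⟨T'', q, hq, z, hz⟩ := (exact_smulMod_pow f (n + 1) F).exact_up_to_refinements _ h1
    dsimp at z hz
    have h2 : q ≫ y = z ≫ Formal.smulMod A F f := by
      apply (cancel_mono (Formal.smulMod A F (f ^ n))).1
      rw [Category.assoc, hz, Category.assoc, ← smulMod_mul, ← pow_succ']
    apply (cancel_epi p).1
    apply (cancel_epi q).1
    rw [comp_zero, comp_zero, hy, ← Category.assoc, h2, Category.assoc]
    have := smulMod_pow_π f 1 F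
    rw [pow_one] at this
    rw [this, comp_zero]
  refine ⟨i, hi, ?_, hw, ?_⟩
  · apply (cancel_epi (Formal.modPowπ I (n + 1) F)).1
    rw [← Category.assoc, Formal2.modPowπ_modPowLE, hπi, comp_smulMod]
  · have hepi : Epi (Formal.modPowTrans I n F) := by
      have : Epi (Formal.modPowπ I (n + 1) F ≫ Formal.modPowTrans I n F) := by
        rw [Formal.modPowπ_trans]; infer_instance
      exact epi_of_epi (Formal.modPowπ I (n + 1) F) _
    refine ShortComplex.ShortExact.mk ?_
    rw [ShortComplex.exact_iff_exact_up_to_refinements]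
    intro T x hx
    dsimp at x hx
    obtain ⟨T', p, hp, y, hy⟩ := surjective_up_to_refinements_of_epi (Formal.modPowπ I (n + 1) F) x
    have h1 : y ≫ Formal.modPowπ I n F = 0 := by
      rw [← Formal.modPowπ_trans, ← Category.assoc, ← hy, Category.assoc, hx, comp_zero]
    obtain ⟨T'', q, hq, z, hz⟩ := (exact_smulMod_pow f n F).exact_up_to_refinements _ h1
    dsimp at z hz
    refine ⟨T'', q ≫ p, epi_comp _ _, z ≫ Formal.modPowπ I 1 F, ?_⟩
    dsimp
    rw [Category.assoc, hy, ← Category.assoc, hz, Category.assoc, Category.assoc, hπi]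

end Groth.Agent.S8821
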