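import Groth.Statements.S8822
import Groth.Agent.Lib.AdicNoeth
import Mathlib.RingTheory.AdicCompletion.Exactness
import Mathlib.RingTheory.AdicCompletion.Noetherian

set_option autoImplicit false
universe u v
open AdicRing

namespace Groth.Agent.S8822

/-- Let A be a Noetherian ring and I an ideal. Let B be an A-algebra which is complete for the IB-adic
topology and such that B/IB is of finite type over A, and let J be an ideal of B. Then B/J is
complete for the I(B/J)-adic topology (so B/J is again an object of the same category, the finite
type condition on (B/J)/I(B/J) being immediate). -/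
theorem result (A : Type u) [CommRing A] [IsNoetherianRing A] (I : Ideal A) (B : Type v) [CommRing B] [Algebra A B] [IsAdicComplete (I.map (algebraMap A B)) B] (hB : Algebra.FiniteType A (B ⧸ I.map (algebraMap A B))) (J : Ideal B) : IsAdicComplete (I.map (algebraMap A (B ⧸ J))) (B ⧸ J) := by
  have hIfg : I.FG := (isNoetherianRing_iff_ideal_fg A).1 inferInstance I
  have hKfg : (I.map (algebraMap A B)).FG := hIfg.map _
  have hq : IsNoetherianRing (B ⧸ I.map (algebraMap A B)) :=
    Algebra.FiniteType.isNoetherianRing A (B ⧸ I.map (algebraMap A B))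
  have hBn : IsNoetherianRing B :=
    Groth.Agent.Lib.AdicNoeth.isNoetherianRing_of_isAdicComplete (I.map (algebraMap A B)) hKfg
  -- reduce to completeness of the `B`-module `B ⧸ J` along `K = I B`
  rw [IsAdicComplete.map_algebraMap_iff (R := A) (S := B ⧸ J) (M := B ⧸ J),
    ← IsAdicComplete.map_algebraMap_iff (R := A) (S := B) (M := B ⧸ J)]
  have hjac : I.map (algebraMap A B) ≤ (⊥ : Ideal B).jacobson :=
    IsAdicComplete.le_jacobson_bot (I.map (algebraMap A B))
  have hH : IsHausdorff (I.map (algebraMap A B)) (B ⧸ J) :=
    IsHausdorff.of_le_jacobson _ _ hjac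
  have hP : IsPrecomplete (I.map (algebraMap A B)) (B ⧸ J) := by
    rw [← AdicCompletion.of_surjective_iff]
    intro y
    obtain ⟨x', hx'⟩ := AdicCompletion.map_surjective (I.map (algebraMap A B))
      (f := Submodule.mkQ J) (Submodule.mkQ_surjective J) y
    obtain ⟨b, hb⟩ := (AdicCompletion.of_surjective_iff (I := I.map (algebraMap A B)) (M := B)).2
      inferInstance x'
    refine ⟨Submodule.mkQ J b, ?_⟩
    rw [← AdicCompletion.map_of, hb, hx']
  exact { toIsHausdorff := hH, toIsPrecomplete := hP }

end Groth.Agent.S8822
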