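import Groth.Statements.S8831
import Groth.Agent.Lib.PuncturedCoh9d

set_option autoImplicit false
universe u
open CategoryTheory AlgebraicGeometry Opposite
open LocCoh

namespace Groth.Agent.S8831

theorem stab_of_isArtinian {A P : Type*} [CommRing A] [AddCommGroup P] [Module A P] [IsArtinian A P]
    (n : ℕ) (N : ∀ s : ℕ, n ≤ s → Submodule A P)
    (hanti : ∀ (s t : ℕ) (hs : n ≤ s) (hst : s ≤ t), N t (hs.trans hst) ≤ N s hs) :
    ∃ (r : ℕ) (hnr : n ≤ r), ∀ (s : ℕ) (hrs : r ≤ s), N s (hnr.trans hrs) = N r hnr := by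
  have hcongr : ∀ (t : ℕ) (ht : n ≤ t) (t' : ℕ) (ht' : n ≤ t'), t = t' → N t ht = N t' ht' := by
    intro t ht t' ht' h
    subst h
    rfl
  let f : ℕ →o (Submodule A P)ᵒᵈ :=
    ⟨fun k => OrderDual.toDual (N (n + k) (Nat.le_add_right n k)), by
      intro k k' hkk'
      show N (n + k') _ ≤ N (n + k) _
      exact hanti (n + k) (n + k') (Nat.le_add_right n k) (Nat.add_le_add_left hkk' n)⟩
  obtain ⟨k₀, hk₀⟩ := IsArtinian.monotone_stabilizes f
  refine ⟨n + k₀, Nat.le_add_right n k₀, fun s hrs => ?_⟩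
  have h1 : f k₀ = f (s - n) := hk₀ (s - n) (by omega)
  have h2 : N (n + k₀) (Nat.le_add_right n k₀) = N (n + (s - n)) (Nat.le_add_right n (s - n)) :=
    congrArg OrderDual.ofDual h1
  have h3 : N s ((Nat.le_add_right n k₀).trans hrs) = N (n + (s - n)) (Nat.le_add_right n (s - n)) :=
    hcongr _ _ _ _ (by omega)
  rw [h3, h2]

open Groth.Agent.Lib.CohLES in
theorem range_antitone {X : Scheme.{u}} (A : Type u) [CommRing A]
    [X.Over (Spec (CommRingCat.of A))] (G : ℕᵒᵖ ⥤ X.Modules) (i n : ℕ) :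
    ∀ (s t : ℕ) (hs : n ≤ s) (hst : s ≤ t),
      LinearMap.range (mapₗ A (G.map (homOfLE (hs.trans hst)).op) i) ≤
       LinearMap.range (mapₗ A (G.map (homOfLE hs).op) i) := by
  intro s t hs hst
  rintro _ ⟨x, rfl⟩
  refine ⟨mapₗ A (G.map (homOfLE hst).op) i x, ?_⟩
  have hcomp : G.map (homOfLE (hs.trans hst)).op =
      G.map (homOfLE hst).op ≫ G.map (homOfLE hs).op := by
    rw [← G.map_comp]
    rfl
  show map (G.map (homOfLE hs).op) i (map (G.map (homOfLE hst).op) i x) =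
    map (G.map (homOfLE (hs.trans hst)).op) i x
  rw [hcomp, map_comp]

open Groth.Agent.Lib.CohLES in
theorem ml_of_isArtinian {X : Scheme.{u}} (A : Type u) [CommRing A]
    [X.Over (Spec (CommRingCat.of A))] (G : ℕᵒᵖ ⥤ X.Modules) (i n : ℕ)
    [IsArtinian A (Coh.HH X (G.obj (op n)) i)] :
    ∃ (r : ℕ) (hnr : n ≤ r), ∀ (s : ℕ) (hrs : r ≤ s),
      LinearMap.range (mapₗ A (G.map (homOfLE (hnr.trans hrs : n ≤ s)).op) i) =
        LinearMap.range (mapₗ A (G.map (homOfLE (hnr : n ≤ r)).op) i) :=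
  stab_of_isArtinian n (fun s h => LinearMap.range (mapₗ A (G.map (homOfLE h).op) i))
    (range_antitone A G i n)

open Groth.Agent.Lib.CohLES in


/-- Let (A, m) be a Noetherian local ring and U = Spec A ∖ {m} the punctured spectrum. Suppose we are
given a system (F_n), indexed inversely by n, of coherent modules on U. In each positive degree i,
the cohomology groups H^i(U, F_n) then form a Mittag-Leffler system; concretely, given any n one can
find r ≥ n such that for all s ≥ r the image of H^i(U, F_s) → H^i(U, F_n) equals the image of H^i(U,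
F_r) → H^i(U, F_n). -/
theorem result (A : Type u) [CommRing A] [IsNoetherianRing A] [IsLocalRing A] (G : ℕᵒᵖ ⥤ (↑(LocCoh.puncturedOpen A (IsLocalRing.maximalIdeal A)) : Scheme.{u}).Modules) (hG : ∀ n : ℕᵒᵖ, Coh.IsCoh (G.obj n)) (i : ℕ) (hi : 0 < i) (n : ℕ) : ∃ (r : ℕ) (hnr : n ≤ r), ∀ (s : ℕ) (hrs : r ≤ s), Set.range (Sheaf.H.map ((SheafOfModules.toSheaf _).map (G.map (homOfLE (hnr.trans hrs : n ≤ s)).op)) i) = Set.range (Sheaf.H.map ((SheafOfModules.toSheaf _).map (G.map (homOfLE (hnr : n ≤ r)).op)) i) := by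
  haveI hArt : IsArtinian A (Coh.HH (↑(LocCoh.puncturedOpen A (IsLocalRing.maximalIdeal A)) : Scheme.{u})
      (G.obj (op n)) i) :=
    Groth.Agent.Lib.PuncturedCoh9.isArtinian_HH_punctured A (G.obj (op n)) (hG (op n)) i hi
  obtain ⟨r, hnr, H⟩ := ml_of_isArtinian A G i n
  refine ⟨r, hnr, fun s hrs => ?_⟩
  have h := congrArg (SetLike.coe) (H s hrs)
  exact h

end Groth.Agent.S8831
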