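import Groth.Statements.S8834
import Mathlib.RingTheory.Finiteness.Ideal
import Mathlib.RingTheory.Adjoin.Basic

set_option autoImplicit false
universe u
open AdicRing

namespace Groth.Agent.S8834

section

variable {A : Type u} [CommRing A] {B : Type u} [CommRing B] [Algebra A B]
  (K : Ideal B) (C : Subalgebra A B)

/-- Lifting a Noetherianity-free statement: if `C` surjects onto `B ⧸ K` and contains generators
of `K`, then `C` is dense for the `K`-adic topology. -/
theorem claim_one (h0 : ∀ y : B, ∃ c ∈ C, y - c ∈ K) (t : Set B) (htC : t ⊆ C)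
    (htK : Ideal.span t = K) :
    ∀ k ∈ K, ∃ c ∈ C, c ∈ K ∧ k - c ∈ K ^ 2 := by
  intro k hk
  rw [← htK] at hk
  induction hk using Submodule.span_induction with
  | mem x hx =>
    refine ⟨x, htC hx, htK ▸ Ideal.subset_span hx, ?_⟩
    rw [sub_self]; exact Ideal.zero_mem _
  | zero =>
    refine ⟨0, C.zero_mem, K.zero_mem, ?_⟩
    rw [sub_self]; exact Ideal.zero_mem _
  | add x y _ _ hx hy =>
    obtain ⟨c₁, hc₁, hc₁K, h₁⟩ := hx
    obtain ⟨c₂, hc₂, hc₂K, h₂⟩ := hy
    refine ⟨c₁ + c₂, C.add_mem hc₁ hc₂, K.add_mem hc₁K hc₂K, ?_⟩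
    have : x + y - (c₁ + c₂) = (x - c₁) + (y - c₂) := by ring
    rw [this]
    exact Ideal.add_mem _ h₁ h₂
  | smul β x hxs hx =>
    obtain ⟨c, hc, hcK, h₁⟩ := hx
    obtain ⟨γ, hγ, hγK⟩ := h0 β
    have hxK : x ∈ K := htK ▸ hxs
    refine ⟨γ * c, C.mul_mem hγ hc, K.mul_mem_left γ hcK, ?_⟩
    have : β • x - γ * c = γ * (x - c) + (β - γ) * x := by
      rw [smul_eq_mul]; ring
    rw [this, pow_two]
    refine Ideal.add_mem _ ?_ (Ideal.mul_mem_mul hγK hxK)
    rw [← pow_two]
    exact Ideal.mul_mem_left _ γ h₁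

theorem claim_n (h0 : ∀ y : B, ∃ c ∈ C, y - c ∈ K)
    (h1 : ∀ k ∈ K, ∃ c ∈ C, c ∈ K ∧ k - c ∈ K ^ 2) :
    ∀ n : ℕ, ∀ y ∈ K ^ n, ∃ c ∈ C, c ∈ K ^ n ∧ y - c ∈ K ^ (n + 1) := by
  intro n
  induction n with
  | zero =>
    intro y _
    obtain ⟨c, hc, hcK⟩ := h0 y
    refine ⟨c, hc, by simp, ?_⟩
    simpa using hcK
  | succ n ih =>
    intro y hy
    rw [pow_succ'] at hy
    refine Submodule.mul_induction_on hy ?_ ?_
    · intro k hk z hz
      obtain ⟨ck, hck, hckK, hk'⟩ := h1 k hk
      obtain ⟨cz, hcz, hczK, hz'⟩ := ih z hz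
      refine ⟨ck * cz, C.mul_mem hck hcz, ?_, ?_⟩
      · rw [pow_succ']; exact Ideal.mul_mem_mul hckK hczK
      · have : k * z - ck * cz = ck * (z - cz) + (k - ck) * z := by ring
        rw [this]
        refine Ideal.add_mem _ ?_ ?_
        · have : K ^ (n + 1 + 1) = K * K ^ (n + 1) := pow_succ' _ _
          rw [this]
          exact Ideal.mul_mem_mul hckK hz'
        · have : K ^ (n + 1 + 1) = K ^ 2 * K ^ n := by
            rw [← pow_add]; congr 1; omega
          rw [this]
          exact Ideal.mul_mem_mul hk' hz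
    · intro x y hx hy
      obtain ⟨c₁, hc₁, hc₁K, h₁⟩ := hx
      obtain ⟨c₂, hc₂, hc₂K, h₂⟩ := hy
      refine ⟨c₁ + c₂, C.add_mem hc₁ hc₂, Ideal.add_mem _ hc₁K hc₂K, ?_⟩
      have : x + y - (c₁ + c₂) = (x - c₁) + (y - c₂) := by ring
      rw [this]
      exact Ideal.add_mem _ h₁ h₂

theorem dense (h0 : ∀ y : B, ∃ c ∈ C, y - c ∈ K)
    (h1 : ∀ k ∈ K, ∃ c ∈ C, c ∈ K ∧ k - c ∈ K ^ 2) :
    ∀ (n : ℕ) (y : B), ∃ c ∈ C, y - c ∈ K ^ n := by
  intro n
  induction n with
  | zero =>
    intro y
    exact ⟨0, C.zero_mem, by simp⟩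
  | succ n ih =>
    intro y
    obtain ⟨c, hc, hyc⟩ := ih y
    obtain ⟨c', hc', _, h'⟩ := claim_n K C h0 h1 n (y - c) hyc
    refine ⟨c + c', C.add_mem hc hc', ?_⟩
    have : y - (c + c') = y - c - c' := by ring
    rw [this]
    exact h'

end

/-- Let A be a Noetherian ring complete for the adic topology of an ideal I and B a Noetherian ring
complete for the adic topology of an ideal J, with an algebra map A → B sending I into the radical
of J (a continuous homomorphism of adic Noetherian topological rings; the radicals of I and J are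
the ideals of topologically nilpotent elements). Assume B/√J is of finite type over A, equivalently
over A/√I. Then B is topologically of finite type over A: there are b_1, …, b_s ∈ B such that the
A-algebra map A[x_1, …, x_s] → B with x_i ↦ b_i has dense image for the J-adic topology, that is,
for every y ∈ B and every n there is a polynomial whose value at b differs from y by an element of
J^n. -/
theorem result (A : Type u) [CommRing A] [IsNoetherianRing A] (I : Ideal A) [IsAdicComplete I A] (B : Type u) [CommRing B] [Algebra A B] [IsNoetherianRing B] (J : Ideal B) [IsAdicComplete J B] (hIJ : I.map (algebraMap A B) ≤ J.radical) (hft : Algebra.FiniteType A (B ⧸ J.radical)) : ∃ s : ℕ, ∃ b : Fin s → B, ∀ (y : B) (n : ℕ), ∃ p : MvPolynomial (Fin s) A, y - MvPolynomial.aeval b p ∈ J ^ n := by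
  classical
  set K := J.radical with hK
  -- generators of B/K
  obtain ⟨s', hs'⟩ := hft.out
  let lift : B ⧸ K → B := Function.surjInv Ideal.Quotient.mk_surjective
  have hlift : ∀ q, Ideal.Quotient.mk K (lift q) = q :=
    Function.surjInv_eq Ideal.Quotient.mk_surjective
  let s : Finset B := s'.image lift
  -- generators of K
  obtain ⟨t, ht⟩ := (isNoetherianRing_iff_ideal_fg B).mp inferInstance K
  let T : Finset B := s ∪ t
  let C : Subalgebra A B := Algebra.adjoin A (T : Set B)
  have h0 : ∀ y : B, ∃ c ∈ C, y - c ∈ K := by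
    intro y
    have hy : Ideal.Quotient.mkₐ A K y ∈ (Algebra.adjoin A (s : Set B)).map (Ideal.Quotient.mkₐ A K) := by
      rw [AlgHom.map_adjoin]
      have : (Ideal.Quotient.mkₐ A K) '' (s : Set B) = (s' : Set (B ⧸ K)) := by
        ext q
        simp only [Set.mem_image, Finset.mem_coe, s, Finset.mem_image]
        constructor
        · rintro ⟨x, ⟨q', hq', rfl⟩, rfl⟩
          rw [Ideal.Quotient.mkₐ_eq_mk, hlift]; exact hq'
        · intro hq
          exact ⟨lift q, ⟨q, hq, rfl⟩, by rw [Ideal.Quotient.mkₐ_eq_mk, hlift]⟩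
      rw [this, hs']
      exact Algebra.mem_top
    obtain ⟨c, hc, hcy⟩ := hy
    refine ⟨c, Algebra.adjoin_mono (by simp [T]) hc, ?_⟩
    rw [← Ideal.Quotient.eq]
    exact hcy.symm
  have h1 := claim_one K C h0 (t : Set B)
    (fun x hx => Algebra.subset_adjoin (by simp [T]; right; exact hx)) ht
  have hdense := dense K C h0 h1
  obtain ⟨N, hN⟩ := Ideal.exists_radical_pow_le_of_fg J
    ((isNoetherianRing_iff_ideal_fg B).mp inferInstance _)
  refine ⟨T.card, fun i => (T.equivFin.symm i : B), ?_⟩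
  intro y n
  obtain ⟨c, hc, hyc⟩ := hdense (N * n) y
  have hrange : Set.range (fun i => (T.equivFin.symm i : B)) = (T : Set B) := by
    ext x
    constructor
    · rintro ⟨i, rfl⟩
      exact (T.equivFin.symm i).2
    · intro hx
      exact ⟨T.equivFin ⟨x, hx⟩, by simp⟩
  have hc' : c ∈ (MvPolynomial.aeval (R := A) (fun i => (T.equivFin.symm i : B))).range := by
    rw [← Algebra.adjoin_range_eq_range_aeval, hrange]
    exact hc
  obtain ⟨p, rfl⟩ := hc'
  refine ⟨p, ?_⟩
  have : K ^ (N * n) ≤ J ^ n := by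
    rw [pow_mul]
    exact Ideal.pow_right_mono hN n
  exact this hyc

end Groth.Agent.S8834
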