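import Groth.Statements.S8840
import Groth.Agent.Lib.H94Rig6
import Groth.Agent.S8837

set_option autoImplicit false
universe u
open AdicRing

namespace Groth.Agent.S8840

open Groth.Agent.Lib.H94Rig

/-- Let A be a Noetherian ring complete for the adic topology of an ideal I, and B a Noetherian
A-algebra complete for the IB-adic topology with B/IB of finite type over A (an adic morphism,
topologically of finite type, of adic Noetherian topological rings). Let q be a prime of B which is
rig-closed (IB ⊄ q and q maximal among the primes not containing IB). Then there exists f ∈ A which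
maps to a unit in B/q such that the following holds. Let A_{f} and B_{f} be the completed principal
localizations (the I-adic completions of A_f and B_f) and ψ : A_{f} → B_{f} the canonical map,
characterised here as any ring map compatible with A_f → B_f (there is exactly one). Then the
inverse image p' under ψ of the ideal q' = q B_{f} is a rig-closed prime of A_{f}: p' is prime, I
A_{f} ⊄ p', and p' is maximal among the primes of A_{f} not containing I A_{f}. (That q B_{f} is
itself prime with quotient B/q holds because f is a unit modulo q; it is not restated.) -/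
theorem result (A : Type u) [CommRing A] [IsNoetherianRing A] (I : Ideal A) [IsAdicComplete I A] (B : Type u) [CommRing B] [Algebra A B] [IsNoetherianRing B] [IsAdicComplete (I.map (algebraMap A B)) B] (hft : Algebra.FiniteType A (B ⧸ (I.map (algebraMap A B)))) (q : PrimeSpectrum B) (hq : (¬ (I.map (algebraMap A B)) ≤ q.asIdeal ∧ ∀ y : PrimeSpectrum B, q ≤ y → ¬ (I.map (algebraMap A B)) ≤ y.asIdeal → y = q)) : ∃ f : A, IsUnit (Ideal.Quotient.mk q.asIdeal (algebraMap A B f)) ∧ ∀ ψ : (AdicCompletion (I.map (algebraMap A (Localization.Away f))) (Localization.Away f)) →+* (AdicCompletion ((I.map (algebraMap A B)).map (algebraMap B (Localization.Away (algebraMap A B f)))) (Localization.Away (algebraMap A B f))), ψ.comp (algebraMap (Localization.Away f) (AdicCompletion (I.map (algebraMap A (Localization.Away f))) (Localization.Away f))) = (algebraMap (Localization.Away (algebraMap A B f)) (AdicCompletion ((I.map (algebraMap A B)).map (algebraMap B (Localization.Away (algebraMap A B f)))) (Localization.Away (algebraMap A B f)))).comp (Localization.awayMap (algebraMap A B) f) → (((q.asIdeal.map (algebraMap B (AdicCompletion ((I.map (algebraMap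 A B)).map (algebraMap B (Localization.Away (algebraMap A B f)))) (Localization.Away (algebraMap A B f))))).comap ψ).IsPrime ∧ ¬ (I.map (algebraMap A (AdicCompletion (I.map (algebraMap A (Localization.Away f))) (Localization.Away f)))) ≤ ((q.asIdeal.map (algebraMap B (AdicCompletion ((I.map (algebraMap A B)).map (algebraMap B (Localization.Away (algebraMap A B f)))) (Localization.Away (algebraMap A B f))))).comap ψ) ∧ ∀ y : PrimeSpectrum (AdicCompletion (I.map (algebraMap A (Localization.Away f))) (Localization.Away f)), ((q.asIdeal.map (algebraMap B (AdicCompletion ((I.map (algebraMap A B)).map (algebraMap B (Localization.Away (algebraMap A B f)))) (Localization.Away (algebraMap A B f))))).comap ψ) ≤ y.asIdeal → ¬ (I.map (algebraMap A (AdicCompletion (I.map (algebraMap A (Localization.Away f))) (Localization.Away f)))) ≤ y.asIdeal → y.asIdeal = ((q.asIdeal.map (algebraMap B (AdicCompletion ((I.map (algebraMap A B)).map (algebraMap B (Localization.Away (algebraMap A B f)))) (Localization.Away (algebraMap A B f))))).comap ψ)) := by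
  have hq0 : IsRigClosed (I.map (algebraMap A B)) q := hq
  obtain ⟨f, hfu, hint⟩ := exists_unit_and_integral hft hq0
  refine ⟨f, hfu, fun ψ hψ => ?_⟩
  let algψ : Algebra (CAway I f) (CAway (I.map (algebraMap A B)) (algebraMap A B f)) :=
    ψ.toAlgebra
  have htow : IsScalarTower A (CAway I f) (CAway (I.map (algebraMap A B)) (algebraMap A B f)) :=
    IsScalarTower.of_algebraMap_eq fun a => (psi_algebraMap I f ψ hψ a).symm
  have hft₁ : Algebra.FiniteType A ((CAway (I.map (algebraMap A B)) (algebraMap A B f)) ⧸
      I.map (algebraMap A (CAway (I.map (algebraMap A B)) (algebraMap A B f)))) :=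
    finiteType_trans_quotient I hft (finiteType_cAway (I.map (algebraMap A B)) (algebraMap A B f))
  obtain ⟨hprime, hbij⟩ := Groth.Agent.S8837.main B (I.map (algebraMap A B)) q.asIdeal
    (algebraMap A B f) hfu
  have hfA₁ : IsUnit (algebraMap A (CAway I f) f) := by
    rw [IsScalarTower.algebraMap_apply A (Localization.Away f) (CAway I f)]
    exact (IsLocalization.Away.algebraMap_isUnit f).map _
  have hrc := isRigClosed_comap_map_of_integral (A₁ := CAway I f)
    (B₁ := CAway (I.map (algebraMap A B)) (algebraMap A B f)) hft₁ hq0 hprime hbij f hfA₁ hint
  exact ⟨Ideal.comap_isPrime ψ _, hrc.1,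
    fun y hle hny => congrArg PrimeSpectrum.asIdeal (hrc.2 y hle hny)⟩

end Groth.Agent.S8840
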