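import Groth.Statements.S8843
import Groth.Agent.Lib.H94Rig7

set_option autoImplicit false
universe u
open AdicRing

namespace Groth.Agent.S8843

open Groth.Agent.Lib.H94Rig

theorem aux (A : Type u) [CommRing A] [IsNoetherianRing A] (I : Ideal A)
    (B : Type u) [CommRing B] [Algebra A B] [IsNoetherianRing B]
    (C : Type u) [CommRing C] [Algebra A C] [Algebra B C] [IsScalarTower A B C]
    (hAB : ∀ f : A, ∀ ψf : CAway I f →+* CAway (I.map (algebraMap A B)) (algebraMap A B f),
      ψf.comp (algebraMap (Localization.Away f) (CAway I f)) =
        (algebraMap (Localization.Away (algebraMap A B f))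
          (CAway (I.map (algebraMap A B)) (algebraMap A B f))).comp
          (Localization.awayMap (algebraMap A B) f) →
      ∀ qf : PrimeSpectrum (CAway (I.map (algebraMap A B)) (algebraMap A B f)),
        IsRigClosed (((I.map (algebraMap A B)).map
          (algebraMap B (Localization.Away (algebraMap A B f)))).map
          (algebraMap (Localization.Away (algebraMap A B f))
            (CAway (I.map (algebraMap A B)) (algebraMap A B f)))) qf →
        ((algebraMap (CAway (I.map (algebraMap A B)) (algebraMap A B f))
          (Localization.AtPrime qf.asIdeal)).comp ψf).Flat)
    (hBC : ∀ g : B, ∀ ψg : CAway (I.map (algebraMap A B)) g →+*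
        CAway ((I.map (algebraMap A B)).map (algebraMap B C)) (algebraMap B C g),
      ψg.comp (algebraMap (Localization.Away g) (CAway (I.map (algebraMap A B)) g)) =
        (algebraMap (Localization.Away (algebraMap B C g))
          (CAway ((I.map (algebraMap A B)).map (algebraMap B C)) (algebraMap B C g))).comp
          (Localization.awayMap (algebraMap B C) g) →
      ∀ qg : PrimeSpectrum (CAway ((I.map (algebraMap A B)).map (algebraMap B C))
          (algebraMap B C g)),
        IsRigClosed ((((I.map (algebraMap A B)).map (algebraMap B C)).map
          (algebraMap C (Localization.Away (algebraMap B C g)))).map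
          (algebraMap (Localization.Away (algebraMap B C g))
            (CAway ((I.map (algebraMap A B)).map (algebraMap B C)) (algebraMap B C g)))) qg →
        ((algebraMap (CAway ((I.map (algebraMap A B)).map (algebraMap B C)) (algebraMap B C g))
          (Localization.AtPrime qg.asIdeal)).comp ψg).Flat)
    (e : A) (K : Ideal C) (c : C)
    (hK : K = (I.map (algebraMap A B)).map (algebraMap B C))
    (hc : c = algebraMap B C (algebraMap A B e))
    (φ : Localization.Away e →+* Localization.Away c)
    (hφ : φ.comp (algebraMap A (Localization.Away e)) =
      (algebraMap C (Localization.Away c)).comp (algebraMap A C))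
    (ψe : CAway I e →+* CAway K c)
    (hψe : ψe.comp (algebraMap (Localization.Away e) (CAway I e)) =
      (algebraMap (Localization.Away c) (CAway K c)).comp φ)
    (qe : PrimeSpectrum (CAway K c))
    (hqe : IsRigClosed ((K.map (algebraMap C (Localization.Away c))).map
      (algebraMap (Localization.Away c) (CAway K c))) qe) :
    ((algebraMap (CAway K c) (Localization.AtPrime qe.asIdeal)).comp ψe).Flat := by
  subst hK hc
  have hφeq : φ = (Localization.awayMap (algebraMap B C) (algebraMap A B e)).comp
      (Localization.awayMap (algebraMap A B) e) := by
    apply IsLocalization.ringHom_ext (Submonoid.powers e)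
    refine RingHom.ext fun a => ?_
    have h1 := congrArg (fun χ => χ a) hφ
    have h2 := congrArg (fun χ => χ a) (awayMap_comp_algebraMap B e)
    have h3 := congrArg (fun χ => χ (algebraMap A B a))
      (awayMap_comp_algebraMap C (algebraMap A B e))
    simp only [RingHom.comp_apply] at h1 h2 h3 ⊢
    rw [h1, h2, h3, ← IsScalarTower.algebraMap_apply A B C a]
  have hAB' := hAB e (cAwayMap I B e) (cAwayMap_compat I B e)
  have hBC' := hBC (algebraMap A B e) (cAwayMap (I.map (algebraMap A B)) C (algebraMap A B e))
    (cAwayMap_compat _ C _)
  have hle : (I.map (algebraMap A (Localization.Away e))).map φ ≤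
      ((I.map (algebraMap A B)).map (algebraMap B C)).map
        (algebraMap C (Localization.Away (algebraMap B C (algebraMap A B e)))) := by
    rw [Ideal.map_map, hφ, ← Ideal.map_map, map_map_tower (I := I) (B := B) (B₁ := C)]
  have hψe' : ψe = (cAwayMap (I.map (algebraMap A B)) C (algebraMap A B e)).comp
      (cAwayMap I B e) := by
    refine compat_unique _ _ φ hle (IsNoetherian.noetherian _) _ _ hψe ?_
    rw [RingHom.comp_assoc, cAwayMap_compat, ← RingHom.comp_assoc, cAwayMap_compat,
      RingHom.comp_assoc, hφeq]
  subst hψe'
  let alg1 : Algebra (CAway I e) (CAway (I.map (algebraMap A B)) (algebraMap A B e)) :=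
    (cAwayMap I B e).toAlgebra
  let alg2 : Algebra (CAway (I.map (algebraMap A B)) (algebraMap A B e))
      (CAway ((I.map (algebraMap A B)).map (algebraMap B C))
        (algebraMap B C (algebraMap A B e))) :=
    (cAwayMap (I.map (algebraMap A B)) C (algebraMap A B e)).toAlgebra
  let alg3 : Algebra (CAway I e) (CAway ((I.map (algebraMap A B)).map (algebraMap B C))
        (algebraMap B C (algebraMap A B e))) :=
    ((cAwayMap (I.map (algebraMap A B)) C (algebraMap A B e)).comp (cAwayMap I B e)).toAlgebra
  have htow : IsScalarTower (CAway I e) (CAway (I.map (algebraMap A B)) (algebraMap A B e))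
      (CAway ((I.map (algebraMap A B)).map (algebraMap B C))
        (algebraMap B C (algebraMap A B e))) :=
    IsScalarTower.of_algebraMap_eq fun _ => rfl
  refine flat_comp_of_rigFlat _ _ ?_ hAB' hBC' qe hqe
  exact (map_cAwayMap (I.map (algebraMap A B)) C (algebraMap A B e)).symm.le

/-- Let A be a Noetherian ring complete for the adic topology of an ideal I, B a Noetherian A-algebra
complete for the IB-adic topology with B/IB of finite type over A, and C a Noetherian B-algebra,
compatibly an A-algebra, complete for the IC-adic topology with C/IC of finite type over B (so A → B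
→ C are adic morphisms of adic Noetherian topological rings, topologically of finite type). Assume A
→ B and B → C are rig-flat, in the following form: for every f ∈ A and the canonical map ψ : A_{f} →
B_{f} of completed principal localizations (the I-adic completions of A_f → B_f; ψ is characterised
as any ring map compatible with A_f → B_f, and there is exactly one), the local ring (B_{f})_q is
flat over A_{f} via ψ for every rig-closed prime q of B_{f} (I B_{f} ⊄ q and q maximal among the
primes not containing I B_{f}); and likewise for B → C with g ∈ B and rig-closed primes of C_{g}.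
Then A → C is rig-flat in the same form: for every f ∈ A, every ring map A_{f} → C_{f} compatible
with A_f → C_f, and every rig-closed prime q of C_{f}, the local ring (C_{f})_q is flat over A_{f}.
(That A → C is again adic and topologically of finite type is not restated.) -/
theorem result (A : Type u) [CommRing A] [IsNoetherianRing A] (I : Ideal A) [IsAdicComplete I A] (B : Type u) [CommRing B] [Algebra A B] [IsNoetherianRing B] [IsAdicComplete (I.map (algebraMap A B)) B] (hftB : Algebra.FiniteType A (B ⧸ (I.map (algebraMap A B)))) (C : Type u) [CommRing C] [Algebra A C] [Algebra B C] [IsScalarTower A B C] [IsNoetherianRing C] [IsAdicComplete (I.map (algebraMap A C)) C] (hftC : Algebra.FiniteType B (C ⧸ (I.map (algebraMap A C)))) (hAB : (∀ f : A, ∀ ψf : (AdicCompletion (I.map (algebraMap A (Localization.Away f))) (Localization.Away f)) →+* (AdicCompletion ((I.map (algebraMap A B)).map (algebraMap B (Localization.Away (algebraMap A B f)))) (Localization.Away (algebraMap A B f))), ψf.comp (algebraMap (Localization.Away f) (AdicCompletion (I.map (algebraMap A (Localization.Away f))) (Localization.Away f))) = (algebraMap (Localization.Away (algebraMap A B f))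 (AdicCompletion ((I.map (algebraMap A B)).map (algebraMap B (Localization.Away (algebraMap A B f)))) (Localization.Away (algebraMap A B f)))).comp (Localization.awayMap (algebraMap A B) f) → ∀ qf : PrimeSpectrum (AdicCompletion ((I.map (algebraMap A B)).map (algebraMap B (Localization.Away (algebraMap A B f)))) (Localization.Away (algebraMap A B f))), (¬ (((I.map (algebraMap A B)).map (algebraMap B (Localization.Away (algebraMap A B f)))).map (algebraMap (Localization.Away (algebraMap A B f)) (AdicCompletion ((I.map (algebraMap A B)).map (algebraMap B (Localization.Away (algebraMap A B f)))) (Localization.Away (algebraMap A B f))))) ≤ qf.asIdeal ∧ ∀ y : PrimeSpectrum (AdicCompletion ((I.map (algebraMap A B)).map (algebraMap B (Localization.Away (algebraMap A B f)))) (Localization.Away (algebraMap A B f))), qf ≤ y → ¬ (((I.map (algebraMap A B)).map (algebraMap B (Localization.Away (algebraMap A B f)))).map (algebraMap (Localization.Away (algebraMap A B f)) (AdicCompletion ((I.map (algebraMap A B)).map (algebraMap B (Localization.Away (algebraMap A B f)))) (Localization.Away (algebraMap A B f))))) ≤ y.asIdeal → y = qf) → ((algebraMap (AdicCompletion ((I.map (algebraMap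 A B)).map (algebraMap B (Localization.Away (algebraMap A B f)))) (Localization.Away (algebraMap A B f))) (Localization.AtPrime qf.asIdeal)).comp ψf).Flat)) (hBC : (∀ g : B, ∀ ψg : (AdicCompletion ((I.map (algebraMap A B)).map (algebraMap B (Localization.Away g))) (Localization.Away g)) →+* (AdicCompletion (((I.map (algebraMap A B)).map (algebraMap B C)).map (algebraMap C (Localization.Away (algebraMap B C g)))) (Localization.Away (algebraMap B C g))), ψg.comp (algebraMap (Localization.Away g) (AdicCompletion ((I.map (algebraMap A B)).map (algebraMap B (Localization.Away g))) (Localization.Away g))) = (algebraMap (Localization.Away (algebraMap B C g)) (AdicCompletion (((I.map (algebraMap A B)).map (algebraMap B C)).map (algebraMap C (Localization.Away (algebraMap B C g)))) (Localization.Away (algebraMap B C g)))).comp (Localization.awayMap (algebraMap B C) g) → ∀ qg : PrimeSpectrum (AdicCompletion (((I.map (algebraMap A B)).map (algebraMap B C)).map (algebraMap C (Localization.Away (algebraMap B C g)))) (Localization.Away (algebraMap B C g))), (¬ ((((I.map (algebraMap A B)).map (algebraMap B C)).map (algebraMap C (Localization.Away (algebraMap B C g)))).map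 (algebraMap (Localization.Away (algebraMap B C g)) (AdicCompletion (((I.map (algebraMap A B)).map (algebraMap B C)).map (algebraMap C (Localization.Away (algebraMap B C g)))) (Localization.Away (algebraMap B C g))))) ≤ qg.asIdeal ∧ ∀ y : PrimeSpectrum (AdicCompletion (((I.map (algebraMap A B)).map (algebraMap B C)).map (algebraMap C (Localization.Away (algebraMap B C g)))) (Localization.Away (algebraMap B C g))), qg ≤ y → ¬ ((((I.map (algebraMap A B)).map (algebraMap B C)).map (algebraMap C (Localization.Away (algebraMap B C g)))).map (algebraMap (Localization.Away (algebraMap B C g)) (AdicCompletion (((I.map (algebraMap A B)).map (algebraMap B C)).map (algebraMap C (Localization.Away (algebraMap B C g)))) (Localization.Away (algebraMap B C g))))) ≤ y.asIdeal → y = qg) → ((algebraMap (AdicCompletion (((I.map (algebraMap A B)).map (algebraMap B C)).map (algebraMap C (Localization.Away (algebraMap B C g)))) (Localization.Away (algebraMap B C g))) (Localization.AtPrime qg.asIdeal)).comp ψg).Flat)) : (∀ e : A, ∀ ψe : (AdicCompletion (I.map (algebraMap A (Localization.Away e))) (Localization.Away e)) →+* (AdicCompletion ((I.map (algebraMap A C)).map (algebraMap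 C (Localization.Away (algebraMap A C e)))) (Localization.Away (algebraMap A C e))), ψe.comp (algebraMap (Localization.Away e) (AdicCompletion (I.map (algebraMap A (Localization.Away e))) (Localization.Away e))) = (algebraMap (Localization.Away (algebraMap A C e)) (AdicCompletion ((I.map (algebraMap A C)).map (algebraMap C (Localization.Away (algebraMap A C e)))) (Localization.Away (algebraMap A C e)))).comp (Localization.awayMap (algebraMap A C) e) → ∀ qe : PrimeSpectrum (AdicCompletion ((I.map (algebraMap A C)).map (algebraMap C (Localization.Away (algebraMap A C e)))) (Localization.Away (algebraMap A C e))), (¬ (((I.map (algebraMap A C)).map (algebraMap C (Localization.Away (algebraMap A C e)))).map (algebraMap (Localization.Away (algebraMap A C e)) (AdicCompletion ((I.map (algebraMap A C)).map (algebraMap C (Localization.Away (algebraMap A C e)))) (Localization.Away (algebraMap A C e))))) ≤ qe.asIdeal ∧ ∀ y : PrimeSpectrum (AdicCompletion ((I.map (algebraMap A C)).map (algebraMap C (Localization.Away (algebraMap A C e)))) (Localization.Away (algebraMap A C e))), qe ≤ y → ¬ (((I.map (algebraMap A C)).map (algebraMap C (Localization.Away (algebraMap A C e)))).map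 (algebraMap (Localization.Away (algebraMap A C e)) (AdicCompletion ((I.map (algebraMap A C)).map (algebraMap C (Localization.Away (algebraMap A C e)))) (Localization.Away (algebraMap A C e))))) ≤ y.asIdeal → y = qe) → ((algebraMap (AdicCompletion ((I.map (algebraMap A C)).map (algebraMap C (Localization.Away (algebraMap A C e)))) (Localization.Away (algebraMap A C e))) (Localization.AtPrime qe.asIdeal)).comp ψe).Flat) := by
  intro e ψe hψe qe hqe
  exact aux A I B C hAB hBC e (I.map (algebraMap A C)) (algebraMap A C e) map_map_tower.symm
    (IsScalarTower.algebraMap_apply A B C e) (Localization.awayMap (algebraMap A C) e)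
    (awayMap_comp_algebraMap C e) ψe hψe qe hqe

end Groth.Agent.S8843
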