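import Groth.Statements.S8844
import Groth.Agent.Lib.H94Rig8

set_option autoImplicit false
universe u
open AdicRing

namespace Groth.Agent.S8844

open Groth.Agent.Lib.H94Rig Groth.Agent.Lib

section Aux

variable {A : Type u} [CommRing A] {B : Type u} [CommRing B] [Algebra A B]

/-- A localization `B_g → B'_{c'}` of a flat map is flat. -/
theorem flat_of_away {B' : Type u} [CommRing B'] [Algebra B B'] [Module.Flat B B']
    (g : B) (c' : B') (φ : Localization.Away g →+* Localization.Away c')
    (hφ : φ.comp (algebraMap B (Localization.Away g)) =
      (algebraMap B' (Localization.Away c')).comp (algebraMap B B')) : φ.Flat := by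
  unfold RingHom.Flat
  let _ : Algebra (Localization.Away g) (Localization.Away c') := φ.toAlgebra
  have htow : IsScalarTower B (Localization.Away g) (Localization.Away c') := by
    refine IsScalarTower.of_algebraMap_eq fun b => ?_
    have := congrArg (fun χ => χ b) hφ
    simp only [RingHom.comp_apply] at this
    change _ = φ _
    rw [this, ← IsScalarTower.algebraMap_apply B B']
  have h1 : Module.Flat B (Localization.Away c') := Module.Flat.trans B B' (Localization.Away c')
  exact (Module.flat_iff_of_isLocalization (Localization.Away g) (Submonoid.powers g)
    (Localization.Away c')).2 h1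

end Aux

/-- Consider a commutative square of adic Noetherian topological rings with all maps adic and
topologically of finite type: A a Noetherian ring complete for the adic topology of an ideal I; B,
A' and B' Noetherian algebras complete for the IB-, IA'- and IB'-adic topologies, B' an algebra over
B and over A' compatibly with A, with B/IB and A'/IA' of finite type over A and B'/IB' of finite
type over B and over A'. Assume A → A' is flat and B → B' is faithfully flat. If A' → B' is rig-flat
— for every f' ∈ A', every ring map A'_{f'} → B'_{f'} of completed principal localizations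
compatible with the map of ordinary localizations A'[1/f'] → B'[1/f'] (there is exactly one), and
every rig-closed prime q of B'_{f'} (I B'_{f'} ⊄ q and q maximal among the primes not containing I
B'_{f'}), the local ring (B'_{f'})_q is flat over A'_{f'} — then A → B is rig-flat in the same form:
for every f ∈ A, every ring map A_{f} → B_{f} of completed principal localizations compatible with
the map of ordinary localizations A[1/f] → B[1/f], and every rig-closed prime q of B_{f}, the local
ring (B_{f})_q is flat over A_{f}. -/
theorem result (A : Type u) [CommRing A] [IsNoetherianRing A] (I : Ideal A) [IsAdicComplete I A] (B : Type u) [CommRing B] [Algebra A B] [IsNoetherianRing B] [IsAdicComplete (I.map (algebraMap A B)) B] (hftB : Algebra.FiniteType A (B ⧸ (I.map (algebraMap A B)))) (A' : Type u) [CommRing A'] [Algebra A A'] [IsNoetherianRing A'] [IsAdicComplete (I.map (algebraMap A A')) A'] (hftA' : Algebra.FiniteType A (A' ⧸ (I.map (algebraMap A A')))) (B' : Type u) [CommRing B'] [Algebra A B'] [Algebra B B'] [Algebra A' B'] [IsScalarTower A B B'] [IsScalarTower A A' B'] [IsNoetherianRing B'] [IsAdicComplete (I.map (algebraMap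 A B')) B'] (hftB'B : Algebra.FiniteType B (B' ⧸ (I.map (algebraMap A B')))) (hftB'A' : Algebra.FiniteType A' (B' ⧸ (I.map (algebraMap A B')))) [Module.Flat A A'] [Module.FaithfullyFlat B B'] (hA'B' : (∀ f' : A', ∀ ψf' : (AdicCompletion ((I.map (algebraMap A A')).map (algebraMap A' (Localization.Away f'))) (Localization.Away f')) →+* (AdicCompletion (((I.map (algebraMap A A')).map (algebraMap A' B')).map (algebraMap B' (Localization.Away (algebraMap A' B' f')))) (Localization.Away (algebraMap A' B' f'))), ψf'.comp (algebraMap (Localization.Away f') (AdicCompletion ((I.map (algebraMap A A')).map (algebraMap A' (Localization.Away f'))) (Localization.Away f'))) = (algebraMap (Localization.Away (algebraMap A' B' f')) (AdicCompletion (((I.map (algebraMap A A')).map (algebraMap A' B')).map (algebraMap B' (Localization.Away (algebraMap A' B' f')))) (Localization.Away (algebraMap A' B' f')))).comp (Localization.awayMap (algebraMap A' B') f') → ∀ qf' : PrimeSpectrum (AdicCompletion (((I.map (algebraMap A A')).map (algebraMap A' B')).map (algebraMap B' (Localization.Away (algebraMap A' B' f')))) (Localization.Away (algebraMap A' B' f'))), (¬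 ((((I.map (algebraMap A A')).map (algebraMap A' B')).map (algebraMap B' (Localization.Away (algebraMap A' B' f')))).map (algebraMap (Localization.Away (algebraMap A' B' f')) (AdicCompletion (((I.map (algebraMap A A')).map (algebraMap A' B')).map (algebraMap B' (Localization.Away (algebraMap A' B' f')))) (Localization.Away (algebraMap A' B' f'))))) ≤ qf'.asIdeal ∧ ∀ y : PrimeSpectrum (AdicCompletion (((I.map (algebraMap A A')).map (algebraMap A' B')).map (algebraMap B' (Localization.Away (algebraMap A' B' f')))) (Localization.Away (algebraMap A' B' f'))), qf' ≤ y → ¬ ((((I.map (algebraMap A A')).map (algebraMap A' B')).map (algebraMap B' (Localization.Away (algebraMap A' B' f')))).map (algebraMap (Localization.Away (algebraMap A' B' f')) (AdicCompletion (((I.map (algebraMap A A')).map (algebraMap A' B')).map (algebraMap B' (Localization.Away (algebraMap A' B' f')))) (Localization.Away (algebraMap A' B' f'))))) ≤ y.asIdeal → y = qf') → ((algebraMap (AdicCompletion (((I.map (algebraMap A A')).map (algebraMap A' B')).map (algebraMap B' (Localization.Away (algebraMap A' B' f')))) (Localization.Away (algebraMap A' B' f'))) (Localization.AtPrime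 qf'.asIdeal)).comp ψf').Flat)) : (∀ f : A, ∀ ψf : (AdicCompletion (I.map (algebraMap A (Localization.Away f))) (Localization.Away f)) →+* (AdicCompletion ((I.map (algebraMap A B)).map (algebraMap B (Localization.Away (algebraMap A B f)))) (Localization.Away (algebraMap A B f))), ψf.comp (algebraMap (Localization.Away f) (AdicCompletion (I.map (algebraMap A (Localization.Away f))) (Localization.Away f))) = (algebraMap (Localization.Away (algebraMap A B f)) (AdicCompletion ((I.map (algebraMap A B)).map (algebraMap B (Localization.Away (algebraMap A B f)))) (Localization.Away (algebraMap A B f)))).comp (Localization.awayMap (algebraMap A B) f) → ∀ qf : PrimeSpectrum (AdicCompletion ((I.map (algebraMap A B)).map (algebraMap B (Localization.Away (algebraMap A B f)))) (Localization.Away (algebraMap A B f))), (¬ (((I.map (algebraMap A B)).map (algebraMap B (Localization.Away (algebraMap A B f)))).map (algebraMap (Localization.Away (algebraMap A B f)) (AdicCompletion ((I.map (algebraMap A B)).map (algebraMap B (Localization.Away (algebraMap A B f)))) (Localization.Away (algebraMap A B f))))) ≤ qf.asIdeal ∧ ∀ y : PrimeSpectrum (AdicCompletion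 ((I.map (algebraMap A B)).map (algebraMap B (Localization.Away (algebraMap A B f)))) (Localization.Away (algebraMap A B f))), qf ≤ y → ¬ (((I.map (algebraMap A B)).map (algebraMap B (Localization.Away (algebraMap A B f)))).map (algebraMap (Localization.Away (algebraMap A B f)) (AdicCompletion ((I.map (algebraMap A B)).map (algebraMap B (Localization.Away (algebraMap A B f)))) (Localization.Away (algebraMap A B f))))) ≤ y.asIdeal → y = qf) → ((algebraMap (AdicCompletion ((I.map (algebraMap A B)).map (algebraMap B (Localization.Away (algebraMap A B f)))) (Localization.Away (algebraMap A B f))) (Localization.AtPrime qf.asIdeal)).comp ψf).Flat) := by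
  intro f ψf hψf qf hqf
  -- notation
  have hgc : algebraMap B B' (algebraMap A B f) = algebraMap A' B' (algebraMap A A' f) := by
    rw [← IsScalarTower.algebraMap_apply A B B', ← IsScalarTower.algebraMap_apply A A' B']
  have hKB' : (I.map (algebraMap A B)).map (algebraMap B B') =
      (I.map (algebraMap A A')).map (algebraMap A' B') := by
    rw [map_map_tower, map_map_tower]
  -- the map `B_g → B'_{c'}`
  have hunit : IsUnit (((algebraMap B' (Localization.Away (algebraMap A' B' (algebraMap A A' f)))).comp
      (algebraMap B B')) (algebraMap A B f)) := by
    rw [RingHom.comp_apply, hgc]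
    exact IsLocalization.Away.algebraMap_isUnit _
  let φB : Localization.Away (algebraMap A B f) →+*
      Localization.Away (algebraMap A' B' (algebraMap A A' f)) :=
    IsLocalization.Away.lift (algebraMap A B f) hunit
  have hφB : φB.comp (algebraMap B (Localization.Away (algebraMap A B f))) =
      (algebraMap B' (Localization.Away (algebraMap A' B' (algebraMap A A' f)))).comp
        (algebraMap B B') := IsLocalization.Away.lift_comp _ hunit
  have hleB : ((I.map (algebraMap A B)).map
      (algebraMap B (Localization.Away (algebraMap A B f)))).map φB ≤
      ((I.map (algebraMap A A')).map (algebraMap A' B')).map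
        (algebraMap B' (Localization.Away (algebraMap A' B' (algebraMap A A' f)))) := by
    rw [Ideal.map_map, hφB, ← Ideal.map_map, hKB']
  obtain ⟨β, hβdef⟩ : ∃ β : CAway (I.map (algebraMap A B)) (algebraMap A B f) →+*
      CAway ((I.map (algebraMap A A')).map (algebraMap A' B')) (algebraMap A' B' (algebraMap A A' f)),
      β = FSch.complMap _ _ φB hleB := ⟨_, rfl⟩
  have hβ : β.comp (algebraMap (Localization.Away (algebraMap A B f))
      (CAway (I.map (algebraMap A B)) (algebraMap A B f))) =
      (algebraMap (Localization.Away (algebraMap A' B' (algebraMap A A' f)))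
        (CAway ((I.map (algebraMap A A')).map (algebraMap A' B'))
          (algebraMap A' B' (algebraMap A A' f)))).comp φB := by
    rw [hβdef]; exact complMap_compat _ _ φB hleB
  obtain ⟨α, hαdef⟩ : ∃ α : CAway I f →+* CAway (I.map (algebraMap A A')) (algebraMap A A' f),
      α = cAwayMap I A' f := ⟨_, rfl⟩
  have hα := cAwayMap_compat I A' f
  rw [← hαdef] at hα
  obtain ⟨ψ', hψ'def⟩ : ∃ ψ' : CAway (I.map (algebraMap A A')) (algebraMap A A' f) →+*
      CAway ((I.map (algebraMap A A')).map (algebraMap A' B')) (algebraMap A' B' (algebraMap A A' f)),
      ψ' = cAwayMap (I.map (algebraMap A A')) B' (algebraMap A A' f) := ⟨_, rfl⟩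
  have hψ' := cAwayMap_compat (I.map (algebraMap A A')) B' (algebraMap A A' f)
  rw [← hψ'def] at hψ'
  -- commutativity of the square of completed maps
  have hχ : (Localization.awayMap (algebraMap A' B') (algebraMap A A' f)).comp
      (Localization.awayMap (algebraMap A A') f) =
      φB.comp (Localization.awayMap (algebraMap A B) f) := by
    apply IsLocalization.ringHom_ext (Submonoid.powers f)
    refine RingHom.ext fun a => ?_
    have h1 := congrArg (fun χ => χ a) (awayMap_comp_algebraMap A' f)
    have h2 := congrArg (fun χ => χ (algebraMap A A' a))
      (awayMap_comp_algebraMap B' (algebraMap A A' f))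
    have h3 := congrArg (fun χ => χ a) (awayMap_comp_algebraMap B f)
    have h4 := congrArg (fun χ => χ (algebraMap A B a)) hφB
    simp only [RingHom.comp_apply] at h1 h2 h3 h4 ⊢
    rw [h1, h2, h3, h4, ← IsScalarTower.algebraMap_apply A B B' a,
      ← IsScalarTower.algebraMap_apply A A' B' a]
  have hleχ : (I.map (algebraMap A (Localization.Away f))).map
      (φB.comp (Localization.awayMap (algebraMap A B) f)) ≤
      ((I.map (algebraMap A A')).map (algebraMap A' B')).map
        (algebraMap B' (Localization.Away (algebraMap A' B' (algebraMap A A' f)))) := by
    rw [← Ideal.map_map, map_awayMap_eq]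
    exact hleB
  have hcomm : β.comp ψf = ψ'.comp α := by
    refine compat_unique _ _ _ hleχ (IsNoetherian.noetherian _) _ _ ?_ ?_
    · rw [RingHom.comp_assoc, hψf, ← RingHom.comp_assoc, hβ, RingHom.comp_assoc]
    · rw [RingHom.comp_assoc, hα, ← RingHom.comp_assoc, hψ', RingHom.comp_assoc, hχ]
  -- flatness of the completed maps
  have hαflat : α.Flat := flat_of_compat _ _ (Localization.awayMap (algebraMap A A') f)
    (flat_of_away f (algebraMap A A' f) _ (awayMap_comp_algebraMap A' f))
    (map_awayMap_eq I A' f).le α hα
  have hβflat : β.Flat := flat_of_compat _ _ φB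
    (flat_of_away (algebraMap A B f) _ φB hφB) hleB β hβ
  -- algebra structures
  let alg1 : Algebra (CAway I f) (CAway (I.map (algebraMap A B)) (algebraMap A B f)) :=
    ψf.toAlgebra
  let alg2 : Algebra (CAway I f) (CAway (I.map (algebraMap A A')) (algebraMap A A' f)) :=
    α.toAlgebra
  let alg3 : Algebra (CAway (I.map (algebraMap A A')) (algebraMap A A' f))
      (CAway ((I.map (algebraMap A A')).map (algebraMap A' B'))
        (algebraMap A' B' (algebraMap A A' f))) := ψ'.toAlgebra
  let alg4 : Algebra (CAway (I.map (algebraMap A B)) (algebraMap A B f))
      (CAway ((I.map (algebraMap A A')).map (algebraMap A' B'))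
        (algebraMap A' B' (algebraMap A A' f))) := β.toAlgebra
  let alg5 : Algebra (CAway I f) (CAway ((I.map (algebraMap A A')).map (algebraMap A' B'))
        (algebraMap A' B' (algebraMap A A' f))) := (ψ'.comp α).toAlgebra
  have tow1 : IsScalarTower (CAway I f) (CAway (I.map (algebraMap A A')) (algebraMap A A' f))
      (CAway ((I.map (algebraMap A A')).map (algebraMap A' B'))
        (algebraMap A' B' (algebraMap A A' f))) := IsScalarTower.of_algebraMap_eq fun _ => rfl
  have tow2 : IsScalarTower (CAway I f) (CAway (I.map (algebraMap A B)) (algebraMap A B f))
      (CAway ((I.map (algebraMap A A')).map (algebraMap A' B'))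
        (algebraMap A' B' (algebraMap A A' f))) :=
    IsScalarTower.of_algebraMap_eq fun x => (congrArg (fun χ => χ x) hcomm).symm
  have towA1 : IsScalarTower A (CAway I f) (CAway (I.map (algebraMap A B)) (algebraMap A B f)) :=
    IsScalarTower.of_algebraMap_eq fun a => (psi_algebraMap I f ψf hψf a).symm
  have towA2 : IsScalarTower A (CAway I f)
      (CAway ((I.map (algebraMap A A')).map (algebraMap A' B'))
        (algebraMap A' B' (algebraMap A A' f))) := by
    refine IsScalarTower.of_algebraMap_eq fun a => ?_
    change _ = ψ' (α _)
    have e1 := psi_algebraMap I f α hα a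
    have e2 := psi_algebraMap (I.map (algebraMap A A')) (algebraMap A A' f) ψ' hψ'
      (algebraMap A A' a)
    have e3 : algebraMap A (CAway (I.map (algebraMap A A')) (algebraMap A A' f)) a =
        algebraMap A' _ (algebraMap A A' a) := IsScalarTower.algebraMap_apply A A' _ a
    have e4 : algebraMap A (CAway ((I.map (algebraMap A A')).map (algebraMap A' B'))
        (algebraMap A' B' (algebraMap A A' f))) a =
        algebraMap A' _ (algebraMap A A' a) := IsScalarTower.algebraMap_apply A A' _ a
    rw [e1, e3, e2, e4]
  have flat1 : Module.Flat (CAway I f) (CAway (I.map (algebraMap A A')) (algebraMap A A' f)) :=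
    hαflat
  have flat2 : Module.Flat (CAway (I.map (algebraMap A B)) (algebraMap A B f))
      (CAway ((I.map (algebraMap A A')).map (algebraMap A' B'))
        (algebraMap A' B' (algebraMap A A' f))) := hβflat
  -- ideals
  have hJ1 : (I.map (algebraMap A (CAway I f))).map
      (algebraMap (CAway I f) (CAway (I.map (algebraMap A B)) (algebraMap A B f))) =
      I.map (algebraMap A (CAway (I.map (algebraMap A B)) (algebraMap A B f))) := map_map_tower
  have hJ2 : (I.map (algebraMap A (CAway I f))).map
      (algebraMap (CAway I f) (CAway ((I.map (algebraMap A A')).map (algebraMap A' B'))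
        (algebraMap A' B' (algebraMap A A' f)))) =
      I.map (algebraMap A (CAway ((I.map (algebraMap A A')).map (algebraMap A' B'))
        (algebraMap A' B' (algebraMap A A' f)))) := map_map_tower
  have hJB : ((I.map (algebraMap A B)).map
      (algebraMap B (Localization.Away (algebraMap A B f)))).map
      (algebraMap (Localization.Away (algebraMap A B f))
        (CAway (I.map (algebraMap A B)) (algebraMap A B f))) =
      I.map (algebraMap A (CAway (I.map (algebraMap A B)) (algebraMap A B f))) :=
    (map_map_tower (A := B) (I := I.map (algebraMap A B))
      (B := Localization.Away (algebraMap A B f))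
      (B₁ := CAway (I.map (algebraMap A B)) (algebraMap A B f))).trans map_map_tower
  have hJB' : (((I.map (algebraMap A A')).map (algebraMap A' B')).map
      (algebraMap B' (Localization.Away (algebraMap A' B' (algebraMap A A' f))))).map
      (algebraMap (Localization.Away (algebraMap A' B' (algebraMap A A' f)))
        (CAway ((I.map (algebraMap A A')).map (algebraMap A' B'))
          (algebraMap A' B' (algebraMap A A' f)))) =
      I.map (algebraMap A (CAway ((I.map (algebraMap A A')).map (algebraMap A' B'))
        (algebraMap A' B' (algebraMap A A' f)))) :=
    ((map_map_tower (A := B') (I := (I.map (algebraMap A A')).map (algebraMap A' B'))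
      (B := Localization.Away (algebraMap A' B' (algebraMap A A' f)))
      (B₁ := CAway ((I.map (algebraMap A A')).map (algebraMap A' B'))
        (algebraMap A' B' (algebraMap A A' f)))).trans
      (map_map_tower (A := A') (I := I.map (algebraMap A A')) (B := B')
        (B₁ := CAway ((I.map (algebraMap A A')).map (algebraMap A' B'))
          (algebraMap A' B' (algebraMap A A' f))))).trans
      (map_map_tower (A := A) (I := I) (B := A')
        (B₁ := CAway ((I.map (algebraMap A A')).map (algebraMap A' B'))
          (algebraMap A' B' (algebraMap A A' f))))
  have hc1 : IsAdicComplete ((I.map (algebraMap A (CAway I f))).map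
      (algebraMap (CAway I f) (CAway (I.map (algebraMap A B)) (algebraMap A B f))))
      (CAway (I.map (algebraMap A B)) (algebraMap A B f)) := by
    rw [hJ1]; infer_instance
  have hc2 : IsAdicComplete ((I.map (algebraMap A (CAway I f))).map
      (algebraMap (CAway I f) (CAway ((I.map (algebraMap A A')).map (algebraMap A' B'))
        (algebraMap A' B' (algebraMap A A' f)))))
      (CAway ((I.map (algebraMap A A')).map (algebraMap A' B'))
        (algebraMap A' B' (algebraMap A A' f))) := by
    rw [hJ2, ← hJB']
    exact AdicCompletion.isAdicComplete_self _ (IsNoetherian.noetherian _)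
  -- lifting of maximal ideals
  have hsurj : ∀ m : Ideal (CAway (I.map (algebraMap A B)) (algebraMap A B f)), m.IsMaximal →
      ∃ Q : Ideal (CAway ((I.map (algebraMap A A')).map (algebraMap A' B'))
        (algebraMap A' B' (algebraMap A A' f))), Q.IsPrime ∧
        Q.comap (algebraMap (CAway (I.map (algebraMap A B)) (algebraMap A B f))
          (CAway ((I.map (algebraMap A A')).map (algebraMap A' B'))
            (algebraMap A' B' (algebraMap A A' f)))) = m := by
    intro m hm
    have hcB : IsAdicComplete (((I.map (algebraMap A B)).map
        (algebraMap B (Localization.Away (algebraMap A B f)))).map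
        (algebraMap (Localization.Away (algebraMap A B f))
          (CAway (I.map (algebraMap A B)) (algebraMap A B f))))
        (CAway (I.map (algebraMap A B)) (algebraMap A B f)) :=
      AdicCompletion.isAdicComplete_self _ (IsNoetherian.noetherian _)
    refine exists_prime_comap_eq_of_compat _ _ φB hleB β hβ ?_ m hm.isPrime
      ((IsAdicComplete.le_jacobson_bot _).trans (jacobson_bot_le_of_isMaximal m))
    intro n hn hKn
    obtain ⟨Q, hQ, hQn, hK⟩ := exists_prime_away_lift (algebraMap A B f)
      (algebraMap A' B' (algebraMap A A' f)) φB hφB hgc n hn
    refine ⟨Q, hQ, ?_, hQn⟩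
    rw [← hKB']
    exact hK _ hKn
  -- rig-flatness of `A' → B'`
  have hA'B'' : ∀ q' : PrimeSpectrum (CAway ((I.map (algebraMap A A')).map (algebraMap A' B'))
        (algebraMap A' B' (algebraMap A A' f))),
      IsRigClosed ((I.map (algebraMap A (CAway I f))).map
        (algebraMap (CAway I f) (CAway ((I.map (algebraMap A A')).map (algebraMap A' B'))
          (algebraMap A' B' (algebraMap A A' f))))) q' →
      ((algebraMap (CAway ((I.map (algebraMap A A')).map (algebraMap A' B'))
        (algebraMap A' B' (algebraMap A A' f))) (Localization.AtPrime q'.asIdeal)).comp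
        (algebraMap (CAway (I.map (algebraMap A A')) (algebraMap A A' f))
          (CAway ((I.map (algebraMap A A')).map (algebraMap A' B'))
            (algebraMap A' B' (algebraMap A A' f))))).Flat := by
    intro q' hq'
    rw [hJ2, ← hJB'] at hq'
    exact hA'B' (algebraMap A A' f) ψ' hψ' q' hq'
  have hqf' : IsRigClosed ((I.map (algebraMap A (CAway I f))).map
      (algebraMap (CAway I f) (CAway (I.map (algebraMap A B)) (algebraMap A B f)))) qf := by
    rw [hJ1, ← hJB]; exact hqf
  exact rigFlat_descent (J := I.map (algebraMap A (CAway I f)))
    (A₁' := CAway (I.map (algebraMap A A')) (algebraMap A A' f))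
    (B₁' := CAway ((I.map (algebraMap A A')).map (algebraMap A' B'))
      (algebraMap A' B' (algebraMap A A' f))) hsurj hA'B'' qf hqf'

end Groth.Agent.S8844
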