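import Groth.Statements.S8845
import Groth.Agent.Lib.H94Rig11
import Groth.Agent.S8837

set_option autoImplicit false
universe u
open AdicRing

namespace Groth.Agent.S8845

open Groth.Agent.Lib.H94Rig Groth.Agent.Lib

/-- Consider a commutative square of adic Noetherian topological rings with all maps adic and
topologically of finite type: A a Noetherian ring complete for the adic topology of an ideal I (the
ideal of definition used below); B, A' and B' Noetherian algebras complete for the IB-, IA'- and
IB'-adic topologies, B' an algebra over B and over A' compatibly with A, with B/IB and A'/IA' of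
finite type over A and B'/IB' of finite type over B and over A'. Assume A → A' and B → B' are flat
and A/I → A'/IA' is étale. If A → B is rig-flat — for every f ∈ A, every ring map ψ : A_{f} → B_{f}
of completed principal localizations compatible with the map of ordinary localizations A[1/f] →
B[1/f] (there is exactly one), and every rig-closed prime q of B_{f} (I B_{f} ⊄ q and q maximal
among the primes not containing I B_{f}), the local ring (B_{f})_q is flat over A_{f} via ψ — then
A' → B' is rig-flat in the same form: for every f' ∈ A', every ring map A'_{f'} → B'_{f'} of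
completed principal localizations compatible with the map of ordinary localizations A'[1/f'] →
B'[1/f'], and every rig-closed prime q' of B'_{f'}, the local ring (B'_{f'})_{q'} is flat over
A'_{f'}. -/
theorem result (A : Type u) [CommRing A] [IsNoetherianRing A] (I : Ideal A) [IsAdicComplete I A] (B : Type u) [CommRing B] [Algebra A B] [IsNoetherianRing B] [IsAdicComplete (I.map (algebraMap A B)) B] (hftB : Algebra.FiniteType A (B ⧸ (I.map (algebraMap A B)))) (A' : Type u) [CommRing A'] [Algebra A A'] [IsNoetherianRing A'] [IsAdicComplete (I.map (algebraMap A A')) A'] (hftA' : Algebra.FiniteType A (A' ⧸ (I.map (algebraMap A A')))) (B' : Type u) [CommRing B'] [Algebra A B'] [Algebra B B'] [Algebra A' B'] [IsScalarTower A B B'] [IsScalarTower A A' B'] [IsNoetherianRing B'] [IsAdicComplete (I.map (algebraMap A B')) B'] (hftB'B : Algebra.FiniteType B (B' ⧸ (I.map (algebraMap A B')))) (hftB'A' : Algebra.FiniteType A' (B' ⧸ (I.map (algebraMap A B')))) [Module.Flat A A'] [Module.Flat B B'] [Algebra.Etale (A ⧸ I) (A' ⧸ (I.map (algebraMap A A')))] (hAB : (∀ f : A, ∀ ψf : (AdicCompletion (I.map (algebraMap A (Localization.Away f))) (Localization.Away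 f)) →+* (AdicCompletion ((I.map (algebraMap A B)).map (algebraMap B (Localization.Away (algebraMap A B f)))) (Localization.Away (algebraMap A B f))), ψf.comp (algebraMap (Localization.Away f) (AdicCompletion (I.map (algebraMap A (Localization.Away f))) (Localization.Away f))) = (algebraMap (Localization.Away (algebraMap A B f)) (AdicCompletion ((I.map (algebraMap A B)).map (algebraMap B (Localization.Away (algebraMap A B f)))) (Localization.Away (algebraMap A B f)))).comp (Localization.awayMap (algebraMap A B) f) → ∀ qf : PrimeSpectrum (AdicCompletion ((I.map (algebraMap A B)).map (algebraMap B (Localization.Away (algebraMap A B f)))) (Localization.Away (algebraMap A B f))), (¬ (((I.map (algebraMap A B)).map (algebraMap B (Localization.Away (algebraMap A B f)))).map (algebraMap (Localization.Away (algebraMap A B f)) (AdicCompletion ((I.map (algebraMap A B)).map (algebraMap B (Localization.Away (algebraMap A B f)))) (Localization.Away (algebraMap A B f))))) ≤ qf.asIdeal ∧ ∀ y : PrimeSpectrum (AdicCompletion ((I.map (algebraMap A B)).map (algebraMap B (Localization.Away (algebraMap A B f)))) (Localization.Away (algebraMap A B f))), qf ≤ y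 → ¬ (((I.map (algebraMap A B)).map (algebraMap B (Localization.Away (algebraMap A B f)))).map (algebraMap (Localization.Away (algebraMap A B f)) (AdicCompletion ((I.map (algebraMap A B)).map (algebraMap B (Localization.Away (algebraMap A B f)))) (Localization.Away (algebraMap A B f))))) ≤ y.asIdeal → y = qf) → ((algebraMap (AdicCompletion ((I.map (algebraMap A B)).map (algebraMap B (Localization.Away (algebraMap A B f)))) (Localization.Away (algebraMap A B f))) (Localization.AtPrime qf.asIdeal)).comp ψf).Flat)) : (∀ f' : A', ∀ ψf' : (AdicCompletion ((I.map (algebraMap A A')).map (algebraMap A' (Localization.Away f'))) (Localization.Away f')) →+* (AdicCompletion (((I.map (algebraMap A A')).map (algebraMap A' B')).map (algebraMap B' (Localization.Away (algebraMap A' B' f')))) (Localization.Away (algebraMap A' B' f'))), ψf'.comp (algebraMap (Localization.Away f') (AdicCompletion ((I.map (algebraMap A A')).map (algebraMap A' (Localization.Away f'))) (Localization.Away f'))) = (algebraMap (Localization.Away (algebraMap A' B' f')) (AdicCompletion (((I.map (algebraMap A A')).map (algebraMap A' B')).map (algebraMap B' (Localization.Away (algebraMap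 A' B' f')))) (Localization.Away (algebraMap A' B' f')))).comp (Localization.awayMap (algebraMap A' B') f') → ∀ qf' : PrimeSpectrum (AdicCompletion (((I.map (algebraMap A A')).map (algebraMap A' B')).map (algebraMap B' (Localization.Away (algebraMap A' B' f')))) (Localization.Away (algebraMap A' B' f'))), (¬ ((((I.map (algebraMap A A')).map (algebraMap A' B')).map (algebraMap B' (Localization.Away (algebraMap A' B' f')))).map (algebraMap (Localization.Away (algebraMap A' B' f')) (AdicCompletion (((I.map (algebraMap A A')).map (algebraMap A' B')).map (algebraMap B' (Localization.Away (algebraMap A' B' f')))) (Localization.Away (algebraMap A' B' f'))))) ≤ qf'.asIdeal ∧ ∀ y : PrimeSpectrum (AdicCompletion (((I.map (algebraMap A A')).map (algebraMap A' B')).map (algebraMap B' (Localization.Away (algebraMap A' B' f')))) (Localization.Away (algebraMap A' B' f'))), qf' ≤ y → ¬ ((((I.map (algebraMap A A')).map (algebraMap A' B')).map (algebraMap B' (Localization.Away (algebraMap A' B' f')))).map (algebraMap (Localization.Away (algebraMap A' B' f')) (AdicCompletion (((I.map (algebraMap A A')).map (algebraMap A' B')).map (algebraMap B' (Localization.Away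 (algebraMap A' B' f')))) (Localization.Away (algebraMap A' B' f'))))) ≤ y.asIdeal → y = qf') → ((algebraMap (AdicCompletion (((I.map (algebraMap A A')).map (algebraMap A' B')).map (algebraMap B' (Localization.Away (algebraMap A' B' f')))) (Localization.Away (algebraMap A' B' f'))) (Localization.AtPrime qf'.asIdeal)).comp ψf').Flat) := by
  intro f' ψ' hψ' q' hq'
  -- Step 0: algebra structure `A'₁ → B'₁`
  let algψ' : Algebra (CAway (I.map (algebraMap A A')) f')
      (CAway ((I.map (algebraMap A A')).map (algebraMap A' B')) (algebraMap A' B' f')) :=
    ψ'.toAlgebra
  have towA' : IsScalarTower A' (CAway (I.map (algebraMap A A')) f')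
      (CAway ((I.map (algebraMap A A')).map (algebraMap A' B')) (algebraMap A' B' f')) :=
    IsScalarTower.of_algebraMap_eq fun a =>
      (psi_algebraMap (I.map (algebraMap A A')) f' ψ' hψ' a).symm
  have towA : IsScalarTower A (CAway (I.map (algebraMap A A')) f')
      (CAway ((I.map (algebraMap A A')).map (algebraMap A' B')) (algebraMap A' B' f')) := by
    refine IsScalarTower.of_algebraMap_eq fun a => ?_
    have e1 : algebraMap A (CAway (I.map (algebraMap A A')) f') a =
        algebraMap A' _ (algebraMap A A' a) := IsScalarTower.algebraMap_apply A A' _ a
    have e2 : algebraMap A (CAway ((I.map (algebraMap A A')).map (algebraMap A' B'))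
        (algebraMap A' B' f')) a = algebraMap A' _ (algebraMap A A' a) :=
      IsScalarTower.algebraMap_apply A A' _ a
    rw [e1, e2, ← IsScalarTower.algebraMap_apply A' (CAway (I.map (algebraMap A A')) f')]
  -- the ideal of definition of `B'₁`
  have hJB' : (((I.map (algebraMap A A')).map (algebraMap A' B')).map
      (algebraMap B' (Localization.Away (algebraMap A' B' f')))).map
      (algebraMap (Localization.Away (algebraMap A' B' f'))
        (CAway ((I.map (algebraMap A A')).map (algebraMap A' B')) (algebraMap A' B' f'))) =
      I.map (algebraMap A (CAway ((I.map (algebraMap A A')).map (algebraMap A' B'))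
        (algebraMap A' B' f'))) :=
    ((map_map_tower (A := B') (I := (I.map (algebraMap A A')).map (algebraMap A' B'))
      (B := Localization.Away (algebraMap A' B' f'))
      (B₁ := CAway ((I.map (algebraMap A A')).map (algebraMap A' B'))
        (algebraMap A' B' f'))).trans
      (map_map_tower (A := A') (I := I.map (algebraMap A A')) (B := B')
        (B₁ := CAway ((I.map (algebraMap A A')).map (algebraMap A' B'))
          (algebraMap A' B' f')))).trans
      (map_map_tower (A := A) (I := I) (B := A')
        (B₁ := CAway ((I.map (algebraMap A A')).map (algebraMap A' B'))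
          (algebraMap A' B' f')))
  have hcB'₁ : IsAdicComplete (I.map (algebraMap A (CAway ((I.map (algebraMap A A')).map
      (algebraMap A' B')) (algebraMap A' B' f'))))
      (CAway ((I.map (algebraMap A A')).map (algebraMap A' B')) (algebraMap A' B' f')) := by
    rw [← hJB']
    exact AdicCompletion.isAdicComplete_self _ (IsNoetherian.noetherian _)
  have hq'0 : IsRigClosed (I.map (algebraMap A (CAway ((I.map (algebraMap A A')).map
      (algebraMap A' B')) (algebraMap A' B' f')))) q' := by
    rw [← hJB']; exact hq'
  -- finite type
  have hftB'A'' : Algebra.FiniteType A' (B' ⧸ (I.map (algebraMap A A')).map (algebraMap A' B')) := by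
    rw [map_map_tower]; exact hftB'A'
  have hftA'₁ : Algebra.FiniteType A ((CAway (I.map (algebraMap A A')) f') ⧸
      I.map (algebraMap A (CAway (I.map (algebraMap A A')) f'))) :=
    finiteType_trans_quotient I hftA' (finiteType_cAway (I.map (algebraMap A A')) f')
  have hftB'₁A' : Algebra.FiniteType A' ((CAway ((I.map (algebraMap A A')).map (algebraMap A' B'))
      (algebraMap A' B' f')) ⧸ (I.map (algebraMap A A')).map (algebraMap A'
        (CAway ((I.map (algebraMap A A')).map (algebraMap A' B')) (algebraMap A' B' f')))) :=
    finiteType_trans_quotient (I.map (algebraMap A A')) hftB'A''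
      (finiteType_cAway ((I.map (algebraMap A A')).map (algebraMap A' B')) (algebraMap A' B' f'))
  have hftB'₁ : Algebra.FiniteType A ((CAway ((I.map (algebraMap A A')).map (algebraMap A' B'))
      (algebraMap A' B' f')) ⧸ I.map (algebraMap A
        (CAway ((I.map (algebraMap A A')).map (algebraMap A' B')) (algebraMap A' B' f')))) :=
    finiteType_trans_quotient I hftA' hftB'₁A'
  -- flatness and unramifiedness
  have flatA : Module.Flat A (CAway (I.map (algebraMap A A')) f') :=
    Module.Flat.trans A A' _
  have flatB : Module.Flat B (CAway ((I.map (algebraMap A A')).map (algebraMap A' B'))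
      (algebraMap A' B' f')) := Module.Flat.trans B B' _
  have fu0 : Algebra.FormallyUnramified A (A ⧸ I) :=
    Algebra.FormallyUnramified.of_surjective (Ideal.Quotient.mkₐ A I) Ideal.Quotient.mk_surjective
  have fu1 : Algebra.FormallyUnramified A (A' ⧸ I.map (algebraMap A A')) :=
    Algebra.FormallyUnramified.comp A (A ⧸ I) _
  have fu2 : Algebra.FormallyUnramified A ((CAway (I.map (algebraMap A A')) f') ⧸
      I.map (algebraMap A (CAway (I.map (algebraMap A A')) f'))) :=
    formallyUnramified_cAway I f'
  have hcA'₁ : IsAdicComplete (I.map (algebraMap A (CAway (I.map (algebraMap A A')) f')))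
      (CAway (I.map (algebraMap A A')) f') := by
    rw [← map_map_tower (I := I) (B := A') (B₁ := CAway (I.map (algebraMap A A')) f')]
    infer_instance
  exact naive_rigFlat_of_unramified (A := A) (I := I) (B := B)
    (A' := CAway (I.map (algebraMap A A')) f')
    (B' := CAway ((I.map (algebraMap A A')).map (algebraMap A' B')) (algebraMap A' B' f'))
    hftA'₁ hftB'₁ hAB q' hq'0

end Groth.Agent.S8845
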