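import Groth.Statements.S8847
import Mathlib
import Groth.Agent.Lib.RelCartierFibre50
import Groth.Agent.Lib.RelCartierPrin50

set_option autoImplicit false
set_option linter.style.haveILetI false
universe u
open CategoryTheory CategoryTheory.Limits AlgebraicGeometry TopologicalSpace
open SDiv

namespace Groth.Agent.S8847

section helpers

/-- affine-local data of the closed subscheme: `B ⧸ I` is flat over `A` and `I` is finitely generated. -/
theorem flat_and_fg_of_subscheme {X S : Scheme.{u}} (φ : X ⟶ S) [LocallyOfFinitePresentation φ]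
    (𝓘 : X.IdealSheafData) [Flat (𝓘.subschemeι ≫ φ)]
    [LocallyOfFinitePresentation (𝓘.subschemeι ≫ φ)] {U : X.Opens} {V : S.Opens}
    (hU : IsAffineOpen U) (hV : IsAffineOpen V) (hUV : U ≤ φ ⁻¹ᵁ V) :
    (φ.appLE V U hUV ≫ CommRingCat.ofHom (Ideal.Quotient.mk (𝓘.ideal ⟨U, hU⟩))).hom.Flat ∧
      (𝓘.ideal ⟨U, hU⟩).FG := by
  have hW' : IsAffineOpen (𝓘.subschemeι ⁻¹ᵁ U) := hU.preimage 𝓘.subschemeι
  have e' : 𝓘.subschemeι ⁻¹ᵁ U ≤ (𝓘.subschemeι ≫ φ) ⁻¹ᵁ V := fun y hy => hUV hy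
  have hcomp : (𝓘.subschemeι ≫ φ).appLE V (𝓘.subschemeι ⁻¹ᵁ U) e' =
      φ.appLE V U hUV ≫ 𝓘.subschemeι.app U := by
    rw [Scheme.Hom.app_eq_appLE, Scheme.Hom.appLE_comp_appLE]
  have hflC : ((𝓘.subschemeι ≫ φ).appLE V (𝓘.subschemeι ⁻¹ᵁ U) e').hom.Flat :=
    HasRingHomProperty.appLE (P := @Flat) _ inferInstance ⟨V, hV⟩ ⟨_, hW'⟩ e'
  have hfpC : ((𝓘.subschemeι ≫ φ).appLE V (𝓘.subschemeι ⁻¹ᵁ U) e').hom.FinitePresentation :=
    (𝓘.subschemeι ≫ φ).finitePresentation_appLE hV hW' e'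
  rw [hcomp, 𝓘.subschemeι_app ⟨U, hU⟩, ← Category.assoc] at hflC hfpC
  have hfl := (RingHom.Flat.respectsIso.cancel_right_isIso _ (𝓘.subschemeObjIso ⟨U, hU⟩).inv).mp hflC
  have hfp := (RingHom.finitePresentation_respectsIso.cancel_right_isIso _
    (𝓘.subschemeObjIso ⟨U, hU⟩).inv).mp hfpC
  refine ⟨hfl, ?_⟩
  rw [CommRingCat.hom_comp] at hfp
  have hg : (Ideal.Quotient.mk (𝓘.ideal ⟨U, hU⟩)).FinitePresentation :=
    RingHom.FinitePresentation.of_comp_finiteType (φ.appLE V U hUV).hom hfp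
      (RingHom.FiniteType.of_finitePresentation (φ.finitePresentation_appLE hV hU hUV))
  haveI : Algebra.FinitePresentation Γ(X, U) (Γ(X, U) ⧸ 𝓘.ideal ⟨U, hU⟩) := hg
  have := Algebra.FinitePresentation.ker_fG_of_surjective
    (Ideal.Quotient.mkₐ Γ(X, U) (𝓘.ideal ⟨U, hU⟩)) (Ideal.Quotient.mkₐ_surjective _ _)
  rwa [show RingHom.ker (Ideal.Quotient.mkₐ Γ(X, U) (𝓘.ideal ⟨U, hU⟩)).toRingHom =
    𝓘.ideal ⟨U, hU⟩ from Ideal.mk_ker] at this

/-- the image of the stalk ideal in the local ring of the fibre is principal -/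
theorem exists_fibre_generator {X S : Scheme.{u}} (φ : X ⟶ S) (𝓘 : X.IdealSheafData) (x : X)
    {U : X.Opens} (hU : IsAffineOpen U) (hxU : x ∈ U)
    (hfib : BlowUp.IsEffCartierIdeal (𝓘.comap (φ.fiberι (φ x)))) :
    ∃ a, (Ideal.map (X.presheaf.germ U x hxU).hom (𝓘.ideal ⟨U, hU⟩)).map
      (Ideal.Quotient.mk (Ideal.map (φ.stalkMap x).hom
        (IsLocalRing.maximalIdeal (S.presheaf.stalk (φ x))))) = Ideal.span {a} := by
  obtain ⟨W₀, hzW₀, f', -, hI'⟩ := hfib (φ.asFiber x)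
  obtain ⟨W, hW, hzW, hWW₀, hWU⟩ : ∃ W : (φ.fiber (φ x)).Opens, IsAffineOpen W ∧
      φ.asFiber x ∈ W ∧ W ≤ W₀.1 ∧ W ≤ (φ.fiberι (φ x)) ⁻¹ᵁ U := by
    have hz2 : φ.asFiber x ∈ (φ.fiberι (φ x)) ⁻¹ᵁ U := by
      change (φ.fiberι (φ x)) (φ.asFiber x) ∈ U
      rw [φ.fiberι_asFiber x]; exact hxU
    obtain ⟨_, ⟨W, hW, rfl⟩, hzW, hWle⟩ :=
      (φ.fiber (φ x)).isBasis_affineOpens.exists_subset_of_mem_open
        (show φ.asFiber x ∈ ((W₀.1 ⊓ (φ.fiberι (φ x)) ⁻¹ᵁ U : (φ.fiber (φ x)).Opens) : Set _)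
          from ⟨hzW₀, hz2⟩) (W₀.1 ⊓ (φ.fiberι (φ x)) ⁻¹ᵁ U).isOpen
    exact ⟨W, hW, hzW, fun y hy => (hWle hy).1, fun y hy => (hWle hy).2⟩
  have e1 : (𝓘.comap (φ.fiberι (φ x))).ideal ⟨W, hW⟩ =
      Ideal.span {(φ.fiber (φ x)).presheaf.map (homOfLE hWW₀).op f'} := by
    rw [← (𝓘.comap (φ.fiberι (φ x))).map_ideal (U := ⟨W, hW⟩) (V := W₀) hWW₀, hI', Ideal.map_span,
      Set.image_singleton]
    rfl
  have e2 : (𝓘.comap (φ.fiberι (φ x))).ideal ⟨W, hW⟩ =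
      Ideal.map ((φ.fiberι (φ x)).appLE U W hWU).hom (𝓘.ideal ⟨U, hU⟩) :=
    Groth.Agent.Lib.IdealComap.ideal_comap 𝓘 (φ.fiberι (φ x)) U hU W hW hWU
  let e := Groth.Agent.Lib.FibreStalk33.fibreStalkEquiv φ x
  have hhom : ((φ.fiber (φ x)).presheaf.germ W (φ.asFiber x) hzW).hom.comp
      ((φ.fiberι (φ x)).appLE U W hWU).hom =
      (e.toRingHom.comp (Ideal.Quotient.mk _)).comp (X.presheaf.germ U x hxU).hom := by
    ext a
    simp only [RingHom.comp_apply]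
    rw [← Groth.Agent.Lib.RelCartierFibre50.toFibreStalk_germ φ x hxU hzW hWU a]
    rfl
  have h3 := congrArg (Ideal.map ((φ.fiber (φ x)).presheaf.germ W (φ.asFiber x) hzW).hom)
    (e1.symm.trans e2)
  rw [Ideal.map_span, Set.image_singleton, Ideal.map_map, hhom, ← Ideal.map_map,
    ← Ideal.map_map] at h3
  refine ⟨e.symm ((φ.fiber (φ x)).presheaf.germ W (φ.asFiber x) hzW
    ((φ.fiber (φ x)).presheaf.map (homOfLE hWW₀).op f')), ?_⟩
  have h4 := congrArg (Ideal.map e.symm.toRingHom) h3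
  rw [Ideal.map_span, Set.image_singleton, Ideal.map_map] at h4
  rw [show e.symm.toRingHom.comp e.toRingHom = RingHom.id _ from by ext; simp, Ideal.map_id] at h4
  exact h4.symm

/-- `𝓘` is principal near every point whose fibre ideal is effective Cartier. -/
theorem exists_principal_nhd {X S : Scheme.{u}} (φ : X ⟶ S) [LocallyOfFinitePresentation φ]
    (𝓘 : X.IdealSheafData) [Flat (𝓘.subschemeι ≫ φ)]
    [LocallyOfFinitePresentation (𝓘.subschemeι ≫ φ)] (x : X)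
    (hfib : BlowUp.IsEffCartierIdeal (𝓘.comap (φ.fiberι (φ x)))) :
    ∃ (U₀ : X.affineOpens), x ∈ U₀.1 ∧ ∃ f₀ : Γ(X, U₀.1), 𝓘.ideal U₀ = Ideal.span {f₀} := by
  obtain ⟨V, hV, hxV⟩ : ∃ V : S.Opens, IsAffineOpen V ∧ φ x ∈ V := by
    obtain ⟨_, ⟨V, hV, rfl⟩, hxV, -⟩ :=
      S.isBasis_affineOpens.exists_subset_of_mem_open (Set.mem_univ (φ x)) isOpen_univ
    exact ⟨V, hV, hxV⟩
  obtain ⟨U, hU, hxU, hUV⟩ : ∃ U : X.Opens, IsAffineOpen U ∧ x ∈ U ∧ U ≤ φ ⁻¹ᵁ V := by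
    obtain ⟨_, ⟨U, hU, rfl⟩, hxU, hUV⟩ :=
      X.isBasis_affineOpens.exists_subset_of_mem_open (show x ∈ (φ ⁻¹ᵁ V : Set X) from hxV)
        (φ ⁻¹ᵁ V).isOpen
    exact ⟨U, hU, hxU, hUV⟩
  obtain ⟨hfl, hfg⟩ := flat_and_fg_of_subscheme φ 𝓘 hU hV hUV
  obtain ⟨a, ha⟩ := exists_fibre_generator φ 𝓘 x hU hxU hfib
  -- scaffolding
  letI algAB : Algebra Γ(S, V) Γ(X, U) := (φ.appLE V U hUV).hom.toAlgebra
  letI algAA' : Algebra Γ(S, V) (S.presheaf.stalk (φ x)) :=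
    TopCat.Presheaf.algebra_section_stalk S.presheaf (⟨φ x, hxV⟩ : V)
  letI algBB' : Algebra Γ(X, U) (X.presheaf.stalk x) :=
    TopCat.Presheaf.algebra_section_stalk X.presheaf (⟨x, hxU⟩ : U)
  letI algA'B' : Algebra (S.presheaf.stalk (φ x)) (X.presheaf.stalk x) :=
    (φ.stalkMap x).hom.toAlgebra
  letI algAB' : Algebra Γ(S, V) (X.presheaf.stalk x) :=
    ((φ.stalkMap x).hom.comp (S.presheaf.germ V (φ x) hxV).hom).toAlgebra
  haveI : IsScalarTower Γ(S, V) (S.presheaf.stalk (φ x)) (X.presheaf.stalk x) :=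
    IsScalarTower.of_algebraMap_eq' rfl
  haveI : IsScalarTower Γ(S, V) Γ(X, U) (X.presheaf.stalk x) :=
    IsScalarTower.of_algebraMap_eq fun r => Groth.Agent.S1348.germ_appLE φ hUV x hxU r
  haveI locA : IsLocalization.AtPrime (S.presheaf.stalk (φ x))
      (hV.primeIdealOf ⟨φ x, hxV⟩).asIdeal := hV.isLocalization_stalk ⟨φ x, hxV⟩
  haveI locB : IsLocalization.AtPrime (X.presheaf.stalk x)
      (hU.primeIdealOf ⟨x, hxU⟩).asIdeal := hU.isLocalization_stalk ⟨x, hxU⟩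
  haveI : IsLocalHom (algebraMap (S.presheaf.stalk (φ x)) (X.presheaf.stalk x)) :=
    inferInstanceAs (IsLocalHom (φ.stalkMap x).hom)
  -- flatness of the stalk quotient
  haveI hflAB : Module.Flat Γ(S, V) (Γ(X, U) ⧸ 𝓘.ideal ⟨U, hU⟩) := by
    rw [CommRingCat.hom_comp] at hfl
    exact (RingHom.flat_algebraMap_iff).mp hfl
  haveI hflAT : Module.Flat Γ(S, V) (X.presheaf.stalk x ⧸
      (𝓘.ideal ⟨U, hU⟩).map (algebraMap Γ(X, U) (X.presheaf.stalk x))) :=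
    Groth.Agent.Lib.RelCartierPrin50.flat_quot_map_of_flat (A := Γ(S, V))
      (B' := X.presheaf.stalk x) (hU.primeIdealOf ⟨x, hxU⟩).asIdeal.primeCompl _
  haveI hflRT : Module.Flat (S.presheaf.stalk (φ x)) (X.presheaf.stalk x ⧸
      (𝓘.ideal ⟨U, hU⟩).map (algebraMap Γ(X, U) (X.presheaf.stalk x))) :=
    (Module.flat_iff_of_isLocalization (S.presheaf.stalk (φ x))
      (hV.primeIdealOf ⟨φ x, hxV⟩).asIdeal.primeCompl _).mpr hflAT
  obtain ⟨j, hjJ, hJ⟩ := Groth.Agent.Lib.RelCartierPrin50.principal_of_fibre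
    (R := S.presheaf.stalk (φ x)) (T := X.presheaf.stalk x)
    ((𝓘.ideal ⟨U, hU⟩).map (algebraMap Γ(X, U) (X.presheaf.stalk x))) (Ideal.FG.map hfg _) a ha
  obtain ⟨b, hb, g, hgq, hg⟩ := Groth.Agent.Lib.RelCartierPrin50.exists_away_span_eq
    (hU.primeIdealOf ⟨x, hxU⟩).asIdeal (𝓘.ideal ⟨U, hU⟩) hfg (X.presheaf.stalk x) j hJ
  refine ⟨⟨X.basicOpen g, hU.basicOpen g⟩, ?_, X.presheaf.map (homOfLE (X.basicOpen_le g)).op b, ?_⟩
  · change x ∈ X.basicOpen g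
    rw [X.mem_basicOpen g x hxU]
    exact (IsLocalization.AtPrime.isUnit_to_map_iff (X.presheaf.stalk x)
      (hU.primeIdealOf ⟨x, hxU⟩).asIdeal g).mpr hgq
  · haveI : IsLocalization.Away g Γ(X, X.basicOpen g) := hU.isLocalization_basicOpen g
    rw [← 𝓘.map_ideal (U := ⟨X.basicOpen g, hU.basicOpen g⟩) (V := ⟨U, hU⟩) (X.basicOpen_le g)]
    exact Groth.Agent.Lib.RelCartierPrin50.map_away_eq_span (B' := Γ(X, X.basicOpen g))
      (𝓘.ideal ⟨U, hU⟩) b g hb hg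

end helpers

/-- Let φ : X ⟶ S be flat and locally of finite presentation and let 𝓘 be a quasi-coherent ideal sheaf
on X whose closed subscheme Z is flat and locally of finite presentation over S. If for every point
s of S the inverse image ideal of 𝓘 on the scheme-theoretic fibre X_s is the ideal sheaf of an
effective Cartier divisor of X_s, then 𝓘 is the ideal sheaf of an effective Cartier divisor of X;
together with the flatness of Z over S this says Z is a relative effective Cartier divisor. -/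
theorem result {X S : Scheme.{u}} (φ : X ⟶ S) [Flat φ] [LocallyOfFinitePresentation φ]
    (𝓘 : X.IdealSheafData) [Flat (𝓘.subschemeι ≫ φ)] [LocallyOfFinitePresentation (𝓘.subschemeι ≫ φ)]
    (hfib : ∀ s : ↥S, BlowUp.IsEffCartierIdeal (𝓘.comap (φ.fiberι s))) :
    BlowUp.IsEffCartierIdeal 𝓘 := by
  intro x
  obtain ⟨U₀, hxU₀, f₀, hI₀⟩ := exists_principal_nhd φ 𝓘 x (hfib (φ x))
  obtain ⟨U, V, hxU, e, f, hf, hI, -⟩ :=
    Groth.Agent.Lib.RelCartierFibre50.exists_slice_of_fibre φ 𝓘 x U₀ hxU₀ f₀ hI₀ (hfib (φ x))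
  exact ⟨U, hxU, f, hf, hI⟩

end Groth.Agent.S8847
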