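import Groth.Statements.S8848
import Mathlib
import Groth.Agent.Lib.RelCartierFibre50

set_option autoImplicit false
universe u
open CategoryTheory CategoryTheory.Limits AlgebraicGeometry TopologicalSpace
open SDiv

namespace Groth.Agent.S8848

section helpers

/-- the ideal of `𝓘` on an affine open missing the support is the unit ideal -/
theorem ideal_eq_top_of_disjoint {X : Scheme.{u}} (𝓘 : X.IdealSheafData) (U : X.affineOpens)
    (hU : Disjoint (𝓘.support : Set X) (U.1 : Set X)) : 𝓘.ideal U = ⊤ := by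
  rw [← PrimeSpectrum.zeroLocus_empty_iff_eq_top]
  have h1 := 𝓘.coe_support_inter U
  rw [Set.disjoint_iff_inter_eq_empty.mp hU, ← U.2.fromSpec_image_zeroLocus] at h1
  exact Set.image_eq_empty.mp h1.symm

theorem flat_congr_ideal {A B : CommRingCat.{u}} (ψ : A ⟶ B) (I J : Ideal B) (h : I = J)
    (hfl : (ψ ≫ CommRingCat.ofHom (Ideal.Quotient.mk J)).hom.Flat) :
    (ψ ≫ CommRingCat.ofHom (Ideal.Quotient.mk I)).hom.Flat := by
  subst h; exact hfl

/-- flatness of the closed subscheme of `𝓘` over the base from flatness of the affine quotients -/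
theorem flat_subscheme_of_local {X S : Scheme.{u}} (φ : X ⟶ S) (𝓘 : X.IdealSheafData)
    (key : ∀ x ∈ 𝓘.support, ∃ (U : X.affineOpens) (V : S.affineOpens) (_ : x ∈ U.1)
      (e : U.1 ≤ φ ⁻¹ᵁ V.1),
      (φ.appLE V.1 U.1 e ≫ CommRingCat.ofHom (Ideal.Quotient.mk (𝓘.ideal U))).hom.Flat) :
    Flat (𝓘.subschemeι ≫ φ) := by
  rw [HasRingHomProperty.iff_exists_appLE (P := @Flat) (Q := RingHom.Flat)
    (RingHom.Flat.stableUnderComposition.stableUnderCompositionWithLocalizationAway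
      RingHom.Flat.holdsForLocalizationAway).left]
  intro z
  have hx : 𝓘.subschemeι z ∈ 𝓘.support := by
    rw [← SetLike.mem_coe, ← 𝓘.range_subschemeι]; exact ⟨z, rfl⟩
  obtain ⟨U, V, hxU, e, hfl⟩ := key _ hx
  have e' : 𝓘.subschemeι ⁻¹ᵁ U.1 ≤ (𝓘.subschemeι ≫ φ) ⁻¹ᵁ V.1 := fun y hy => e hy
  refine ⟨V, ⟨𝓘.subschemeι ⁻¹ᵁ U.1, U.2.preimage 𝓘.subschemeι⟩, hxU, e', ?_⟩
  have h1 : (𝓘.subschemeι ≫ φ).appLE V.1 (𝓘.subschemeι ⁻¹ᵁ U.1) e' =
      φ.appLE V.1 U.1 e ≫ 𝓘.subschemeι.app U.1 := by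
    rw [Scheme.Hom.app_eq_appLE, Scheme.Hom.appLE_comp_appLE]
  rw [h1, 𝓘.subschemeι_app U, ← Category.assoc]
  exact RingHom.Flat.respectsIso.cancel_right_isIso _ (𝓘.subschemeObjIso U).inv |>.mpr hfl

end helpers

/-- Let φ : X ⟶ S be flat and locally of finite presentation and let 𝓘 be a quasi-coherent ideal sheaf
on X which is locally principal (generated by one section on some affine open neighbourhood of each
point of its support). If for every point s of S the inverse image ideal of 𝓘 on the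
scheme-theoretic fibre X_s is the ideal sheaf of an effective Cartier divisor of X_s, then 𝓘 is the
ideal sheaf of an effective Cartier divisor of X and its closed subscheme is flat over S (a relative
effective Cartier divisor). -/
theorem result {X S : Scheme.{u}} (φ : X ⟶ S) [Flat φ] [LocallyOfFinitePresentation φ]
    (𝓘 : X.IdealSheafData) (hZ : Curv2.IsLocPrincipal 𝓘)
    (hfib : ∀ s : ↥S, BlowUp.IsEffCartierIdeal (𝓘.comap (φ.fiberι s))) :
    BlowUp.IsEffCartierIdeal 𝓘 ∧ Flat (𝓘.subschemeι ≫ φ) := by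
  have key : ∀ x ∈ 𝓘.support, ∃ (U : X.affineOpens) (V : S.affineOpens) (_ : x ∈ U.1)
      (e : U.1 ≤ φ ⁻¹ᵁ V.1) (f : Γ(X, U.1)), f ∈ nonZeroDivisors Γ(X, U.1) ∧
      𝓘.ideal U = Ideal.span {f} ∧
      (φ.appLE V.1 U.1 e ≫ CommRingCat.ofHom (Ideal.Quotient.mk (Ideal.span {f}))).hom.Flat := by
    intro x hx
    obtain ⟨U₀, hxU₀, f₀, hI₀⟩ := hZ x hx
    exact Groth.Agent.Lib.RelCartierFibre50.exists_slice_of_fibre φ 𝓘 x U₀ hxU₀ f₀ hI₀ (hfib (φ x))
  refine ⟨?_, ?_⟩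
  · intro x
    by_cases hx : x ∈ 𝓘.support
    · obtain ⟨U, V, hxU, e, f, hf, hI, -⟩ := key x hx
      exact ⟨U, hxU, f, hf, hI⟩
    · obtain ⟨_, ⟨U, hU, rfl⟩, hxU, hUc⟩ :=
        X.isBasis_affineOpens.exists_subset_of_mem_open
          (show x ∈ ((𝓘.support : Set X)ᶜ) from hx) 𝓘.support.isClosed.isOpen_compl
      refine ⟨⟨U, hU⟩, hxU, 1, one_mem _, ?_⟩
      rw [Ideal.span_singleton_one]
      exact ideal_eq_top_of_disjoint 𝓘 ⟨U, hU⟩
        (Set.disjoint_left.mpr fun y hy hyU => hUc hyU hy)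
  · apply flat_subscheme_of_local φ 𝓘
    intro x hx
    obtain ⟨U, V, hxU, e, f, hf, hI, hfl⟩ := key x hx
    exact ⟨U, V, hxU, e, flat_congr_ideal _ _ _ hI hfl⟩

end Groth.Agent.S8848
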