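import Groth.Statements.S8849
import Groth.Agent.Lib.FlatCartier
import Groth.Agent.Lib.RelCartier

set_option autoImplicit false
universe u
open CategoryTheory CategoryTheory.Limits AlgebraicGeometry TopologicalSpace
open SDiv

namespace Groth.Agent.S8849

open Groth.Agent.Lib.RelCartier Groth.Agent.Lib.FlatCartier

/-- Let f : X ⟶ S be a morphism of schemes and 𝓘 the ideal sheaf of an effective Cartier divisor D ⊆ X
with D flat over S (a relative effective Cartier divisor). If f is flat at every point of X not in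
D, then f is flat. -/
theorem result {X S : Scheme.{u}} (f : X ⟶ S) (𝓘 : X.IdealSheafData)
    (hD : BlowUp.IsEffCartierIdeal 𝓘 ∧ Flat (𝓘.subschemeι ≫ f))
    (hflat : ∀ x : ↥X, x ∉ 𝓘.support → (f.stalkMap x).hom.Flat) : Flat f := by
  obtain ⟨hcart, hZflat⟩ := hD
  rw [HasRingHomProperty.iff_exists_appLE (P := @Flat)
    (RingHom.Flat.stableUnderComposition.stableUnderCompositionWithLocalizationAway
      RingHom.Flat.holdsForLocalizationAway).1]
  intro x
  obtain ⟨_, ⟨T, hT, rfl⟩, hxT, -⟩ :=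
    S.isBasis_affineOpens.exists_subset_of_mem_open (Set.mem_univ (f x)) isOpen_univ
  obtain ⟨U₀, hxU₀, t₀, ht₀, hI₀⟩ := hcart x
  have hxW : x ∈ U₀.1 ⊓ f ⁻¹ᵁ T := ⟨hxU₀, hxT⟩
  obtain ⟨_, ⟨U, hU, rfl⟩, hxU, hUW⟩ :=
    X.isBasis_affineOpens.exists_subset_of_mem_open hxW (U₀.1 ⊓ f ⁻¹ᵁ T).2
  have hUU₀ : (⟨U, hU⟩ : X.affineOpens) ≤ U₀ := fun y hy => (hUW hy).1
  have e : U ≤ f ⁻¹ᵁ T := fun y hy => (hUW hy).2
  obtain ⟨ht, hI⟩ := cartier_restrict 𝓘 hUU₀ t₀ ht₀ hI₀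
  set t : Γ(X, U) := X.presheaf.map (homOfLE hUU₀).op t₀ with htdef
  refine ⟨⟨T, hT⟩, ⟨U, hU⟩, hxU, e, ?_⟩
  let algA : Algebra Γ(S, T) Γ(X, U) := (f.appLE T U e).hom.toAlgebra
  -- the quotient is flat
  have hq : Module.Flat Γ(S, T) (Γ(X, U) ⧸ 𝓘.ideal ⟨U, hU⟩) :=
    flat_quot_of_flat_subscheme f 𝓘 hZflat ⟨T, hT⟩ ⟨U, hU⟩ e
  rw [hI] at hq
  -- the complement is flat
  set D : X.Opens := X.basicOpen t with hDdef
  have hDU : D ≤ U := X.basicOpen_le t
  have hgflat : Flat (D.ι ≫ f) := by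
    apply Flat.of_stalkMap
    intro y
    have hy : D.ι y ∉ 𝓘.support := by
      have hyU : D.ι y ∈ U := hDU y.2
      rw [Scheme.IdealSheafData.mem_support_iff_of_mem (U := ⟨U, hU⟩) hyU, hI,
        Scheme.zeroLocus_span, Scheme.zeroLocus_singleton]
      exact fun h => h y.2
    rw [Scheme.Hom.stalkMap_comp]
    exact RingHom.Flat.comp (hflat _ hy)
      (RingHom.Flat.of_bijective (ConcreteCategory.bijective_of_isIso (D.ι.stalkMap y)))
  have hDaff : IsAffine (D : Scheme) := hU.basicOpen t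
  have e' : (⊤ : (D : Scheme).Opens) ≤ (D.ι ≫ f) ⁻¹ᵁ T := by
    intro y _
    exact e (hDU y.2)
  have hD1 : ((D.ι ≫ f).appLE T ⊤ e').hom.Flat :=
    Flat.flat_appLE (D.ι ≫ f) hT (isAffineOpen_top _) e'
  have hcomp : (D.ι ≫ f).appLE T ⊤ e' =
      (f.appLE T U e ≫ X.presheaf.map (homOfLE hDU).op) ≫
        D.ι.appLE D ⊤ D.ι_preimage_self.ge := by
    rw [Scheme.Hom.appLE_map, Scheme.Hom.appLE_comp_appLE]
  have hD2 : (f.appLE T U e ≫ X.presheaf.map (homOfLE hDU).op).hom.Flat := by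
    have : f.appLE T U e ≫ X.presheaf.map (homOfLE hDU).op =
        (D.ι ≫ f).appLE T ⊤ e' ≫ inv (D.ι.appLE D ⊤ D.ι_preimage_self.ge) := by
      rw [hcomp, Category.assoc, IsIso.hom_inv_id, Category.comp_id]
    rw [this, CommRingCat.hom_comp]
    exact RingHom.Flat.comp hD1
      (RingHom.Flat.of_bijective (ConcreteCategory.bijective_of_isIso _))
  let algB : Algebra Γ(S, T) Γ(X, D) :=
    (f.appLE T U e ≫ X.presheaf.map (homOfLE hDU).op).hom.toAlgebra
  have : IsScalarTower Γ(S, T) Γ(X, U) Γ(X, D) := IsScalarTower.of_algebraMap_eq (fun r => rfl)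
  have : Module.Flat Γ(S, T) Γ(X, D) := hD2
  have : IsLocalization.Away t Γ(X, D) := hU.isLocalization_basicOpen t
  have := hq
  exact flat_of_flat_quot_of_flat_away (B := Γ(X, D)) t ht

end Groth.Agent.S8849
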