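import Groth.Statements.S8850
import Groth.Agent.Lib.LocImm13

set_option autoImplicit false
universe u
open CategoryTheory CategoryTheory.Limits AlgebraicGeometry TopologicalSpace
open SDiv

namespace Groth.Agent.S8850

/-- Let S be a scheme, X a Noetherian S-scheme, Y a proper S-scheme, U ⊆ X an open subscheme and f : U ⟶
Y a morphism compatible with the structure morphisms to S. Then there are a proper morphism p : X' ⟶
X restricting to an isomorphism over U and an S-morphism f' : X' ⟶ Y whose restriction to p⁻¹(U) is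
f composed with p. The published statement takes U dense, so that f is an S-rational map; this row
allows any open U, which its proof does not need. -/
theorem result {X Y S : Scheme.{u}} [IsNoetherian X] (a : X ⟶ S) (b : Y ⟶ S)
    [IsProper b] (U : X.Opens) (f : (U : Scheme.{u}) ⟶ Y) (hf : f ≫ b = U.ι ≫ a) :
    ∃ (X' : Scheme.{u}) (p : X' ⟶ X) (f' : X' ⟶ Y), IsProper p ∧ IsIso (p ∣_ U) ∧ f' ≫ b = p ≫ a ∧
      (p ⁻¹ᵁ U).ι ≫ f' = (p ∣_ U) ≫ f := by
  have hNU : IsNoetherian (U : Scheme.{u}) := Groth.Agent.Lib.LocImm.isNoetherian_opens U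
  let Γ : (U : Scheme.{u}) ⟶ pullback a b := pullback.lift U.ι f hf.symm
  have hΓ1 : Γ ≫ pullback.fst a b = U.ι := pullback.lift_fst _ _ _
  have hΓ2 : Γ ≫ pullback.snd a b = f := pullback.lift_snd _ _ _
  let k : (U : Scheme.{u}) ⟶ Γ.image := Γ.toImage
  have hkι : k ≫ Γ.imageι = Γ := Γ.toImage_imageι
  let p : Γ.image ⟶ X := Γ.imageι ≫ pullback.fst a b
  let f' : Γ.image ⟶ Y := Γ.imageι ≫ pullback.snd a b
  have hkp : k ≫ p = U.ι := by simp only [p, ← Category.assoc, hkι, hΓ1]
  have hkf' : k ≫ f' = f := by simp only [f', ← Category.assoc, hkι, hΓ2]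
  have hpproper : IsProper p := inferInstance
  have hoi : IsOpenImmersion (k ≫ p) := by rw [hkp]; infer_instance
  have hqc : QuasiCompact (k ≫ p) := inferInstance
  obtain ⟨hkopen, hkrange⟩ := Groth.Agent.Lib.LocImm.isOpenImmersion_of_comp_of_ker_eq_bot k p
    (Groth.Agent.Lib.LocImm.ker_toImage_eq_bot Γ) (Scheme.Hom.denseRange k)
  have hr : Set.range k = Set.range (p ⁻¹ᵁ U).ι := by
    rw [hkrange, hkp, Scheme.Opens.range_ι, Scheme.Opens.range_ι]
    rfl
  let e : (U : Scheme.{u}) ≅ (p ⁻¹ᵁ U : Γ.image.Opens) :=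
    IsOpenImmersion.isoOfRangeEq k (p ⁻¹ᵁ U).ι hr
  have he : e.hom ≫ (p ⁻¹ᵁ U).ι = k := IsOpenImmersion.isoOfRangeEq_hom_fac _ _ _
  have hsec : e.hom ≫ (p ∣_ U) = 𝟙 _ := by
    rw [← cancel_mono U.ι, Category.assoc, morphismRestrict_ι, ← Category.assoc, he, hkp,
      Category.id_comp]
  have hres : p ∣_ U = e.inv := by
    rw [← cancel_epi e.hom, hsec, Iso.hom_inv_id]
  refine ⟨Γ.image, p, f', hpproper, ?_, ?_, ?_⟩
  · rw [hres]; infer_instance
  · simp only [f', p, Category.assoc, pullback.condition]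
  · rw [← cancel_epi e.hom, ← Category.assoc, he, hkf', ← Category.assoc, hsec, Category.id_comp]

end Groth.Agent.S8850
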