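import Groth.Statements.S8851
import Mathlib.AlgebraicGeometry.Properties

set_option autoImplicit false
universe u
open CategoryTheory CategoryTheory.Limits AlgebraicGeometry TopologicalSpace
open SDiv

namespace Groth.Agent.S8851

theorem isEffCartier_top {Y : Scheme.{u}} :
    BlowUp.IsEffCartierIdeal (⊤ : Y.IdealSheafData) := by
  intro y
  obtain ⟨V, hV, hyV, -⟩ := exists_isAffineOpen_mem_and_subset (x := y) (U := ⊤) trivial
  refine ⟨⟨V, hV⟩, hyV, 1, one_mem _, ?_⟩
  rw [Scheme.IdealSheafData.ideal_top, Pi.top_apply, Ideal.span_singleton_one]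

theorem comap_eq_top {X Y : Scheme.{u}} (𝓘 : X.IdealSheafData) (g : Y ⟶ X)
    (h : ∀ y, g y ∉ 𝓘.support) : 𝓘.comap g = ⊤ := by
  rw [← Scheme.IdealSheafData.support_eq_bot_iff, Scheme.IdealSheafData.support_comap]
  ext y
  simp only [Closeds.coe_preimage, Set.mem_preimage, SetLike.mem_coe, Closeds.coe_bot,
    Set.mem_empty_iff_false, iff_false]
  exact h y

/-- Let X be a reduced scheme, 𝓘 a quasi-coherent ideal sheaf on X and b : X' ⟶ X a blowing up of X in
𝓘. Then X' is reduced. -/
theorem result {X X' : Scheme.{u}} [IsReduced X] (𝓘 : X.IdealSheafData) (b : X' ⟶ X)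
    (hb : BlowUp.IsBlowUp b 𝓘) : IsReduced X' := by
  obtain ⟨hcart, huniv⟩ := hb
  set U : X.Opens := 𝓘.support.compl with hU
  set W : X'.Opens := b ⁻¹ᵁ U with hW
  -- the section over U
  have hUcart : BlowUp.IsEffCartierIdeal (𝓘.comap U.ι) := by
    rw [comap_eq_top 𝓘 U.ι (fun y => y.2)]
    exact isEffCartier_top
  obtain ⟨h, hh, -⟩ := huniv U U.ι hUcart
  have hrange : Set.range h ⊆ Set.range W.ι := by
    rintro _ ⟨y, rfl⟩
    rw [Scheme.Opens.range_ι]
    change b (h y) ∈ U
    rw [← Scheme.Hom.comp_apply, hh]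
    exact y.2
  let h' : (U : Scheme) ⟶ W := IsOpenImmersion.lift W.ι h hrange
  have hh' : h' ≫ W.ι = h := IsOpenImmersion.lift_fac _ _ _
  have hWcart : BlowUp.IsEffCartierIdeal (𝓘.comap (W.ι ≫ b)) := by
    rw [comap_eq_top 𝓘 (W.ι ≫ b) (fun y => ?_)]
    · exact isEffCartier_top
    · rw [Scheme.Hom.comp_apply]
      exact y.2
  obtain ⟨k, hk, hkuniq⟩ := huniv W (W.ι ≫ b) hWcart
  have e1 : W.ι = k := hkuniq W.ι rfl
  have e2 : (b ∣_ U) ≫ h = k :=
    hkuniq _ (by change ((b ∣_ U) ≫ h) ≫ b = W.ι ≫ b; rw [Category.assoc, hh, morphismRestrict_ι])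
  have e3 : (b ∣_ U) ≫ h' = 𝟙 _ := by
    rw [← cancel_mono W.ι, Category.assoc, hh', e2, ← e1, Category.id_comp]
  have e4 : h' ≫ (b ∣_ U) = 𝟙 _ := by
    rw [← cancel_mono U.ι, Category.assoc, morphismRestrict_ι, ← Category.assoc, hh', hh,
      Category.id_comp]
  have : IsIso (b ∣_ U) := ⟨h', e3, e4⟩
  have hWred : IsReduced (W : Scheme) := isReduced_of_isOpenImmersion (b ∣_ U)
  -- local reducedness
  have key : ∀ x' : X', ∃ V : X'.Opens, x' ∈ V ∧ IsReduced (V : Scheme) := by
    intro x'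
    obtain ⟨V, hxV, f, hf, hI⟩ := hcart x'
    refine ⟨V.1, hxV, ?_⟩
    have hDW : X'.basicOpen f ≤ W := by
      intro y hy
      have hyV : y ∈ V.1 := X'.basicOpen_le f hy
      have hns : y ∉ (𝓘.comap b).support := by
        rw [Scheme.IdealSheafData.mem_support_iff_of_mem hyV, hI, Scheme.zeroLocus_span,
          Scheme.zeroLocus_singleton]
        exact fun h => h hy
      rw [Scheme.IdealSheafData.support_comap] at hns
      exact hns
    have : IsReduced (X'.basicOpen f : Scheme) := isReduced_of_isOpenImmersion (X'.homOfLE hDW)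
    have hred : _root_.IsReduced Γ(X', X'.basicOpen f) :=
      isReduced_of_injective (X'.basicOpen f).topIso.inv.hom
        ((X'.basicOpen f).topIso.symm.commRingCatIsoToRingEquiv.injective)
    have hloc : IsLocalization.Away f Γ(X', X'.basicOpen f) := V.2.isLocalization_basicOpen f
    have hinj : Function.Injective (algebraMap Γ(X', V.1) Γ(X', X'.basicOpen f)) :=
      IsLocalization.injective _ (Submonoid.powers_le.mpr hf)
    have hredV : _root_.IsReduced Γ(X', V.1) := isReduced_of_injective _ hinj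
    have : IsAffine (V.1 : Scheme) := V.2
    have : _root_.IsReduced Γ((V.1 : Scheme), ⊤) :=
      isReduced_of_injective V.1.topIso.hom.hom
        (V.1.topIso.commRingCatIsoToRingEquiv.injective)
    exact isReduced_of_isAffine_isReduced _
  choose V hxV hVred using key
  have hcov : IsOpenCover V := by
    apply IsOpenCover.mk
    rw [eq_top_iff]
    intro x _
    exact Opens.mem_iSup.mpr ⟨x, hxV x⟩
  have : ∀ i, IsReduced ((X'.openCoverOfIsOpenCover V hcov).X i) := hVred
  exact IsReduced.of_openCover _ (X'.openCoverOfIsOpenCover V hcov)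

end Groth.Agent.S8851
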