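import Groth.Statements.S8853

set_option autoImplicit false
universe u
open CategoryTheory CategoryTheory.Limits AlgebraicGeometry TopologicalSpace
open SDiv

namespace Groth.Agent.S8853

/-- Let Z be a locally principal closed subscheme of a scheme S, with ideal sheaf 𝓘 generated by a
single section on some affine open neighbourhood of each point of its support, and let U be the open
complement of Z. Then the inclusion U ⟶ S is an affine morphism. -/
theorem result {S : Scheme.{u}} (𝓘 : S.IdealSheafData) (h : Curv2.IsLocPrincipal 𝓘) :
    IsAffineHom (Scheme.Opens.ι 𝓘.support.compl) := by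
  set W : S.Opens := 𝓘.support.compl with hW
  apply isAffineHom_of_forall_exists_isAffineOpen
  intro x
  by_cases hx : x ∈ 𝓘.support
  · obtain ⟨U, hxU, f, hf⟩ := h x hx
    refine ⟨U.1, hxU, U.2, ?_⟩
    rw [← W.ι.isAffineOpen_iff_of_isOpenImmersion, W.ι.image_preimage_eq_opensRange_inf,
      Scheme.Opens.opensRange_ι]
    have key : W ⊓ U.1 = S.basicOpen f := by
      apply Opens.ext
      have h1 := 𝓘.coe_support_inter U
      rw [hf, Scheme.zeroLocus_span, Scheme.zeroLocus_singleton] at h1
      have hle : (S.basicOpen f : Set S) ⊆ U.1 := S.basicOpen_le f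
      ext y
      simp only [Opens.coe_inf, Set.mem_inter_iff, SetLike.mem_coe, hW]
      constructor
      · rintro ⟨hyW, hyU⟩
        by_contra hyf
        have : y ∈ (𝓘.support : Set S) ∩ U.1 := by
          rw [h1]; exact ⟨hyf, hyU⟩
        exact hyW this.1
      · intro hyf
        refine ⟨?_, hle hyf⟩
        intro hys
        have : y ∈ (𝓘.support : Set S) ∩ U.1 := ⟨hys, hle hyf⟩
        rw [h1] at this
        exact this.1 hyf
    rw [key]
    exact U.2.basicOpen f
  · have hxW : x ∈ W := hx
    obtain ⟨V, hV, hxV, hVW⟩ := exists_isAffineOpen_mem_and_subset hxW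
    refine ⟨V, hxV, hV, ?_⟩
    apply hV.preimage_of_isOpenImmersion
    rw [Scheme.Opens.opensRange_ι]
    exact hVW

end Groth.Agent.S8853
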