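import Groth.Statements.S8855
import Groth.Agent.Lib.RegSpreadGeom
import Groth.Agent.Lib.RegularLocalKer
import Groth.Agent.Lib.ImmersionLocal

set_option autoImplicit false
universe u
open CategoryTheory CategoryTheory.Limits AlgebraicGeometry TopologicalSpace
open SDiv

namespace Groth.Agent.S8855

/-- Let i : Z ⟶ X be an immersion of schemes with Z and X regular (locally Noetherian, all local rings
regular local rings). Then i is a regular immersion. -/
theorem result {Z X : Scheme.{u}} (i : Z ⟶ X) [IsImmersion i]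
    [IsLocallyNoetherian X] [IsLocallyNoetherian Z]
    (hX : ∀ x : ↥X, IsRegularLocalRing ↑(X.presheaf.stalk x)) (hZ : ∀ z : ↥Z, IsRegularLocalRing ↑(Z.presheaf.stalk z)) :
    RegImm.IsRegularImmersion RegImm.Kind.regular i := by
  refine ⟨inferInstance, fun z => ?_⟩
  obtain ⟨U₀, hzU₀, hcl⟩ :=
    Groth.Agent.Lib.ImmersionLocal.exists_affine_isClosedImmersion_restrict i z
  haveI := hcl
  haveI := hX (i z)
  haveI := hZ z
  obtain ⟨rs, hreg, hker⟩ := Groth.Agent.Lib.RegularLocalKer.exists_isRegular_ker_of_surjective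
    (i.stalkMap z).hom (i.stalkMap_surjective z)
  obtain ⟨g, as, hzg, hwreg, hkerg⟩ := Groth.Agent.Lib.RegSpreadGeom.exists_spread_geom i U₀ z
    hzU₀ rs hreg.toIsWeaklyRegular hker
  refine ⟨X.affineBasicOpen g, hzg,
    Groth.Agent.Lib.RegSpreadGeom.isClosedImmersion_restrict_basicOpen i U₀ g,
    as.map (X.presheaf.map (homOfLE (X.basicOpen_le g)).op).hom, ⟨hwreg, ?_⟩, hkerg⟩
  intro htop
  have hkerg' : RingHom.ker (i.app (X.basicOpen g)).hom = ⊤ := by
    rw [hkerg]
    have := htop.symm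
    rwa [smul_eq_mul, Ideal.mul_top] at this
  have h1 : (1 : Γ(X, X.basicOpen g)) ∈ RingHom.ker (i.app (X.basicOpen g)).hom := by
    rw [hkerg']; trivial
  rw [RingHom.mem_ker, map_one] at h1
  have hzW : z ∈ i ⁻¹ᵁ X.basicOpen g := hzg
  have h2 := congrArg (Z.presheaf.germ (i ⁻¹ᵁ X.basicOpen g) z hzW).hom h1
  rw [map_one, map_zero] at h2
  exact one_ne_zero h2

end Groth.Agent.S8855
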