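import Groth.Statements.S8856
import Groth.Agent.Lib.RegChartBC19
import Mathlib.AlgebraicGeometry.Limits

set_option autoImplicit false
set_option linter.style.haveILetI false
universe u
open CategoryTheory CategoryTheory.Limits AlgebraicGeometry TopologicalSpace
open SDiv

namespace Groth.Agent.S8856

/-- For a Koszul-regular closed immersion i : Z ⟶ X, some surjective smooth morphism g : X' ⟶ X makes
the base change Z ×_X X' ⟶ X' of i along g a regular immersion. -/
theorem result {Z X : Scheme.{u}} (i : Z ⟶ X) [IsClosedImmersion i]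
    (hi : RegImm.IsRegularImmersion RegImm.Kind.koszul i) :
    ∃ (X' : Scheme.{u}) (g : X' ⟶ X), Smooth g ∧ Surjective g ∧
      RegImm.IsRegularImmersion RegImm.Kind.regular (pullback.snd i g) := by
  obtain ⟨-, hat⟩ := hi
  choose U hzU hcl rs hrs hker using hat
  have htop : ∀ z, Ideal.ofList (rs z) ≠ ⊤ := by
    intro z h
    rw [← hker z] at h
    have h1 : (1 : Γ(X, (U z).1)) ∈ RingHom.ker (i.app (U z).1).hom := by rw [h]; trivial
    rw [RingHom.mem_ker, map_one] at h1
    have hne : Nonempty ↥(i ⁻¹ᵁ (U z).1) := ⟨⟨z, hzU z⟩⟩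
    have : Nontrivial Γ(Z, i ⁻¹ᵁ (U z).1) := inferInstance
    exact one_ne_zero h1
  choose σ hσ b hb hbI using fun z =>
    Groth.Agent.Lib.KRegToReg19.exists_regular_mvPolynomial Γ(X, (U z).1) (rs z) (hrs z) (htop z)
  let W : X.Opens := ⟨(Set.range i)ᶜ, i.isClosedEmbedding.isClosed_range.isOpen_compl⟩
  let F : Option ↥Z → Scheme.{u} := fun j =>
    j.elim (W : Scheme.{u}) (fun z => Spec (CommRingCat.of (MvPolynomial (σ z) Γ(X, (U z).1))))
  let h : ∀ j, F j ⟶ X := fun j =>
    match j with
    | none => W.ι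
    | some z => Spec.map (CommRingCat.ofHom (MvPolynomial.C : Γ(X, (U z).1) →+* _)) ≫
        (U z).2.fromSpec
  refine ⟨∐ F, Sigma.desc h, ?_, ?_, ?_⟩
  · haveI : IsZariskiLocalAtSource @Smooth.{u} :=
      HasRingHomProperty.instIsZariskiLocalAtSource (Q := RingHom.Smooth)
    refine IsZariskiLocalAtSource.sigmaDesc (P := @Smooth) (fun j => ?_)
    cases j with
    | none =>
      show Smooth W.ι
      infer_instance
    | some z =>
      show Smooth (Spec.map (CommRingCat.ofHom (MvPolynomial.C : Γ(X, (U z).1) →+* _)) ≫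
        (U z).2.fromSpec)
      have hsm : Smooth (Spec.map (CommRingCat.ofHom
          (MvPolynomial.C : Γ(X, (U z).1) →+* MvPolynomial (σ z) Γ(X, (U z).1)))) := by
        rw [HasRingHomProperty.Spec_iff (P := @Smooth)]
        have := hσ z
        have hA : Algebra.Smooth Γ(X, (U z).1) (MvPolynomial (σ z) Γ(X, (U z).1)) :=
          ⟨inferInstance, inferInstance⟩
        have := RingHom.smooth_algebraMap.mpr hA
        rwa [MvPolynomial.algebraMap_eq] at this
      have := (U z).2.isOpenImmersion_fromSpec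
      infer_instance
  · refine ⟨fun x => ?_⟩
    by_cases hx : x ∈ Set.range i
    · obtain ⟨z, rfl⟩ := hx
      have := (U z).2.isOpenImmersion_fromSpec
      have h1 : i z ∈ (U z).2.fromSpec.opensRange := by
        rw [(U z).2.opensRange_fromSpec]
        exact hzU z
      obtain ⟨p, hp⟩ := h1
      let cc : MvPolynomial (σ z) Γ(X, (U z).1) →+* Γ(X, (U z).1) := MvPolynomial.constantCoeff
      let q : ↥(Spec (CommRingCat.of (MvPolynomial (σ z) Γ(X, (U z).1)))) :=
        (Spec.map (CommRingCat.ofHom cc)) p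
      have hq : (Spec.map (CommRingCat.ofHom
          (MvPolynomial.C : Γ(X, (U z).1) →+* MvPolynomial (σ z) Γ(X, (U z).1)))) q = p := by
        have hc : CommRingCat.ofHom
            (MvPolynomial.C : Γ(X, (U z).1) →+* MvPolynomial (σ z) Γ(X, (U z).1)) ≫
            CommRingCat.ofHom cc = 𝟙 _ := by
          ext a
          simp [cc]
        have hcomp : Spec.map (CommRingCat.ofHom cc) ≫ Spec.map (CommRingCat.ofHom
            (MvPolynomial.C : Γ(X, (U z).1) →+* MvPolynomial (σ z) Γ(X, (U z).1))) = 𝟙 _ := by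
          rw [← Spec.map_comp, hc]
          exact Spec.map_id _
        show (Spec.map (CommRingCat.ofHom cc) ≫ Spec.map (CommRingCat.ofHom
            (MvPolynomial.C : Γ(X, (U z).1) →+* MvPolynomial (σ z) Γ(X, (U z).1)))) p = p
        rw [hcomp]
        rfl
      refine ⟨(Sigma.ι F (some z)) q, ?_⟩
      show (Sigma.ι F (some z) ≫ Sigma.desc h) q = i z
      rw [Sigma.ι_desc]
      show ((Spec.map _) ≫ (U z).2.fromSpec) q = i z
      rw [Scheme.Hom.comp_apply, hq, hp]
    · let y : ↥(F none) := (⟨x, hx⟩ : ↥(W : Scheme.{u}))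
      refine ⟨(Sigma.ι F none) y, ?_⟩
      show (Sigma.ι F none ≫ Sigma.desc h) y = x
      rw [Sigma.ι_desc]
      rfl
  · refine ⟨inferInstance, fun w => ?_⟩
    obtain ⟨j, y, hy⟩ := (sigmaOpenCover F).exists_eq ((pullback.snd i (Sigma.desc h)) w)
    have hy' : (Sigma.ι F j) y = (pullback.snd i (Sigma.desc h)) w := hy
    have h1 : (Sigma.desc h) ((pullback.snd i (Sigma.desc h)) w) =
        i ((pullback.fst i (Sigma.desc h)) w) := by
      rw [← Scheme.Hom.comp_apply, ← Scheme.Hom.comp_apply, pullback.condition]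
    cases j with
    | none =>
      exfalso
      rw [← hy'] at h1
      have h2 : (Sigma.desc h) ((Sigma.ι F none) y) = W.ι y := by
        show (Sigma.ι F none ≫ Sigma.desc h) y = _
        rw [Sigma.ι_desc]
        rfl
      rw [h2] at h1
      have h3 : W.ι y ∈ W := (y : ↥(W : Scheme.{u})).2
      exact h3 ⟨_, h1.symm⟩
    | some z =>
      have hι : Sigma.ι F (some z) ≫ Sigma.desc h =
          Spec.map (CommRingCat.ofHom (MvPolynomial.C : Γ(X, (U z).1) →+* _)) ≫
            (U z).2.fromSpec := by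
        rw [Sigma.ι_desc]
        rfl
      have hoi : IsOpenImmersion (Sigma.ι F (some z)) := inferInstance
      exact @Groth.Agent.Lib.RegChartBC19.isRegularImmersionAt_of_chart _ _ _ i _ (Sigma.desc h) _
        (U z).2 (rs z) (hker z) (MvPolynomial (σ z) Γ(X, (U z).1)) _ (b z) (hb z) MvPolynomial.C
        (hbI z) (Sigma.ι F (some z)) hoi hι w ⟨y, hy'⟩

end Groth.Agent.S8856

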