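import Groth.Statements.S8860
import Groth.Agent.Lib.NormQAffH3
import Groth.Agent.Lib.NormFieldH3
import Groth.Agent.Lib.FinLocFreeMor

set_option autoImplicit false
universe u
open CategoryTheory CategoryTheory.Limits AlgebraicGeometry TopologicalSpace
open SDiv

namespace Groth.Agent.S8860

/-- Let π : X ⟶ Y be a finite surjective morphism of schemes with X quasi-affine. If either π is finite
locally free (finite, flat and locally of finite presentation), or Y is integral with all local
rings integrally closed domains (normal), then Y is quasi-affine. -/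
theorem result {X Y : Scheme.{u}} (π : X ⟶ Y) [IsFinite π] [Surjective π]
    (hX : X.IsQuasiAffine) (h : Mor2.IsFinLocFree π ∨ (IsIntegral Y ∧ Pi1.IsNormalScheme Y)) :
    Y.IsQuasiAffine := by
  rcases h with h | ⟨hYint, hY⟩
  · -- the finite locally free case: glue the determinant norms
    have hE : FlatMod.IsFinLocFree (Groth.Agent.Lib.NormChartH3.E π) :=
      ((Groth.Agent.Lib.FinLocFreeMor.isFinLocFree_mor_iff π).2 h).2
    exact Groth.Agent.Lib.NormQAffH3.isQuasiAffine_of_normData π
      (Groth.Agent.Lib.NormGlueH3.glueNorm hE) hX
  · -- the normal case: pass to an integral closed subscheme dominating `Y`, use the field norm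
    haveI := hYint
    obtain ⟨Z, i, hi, hZ, hsurj⟩ :=
      Groth.Agent.Lib.NormQAffH3.exists_integral_closedSubscheme π π.isClosedMap
    haveI := hi
    haveI := hZ
    haveI := hsurj
    haveI := hX
    have hZq : Z.IsQuasiAffine := Scheme.IsQuasiAffine.of_isAffineHom i
    exact Groth.Agent.Lib.NormQAffH3.isQuasiAffine_of_normData (i ≫ π)
      (Groth.Agent.Lib.NormFieldH3.normData (i ≫ π) hY) hZq

end Groth.Agent.S8860
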