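import Groth.Statements.S8869
import Groth.Agent.Lib.AssPoints
import Groth.Agent.Lib.StructureModule
import Mathlib.Tactic.Ring

set_option autoImplicit false
universe u
open CategoryTheory CategoryTheory.Limits AlgebraicGeometry TopologicalSpace
open SDiv

namespace Groth.Agent.S8869

open Groth.Agent.Lib.QCohStalk Groth.Agent.Lib.AssPoints Groth.Agent.Lib.StructureModule

/-- In a reduced ring, a prime minimal over the annihilator of an element is a minimal prime. -/
lemma minimal_of_minimal_ann {A : Type*} [CommRing A] [IsReduced A] (m : A) (p : Ideal A)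
    (hp : p ∈ (ann A m).minimalPrimes) : p ∈ minimalPrimes A := by
  have hprime : p.IsPrime := hp.1.1
  have hmp : m ∉ p := by
    intro hm
    obtain ⟨y, hy, hmy⟩ := Ideal.exists_mul_mem_of_mem_minimalPrimes hp hm
    apply hy
    rw [mem_ann] at hmy ⊢
    rw [smul_eq_mul] at hmy ⊢
    have h2 : (y * m) ^ 2 = 0 := by
      calc (y * m) ^ 2 = y * (m * y * m) := by ring
        _ = 0 := by rw [hmy, mul_zero]
    exact IsReduced.eq_zero _ ⟨2, h2⟩
  refine ⟨⟨hprime, bot_le⟩, ?_⟩
  rintro q ⟨hq, -⟩ hqp
  apply hp.2 ⟨hq, ?_⟩ hqp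
  intro a ha
  rw [mem_ann, smul_eq_mul] at ha
  have h0 : a * m ∈ q := by rw [ha]; exact q.zero_mem
  exact (hq.mem_or_mem h0).resolve_right fun hmq => hmp (hqp hmq)

/-- Assume X is a reduced scheme and x is a point of X. Then x is weakly associated to the structure
sheaf O_X exactly when every generization of x equals x itself; equivalently, x is a generic point
of some irreducible component of X. -/
theorem result (X : Scheme.{u}) [IsReduced X] (x : ↥X) :
    Curv2.IsWeakAssPoint (Coh.structureModule X) x ↔ ∀ y : ↥X, y ⤳ x → y = x := by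
  have hq := isQuasicoherent_structureModule X
  obtain ⟨_, ⟨U, hU, rfl⟩, hxU, -⟩ :=
    X.isBasis_affineOpens.exists_subset_of_mem_open (Set.mem_univ x) isOpen_univ
  replace hU : IsAffineOpen U := hU
  set y : U := ⟨x, hxU⟩ with hy
  have hloc := isLocAt_of_isQuasicoherent (Coh.structureModule X) hU y
  constructor
  · intro hx z hz
    obtain ⟨m, hm⟩ := exists_minimal_of_isWeakAssPoint (Coh.structureModule X) hU y hloc hx
    have hmin : (hU.primeIdealOf y).asIdeal ∈ minimalPrimes Γ(X, U) :=
      minimal_of_minimal_ann (A := Γ(X, U)) m _ hm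
    have hzU : z ∈ U := hz.mem_open U.2 hxU
    have hle : hU.primeIdealOf ⟨z, hzU⟩ ≤ hU.primeIdealOf y := by
      rw [PrimeSpectrum.le_iff_specializes]
      have h1 : hU.fromSpec (hU.primeIdealOf ⟨z, hzU⟩) ⤳ hU.fromSpec (hU.primeIdealOf y) := by
        rw [hU.fromSpec_primeIdealOf, hU.fromSpec_primeIdealOf]
        exact hz
      exact hU.fromSpec.isOpenEmbedding.isInducing.specializes_iff.mp h1
    have heq : hU.primeIdealOf ⟨z, hzU⟩ = hU.primeIdealOf y := by
      apply PrimeSpectrum.ext
      exact le_antisymm hle (hmin.2 ⟨(hU.primeIdealOf ⟨z, hzU⟩).isPrime, bot_le⟩ hle)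
    have h3 := congrArg (fun q => hU.fromSpec q) heq
    simp only [hU.fromSpec_primeIdealOf] at h3
    exact h3
  · intro hx
    apply isWeakAssPoint_of_minimal (Coh.structureModule X) hU y hloc (toSec U 1)
    have hann : ann Γ(X, U) (toSec U 1) = ⊥ := by
      ext a
      rw [mem_ann, Ideal.mem_bot]
      constructor
      · intro h
        have h1 := toSec_smul U a 1
        rw [mul_one] at h1
        exact toSec_injective U (h1.trans h)
      · rintro rfl
        exact zero_smul _ _
    rw [hann]
    refine ⟨⟨(hU.primeIdealOf y).isPrime, bot_le⟩, ?_⟩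
    rintro q ⟨hq, -⟩ hqp
    have hspec : hU.fromSpec ⟨q, hq⟩ ⤳ x := by
      have h1 : (⟨q, hq⟩ : PrimeSpectrum Γ(X, U)) ⤳ hU.primeIdealOf y :=
        (PrimeSpectrum.le_iff_specializes _ _).mp hqp
      have h2 := h1.map hU.fromSpec.continuous
      rwa [hU.fromSpec_primeIdealOf] at h2
    have h3 := hx _ hspec
    have h4 := primeIdealOf_fromSpec hU ⟨q, hq⟩
    have h5 : hU.primeIdealOf ⟨hU.fromSpec ⟨q, hq⟩, fromSpec_mem hU ⟨q, hq⟩⟩ = hU.primeIdealOf y := by
      congr 1
      exact Subtype.ext h3
    rw [h4] at h5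
    rw [← h5]

end Groth.Agent.S8869
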