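import Groth.Statements.S8865
import Mathlib.AlgebraicGeometry.Morphisms.QuasiCompact

set_option autoImplicit false
universe u
open CategoryTheory CategoryTheory.Limits AlgebraicGeometry TopologicalSpace
open SDiv

namespace Groth.Agent.S8865


open Mero in
/-- local vanishing: near every point, a power of `h` kills `f`. -/
theorem local_vanish (X : Scheme.{u}) (h : Γ(X, ⊤))
    (f : Γ(Mero.kmod X, ⊤))
    (hf : ∀ (y : X), y ∈ X.basicOpen h → f.1 ⟨y, trivial⟩ = 0) (x : X) :
    ∃ (W : X.Opens) (n : ℕ), x ∈ W ∧ ∀ (y : X), y ∈ W → ∀ m : ℕ, n ≤ m →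
      (Mero.toK X ⊤ (h ^ m) * f).1 ⟨y, trivial⟩ = 0 := by
  obtain ⟨V, hxV, i, a, b, hab⟩ := f.2 ⟨x, trivial⟩
  obtain ⟨_, ⟨W, hW, rfl⟩, hxW, hWV⟩ :=
    X.isBasis_affineOpens.exists_subset_of_mem_open hxV V.2
  replace hWV : W ≤ V := hWV
  replace hW : IsAffineOpen W := hW
  -- germs of `a` vanish on `V ∩ X_h`
  have hgerm : ∀ (y : X) (hyV : y ∈ V), y ∈ X.basicOpen h → X.presheaf.germ V y hyV a = 0 := by
    intro y hyV hyh
    have h1 := hab ⟨y, hyV⟩
    have h2 : f.1 (i ⟨y, hyV⟩) = 0 := hf y hyh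
    dsimp only at h1
    rw [h2] at h1
    have h3 : (LocalizedModule.mk (X.presheaf.germ V y hyV a) (regGerm ⟨y, hyV⟩ b) : KStalk X y) =
        LocalizedModule.mk 0 1 := by
      rw [← h1, LocalizedModule.zero_mk]
    rw [LocalizedModule.mk_eq] at h3
    obtain ⟨u, hu⟩ := h3
    simp only [smul_zero, one_smul] at hu
    have hu' : (u : X.presheaf.stalk y) * X.presheaf.germ V y hyV a = 0 := hu
    have hnzd := regStalk_le_nonZeroDivisors y u.2
    rw [mul_comm] at hu'
    exact (mem_nonZeroDivisors_iff_right.mp hnzd) _ hu'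
  set a' : Γ(X, W) := X.presheaf.map (homOfLE hWV).op a with ha'
  set h' : Γ(X, W) := X.presheaf.map (homOfLE (le_top : W ≤ ⊤)).op h with hh'
  have hres : a' |_ (X.basicOpen h') = 0 := by
    apply TopCat.Presheaf.section_ext X.sheaf (X.basicOpen h') _ 0
    intro y hy
    rw [map_zero]
    have hy' : y ∈ W ⊓ X.basicOpen h := by
      rw [← Scheme.basicOpen_res]
      exact hy
    have := hgerm y (hWV hy'.1) hy'.2
    rw [ha']
    erw [TopCat.Presheaf.germ_res_apply, TopCat.Presheaf.germ_res_apply]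
    exact this
  obtain ⟨n, hn⟩ := exists_pow_mul_eq_zero_of_res_basicOpen_eq_zero_of_isAffineOpen X hW a' h' hres
  refine ⟨W, n, hxW, fun y hyW m hm => ?_⟩
  have hyV : y ∈ V := hWV hyW
  have h1 := hab ⟨y, hyV⟩
  dsimp only at h1
  have h2 : f.1 ⟨y, trivial⟩ = LocalizedModule.mk (X.presheaf.germ V y hyV a) (regGerm ⟨y, hyV⟩ b) := h1
  have h4 : (Mero.toK X ⊤ (h ^ m) * f).1 ⟨y, trivial⟩ =
      (LocalizedModule.mk (X.presheaf.germ ⊤ y trivial (h ^ m)) 1 : KStalk X y) *
        LocalizedModule.mk (X.presheaf.germ V y hyV a) (regGerm ⟨y, hyV⟩ b) := by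
    rw [kmod_mul_apply, toK_apply, h2]
  rw [h4]
  refine LocalizedModule.mk_mul_mk.trans ?_
  have h3 : X.presheaf.germ ⊤ y trivial (h ^ m) * X.presheaf.germ V y hyV a = 0 := by
    have e1 : X.presheaf.germ ⊤ y trivial (h ^ m) = X.presheaf.germ W y hyW (h' ^ m) := by
      rw [hh', ← map_pow, TopCat.Presheaf.germ_res_apply]
    have e2 : X.presheaf.germ V y hyV a = X.presheaf.germ W y hyW a' := by
      rw [ha', TopCat.Presheaf.germ_res_apply]
    rw [e1, e2, ← map_mul]
    have : h' ^ m * a' = 0 := by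
      obtain ⟨k, rfl⟩ := Nat.exists_eq_add_of_le hm
      rw [pow_add, mul_comm (h' ^ n), mul_assoc, hn, mul_zero]
    rw [this, map_zero]
  rw [h3, LocalizedModule.zero_mk]

/-- Let X be a quasi-compact scheme, h a global section of O_X and f a global section of the sheaf of
meromorphic functions K_X whose restriction to the open X_h where h is invertible vanishes. Then h^n
f = 0 in K_X(X) for some natural number n. -/
theorem result (X : Scheme.{u}) [CompactSpace ↥X] (h : Γ(X, ⊤))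
    (f : Γ(Mero.kmod X, ⊤)) (hf : (Mero.kmod X).presheaf.map (homOfLE (le_top : X.basicOpen h ≤ ⊤)).op f = 0) :
    ∃ n : ℕ, Mero.toK X ⊤ h ^ n * f = 0 := by
  have hf' : ∀ (y : X), y ∈ X.basicOpen h → f.1 ⟨y, trivial⟩ = 0 := by
    intro y hy
    have h1 := congrArg (fun g => g.1 ⟨y, hy⟩) hf
    exact h1
  choose W n hxW hWn using Groth.Agent.S8865.local_vanish X h f hf'
  obtain ⟨t, ht⟩ := CompactSpace.elim_nhds_subcover (fun x => (W x : Set X))
    (fun x => (W x).2.mem_nhds (hxW x))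
  refine ⟨t.sup n, ?_⟩
  rw [← map_pow]
  apply Subtype.ext
  funext y
  have hy : y.1 ∈ ⋃ x ∈ t, (W x : Set X) := by
    rw [ht]
    trivial
  simp only [Set.mem_iUnion] at hy
  obtain ⟨x, hxt, hy⟩ := hy
  exact hWn x y.1 hy _ (Finset.le_sup hxt)

end Groth.Agent.S8865
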