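import Groth.Statements.S8867
import Groth.Agent.Lib.RegMero82

set_option autoImplicit false
universe u
open CategoryTheory CategoryTheory.Limits AlgebraicGeometry TopologicalSpace
open SDiv

namespace Groth.Agent.S8867

open Mero Groth.Agent.Lib.StrictTransform82 Groth.Agent.Lib.AssPoints
  Groth.Agent.Lib.StructureModule Groth.Agent.Lib.RegMero82

/-- every point has a generization without proper generizations -/
theorem exists_generic_specializes (X : Scheme.{u}) (x : X) :
    ∃ η : X, η ⤳ x ∧ ∀ y : X, y ⤳ η → y = η := by
  have hZ := irreducibleComponent_mem_irreducibleComponents x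
  obtain ⟨η, hη⟩ := QuasiSober.sober (isIrreducible_irreducibleComponent (x := x))
    isClosed_irreducibleComponent
  refine ⟨η, ?_, ?_⟩
  · rw [specializes_iff_mem_closure, hη.def]
    exact mem_irreducibleComponent
  · intro y hy
    have h1 : closure {η} ⊆ closure {y} := by
      rw [isClosed_closure.closure_subset_iff, Set.singleton_subset_iff]
      exact specializes_iff_mem_closure.mp hy
    rw [hη.def] at h1
    have h2 : closure {y} ⊆ irreducibleComponent x :=
      hZ.2 isIrreducible_singleton.closure h1
    have h3 : closure {y} = closure {η} := by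
      rw [hη.def]
      exact Set.Subset.antisymm h2 h1
    exact (inseparable_iff_closure_eq.mpr h3).eq

/-- generic points are weakly associated -/
theorem isWeakAssPoint_of_generic (X : Scheme.{u}) (η : X) (hη : ∀ y : X, y ⤳ η → y = η) :
    Curv2.IsWeakAssPoint (Coh.structureModule X) η := by
  obtain ⟨_, ⟨W, hW, rfl⟩, hηW, -⟩ :=
    X.isBasis_affineOpens.exists_subset_of_mem_open (Set.mem_univ η) isOpen_univ
  replace hW : IsAffineOpen W := hW
  haveI := isQuasicoherent_structureModule X
  have hmin := primeIdealOf_mem_minimalPrimes hW ⟨η, hηW⟩ hη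
  apply isWeakAssPoint_of_minimal (Coh.structureModule X) hW ⟨η, hηW⟩
    (isLocAt_of_isQuasicoherent _ hW ⟨η, hηW⟩) (toSec W 1)
  have hann : ann Γ(X, W) (toSec W (1 : Γ(X, W))) = ⊥ := by
    rw [eq_bot_iff]
    intro r hr
    rw [mem_ann] at hr
    have h1 : r * 1 = 0 := hr
    rw [mul_one] at h1
    rw [h1]
    exact Submodule.zero_mem _
  rw [hann]
  exact hmin


/-- Let X be a locally Noetherian scheme with no embedded points, i.e. every associated point of O_X is
maximal among the associated points of O_X under specialization, and L an invertible O_X-module.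
Then some meromorphic section of L is regular. -/
theorem result (X : Scheme.{u}) [IsLocallyNoetherian X]
    (hne : ∀ x : ↥X, Curv2.IsAssPoint (Coh.structureModule X) x →
      ∀ y : ↥X, Curv2.IsAssPoint (Coh.structureModule X) y → y ⤳ x → y = x)
    (L : X.Modules) (hL : PicF.IsInvertible L) : Mero.HasRegularMero L := by
  apply hasRegularMero ?_ ?_ hL
  · intro x hx y hyx
    obtain ⟨η, hηx, hη⟩ := exists_generic_specializes X x
    have hηass := isWeakAssPoint_of_generic X η hη
    have h1 : η = x := hne x ((isAssPoint_iff_isWeakAssPoint _ x).mpr hx) η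
      ((isAssPoint_iff_isWeakAssPoint _ η).mpr hηass) hηx
    subst h1
    exact hη y hyx
  · intro U hU
    haveI : CompactSpace ↥(U : Scheme.{u}) := isCompact_iff_compactSpace.mp hU
    haveI : IsNoetherian (U : Scheme.{u}) := {}
    exact NoetherianSpace.finite_irreducibleComponents

end Groth.Agent.S8867
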