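import Groth.Statements.S8870
import Groth.Agent.Lib.AssPoints
import Groth.Agent.Lib.ModStalk
import Groth.Prelude.Def_Algz2

set_option autoImplicit false
universe u
open CategoryTheory CategoryTheory.Limits AlgebraicGeometry TopologicalSpace
open SDiv

namespace Groth.Agent.S8870

open Groth.Agent.Lib.ModStalk Groth.Agent.Lib.AssPoints

/-- Let X be a scheme and 0 → F₁ → F₂ → F₃ → 0 a short exact sequence of quasi-coherent O_X-modules.
Then WeakAss(F₂) ⊆ WeakAss(F₁) ∪ WeakAss(F₃) and WeakAss(F₁) ⊆ WeakAss(F₂). -/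
theorem result (X : Scheme.{u}) (S : ShortComplex X.Modules) (hS : S.ShortExact)
    (h₁ : Coh.IsQCoh S.X₁) (h₂ : Coh.IsQCoh S.X₂) (h₃ : Coh.IsQCoh S.X₃) :
    (∀ x : ↥X, Curv2.IsWeakAssPoint S.X₂ x → Curv2.IsWeakAssPoint S.X₁ x ∨ Curv2.IsWeakAssPoint S.X₃ x) ∧
      (∀ x : ↥X, Curv2.IsWeakAssPoint S.X₁ x → Curv2.IsWeakAssPoint S.X₂ x) := by
  have hinj : ∀ x : X, Function.Injective (Algz.stalkMapₗ S.f x) := by
    intro x
    exact (shortExact_stalk hS x).ab_injective_f
  have hex : ∀ x : X, Function.Exact (Algz.stalkMapₗ S.f x) (Algz.stalkMapₗ S.g x) := by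
    intro x
    exact (ShortComplex.ab_exact_iff_function_exact _).mp (shortExact_stalk hS x).exact
  constructor
  · intro x hx
    rw [← isAssPoint_iff_isWeakAssPoint] at hx ⊢
    rw [← isAssPoint_iff_isWeakAssPoint]
    have := associatedPrimes.subset_union_of_exact (hinj x) (hex x) hx
    exact this
  · intro x hx
    rw [← isAssPoint_iff_isWeakAssPoint] at hx ⊢
    exact associatedPrimes.subset_of_injective (hinj x) hx

end Groth.Agent.S8870
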