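import Groth.Statements.S8871
import Groth.Agent.Lib.DepthRees
import Groth.Agent.Lib.QCohSupport
import Groth.Agent.Lib.AssPoints
import Mathlib.RingTheory.Ideal.AssociatedPrime.Finiteness
-- import your own Groth.Agent.* helpers here

set_option autoImplicit false
universe u
open CategoryTheory CategoryTheory.Limits AlgebraicGeometry TopologicalSpace

namespace Groth.Agent.S8871

section Algebra

variable {R : Type u} [CommRing R] [IsLocalRing R] [IsNoetherianRing R]
  {M : Type u} [AddCommGroup M] [Module R M] [Module.Finite R M]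

open IsLocalRing

omit [IsNoetherianRing R] [Module.Finite R M] in
/-- A regular element kills no associated prime (radical convention of Mathlib). -/
theorem not_isAssociatedPrime_of_isSMulRegular {r : R} (hr : r ∈ maximalIdeal R)
    (hreg : IsSMulRegular M r) : ¬ IsAssociatedPrime (maximalIdeal R) M := by
  rintro ⟨-, ξ, hξ⟩
  have hr' : r ∈ (Submodule.colon (⊥ : Submodule R M) {ξ}).radical := hξ ▸ hr
  obtain ⟨n, hn⟩ := hr'
  rw [Submodule.mem_colon_singleton, Submodule.mem_bot] at hn
  have hξ0 : ξ = 0 := by
    have := (hreg.pow n)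
    apply this
    show r ^ n • ξ = r ^ n • 0
    rw [hn, smul_zero]
  have htop : Submodule.colon (⊥ : Submodule R M) {ξ} = ⊤ := by
    rw [eq_top_iff]
    intro a _
    rw [Submodule.mem_colon_singleton, hξ0, smul_zero]
    exact Submodule.zero_mem _
  rw [htop, Ideal.radical_top] at hξ
  exact (maximalIdeal.isMaximal R).ne_top hξ

/-- Prime avoidance: if the maximal ideal is not associated, it contains a regular element. -/
theorem exists_isSMulRegular_of_not_isAssociatedPrime
    (h : ¬ IsAssociatedPrime (maximalIdeal R) M) :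
    ∃ r ∈ maximalIdeal R, IsSMulRegular M r := by
  by_contra hcon
  push Not at hcon
  have hsub : ((maximalIdeal R : Ideal R) : Set R) ⊆ ⋃ p ∈ associatedPrimes R M, (id p : Ideal R) := by
    intro r hr
    have : r ∈ {r : R | IsSMulRegular M r}ᶜ := hcon r hr
    rw [← biUnion_associatedPrimes_eq_compl_regular R M] at this
    exact this
  obtain ⟨P, hP, hle⟩ := (Ideal.subset_union_prime_finite (associatedPrimes.finite R M)
    (f := id) (maximalIdeal R) (maximalIdeal R) (fun Q hQ _ _ => hQ.isPrime)).mp hsub
  have hPeq : maximalIdeal R = P :=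
    (maximalIdeal.isMaximal R).eq_of_le hP.isPrime.ne_top hle
  exact h (hPeq ▸ hP)

theorem one_le_depth_iff [Nontrivial M] :
    (1 : ℕ∞) ≤ LocCoh.depth R M ↔ ¬ IsAssociatedPrime (maximalIdeal R) M := by
  have := Groth.Agent.Lib.DepthRees.natCast_le_depth_iff (R := R) M 1
  rw [Nat.cast_one] at this
  rw [this]
  constructor
  · rintro ⟨rs, hlen, hmem, hreg⟩
    obtain ⟨r, rfl⟩ := List.length_eq_one_iff.mp hlen
    rw [RingTheory.Sequence.isWeaklyRegular_cons_iff] at hreg
    exact not_isAssociatedPrime_of_isSMulRegular (hmem r (List.mem_singleton.mpr rfl)) hreg.1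
  · intro h
    obtain ⟨r, hr, hreg⟩ := exists_isSMulRegular_of_not_isAssociatedPrime h
    refine ⟨[r], rfl, ?_, ?_⟩
    · intro r' hr'
      rw [List.mem_singleton] at hr'
      exact hr' ▸ hr
    · rw [RingTheory.Sequence.isWeaklyRegular_cons_iff]
      exact ⟨hreg, RingTheory.Sequence.IsWeaklyRegular.nil R _⟩

/-- Serre's condition `(S_1)` at a Noetherian local ring, in terms of associated primes and
finite length. -/
theorem s1_iff :
    min (1 : WithBot ℕ∞) (Module.supportDim R M) ≤ ((LocCoh.depth R M : ℕ∞) : WithBot ℕ∞) ↔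
      (IsAssociatedPrime (maximalIdeal R) M → IsFiniteLength R M) := by
  rcases subsingleton_or_nontrivial M with hM | hM
  · rw [Module.supportDim_eq_bot_of_subsingleton]
    simp only [min_bot_right, bot_le, true_iff]
    intro _
    exact IsFiniteLength.of_subsingleton
  by_cases hfl : IsFiniteLength R M
  · simp only [hfl, implies_true, iff_true]
    have hsupp := Groth.Agent.Lib.FiniteLengthSupport.isFiniteLength_iff_support_subset_closedPoint.mp hfl
    have hsub : Subsingleton (Module.support R M) :=
      ⟨fun a b => Subtype.ext ((hsupp a.1 a.2).trans (hsupp b.1 b.2).symm)⟩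
    have hdim : Module.supportDim R M ≤ 0 := Order.krullDim_nonpos_of_subsingleton
    exact (min_le_right _ _).trans (hdim.trans (by exact_mod_cast bot_le))
  · have hex : ∃ P ∈ Module.support R M, P ≠ closedPoint R := by
      by_contra hcon
      push Not at hcon
      exact hfl (Groth.Agent.Lib.FiniteLengthSupport.isFiniteLength_iff_support_subset_closedPoint.mpr hcon)
    obtain ⟨P, hP, hPne⟩ := hex
    have hcl : closedPoint R ∈ Module.support R M :=
      Module.mem_support_mono (IsLocalRing.le_maximalIdeal P.2.ne_top) hP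
    have hlt : (⟨P, hP⟩ : Module.support R M) < ⟨closedPoint R, hcl⟩ := by
      refine lt_of_le_of_ne ?_ (fun h => hPne (congrArg Subtype.val h))
      exact IsLocalRing.le_maximalIdeal P.2.ne_top
    have hdim : (1 : WithBot ℕ∞) ≤ Module.supportDim R M := by
      have hpos : 0 < Module.supportDim R M := Order.krullDim_pos_iff.mpr ⟨_, _, hlt⟩
      cases h : Module.supportDim R M with
      | bot => rw [h] at hpos; exact absurd hpos (by simp)
      | coe e =>
        rw [h] at hpos
        have : (0 : ℕ∞) < e := by exact_mod_cast hpos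
        exact_mod_cast Order.one_le_iff_pos.mpr this
    rw [min_eq_left hdim]
    have h1 : (1 : WithBot ℕ∞) ≤ ((LocCoh.depth R M : ℕ∞) : WithBot ℕ∞) ↔
        (1 : ℕ∞) ≤ LocCoh.depth R M := by
      exact_mod_cast Iff.rfl
    rw [h1, one_le_depth_iff]
    constructor
    · intro h1 h2
      exact absurd h2 h1
    · intro h1 h2
      exact hfl (h1 h2)

end Algebra

open Groth.Agent.Lib.AssPoints in
/-- Let X be a locally Noetherian scheme and F a coherent O_X-module. Then F has no embedded associated
points (every associated point of F is maximal among the associated points of F under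
specialization) if and only if F has property (S_1): for every point x, depth F_x ≥ min(1, dim Supp
F_x), where dim Supp F_x is the Krull dimension of the support of the O_{X,x}-module F_x (for F_x =
0 the depth is infinite and the support empty, so the condition holds). -/
theorem result (X : Scheme.{u}) [IsLocallyNoetherian X] (F : X.Modules) (hF : Coh.IsCoh F) :
    (∀ x : ↥X, Curv2.IsAssPoint F x → ∀ y : ↥X, Curv2.IsAssPoint F y → y ⤳ x → y = x) ↔
      ∀ x : ↥X, min (1 : WithBot ℕ∞) (Module.supportDim ↑(X.presheaf.stalk x) ↑(F.presheaf.stalk x)) ≤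
        ((LocCoh.depth (X.presheaf.stalk x) (F.presheaf.stalk x) : ℕ∞) : WithBot ℕ∞) := by
  haveI : F.IsQuasicoherent := hF.1
  have key : ∀ x : X,
      (min (1 : WithBot ℕ∞) (Module.supportDim ↑(X.presheaf.stalk x) ↑(F.presheaf.stalk x)) ≤
        ((LocCoh.depth (X.presheaf.stalk x) (F.presheaf.stalk x) : ℕ∞) : WithBot ℕ∞)) ↔
      (Curv2.IsAssPoint F x → ∀ y : X, Nontrivial (F.presheaf.stalk y) → y ⤳ x → y = x) := by
    intro x
    haveI := Groth.Agent.Lib.CohFinite.finite_stalk_of_isCoh F hF x
    rw [s1_iff, Groth.Agent.Lib.QCohSupport.isFiniteLength_stalk_iff F hF x]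
    rfl
  simp only [key]
  constructor
  · intro h x hx y hy hyx
    obtain ⟨ξ, hξ⟩ := exists_ne (0 : F.presheaf.stalk y)
    obtain ⟨V, hyV, s, rfl⟩ := TopCat.Presheaf.exists_germ_eq F.presheaf ξ
    obtain ⟨y', hy'V, hy'y, hy'ass, -⟩ :=
      exists_isWeakAssPoint_of_germ_ne_zero F s y hyV hξ
    have hy'ass' : Curv2.IsAssPoint F y' := (isAssPoint_iff_isWeakAssPoint F y').mpr hy'ass
    have hy'x := h x hx y' hy'ass' (hy'y.trans hyx)
    subst hy'x
    exact (hyx.antisymm hy'y).eq
  · intro h x hx y hy hyx
    apply h x hx y ?_ hyx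
    obtain ⟨-, ξ, hξ⟩ := hy
    by_contra hnt
    rw [not_nontrivial_iff_subsingleton] at hnt
    have hξ0 : ξ = 0 := Subsingleton.elim _ _
    have htop : Submodule.colon (⊥ : Submodule (X.presheaf.stalk y) (F.presheaf.stalk y)) {ξ} = ⊤ := by
      rw [eq_top_iff]
      intro a _
      rw [Submodule.mem_colon_singleton, hξ0, smul_zero]
      exact Submodule.zero_mem _
    rw [htop, Ideal.radical_top] at hξ
    exact (IsLocalRing.maximalIdeal.isMaximal _).ne_top hξ

end Groth.Agent.S8871
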