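import Groth.Statements.S8874
import Groth.Agent.Lib.Fitting82P

set_option autoImplicit false
universe u
open CategoryTheory CategoryTheory.Limits AlgebraicGeometry TopologicalSpace
open SDiv

namespace Groth.Agent.S8874

open Groth.Agent.Lib.ModStalk Groth.Agent.Lib.ModStalkLin Groth.Agent.Lib.FreeModSch
  Groth.Agent.Lib.FreeModStalk Groth.Agent.Lib.LocFreeRank Groth.Agent.Lib.RestrictStalk
  Groth.Agent.Lib.ModStalkIso Groth.Agent.Lib.QCohStalk


/-- Let S be a scheme, F a quasi-coherent O_S-module of finite type, s a point of S and r a natural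
number. Then F can be generated by r sections over some open neighbourhood of s if and only if the
r-th Fitting ideal of F is the unit ideal at s, i.e. s does not lie in the closed subset cut out by
Fit_r(F). -/
theorem result (S : Scheme.{u}) (F : S.Modules) (hF : Coh.IsQCoh F) (hft : CohB1.IsFT F)
    (s : ↥S) (r : ℕ) :
    (∃ U : S.Opens, s ∈ U ∧ ∃ π : FlatMod.freeMod (↑U) r ⟶ F.restrict U.ι, Epi π) ↔
      s ∉ (Fitt.sheafIdeal F r).support := by
  haveI : F.IsQuasicoherent := hF
  haveI : F.IsFiniteType := hft
  rw [Groth.Agent.Lib.Fitting82.notMem_support_sheafIdeal_iff_exists_span]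
  constructor
  · rintro ⟨U, hsU, π, hπ⟩
    let y : U.toScheme := ⟨s, hsU⟩
    have hsurj : Function.Surjective (stalkLin π y) := stalkLin_surjective_of_epi π y
    have hspan : Submodule.span (U.toScheme.presheaf.stalk y)
        (Set.range fun i => stalkLin π y (stalkBasis (n := r) y i)) = ⊤ := by
      have h1 : (Set.range fun i => stalkLin π y (stalkBasis (n := r) y i)) =
          (stalkLin π y) '' Set.range (stalkBasis (n := r) y) := by
        rw [← Set.range_comp]
        rfl
      rw [h1, Submodule.span_image, (stalkBasis (n := r) y).span_eq, Submodule.map_top,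
        LinearMap.range_eq_top]
      exact hsurj
    have h2 := (span_restrict_eq_top_iff U.ι F y _).mp hspan
    exact ⟨_, h2⟩
  · rintro ⟨g, hg⟩
    choose W hxW t ht using fun i => TopCat.Presheaf.exists_germ_eq F.presheaf (g i)
    let W0 : S.Opens := ⨅ i, W i
    have hsW0 : s ∈ W0 := by
      rw [← SetLike.mem_coe, Opens.coe_iInf]
      exact Set.mem_iInter.mpr hxW
    let t' : Fin r → Γ(F, W0) := fun i => res F (iInf_le W i) (t i)
    have hgerm : ∀ i, F.presheaf.germ W0 s hsW0 (t' i) = g i := by
      intro i
      rw [germ_res, ht]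
    have hspan : Submodule.span (S.presheaf.stalk s)
        (Set.range fun i => F.presheaf.germ W0 s hsW0 (t' i)) = ⊤ := by
      have : (fun i => F.presheaf.germ W0 s hsW0 (t' i)) = g := funext hgerm
      rw [this, hg]
    obtain ⟨V, hVW, hsV, hV⟩ := exists_open_forall_span_eq_top F t' s hsW0 hspan
    refine ⟨V, hsV, ofSections (F.restrict V.ι) (sectionsOn F t' hVW), ?_⟩
    apply epi_of_stalk_surjective
    intro y
    change Function.Surjective (stalkLin _ y)
    rw [surjective_stalkLin_ofSections_iff]
    exact (span_sectionsOn_eq_top_iff F t' hVW y).mpr (hV y)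

end Groth.Agent.S8874
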