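import Groth.Statements.S8878
import Groth.Agent.Lib.NormPreludeH3
import Groth.Agent.Lib.FinLocFreeMorRank

set_option autoImplicit false
universe u
open CategoryTheory CategoryTheory.Limits AlgebraicGeometry TopologicalSpace
open SDiv

namespace Groth.Agent.S8878

/-- If π : X ⟶ Y is finite locally free and of rank d ≥ 1 at every point of Y, then π carries a norm of
degree d. The published statement also says the norm is canonical and compatible with every base
change; this row asserts only that a norm of degree d exists. -/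
theorem result {X Y : Scheme.{u}} (π : X ⟶ Y) (d : ℕ) (hd : 1 ≤ d) (hπ : Mor2.IsFinLocFreeOfDeg d π) :
    Nrm.HasNorm π d := by
  obtain ⟨hA, hrank⟩ := (Groth.Agent.Lib.FinLocFreeMorRank.isCover_iff π d).1 hπ
  have hE : FlatMod.IsFinLocFree (Groth.Agent.Lib.NormChartH3.E π) := by
    intro y
    obtain ⟨U, hyU, he⟩ := hrank y
    exact ⟨U, d, hyU, he⟩
  have happ : ∀ (U : Y.Opens) (t : Γ(Y, U)),
      (Groth.Agent.Lib.NormGlueH3.glueNorm hE).norm U (π.app U t) = t ^ d := by
    intro U t
    refine Groth.Agent.Lib.NormGlueH3.rfD_ext hE (fun W hW hWc => ?_)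
    rw [(Groth.Agent.Lib.NormGlueH3.glueNorm hE).norm_res hW, Groth.Agent.Lib.NormChartH3.rfU_app,
      map_pow]
    obtain ⟨V, n, e, hWV, he⟩ := hWc
    rw [Groth.Agent.Lib.NormGlueH3.glueNorm_app_of_basis hE he hWV]
    by_cases hbot : W = ⊥
    · haveI : Subsingleton Γ(Y, W) := by
        rw [hbot]
        exact CommRingCat.subsingleton_of_isTerminal Y.sheaf.isTerminalOfEmpty
      exact Subsingleton.elim _ _
    · obtain ⟨y, hy⟩ : ∃ y, y ∈ W := by
        by_contra hcon
        apply hbot
        ext y
        simp only [TopologicalSpace.Opens.coe_bot, Set.mem_empty_iff_false, iff_false]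
        exact fun hy => hcon ⟨y, hy⟩
      obtain ⟨V', e', hyV', he'⟩ := Groth.Agent.Lib.NormBasisH3.exists_isBasisOn_of_rank hrank y
      have hn : n = d := Groth.Agent.Lib.NormChartH3.card_eq_of_isBasisOn he he' ⟨hWV hy, hyV'⟩
      rw [hn]
  exact ⟨Groth.Agent.Lib.NormPreludeH3.toNormOfDegree _ d hd happ⟩

end Groth.Agent.S8878
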