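import Groth.Statements.S8880
import Groth.Agent.Lib.NormPreludeH3
import Groth.Agent.Lib.NormAmpleH3

set_option autoImplicit false
universe u
open CategoryTheory CategoryTheory.Limits AlgebraicGeometry TopologicalSpace
open SDiv

namespace Groth.Agent.S8880

/-- Let π : X ⟶ Y be a finite morphism of schemes such that a norm of degree d exists for π, and assume
X is quasi-affine. Then Y is quasi-affine. -/
theorem result {X Y : Scheme.{u}} (π : X ⟶ Y) [IsFinite π] (d : ℕ) (hN : Nrm.HasNorm π d)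
    (hX : X.IsQuasiAffine) : Y.IsQuasiAffine := by
  obtain ⟨N₀⟩ := hN
  haveI : Surjective π := ⟨Groth.Agent.Lib.NormPreludeH3.surjective_of_normOfDegree N₀ π.isClosedMap⟩
  haveI : CompactSpace X := hX.toCompactSpace
  have hL' : CohB1.IsAmple (Coh.structureModule X) :=
    Groth.Agent.Lib.H78AmpleUnit.isAmple_unit_iff.2 hX
  let V : Y.affineOpens → Y.Opens := fun i => i.1
  have hV : ⨆ i, V i = ⊤ := by
    refine top_le_iff.1 (fun y _ => ?_)
    obtain ⟨W, hW, hyW, -⟩ := TopologicalSpace.Opens.isBasis_iff_nbhd.1 Y.isBasis_affineOpens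
      (show y ∈ (⊤ : Y.Opens) from trivial)
    exact TopologicalSpace.Opens.mem_iSup.2 ⟨⟨W, hW⟩, hyW⟩
  let A : Groth.Agent.Lib.H78Atlas.Atlas (Coh.structureModule Y) V :=
    ⟨fun i => Groth.Agent.Lib.StructureModule.toSec (V i) 1,
      fun i => Groth.Agent.Lib.H90Invertible.isGen_one (V i)⟩
  let A' : Groth.Agent.Lib.H78Atlas.Atlas (Coh.structureModule X) (fun i => π ⁻¹ᵁ V i) :=
    ⟨fun i => Groth.Agent.Lib.StructureModule.toSec (π ⁻¹ᵁ V i) 1,
      fun i => Groth.Agent.Lib.H90Invertible.isGen_one (π ⁻¹ᵁ V i)⟩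
  have hA : ∀ i j, A.trans i j = 1 := by
    intro i j
    symm
    refine Groth.Agent.Lib.H78Atlas.Atlas.trans_unique A i j ?_
    rw [one_smul]
    change Groth.Agent.Lib.H78TensorGen.rs _ _ (Groth.Agent.Lib.StructureModule.toSec (V i) 1) =
      Groth.Agent.Lib.H78TensorGen.rs _ _ (Groth.Agent.Lib.StructureModule.toSec (V j) 1)
    rw [Groth.Agent.Lib.H78SecCoord.toSec_rs, Groth.Agent.Lib.H78SecCoord.toSec_rs, map_one, map_one]
  have hA' : ∀ i j, A'.trans i j = 1 := by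
    intro i j
    symm
    refine Groth.Agent.Lib.H78Atlas.Atlas.trans_unique A' i j ?_
    rw [one_smul]
    change Groth.Agent.Lib.H78TensorGen.rs _ _ (Groth.Agent.Lib.StructureModule.toSec (π ⁻¹ᵁ V i) 1) =
      Groth.Agent.Lib.H78TensorGen.rs _ _ (Groth.Agent.Lib.StructureModule.toSec (π ⁻¹ᵁ V j) 1)
    rw [Groth.Agent.Lib.H78SecCoord.toSec_rs, Groth.Agent.Lib.H78SecCoord.toSec_rs, map_one, map_one]
  have hamp := Groth.Agent.Lib.NormAmpleH3.isAmple_of_norm π
    (Groth.Agent.Lib.NormPreludeH3.ofNormOfDegree N₀) hL'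
    (Groth.Agent.Lib.H90Invertible.isInvertible_structureModule Y) V (fun i => i.2) hV A' A
    (fun _ => 1) (fun _ => le_rfl) (fun _ _ => Or.inl rfl) (by
      intro i j
      rw [hA, hA']
      change (1 : Γ(Y, V i ⊓ V j)) = ((Groth.Agent.Lib.NormPreludeH3.ofNormOfDegree N₀).norm (V i ⊓ V j)
        (1 : Γ(X, π ⁻¹ᵁ (V i ⊓ V j)))) ^ 1
      rw [map_one, one_pow])
  haveI : CompactSpace Y := hamp.2.1
  exact Groth.Agent.Lib.H78AmpleUnit.isAmple_unit_iff.1 hamp

end Groth.Agent.S8880
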