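import Groth.Statements.S8886
import Mathlib.AlgebraicGeometry.Morphisms.SchemeTheoreticallyDominant
import Mathlib.AlgebraicGeometry.Fiber

set_option autoImplicit false
universe u
open CategoryTheory CategoryTheory.Limits AlgebraicGeometry TopologicalSpace
open SDiv

namespace Groth.Agent.S8886

/-- Let f : X ⟶ Y be a flat morphism of schemes with Y integral. If the scheme-theoretic fibre of f over
the generic point of Y is integral, then X is integral. -/
theorem result {X Y : Scheme.{u}} (f : X ⟶ Y) [Flat f] [IsIntegral Y]
    (h : IsIntegral (f.fiber (genericPoint ↥Y))) : IsIntegral X := by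
  have : IsIntegral (f.fiber (genericPoint ↥Y)) := h
  -- the inclusion of the generic point is quasi-compact and dominant
  have hqc : QuasiCompact (Y.fromSpecResidueField (genericPoint ↥Y)) := by
    refine ⟨fun U _ _ => ?_⟩
    exact (Set.toFinite _).isCompact
  have hdom : IsDominant (Y.fromSpecResidueField (genericPoint ↥Y)) := by
    refine ⟨?_⟩
    rw [DenseRange, Scheme.range_fromSpecResidueField]
    exact dense_iff_closure_eq.mpr (genericPoint_spec ↥Y)
  have : IsSchemeTheoreticallyDominant (Y.fromSpecResidueField (genericPoint ↥Y)) :=
    IsSchemeTheoreticallyDominant.of_isDominant _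
  have : IsSchemeTheoreticallyDominant (f.fiberι (genericPoint ↥Y)) :=
    IsSchemeTheoreticallyDominant.pullbackFst f (Y.fromSpecResidueField (genericPoint ↥Y))
  have : QuasiCompact (f.fiberι (genericPoint ↥Y)) := by
    exact inferInstanceAs (QuasiCompact (pullback.fst f (Y.fromSpecResidueField (genericPoint ↥Y))))
  have : IsReduced X := IsSchemeTheoreticallyDominant.isReduced (f.fiberι (genericPoint ↥Y))
  have hdense : DenseRange (f.fiberι (genericPoint ↥Y)) :=
    (inferInstance : IsDominant (f.fiberι (genericPoint ↥Y))).denseRange
  have : IrreducibleSpace ↥X := by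
    have h1 : IsIrreducible (Set.range (f.fiberι (genericPoint ↥Y))) := by
      rw [← Set.image_univ]
      exact (IrreducibleSpace.isIrreducible_univ _).image _
        (f.fiberι (genericPoint ↥Y)).continuous.continuousOn
    have h2 := h1.closure
    rw [hdense.closure_range] at h2
    exact (irreducibleSpace_def ↥X).mpr h2
  exact isIntegral_of_irreducibleSpace_of_isReduced X

end Groth.Agent.S8886
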