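import Groth.Statements.S8889
import Groth.Agent.Lib.ModStalkIso
import Groth.Agent.Lib.AssPoints
-- import your own Groth.Agent.* helpers here

set_option autoImplicit false
universe u
open CategoryTheory CategoryTheory.Limits AlgebraicGeometry TopologicalSpace
open SDiv

namespace Groth.Agent.S8889

open Groth.Agent.Lib.ModStalk Groth.Agent.Lib.ModStalkLin Groth.Agent.Lib.ModStalkIso Opposite

/-- Let X be a scheme and φ : F ⟶ G a morphism of quasi-coherent O_X-modules. Assume that for every
point x of X either the stalk map F_x → G_x is injective or x is not a weakly associated point of F.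
Then φ is injective. -/
theorem result (X : Scheme.{u}) {F G : X.Modules} (φ : F ⟶ G) (hF : Coh.IsQCoh F)
    (hG : Coh.IsQCoh G)
    (h : ∀ x : ↥X, Function.Injective ((TopCat.Presheaf.stalkFunctor AddCommGrpCat.{u} x).map (Scheme.Modules.Hom.mapPresheaf φ)) ∨ ¬ Curv2.IsWeakAssPoint F x) :
    Mono φ := by
  haveI : F.IsQuasicoherent := hF
  apply mono_of_stalk_injective
  intro x
  change Function.Injective (stalkFun φ x)
  rw [injective_iff_map_eq_zero]
  intro ξ hξ
  by_contra hne
  obtain ⟨U, hxU, s, rfl⟩ := TopCat.Presheaf.exists_germ_eq F.presheaf ξ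
  rw [stalkFun_germ] at hξ
  -- the section `φ s` vanishes on a neighbourhood `W` of `x`
  obtain ⟨W, hxW, iU, iV, hW⟩ := TopCat.Presheaf.germ_eq G.presheaf x hxU hxU (φ.app U s) 0
    (by rw [hξ, map_zero])
  rw [map_zero] at hW
  set s' : Γ(F, W) := F.presheaf.map iU.op s with hs'
  have hφs' : φ.app W s' = 0 := by
    have := congr($(φ.mapPresheaf.naturality iU.op) s)
    simp only [Scheme.Modules.mapPresheaf_app] at this
    exact this.trans hW
  have hs'x : F.presheaf.germ W x hxW s' ≠ 0 := by
    rw [hs', TopCat.Presheaf.germ_res_apply]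
    exact hne
  obtain ⟨y, hyW, -, hyass, hys'⟩ :=
    Groth.Agent.Lib.AssPoints.exists_isWeakAssPoint_of_germ_ne_zero F s' x hxW hs'x
  rcases h y with hinj | hnot
  · apply hys'
    apply hinj
    change stalkFun φ y _ = stalkFun φ y 0
    rw [stalkFun_germ, hφs', map_zero, map_zero]
  · exact hnot hyass

end Groth.Agent.S8889
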