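import Groth.Statements.S8890
import Groth.Agent.Lib.SocleLift
import Groth.Agent.Lib.Hartogs
import Groth.Agent.Lib.ModStalkIso
import Groth.Agent.Lib.ModStalkCoker
import Groth.Agent.Lib.H90OXModExact
import Groth.Agent.Lib.CohFinite
-- import your own Groth.Agent.* helpers here

set_option autoImplicit false
universe u
open CategoryTheory CategoryTheory.Limits AlgebraicGeometry TopologicalSpace
open SDiv

namespace Groth.Agent.S8890

open Groth.Agent.Lib Groth.Agent.Lib.ModStalkLin Groth.Agent.Lib.ModStalkCoker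
  Groth.Agent.Lib.QCohStalk Groth.Agent.Lib.AssPoints

variable {X : Scheme.{u}} [IsLocallyNoetherian X]

/-- The local step: if `φ` is bijective on stalks at all proper generizations of `x`,
`depth F_x ≥ 2` and `x` is not associated to `G`, then `φ_x` is bijective. -/
theorem stalk_bijective_of_generizations {F G : X.Modules} (φ : F ⟶ G) (hF : Coh.IsCoh F)
    (hG : Coh.IsQCoh G) (x : X)
    (hgen : ∀ y : X, y ⤳ x → y ≠ x → Function.Bijective (stalkLin φ y))
    (hdepth : (2 : ℕ∞) ≤ LocCoh.depth (X.presheaf.stalk x) (F.presheaf.stalk x))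
    (hass : ¬ Curv2.IsAssPoint G x) : Function.Bijective (stalkLin φ x) := by
  haveI : F.IsQuasicoherent := hF.1
  haveI : G.IsQuasicoherent := hG
  haveI : (cokernel φ).IsQuasicoherent := H90OXModExact.isQuasicoherent_cokernel φ
  haveI := CohFinite.finite_stalk_of_isCoh F hF x
  -- injectivity
  have hinj : Function.Injective (stalkLin φ x) := by
    rw [injective_iff_map_eq_zero]
    intro a ha
    by_contra hne
    obtain ⟨V, hxV, s, rfl⟩ := TopCat.Presheaf.exists_germ_eq F.presheaf a
    rw [stalkLin_germ] at ha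
    have h0 : G.presheaf.germ V x hxV (φ.app V s) = G.presheaf.germ V x hxV 0 := by
      rw [ha, map_zero]
    obtain ⟨W, hxW, iU, iV, hW⟩ := TopCat.Presheaf.germ_eq G.presheaf x hxV hxV _ _ h0
    have hWV : W ≤ V := iU.le
    have hres : res G hWV (φ.app V s) = 0 := by
      have : res G hWV (φ.app V s) = G.presheaf.map iV.op 0 := hW
      rw [this, map_zero]
    have ht : F.presheaf.germ W x hxW (res F hWV s) ≠ 0 := by
      rw [germ_res]
      exact hne
    obtain ⟨y, hyW, hyx, hyass, hys⟩ :=
      exists_isWeakAssPoint_of_germ_ne_zero F (res F hWV s) x hxW ht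
    by_cases hyx' : y = x
    · subst hyx'
      exact Hartogs.not_isAssPoint_of_one_le_depth F hF y
        (le_trans (by norm_num) hdepth) ((isAssPoint_iff_isWeakAssPoint F y).mpr hyass)
    · apply hys
      apply (hgen y hyx hyx').1
      rw [map_zero, germ_res, stalkLin_germ, ← germ_res G hWV y hyW, hres, map_zero]
  refine ⟨hinj, ?_⟩
  -- surjectivity
  by_contra hsurj
  obtain ⟨g₀, hg₀⟩ : ∃ g₀ : G.presheaf.stalk x, g₀ ∉ LinearMap.range (stalkLin φ x) := by
    by_contra hall
    push Not at hall
    exact hsurj fun g => hall g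
  have hex := stalkLin_cokernel_exact φ x
  have hπsurj := stalkLin_cokernel_surjective φ x
  have hc₀ : stalkLin (cokernel.π φ) x g₀ ≠ 0 := fun h0 => hg₀ ((hex g₀).mp h0)
  obtain ⟨V, hxV, σ, hσ⟩ :=
    TopCat.Presheaf.exists_germ_eq (cokernel φ).presheaf (stalkLin (cokernel.π φ) x g₀)
  rw [← hσ] at hc₀
  obtain ⟨y, hyV, hyx, hyass, hys⟩ :=
    exists_isWeakAssPoint_of_germ_ne_zero (cokernel φ) σ x hxV hc₀
  have hyx' : y = x := by
    by_contra hyne
    apply hys
    obtain ⟨g, hg⟩ := stalkLin_cokernel_surjective φ y ((cokernel φ).presheaf.germ V y hyV σ)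
    obtain ⟨f, hf⟩ := (hgen y hyx hyne).2 g
    rw [← hg, ← hf]
    exact stalkLin_comp_eq_zero φ (cokernel.π φ) (cokernel.condition φ) y f
  subst hyx'
  -- `y` is an associated point of the cokernel: a socle element
  have hassC : Curv2.IsAssPoint (cokernel φ) y :=
    (isAssPoint_iff_isWeakAssPoint (cokernel φ) y).mpr hyass
  obtain ⟨-, c, hc⟩ := (isAssociatedPrime_iff).mp hassC
  have hc0 : c ≠ 0 := by
    intro h0
    have : (1 : X.presheaf.stalk y) ∈ IsLocalRing.maximalIdeal (X.presheaf.stalk y) := by
      rw [hc, Submodule.mem_colon_singleton, h0, smul_zero]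
      exact Submodule.zero_mem _
    exact (Ideal.ne_top_iff_one _).mp (IsLocalRing.maximalIdeal.isMaximal _).ne_top this
  have hmc : ∀ r ∈ IsLocalRing.maximalIdeal (X.presheaf.stalk y), r • c = 0 := by
    intro r hr
    rw [hc, Submodule.mem_colon_singleton, Submodule.mem_bot] at hr
    exact hr
  obtain ⟨g, hg⟩ := hπsurj c
  have hg_range : g ∉ LinearMap.range (stalkLin φ y) := by
    rintro ⟨f, rfl⟩
    apply hc0
    rw [← hg]
    exact stalkLin_comp_eq_zero φ (cokernel.π φ) (cokernel.condition φ) y f
  have hmg : ∀ r ∈ IsLocalRing.maximalIdeal (X.presheaf.stalk y),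
      r • g ∈ LinearMap.range (stalkLin φ y) := by
    intro r hr
    apply (hex (r • g)).mp
    rw [map_smul, hg, hmc r hr]
  obtain ⟨a, ham, b, hbm, ha, hb⟩ := SocleLift.exists_regular_pair_of_depth
    (F.presheaf.stalk y) hdepth
  obtain ⟨g', hg'0, hg'⟩ := SocleLift.exists_socle_of_regular_pair (stalkLin φ y) hinj a b ham hbm
    ha hb g hg_range hmg
  -- `g'` exhibits `y` as an associated point of `G`
  apply hass
  refine ⟨inferInstance, g', ?_⟩
  have hcolon : Submodule.colon (⊥ : Submodule (X.presheaf.stalk y) (G.presheaf.stalk y)) {g'} =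
      IsLocalRing.maximalIdeal (X.presheaf.stalk y) := by
    apply le_antisymm
    · intro r hr
      rw [Submodule.mem_colon_singleton, Submodule.mem_bot] at hr
      rw [IsLocalRing.mem_maximalIdeal, mem_nonunits_iff]
      intro hu
      exact hg'0 (hu.smul_eq_zero.mp hr)
    · intro r hr
      rw [Submodule.mem_colon_singleton, Submodule.mem_bot]
      exact hg' r hr
  rw [hcolon, (IsLocalRing.maximalIdeal.isMaximal _).isPrime.radical]

/-- Let X be a locally Noetherian scheme and φ : F ⟶ G a morphism of quasi-coherent O_X-modules with F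
coherent. Assume that for every point x of X either the stalk map F_x → G_x is an isomorphism, or
depth(F_x) ≥ 2 and x is not an associated point of G. Then φ is an isomorphism. -/
theorem result (X : Scheme.{u}) [IsLocallyNoetherian X] {F G : X.Modules} (φ : F ⟶ G)
    (hF : Coh.IsCoh F) (hG : Coh.IsQCoh G)
    (h : ∀ x : ↥X, Function.Bijective ((TopCat.Presheaf.stalkFunctor AddCommGrpCat.{u} x).map (Scheme.Modules.Hom.mapPresheaf φ)) ∨
      ((2 : ℕ∞) ≤ LocCoh.depth (X.presheaf.stalk x) (F.presheaf.stalk x) ∧ ¬ Curv2.IsAssPoint G x)) :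
    IsIso φ := by
  apply ModStalkIso.isIso_of_stalk_bijective
  by_contra hcon
  push Not at hcon
  let S : Set X := {x | ¬ Function.Bijective (stalkLin φ x)}
  have hS : S.Nonempty := by
    obtain ⟨x, hx⟩ := hcon
    exact ⟨x, hx⟩
  obtain ⟨x, hxS, hmin⟩ :=
    (InvImage.wf (Order.coheight : X → ℕ∞) wellFounded_lt).has_min S hS
  have hfin : Order.coheight x < ⊤ := by
    have h1 : ringKrullDim (X.presheaf.stalk x) < ⊤ := ringKrullDim_lt_top
    rw [ringKrullDim_stalk_eq_coheight] at h1
    by_contra htop
    rw [not_lt, top_le_iff] at htop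
    rw [htop] at h1
    exact lt_irrefl _ h1
  have hgen : ∀ y : X, y ⤳ x → y ≠ x → Function.Bijective (stalkLin φ y) := by
    intro y hyx hne
    by_contra hy
    apply hmin y hy
    have hlt : x < y := by
      refine lt_of_le_not_ge (show x ≤ y from hyx) ?_
      intro hle
      exact hne (Specializes.antisymm hyx hle).eq
    have h1 := Order.coheight_add_one_le hlt
    change Order.coheight y < Order.coheight x
    refine lt_of_lt_of_le ?_ h1
    have hyfin : Order.coheight y < ⊤ :=
      lt_of_le_of_lt (Order.coheight_anti hlt.le) hfin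
    exact ENat.lt_add_one_iff (ne_of_lt hyfin) |>.mpr le_rfl
  rcases h x with hb | ⟨hd, ha⟩
  · exact hxS hb
  · exact hxS (stalk_bijective_of_generizations φ hF hG x hgen hd ha)

end Groth.Agent.S8890
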