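import Groth.Statements.S8891
import Groth.Agent.S8890
import Mathlib.RingTheory.KrullDimension.Field
-- import your own Groth.Agent.* helpers here

set_option autoImplicit false
universe u
open CategoryTheory CategoryTheory.Limits AlgebraicGeometry TopologicalSpace
open SDiv

namespace Groth.Agent.S8891

/-- Let X be an integral locally Noetherian scheme and φ : F ⟶ G a morphism of quasi-coherent
O_X-modules with F coherent and G torsion free. Assume that for every point x either the stalk map
F_x → G_x is an isomorphism, or depth(F_x) ≥ 2 and x is not the generic point of X. Then φ is an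
isomorphism. (The published statement allows the second alternative at the generic point as well;
since the zero module has infinite depth, F = 0 and G = O_X then satisfy every hypothesis while 0 →
O_X is not an isomorphism. The general criterion this is a special case of requires x not to be
associated to G, which for torsion-free G ≠ 0 fails exactly at the generic point; so the generic
point is excluded from the second alternative here.) -/
theorem result (X : Scheme.{u}) [IsIntegral X] [IsLocallyNoetherian X] {F G : X.Modules}
    (φ : F ⟶ G) (hF : Coh.IsCoh F) (hG : Coh.IsQCoh G)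
    (htf : ∀ x : ↥X, NoZeroSMulDivisors ↑(X.presheaf.stalk x) ↑(G.presheaf.stalk x))
    (h : ∀ x : ↥X, Function.Bijective ((TopCat.Presheaf.stalkFunctor AddCommGrpCat.{u} x).map (Scheme.Modules.Hom.mapPresheaf φ)) ∨
      ((2 : ℕ∞) ≤ LocCoh.depth (X.presheaf.stalk x) (F.presheaf.stalk x) ∧ x ≠ genericPoint ↥X)) :
    IsIso φ := by
  refine Groth.Agent.S8890.result X φ hF hG fun x => ?_
  rcases h x with hb | ⟨hd, hne⟩
  · exact Or.inl hb
  · refine Or.inr ⟨hd, ?_⟩
    rintro ⟨-, g, hg⟩
    apply hne
    haveI := htf x
    -- the annihilator of `g` is zero
    have hg0 : g ≠ 0 := by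
      intro h0
      have : (1 : X.presheaf.stalk x) ∈ IsLocalRing.maximalIdeal (X.presheaf.stalk x) := by
        rw [hg]
        apply Ideal.le_radical
        rw [Submodule.mem_colon_singleton, h0, smul_zero]
        exact Submodule.zero_mem _
      exact (Ideal.ne_top_iff_one _).mp (IsLocalRing.maximalIdeal.isMaximal _).ne_top this
    have hbot : IsLocalRing.maximalIdeal (X.presheaf.stalk x) = ⊥ := by
      rw [eq_bot_iff]
      intro r hr
      rw [hg] at hr
      obtain ⟨n, hn⟩ := hr
      rw [Submodule.mem_colon_singleton, Submodule.mem_bot] at hn
      rcases smul_eq_zero.mp hn with h1 | h1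
      · rw [Submodule.mem_bot]
        exact eq_zero_of_pow_eq_zero h1
      · exact absurd h1 hg0
    have hfield : IsField (X.presheaf.stalk x) := IsLocalRing.isField_iff_maximalIdeal_eq.mpr hbot
    have hdim : ringKrullDim (X.presheaf.stalk x) = 0 := ringKrullDim_eq_zero_of_isField hfield
    rw [ringKrullDim_stalk_eq_coheight] at hdim
    have hco : Order.coheight x = 0 := by exact_mod_cast hdim
    have hmax : IsMax x := Order.coheight_eq_zero.mp hco
    have h1 : genericPoint X ⤳ x := genericPoint_specializes x
    have h2 : x ⤳ genericPoint X := hmax (show x ≤ genericPoint X from h1)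
    exact (Specializes.antisymm h2 h1).eq

end Groth.Agent.S8891
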