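import Groth.Statements.S8896
import Mathlib
import Groth.Agent.S2890
import Groth.Agent.S5802
import Groth.Agent.Lib.QuasiRegLoc

set_option autoImplicit false
set_option linter.style.haveILetI false
universe u
open CategoryTheory CategoryTheory.Limits AlgebraicGeometry TopologicalSpace
open SDiv

namespace Groth.Agent.S8896

section helpers

open RingTheory.Sequence

/-- a quasi-regular closed immersion into a locally Noetherian scheme is a regular closed
immersion -/
theorem isRegularClosedImmersion_of_quasi {X' Z' : Scheme.{u}} [IsLocallyNoetherian X']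
    (i' : Z' ⟶ X') [IsClosedImmersion i']
    (h : RegImm.IsRegularImmersion RegImm.Kind.quasi i') : Mor2.IsRegularClosedImmersion i' := by
  refine ⟨inferInstance, fun z => ?_⟩
  obtain ⟨W, hzW, hcl, rs, hrs, hker⟩ := h.2 z
  have hq : CAlgX.IsQuasiRegular rs.get := hrs
  haveI : IsNoetherianRing Γ(X', W.1) := IsLocallyNoetherian.component_noetherian W
  obtain ⟨g₀, hg₀, Hg₀⟩ :=
    Groth.Agent.Lib.QuasiRegLoc.exists_isWeaklyRegular_map_of_isQuasiRegular rs hq
  have hW₁ : IsAffineOpen (X'.basicOpen g₀) := W.2.basicOpen g₀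
  haveI : IsLocalization.Away g₀ Γ(X', X'.basicOpen g₀) := W.2.isLocalization_basicOpen g₀
  have hz₁ : i' z ∈ X'.basicOpen g₀ := by
    have h1 : (i'.app W.1).hom g₀ = 1 := by
      have : g₀ - 1 ∈ RingHom.ker (i'.app W.1).hom := hker ▸ hg₀
      rw [RingHom.mem_ker, map_sub, map_one, sub_eq_zero] at this
      exact this
    have h2 : z ∈ i' ⁻¹ᵁ (X'.basicOpen g₀) := by
      rw [Scheme.preimage_basicOpen]
      have : (i'.app W.1) g₀ = 1 := h1
      rw [this, Scheme.basicOpen_one]
      exact hzW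
    exact h2
  have hkey : i'.ker.ideal ⟨X'.basicOpen g₀, hW₁⟩ =
      Ideal.ofList (rs.map (algebraMap Γ(X', W.1) Γ(X', X'.basicOpen g₀))) := by
    rw [← i'.ker.map_ideal (U := ⟨X'.basicOpen g₀, hW₁⟩) (V := W) (X'.basicOpen_le g₀),
      Scheme.Hom.ker_apply, hker, Ideal.map_ofList]
    rfl
  refine ⟨X'.basicOpen g₀, hW₁, hz₁, rs.map (algebraMap Γ(X', W.1) Γ(X', X'.basicOpen g₀)),
    ⟨Hg₀ Γ(X', X'.basicOpen g₀), ?_⟩, hkey⟩
  intro htop
  have hideal : i'.ker.ideal ⟨X'.basicOpen g₀, hW₁⟩ = ⊤ := by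
    rw [hkey]
    have := htop.symm
    rwa [smul_eq_mul, Ideal.mul_top] at this
  have hmem' : i' z ∈ i'.ker.support := i'.range_subset_ker_support ⟨z, rfl⟩
  rw [Scheme.IdealSheafData.mem_support_iff_of_mem (U := ⟨X'.basicOpen g₀, hW₁⟩) hz₁, hideal]
    at hmem'
  simp at hmem'
  exact hmem' hz₁

/-- regular closed immersions are insensitive to isomorphisms of the source -/
theorem isRegularClosedImmersion_iso_comp {Z'' Z' X' : Scheme.{u}} (e : Z'' ⟶ Z') [IsIso e]
    (i' : Z' ⟶ X') (h : Mor2.IsRegularClosedImmersion i') :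
    Mor2.IsRegularClosedImmersion (e ≫ i') := by
  haveI := h.1
  refine ⟨inferInstance, fun z => ?_⟩
  obtain ⟨U, hU, hzU, rs, hrs, hker⟩ := h.2 (e z)
  exact ⟨U, hU, hzU, rs, hrs, by rw [Scheme.Hom.ker_comp_of_isIso]; exact hker⟩

end helpers

/-- Let φ : X ⟶ S be flat and locally of finite presentation and 𝓘 a quasi-coherent ideal sheaf on X
whose closed subscheme T is flat and locally of finite presentation over S. If for every point s of
S the fibre T_s ⟶ X_s (base change of T ⟶ X to the scheme-theoretic fibre) is a quasi-regular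
immersion, then T ⟶ X is a relative quasi-regular immersion. -/
theorem result {X S : Scheme.{u}} (φ : X ⟶ S) [Flat φ] [LocallyOfFinitePresentation φ]
    (𝓘 : X.IdealSheafData) [Flat (𝓘.subschemeι ≫ φ)] [LocallyOfFinitePresentation (𝓘.subschemeι ≫ φ)]
    (hfib : ∀ s : ↥S, RegImm.IsRegularImmersion RegImm.Kind.quasi (pullback.snd 𝓘.subschemeι (φ.fiberι s))) :
    RegImm.IsRelRegularImmersion RegImm.Kind.quasi φ 𝓘.subschemeι := by
  have hfib' : ∀ s : S, Mor2.IsRegularClosedImmersion (CInt.fiberMap 𝓘.subschemeι φ s) := by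
    intro s
    haveI : LocallyOfFiniteType (φ.fiberToSpecResidueField s) :=
      MorphismProperty.pullback_snd _ _ inferInstance
    haveI : IsLocallyNoetherian (φ.fiber s) :=
      LocallyOfFiniteType.isLocallyNoetherian (φ.fiberToSpecResidueField s)
    have hsq1 := Groth.Agent.S1459.isPullback_map_aux 𝓘.subschemeι φ (𝓘.subschemeι ≫ φ) rfl
      (S.fromSpecResidueField s) (by simp) (by simp)
    have hsq2 : IsPullback (pullback.fst 𝓘.subschemeι (φ.fiberι s))
        (pullback.snd 𝓘.subschemeι (φ.fiberι s)) 𝓘.subschemeι (φ.fiberι s) :=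
      IsPullback.of_hasPullback _ _
    have he : (hsq1.isoIsPullback _ _ hsq2).hom ≫ pullback.snd 𝓘.subschemeι (φ.fiberι s) =
        CInt.fiberMap 𝓘.subschemeι φ s := hsq1.isoIsPullback_hom_snd _ _ hsq2
    rw [← he]
    exact isRegularClosedImmersion_iso_comp _ _ (isRegularClosedImmersion_of_quasi _ (hfib s))
  have h := (Groth.Agent.S2890.result 𝓘.subschemeι φ).mpr
    ⟨fun y => Flat.stalkMap φ (𝓘.subschemeι y), inferInstance, hfib'⟩
  refine ⟨⟨inferInstance, fun z => ?_⟩, inferInstance⟩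
  obtain ⟨U, hU, hzU, rs, hrs, hker⟩ := h.2.2 z
  refine ⟨⟨U, hU⟩, hzU, inferInstance, rs, ?_, ?_⟩
  · show CAlgX.IsQuasiRegular rs.get
    apply Groth.Agent.S5802.result
    rw [List.ofFn_get]
    exact hrs.toIsWeaklyRegular
  · rw [← Scheme.Hom.ker_apply]
    exact hker

end Groth.Agent.S8896
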