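import Groth.Statements.S8894
import Mathlib
import Groth.Agent.S2890
import Groth.Agent.S8896
import Groth.Agent.Lib.RelRegImmBC
import Groth.Agent.Lib.RegImmFlatBC
import Groth.Agent.Lib.KRegImmSmooth2

set_option autoImplicit false
set_option linter.style.haveILetI false
universe u
open CategoryTheory CategoryTheory.Limits AlgebraicGeometry TopologicalSpace
open SDiv

namespace Groth.Agent.S8894

section helpers

open RingTheory.Sequence

/-- an immersion whose ideal is locally generated by a finite sequence is locally of finite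
presentation -/
theorem locallyOfFinitePresentation_of_isRegularImmersion {Z X : Scheme.{u}} (k : RegImm.Kind)
    (i : Z ⟶ X) (hi : RegImm.IsRegularImmersion k i) : LocallyOfFinitePresentation i := by
  rw [HasRingHomProperty.iff_exists_appLE (P := @LocallyOfFinitePresentation)
    (RingHom.finitePresentation_stableUnderComposition.stableUnderCompositionWithLocalizationAway
      RingHom.finitePresentation_holdsForLocalizationAway).1]
  intro z
  obtain ⟨U, hzU, hcl, rs, hrs, hker⟩ := hi.2 z
  obtain ⟨haff, hsurj⟩ :=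
    (Groth.Agent.Lib.KRegImmSmooth.isClosedImmersion_morphismRestrict_iff i U.2).mp hcl
  refine ⟨U, ⟨i ⁻¹ᵁ U.1, haff⟩, hzU, le_rfl, ?_⟩
  rw [Scheme.Hom.appLE_eq_app]
  refine RingHom.FinitePresentation.of_surjective _ hsurj ?_
  rw [hker]
  exact Submodule.fg_span (List.finite_toSet rs)

/-- the factorisation of an immersion through its coborder is a base change of the immersion -/
theorem isPullback_liftCoborder {Z X : Scheme.{u}} (i : Z ⟶ X) [IsImmersion i] :
    IsPullback (𝟙 Z) i.liftCoborder i i.coborderRange.ι := by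
  have h1 : IsPullback (𝟙 Z) i.liftCoborder i.liftCoborder (𝟙 _) := IsPullback.id_horiz _
  have h2 : IsPullback (𝟙 _) (𝟙 _) i.coborderRange.ι i.coborderRange.ι :=
    IsKernelPair.id_of_mono i.coborderRange.ι
  have h3 := h1.paste_vert h2
  rwa [Category.comp_id, i.liftCoborder_ι] at h3

/-- a regular closed immersion into the coborder gives a regular immersion -/
theorem isRegularImmersion_of_liftCoborder {Z X : Scheme.{u}} (i : Z ⟶ X) [IsImmersion i]
    (hu : Mor2.IsRegularClosedImmersion i.liftCoborder) :
    RegImm.IsRegularImmersion RegImm.Kind.regular i := by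
  refine ⟨inferInstance, fun z => ?_⟩
  obtain ⟨U₂, hU₂, hzU₂, rs, hrs, hker⟩ := hu.2 z
  have hU₂' : IsAffineOpen (i.coborderRange.ι ''ᵁ U₂) := hU₂.image_of_isOpenImmersion _
  have hz' : i z ∈ i.coborderRange.ι ''ᵁ U₂ := by
    have h1 : i z = i.coborderRange.ι (i.liftCoborder z) := by
      show i z = (i.liftCoborder ≫ i.coborderRange.ι) z
      rw [i.liftCoborder_ι]
    rw [h1]
    exact ⟨_, hzU₂, rfl⟩
  have happ := liftCoborder_app (f := i) U₂
  have hiso : Function.Bijective
      (Z.presheaf.map (eqToHom (i.liftCoborder_preimage U₂)).op).hom :=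
    ConcreteCategory.bijective_of_isIso _
  have happ' : ∀ a : Γ(X, i.coborderRange.ι ''ᵁ U₂), (i.liftCoborder.app U₂).hom a =
      (Z.presheaf.map (eqToHom (i.liftCoborder_preimage U₂)).op).hom
        ((i.app (i.coborderRange.ι ''ᵁ U₂)).hom a) := by
    intro a
    rw [happ]
    rfl
  have hsurj : Function.Surjective (i.app (i.coborderRange.ι ''ᵁ U₂)).hom := by
    have h1 : Function.Surjective (i.liftCoborder.app U₂).hom :=
      i.liftCoborder.app_surjective U₂ hU₂
    intro b
    obtain ⟨a, ha⟩ := h1 ((Z.presheaf.map (eqToHom (i.liftCoborder_preimage U₂)).op).hom b)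
    refine ⟨a, hiso.1 ?_⟩
    rw [← ha]
    exact (happ' a).symm
  have haff : IsAffineOpen (i ⁻¹ᵁ (i.coborderRange.ι ''ᵁ U₂)) := by
    rw [← i.liftCoborder_preimage U₂]
    exact hU₂.preimage i.liftCoborder
  have hcl : IsClosedImmersion (i ∣_ (i.coborderRange.ι ''ᵁ U₂)) :=
    (Groth.Agent.Lib.KRegImmSmooth.isClosedImmersion_morphismRestrict_iff i hU₂').mpr
      ⟨haff, hsurj⟩
  have hkereq : RingHom.ker (i.app (i.coborderRange.ι ''ᵁ U₂)).hom =
      RingHom.ker (i.liftCoborder.app U₂).hom := by
    ext a
    constructor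
    · intro h
      have h' : (i.app (i.coborderRange.ι ''ᵁ U₂)).hom a = 0 := h
      show (i.liftCoborder.app U₂).hom a = 0
      rw [happ' a, h', map_zero]
    · intro h
      have h' : (i.liftCoborder.app U₂).hom a = 0 := h
      show (i.app (i.coborderRange.ι ''ᵁ U₂)).hom a = 0
      rw [happ' a] at h'
      exact hiso.1 (h'.trans (map_zero _).symm)
  exact ⟨⟨i.coborderRange.ι ''ᵁ U₂, hU₂'⟩, hz', hcl, rs, hrs,
    hkereq.trans ((Scheme.Hom.ker_apply _ _).symm.trans hker)⟩

/-- a relative quasi-regular immersion into a flat, locally finitely presented `S`-scheme is a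
regular immersion -/
theorem isRegularImmersion_of_rel_quasi {Z X S : Scheme.{u}} (f : X ⟶ S) [Flat f]
    [LocallyOfFinitePresentation f] (i : Z ⟶ X)
    (hi : RegImm.IsRelRegularImmersion RegImm.Kind.quasi f i) :
    RegImm.IsRegularImmersion RegImm.Kind.regular i := by
  haveI : IsImmersion i := hi.1.1
  -- the closed immersion into the coborder
  have hqu : RegImm.IsRegularImmersion RegImm.Kind.quasi i.liftCoborder :=
    Groth.Agent.Lib.RegImmFlatBC.isRegularImmersion_baseChange i i.coborderRange.ι
      i.liftCoborder (𝟙 Z) (isPullback_liftCoborder i) RegImm.Kind.quasi hi.1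
  haveI : LocallyOfFinitePresentation i.liftCoborder :=
    locallyOfFinitePresentation_of_isRegularImmersion _ _ hqu
  have hcomp : i.liftCoborder ≫ i.coborderRange.ι ≫ f = i ≫ f := by
    rw [← Category.assoc, i.liftCoborder_ι]
  haveI hfl : Flat (i.liftCoborder ≫ i.coborderRange.ι ≫ f) := by
    rw [hcomp]; exact hi.2
  have hfib : ∀ s : S, Mor2.IsRegularClosedImmersion
      (CInt.fiberMap i.liftCoborder (i.coborderRange.ι ≫ f) s) := by
    intro s
    haveI : LocallyOfFiniteType ((i.coborderRange.ι ≫ f).fiberToSpecResidueField s) :=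
      MorphismProperty.pullback_snd _ _ inferInstance
    haveI : IsLocallyNoetherian ((i.coborderRange.ι ≫ f).fiber s) :=
      LocallyOfFiniteType.isLocallyNoetherian ((i.coborderRange.ι ≫ f).fiberToSpecResidueField s)
    have hsq1 := Groth.Agent.S1459.isPullback_map_aux i.liftCoborder (i.coborderRange.ι ≫ f)
      (i.liftCoborder ≫ i.coborderRange.ι ≫ f) rfl (S.fromSpecResidueField s) (by simp) (by simp)
    haveI hcl : IsClosedImmersion (CInt.fiberMap i.liftCoborder (i.coborderRange.ι ≫ f) s) :=
      MorphismProperty.of_isPullback (P := @IsClosedImmersion) hsq1 inferInstance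
    have hrel := Groth.Agent.Lib.RelRegImmBC.isRelRegularImmersion_of_isPullback
      (i.coborderRange.ι ≫ f) i.liftCoborder RegImm.Kind.quasi (Or.inr rfl) ⟨hqu, hfl⟩
      (S.fromSpecResidueField s) (pullback.fst (i.coborderRange.ι ≫ f) (S.fromSpecResidueField s))
      (pullback.snd (i.coborderRange.ι ≫ f) (S.fromSpecResidueField s))
      (IsPullback.of_hasPullback _ _)
      (pullback.fst (i.liftCoborder ≫ i.coborderRange.ι ≫ f) (S.fromSpecResidueField s))
      (CInt.fiberMap i.liftCoborder (i.coborderRange.ι ≫ f) s) hsq1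
    exact Groth.Agent.S8896.isRegularClosedImmersion_of_quasi _ hrel.1
  have h := (Groth.Agent.S2890.result i.liftCoborder (i.coborderRange.ι ≫ f)).mpr
    ⟨fun y => Flat.stalkMap (i.coborderRange.ι ≫ f) (i.liftCoborder y), hfl, hfib⟩
  exact isRegularImmersion_of_liftCoborder i h.2

end helpers

/-- Let f : X ⟶ S be flat and locally of finite presentation and i : Z ⟶ X a relative quasi-regular
immersion (quasi-regular immersion with Z flat over S). Then i is a regular immersion, and for every
g : S' ⟶ S the base change of i to X ×_S S' is a regular immersion. -/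
theorem result {Z X S : Scheme.{u}} (f : X ⟶ S) [Flat f] [LocallyOfFinitePresentation f]
    (i : Z ⟶ X) (hi : RegImm.IsRelRegularImmersion RegImm.Kind.quasi f i) :
    RegImm.IsRegularImmersion RegImm.Kind.regular i ∧
      ∀ (S' : Scheme.{u}) (g : S' ⟶ S), RegImm.IsRegularImmersion RegImm.Kind.regular (pullback.snd i (pullback.fst f g)) := by
  refine ⟨isRegularImmersion_of_rel_quasi f i hi, fun S' g => ?_⟩
  have hrel := Groth.Agent.Lib.RelRegImmBC.isRelRegularImmersion_of_isPullback f i
    RegImm.Kind.quasi (Or.inr rfl) hi g (pullback.fst f g) (pullback.snd f g)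
    (IsPullback.of_hasPullback f g) (pullback.fst i (pullback.fst f g))
    (pullback.snd i (pullback.fst f g)) (IsPullback.of_hasPullback _ _)
  exact isRegularImmersion_of_rel_quasi (pullback.snd f g) _ hrel

end Groth.Agent.S8894
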