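import Groth.Statements.S8895
import Mathlib
import Groth.Agent.S8894
import Groth.Agent.Lib.H1FlatNbhd50
import Groth.Agent.Lib.CritFibFib88

set_option autoImplicit false
set_option linter.style.haveILetI false
universe u
open CategoryTheory CategoryTheory.Limits AlgebraicGeometry TopologicalSpace
open SDiv

namespace Groth.Agent.S8895

section helpers

open Groth.Agent.Lib.RelRegImmBC

/-- `H_1`-regular immersions are quasi-regular immersions -/
theorem isRegularImmersion_quasi_of_h1 {Z X : Scheme.{u}} (i : Z ⟶ X)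
    (hi : RegImm.IsRegularImmersion RegImm.Kind.h1 i) :
    RegImm.IsRegularImmersion RegImm.Kind.quasi i := by
  refine ⟨hi.1, fun z => ?_⟩
  obtain ⟨U, hzU, hcl, rs, hrs, hker⟩ := hi.2 z
  exact ⟨U, hzU, hcl, rs, Groth.Agent.S2103.result rs.get hrs, hker⟩

/-- the base is flat at the points of an `H_1`-regularly immersed flat closed subscheme -/
theorem flat_stalkMap_of_h1 {X Y S : Scheme.{u}} (u : Y ⟶ X) (g : X ⟶ S)
    [IsClosedImmersion u] [LocallyOfFinitePresentation g] [Flat (u ≫ g)]
    (hu : RegImm.IsRegularImmersion RegImm.Kind.h1 u) (y : Y) : (g.stalkMap (u y)).hom.Flat := by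
  obtain ⟨V, hV, hyV⟩ : ∃ V : S.Opens, IsAffineOpen V ∧ g (u y) ∈ V := by
    obtain ⟨_, ⟨V, hV, rfl⟩, hxV, -⟩ :=
      S.isBasis_affineOpens.exists_subset_of_mem_open (Set.mem_univ (g (u y))) isOpen_univ
    exact ⟨V, hV, hxV⟩
  obtain ⟨U₀, hxU₀, hcl₀, rs₀, hrs₀, hker₀⟩ := hu.2 y
  obtain ⟨r, hrV, hxr⟩ := U₀.2.exists_basicOpen_le (V := g ⁻¹ᵁ V) ⟨u y, hyV⟩ hxU₀
  have hU₁ : IsAffineOpen (X.basicOpen r) := U₀.2.basicOpen r
  obtain ⟨hcl₁, rs, hrs, hker⟩ := chart_shrink u RegImm.Kind.h1 U₀.2 hcl₀ rs₀ hrs₀ hker₀ hU₁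
    (X.basicOpen_le r) y hxr
  rw [Groth.Agent.Lib.EtaleLocusBC.flat_stalkMap_iff V hV _ hU₁ hrV hxr]
  letI := (g.appLE V _ hrV).hom.toAlgebra
  haveI : Algebra.FinitePresentation Γ(S, V) Γ(X, X.basicOpen r) :=
    g.finitePresentation_appLE hV hU₁ hrV
  have hkerI : u.ker.ideal ⟨_, hU₁⟩ = Ideal.span (Set.range rs.get) := by
    rw [span_range_get, ← hker]
    exact Scheme.Hom.ker_apply u ⟨_, hU₁⟩
  haveI : Module.Flat Γ(S, V) (Γ(X, X.basicOpen r) ⧸ Ideal.span (Set.range rs.get)) := by
    rw [← hkerI]; exact Groth.Agent.S2890.flat_quot_ker u g hU₁ hV hrV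
  exact Groth.Agent.Lib.H1FlatNbhd50.flat_atPrime_of_h1_of_flat_quot rs.get hrs
    (hU₁.primeIdealOf ⟨u y, hxr⟩).asIdeal
    (by rw [← hkerI]; exact Groth.Agent.S2890.ker_ideal_le_prime u y hU₁ hxr)

/-- the closed immersion of a relative `H_1`-regular immersion into its coborder: the coborder is
flat over the base at the points of `Z` -/
theorem flat_stalkMap_liftCoborder {Z X S : Scheme.{u}} (f : X ⟶ S)
    [LocallyOfFinitePresentation f] (i : Z ⟶ X)
    (hi : RegImm.IsRelRegularImmersion RegImm.Kind.h1 f i) (z : Z) :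
    haveI : IsImmersion i := hi.1.1
    ((i.coborderRange.ι ≫ f).stalkMap (i.liftCoborder z)).hom.Flat := by
  haveI : IsImmersion i := hi.1.1
  have hh1 : RegImm.IsRegularImmersion RegImm.Kind.h1 i.liftCoborder :=
    Groth.Agent.Lib.RegImmFlatBC.isRegularImmersion_baseChange i i.coborderRange.ι
      i.liftCoborder (𝟙 Z) (Groth.Agent.S8894.isPullback_liftCoborder i) RegImm.Kind.h1 hi.1
  have hcomp : i.liftCoborder ≫ i.coborderRange.ι ≫ f = i ≫ f := by
    rw [← Category.assoc, i.liftCoborder_ι]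
  haveI hfl : Flat (i.liftCoborder ≫ i.coborderRange.ι ≫ f) := by
    rw [hcomp]; exact hi.2
  exact flat_stalkMap_of_h1 i.liftCoborder (i.coborderRange.ι ≫ f) hh1 z

/-- a relative `H_1`-regular immersion into a locally finitely presented `S`-scheme is a regular
immersion -/
theorem isRegularImmersion_of_rel_h1 {Z X S : Scheme.{u}} (f : X ⟶ S)
    [LocallyOfFinitePresentation f] (i : Z ⟶ X)
    (hi : RegImm.IsRelRegularImmersion RegImm.Kind.h1 f i) :
    RegImm.IsRegularImmersion RegImm.Kind.regular i := by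
  haveI : IsImmersion i := hi.1.1
  have hiq : RegImm.IsRegularImmersion RegImm.Kind.quasi i := isRegularImmersion_quasi_of_h1 i hi.1
  have hqu : RegImm.IsRegularImmersion RegImm.Kind.quasi i.liftCoborder :=
    Groth.Agent.Lib.RegImmFlatBC.isRegularImmersion_baseChange i i.coborderRange.ι
      i.liftCoborder (𝟙 Z) (Groth.Agent.S8894.isPullback_liftCoborder i) RegImm.Kind.quasi hiq
  haveI : LocallyOfFinitePresentation i.liftCoborder :=
    Groth.Agent.S8894.locallyOfFinitePresentation_of_isRegularImmersion _ _ hqu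
  have hcomp : i.liftCoborder ≫ i.coborderRange.ι ≫ f = i ≫ f := by
    rw [← Category.assoc, i.liftCoborder_ι]
  haveI hfl : Flat (i.liftCoborder ≫ i.coborderRange.ι ≫ f) := by
    rw [hcomp]; exact hi.2
  have hfib : ∀ s : S, Mor2.IsRegularClosedImmersion
      (CInt.fiberMap i.liftCoborder (i.coborderRange.ι ≫ f) s) := by
    intro s
    haveI : LocallyOfFiniteType ((i.coborderRange.ι ≫ f).fiberToSpecResidueField s) :=
      MorphismProperty.pullback_snd _ _ inferInstance
    haveI : IsLocallyNoetherian ((i.coborderRange.ι ≫ f).fiber s) :=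
      LocallyOfFiniteType.isLocallyNoetherian ((i.coborderRange.ι ≫ f).fiberToSpecResidueField s)
    have hsq1 := Groth.Agent.S1459.isPullback_map_aux i.liftCoborder (i.coborderRange.ι ≫ f)
      (i.liftCoborder ≫ i.coborderRange.ι ≫ f) rfl (S.fromSpecResidueField s) (by simp) (by simp)
    haveI hcl : IsClosedImmersion (CInt.fiberMap i.liftCoborder (i.coborderRange.ι ≫ f) s) :=
      MorphismProperty.of_isPullback (P := @IsClosedImmersion) hsq1 inferInstance
    have hrel := Groth.Agent.Lib.RelRegImmBC.isRelRegularImmersion_of_isPullback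
      (i.coborderRange.ι ≫ f) i.liftCoborder RegImm.Kind.quasi (Or.inr rfl) ⟨hqu, hfl⟩
      (S.fromSpecResidueField s) (pullback.fst (i.coborderRange.ι ≫ f) (S.fromSpecResidueField s))
      (pullback.snd (i.coborderRange.ι ≫ f) (S.fromSpecResidueField s))
      (IsPullback.of_hasPullback _ _)
      (pullback.fst (i.liftCoborder ≫ i.coborderRange.ι ≫ f) (S.fromSpecResidueField s))
      (CInt.fiberMap i.liftCoborder (i.coborderRange.ι ≫ f) s) hsq1
    exact Groth.Agent.S8896.isRegularClosedImmersion_of_quasi _ hrel.1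
  have h := (Groth.Agent.S2890.result i.liftCoborder (i.coborderRange.ι ≫ f)).mpr
    ⟨fun y => flat_stalkMap_liftCoborder f i hi y, hfl, hfib⟩
  exact Groth.Agent.S8894.isRegularImmersion_of_liftCoborder i h.2

/-- the flat locus of `f` contains the image of a relative `H_1`-regular immersion -/
theorem exists_flat_open {Z X S : Scheme.{u}} (f : X ⟶ S) [LocallyOfFinitePresentation f]
    (i : Z ⟶ X) (hi : RegImm.IsRelRegularImmersion RegImm.Kind.h1 f i) :
    ∃ U : X.Opens, Set.range (fun z : ↥Z => i z) ⊆ (U : Set ↥X) ∧ Flat (U.ι ≫ f) := by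
  haveI : IsImmersion i := hi.1.1
  refine ⟨⟨{x : X | (f.stalkMap x).hom.Flat},
    Groth.Agent.Lib.CritFibFib88.isOpen_flat_locus f⟩, ?_, ?_⟩
  · rintro _ ⟨z, rfl⟩
    have h1 := flat_stalkMap_liftCoborder f i hi z
    have h2 := Groth.Agent.Lib.CritFibFib88.flat_stalkMap_of_comp i.coborderRange.ι f
      (i.liftCoborder z) h1 (Flat.stalkMap i.coborderRange.ι (i.liftCoborder z))
    have hpt : i.coborderRange.ι (i.liftCoborder z) = i z := by
      rw [← Scheme.Hom.comp_apply, i.liftCoborder_ι]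
    show i z ∈ {x : X | (f.stalkMap x).hom.Flat}
    rw [← hpt]
    exact h2
  · rw [Flat.iff_flat_stalkMap]
    intro w
    exact Groth.Agent.Lib.CritFibFib88.flat_comp_stalkMap _ f w w.2 (Flat.stalkMap _ w)

end helpers

/-- Let f : X ⟶ S be locally of finite presentation and i : Z ⟶ X a relative H_1-regular immersion. Then
(1) there is an open subscheme U ⊆ X containing the image of Z such that U ⟶ S is flat, and (2) i is
a regular immersion and remains one after any base change S' ⟶ S. -/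
theorem result {Z X S : Scheme.{u}} (f : X ⟶ S) [LocallyOfFinitePresentation f] (i : Z ⟶ X)
    (hi : RegImm.IsRelRegularImmersion RegImm.Kind.h1 f i) :
    (∃ U : X.Opens, Set.range (fun z : ↥Z => i z) ⊆ (U : Set ↥X) ∧ Flat (U.ι ≫ f)) ∧
      RegImm.IsRegularImmersion RegImm.Kind.regular i ∧
      ∀ (S' : Scheme.{u}) (g : S' ⟶ S), RegImm.IsRegularImmersion RegImm.Kind.regular (pullback.snd i (pullback.fst f g)) := by
  refine ⟨exists_flat_open f i hi, isRegularImmersion_of_rel_h1 f i hi, fun S' g => ?_⟩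
  have hrel := Groth.Agent.Lib.RelRegImmBC.isRelRegularImmersion_of_isPullback f i
    RegImm.Kind.h1 (Or.inl rfl) hi g (pullback.fst f g) (pullback.snd f g)
    (IsPullback.of_hasPullback f g) (pullback.fst i (pullback.fst f g))
    (pullback.snd i (pullback.fst f g)) (IsPullback.of_hasPullback _ _)
  exact isRegularImmersion_of_rel_h1 (pullback.snd f g) _ hrel

end Groth.Agent.S8895
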