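import Groth.Statements.S8899
import Groth.Agent.Lib.H72PullbackStalk
-- import your own Groth.Agent.* helpers here

set_option autoImplicit false
universe u
open CategoryTheory CategoryTheory.Limits AlgebraicGeometry TopologicalSpace
open SDiv

namespace Groth.Agent.S8899

open IsLocalRing in
/-- Algebra: `A → B` flat local, `m_B` the only prime over `m_A B`; if `m_A` is weakly associated to
`M` via `m`, then `m_B` is weakly associated to `B ⊗ M` via `1 ⊗ m`. -/
theorem radical_ker_of_isBaseChange {A B : Type u} [CommRing A] [CommRing B] [IsLocalRing A]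
    [IsLocalRing B] [Algebra A B] [IsLocalHom (algebraMap A B)] [Module.Flat A B]
    {M N : Type u} [AddCommGroup M] [Module A M] [AddCommGroup N] [Module A N] [Module B N]
    [IsScalarTower A B N] (τ : M →ₗ[A] N) (hτ : IsBaseChange B τ)
    (hprime : ∀ q : Ideal B, q.IsPrime → (maximalIdeal A).map (algebraMap A B) ≤ q →
      q = maximalIdeal B)
    (m : M) (hm : Ideal.radical (LinearMap.ker (LinearMap.toSpanSingleton A M m)) = maximalIdeal A) :
    Ideal.radical (LinearMap.ker (LinearMap.toSpanSingleton B N (τ m))) = maximalIdeal B := by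
  have hff : Module.FaithfullyFlat A B := Module.FaithfullyFlat.of_flat_of_isLocalHom
  have hinj : Function.Injective τ := by
    have h1 := Module.FaithfullyFlat.tensorProduct_mk_injective (A := A) (B := B) M
    have h2 : ∀ z, τ z = hτ.equiv (TensorProduct.mk A B M 1 z) := by
      intro z
      rw [TensorProduct.mk_apply, IsBaseChange.equiv_tmul, one_smul]
    intro z z' hzz'
    rw [h2, h2] at hzz'
    exact h1 (hτ.equiv.injective hzz')
  have hm0 : m ≠ 0 := by
    rintro rfl
    have : LinearMap.ker (LinearMap.toSpanSingleton A M (0 : M)) = ⊤ := by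
      ext a; simp
    rw [this, Ideal.radical_top] at hm
    exact (maximalIdeal.isMaximal A).ne_top hm.symm
  set J := LinearMap.ker (LinearMap.toSpanSingleton B N (τ m)) with hJdef
  have hJ : J ≠ ⊤ := by
    intro hJ
    have h1 : (1 : B) ∈ J := hJ ▸ Submodule.mem_top
    rw [hJdef, LinearMap.mem_ker, LinearMap.toSpanSingleton_apply, one_smul] at h1
    exact hm0 (hinj (by rw [h1, map_zero]))
  rw [Ideal.radical_eq_sInf]
  apply le_antisymm
  · exact sInf_le ⟨IsLocalRing.le_maximalIdeal hJ, (maximalIdeal.isMaximal B).isPrime⟩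
  · apply le_sInf
    rintro q ⟨hJq, hq⟩
    refine (hprime q hq ?_).ge
    rw [Ideal.map_le_iff_le_comap]
    intro a ha
    rw [← hm] at ha
    obtain ⟨k, hk⟩ := ha
    rw [LinearMap.mem_ker, LinearMap.toSpanSingleton_apply] at hk
    rw [Ideal.mem_comap]
    apply hq.mem_of_pow_mem k
    apply hJq
    rw [hJdef, LinearMap.mem_ker, LinearMap.toSpanSingleton_apply, ← map_pow,
      algebraMap_smul, ← map_smul, hk, map_zero]

/-- Let f : X ⟶ S be a morphism of schemes, G a quasi-coherent O_S-module and x a point of X over s = f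
x such that f is flat at x, no point of f⁻¹(s) other than x specialises to x (x is the generic point
of some irreducible component of the fibre X_s), and s is weakly associated to G. Then x is weakly
associated to f^*G. -/
theorem result {X S : Scheme.{u}} (f : X ⟶ S) (G : S.Modules) (hG : Coh.IsQCoh G)
    (x : ↥X) (hfl : (f.stalkMap x).hom.Flat) (hgen : ∀ y : ↥X, f y = f x → y ⤳ x → y = x)
    (hs : Curv2.IsWeakAssPoint G (f x)) : Curv2.IsWeakAssPoint ((Scheme.Modules.pullback f).obj G) x := by
  obtain ⟨m, hm⟩ := hs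
  haveI : G.IsQuasicoherent := hG
  letI : Algebra (S.presheaf.stalk (f x)) (X.presheaf.stalk x) := (f.stalkMap x).hom.toAlgebra
  letI : Module (S.presheaf.stalk (f x))
      (((Scheme.Modules.pullback f).obj G).presheaf.stalk x) :=
    Module.compHom _ (f.stalkMap x).hom
  haveI : IsScalarTower (S.presheaf.stalk (f x)) (X.presheaf.stalk x)
      (((Scheme.Modules.pullback f).obj G).presheaf.stalk x) :=
    .of_algebraMap_smul fun _ _ => rfl
  obtain ⟨τ, hτ⟩ := Groth.Agent.Lib.H72PullbackStalk.exists_isBaseChange_stalk_pullback f G x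
  refine ⟨τ m, ?_⟩
  haveI : Module.Flat (S.presheaf.stalk (f x)) (X.presheaf.stalk x) := hfl
  haveI : IsLocalHom (algebraMap (S.presheaf.stalk (f x)) (X.presheaf.stalk x)) :=
    (inferInstance : IsLocalHom (f.stalkMap x).hom)
  apply radical_ker_of_isBaseChange τ hτ ?_ m hm
  intro q hq hle
  let q' : Spec (X.presheaf.stalk x) := ⟨q, hq⟩
  have hcomap : q.comap (f.stalkMap x).hom = IsLocalRing.maximalIdeal (S.presheaf.stalk (f x)) := by
    refine ((IsLocalRing.maximalIdeal.isMaximal _).eq_of_le (Ideal.IsPrime.ne_top inferInstance)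
      ?_).symm
    rw [← Ideal.map_le_iff_le_comap]
    exact hle
  have hy1 : X.fromSpecStalk x q' ⤳ x := by
    have : X.fromSpecStalk x q' ∈ Set.range (X.fromSpecStalk x) := ⟨q', rfl⟩
    rw [Scheme.range_fromSpecStalk] at this
    exact this
  have hy2 : f (X.fromSpecStalk x q') = f x := by
    have h1 : (X.fromSpecStalk x ≫ f) q' =
        (Spec.map (f.stalkMap x) ≫ S.fromSpecStalk (f x)) q' := by
      rw [Scheme.SpecMap_stalkMap_fromSpecStalk]
    rw [Scheme.Hom.comp_apply, Scheme.Hom.comp_apply] at h1
    rw [h1]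
    have h2 : Spec.map (f.stalkMap x) q' = IsLocalRing.closedPoint (S.presheaf.stalk (f x)) := by
      apply PrimeSpectrum.ext
      exact hcomap
    rw [h2, Scheme.fromSpecStalk_closedPoint]
  have hy3 := hgen _ hy2 hy1
  have hy4 : q' = IsLocalRing.closedPoint (X.presheaf.stalk x) := by
    apply (X.fromSpecStalk x).isEmbedding.injective
    rw [hy3, Scheme.fromSpecStalk_closedPoint]
  exact congrArg PrimeSpectrum.asIdeal hy4

end Groth.Agent.S8899
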