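import Groth.Statements.S8901
import Groth.Agent.Lib.AssPoints
import Groth.Agent.Lib.StructureModule
import Mathlib.AlgebraicGeometry.Stalk
-- import your own Groth.Agent.* helpers here

set_option autoImplicit false
universe u
open CategoryTheory CategoryTheory.Limits AlgebraicGeometry TopologicalSpace
open SDiv

namespace Groth.Agent.S8901

open Groth.Agent.Lib.AssPoints Groth.Agent.Lib.QCohStalk Groth.Agent.Lib.StructureModule Opposite

/-- In a local ring with a single prime ideal, every non-zero-divisor is a unit. -/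
theorem isUnit_of_mem_nonZeroDivisors_of_subsingleton {R : Type*} [CommRing R] [IsLocalRing R]
    (hR : ∀ p : PrimeSpectrum R, p = IsLocalRing.closedPoint R) {a : R}
    (ha : a ∈ nonZeroDivisors R) : IsUnit a := by
  by_contra hnu
  have hmem : a ∈ IsLocalRing.maximalIdeal R := hnu
  have hnil : a ∈ nilradical R := by
    rw [nilradical_eq_sInf, Ideal.mem_sInf]
    intro J hJ
    have := hR ⟨J, hJ⟩
    have hJ' : J = IsLocalRing.maximalIdeal R := congrArg PrimeSpectrum.asIdeal this
    rw [hJ']
    exact hmem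
  obtain ⟨n, hn⟩ := hnil
  have h1 : (a ^ n) ∈ nonZeroDivisors R := pow_mem ha n
  rw [hn] at h1
  have : (1 : R) = 0 := by
    have := (mem_nonZeroDivisors_iff_right.mp h1) 1 (by simp)
    exact this
  exact one_ne_zero this

/-- At a point without proper generizations, the local ring has a single prime. -/
theorem prime_eq_closedPoint_of_maximal {Y : Scheme.{u}} (y : Y)
    (hy : ∀ y' : Y, y' ⤳ y → y' = y) (p : PrimeSpectrum (Y.presheaf.stalk y)) :
    p = IsLocalRing.closedPoint (Y.presheaf.stalk y) := by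
  have hinj : Function.Injective (Y.fromSpecStalk y) :=
    (Y.fromSpecStalk y).isEmbedding.injective
  apply hinj
  have h1 : Y.fromSpecStalk y p ⤳ y := by
    have : Y.fromSpecStalk y p ∈ Set.range (Y.fromSpecStalk y) := ⟨p, rfl⟩
    rw [Scheme.range_fromSpecStalk] at this
    exact this
  rw [hy _ h1]
  exact (Scheme.fromSpecStalk_closedPoint).symm

/-- Let f : X ⟶ Y be a morphism of schemes under which each weakly associated point of X (of O_X) goes
to a point of Y with no proper generization (the generic point of some irreducible component of Y).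
Then pullbacks of meromorphic functions are defined for f: for every open U ⊆ Y and every regular
section s of O_Y over U, the pulled-back section of O_X over f⁻¹U is regular. -/
theorem result {X Y : Scheme.{u}} (f : X ⟶ Y)
    (h : ∀ x : ↥X, Curv2.IsWeakAssPoint (Coh.structureModule X) x → ∀ y : ↥Y, y ⤳ f x → y = f x)
    (U : Y.Opens) (s : Γ(Y, U)) (hs : s ∈ Mero.regSub Y U) : f.app U s ∈ Mero.regSub X (f ⁻¹ᵁ U) := by
  haveI : (Coh.structureModule X).IsQuasicoherent := isQuasicoherent_structureModule X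
  intro x
  rw [mem_nonZeroDivisors_iff_right]
  intro a ha
  by_contra hne
  obtain ⟨V₀, hxV₀, α₀, rfl⟩ := TopCat.Presheaf.exists_germ_eq X.presheaf a
  -- restrict to `V₀ ⊓ f⁻¹U`
  set V₁ : X.Opens := V₀ ⊓ f ⁻¹ᵁ U with hV₁
  have hxV₁ : x.1 ∈ V₁ := ⟨hxV₀, x.2⟩
  set α₁ : Γ(X, V₁) := X.presheaf.map (homOfLE inf_le_left : V₁ ⟶ V₀).op α₀ with hα₁
  set t₁ : Γ(X, V₁) := X.presheaf.map (homOfLE inf_le_right : V₁ ⟶ f ⁻¹ᵁ U).op (f.app U s) with ht₁
  have h1 : X.presheaf.germ V₁ x.1 hxV₁ (α₁ * t₁) = 0 := by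
    rw [map_mul, hα₁, ht₁, TopCat.Presheaf.germ_res_apply, TopCat.Presheaf.germ_res_apply]
    exact ha
  obtain ⟨W, hxW, iU, iV, hW⟩ := TopCat.Presheaf.germ_eq X.presheaf x.1 hxV₁ hxV₁ _ 0
    (by rw [h1, map_zero])
  rw [map_zero] at hW
  set α : Γ(X, W) := X.presheaf.map iU.op α₁ with hα
  set t : Γ(X, W) := X.presheaf.map iU.op t₁ with ht
  have hαt : α * t = 0 := by rw [hα, ht, ← map_mul]; exact hW
  have hαx : X.presheaf.germ W x.1 hxW α ≠ 0 := by
    rw [hα, hα₁, TopCat.Presheaf.germ_res_apply, TopCat.Presheaf.germ_res_apply]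
    exact hne
  have hWU : W ≤ f ⁻¹ᵁ U := iU.le.trans inf_le_right
  have htdef : t = X.presheaf.map (homOfLE hWU).op (f.app U s) := by
    rw [ht, ht₁, ← ConcreteCategory.comp_apply, ← Functor.map_comp]
    rfl
  -- the module section attached to `α` has nonzero germ at `x`
  have hmodx : (Coh.structureModule X).presheaf.germ W x.1 hxW (toSec W α) ≠ 0 := by
    intro h0
    obtain ⟨W', hxW', i1, i2, hW'⟩ := TopCat.Presheaf.germ_eq (Coh.structureModule X).presheaf
      x.1 hxW hxW (toSec W α) 0 (by rw [h0, map_zero])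
    rw [map_zero] at hW'
    apply hαx
    rw [← TopCat.Presheaf.germ_res_apply X.presheaf i1 x.1 hxW' α]
    have : X.presheaf.map i1.op α = 0 := hW'
    rw [this, map_zero]
  obtain ⟨x', hx'W, -, hx'ass, hx'ne⟩ :=
    exists_isWeakAssPoint_of_germ_ne_zero (Coh.structureModule X) (toSec W α) x.1 hxW hmodx
  -- `f x'` is a maximal point, so the germ of `s` there is a unit
  have hmax := h x' hx'ass
  have hfx'U : f x' ∈ U := hWU hx'W
  have hsunit : IsUnit (Y.presheaf.germ U (f x') hfx'U s) :=
    isUnit_of_mem_nonZeroDivisors_of_subsingleton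
      (prime_eq_closedPoint_of_maximal (f x') hmax) (hs ⟨f x', hfx'U⟩)
  have htunit : IsUnit (X.presheaf.germ W x' hx'W t) := by
    rw [htdef, TopCat.Presheaf.germ_res_apply, ← Scheme.Hom.germ_stalkMap_apply f U x' hfx'U s]
    exact hsunit.map _
  apply hx'ne
  have h2 : X.presheaf.germ W x' hx'W t • (Coh.structureModule X).presheaf.germ W x' hx'W
      (toSec W α) = 0 := by
    rw [← germ_smul, ← toSec_smul, mul_comm, hαt]
    exact map_zero _
  exact htunit.smul_eq_zero.mp h2

end Groth.Agent.S8901
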