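import Groth.Statements.S8909
import Groth.Agent.S1659
import Groth.Agent.Lib.SpecializeChart68
import Groth.Agent.Lib.IdealExtBlowUp68

set_option autoImplicit false
universe u
open CategoryTheory CategoryTheory.Limits AlgebraicGeometry

namespace Groth.Agent.S8909

open Groth.Agent.Lib.BlowUpSeparate68 Groth.Agent.Lib.IdealColon68
  Groth.Agent.Lib.SpecializeChart68

/-- `J = (J : (b)) * (b)` when `J ≤ (b)`. -/
theorem colon_span_mul_eq {R : Type*} [CommRing R] (J : Ideal R) (b : R)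
    (hle : J ≤ Ideal.span {b}) :
    J = J.colon ((Ideal.span {b} : Ideal R) : Set R) * Ideal.span {b} := by
  apply le_antisymm
  · intro f hf
    obtain ⟨h, rfl⟩ := Ideal.mem_span_singleton'.1 (hle hf)
    refine Ideal.mul_mem_mul ?_ (Ideal.mem_span_singleton_self b)
    rw [Submodule.mem_colon]
    intro y hy
    obtain ⟨c, rfl⟩ := Ideal.mem_span_singleton'.1 hy
    have : h • (c * b) = c * (h * b) := by rw [smul_eq_mul]; ring
    rw [this]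
    exact J.mul_mem_left c hf
  · rw [Ideal.mul_le]
    intro x hx y hy
    have := Submodule.mem_colon.1 hx y hy
    rwa [smul_eq_mul] at this

variable {X : Scheme.{u}}

theorem colon_mul_eq_of_le (𝓩 𝓑 : X.IdealSheafData) (hB : BlowUp.IsEffCartierIdeal 𝓑)
    (hle : 𝓩 ≤ 𝓑) : 𝓩 = colon 𝓩 𝓑 (isFiniteTypeIdeal_of_isEffCartier 𝓑 hB) * 𝓑 := by
  apply eq_of_forall_exists_basicOpen
  intro U x hx
  obtain ⟨f, hxf, h⟩ := exists_basicOpen_forall_principal (fun _ : Unit => 𝓑) (fun _ => hB) U x hx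
  obtain ⟨b, -, hBb⟩ := h ()
  refine ⟨f, hxf, ?_⟩
  rw [Scheme.IdealSheafData.ideal_mul, Pi.mul_apply, ideal_colon, hBb]
  exact colon_span_mul_eq _ b (hBb ▸ hle (X.affineBasicOpen f))

theorem mem_support_of_ideal_le_P (𝓩 : X.IdealSheafData) (W : X.affineOpens) (η : X)
    (hη : η ∈ W.1) (h : 𝓩.ideal W ≤ P W η hη) : η ∈ 𝓩.support := by
  rw [Scheme.IdealSheafData.mem_support_iff_of_mem hη, Scheme.mem_zeroLocus_iff]
  intro s hs hηs
  rw [mem_basicOpen_iff W η hη] at hηs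
  exact hηs (h hs)

/-- A point all of whose generizations are trivial, lying in an affine open, corresponds to a
minimal prime. -/
theorem P_mem_minimalPrimes (W : X.affineOpens) (η : X) (hη : η ∈ W.1)
    (hmax : ∀ y : X, y ⤳ η → y = η) : P W η hη ∈ minimalPrimes Γ(X, W.1) := by
  refine ⟨⟨(W.2.primeIdealOf ⟨η, hη⟩).isPrime, bot_le⟩, ?_⟩
  rintro q ⟨hq, -⟩ hle
  have hqprime : q.IsPrime := hq
  have h1 : pt W q ⤳ η := by
    rw [specializes_iff W _ _ (pt_mem W q) hη, P_pt]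
    exact hle
  have h2 := hmax _ h1
  have h3 : P W (pt W q) (pt_mem W q) = q := P_pt W q
  have h4 : P W (pt W q) (pt_mem W q) = P W η hη := by
    congr 1
  rw [← h4, h3]

/-- The point of a minimal prime of an affine chart has no nontrivial generizations. -/
theorem pt_isMax_of_mem_minimalPrimes (W : X.affineOpens) (𝔭 : Ideal Γ(X, W.1)) [h : 𝔭.IsPrime]
    (hmin : 𝔭 ∈ minimalPrimes Γ(X, W.1)) (y : X) (hy : y ⤳ pt W 𝔭) : y = pt W 𝔭 := by
  have hyW : y ∈ W.1 := hy.mem_open W.1.2 (pt_mem W 𝔭)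
  have hle : P W y hyW ≤ 𝔭 := by
    have := (specializes_iff W _ _ hyW (pt_mem W 𝔭)).1 hy
    rwa [P_pt] at this
  have hge : 𝔭 ≤ P W y hyW := hmin.2 ⟨(W.2.primeIdealOf ⟨y, hyW⟩).isPrime, bot_le⟩ hle
  have heq : P W y hyW = 𝔭 := le_antisymm hle hge
  rw [← pt_P W y hyW]
  congr 1

theorem pt_lt_pt (W : X.affineOpens) {𝔭 𝔮 : Ideal Γ(X, W.1)} [h𝔭 : 𝔭.IsPrime] [h𝔮 : 𝔮.IsPrime]
    (h : 𝔭 < 𝔮) : pt W 𝔮 < pt W 𝔭 := by
  refine ⟨pt_specializes_pt W h.le, fun h2 => ?_⟩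
  have h3 : pt W 𝔮 ⤳ pt W 𝔭 := h2
  rw [specializes_iff W _ _ (pt_mem W 𝔮) (pt_mem W 𝔭), P_pt, P_pt] at h3
  exact h.not_ge h3

/-- No point of `Z' ∪ ⋃ Dᵢ` is a maximal point of `X`. -/
theorem false_of_isMax {I : Type u} (𝓓 : I → X.IdealSheafData)
    (hD : ∀ i, BlowUp.IsEffCartierIdeal (𝓓 i)) (Z' : Set X)
    (hcodim : ∀ z ∈ Z', (∀ y ∈ Z', y ⤳ z → y = z) →
      (2 : WithBot ℕ∞) ≤ ringKrullDim (X.presheaf.stalk z))
    (η : X) (hη : η ∈ Z' ∪ ⋃ i, ((𝓓 i).support : Set X)) (hmax : ∀ y : X, y ⤳ η → y = η) :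
    False := by
  rcases hη with hZ | hDj
  · have h2 := hcodim η hZ (fun y _ hy => hmax y hy)
    rw [AlgebraicGeometry.ringKrullDim_stalk_eq_coheight] at h2
    have h3 : Order.coheight η = 0 := by
      rw [Order.coheight_eq_zero]
      intro b hb
      exact le_of_eq (hmax b hb)
    rw [h3] at h2
    have h4 : ((2 : ℕ∞) : WithBot ℕ∞) ≤ ((0 : ℕ∞) : WithBot ℕ∞) := h2
    rw [WithBot.coe_le_coe] at h4
    exact absurd h4 (by norm_num)
  · obtain ⟨j, hj⟩ := Set.mem_iUnion.1 hDj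
    obtain ⟨W, hηW, e, he, hWe⟩ := hD j η
    have h1 : e ∈ P W η hηW :=
      ideal_le_P_of_mem_support (𝓓 j) W η hηW hj (hWe ▸ Ideal.mem_span_singleton_self e)
    have h2 := P_mem_minimalPrimes W η hηW hmax
    exact Set.disjoint_left.1 (Ideal.disjoint_nonZeroDivisors_of_mem_minimalPrimes h2) h1 he

/-- Strictness of the colon step. -/
theorem colon_ne_self [IsNoetherian X] (𝓩 𝓑 : X.IdealSheafData)
    (hB : BlowUp.IsEffCartierIdeal 𝓑) (z : X) (hz : z ∈ 𝓑.support) (hle : 𝓩 ≤ 𝓑)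
    (hnomax : ∀ η ∈ 𝓩.support, (∀ y : X, y ⤳ η → y = η) → False) :
    colon 𝓩 𝓑 (isFiniteTypeIdeal_of_isEffCartier 𝓑 hB) ≠ 𝓩 := by
  intro hcol
  have hmul := colon_mul_eq_of_le 𝓩 𝓑 hB hle
  rw [hcol] at hmul
  obtain ⟨W, hzW, g, hg, hWg⟩ := hB z
  have hN : IsNoetherianRing Γ(X, W.1) := IsLocallyNoetherian.component_noetherian W
  have hJ : 𝓩.ideal W ≤ Ideal.span {g} • 𝓩.ideal W := by
    have h1 : 𝓩.ideal W = 𝓩.ideal W * 𝓑.ideal W := by
      conv_lhs => rw [hmul]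
      rfl
    rw [smul_eq_mul, mul_comm, ← hWg, ← h1]
  obtain ⟨r, hr1, hr0⟩ := Submodule.exists_sub_one_mem_and_smul_eq_zero_of_fg_of_le_smul
    (Ideal.span {g}) (𝓩.ideal W) (IsNoetherian.noetherian _) hJ
  have hgq : g ∈ P W z hzW :=
    ideal_le_P_of_mem_support 𝓑 W z hzW hz (hWg ▸ Ideal.mem_span_singleton_self g)
  have hrq : r ∉ P W z hzW := by
    intro hr
    have h1 : r - 1 ∈ P W z hzW := by
      obtain ⟨c, hc⟩ := Ideal.mem_span_singleton'.1 hr1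
      rw [← hc]
      exact Ideal.mul_mem_left _ c hgq
    have h2 : (1 : Γ(X, W.1)) ∈ P W z hzW := by
      have := Ideal.sub_mem _ hr h1
      simpa using this
    exact (Ideal.ne_top_iff_one _).1 (W.2.primeIdealOf ⟨z, hzW⟩).isPrime.ne_top h2
  obtain ⟨𝔭, h𝔭, h𝔭z⟩ := Ideal.exists_minimalPrimes_le (bot_le : (⊥ : Ideal Γ(X, W.1)) ≤ P W z hzW)
  have h𝔭prime : 𝔭.IsPrime := h𝔭.1.1
  have hr𝔭 : r ∉ 𝔭 := fun h => hrq (h𝔭z h)
  have hJ𝔭 : 𝓩.ideal W ≤ 𝔭 := by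
    intro x hx
    have h1 : r * x ∈ 𝔭 := by
      have := hr0 x hx
      rw [smul_eq_mul] at this
      rw [this]
      exact 𝔭.zero_mem
    exact (h𝔭prime.mem_or_mem h1).resolve_left hr𝔭
  have hηsupp : pt W 𝔭 ∈ 𝓩.support :=
    mem_support_of_ideal_le_P 𝓩 W _ (pt_mem W 𝔭) (by rw [P_pt]; exact hJ𝔭)
  exact hnomax _ hηsupp (pt_isMax_of_mem_minimalPrimes W 𝔭 h𝔭)

/-- The decomposition, by induction on the ideal sheaf. -/
theorem exists_decomp [IsNoetherian X] {I : Type u} (𝓓 : I → X.IdealSheafData)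
    (hD : ∀ i, BlowUp.IsEffCartierIdeal (𝓓 i)) (hDint : ∀ i, IsIntegral (𝓓 i).subscheme)
    (T : Set X) (hT : ∀ η ∈ T, (∀ y : X, y ⤳ η → y = η) → False) (𝓩 : X.IdealSheafData) :
    (𝓩.support : Set X) ⊆ T →
      ∃ (a : I →₀ ℕ) (𝓨 : X.IdealSheafData),
        𝓩 = 𝓨 * a.prod (fun i n => 𝓓 i ^ n) ∧ (∀ i, ¬ 𝓨 ≤ 𝓓 i) := by
  have hwf : WellFoundedGT X.IdealSheafData := Groth.Agent.S4362.result X
  induction 𝓩 using hwf.induction with
  | ind 𝓩 ih =>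
    intro hsub
    by_cases h : ∃ i, 𝓩 ≤ 𝓓 i
    · obtain ⟨i, hi⟩ := h
      have hmul := colon_mul_eq_of_le 𝓩 (𝓓 i) (hD i) hi
      have := hDint i
      obtain ⟨zi⟩ : Nonempty (𝓓 i).subscheme := IsIntegral.nonempty
      have hzi : (𝓓 i).subschemeι zi ∈ (𝓓 i).support := by
        have h1 : (𝓓 i).subschemeι zi ∈ Set.range (𝓓 i).subschemeι := Set.mem_range_self _
        rw [(𝓓 i).range_subschemeι] at h1
        exact h1
      have hne := colon_ne_self 𝓩 (𝓓 i) (hD i) _ hzi hi (fun η hη => hT η (hsub hη))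
      set 𝓒 := colon 𝓩 (𝓓 i) (isFiniteTypeIdeal_of_isEffCartier (𝓓 i) (hD i)) with h𝓒
      have hle : 𝓩 ≤ 𝓒 := by
        conv_lhs => rw [hmul]
        exact mul_le_of_le_one_right' (le_top : 𝓓 i ≤ ⊤)
      have hlt : 𝓩 < 𝓒 := lt_of_le_of_ne hle (fun h => hne h.symm)
      have hsub' : (𝓒.support : Set X) ⊆ T :=
        fun w hw => hsub (Scheme.IdealSheafData.support_antitone hle hw)
      obtain ⟨a, 𝓨, ha, hnot⟩ := ih 𝓒 hlt hsub'
      refine ⟨a + Finsupp.single i 1, 𝓨, ?_, hnot⟩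
      have e : (a + Finsupp.single i 1).prod (fun i n => 𝓓 i ^ n) =
          a.prod (fun i n => 𝓓 i ^ n) * 𝓓 i := by
        rw [Finsupp.prod_add_index' (h := fun i n => 𝓓 i ^ n) (fun _ => pow_zero _)
          (fun _ _ _ => pow_add _ _ _),
          Finsupp.prod_single_index (h := fun i n => 𝓓 i ^ n) (pow_zero _), pow_one]
      rw [e, ← mul_assoc, ← ha]
      exact hmul
    · refine ⟨0, 𝓩, ?_, fun i hi => h ⟨i, hi⟩⟩
      rw [Finsupp.prod_zero_index, mul_one]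

/-- Points of the support of the residual ideal have codimension at least two. -/
theorem two_le_of_mem_support {I : Type u} (𝓓 : I → X.IdealSheafData)
    (hD : ∀ i, BlowUp.IsEffCartierIdeal (𝓓 i)) (hDint : ∀ i, IsIntegral (𝓓 i).subscheme)
    (Z' : Set X) (hZ' : IsClosed Z')
    (hcodim : ∀ z ∈ Z', (∀ y ∈ Z', y ⤳ z → y = z) →
      (2 : WithBot ℕ∞) ≤ ringKrullDim (X.presheaf.stalk z))
    (𝓨 : X.IdealSheafData) (hnot : ∀ i, ¬ 𝓨 ≤ 𝓓 i) (z : X) (hz : z ∈ 𝓨.support)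
    (hzT : z ∈ Z' ∪ ⋃ i, ((𝓓 i).support : Set X)) :
    (2 : WithBot ℕ∞) ≤ ringKrullDim (X.presheaf.stalk z) := by
  rw [AlgebraicGeometry.ringKrullDim_stalk_eq_coheight]
  rcases hzT with hZ | hDi
  · obtain ⟨y, hyZ, hyz, hymax⟩ := exists_maximal_generization Z' hZ' z hZ
    have h1 := hcodim y hyZ hymax
    rw [AlgebraicGeometry.ringKrullDim_stalk_eq_coheight] at h1
    refine h1.trans ?_
    rw [WithBot.coe_le_coe]
    exact Order.coheight_anti (show z ≤ y from hyz)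
  · obtain ⟨i, hi⟩ := Set.mem_iUnion.1 hDi
    obtain ⟨W, hzW, g, hg, hWg⟩ := hD i z
    have := hDint i
    have hprime : ((𝓓 i).ideal W).IsPrime :=
      Groth.Agent.S1659.isPrime_ideal_of_isIntegral (𝓓 i) W z hzW hi
    have hgq : (𝓓 i).ideal W ≤ P W z hzW := ideal_le_P_of_mem_support (𝓓 i) W z hzW hi
    have hYq : 𝓨.ideal W ≤ P W z hzW := ideal_le_P_of_mem_support 𝓨 W z hzW hz
    have hYg : ¬ 𝓨.ideal W ≤ (𝓓 i).ideal W := fun h =>
      hnot i (Groth.Agent.S1659.le_of_isIntegral 𝓨 (𝓓 i) W z hzW hi h)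
    have hlt1 : (𝓓 i).ideal W < P W z hzW :=
      lt_of_le_of_ne hgq (fun h => hYg (h ▸ hYq))
    obtain ⟨𝔭, h𝔭, h𝔭g⟩ :=
      Ideal.exists_minimalPrimes_le (bot_le : (⊥ : Ideal Γ(X, W.1)) ≤ (𝓓 i).ideal W)
    have h𝔭prime : 𝔭.IsPrime := h𝔭.1.1
    have hlt2 : 𝔭 < (𝓓 i).ideal W := by
      refine lt_of_le_of_ne h𝔭g (fun h => ?_)
      have h1 : g ∈ 𝔭 := by rw [h, hWg]; exact Ideal.mem_span_singleton_self g
      exact Set.disjoint_left.1 (Ideal.disjoint_nonZeroDivisors_of_mem_minimalPrimes h𝔭) h1 hg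
    have hqprime : (P W z hzW).IsPrime := (W.2.primeIdealOf ⟨z, hzW⟩).isPrime
    have h1 := pt_lt_pt W hlt1
    have h2 := pt_lt_pt W hlt2
    rw [pt_P] at h1
    have h3 := Order.coheight_add_one_le h1
    have h4 := Order.coheight_add_one_le h2
    have h5 : (2 : ℕ∞) ≤ Order.coheight z := by
      calc (2 : ℕ∞) = 0 + 1 + 1 := by norm_num
        _ ≤ Order.coheight (pt W 𝔭) + 1 + 1 := by gcongr; exact bot_le
        _ ≤ Order.coheight (pt W ((𝓓 i).ideal W)) + 1 := by gcongr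
        _ ≤ Order.coheight z := h3
    exact (WithBot.coe_le_coe.2 h5 : ((2 : ℕ∞) : WithBot ℕ∞) ≤ _)

theorem result (X : Scheme.{u}) [IsNoetherian X] (𝓩 : X.IdealSheafData)
    {I : Type u} (𝓓 : I → X.IdealSheafData) (hD : ∀ i, BlowUp.IsEffCartierIdeal (𝓓 i)) (hDint : ∀ i, IsIntegral (𝓓 i).subscheme)
    (Z' : Set ↥X) (hZ' : IsClosed Z')
    (hcodim : ∀ z ∈ Z', (∀ y ∈ Z', y ⤳ z → y = z) → (2 : WithBot ℕ∞) ≤ ringKrullDim ↑(X.presheaf.stalk z))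
    (hcover : (𝓩.support : Set ↥X) ⊆ Z' ∪ ⋃ i, ((𝓓 i).support : Set ↥X)) :
    ∃ a : I →₀ ℕ, 𝓩 ≤ a.prod (fun i n => 𝓓 i ^ n) ∧
      ∃ U : X.Opens, (a.prod (fun i n => 𝓓 i ^ n)).comap U.ι = 𝓩.comap U.ι ∧
        ∀ z ∈ (𝓩.support : Set ↥X) \ (U : Set ↥X), (∀ y ∈ (𝓩.support : Set ↥X) \ (U : Set ↥X), y ⤳ z → y = z) →
          (2 : WithBot ℕ∞) ≤ ringKrullDim ↑(X.presheaf.stalk z) := by
  obtain ⟨a, 𝓨, heq, hnot⟩ := exists_decomp 𝓓 hD hDint (Z' ∪ ⋃ i, ((𝓓 i).support : Set X))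
    (fun η hη hmax => false_of_isMax 𝓓 hD Z' hcodim η hη hmax) 𝓩 hcover
  refine ⟨a, ?_, ⟨(𝓨.support : Set X)ᶜ, 𝓨.support.isClosed.isOpen_compl⟩, ?_, ?_⟩
  · conv_lhs => rw [heq]
    exact mul_le_of_le_one_left' (le_top : 𝓨 ≤ ⊤)
  · apply Groth.Agent.Lib.IdealExtBlowUp68.comap_ι_eq_of_forall_ideal_eq
    intro V hV
    have hdisj : Disjoint (𝓨.support : Set X) (V.1 : Set X) := by
      rw [Set.disjoint_left]
      intro w hw hwV
      exact hV hwV hw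
    conv_rhs => rw [heq]
    rw [Scheme.IdealSheafData.ideal_mul, Pi.mul_apply,
      Groth.Agent.Lib.IdealExt68.ideal_eq_top_of_disjoint_support 𝓨 V hdisj, Ideal.top_mul]
  · rintro z ⟨hz𝓩, hzU⟩ -
    have hzY : z ∈ 𝓨.support := by
      by_contra h
      exact hzU h
    exact two_le_of_mem_support 𝓓 hD hDint Z' hZ' hcodim 𝓨 hnot z hzY (hcover hz𝓩)

end Groth.Agent.S8909
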