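import Groth.Statements.S8911
import Groth.Agent.Lib.StrictTransform82
import Groth.Agent.Lib.H72PullbackQCoh
import Groth.Agent.Lib.SupportTensor
import Groth.Agent.S8872

set_option autoImplicit false
universe u
open CategoryTheory CategoryTheory.Limits AlgebraicGeometry TopologicalSpace
open SDiv

namespace Groth.Agent.S8911

open Groth.Agent.Lib.ModStalk Groth.Agent.Lib.ModStalkLin Groth.Agent.Lib.FreeModSch
  Groth.Agent.Lib.FreeModStalk Groth.Agent.Lib.LocFreeRank Groth.Agent.Lib.RestrictStalk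
  Groth.Agent.Lib.ModStalkIso Groth.Agent.Lib.QCohStalk Groth.Agent.Lib.Fitting82
  Groth.Agent.Lib.StrictTransform82


/-- Let S be a scheme, F a quasi-coherent O_S-module of finite type, k ≥ 0, b : S' ⟶ S a blowing up of S
in the closed subscheme Z_k cut out by Fit_k(F), and π : b^*F ⟶ G the strict transform of F along b.
Then G can locally be generated by at most k sections. -/
theorem result (S : Scheme.{u}) (F : S.Modules) (hF : Coh.IsQCoh F) (hft : CohB1.IsFT F)
    (k : ℕ) {S' : Scheme.{u}} (b : S' ⟶ S) (hb : BlowUp.IsBlowUp b (Fitt.sheafIdeal F k)) (G : S'.Modules)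
    (π : (Scheme.Modules.pullback b).obj F ⟶ G) (hG : BlowUp.IsStrictTransform b (Fitt.sheafIdeal F k) F G π) (s' : ↥S') :
    ∃ U : S'.Opens, s' ∈ U ∧ ∃ q : FlatMod.freeMod (↑U) k ⟶ G.restrict U.ι, Epi q := by
  classical
  haveI : F.IsQuasicoherent := hF
  haveI : F.IsFiniteType := hft
  haveI : ((Scheme.Modules.pullback b).obj F).IsQuasicoherent :=
    Groth.Agent.Lib.H72PullbackQCoh.isQuasicoherent_pullback b F
  haveI : ((Scheme.Modules.pullback b).obj F).IsFiniteType :=
    Groth.Agent.Lib.SupportTensor.isFiniteType_pullback b F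
  have hcomap : (Fitt.sheafIdeal F k).comap b =
      Fitt.sheafIdeal ((Scheme.Modules.pullback b).obj F) k :=
    Groth.Agent.S8872.result b F hF hft k
  haveI : Epi π := hG.1
  obtain ⟨U', hs'U', t, -, ht⟩ := hb.1 s'
  have hU' : IsAffineOpen U'.1 := U'.2
  haveI : Module.Finite Γ(S', U'.1) Γ((Scheme.Modules.pullback b).obj F, U'.1) :=
    Groth.Agent.Lib.CohFinite.finite_sections_of_isAffineOpen _ hU'
  have hfit : Fitt.ideal Γ(S', U'.1) Γ((Scheme.Modules.pullback b).obj F, U'.1) k =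
      Ideal.span {t} := by
    rw [← sheafIdeal_ideal ((Scheme.Modules.pullback b).obj F) k U', ← hcomap, ht]
  set π' := appLinear π U'.1 with hπ'
  set T := LinearMap.ker π' with hT
  have hkerle : LinearMap.ker (t • (LinearMap.id : Γ((Scheme.Modules.pullback b).obj F, U'.1)
      →ₗ[Γ(S', U'.1)] Γ((Scheme.Modules.pullback b).obj F, U'.1))) ≤ T := by
    intro m hm
    rw [LinearMap.mem_ker, LinearMap.smul_apply, LinearMap.id_apply] at hm
    rw [hT, LinearMap.mem_ker, hπ', appLinear_apply]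
    apply (hG.2 U' m).mpr
    rw [killedByPowerNear_iff _ _ U' t ht]
    exact ⟨1, by rw [pow_one]; exact hm⟩
  have htop : Fitt.ideal Γ(S', U'.1) (Γ((Scheme.Modules.pullback b).obj F, U'.1) ⧸ T) k = ⊤ :=
    ideal_quotient_eq_top_of_ker_smul_le k t hfit T hkerle
  -- the prime of `s'`
  set p := (hU'.primeIdealOf ⟨s', hs'U'⟩).asIdeal with hp
  have hnle : ¬ Fitt.ideal Γ(S', U'.1) (Γ((Scheme.Modules.pullback b).obj F, U'.1) ⧸ T) k ≤ p := by
    rw [htop]
    intro h
    exact (hU'.primeIdealOf ⟨s', hs'U'⟩).isPrime.ne_top (top_le_iff.mp h)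
  obtain ⟨g, hgp, γ, hγ⟩ := (not_le_iff_exists_span_away k p).mp hnle
  obtain ⟨x, hx⟩ := exists_span_mk_one g γ hγ
  choose n hn using fun i => Submodule.Quotient.mk_surjective T (x i)
  -- the sections
  let τ : Fin k → Γ(G, U'.1) := fun i => π' (n i)
  let W : S'.Opens := S'.basicOpen g
  have hWU' : W ≤ U'.1 := S'.basicOpen_le g
  have hs'W : s' ∈ W := by
    exact (mem_basicOpen_iff_notMem_primeIdealOf hU' ⟨s', hs'U'⟩ g).mpr hgp
  refine ⟨W, hs'W, ofSections (G.restrict W.ι) (sectionsOn G τ hWU'), ?_⟩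
  apply epi_of_stalk_surjective
  intro y
  change Function.Surjective (stalkLin _ y)
  rw [surjective_stalkLin_ofSections_iff, span_sectionsOn_eq_top_iff G τ hWU' y, eq_top_iff]
  rintro ζ -
  have hyU' : y.1 ∈ U'.1 := hWU' y.2
  have hgunit : IsUnit (S'.presheaf.germ U'.1 y.1 hyU' g) :=
    (S'.mem_basicOpen g y.1 hyU').mp y.2
  -- `ζ` comes from the stalk of `P`
  obtain ⟨ξ, rfl⟩ := stalkLin_surjective_of_epi π y.1 ζ
  obtain ⟨h, m, hh, hhm⟩ := exists_germ_smul_eq_germ _ hU' y.1 hyU' ξ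
  -- clear denominators
  obtain ⟨e, he⟩ := exists_pow_smul_mem_span_of_localized g x hx (T.mkQ m)
  obtain ⟨a, ha⟩ := (Submodule.mem_span_range_iff_exists_fun _).mp he
  have hmem : g ^ e • m - ∑ i, a i • n i ∈ T := by
    rw [← Submodule.Quotient.mk_eq_zero, Submodule.Quotient.mk_sub, Submodule.Quotient.mk_smul,
      ← Submodule.mkQ_apply, ← Submodule.mkQ_apply, map_sum, sub_eq_zero, ← ha]
    apply Finset.sum_congr rfl
    intro i _
    rw [map_smul, Submodule.mkQ_apply, hn i]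
  rw [hT, LinearMap.mem_ker, map_sub, map_smul, map_sum, sub_eq_zero] at hmem
  -- germs
  have hgerm : S'.presheaf.germ U'.1 y.1 hyU' g ^ e • G.presheaf.germ U'.1 y.1 hyU' (π' m) =
      ∑ i, S'.presheaf.germ U'.1 y.1 hyU' (a i) • G.presheaf.germ U'.1 y.1 hyU' (τ i) := by
    rw [← map_pow, ← germ_smul, hmem, map_sum]
    apply Finset.sum_congr rfl
    intro i _
    rw [map_smul, germ_smul]
  have h1 : G.presheaf.germ U'.1 y.1 hyU' (π' m) ∈ Submodule.span (S'.presheaf.stalk y.1)
      (Set.range fun i => G.presheaf.germ U'.1 y.1 hyU' (τ i)) := by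
    obtain ⟨u, hu⟩ := hgunit.pow e
    have : G.presheaf.germ U'.1 y.1 hyU' (π' m) =
        (↑(u⁻¹) : S'.presheaf.stalk y.1) •
          ((u : S'.presheaf.stalk y.1) • G.presheaf.germ U'.1 y.1 hyU' (π' m)) := by
      rw [smul_smul, Units.inv_mul, one_smul]
    rw [this, hu, hgerm]
    apply Submodule.smul_mem
    apply Submodule.sum_mem
    intro i _
    exact Submodule.smul_mem _ _ (Submodule.subset_span ⟨i, rfl⟩)
  obtain ⟨v, hv⟩ := hh
  have h2 : stalkLin π y.1 ξ = (↑(v⁻¹) : S'.presheaf.stalk y.1) •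
      G.presheaf.germ U'.1 y.1 hyU' (π' m) := by
    have h3 : stalkLin π y.1 (S'.presheaf.germ U'.1 y.1 hyU' h • ξ) =
        G.presheaf.germ U'.1 y.1 hyU' (π' m) := by
      rw [hhm, stalkLin_germ]
      rfl
    rw [map_smul, ← hv] at h3
    rw [← h3, smul_smul, Units.inv_mul, one_smul]
  rw [h2]
  exact Submodule.smul_mem _ _ h1

end Groth.Agent.S8911
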