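import Groth.Statements.S8913
import Groth.Agent.Lib.StrictTransform82C
import Groth.Agent.Lib.Fitting82T
import Groth.Agent.Lib.Fitting82U
import Groth.Agent.Lib.H90OXModExact
import Groth.Agent.Lib.QCohKernel13
import Groth.Agent.Lib.H90QCohLocalization

set_option autoImplicit false
universe u
open CategoryTheory CategoryTheory.Limits AlgebraicGeometry TopologicalSpace
open SDiv

namespace Groth.Agent.S8913

open Groth.Agent.Lib.Fitting82 Groth.Agent.Lib.StrictTransform82

set_option maxHeartbeats 1000000 in


/-- Let X be a scheme, F a finitely presented O_X-module and U ⊆ X an open subscheme which is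
scheme-theoretically dense and over which F is locally free of constant finite rank r. Then: (1)
Fit_r(F) is of finite type with support disjoint from U, so a blowing up b : X' ⟶ X of X in Fit_r(F)
is U-admissible; (2) the strict transform G of F along such b is locally free of rank r; (3) the
kernel of the surjection b^*F ⟶ G is finitely presented and restricts to zero over b⁻¹U. This row
does not assert that b^*F and the kernel are perfect of tor dimension at most one. -/
theorem result (X : Scheme.{u}) (F : X.Modules) (hF : CohB1.IsFP F)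
    (U : X.Opens) (hU : CInt.IsSchematicallyDense U) (r : ℕ) (hfree : FlatMod.IsFinLocFreeOfRank r (F.restrict U.ι)) :
    BlowUp.IsAdmissibleFor U (Fitt.sheafIdeal F r) ∧
      ∀ (X' : Scheme.{u}) (b : X' ⟶ X), BlowUp.IsBlowUp b (Fitt.sheafIdeal F r) →
        ∀ (G : X'.Modules) (π : (Scheme.Modules.pullback b).obj F ⟶ G), BlowUp.IsStrictTransform b (Fitt.sheafIdeal F r) F G π →
          FlatMod.IsFinLocFreeOfRank r G ∧ CohB1.IsFP (kernel π) ∧ IsZero ((kernel π).restrict (b ⁻¹ᵁ U).ι) := by
  classical
  haveI hFP : SheafOfModules.IsFinitePresentation (R := X.ringCatSheaf) F := hF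
  haveI hFq : F.IsQuasicoherent := inferInstance
  haveI hFt : F.IsFiniteType := inferInstance
  -- bases of the stalks over `U`
  have hbU : ∀ y : X, y ∈ U →
      Nonempty (Module.Basis (Fin r) (X.presheaf.stalk y) (F.presheaf.stalk y)) := by
    intro y hy
    let z : U.toScheme := ⟨y, hy⟩
    obtain ⟨bz⟩ := basis_of_isFinLocFreeOfRank _ r hfree z
    exact basis_of_basis_restrict U.ι F z bz
  -- the support of `Fit_r` misses `U`
  have hdisj : Disjoint ((Fitt.sheafIdeal F r).support : Set X) (U : Set X) := by
    rw [Set.disjoint_left]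
    intro y hy hyU
    obtain ⟨bF⟩ := hbU y hyU
    exact (notMem_support_sheafIdeal_iff F y r).mpr
      (ideal_eq_top_of_span bF bF.span_eq r le_rfl) hy
  -- the lower Fitting ideals vanish
  have hlow : ∀ (V : X.Opens) (_ : IsAffineOpen V) (j : ℕ), j < r →
      Fitt.ideal Γ(X, V) Γ(F, V) j = ⊥ := by
    intro V hV j hj
    apply ideal_sections_eq_bot_of_schematicallyDense F hV U hU j
    intro y hy
    obtain ⟨bF⟩ := hbU y hy
    exact ideal_eq_bot_of_basis bF j hj
  -- bases of the stalks off the support of `Fit_r`
  have hbasis : ∀ z : X, z ∉ (Fitt.sheafIdeal F r).support →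
      Nonempty (Module.Basis (Fin r) (X.presheaf.stalk z) (F.presheaf.stalk z)) := by
    intro z hz
    rw [basis_iff_ideal]
    constructor
    · intro j hj
      obtain ⟨_, ⟨V, hV, rfl⟩, hzV, -⟩ :=
        X.isBasis_affineOpens.exists_subset_of_mem_open (Set.mem_univ z) isOpen_univ
      replace hV : IsAffineOpen V := hV
      rw [ideal_stalk F hV ⟨z, hzV⟩ j, hlow V hV j hj, Ideal.map_bot]
    · intro j hj
      rw [eq_top_iff, ← (notMem_support_sheafIdeal_iff F z r).mp hz]
      exact ideal_mono_index hj
  refine ⟨⟨?_, hdisj⟩, ?_⟩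
  · intro V
    rw [sheafIdeal_ideal]
    haveI := Groth.Agent.Lib.H90OXModFP.finitePresentation_sections F V.2
    exact ideal_fg_of_finitePresentation r
  · intro X' b hb G π hG
    have hGfree : FlatMod.IsFinLocFreeOfRank r G :=
      isFinLocFreeOfRank_strictTransform_of_basis X F hFq hFt r hbasis b hb G π hG
    haveI : Epi π := hG.1
    refine ⟨hGfree, ?_, ?_⟩
    · -- the kernel is finitely presented
      have hGlf : FlatMod.IsFinLocFree G := fun x => by
        obtain ⟨W, hx, e⟩ := hGfree x
        exact ⟨W, r, hx, e⟩
      haveI : ((Scheme.Modules.pullback b).obj F).IsQuasicoherent :=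
        Groth.Agent.Lib.H72PullbackQCoh.isQuasicoherent_pullback b F
      haveI hPfp : SheafOfModules.IsFinitePresentation (R := X'.ringCatSheaf)
          ((Scheme.Modules.pullback b).obj F) := isFinitePresentation_pullback b F
      haveI : G.IsQuasicoherent := Groth.Agent.Lib.H90Invertible.isQuasicoherent_of_isFinLocFree hGlf
      haveI : (kernel π).IsQuasicoherent := Groth.Agent.Lib.QCohKernel13.isQuasicoherent_kernel π
      apply Groth.Agent.Lib.H90OXModAffine.isFinitePresentation_of_forall_affine (kernel π)
      intro V
      haveI : Module.FinitePresentation Γ(X', V.1) Γ((Scheme.Modules.pullback b).obj F, V.1) :=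
        Groth.Agent.Lib.H90OXModFP.finitePresentation_sections _ V.2
      haveI : Module.Projective Γ(X', V.1) Γ(G, V.1) :=
        projective_sections_of_isFinLocFree G hGlf V.2
      refine Module.finitePresentation_of_projective_of_exact
        (appLinear (kernel.ι π) V.1) (appLinear π V.1)
        (Groth.Agent.Lib.H90OXModSections.injective_app_of_mono (kernel.ι π) V.1)
        (Groth.Agent.Lib.H90OXModExact.surjective_app_of_epi π V.2) ?_
      intro n
      constructor
      · intro hn
        obtain ⟨t, ht⟩ := Groth.Agent.Lib.QCohKernel13.exists_kernel_ι_app_eq π V.1 n hn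
        exact ⟨t, ht⟩
      · rintro ⟨t, rfl⟩
        exact Groth.Agent.Lib.QCohKernel13.kernel_ι_app_eq_zero π V.1 t
    · -- the kernel vanishes over `b⁻¹ U`
      apply (Groth.Agent.Lib.H90QCohLocalization.isZero_restrict_iff (kernel π) (b ⁻¹ᵁ U)).mpr
      intro y hy hyU
      apply hy
      have key : ∀ γ : (kernel π).presheaf.stalk y, γ = 0 := by
        intro γ
        obtain ⟨W, hyW, m, rfl⟩ := TopCat.Presheaf.exists_germ_eq (kernel π).presheaf γ
        obtain ⟨_, ⟨V, hV, rfl⟩, hyV, hVW⟩ :=
          X'.isBasis_affineOpens.exists_subset_of_mem_open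
            (show y ∈ (W ⊓ b ⁻¹ᵁ U : X'.Opens) from ⟨hyW, hyU⟩) (W ⊓ b ⁻¹ᵁ U).isOpen
        replace hV : IsAffineOpen V := hV
        have hVW' : V ≤ W := fun v hv => (hVW hv).1
        have hVU : V ≤ b ⁻¹ᵁ U := fun v hv => (hVW hv).2
        have hgerm := TopCat.Presheaf.germ_res_apply (kernel π).presheaf (homOfLE hVW') y hyV m
        rw [← hgerm]
        have hm' : (kernel π).presheaf.map (homOfLE hVW').op m = 0 := by
          apply Groth.Agent.Lib.H90OXModSections.injective_app_of_mono (kernel.ι π) V
          rw [map_zero]
          have h0 := Groth.Agent.Lib.QCohKernel13.kernel_ι_app_eq_zero π V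
            ((kernel π).presheaf.map (homOfLE hVW').op m)
          rw [hG.2 ⟨V, hV⟩] at h0
          have htop : ((Fitt.sheafIdeal F r).comap b).ideal ⟨V, hV⟩ = ⊤ := by
            apply ideal_eq_top_of_disjoint_support
            rw [Set.disjoint_left]
            intro v hv hvV
            rw [Scheme.IdealSheafData.support_comap] at hv
            exact Set.disjoint_left.mp hdisj hv (hVU hvV)
          have htop' : ((Fitt.sheafIdeal F r).comap b).ideal ⟨V, hV⟩ = Ideal.span {1} := by
            rw [htop, Ideal.span_singleton_one]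
          rw [killedByPowerNear_iff _ _ ⟨V, hV⟩ 1 htop'] at h0
          obtain ⟨e, he⟩ := h0
          rwa [one_pow, one_smul] at he
        rw [hm', map_zero]
      exact ⟨fun α β => by rw [key α, key β]⟩

end Groth.Agent.S8913
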