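import Groth.Statements.S8914
import Groth.Agent.Lib.IdealMod2

set_option autoImplicit false
universe u
open CategoryTheory CategoryTheory.Limits AlgebraicGeometry TopologicalSpace
open SDiv

namespace Groth.Agent.S8914

/-- Let S be a scheme and D ⊆ S a closed subscheme with quasi-coherent ideal sheaf 𝓘. Then the ideal
sheaf of D is an invertible O_S-module (that is, D is an effective Cartier divisor) if and only if
every point has an affine open neighbourhood Spec A in S with D ∩ Spec A = Spec A/(f) for a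
nonzerodivisor f ∈ A. -/
theorem result {S : Scheme.{u}} (𝓘 : S.IdealSheafData) :
    PicF.IsInvertible (ClSub.idealMod 𝓘) ↔ BlowUp.IsEffCartierIdeal 𝓘 := by
  open Groth.Agent.Lib.IdealMod Groth.Agent.Lib.H90Invertible in
  rw [isInvertible_iff_exists_isGen]
  constructor
  · intro h x
    obtain ⟨V, hxV, s, hs⟩ := h x
    obtain ⟨U, hU, hxU, hUV⟩ := Opens.isBasis_iff_nbhd.mp S.isBasis_affineOpens hxV
    have hs' := hs.mono hUV
    obtain ⟨h1, h2⟩ := span_singleton_of_isGen_idealMod 𝓘 ⟨U, hU⟩ _ hs'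
    exact ⟨⟨U, hU⟩, hxU, _, h1, h2⟩
  · intro h x
    obtain ⟨U, hxU, f, hf, hI⟩ := h x
    have hfI : f ∈ 𝓘.ideal U := by rw [hI]; exact Ideal.mem_span_singleton_self f
    obtain ⟨s, hs⟩ := exists_idealFn_eq 𝓘 U hfI
    exact ⟨U.1, hxU, s, isGen_idealMod_of_span_singleton 𝓘 U f hf hI s hs⟩

end Groth.Agent.S8914
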