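import Groth.Statements.S8915
import Groth.Agent.Lib.H77OmegaFT
import Groth.Agent.Lib.Fitting82E
import Mathlib.AlgebraicGeometry.Morphisms.FormallyUnramified

set_option autoImplicit false
universe u
open CategoryTheory CategoryTheory.Limits AlgebraicGeometry TopologicalSpace
open SDiv

namespace Groth.Agent.S8915

section helpers

open Groth.Agent.Lib.H77OmegaSections Groth.Agent.Lib.H77OmegaStalk Groth.Agent.Lib.H77OmegaFT

variable {X S : Scheme.{u}} (f : X ⟶ S)

/-- if `Γ(S,U) → Γ(X,W)` is formally unramified for an affine open `W` mapping into the affine `U`,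
then `W.ι ≫ f` is formally unramified. -/
theorem formallyUnramified_ι_comp {U : S.Opens} {W : X.Opens} (hU : IsAffineOpen U)
    (hW : IsAffineOpen W) (e : W ≤ f ⁻¹ᵁ U) (h : (f.appLE U W e).hom.FormallyUnramified) :
    FormallyUnramified (W.ι ≫ f) := by
  rw [HasRingHomProperty.iff_exists_appLE (P := @FormallyUnramified)
    (RingHom.FormallyUnramified.stableUnderComposition.stableUnderCompositionWithLocalizationAway
      RingHom.FormallyUnramified.holdsForLocalizationAway).1]
  intro y
  have hW' : IsAffineOpen (⊤ : W.toScheme.Opens) := by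
    have : IsAffine W.toScheme := hW
    exact isAffineOpen_top _
  have e2 : (⊤ : W.toScheme.Opens) ≤ W.ι ⁻¹ᵁ W := by
    intro z _
    exact z.2
  have e'' : (⊤ : W.toScheme.Opens) ≤ (W.ι ≫ f) ⁻¹ᵁ U := by
    intro z _
    exact e z.2
  refine ⟨⟨U, hU⟩, ⟨⊤, hW'⟩, trivial, e'', ?_⟩
  have hcomp : (W.ι ≫ f).appLE U ⊤ e'' = f.appLE U W e ≫ W.ι.appLE W ⊤ e2 :=
    (Scheme.Hom.appLE_comp_appLE _ _ _ _ _ _ _).symm
  rw [hcomp, CommRingCat.hom_comp]
  refine RingHom.FormallyUnramified.stableUnderComposition _ _ h ?_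
  apply RingHom.FormallyUnramified.of_surjective
  rw [Scheme.Opens.ι_appLE]
  have hle : W ≤ W.ι ''ᵁ ⊤ := W.ι_image_top.ge
  intro y
  refine ⟨X.presheaf.map (homOfLE hle).op y, ?_⟩
  change (X.presheaf.map (homOfLE hle).op ≫ X.presheaf.map (homOfLE _).op) y = y
  rw [← Functor.map_comp]
  change X.presheaf.map (𝟙 _) y = y
  rw [X.presheaf.map_id]
  rfl



open Groth.Agent.Lib.H77OmegaSections Groth.Agent.Lib.H77OmegaStalk Groth.Agent.Lib.H77OmegaFT
  Groth.Agent.Lib.QCohStalk

variable {X S : Scheme.{u}} (f : X ⟶ S) [LocallyOfFiniteType f] [QuasiSeparated f]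

omit [LocallyOfFiniteType f] [QuasiSeparated f] in
theorem fu_of_comp_bijective {R S' T : Type u} [CommRing R] [CommRing S'] [CommRing T]
    (φ : R →+* S') (ψ : S' →+* T) (χ : R →+* T) (hψ : Function.Bijective ψ)
    (h : ∀ r, χ r = ψ (φ r)) (hχ : χ.FormallyUnramified) : φ.FormallyUnramified := by
  let e := RingEquiv.ofBijective ψ hψ
  have h2 : φ = (e.symm : T →+* S').comp χ := by
    ext r
    simp only [RingHom.coe_comp, RingHom.coe_coe, Function.comp_apply, h]
    exact (e.symm_apply_apply (φ r)).symm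
  rw [h2]
  refine RingHom.FormallyUnramified.stableUnderComposition _ _ hχ ?_
  exact RingHom.FormallyUnramified.of_surjective e.symm.surjective

set_option backward.isDefEq.respectTransparency false in
theorem subsingleton_stalk_of_formallyUnramified (x : X) (U : X.Opens) (hxU : x ∈ U)
    (hg : FormallyUnramified (U.ι ≫ f)) : Subsingleton ((Omega.sheaf f).presheaf.stalk x) := by
  letI := (f.stalkMap x).hom.toAlgebra
  rw [(stalk_main f x).2]
  change (f.stalkMap x).hom.FormallyUnramified
  let x' : U.toScheme := ⟨x, hxU⟩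
  have h1 : ((U.ι ≫ f).stalkMap x').hom.FormallyUnramified :=
    FormallyUnramified.stalkMap (U.ι ≫ f) x'
  have hc := Scheme.Hom.stalkMap_comp U.ι f x'
  refine fu_of_comp_bijective (f.stalkMap x).hom (U.ι.stalkMap x').hom
    ((U.ι ≫ f).stalkMap x').hom (ConcreteCategory.bijective_of_isIso (U.ι.stalkMap x')) ?_ h1
  intro r
  rw [hc]
  rfl



open Groth.Agent.Lib.H77OmegaSections Groth.Agent.Lib.H77OmegaStalk Groth.Agent.Lib.H77OmegaFT
  Groth.Agent.Lib.QCohStalk

variable {X S : Scheme.{u}} (f : X ⟶ S) [LocallyOfFiniteType f] [QuasiSeparated f]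

theorem exists_kill {B M : Type u} [CommRing B] [AddCommGroup M] [Module B M] [Module.Finite B M]
    (q : Ideal B) [q.IsPrime] (h : ∀ m : M, ∃ r ∈ q.primeCompl, r • m = 0) :
    ∃ r, r ∉ q ∧ ∀ m : M, r • m = 0 := by
  have h1 : (⟨q, inferInstance⟩ : PrimeSpectrum B) ∉ Module.support B M := by
    rw [Module.notMem_support_iff']
    intro m
    obtain ⟨r, hr, h0⟩ := h m
    exact ⟨r, hr, h0⟩
  rw [Module.mem_support_iff_of_finite, SetLike.not_le_iff_exists] at h1
  obtain ⟨r, hr, hrq⟩ := h1
  exact ⟨r, hrq, fun m => Module.mem_annihilator.mp hr m⟩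

theorem formallyUnramified_away {A B Br : Type u} [CommRing A] [CommRing B] [CommRing Br]
    [Algebra A B] [Algebra B Br] [Algebra A Br] [IsScalarTower A B Br] (r : B)
    [IsLocalization.Away r Br] (h : ∀ ω : Ω[B⁄A], r • ω = 0) : Algebra.FormallyUnramified A Br := by
  constructor
  rw [IsLocalizedModule.subsingleton_iff (Submonoid.powers r) (KaehlerDifferential.map A A B Br)]
  intro ω
  exact ⟨r, Submonoid.mem_powers r, h ω⟩

theorem exists_formallyUnramified_of_subsingleton_stalk (x : X)
    (h : Subsingleton ((Omega.sheaf f).presheaf.stalk x)) :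
    ∃ U : X.Opens, x ∈ U ∧ FormallyUnramified (U.ι ≫ f) := by
  obtain ⟨U, V, hU, hV, e, hxV⟩ := exists_affine_charts f x
  let xV : V := ⟨x, hxV⟩
  letI iAB : Algebra Γ(S, U) Γ(X, V) := (f.appLE U V e).hom.toAlgebra
  have hft : Algebra.FiniteType Γ(S, U) Γ(X, V) := f.finiteType_appLE hU hV e
  have h1 := (subsingleton_stalk_iff f hU hV e xV).mp h
  obtain ⟨r, hrq, hr⟩ := exists_kill (hV.primeIdealOf xV).asIdeal h1
  have e' : X.basicOpen r ≤ f ⁻¹ᵁ U := (X.basicOpen_le r).trans e
  have hxr : x ∈ X.basicOpen r := by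
    rw [X.mem_basicOpen r x hxV]
    letI := X.presheaf.algebra_section_stalk xV
    have := hV.isLocalization_stalk xV
    exact (IsLocalization.AtPrime.isUnit_to_map_iff (X.presheaf.stalk (xV : X))
      (hV.primeIdealOf xV).asIdeal r).mpr hrq
  refine ⟨X.basicOpen r, hxr, formallyUnramified_ι_comp f hU (hV.basicOpen r) e' ?_⟩
  letI iAr : Algebra Γ(S, U) Γ(X, X.basicOpen r) := (f.appLE U (X.basicOpen r) e').hom.toAlgebra
  have t : IsScalarTower Γ(S, U) Γ(X, V) Γ(X, X.basicOpen r) := by
    refine IsScalarTower.of_algebraMap_eq' ?_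
    change (f.appLE U (X.basicOpen r) e').hom =
      (X.presheaf.map (homOfLE (X.basicOpen_le r)).op).hom.comp (f.appLE U V e).hom
    rw [← CommRingCat.hom_comp, Scheme.Hom.appLE_map]
  have := hV.isLocalization_basicOpen r
  exact formallyUnramified_away (A := Γ(S, U)) (B := Γ(X, V)) (Br := Γ(X, X.basicOpen r)) r hr


end helpers


/-- Let f : X ⟶ S be locally of finite type and quasi-separated. Then the closed subset of X defined by
the Fitting ideal Fit_0(Ω_{X/S}) is exactly the set of points at which f is not unramified, i.e.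
which have no open neighbourhood on which f is formally unramified. The published statement does not
assume f quasi-separated; this row does, because the module Ω_{X/S} used here is defined for
quasi-separated f. -/
theorem result {X S : Scheme.{u}} (f : X ⟶ S) [LocallyOfFiniteType f] [QuasiSeparated f]
    (x : ↥X) :
    x ∈ (Fitt.sheafIdeal (Omega.sheaf f) 0).support ↔ ¬ ∃ U : X.Opens, x ∈ U ∧ FormallyUnramified (U.ι ≫ f) := by
  have hsupp := Groth.Agent.Lib.Fitting82.support_sheafIdeal_zero (Omega.sheaf f)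
  have hmem : x ∈ (Fitt.sheafIdeal (Omega.sheaf f) 0).support ↔
      ¬ Subsingleton ((Omega.sheaf f).presheaf.stalk x) := by
    rw [← SetLike.mem_coe, hsupp]
    rfl
  rw [hmem]
  refine not_congr ⟨exists_formallyUnramified_of_subsingleton_stalk f x, ?_⟩
  rintro ⟨U, hxU, hg⟩
  exact subsingleton_stalk_of_formallyUnramified f x U hxU hg

end Groth.Agent.S8915
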