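import Groth.Statements.S8917
import Groth.Agent.Lib.Fitting82E
import Groth.Agent.Lib.Fitting82D
import Groth.Agent.Lib.H77OmegaFT
import Groth.Agent.Lib.IdealComap
import Mathlib.RingTheory.Kaehler.TensorProduct
import Mathlib.Algebra.Category.Ring.Constructions

set_option autoImplicit false
universe u
open CategoryTheory CategoryTheory.Limits AlgebraicGeometry TopologicalSpace
open SDiv

namespace Groth.Agent.S8917

open Groth.Agent.Lib.Fitting82 Groth.Agent.Lib.H77OmegaSections Groth.Agent.Lib.H77OmegaStalk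
  Groth.Agent.Lib.H77OmegaFT

set_option maxHeartbeats 800000 in
/-- The affine-local statement: on `W = V ×_U U'` the Fitting ideals of `Ω_{X'/S'}` are the
extensions of those of `Ω_{X/S}` on `V`. -/
theorem key {X S S' : Scheme.{u}} (f : X ⟶ S) [LocallyOfFiniteType f] [QuasiSeparated f]
    (g : S' ⟶ S) (i : ℕ) {U : S.Opens} {V : X.Opens} {U' : S'.Opens} (hU : IsAffineOpen U)
    (hV : IsAffineOpen V) (hU' : IsAffineOpen U') (hVU : V ≤ f ⁻¹ᵁ U) (hU'U : U' ≤ g ⁻¹ᵁ U)
    (W : (pullback f g).Opens)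
    (hWdef : W = (pullback.fst f g) ⁻¹ᵁ V ⊓ (pullback.snd f g) ⁻¹ᵁ U')
    (hW : IsAffineOpen W) (hWV : W ≤ (pullback.fst f g) ⁻¹ᵁ V)
    (hWU' : W ≤ (pullback.snd f g) ⁻¹ᵁ U') :
    Fitt.ideal Γ(pullback f g, W) Γ(Omega.sheaf (pullback.snd f g), W) i =
      (Fitt.ideal Γ(X, V) Γ(Omega.sheaf f, V) i).map ((pullback.fst f g).appLE V W hWV).hom := by
  letI alg1 : Algebra Γ(S, U) Γ(X, V) := (f.appLE U V hVU).hom.toAlgebra
  letI alg2 : Algebra Γ(S, U) Γ(S', U') := (g.appLE U U' hU'U).hom.toAlgebra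
  letI alg3 : Algebra Γ(S', U') Γ(pullback f g, W) :=
    ((pullback.snd f g).appLE U' W hWU').hom.toAlgebra
  letI alg4 : Algebra Γ(X, V) Γ(pullback f g, W) :=
    ((pullback.fst f g).appLE V W hWV).hom.toAlgebra
  letI alg5 : Algebra Γ(S, U) Γ(pullback f g, W) :=
    (((pullback.fst f g).appLE V W hWV).hom.comp (f.appLE U V hVU).hom).toAlgebra
  haveI tower1 : IsScalarTower Γ(S, U) Γ(X, V) Γ(pullback f g, W) :=
    IsScalarTower.of_algebraMap_eq fun _ => rfl
  have hsq : f.appLE U V hVU ≫ (pullback.fst f g).appLE V W hWV =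
      g.appLE U U' hU'U ≫ (pullback.snd f g).appLE U' W hWU' := by
    rw [Scheme.Hom.appLE_comp_appLE, Scheme.Hom.appLE_comp_appLE]
    congr 1
    exact pullback.condition
  haveI tower2 : IsScalarTower Γ(S, U) Γ(S', U') Γ(pullback f g, W) :=
    IsScalarTower.of_algebraMap_eq fun x => congr($(hsq) x)
  have H : IsPullback (pullback.fst f g) (pullback.snd f g) f g := IsPullback.of_hasPullback f g
  have hiso := isIso_pushoutSection_of_isAffineOpen H hU'U hVU hWdef hU hU' hV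
  have hpo := (isIso_pushoutSection_iff H hU'U hVU hWdef).mp hiso
  haveI hAP : Algebra.IsPushout Γ(S, U) Γ(S', U') Γ(X, V) Γ(pullback f g, W) :=
    CommRingCat.isPushout_iff_isPushout.mp hpo.flip
  haveI : LocallyOfFiniteType (pullback.snd f g) := inferInstance
  haveI : QuasiSeparated (pullback.snd f g) := inferInstance
  obtain ⟨E⟩ := nonempty_sections_equiv_kaehler f hU hV hVU
  obtain ⟨E'⟩ := nonempty_sections_equiv_kaehler (pullback.snd f g) hU' hW hWU'
  have hft : Algebra.FiniteType Γ(S, U) Γ(X, V) := f.finiteType_appLE hU hV hVU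
  haveI : Module.Finite Γ(X, V) Ω[Γ(X, V)⁄Γ(S, U)] := inferInstance
  rw [ideal_congr E' i, ideal_congr E i,
    ← ideal_congr (KaehlerDifferential.tensorKaehlerEquiv Γ(S, U) Γ(S', U') Γ(X, V)
      Γ(pullback f g, W)) i, ideal_baseChange Γ(pullback f g, W) i]
  rfl


/-- Let f : X ⟶ S be locally of finite type and quasi-separated and let g : S' ⟶ S be a morphism, X' = X
×_S S' with projections g' : X' ⟶ X and f' : X' ⟶ S'. Then for every i the inverse image ideal sheaf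
under g' of the i-th Fitting ideal of Ω_{X/S} is the i-th Fitting ideal of Ω_{X'/S'}: the Fitting
subschemes of Ω are compatible with base change. The published statement does not assume f
quasi-separated; this row does, because the module Ω_{X/S} used here is defined for quasi-separated
f. -/
theorem result {X S S' : Scheme.{u}} (f : X ⟶ S) [LocallyOfFiniteType f] [QuasiSeparated f] (g : S' ⟶ S)
    (i : ℕ) :
    (Fitt.sheafIdeal (Omega.sheaf f) i).comap (pullback.fst f g) = Fitt.sheafIdeal (Omega.sheaf (pullback.snd f g)) i := by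
  haveI : (Omega.sheaf f).IsQuasicoherent := isQuasicoherent_omega f
  haveI : (Omega.sheaf f).IsFiniteType := isFiniteType_omega f
  haveI : LocallyOfFiniteType (pullback.snd f g) := inferInstance
  haveI : QuasiSeparated (pullback.snd f g) := inferInstance
  haveI : (Omega.sheaf (pullback.snd f g)).IsQuasicoherent :=
    isQuasicoherent_omega (pullback.snd f g)
  haveI : (Omega.sheaf (pullback.snd f g)).IsFiniteType := isFiniteType_omega (pullback.snd f g)
  have H : IsPullback (pullback.fst f g) (pullback.snd f g) f g := IsPullback.of_hasPullback f g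
  let ι := {p : S.affineOpens × X.affineOpens × S'.affineOpens //
    p.2.1.1 ≤ f ⁻¹ᵁ p.1.1 ∧ p.2.2.1 ≤ g ⁻¹ᵁ p.1.1}
  have hW : ∀ p : ι, IsAffineOpen
      ((pullback.fst f g) ⁻¹ᵁ p.1.2.1.1 ⊓ (pullback.snd f g) ⁻¹ᵁ p.1.2.2.1) := by
    rintro ⟨⟨U, V, U'⟩, hVU, hU'U⟩
    have : IsAffine U.1.toScheme := U.2
    have : IsAffine V.1.toScheme := V.2
    have : IsAffine U'.1.toScheme := U'.2
    exact .of_isIso (Scheme.Hom.isPullback_resLE H hU'U hVU rfl).isoPullback.hom
  apply Scheme.IdealSheafData.ext_of_iSup_eq_top (ι := ι) (fun p => ⟨_, hW p⟩)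
  · rw [eq_top_iff]
    rintro t -
    obtain ⟨_, ⟨U, hU, rfl⟩, htU, -⟩ :=
      S.isBasis_affineOpens.exists_subset_of_mem_open
        (Set.mem_univ (f ((pullback.fst f g) t))) isOpen_univ
    obtain ⟨_, ⟨V, hV, rfl⟩, htV, hVU⟩ :=
      X.isBasis_affineOpens.exists_subset_of_mem_open
        (show (pullback.fst f g) t ∈ f ⁻¹ᵁ U from htU) (f ⁻¹ᵁ U).2
    have htU' : (pullback.snd f g) t ∈ g ⁻¹ᵁ U := by
      change g ((pullback.snd f g) t) ∈ U
      rw [← Scheme.Hom.comp_apply, ← pullback.condition, Scheme.Hom.comp_apply]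
      exact htU
    obtain ⟨_, ⟨U', hU', rfl⟩, htU'', hU'U⟩ :=
      S'.isBasis_affineOpens.exists_subset_of_mem_open htU' (g ⁻¹ᵁ U).2
    exact TopologicalSpace.Opens.mem_iSup.mpr
      ⟨⟨⟨⟨U, hU⟩, ⟨V, hV⟩, ⟨U', hU'⟩⟩, hVU, hU'U⟩, ⟨htV, htU''⟩⟩
  · rintro ⟨⟨U, V, U'⟩, hVU, hU'U⟩
    have hWV : (pullback.fst f g) ⁻¹ᵁ V.1 ⊓ (pullback.snd f g) ⁻¹ᵁ U'.1 ≤
        (pullback.fst f g) ⁻¹ᵁ V.1 := inf_le_left
    have hWU' : (pullback.fst f g) ⁻¹ᵁ V.1 ⊓ (pullback.snd f g) ⁻¹ᵁ U'.1 ≤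
        (pullback.snd f g) ⁻¹ᵁ U'.1 := inf_le_right
    rw [Groth.Agent.Lib.IdealComap.ideal_comap _ (pullback.fst f g) V.1 V.2 _
      (hW ⟨⟨U, V, U'⟩, hVU, hU'U⟩) hWV, sheafIdeal_ideal, sheafIdeal_ideal]
    exact (key f g i U.2 V.2 U'.2 hVU hU'U _ rfl (hW ⟨⟨U, V, U'⟩, hVU, hU'U⟩) hWV hWU').symm

end Groth.Agent.S8917
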