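import Groth.Statements.S8924
import Groth.Agent.Lib.InjHull

set_option autoImplicit false
universe u v
open InjHull

namespace Groth.Agent.S8924

/-- For a submodule M of an R-module N, the inclusion of M into N is an essential injection if and only
if every nonzero element x of N has a multiple f • x which is a nonzero element of M. -/
theorem result (R : Type u) [CommRing R] (N : Type v) [AddCommGroup N] [Module R N] (M : Submodule R N) : InjHull.IsEssentialInj M.subtype ↔ ∀ x : N, x ≠ 0 → ∃ f : R, f • x ∈ M ∧ f • x ≠ 0 := by
  have key := Groth.Agent.Lib.InjHull.ess_iff (R := R) (E := N) M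
  constructor
  · intro h x hx
    have h' : ∀ N' : Submodule R N, N' ≠ ⊥ → N' ⊓ M ≠ ⊥ := by
      intro N' hN'
      have := h.essential N' hN'
      rwa [Submodule.range_subtype] at this
    obtain ⟨r, hr0, hrM⟩ := key.mp h' x hx
    exact ⟨r, hrM, hr0⟩
  · intro h
    refine ⟨M.injective_subtype, fun N' hN' => ?_⟩
    rw [Submodule.range_subtype]
    refine key.mpr (fun x hx => ?_) N' hN'
    obtain ⟨r, hrM, hr0⟩ := h x hx
    exact ⟨r, hr0, hrM⟩

end Groth.Agent.S8924
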