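import Groth.Statements.S8926
import Mathlib.Algebra.Module.Injective
import Mathlib.Algebra.Algebra.Epi

set_option autoImplicit false
universe u
open InjHull

namespace Groth.Agent.S8926

open TensorProduct

/-- For an epimorphism of rings `R → S`, an `R`-linear map between `S`-modules is `S`-linear. -/
theorem map_smul_of_isEpi (R S : Type u) [CommRing R] [CommRing S] [Algebra R S] [Algebra.IsEpi R S]
    (Y E : Type u) [AddCommGroup Y] [Module S Y] [Module R Y] [IsScalarTower R S Y]
    [AddCommGroup E] [Module S E] [Module R E] [IsScalarTower R S E]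
    (h : Y →ₗ[R] E) (s : S) (y : Y) : h (s • y) = s • h y := by
  let φ : S ⊗[R] Y →ₗ[R] E := TensorProduct.lift
    (LinearMap.mk₂ R (fun (s : S) (y : Y) => s • h y)
      (fun s s' y => add_smul s s' (h y))
      (fun r s y => smul_assoc r s (h y))
      (fun s y y' => by rw [h.map_add, smul_add])
      (fun r s y => by rw [h.map_smul, smul_comm]))
  have e : (1 : S) ⊗ₜ[R] (s • y) = s ⊗ₜ[R] y := by
    apply (TensorProduct.lid' R S Y).injective
    simp
  have h1 : φ ((1 : S) ⊗ₜ[R] (s • y)) = h (s • y) := by simp [φ]
  have h2 : φ (s ⊗ₜ[R] y) = s • h y := by simp [φ]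
  rw [← h1, e, h2]

/-- Suppose R → S is an epimorphism of rings and E is an S-module whose underlying R-module (via
restriction of scalars) is injective; then E is injective as an S-module as well. -/
theorem result (R S : Type u) [CommRing R] [CommRing S] [Algebra R S] [Algebra.IsEpi R S] (E : Type u) [AddCommGroup E] [Module S E] [Module R E] [IsScalarTower R S E] [Module.Injective R E] : Module.Injective S E := by
  constructor
  intro X Y _ _ _ _ f hf g
  let _ : Module R X := Module.compHom X (algebraMap R S)
  let _ : Module R Y := Module.compHom Y (algebraMap R S)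
  have : IsScalarTower R S X := IsScalarTower.of_algebraMap_smul fun _ _ => rfl
  have : IsScalarTower R S Y := IsScalarTower.of_algebraMap_smul fun _ _ => rfl
  obtain ⟨h, hh⟩ := Module.Injective.out (R := R) (Q := E) (f.restrictScalars R) hf
    (g.restrictScalars R)
  exact ⟨{ toFun := h, map_add' := h.map_add,
           map_smul' := fun s y => map_smul_of_isEpi R S Y E h s y }, hh⟩

end Groth.Agent.S8926
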