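import Groth.Statements.S8928
import Mathlib.RingTheory.Flat.Localization
import Mathlib.RingTheory.Flat.Stability
import Mathlib.RingTheory.Localization.BaseChange
import Mathlib.RingTheory.Localization.LocalizationLocalization
import Mathlib.RingTheory.Ideal.AssociatedPrime.Basic

set_option autoImplicit false
universe u
open scoped TensorProduct
open Disc

namespace Groth.Agent.S8928

attribute [local instance] Algebra.TensorProduct.rightAlgebra in
/-- If `Q(A) ⊗ B` is flat over `Q(A)` and the prime `q` of `B` does not meet the image of the
nonzerodivisors of `A`, then `B_q` is flat over `A`. -/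
theorem flat_localization_atPrime (A B : Type u) [CommRing A] [CommRing B] [Algebra A B]
    (h2 : Module.Flat (FractionRing A) (FractionRing A ⊗[A] B))
    (q : Ideal B) [q.IsPrime]
    (hq : Algebra.algebraMapSubmonoid B (nonZeroDivisors A) ≤ q.primeCompl) :
    Module.Flat A (Localization.AtPrime q) := by
  have hloc : IsLocalization (Algebra.algebraMapSubmonoid B (nonZeroDivisors A))
      (FractionRing A ⊗[A] B) := IsLocalization.tensorRight (FractionRing A) (nonZeroDivisors A)
  let _ : Algebra (FractionRing A ⊗[A] B) (Localization.AtPrime q) :=
    IsLocalization.localizationAlgebraOfSubmonoidLe (FractionRing A ⊗[A] B) (Localization.AtPrime q)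
      (Algebra.algebraMapSubmonoid B (nonZeroDivisors A)) q.primeCompl hq
  have hst : IsScalarTower B (FractionRing A ⊗[A] B) (Localization.AtPrime q) :=
    IsLocalization.localization_isScalarTower_of_submonoid_le (FractionRing A ⊗[A] B)
      (Localization.AtPrime q) (Algebra.algebraMapSubmonoid B (nonZeroDivisors A)) q.primeCompl hq
  have hloc2 : IsLocalization (q.primeCompl.map (algebraMap B (FractionRing A ⊗[A] B)))
      (Localization.AtPrime q) :=
    IsLocalization.isLocalization_of_submonoid_le (FractionRing A ⊗[A] B) (Localization.AtPrime q)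
      (Algebra.algebraMapSubmonoid B (nonZeroDivisors A)) q.primeCompl hq
  have hflat1 : Module.Flat (FractionRing A ⊗[A] B) (Localization.AtPrime q) :=
    IsLocalization.flat (R := FractionRing A ⊗[A] B) (Localization.AtPrime q)
      (q.primeCompl.map (algebraMap B (FractionRing A ⊗[A] B)))
  have hflat2 : Module.Flat A (FractionRing A ⊗[A] B) :=
    Module.Flat.trans A (FractionRing A) (FractionRing A ⊗[A] B)
  have hst2 : IsScalarTower A (FractionRing A ⊗[A] B) (Localization.AtPrime q) := by
    refine IsScalarTower.of_algebraMap_eq (R := A) (S := FractionRing A ⊗[A] B)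
      (A := Localization.AtPrime q) fun a => ?_
    rw [IsScalarTower.algebraMap_apply A B (Localization.AtPrime q),
      IsScalarTower.algebraMap_apply B (FractionRing A ⊗[A] B) (Localization.AtPrime q),
      ← IsScalarTower.algebraMap_apply A B (FractionRing A ⊗[A] B)]
  exact Module.Flat.trans A (FractionRing A ⊗[A] B) (Localization.AtPrime q)

/-- Let A → B be a map of Noetherian rings such that nonzerodivisors of A map to nonzerodivisors of B
and Q(A) ⊗_A B is flat over the total ring of fractions Q(A). Then B_q is flat over A for every
associated prime q of B and for every prime q of B lying over an associated prime of A. -/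
theorem result (A B : Type u) [CommRing A] [CommRing B] [IsNoetherianRing A] [IsNoetherianRing B] [Algebra A B] (h1 : nonZeroDivisors A ≤ (nonZeroDivisors B).comap (algebraMap A B)) (h2 : Module.Flat (FractionRing A) (FractionRing A ⊗[A] B)) : (∀ (q : Ideal B) [q.IsPrime], IsAssociatedPrime q B → Module.Flat A (Localization.AtPrime q)) ∧ (∀ (q : Ideal B) [q.IsPrime], IsAssociatedPrime (q.comap (algebraMap A B)) A → Module.Flat A (Localization.AtPrime q)) := by
  refine ⟨fun q _ hq => ?_, fun q _ hq => ?_⟩
  · refine flat_localization_atPrime A B h2 q ?_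
    rintro _ ⟨s, hs, rfl⟩ hmem
    have h3 : algebraMap A B s ∈ nonZeroDivisors B := h1 hs
    have h4 : algebraMap A B s ∈ ⋃ p ∈ associatedPrimes B B, (p : Set B) :=
      Set.mem_biUnion (show q ∈ associatedPrimes B B from hq) hmem
    rw [biUnion_associatedPrimes_eq_compl_nonZeroDivisors] at h4
    exact h4 h3
  · refine flat_localization_atPrime A B h2 q ?_
    rintro _ ⟨s, hs, rfl⟩ hmem
    have h4 : s ∈ ⋃ p ∈ associatedPrimes A A, (p : Set A) :=
      Set.mem_biUnion (show q.comap (algebraMap A B) ∈ associatedPrimes A A from hq) hmem
    rw [biUnion_associatedPrimes_eq_compl_nonZeroDivisors] at h4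
    exact h4 hs

end Groth.Agent.S8928
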