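import Groth.Statements.S8929
import Mathlib.RingTheory.Flat.Localization
import Mathlib.RingTheory.Flat.Stability
import Mathlib.RingTheory.Localization.BaseChange
import Mathlib.RingTheory.Localization.LocalizationLocalization
import Mathlib.RingTheory.Localization.Ideal
import Mathlib.RingTheory.Ideal.AssociatedPrime.Finiteness

set_option autoImplicit false
universe u
open scoped TensorProduct
open Disc

namespace Groth.Agent.S8929

open scoped TensorProduct


/-- ideal-theoretic core: a maximal ideal of `T = (A⁰)⁻¹ B` contracts to an associated prime of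
`A` when `A → B` has going up. -/
theorem core (A B T : Type u) [CommRing A] [CommRing B] [CommRing T] [IsNoetherianRing A]
    [Algebra A B] [Algebra.HasGoingUp A B] [Algebra B T]
    [IsLocalization (Algebra.algebraMapSubmonoid B (nonZeroDivisors A)) T]
    (P : Ideal T) [hP : P.IsMaximal] :
    IsAssociatedPrime ((P.comap (algebraMap B T)).comap (algebraMap A B)) A := by
  classical
  set M := Algebra.algebraMapSubmonoid B (nonZeroDivisors A) with hM
  set q := P.comap (algebraMap B T) with hq
  have hqprime : q.IsPrime := Ideal.comap_isPrime _ _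
  set p := q.comap (algebraMap A B) with hp
  have hpprime : p.IsPrime := Ideal.comap_isPrime _ _
  -- p consists of zero divisors
  have hpsub : (p : Set A) ⊆ ⋃ i ∈ ((associatedPrimes.finite A A).toFinset : Set (Ideal A)),
      ((fun I : Ideal A => I) i : Set A) := by
    intro s hs
    have hnot : s ∉ nonZeroDivisors A := by
      intro hs0
      have h1 : algebraMap A B s ∈ M := ⟨s, hs0, rfl⟩
      have h2 : IsUnit (algebraMap B T (algebraMap A B s)) := IsLocalization.map_units T ⟨_, h1⟩
      have h3 : algebraMap B T (algebraMap A B s) ∈ P := hs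
      exact hP.ne_top (P.eq_top_of_isUnit_mem h3 h2)
    have : s ∈ (⋃ p ∈ associatedPrimes A A, (p : Set A)) := by
      rw [biUnion_associatedPrimes_eq_compl_nonZeroDivisors]; exact hnot
    simpa using this
  obtain ⟨p', hp'mem, hpp'⟩ := (Ideal.subset_union_prime (R := A) (f := fun I : Ideal A => I) ⊥ ⊥
    (fun i hi _ _ => by
      have : i ∈ associatedPrimes A A := by simpa using hi
      exact this.isPrime)).mp hpsub
  have hp'ass : p' ∈ associatedPrimes A A := by simpa using hp'mem
  have hp'prime : p'.IsPrime := hp'ass.isPrime
  -- going up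
  have : q.LiesOver p := ⟨rfl⟩
  obtain ⟨Q, hqQ, hQprime, hQover⟩ := Ideal.exists_ideal_ge_liesOver_of_le (p := p) (q := p') q hpp'
  have hQdisj : Disjoint (M : Set B) (Q : Set B) := by
    rw [Set.disjoint_left]
    rintro _ ⟨s, hs0, rfl⟩ hsQ
    have hsp' : s ∈ p' := by
      rw [hQover.over]; exact hsQ
    have : s ∈ (⋃ p ∈ associatedPrimes A A, (p : Set A)) :=
      Set.mem_biUnion hp'ass hsp'
    rw [biUnion_associatedPrimes_eq_compl_nonZeroDivisors] at this
    exact this hs0
  have hmapprime : (Q.map (algebraMap B T)).IsPrime :=
    IsLocalization.isPrime_of_isPrime_disjoint M T Q hQprime hQdisj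
  have hcomap : (Q.map (algebraMap B T)).comap (algebraMap B T) = Q :=
    IsLocalization.under_map_of_isPrime_disjoint M T hQprime hQdisj
  have hPle : P ≤ Q.map (algebraMap B T) := by
    rw [← IsLocalization.map_under M T P]
    exact Ideal.map_mono hqQ
  have hPeq : P = Q.map (algebraMap B T) := hP.eq_of_le hmapprime.ne_top hPle
  have hqeq : q = Q := by rw [hq, hPeq, hcomap]
  have : p = p' := by
    rw [hp, hqeq, hQover.over]
  rw [this]
  exact hp'ass

attribute [local instance] Algebra.TensorProduct.rightAlgebra in
theorem result' (A B : Type u) [CommRing A] [CommRing B] [IsNoetherianRing A] [IsNoetherianRing B] [Algebra A B] [Algebra.HasGoingUp A B] (_h3 : ∀ (q : Ideal B) [q.IsPrime], IsAssociatedPrime q B → Module.Flat A (Localization.AtPrime q)) (h4 : ∀ (q : Ideal B) [q.IsPrime], IsAssociatedPrime (q.comap (algebraMap A B)) A → Module.Flat A (Localization.AtPrime q)) : Module.Flat (FractionRing A) (FractionRing A ⊗[A] B) := by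
  rw [Module.flat_iff_of_isLocalization (FractionRing A) (nonZeroDivisors A)]
  have hloc : IsLocalization (Algebra.algebraMapSubmonoid B (nonZeroDivisors A))
      (FractionRing A ⊗[A] B) := IsLocalization.tensorRight (FractionRing A) (nonZeroDivisors A)
  have hst : IsScalarTower A B (FractionRing A ⊗[A] B) := by
    refine IsScalarTower.of_algebraMap_eq fun a => ?_
    simp [Algebra.algebraMap_eq_smul_one]
  refine Module.flat_of_isLocalized_maximal (R := A) (FractionRing A ⊗[A] B)
    (FractionRing A ⊗[A] B) (fun P _ => Localization.AtPrime P)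
    (fun P _ => Algebra.linearMap _ _) ?_
  intro P hP
  set q := P.comap (algebraMap B (FractionRing A ⊗[A] B)) with hq
  have hqprime : q.IsPrime := Ideal.comap_isPrime _ _
  have hass := core A B (FractionRing A ⊗[A] B) P
  have hflat : Module.Flat A (Localization.AtPrime q) := h4 q hass
  have : IsLocalization.AtPrime (Localization.AtPrime P) q :=
    IsLocalization.isLocalization_isLocalization_atPrime_isLocalization
      (Algebra.algebraMapSubmonoid B (nonZeroDivisors A)) (Localization.AtPrime P) P
  let e : Localization.AtPrime q ≃ₐ[B] Localization.AtPrime P :=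
    IsLocalization.algEquiv q.primeCompl _ _
  exact Module.Flat.of_linearEquiv (e.toLinearEquiv.restrictScalars A).symm


/-- Let A → B be a map of Noetherian rings with the going-up property. If B_q is flat over A for every
associated prime q of B and for every prime q of B lying over an associated prime of A, then Q(A)
⊗_A B is flat over the total ring of fractions Q(A). -/
theorem result (A B : Type u) [CommRing A] [CommRing B] [IsNoetherianRing A] [IsNoetherianRing B] [Algebra A B] [Algebra.HasGoingUp A B] (h3 : ∀ (q : Ideal B) [q.IsPrime], IsAssociatedPrime q B → Module.Flat A (Localization.AtPrime q)) (h4 : ∀ (q : Ideal B) [q.IsPrime], IsAssociatedPrime (q.comap (algebraMap A B)) A → Module.Flat A (Localization.AtPrime q)) : Module.Flat (FractionRing A) (FractionRing A ⊗[A] B) := by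
  exact result' A B h3 h4

end Groth.Agent.S8929
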