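import Groth.Statements.S8930
import Groth.Agent.Lib.LocImm13

set_option autoImplicit false
universe u
open AlgebraicGeometry
open Disc

namespace Groth.Agent.S8930

open CategoryTheory AlgebraicGeometry Limits Groth.Agent.Lib.LocImm _root_.LocImm in
lemma ker_SpecMap_eq_bot {R S : CommRingCat.{u}} (φ : R ⟶ S) (hφ : Function.Injective φ.hom) :
    (Spec.map φ).ker = ⊥ := by
  rw [Scheme.ker_of_isAffine]
  have h1 : RingHom.ker (Spec.map φ).appTop.hom = ⊥ := by
    rw [← RingHom.injective_iff_ker_eq_bot]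
    have h2 : (Spec.map φ).appTop = (Scheme.ΓSpecIso R).hom ≫ φ ≫ (Scheme.ΓSpecIso S).inv := by
      rw [← Scheme.ΓSpecIso_naturality_assoc, Iso.hom_inv_id, Category.comp_id]
    rw [h2]
    have i1 := (ConcreteCategory.bijective_of_isIso (Scheme.ΓSpecIso R).hom).1
    have i2 := (ConcreteCategory.bijective_of_isIso (Scheme.ΓSpecIso S).inv).1
    exact i2.comp (hφ.comp i1)
  rw [h1]
  exact map_bot (Scheme.IdealSheafData.equivOfIsAffine (X := Spec R)).symm.toOrderIso

open CategoryTheory Limits Groth.Agent.Lib.LocImm _root_.LocImm in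
/-- Given two factorizations A → B' → B and A → B'' → B of a ring map with A → B' and A → B'' finite and
Spec(B) → Spec(B'), Spec(B) → Spec(B'') open immersions, there is an A-subalgebra C of B which is
finite over A, contains the images of B' and B'', and is such that Spec(B) → Spec(C) is an open
immersion. (Such an A → B is quasi-finite; that hypothesis of the published statement is implied by
the factorizations and is not repeated.) -/
theorem result (A B B' B'' : Type u) [CommRing A] [CommRing B] [CommRing B'] [CommRing B''] [Algebra A B] [Algebra A B'] [Algebra A B''] [Algebra B' B] [Algebra B'' B] [IsScalarTower A B' B] [IsScalarTower A B'' B] [Module.Finite A B'] [Module.Finite A B''] (h' : IsOpenImmersion (Spec.map (CommRingCat.ofHom (algebraMap B' B)))) (h'' : IsOpenImmersion (Spec.map (CommRingCat.ofHom (algebraMap B'' B)))) : ∃ C : Subalgebra A B, Module.Finite A C ∧ Set.range (algebraMap B' B) ⊆ (C : Set B) ∧ Set.range (algebraMap B'' B) ⊆ (C : Set B) ∧ IsOpenImmersion (Spec.map (CommRingCat.ofHom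 C.val.toRingHom)) := by
  let C₁ : Subalgebra A B := (IsScalarTower.toAlgHom A B' B).range
  let C₂ : Subalgebra A B := (IsScalarTower.toAlgHom A B'' B).range
  have hf₁ : Module.Finite A C₁ :=
    inferInstanceAs (Module.Finite A (LinearMap.range (IsScalarTower.toAlgHom A B' B).toLinearMap))
  have hf₂ : Module.Finite A C₂ :=
    inferInstanceAs (Module.Finite A (LinearMap.range (IsScalarTower.toAlgHom A B'' B).toLinearMap))
  have hfin : Module.Finite A (C₁ ⊔ C₂ : Subalgebra A B) := Subalgebra.finite_sup C₁ C₂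
  have hle₁ : C₁ ≤ C₁ ⊔ C₂ := le_sup_left
  have hle₂ : C₂ ≤ C₁ ⊔ C₂ := le_sup_right
  refine ⟨C₁ ⊔ C₂, hfin, ?_, ?_, ?_⟩
  · rintro _ ⟨b, rfl⟩
    exact hle₁ ⟨b, rfl⟩
  · rintro _ ⟨b, rfl⟩
    exact hle₂ ⟨b, rfl⟩
  · -- the factorization `B' → C → B`
    let ψ : B' →+* (C₁ ⊔ C₂ : Subalgebra A B) :=
      (algebraMap B' B).codRestrict (C₁ ⊔ C₂ : Subalgebra A B).toSubring
        (fun b => hle₁ ⟨b, rfl⟩)
    have hψ : (C₁ ⊔ C₂ : Subalgebra A B).val.toRingHom.comp ψ = algebraMap B' B := rfl
    let f := Spec.map (CommRingCat.ofHom (C₁ ⊔ C₂ : Subalgebra A B).val.toRingHom)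
    let g := Spec.map (CommRingCat.ofHom ψ)
    have hfg : f ≫ g = Spec.map (CommRingCat.ofHom (algebraMap B' B)) := by
      rw [← Spec.map_comp, ← CommRingCat.ofHom_comp, hψ]
    have : IsOpenImmersion (f ≫ g) := hfg ▸ h'
    have hinj : Function.Injective (C₁ ⊔ C₂ : Subalgebra A B).val.toRingHom := Subtype.val_injective
    have hd : DenseRange f := by
      have := (PrimeSpectrum.denseRange_comap_iff_ker_le_nilRadical
        (f := (C₁ ⊔ C₂ : Subalgebra A B).val.toRingHom)).mpr (by
          rw [(RingHom.injective_iff_ker_eq_bot _).mp hinj]; exact bot_le)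
      exact this
    exact (isOpenImmersion_of_comp_of_ker_eq_bot f g (ker_SpecMap_eq_bot _ hinj) hd).1

end Groth.Agent.S8930
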