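import Groth.Statements.S8931
import Groth.Agent.Lib.Fitting82K
import Mathlib.RingTheory.Extension.Cotangent.Basic
import Mathlib.RingTheory.Extension.Presentation.Basic

set_option autoImplicit false
universe u
open Disc

namespace Groth.Agent.S8931

open Algebra KaehlerDifferential TensorProduct Groth.Agent.Lib.Fitting82 in
theorem aux (A : Type u) [CommRing A] (n : ℕ) (hn : 1 ≤ n) (f : Fin n → MvPolynomial (Fin n) A) : Fitt.ideal (MvPolynomial (Fin n) A ⧸ Ideal.span (Set.range f)) (KaehlerDifferential A (MvPolynomial (Fin n) A ⧸ Ideal.span (Set.range f))) 0 = Ideal.span {Ideal.Quotient.mk (Ideal.span (Set.range f)) (Matrix.det (Matrix.of fun i j : Fin n => MvPolynomial.pderiv j (f i)))} := by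
  classical
  let P : Algebra.Presentation A (MvPolynomial (Fin n) A ⧸ Ideal.span (Set.range f)) (Fin n) (Fin n) :=
    Algebra.Presentation.naive (v := f)
  let E := P.toExtension
  let g : Fin n → E.CotangentSpace := fun i =>
    E.cotangentComplex (Extension.Cotangent.mk ⟨f i, Algebra.Presentation.mem_ker_naive _ _ i⟩)
  have hrange : LinearMap.range E.cotangentComplex = Submodule.span _ (Set.range g) := by
    rw [LinearMap.range_eq_map,
      ← Extension.Cotangent.span_eq_top_of_span_eq_ker (P := E) f P.span_range_relation_eq_ker,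
      Submodule.map_span, ← Set.range_comp]
    rfl
  have hker : LinearMap.ker E.toKaehler = Submodule.span _ (Set.range g) := by
    rw [← hrange]
    exact (LinearMap.exact_iff.1 E.exact_cotangentComplex_toKaehler)
  let e1 := (LinearMap.quotKerEquivOfSurjective E.toKaehler E.toKaehler_surjective)
  let e2 := Submodule.quotEquivOfEq _ _ hker
  rw [ideal_congr (e1.symm.trans e2) 0, ideal_zero_quotient_span_eq P.cotangentSpaceBasis g]
  congr 2
  rw [RingHom.map_det, ← Matrix.det_transpose]
  congr 1
  ext a b
  have h1 : g a = (1 : MvPolynomial (Fin n) A ⧸ Ideal.span (Set.range f)) ⊗ₜ[E.Ring]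
      KaehlerDifferential.D A E.Ring (f a) := Extension.cotangentComplex_mk _ _
  rw [Matrix.transpose_apply, Matrix.of_apply, h1]
  erw [Generators.cotangentSpaceBasis_repr_one_tmul]
  rw [← Generators.algebraMap_apply]
  rfl


/-- For a ring A, n ≥ 1 and f_1, …, f_n in A[x_1, …, x_n], with B = A[x_1, …, x_n]/(f_1, …, f_n), the
zeroth Fitting ideal of Ω_{B/A} (the Kähler different of B over A) is generated by the image in B of
the Jacobian determinant det(∂f_i/∂x_j). -/
theorem result (A : Type u) [CommRing A] (n : ℕ) (hn : 1 ≤ n) (f : Fin n → MvPolynomial (Fin n) A) : Fitt.ideal (MvPolynomial (Fin n) A ⧸ Ideal.span (Set.range f)) (KaehlerDifferential A (MvPolynomial (Fin n) A ⧸ Ideal.span (Set.range f))) 0 = Ideal.span {Ideal.Quotient.mk (Ideal.span (Set.range f)) (Matrix.det (Matrix.of fun i j : Fin n => MvPolynomial.pderiv j (f i)))} := by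
  exact aux A n hn f

end Groth.Agent.S8931
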