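import Groth.Statements.S8935
import Groth.Agent.Lib.H26CIGor
import Groth.Agent.Lib.FTDim
import Groth.Agent.S2217

set_option autoImplicit false
universe u
open Disc

namespace Groth.Agent.S8935

theorem height_eq (k : Type u) [Field k] (n : ℕ) (f : Fin n → MvPolynomial (Fin n) k)
    (h0 : ringKrullDim (MvPolynomial (Fin n) k ⧸ Ideal.span (Set.range f)) = 0) :
    (Ideal.span (Set.range f)).height = n := by
  have hI : Ideal.span (Set.range f) ≠ ⊤ := by
    intro h
    have hs : Subsingleton (MvPolynomial (Fin n) k ⧸ Ideal.span (Set.range f)) :=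
      Ideal.Quotient.subsingleton_iff.mpr h
    have := ringKrullDim_eq_bot_of_subsingleton (R := MvPolynomial (Fin n) k ⧸ Ideal.span (Set.range f))
    rw [h0] at this
    exact absurd this (by simp)
  apply le_antisymm
  · refine (Ideal.height_le_spanFinrank _ hI).trans ?_
    have h1 := Submodule.spanFinrank_span_le_ncard_of_finite (R := MvPolynomial (Fin n) k)
      (Set.finite_range f)
    have h2 : (Set.range f).ncard ≤ n := by
      have := Set.ncard_image_le (f := f) (s := Set.univ) Set.finite_univ
      simpa using this
    exact_mod_cast h1.trans h2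
  · rw [Ideal.height_eq_inf_minimalPrimes]
    refine le_iInf₂ fun q hq => ?_
    have : q.IsPrime := hq.1.1
    have hq' : Ideal.span (Set.range f) ≤ q := hq.1.2
    have hdim : ringKrullDim (MvPolynomial (Fin n) k ⧸ q) = 0 := by
      apply le_antisymm
      · rw [← h0]
        exact ringKrullDim_le_of_surjective (Ideal.Quotient.factor hq')
          (Ideal.Quotient.factor_surjective hq')
      · exact ringKrullDim_nonneg_of_nontrivial
    have h3 := Groth.Agent.Lib.FTDim.height_add_ringKrullDim_quotient k (MvPolynomial (Fin n) k) q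
    rw [hdim, add_zero, MvPolynomial.ringKrullDim_of_isNoetherianRing, ringKrullDim_eq_zero_of_field,
      zero_add, Nat.card_fin] at h3
    exact_mod_cast h3.ge

/-- Let k be a field and B = k[x_1, …, x_n]/(f_1, …, f_n), a global complete intersection with as many
equations as variables, of Krull dimension 0. Then ω_{B/k} = Hom_k(B, k), with B acting through the
argument, is an invertible B-module; since B is Artinian this means it is free of rank one, which is
the form stated. -/
theorem result (k : Type u) [Field k] (n : ℕ) (f : Fin n → MvPolynomial (Fin n) k) (h0 : ringKrullDim (MvPolynomial (Fin n) k ⧸ Ideal.span (Set.range f)) = 0) : Nonempty (Disc.Omega k (MvPolynomial (Fin n) k ⧸ Ideal.span (Set.range f)) ≃ₗ[MvPolynomial (Fin n) k ⧸ Ideal.span (Set.range f)] (MvPolynomial (Fin n) k ⧸ Ideal.span (Set.range f))) := by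
  have hG : LocCoh.IsGorensteinRing (MvPolynomial (Fin n) k ⧸ Ideal.span (Set.range f)) :=
    Groth.Agent.Lib.H26CIGor.isGorensteinRing_quotient_span_range (MvPolynomial (Fin n) k) n f
      (height_eq k n f h0)
  have hN : IsNoetherianRing (MvPolynomial (Fin n) k ⧸ Ideal.span (Set.range f)) := inferInstance
  have hA : IsArtinianRing (MvPolynomial (Fin n) k ⧸ Ideal.span (Set.range f)) := by
    rw [isArtinianRing_iff_krullDimLE_zero, Ring.krullDimLE_iff, h0]
    rfl
  have hfin : Module.Finite k (MvPolynomial (Fin n) k ⧸ Ideal.span (Set.range f)) :=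
    Module.finite_of_isArtinianRing k _
  have hfib : ∀ (p : Ideal k) [p.IsPrime],
      LocCoh.IsGorensteinRing (p.Fiber (MvPolynomial (Fin n) k ⧸ Ideal.span (Set.range f))) := by
    intro p _
    let e : p.Fiber (MvPolynomial (Fin n) k ⧸ Ideal.span (Set.range f)) ≃ₐ[k]
        (MvPolynomial (Fin n) k ⧸ Ideal.span (Set.range f)) :=
      (Algebra.TensorProduct.congr (Ideal.algEquivResidueFieldOfField p).symm AlgEquiv.refl).trans
        (Algebra.TensorProduct.lid k _)
    exact Groth.Agent.Lib.H26CIGor.isGorensteinRing_of_ringEquiv e.symm.toRingEquiv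
  have hinv : Module.Invertible (MvPolynomial (Fin n) k ⧸ Ideal.span (Set.range f))
      (Disc.Omega k (MvPolynomial (Fin n) k ⧸ Ideal.span (Set.range f))) :=
    Groth.Agent.S2217.result.1 hfib
  have hfree : Module.Free (MvPolynomial (Fin n) k ⧸ Ideal.span (Set.range f))
      (Disc.Omega k (MvPolynomial (Fin n) k ⧸ Ideal.span (Set.range f))) := inferInstance
  exact Module.Invertible.free_iff_linearEquiv.mp hfree

end Groth.Agent.S8935
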