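import Groth.Statements.S8936

set_option autoImplicit false
universe u v
open InjHull

namespace Groth.Agent.S8936

/-- For a directed system (E_i) of R-modules over a nonempty directed preorder and a compatible family
of essential injections M → E_i, the induced map from M to the direct limit of the E_i is an
essential injection. -/
theorem result (R : Type u) [CommRing R] (ι : Type v) [Preorder ι] [IsDirectedOrder ι] [DecidableEq ι] (i₀ : ι) (E : ι → Type v) [∀ i, AddCommGroup (E i)] [∀ i, Module R (E i)] (f : ∀ i j, i ≤ j → E i →ₗ[R] E j) [DirectedSystem E fun i j h => f i j h] (M : Type v) [AddCommGroup M] [Module R M] (g : ∀ i, M →ₗ[R] E i) (hg : ∀ i j (h : i ≤ j), f i j h ∘ₗ g i = g j) (he : ∀ i, InjHull.IsEssentialInj (g i)) : InjHull.IsEssentialInj (Module.DirectLimit.of R ι E f i₀ ∘ₗ g i₀) := by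
  have : Nonempty ι := ⟨i₀⟩
  -- the map does not depend on the index
  have hcomp : ∀ i, Module.DirectLimit.of R ι E f i ∘ₗ g i =
      Module.DirectLimit.of R ι E f i₀ ∘ₗ g i₀ := by
    intro i
    obtain ⟨k, hik, hi₀k⟩ := exists_ge_ge i i₀
    ext m
    have h1 : Module.DirectLimit.of R ι E f i (g i m) =
        Module.DirectLimit.of R ι E f k (g k m) := by
      rw [← hg i k hik, LinearMap.comp_apply, Module.DirectLimit.of_f]
    have h2 : Module.DirectLimit.of R ι E f i₀ (g i₀ m) =
        Module.DirectLimit.of R ι E f k (g k m) := by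
      rw [← hg i₀ k hi₀k, LinearMap.comp_apply, Module.DirectLimit.of_f]
    simp only [LinearMap.comp_apply, h1, h2]
  have hinj : Function.Injective (Module.DirectLimit.of R ι E f i₀ ∘ₗ g i₀) := by
    rw [← LinearMap.ker_eq_bot, LinearMap.ker_eq_bot']
    intro m hm
    rw [LinearMap.comp_apply] at hm
    obtain ⟨j, hij, hj⟩ := Module.DirectLimit.of.zero_exact hm
    have : g j m = 0 := by rw [← hg i₀ j hij, LinearMap.comp_apply, hj]
    exact (he j).injective (by rw [this, map_zero])
  refine ⟨hinj, fun N hN => ?_⟩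
  obtain ⟨x, hxN, hx0⟩ := Submodule.exists_mem_ne_zero_of_ne_bot hN
  obtain ⟨i, e, rfl⟩ := Module.DirectLimit.exists_of x
  have he0 : e ≠ 0 := by
    rintro rfl
    exact hx0 (map_zero _)
  have hspan : Submodule.span R {e} ≠ ⊥ := by
    rw [Ne, Submodule.span_singleton_eq_bot]
    exact he0
  obtain ⟨y, hy, hy0⟩ := Submodule.exists_mem_ne_zero_of_ne_bot ((he i).essential _ hspan)
  obtain ⟨hy1, ⟨m, rfl⟩⟩ := hy
  obtain ⟨r, hr⟩ := Submodule.mem_span_singleton.mp hy1
  have hm0 : m ≠ 0 := by
    rintro rfl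
    exact hy0 (map_zero _)
  intro hbot
  have hmem : (Module.DirectLimit.of R ι E f i₀ ∘ₗ g i₀) m ∈
      N ⊓ LinearMap.range (Module.DirectLimit.of R ι E f i₀ ∘ₗ g i₀) := by
    refine ⟨?_, ⟨m, rfl⟩⟩
    rw [← hcomp i, LinearMap.comp_apply, ← hr, map_smul]
    exact N.smul_mem r hxN
  rw [hbot, Submodule.mem_bot] at hmem
  exact hm0 (hinj (by rw [hmem, map_zero]))

end Groth.Agent.S8936
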