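import Groth.Statements.S8949
import Groth.Agent.Lib.H14GorComp

set_option autoImplicit false
universe u
open scoped TensorProduct
open Goren

namespace Groth.Agent.S8949

/-- Gorenstein fibres are preserved by composing with a regular map. For flat maps A → B → C of
Noetherian rings, if the fibres of A → B are Gorenstein rings and B → C is regular, then the fibres
of A → C are Gorenstein rings. -/
theorem result (A B C : Type u) [CommRing A] [CommRing B] [CommRing C] [IsNoetherianRing A] [IsNoetherianRing B] [IsNoetherianRing C] [Algebra A B] [Algebra B C] [Algebra A C] [IsScalarTower A B C] [Module.Flat A B] [Module.Flat B C] (hAB : ∀ (q : Ideal A) [q.IsPrime], LocCoh.IsGorensteinRing (q.Fiber B)) (hBC : CAlg.IsRegularHom B C) : ∀ (q : Ideal A) [q.IsPrime], LocCoh.IsGorensteinRing (q.Fiber C) := by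
  intro q _
  have h1 : Groth.Agent.Lib.H14GorComp.IsGorHom A B := ⟨inferInstance, fun p _ => hAB p⟩
  have h2 : Groth.Agent.Lib.H14GorComp.IsGorHom B C :=
    Groth.Agent.Lib.H14GorComp.isGorHom_of_isRegularHom B C hBC
  exact (Groth.Agent.Lib.H14GorComp.IsGorHom.comp h1 h2).2 q

end Groth.Agent.S8949
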