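import Groth.Statements.S8951
import Groth.Agent.Lib.H14CIHom

set_option autoImplicit false
universe u
open scoped TensorProduct
open CInt

namespace Groth.Agent.S8951

/-- Complete intersection fibres are preserved by composing with a regular map. For flat maps A → B → C
of Noetherian rings, if all local rings of the fibres of A → B are complete intersections and B → C
is regular, then all local rings of the fibres of A → C are complete intersections. -/
theorem result (A B C : Type u) [CommRing A] [CommRing B] [CommRing C] [IsNoetherianRing A] [IsNoetherianRing B] [IsNoetherianRing C] [Algebra A B] [Algebra B C] [Algebra A C] [IsScalarTower A B C] [Module.Flat A B] [Module.Flat B C] (hAB : ∀ (q : Ideal A) [q.IsPrime] (P : Ideal (q.Fiber B)) [P.IsPrime], Pi1.IsCompleteIntersection (Localization.AtPrime P)) (hBC : CAlg.IsRegularHom B C) : ∀ (q : Ideal A) [q.IsPrime] (P : Ideal (q.Fiber C)) [P.IsPrime], Pi1.IsCompleteIntersection (Localization.AtPrime P) := by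
  intro q _
  have hN : ∀ (p : Ideal A) [p.IsPrime], IsNoetherianRing (p.Fiber B) := by
    intro p _
    have h0 : IsNoetherianRing (TensorProduct A B p.ResidueField) :=
      Algebra.EssFiniteType.isNoetherianRing B _
    exact isNoetherianRing_of_ringEquiv _
      (Algebra.TensorProduct.comm A B p.ResidueField).toRingEquiv
  have h1 : Groth.Agent.Lib.H14CIHom.IsCIHom A B :=
    ⟨inferInstance, fun p _ => ⟨hN p, fun P _ => hAB p P⟩⟩
  have h2 : Groth.Agent.Lib.H14CIHom.IsCIHom B C :=
    Groth.Agent.Lib.H14CIHom.isCIHom_of_isRegularHom B C hBC
  exact ((Groth.Agent.Lib.H14CIHom.IsCIHom.comp h1 h2).2 q).2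

end Groth.Agent.S8951
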