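import Groth.Statements.S8954
import Groth.Agent.Lib.FinSynt32
import Groth.Agent.S9147
import Mathlib.RingTheory.HopkinsLevitzki

set_option autoImplicit false
universe u
open Synt

namespace Groth.Agent.S8954

/-- The equivalence of being finite syntomic with having a square presentation, stated over a local
base. For a local ring A and a finite A-algebra B, the map A → B is syntomic if and only if B ≅
A[x_1, …, x_n]/(f_1, …, f_n) as A-algebras for some n and f_1, …, f_n ∈ A[x_1, …, x_n]. (The
published statement is for a finite morphism of schemes and asserts such a presentation over some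
affine open neighbourhood of each point of the base; over a local base that neighbourhood is the
whole spectrum.) -/
theorem result (A B : Type u) [CommRing A] [IsLocalRing A] [CommRing B] [Algebra A B] [Module.Finite A B] : Synt.IsSyntomic A B ↔ ∃ (n : ℕ) (F : Fin n → MvPolynomial (Fin n) A), Nonempty (B ≃ₐ[A] Synt.RelGCIRing A n n F) := by
  constructor
  · intro h
    obtain ⟨hft, n, α, hα, hK⟩ := Groth.Agent.Lib.SyntLCI.isLCI_of_isSyntomic h
    have hflat : Module.Flat A B := h.1
    let e₀ : (MvPolynomial (Fin n) A ⧸ RingHom.ker α.toRingHom) ≃ₐ[A] B :=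
      Ideal.quotientKerAlgEquivOfSurjective hα
    have : Module.Flat A (MvPolynomial (Fin n) A ⧸ RingHom.ker α.toRingHom) :=
      Module.Flat.of_linearEquiv e₀.toLinearEquiv
    have : Module.Finite A (MvPolynomial (Fin n) A ⧸ RingHom.ker α.toRingHom) :=
      Module.Finite.equiv e₀.symm.toLinearEquiv
    obtain ⟨F, ⟨e⟩⟩ :=
      Groth.Agent.Lib.FinSynt32.exists_square_presentation (RingHom.ker α.toRingHom) hK
    exact ⟨n + 1, F, ⟨e₀.symm.trans e⟩⟩
  · rintro ⟨n, F, ⟨e⟩⟩
    have hfin : Module.Finite A (Synt.RelGCIRing A n n F) := Module.Finite.equiv e.toLinearEquiv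
    have hrel : Synt.IsRelGCI A n n F := by
      intro p hnt
      have := p.2
      refine ⟨le_rfl, ?_⟩
      have hart : IsArtinianRing (p.asIdeal.Fiber (Synt.RelGCIRing A n n F)) := inferInstance
      have hk0 : Ring.KrullDimLE 0 (p.asIdeal.Fiber (Synt.RelGCIRing A n n F)) :=
        ((isArtinianRing_iff_isNoetherianRing_krullDimLE_zero
          (R := p.asIdeal.Fiber (Synt.RelGCIRing A n n F))).mp hart).2
      rw [ringKrullDimZero_iff_ringKrullDim_eq_zero.mp hk0]
      simp
    have hs := Groth.Agent.S9147.result A n n F hrel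
    rw [Groth.Agent.Lib.SyntLCI.isSyntomic_iff] at hs ⊢
    obtain ⟨h1, h2⟩ := hs
    exact ⟨Module.Flat.of_linearEquiv e.toLinearEquiv,
      Groth.Agent.Lib.LCIComp.isLCI_of_algEquiv e.symm h2⟩

end Groth.Agent.S8954
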