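import Groth.Statements.S8958
import Mathlib.Tactic
import Mathlib.Algebra.Module.FinitePresentation
import Mathlib.RingTheory.IsTensorProduct
import Mathlib.LinearAlgebra.Dual.BaseChange

set_option autoImplicit false
set_option linter.unusedSectionVars false
set_option linter.style.haveILetI false
universe u
open TensorProduct
open QFDual

namespace Groth.Agent.S8958

section Helpers

/-- duals of finitely presented modules commute with flat base change. -/
theorem isBaseChange_toDual {R S V W : Type u} [CommRing R] [CommRing S] [Algebra R S]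
    [Module.Flat R S] [AddCommGroup V] [Module R V] [Module.FinitePresentation R V]
    [AddCommGroup W] [Module R W] [Module S W] [IsScalarTower R S W]
    {j : V →ₗ[R] W} (ibc : IsBaseChange S j) : IsBaseChange S ibc.toDual := by
  have h0 : IsBaseChange S (LinearMap.baseChangeHom R S V R) :=
    Module.FinitePresentation.isBaseChange_map R V R S
  let E : (S ⊗[R] V →ₗ[S] S ⊗[R] R) ≃ₗ[S] (W →ₗ[S] S) :=
    LinearEquiv.arrowCongr ibc.equiv (AlgebraTensorModule.rid R S S)
  apply IsBaseChange.of_equiv (h0.equiv ≪≫ₗ E)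
  intro f
  rw [LinearEquiv.trans_apply, h0.equiv_tmul, one_smul]
  apply ibc.algHom_ext
  intro v
  rw [IsBaseChange.toDual_comp_apply]
  simp [E, LinearEquiv.arrowCongr_apply, ibc.equiv_symm_apply, Algebra.algebraMap_eq_smul_one]

/-- abstract form: a base change along `A → A₁` of a `B'`-module is a base change along `B' → B'₁` when
`B'₁ = A₁ ⊗_A B'`; and then tensoring with any `B'₁`-algebra `B₁`. -/
theorem bijective_of_pushout {A B' A₁ B'₁ B₁ : Type u} [CommRing A] [CommRing B'] [CommRing A₁]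
    [CommRing B'₁] [CommRing B₁] [Algebra A B'] [Algebra A A₁] [Algebra B' B'₁] [Algebra A₁ B'₁]
    [Algebra A B'₁] [IsScalarTower A A₁ B'₁] [IsScalarTower A B' B'₁]
    [h : Algebra.IsPushout A A₁ B' B'₁] [Algebra B'₁ B₁] [Algebra B' B₁] [IsScalarTower B' B'₁ B₁]
    {M M₁ : Type u} [AddCommGroup M] [Module B' M] [Module A M] [IsScalarTower A B' M]
    [AddCommGroup M₁] [Module B'₁ M₁] [Module A₁ M₁] [IsScalarTower A₁ B'₁ M₁]
    (j : M →+ M₁) (hj : ∀ (b' : B') (m : M), j (b' • m) = algebraMap B' B'₁ b' • j m)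
    (e : A₁ ⊗[A] M →+ M₁) (he : ∀ (a₁ : A₁) (m : M), e (a₁ ⊗ₜ[A] m) = a₁ • j m)
    (hbij : Function.Bijective e)
    (Φ : B₁ ⊗[B'] M →+ B₁ ⊗[B'₁] M₁) (hΦ : ∀ (b₁ : B₁) (m : M), Φ (b₁ ⊗ₜ[B'] m) = b₁ ⊗ₜ[B'₁] j m) :
    Function.Bijective Φ := by
  -- the map `J : B'₁ ⊗[B'] M → M₁`
  let J : B'₁ ⊗[B'] M →+ M₁ :=
    TensorProduct.liftAddHom
      { toFun := fun b =>
          { toFun := fun m => b • j m
            map_zero' := by rw [map_zero, smul_zero]
            map_add' := fun m n => by rw [map_add, smul_add] }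
        map_zero' := by ext m; exact zero_smul _ _
        map_add' := fun b c => by ext m; exact add_smul _ _ _ }
      (by
        intro b' b m
        show (b' • b) • j m = b • j (b' • m)
        rw [hj, Algebra.smul_def, mul_comm, mul_smul])
  have hJ : ∀ (b : B'₁) (m : M), J (b ⊗ₜ[B'] m) = b • j m := fun b m => rfl
  -- `J` agrees with `e ∘ cancelBaseChange`
  have hJe : ∀ x : B'₁ ⊗[B'] M, J x = e (Algebra.IsPushout.cancelBaseChange A A₁ B' B'₁ M x) := by
    intro x
    obtain ⟨y, rfl⟩ := (Algebra.IsPushout.cancelBaseChange A A₁ B' B'₁ M).symm.surjective x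
    rw [LinearEquiv.apply_symm_apply]
    induction y using TensorProduct.induction_on with
    | zero => rw [map_zero, map_zero, map_zero]
    | add y z hy hz => rw [map_add, map_add, map_add, hy, hz]
    | tmul a₁ m =>
      rw [Algebra.IsPushout.cancelBaseChange_symm_tmul, hJ, he, algebraMap_smul]
  have hJbij : Function.Bijective J := by
    have : (J : B'₁ ⊗[B'] M → M₁) = e ∘ (Algebra.IsPushout.cancelBaseChange A A₁ B' B'₁ M) := by
      funext x
      exact hJe x
    rw [this]
    exact hbij.comp (Algebra.IsPushout.cancelBaseChange A A₁ B' B'₁ M).bijective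
  -- `J` is `B'₁`-linear
  have hJsmul : ∀ (c : B'₁) (x : B'₁ ⊗[B'] M), J (c • x) = c • J x := by
    intro c x
    induction x using TensorProduct.induction_on with
    | zero => rw [smul_zero, map_zero, smul_zero]
    | add y z hy hz => rw [smul_add, map_add, hy, hz, map_add, smul_add]
    | tmul b m => rw [smul_tmul', hJ, hJ, smul_eq_mul, mul_smul]
  let Jlin : B'₁ ⊗[B'] M ≃ₗ[B'₁] M₁ :=
    LinearEquiv.ofBijective
      { toFun := J
        map_add' := map_add J
        map_smul' := hJsmul } hJbij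
  have hJlin : ∀ x, Jlin x = J x := fun x => rfl
  let T : B₁ ⊗[B'₁] (B'₁ ⊗[B'] M) ≃ₗ[B'₁] B₁ ⊗[B'₁] M₁ := LinearEquiv.lTensor B₁ Jlin
  let E1 : B₁ ⊗[B'₁] (B'₁ ⊗[B'] M) ≃ₗ[B₁] B₁ ⊗[B'] M :=
    TensorProduct.AlgebraTensorModule.cancelBaseChange B' B'₁ B₁ B₁ M
  have hcomp : ∀ z : B₁ ⊗[B'₁] (B'₁ ⊗[B'] M), Φ (E1 z) = T z := by
    intro z
    induction z using TensorProduct.induction_on with
    | zero => rw [map_zero, map_zero, map_zero]
    | add y z hy hz => rw [map_add, map_add, map_add, hy, hz]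
    | tmul b₁ x =>
      induction x using TensorProduct.induction_on with
      | zero => rw [tmul_zero, map_zero, map_zero, map_zero]
      | add y z hy hz => rw [tmul_add, map_add, map_add, map_add, hy, hz]
      | tmul b m =>
        show Φ ((b • b₁) ⊗ₜ[B'] m) = b₁ ⊗ₜ[B'₁] (b • j m)
        rw [hΦ, smul_tmul]
  have : (Φ : B₁ ⊗[B'] M → B₁ ⊗[B'₁] M₁) = T ∘ E1.symm := by
    funext x
    obtain ⟨z, rfl⟩ := E1.surjective x
    rw [hcomp, Function.comp_apply, LinearEquiv.symm_apply_apply]
  rw [this]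
  exact T.bijective.comp E1.symm.bijective

end Helpers

/-- Flat base change of the relative dualizing module. Let A be a Noetherian ring, A → B' a finite ring
map, A → A₁ a flat ring map with A₁ Noetherian, and B'₁ a ring making A → A₁, B' → B'₁ a cocartesian
square (so B'₁ = B' ⊗_A A₁). For every B'₁-algebra B₁ the base-change map B₁ ⊗_{B'} Hom_A(B', A) →
B₁ ⊗_{B'₁} Hom_{A₁}(B'₁, A₁), sending b₁ ⊗ φ to b₁ ⊗ φ₁ where φ₁(b' a₁) = φ(b') a₁, is bijective.
(The published statement is the case in which A → B' → B, with Spec B → Spec B' an open immersion,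
computes the relative dualizing module ω_{B/A} of a quasi-finite map A → B and B₁ = B ⊗_A A₁, where
the map reads ω_{B/A} ⊗_B B₁ → ω_{B₁/A₁}; the version for an arbitrary B'₁-algebra B₁ is what the
printed argument gives, and with A₁ = A_f, B₁ = B it also yields ω_{B/A} = ω_{B/A_f} when A → B
factors through A_f.) -/
theorem result (A B' A₁ B'₁ B₁ : Type u) [CommRing A] [CommRing B'] [CommRing A₁] [CommRing B'₁] [CommRing B₁] [IsNoetherianRing A] [IsNoetherianRing A₁] [Algebra A B'] [Module.Finite A B'] [Algebra A A₁] [Module.Flat A A₁] [Algebra B' B'₁] [Algebra A₁ B'₁] [Algebra A B'₁] [IsScalarTower A A₁ B'₁] [IsScalarTower A B' B'₁] (h : Algebra.IsPushout A A₁ B' B'₁) [Algebra B'₁ B₁] [Algebra B' B₁] [IsScalarTower B' B'₁ B₁] : Function.Bijective (QFDual.omegaBC (B₁ := B₁) h) := by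
  have hfp : Module.FinitePresentation A B' := Module.finitePresentation_of_finite A B'
  have key := isBaseChange_toDual h.out
  letI : Module A (Disc.Omega A B') := Module.compHom _ (algebraMap A B')
  have hsmulA : ∀ (a : A) (φ : Disc.Omega A B'), a • φ = algebraMap A B' a • φ := fun a φ => rfl
  haveI : IsScalarTower A B' (Disc.Omega A B') :=
    IsScalarTower.of_algebraMap_smul fun a φ => (hsmulA a φ).symm
  letI : Module A₁ (Disc.Omega A₁ B'₁) := Module.compHom _ (algebraMap A₁ B'₁)
  have hsmulA₁ : ∀ (a : A₁) (φ : Disc.Omega A₁ B'₁), a • φ = algebraMap A₁ B'₁ a • φ :=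
    fun a φ => rfl
  haveI : IsScalarTower A₁ B'₁ (Disc.Omega A₁ B'₁) :=
    IsScalarTower.of_algebraMap_smul fun a φ => (hsmulA₁ a φ).symm
  -- the underlying functionals
  have htoA : ∀ (a : A) (φ : Disc.Omega A B'), (a • φ).toLinearMap = a • φ.toLinearMap := by
    intro a φ
    apply LinearMap.ext
    intro x
    rw [hsmulA, Disc.Omega.smul_toLinearMap_apply, LinearMap.smul_apply, ← Algebra.smul_def,
      map_smul]
  have htoA₁ : ∀ (a : A₁) (φ : Disc.Omega A₁ B'₁), (a • φ).toLinearMap = a • φ.toLinearMap := by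
    intro a φ
    apply LinearMap.ext
    intro x
    rw [hsmulA₁, Disc.Omega.smul_toLinearMap_apply, LinearMap.smul_apply, ← Algebra.smul_def,
      map_smul]
  let ω : Disc.Omega A B' ≃ₗ[A] Module.Dual A B' :=
    { toFun := fun φ => φ.toLinearMap
      map_add' := fun φ ψ => rfl
      map_smul' := htoA
      invFun := fun f => Disc.Omega.mk f
      left_inv := fun φ => rfl
      right_inv := fun f => rfl }
  let j : Disc.Omega A B' →+ Disc.Omega A₁ B'₁ := (bcFin h).toAddMonoidHom
  have hj : ∀ (b' : B') (φ : Disc.Omega A B'), j (b' • φ) = algebraMap B' B'₁ b' • j φ :=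
    fun b' φ => (bcFin h).map_smulₛₗ b' φ
  have hjto : ∀ φ : Disc.Omega A B', (j φ).toLinearMap = h.out.toDual φ.toLinearMap := fun φ => rfl
  -- the comparison map
  let e : A₁ ⊗[A] Disc.Omega A B' →+ Disc.Omega A₁ B'₁ :=
    { toFun := fun x => Disc.Omega.mk (key.equiv (LinearEquiv.lTensor A₁ ω x))
      map_zero' := by rw [map_zero, map_zero]; rfl
      map_add' := fun x y => by rw [map_add, map_add]; rfl }
  have he : ∀ (a₁ : A₁) (φ : Disc.Omega A B'), e (a₁ ⊗ₜ[A] φ) = a₁ • j φ := by
    intro a₁ φ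
    apply Disc.Omega.ext
    rw [htoA₁, hjto]
    show key.equiv (LinearEquiv.lTensor A₁ ω (a₁ ⊗ₜ[A] φ)) = _
    rw [LinearEquiv.lTensor_tmul, key.equiv_tmul]
    rfl
  have hbij : Function.Bijective e := by
    have h1 : Function.Bijective (fun f : Module.Dual A₁ B'₁ => Disc.Omega.mk f) :=
      ⟨fun f g hfg => congrArg Disc.Omega.toLinearMap hfg, fun φ => ⟨φ.toLinearMap, rfl⟩⟩
    exact h1.comp (key.equiv.bijective.comp (LinearEquiv.lTensor A₁ ω).bijective)
  exact bijective_of_pushout (h := h) j hj e he hbij (omegaBC (B₁ := B₁) h).toAddMonoidHom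
    (fun b₁ φ => rfl)

end Groth.Agent.S8958
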