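import Groth.Statements.S8960
import Mathlib.Tactic
import Mathlib.Algebra.Module.FinitePresentation
import Mathlib.RingTheory.Flat.EquationalCriterion
import Mathlib.RingTheory.Localization.BaseChange
import Mathlib.Algebra.Module.LocalizedModule.IsLocalization
import Mathlib.LinearAlgebra.Trace

set_option autoImplicit false
universe u
open QFDual
open TensorProduct

namespace Groth.Agent.S8960

section Helpers

/-- trace of an endomorphism given by a finite "projective coordinate system". -/
theorem trace_of_coordinates {K L : Type u} [CommRing K] [AddCommGroup L] [Module K L]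
    [Module.Free K L] [Module.Finite K L] {n : ℕ} (ψ : Fin n → Module.Dual K L) (v : Fin n → L)
    (g : L →ₗ[K] L) (hg : ∀ y, g y = ∑ i, ψ i y • v i) :
    LinearMap.trace K L g = ∑ i, ψ i (v i) := by
  have h1 : g = dualTensorHom K L L (∑ i, ψ i ⊗ₜ[K] v i) := by
    apply LinearMap.ext
    intro y
    rw [hg, map_sum, LinearMap.sum_apply]
    simp only [dualTensorHom_apply]
  rw [h1, LinearMap.trace_eq_contract_apply, map_sum]
  simp only [contractLeft_apply]

end Helpers

/-- Suppose the Dedekind different of A → B is defined: A is Noetherian, B is a finite A-algebra,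
nonzerodivisors of A are nonzerodivisors on B, and with K = Q(A) the total ring of fractions and L =
B ⊗_A K the map K → L is étale (here with L finite free over K). If A → B is flat, then
Trace_{L/K}(b) lies in A for every b ∈ B; equivalently 1 ∈ 𝓛_{B/A}, the Dedekind complementary
module. -/
theorem result (A K B L : Type u) [CommRing A] [CommRing K] [CommRing B] [CommRing L] [Algebra A K] [Algebra A B] [Algebra B L] [Algebra K L] [Algebra A L] [IsScalarTower A K L] [IsScalarTower A B L] (h : QFDual.IsDedekindDefined A K B L) [Module.Flat A B] : (1 : L) ∈ QFDual.complementary A K B L := by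
  have hN : IsNoetherianRing A := h.isNoetherianRing
  have hfin : Module.Finite A B := h.finite
  have hfree : Module.Free K L := h.free
  have hfinKL : Module.Finite K L := h.finiteKL
  have hfrac : IsFractionRing A K := h.isFractionRing
  have hloc : IsLocalization (Algebra.algebraMapSubmonoid B (nonZeroDivisors A)) L :=
    h.isLocalization
  have hfp : Module.FinitePresentation A B := Module.finitePresentation_of_finite A B
  have hproj : Module.Projective A B := Module.Flat.projective_of_finitePresentation
  -- projective coordinates
  obtain ⟨n, f, hf⟩ := Module.Finite.exists_fin' A B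
  obtain ⟨s, hs⟩ := Module.projective_lifting_property f LinearMap.id hf
  let e : Fin n → B := fun i => f (Pi.single i 1)
  let φ : Fin n → (B →ₗ[A] A) := fun i => LinearMap.proj i ∘ₗ s
  have hcoord : ∀ x : B, x = ∑ i, φ i x • e i := by
    intro x
    have h1 : f (s x) = x := LinearMap.congr_fun hs x
    conv_lhs => rw [← h1]
    have h2 : s x = ∑ i, (s x i) • (Pi.single i (1 : A) : Fin n → A) := by
      ext k
      simp [Finset.sum_apply, Pi.single_apply]
    conv_lhs => rw [h2]
    rw [map_sum]
    simp only [map_smul]
    rfl
  -- extension to `L`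
  let ι : B →ₗ[A] L := (IsScalarTower.toAlgHom A B L).toLinearMap
  have hι : ∀ x : B, ι x = algebraMap B L x := fun x => rfl
  have hlm : IsLocalizedModule (nonZeroDivisors A) ι := inferInstance
  have ibc : IsBaseChange K ι := IsLocalizedModule.isBaseChange (nonZeroDivisors A) K ι
  let ψ : Fin n → Module.Dual K L := fun i => ibc.lift (Algebra.linearMap A K ∘ₗ φ i)
  have hψ : ∀ i (x : B), ψ i (ι x) = algebraMap A K (φ i x) := fun i x =>
    ibc.lift_eq (Algebra.linearMap A K ∘ₗ φ i) x
  have hcoordL : ∀ y : L, y = ∑ i, ψ i y • ι (e i) := by
    intro y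
    have h1 : (LinearMap.id : L →ₗ[K] L) = ∑ i, (ψ i).smulRight (ι (e i)) := by
      apply ibc.algHom_ext
      intro x
      rw [LinearMap.id_apply, LinearMap.sum_apply]
      simp only [LinearMap.smulRight_apply, hψ]
      conv_lhs => rw [hcoord x]
      rw [map_sum]
      simp only [map_smul, algebraMap_smul]
    have h2 := LinearMap.congr_fun h1 y
    rw [LinearMap.id_apply, LinearMap.sum_apply] at h2
    simpa only [LinearMap.smulRight_apply] using h2
  intro b
  rw [one_mul, Algebra.trace_apply]
  have hg : ∀ y : L, Algebra.lmul K L (algebraMap B L b) y =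
      ∑ i, ψ i y • (algebraMap B L b * ι (e i)) := by
    intro y
    rw [Algebra.coe_lmul_eq_mul, LinearMap.mul_apply']
    conv_lhs => rw [hcoordL y]
    rw [Finset.mul_sum]
    simp only [mul_smul_comm]
  rw [trace_of_coordinates ψ _ _ hg]
  refine ⟨∑ i, φ i (b * e i), ?_⟩
  rw [map_sum]
  refine Finset.sum_congr rfl fun i _ => ?_
  rw [hι, ← map_mul, ← hι, hψ]

end Groth.Agent.S8960
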