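import Groth.Statements.S8961
import Groth.Agent.Lib.TraceIntegral18

set_option autoImplicit false
universe u
open QFDual

namespace Groth.Agent.S8961

/-- Suppose the Dedekind different of A → B is defined: A is Noetherian, B is a finite A-algebra,
nonzerodivisors of A are nonzerodivisors on B, and with K = Q(A) and L = B ⊗_A K the map K → L is
étale (here with L finite free over K). If A is a normal ring, i.e. every localization A_p at a
prime is an integrally closed domain, then Trace_{L/K}(b) lies in A for every b ∈ B; equivalently 1
∈ 𝓛_{B/A}. -/
theorem result (A K B L : Type u) [CommRing A] [CommRing K] [CommRing B] [CommRing L] [Algebra A K] [Algebra A B] [Algebra B L] [Algebra K L] [Algebra A L] [IsScalarTower A K L] [IsScalarTower A B L] (h : QFDual.IsDedekindDefined A K B L) (hA : EGA4.IsNormalRing A) : (1 : L) ∈ QFDual.complementary A K B L := by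
  intro b
  rw [one_mul]
  have := h.isFractionRing
  have := h.free
  have := h.finiteKL
  have := h.finite
  have hb : IsIntegral A b := IsIntegral.of_finite A b
  refine Groth.Agent.Lib.TraceIntegral18.mem_range_of_forall_maximal _ (fun p hp => ?_)
  have : p.IsPrime := hp.isPrime
  obtain ⟨hdom, hic⟩ := hA p
  exact Groth.Agent.Lib.TraceIntegral18.exists_mul_trace_mem p b hb

end Groth.Agent.S8961
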