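import Groth.Statements.S8962
import Groth.Agent.Lib.DiscFree
import Mathlib.Tactic
import Mathlib.RingTheory.Unramified.Finite
import Mathlib.RingTheory.Etale.Basic
import Mathlib.RingTheory.Localization.BaseChange
import Mathlib.Algebra.Module.LocalizedModule.IsLocalization

set_option autoImplicit false
universe u
open QFDual
open TensorProduct

namespace Groth.Agent.S8962

section Helpers

open Groth.Agent.Lib.DiscFree

/-- (*) for a finite free formally unramified algebra `L / K`: there are finitely many `x_i, y_i` with
`l = ∑ Tr(l x_i) y_i` for all `l`. -/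
theorem exists_dual_system (K L : Type u) [CommRing K] [CommRing L] [Algebra K L] [Module.Free K L]
    [Module.Finite K L] [Algebra.FormallyUnramified K L] :
    ∃ (n : ℕ) (x y : Fin n → L), ∀ l : L, l = ∑ i, Algebra.trace K L (l * x i) • y i := by
  classical
  have : Algebra.EssFiniteType K L := inferInstance
  obtain ⟨n, x, y, ht⟩ : ∃ (n : ℕ) (x y : Fin n → L),
      Algebra.FormallyUnramified.elem K L = ∑ i, x i ⊗ₜ[K] y i := by
    induction Algebra.FormallyUnramified.elem K L using TensorProduct.induction_on with
    | zero => exact ⟨0, Fin.elim0, Fin.elim0, by simp⟩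
    | tmul a b => exact ⟨1, fun _ => a, fun _ => b, by simp⟩
    | add u v hu hv =>
      obtain ⟨n₁, x₁, y₁, h₁⟩ := hu
      obtain ⟨n₂, x₂, y₂, h₂⟩ := hv
      refine ⟨n₁ + n₂, Fin.append x₁ x₂, Fin.append y₁ y₂, ?_⟩
      rw [Fin.sum_univ_add, h₁, h₂]
      simp
  refine ⟨n, x, y, fun l => ?_⟩
  let b := Module.Free.chooseBasis K L
  have hmem : (l ⊗ₜ[K] (1 : L)) * Algebra.FormallyUnramified.elem K L ∈
      Submodule.annihilator (RingHom.ker (Algebra.TensorProduct.lmul' (S := L) K)) := by
    rw [mem_annihilator_iff]
    intro s
    rw [← mul_assoc, ← mul_assoc, mul_comm (s ⊗ₜ[K] (1 : L)), mul_comm ((1 : L) ⊗ₜ[K] s),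
      mul_assoc, mul_assoc, Algebra.FormallyUnramified.one_tmul_mul_elem]
  have h1 := lmul'_eq_pair_trace b _ hmem
  rw [map_mul, Algebra.FormallyUnramified.lmul_elem, mul_one,
    Algebra.TensorProduct.lmul'_apply_tmul, mul_one] at h1
  have h2 : pair (Disc.Omega.trace K L) ((l ⊗ₜ[K] (1 : L)) * Algebra.FormallyUnramified.elem K L) =
      ∑ i, Algebra.trace K L (l * x i) • y i := by
    rw [ht, Finset.mul_sum, map_sum]
    refine Finset.sum_congr rfl fun i _ => ?_
    rw [Algebra.TensorProduct.tmul_mul_tmul, one_mul, pair_tmul]
    rfl
  exact h1.trans h2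

/-- the trace form of a finite free formally unramified algebra is nondegenerate. -/
theorem eq_zero_of_trace_mul_eq_zero (K L : Type u) [CommRing K] [CommRing L] [Algebra K L]
    [Module.Free K L] [Module.Finite K L] [Algebra.FormallyUnramified K L] (x : L)
    (hx : ∀ l : L, Algebra.trace K L (x * l) = 0) : x = 0 := by
  obtain ⟨n, xs, ys, h⟩ := exists_dual_system K L
  rw [h x]
  refine Finset.sum_eq_zero fun i _ => ?_
  rw [hx, zero_smul]

/-- every functional is a trace functional. -/
theorem exists_trace_mul_eq (K L : Type u) [CommRing K] [CommRing L] [Algebra K L]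
    [Module.Free K L] [Module.Finite K L] [Algebra.FormallyUnramified K L] (ψ : L →ₗ[K] K) :
    ∃ c : L, ∀ l : L, Algebra.trace K L (c * l) = ψ l := by
  obtain ⟨n, xs, ys, h⟩ := exists_dual_system K L
  refine ⟨∑ i, ψ (ys i) • xs i, fun l => ?_⟩
  conv_rhs => rw [h l]
  rw [Finset.sum_mul, map_sum, map_sum]
  refine Finset.sum_congr rfl fun i _ => ?_
  rw [smul_mul_assoc, map_smul, map_smul, smul_eq_mul, smul_eq_mul, mul_comm (xs i) l, mul_comm]

end Helpers

/-- If the Dedekind different of A → B is defined (A Noetherian, B a finite A-algebra, nonzerodivisors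
of A nonzerodivisors on B, K = Q(A) → L = B ⊗_A K étale, here with L finite free over K), then x ↦
(b ↦ Trace_{L/K}(x b)) is a B-linear isomorphism from the Dedekind complementary module 𝓛_{B/A} onto
ω_{B/A} = Hom_A(B, A), the latter with B acting through the argument. Stated as the existence of a
B-linear equivalence e with algebraMap (e(x)(b)) = Trace_{L/K}(x b) in K for all x and b, which
determines e since A → K is injective. -/
theorem result (A K B L : Type u) [CommRing A] [CommRing K] [CommRing B] [CommRing L] [Algebra A K] [Algebra A B] [Algebra B L] [Algebra K L] [Algebra A L] [IsScalarTower A K L] [IsScalarTower A B L] (h : QFDual.IsDedekindDefined A K B L) : ∃ e : QFDual.complementary A K B L ≃ₗ[B] Disc.Omega A B, ∀ (x : QFDual.complementary A K B L) (b : B), algebraMap A K ((e x).toLinearMap b) = Algebra.trace K L ((x : L) * algebraMap B L b) := by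
  have hfree : Module.Free K L := h.free
  have hfinKL : Module.Finite K L := h.finiteKL
  have hfrac : IsFractionRing A K := h.isFractionRing
  have hloc : IsLocalization (Algebra.algebraMapSubmonoid B (nonZeroDivisors A)) L :=
    h.isLocalization
  have hetale : Algebra.Etale K L := h.etale
  have hunr : Algebra.FormallyUnramified K L := inferInstance
  have hinj : Function.Injective (algebraMap A K) := IsFractionRing.injective A K
  -- the functional attached to `x`
  have hex : ∀ (x : complementary A K B L) (b : B),
      ∃ a : A, algebraMap A K a = Algebra.trace K L ((x : L) * algebraMap B L b) := fun x b => x.2 b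
  choose a ha using hex
  have hscal : ∀ (r : A) (b : B), algebraMap B L (r • b) = algebraMap A K r • algebraMap B L b := by
    intro r b
    rw [Algebra.smul_def, map_mul, ← IsScalarTower.algebraMap_apply A B L,
      IsScalarTower.algebraMap_apply A K L, ← Algebra.smul_def]
  let e₀ : complementary A K B L → Disc.Omega A B := fun x =>
    ⟨{ toFun := fun b => a x b
       map_add' := by
         intro b c
         apply hinj
         rw [map_add, ha, ha, ha, map_add, mul_add, map_add]
       map_smul' := by
         intro r b
         apply hinj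
         rw [RingHom.id_apply, smul_eq_mul, map_mul, ha, ha, hscal, mul_smul_comm, map_smul,
           smul_eq_mul] }⟩
  have he₀ : ∀ x b, algebraMap A K ((e₀ x).toLinearMap b) =
      Algebra.trace K L ((x : L) * algebraMap B L b) := fun x b => ha x b
  have hext : ∀ φ ψ : Disc.Omega A B,
      (∀ b, algebraMap A K (φ.toLinearMap b) = algebraMap A K (ψ.toLinearMap b)) → φ = ψ := by
    intro φ ψ hφψ
    apply Disc.Omega.ext
    apply LinearMap.ext
    intro b
    exact hinj (hφψ b)
  -- extension of functionals to `L`
  let ι : B →ₗ[A] L := (IsScalarTower.toAlgHom A B L).toLinearMap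
  have hι : ∀ x : B, ι x = algebraMap B L x := fun x => rfl
  have hlm : IsLocalizedModule (nonZeroDivisors A) ι := inferInstance
  have ibc : IsBaseChange K ι := IsLocalizedModule.isBaseChange (nonZeroDivisors A) K ι
  let eLin : complementary A K B L →ₗ[B] Disc.Omega A B :=
    { toFun := e₀
      map_add' := by
        intro x y
        apply hext
        intro b
        rw [he₀, Disc.Omega.add_toLinearMap, LinearMap.add_apply, map_add, he₀, he₀,
          Submodule.coe_add, add_mul, map_add]
      map_smul' := by
        intro c x
        apply hext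
        intro b
        rw [RingHom.id_apply, he₀, Disc.Omega.smul_toLinearMap_apply, he₀, Submodule.coe_smul,
          Algebra.smul_def, map_mul (algebraMap B L)]
        congr 1
        ring }
  have heLin : ∀ x, eLin x = e₀ x := fun x => rfl
  have hbij : Function.Bijective eLin := by
    constructor
    · rw [← LinearMap.ker_eq_bot, LinearMap.ker_eq_bot']
      intro x hx
      apply Subtype.ext
      show (x : L) = 0
      apply eq_zero_of_trace_mul_eq_zero K L
      intro l
      -- both sides are `K`-linear in `l`
      have h1 : (Algebra.trace K L ∘ₗ LinearMap.mulLeft K (x : L)) = 0 := by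
        apply ibc.algHom_ext
        intro b
        rw [LinearMap.comp_apply, LinearMap.mulLeft_apply, hι, ← he₀, ← heLin, hx]
        simp
      exact LinearMap.congr_fun h1 l
    · intro φ
      let ψ : L →ₗ[K] K := ibc.lift (Algebra.linearMap A K ∘ₗ φ.toLinearMap)
      have hψ : ∀ b : B, ψ (algebraMap B L b) = algebraMap A K (φ.toLinearMap b) := fun b =>
        ibc.lift_eq (Algebra.linearMap A K ∘ₗ φ.toLinearMap) b
      obtain ⟨c, hc⟩ := exists_trace_mul_eq K L ψ
      have hcmem : c ∈ complementary A K B L := by
        intro b
        rw [hc, hψ]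
        exact ⟨_, rfl⟩
      refine ⟨⟨c, hcmem⟩, ?_⟩
      apply hext
      intro b
      rw [heLin, he₀, hc, hψ]
  exact ⟨LinearEquiv.ofBijective eLin hbij, fun x b => he₀ x b⟩

end Groth.Agent.S8962
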