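import Groth.Statements.S8965
import Groth.Agent.S8962
import Groth.Agent.S8960
import Mathlib.Tactic
import Mathlib.RingTheory.Localization.NormTrace

set_option autoImplicit false
universe u
open QFDual

namespace Groth.Agent.S8965

/-- Suppose the Dedekind different of A → B is defined (A Noetherian, B a finite A-algebra,
nonzerodivisors of A nonzerodivisors on B, K = Q(A) → L = B ⊗_A K étale, here with L finite free
over K) and that B is free as an A-module. Then the Dedekind different 𝔇_{B/A} ⊆ L is the image
under B → L of the ideal of b ∈ B with b · Hom_A(B, A) ⊆ B · Trace_{B/A}, where B acts on Hom_A(B,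
A) through the argument. (The published statement assumes only A → B flat, with the trace element
τ_{B/A} of the relative dualizing module ω_{B/A}; for B finite free these are Trace_{B/A} and
Hom_A(B, A), the case taken here.) -/
theorem result (A K B L : Type u) [CommRing A] [CommRing K] [CommRing B] [CommRing L] [Algebra A K] [Algebra A B] [Algebra B L] [Algebra K L] [Algebra A L] [IsScalarTower A K L] [IsScalarTower A B L] (h : QFDual.IsDedekindDefined A K B L) [Module.Finite A B] [Module.Free A B] : QFDual.dedekindDifferent A K B L = Submodule.map (Algebra.linearMap B L) (QFDual.different B (Disc.Omega.trace A B)) := by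
  have hfrac : IsFractionRing A K := h.isFractionRing
  have hloc : IsLocalization (Algebra.algebraMapSubmonoid B (nonZeroDivisors A)) L :=
    h.isLocalization
  have hinj : Function.Injective (algebraMap A K) := IsFractionRing.injective A K
  have hflat : Module.Flat A B := inferInstance
  have h1 : (1 : L) ∈ complementary A K B L := Groth.Agent.S8960.result A K B L h
  obtain ⟨e, he⟩ := Groth.Agent.S8962.result A K B L h
  -- `e 1 = τ`
  have he1 : e ⟨1, h1⟩ = Disc.Omega.trace A B := by
    apply Disc.Omega.ext
    apply LinearMap.ext
    intro b
    apply hinj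
    rw [he]
    show Algebra.trace K L ((1 : L) * algebraMap B L b) = algebraMap A K (Algebra.trace A B b)
    rw [one_mul, Algebra.trace_localization A (nonZeroDivisors A)]
  have hsm : ∀ (c : B) (y : complementary A K B L), ((c • y : complementary A K B L) : L) =
      algebraMap B L c * (y : L) := fun c y => by
    rw [Submodule.coe_smul, Algebra.smul_def]
  ext x
  constructor
  · intro hx
    obtain ⟨b, hb⟩ := hx 1 h1
    rw [mul_one] at hb
    refine ⟨b, ?_, hb⟩
    rw [SetLike.mem_coe, mem_different_iff]
    intro φ
    obtain ⟨c, hc⟩ := hx (e.symm φ : L) (e.symm φ).2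
    refine ⟨c, ?_⟩
    have h2 : c • (⟨1, h1⟩ : complementary A K B L) = b • e.symm φ := by
      apply Subtype.ext
      rw [hsm, hsm, mul_one, hc, hb]
    have h3 := congrArg e h2
    rw [map_smul, map_smul, he1, LinearEquiv.apply_symm_apply] at h3
    exact h3
  · rintro ⟨b, hb, rfl⟩
    rw [SetLike.mem_coe, mem_different_iff] at hb
    intro y hy
    obtain ⟨c, hc⟩ := hb (e ⟨y, hy⟩)
    refine ⟨c, ?_⟩
    rw [← he1, ← map_smul, ← map_smul] at hc
    have h2 := e.injective hc
    have h3 := congrArg (fun z : complementary A K B L => (z : L)) h2
    simp only [hsm, mul_one] at h3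
    exact h3

end Groth.Agent.S8965
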