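import Groth.Statements.S8967
import Groth.Agent.S8958
import Groth.Agent.Lib.DiscFree
import Mathlib.Tactic
import Mathlib.RingTheory.Flat.Equalizer
import Mathlib.RingTheory.Flat.Stability
import Mathlib.LinearAlgebra.TensorProduct.Pi

set_option autoImplicit false
universe u
open QFDual
open TensorProduct

namespace Groth.Agent.S8967

section Helpers

/-- the different `(B τ : Ω)` of a finitely generated module commutes with flat base change. -/
theorem different_map_of_flat {B B' Ω Ω' : Type u} [CommRing B] [CommRing B'] [Algebra B B']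
    [Module.Flat B B'] [AddCommGroup Ω] [Module B Ω] [AddCommGroup Ω'] [Module B' Ω']
    (bc : Ω →+ Ω') (hbc : ∀ (b : B) (φ : Ω), bc (b • φ) = algebraMap B B' b • bc φ)
    (J : B' ⊗[B] Ω →+ Ω') (hJ : ∀ (β : B') (φ : Ω), J (β ⊗ₜ[B] φ) = β • bc φ)
    (hJbij : Function.Bijective J) (τ : Ω) {ι : Type*} [Fintype ι] (g : ι → Ω)
    (hg : ∀ φ : Ω, ∃ r : ι → B, φ = ∑ i, r i • g i) :
    Ideal.map (algebraMap B B') (different B τ) = different B' (bc τ) := by
  classical
  apply le_antisymm
  · rw [Ideal.map_le_iff_le_comap]
    intro b hb
    rw [Ideal.mem_comap, mem_different_iff]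
    rw [mem_different_iff] at hb
    intro m'
    obtain ⟨z, rfl⟩ := hJbij.2 m'
    induction z using TensorProduct.induction_on with
    | zero => exact ⟨0, by rw [zero_smul, map_zero, smul_zero]⟩
    | add z₁ z₂ h₁ h₂ =>
      obtain ⟨c₁, hc₁⟩ := h₁
      obtain ⟨c₂, hc₂⟩ := h₂
      exact ⟨c₁ + c₂, by rw [add_smul, hc₁, hc₂, map_add, smul_add]⟩
    | tmul β φ =>
      obtain ⟨c, hc⟩ := hb φ
      refine ⟨β * algebraMap B B' c, ?_⟩
      rw [hJ, mul_smul, ← hbc, hc, hbc, smul_comm]
  · intro x' hx'
    rw [mem_different_iff] at hx'
    choose c' hc' using fun i => hx' (bc (g i))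
    -- the map `Θ`
    let Θ : (B × (ι → B)) →ₗ[B] (ι → Ω) :=
      { toFun := fun p i => p.1 • g i - p.2 i • τ
        map_add' := by
          intro p q
          funext i
          simp only [Prod.fst_add, Prod.snd_add, Pi.add_apply, add_smul]
          abel
        map_smul' := by
          intro r p
          funext i
          simp only [Prod.smul_fst, Prod.smul_snd, Pi.smul_apply, smul_eq_mul, RingHom.id_apply,
            mul_smul, smul_sub] }
    have hΘ : ∀ (p : B × (ι → B)) i, Θ p i = p.1 • g i - p.2 i • τ := fun p i => rfl
    -- elements of the kernel have first coordinate in the different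
    have hker : ∀ p : B × (ι → B), Θ p = 0 → p.1 ∈ different B τ := by
      intro p hp
      rw [mem_different_iff]
      intro φ
      obtain ⟨r, rfl⟩ := hg φ
      refine ⟨∑ i, r i * p.2 i, ?_⟩
      rw [Finset.sum_smul, Finset.smul_sum]
      refine Finset.sum_congr rfl fun i _ => ?_
      have h1 : p.1 • g i = p.2 i • τ := by
        have := congrFun hp i
        rw [hΘ, Pi.zero_apply, sub_eq_zero] at this
        exact this
      rw [mul_smul, ← h1, smul_comm]
    -- the element `z`
    let z : B' ⊗[B] (B × (ι → B)) :=
      x' ⊗ₜ[B] ((1 : B), (0 : ι → B)) + ∑ i, c' i ⊗ₜ[B] ((0 : B), (Pi.single i (1 : B) : ι → B))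
    -- the comparison map on the target
    have hinjP : ∀ w : B' ⊗[B] (ι → Ω),
        (∀ j, J (LinearMap.lTensor B' (LinearMap.proj j : (ι → Ω) →ₗ[B] Ω) w) = 0) → w = 0 := by
      have hpi : ∀ (w : B' ⊗[B] (ι → Ω)) (j : ι),
          TensorProduct.piRight B B B' (fun _ : ι => Ω) w j =
            LinearMap.lTensor B' (LinearMap.proj j : (ι → Ω) →ₗ[B] Ω) w := by
        intro w j
        induction w using TensorProduct.induction_on with
        | zero => simp
        | add w₁ w₂ h₁ h₂ => rw [map_add, map_add, Pi.add_apply, h₁, h₂]
        | tmul β f => rfl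
      intro w hw
      apply (TensorProduct.piRight B B B' (fun _ : ι => Ω)).injective
      rw [map_zero]
      funext j
      apply hJbij.1
      rw [Pi.zero_apply, map_zero, ← hw j, hpi]
    have hz : LinearMap.lTensor B' Θ z = 0 := by
      apply hinjP
      intro j
      simp only [z, map_add, map_sum, LinearMap.lTensor_tmul, LinearMap.proj_apply, hΘ, hJ]
      rw [Finset.sum_eq_single j]
      · simp only [Pi.zero_apply, zero_smul, sub_zero, one_smul, Pi.single_eq_same, zero_sub,
          map_neg, smul_neg]
        rw [hc' j]
        exact add_neg_cancel _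
      · intro i _ hij
        simp only [Pi.single_apply, if_neg (Ne.symm hij), zero_smul, sub_zero, map_zero, smul_zero]
      · intro hj
        exact absurd (Finset.mem_univ j) hj
    have hex : Function.Exact (LinearMap.ker Θ).subtype Θ := LinearMap.exact_subtype_ker_map Θ
    have hex' := Module.Flat.lTensor_exact B' hex
    obtain ⟨y, hy⟩ := (hex' z).mp hz
    let π₁ : B' ⊗[B] (B × (ι → B)) →ₗ[B] B' :=
      (TensorProduct.rid B B').toLinearMap ∘ₗ
        LinearMap.lTensor B' (LinearMap.fst B B (ι → B))
    have hπ₁ : ∀ (β : B') (p : B × (ι → B)), π₁ (β ⊗ₜ[B] p) = p.1 • β := fun β p => rfl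
    have hπz : π₁ z = x' := by
      simp only [z, map_add, map_sum, hπ₁, one_smul, zero_smul, Finset.sum_const_zero, add_zero]
    have hclaim : ∀ y : B' ⊗[B] (LinearMap.ker Θ),
        π₁ (LinearMap.lTensor B' (LinearMap.ker Θ).subtype y) ∈
          Ideal.map (algebraMap B B') (different B τ) := by
      intro y
      induction y using TensorProduct.induction_on with
      | zero => simp
      | add a b ha hb =>
        rw [map_add, map_add]
        exact Ideal.add_mem _ ha hb
      | tmul β k =>
        rw [LinearMap.lTensor_tmul, hπ₁, Submodule.subtype_apply, Algebra.smul_def]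
        exact Ideal.mul_mem_right _ _
          (Ideal.mem_map_of_mem _ (hker k.1 (LinearMap.mem_ker.mp k.2)))
    have := hclaim y
    rw [hy, hπz] at this
    exact this

end Helpers

/-- Flat base change, affine finite free case. Let A and A' be Noetherian rings, B an A-algebra which is
finite free as an A-module, A → A' a ring map and B' a ring making A → A', B → B' cocartesian (B' =
B ⊗_A A', again finite free over A'). Write 𝔇 ⊆ B and 𝔇' ⊆ B' for the differents: the ideals of
elements b with b · Hom_A(B, A) ⊆ B · Trace_{B/A}, respectively b' · Hom_{A'}(B', A') ⊆ B' ·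
Trace_{B'/A'}. If A → A' is flat, then 𝔇B' = 𝔇'. (The published statement is for the different of a
flat quasi-finite morphism of Noetherian schemes under base change, phrased with the closed
subschemes the differents cut out; this row is the affine finite free case, where the relative
dualizing module is Hom_A(B, A) and the trace element is the trace.) -/
theorem result (A B A' B' : Type u) [CommRing A] [CommRing B] [CommRing A'] [CommRing B'] [IsNoetherianRing A] [IsNoetherianRing A'] [Algebra A B] [Module.Finite A B] [Module.Free A B] [Algebra A A'] [Algebra B B'] [Algebra A' B'] [Algebra A B'] [IsScalarTower A A' B'] [IsScalarTower A B B'] (hB : Algebra.IsPushout A A' B B') [Module.Finite A' B'] [Module.Free A' B'] [Module.Flat A A'] : Ideal.map (algebraMap B B') (QFDual.different B (Disc.Omega.trace A B)) = QFDual.different B' (Disc.Omega.trace A' B') := by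
  classical
  -- `B'` is flat over `B`
  have hflat : Module.Flat B B' :=
    Module.Flat.isBaseChange A B A' B' (Algebra.IsPushout.symm hB).out
  -- trace commutes with base change
  have htr : ∀ x : B, Algebra.trace A' B' (algebraMap B B' x) =
      algebraMap A A' (Algebra.trace A B x) := by
    intro x
    let bas := Module.Free.chooseBasis A B
    let bas' := hB.out.basis bas
    have hbas' : ∀ i, bas' i = algebraMap B B' (bas i) := fun i => hB.out.basis_apply bas i
    rw [Algebra.trace_eq_matrix_trace bas, Algebra.trace_eq_matrix_trace bas', Matrix.trace,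
      Matrix.trace, map_sum]
    refine Finset.sum_congr rfl fun i _ => ?_
    rw [Matrix.diag_apply, Matrix.diag_apply, Algebra.leftMulMatrix_eq_repr_mul,
      Algebra.leftMulMatrix_eq_repr_mul, hbas', ← map_mul]
    exact hB.out.basis_repr_comp_apply bas (x * bas i) i
  have hτ : bcFin hB (Disc.Omega.trace A B) = Disc.Omega.trace A' B' := by
    apply Disc.Omega.ext
    apply hB.out.algHom_ext
    intro x
    exact (bcFin_apply_algebraMap hB _ x).trans (htr x).symm
  -- the comparison isomorphism
  let J : B' ⊗[B] Disc.Omega A B →+ Disc.Omega A' B' :=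
    ((TensorProduct.lid B' (Disc.Omega A' B')).toLinearMap ∘ₗ
      (omegaBC (B₁ := B') hB)).toAddMonoidHom
  have hJ : ∀ (β : B') (φ : Disc.Omega A B), J (β ⊗ₜ[B] φ) = β • bcFin hB φ := fun β φ => rfl
  have hJbij : Function.Bijective J :=
    (TensorProduct.lid B' (Disc.Omega A' B')).bijective.comp
      (Groth.Agent.S8958.result A B A' B' B' hB)
  -- generators of omega
  let bas := Module.Free.chooseBasis A B
  have hg : ∀ φ : Disc.Omega A B, ∃ r : Module.Free.ChooseBasisIndex A B → B,
      φ = ∑ i, r i • Groth.Agent.Lib.DiscFree.coordOmega bas i := fun φ =>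
    ⟨_, Groth.Agent.Lib.DiscFree.omega_eq_sum bas φ⟩
  have h := different_map_of_flat (bcFin hB).toAddMonoidHom
    (fun b φ => (bcFin hB).map_smulₛₗ b φ) J hJ hJbij (Disc.Omega.trace A B) _ hg
  rw [h]
  show different B' (bcFin hB (Disc.Omega.trace A B)) = _
  rw [hτ]

end Groth.Agent.S8967
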