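import Groth.Statements.S8971
-- import your own Groth.Agent.* helpers here
import Mathlib
import Groth.Agent.S2218

set_option autoImplicit false
set_option linter.style.haveILetI false
universe u
open TensorProduct
open QFDual

namespace Groth.Agent.S8971

open CategoryTheory AlgebraicGeometry

section general

variable {R S : Type u} [CommRing R] [CommRing S] [Algebra R S]

lemma localRingHom_bijective
    (hopen : IsOpenImmersion (Spec.map (CommRingCat.ofHom (algebraMap R S))))
    (q : Ideal S) [hq : q.IsPrime] :
    Function.Bijective (Localization.localRingHom (q.comap (algebraMap R S)) q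
      (algebraMap R S) rfl) := by
  have h1 : IsIso ((Spec.map (CommRingCat.ofHom (algebraMap R S))).stalkMap ⟨q, hq⟩) :=
    (IsOpenImmersion.iff_isIso_stalkMap.mp hopen).2 _
  have h2 := (MorphismProperty.arrow_mk_iso_iff (MorphismProperty.isomorphisms CommRingCat)
    (Scheme.arrowStalkMapSpecIso (CommRingCat.ofHom (algebraMap R S)) ⟨q, hq⟩)).mp h1
  have h3 : IsIso (CommRingCat.ofHom (Localization.localRingHom
      (q.comap (algebraMap R S)) q (algebraMap R S) rfl)) := h2
  exact ConcreteCategory.bijective_of_isIso (CommRingCat.ofHom (Localization.localRingHom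
      (q.comap (algebraMap R S)) q (algebraMap R S) rfl))

/-- `S_q` is the localization of `R` at the contraction of `q`. -/
lemma isLocalization_atPrime
    (hopen : IsOpenImmersion (Spec.map (CommRingCat.ofHom (algebraMap R S))))
    (q : Ideal S) [hq : q.IsPrime] :
    IsLocalization (q.comap (algebraMap R S)).primeCompl (Localization.AtPrime q) := by
  let e0 : Localization.AtPrime (q.comap (algebraMap R S)) ≃+* Localization.AtPrime q :=
    RingEquiv.ofBijective _ (localRingHom_bijective hopen q)
  let e : Localization.AtPrime (q.comap (algebraMap R S)) ≃ₐ[R] Localization.AtPrime q :=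
    { e0 with
      commutes' := fun r => by
        change Localization.localRingHom (q.comap (algebraMap R S)) q (algebraMap R S) rfl
          (algebraMap R _ r) = _
        rw [Localization.localRingHom_to_map, ← IsScalarTower.algebraMap_apply] }
  exact IsLocalization.isLocalization_of_algEquiv (q.comap (algebraMap R S)).primeCompl e

variable {M : Type u} [AddCommGroup M] [Module R M]

open Module in
theorem ass_baseChange [IsNoetherianRing R] [IsNoetherianRing S]
    (hopen : IsOpenImmersion (Spec.map (CommRingCat.ofHom (algebraMap R S)))) :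
    associatedPrimes S (S ⊗[R] M) =
      {q : Ideal S | q.IsPrime ∧ q.comap (algebraMap R S) ∈ associatedPrimes R M} := by
  ext q
  rw [Set.mem_setOf_eq]
  suffices h : ∀ [q.IsPrime], q ∈ associatedPrimes S (S ⊗[R] M) ↔
      q.comap (algebraMap R S) ∈ associatedPrimes R M by
    constructor
    · intro hq
      haveI := hq.isPrime
      exact ⟨hq.isPrime, h.mp hq⟩
    · rintro ⟨hq, hq'⟩
      exact h.mpr hq'
  intro hq
  haveI := isLocalization_atPrime hopen q
  let Sq := Localization.AtPrime q
  let Nq := LocalizedModule q.primeCompl (S ⊗[R] M)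
  let g : (S ⊗[R] M) →ₗ[S] Nq := LocalizedModule.mkLinearMap q.primeCompl (S ⊗[R] M)
  let f0 : M →ₗ[R] S ⊗[R] M := TensorProduct.mk R S M 1
  have hf0 : IsBaseChange S f0 := TensorProduct.isBaseChange R M S
  have hg : IsBaseChange Sq g := LocalizedModule.isBaseChange q.primeCompl (S ⊗[R] M)
  let f : M →ₗ[R] Nq := (g.restrictScalars R).comp f0
  have hf : IsBaseChange Sq f := hf0.comp hg
  haveI : IsLocalizedModule (q.comap (algebraMap R S)).primeCompl f :=
    (isLocalizedModule_iff_isBaseChange (q.comap (algebraMap R S)).primeCompl Sq f).mpr hf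
  have h1 := associatedPrimes.preimage_comap_associatedPrimes_eq_associatedPrimes_of_isLocalizedModule
    (M := S ⊗[R] M) (M' := Nq) q.primeCompl Sq g
  have h2 := associatedPrimes.preimage_comap_associatedPrimes_eq_associatedPrimes_of_isLocalizedModule
    (M := M) (M' := Nq) (q.comap (algebraMap R S)).primeCompl Sq f
  have hm1 : (IsLocalRing.maximalIdeal Sq).comap (algebraMap S Sq) = q :=
    Localization.AtPrime.comap_maximalIdeal
  have hm2 : (IsLocalRing.maximalIdeal Sq).comap (algebraMap R Sq) = q.comap (algebraMap R S) := by
    rw [IsScalarTower.algebraMap_eq R S Sq, ← Ideal.comap_comap, hm1]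
  have k1 : q ∈ associatedPrimes S (S ⊗[R] M) ↔
      IsLocalRing.maximalIdeal Sq ∈ associatedPrimes Sq Nq := by
    rw [← h1, Set.mem_preimage, hm1]
  have k2 : q.comap (algebraMap R S) ∈ associatedPrimes R M ↔
      IsLocalRing.maximalIdeal Sq ∈ associatedPrimes Sq Nq := by
    rw [← h2, Set.mem_preimage, hm2]
  rw [k1, k2]

end general

/-- Let A → B be a quasi-finite homomorphism of Noetherian rings, presented by writing it as a composite
A → B' → B, where the map A → B' is finite and the induced morphism Spec B → Spec B' is an open
immersion, so that ω_{B/A} = B ⊗_{B'} Hom_A(B', A) (B' acting on Hom_A(B', A) through the argument).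
Then Ass_B(ω_{B/A}) is the set of primes of B whose preimage in A is an associated prime of A. -/
theorem result (A B' B : Type u) [CommRing A] [CommRing B'] [CommRing B] [IsNoetherianRing A] [IsNoetherianRing B] [Algebra A B'] [Algebra B' B] [Algebra A B] [IsScalarTower A B' B] (hf : QFDual.IsQFFactor A B' B) : associatedPrimes B (QFDual.omega A B' B) = {q : Ideal B | q.IsPrime ∧ q.comap (algebraMap A B) ∈ associatedPrimes A A} := by
  haveI : Module.Finite A B' := hf.finite
  haveI : IsNoetherianRing B' := IsNoetherianRing.of_finite A B'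
  have h1 := ass_baseChange (R := B') (S := B) (M := Disc.Omega A B') hf.isOpenImmersion
  have h2 := Groth.Agent.S2218.result (A := A) (B := B')
  change associatedPrimes B (B ⊗[B'] Disc.Omega A B') = _
  rw [h1, h2]
  ext q
  simp only [Set.mem_setOf_eq]
  constructor
  · rintro ⟨hq, -, h⟩
    refine ⟨hq, ?_⟩
    rwa [Ideal.comap_comap, ← IsScalarTower.algebraMap_eq] at h
  · rintro ⟨hq, h⟩
    refine ⟨hq, Ideal.comap_isPrime _ _, ?_⟩
    rwa [Ideal.comap_comap, ← IsScalarTower.algebraMap_eq]

end Groth.Agent.S8971
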