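import Groth.Statements.S8972
import Mathlib

set_option autoImplicit false
open Synt

namespace Groth.Agent.S8972

section Helpers
open MvPolynomial

variable {n d : ℕ}

/-- the zero exponent vector as an index. -/
def E0 : UnivIdx n d := ⟨fun _ => 0, by simp⟩

lemma E0_exponent : (E0 : UnivIdx n d).exponent = 0 := by
  ext i
  simp [UnivIdx.exponent, E0]

/-- index set of the remaining coefficient variables -/
abbrev I0 (n d : ℕ) : Type := Fin n × {E : UnivIdx n d // E ≠ E0}

abbrev D (n d : ℕ) : Type := MvPolynomial (I0 n d) ℤ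
abbrev Cc (n d : ℕ) : Type := MvPolynomial (Fin n) (D n d)

/-- image of the coefficient variable a_{i,E} in the polynomial ring. -/
noncomputable def gX (p : Fin n × UnivIdx n d) : Cc n d :=
  if h : p.2 = E0 then
    - ∑ E : UnivIdx n d, (if h' : E = E0 then 0 else monomial E.exponent (X (p.1, ⟨E, h'⟩) : D n d))
  else C (X (p.1, ⟨p.2, h⟩))

noncomputable def g : UnivBase n d →+* Cc n d :=
  eval₂Hom (Int.castRingHom (Cc n d)) gX

noncomputable def F' : MvPolynomial (Fin n) (UnivBase n d) →+* Cc n d :=
  eval₂Hom g X

lemma F'_monomial (s : Fin n →₀ ℕ) (a : UnivBase n d) :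
    F' (monomial s a) = g a * monomial s 1 := by
  rw [F', coe_eval₂Hom, eval₂_monomial]
  congr 1
  rw [monomial_eq]
  simp

lemma F'_univPoly (i : Fin n) : F' (univPoly n d i) = 0 := by
  classical
  unfold univPoly
  rw [map_sum]
  simp only [F'_monomial]
  rw [← Finset.add_sum_erase _ _ (Finset.mem_univ (E0 : UnivIdx n d))]
  have h0 : g (X (i, (E0 : UnivIdx n d))) = gX (i, E0) := by
    simp [g]
  rw [h0, E0_exponent]
  have h1 : (monomial (0 : Fin n →₀ ℕ) (1 : D n d)) = 1 := rfl
  rw [h1, mul_one]
  simp only [gX, dif_pos]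
  rw [← Finset.add_sum_erase _ _ (Finset.mem_univ (E0 : UnivIdx n d))]
  simp only [dif_pos, zero_add]
  rw [neg_add_eq_zero]
  refine Finset.sum_congr rfl fun E hE => ?_
  have hE' : E ≠ E0 := (Finset.mem_erase.mp hE).1
  have h2 : g (X (i, E)) = gX (i, E) := by simp [g]
  rw [h2]
  simp only [gX, dif_neg hE']
  rw [C_mul_monomial, mul_one]


abbrev Q (n d : ℕ) : Type := MvPolynomial (Fin n) (UnivBase n d) ⧸ Ideal.span (Set.range (univPoly n d))

noncomputable abbrev mkQ : MvPolynomial (Fin n) (UnivBase n d) →+* Q n d :=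
  Ideal.Quotient.mk (Ideal.span (Set.range (univPoly n d)))

noncomputable def F : Q n d →+* Cc n d :=
  Ideal.Quotient.lift _ F' (by
    intro a ha
    have : Ideal.span (Set.range (univPoly n d)) ≤ RingHom.ker (F' (n := n) (d := d)) := by
      rw [Ideal.span_le]
      rintro _ ⟨j, rfl⟩
      exact F'_univPoly j
    exact this ha)

noncomputable def G0 : D n d →+* Q n d :=
  eval₂Hom (Int.castRingHom (Q n d)) (fun p => mkQ (C (X (p.1, p.2.1))))

noncomputable def G : Cc n d →+* Q n d :=
  eval₂Hom G0 (fun i => mkQ (X i))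

lemma mkQ_univPoly (i : Fin n) : mkQ (univPoly n d i) = 0 :=
  Ideal.Quotient.eq_zero_iff_mem.mpr (Ideal.subset_span ⟨i, rfl⟩)

lemma G_monomial (s : Fin n →₀ ℕ) (p : I0 n d) :
    G (monomial s (X p : D n d)) = mkQ (monomial s (X (p.1, p.2.1))) := by
  rw [G, coe_eval₂Hom, eval₂_monomial]
  have : G0 (X p : D n d) = mkQ (C (X (p.1, p.2.1))) := by simp [G0]
  rw [this]
  rw [show (monomial s (X (p.1, p.2.1) : UnivBase n d)) = C (X (p.1, p.2.1)) * monomial s 1 by
    rw [C_mul_monomial, mul_one]]
  rw [map_mul]
  congr 1
  have h2 : mkQ (monomial s (1 : UnivBase n d)) = ∏ x ∈ s.support, mkQ (X x) ^ s x := by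
    rw [monomial_eq, C_1, one_mul, Finsupp.prod, map_prod]
    exact Finset.prod_congr rfl (fun x _ => map_pow _ _ _)
  rw [h2]
  rfl

lemma G_gX (p : Fin n × UnivIdx n d) : G (gX p) = mkQ (C (X p)) := by
  classical
  obtain ⟨i, E⟩ := p
  by_cases h : E = E0
  · subst h
    simp only [gX, dif_pos]
    rw [map_neg, map_sum]
    have key := mkQ_univPoly (n := n) (d := d) i
    unfold univPoly at key
    rw [map_sum, ← Finset.add_sum_erase _ _ (Finset.mem_univ (E0 : UnivIdx n d)), E0_exponent] at key
    have h1 : (monomial (0 : Fin n →₀ ℕ) (X (i, (E0 : UnivIdx n d)) : UnivBase n d)) = C (X (i, E0)) := rfl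
    rw [h1] at key
    rw [← Finset.add_sum_erase _ _ (Finset.mem_univ (E0 : UnivIdx n d))]
    simp only [dif_pos, map_zero, zero_add]
    rw [neg_eq_iff_add_eq_zero, add_comm]
    refine Eq.trans ?_ key
    congr 1
    refine Finset.sum_congr rfl fun E hE => ?_
    have hE' : E ≠ E0 := (Finset.mem_erase.mp hE).1
    rw [dif_neg hE', G_monomial]
    rfl
  · simp only [gX, dif_neg h]
    simp [G, G0]

lemma G_comp_F : (G (n := n) (d := d)).comp F = RingHom.id _ := by
  apply Ideal.Quotient.ringHom_ext
  apply MvPolynomial.ringHom_ext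
  · intro a
    simp only [RingHom.comp_apply, RingHom.id_apply, F, Ideal.Quotient.lift_mk]
    have : F' (C a : MvPolynomial (Fin n) (UnivBase n d)) = g a := by simp [F']
    rw [this]
    clear this
    revert a
    suffices h : (G.comp g) = (mkQ (n := n) (d := d)).comp C from fun a => RingHom.congr_fun h a
    apply MvPolynomial.ringHom_ext
    · intro z
      simp
    · intro p
      simp only [RingHom.comp_apply]
      have : g (X p) = gX p := by simp [g]
      rw [this, G_gX]
  · intro i
    simp [F, F', G]

lemma F_comp_G : (F (n := n) (d := d)).comp G = RingHom.id _ := by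
  apply MvPolynomial.ringHom_ext
  · intro a
    simp only [RingHom.comp_apply, RingHom.id_apply]
    have : G (C a) = G0 a := by simp [G]
    rw [this]
    clear this
    revert a
    suffices h : (F.comp G0) = (C : D n d →+* Cc n d) from fun a => RingHom.congr_fun h a
    apply MvPolynomial.ringHom_ext
    · intro z
      simp
    · intro p
      simp only [RingHom.comp_apply]
      have : G0 (X p) = mkQ (C (X (p.1, p.2.1))) := by simp [G0]
      rw [this]
      simp only [F, Ideal.Quotient.lift_mk]
      have : F' (C (X (p.1, p.2.1)) : MvPolynomial (Fin n) (UnivBase n d)) = gX (p.1, p.2.1) := by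
        simp [F', g]
      rw [this]
      simp only [gX, dif_neg p.2.2]
  · intro i
    simp [F, F', G]

noncomputable def equiv : Q n d ≃+* Cc n d :=
  RingEquiv.ofRingHom F G F_comp_G G_comp_F


noncomputable def equiv' : Synt.UnivAlg n d ≃+* Cc n d := equiv (n := n) (d := d)

theorem main (n d : ℕ) : IsDomain (Synt.UnivAlg n d) ∧
    ∀ q : PrimeSpectrum (Synt.UnivAlg n d), IsRegularLocalRing (Localization.AtPrime q.asIdeal) := by
  have h1 : IsDomain (Synt.UnivAlg n d) := MulEquiv.isDomain (Cc n d) (equiv' (n := n) (d := d)).toMulEquiv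
  have h2 : IsRegularRing (Synt.UnivAlg n d) := IsRegularRing.of_ringEquiv (equiv' (n := n) (d := d)).symm
  exact ⟨h1, fun q => inferInstance⟩

end Helpers

/-- Let n, d ≥ 1 and let B = A[x_1, …, x_n]/(f_1, …, f_n) be the universal algebra over A = ℤ[a_{i,E}],
f_i = Σ_E a_{i,E} x^E summed over exponent vectors E with |E| ≤ d. Then B is an integral domain and
every localization of B at a prime ideal is a regular local ring. (The published statement says that
X_{n,d} = Spec A and the quasi-finite locus Y_{n,d} ⊆ Spec B are regular and irreducible; for A, a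
polynomial ring over ℤ, this is standard, and for the open Y_{n,d} it follows from the assertion
about all of Spec B made here, which is what the printed argument shows. The published statement
also asserts that Y_{n,d} → X_{n,d} is locally quasi-finite and syntomic, an instance of the general
characterisation of quasi-finite syntomic maps; that clause is not part of this row.) -/
theorem result (n d : ℕ) (hn : 1 ≤ n) (hd : 1 ≤ d) : IsDomain (Synt.UnivAlg n d) ∧ ∀ q : PrimeSpectrum (Synt.UnivAlg n d), IsRegularLocalRing (Localization.AtPrime q.asIdeal) := by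
  exact main n d

end Groth.Agent.S8972
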