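import Groth.Statements.S8973
import Mathlib

set_option autoImplicit false
open Synt

namespace Groth.Agent.S8973

section Helpers
open MvPolynomial

section General
universe u
variable {R : Type u} [CommRing R] {ι : Type} [Fintype ι] [DecidableEq ι]

/-- Jacobian criterion: the localization of `R[X_i]/(v_j)` (as many equations as variables) at its
Jacobian determinant is étale over `R`. -/
theorem etale_away_jacobian (v : ι → MvPolynomial ι R) :
    Algebra.Etale R (Localization.Away
      (Ideal.Quotient.mk (Ideal.span (Set.range v))
        (Matrix.det (Matrix.of fun i j => pderiv i (v j))))) := by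
  classical
  set Q := MvPolynomial ι R ⧸ Ideal.span (Set.range v)
  let P0 : Algebra.PreSubmersivePresentation R Q ι ι :=
    Algebra.PreSubmersivePresentation.naive (v := v) id Function.injective_id
  have hJ : P0.jacobian = Ideal.Quotient.mk (Ideal.span (Set.range v))
        (Matrix.det (Matrix.of fun i j => pderiv i (v j))) := by
    rw [Algebra.PreSubmersivePresentation.jacobian_eq_jacobiMatrix_det]
    have : P0.jacobiMatrix = Matrix.of fun i j => pderiv i (v j) := by
      refine Matrix.ext fun i j => ?_
      rw [Algebra.PreSubmersivePresentation.jacobiMatrix_naive]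
      rfl
    rw [this]
    rfl
  rw [← hJ]
  set T := Localization.Away P0.jacobian
  let P1 : Algebra.SubmersivePresentation Q T Unit Unit :=
    Algebra.SubmersivePresentation.localizationAway T P0.jacobian
  let P2 : Algebra.SubmersivePresentation R T (Unit ⊕ ι) (Unit ⊕ ι) :=
    { toPreSubmersivePresentation := P1.toPreSubmersivePresentation.comp P0
      jacobian_isUnit := by
        rw [Algebra.PreSubmersivePresentation.comp_jacobian_eq_jacobian_smul_jacobian]
        rw [Algebra.smul_def]
        have h1 : IsUnit (algebraMap Q T P0.jacobian) :=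
          IsLocalization.map_units _ (⟨P0.jacobian, 1, by simp⟩ : Submonoid.powers P0.jacobian)
        exact h1.mul P1.jacobian_isUnit }
  have hdim : P2.dimension = 0 := by
    have := Algebra.PreSubmersivePresentation.dimension_comp_eq_dimension_add_dimension
      P1.toPreSubmersivePresentation P0
    have h1 : P1.dimension = 0 := Algebra.Presentation.localizationAway_dimension_zero P0.jacobian
    have h0 : P0.dimension = 0 := by simp [Algebra.Presentation.dimension]
    show (P1.toPreSubmersivePresentation.comp P0).dimension = 0
    rw [this, h1, h0]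
  have : Algebra.IsStandardSmoothOfRelativeDimension 0 R T :=
    P2.isStandardSmoothOfRelativeDimension hdim
  infer_instance

theorem exists_prime_quasiFiniteAt_isEtaleAt (v : ι → MvPolynomial ι R)
    {K : Type*} [CommRing K] [IsDomain K]
    (φ : (MvPolynomial ι R ⧸ Ideal.span (Set.range v)) →+* K)
    (hφ : φ (Ideal.Quotient.mk (Ideal.span (Set.range v))
        (Matrix.det (Matrix.of fun i j => pderiv i (v j)))) ≠ 0) :
    ∃ q : PrimeSpectrum (MvPolynomial ι R ⧸ Ideal.span (Set.range v)),
      Algebra.QuasiFiniteAt R q.asIdeal ∧ Algebra.IsEtaleAt R q.asIdeal := by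
  classical
  set J := Ideal.Quotient.mk (Ideal.span (Set.range v))
        (Matrix.det (Matrix.of fun i j => pderiv i (v j))) with hJ
  have hE : Algebra.Etale R (Localization.Away J) := etale_away_jacobian v
  obtain ⟨q, hq⟩ : ∃ q : PrimeSpectrum (MvPolynomial ι R ⧸ Ideal.span (Set.range v)),
      q ∈ (PrimeSpectrum.basicOpen J : Set _) := by
    refine ⟨⟨RingHom.ker φ, RingHom.ker_isPrime φ⟩, ?_⟩
    show J ∉ RingHom.ker φ
    rw [RingHom.mem_ker]
    exact hφ
  have hsub := (Algebra.basicOpen_subset_etaleLocus_iff (R := R) (f := J)).mpr inferInstance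
  have het : Algebra.IsEtaleAt R q.asIdeal := hsub hq
  refine ⟨q, ?_, het⟩
  have : Algebra.FormallyEtale R (Localization.AtPrime q.asIdeal) := het
  show Algebra.QuasiFinite R (Localization.AtPrime q.asIdeal)
  infer_instance
end General

section Specific
variable {n d : ℕ}

/-- the unit exponent vector e_j as an index. -/
def ej (hd : 1 ≤ d) (j : Fin n) : UnivIdx n d :=
  ⟨fun i => ⟨if i = j then 1 else 0, by split_ifs <;> omega⟩, by
    simp only
    rw [Finset.sum_ite_eq' Finset.univ j (fun _ => 1)]
    simpa using hd⟩

lemma ej_exponent (hd : 1 ≤ d) (j : Fin n) : (ej hd j).exponent = Finsupp.single j 1 := by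
  ext i
  simp only [UnivIdx.exponent, ej, Finsupp.equivFunOnFinite_symm_apply_apply, Finsupp.single_apply]
  by_cases h : i = j
  · simp [h]
  · simp [h, Ne.symm h]

lemma ej_injective (hd : 1 ≤ d) : Function.Injective (ej (n := n) hd) := by
  intro i j h
  have := congrArg (fun E => (E.1 i : ℕ)) h
  simp only [ej] at this
  by_contra hij
  simp [hij] at this

noncomputable def ev (hd : 1 ≤ d) : UnivBase n d →+* ℤ :=
  MvPolynomial.eval (fun p => if p.2 = ej hd p.1 then 1 else 0)

lemma map_ev_univPoly (hd : 1 ≤ d) (j : Fin n) :
    MvPolynomial.map (ev hd) (univPoly n d j) = X j := by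
  classical
  unfold univPoly
  rw [map_sum]
  simp only [MvPolynomial.map_monomial, ev, MvPolynomial.eval_X]
  rw [Finset.sum_eq_single (ej hd j)]
  · simp [ej_exponent, MvPolynomial.X]
  · intro E _ hE
    simp [hE]
  · intro h
    exact absurd (Finset.mem_univ _) h


noncomputable def phi' (hd : 1 ≤ d) : MvPolynomial (Fin n) (UnivBase n d) →+* ℤ :=
  (MvPolynomial.constantCoeff).comp (MvPolynomial.map (ev hd))

lemma phi'_univPoly (hd : 1 ≤ d) (j : Fin n) : phi' hd (univPoly n d j) = 0 := by
  simp [phi', map_ev_univPoly]

lemma phi'_pderiv (hd : 1 ≤ d) (i j : Fin n) :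
    phi' hd (pderiv i (univPoly n d j)) = if i = j then 1 else 0 := by
  classical
  simp only [phi', RingHom.comp_apply]
  rw [← MvPolynomial.pderiv_map, map_ev_univPoly, MvPolynomial.pderiv_X]
  by_cases h : i = j
  · subst h; simp
  · simp [h, Ne.symm h]

noncomputable def phi (hd : 1 ≤ d) :
    (MvPolynomial (Fin n) (UnivBase n d) ⧸ Ideal.span (Set.range (univPoly n d))) →+* ℤ :=
  Ideal.Quotient.lift _ (phi' hd) (by
    intro a ha
    have : Ideal.span (Set.range (univPoly n d)) ≤ RingHom.ker (phi' hd) := by
      rw [Ideal.span_le]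
      rintro _ ⟨j, rfl⟩
      exact phi'_univPoly hd j
    exact this ha)

lemma phi_jac (hd : 1 ≤ d) :
    phi hd (Ideal.Quotient.mk (Ideal.span (Set.range (univPoly n d)))
        (Matrix.det (Matrix.of fun i j => pderiv i (univPoly n d j)))) = 1 := by
  classical
  rw [phi, Ideal.Quotient.lift_mk, RingHom.map_det]
  have : (phi' hd).mapMatrix (Matrix.of fun i j => pderiv i (univPoly n d j)) = 1 := by
    ext i j
    simp [phi'_pderiv, Matrix.one_apply]
  rw [this, Matrix.det_one]
end Specific

end Helpers

/-- Let n, d ≥ 1 and let B = A[x_1, …, x_n]/(f_1, …, f_n) be the universal algebra over A = ℤ[a_{i,E}],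
f_i = Σ_E a_{i,E} x^E summed over exponent vectors E with |E| ≤ d. Then there is a prime q of B at
which B is quasi-finite over A and étale over A (that is, B_q is quasi-finite and formally étale
over A). (The published statement asserts a dense open V of the quasi-finite locus Y_{n,d} ⊆ Spec B
that is étale over Spec A; as Spec B is irreducible and the étale locus is open, that amounts to the
existence of one such point, which is what is stated here and what the printed argument exhibits.) -/
theorem result (n d : ℕ) (hn : 1 ≤ n) (hd : 1 ≤ d) : ∃ q : PrimeSpectrum (Synt.UnivAlg n d), Algebra.QuasiFiniteAt (Synt.UnivBase n d) q.asIdeal ∧ Algebra.IsEtaleAt (Synt.UnivBase n d) q.asIdeal := by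
  exact exists_prime_quasiFiniteAt_isEtaleAt (univPoly n d) (phi hd) (by rw [phi_jac]; exact one_ne_zero)

end Groth.Agent.S8973
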