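import Groth.Statements.S8974
import Mathlib.Algebra.MvPolynomial.Degrees
import Mathlib.Algebra.MvPolynomial.Eval

set_option autoImplicit false
universe u
open Synt

namespace Groth.Agent.S8974

open MvPolynomial

lemma exponent_injective (n d : ℕ) : Function.Injective (UnivIdx.exponent (n := n) (d := d)) := by
  intro E E' h
  apply Subtype.ext
  funext i
  have := DFunLike.congr_fun h i
  simp only [UnivIdx.exponent] at this
  exact Fin.ext (by simpa using this)

lemma exists_exponent_eq (n d : ℕ) (m : Fin n →₀ ℕ) (hm : (m.sum fun _ e => e) ≤ d) :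
    ∃ E : UnivIdx n d, E.exponent = m := by
  have hsum : ∑ i, m i ≤ d := by
    rw [Finsupp.sum_fintype _ _ (fun _ => rfl)] at hm
    exact hm
  have hle : ∀ i, m i < d + 1 := by
    intro i
    have : m i ≤ ∑ j, m j := Finset.single_le_sum (f := fun j => m j) (fun _ _ => Nat.zero_le _)
      (Finset.mem_univ i)
    omega
  refine ⟨⟨fun i => ⟨m i, hle i⟩, by simpa using hsum⟩, ?_⟩
  ext i
  simp [UnivIdx.exponent]

theorem result (R : Type u) [CommRing R] (n d : ℕ) (hn : 1 ≤ n) (hd : 1 ≤ d) (g : Fin n → MvPolynomial (Fin n) R) (hg : ∀ i, (g i).totalDegree ≤ d) : ∃ φ : Synt.UnivBase n d →+* R, ∀ i, MvPolynomial.map φ (Synt.univPoly n d i) = g i := by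
  classical
  let φ : Synt.UnivBase n d →+* R :=
    MvPolynomial.eval₂Hom (Int.castRingHom R) (fun p => (g p.1).coeff p.2.exponent)
  refine ⟨φ, fun i => ?_⟩
  have hφ : ∀ E : UnivIdx n d, φ (MvPolynomial.X (i, E)) = (g i).coeff E.exponent := by
    intro E
    simp [φ]
  rw [Synt.univPoly, map_sum]
  simp only [MvPolynomial.map_monomial, hφ]
  ext m
  rw [MvPolynomial.coeff_sum]
  simp only [MvPolynomial.coeff_monomial]
  by_cases hm : (m.sum fun _ e => e) ≤ d
  · obtain ⟨E₀, rfl⟩ := exists_exponent_eq n d m hm
    rw [Finset.sum_eq_single E₀]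
    · simp
    · intro E _ hE
      rw [if_neg]
      intro h
      exact hE (exponent_injective n d h)
    · intro h
      exact absurd (Finset.mem_univ _) h
  · rw [Finset.sum_eq_zero]
    · symm
      apply MvPolynomial.coeff_eq_zero_of_totalDegree_lt
      have := hg i
      simp only [Finsupp.sum] at hm
      omega
    · intro E _
      rw [if_neg]
      rintro rfl
      apply hm
      have hE := E.2
      rw [Finsupp.sum_fintype _ _ (fun _ => rfl)]
      simpa [UnivIdx.exponent] using hE

end Groth.Agent.S8974
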